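import Groth.Agent.Lib.H60FinitePointsAffine
import Groth.Agent.S7661
import Mathlib.AlgebraicGeometry.Morphisms.ClosedImmersion
import Mathlib.AlgebraicGeometry.IdealSheaf.Subscheme

/-!
# Prime avoidance in affine opens and lifting along closed immersions (helper13)

* `exists_basicOpen_of_finite_of_isAffineOpen`: a finite set of points of an affine open `U`
  lying in an open `O` is contained in some `D(f) ≤ O`, `f ∈ Γ(X, U)`.
* `exists_lift_of_isClosedImmersion`: lifting a section along a closed immersion over an affine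
  open, not vanishing at prescribed finitely many points.
-/

set_option autoImplicit false
universe u

namespace Groth.Agent.Lib.AffComp13a

open AlgebraicGeometry CategoryTheory TopologicalSpace Opposite

theorem exists_basicOpen_of_finite_of_isAffineOpen {X : Scheme.{u}} {U : X.Opens}
    (hU : IsAffineOpen U) (O : X.Opens) (F : Set X) (hF : F.Finite) (hFU : F ⊆ U) (hFO : F ⊆ O) :
    ∃ f : Γ(X, U), F ⊆ X.basicOpen f ∧ X.basicOpen f ≤ O := by
  obtain ⟨f, hf1, hf2⟩ := Groth.Agent.Lib.H60FinitePointsAffine.exists_basicOpen_of_finite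
    Γ(X, U) (hU.fromSpec ⁻¹ᵁ O) (hU.fromSpec ⁻¹' F)
    (hF.preimage hU.fromSpec.isOpenEmbedding.injective.injOn) (fun p hp => hFO hp)
  refine ⟨f, ?_, ?_⟩
  · intro x hx
    have hxU : x ∈ Set.range hU.fromSpec := by rw [hU.range_fromSpec]; exact hFU hx
    obtain ⟨p, rfl⟩ := hxU
    have : p ∈ hU.fromSpec ⁻¹ᵁ X.basicOpen f := by
      rw [hU.fromSpec_preimage_basicOpen]; exact hf1 hx
    exact this
  · intro y hy
    have hyU : y ∈ Set.range hU.fromSpec := by rw [hU.range_fromSpec]; exact X.basicOpen_le f hy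
    obtain ⟨q, rfl⟩ := hyU
    have : q ∈ hU.fromSpec ⁻¹ᵁ X.basicOpen f := hy
    rw [hU.fromSpec_preimage_basicOpen] at this
    exact hf2 this

/-- The prime ideal of sections over `V` vanishing at `y ∈ V`. -/
noncomputable def primeAt {Y : Scheme.{u}} (V : Y.Opens) (y : Y) (hy : y ∈ V) : Ideal Γ(Y, V) :=
  Ideal.comap (Y.presheaf.germ V y hy).hom (IsLocalRing.maximalIdeal _)

instance {Y : Scheme.{u}} (V : Y.Opens) (y : Y) (hy : y ∈ V) : (primeAt V y hy).IsPrime := by
  unfold primeAt; infer_instance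

theorem notMem_primeAt_iff {Y : Scheme.{u}} (V : Y.Opens) (y : Y) (hy : y ∈ V) (a : Γ(Y, V)) :
    a ∉ primeAt V y hy ↔ y ∈ Y.basicOpen a := by
  rw [Scheme.mem_basicOpen _ _ _ hy]
  unfold primeAt
  rw [Ideal.mem_comap, IsLocalRing.mem_maximalIdeal, mem_nonunits_iff, not_not]

theorem exists_lift_of_isClosedImmersion {Z Y : Scheme.{u}} (f : Z ⟶ Y) [IsClosedImmersion f]
    {V : Y.Opens} (hV : IsAffineOpen V) (c : Γ(Z, f ⁻¹ᵁ V)) (F : Set Y) (hF : F.Finite)
    (hFV : F ⊆ V) (hc : ∀ z : Z, f z ∈ F → z ∈ Z.basicOpen c) :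
    ∃ a : Γ(Y, V), f.app V a = c ∧ F ⊆ Y.basicOpen a := by
  classical
  obtain ⟨a₀, ha₀⟩ := f.app_surjective V hV c
  set K : Ideal Γ(Y, V) := RingHom.ker (f.app V).hom with hK
  -- the points of F outside the image
  let F' : Set Y := F \ Set.range f
  have hF' : F'.Finite := hF.subset Set.sdiff_subset
  let P : F' → Ideal Γ(Y, V) := fun y => primeAt V y.1 (hFV y.2.1)
  have : Fintype F' := hF'.fintype
  let s : Finset (Ideal Γ(Y, V)) := Finset.univ.image P
  have hs : ∀ p ∈ s, p.IsPrime := by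
    intro p hp
    obtain ⟨y, -, rfl⟩ := Finset.mem_image.mp hp
    infer_instance
  have hI : ∀ p ∈ s, ¬ K ≤ p := by
    intro p hp hle
    obtain ⟨y, -, rfl⟩ := Finset.mem_image.mp hp
    have hy : y.1 ∉ (f.ker.support : Set Y) := by
      rw [Scheme.Hom.support_ker, f.isClosedEmbedding.isClosed_range.closure_eq]
      exact y.2.2
    rw [SetLike.mem_coe, Scheme.IdealSheafData.mem_support_iff_of_mem (U := ⟨V, hV⟩) (hFV y.2.1),
      Scheme.mem_zeroLocus_iff] at hy
    push Not at hy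
    obtain ⟨k, hk, hyk⟩ := hy
    rw [SetLike.mem_coe, Scheme.Hom.ker_apply] at hk
    exact (notMem_primeAt_iff V y.1 (hFV y.2.1) k).mpr hyk (hle hk)
  obtain ⟨a, ha, hap⟩ := Groth.Agent.S7661.result Γ(Y, V) K s hs hI (Ideal.Quotient.mk K a₀)
  have hfa : f.app V a = c := by
    rw [← ha₀]
    have : a - a₀ ∈ K := by
      rw [← Ideal.Quotient.eq]; exact ha
    have h0 : f.app V (a - a₀) = 0 := this
    rw [map_sub, sub_eq_zero] at h0
    exact h0
  refine ⟨a, hfa, ?_⟩
  intro y hy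
  by_cases hyr : y ∈ Set.range f
  · obtain ⟨z, rfl⟩ := hyr
    have hz := hc z hy
    have : z ∈ f ⁻¹ᵁ Y.basicOpen a := by
      rw [Scheme.preimage_basicOpen, hfa]; exact hz
    exact this
  · have hmem : P ⟨y, hy, hyr⟩ ∈ s := Finset.mem_image.mpr ⟨_, Finset.mem_univ _, rfl⟩
    exact (notMem_primeAt_iff V y (hFV hy) a).mp (hap _ hmem)

end Groth.Agent.Lib.AffComp13a
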