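import Mathlib
import Groth.Agent.Lib.AffComp13a

/-!
# Finite sets of points in a fibre of a separated quasi-finite morphism lie in an affine open
(helper37)

`af_of_sep_lqf`: for `f : X ⟶ S` separated, locally quasi-finite and locally of finite type, any
finitely many points of `X` over a common point of `S` lie in an affine open of `X`.  Uses
Mathlib's Zariski main theorem (`f.toNormalization` is an open immersion) and prime avoidance
(helper13's `AffComp13a`).
-/

set_option autoImplicit false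
universe u
open CategoryTheory CategoryTheory.Limits AlgebraicGeometry Opposite

namespace Groth.Agent.Lib.AFQuasiFinite37

open Groth.Agent.Lib

theorem af_of_sep_lqf {X S : Scheme.{u}} (f : X ⟶ S) [IsSeparated f] [LocallyQuasiFinite f]
    [LocallyOfFiniteType f] (s : S) (d : ℕ) (x : Fin d → ↥X) (hx : ∀ k, f (x k) = s) :
    ∃ U : X.Opens, IsAffineOpen U ∧ ∀ k, x k ∈ U := by
  obtain ⟨V, hV, hsV⟩ : ∃ V : S.Opens, IsAffineOpen V ∧ s ∈ V := by
    obtain ⟨_, ⟨V, hV, rfl⟩, hsV, -⟩ :=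
      S.isBasis_affineOpens.exists_subset_of_mem_open (Set.mem_univ s) isOpen_univ
    exact ⟨V, hV, hsV⟩
  have hk : ∀ k, ∃ Uk : X.Opens, IsAffineOpen Uk ∧ x k ∈ Uk ∧ Uk ≤ f ⁻¹ᵁ V := by
    intro k
    have hxk : x k ∈ f ⁻¹ᵁ V := by
      change f (x k) ∈ V
      rw [hx k]
      exact hsV
    obtain ⟨_, ⟨Uk, hUk, rfl⟩, hxUk, hle⟩ :=
      X.isBasis_affineOpens.exists_subset_of_mem_open hxk (f ⁻¹ᵁ V).2
    exact ⟨Uk, hUk, hxUk, hle⟩
  choose Uk hUk hxUk hUkV using hk
  let X₀ : X.Opens := ⨆ k, Uk k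
  have hX₀V : X₀ ≤ f ⁻¹ᵁ V := iSup_le hUkV
  have hxX₀ : ∀ k, x k ∈ X₀ := fun k => TopologicalSpace.Opens.mem_iSup.mpr ⟨k, hxUk k⟩
  haveI : CompactSpace X₀ := by
    have h1 : (X₀ : Set X) = ⋃ k, (Uk k : Set X) := TopologicalSpace.Opens.coe_iSup _
    have h2 : IsCompact (X₀ : Set X) := by
      rw [h1]
      exact isCompact_iUnion (fun k => (hUk k).isCompact)
    exact isCompact_iff_compactSpace.mp h2
  have hrange : Set.range (X₀.ι ≫ f) ⊆ Set.range V.ι := by
    rw [Scheme.Opens.range_ι]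
    rintro _ ⟨w, rfl⟩
    rw [Scheme.Hom.comp_apply]
    exact hX₀V w.2
  let f₀ : X₀.toScheme ⟶ V.toScheme := IsOpenImmersion.lift V.ι (X₀.ι ≫ f) hrange
  have hf₀ : f₀ ≫ V.ι = X₀.ι ≫ f := IsOpenImmersion.lift_fac _ _ _
  haveI : IsAffine V.toScheme := hV
  haveI h1 : IsSeparated (f₀ ≫ V.ι) := by rw [hf₀]; infer_instance
  haveI h2 : LocallyOfFiniteType (f₀ ≫ V.ι) := by rw [hf₀]; infer_instance
  haveI h3 : LocallyQuasiFinite (f₀ ≫ V.ι) := by rw [hf₀]; infer_instance
  haveI : IsSeparated f₀ := IsSeparated.of_comp (f := f₀) (g := V.ι)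
  haveI : LocallyOfFiniteType f₀ := locallyOfFiniteType_of_comp f₀ V.ι
  haveI : LocallyQuasiFinite f₀ := LocallyQuasiFinite.of_comp f₀ V.ι
  haveI : QuasiCompact f₀ := (HasAffineProperty.iff_of_isAffine (P := @QuasiCompact)).mpr
    (inferInstanceAs (CompactSpace X₀))
  haveI : IsOpenImmersion f₀.toNormalization := inferInstance
  haveI : IsAffine f₀.normalization := isAffine_of_isAffineHom f₀.fromNormalization
  obtain ⟨b, hb1, hb2⟩ := AffComp13a.exists_basicOpen_of_finite_of_isAffineOpen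
    (isAffineOpen_top f₀.normalization) f₀.toNormalization.opensRange
    (Set.range fun k => f₀.toNormalization ⟨x k, hxX₀ k⟩) (Set.finite_range _)
    (fun _ _ => trivial) (by rintro _ ⟨k, rfl⟩; exact ⟨_, rfl⟩)
  have hD : IsAffineOpen (f₀.normalization.basicOpen b) :=
    (isAffineOpen_top f₀.normalization).basicOpen b
  have hU' : IsAffineOpen (f₀.toNormalization ⁻¹ᵁ f₀.normalization.basicOpen b) := by
    rw [← f₀.toNormalization.isAffineOpen_iff_of_isOpenImmersion,
      f₀.toNormalization.image_preimage_eq_opensRange_inf, inf_eq_right.mpr hb2]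
    exact hD
  refine ⟨X₀.ι ''ᵁ (f₀.toNormalization ⁻¹ᵁ f₀.normalization.basicOpen b),
    hU'.image_of_isOpenImmersion X₀.ι, fun k => ?_⟩
  exact ⟨⟨x k, hxX₀ k⟩, hb1 ⟨k, rfl⟩, rfl⟩

end Groth.Agent.Lib.AFQuasiFinite37
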