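import Groth.Prelude.Def_Curves
import Mathlib.FieldTheory.IsAlgClosed.AlgebraicClosure
import Mathlib.RingTheory.IntegralClosure.IsIntegralClosure.Basic
import Mathlib.RingTheory.Ideal.GoingUp
import Mathlib.RingTheory.Localization.FractionRing
import Mathlib.RingTheory.Spectrum.Prime.Topology

/-!
# Absolutely integrally closed integral extensions (helper39)

* `isAIC_of_isAlgClosed`, `isAIC_pi`, `isAIC_integralClosure`;
* `Rbar A`: the integral closure of `A` in the product of the algebraic closures of the residue
  fields at all primes of `A`: an absolutely integrally closed ring, integral over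
  `A`, with `Spec (Rbar A) → Spec A` surjective (`comap_surjective_Rbar`).
-/

set_option autoImplicit false
universe u

namespace Groth.Agent.Lib.AICClosure39

open Polynomial

theorem isAIC_of_isAlgClosed (k : Type*) [Field k] [IsAlgClosed k] : Curves.IsAIC k := by
  intro P _ hdeg
  obtain ⟨r, hr⟩ := IsAlgClosed.exists_root P (fun h => by
    have := natDegree_eq_zero_iff_degree_le_zero.2 (le_of_eq h)
    omega)
  exact ⟨r, hr⟩

theorem isAIC_pi {ι : Type*} (B : ι → Type*) [∀ i, CommRing (B i)]
    (h : ∀ i, Curves.IsAIC (B i)) : Curves.IsAIC (∀ i, B i) := by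
  intro P hP hdeg
  have hroot : ∀ i, ∃ r : B i, (P.map (Pi.evalRingHom B i)).eval r = 0 := by
    intro i
    rcases subsingleton_or_nontrivial (B i) with hs | hn
    · exact ⟨0, Subsingleton.elim _ _⟩
    · exact h i _ (hP.map _) (by rw [hP.natDegree_map]; exact hdeg)
  choose r hr using hroot
  refine ⟨r, ?_⟩
  funext i
  have h1 := Polynomial.hom_eval₂ P (RingHom.id _) (Pi.evalRingHom B i) r
  rw [RingHom.comp_id] at h1
  have h2 : (Pi.evalRingHom B i) (eval r P) = eval (r i) (P.map (Pi.evalRingHom B i)) := by
    rw [eval_map]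
    exact h1
  exact h2.trans (hr i)

theorem isAIC_integralClosure (A B : Type*) [CommRing A] [CommRing B] [Algebra A B]
    (hB : Curves.IsAIC B) : Curves.IsAIC (integralClosure A B) := by
  intro P hP hdeg
  rcases subsingleton_or_nontrivial B with hs | hn
  · refine ⟨0, ?_⟩
    apply Subtype.ext
    exact Subsingleton.elim _ _
  have hinj : Function.Injective (algebraMap (integralClosure A B) B) := Subtype.val_injective
  obtain ⟨r, hr⟩ := hB (P.map (algebraMap (integralClosure A B) B)) (hP.map _)
    (by rw [hP.natDegree_map]; exact hdeg)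
  have hrC : IsIntegral (integralClosure A B) r := ⟨P, hP, by rwa [eval_map] at hr⟩
  have hrA : IsIntegral A r := isIntegral_trans r hrC
  refine ⟨⟨r, hrA⟩, ?_⟩
  apply hinj
  rw [map_zero, ← hr, eval_map]
  exact Polynomial.hom_eval₂ P (RingHom.id _) (algebraMap (integralClosure A B) B) ⟨r, hrA⟩

variable (A : Type u) [CommRing A]

/-- the product of the algebraic closures of the residue fields at all primes -/
abbrev BigProd : Type u :=
  ∀ p : PrimeSpectrum A, AlgebraicClosure (FractionRing (A ⧸ p.asIdeal))

/-- an absolutely integrally closed ring integral over `A` with surjective map on spectra -/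
abbrev Rbar : Type u := integralClosure A (BigProd A)

theorem isAIC_Rbar : Curves.IsAIC (Rbar A) :=
  isAIC_integralClosure A (BigProd A)
    (isAIC_pi _ fun _ => isAIC_of_isAlgClosed _)

instance : Algebra.IsIntegral A (Rbar A) := integralClosure.AlgebraIsIntegral

theorem ker_algebraMap_Rbar_le (P : Ideal A) [hP : P.IsPrime] :
    RingHom.ker (algebraMap A (Rbar A)) ≤ P := by
  intro a ha
  rw [RingHom.mem_ker] at ha
  have h1 : algebraMap A (BigProd A) a = 0 := by
    have := congrArg (algebraMap (Rbar A) (BigProd A)) ha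
    rwa [map_zero, ← IsScalarTower.algebraMap_apply] at this
  have h2 := congrFun h1 ⟨P, hP⟩
  have h3 : algebraMap A (AlgebraicClosure (FractionRing (A ⧸ P))) a = 0 := h2
  rw [IsScalarTower.algebraMap_apply A (A ⧸ P) (AlgebraicClosure (FractionRing (A ⧸ P))),
    IsScalarTower.algebraMap_apply (A ⧸ P) (FractionRing (A ⧸ P))
      (AlgebraicClosure (FractionRing (A ⧸ P)))] at h3
  have h4 := (algebraMap (FractionRing (A ⧸ P)) (AlgebraicClosure (FractionRing (A ⧸ P)))).injective
    (h3.trans (map_zero _).symm)
  have h5 := IsFractionRing.injective (A ⧸ P) (FractionRing (A ⧸ P)) (h4.trans (map_zero _).symm)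
  exact Ideal.Quotient.eq_zero_iff_mem.1 h5

theorem comap_surjective_Rbar :
    Function.Surjective (PrimeSpectrum.comap (algebraMap A (Rbar A))) := by
  intro P
  obtain ⟨Q, -, hQ, hQP⟩ := Ideal.exists_ideal_over_prime_of_isIntegral (S := Rbar A) P.asIdeal ⊥
    (ker_algebraMap_Rbar_le A P.asIdeal)
  exact ⟨⟨Q, hQ⟩, PrimeSpectrum.ext hQP⟩

end Groth.Agent.Lib.AICClosure39
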