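import Groth.Agent.Lib.AICRing39
import Mathlib.RingTheory.Polynomial.Cyclotomic.Basic

/-!
# Gluing locally constant `ℤ/p`-valued functions over an absolutely integrally closed ring
(helper39)

For `A` absolutely integrally closed, `f + g = 1` and a partition of `D(fg)` into opens `E k`
(`k : ZMod p`), we construct partitions `Sa` of `D(f)` and `Sb` of `D(g)` into opens with
`E k ∩ Sa m ⊆ Sb (m - k)`: `exists_glue_zmod`.
-/

set_option autoImplicit false
universe u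

namespace Groth.Agent.Lib.AICRing39

open Polynomial Finset

variable {A : Type u} [CommRing A]

/-- a root of `1 + X + ⋯ + X^(p-1)` -/
theorem exists_zeta (hA : Curves.IsAIC A) (p : ℕ) (hp : p.Prime) : ∃ ζ : A, q ζ p = 0 := by
  rcases subsingleton_or_nontrivial A with hsub | hnt
  · exact ⟨0, Subsingleton.elim _ _⟩
  have hmon : (∑ i ∈ range p, (X : A[X]) ^ i).Monic := monic_geom_sum_X hp.ne_zero
  have hdeg : 0 < (∑ i ∈ range p, (X : A[X]) ^ i).natDegree := by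
    obtain ⟨n, rfl⟩ := Nat.exists_eq_succ_of_ne_zero hp.ne_zero
    have hn : 0 < n := by
      rcases Nat.eq_zero_or_pos n with h | h
      · subst h; exact absurd hp Nat.not_prime_one
      · exact h
    rw [Nat.succ_eq_add_one, geom_sum_succ']
    have hlt : (∑ i ∈ range n, (X : A[X]) ^ i).degree < ((X : A[X]) ^ n).degree := by
      rw [degree_X_pow]
      refine lt_of_le_of_lt (degree_sum_le _ _) ?_
      rw [Finset.sup_lt_iff (by exact_mod_cast WithBot.bot_lt_coe n)]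
      intro i hi
      rw [degree_X_pow]
      exact_mod_cast Finset.mem_range.1 hi
    rw [natDegree_add_eq_left_of_degree_lt hlt, natDegree_X_pow]
    exact hn
  obtain ⟨ζ, hζ⟩ := hA _ hmon hdeg
  refine ⟨ζ, ?_⟩
  unfold q
  rw [← hζ]
  simp [eval_finsetSum]

section bump

open PrimeSpectrum

/-- a bump function for an open `E ⊆ D(h)` whose complement in `D(h)` is open as well -/
theorem exists_bump (h : A) (E E' : Set (PrimeSpectrum A)) (hE : IsOpen E) (hE' : IsOpen E')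
    (hdisj : ∀ x, x ∈ E → x ∈ E' → False)
    (hun : ∀ x : PrimeSpectrum A, h ∉ x.asIdeal → x ∈ E ∨ x ∈ E') :
    ∃ (n : ℕ) (e : A), (∀ x ∈ E, e - h ^ n ∈ x.asIdeal) ∧
      (∀ x : PrimeSpectrum A, x ∉ E → e ∈ x.asIdeal) := by
  have hZ1 : IsClosed Eᶜ := hE.isClosed_compl
  have hZ2 : IsClosed E'ᶜ := hE'.isClosed_compl
  have hmem : h ∈ (vanishingIdeal Eᶜ ⊔ vanishingIdeal E'ᶜ).radical := by
    rw [← vanishingIdeal_zeroLocus_eq_radical, mem_vanishingIdeal]
    intro x hx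
    rw [zeroLocus_sup, zeroLocus_vanishingIdeal_eq_closure, zeroLocus_vanishingIdeal_eq_closure,
      hZ1.closure_eq, hZ2.closure_eq] at hx
    by_contra hcon
    rcases hun x hcon with h1 | h1
    · exact hx.1 h1
    · exact hx.2 h1
  obtain ⟨n, hn⟩ := hmem
  obtain ⟨e₁, he₁, e₂, he₂, he⟩ := Submodule.mem_sup.1 hn
  refine ⟨n, e₁, ?_, ?_⟩
  · intro x hx
    have hx2 : x ∈ E'ᶜ := fun h' => hdisj x hx h'
    have h2 : e₂ ∈ x.asIdeal := (mem_vanishingIdeal _ _).1 he₂ x hx2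
    have : e₁ - h ^ n = -e₂ := by rw [← he]; ring
    rw [this]
    exact x.asIdeal.neg_mem h2
  · intro x hx
    exact (mem_vanishingIdeal _ _).1 he₁ x hx

end bump

section coeffs

/-- coefficientwise congruence of `∏ (X - ρ i)` and `∏ (X - σ i)` -/
theorem coeff_prod_X_sub_C_sub_mem {ι : Type*} (s : Finset ι) (I : Ideal A) (ρ σ : ι → A)
    (h : ∀ i ∈ s, ρ i - σ i ∈ I) (n : ℕ) :
    ((∏ i ∈ s, (X - C (ρ i)) - ∏ i ∈ s, (X - C (σ i)) : A[X])).coeff n ∈ I := by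
  rw [← Ideal.Quotient.eq_zero_iff_mem, ← coeff_map, Polynomial.map_sub, Polynomial.map_prod,
    Polynomial.map_prod]
  have : ∏ i ∈ s, Polynomial.map (Ideal.Quotient.mk I) (X - C (ρ i)) =
      ∏ i ∈ s, Polynomial.map (Ideal.Quotient.mk I) (X - C (σ i)) := by
    refine Finset.prod_congr rfl fun i hi => ?_
    rw [Polynomial.map_sub, Polynomial.map_sub, map_X, map_C, map_C,
      Ideal.Quotient.eq.2 (h i hi)]
  rw [this, sub_self, coeff_zero]

end coeffs

section interp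

variable (ζ : A) {p : ℕ} [Fact p.Prime] (hζ : q ζ p = 0)

include hζ in
/-- for one `k`: a unit `w` congruent to `1` modulo `G` and to `ζ^(-k)` modulo `F` -/
theorem exists_unit_interp (hA : Curves.IsAIC A) (F G u v : A) (huv : u * F + v * G = 1)
    (k : ZMod p) :
    ∃ w : A, IsUnit w ∧ G ∣ w - 1 ∧ F ∣ w - th ζ (-k) := by
  set θ := th ζ (-k) with hθ
  set a := u * F + v * G * θ with ha
  have h1 : G ∣ a - 1 := by
    refine ⟨v * (θ - 1), ?_⟩
    rw [ha]
    linear_combination huv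
  have h2 : F ∣ a - θ := by
    refine ⟨u * (1 - θ), ?_⟩
    rw [ha]
    linear_combination θ * huv
  have hcop : IsCoprime F G := ⟨u, v, huv⟩
  have hp0 : 0 < p := (Fact.out : p.Prime).pos
  have h3 : F * G ∣ a ^ p - 1 := by
    apply hcop.mul_dvd
    · have : a ^ p - 1 = a ^ p - θ ^ p := by rw [hθ, th_pow ζ hζ]
      rw [this]
      exact h2.trans (sub_dvd_pow_sub_pow _ _ _)
    · have : a ^ p - 1 = a ^ p - 1 ^ p := by rw [one_pow]
      rw [this]
      exact h1.trans (sub_dvd_pow_sub_pow _ _ _)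
  obtain ⟨z, hz⟩ := h3
  obtain ⟨y, hy⟩ := exists_isUnit_sub_mul hA a (F * G) p hp0 (-z) (by rw [mul_neg, ← hz]; ring)
  refine ⟨a - F * G * y, hy, ?_, ?_⟩
  · have : a - F * G * y - 1 = (a - 1) - G * (F * y) := by ring
    rw [this]
    exact dvd_sub h1 (dvd_mul_right _ _)
  · have : a - F * G * y - θ = (a - θ) - F * (G * y) := by ring
    rw [this]
    exact dvd_sub h2 (dvd_mul_right _ _)

include hζ in
/-- the interpolating roots `ρ k m`, congruent to `[m]` modulo `G` and to `[m - k]` modulo `F` -/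
theorem exists_interp (hA : Curves.IsAIC A) (F G u v : A) (huv : u * F + v * G = 1) :
    ∃ ρ : ZMod p → ZMod p → A, (∀ k m, G ∣ ρ k m - qz ζ m) ∧ (∀ k m, F ∣ ρ k m - qz ζ (m - k)) ∧
      (∀ k m m', m ≠ m' → IsUnit (ρ k m - ρ k m')) := by
  choose w hwu hw1 hw2 using exists_unit_interp ζ hζ hA F G u v huv
  refine ⟨fun k m => qz ζ m * w k + v * G * qz ζ (-k), ?_, ?_, ?_⟩
  · intro k m
    obtain ⟨c, hc⟩ := hw1 k
    refine ⟨qz ζ m * c + v * qz ζ (-k), ?_⟩
    show qz ζ m * w k + v * G * qz ζ (-k) - qz ζ m = _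
    linear_combination (qz ζ m) * hc
  · intro k m
    obtain ⟨c, hc⟩ := hw2 k
    refine ⟨qz ζ m * c - u * qz ζ (-k), ?_⟩
    show qz ζ m * w k + v * G * qz ζ (-k) - qz ζ (m - k) = _
    rw [qz_sub ζ hζ]
    linear_combination (qz ζ m) * hc + (qz ζ (-k)) * huv
  · intro k m m' hmm'
    have : qz ζ m * w k + v * G * qz ζ (-k) - (qz ζ m' * w k + v * G * qz ζ (-k)) =
        (qz ζ m - qz ζ m') * w k := by ring
    show IsUnit (qz ζ m * w k + v * G * qz ζ (-k) - (qz ζ m' * w k + v * G * qz ζ (-k)))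
    rw [this]
    exact (isUnit_qz_sub_qz ζ hζ m m' hmm').mul (hwu k)

end interp

section root

/-- the key polynomial: a root `r` whose "sheet" over the `k`-th bump is governed by `ρ k` and away
from the bumps by `σ` -/
theorem exists_root (hA : Curves.IsAIC A) {ι κ : Type} [Fintype ι] [Nonempty ι] [Fintype κ]
    (σ : ι → A) (ρ : κ → ι → A) (b : A) (ε : κ → A)
    (hdiv : ∀ k n, b ∣ ((∏ m, (X - C (ρ k m)) - ∏ m, (X - C (σ m)) : A[X])).coeff n) :
    ∃ (r : A) (e : κ → A), ∏ m, (r - σ m) + ∑ k, ε k * e k = 0 ∧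
      ∀ k, ∏ m, (r - ρ k m) = ∏ m, (r - σ m) + b * e k := by
  rcases subsingleton_or_nontrivial A with hsub | hnt
  · exact ⟨0, fun _ => 0, Subsingleton.elim _ _, fun _ => Subsingleton.elim _ _⟩
  set d := Fintype.card ι with hd
  have hd0 : 0 < d := Fintype.card_pos
  set P₀ : A[X] := ∏ m, (X - C (σ m)) with hP₀
  have hP₀m : P₀.Monic := monic_prod_X_sub_C _ _
  have hP₀d : P₀.natDegree = d := by
    rw [hP₀, natDegree_finsetProd_X_sub_C_eq_card]; rfl
  have hRm : ∀ k, (∏ m, (X - C (ρ k m)) : A[X]).Monic := fun k => monic_prod_X_sub_C _ _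
  have hRd : ∀ k, (∏ m, (X - C (ρ k m)) : A[X]).natDegree = d := by
    intro k
    rw [natDegree_finsetProd_X_sub_C_eq_card]; rfl
  have hΔ : ∀ k, ((∏ m, (X - C (ρ k m)) - P₀ : A[X])).natDegree < d := by
    intro k
    have h1 : ((∏ m, (X - C (ρ k m)) - P₀ : A[X])).degree < (∏ m, (X - C (ρ k m)) : A[X]).degree := by
      apply degree_sub_lt_left
      · rw [degree_eq_natDegree (hRm k).ne_zero, degree_eq_natDegree hP₀m.ne_zero, hRd k, hP₀d]
      · exact (hRm k).ne_zero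
      · rw [(hRm k).leadingCoeff, hP₀m.leadingCoeff]
    rw [degree_eq_natDegree (hRm k).ne_zero, hRd k] at h1
    by_cases h0 : (∏ m, (X - C (ρ k m)) - P₀ : A[X]) = 0
    · rw [h0, natDegree_zero]; exact hd0
    · rw [degree_eq_natDegree h0] at h1
      exact_mod_cast h1
  choose c hc using hdiv
  set Q : κ → A[X] := fun k => ∑ n ∈ range d, C (c k n) * X ^ n with hQ
  have hbQ : ∀ k, C b * Q k = ∏ m, (X - C (ρ k m)) - P₀ := by
    intro k
    conv_rhs => rw [as_sum_range' _ d (hΔ k)]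
    rw [hQ, Finset.mul_sum]
    refine Finset.sum_congr rfl fun n _ => ?_
    rw [← mul_assoc, ← C_mul, ← hc k n, C_mul_X_pow_eq_monomial]
  have hQd : ∀ k, (C (ε k) * Q k).degree < (d : WithBot ℕ) := by
    intro k
    rw [← mem_degreeLT, C_mul']
    apply Submodule.smul_mem
    apply Submodule.sum_mem
    intro n hn
    rw [mem_degreeLT]
    refine lt_of_le_of_lt (degree_C_mul_X_pow_le _ _) ?_
    exact_mod_cast Finset.mem_range.1 hn
  have hSd : (∑ k, C (ε k) * Q k).degree < P₀.degree := by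
    rw [degree_eq_natDegree hP₀m.ne_zero, hP₀d, ← mem_degreeLT]
    apply Submodule.sum_mem
    intro k _
    rw [mem_degreeLT]
    exact hQd k
  set P : A[X] := P₀ + ∑ k, C (ε k) * Q k with hP
  have hPm : P.Monic := hP₀m.add_of_left hSd
  have hPd : 0 < P.natDegree := by
    rw [hP, natDegree_add_eq_left_of_degree_lt hSd, hP₀d]
    exact hd0
  obtain ⟨r, hr⟩ := hA P hPm hPd
  refine ⟨r, fun k => (Q k).eval r, ?_, ?_⟩
  · rw [← hr, hP, eval_add, hP₀, eval_prod, eval_finsetSum]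
    congr 1
    · refine Finset.prod_congr rfl fun m _ => ?_
      rw [eval_sub, eval_X, eval_C]
    · refine Finset.sum_congr rfl fun k _ => ?_
      rw [eval_mul, eval_C]
  · intro k
    have h1 : (∏ m, (X - C (ρ k m)) : A[X]) = P₀ + C b * Q k := by rw [hbQ k]; ring
    have h2 := congrArg (eval r) h1
    rw [eval_add, eval_mul, eval_C, hP₀, eval_prod, eval_prod] at h2
    simp only [eval_sub, eval_X, eval_C] at h2
    exact h2

end root

section sheets

open PrimeSpectrum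

variable {ι κ : Type} (f g r : A) (E : κ → Set (PrimeSpectrum A)) (ρ : κ → ι → A) (σ : ι → A)

/-- the `m`-th sheet over `D(f)` determined by the root `r` -/
def sheet (m : ι) : Set (PrimeSpectrum A) :=
  {x | f ∉ x.asIdeal ∧ ((∃ k, x ∈ E k ∧ r - ρ k m ∈ x.asIdeal) ∨
    (g ∈ x.asIdeal ∧ r - σ m ∈ x.asIdeal))}

/-- the hypotheses on the data defining the sheets -/
structure SheetHyp : Prop where
  hEo : ∀ k, IsOpen (E k)
  hEg : ∀ k, ∀ x ∈ E k, g ∉ x.asIdeal
  hEd : ∀ k k' x, x ∈ E k → x ∈ E k' → k = k'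
  hEc : ∀ x : PrimeSpectrum A, f ∉ x.asIdeal → g ∉ x.asIdeal → ∃ k, x ∈ E k
  hρσ : ∀ k m (x : PrimeSpectrum A), g ∈ x.asIdeal → ρ k m - σ m ∈ x.asIdeal
  hρu : ∀ k m m', m ≠ m' → IsUnit (ρ k m - ρ k m')
  hσu : ∀ m m', m ≠ m' → IsUnit (σ m - σ m')
  hrE : ∀ k, ∀ x ∈ E k, ∃ m, r - ρ k m ∈ x.asIdeal
  hrg : ∀ x : PrimeSpectrum A, g ∈ x.asIdeal → ∃ m, r - σ m ∈ x.asIdeal

variable {f g r E ρ σ}

lemma SheetHyp.eq_of_mem_ρ (H : SheetHyp f g r E ρ σ) (k : κ) (m m' : ι) (x : PrimeSpectrum A)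
    (h1 : r - ρ k m ∈ x.asIdeal) (h2 : r - ρ k m' ∈ x.asIdeal) : m = m' := by
  by_contra hne
  have h3 : ρ k m - ρ k m' ∈ x.asIdeal := by
    have : ρ k m - ρ k m' = (r - ρ k m') - (r - ρ k m) := by ring
    rw [this]
    exact x.asIdeal.sub_mem h2 h1
  exact x.isPrime.ne_top (Ideal.eq_top_of_isUnit_mem _ h3 (H.hρu k m m' hne))

lemma SheetHyp.eq_of_mem_σ (H : SheetHyp f g r E ρ σ) (m m' : ι) (x : PrimeSpectrum A)
    (h1 : r - σ m ∈ x.asIdeal) (h2 : r - σ m' ∈ x.asIdeal) : m = m' := by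
  by_contra hne
  have h3 : σ m - σ m' ∈ x.asIdeal := by
    have : σ m - σ m' = (r - σ m') - (r - σ m) := by ring
    rw [this]
    exact x.asIdeal.sub_mem h2 h1
  exact x.isPrime.ne_top (Ideal.eq_top_of_isUnit_mem _ h3 (H.hσu m m' hne))

lemma SheetHyp.mem_σ_of_mem_ρ (H : SheetHyp f g r E ρ σ) (k : κ) (m : ι) (x : PrimeSpectrum A)
    (hg : g ∈ x.asIdeal) (h1 : r - ρ k m ∈ x.asIdeal) : r - σ m ∈ x.asIdeal := by
  have : r - σ m = (r - ρ k m) + (ρ k m - σ m) := by ring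
  rw [this]
  exact x.asIdeal.add_mem h1 (H.hρσ k m x hg)

lemma SheetHyp.mem_sheet_iff_of_mem (H : SheetHyp f g r E ρ σ) (k : κ) (m : ι)
    (x : PrimeSpectrum A) (hx : x ∈ E k) :
    x ∈ sheet f g r E ρ σ m ↔ f ∉ x.asIdeal ∧ r - ρ k m ∈ x.asIdeal := by
  constructor
  · rintro ⟨hf, ⟨k', hk', h⟩ | ⟨hg, -⟩⟩
    · obtain rfl := H.hEd k k' x hx hk'
      exact ⟨hf, h⟩
    · exact absurd hg (H.hEg k x hx)
  · rintro ⟨hf, h⟩
    exact ⟨hf, Or.inl ⟨k, hx, h⟩⟩

lemma SheetHyp.exists_mem_sheet (H : SheetHyp f g r E ρ σ) (x : PrimeSpectrum A)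
    (hf : f ∉ x.asIdeal) : ∃ m, x ∈ sheet f g r E ρ σ m := by
  by_cases hg : g ∈ x.asIdeal
  · obtain ⟨m, hm⟩ := H.hrg x hg
    exact ⟨m, hf, Or.inr ⟨hg, hm⟩⟩
  · obtain ⟨k, hk⟩ := H.hEc x hf hg
    obtain ⟨m, hm⟩ := H.hrE k x hk
    exact ⟨m, hf, Or.inl ⟨k, hk, hm⟩⟩

lemma SheetHyp.eq_of_mem_sheet (H : SheetHyp f g r E ρ σ) (m m' : ι) (x : PrimeSpectrum A)
    (h1 : x ∈ sheet f g r E ρ σ m) (h2 : x ∈ sheet f g r E ρ σ m') : m = m' := by
  obtain ⟨-, ⟨k, hk, h⟩ | ⟨hg, h⟩⟩ := h1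
  · obtain ⟨-, h'⟩ := (H.mem_sheet_iff_of_mem k m' x hk).1 h2
    exact H.eq_of_mem_ρ k m m' x h h'
  · obtain ⟨-, ⟨k, hk, -⟩ | ⟨-, h'⟩⟩ := h2
    · exact absurd hg (H.hEg k x hk)
    · exact H.eq_of_mem_σ m m' x h h'

lemma SheetHyp.isOpen_sheet [Finite ι] [Finite κ] (H : SheetHyp f g r E ρ σ) (m : ι) :
    IsOpen (sheet f g r E ρ σ m) := by
  rw [isOpen_iff_forall_mem_open]
  rintro x ⟨hf, ⟨k, hk, h⟩ | ⟨hg, h⟩⟩
  · refine ⟨(E k ∩ (basicOpen f : Set (PrimeSpectrum A))) ∩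
      ⋂ m', ⋂ (_ : m' ≠ m), (basicOpen (r - ρ k m') : Set (PrimeSpectrum A)), ?_, ?_, ?_⟩
    · rintro y ⟨⟨hyk, hyf⟩, hy⟩
      refine ⟨hyf, Or.inl ⟨k, hyk, ?_⟩⟩
      obtain ⟨m'', hm''⟩ := H.hrE k y hyk
      by_cases hmm : m'' = m
      · rw [← hmm]; exact hm''
      · exfalso
        have := Set.mem_iInter.1 (Set.mem_iInter.1 hy m'') hmm
        exact this hm''
    · exact ((H.hEo k).inter (basicOpen f).isOpen).inter
        (isOpen_iInter_of_finite fun m' => isOpen_iInter_of_finite fun _ => (basicOpen _).isOpen)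
    · refine ⟨⟨hk, hf⟩, ?_⟩
      refine Set.mem_iInter.2 fun m' => Set.mem_iInter.2 fun hm' => ?_
      intro (h' : r - ρ k m' ∈ x.asIdeal)
      exact hm' (H.eq_of_mem_ρ k m' m x h' h)
  · refine ⟨((basicOpen f : Set (PrimeSpectrum A)) ∩
      ⋂ k, ⋂ m', ⋂ (_ : m' ≠ m), (basicOpen (r - ρ k m') : Set (PrimeSpectrum A))) ∩
      ⋂ m', ⋂ (_ : m' ≠ m), (basicOpen (r - σ m') : Set (PrimeSpectrum A)), ?_, ?_, ?_⟩
    · rintro y ⟨⟨hyf, hy1⟩, hy2⟩
      refine ⟨hyf, ?_⟩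
      by_cases hyg : g ∈ y.asIdeal
      · refine Or.inr ⟨hyg, ?_⟩
        obtain ⟨m'', hm''⟩ := H.hrg y hyg
        by_cases hmm : m'' = m
        · rw [← hmm]; exact hm''
        · exfalso
          have := Set.mem_iInter.1 (Set.mem_iInter.1 hy2 m'') hmm
          exact this hm''
      · obtain ⟨k, hk⟩ := H.hEc y hyf hyg
        refine Or.inl ⟨k, hk, ?_⟩
        obtain ⟨m'', hm''⟩ := H.hrE k y hk
        by_cases hmm : m'' = m
        · rw [← hmm]; exact hm''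
        · exfalso
          have := Set.mem_iInter.1 (Set.mem_iInter.1 (Set.mem_iInter.1 hy1 k) m'') hmm
          exact this hm''
    · refine (((basicOpen f).isOpen).inter ?_).inter ?_
      · exact isOpen_iInter_of_finite fun k => isOpen_iInter_of_finite fun m' =>
          isOpen_iInter_of_finite fun _ => (basicOpen _).isOpen
      · exact isOpen_iInter_of_finite fun m' => isOpen_iInter_of_finite fun _ => (basicOpen _).isOpen
    · refine ⟨⟨hf, ?_⟩, ?_⟩
      · refine Set.mem_iInter.2 fun k => Set.mem_iInter.2 fun m' => Set.mem_iInter.2 fun hm' => ?_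
        intro (h' : r - ρ k m' ∈ x.asIdeal)
        exact hm' (H.eq_of_mem_σ m' m x (H.mem_σ_of_mem_ρ k m' x hg h') h)
      · refine Set.mem_iInter.2 fun m' => Set.mem_iInter.2 fun hm' => ?_
        intro (h' : r - σ m' ∈ x.asIdeal)
        exact hm' (H.eq_of_mem_σ m' m x h' h)

end sheets

section main

open PrimeSpectrum

/-- **Gluing for `ℤ/p`.** Over an absolutely integrally closed ring with `f + g = 1`, a partition
of `D(fg)` into opens `E k` is the "difference" of a partition of `D(f)` and one of `D(g)`. -/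
theorem exists_glue_zmod (hA : Curves.IsAIC A) (p : ℕ) [Fact p.Prime] (f g : A) (hfg : f + g = 1)
    (E : ZMod p → Set (PrimeSpectrum A)) (hEo : ∀ k, IsOpen (E k))
    (hEd : ∀ k k' x, x ∈ E k → x ∈ E k' → k = k')
    (hEu : ∀ x : PrimeSpectrum A, (∃ k, x ∈ E k) ↔ f * g ∉ x.asIdeal) :
    ∃ Sa Sb : ZMod p → Set (PrimeSpectrum A), (∀ m, IsOpen (Sa m)) ∧ (∀ m, IsOpen (Sb m)) ∧
      (∀ x : PrimeSpectrum A, f ∉ x.asIdeal → ∃ m, x ∈ Sa m) ∧
      (∀ x : PrimeSpectrum A, g ∉ x.asIdeal → ∃ m, x ∈ Sb m) ∧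
      (∀ m x, x ∈ Sa m → f ∉ x.asIdeal) ∧ (∀ m x, x ∈ Sb m → g ∉ x.asIdeal) ∧
      (∀ m m' x, x ∈ Sa m → x ∈ Sa m' → m = m') ∧ (∀ m m' x, x ∈ Sb m → x ∈ Sb m' → m = m') ∧
      (∀ k m x, x ∈ E k → x ∈ Sa m → x ∈ Sb (m - k)) := by
  obtain ⟨ζ, hζ⟩ := exists_zeta hA p (Fact.out : p.Prime)
  -- bump functions
  have hbump : ∀ k, ∃ (n : ℕ) (e : A), (∀ x ∈ E k, e - (f * g) ^ n ∈ x.asIdeal) ∧
      (∀ x : PrimeSpectrum A, x ∉ E k → e ∈ x.asIdeal) := by
    intro k
    refine exists_bump (f * g) (E k) (⋃ k', ⋃ (_ : k' ≠ k), E k') (hEo k)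
      (isOpen_iUnion fun k' => isOpen_iUnion fun _ => hEo k') ?_ ?_
    · intro x hx hx'
      obtain ⟨k', hk'⟩ := Set.mem_iUnion.1 hx'
      obtain ⟨hne, hk''⟩ := Set.mem_iUnion.1 hk'
      exact hne (hEd k' k x hk'' hx)
    · intro x hx
      obtain ⟨k', hk'⟩ := (hEu x).2 hx
      by_cases hkk : k' = k
      · left; rw [← hkk]; exact hk'
      · right
        exact Set.mem_iUnion.2 ⟨k', Set.mem_iUnion.2 ⟨hkk, hk'⟩⟩
  choose n e he1 he2 using hbump
  set N := ∑ k, n k + 1 with hN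
  have hnN : ∀ k, n k ≤ N := fun k =>
    (Finset.single_le_sum (f := n) (fun _ _ => Nat.zero_le _) (Finset.mem_univ k)).trans
      (Nat.le_succ _)
  have hN0 : 0 < N := Nat.succ_pos _
  set F := f ^ N with hF
  set G := g ^ N with hG
  have hFG : (f * g) ^ N = F * G := mul_pow f g N
  set ε : ZMod p → A := fun k => (f * g) ^ (N - n k) * e k with hε
  have hε1 : ∀ k, ∀ x ∈ E k, ε k - F * G ∈ x.asIdeal := by
    intro k x hx
    have : ε k - F * G = (f * g) ^ (N - n k) * (e k - (f * g) ^ n k) := by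
      rw [← hFG, hε, mul_sub, ← pow_add, Nat.sub_add_cancel (hnN k)]
    rw [this]
    exact x.asIdeal.mul_mem_left _ (he1 k x hx)
  have hε2 : ∀ k (x : PrimeSpectrum A), x ∉ E k → ε k ∈ x.asIdeal := fun k x hx =>
    x.asIdeal.mul_mem_left _ (he2 k x hx)
  clear_value ε F G
  -- coprimality
  have hcop0 : IsCoprime f g := ⟨1, 1, by rw [one_mul, one_mul, hfg]⟩
  have hcop : IsCoprime F G := by
    rw [hF, hG]
    exact hcop0.pow
  obtain ⟨u, v, huv⟩ := hcop
  obtain ⟨ρ, hρG, hρF, hρu⟩ := exists_interp ζ hζ hA F G u v huv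
  -- divisibility of the coefficients
  have hdiv : ∀ k i, F * G ∣
      ((∏ m : ZMod p, (X - C (ρ k m)) - ∏ m : ZMod p, (X - C (qz ζ m)) : A[X])).coeff i := by
    intro k i
    apply IsCoprime.mul_dvd ⟨u, v, huv⟩
    · have h1 := coeff_prod_X_sub_C_sub_mem Finset.univ (Ideal.span {F}) (ρ k)
        (fun m => qz ζ (m - k)) (fun m _ => Ideal.mem_span_singleton.2 (hρF k m)) i
      have h2 : (∏ m : ZMod p, (X - C (qz ζ (m - k))) : A[X]) = ∏ m : ZMod p, (X - C (qz ζ m)) :=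
        Fintype.prod_equiv (Equiv.subRight k) _ _ (fun m => rfl)
      rw [h2] at h1
      exact Ideal.mem_span_singleton.1 h1
    · have h1 := coeff_prod_X_sub_C_sub_mem Finset.univ (Ideal.span {G}) (ρ k)
        (fun m => qz ζ m) (fun m _ => Ideal.mem_span_singleton.2 (hρG k m)) i
      exact Ideal.mem_span_singleton.1 h1
  obtain ⟨r, e', hr1, hr2⟩ := exists_root hA (qz ζ) ρ (F * G) ε hdiv
  -- pointwise root facts
  have hrE : ∀ k, ∀ x ∈ E k, ∃ m, r - ρ k m ∈ x.asIdeal := by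
    intro k x hx
    have h1 : ∏ m, (r - ρ k m) ∈ x.asIdeal := by
      have h2 : ∏ m, (r - ρ k m) =
          -((ε k - F * G) * e' k) - ∑ k' ∈ Finset.univ.erase k, ε k' * e' k' := by
        have h3 := Finset.add_sum_erase Finset.univ (fun k' => ε k' * e' k') (Finset.mem_univ k)
        rw [hr2 k]
        linear_combination hr1 + h3
      rw [h2]
      refine x.asIdeal.sub_mem (x.asIdeal.neg_mem (x.asIdeal.mul_mem_right _ (hε1 k x hx))) ?_
      refine Ideal.sum_mem _ fun k' hk' => x.asIdeal.mul_mem_right _ (hε2 k' x ?_)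
      intro hx'
      exact (Finset.ne_of_mem_erase hk') (hEd k' k x hx' hx)
    obtain ⟨m, -, hm⟩ := Ideal.IsPrime.prod_mem_iff.1 h1
    exact ⟨m, hm⟩
  have hrfg : ∀ x : PrimeSpectrum A, f * g ∈ x.asIdeal →
      ∃ m : ZMod p, r - qz ζ m ∈ x.asIdeal := by
    intro x hx
    have h1 : ∏ m : ZMod p, (r - qz ζ m) ∈ x.asIdeal := by
      have h2 : ∏ m : ZMod p, (r - qz ζ m) = -∑ k, ε k * e' k := by linear_combination hr1
      rw [h2]
      refine x.asIdeal.neg_mem (Ideal.sum_mem _ fun k _ => x.asIdeal.mul_mem_right _ (hε2 k x ?_))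
      intro hx'
      exact (hEu x).1 ⟨k, hx'⟩ hx
    obtain ⟨m, -, hm⟩ := Ideal.IsPrime.prod_mem_iff.1 h1
    exact ⟨m, hm⟩
  have hEfg : ∀ k, ∀ x ∈ E k, f * g ∉ x.asIdeal := fun k x hx => (hEu x).1 ⟨k, hx⟩
  -- the two families of sheets
  have Ha : SheetHyp f g r E ρ (qz ζ) :=
    { hEo := hEo
      hEg := fun k x hx hg => hEfg k x hx (x.asIdeal.mul_mem_left _ hg)
      hEd := hEd
      hEc := fun x hf hg => (hEu x).2 fun h => (x.isPrime.mem_or_mem h).elim hf hg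
      hρσ := by
        intro k m x hg
        obtain ⟨c, hc⟩ := hρG k m
        rw [hc]
        exact x.asIdeal.mul_mem_right _ (hG ▸ Ideal.pow_mem_of_mem _ hg N hN0)
      hρu := hρu
      hσu := fun m m' h => isUnit_qz_sub_qz ζ hζ m m' h
      hrE := hrE
      hrg := fun x hg => hrfg x (x.asIdeal.mul_mem_left _ hg) }
  have Hb : SheetHyp g f r E (fun k m => ρ k (m + k)) (qz ζ) :=
    { hEo := hEo
      hEg := fun k x hx hf => hEfg k x hx (x.asIdeal.mul_mem_right _ hf)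
      hEd := hEd
      hEc := fun x hg hf => (hEu x).2 fun h => (x.isPrime.mem_or_mem h).elim hf hg
      hρσ := by
        intro k m x hf
        obtain ⟨c, hc⟩ := hρF k (m + k)
        rw [add_sub_cancel_right] at hc
        show ρ k (m + k) - qz ζ m ∈ x.asIdeal
        rw [hc]
        exact x.asIdeal.mul_mem_right _ (hF ▸ Ideal.pow_mem_of_mem _ hf N hN0)
      hρu := fun k m m' h => hρu k _ _ fun h' => h (add_right_cancel h')
      hσu := fun m m' h => isUnit_qz_sub_qz ζ hζ m m' h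
      hrE := by
        intro k x hx
        obtain ⟨m, hm⟩ := hrE k x hx
        refine ⟨m - k, ?_⟩
        show r - ρ k (m - k + k) ∈ x.asIdeal
        rw [sub_add_cancel]
        exact hm
      hrg := fun x hf => hrfg x (x.asIdeal.mul_mem_right _ hf) }
  refine ⟨sheet f g r E ρ (qz ζ), sheet g f r E (fun k m => ρ k (m + k)) (qz ζ),
    Ha.isOpen_sheet, Hb.isOpen_sheet, Ha.exists_mem_sheet, Hb.exists_mem_sheet,
    fun m x hx => hx.1, fun m x hx => hx.1, Ha.eq_of_mem_sheet, Hb.eq_of_mem_sheet, ?_⟩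
  intro k m x hxk hxm
  obtain ⟨hf, hm⟩ := (Ha.mem_sheet_iff_of_mem k m x hxk).1 hxm
  refine (Hb.mem_sheet_iff_of_mem k (m - k) x hxk).2
    ⟨fun hg => hEfg k x hxk (x.asIdeal.mul_mem_left _ hg), ?_⟩
  show r - ρ k (m - k + k) ∈ x.asIdeal
  rw [sub_add_cancel]
  exact hm

end main

end Groth.Agent.Lib.AICRing39
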