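import Groth.Agent.Lib.AICSpecGlue39
import Groth.Agent.Lib.AICClosure39
import Mathlib.FieldTheory.PurelyInseparable.Basic
import Mathlib.RingTheory.IntegralClosure.IntegrallyClosed
import Mathlib.Topology.Homeomorph.Lemmas

/-!
# Gluing locally constant functions on quotients of normal domains with separably closed fraction
field (helper39)

* `isOpenEmbedding_comap_of_pow_mem`: a ring map `ψ : B → B'` such that every element of `B'` has a
  power in the image and `Spec B' → Spec B` is surjective induces a homeomorphism on spectra;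
* `glue_of_pow_mem`: then the gluing property for `B` follows from `B'` absolutely integrally
  closed;
* `glue_of_normal_sepClosed`: quotients `B` of an integrally closed domain with separably closed
  fraction field have the gluing property.
-/

set_option autoImplicit false
universe u v

namespace Groth.Agent.Lib.AICInsep39

open Groth.Agent.Lib.AICLocal39 Groth.Agent.Lib.AICTop39 Groth.Agent.Lib.AICSpecGlue39
  Groth.Agent.Lib.AICClosure39 PrimeSpectrum

section pow

variable {B B' : Type*} [CommRing B] [CommRing B'] (ψ : B →+* B')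
  (hpow : ∀ s : B', ∃ n : ℕ, 0 < n ∧ s ^ n ∈ ψ.range)

include hpow

theorem isIntegral_of_pow_mem : ψ.IsIntegral := by
  intro s
  obtain ⟨n, hn, c, hc⟩ := hpow s
  refine ⟨Polynomial.X ^ n - Polynomial.C c, Polynomial.monic_X_pow_sub_C c hn.ne', ?_⟩
  rw [Polynomial.eval₂_sub, Polynomial.eval₂_pow, Polynomial.eval₂_X, Polynomial.eval₂_C, hc,
    sub_self]

theorem comap_injective_of_pow_mem : Function.Injective (comap ψ) := by
  have key : ∀ Q₁ Q₂ : PrimeSpectrum B', comap ψ Q₁ = comap ψ Q₂ → Q₁.asIdeal ≤ Q₂.asIdeal := by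
    intro Q₁ Q₂ h s hs
    obtain ⟨n, hn, c, hc⟩ := hpow s
    have h1 : c ∈ (comap ψ Q₁).asIdeal := by
      show ψ c ∈ Q₁.asIdeal
      rw [hc]
      exact Q₁.asIdeal.pow_mem_of_mem hs n hn
    rw [h] at h1
    have h2 : ψ c ∈ Q₂.asIdeal := h1
    rw [hc] at h2
    exact Q₂.isPrime.mem_of_pow_mem n h2
  intro Q₁ Q₂ h
  exact PrimeSpectrum.ext (le_antisymm (key Q₁ Q₂ h) (key Q₂ Q₁ h.symm))

theorem isOpenEmbedding_comap_of_pow_mem (hsurj : Function.Surjective (comap ψ)) :
    Topology.IsOpenEmbedding (comap ψ) := by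
  apply IsHomeomorph.isOpenEmbedding
  rw [isHomeomorph_iff_continuous_isClosedMap_bijective]
  exact ⟨continuous_comap ψ, isClosedMap_comap_of_isIntegral ψ (isIntegral_of_pow_mem ψ hpow),
    comap_injective_of_pow_mem ψ hpow, hsurj⟩

/-- the gluing property descends along `ψ` -/
theorem glue_of_pow_mem (hsurj : Function.Surjective (comap ψ)) (hB' : Curves.IsAIC B')
    (f g : B) (M : Type v) [AddCommGroup M] [Finite M] :
    Glue {x : PrimeSpectrum B | f * (f + g) ∉ x.asIdeal}
      {x : PrimeSpectrum B | g * (f + g) ∉ x.asIdeal} M := by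
  refine Glue.of_isOpenEmbedding (comap ψ) (isOpenEmbedding_comap_of_pow_mem ψ hpow hsurj)
    (fun x _ => hsurj x) (fun x _ => hsurj x) M ?_
  have key : ∀ a : B, comap ψ ⁻¹' {x : PrimeSpectrum B | a ∉ x.asIdeal} =
      {y : PrimeSpectrum B' | ψ a ∉ y.asIdeal} := fun a => rfl
  rw [key, key, map_mul, map_mul, map_add]
  exact glue_of_isAIC hB' _ _ M

end pow

section normal

variable (A K : Type u) [CommRing A] [IsDomain A] [Field K] [Algebra A K] [IsFractionRing A K]
  [IsIntegrallyClosed A] [IsSepClosed K]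

/-- the integral closure of `A` in an algebraic closure of its fraction field -/
abbrev Abar : Type u := integralClosure A (AlgebraicClosure K)

omit [IsDomain A] [IsFractionRing A K] [IsIntegrallyClosed A] [IsSepClosed K] in
theorem isAIC_Abar : Curves.IsAIC (Abar A K) :=
  isAIC_integralClosure A (AlgebraicClosure K) (isAIC_of_isAlgClosed _)

omit [IsDomain A] [IsIntegrallyClosed A] [IsSepClosed K] in
theorem algebraMap_Abar_injective : Function.Injective (algebraMap A (Abar A K)) := by
  intro a b hab
  have h1 := congrArg (algebraMap (Abar A K) (AlgebraicClosure K)) hab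
  rw [← IsScalarTower.algebraMap_apply, ← IsScalarTower.algebraMap_apply,
    IsScalarTower.algebraMap_apply A K (AlgebraicClosure K),
    IsScalarTower.algebraMap_apply A K (AlgebraicClosure K)] at h1
  exact IsFractionRing.injective A K ((algebraMap K (AlgebraicClosure K)).injective h1)

omit [IsDomain A] in
/-- every element of `Abar` has a `q^n`-th power in `A` -/
theorem exists_pow_mem_Abar (x : Abar A K) :
    ∃ n : ℕ, 0 < n ∧ ∃ a : A, x ^ n = algebraMap A (Abar A K) a := by
  obtain ⟨n, y, hy⟩ := IsPurelyInseparable.pow_mem K (ringExpChar K) (x : AlgebraicClosure K)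
  have h1 : IsIntegral A (algebraMap K (AlgebraicClosure K) y) := by
    rw [hy]
    exact (x.2 : IsIntegral A (x : AlgebraicClosure K)).pow _
  have h2 : IsIntegral A y :=
    (isIntegral_algebraMap_iff (algebraMap K (AlgebraicClosure K)).injective).1 h1
  obtain ⟨a, ha⟩ := IsIntegrallyClosed.isIntegral_iff.1 h2
  refine ⟨ringExpChar K ^ n, pow_pos (expChar_pos K (ringExpChar K)) n, a, ?_⟩
  apply Subtype.ext
  show (x : AlgebraicClosure K) ^ (ringExpChar K ^ n) = algebraMap A (AlgebraicClosure K) a
  rw [← hy, ← ha, ← IsScalarTower.algebraMap_apply]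

end normal

section normal'

/-- quotients of an integrally closed domain with separably closed fraction field have the gluing
property -/
theorem glue_of_normal_sepClosed {A : Type u} (K : Type u) [CommRing A] [IsDomain A] [Field K]
    [Algebra A K] [IsFractionRing A K] [IsIntegrallyClosed A] [IsSepClosed K]
    {B : Type u} [CommRing B] (σ : A →+* B)
    (hσ : Function.Surjective σ) (f g : B) (M : Type v) [AddCommGroup M] [Finite M] :
    Glue {x : PrimeSpectrum B | f * (f + g) ∉ x.asIdeal}
      {x : PrimeSpectrum B | g * (f + g) ∉ x.asIdeal} M := by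
  set J : Ideal (Abar A K) := (RingHom.ker σ).map (algebraMap A (Abar A K)) with hJ
  have hker : RingHom.ker σ ≤
      RingHom.ker ((Ideal.Quotient.mk J).comp (algebraMap A (Abar A K))) := by
    intro a ha
    rw [RingHom.mem_ker, RingHom.comp_apply, Ideal.Quotient.eq_zero_iff_mem]
    exact Ideal.mem_map_of_mem _ ha
  set ψ : B →+* Abar A K ⧸ J := σ.liftOfSurjective hσ
    ⟨(Ideal.Quotient.mk J).comp (algebraMap A (Abar A K)), hker⟩ with hψ
  have hψσ : ∀ a : A, ψ (σ a) = Ideal.Quotient.mk J (algebraMap A (Abar A K) a) := fun a =>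
    σ.liftOfSurjective_comp_apply hσ _ a
  have hpow : ∀ s : Abar A K ⧸ J, ∃ n : ℕ, 0 < n ∧ s ^ n ∈ ψ.range := by
    intro s
    obtain ⟨x, rfl⟩ := Ideal.Quotient.mk_surjective s
    obtain ⟨n, hn, a, ha⟩ := exists_pow_mem_Abar A K x
    exact ⟨n, hn, σ a, by rw [hψσ, ← ha, map_pow]⟩
  have hsurj : Function.Surjective (comap ψ) := by
    intro P
    have : Algebra.IsIntegral A (Abar A K) := integralClosure.AlgebraIsIntegral
    obtain ⟨Q, -, hQ, hQP⟩ := Ideal.exists_ideal_over_prime_of_isIntegral (S := Abar A K)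
      (comap σ P).asIdeal ⊥ (by
        have : Ideal.comap (algebraMap A (Abar A K)) ⊥ = ⊥ := by
          rw [← RingHom.ker_eq_comap_bot]
          exact (RingHom.injective_iff_ker_eq_bot _).1 (algebraMap_Abar_injective A K)
        rw [this]
        exact bot_le)
    have hJQ : J ≤ Q := by
      rw [hJ, Ideal.map_le_iff_le_comap, hQP]
      intro a ha
      show σ a ∈ P.asIdeal
      rw [RingHom.mem_ker.1 ha]
      exact P.asIdeal.zero_mem
    have hprime : (Q.map (Ideal.Quotient.mk J)).IsPrime :=
      Ideal.map_isPrime_of_surjective Ideal.Quotient.mk_surjective (by rwa [Ideal.mk_ker])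
    refine ⟨⟨Q.map (Ideal.Quotient.mk J), hprime⟩, ?_⟩
    apply PrimeSpectrum.ext
    ext c
    obtain ⟨a, rfl⟩ := hσ c
    show ψ (σ a) ∈ Q.map (Ideal.Quotient.mk J) ↔ σ a ∈ P.asIdeal
    rw [hψσ, Ideal.mem_quotient_iff_mem hJQ]
    have : algebraMap A (Abar A K) a ∈ Q ↔ a ∈ Ideal.comap (algebraMap A (Abar A K)) Q := Iff.rfl
    rw [this, hQP]
    rfl
  have hB' : Curves.IsAIC (Abar A K ⧸ J) :=
    isAIC_of_surjective (isAIC_Abar A K) (Ideal.Quotient.mk J) Ideal.Quotient.mk_surjective
  exact glue_of_pow_mem ψ hpow hsurj hB' f g M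

end normal'

end Groth.Agent.Lib.AICInsep39
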