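import Groth.Prelude.Def_Curves
import Mathlib.RingTheory.Polynomial.ScaleRoots
import Mathlib.RingTheory.Localization.Integer
import Mathlib.RingTheory.Localization.AtPrime.Basic
import Mathlib.Algebra.Polynomial.Lifts
import Mathlib.RingTheory.Henselian
import Mathlib.FieldTheory.IsSepClosed
import Mathlib.RingTheory.LocalRing.ResidueField.Basic

/-!
# Localizations and local rings of absolutely integrally closed rings (helper39)

* `isAIC_of_isLocalization`: a localization of an absolutely integrally closed ring is absolutely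
  integrally closed;
* `henselianLocalRing_of_isAIC`: a local absolutely integrally closed ring is henselian;
* `isAlgClosed_residueField_of_isAIC`: its residue field is algebraically closed.
-/

set_option autoImplicit false
universe u

namespace Groth.Agent.Lib.AICLocal39

open Polynomial

/-- quotients of absolutely integrally closed rings are absolutely integrally closed -/
theorem isAIC_of_surjective {R S : Type*} [CommRing R] [CommRing S] (hR : Curves.IsAIC R)
    (φ : R →+* S) (hφ : Function.Surjective φ) : Curves.IsAIC S := by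
  intro P hP hdeg
  have hl : P ∈ lifts φ := by
    rw [lifts_iff_coeff_lifts]
    intro n
    exact hφ _
  obtain ⟨Q, hQ, hQd, hQm⟩ := lifts_and_natDegree_eq_and_monic hl hP
  obtain ⟨r, hr⟩ := hR Q hQm (by rw [hQd]; exact hdeg)
  refine ⟨φ r, ?_⟩
  rw [← hQ, eval_map, eval₂_hom, hr, map_zero]

/-- localizations of absolutely integrally closed rings are absolutely integrally closed -/
theorem isAIC_of_isLocalization {R : Type*} [CommRing R] (hR : Curves.IsAIC R) (M : Submonoid R)
    (S : Type*) [CommRing S] [Algebra R S] [IsLocalization M S] : Curves.IsAIC S := by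
  intro P hP hdeg
  obtain ⟨b, hb⟩ := IsLocalization.exist_integer_multiples_of_finset M (P.coeffs)
  set d : S := algebraMap R S b with hd
  have hdu : IsUnit d := IsLocalization.map_units S b
  have hl : scaleRoots P d ∈ lifts (algebraMap R S) := by
    rw [lifts_iff_coeff_lifts]
    intro n
    rw [coeff_scaleRoots]
    rcases lt_trichotomy n P.natDegree with hn | hn | hn
    · by_cases h0 : P.coeff n = 0
      · rw [h0, zero_mul]; exact ⟨0, map_zero _⟩
      obtain ⟨c, hc⟩ := hb (P.coeff n) (coeff_mem_coeffs h0)
      obtain ⟨k, hk⟩ : ∃ k, P.natDegree - n = k + 1 := ⟨P.natDegree - n - 1, by omega⟩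
      refine ⟨c * b ^ k, ?_⟩
      rw [map_mul, map_pow, hc, hk, pow_succ, Algebra.smul_def]
      ring
    · rw [hn, Nat.sub_self, pow_zero, mul_one, coeff_natDegree, hP.leadingCoeff]
      exact ⟨1, map_one _⟩
    · rw [coeff_eq_zero_of_natDegree_lt hn, zero_mul]; exact ⟨0, map_zero _⟩
  have hm : (scaleRoots P d).Monic := (monic_scaleRoots_iff d).2 hP
  obtain ⟨Q, hQ, hQd, hQm⟩ := lifts_and_natDegree_eq_and_monic hl hm
  obtain ⟨r, hr⟩ := hR Q hQm (by rw [hQd, natDegree_scaleRoots]; exact hdeg)
  obtain ⟨d', hd'⟩ := hdu.exists_left_inv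
  refine ⟨d' * algebraMap R S r, ?_⟩
  have h1 : eval (algebraMap R S r) (scaleRoots P d) = 0 := by
    rw [← hQ, eval_map, eval₂_hom, hr, map_zero]
  have h2 := scaleRoots_eval_mul P (d' * algebraMap R S r) d
  rw [← mul_assoc, mul_comm d d', hd', one_mul, h1] at h2
  exact ((hdu.pow _).mul_right_eq_zero).1 h2.symm

section local_

variable {A : Type*} [CommRing A] [IsLocalRing A]

theorem exists_root_near (hA : Curves.IsAIC A) :
    ∀ (n : ℕ) (f : A[X]), f.Monic → f.natDegree = n → ∀ a₀ : A,
      f.eval a₀ ∈ IsLocalRing.maximalIdeal A →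
      ∃ a : A, f.IsRoot a ∧ a - a₀ ∈ IsLocalRing.maximalIdeal A := by
  intro n
  induction n with
  | zero =>
    intro f hf hn a₀ h0
    exfalso
    rw [eq_one_of_monic_natDegree_zero hf hn, eval_one] at h0
    exact (IsLocalRing.maximalIdeal.isMaximal A).ne_top ((Ideal.eq_top_iff_one _).2 h0)
  | succ n ih =>
    intro f hf hn a₀ h0
    obtain ⟨r, hr⟩ := hA f hf (by rw [hn]; exact Nat.succ_pos n)
    have hfac : (X - C r) * (f /ₘ (X - C r)) = f := mul_divByMonic_eq_iff_isRoot.2 hr
    set f₁ := f /ₘ (X - C r) with hf₁
    have hf₁m : f₁.Monic := by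
      apply Monic.of_mul_monic_left (monic_X_sub_C r)
      rw [hfac]; exact hf
    have hf₁d : f₁.natDegree = n := by
      have h1 := (monic_X_sub_C r).natDegree_mul hf₁m
      rw [hfac, hn, natDegree_X_sub_C] at h1
      omega
    have h1 : (a₀ - r) * f₁.eval a₀ ∈ IsLocalRing.maximalIdeal A := by
      have : (a₀ - r) * f₁.eval a₀ = f.eval a₀ := by
        conv_rhs => rw [← hfac]
        simp
      rw [this]; exact h0
    rcases (IsLocalRing.maximalIdeal.isMaximal A).isPrime.mem_or_mem h1 with h2 | h2
    · refine ⟨r, hr, ?_⟩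
      have : r - a₀ = -(a₀ - r) := by ring
      rw [this]
      exact (IsLocalRing.maximalIdeal A).neg_mem h2
    · obtain ⟨a, ha, ha'⟩ := ih f₁ hf₁m hf₁d a₀ h2
      refine ⟨a, ?_, ha'⟩
      rw [IsRoot.def, ← hfac, eval_mul, ha.eq_zero, mul_zero]

/-- a local absolutely integrally closed ring is henselian -/
theorem henselianLocalRing_of_isAIC (hA : Curves.IsAIC A) : HenselianLocalRing A :=
  { is_henselian := fun f hf a₀ h0 _ => exists_root_near hA _ f hf rfl a₀ h0 }

/-- the residue field of a local absolutely integrally closed ring is algebraically closed -/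
theorem isAlgClosed_residueField_of_isAIC (hA : Curves.IsAIC A) :
    IsAlgClosed (IsLocalRing.ResidueField A) := by
  have hk : Curves.IsAIC (IsLocalRing.ResidueField A) :=
    isAIC_of_surjective hA (IsLocalRing.residue A) IsLocalRing.residue_surjective
  apply IsAlgClosed.of_exists_root
  intro p hp hirr
  exact hk p hp hirr.natDegree_pos

end local_

end Groth.Agent.Lib.AICLocal39
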