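import Groth.Prelude.Def_Curves
import Mathlib.RingTheory.Polynomial.Basic
import Mathlib.RingTheory.Coprime.Lemmas
import Mathlib.Algebra.Ring.GeomSum
import Mathlib.Data.ZMod.Basic
import Mathlib.Algebra.Field.ZMod
import Mathlib.RingTheory.Spectrum.Prime.Topology

/-!
# Absolutely integrally closed rings (helper39)

`Curves.IsAIC A`: every monic polynomial of positive degree has a root.

* `exists_isUnit_sub_mul`: if `a` is a root of unity modulo `b` then some `a - b * y` is a unit;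
* `qz ζ m` (`m : ZMod p`): the `ζ`-integers `1 + ζ + ⋯ + ζ^(m-1)` for a root `ζ` of
  `1 + X + ⋯ + X^(p-1)`; they have pairwise unit differences (Kummer–Artin–Schreier interpolation).
-/

set_option autoImplicit false
universe u

namespace Groth.Agent.Lib.AICRing39

open Polynomial Finset

variable {A : Type u} [CommRing A]

/-- if `a ^ n ≡ 1` modulo `b`, then `a - b * y` is a unit for some `y` -/
theorem exists_isUnit_sub_mul (hA : Curves.IsAIC A) (a b : A) (n : ℕ) (hn : 0 < n)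
    (z : A) (hz : a ^ n + b * z = 1) : ∃ y, IsUnit (a - b * y) := by
  obtain ⟨m, rfl⟩ := Nat.exists_eq_succ_of_ne_zero hn.ne'
  rw [Nat.succ_eq_add_one] at hz
  have hab : IsCoprime a b := by
    refine ⟨a ^ m, z, ?_⟩
    rw [← hz, pow_succ, mul_comm z b]
  obtain ⟨s', t', hst⟩ := (hab.pow (m := m) (n := m))
  set s := z * s' with hs
  set t := z * t' with ht
  have hzst : s * a ^ m + t * b ^ m = z := by
    rw [hs, ht, mul_assoc, mul_assoc, ← mul_add, hst, mul_one]
  let P : A[X] := X ^ (m + 1) + (C s * X ^ m + C t)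
  have hlt : (C s * X ^ m + C t : A[X]).degree < ((m + 1 : ℕ) : WithBot ℕ) := by
    refine lt_of_le_of_lt (degree_add_le _ _) (max_lt ?_ ?_)
    · refine lt_of_le_of_lt (degree_C_mul_X_pow_le _ _) ?_
      exact_mod_cast Nat.lt_succ_self m
    · refine lt_of_le_of_lt degree_C_le ?_
      exact_mod_cast Nat.succ_pos m
  have hmon : P.Monic := monic_X_pow_add hlt
  rcases subsingleton_or_nontrivial A with hsub | hnt
  · exact ⟨0, isUnit_of_subsingleton _⟩
  have hdeg : P.natDegree = m + 1 := by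
    show (X ^ (m + 1) + (C s * X ^ m + C t) : A[X]).natDegree = m + 1
    rw [natDegree_add_eq_left_of_degree_lt (by rwa [degree_X_pow]), natDegree_X_pow]
  obtain ⟨y, hy⟩ := hA P hmon (by rw [hdeg]; exact Nat.succ_pos m)
  refine ⟨y, ?_⟩
  have hy' : y ^ (m + 1) + (s * y ^ m + t) = 0 := by
    simpa [P] using hy
  have h0 : (b * y) ^ (m + 1) + s * b * (b * y) ^ m + t * b ^ (m + 1) = 0 := by
    have : b ^ (m + 1) * (y ^ (m + 1) + (s * y ^ m + t)) = 0 := by rw [hy', mul_zero]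
    rw [← this]
    ring
  have h1 : a ^ (m + 1) + s * b * a ^ m + t * b ^ (m + 1) = 1 := by
    rw [← hz, ← hzst]
    ring
  have h2 : (a ^ (m + 1) - (b * y) ^ (m + 1)) + s * b * (a ^ m - (b * y) ^ m) = 1 := by
    linear_combination h1 - h0
  apply isUnit_of_dvd_one
  rw [← h2]
  exact dvd_add (sub_dvd_pow_sub_pow _ _ _) (dvd_mul_of_dvd_right (sub_dvd_pow_sub_pow _ _ _) _)

section qint

variable (ζ : A)

/-- `1 + ζ + ⋯ + ζ^(n-1)` -/
def q (n : ℕ) : A := ∑ i ∈ range n, ζ ^ i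

lemma q_add (a b : ℕ) : q ζ (a + b) = q ζ a + ζ ^ a * q ζ b := by
  unfold q
  rw [sum_range_add, mul_sum]
  congr 1
  exact sum_congr rfl fun i _ => pow_add ζ a i

variable {p : ℕ} (hζ : q ζ p = 0)

include hζ

lemma zeta_pow : ζ ^ p = 1 := by
  have h := geom_sum_mul ζ p
  have h' : (∑ i ∈ range p, ζ ^ i) = 0 := hζ
  rw [h', zero_mul] at h
  exact (sub_eq_zero.1 h.symm)

lemma q_mul_add (d r : ℕ) : q ζ (p * d + r) = q ζ r := by
  induction d with
  | zero => simp
  | succ d ih =>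
    have : p * (d + 1) + r = p + (p * d + r) := by ring
    rw [this, q_add, hζ, zeta_pow ζ hζ, one_mul, zero_add, ih]

lemma q_mod (n : ℕ) : q ζ (n % p) = q ζ n := by
  conv_rhs => rw [← Nat.div_add_mod n p]
  rw [q_mul_add ζ hζ]

omit hζ in
/-- the `ζ`-integer attached to `m : ZMod p` -/
def qz (m : ZMod p) : A := q ζ m.val

omit hζ in
/-- the character `m ↦ ζ ^ m` -/
def th (m : ZMod p) : A := ζ ^ m.val

variable [Fact p.Prime]

lemma qz_add (m n : ZMod p) : qz ζ (m + n) = qz ζ m + th ζ m * qz ζ n := by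
  unfold qz th
  rw [ZMod.val_add, q_mod ζ hζ, q_add]

lemma th_add (m n : ZMod p) : th ζ (m + n) = th ζ m * th ζ n := by
  unfold th
  rw [ZMod.val_add, ← pow_eq_pow_mod _ (zeta_pow ζ hζ), pow_add]

omit hζ in
lemma th_zero : th ζ (0 : ZMod p) = 1 := by
  unfold th
  rw [ZMod.val_zero, pow_zero]

omit hζ in
lemma qz_zero : qz ζ (0 : ZMod p) = 0 := by
  unfold qz q
  rw [ZMod.val_zero, range_zero, sum_empty]

omit hζ in
lemma qz_one : qz ζ (1 : ZMod p) = 1 := by
  have : Fact (1 < p) := ⟨(Fact.out : p.Prime).one_lt⟩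
  unfold qz q
  rw [ZMod.val_one, sum_range_one, pow_zero]

lemma th_mul_neg (m : ZMod p) : th ζ m * th ζ (-m) = 1 := by
  rw [← th_add ζ hζ, add_neg_cancel, th_zero]

lemma isUnit_th (m : ZMod p) : IsUnit (th ζ m) :=
  IsUnit.of_mul_eq_one _ (th_mul_neg ζ hζ m)

omit [Fact p.Prime] in
lemma th_pow (m : ZMod p) : th ζ m ^ p = 1 := by
  unfold th
  rw [← pow_mul, mul_comm, pow_mul, zeta_pow ζ hζ, one_pow]

lemma th_natCast_mul (n : ℕ) (j : ZMod p) : th ζ ((n : ZMod p) * j) = th ζ j ^ n := by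
  induction n with
  | zero => simp [th_zero]
  | succ n ih =>
    rw [Nat.cast_succ, add_mul, one_mul, th_add ζ hζ, ih, pow_succ]

lemma qz_natCast_mul (n : ℕ) (j : ZMod p) :
    qz ζ ((n : ZMod p) * j) = qz ζ j * ∑ i ∈ range n, th ζ j ^ i := by
  induction n with
  | zero => simp [qz_zero]
  | succ n ih =>
    rw [Nat.cast_succ, add_mul, one_mul, qz_add ζ hζ, ih, th_natCast_mul ζ hζ, sum_range_succ]
    ring

lemma isUnit_qz (j : ZMod p) (hj : j ≠ 0) : IsUnit (qz ζ j) := by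
  have h := qz_natCast_mul ζ hζ (j⁻¹).val j
  have hinv : j⁻¹ * j = 1 := inv_mul_cancel₀ hj
  rw [ZMod.natCast_zmod_val, hinv, qz_one] at h
  exact IsUnit.of_mul_eq_one _ h.symm

lemma qz_sub_qz (m m' : ZMod p) : qz ζ m - qz ζ m' = th ζ m' * qz ζ (m - m') := by
  have h := qz_add ζ hζ m' (m - m')
  rw [add_sub_cancel] at h
  rw [h, add_sub_cancel_left]

lemma isUnit_qz_sub_qz (m m' : ZMod p) (h : m ≠ m') : IsUnit (qz ζ m - qz ζ m') := by
  rw [qz_sub_qz ζ hζ]
  exact (isUnit_th ζ hζ m').mul (isUnit_qz ζ hζ _ (sub_ne_zero.2 h))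

/-- `[m - k] = [-k] + ζ^(-k) [m]` -/
lemma qz_sub (m k : ZMod p) : qz ζ (m - k) = qz ζ (-k) + th ζ (-k) * qz ζ m := by
  rw [← qz_add ζ hζ, neg_add_eq_sub]

end qint

end Groth.Agent.Lib.AICRing39
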