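import Mathlib.Topology.Maps.Basic
import Mathlib.GroupTheory.SpecificGroups.Cyclic
import Mathlib.GroupTheory.Perm.Cycle.Type
import Mathlib.Data.ZMod.QuotientGroup
import Mathlib.GroupTheory.Coset.Card
import Mathlib.Tactic.Abel

/-!
# Differences of locally constant functions: dévissage (helper39)

For a topological space `T`, open subsets `U V` and an abelian group `M`, `Glue U V M` says that
every function locally constant on `U ∩ V` with values in `M` is the difference of a function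
locally constant on `U` and one locally constant on `V`.

* `Glue.of_zmod`: if this holds for all `ZMod p` (`p` prime) it holds for all finite abelian groups;
* `Glue.of_isOpenEmbedding`: transport along an open embedding.
-/

set_option autoImplicit false
universe u v w

namespace Groth.Agent.Lib.AICTop39

variable {T : Type u} [TopologicalSpace T]

/-- `φ` is locally constant on `W` -/
def LC {N : Type*} (W : Set T) (φ : T → N) : Prop := ∀ n, IsOpen (W ∩ φ ⁻¹' {n})

namespace LC

variable {N N' : Type*} {W W' : Set T} {φ φ' : T → N}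

lemma comp (h : LC W φ) (ψ : N → N') : LC W (ψ ∘ φ) := by
  intro n'
  have : W ∩ (ψ ∘ φ) ⁻¹' {n'} = ⋃ n ∈ {n | ψ n = n'}, W ∩ φ ⁻¹' {n} := by
    ext x
    simp only [Set.mem_inter_iff, Set.mem_preimage, Function.comp_apply, Set.mem_singleton_iff,
      Set.mem_iUnion, Set.mem_ofPred_eq, exists_prop]
    constructor
    · rintro ⟨hx, h'⟩
      exact ⟨φ x, h', hx, rfl⟩
    · rintro ⟨n, hn, hx, rfl⟩
      exact ⟨hx, hn⟩
  rw [this]
  exact isOpen_biUnion fun n _ => h n

lemma prod {N₂ : Type*} {φ₂ : T → N₂} (h : LC W φ) (h₂ : LC W φ₂) :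
    LC W (fun x => (φ x, φ₂ x)) := by
  rintro ⟨n, n₂⟩
  have : W ∩ (fun x => (φ x, φ₂ x)) ⁻¹' {(n, n₂)} = (W ∩ φ ⁻¹' {n}) ∩ (W ∩ φ₂ ⁻¹' {n₂}) := by
    ext x
    simp only [Set.mem_inter_iff, Set.mem_preimage, Set.mem_singleton_iff, Prod.mk.injEq]
    tauto
  rw [this]
  exact (h n).inter (h₂ n₂)

lemma mono (h : LC W φ) (hW' : IsOpen W') (hle : W' ⊆ W) : LC W' φ := by
  intro n
  have : W' ∩ φ ⁻¹' {n} = W' ∩ (W ∩ φ ⁻¹' {n}) := by
    ext x
    simp only [Set.mem_inter_iff, Set.mem_preimage, Set.mem_singleton_iff]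
    constructor
    · rintro ⟨hx, h'⟩
      exact ⟨hx, hle hx, h'⟩
    · rintro ⟨hx, -, h'⟩
      exact ⟨hx, h'⟩
  rw [this]
  exact hW'.inter (h n)

lemma congr (h : LC W φ) (heq : ∀ x ∈ W, φ x = φ' x) : LC W φ' := by
  intro n
  have : W ∩ φ' ⁻¹' {n} = W ∩ φ ⁻¹' {n} := by
    ext x
    simp only [Set.mem_inter_iff, Set.mem_preimage, Set.mem_singleton_iff]
    constructor
    · rintro ⟨hx, h'⟩
      exact ⟨hx, (heq x hx).trans h'⟩
    · rintro ⟨hx, h'⟩
      exact ⟨hx, (heq x hx).symm.trans h'⟩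
  rw [this]
  exact h n

lemma const (hW : IsOpen W) (n₀ : N) : LC W (fun _ : T => n₀) := by
  intro n
  by_cases h : n₀ = n
  · have : W ∩ (fun _ : T => n₀) ⁻¹' {n} = W := by
      ext x; simp [h]
    rw [this]; exact hW
  · have : W ∩ (fun _ : T => n₀) ⁻¹' {n} = ∅ := by
      ext x; simp [h]
    rw [this]; exact isOpen_empty

end LC

/-- every `M`-valued function locally constant on `U ∩ V` is a difference of functions locally
constant on `U` and `V` -/
def Glue (U V : Set T) (M : Type*) [AddCommGroup M] : Prop :=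
  ∀ c : T → M, LC (U ∩ V) c → ∃ a b : T → M, LC U a ∧ LC V b ∧ ∀ x ∈ U ∩ V, c x = a x - b x

namespace Glue

variable {U V : Set T}

lemma of_subsingleton (hU : IsOpen U) (hV : IsOpen V) (M : Type*) [AddCommGroup M]
    [Subsingleton M] : Glue U V M := by
  intro c _
  exact ⟨fun _ => 0, fun _ => 0, LC.const hU 0, LC.const hV 0, fun x _ => Subsingleton.elim _ _⟩

lemma of_addEquiv {M M' : Type*} [AddCommGroup M] [AddCommGroup M'] (e : M ≃+ M')
    (h : Glue U V M) : Glue U V M' := by
  intro c hc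
  obtain ⟨a, b, ha, hb, hab⟩ := h (e.symm ∘ c) (hc.comp _)
  refine ⟨e ∘ a, e ∘ b, ha.comp _, hb.comp _, fun x hx => ?_⟩
  have := congrArg e (hab x hx)
  simpa using this

/-- extensions -/
lemma of_extension (hU : IsOpen U) (hV : IsOpen V) {M : Type*} [AddCommGroup M]
    (M' : AddSubgroup M) (h' : Glue U V M') (h'' : Glue U V (M ⧸ M')) : Glue U V M := by
  classical
  intro c hc
  obtain ⟨a₀, b₀, ha₀, hb₀, hab₀⟩ := h'' ((QuotientAddGroup.mk : M → M ⧸ M') ∘ c) (hc.comp _)
  set s : M ⧸ M' → M := fun q => Quotient.out q with hs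
  have hsq : ∀ q : M ⧸ M', (QuotientAddGroup.mk (s q) : M ⧸ M') = q := fun q =>
    QuotientAddGroup.out_eq' q
  set a₁ : T → M := s ∘ a₀ with ha₁
  set b₁ : T → M := s ∘ b₀ with hb₁
  have hla₁ : LC U a₁ := ha₀.comp _
  have hlb₁ : LC V b₁ := hb₀.comp _
  have hUV : IsOpen (U ∩ V) := hU.inter hV
  set d : T → M := fun x => c x - a₁ x + b₁ x with hd
  have hld : LC (U ∩ V) d := by
    have h1 := (hc.prod (hla₁.mono hUV Set.inter_subset_left)).prod
      (hlb₁.mono hUV Set.inter_subset_right)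
    exact h1.comp (fun t : (M × M) × M => t.1.1 - t.1.2 + t.2)
  have hdM : ∀ x ∈ U ∩ V, d x ∈ M' := by
    intro x hx
    rw [← QuotientAddGroup.eq_zero_iff]
    have h1 := hab₀ x hx
    simp only [Function.comp_apply] at h1
    show ((c x - a₁ x + b₁ x : M) : M ⧸ M') = 0
    rw [QuotientAddGroup.mk_add, QuotientAddGroup.mk_sub, h1, ha₁, hb₁]
    simp only [Function.comp_apply, hsq]
    abel
  classical
  set ψ : M → M' := fun m => if h : m ∈ M' then ⟨m, h⟩ else 0 with hψ
  obtain ⟨a₂, b₂, ha₂, hb₂, hab₂⟩ := h' (ψ ∘ d) (hld.comp _)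
  refine ⟨fun x => a₁ x + (a₂ x : M), fun x => b₁ x + (b₂ x : M), ?_, ?_, ?_⟩
  · exact (hla₁.prod ha₂).comp (fun t : M × M' => t.1 + (t.2 : M))
  · exact (hlb₁.prod hb₂).comp (fun t : M × M' => t.1 + (t.2 : M))
  · intro x hx
    have h1 := hab₂ x hx
    have h2 : ((ψ ∘ d) x : M) = d x := by
      simp only [Function.comp_apply, hψ, dif_pos (hdM x hx)]
    have h3 : d x = (a₂ x : M) - (b₂ x : M) := by
      rw [← h2, h1]; simp
    have h4 : c x = d x + a₁ x - b₁ x := by
      show c x = (c x - a₁ x + b₁ x) + a₁ x - b₁ x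
      abel
    show c x = (a₁ x + (a₂ x : M)) - (b₁ x + (b₂ x : M))
    rw [h4, h3]
    abel

/-- dévissage: from `ZMod p` to all finite abelian groups -/
theorem of_zmod (hU : IsOpen U) (hV : IsOpen V)
    (h : ∀ p : ℕ, p.Prime → Glue U V (ZMod p)) :
    ∀ (M : Type v) [AddCommGroup M] [Finite M], Glue U V M := by
  suffices H : ∀ (n : ℕ) (M : Type v) [AddCommGroup M] [Finite M], Nat.card M = n → Glue U V M from
    fun M _ _ => H _ M rfl
  intro n
  induction n using Nat.strong_induction_on with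
  | _ n ih =>
    intro M _ _ hn
    rcases subsingleton_or_nontrivial M with hsub | hnt
    · exact of_subsingleton hU hV M
    have h1 : 1 < Nat.card M := Finite.one_lt_card
    obtain ⟨p, hp, hpd⟩ := Nat.exists_prime_and_dvd (Nat.ne_of_gt h1)
    have : Fact p.Prime := ⟨hp⟩
    obtain ⟨x, hx⟩ := exists_prime_addOrderOf_dvd_card' (G := M) p hpd
    set M' : AddSubgroup M := AddSubgroup.zmultiples x with hM'
    have hcard : Nat.card M' = p := by rw [hM', Nat.card_zmultiples, hx]
    have hcyc : IsAddCyclic M' := inferInstance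
    have hG' : Glue U V M' := by
      have e := zmodAddCyclicAddEquiv hcyc
      rw [hcard] at e
      exact of_addEquiv e (h p hp)
    have hq : Nat.card (M ⧸ M') < n := by
      have h2 := AddSubgroup.card_eq_card_quotient_mul_card_addSubgroup M'
      rw [hcard, hn] at h2
      have hpos : 0 < Nat.card (M ⧸ M') := Nat.card_pos
      rw [h2]
      calc Nat.card (M ⧸ M') = Nat.card (M ⧸ M') * 1 := (mul_one _).symm
        _ < Nat.card (M ⧸ M') * p := Nat.mul_lt_mul_of_pos_left hp.one_lt hpos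
    exact of_extension hU hV M' hG' (ih _ hq (M ⧸ M') rfl)

/-- transport along an open embedding whose range contains `U` and `V` -/
theorem of_isOpenEmbedding {T' : Type w} [TopologicalSpace T'] (ι : T' → T)
    (hι : Topology.IsOpenEmbedding ι) (hUr : U ⊆ Set.range ι) (hVr : V ⊆ Set.range ι)
    (M : Type*) [AddCommGroup M] (h : Glue (ι ⁻¹' U) (ι ⁻¹' V) M) : Glue U V M := by
  intro c hc
  have hc' : LC (ι ⁻¹' U ∩ ι ⁻¹' V) (c ∘ ι) := by
    intro m
    have : ι ⁻¹' U ∩ ι ⁻¹' V ∩ (c ∘ ι) ⁻¹' {m} = ι ⁻¹' (U ∩ V ∩ c ⁻¹' {m}) := by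
      ext x; simp
    rw [this]
    exact (hc m).preimage hι.continuous
  obtain ⟨a', b', ha', hb', hab'⟩ := h (c ∘ ι) hc'
  have key : ∀ (W : Set T) (hW : W ⊆ Set.range ι) (φ : T' → M), LC (ι ⁻¹' W) φ →
      LC W (Function.extend ι φ 0) := by
    intro W hW φ hφ m
    have : W ∩ (Function.extend ι φ 0) ⁻¹' {m} = ι '' (ι ⁻¹' W ∩ φ ⁻¹' {m}) := by
      ext x
      constructor
      · rintro ⟨hx, hxm⟩
        obtain ⟨y, rfl⟩ := hW hx
        refine ⟨y, ⟨hx, ?_⟩, rfl⟩
        have : Function.extend ι φ 0 (ι y) = m := hxm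
        rw [hι.injective.extend_apply] at this
        exact this
      · rintro ⟨y, ⟨hy, hym⟩, rfl⟩
        refine ⟨hy, ?_⟩
        show Function.extend ι φ 0 (ι y) = m
        rw [hι.injective.extend_apply]
        exact hym
    rw [this]
    exact hι.isOpenMap _ (hφ m)
  refine ⟨Function.extend ι a' 0, Function.extend ι b' 0, key U hUr a' ha', key V hVr b' hb', ?_⟩
  intro x hx
  obtain ⟨y, rfl⟩ := hUr hx.1
  rw [hι.injective.extend_apply, hι.injective.extend_apply]
  exact hab' y hx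

end Glue

end Groth.Agent.Lib.AICTop39
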