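import Groth.Agent.Lib.AICGlue39
import Groth.Agent.Lib.AICLocal39
import Groth.Agent.Lib.AICTop39
import Mathlib.RingTheory.Localization.Away.Basic

/-!
# Gluing locally constant functions on the spectrum of an absolutely integrally closed ring
(helper39)

`glue_of_isAIC`: for `R` absolutely integrally closed, `f g : R` and a finite abelian group `M`,
every `M`-valued function locally constant on `D(f(f+g)) ∩ D(g(f+g))` is the difference of a
function locally constant on `D(f(f+g))` and one locally constant on `D(g(f+g))`.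
-/

set_option autoImplicit false
universe u v

namespace Groth.Agent.Lib.AICSpecGlue39

open Groth.Agent.Lib.AICRing39 Groth.Agent.Lib.AICLocal39 Groth.Agent.Lib.AICTop39 PrimeSpectrum

section pick

variable {T : Type*} {ι : Type*} [Zero ι] (S : ι → Set T)

open Classical in
/-- the index of the member of a disjoint family containing `x` -/
noncomputable def pick (x : T) : ι := if h : ∃ m, x ∈ S m then h.choose else 0

lemma pick_eq (hS : ∀ m m' x, x ∈ S m → x ∈ S m' → m = m') (x : T) (m : ι) (hx : x ∈ S m) :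
    pick S x = m := by
  have h : ∃ m, x ∈ S m := ⟨m, hx⟩
  unfold pick
  rw [dif_pos h]
  exact hS _ _ x h.choose_spec hx

lemma mem_pick (x : T) (h : ∃ m, x ∈ S m) : x ∈ S (pick S x) := by
  unfold pick
  rw [dif_pos h]
  exact h.choose_spec

end pick

variable {A : Type u} [CommRing A]

/-- the case `f + g = 1`, `M = ZMod p` -/
theorem glue_zmod_of_add_eq_one (hA : Curves.IsAIC A) (p : ℕ) [Fact p.Prime] (f g : A)
    (hfg : f + g = 1) :
    Glue {x : PrimeSpectrum A | f ∉ x.asIdeal} {x : PrimeSpectrum A | g ∉ x.asIdeal} (ZMod p) := by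
  intro c hc
  obtain ⟨Sa, Sb, hSao, hSbo, hSac, hSbc, hSaf, hSbg, hSad, hSbd, hcompat⟩ :=
    exists_glue_zmod hA p f g hfg
      (fun k => ({x : PrimeSpectrum A | f ∉ x.asIdeal} ∩ {x : PrimeSpectrum A | g ∉ x.asIdeal}) ∩
        c ⁻¹' {k}) hc
      (fun k k' x hx hx' => hx.2.symm.trans hx'.2)
      (fun x => by
        constructor
        · rintro ⟨k, ⟨hf, hg⟩, -⟩ hfg'
          exact (x.isPrime.mem_or_mem hfg').elim hf hg
        · intro h
          exact ⟨c x, ⟨fun hf => h (x.asIdeal.mul_mem_right _ hf),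
            fun hg => h (x.asIdeal.mul_mem_left _ hg)⟩, rfl⟩)
  refine ⟨pick Sa, pick Sb, ?_, ?_, ?_⟩
  · intro m
    have : {x : PrimeSpectrum A | f ∉ x.asIdeal} ∩ pick Sa ⁻¹' {m} = Sa m := by
      ext x
      constructor
      · rintro ⟨hx, hm⟩
        have h1 := mem_pick Sa x (hSac x hx)
        rw [show pick Sa x = m from hm] at h1
        exact h1
      · intro hx
        exact ⟨hSaf m x hx, pick_eq Sa hSad x m hx⟩
    rw [this]
    exact hSao m
  · intro m
    have : {x : PrimeSpectrum A | g ∉ x.asIdeal} ∩ pick Sb ⁻¹' {m} = Sb m := by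
      ext x
      constructor
      · rintro ⟨hx, hm⟩
        have h1 := mem_pick Sb x (hSbc x hx)
        rw [show pick Sb x = m from hm] at h1
        exact h1
      · intro hx
        exact ⟨hSbg m x hx, pick_eq Sb hSbd x m hx⟩
    rw [this]
    exact hSbo m
  · rintro x ⟨hf, hg⟩
    have h1 := mem_pick Sa x (hSac x hf)
    have h2 := hcompat (c x) (pick Sa x) x ⟨⟨hf, hg⟩, rfl⟩ h1
    rw [pick_eq Sb hSbd x _ h2]
    ring

/-- **Gluing on the spectrum of an absolutely integrally closed ring.** -/
theorem glue_of_isAIC {R : Type u} [CommRing R] (hR : Curves.IsAIC R) (f g : R)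
    (M : Type v) [AddCommGroup M] [Finite M] :
    Glue {x : PrimeSpectrum R | f * (f + g) ∉ x.asIdeal}
      {x : PrimeSpectrum R | g * (f + g) ∉ x.asIdeal} M := by
  have hopen : ∀ a : R, IsOpen {x : PrimeSpectrum R | a ∉ x.asIdeal} := fun a =>
    (basicOpen a).isOpen
  refine Glue.of_zmod (hopen _) (hopen _) (fun p hp => ?_) M
  have : Fact p.Prime := ⟨hp⟩
  set s := f + g with hs
  let A := Localization.Away s
  have hA : Curves.IsAIC A := isAIC_of_isLocalization hR (Submonoid.powers s) A
  have hsu : IsUnit (algebraMap R A s) := IsLocalization.Away.algebraMap_isUnit s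
  obtain ⟨t, ht⟩ := hsu.exists_left_inv
  have htu : IsUnit t := IsUnit.of_mul_eq_one _ ht
  have hrange : Set.range (comap (algebraMap R A)) = {x : PrimeSpectrum R | s ∉ x.asIdeal} := by
    rw [localization_away_comap_range A s]
    rfl
  refine Glue.of_isOpenEmbedding (comap (algebraMap R A)) (localization_away_isOpenEmbedding A s)
    ?_ ?_ (ZMod p) ?_
  · rw [hrange]
    intro x hx hs'
    exact hx (x.asIdeal.mul_mem_left _ hs')
  · rw [hrange]
    intro x hx hs'
    exact hx (x.asIdeal.mul_mem_left _ hs')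
  · have key : ∀ a : R, comap (algebraMap R A) ⁻¹' {x : PrimeSpectrum R | a * s ∉ x.asIdeal} =
        {y : PrimeSpectrum A | algebraMap R A a * t ∉ y.asIdeal} := by
      intro a
      ext y
      show algebraMap R A (a * s) ∉ y.asIdeal ↔ algebraMap R A a * t ∉ y.asIdeal
      rw [map_mul, Ideal.mul_unit_mem_iff_mem _ hsu, Ideal.mul_unit_mem_iff_mem _ htu]
    rw [key f, key g]
    apply glue_zmod_of_add_eq_one hA p
    rw [← add_mul, ← map_add, mul_comm, ht]

end Groth.Agent.Lib.AICSpecGlue39
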