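import Mathlib
import Groth.Prelude.Def_Magnet2

/-!
# Points of the diagonalizable monoid scheme `A(M)_S` as characters (helper27)

For `T : Over S` and `x : T ⟶ AMonS S M`, `fn x m : Γ(T.left, ⊤)` is the value of the character `m`
at the point `x`.  `fn` is injective in `x`, multiplicative for the monoid structure on points
(`fn_mul`, `fn_one`, `fn_pow`), additive in `m` (`fn_add`, `fn_zero`), natural in `T` (`fn_comp`) and in
`M` (`fn_map`); every monoid homomorphism `Multiplicative M →* Γ(T.left, ⊤)` is `fn` of a unique point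
(`ofChar`, `fn_ofChar`).
-/

set_option autoImplicit false
universe u

open CategoryTheory CategoryTheory.Limits AlgebraicGeometry MonoidalCategory
  CartesianMonoidalCategory Magnet Opposite MonObj

namespace Groth.Agent.Lib.AMonPts27

variable (S : Scheme.{u}) (M : Type) [AddCommMonoid M]

/-- the base ring `ℤ` lifted to universe `u`. -/
abbrev R₀ : Type u := ULift.{u} ℤ

/-- the monoid algebra `ℤ[M]`. -/
abbrev H : Type u := MonoidAlgebra R₀.{u} (Multiplicative M)

/-- the structure map `S ⟶ Spec ℤ`. -/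
noncomputable abbrev tS : S ⟶ Spec (CommRingCat.of R₀.{u}) := IsTerminal.from specULiftZIsTerminal S

/-- The projection `A(M)_S ⟶ Spec ℤ[M]`. -/
noncomputable def proj : (AMonS S M).left ⟶ (AMon R₀.{u} M).left :=
  pullback.fst (AMon R₀.{u} M).hom (tS S)

/-- The universal character: the global function `X^m` on `Spec ℤ[M]`. -/
noncomputable def c (m : M) : Γ((AMon R₀.{u} M).left, ⊤) :=
  (Scheme.ΓSpecIso (CommRingCat.of (H.{u} M))).inv
    (MonoidAlgebra.of R₀.{u} (Multiplicative M) (Multiplicative.ofAdd m))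

/-- The character `m` as a global function on `A(M)_S`. -/
noncomputable def chi (m : M) : Γ((AMonS S M).left, ⊤) := (proj S M).appTop (c M m)

theorem SpecMap_appTop_ΓSpecIso_inv {R R' : CommRingCat.{u}} (ψ : R ⟶ R') (h : R) :
    (Spec.map ψ).appTop ((Scheme.ΓSpecIso R).inv h) = (Scheme.ΓSpecIso R').inv (ψ h) := by
  have := Scheme.ΓSpecIso_inv_naturality ψ
  exact (congrArg (fun k => k.hom h) this).symm

theorem appTop_key {P : Scheme.{u}} {R R' : CommRingCat.{u}} (k : P ⟶ Spec R) (e : P ⟶ Spec R')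
    (ψ : R ⟶ R') (hk : k = e ≫ Spec.map ψ) (h : R) :
    k.appTop ((Scheme.ΓSpecIso R).inv h) = e.appTop ((Scheme.ΓSpecIso R').inv (ψ h)) := by
  subst hk
  rw [Scheme.Hom.comp_appTop, CommRingCat.comp_apply, SpecMap_appTop_ΓSpecIso_inv]

/-- the comparison `(A ⊗ A).left ≅ Spec (ℤ[M] ⊗ ℤ[M])`. -/
noncomputable def e2 : (AMon R₀.{u} M ⊗ AMon R₀.{u} M).left ⟶
    Spec (CommRingCat.of (TensorProduct R₀.{u} (H.{u} M) (H.{u} M))) :=
  (pullbackSpecIso R₀.{u} (H.{u} M) (H.{u} M)).hom

theorem fst_left_eq :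
    (fst (AMon R₀.{u} M) (AMon R₀.{u} M)).left =
      e2 M ≫ Spec.map (CommRingCat.ofHom Algebra.TensorProduct.includeLeftRingHom) :=
  (pullbackSpecIso_hom_fst R₀.{u} (H.{u} M) (H.{u} M)).symm

theorem snd_left_eq :
    (snd (AMon R₀.{u} M) (AMon R₀.{u} M)).left =
      e2 M ≫ Spec.map (CommRingCat.ofHom (RingHomClass.toRingHom
          (Algebra.TensorProduct.includeRight (R := R₀.{u}) (A := H.{u} M) (B := H.{u} M)))) :=
  (pullbackSpecIso_hom_snd R₀.{u} (H.{u} M) (H.{u} M)).symm

theorem mul_left_eq :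
    μ[AMon R₀.{u} M].left =
      e2 M ≫ Spec.map (CommRingCat.ofHom (RingHomClass.toRingHom
        (Bialgebra.comulAlgHom R₀.{u} (H.{u} M)))) := rfl

theorem mul_left_appTop_c (m : M) :
    μ[AMon R₀.{u} M].left.appTop (c M m) =
      (fst (AMon R₀.{u} M) (AMon R₀.{u} M)).left.appTop (c M m) *
        (snd (AMon R₀.{u} M) (AMon R₀.{u} M)).left.appTop (c M m) := by
  have h1 := appTop_key _ (e2 M) _ (mul_left_eq M)
    (MonoidAlgebra.of R₀.{u} (Multiplicative M) (Multiplicative.ofAdd m))
  have h2 := appTop_key _ (e2 M) _ (fst_left_eq M)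
    (MonoidAlgebra.of R₀.{u} (Multiplicative M) (Multiplicative.ofAdd m))
  have h3 := appTop_key _ (e2 M) _ (snd_left_eq M)
    (MonoidAlgebra.of R₀.{u} (Multiplicative M) (Multiplicative.ofAdd m))
  refine h1.trans (Eq.trans ?_ (congrArg₂ (· * ·) h2 h3).symm)
  rw [← map_mul, ← map_mul]
  congr 2
  simp [MonoidAlgebra.of_apply]

theorem one_left_appTop_c (m : M) : η[AMon R₀.{u} M].left.appTop (c M m) = 1 := by
  have hk : η[AMon R₀.{u} M].left =
      𝟙 (Spec (CommRingCat.of R₀.{u})) ≫ Spec.map (CommRingCat.ofHom (RingHomClass.toRingHom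
        (Bialgebra.counitAlgHom R₀.{u} (H.{u} M)))) := by
    rw [Category.id_comp]; rfl
  have h1 := appTop_key _ _ _ hk
    (MonoidAlgebra.of R₀.{u} (Multiplicative M) (Multiplicative.ofAdd m))
  refine h1.trans ?_
  have : (CommRingCat.ofHom (RingHomClass.toRingHom (Bialgebra.counitAlgHom R₀.{u} (H.{u} M))))
      (MonoidAlgebra.of R₀.{u} (Multiplicative M) (Multiplicative.ofAdd m)) = 1 := by
    simp [MonoidAlgebra.of_apply]
  rw [this, map_one, map_one]

open scoped Obj

/-- the comparison `(A(M)_S ⊗ A(M)_S).left ⟶ (A(M)_ℤ ⊗ A(M)_ℤ).left`. -/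
noncomputable def q2 : (AMonS S M ⊗ AMonS S M).left ⟶ (AMon R₀.{u} M ⊗ AMon R₀.{u} M).left :=
  (Functor.LaxMonoidal.μ (Over.pullback (tS S)) (AMon R₀.{u} M) (AMon R₀.{u} M)).left ≫
    pullback.fst (AMon R₀.{u} M ⊗ AMon R₀.{u} M).hom (tS S)

theorem pullback_map_left_fst' {T T' : Scheme.{u}} (q : T' ⟶ T) {A B : Over T} (k : A ⟶ B) :
    ((Over.pullback q).map k).left ≫ pullback.fst B.hom q = pullback.fst A.hom q ≫ k.left := by
  dsimp only [Over.pullback]; exact pullback.lift_fst _ _ _

theorem mul_left_proj : μ[AMonS S M].left ≫ proj S M = q2 S M ≫ μ[AMon R₀.{u} M].left := by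
  have h : μ[AMonS S M] = Functor.LaxMonoidal.μ (Over.pullback (tS S)) (AMon R₀.{u} M) (AMon R₀.{u} M) ≫
      (Over.pullback (tS S)).map μ[AMon R₀.{u} M] := Functor.obj.μ_def _
  rw [h, Over.comp_left, Category.assoc]
  unfold proj q2
  rw [pullback_map_left_fst', Category.assoc]

theorem fst_left_proj :
    (fst (AMonS S M) (AMonS S M)).left ≫ proj S M = q2 S M ≫ (fst (AMon R₀.{u} M) (AMon R₀.{u} M)).left := by
  have h := Functor.Monoidal.μ_fst (Over.pullback (tS S)) (AMon R₀.{u} M) (AMon R₀.{u} M)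
  have h' := congrArg (fun k => k.left ≫ pullback.fst (AMon R₀.{u} M).hom (tS S)) h
  simp only [Over.comp_left, Category.assoc] at h'
  rw [pullback_map_left_fst'] at h'
  unfold proj q2
  rw [Category.assoc]
  exact h'.symm

theorem snd_left_proj :
    (snd (AMonS S M) (AMonS S M)).left ≫ proj S M = q2 S M ≫ (snd (AMon R₀.{u} M) (AMon R₀.{u} M)).left := by
  have h := Functor.Monoidal.μ_snd (Over.pullback (tS S)) (AMon R₀.{u} M) (AMon R₀.{u} M)
  have h' := congrArg (fun k => k.left ≫ pullback.fst (AMon R₀.{u} M).hom (tS S)) h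
  simp only [Over.comp_left, Category.assoc] at h'
  rw [pullback_map_left_fst'] at h'
  unfold proj q2
  rw [Category.assoc]
  exact h'.symm

theorem appTop_chi_eq {P : Scheme.{u}} (k : P ⟶ (AMonS S M).left) (m : M) :
    k.appTop (chi S M m) = (k ≫ proj S M).appTop (c M m) := by
  unfold chi
  rw [Scheme.Hom.comp_appTop, CommRingCat.comp_apply]

theorem mul_left_appTop_chi (m : M) :
    μ[AMonS S M].left.appTop (chi S M m) =
      (fst (AMonS S M) (AMonS S M)).left.appTop (chi S M m) *
        (snd (AMonS S M) (AMonS S M)).left.appTop (chi S M m) := by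
  rw [appTop_chi_eq, appTop_chi_eq, appTop_chi_eq, mul_left_proj, fst_left_proj, snd_left_proj,
    Scheme.Hom.comp_appTop, Scheme.Hom.comp_appTop, Scheme.Hom.comp_appTop, CommRingCat.comp_apply,
    CommRingCat.comp_apply, CommRingCat.comp_apply, mul_left_appTop_c, map_mul]

theorem one_left_appTop_chi (m : M) : η[AMonS S M].left.appTop (chi S M m) = 1 := by
  have h : η[AMonS S M] = Functor.LaxMonoidal.ε (Over.pullback (tS S)) ≫
      (Over.pullback (tS S)).map η[AMon R₀.{u} M] := Functor.obj.η_def _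
  have h2 : η[AMonS S M].left ≫ proj S M =
      ((Functor.LaxMonoidal.ε (Over.pullback (tS S))).left ≫
        pullback.fst (𝟙_ (Over (Spec (CommRingCat.of R₀.{u})))).hom (tS S)) ≫ η[AMon R₀.{u} M].left := by
    rw [h, Over.comp_left, Category.assoc]
    unfold proj
    rw [pullback_map_left_fst', Category.assoc]
  rw [appTop_chi_eq, h2, Scheme.Hom.comp_appTop, CommRingCat.comp_apply, one_left_appTop_c, map_one]

variable {S M}

/-- The value of the character `m` at the `T`-point `x`. -/
noncomputable def fn {T : Over S} (x : T ⟶ AMonS S M) (m : M) : Γ(T.left, ⊤) :=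
  x.left.appTop (chi S M m)

theorem fn_comp {T T' : Over S} (g : T' ⟶ T) (x : T ⟶ AMonS S M) (m : M) :
    fn (g ≫ x) m = g.left.appTop (fn x m) := by
  unfold fn
  rw [Over.comp_left, Scheme.Hom.comp_appTop]
  rfl

theorem fn_mul {T : Over S} (x y : T ⟶ AMonS S M) (m : M) : fn (x * y) m = fn x m * fn y m := by
  rw [Hom.mul_def, fn_comp]
  unfold fn
  rw [mul_left_appTop_chi, map_mul]
  have h1 : (lift x y).left.appTop ((fst (AMonS S M) (AMonS S M)).left.appTop (chi S M m)) =
      (lift x y ≫ fst (AMonS S M) (AMonS S M)).left.appTop (chi S M m) := by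
    rw [Over.comp_left, Scheme.Hom.comp_appTop]; rfl
  have h2 : (lift x y).left.appTop ((snd (AMonS S M) (AMonS S M)).left.appTop (chi S M m)) =
      (lift x y ≫ snd (AMonS S M) (AMonS S M)).left.appTop (chi S M m) := by
    rw [Over.comp_left, Scheme.Hom.comp_appTop]; rfl
  rw [h1, h2, lift_fst, lift_snd]

theorem fn_one {T : Over S} (m : M) : fn (1 : T ⟶ AMonS S M) m = 1 := by
  rw [Hom.one_def, fn_comp]
  unfold fn
  rw [one_left_appTop_chi, map_one]

theorem fn_pow {T : Over S} (x : T ⟶ AMonS S M) (k : ℕ) (m : M) : fn (x ^ k) m = fn x m ^ k := by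
  induction k with
  | zero => rw [pow_zero, pow_zero, fn_one]
  | succ k ih => rw [pow_succ, pow_succ, fn_mul, ih]

theorem c_add (m m' : M) : c.{u} M (m + m') = c.{u} M m * c.{u} M m' := by
  have : (Scheme.ΓSpecIso (CommRingCat.of (H.{u} M))).inv
      (MonoidAlgebra.of R₀.{u} (Multiplicative M) (Multiplicative.ofAdd (m + m'))) =
      (Scheme.ΓSpecIso (CommRingCat.of (H.{u} M))).inv
        (MonoidAlgebra.of R₀.{u} (Multiplicative M) (Multiplicative.ofAdd m)) *
      (Scheme.ΓSpecIso (CommRingCat.of (H.{u} M))).inv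
        (MonoidAlgebra.of R₀.{u} (Multiplicative M) (Multiplicative.ofAdd m')) := by
    rw [ofAdd_add, map_mul, map_mul]
  exact this

theorem c_zero : c.{u} M 0 = 1 := by
  have : (Scheme.ΓSpecIso (CommRingCat.of (H.{u} M))).inv
      (MonoidAlgebra.of R₀.{u} (Multiplicative M) (Multiplicative.ofAdd (0 : M))) = 1 := by
    rw [ofAdd_zero, map_one, map_one]
  exact this

theorem chi_add (m m' : M) : chi S M (m + m') = chi S M m * chi S M m' := by
  unfold chi
  rw [c_add, map_mul]

theorem chi_zero : chi S M 0 = 1 := by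
  unfold chi
  rw [c_zero, map_one]

theorem fn_add {T : Over S} (x : T ⟶ AMonS S M) (m m' : M) : fn x (m + m') = fn x m * fn x m' := by
  unfold fn; rw [chi_add, map_mul]

theorem fn_zero {T : Over S} (x : T ⟶ AMonS S M) : fn x 0 = 1 := by
  unfold fn; rw [chi_zero, map_one]

/-- `fn x` as a monoid homomorphism. -/
noncomputable def fnHom {T : Over S} (x : T ⟶ AMonS S M) : Multiplicative M →* Γ(T.left, ⊤) where
  toFun m := fn x m.toAdd
  map_one' := fn_zero x
  map_mul' m m' := fn_add x _ _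

/-- ring homomorphisms out of `ULift ℤ` are unique. -/
theorem ringHom_ulift_int_ext {R : Type*} [Semiring R] (f g : R₀.{u} →+* R) : f = g := by
  have h : f.comp (ULift.ringEquiv.symm : ℤ ≃+* R₀.{u}).toRingHom =
      g.comp (ULift.ringEquiv.symm : ℤ ≃+* R₀.{u}).toRingHom := RingHom.ext_int _ _
  ext r
  obtain ⟨n⟩ := r
  exact congrArg (fun k => k n) h

theorem fn_injective {T : Over S} {x y : T ⟶ AMonS S M} (h : ∀ m, fn x m = fn y m) : x = y := by
  apply Over.OverMorphism.ext
  apply pullback.hom_ext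
  · -- morphisms to the affine scheme `Spec ℤ[M]`
    have : IsAffine (AMon R₀.{u} M).left := inferInstanceAs (IsAffine (Spec (CommRingCat.of (H.{u} M))))
    apply ext_of_isAffine
    apply (cancel_epi (Scheme.ΓSpecIso (CommRingCat.of (H.{u} M))).inv).mp
    apply CommRingCat.hom_ext
    apply MonoidAlgebra.ringHom_ext
    · intro r
      have := ringHom_ulift_int_ext
        (((Scheme.ΓSpecIso (CommRingCat.of (H.{u} M))).inv ≫
          (x.left ≫ pullback.fst (AMon R₀.{u} M).hom (tS S)).appTop).hom.comp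
            (MonoidAlgebra.singleOneRingHom))
        (((Scheme.ΓSpecIso (CommRingCat.of (H.{u} M))).inv ≫
          (y.left ≫ pullback.fst (AMon R₀.{u} M).hom (tS S)).appTop).hom.comp
            (MonoidAlgebra.singleOneRingHom))
      exact congrArg (fun k => k r) this
    · intro m
      have := h m.toAdd
      unfold fn chi c proj at this
      simp only [CommRingCat.hom_comp, RingHom.coe_comp, Function.comp_apply, Scheme.Hom.comp_appTop]
      exact this
  · rw [← Over.pullback_obj_hom, Over.w x, Over.w y]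

/-- the ring hom `ℤ[M] → Γ(T)` attached to a character. -/
noncomputable def charRingHom {T : Over S} (φ : Multiplicative M →* Γ(T.left, ⊤)) :
    H.{u} M →+* Γ(T.left, ⊤) :=
  MonoidAlgebra.liftNCRingHom
    ((Int.castRingHom Γ(T.left, ⊤)).comp (ULift.ringEquiv : R₀.{u} ≃+* ℤ).toRingHom) φ
    (fun _ _ => Commute.all _ _)

theorem charRingHom_of {T : Over S} (φ : Multiplicative M →* Γ(T.left, ⊤)) (m : Multiplicative M) :
    charRingHom φ (MonoidAlgebra.of R₀.{u} (Multiplicative M) m) = φ m := by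
  unfold charRingHom
  simp [MonoidAlgebra.of_apply, MonoidAlgebra.liftNCRingHom]

/-- the scheme map `T ⟶ Spec ℤ[M]` attached to a character. -/
noncomputable def charMap {T : Over S} (φ : Multiplicative M →* Γ(T.left, ⊤)) :
    T.left ⟶ (AMon R₀.{u} M).left :=
  T.left.toSpecΓ ≫ Spec.map (CommRingCat.ofHom (charRingHom φ))

/-- The point of `A(M)_S` attached to a character `φ : M → Γ(T)`. -/
noncomputable def ofChar {T : Over S} (φ : Multiplicative M →* Γ(T.left, ⊤)) : T ⟶ AMonS S M :=
  Over.homMk (pullback.lift (charMap φ) T.hom (specULiftZIsTerminal.hom_ext _ _)) (by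
    exact pullback.lift_snd _ _ _)

theorem ofChar_left_proj {T : Over S} (φ : Multiplicative M →* Γ(T.left, ⊤)) :
    (ofChar φ).left ≫ proj S M = charMap φ := by
  unfold ofChar proj
  exact pullback.lift_fst _ _ _

theorem fn_ofChar {T : Over S} (φ : Multiplicative M →* Γ(T.left, ⊤)) (m : M) :
    fn (ofChar φ) m = φ (Multiplicative.ofAdd m) := by
  unfold fn
  rw [appTop_chi_eq, ofChar_left_proj]
  unfold charMap c
  have h := appTop_key (T.left.toSpecΓ ≫ Spec.map (CommRingCat.ofHom (charRingHom φ)))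
    T.left.toSpecΓ (CommRingCat.ofHom (charRingHom φ)) rfl
    (MonoidAlgebra.of R₀.{u} (Multiplicative M) (Multiplicative.ofAdd m))
  refine h.trans ?_
  rw [Scheme.toSpecΓ_appTop]
  have h2 : ∀ z : Γ(T.left, ⊤), (Scheme.ΓSpecIso Γ(T.left, ⊤)).hom ((Scheme.ΓSpecIso Γ(T.left, ⊤)).inv z) = z :=
    fun z => Iso.inv_hom_id_apply (C := CommRingCat) _ _
  rw [h2]
  exact charRingHom_of φ _

variable {N : Type} [AddCommMonoid N]

theorem map_left_proj (f : N →+ M) :
    (AMonS.map S f).left ≫ proj S N = proj S M ≫ (AMon.map R₀.{u} f).left := by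
  unfold proj AMonS.map
  exact pullback_map_left_fst' _ _

theorem map_left_appTop_c (f : N →+ M) (n : N) :
    (AMon.map R₀.{u} f).left.appTop (c N n) = c M (f n) := by
  have hk : (AMon.map R₀.{u} f).left = 𝟙 _ ≫ Spec.map (CommRingCat.ofHom
      (MonoidAlgebra.mapDomainBialgHom R₀.{u} (AddMonoidHom.toMultiplicative f)).toAlgHom.toRingHom) := by
    rw [Category.id_comp]; rfl
  have h1 := appTop_key _ _ _ hk
    (MonoidAlgebra.of R₀.{u} (Multiplicative N) (Multiplicative.ofAdd n))
  refine h1.trans ?_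
  have : (CommRingCat.ofHom
      (MonoidAlgebra.mapDomainBialgHom R₀.{u} (AddMonoidHom.toMultiplicative f)).toAlgHom.toRingHom)
      (MonoidAlgebra.of R₀.{u} (Multiplicative N) (Multiplicative.ofAdd n)) =
      MonoidAlgebra.of R₀.{u} (Multiplicative M) (Multiplicative.ofAdd (f n)) := by
    simp [MonoidAlgebra.of_apply]
  rw [this]
  exact congrArg _ rfl

theorem map_left_appTop_chi (f : N →+ M) (n : N) :
    (AMonS.map S f).left.appTop (chi S N n) = chi S M (f n) := by
  rw [appTop_chi_eq, map_left_proj, Scheme.Hom.comp_appTop, CommRingCat.comp_apply, map_left_appTop_c]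
  rfl

theorem fn_map {T : Over S} (x : T ⟶ AMonS S M) (f : N →+ M) (n : N) :
    fn (x ≫ AMonS.map S f) n = fn x (f n) := by
  unfold fn
  rw [Over.comp_left, Scheme.Hom.comp_appTop, CommRingCat.comp_apply, map_left_appTop_chi]


/-! ### the affine line  and  -/

/-- the monoid `ℕ` as the submonoid of multiples of `1` in `ℤ`. -/
abbrev NN : AddSubmonoid ℤ := AddSubmonoid.multiples (1 : ℤ)

/-- the generator of `NN`. -/
def gen : NN := ⟨1, AddSubmonoid.mem_multiples 1⟩

/-- the degree of an element of `NN`. -/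
def deg : NN →+ ℕ where
  toFun z := z.1.toNat
  map_zero' := rfl
  map_add' z z' := by
    obtain ⟨z, n, rfl⟩ := z
    obtain ⟨z', n', rfl⟩ := z'
    simp
    omega

theorem deg_smul_gen (z : NN) : deg z • gen = z := by
  obtain ⟨z, n, rfl⟩ := z
  apply Subtype.ext
  simp [deg, gen]

theorem deg_gen : deg gen = 1 := rfl

/-- two points of `A(ℕ)_S` with the same coordinate are equal. -/
theorem ext_gen {T : Over S} {x y : T ⟶ AMonS S NN} (h : fn x gen = fn y gen) : x = y := by
  apply fn_injective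
  intro m
  rw [← deg_smul_gen m]
  generalize deg m = k
  induction k with
  | zero => rw [zero_smul, fn_zero, fn_zero]
  | succ k ih => rw [succ_nsmul, fn_add, fn_add, ih, h]

/-- the point of `A(ℕ)_S` with coordinate `r`. -/
noncomputable def ofElem {T : Over S} (r : Γ(T.left, ⊤)) : T ⟶ AMonS S NN :=
  ofChar ((powersHom Γ(T.left, ⊤) r).comp (AddMonoidHom.toMultiplicative deg))

theorem fn_ofElem {T : Over S} (r : Γ(T.left, ⊤)) : fn (ofElem (S := S) r) gen = r := by
  unfold ofElem
  rw [fn_ofChar]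
  simp [deg_gen]

/-- the point of `G_m = A(ℤ)_S` with coordinate the unit `r`. -/
noncomputable def ofUnit {T : Over S} (r : Γ(T.left, ⊤)ˣ) : T ⟶ AMonS S ℤ :=
  ofChar ((Units.coeHom Γ(T.left, ⊤)).comp (zpowersHom Γ(T.left, ⊤)ˣ r))

theorem fn_ofUnit {T : Over S} (r : Γ(T.left, ⊤)ˣ) : fn (ofUnit (S := S) r) (1 : ℤ) = r := by
  unfold ofUnit
  rw [fn_ofChar]
  simp

/-- the coordinate of `j(x)` for `j : G_m → A¹`. -/
theorem fn_map_subtype_gen {T : Over S} (x : T ⟶ AMonS S ℤ) :
    fn (x ≫ AMonS.map S NN.subtype) gen = fn x (1 : ℤ) := by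
  rw [fn_map]; rfl


end Groth.Agent.Lib.AMonPts27
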