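import Groth.Agent.Lib.ARSysQuot

/-!
Building morphisms and quotient systems of projective systems (`ARSys`); translated systems.
-/

namespace Groth.Agent.Lib.ARSysShift

open CategoryTheory CategoryTheory.Limits Opposite ARSys Groth.Agent.Lib.ARSysBasic
  Groth.Agent.Lib.ARSysExact Groth.Agent.Lib.ARSysQuot

universe w v u

section General

variable {C : Type u} [Category.{v} C]

/-- A morphism of projective systems from components indexed by `ℕ`. -/
def mkHom {X Y : ARSys.PS C} (f : ∀ n : ℕ, X.obj (op n) ⟶ Y.obj (op n))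
    (hf : ∀ (n m : ℕ) (h : n ≤ m), tr X h ≫ f n = f m ≫ tr Y h) : X ⟶ Y where
  app a := f a.unop
  naturality a b φ := hf b.unop a.unop (leOfHom φ.unop)

@[simp]
theorem mkHom_app {X Y : ARSys.PS C} (f : ∀ n : ℕ, X.obj (op n) ⟶ Y.obj (op n))
    (hf : ∀ (n m : ℕ) (h : n ≤ m), tr X h ≫ f n = f m ≫ tr Y h) (n : ℕ) :
    (mkHom f hf).app (op n) = f n := rfl

/-- A projective system from objects and transition maps indexed by `ℕ`. -/
def mkSys (Q : ℕ → C) (τ : ∀ (n m : ℕ), n ≤ m → (Q m ⟶ Q n))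
    (hid : ∀ n, τ n n le_rfl = 𝟙 (Q n))
    (hcomp : ∀ (n m k : ℕ) (h₁ : n ≤ m) (h₂ : m ≤ k), τ m k h₂ ≫ τ n m h₁ = τ n k (h₁.trans h₂)) :
    ARSys.PS C where
  obj a := Q a.unop
  map {a b} φ := τ b.unop a.unop (leOfHom φ.unop)
  map_id a := hid a.unop
  map_comp {a b c} φ ψ := (hcomp c.unop b.unop a.unop (leOfHom ψ.unop) (leOfHom φ.unop)).symm

@[simp]
theorem mkSys_obj (Q : ℕ → C) (τ : ∀ (n m : ℕ), n ≤ m → (Q m ⟶ Q n)) (hid) (hcomp) (n : ℕ) :
    (mkSys Q τ hid hcomp).obj (op n) = Q n := rfl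

theorem tr_mkSys (Q : ℕ → C) (τ : ∀ (n m : ℕ), n ≤ m → (Q m ⟶ Q n)) (hid) (hcomp) {n m : ℕ}
    (h : n ≤ m) : tr (mkSys Q τ hid hcomp) h = τ n m h := rfl

theorem shift_obj (X : ARSys.PS C) (r n : ℕ) :
    ((ARSys.shift C r).obj X).obj (op n) = X.obj (op (n + r)) := rfl

theorem tr_shift (X : ARSys.PS C) (r : ℕ) {n m : ℕ} (h : n ≤ m) :
    tr ((ARSys.shift C r).obj X) h = tr X (Nat.add_le_add_right h r) := rfl

end General

section Quot

variable {C : Type u} [Category.{v} C] {A : Type w} [CommRing A] [Preadditive C] [Linear A C]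

/-- If `p` is a quotient map modulo `I'`, `I' ≤ I`, and `p ≫ t` is a quotient map modulo `I`,
then `t` is a quotient map modulo `I`. -/
theorem IsQuot.of_comp {I I' : Ideal A} {X Q Q' : C} {p : X ⟶ Q} {t : Q ⟶ Q'}
    (hp : IsQuot I' p) (hpt : IsQuot I (p ≫ t)) : IsQuot I t := by
  have hpe : Epi p := IsQuot.epi hp
  have hpte : Epi (p ≫ t) := IsQuot.epi hpt
  have hte : Epi t := epi_of_epi p t
  refine ⟨hpt.1, fun Y φ hφ => ?_⟩
  obtain ⟨ψ, hψ⟩ := IsQuot.exists_fac hpt (p ≫ φ) (homKilledBy_comp_left p φ hφ)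
  refine ⟨ψ, ?_, fun ψ' hψ' => ?_⟩
  · show t ≫ ψ = φ
    rw [← cancel_epi p, ← Category.assoc, hψ]
  · have hψ'' : t ≫ ψ' = φ := hψ'
    rw [← cancel_epi t, hψ'', ← cancel_epi p, ← Category.assoc, hψ]

variable (X : ARSys.PS C) (I : ℕ → Ideal A) (hI : Antitone I) (Q : ℕ → C)
  (p : ∀ n, X.obj (op n) ⟶ Q n) (hp : ∀ n, IsQuot (I n) (p n))

include hI hp in
theorem quotSys_exists (n m : ℕ) (h : n ≤ m) : ∃ τ : Q m ⟶ Q n, p m ≫ τ = tr X h ≫ p n :=
  IsQuot.exists_fac (hp m) _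
    (homKilledBy_of_killedBy _ (KilledBy.mono (hI h) (hp n).1))

/-- The transition maps of the quotient system. -/
noncomputable def quotTr (n m : ℕ) (h : n ≤ m) : Q m ⟶ Q n :=
  (quotSys_exists X I hI Q p hp n m h).choose

theorem quotTr_spec (n m : ℕ) (h : n ≤ m) :
    p m ≫ quotTr X I hI Q p hp n m h = tr X h ≫ p n :=
  (quotSys_exists X I hI Q p hp n m h).choose_spec

/-- The system of quotients `X_n ⧸ I_n X_n` for a decreasing family of ideals. -/
noncomputable def quotSys : ARSys.PS C :=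
  mkSys Q (quotTr X I hI Q p hp)
    (fun n => by
      have := IsQuot.epi (hp n)
      rw [← cancel_epi (p n), quotTr_spec, Category.comp_id]
      change X.map (𝟙 _) ≫ _ = _
      rw [X.map_id, Category.id_comp])
    (fun n m k h₁ h₂ => by
      have := IsQuot.epi (hp k)
      rw [← cancel_epi (p k), ← Category.assoc, quotTr_spec, Category.assoc, quotTr_spec,
        quotTr_spec, ← Category.assoc, tr_comp])

/-- The projection onto the system of quotients. -/
noncomputable def quotSysπ : X ⟶ quotSys X I hI Q p hp :=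
  mkHom p (fun n m h => (quotTr_spec X I hI Q p hp n m h).symm)

@[simp]
theorem quotSysπ_app (n : ℕ) : (quotSysπ X I hI Q p hp).app (op n) = p n := rfl

theorem quotSys_obj (n : ℕ) : (quotSys X I hI Q p hp).obj (op n) = Q n := rfl

end Quot

end Groth.Agent.Lib.ARSysShift
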