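import Groth.Prelude.Def_ARSys
import Mathlib.CategoryTheory.Limits.FunctorCategory.Basic
import Mathlib.CategoryTheory.Limits.Preserves.FunctorCategory
import Mathlib.CategoryTheory.Abelian.Refinements
import Mathlib.CategoryTheory.Limits.FunctorCategory.EpiMono

/-!
Basic lemmas on projective systems indexed by the naturals (`ARSys`).
-/

namespace Groth.Agent.Lib.ARSysBasic

open CategoryTheory CategoryTheory.Limits Opposite ARSys

universe w v u

section General

variable {C : Type u} [Category.{v} C]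

theorem tr_comp (X : ARSys.PS C) {n m k : ℕ} (h₁ : n ≤ m) (h₂ : m ≤ k) :
    tr X h₂ ≫ tr X h₁ = tr X (h₁.trans h₂) := by
  simp only [tr, ← Functor.map_comp]
  rfl

theorem tr_naturality {X Y : ARSys.PS C} (f : X ⟶ Y) {n m : ℕ} (h : n ≤ m) :
    tr X h ≫ f.app (op n) = f.app (op m) ≫ tr Y h :=
  f.naturality _

theorem map_eq_tr (X : ARSys.PS C) {n m : ℕ} (φ : (op m : ℕᵒᵖ) ⟶ op n) :
    X.map φ = tr X (leOfHom φ.unop) := by
  congr 1

/-- The canonical map `X[r] ⟶ X`. -/
def shiftNat (X : ARSys.PS C) (r : ℕ) : (ARSys.shift C r).obj X ⟶ X where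
  app n := shiftMap X r n.unop
  naturality := by
    intro m n φ
    change X.map _ ≫ X.map _ = X.map _ ≫ X.map _
    rw [← Functor.map_comp, ← Functor.map_comp]
    congr 1

@[simp]
theorem shiftNat_app (X : ARSys.PS C) (r n : ℕ) : (shiftNat X r).app (op n) = shiftMap X r n := rfl

end General

section Abelian

variable {C : Type u} [Category.{v} C] [Abelian C]

/-- A quotient of a system which is null up to translation is null up to translation. -/
theorem isARNull_of_epi {X Z : ARSys.PS C} (q : X ⟶ Z) [Epi q] (hX : IsARNull X) : IsARNull Z := by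
  obtain ⟨r, hr⟩ := hX
  refine ⟨r, fun n => ?_⟩
  have : Epi (q.app (op (n + r))) := inferInstance
  change tr Z (Nat.le_add_right n r) = 0
  rw [← cancel_epi (q.app (op (n + r))), comp_zero, ← tr_naturality]
  have h0 : tr X (Nat.le_add_right n r) = 0 := hr n
  rw [h0, zero_comp]

/-- A subsystem of a system which is null up to translation is null up to translation. -/
theorem isARNull_of_mono {X Z : ARSys.PS C} (i : Z ⟶ X) [Mono i] (hX : IsARNull X) : IsARNull Z := by
  obtain ⟨r, hr⟩ := hX
  refine ⟨r, fun n => ?_⟩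
  have : Mono (i.app (op n)) := inferInstance
  change tr Z (Nat.le_add_right n r) = 0
  rw [← cancel_mono (i.app (op n)), zero_comp, tr_naturality]
  have h0 : tr X (Nat.le_add_right n r) = 0 := hr n
  rw [h0, comp_zero]

end Abelian

section AbstractAbelian

variable {D : Type u} [Category.{v} D] [Abelian D]

/-- If `c` is an epimorphism, the map induced on kernels `ker (c ≫ u) ⟶ ker u` is an epimorphism. -/
theorem epi_kernel_map_of_epi {X Y Z : D} (c : X ⟶ Y) (u : Y ⟶ Z) [Epi c] :
    Epi (kernel.lift u (kernel.ι (c ≫ u) ≫ c) (by rw [Category.assoc, kernel.condition])) := by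
  rw [epi_iff_surjective_up_to_refinements]
  intro T y
  obtain ⟨T', π, hπ, x, hx⟩ := surjective_up_to_refinements_of_epi c (y ≫ kernel.ι u)
  have hx0 : x ≫ (c ≫ u) = 0 := by
    rw [← Category.assoc, ← hx, Category.assoc, Category.assoc, kernel.condition, comp_zero,
      comp_zero]
  refine ⟨T', π, hπ, kernel.lift (c ≫ u) x hx0, ?_⟩
  rw [← cancel_mono (kernel.ι u), Category.assoc, Category.assoc, kernel.lift_ι,
    kernel.lift_ι_assoc, hx]

/-- The map induced on cokernels `coker (c ≫ u) ⟶ coker u` is an epimorphism. -/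
theorem epi_cokernel_map {X Y Z : D} (c : X ⟶ Y) (u : Y ⟶ Z) :
    Epi (cokernel.desc (c ≫ u) (cokernel.π u) (by rw [Category.assoc, cokernel.condition, comp_zero])) := by
  have h : cokernel.π (c ≫ u) ≫ cokernel.desc (c ≫ u) (cokernel.π u)
      (by rw [Category.assoc, cokernel.condition, comp_zero]) = cokernel.π u := cokernel.π_desc _ _ _
  exact epi_of_epi_fac h

end AbstractAbelian

section ARIso

variable {C : Type u} [Category.{v} C] [Abelian C]

/-- If `c` is an epimorphism and `c ≫ u` is an isomorphism up to translation, so is `u`. -/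
theorem isARIso_of_epi_comp {W Y X : ARSys.PS C} (c : W ⟶ Y) (u : Y ⟶ X) [Epi c]
    (h : IsARIso (c ≫ u)) : IsARIso u := by
  refine ⟨?_, ?_⟩
  · have h1 := epi_kernel_map_of_epi c u
    exact isARNull_of_epi (kernel.lift u (kernel.ι (c ≫ u) ≫ c) _) h.1
  · have h1 := epi_cokernel_map c u
    exact isARNull_of_epi (cokernel.desc (c ≫ u) (cokernel.π u) _) h.2

end ARIso

section Linear

variable {C : Type u} [Category.{v} C] {A : Type w} [CommRing A] [Preadditive C] [Linear A C]

/-- Quotient maps modulo an ideal are epimorphisms. -/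
theorem IsQuot.epi {I : Ideal A} {X Q : C} {p : X ⟶ Q} (h : IsQuot I p) : Epi p := by
  constructor
  intro Z ψ₁ ψ₂ e
  have hk : HomKilledBy I (p ≫ ψ₁) := by
    intro a ha
    have h0 := h.1 a ha
    calc a • (p ≫ ψ₁) = p ≫ (a • 𝟙 Q) ≫ ψ₁ := by
          rw [Linear.smul_comp, Category.id_comp, Linear.comp_smul]
      _ = 0 := by rw [h0, zero_comp, comp_zero]
  obtain ⟨ψ, _, huniq⟩ := h.2 Z (p ≫ ψ₁) hk
  exact (huniq ψ₁ rfl).trans (huniq ψ₂ e.symm).symm

/-- A morphism into an object killed by `I` is killed by `I`. -/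
theorem homKilledBy_of_killedBy {I : Ideal A} {X Y : C} (φ : X ⟶ Y) (hY : KilledBy I Y) :
    HomKilledBy I φ := by
  intro a ha
  calc a • φ = φ ≫ (a • 𝟙 Y) := by rw [Linear.comp_smul, Category.comp_id]
    _ = 0 := by rw [hY a ha, comp_zero]

end Linear

end Groth.Agent.Lib.ARSysBasic
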