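import Groth.Agent.Lib.ARSysKer

/-!
# Chains of uniformly Mittag-Leffler subsystems of an adic system (helper22)

* `le_of_evSub_le`: subobjects of a projective system are ordered termwise;
* `imSub S r`: the subsystem of `r`-th images of a subobject `S` of a projective system, as a
  subobject of the ambient system;
* `chain_eventually_isARIso`: an increasing chain of uniformly Mittag-Leffler subsystems of an adic
  system with Noetherian `X_0` (ideal finitely generated) is eventually constant up to translation.
-/

set_option autoImplicit false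
set_option linter.unusedSectionVars false

namespace Groth.Agent.Lib.ARSysChain22

open CategoryTheory CategoryTheory.Limits Opposite ARSys
open Groth.Agent.Lib.ARSysBasic Groth.Agent.Lib.ARSysExact Groth.Agent.Lib.H86SubobjElem
  Groth.Agent.Lib.ARSysSub Groth.Agent.Lib.ARSysElem Groth.Agent.Lib.ARSysImage
  Groth.Agent.Lib.ARSysKer
open Groth.Agent.S3188 (imSys imι Im sm image_le_iff_factors)

universe w v u

variable {C : Type u} [Category.{v} C] [Abelian C]

/-- Precomposition with an epimorphism does not change the image. -/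
theorem imageSubobject_epi_comp {V W Z : C} (e : V ⟶ W) [Epi e] (f : W ⟶ Z) :
    imageSubobject (e ≫ f) = imageSubobject f := by
  apply le_antisymm (imageSubobject_comp_le e f)
  rw [image_le_iff_factors]
  apply factors_of_epi_comp _ e f
  rw [← image_le_iff_factors]

/-- The image of a composite only depends on the image of the first map. -/
theorem imageSubobject_comp_eq_of_eq {V V' W Z : C} (g : V ⟶ W) (g' : V' ⟶ W) (m : W ⟶ Z)
    (h : imageSubobject g = imageSubobject g') :
    imageSubobject (g ≫ m) = imageSubobject (g' ≫ m) := by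
  have e1 : imageSubobject (g ≫ m) = imageSubobject ((imageSubobject g).arrow ≫ m) := by
    conv_lhs => rw [← imageSubobject_arrow_comp g, Category.assoc]
    exact imageSubobject_epi_comp _ _
  have e2 : imageSubobject (g' ≫ m) = imageSubobject ((imageSubobject g').arrow ≫ m) := by
    conv_lhs => rw [← imageSubobject_arrow_comp g', Category.assoc]
    exact imageSubobject_epi_comp _ _
  rw [e1, e2]
  exact congrArg (fun T : Subobject W => imageSubobject (T.arrow ≫ m)) h

variable {X : ARSys.PS C}

/-- Subobjects of a projective system are ordered termwise. -/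
theorem le_of_evSub_le {S T : Subobject X} (h : ∀ n : ℕ, evSub S n ≤ evSub T n) : S ≤ T := by
  have hf : ∀ n : ℕ, ∃ g : (Subobject.underlying.obj S : ARSys.PS C).obj (op n) ⟶
      (Subobject.underlying.obj T : ARSys.PS C).obj (op n),
      g ≫ T.arrow.app (op n) = S.arrow.app (op n) := by
    intro n
    have h1 : (evSub S n).Factors (S.arrow.app (op n)) := by
      have := evSub_factors_app S n (𝟙 _)
      rwa [Category.id_comp] at this
    exact (evSub_factors_iff T n _).mp (Subobject.factors_of_le _ (h n) h1)
  choose g hg using hf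
  let γ : (Subobject.underlying.obj S : ARSys.PS C) ⟶ (Subobject.underlying.obj T : ARSys.PS C) :=
    { app := fun n => g n.unop
      naturality := by
        intro m n φ
        have : Mono (T.arrow.app n) := inferInstance
        rw [← cancel_mono (T.arrow.app n), Category.assoc, Category.assoc]
        have e1 : g n.unop ≫ T.arrow.app n = S.arrow.app n := hg n.unop
        have e2 : g m.unop ≫ T.arrow.app m = S.arrow.app m := hg m.unop
        rw [e1, T.arrow.naturality, ← Category.assoc, e2, S.arrow.naturality] }
  refine Subobject.le_of_comm γ ?_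
  ext n
  exact hg n.unop

/-- The subsystem of `r`-th images of a subobject `S` of `X`, as a subobject of `X`. -/
noncomputable def imSubMap (S : Subobject X) (r : ℕ) :
    imSys (Subobject.underlying.obj S : ARSys.PS C) r ⟶ X :=
  imι (Subobject.underlying.obj S : ARSys.PS C) r ≫ S.arrow

instance (S : Subobject X) (r : ℕ) : Mono (imSubMap S r) := by
  have := mono_imι (Subobject.underlying.obj S : ARSys.PS C) r
  exact mono_comp _ _

noncomputable def imSub (S : Subobject X) (r : ℕ) : Subobject X := Subobject.mk (imSubMap S r)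

/-- The image in `X_n` of `S_{n+s}`. -/
noncomputable abbrev E (S : Subobject X) (s n : ℕ) : Subobject (X.obj (op n)) :=
  imageSubobject (S.arrow.app (op (n + s)) ≫ sm X s n)

theorem E_eq (S : Subobject X) (s n : ℕ) :
    E S s n = imageSubobject (sm (Subobject.underlying.obj S : ARSys.PS C) s n ≫
      S.arrow.app (op n)) := by
  unfold E
  rw [tr_naturality]

theorem evSub_imSub (S : Subobject X) (r n : ℕ) : evSub (imSub S r) n = E S r n := by
  rw [E_eq]
  have e0 : (imSub S r).arrow = (Subobject.underlyingIso (imSubMap S r)).hom ≫ imSubMap S r :=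
    (Subobject.underlyingIso_hom_comp_eq_mk (imSubMap S r)).symm
  have e1 : (imSub S r).arrow.app (op n) =
      (Subobject.underlyingIso (imSubMap S r)).hom.app (op n) ≫
        (Im (Subobject.underlying.obj S : ARSys.PS C) r n).arrow ≫ S.arrow.app (op n) := by
    rw [e0]; rfl
  have e2 : evSub (imSub S r) n =
      Subobject.mk ((Im (Subobject.underlying.obj S : ARSys.PS C) r n).arrow ≫
        S.arrow.app (op n)) := by
    unfold evSub
    exact Subobject.mk_eq_mk_of_comm _ _
      ((Subobject.underlyingIso (imSubMap S r)).app (op n)) e1.symm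
  rw [e2, ← imageSubobject_mono]
  conv_rhs => rw [← imageSubobject_arrow_comp (sm (Subobject.underlying.obj S : ARSys.PS C) r n),
    Category.assoc]
  exact (imageSubobject_epi_comp _ _).symm

theorem E_mono {S T : Subobject X} (h : S ≤ T) (s n : ℕ) : E S s n ≤ E T s n := by
  have e : S.arrow.app (op (n + s)) =
      (Subobject.ofLE S T h).app (op (n + s)) ≫ T.arrow.app (op (n + s)) := by
    rw [← NatTrans.comp_app, Subobject.ofLE_arrow]
  unfold E
  apply (image_le_iff_factors _ _).mpr
  rw [e, Category.assoc]
  exact imageSubobject_factors_comp_self (f := T.arrow.app (op (n + s)) ≫ sm X s n) _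

theorem E_eq_of_ml (S : Subobject X) {r : ℕ}
    (hr : ∀ s : ℕ, r ≤ s → ∀ n : ℕ,
      imageSubobject (shiftMap (Subobject.underlying.obj S : ARSys.PS C) s n) =
        imageSubobject (shiftMap (Subobject.underlying.obj S : ARSys.PS C) r n))
    {s : ℕ} (hs : r ≤ s) (n : ℕ) : E S s n = E S r n := by
  rw [E_eq, E_eq]
  exact imageSubobject_comp_eq_of_eq _ _ _ (hr s hs n)

theorem imSub_le (S : Subobject X) (r : ℕ) : imSub S r ≤ S :=
  Subobject.mk_le_of_comm (imι (Subobject.underlying.obj S : ARSys.PS C) r) rfl

theorem imSub_le_imSub {S T : Subobject X} (h : S ≤ T) {r r' : ℕ}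
    (hr : ∀ s : ℕ, r ≤ s → ∀ n : ℕ,
      imageSubobject (shiftMap (Subobject.underlying.obj S : ARSys.PS C) s n) =
        imageSubobject (shiftMap (Subobject.underlying.obj S : ARSys.PS C) r n))
    (hr' : ∀ s : ℕ, r' ≤ s → ∀ n : ℕ,
      imageSubobject (shiftMap (Subobject.underlying.obj T : ARSys.PS C) s n) =
        imageSubobject (shiftMap (Subobject.underlying.obj T : ARSys.PS C) r' n)) :
    imSub S r ≤ imSub T r' := by
  apply le_of_evSub_le
  intro n
  rw [evSub_imSub, evSub_imSub, ← E_eq_of_ml S hr (le_max_left r r') n,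
    ← E_eq_of_ml T hr' (le_max_right r r') n]
  exact E_mono h _ n

theorem isStrict_of_iso {Y Y' : ARSys.PS C} (e : Y ≅ Y') (hY : IsStrict Y) : IsStrict Y' := by
  intro n m h
  have := hY n m h
  have e1 : tr Y' h = e.inv.app (op m) ≫ tr Y h ≫ e.hom.app (op n) := by
    rw [tr_naturality, ← Category.assoc, ← NatTrans.comp_app, e.inv_hom_id]
    simp
  rw [e1]
  infer_instance

theorem isStrict_imSub (S : Subobject X) {r : ℕ}
    (hr : ∀ s : ℕ, r ≤ s → ∀ n : ℕ,
      imageSubobject (shiftMap (Subobject.underlying.obj S : ARSys.PS C) s n) =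
        imageSubobject (shiftMap (Subobject.underlying.obj S : ARSys.PS C) r n)) :
    IsStrict (Subobject.underlying.obj (imSub S r) : ARSys.PS C) :=
  isStrict_of_iso (Subobject.underlyingIso (imSubMap S r)).symm (isStrict_imSys hr)

/-- If the subsystem of images of `T` is contained in `S ≤ T`, then the inclusion of `S` in `T` is an
isomorphism up to translation. -/
theorem isARIso_ofLE_of_imSub_le {S T : Subobject X} (h : S ≤ T) (r : ℕ) (h' : imSub T r ≤ S) :
    IsARIso (Subobject.ofLE S T h) := by
  have hfac : S.Factors (imSubMap T r) :=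
    Subobject.factors_of_le _ h' (Subobject.mk_factors_self _)
  let k := S.factorThru (imSubMap T r) hfac
  have hk : k ≫ Subobject.ofLE S T h = imι (Subobject.underlying.obj T : ARSys.PS C) r := by
    rw [← cancel_mono T.arrow, Category.assoc, Subobject.ofLE_arrow, Subobject.factorThru_arrow]
    rfl
  have hco : IsARNull (cokernel (imι (Subobject.underlying.obj T : ARSys.PS C) r)) :=
    isARNull_cokernel_imι _ r
  obtain ⟨a, ha⟩ := hco
  have h1 : CokerNullBy (k ≫ Subobject.ofLE S T h) a := by
    rw [hk]; exact cokerNullBy_of_isARNull _ ha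
  exact ⟨isARNull_kernel_of_mono _, isARNull_cokernel_of_cokerNullBy _ (cokerNullBy_of_comp _ _ h1)⟩

variable {A : Type w} [CommRing A] [Linear A C] (J : Ideal A)

/-- An increasing chain of uniformly Mittag-Leffler subsystems of an adic system with Noetherian
`X_0` is eventually constant up to translation (`J` finitely generated). -/
theorem chain_eventually_isARIso (hJ : J.FG) (hX : ARSys.IsAdic J X)
    (h0 : IsNoetherianObject (X.obj (op 0))) (Z : ℕ →o Subobject X)
    (hZ : ∀ k : ℕ, ARSys.IsMLAR (Subobject.underlying.obj (Z k) : ARSys.PS C)) :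
    ∃ k₀ : ℕ, ∀ k : ℕ, k₀ ≤ k →
      IsARIso (Subobject.ofLE (Z k) (Z (k + 1)) (Z.monotone (Nat.le_succ k))) := by
  choose r hr using hZ
  let Z' : ℕ →o Subobject X :=
    { toFun := fun k => imSub (Z k) (r k)
      monotone' := monotone_nat_of_le_succ fun k =>
        imSub_le_imSub (Z.monotone (Nat.le_succ k)) (hr k) (hr (k + 1)) }
  obtain ⟨k₀, hk₀⟩ := strict_chain_stationary J X hJ hX h0 Z'
    (fun k => isStrict_imSub (Z k) (hr k))
  refine ⟨k₀, fun k hk => ?_⟩
  apply isARIso_ofLE_of_imSub_le _ (r (k + 1))
  have e1 : Z' (k + 1) = Z' k := by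
    rw [hk₀ (k + 1) (by omega), hk₀ k hk]
  calc imSub (Z (k + 1)) (r (k + 1)) = Z' (k + 1) := rfl
    _ = Z' k := e1
    _ ≤ Z k := imSub_le (Z k) (r k)

end Groth.Agent.Lib.ARSysChain22
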