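import Groth.Prelude.Def_ARSys
import Mathlib.CategoryTheory.Linear.LinearFunctor
import Mathlib.CategoryTheory.Adjunction.Basic

/-!
# Left adjoints of linear functors (helper22)

* `homEquiv_smul`, `map_smul_of_rightAdjoint_linear`: the left adjoint of an `A`-linear functor is
  `A`-linear;
* `isQuot_map_leftAdjoint`: such a left adjoint preserves quotient maps modulo an ideal.
-/

set_option autoImplicit false
universe w v₁ v₂ u₁ u₂

open CategoryTheory

namespace Groth.Agent.Lib.AdjLinear22

variable {A : Type w} [CommRing A]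
  {C : Type u₁} [Category.{v₁} C] [Preadditive C] [Linear A C]
  {D : Type u₂} [Category.{v₂} D] [Preadditive D] [Linear A D]
  {L : C ⥤ D} {R : D ⥤ C} (adj : L ⊣ R)
  (hR : ∀ {X Y : D} (a : A) (f : X ⟶ Y), R.map (a • f) = a • R.map f)

include hR in
theorem homEquiv_smul {X : C} {Y : D} (a : A) (g : L.obj X ⟶ Y) :
    adj.homEquiv X Y (a • g) = a • adj.homEquiv X Y g := by
  rw [Adjunction.homEquiv_unit, Adjunction.homEquiv_unit, hR, Linear.comp_smul]

include hR in
theorem homEquiv_symm_smul {X : C} {Y : D} (a : A) (g : X ⟶ R.obj Y) :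
    (adj.homEquiv X Y).symm (a • g) = a • (adj.homEquiv X Y).symm g := by
  apply (adj.homEquiv X Y).injective
  rw [Equiv.apply_symm_apply, homEquiv_smul adj hR, Equiv.apply_symm_apply]

include adj hR in
theorem map_smul_of_rightAdjoint_linear {X X' : C} (a : A) (f : X ⟶ X') :
    L.map (a • f) = a • L.map f := by
  apply (adj.homEquiv X (L.obj X')).injective
  rw [homEquiv_smul adj hR, Adjunction.homEquiv_unit, Adjunction.homEquiv_unit]
  have h1 : adj.unit.app X ≫ R.map (L.map (a • f)) = (a • f) ≫ adj.unit.app X' :=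
    adj.unit_naturality (a • f)
  have h2 : adj.unit.app X ≫ R.map (L.map f) = f ≫ adj.unit.app X' := adj.unit_naturality f
  rw [h1, h2, Linear.smul_comp]

include adj hR in
theorem map_zero_of_rightAdjoint_linear {X X' : C} : L.map (0 : X ⟶ X') = 0 := by
  have h := map_smul_of_rightAdjoint_linear adj hR (0 : A) (0 : X ⟶ X')
  rw [zero_smul, zero_smul] at h
  exact h

include adj hR in
theorem killedBy_obj_leftAdjoint (I : Ideal A) {X : C} (h : ARSys.KilledBy I X) :
    ARSys.KilledBy I (L.obj X) := by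
  intro a ha
  have h1 : (a • 𝟙 (L.obj X) : L.obj X ⟶ L.obj X) = L.map (a • 𝟙 X) := by
    rw [map_smul_of_rightAdjoint_linear adj hR, L.map_id]
  rw [h1, h a ha, map_zero_of_rightAdjoint_linear adj hR]

include adj hR in
/-- A left adjoint of a linear functor preserves quotient maps modulo an ideal. -/
theorem isQuot_map_leftAdjoint (I : Ideal A) {X Q : C} (p : X ⟶ Q) (hp : ARSys.IsQuot I p) :
    ARSys.IsQuot I (L.map p) := by
  obtain ⟨hQ, huniv⟩ := hp
  refine ⟨killedBy_obj_leftAdjoint adj hR I hQ, fun Y φ hφ => ?_⟩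
  have hk : ARSys.HomKilledBy I (adj.homEquiv X Y φ) := fun a ha => by
    rw [← homEquiv_smul adj hR, hφ a ha]
    have h0 := homEquiv_smul adj hR (0 : A) φ
    rw [zero_smul, zero_smul] at h0
    exact h0
  obtain ⟨ψ, hψ, huniq⟩ := huniv (R.obj Y) (adj.homEquiv X Y φ) hk
  refine ⟨(adj.homEquiv Q Y).symm ψ, ?_, fun ψ' hψ' => ?_⟩
  · apply (adj.homEquiv X Y).injective
    rw [Adjunction.homEquiv_naturality_left, Equiv.apply_symm_apply, hψ]
  · apply (adj.homEquiv Q Y).injective
    rw [Equiv.apply_symm_apply]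
    apply huniq
    rw [← Adjunction.homEquiv_naturality_left, hψ']

end Groth.Agent.Lib.AdjLinear22
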