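import Groth.Agent.Lib.ARSysBasic
import Groth.Agent.Lib.AdjLinear22
import Mathlib.CategoryTheory.Limits.FunctorCategory.Basic
import Mathlib.CategoryTheory.Limits.Preserves.Shapes.Kernels

/-!
# Projective systems under exact functors (helper22)

For `L : C ⥤ D` between abelian categories:

* `isARNull_whisker`: `L` (preserving zero morphisms) maps null systems to null systems;
* `isARIso_whisker`: an exact `L` maps isomorphisms up to translation to such;
* `termKilled_whisker`, `isAdic_whisker`: a left adjoint `L` of a linear functor preserves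
  `TermKilled` and `IsAdic`.
-/

set_option autoImplicit false
set_option linter.style.haveILetI false
universe w v₁ v₂ u₁ u₂

open CategoryTheory CategoryTheory.Limits Opposite ARSys

namespace Groth.Agent.Lib.ARSysFunctor22

variable {C : Type u₁} [Category.{v₁} C] {D : Type u₂} [Category.{v₂} D]

section null

variable [HasZeroMorphisms C] [HasZeroMorphisms D] (L : C ⥤ D) [L.PreservesZeroMorphisms]

theorem isARNull_whisker {X : PS C} (h : IsARNull X) : IsARNull (X ⋙ L) := by
  obtain ⟨r, hr⟩ := h
  refine ⟨r, fun n => ?_⟩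
  have h1 : shiftMap (X ⋙ L) r n = L.map (shiftMap X r n) := rfl
  rw [h1, hr n, L.map_zero]
  rfl

end null

section iso

variable [Abelian C] [Abelian D] (L : C ⥤ D) [L.Additive] [PreservesFiniteLimits L]
  [PreservesFiniteColimits L]

/-- postcomposition with `L` on projective systems -/
abbrev W : PS C ⥤ PS D := (Functor.whiskeringRight ℕᵒᵖ C D).obj L

theorem isARNull_of_iso {X Y : PS D} (e : X ≅ Y) (h : IsARNull X) : IsARNull Y :=
  Groth.Agent.Lib.ARSysBasic.isARNull_of_epi e.hom h

theorem isARIso_whisker {Y X : PS C} (u : Y ⟶ X) (h : IsARIso u) :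
    IsARIso (Functor.whiskerRight u L) := by
  haveI : (W L).PreservesZeroMorphisms := ⟨fun X Y => by
    ext n
    simp⟩
  have e1 : (W L).obj (kernel u) ≅ kernel ((W L).map u) := PreservesKernel.iso (W L) u
  have e2 : (W L).obj (cokernel u) ≅ cokernel ((W L).map u) := PreservesCokernel.iso (W L) u
  exact ⟨isARNull_of_iso e1 (isARNull_whisker L h.1), isARNull_of_iso e2 (isARNull_whisker L h.2)⟩

end iso

section linear

variable {A : Type w} [CommRing A] [Preadditive C] [Linear A C] [Preadditive D] [Linear A D]
  {L : C ⥤ D} {R : D ⥤ C} (adj : L ⊣ R)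
  (hR : ∀ {X Y : D} (a : A) (f : X ⟶ Y), R.map (a • f) = a • R.map f)

include adj hR in
theorem termKilled_whisker (J : Ideal A) {X : PS C} (h : TermKilled J X) :
    TermKilled J (X ⋙ L) := fun n =>
  Groth.Agent.Lib.AdjLinear22.killedBy_obj_leftAdjoint adj hR _ (h n)

include adj hR in
theorem isAdic_whisker (J : Ideal A) {X : PS C} (h : IsAdic J X) : IsAdic J (X ⋙ L) :=
  ⟨termKilled_whisker adj hR J h.1, fun n m hnm =>
    Groth.Agent.Lib.AdjLinear22.isQuot_map_leftAdjoint adj hR _ _ (h.2 n m hnm)⟩

end linear

end Groth.Agent.Lib.ARSysFunctor22
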