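import Groth.Agent.Lib.ARSysKer2
import Groth.Agent.Lib.ARSysFunctor22
import Groth.Agent.Lib.ARSysChain22

/-!
# Descent of "adic up to translation" along a jointly conservative family of exact functors (helper22)

`isARAdic_of_whisker`: let `L i : C ⥤ D i` be a finite family of exact linear functors between abelian
`A`-linear categories and `P` a class of objects of `C` closed under kernels and cokernels and under
quotients modulo powers of `J`, on which the family `L` jointly detects zero objects.  If `X` is a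
projective system of objects in `P`, termwise killed by `J^(n+1)`, and every `X ⋙ L i` is `J`-adic
up to translation with Noetherian terms, then `X` is `J`-adic up to translation.
-/

set_option autoImplicit false
set_option linter.unusedSectionVars false
set_option linter.style.haveILetI false

namespace Groth.Agent.Lib.ARSysDescent22

open CategoryTheory CategoryTheory.Limits Opposite ARSys
open Groth.Agent.Lib.ARSysBasic Groth.Agent.Lib.ARSysExact Groth.Agent.Lib.H86SubobjElem
  Groth.Agent.Lib.ARSysSub Groth.Agent.Lib.ARSysElem Groth.Agent.Lib.ARSysImage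
  Groth.Agent.Lib.ARSysKer Groth.Agent.Lib.ARSysPull Groth.Agent.Lib.ARSysGen
open Groth.Agent.S3188 (imSys imι Im sm image_le_iff_factors image_factors_iff image_sm_le)

universe w v₁ v₂ u₁ u₂

open scoped ZeroObject

section Null

variable {C : Type u₁} [Category.{v₁} C] [Abelian C] {A : Type w} [CommRing A] [Linear A C]

/-- The zero system is adic. -/
theorem isAdic_of_isZero (J : Ideal A) {Y : ARSys.PS C} (hY : IsZero Y) : IsAdic J Y := by
  have hz : ∀ n : ℕ, IsZero (Y.obj (op n)) := fun n => (Functor.isZero_iff _).mp hY _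
  refine ⟨fun n a _ => (hz n).eq_of_src _ _, fun n m h => ⟨fun a _ => (hz n).eq_of_src _ _, ?_⟩⟩
  intro W φ _
  exact ⟨0, (hz m).eq_of_src _ _, fun ψ _ => (hz n).eq_of_src _ _⟩

/-- A system null up to translation, termwise killed, is adic up to translation. -/
theorem isARAdic_of_isARNull (J : Ideal A) {N : ARSys.PS C} (kN : TermKilled J N)
    (hN : IsARNull N) : IsARAdic J N := by
  refine ⟨kN, 0, 0, isAdic_of_isZero J (isZero_zero _), ?_, ?_⟩
  · exact isARNull_kernel_of_mono _
  · exact isARNull_of_epi (cokernel.π (0 : (0 : ARSys.PS C) ⟶ N)) hN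

end Null

variable {C : Type u₁} [Category.{v₁} C] [Abelian C] {A : Type w} [CommRing A] [Linear A C]
variable {ι : Type} [Fintype ι] {D : ι → Type u₂} [∀ i, Category.{v₂} (D i)] [∀ i, Abelian (D i)]
  [∀ i, Linear A (D i)]
variable (L : ∀ i, C ⥤ D i) [∀ i, (L i).Additive] [∀ i, PreservesFiniteLimits (L i)]
  [∀ i, PreservesFiniteColimits (L i)]

/-- A class of objects closed under isomorphisms, kernels and cokernels. -/
structure Adm (P : C → Prop) : Prop where
  iso : ∀ {Z W : C}, (Z ≅ W) → P Z → P W
  ker : ∀ {Z W : C} (φ : Z ⟶ W), P Z → P W → P (kernel φ)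
  coker : ∀ {Z W : C} (φ : Z ⟶ W), P Z → P W → P (cokernel φ)

variable {P : C → Prop} (adm : Adm P)
  (hrefl : ∀ Z : C, P Z → (∀ i, IsZero ((L i).obj Z)) → IsZero Z)

include adm hrefl in
/-- A morphism between objects of `P` killed by all the functors `L i` is zero. -/
theorem eq_zero_of_map_eq_zero {Z W : C} (φ : Z ⟶ W) (hZ : P Z) (hW : P W)
    (h : ∀ i, (L i).map φ = 0) : φ = 0 := by
  have hI : P (Abelian.image φ) := adm.ker (cokernel.π φ) hW (adm.coker φ hZ hW)
  have hz : IsZero (Abelian.image φ) := hrefl _ hI (fun i => by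
    have e : (L i).map (Abelian.factorThruImage φ) ≫ (L i).map (Abelian.image.ι φ) = 0 := by
      rw [← Functor.map_comp, Abelian.image.fac, h i]
    have h0 : (L i).map (Abelian.image.ι φ) = 0 := by
      rw [← cancel_epi ((L i).map (Abelian.factorThruImage φ)), e, comp_zero]
    exact IsZero.of_mono_eq_zero _ h0)
  rw [← Abelian.image.fac φ, hz.eq_of_tgt (Abelian.factorThruImage φ) 0, zero_comp]

include adm in
theorem adm_imageSubobject {Z W : C} (f : Z ⟶ W) (hZ : P Z) (hW : P W) :
    P ((imageSubobject f : Subobject W) : C) :=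
  adm.iso ((Abelian.imageIsoImage f) ≪≫ (imageSubobjectIso f).symm)
    (adm.ker (cokernel.π f) hW (adm.coker f hZ hW))

include adm in
theorem adm_kernelSubobject {Z W : C} (f : Z ⟶ W) (hZ : P Z) (hW : P W) :
    P ((kernelSubobject f : Subobject Z) : C) :=
  adm.iso (kernelSubobjectIso f).symm (adm.ker f hZ hW)

section ML

variable {X : ARSys.PS C} (hXP : ∀ n : ℕ, P (X.obj (op n)))

/-- A bound for the uniform Mittag-Leffler condition may be increased. -/
theorem ml_bound_mono {E : Type u₂} [Category.{v₂} E] [Abelian E] {Y : ARSys.PS E} {r₀ : ℕ}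
    (hr : ∀ s : ℕ, r₀ ≤ s → ∀ n : ℕ,
      imageSubobject (shiftMap Y s n) = imageSubobject (shiftMap Y r₀ n)) {r : ℕ} (h : r₀ ≤ r) :
    ∀ s : ℕ, r ≤ s → ∀ n : ℕ,
      imageSubobject (shiftMap Y s n) = imageSubobject (shiftMap Y r n) := by
  intro s hs n
  rw [hr s (h.trans hs) n, hr r h n]

include adm hrefl hXP in
/-- The uniform Mittag-Leffler condition descends. -/
theorem ml_of_whisker (r : ℕ)
    (hr : ∀ i, ∀ s : ℕ, r ≤ s → ∀ n : ℕ,
      imageSubobject (shiftMap (X ⋙ L i) s n) = imageSubobject (shiftMap (X ⋙ L i) r n)) :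
    ∀ s : ℕ, r ≤ s → ∀ n : ℕ,
      imageSubobject (shiftMap X s n) = imageSubobject (shiftMap X r n) := by
  intro s hs n
  apply le_antisymm (image_sm_le X n hs)
  rw [image_le_iff_factors, image_factors_iff]
  apply eq_zero_of_map_eq_zero L adm hrefl _ (hXP _) (adm.coker _ (hXP _) (hXP _))
  intro i
  show (L i).map (shiftMap X r n ≫ cokernel.π (shiftMap X s n)) = 0
  have h1 : (imageSubobject ((L i).map (shiftMap X s n))).Factors ((L i).map (shiftMap X r n)) := by
    have e : imageSubobject ((L i).map (shiftMap X s n)) =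
        imageSubobject ((L i).map (shiftMap X r n)) := hr i s hs n
    rw [e, ← image_le_iff_factors]
  rw [image_factors_iff] at h1
  rw [Functor.map_comp, ← π_comp_cokernelComparison, reassoc_of% h1, zero_comp]

end ML

section Main

variable (J : Ideal A)
  (hlin : ∀ i {Z W : C} (a : A) (f : Z ⟶ W), (L i).map (a • f) = a • (L i).map f)
  (hquot : ∀ Z : C, P Z → ∀ k : ℕ, ∃ (Q : C) (p : Z ⟶ Q), IsQuot (J ^ k) p ∧ P Q)

include hlin in
theorem killedBy_map (i : ι) {I' : Ideal A} {Z : C} (h : KilledBy I' Z) :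
    KilledBy I' ((L i).obj Z) := by
  intro a ha
  have h1 : (a • 𝟙 ((L i).obj Z) : (L i).obj Z ⟶ (L i).obj Z) = (L i).map (a • 𝟙 Z) := by
    rw [hlin, (L i).map_id]
  rw [h1, h a ha, (L i).map_zero]

theorem isStrict_whisker {X : ARSys.PS C} (hX : IsStrict X) (i : ι) : IsStrict (X ⋙ L i) := by
  intro n m h
  have := hX n m h
  change Epi ((L i).map (tr X h))
  infer_instance

include hlin in
/-- The subsystem of images of `X`, pushed forward by `L i`, is adic up to translation with
Noetherian terms when `X ⋙ L i` is. -/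
theorem isARAdicNoeth_imSys_whisker (hJ : J.FG) {X : ARSys.PS C} (r : ℕ) (i : ι)
    (h : IsARAdicNoeth J (X ⋙ L i)) : IsARAdicNoeth J (imSys X r ⋙ L i) := by
  let f : imSys X r ⋙ L i ⟶ X ⋙ L i := Functor.whiskerRight (imι X r) (L i)
  have hmono : Mono f := by
    have : ∀ n : ℕᵒᵖ, Mono (f.app n) := fun n => by
      have : Mono ((imι X r).app n) := by
        have := mono_imι X r
        infer_instance
      change Mono ((L i).map ((imι X r).app n))
      infer_instance
    exact NatTrans.mono_of_mono_app _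
  have hf : IsARIso f := Groth.Agent.Lib.ARSysFunctor22.isARIso_whisker (L i) (imι X r)
    (isARIso_imι X r)
  let S : ShortComplex (ARSys.PS (D i)) := ShortComplex.mk f (cokernel.π f) (cokernel.condition f)
  have hS : S.ShortExact :=
    { exact := ShortComplex.exact_cokernel f
      mono_f := hmono
      epi_g := by dsimp [S]; infer_instance }
  have kC : TermKilled J (cokernel f) := fun n =>
    killedBy_of_epi ((cokernel.π f).app (op n)) (h.1.1 n)
  have h₃ : IsARAdicNoeth J (cokernel f) := by
    refine ⟨isARAdic_of_isARNull J kC hf.2, fun n => ?_⟩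
    have := h.2 n
    exact Groth.Agent.Lib.NoethSerre.isNoetherianObject_of_epi ((cokernel.π f).app (op n))
  exact isARAdicNoeth_of_shortExact J hJ S hS h h₃

include adm hrefl hlin hquot in
/-- Descent of the kernel criterion. -/
theorem subLE_of_whisker {X' : ARSys.PS C} (hXP : ∀ n : ℕ, P (X'.obj (op n))) (r' : ℕ)
    (h : ∀ i, ∃ ri : ℕ, ri ≤ r' ∧
      ∀ n : ℕ, SubLEIdeal (J ^ (n - ri)) (Fker (X' ⋙ L i) n)) (hr' : 0 < r') :
    ∀ n : ℕ, SubLEIdeal (J ^ (n - r')) (Fker X' n) := by
  intro n W φ hφ
  by_cases hn : n < r'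
  · have : φ = 0 := by
      apply Groth.Agent.S3158.homKilledBy_top_eq_zero (A := A)
      have e : J ^ (n - r') = ⊤ := by
        have : n - r' = 0 := by omega
        rw [this, pow_zero, Ideal.one_eq_top]
      rwa [e] at hφ
    rw [this, comp_zero]
  · obtain ⟨k, rfl⟩ : ∃ k, n = k + 1 := ⟨n - 1, by omega⟩
    change (kernelSubobject (tr X' (Nat.le_succ k))).arrow ≫ φ = 0
    obtain ⟨Q, p, hp, hQ⟩ := hquot _ (hXP (k + 1)) (k + 1 - r')
    obtain ⟨ψ, hψ⟩ := IsQuot.exists_fac hp φ hφ
    have key : (kernelSubobject (tr X' (Nat.le_succ k))).arrow ≫ p = 0 := by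
      apply eq_zero_of_map_eq_zero L adm hrefl _
        (adm_kernelSubobject adm _ (hXP _) (hXP _)) hQ
      intro i
      obtain ⟨ri, hri, hsub⟩ := h i
      have hk1 : HomKilledBy (J ^ (k + 1 - ri)) ((L i).map p) := by
        apply HomKilledBy.mono (Ideal.pow_le_pow_right (by omega : k + 1 - r' ≤ k + 1 - ri))
        exact homKilledBy_of_killedBy _ (killedBy_map L hlin i hp.1)
      have h2 : (kernelSubobject (tr (X' ⋙ L i) (Nat.le_succ k))).arrow ≫ (L i).map p = 0 :=
        hsub (k + 1) _ _ hk1
      have h3 : (kernelSubobject (tr (X' ⋙ L i) (Nat.le_succ k))).Factors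
          ((L i).map (kernelSubobject (tr X' (Nat.le_succ k))).arrow) := by
        rw [kernelSubobject_factors_iff]
        change _ ≫ (L i).map (tr X' (Nat.le_succ k)) = 0
        rw [← Functor.map_comp, kernelSubobject_arrow_comp, Functor.map_zero]
      rw [Functor.map_comp, ← Subobject.factorThru_arrow _ _ h3, Category.assoc, h2, comp_zero]
    rw [← hψ, reassoc_of% key, zero_comp]

include adm hrefl hlin hquot in
/-- **Descent of adicity up to translation** along a finite jointly conservative family of exact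
linear functors. -/
theorem isARAdic_of_whisker (hJ : J.FG) (X : ARSys.PS C) (hXP : ∀ n : ℕ, P (X.obj (op n)))
    (kX : TermKilled J X) (h : ∀ i, IsARAdicNoeth J (X ⋙ L i)) : IsARAdic J X := by
  -- uniform Mittag-Leffler
  have hML : ∀ i, IsMLAR (X ⋙ L i) := fun i =>
    Groth.Agent.Lib.ARSysExt2.isMLAR_of_isARAdic J (h i).1
  choose r₀ hr₀ using hML
  let r := Finset.univ.sup r₀
  have hr : ∀ s : ℕ, r ≤ s → ∀ n : ℕ,
      imageSubobject (shiftMap X s n) = imageSubobject (shiftMap X r n) :=
    ml_of_whisker L adm hrefl hXP r (fun i =>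
      ml_bound_mono (hr₀ i) (Finset.le_sup (Finset.mem_univ i)))
  -- the strict subsystem of images
  have hstrict : IsStrict (imSys X r) := isStrict_imSys hr
  have hι : ∀ n : ℕ, Mono ((imι X r).app (op n)) := fun n => by
    have := mono_imι X r
    infer_instance
  have kX' : TermKilled J (imSys X r) := termKilled_of_mono J (imι X r) hι kX
  have hX'P : ∀ n : ℕ, P ((imSys X r).obj (op n)) := fun n =>
    adm_imageSubobject adm _ (hXP _) (hXP _)
  have h' : ∀ i, IsARAdicNoeth J (imSys X r ⋙ L i) := fun i =>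
    isARAdicNoeth_imSys_whisker L J hlin hJ r i (h i)
  have hsub : ∀ i, ∃ ri : ℕ, 0 < ri ∧
      ∀ n : ℕ, SubLEIdeal (J ^ (n - ri)) (Fker (imSys X r ⋙ L i) n) := fun i =>
    (Groth.Agent.S3158.result J (Or.inl hJ) (imSys X r ⋙ L i) (isStrict_whisker L hstrict i)
      (h' i).1.1).1 (h' i).1
  choose r₁ hr₁pos hr₁ using hsub
  let r' := Finset.univ.sup r₁ + 1
  have hfin := subLE_of_whisker L adm hrefl J hlin hquot hX'P r'
    (fun i => ⟨r₁ i, (Finset.le_sup (Finset.mem_univ i)).trans (Nat.le_succ _), hr₁ i⟩)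
    (Nat.succ_pos _)
  have hX' : IsARAdic J (imSys X r) :=
    (Groth.Agent.S3158.result J (Or.inl hJ) (imSys X r) hstrict kX').2 ⟨r', Nat.succ_pos _, hfin⟩
  exact isARAdic_of_isARIso J (imι X r) (isARIso_imι X r) hX' kX

end Main

end Groth.Agent.Lib.ARSysDescent22
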