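import Groth.Agent.Lib.ARSysImage
import Mathlib.CategoryTheory.Abelian.Refinements

/-!
"Elementwise" (refinement) forms of the conditions on projective systems: kernels and cokernels
null up to translation, uniform Mittag-Leffler condition, comparison of images.
-/

namespace Groth.Agent.Lib.ARSysElem

open CategoryTheory CategoryTheory.Limits Opposite ARSys Groth.Agent.Lib.ARSysBasic
  Groth.Agent.Lib.ARSysExact Groth.Agent.Lib.ARSysImage Groth.Agent.S3188

universe v u

section Images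

variable {D : Type u} [Category.{v} D] [Abelian D]

/-- If every "element" of the image of `a` lifts along `b` after refinement then
`im a ≤ im b`. -/
theorem image_le_of_refinement {A B K : D} (a : A ⟶ K) (b : B ⟶ K)
    (h : ∃ (T' : D) (π : T' ⟶ A) (_ : Epi π) (y : T' ⟶ B), π ≫ a = y ≫ b) :
    imageSubobject a ≤ imageSubobject b := by
  obtain ⟨T', π, hπ, y, hy⟩ := h
  rw [image_le_iff_factors, image_factors_iff, ← cancel_epi π, comp_zero, ← Category.assoc, hy,
    Category.assoc, cokernel.condition, comp_zero]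

/-- If `im a ≤ im b` then every `x ≫ a` lifts along `b` after refinement. -/
theorem exists_refinement_of_image_le {A B K : D} (a : A ⟶ K) (b : B ⟶ K)
    (h : imageSubobject a ≤ imageSubobject b) {T : D} (x : T ⟶ A) :
    ∃ (T' : D) (π : T' ⟶ T) (_ : Epi π) (y : T' ⟶ B), π ≫ x ≫ a = y ≫ b := by
  rw [image_le_iff_factors, image_factors_iff] at h
  have hex : (ShortComplex.mk b (cokernel.π b) (cokernel.condition b)).Exact :=
    ShortComplex.exact_cokernel b
  obtain ⟨T', π, hπ, y, hy⟩ := hex.exact_up_to_refinements (x ≫ a)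
    (by rw [Category.assoc]; change x ≫ a ≫ cokernel.π b = 0; rw [h, comp_zero])
  exact ⟨T', π, hπ, y, hy⟩

end Images

variable {C : Type u} [Category.{v} C] [Abelian C]

section KerCoker

/-- Morphisms killed by `v_m` factor through the `m`-th term of the kernel of `v`. -/
theorem kernel_app_lift {X Y : ARSys.PS C} (v : X ⟶ Y) (m : ℕ) {T : C} (y : T ⟶ X.obj (op m))
    (hy : y ≫ v.app (op m) = 0) :
    ∃ y' : T ⟶ (kernel v).obj (op m), y' ≫ (kernel.ι v).app (op m) = y := by
  let S : ShortComplex (ARSys.PS C) := ShortComplex.mk (kernel.ι v) v (kernel.condition v)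
  have hS : S.Exact := ShortComplex.exact_kernel v
  have hSm : (S.map ((evaluation ℕᵒᵖ C).obj (op m))).Exact := hS.map _
  have : Mono (S.map ((evaluation ℕᵒᵖ C).obj (op m))).f := by
    change Mono ((kernel.ι v).app (op m))
    infer_instance
  exact ⟨hSm.lift y hy, hSm.lift_f y hy⟩

theorem kernel_app_condition {X Y : ARSys.PS C} (v : X ⟶ Y) (m : ℕ) :
    (kernel.ι v).app (op m) ≫ v.app (op m) = 0 := by
  rw [← NatTrans.comp_app, kernel.condition]; rfl

theorem cokernel_app_condition {X Y : ARSys.PS C} (v : X ⟶ Y) (m : ℕ) :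
    v.app (op m) ≫ (cokernel.π v).app (op m) = 0 := by
  rw [← NatTrans.comp_app, cokernel.condition]; rfl

/-- Morphisms killed by the `m`-th term of the cokernel projection come from `X_m` after
refinement. -/
theorem cokernel_app_exact {X Y : ARSys.PS C} (v : X ⟶ Y) (m : ℕ) {T : C} (z : T ⟶ Y.obj (op m))
    (hz : z ≫ (cokernel.π v).app (op m) = 0) :
    ∃ (T' : C) (π : T' ⟶ T) (_ : Epi π) (x : T' ⟶ X.obj (op m)), π ≫ z = x ≫ v.app (op m) := by
  let S : ShortComplex (ARSys.PS C) := ShortComplex.mk v (cokernel.π v) (cokernel.condition v)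
  have hS : S.Exact := ShortComplex.exact_cokernel v
  have hSm : (S.map ((evaluation ℕᵒᵖ C).obj (op m))).Exact := hS.map _
  exact hSm.exact_up_to_refinements z hz

/-- The kernel of `u` is killed by the translation by `r`, elementwise. -/
def KerNullBy {Y X : ARSys.PS C} (u : Y ⟶ X) (r : ℕ) : Prop :=
  ∀ (n k : ℕ) (h : n + r ≤ k) (T : C) (y : T ⟶ Y.obj (op k)), y ≫ u.app (op k) = 0 →
    y ≫ tr Y ((Nat.le_add_right n r).trans h) = 0

/-- The cokernel of `u` is killed by the translation by `r`, elementwise. -/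
def CokerNullBy {Y X : ARSys.PS C} (u : Y ⟶ X) (r : ℕ) : Prop :=
  ∀ (n k : ℕ) (h : n + r ≤ k) (T : C) (z : T ⟶ X.obj (op k)),
    ∃ (T' : C) (π : T' ⟶ T) (_ : Epi π) (y : T' ⟶ Y.obj (op n)),
      π ≫ z ≫ tr X ((Nat.le_add_right n r).trans h) = y ≫ u.app (op n)

theorem kerNullBy_of_isARNull {Y X : ARSys.PS C} (u : Y ⟶ X) {r : ℕ}
    (hr : ∀ n : ℕ, shiftMap (kernel u) r n = 0) : KerNullBy u r := by
  intro n k h T y hy
  have h1 : (y ≫ tr Y h) ≫ u.app (op (n + r)) = 0 := by
    rw [Category.assoc, tr_naturality, ← Category.assoc, hy, zero_comp]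
  obtain ⟨y', hy'⟩ := kernel_app_lift u (n + r) (y ≫ tr Y h) h1
  have h0 : tr (kernel u) (Nat.le_add_right n r) = 0 := hr n
  calc y ≫ tr Y ((Nat.le_add_right n r).trans h)
      = (y ≫ tr Y h) ≫ tr Y (Nat.le_add_right n r) := by rw [Category.assoc, tr_comp]
    _ = y' ≫ (kernel.ι u).app (op (n + r)) ≫ tr Y (Nat.le_add_right n r) := by
        rw [← hy', Category.assoc]
    _ = y' ≫ tr (kernel u) (Nat.le_add_right n r) ≫ (kernel.ι u).app (op n) := by
        rw [tr_naturality]
    _ = 0 := by rw [h0, zero_comp, comp_zero]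

theorem isARNull_kernel_of_kerNullBy {Y X : ARSys.PS C} (u : Y ⟶ X) {r : ℕ}
    (h : KerNullBy u r) : IsARNull (kernel u) := by
  refine ⟨r, fun n => ?_⟩
  change tr (kernel u) (Nat.le_add_right n r) = 0
  have : Mono ((kernel.ι u).app (op n)) := inferInstance
  rw [← cancel_mono ((kernel.ι u).app (op n)), zero_comp, tr_naturality]
  exact h n (n + r) le_rfl _ _ (kernel_app_condition u (n + r))

theorem cokerNullBy_of_isARNull {Y X : ARSys.PS C} (u : Y ⟶ X) {r : ℕ}
    (hr : ∀ n : ℕ, shiftMap (cokernel u) r n = 0) : CokerNullBy u r := by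
  intro n k h T z
  have h0 : tr (cokernel u) (Nat.le_add_right n r) = 0 := hr n
  apply cokernel_app_exact u n
  have e : tr X ((Nat.le_add_right n r).trans h) = tr X h ≫ tr X (Nat.le_add_right n r) := by
    rw [tr_comp]
  rw [e, Category.assoc, Category.assoc, tr_naturality, h0, comp_zero, comp_zero, comp_zero]

theorem isARNull_cokernel_of_cokerNullBy {Y X : ARSys.PS C} (u : Y ⟶ X) {r : ℕ}
    (h : CokerNullBy u r) : IsARNull (cokernel u) := by
  refine ⟨r, fun n => ?_⟩
  change tr (cokernel u) (Nat.le_add_right n r) = 0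
  have : Epi ((cokernel.π u).app (op (n + r))) := inferInstance
  rw [← cancel_epi ((cokernel.π u).app (op (n + r))), comp_zero, ← tr_naturality]
  obtain ⟨T', π, hπ, y, hy⟩ := h n (n + r) le_rfl _ (𝟙 _)
  rw [Category.id_comp] at hy
  rw [← cancel_epi π, comp_zero, ← Category.assoc, hy, Category.assoc, cokernel_app_condition,
    comp_zero]

/-- Elementwise description of isomorphisms up to translation. -/
theorem isARIso_iff {Y X : ARSys.PS C} (u : Y ⟶ X) :
    IsARIso u ↔ (∃ r, KerNullBy u r) ∧ (∃ r, CokerNullBy u r) := by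
  constructor
  · rintro ⟨⟨r', h'⟩, ⟨r'', h''⟩⟩
    exact ⟨⟨r', kerNullBy_of_isARNull u h'⟩, ⟨r'', cokerNullBy_of_isARNull u h''⟩⟩
  · rintro ⟨⟨r', h'⟩, ⟨r'', h''⟩⟩
    exact ⟨isARNull_kernel_of_kerNullBy u h', isARNull_cokernel_of_cokerNullBy u h''⟩

end KerCoker

section ML

/-- The uniform Mittag-Leffler condition with bound `r`, elementwise. -/
def MLBy (X : ARSys.PS C) (r : ℕ) : Prop :=
  ∀ (n k₁ k₂ : ℕ) (h₁ : n + r ≤ k₁) (h₂ : n + r ≤ k₂) (T : C) (x : T ⟶ X.obj (op k₁)),
    ∃ (T' : C) (π : T' ⟶ T) (_ : Epi π) (x' : T' ⟶ X.obj (op k₂)),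
      π ≫ x ≫ tr X ((Nat.le_add_right n r).trans h₁) = x' ≫ tr X ((Nat.le_add_right n r).trans h₂)

theorem mlBy_of_isMLAR {X : ARSys.PS C} {r : ℕ}
    (hr : ∀ s : ℕ, r ≤ s → ∀ n : ℕ,
      imageSubobject (shiftMap X s n) = imageSubobject (shiftMap X r n)) : MLBy X r := by
  intro n k₁ k₂ h₁ h₂ T x
  apply exists_refinement_of_image_le
  rw [image_tr_eq hr h₁, image_tr_eq hr h₂]

theorem isMLAR_of_mlBy {X : ARSys.PS C} {r : ℕ} (h : MLBy X r) : IsMLAR X := by
  refine ⟨r, fun s hs n => le_antisymm (image_sm_le X n hs) ?_⟩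
  apply image_le_of_refinement
  obtain ⟨T', π, hπ, x', hx'⟩ := h n (n + r) (n + s) le_rfl (by omega) _ (𝟙 _)
  rw [Category.id_comp] at hx'
  exact ⟨T', π, hπ, x', hx'⟩

theorem isMLAR_iff_exists_mlBy (X : ARSys.PS C) : IsMLAR X ↔ ∃ r, MLBy X r :=
  ⟨fun ⟨r, hr⟩ => ⟨r, mlBy_of_isMLAR hr⟩, fun ⟨_, hr⟩ => isMLAR_of_mlBy hr⟩

end ML

end Groth.Agent.Lib.ARSysElem
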