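import Groth.Agent.Lib.ARSysBasic
import Mathlib.CategoryTheory.Abelian.Exact
import Mathlib.Algebra.Homology.ShortComplex.ExactFunctor

/-!
Short exact sequences of projective systems (`ARSys`): termwise exactness, killed objects.
-/

namespace Groth.Agent.Lib.ARSysExact

open CategoryTheory CategoryTheory.Limits Opposite ARSys Groth.Agent.Lib.ARSysBasic

universe w v u

section Exact

variable {C : Type u} [Category.{v} C] [Abelian C]

/-- A short exact sequence of projective systems is termwise short exact. -/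
theorem shortExact_app {S : ShortComplex (ARSys.PS C)} (hS : S.ShortExact) (n : ℕ) :
    (S.map ((evaluation ℕᵒᵖ C).obj (op n))).ShortExact :=
  hS.map_of_exact _

theorem app_zero (S : ShortComplex (ARSys.PS C)) (n : ℕ) :
    S.f.app (op n) ≫ S.g.app (op n) = 0 := by
  rw [← NatTrans.comp_app, S.zero]; rfl

theorem epi_g_app {S : ShortComplex (ARSys.PS C)} (hS : S.ShortExact) (n : ℕ) :
    Epi (S.g.app (op n)) := (shortExact_app hS n).epi_g

theorem mono_f_app {S : ShortComplex (ARSys.PS C)} (hS : S.ShortExact) (n : ℕ) :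
    Mono (S.f.app (op n)) := (shortExact_app hS n).mono_f

/-- Descend a morphism killing `X₁_n` to `X₃_n`. -/
theorem exists_desc {S : ShortComplex (ARSys.PS C)} (hS : S.ShortExact) (n : ℕ) {Y : C}
    (ψ : S.X₂.obj (op n) ⟶ Y) (hψ : S.f.app (op n) ≫ ψ = 0) :
    ∃ χ : S.X₃.obj (op n) ⟶ Y, S.g.app (op n) ≫ χ = ψ := by
  have hex : (S.map ((evaluation ℕᵒᵖ C).obj (op n))).Exact := (shortExact_app hS n).exact
  have : Epi (S.map ((evaluation ℕᵒᵖ C).obj (op n))).g := (shortExact_app hS n).epi_g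
  exact ⟨hex.desc ψ hψ, hex.g_desc ψ hψ⟩

/-- Lift a morphism killed by `g_n` to `X₁_n`. -/
theorem exists_lift {S : ShortComplex (ARSys.PS C)} (hS : S.ShortExact) (n : ℕ) {T : C}
    (x : T ⟶ S.X₂.obj (op n)) (hx : x ≫ S.g.app (op n) = 0) :
    ∃ y : T ⟶ S.X₁.obj (op n), y ≫ S.f.app (op n) = x := by
  have hex : (S.map ((evaluation ℕᵒᵖ C).obj (op n))).Exact := (shortExact_app hS n).exact
  have : Mono (S.map ((evaluation ℕᵒᵖ C).obj (op n))).f := (shortExact_app hS n).mono_f
  exact ⟨hex.lift x hx, hex.lift_f x hx⟩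

end Exact

section Killed

variable {C : Type u} [Category.{v} C] {A : Type w} [CommRing A] [Preadditive C] [Linear A C]

theorem killedBy_of_epi {I : Ideal A} {X P : C} (π : X ⟶ P) [Epi π] (hX : KilledBy I X) :
    KilledBy I P := by
  intro a ha
  rw [← cancel_epi π, comp_zero, Linear.comp_smul, Category.comp_id]
  calc a • π = (a • 𝟙 X) ≫ π := by rw [Linear.smul_comp, Category.id_comp]
    _ = 0 := by rw [hX a ha, zero_comp]

theorem killedBy_of_mono {I : Ideal A} {X P : C} (i : P ⟶ X) [Mono i] (hX : KilledBy I X) :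
    KilledBy I P := by
  intro a ha
  rw [← cancel_mono i, zero_comp, Linear.smul_comp, Category.id_comp]
  calc a • i = i ≫ (a • 𝟙 X) := by rw [Linear.comp_smul, Category.comp_id]
    _ = 0 := by rw [hX a ha, comp_zero]

theorem homKilledBy_of_killedBy_source {I : Ideal A} {X Y : C} (φ : X ⟶ Y) (hX : KilledBy I X) :
    HomKilledBy I φ := by
  intro a ha
  calc a • φ = (a • 𝟙 X) ≫ φ := by rw [Linear.smul_comp, Category.id_comp]
    _ = 0 := by rw [hX a ha, zero_comp]

theorem homKilledBy_comp_left {I : Ideal A} {X Y Z : C} (f : X ⟶ Y) (φ : Y ⟶ Z)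
    (h : HomKilledBy I φ) : HomKilledBy I (f ≫ φ) := by
  intro a ha
  rw [← Linear.comp_smul, h a ha, comp_zero]

theorem homKilledBy_comp_right {I : Ideal A} {X Y Z : C} (φ : X ⟶ Y) (f : Y ⟶ Z)
    (h : HomKilledBy I φ) : HomKilledBy I (φ ≫ f) := by
  intro a ha
  rw [← Linear.smul_comp, h a ha, zero_comp]

theorem homKilledBy_of_epi_comp {I : Ideal A} {X Y Z : C} (f : X ⟶ Y) [Epi f] (φ : Y ⟶ Z)
    (h : HomKilledBy I (f ≫ φ)) : HomKilledBy I φ := by
  intro a ha
  rw [← cancel_epi f, comp_zero, Linear.comp_smul]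
  exact h a ha

theorem KilledBy.mono {I I' : Ideal A} (h : I' ≤ I) {X : C} (hX : KilledBy I X) : KilledBy I' X :=
  fun a ha => hX a (h ha)

theorem HomKilledBy.mono {I I' : Ideal A} (h : I' ≤ I) {X Y : C} {φ : X ⟶ Y}
    (hφ : HomKilledBy I φ) : HomKilledBy I' φ :=
  fun a ha => hφ a (h ha)

/-- The factorisation through a quotient map. -/
theorem IsQuot.exists_fac {I : Ideal A} {X Q : C} {p : X ⟶ Q} (h : IsQuot I p) {Y : C}
    (φ : X ⟶ Y) (hφ : HomKilledBy I φ) : ∃ ψ : Q ⟶ Y, p ≫ ψ = φ := by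
  obtain ⟨ψ, hψ, -⟩ := h.2 Y φ hφ
  exact ⟨ψ, hψ⟩

end Killed

end Groth.Agent.Lib.ARSysExact
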