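import Groth.Agent.Lib.ARSysGen
import Groth.Agent.S3158

/-!
Extensions of `J`-adic systems: a four-term exact sequence `T ⟶ X ⟶ Y ⟶ Z ⟶ 0` with `T` null up to
translation, `X`, `Z` adic and `Y` termwise killed has `Y` adic up to translation.
-/

namespace Groth.Agent.Lib.ARSysExt

open CategoryTheory CategoryTheory.Limits Opposite ARSys Groth.Agent.Lib.ARSysBasic
  Groth.Agent.Lib.ARSysExact Groth.Agent.Lib.ARSysQuot Groth.Agent.Lib.ARSysElem
  Groth.Agent.Lib.ARSysGen

universe w v u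

variable {C : Type u} [Category.{v} C] [Abelian C] {A : Type w} [CommRing A] [Linear A C]

section Strict

/-- Termwise exactness of an exact sequence of systems, in refinement form. -/
theorem exact_app_refine {X Y Z : ARSys.PS C} (b : X ⟶ Y) (c : Y ⟶ Z) (wbc : b ≫ c = 0)
    (hbc : (ShortComplex.mk b c wbc).Exact) (n : ℕ) {T : C} (y : T ⟶ Y.obj (op n))
    (hy : y ≫ c.app (op n) = 0) :
    ∃ (T' : C) (π : T' ⟶ T) (_ : Epi π) (x : T' ⟶ X.obj (op n)), π ≫ y = x ≫ b.app (op n) := by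
  have h : ((ShortComplex.mk b c wbc).map ((evaluation ℕᵒᵖ C).obj (op n))).Exact := hbc.map _
  exact h.exact_up_to_refinements y hy

/-- In an exact sequence `X ⟶ Y ⟶ Z ⟶ 0` with `X` and `Z` strict, `Y` is strict. -/
theorem isStrict_of_exact {X Y Z : ARSys.PS C} (b : X ⟶ Y) (c : Y ⟶ Z) [Epi c]
    (wbc : b ≫ c = 0) (hbc : (ShortComplex.mk b c wbc).Exact)
    (hXs : IsStrict X) (hZs : IsStrict Z) : IsStrict Y := by
  have hcn : ∀ n : ℕ, Epi (c.app (op n)) := fun n => inferInstance
  intro n m h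
  rw [epi_iff_surjective_up_to_refinements]
  intro T y
  have := hZs n m h
  have := hcn m
  have := hXs n m h
  obtain ⟨T₁, π₁, hπ₁, y₁, hy₁⟩ := surjective_up_to_refinements_of_epi
    (c.app (op m) ≫ tr Z h) (y ≫ c.app (op n))
  have hd : (π₁ ≫ y - y₁ ≫ tr Y h) ≫ c.app (op n) = 0 := by
    rw [Preadditive.sub_comp, sub_eq_zero, Category.assoc, hy₁, Category.assoc,
      tr_naturality c h]
  obtain ⟨T₂, π₂, hπ₂, x, hx'⟩ := exact_app_refine b c wbc hbc n _ hd
  obtain ⟨T₃, π₃, hπ₃, x₁, hx₁⟩ := surjective_up_to_refinements_of_epi (tr X h) x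
  refine ⟨T₃, π₃ ≫ π₂ ≫ π₁, inferInstance, π₃ ≫ π₂ ≫ y₁ + x₁ ≫ b.app (op m), ?_⟩
  rw [Preadditive.add_comp, Category.assoc x₁, ← tr_naturality b h, ← reassoc_of% hx₁, ← hx',
    Preadditive.comp_sub, Preadditive.comp_sub]
  simp only [Category.assoc]
  abel

end Strict

variable [IsNoetherianRing A]

/-- Four-term exact sequence `T ⟶ X ⟶ Y ⟶ Z ⟶ 0`: `T` null up to translation, `X`, `Z` adic,
`Y` termwise killed. Then `Y` is adic up to translation. -/
theorem isARAdic_of_four_term (J : Ideal A) {T X Y Z : ARSys.PS C} (a : T ⟶ X) (b : X ⟶ Y)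
    (c : Y ⟶ Z) [Epi c] (wab : a ≫ b = 0) (wbc : b ≫ c = 0)
    (hab : (ShortComplex.mk a b wab).Exact) (hbc : (ShortComplex.mk b c wbc).Exact)
    (hT : IsARNull T) (hX : IsAdic J X) (hY : TermKilled J Y) (hZ : IsAdic J Z) :
    IsARAdic J Y := by
  have hJ : J.FG ∨ HasCoproducts.{w} C := Or.inl (IsNoetherian.noetherian J)
  obtain ⟨r, hr⟩ := hT
  have hcn : ∀ n : ℕ, Epi (c.app (op n)) := fun n => inferInstance
  have hXs : IsStrict X := fun n m h => IsQuot.epi (hX.2 n m h)
  have hZs : IsStrict Z := fun n m h => IsQuot.epi (hZ.2 n m h)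
  have hYs : IsStrict Y := isStrict_of_exact b c wbc hbc hXs hZs
  apply Groth.Agent.S3158.isARAdic_of_subLE J hJ Y hYs hY r
  intro N W φ hφ
  rcases N with _ | k
  · have : φ = 0 := by
      apply Groth.Agent.S3158.homKilledBy_top_eq_zero (A := A)
      have e : J ^ (0 - r) = ⊤ := by rw [Nat.zero_sub, pow_zero, Ideal.one_eq_top]
      rwa [e] at hφ
    rw [this, comp_zero]
  · have lekk : k ≤ k + 1 := Nat.le_succ k
    change (kernelSubobject (tr Y lekk)).arrow ≫ φ = 0
    by_cases hk : k < r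
    · have : φ = 0 := by
        apply Groth.Agent.S3158.homKilledBy_top_eq_zero (A := A)
        have e : J ^ (k + 1 - r) = ⊤ := by
          have : k + 1 - r = 0 := by omega
          rw [this, pow_zero, Ideal.one_eq_top]
        rwa [e] at hφ
      rw [this, comp_zero]
    · have hk' : r ≤ k := not_lt.mp hk
      set n₀ := k - r with hn₀
      have hn₀r : n₀ + r ≤ k := by omega
      have len₀ : n₀ ≤ k + 1 := by omega
      have len₀k : n₀ ≤ k := by omega
      have hφ' : HomKilledBy (J ^ (n₀ + 1)) φ := by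
        have e : k + 1 - r = n₀ + 1 := by omega
        rwa [e] at hφ
      have hφ'' : HomKilledBy (J ^ (k + 1)) φ :=
        HomKilledBy.mono (Ideal.pow_le_pow_right (by omega)) hφ'
      -- generators of `J^(k+1)`
      obtain ⟨ι, hι, g, hspan, hg⟩ := exists_finite_gens (J ^ (k + 1))
      have hqZ : IsQuot (Ideal.span (Set.range g)) (tr Z lekk) := by
        rw [hspan]; exact hZ.2 k (k + 1) lekk
      set y := (kernelSubobject (tr Y lekk)).arrow with hy
      have hy0 : y ≫ tr Y lekk = 0 := kernelSubobject_arrow_comp _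
      -- (1)
      have hz0 : (y ≫ c.app (op (k + 1))) ≫ tr Z lekk = 0 := by
        rw [Category.assoc, ← tr_naturality c lekk, reassoc_of% hy0, zero_comp]
      obtain ⟨T₁, π₁, hπ₁, w, hw⟩ := exists_lift_sumMap g (tr Z lekk) hqZ _ hz0
      -- (2)
      have := hcn (k + 1)
      obtain ⟨T₂, π₂, hπ₂, v, hv⟩ := surjective_up_to_refinements_of_epi
        (Limits.Sigma.map (fun _ : ι => c.app (op (k + 1)))) w
      -- (3)
      set y' := π₂ ≫ π₁ ≫ y - v ≫ sumMap g (Y.obj (op (k + 1))) with hy'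
      have hy'c : y' ≫ c.app (op (k + 1)) = 0 := by
        rw [hy', Preadditive.sub_comp, sub_eq_zero]
        simp only [Category.assoc]
        rw [← sumMap_naturality g (c.app (op (k + 1))), ← reassoc_of% hv, ← hw]
      obtain ⟨T₃, π₃, hπ₃, x, hx'⟩ := exact_app_refine b c wbc hbc (k + 1) _ hy'c
      -- (4)
      have hy't : y' ≫ tr Y lekk = 0 := by
        rw [hy', Preadditive.sub_comp]
        simp only [Category.assoc]
        rw [hy0, comp_zero, comp_zero, zero_sub, neg_eq_zero,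
          ← sumMap_naturality g (tr Y lekk), sumMap_eq_zero g (hY k) hg, comp_zero, comp_zero]
      have hxt : (x ≫ tr X lekk) ≫ b.app (op k) = 0 := by
        rw [Category.assoc, tr_naturality b lekk, ← reassoc_of% hx', hy't, comp_zero]
      obtain ⟨T₄, π₄, hπ₄, τ, hτ⟩ := exact_app_refine a b wab hab k _ hxt
      have hτ' : π₄ ≫ x ≫ tr X lekk = τ ≫ a.app (op k) := hτ
      -- (5)
      have h5 : π₄ ≫ x ≫ tr X len₀ = 0 := by
        have e : tr X len₀ = tr X lekk ≫ tr X len₀k := by rw [tr_comp]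
        rw [e, reassoc_of% hτ', ← tr_naturality a len₀k]
        have h0 : tr T len₀k = 0 := tr_eq_zero_of_isARNull hr hn₀r
        rw [h0, zero_comp, comp_zero]
      -- (6)
      obtain ⟨β, hβ⟩ := IsQuot.exists_fac (hX.2 n₀ (k + 1) len₀) (b.app (op (k + 1)) ≫ φ)
        (homKilledBy_comp_left _ _ hφ')
      have hβ' : tr X len₀ ≫ β = b.app (op (k + 1)) ≫ φ := hβ
      -- (7)
      have h7 : sumMap g (Y.obj (op (k + 1))) ≫ φ = 0 := sumMap_comp_eq_zero g φ hφ'' hg
      -- (8)
      have h8 : y' ≫ φ = π₂ ≫ π₁ ≫ y ≫ φ := by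
        rw [hy', Preadditive.sub_comp]
        simp only [Category.assoc]
        rw [h7, comp_zero, sub_zero]
      rw [← cancel_epi π₁, ← cancel_epi π₂, ← cancel_epi π₃, ← cancel_epi π₄, comp_zero,
        comp_zero, comp_zero, comp_zero, ← h8, reassoc_of% hx', ← hβ', reassoc_of% h5, zero_comp]

end Groth.Agent.Lib.ARSysExt
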