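import Groth.Agent.Lib.ARSysElem
import Groth.Agent.Lib.ARSysShift
import Mathlib.CategoryTheory.Limits.HasLimits
import Mathlib.CategoryTheory.Abelian.Images

/-!
Inverse limits of projective systems: isomorphisms up to translation induce isomorphisms on `lim`.
-/

namespace Groth.Agent.Lib.ARSysLim

open CategoryTheory CategoryTheory.Limits Opposite ARSys Groth.Agent.Lib.ARSysBasic
  Groth.Agent.Lib.ARSysExact Groth.Agent.Lib.ARSysElem Groth.Agent.Lib.ARSysShift

universe v u

section General

variable {C : Type u} [Category.{v} C]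

/-- A cone over a projective system from legs indexed by `ℕ`. -/
def mkCone {X : ARSys.PS C} (P : C) (f : ∀ n : ℕ, P ⟶ X.obj (op n))
    (hf : ∀ (n m : ℕ) (h : n ≤ m), f m ≫ tr X h = f n) : Cone X where
  pt := P
  π :=
    { app := fun a => f a.unop
      naturality := fun a b φ => by
        dsimp
        rw [Category.id_comp]
        exact (hf b.unop a.unop (leOfHom φ.unop)).symm }

theorem limit_π_tr (X : ARSys.PS C) [HasLimit X] {n m : ℕ} (h : n ≤ m) :
    limit.π X (op m) ≫ tr X h = limit.π X (op n) :=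
  limit.w X (homOfLE h).op

theorem limit_hom_ext {X : ARSys.PS C} [HasLimit X] {P : C} {f g : P ⟶ limit X}
    (h : ∀ n : ℕ, f ≫ limit.π X (op n) = g ≫ limit.π X (op n)) : f = g :=
  limit.hom_ext (fun a => h a.unop)

end General

variable {C : Type u} [Category.{v} C] [Abelian C]

/-- A morphism that factors through a monomorphism after refinement factors through it. -/
theorem exists_lift_of_mono {X Y W : C} (i : X ⟶ Y) [Mono i] (φ : W ⟶ Y)
    (h : ∃ (T : C) (π : T ⟶ W) (_ : Epi π) (y : T ⟶ X), π ≫ φ = y ≫ i) :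
    ∃ φ' : W ⟶ X, φ' ≫ i = φ := by
  obtain ⟨T, π, hπ, y, hy⟩ := h
  have hS : (ShortComplex.mk i (cokernel.π i) (cokernel.condition _)).Exact :=
    ShortComplex.exact_cokernel _
  have : Mono (ShortComplex.mk i (cokernel.π i) (cokernel.condition _)).f := ‹Mono i›
  have h0 : φ ≫ cokernel.π i = 0 := by
    rw [← cancel_epi π, comp_zero, ← Category.assoc, hy, Category.assoc, cokernel.condition,
      comp_zero]
  exact ⟨hS.lift _ h0, hS.lift_f _ h0⟩

/-- A morphism out of the source of an epimorphism that kills its kernel factors through it. -/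
theorem exists_fac_of_epi {X Y W : C} (t : X ⟶ Y) [Epi t] (φ : X ⟶ W)
    (h : ∀ (T : C) (x : T ⟶ X), x ≫ t = 0 → x ≫ φ = 0) : ∃ φ' : Y ⟶ W, t ≫ φ' = φ := by
  have hS : (ShortComplex.mk (kernel.ι t) t (kernel.condition _)).Exact :=
    ShortComplex.exact_kernel _
  have : Epi (ShortComplex.mk (kernel.ι t) t (kernel.condition _)).g := ‹Epi t›
  have h0 : kernel.ι t ≫ φ = 0 := h _ _ (kernel.condition t)
  exact ⟨hS.desc _ h0, hS.g_desc _ h0⟩

variable [HasLimitsOfShape ℕᵒᵖ C]

/-- A termwise epimorphism whose kernel is null up to translation induces an isomorphism on limits. -/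
theorem isIso_limMap_of_epi {X I : ARSys.PS C} (e : X ⟶ I) (he : ∀ n : ℕ, Epi (e.app (op n)))
    {r : ℕ} (hker : KerNullBy e r) : IsIso (limMap e) := by
  have hex : ∀ n : ℕ, ∃ sn : I.obj (op (n + r)) ⟶ X.obj (op n),
      e.app (op (n + r)) ≫ sn = tr X (Nat.le_add_right n r) := by
    intro n
    have := he (n + r)
    exact exists_fac_of_epi _ _ (fun T x hx => hker n (n + r) le_rfl T x hx)
  choose s hs using hex
  have hse : ∀ n : ℕ, s n ≫ e.app (op n) = tr I (Nat.le_add_right n r) := by
    intro n
    have := he (n + r)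
    rw [← cancel_epi (e.app (op (n + r))), ← Category.assoc, hs, tr_naturality]
  have hsnat : ∀ (n m : ℕ) (h : n ≤ m),
      tr I (Nat.add_le_add_right h r) ≫ s n = s m ≫ tr X h := by
    intro n m h
    have := he (m + r)
    rw [← cancel_epi (e.app (op (m + r))), ← Category.assoc,
      ← tr_naturality e (Nat.add_le_add_right h r), Category.assoc, hs, ← Category.assoc, hs,
      tr_comp, tr_comp]
  let c : Cone X := mkCone (limit I) (fun n => limit.π I (op (n + r)) ≫ s n) (by
    intro n m h
    rw [Category.assoc, ← hsnat n m h, ← Category.assoc, limit_π_tr])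
  obtain ⟨inv, hc⟩ : ∃ inv : limit I ⟶ limit X,
      ∀ n : ℕ, inv ≫ limit.π X (op n) = limit.π I (op (n + r)) ≫ s n :=
    ⟨limit.lift X c, fun n => limit.lift_π c (op n)⟩
  refine ⟨inv, ?_, ?_⟩
  · apply limit_hom_ext
    intro n
    rw [Category.assoc, hc, limMap_π_assoc, hs, limit_π_tr, Category.id_comp]
  · apply limit_hom_ext
    intro n
    rw [Category.assoc, limMap_π, ← Category.assoc, hc, Category.assoc, hse, limit_π_tr,
      Category.id_comp]

/-- A termwise monomorphism whose cokernel is null up to translation induces an isomorphism on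
limits. -/
theorem isIso_limMap_of_mono {I Y : ARSys.PS C} (i : I ⟶ Y) (hi : ∀ n : ℕ, Mono (i.app (op n)))
    {r : ℕ} (hcoker : CokerNullBy i r) : IsIso (limMap i) := by
  have hex : ∀ n : ℕ, ∃ sn : Y.obj (op (n + r)) ⟶ I.obj (op n),
      sn ≫ i.app (op n) = tr Y (Nat.le_add_right n r) := by
    intro n
    have := hi n
    apply exists_lift_of_mono
    obtain ⟨T', π, hπ, y, hy⟩ := hcoker n (n + r) le_rfl _ (𝟙 _)
    rw [Category.id_comp] at hy
    exact ⟨T', π, hπ, y, hy⟩
  choose s hs using hex
  have his : ∀ n : ℕ, i.app (op (n + r)) ≫ s n = tr I (Nat.le_add_right n r) := by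
    intro n
    have := hi n
    rw [← cancel_mono (i.app (op n)), Category.assoc, hs, tr_naturality]
  have hsnat : ∀ (n m : ℕ) (h : n ≤ m),
      tr Y (Nat.add_le_add_right h r) ≫ s n = s m ≫ tr I h := by
    intro n m h
    have := hi n
    rw [← cancel_mono (i.app (op n)), Category.assoc, hs, Category.assoc, tr_naturality i h,
      ← Category.assoc, hs, tr_comp, tr_comp]
  let c : Cone I := mkCone (limit Y) (fun n => limit.π Y (op (n + r)) ≫ s n) (by
    intro n m h
    rw [Category.assoc, ← hsnat n m h, ← Category.assoc, limit_π_tr])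
  obtain ⟨inv, hc⟩ : ∃ inv : limit Y ⟶ limit I,
      ∀ n : ℕ, inv ≫ limit.π I (op n) = limit.π Y (op (n + r)) ≫ s n :=
    ⟨limit.lift I c, fun n => limit.lift_π c (op n)⟩
  refine ⟨inv, ?_, ?_⟩
  · apply limit_hom_ext
    intro n
    rw [Category.assoc, hc, limMap_π_assoc, his, limit_π_tr, Category.id_comp]
  · apply limit_hom_ext
    intro n
    rw [Category.assoc, limMap_π, ← Category.assoc, hc, Category.assoc, hs, limit_π_tr,
      Category.id_comp]

/-- An isomorphism up to translation induces an isomorphism on limits. -/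
theorem isIso_limMap_of_isARIso {X Y : ARSys.PS C} (u : X ⟶ Y) (hu : IsARIso u) :
    IsIso (limMap u) := by
  obtain ⟨⟨r', hker⟩, ⟨r'', hcoker⟩⟩ := (isARIso_iff u).mp hu
  set e := Abelian.factorThruImage u with he
  set i := Abelian.image.ι u with hi
  have hfac : e ≫ i = u := Abelian.image.fac u
  have hfacapp : ∀ n : ℕ, e.app (op n) ≫ i.app (op n) = u.app (op n) := fun n => by
    rw [← NatTrans.comp_app, hfac]
  have hee : ∀ n : ℕ, Epi (e.app (op n)) := fun n => inferInstance
  have him : ∀ n : ℕ, Mono (i.app (op n)) := fun n => inferInstance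
  have h1 : IsIso (limMap e) := by
    apply isIso_limMap_of_epi e hee (r := r')
    intro n k h T y hy
    apply hker n k h T y
    rw [← hfacapp, ← Category.assoc, hy, zero_comp]
  have h2 : IsIso (limMap i) := by
    apply isIso_limMap_of_mono i him (r := r'')
    intro n k h T z
    obtain ⟨T', π, hπ, y, hy⟩ := hcoker n k h T z
    exact ⟨T', π, hπ, y ≫ e.app (op n), by rw [hy, Category.assoc, hfacapp]⟩
  have h3 : limMap u = limMap e ≫ limMap i := by
    apply limit_hom_ext
    intro n
    rw [limMap_π, Category.assoc, limMap_π, limMap_π_assoc, hfacapp]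
  rw [h3]
  infer_instance

end Groth.Agent.Lib.ARSysLim
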