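import Groth.Agent.Lib.ARSysGen
import Groth.Agent.Lib.ARSysLim
import Mathlib.CategoryTheory.Limits.Shapes.Pullback.IsPullback.Basic
import Mathlib.CategoryTheory.Limits.Preserves.Shapes.Pullbacks
import Mathlib.CategoryTheory.Abelian.Basic

/-!
Pullbacks of projective systems, termwise; exactness from termwise exactness.
-/

namespace Groth.Agent.Lib.ARSysPull

open CategoryTheory CategoryTheory.Limits Opposite ARSys Groth.Agent.Lib.ARSysBasic
  Groth.Agent.Lib.ARSysExact Groth.Agent.Lib.ARSysElem Groth.Agent.Lib.ARSysGen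

universe w v u

variable {C : Type u} [Category.{v} C] [Abelian C]

/-- A complex of projective systems which is termwise exact (in refinement form) is exact. -/
theorem exact_of_termwise {X Y Z : ARSys.PS C} (b : X ⟶ Y) (c : Y ⟶ Z) (wbc : b ≫ c = 0)
    (h : ∀ (n : ℕ) (T : C) (y : T ⟶ Y.obj (op n)), y ≫ c.app (op n) = 0 →
      ∃ (T' : C) (π : T' ⟶ T) (_ : Epi π) (x : T' ⟶ X.obj (op n)), π ≫ y = x ≫ b.app (op n)) :
    (ShortComplex.mk b c wbc).Exact := by
  rw [ShortComplex.exact_iff_epi_kernel_lift]
  change Epi (kernel.lift c b wbc)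
  have : ∀ a : ℕᵒᵖ, Epi ((kernel.lift c b wbc).app a) := by
    intro a
    obtain ⟨n⟩ := a
    rw [epi_iff_surjective_up_to_refinements]
    intro T y'
    have hy : (y' ≫ (kernel.ι c).app (op n)) ≫ c.app (op n) = 0 := by
      rw [Category.assoc, kernel_app_condition, comp_zero]
    obtain ⟨T', π, hπ, x, hx⟩ := h n T _ hy
    refine ⟨T', π, hπ, x, ?_⟩
    have : Mono ((kernel.ι c).app (op n)) := inferInstance
    rw [← cancel_mono ((kernel.ι c).app (op n)), Category.assoc, Category.assoc,
      ← NatTrans.comp_app, kernel.lift_ι]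
    exact hx
  exact NatTrans.epi_of_epi_app _

section Pullback

variable {Y Z W : ARSys.PS C} (g : Y ⟶ Z) (u : W ⟶ Z)

/-- The pullback of projective systems is a termwise pullback. -/
theorem isPullback_app (n : ℕ) :
    IsPullback ((pullback.fst g u).app (op n)) ((pullback.snd g u).app (op n))
      (g.app (op n)) (u.app (op n)) :=
  (IsPullback.of_hasPullback g u).map ((evaluation ℕᵒᵖ C).obj (op n))

theorem pullback_app_hom_ext (n : ℕ) {T : C} {p q : T ⟶ (pullback g u).obj (op n)}
    (h₁ : p ≫ (pullback.fst g u).app (op n) = q ≫ (pullback.fst g u).app (op n))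
    (h₂ : p ≫ (pullback.snd g u).app (op n) = q ≫ (pullback.snd g u).app (op n)) : p = q :=
  (isPullback_app g u n).hom_ext h₁ h₂

theorem pullback_app_exists_lift (n : ℕ) {T : C} (y : T ⟶ Y.obj (op n)) (w : T ⟶ W.obj (op n))
    (h : y ≫ g.app (op n) = w ≫ u.app (op n)) :
    ∃ p : T ⟶ (pullback g u).obj (op n), p ≫ (pullback.fst g u).app (op n) = y ∧
      p ≫ (pullback.snd g u).app (op n) = w :=
  ⟨(isPullback_app g u n).lift y w h, (isPullback_app g u n).lift_fst y w h,
    (isPullback_app g u n).lift_snd y w h⟩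

theorem pullback_condition_app (n : ℕ) :
    (pullback.fst g u).app (op n) ≫ g.app (op n) =
      (pullback.snd g u).app (op n) ≫ u.app (op n) :=
  (isPullback_app g u n).w

/-- The projection from the pullback along an isomorphism up to translation has kernel null up to
translation. -/
theorem kerNullBy_pullback_fst {r : ℕ} (hu : KerNullBy u r) : KerNullBy (pullback.fst g u) r := by
  intro n k h T p hp
  apply pullback_app_hom_ext g u n
  · rw [Category.assoc, tr_naturality, reassoc_of% hp, zero_comp, zero_comp]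
  · rw [Category.assoc, tr_naturality, zero_comp, ← Category.assoc]
    apply hu n k h T
    rw [Category.assoc, ← pullback_condition_app, reassoc_of% hp, zero_comp]

theorem cokerNullBy_pullback_fst {r : ℕ} (hu : CokerNullBy u r) :
    CokerNullBy (pullback.fst g u) r := by
  intro n k h T y
  obtain ⟨T', π, hπ, w, hw⟩ := hu n k h T (y ≫ g.app (op k))
  have le : n ≤ k := (Nat.le_add_right n r).trans h
  have hw' : π ≫ (y ≫ g.app (op k)) ≫ tr Z le = w ≫ u.app (op n) := hw
  obtain ⟨p, hp₁, -⟩ := pullback_app_exists_lift g u n (π ≫ y ≫ tr Y le) w (by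
    rw [← hw']
    simp only [Category.assoc]
    rw [tr_naturality g le])
  exact ⟨T', π, hπ, p, hp₁.symm⟩

theorem isARIso_pullback_fst (hu : IsARIso u) : IsARIso (pullback.fst g u) := by
  obtain ⟨⟨r, hr⟩, ⟨r', hr'⟩⟩ := (isARIso_iff u).mp hu
  exact (isARIso_iff _).mpr
    ⟨⟨r, kerNullBy_pullback_fst g u hr⟩, ⟨r', cokerNullBy_pullback_fst g u hr'⟩⟩

/-- The second projection is termwise an epimorphism if `g` is. -/
theorem epi_pullback_snd_app (hg : ∀ n : ℕ, Epi (g.app (op n))) (n : ℕ) :
    Epi ((pullback.snd g u).app (op n)) := by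
  rw [epi_iff_surjective_up_to_refinements]
  intro T w
  have := hg n
  obtain ⟨T', π, hπ, y, hy⟩ := surjective_up_to_refinements_of_epi (g.app (op n))
    (w ≫ u.app (op n))
  obtain ⟨p, -, hp₂⟩ := pullback_app_exists_lift g u n y (π ≫ w) (by rw [← hy, Category.assoc])
  exact ⟨T', π, hπ, p, hp₂.symm⟩

end Pullback

section Killed

variable {A : Type w} [CommRing A] [Linear A C]

theorem termKilled_pullback (J : Ideal A) {Y Z W : ARSys.PS C} (g : Y ⟶ Z) (u : W ⟶ Z)
    (kY : TermKilled J Y) (kW : TermKilled J W) : TermKilled J (pullback g u) := by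
  intro n a ha
  apply pullback_app_hom_ext g u n
  · rw [zero_comp, Linear.smul_comp, Category.id_comp]
    exact homKilledBy_of_killedBy _ (kY n) a ha
  · rw [zero_comp, Linear.smul_comp, Category.id_comp]
    exact homKilledBy_of_killedBy _ (kW n) a ha

theorem termKilled_of_mono (J : Ideal A) {X Y : ARSys.PS C} (i : X ⟶ Y)
    (hi : ∀ n : ℕ, Mono (i.app (op n))) (kY : TermKilled J Y) : TermKilled J X := by
  intro n
  have := hi n
  exact killedBy_of_mono (i.app (op n)) (kY n)

end Killed

end Groth.Agent.Lib.ARSysPull
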