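import Groth.Agent.S3188
import Groth.Agent.Lib.ARSysExact

/-!
The system of images `imSys X r` of a projective system (defined in `S3188`): strictness under the
uniform Mittag-Leffler condition, AR-nullity of the quotient.
-/

namespace Groth.Agent.Lib.ARSysImage

open CategoryTheory CategoryTheory.Limits Opposite ARSys Groth.Agent.Lib.ARSysBasic
  Groth.Agent.Lib.ARSysExact Groth.Agent.S3188

universe v u

variable {C : Type u} [Category.{v} C] [Abelian C]

/-- A morphism into (the underlying object of) a subobject `S` whose composite with `S.arrow` has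
image `S` is an epimorphism. -/
theorem epi_of_image_comp_arrow_eq {Z W : C} (S : Subobject Z) (φ : W ⟶ (S : C))
    (h : imageSubobject (φ ≫ S.arrow) = S) : Epi φ := by
  have hle : imageSubobject (φ ≫ S.arrow) ≤ S := le_of_eq h
  have hge : S ≤ imageSubobject (φ ≫ S.arrow) := le_of_eq h.symm
  have hφ : φ = factorThruImageSubobject (φ ≫ S.arrow) ≫ Subobject.ofLE _ _ hle := by
    rw [← cancel_mono S.arrow, Category.assoc, Subobject.ofLE_arrow, imageSubobject_arrow_comp]
  have : Epi (Subobject.ofLE _ _ hle) := by
    have e : Subobject.ofLE _ _ hge ≫ Subobject.ofLE _ _ hle = 𝟙 _ := by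
      rw [Subobject.ofLE_comp_ofLE, Subobject.ofLE_refl]
    exact epi_of_epi_fac e
  rw [hφ]
  infer_instance

/-- The kernel of a monomorphism of systems is null up to translation. -/
theorem isARNull_kernel_of_mono {X Y : ARSys.PS C} (u : X ⟶ Y) [Mono u] : IsARNull (kernel u) := by
  refine ⟨0, fun n => ?_⟩
  have hz : IsZero (kernel u) := isZero_kernel_of_mono u
  have hz' : IsZero ((kernel u).obj (op (n + 0))) := (Functor.isZero_iff _).mp hz _
  exact hz'.eq_of_src _ _

/-- The cokernel of an epimorphism of systems is null up to translation. -/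
theorem isARNull_cokernel_of_epi {X Y : ARSys.PS C} (u : X ⟶ Y) [Epi u] :
    IsARNull (cokernel u) := by
  refine ⟨0, fun n => ?_⟩
  have hz : IsZero (cokernel u) := isZero_cokernel_of_epi u
  have hz' : IsZero ((cokernel u).obj (op (n + 0))) := (Functor.isZero_iff _).mp hz _
  exact hz'.eq_of_src _ _

/-- Under the uniform Mittag-Leffler condition with bound `r`, the image of `X_k ⟶ X_n` is the
universal image as soon as `n + r ≤ k`. -/
theorem image_tr_eq {X : ARSys.PS C} {r : ℕ}
    (hr : ∀ s : ℕ, r ≤ s → ∀ n : ℕ,
      imageSubobject (shiftMap X s n) = imageSubobject (shiftMap X r n))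
    {n k : ℕ} (h : n + r ≤ k) :
    imageSubobject (tr X ((Nat.le_add_right n r).trans h)) = Im X r n := by
  obtain ⟨s, rfl⟩ : ∃ s, k = n + s := ⟨k - n, by omega⟩
  exact hr s (by omega) n

theorem mono_imι (X : ARSys.PS C) (r : ℕ) : Mono (imι X r) := by
  have : ∀ n : ℕᵒᵖ, Mono ((imι X r).app n) := fun n => by
    change Mono (Im X r n.unop).arrow
    infer_instance
  exact NatTrans.mono_of_mono_app _

/-- The canonical epimorphism `X_{m+r} ⟶ (imSys X r)_m`. -/
noncomputable def toIm (X : ARSys.PS C) (r m : ℕ) :
    X.obj (op (m + r)) ⟶ (imSys X r).obj (op m) :=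
  factorThruImageSubobject (sm X r m)

instance (X : ARSys.PS C) (r m : ℕ) : Epi (toIm X r m) := by
  unfold toIm
  change Epi (factorThruImageSubobject (sm X r m))
  infer_instance

@[reassoc]
theorem toIm_imι (X : ARSys.PS C) (r m : ℕ) :
    toIm X r m ≫ (imι X r).app (op m) = tr X (Nat.le_add_right m r) :=
  imageSubobject_arrow_comp (sm X r m)

theorem image_imι_app (X : ARSys.PS C) (r n : ℕ) :
    imageSubobject ((imι X r).app (op n)) = Im X r n := by
  change imageSubobject (Im X r n).arrow = Im X r n
  rw [imageSubobject_mono, Subobject.mk_arrow]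

/-- A morphism into `(imSys X r)_n` whose composite with the inclusion has image the `n`-th image
is an epimorphism. -/
theorem epi_of_image_comp_imι {X : ARSys.PS C} {r n : ℕ} {W : C}
    (φ : W ⟶ (imSys X r).obj (op n))
    (h : imageSubobject (φ ≫ (imι X r).app (op n)) = Im X r n) : Epi φ :=
  epi_of_image_comp_arrow_eq (Im X r n) φ h

/-- The system of universal images of a uniformly Mittag-Leffler system is strict. -/
theorem isStrict_imSys {X : ARSys.PS C} {r : ℕ}
    (hr : ∀ s : ℕ, r ≤ s → ∀ n : ℕ,
      imageSubobject (shiftMap X s n) = imageSubobject (shiftMap X r n)) :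
    IsStrict (imSys X r) := by
  intro n m h
  have hepi : Epi (toIm X r m ≫ tr (imSys X r) h) := by
    apply epi_of_image_comp_imι
    have e : (toIm X r m ≫ tr (imSys X r) h) ≫ (imι X r).app (op n) =
        tr X ((Nat.le_add_right n r).trans (Nat.add_le_add_right h r)) := by
      rw [Category.assoc, tr_naturality, toIm_imι_assoc, tr_comp]
    rw [e]
    exact image_tr_eq hr (Nat.add_le_add_right h r)
  exact epi_of_epi (toIm X r m) _

/-- The quotient of a system by its system of images is null up to translation. -/
theorem isARNull_cokernel_imι (X : ARSys.PS C) (r : ℕ) : IsARNull (cokernel (imι X r)) := by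
  refine ⟨r, fun n => ?_⟩
  have hepi : Epi ((cokernel.π (imι X r)).app (op (n + r))) := inferInstance
  change tr (cokernel (imι X r)) (Nat.le_add_right n r) = 0
  rw [← cancel_epi ((cokernel.π (imι X r)).app (op (n + r))), comp_zero, ← tr_naturality]
  have e2 : (Im X r n).arrow ≫ (cokernel.π (imι X r)).app (op n) = 0 := by
    change (imι X r).app (op n) ≫ (cokernel.π (imι X r)).app (op n) = 0
    rw [← NatTrans.comp_app, cokernel.condition]
    rfl
  calc tr X (Nat.le_add_right n r) ≫ (cokernel.π (imι X r)).app (op n)
      = (factorThruImageSubobject (sm X r n) ≫ (Im X r n).arrow) ≫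
          (cokernel.π (imι X r)).app (op n) := by rw [imageSubobject_arrow_comp]
    _ = factorThruImageSubobject (sm X r n) ≫ ((Im X r n).arrow ≫
          (cokernel.π (imι X r)).app (op n)) := Category.assoc _ _ _
    _ = 0 := by rw [e2, comp_zero]

/-- The inclusion of the system of images is an isomorphism up to translation. -/
theorem isARIso_imι (X : ARSys.PS C) (r : ℕ) : IsARIso (imι X r) := by
  have := mono_imι X r
  exact ⟨isARNull_kernel_of_mono _, isARNull_cokernel_imι X r⟩

end Groth.Agent.Lib.ARSysImage
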