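import Groth.Agent.Lib.ARSysBasic
import Mathlib.Algebra.Homology.ShortComplex.ExactFunctor
import Mathlib.Algebra.Homology.ShortComplex.ShortExact

/-!
Mittag-Leffler conditions on projective systems: image subobjects via refinements.
-/

namespace Groth.Agent.Lib.ARSysML

open CategoryTheory CategoryTheory.Limits Opposite ARSys Groth.Agent.Lib.ARSysBasic

universe v u

section Aux
variable {D : Type u} [Category.{v} D] [Abelian D]

/-- Precomposing with an epimorphism does not change the image subobject (abelian case). -/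
theorem imageSubobject_epi_comp {X' X Y : D} (h : X' ⟶ X) [Epi h] (f : X ⟶ Y) :
    imageSubobject (h ≫ f) = imageSubobject f := by
  apply le_antisymm (imageSubobject_comp_le h f)
  have : IsIso (Subobject.ofLE _ _ (imageSubobject_comp_le h f)) := isIso_of_mono_of_epi _
  exact Subobject.le_of_comm (inv (Subobject.ofLE _ _ (imageSubobject_comp_le h f))) (by simp)

/-- Criterion for inclusion of images: `f` factors through `g` up to refinement. -/
theorem imageSubobject_le_of_refinement {A B Y : D} (f : A ⟶ Y) (g : B ⟶ Y)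
    (h : ∃ (T : D) (π : T ⟶ A) (_ : Epi π) (b : T ⟶ B), π ≫ f = b ≫ g) :
    imageSubobject f ≤ imageSubobject g := by
  obtain ⟨T, π, hπ, b, hb⟩ := h
  rw [← imageSubobject_epi_comp π f]
  have e : imageSubobject (π ≫ f) = imageSubobject (b ≫ g) :=
    congrArg (fun φ => imageSubobject φ) hb
  rw [e]
  exact imageSubobject_comp_le b g

/-- If the image of `f` is contained in that of `g`, generalized elements of the source of `f`
lift to the source of `g` up to refinement. -/
theorem refinement_of_imageSubobject_le {A B Y : D} (f : A ⟶ Y) (g : B ⟶ Y)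
    (h : imageSubobject f ≤ imageSubobject g) {T : D} (a : T ⟶ A) :
    ∃ (T' : D) (π : T' ⟶ T) (_ : Epi π) (b : T' ⟶ B), π ≫ a ≫ f = b ≫ g := by
  obtain ⟨T', π, hπ, b, hb⟩ := surjective_up_to_refinements_of_epi (factorThruImageSubobject g)
    (a ≫ factorThruImageSubobject f ≫ Subobject.ofLE _ _ h)
  refine ⟨T', π, hπ, b, ?_⟩
  have h1 : f = factorThruImageSubobject f ≫ Subobject.ofLE _ _ h ≫ (imageSubobject g).arrow := by
    rw [Subobject.ofLE_arrow, imageSubobject_arrow_comp]
  have h2 : b ≫ g = (b ≫ factorThruImageSubobject g) ≫ (imageSubobject g).arrow := by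
    rw [Category.assoc, imageSubobject_arrow_comp]
  rw [h2, ← hb]
  conv_lhs => rw [h1]
  simp only [Category.assoc]

end Aux

section ML

variable {C : Type u} [Category.{v} C] [Abelian C]

/-- General-index form of the uniform Mittag-Leffler condition. -/
theorem image_tr_eq_of_MLAR {X : ARSys.PS C} {r : ℕ}
    (hr : ∀ s : ℕ, r ≤ s → ∀ n : ℕ,
      imageSubobject (shiftMap X s n) = imageSubobject (shiftMap X r n))
    {n m k : ℕ} (h1 : n + r ≤ m) (h2 : m ≤ k) :
    imageSubobject (tr X (show n ≤ k by omega)) = imageSubobject (tr X (show n ≤ m by omega)) := by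
  obtain ⟨s, rfl⟩ := Nat.exists_eq_add_of_le (show n ≤ m by omega)
  obtain ⟨s', rfl⟩ := Nat.exists_eq_add_of_le (show n ≤ k by omega)
  exact (hr s' (by omega) n).trans (hr s (by omega) n).symm

/-- Termwise short exactness. -/
theorem shortExact_app (S : ShortComplex (ARSys.PS C)) (hS : S.ShortExact) (n : ℕ) :
    (S.map ((evaluation ℕᵒᵖ C).obj (op n))).ShortExact :=
  hS.map_of_exact ((evaluation ℕᵒᵖ C).obj (op n))

/-- Termwise exactness up to refinements. -/
theorem exact_app_refinement (S : ShortComplex (ARSys.PS C)) (hS : S.ShortExact) (n : ℕ)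
    {T : C} (y : T ⟶ S.X₂.obj (op n)) (hy : y ≫ S.g.app (op n) = 0) :
    ∃ (T' : C) (π : T' ⟶ T) (_ : Epi π) (x : T' ⟶ S.X₁.obj (op n)),
      π ≫ y = x ≫ S.f.app (op n) :=
  (shortExact_app S hS n).exact.exact_up_to_refinements y hy

/-- Middle term of a short exact sequence of systems is MLAR if the outer terms are. -/
theorem image_le_of_MLAR_outer (S : ShortComplex (ARSys.PS C)) (hS : S.ShortExact)
    {r₁ r₃ : ℕ}
    (hX : ∀ s : ℕ, r₁ ≤ s → ∀ n : ℕ,
      imageSubobject (shiftMap S.X₁ s n) = imageSubobject (shiftMap S.X₁ r₁ n))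
    (hZ : ∀ s : ℕ, r₃ ≤ s → ∀ n : ℕ,
      imageSubobject (shiftMap S.X₃ s n) = imageSubobject (shiftMap S.X₃ r₃ n))
    {n m k : ℕ} (h1 : n + r₁ + r₃ ≤ m) (h2 : m ≤ k) :
    imageSubobject (tr S.X₂ (show n ≤ m by omega)) ≤
      imageSubobject (tr S.X₂ (show n ≤ k by omega)) := by
  have hnp : n ≤ n + r₁ := by omega
  have hpm : n + r₁ ≤ m := by omega
  have hpk : n + r₁ ≤ k := by omega
  have hnm : n ≤ m := by omega
  have hnk : n ≤ k := by omega
  apply imageSubobject_le_of_refinement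
  -- step 1
  have eZ := image_tr_eq_of_MLAR hZ (n := n + r₁) (m := m) (k := k) (by omega) h2
  obtain ⟨T₁, π₁, hπ₁, z'', hz''⟩ := refinement_of_imageSubobject_le
    (tr S.X₃ hpm) (tr S.X₃ hpk) eZ.ge (S.g.app (op m))
  -- step 2
  have hepi : Epi S.g := hS.epi_g
  have : Epi (S.g.app (op k)) := inferInstance
  obtain ⟨T₂, π₂, hπ₂, y'', hy''⟩ := surjective_up_to_refinements_of_epi (S.g.app (op k)) z''
  -- step 3
  have hd : (y'' ≫ tr S.X₂ hpk - π₂ ≫ π₁ ≫ tr S.X₂ hpm) ≫ S.g.app (op (n + r₁)) = 0 := by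
    rw [Preadditive.sub_comp, Category.assoc, Category.assoc, Category.assoc,
      tr_naturality S.g hpk, tr_naturality S.g hpm, ← Category.assoc y'', ← hy'', Category.assoc,
      ← hz'', sub_self]
  obtain ⟨T₃, π₃, hπ₃, x, hx⟩ := exact_app_refinement S hS (n + r₁) _ hd
  -- step 4
  have eX := image_tr_eq_of_MLAR hX (n := n) (m := n + r₁) (k := k) le_rfl hpk
  obtain ⟨T₄, π₄, hπ₄, x', hx'⟩ := refinement_of_imageSubobject_le
    (tr S.X₁ hnp) (tr S.X₁ hnk) eX.ge x
  -- step 5
  refine ⟨T₄, π₄ ≫ π₃ ≫ π₂ ≫ π₁, inferInstance, π₄ ≫ π₃ ≫ y'' - x' ≫ S.f.app (op k), ?_⟩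
  have hx2 : x ≫ S.f.app (op (n + r₁)) = π₃ ≫ (y'' ≫ tr S.X₂ hpk - π₂ ≫ π₁ ≫ tr S.X₂ hpm) :=
    hx.symm
  have e1 : x' ≫ S.f.app (op k) ≫ tr S.X₂ hnk =
      π₄ ≫ π₃ ≫ (y'' ≫ tr S.X₂ hnk - π₂ ≫ π₁ ≫ tr S.X₂ hnm) := by
    rw [← tr_naturality S.f hnk, ← Category.assoc x', ← hx', Category.assoc, Category.assoc,
      tr_naturality S.f hnp, ← Category.assoc x, hx2]
    simp only [Category.assoc, Preadditive.sub_comp, tr_comp]
  rw [Preadditive.sub_comp, Category.assoc x', e1]
  simp only [Category.assoc, Preadditive.comp_sub]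
  abel

end ML

end Groth.Agent.Lib.ARSysML
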