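import Groth.Agent.Lib.ARSysExt
import Groth.Agent.Lib.ARSysPull
import Groth.Agent.S3151
import Groth.Agent.S3153
import Groth.Agent.S8639

/-!
An extension of systems which are `J`-adic up to translation, with termwise killed middle term, is
`J`-adic up to translation (over a Noetherian ring).
-/

namespace Groth.Agent.Lib.ARSysExt2

open CategoryTheory CategoryTheory.Limits Opposite ARSys Groth.Agent.Lib.ARSysBasic
  Groth.Agent.Lib.ARSysExact Groth.Agent.Lib.ARSysQuot Groth.Agent.Lib.ARSysElem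
  Groth.Agent.Lib.ARSysGen Groth.Agent.Lib.ARSysPull Groth.Agent.Lib.ARSysImage
  Groth.Agent.Lib.ARSysShift Groth.Agent.Lib.ARSysLim Groth.Agent.S3188

universe w v u

variable {C : Type u} [Category.{v} C] [Abelian C]

theorem isARIso_id (X : ARSys.PS C) : IsARIso (𝟙 X) :=
  ⟨isARNull_kernel_of_mono _, isARNull_cokernel_of_epi _⟩

theorem isMLAR_of_isStrict {X : ARSys.PS C} (hX : IsStrict X) : IsMLAR X :=
  (Groth.Agent.S3151.result X).mpr ⟨X, 𝟙 X, hX, isARIso_id X⟩

variable {A : Type w} [CommRing A] [Linear A C]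

theorem isMLAR_of_isARAdic (J : Ideal A) {X : ARSys.PS C} (hX : IsARAdic J X) : IsMLAR X := by
  obtain ⟨-, Y, u, hY, hu⟩ := hX
  exact (Groth.Agent.S3151.result X).mpr ⟨Y, u, fun n m h => IsQuot.epi (hY.2 n m h), hu⟩

variable [IsNoetherianRing A]

/-- An extension of systems `J`-adic up to translation, with termwise killed middle term, is
`J`-adic up to translation. -/
theorem isARAdic_of_shortExact (J : Ideal A) (S : ShortComplex (ARSys.PS C)) (hS : S.ShortExact)
    (k₂ : TermKilled J S.X₂) (h₁ : IsARAdic J S.X₁) (h₃ : IsARAdic J S.X₃) :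
    IsARAdic J S.X₂ := by
  have hJ : J.FG ∨ HasCoproducts.{w} C := Or.inl (IsNoetherian.noetherian J)
  have hKml : IsMLAR S.X₁ := isMLAR_of_isARAdic J h₁
  obtain ⟨k₁, Y₁, u₁, hY₁, hu₁⟩ := h₁
  obtain ⟨k₃, Y₃, u₃, hY₃, hu₃⟩ := h₃
  obtain ⟨⟨r₁, hker₁⟩, ⟨r₁', hcoker₁⟩⟩ := (isARIso_iff u₁).mp hu₁
  have hY₁s : IsStrict Y₁ := fun n m h => IsQuot.epi (hY₁.2 n m h)
  have hY₃s : IsStrict Y₃ := fun n m h => IsQuot.epi (hY₃.2 n m h)
  -- the pullback
  set P := pullback S.g u₃ with hPdef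
  set fst : P ⟶ S.X₂ := pullback.fst S.g u₃ with hfstdef
  set snd : P ⟶ Y₃ := pullback.snd S.g u₃ with hsnddef
  have hgn : ∀ n : ℕ, Epi (S.g.app (op n)) := epi_g_app hS
  have hfn : ∀ n : ℕ, Mono (S.f.app (op n)) := mono_f_app hS
  have hsnd : ∀ n : ℕ, Epi (snd.app (op n)) := epi_pullback_snd_app S.g u₃ hgn
  have hfst : IsARIso fst := isARIso_pullback_fst S.g u₃ hu₃
  have kP : TermKilled J P := termKilled_pullback J S.g u₃ k₂ hY₃.1
  -- `j : K ⟶ P`
  let j : S.X₁ ⟶ P := pullback.lift S.f 0 (by rw [S.zero, zero_comp])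
  have hjfst' : j ≫ fst = S.f := pullback.lift_fst _ _ _
  have hjsnd' : j ≫ snd = 0 := pullback.lift_snd _ _ _
  have hjfst : ∀ n : ℕ, j.app (op n) ≫ fst.app (op n) = S.f.app (op n) := fun n => by
    rw [← NatTrans.comp_app, hjfst']
  have hjsnd : ∀ n : ℕ, j.app (op n) ≫ snd.app (op n) = 0 := fun n => by
    rw [← NatTrans.comp_app, hjsnd']; rfl
  have hjmono : ∀ n : ℕ, Mono (j.app (op n)) := fun n => by
    have := hfn n
    exact mono_of_mono_fac (hjfst n)
  have hexP : ∀ (n : ℕ) (T : C) (p : T ⟶ P.obj (op n)), p ≫ snd.app (op n) = 0 →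
      ∃ k : T ⟶ S.X₁.obj (op n), k ≫ j.app (op n) = p := by
    intro n T p hp
    have h1 : (p ≫ fst.app (op n)) ≫ S.g.app (op n) = 0 := by
      rw [Category.assoc, pullback_condition_app, reassoc_of% hp, zero_comp]
    obtain ⟨k, hk⟩ := exists_lift hS n _ h1
    refine ⟨k, ?_⟩
    apply pullback_app_hom_ext S.g u₃ n
    · rw [Category.assoc]
      exact (congrArg (k ≫ ·) (hjfst n)).trans hk
    · rw [Category.assoc]
      exact ((congrArg (k ≫ ·) (hjsnd n)).trans comp_zero).trans hp.symm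
  -- `P` is uniformly Mittag-Leffler
  have hPml : IsMLAR P := by
    let SP : ShortComplex (ARSys.PS C) := ShortComplex.mk j snd hjsnd'
    have hSP : SP.ShortExact :=
      { exact := exact_of_termwise j snd hjsnd' (fun n T p hp => by
          obtain ⟨k, hk⟩ := hexP n T p hp
          exact ⟨T, 𝟙 T, inferInstance, k, by rw [Category.id_comp, hk]⟩)
        mono_f := by
          have : ∀ a : ℕᵒᵖ, Mono (j.app a) := fun a => hjmono a.unop
          exact NatTrans.mono_of_mono_app j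
        epi_g := by
          have : ∀ a : ℕᵒᵖ, Epi (snd.app a) := fun a => hsnd a.unop
          exact NatTrans.epi_of_epi_app snd }
    exact Groth.Agent.S8639.result SP hSP hKml (isMLAR_of_isStrict hY₃s)
  obtain ⟨R, hR⟩ := hPml
  -- universal images of `P`
  set P' := imSys P R with hP'def
  set ι' : P' ⟶ P := imι P R with hι'def
  have hι'mono : Mono ι' := mono_imι P R
  have hι'n : ∀ n : ℕ, Mono (ι'.app (op n)) := fun n => inferInstance
  have hP's : IsStrict P' := isStrict_imSys hR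
  have kP' : TermKilled J P' := termKilled_of_mono J ι' hι'n kP
  set c' : P' ⟶ Y₃ := ι' ≫ snd with hc'def
  have hc'app : ∀ n : ℕ, c'.app (op n) = ι'.app (op n) ≫ snd.app (op n) := fun n => rfl
  have htoIm : ∀ n : ℕ, toIm P R n ≫ ι'.app (op n) = tr P (Nat.le_add_right n R) :=
    fun n => toIm_imι P R n
  have hc'n : ∀ n : ℕ, Epi (c'.app (op n)) := by
    intro n
    rw [epi_iff_surjective_up_to_refinements]
    intro T w
    have := hY₃s n (n + R) (Nat.le_add_right n R)
    obtain ⟨T₁, π₁, hπ₁, w₁, hw₁⟩ := surjective_up_to_refinements_of_epi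
      (tr Y₃ (Nat.le_add_right n R)) w
    have := hsnd (n + R)
    obtain ⟨T₂, π₂, hπ₂, p₁, hp₁⟩ := surjective_up_to_refinements_of_epi
      (snd.app (op (n + R))) w₁
    refine ⟨T₂, π₂ ≫ π₁, epi_comp _ _, p₁ ≫ toIm P R n, ?_⟩
    rw [hc'app]
    simp only [Category.assoc]
    rw [reassoc_of% (htoIm n), tr_naturality snd, ← reassoc_of% hp₁, ← hw₁]
  have hc'epi : Epi c' := by
    have : ∀ a : ℕᵒᵖ, Epi (c'.app a) := fun a => hc'n a.unop
    exact NatTrans.epi_of_epi_app c'
  -- the kernel of `c'` is strict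
  have hK's : IsStrict (kernel c') := by
    let S' : ShortComplex (ARSys.PS C) := ShortComplex.mk (kernel.ι c') c' (kernel.condition c')
    have hS' : S'.ShortExact :=
      { exact := ShortComplex.exact_kernel c'
        mono_f := by dsimp [S']; infer_instance
        epi_g := hc'epi }
    exact Groth.Agent.S3153.result J hJ S' hS' kP' hP's hY₃
  -- `b : Y₁ ⟶ P'`
  set uj : Y₁ ⟶ P := u₁ ≫ j with hujdef
  have hujapp : ∀ n : ℕ, uj.app (op n) = u₁.app (op n) ≫ j.app (op n) := fun n => rfl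
  have hbex : ∀ n : ℕ, ∃ bn : Y₁.obj (op n) ⟶ P'.obj (op n),
      bn ≫ ι'.app (op n) = uj.app (op n) := by
    intro n
    have := hι'n n
    apply exists_lift_of_mono
    have := hY₁s n (n + R) (Nat.le_add_right n R)
    obtain ⟨T', π, hπ, y, hy⟩ := surjective_up_to_refinements_of_epi
      (tr Y₁ (Nat.le_add_right n R)) (𝟙 _)
    refine ⟨T', π, hπ, y ≫ uj.app (op (n + R)) ≫ toIm P R n, ?_⟩
    rw [Category.comp_id] at hy
    simp only [Category.assoc]
    rw [htoIm n, ← tr_naturality uj, ← Category.assoc, ← hy]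
  choose bn hbn using hbex
  have hbnat : ∀ (n m : ℕ) (h : n ≤ m), tr Y₁ h ≫ bn n = bn m ≫ tr P' h := by
    intro n m h
    have := hι'n n
    rw [← cancel_mono (ι'.app (op n)), Category.assoc, hbn, Category.assoc, tr_naturality ι' h,
      ← Category.assoc, hbn, tr_naturality uj h]
  set b : Y₁ ⟶ P' := mkHom bn hbnat with hbdef
  have hbι : ∀ n : ℕ, b.app (op n) ≫ ι'.app (op n) = u₁.app (op n) ≫ j.app (op n) :=
    fun n => hbn n
  have wbc : b ≫ c' = 0 := by
    ext a
    obtain ⟨n⟩ := a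
    change b.app (op n) ≫ ι'.app (op n) ≫ snd.app (op n) = 0
    rw [← Category.assoc, hbι, Category.assoc, hjsnd, comp_zero]
  -- `T = ker b` is null up to translation
  have hT : IsARNull (kernel b) := by
    refine ⟨r₁, fun n => ?_⟩
    change tr (kernel b) (Nat.le_add_right n r₁) = 0
    have : Mono ((kernel.ι b).app (op n)) := inferInstance
    rw [← cancel_mono ((kernel.ι b).app (op n)), zero_comp, tr_naturality]
    apply hker₁ n (n + r₁) le_rfl
    have := hjmono (n + r₁)
    rw [← cancel_mono (j.app (op (n + r₁))), zero_comp, Category.assoc, ← hbι,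
      ← Category.assoc, kernel_app_condition, zero_comp]
  -- exactness at `P'`
  have hbc : (ShortComplex.mk b c' wbc).Exact := by
    apply exact_of_termwise
    intro n T p' hp'
    obtain ⟨κ, hκ⟩ := kernel_app_lift c' n p' hp'
    have len : n ≤ n + r₁' := Nat.le_add_right n r₁'
    have := hK's n (n + r₁') len
    obtain ⟨T₁, π₁, hπ₁, κ', hκ'⟩ := surjective_up_to_refinements_of_epi
      (tr (kernel c') len) κ
    set p₁ := κ' ≫ (kernel.ι c').app (op (n + r₁')) with hp₁
    have hp₁c : (p₁ ≫ ι'.app (op (n + r₁'))) ≫ snd.app (op (n + r₁')) = 0 := by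
      rw [Category.assoc, ← hc'app, hp₁, Category.assoc, kernel_app_condition, comp_zero]
    obtain ⟨k', hk'⟩ := hexP (n + r₁') T₁ _ hp₁c
    obtain ⟨T₂, π₂, hπ₂, y₁, hy₁⟩ := hcoker₁ n (n + r₁') le_rfl T₁ k'
    have hy₁' : π₂ ≫ k' ≫ tr S.X₁ len = y₁ ≫ u₁.app (op n) := hy₁
    refine ⟨T₂, π₂ ≫ π₁, epi_comp _ _, y₁, ?_⟩
    have := hι'n n
    rw [← cancel_mono (ι'.app (op n))]
    simp only [Category.assoc]
    rw [hbι, ← reassoc_of% hy₁', tr_naturality j len, reassoc_of% hk', hp₁]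
    simp only [Category.assoc]
    have e := tr_naturality (kernel.ι c') len
    rw [← tr_naturality ι' len, ← reassoc_of% e, ← reassoc_of% hκ', reassoc_of% hκ]
  -- conclusion
  have hP'ad : IsARAdic J P' :=
    Groth.Agent.Lib.ARSysExt.isARAdic_of_four_term J (kernel.ι b) b c' (kernel.condition b) wbc
      (ShortComplex.exact_kernel b) hbc hT hY₁ kP' hY₃
  have hι'fst : IsARIso (ι' ≫ fst) := isARIso_comp ι' fst (isARIso_imι P R) hfst
  exact isARAdic_of_isARIso J (ι' ≫ fst) hι'fst hP'ad k₂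

end Groth.Agent.Lib.ARSysExt2
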