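import Groth.Agent.Lib.ARSysExact
import Mathlib.RingTheory.Finiteness.Ideal
import Mathlib.CategoryTheory.Limits.Shapes.FiniteProducts
import Mathlib.CategoryTheory.Limits.Constructions.FiniteProductsOfBinaryProducts

/-!
Existence of quotients `X ⧸ I X` in a linear abelian category (`ARSys.IsQuot`).
-/

namespace Groth.Agent.Lib.ARSysQuot

open CategoryTheory CategoryTheory.Limits Opposite ARSys Groth.Agent.Lib.ARSysBasic
  Groth.Agent.Lib.ARSysExact

universe w' w v u

variable {C : Type u} [Category.{v} C] [Abelian C] {A : Type w} [CommRing A] [Linear A C]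

/-- The map `⨁_i X ⟶ X` with components multiplication by `g i`. -/
noncomputable def sumMap {ι : Type w'} (g : ι → A) (X : C) [HasCoproduct (fun _ : ι => X)] :
    (∐ fun _ : ι => X) ⟶ X :=
  Sigma.desc (fun i => g i • 𝟙 X)

@[reassoc (attr := simp)]
theorem ι_sumMap {ι : Type w'} (g : ι → A) (X : C) [HasCoproduct (fun _ : ι => X)] (i : ι) :
    Sigma.ι (fun _ : ι => X) i ≫ sumMap g X = g i • 𝟙 X := by
  simp [sumMap]

theorem sumMap_comp_eq_zero_iff {ι : Type w'} (g : ι → A) (X : C)
    [HasCoproduct (fun _ : ι => X)] {Y : C} (φ : X ⟶ Y) :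
    sumMap g X ≫ φ = 0 ↔ HomKilledBy (Ideal.span (Set.range g)) φ := by
  constructor
  · intro h a ha
    induction ha using Submodule.span_induction with
    | mem a ha =>
      obtain ⟨i, rfl⟩ := ha
      have := ι_sumMap_assoc g X i φ
      rw [h, comp_zero, Linear.smul_comp, Category.id_comp] at this
      exact this.symm
    | zero => exact zero_smul _ _
    | add a b _ _ ha hb => rw [add_smul, ha, hb, add_zero]
    | smul c a _ ha => rw [smul_eq_mul, mul_smul, ha, smul_zero]
  · intro h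
    apply Sigma.hom_ext
    intro i
    rw [ι_sumMap_assoc, comp_zero, Linear.smul_comp, Category.id_comp]
    exact h _ (Ideal.subset_span ⟨i, rfl⟩)

/-- The cokernel of `sumMap g X` is the quotient of `X` modulo the ideal generated by `g`. -/
theorem isQuot_cokernel_sumMap {ι : Type w'} (g : ι → A) (X : C)
    [HasCoproduct (fun _ : ι => X)] :
    IsQuot (Ideal.span (Set.range g)) (cokernel.π (sumMap g X)) := by
  have hk : HomKilledBy (Ideal.span (Set.range g)) (cokernel.π (sumMap g X)) :=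
    (sumMap_comp_eq_zero_iff g X _).mp (cokernel.condition _)
  refine ⟨fun a ha => ?_, fun Y φ hφ => ?_⟩
  · rw [← cancel_epi (cokernel.π (sumMap g X)), comp_zero, Linear.comp_smul, Category.comp_id]
    exact hk a ha
  · have h0 : sumMap g X ≫ φ = 0 := (sumMap_comp_eq_zero_iff g X φ).mpr hφ
    refine ⟨cokernel.desc _ φ h0, cokernel.π_desc _ _ _, fun ψ hψ => ?_⟩
    rw [← cancel_epi (cokernel.π (sumMap g X)), hψ, cokernel.π_desc]

/-- Quotients modulo powers of `J` exist. -/
theorem exists_isQuot (J : Ideal A) (hJ : J.FG ∨ HasCoproducts.{w} C) (k : ℕ) (X : C) :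
    ∃ (Q : C) (p : X ⟶ Q), IsQuot (J ^ k) p := by
  rcases hJ with hJ | hJ
  · obtain ⟨s, hs⟩ : (J ^ k).FG := Ideal.FG.pow hJ
    have : HasCoproduct (fun _ : (s : Set A) => X) := inferInstance
    have hq := isQuot_cokernel_sumMap (fun i : (s : Set A) => (i : A)) X
    rw [Subtype.range_coe] at hq
    change IsQuot (Ideal.span (s : Set A)) _ at hq
    have hs' : Ideal.span (s : Set A) = J ^ k := hs
    rw [hs'] at hq
    exact ⟨_, _, hq⟩
  · have : HasCoproduct (fun _ : ((J ^ k : Ideal A) : Set A) => X) := inferInstance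
    have hq := isQuot_cokernel_sumMap (fun i : ((J ^ k : Ideal A) : Set A) => (i : A)) X
    rw [Subtype.range_coe, Ideal.span_eq] at hq
    exact ⟨_, _, hq⟩

/-- A quotient map composed with an isomorphism is a quotient map. -/
theorem IsQuot.comp_iso {I : Ideal A} {X Q Q' : C} {p : X ⟶ Q} (h : IsQuot I p) (e : Q ⟶ Q')
    [IsIso e] : IsQuot I (p ≫ e) := by
  have : Epi p := IsQuot.epi h
  refine ⟨killedBy_of_epi e h.1, fun Y φ hφ => ?_⟩
  obtain ⟨ψ, hψ⟩ := IsQuot.exists_fac h φ hφ
  refine ⟨inv e ≫ ψ, by simp [hψ], fun ψ' hψ' => ?_⟩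
  rw [← cancel_epi e, IsIso.hom_inv_id_assoc, ← cancel_epi p, hψ, ← hψ', Category.assoc]

section Four

variable {D : Type u} [Category.{v} D] [Abelian D]

/-- The morphism of termwise short complexes induced by the transition maps. -/
noncomputable def trHom (S : ShortComplex (ARSys.PS D)) {n m : ℕ} (h : n ≤ m) :
    S.map ((evaluation ℕᵒᵖ D).obj (op m)) ⟶ S.map ((evaluation ℕᵒᵖ D).obj (op n)) where
  τ₁ := tr S.X₁ h
  τ₂ := tr S.X₂ h
  τ₃ := tr S.X₃ h
  comm₁₂ := tr_naturality S.f h
  comm₂₃ := tr_naturality S.g h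

/-- If the outer transition maps are epimorphisms so is the middle one. -/
theorem epi_tr₂ {S : ShortComplex (ARSys.PS D)} (hS : S.ShortExact) {n m : ℕ} (h : n ≤ m)
    (h₁ : Epi (tr S.X₁ h)) (h₃ : Epi (tr S.X₃ h)) : Epi (tr S.X₂ h) := by
  have e₁ : Epi (S.map ((evaluation ℕᵒᵖ D).obj (op m))).g := (shortExact_app hS m).epi_g
  have e₂ : Epi (S.map ((evaluation ℕᵒᵖ D).obj (op n))).g := (shortExact_app hS n).epi_g
  have e₃ : Epi (trHom S h).τ₁ := h₁
  have e₄ : Epi (trHom S h).τ₃ := h₃
  exact ShortComplex.epi_τ₂_of_exact_of_epi (trHom S h) (shortExact_app hS n).exact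

end Four

end Groth.Agent.Lib.ARSysQuot
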