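import Groth.Agent.Lib.ARSysElem
import Groth.Agent.Lib.ARSysQuot

/-!
Explicit generators of `J^k X` (via `sumMap`), composition of isomorphisms up to translation,
strictness in exact sequences.
-/

namespace Groth.Agent.Lib.ARSysGen

open CategoryTheory CategoryTheory.Limits Opposite ARSys Groth.Agent.Lib.ARSysBasic
  Groth.Agent.Lib.ARSysExact Groth.Agent.Lib.ARSysQuot Groth.Agent.Lib.ARSysElem

universe w' w v u

section SumMap

variable {C : Type u} [Category.{v} C] [Abelian C] {A : Type w} [CommRing A] [Linear A C]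

/-- Elements of the kernel of a quotient map modulo `(g_i)` are combinations `Σ g_i x_i`. -/
theorem exists_lift_sumMap {ι : Type w'} (g : ι → A) {X Q : C}
    [HasCoproduct (fun _ : ι => X)] (t : X ⟶ Q) (ht : IsQuot (Ideal.span (Set.range g)) t)
    {T : C} (x : T ⟶ X) (hx : x ≫ t = 0) :
    ∃ (T' : C) (π : T' ⟶ T) (_ : Epi π) (w : T' ⟶ ∐ fun _ : ι => X),
      π ≫ x = w ≫ sumMap g X := by
  have hk : HomKilledBy (Ideal.span (Set.range g)) (cokernel.π (sumMap g X)) :=
    (sumMap_comp_eq_zero_iff g X _).mp (cokernel.condition _)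
  obtain ⟨χ, hχ⟩ := IsQuot.exists_fac ht _ hk
  have h0 : x ≫ cokernel.π (sumMap g X) = 0 := by
    rw [← hχ, ← Category.assoc, hx, zero_comp]
  have hex : (ShortComplex.mk (sumMap g X) (cokernel.π (sumMap g X))
      (cokernel.condition _)).Exact := ShortComplex.exact_cokernel _
  exact hex.exact_up_to_refinements x h0

theorem sumMap_naturality {ι : Type w'} (g : ι → A) {X Y : C}
    [HasCoproduct (fun _ : ι => X)] [HasCoproduct (fun _ : ι => Y)] (f : X ⟶ Y) :
    Limits.Sigma.map (fun _ : ι => f) ≫ sumMap g Y = sumMap g X ≫ f := by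
  apply Sigma.hom_ext
  intro i
  rw [Sigma.ι_map_assoc, ι_sumMap, ι_sumMap_assoc, Linear.comp_smul, Category.comp_id,
    Linear.smul_comp, Category.id_comp]

theorem sumMap_eq_zero {ι : Type w'} (g : ι → A) {X : C} [HasCoproduct (fun _ : ι => X)]
    {I : Ideal A} (hX : KilledBy I X) (hg : ∀ i, g i ∈ I) : sumMap g X = 0 := by
  apply Sigma.hom_ext
  intro i
  rw [ι_sumMap, comp_zero]
  exact hX _ (hg i)

theorem sumMap_comp_eq_zero {ι : Type w'} (g : ι → A) {X Y : C} [HasCoproduct (fun _ : ι => X)]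
    {I : Ideal A} (φ : X ⟶ Y) (hφ : HomKilledBy I φ) (hg : ∀ i, g i ∈ I) :
    sumMap g X ≫ φ = 0 := by
  apply Sigma.hom_ext
  intro i
  rw [ι_sumMap_assoc, comp_zero, Linear.smul_comp, Category.id_comp]
  exact hφ _ (hg i)

/-- Finite generating families of ideals of a Noetherian ring. -/
theorem exists_finite_gens [IsNoetherianRing A] (I : Ideal A) :
    ∃ (ι : Type w) (_ : Finite ι) (g : ι → A), Ideal.span (Set.range g) = I ∧ ∀ i, g i ∈ I := by
  obtain ⟨s, hs⟩ : I.FG := IsNoetherian.noetherian _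
  have hs' : Ideal.span (s : Set A) = I := hs
  refine ⟨(s : Set A), inferInstance, fun i => (i : A), ?_, fun i => ?_⟩
  · rw [Subtype.range_coe, hs']
  · rw [← hs']; exact Ideal.subset_span i.2

end SumMap

section Comp

variable {C : Type u} [Category.{v} C] [Abelian C]

theorem kerNullBy_comp {X Y Z : ARSys.PS C} (u : X ⟶ Y) (v : Y ⟶ Z) {r s : ℕ}
    (hu : KerNullBy u r) (hv : KerNullBy v s) : KerNullBy (u ≫ v) (r + s) := by
  intro n k h T y hy
  have le₁ : n + r + s ≤ k := by omega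
  have le₂ : n + r ≤ k := by omega
  have h1 : (y ≫ u.app (op k)) ≫ v.app (op k) = 0 := by
    rw [Category.assoc]; exact hy
  have h2 := hv (n + r) k le₁ T _ h1
  have h3 : (y ≫ tr X le₂) ≫ u.app (op (n + r)) = 0 := by
    rw [Category.assoc, tr_naturality u le₂, ← Category.assoc]
    exact h2
  have h4 := hu n (n + r) le_rfl T _ h3
  rw [Category.assoc, tr_comp] at h4
  exact h4

omit [Abelian C] in
theorem cokerNullBy_comp {X Y Z : ARSys.PS C} (u : X ⟶ Y) (v : Y ⟶ Z) {r s : ℕ}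
    (hu : CokerNullBy u r) (hv : CokerNullBy v s) : CokerNullBy (u ≫ v) (r + s) := by
  intro n k h T z
  have le₁ : n + r + s ≤ k := by omega
  have len : n ≤ n + r := Nat.le_add_right n r
  obtain ⟨T₁, π₁, hπ₁, y, hy⟩ := hv (n + r) k le₁ T z
  obtain ⟨T₂, π₂, hπ₂, x, hx⟩ := hu n (n + r) le_rfl T₁ y
  refine ⟨T₂, π₂ ≫ π₁, epi_comp _ _, x, ?_⟩
  have hy' : π₁ ≫ z ≫ tr Z ((Nat.le_add_right (n + r) s).trans le₁) = y ≫ v.app (op (n + r)) := hy
  have hx' : π₂ ≫ y ≫ tr Y len = x ≫ u.app (op n) := hx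
  have e : tr Z ((Nat.le_add_right n (r + s)).trans h) =
      tr Z ((Nat.le_add_right (n + r) s).trans le₁) ≫ tr Z len := by rw [tr_comp]
  rw [e]
  change (π₂ ≫ π₁) ≫ z ≫ _ ≫ tr Z len = x ≫ u.app (op n) ≫ v.app (op n)
  simp only [Category.assoc]
  rw [reassoc_of% hy', ← tr_naturality v len, reassoc_of% hx']

/-- The composite of two isomorphisms up to translation is one. -/
theorem isARIso_comp {X Y Z : ARSys.PS C} (u : X ⟶ Y) (v : Y ⟶ Z) (hu : IsARIso u)
    (hv : IsARIso v) : IsARIso (u ≫ v) := by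
  obtain ⟨⟨r, hr⟩, ⟨r', hr'⟩⟩ := (isARIso_iff u).mp hu
  obtain ⟨⟨s, hs⟩, ⟨s', hs'⟩⟩ := (isARIso_iff v).mp hv
  exact (isARIso_iff _).mpr ⟨⟨_, kerNullBy_comp u v hr hs⟩, ⟨_, cokerNullBy_comp u v hr' hs'⟩⟩

/-- General-index form of nullity up to translation. -/
theorem tr_eq_zero_of_isARNull {T : ARSys.PS C} {r : ℕ} (hr : ∀ n : ℕ, shiftMap T r n = 0)
    {n k : ℕ} (h : n + r ≤ k) : tr T ((Nat.le_add_right n r).trans h) = 0 := by
  have e : tr T ((Nat.le_add_right n r).trans h) = tr T h ≫ tr T (Nat.le_add_right n r) := by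
    rw [tr_comp]
  have h0 : tr T (Nat.le_add_right n r) = 0 := hr n
  rw [e, h0, comp_zero]

end Comp

section LinearTransfer

variable {C : Type u} [Category.{v} C] [Abelian C] {A : Type w} [CommRing A] [Linear A C]

/-- Being `J`-adic up to translation transfers along isomorphisms up to translation. -/
theorem isARAdic_of_isARIso (J : Ideal A) {X Y : ARSys.PS C} (v : X ⟶ Y) (hv : IsARIso v)
    (hX : IsARAdic J X) (kY : TermKilled J Y) : IsARAdic J Y := by
  obtain ⟨-, W, u, hW, hu⟩ := hX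
  exact ⟨kY, W, u ≫ v, hW, isARIso_comp u v hu hv⟩

end LinearTransfer

end Groth.Agent.Lib.ARSysGen
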