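import Mathlib.CategoryTheory.Abelian.Refinements
import Mathlib.CategoryTheory.Subobject.Limits
import Mathlib.CategoryTheory.Subobject.Lattice
import Mathlib.CategoryTheory.Abelian.Basic

/-!
# Elementwise reasoning with subobjects in an abelian category

`T.Factors y` plays the role of "the generalized element `y` lies in `T`".
-/

set_option autoImplicit false
open CategoryTheory CategoryTheory.Limits
universe v u

namespace Groth.Agent.Lib.H86SubobjElem

variable {A : Type u} [Category.{v} A] [Abelian A]

/-- If `π` is an epimorphism and `π ≫ y` lies in `T`, then so does `y`. -/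
theorem factors_of_epi_comp {W' W Y : A} (T : Subobject Y) (π : W' ⟶ W) [Epi π] (y : W ⟶ Y)
    (h : T.Factors (π ≫ y)) : T.Factors y := by
  have sq : CommSq (T.factorThru (π ≫ y) h) π T.arrow y := ⟨by simp⟩
  have := strongEpi_of_epi π
  rw [← sq.fac_right]
  exact Subobject.factors_comp_arrow _

/-- `y` lies in the image of `h` iff, after refinement, it lifts along `h`. -/
theorem imageSubobject_factors_iff {X Y W : A} (h : X ⟶ Y) (y : W ⟶ Y) :
    (imageSubobject h).Factors y ↔
      ∃ (W' : A) (π : W' ⟶ W) (_ : Epi π) (x : W' ⟶ X), π ≫ y = x ≫ h := by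
  constructor
  · intro hy
    obtain ⟨W', π, hπ, x, hx⟩ := surjective_up_to_refinements_of_epi
      (factorThruImageSubobject h) ((imageSubobject h).factorThru y hy)
    refine ⟨W', π, hπ, x, ?_⟩
    have := congrArg (fun t => t ≫ (imageSubobject h).arrow) hx
    simpa using this
  · rintro ⟨W', π, hπ, x, hx⟩
    refine factors_of_epi_comp _ π y ?_
    rw [hx]
    exact imageSubobject_factors_comp_self h x

omit [Abelian A] in
/-- Subobjects are ordered by their generalized elements. -/
theorem le_iff_forall_factors {Y : A} (S T : Subobject Y) :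
    S ≤ T ↔ ∀ (W : A) (y : W ⟶ Y), S.Factors y → T.Factors y := by
  constructor
  · intro h W y hy
    exact Subobject.factors_of_le y h hy
  · intro h
    exact Subobject.le_of_factors (h _ _ (Subobject.factors_self S))

omit [Abelian A] in
/-- Subobjects with the same generalized elements are equal. -/
theorem eq_of_forall_factors_iff {Y : A} (S T : Subobject Y)
    (h : ∀ (W : A) (y : W ⟶ Y), S.Factors y ↔ T.Factors y) : S = T :=
  le_antisymm ((le_iff_forall_factors S T).mpr fun W y => (h W y).mp)
    ((le_iff_forall_factors T S).mpr fun W y => (h W y).mpr)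

end Groth.Agent.Lib.H86SubobjElem
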