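import Groth.Agent.Lib.GrHilbert
import Groth.Agent.S3184
import Groth.Agent.Lib.ARSysGen

/-!
# The strict graded object of an adic system is a Noetherian graded module

For a `J`-adic system `X` with `X_0` Noetherian and `J` finitely generated, every increasing sequence
of graded submodules of `grs(X) = (F^q(X_q))_q` is stationary (via `GrHilbert.acc_of_noetherian`).
-/

namespace Groth.Agent.Lib.ARSysGrs

open CategoryTheory CategoryTheory.Limits Opposite ARSys
open Groth.Agent.Lib.ARSysBasic Groth.Agent.Lib.ARSysExact Groth.Agent.Lib.ARSysQuot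
  Groth.Agent.S3185 Groth.Agent.S3184 Groth.Agent.Lib.H86SubobjElem Groth.Agent.Lib.GrHilbert

universe w v u

variable {C : Type u} [Category.{v} C] [Abelian C] {A : Type w} [CommRing A] [Linear A C]

/-- The graded pieces `F^q(X_q)` as objects. -/
noncomputable abbrev Gr (X : ARSys.PS C) (q : ℕ) : C := Subobject.underlying.obj (ARSys.Fsub X q q)

/-- The inclusions `F^q(X_q) ⟶ X_q`. -/
noncomputable def grι (X : ARSys.PS C) (q : ℕ) : Gr X q ⟶ X.obj (op q) := (ARSys.Fsub X q q).arrow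

instance (X : ARSys.PS C) (q : ℕ) : Mono (grι X q) := by
  show Mono (ARSys.Fsub X q q).arrow
  infer_instance

theorem factors_grι_iff (X : ARSys.PS C) (q : ℕ) {W : C} (y : W ⟶ X.obj (op q)) :
    (∃ g : W ⟶ Gr X q, g ≫ grι X q = y) ↔ (ARSys.Fsub X q q).Factors y :=
  (Subobject.factors_iff _ _).symm

@[reassoc]
theorem grι_tr (X : ARSys.PS C) (q : ℕ) : grι X (q + 1) ≫ tr X (Nat.le_succ q) = 0 := by
  have h : (ARSys.Fsub X (q + 1) (q + 1)).Factors (grι X (q + 1)) :=
    Subobject.factors_self _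
  rw [Fsub_factors_iff] at h
  exact h q (Nat.lt_succ_self q) (Nat.le_succ q)

theorem exists_lift_grι_succ (X : ARSys.PS C) (q : ℕ) {W : C} (y : W ⟶ X.obj (op (q + 1)))
    (hy : y ≫ tr X (Nat.le_succ q) = 0) : ∃ g : W ⟶ Gr X (q + 1), g ≫ grι X (q + 1) = y := by
  rw [factors_grι_iff, Fsub_factors_iff]
  intro k hk hkq
  have hkq' : k ≤ q := Nat.lt_succ_iff.mp hk
  have e : tr X hkq = tr X (Nat.le_succ q) ≫ tr X hkq' := by rw [tr_comp]
  rw [e, reassoc_of% hy, zero_comp]

theorem exists_lift_grι_zero (X : ARSys.PS C) {W : C} (y : W ⟶ X.obj (op 0)) :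
    ∃ g : W ⟶ Gr X 0, g ≫ grι X 0 = y := by
  rw [factors_grι_iff, Fsub_zero]
  exact Subobject.top_factors _

instance (X : ARSys.PS C) : IsIso (grι X 0) := by
  show IsIso (ARSys.Fsub X 0 0).arrow
  rw [Subobject.isIso_arrow_iff_eq_top, Fsub_zero]


section Adic

variable (J : Ideal A) (X : ARSys.PS C)

theorem epi_tr_of_isAdic (hX : ARSys.IsAdic J X) {n m : ℕ} (h : n ≤ m) : Epi (tr X h) :=
  IsQuot.epi (hX.2 n m h)

/-- Adaptedness for `p = 1`: `J` kills `F^q(X_q)`. -/
theorem grι_smul_eq_zero (hX : ARSys.IsAdic J X) (q : ℕ) (a : A) (ha : a ∈ J) :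
    grι X q ≫ (a • 𝟙 (X.obj (op q))) = 0 := by
  cases q with
  | zero =>
    have : (a • 𝟙 (X.obj (op 0)) : X.obj (op 0) ⟶ X.obj (op 0)) = 0 :=
      hX.1 0 a (by simpa using ha)
    rw [this, comp_zero]
  | succ k =>
    have hk : HomKilledBy (J ^ (k + 1)) (a • 𝟙 (X.obj (op (k + 1)))) := by
      intro c hc
      rw [smul_smul]
      exact hX.1 (k + 1) (c * a) (by
        rw [pow_succ J (k + 1)]
        exact Ideal.mul_mem_mul hc ha)
    obtain ⟨ψ, hψ⟩ := IsQuot.exists_fac (hX.2 k (k + 1) (Nat.le_succ k)) _ hk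
    rw [← hψ, grι_tr_assoc, zero_comp]

/-- Multiplication by `a ∈ J` induces `F^q(X_q) ⟶ F^{q+1}(X_{q+1})`. -/
theorem exists_T (hX : ARSys.IsAdic J X) (a : A) (ha : a ∈ J) (q : ℕ) :
    ∃ T : Gr X q ⟶ Gr X (q + 1), ∀ (W : C) (x : W ⟶ X.obj (op (q + 1))) (g : W ⟶ Gr X q),
      x ≫ tr X (Nat.le_succ q) = g ≫ grι X q →
      g ≫ T ≫ grι X (q + 1) = x ≫ (a • 𝟙 (X.obj (op (q + 1)))) := by
  have hepi : Epi (tr X (Nat.le_succ q)) := epi_tr_of_isAdic J X hX _
  have hfst : Epi (pullback.fst (grι X q) (tr X (Nat.le_succ q))) :=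
    Abelian.epi_pullback_of_epi_g _ _
  -- the lift of `snd ≫ a`
  have hm : (pullback.snd (grι X q) (tr X (Nat.le_succ q)) ≫ (a • 𝟙 (X.obj (op (q + 1))))) ≫
      tr X (Nat.le_succ q) = 0 := by
    rw [Category.assoc, smul_id_comm, ← Category.assoc, ← pullback.condition, Category.assoc,
      grι_smul_eq_zero J X hX q a ha, comp_zero]
  obtain ⟨m, hm'⟩ := exists_lift_grι_succ X q _ hm
  obtain ⟨T, hT⟩ := Groth.Agent.S3158.exists_fac_of_epi
    (pullback.fst (grι X q) (tr X (Nat.le_succ q))) m (by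
      intro Z z hz
      rw [← cancel_mono (grι X (q + 1)), Category.assoc, hm', zero_comp]
      have hz' : (z ≫ pullback.snd (grι X q) (tr X (Nat.le_succ q))) ≫ tr X (Nat.le_succ q) = 0 := by
        rw [Category.assoc, ← pullback.condition, reassoc_of% hz, zero_comp]
      obtain ⟨g', hg'⟩ := exists_lift_grι_succ X q _ hz'
      rw [← Category.assoc, ← hg', Category.assoc, grι_smul_eq_zero J X hX (q + 1) a ha, comp_zero])
  refine ⟨T, ?_⟩
  intro W x g hxg
  have : g ≫ T = pullback.lift g x hxg.symm ≫ m := by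
    rw [← hT, pullback.lift_fst_assoc]
  rw [← Category.assoc, this, Category.assoc, hm', pullback.lift_snd_assoc]


/-- The operator `F^q(X_q) ⟶ F^{q+1}(X_{q+1})` given by multiplication by `a ∈ J`. -/
noncomputable def Top (hX : ARSys.IsAdic J X) (a : A) (ha : a ∈ J) (q : ℕ) :
    Gr X q ⟶ Gr X (q + 1) :=
  (exists_T J X hX a ha q).choose

theorem Top_spec (hX : ARSys.IsAdic J X) (a : A) (ha : a ∈ J) (q : ℕ) {W : C}
    (x : W ⟶ X.obj (op (q + 1))) (g : W ⟶ Gr X q)
    (h : x ≫ tr X (Nat.le_succ q) = g ≫ grι X q) :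
    g ≫ Top J X hX a ha q ≫ grι X (q + 1) = x ≫ (a • 𝟙 (X.obj (op (q + 1)))) :=
  (exists_T J X hX a ha q).choose_spec W x g h

theorem Top_comm (hX : ARSys.IsAdic J X) (a b : A) (ha : a ∈ J) (hb : b ∈ J) (q : ℕ) :
    Top J X hX a ha q ≫ Top J X hX b hb (q + 1) = Top J X hX b hb q ≫ Top J X hX a ha (q + 1) := by
  have hq2 : q ≤ q + 2 := by omega
  have hepi : Epi (tr X hq2) := epi_tr_of_isAdic J X hX _
  have hfst : Epi (pullback.fst (grι X q) (tr X hq2)) := Abelian.epi_pullback_of_epi_g _ _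
  rw [← cancel_mono (grι X (q + 1 + 1)), ← cancel_epi (pullback.fst (grι X q) (tr X hq2))]
  set π := pullback.fst (grι X q) (tr X hq2) with hπ
  set x₂ := pullback.snd (grι X q) (tr X hq2) with hx₂
  have hcond : x₂ ≫ tr X (Nat.le_succ (q + 1)) ≫ tr X (Nat.le_succ q) = π ≫ grι X q := by
    rw [tr_comp]
    exact pullback.condition.symm
  have key : ∀ (a b : A) (ha : a ∈ J) (hb : b ∈ J),
      π ≫ (Top J X hX a ha q ≫ Top J X hX b hb (q + 1)) ≫ grι X (q + 1 + 1) =
        x₂ ≫ (a • 𝟙 (X.obj (op (q + 1 + 1)))) ≫ (b • 𝟙 (X.obj (op (q + 1 + 1)))) := by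
    intro a b ha hb
    have h1 : π ≫ Top J X hX a ha q ≫ grι X (q + 1) =
        (x₂ ≫ tr X (Nat.le_succ (q + 1))) ≫ (a • 𝟙 (X.obj (op (q + 1)))) :=
      Top_spec J X hX a ha q _ _ (by rw [Category.assoc]; exact hcond)
    have h2 := Top_spec J X hX b hb (q + 1) (x₂ ≫ (a • 𝟙 (X.obj (op (q + 1 + 1)))))
      (π ≫ Top J X hX a ha q) (by
        rw [Category.assoc, Category.assoc, h1, Category.assoc, smul_id_comm])
    rw [Category.assoc, Category.assoc] at h2
    rw [Category.assoc]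
    exact h2
  rw [key a b ha hb, key b a hb ha]
  congr 1
  simp only [Linear.smul_comp, Linear.comp_smul, Category.comp_id, smul_smul, mul_comm]


/-- `a ∈ J^q` maps `X_{q+1}` into `F^q(X_q)` (after the transition map). -/
theorem exists_lift_smul_tr (hX : ARSys.IsAdic J X) (q : ℕ) (c : A) (hc : c ∈ J ^ q) :
    ∃ g : X.obj (op (q + 1)) ⟶ Gr X q,
      g ≫ grι X q = (c • 𝟙 (X.obj (op (q + 1)))) ≫ tr X (Nat.le_succ q) := by
  rw [factors_grι_iff, Fsub_factors_iff]
  intro k hk hkq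
  rw [Category.assoc, tr_comp, smul_id_comm]
  have : (c • 𝟙 (X.obj (op k)) : X.obj (op k) ⟶ X.obj (op k)) = 0 :=
    hX.1 k c (Ideal.pow_le_pow_right (by omega) hc)
  rw [this, comp_zero]

/-- Generation: `F^{q+1}(X_{q+1}) = ∑_j b_j F^q(X_q)` when the `b_j` generate `J`. -/
theorem gen_Top (hX : ARSys.IsAdic J X) {r : ℕ} (b : Fin r → A) (hb : ∀ j, b j ∈ J)
    (hspan : Ideal.span (Set.range b) = J) :
    Gen (fun j q => Top J X hX (b j) (hb j) q) := by
  intro q W x
  have : HasFiniteBiproducts C := Abelian.hasFiniteBiproducts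
  set Φ : (⨁ fun _ : Fin r => Gr X q) ⟶ Gr X (q + 1) :=
    biproduct.desc fun j => Top J X hX (b j) (hb j) q with hΦ
  set Ψ := Φ ≫ grι X (q + 1) with hΨ
  have hbase : ∀ (c : A) (_ : c ∈ J ^ q) (j : Fin r), (c * b j) • cokernel.π Ψ = 0 := by
    intro c hc j
    obtain ⟨g, hg⟩ := exists_lift_smul_tr J X hX q c hc
    have h1 := Top_spec J X hX (b j) (hb j) q (c • 𝟙 (X.obj (op (q + 1)))) g hg.symm
    have h2 : (c * b j) • cokernel.π Ψ =
        ((c • 𝟙 (X.obj (op (q + 1)))) ≫ (b j • 𝟙 (X.obj (op (q + 1))))) ≫ cokernel.π Ψ := by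
      simp only [Linear.smul_comp, Linear.comp_smul, Category.comp_id, Category.id_comp, smul_smul,
        mul_comm]
    rw [h2, ← h1]
    have h3 : Top J X hX (b j) (hb j) q ≫ grι X (q + 1) =
        biproduct.ι (fun _ : Fin r => Gr X q) j ≫ Ψ := by
      rw [hΨ, hΦ, biproduct.ι_desc_assoc]
    rw [Category.assoc, Category.assoc, ← Category.assoc (Top J X hX (b j) (hb j) q), h3,
      Category.assoc, cokernel.condition, comp_zero, comp_zero]
  have hprod : ∀ (c : A) (_ : c ∈ J ^ q) (a : A) (_ : a ∈ J), (c * a) • cokernel.π Ψ = 0 := by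
    intro c hc a ha
    rw [← hspan] at ha
    induction ha using Submodule.span_induction with
    | mem a ha =>
      obtain ⟨j, rfl⟩ := ha
      exact hbase c hc j
    | zero => rw [mul_zero, zero_smul]
    | add x y _ _ hx hy => rw [mul_add, add_smul, hx, hy, add_zero]
    | smul s x _ hx =>
      rw [smul_eq_mul, mul_left_comm, mul_smul, hx, smul_zero]
  have hρ : HomKilledBy (J ^ (q + 1)) (cokernel.π Ψ) := by
    intro c hc
    rw [pow_succ] at hc
    refine Submodule.mul_induction_on hc (fun m hm n hn => hprod m hm n hn) ?_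
    intro x y hx hy
    rw [add_smul, hx, hy, add_zero]
  obtain ⟨ψ, hψ⟩ := IsQuot.exists_fac (hX.2 q (q + 1) (Nat.le_succ q)) _ hρ
  have h0 : (x ≫ grι X (q + 1)) ≫ cokernel.π Ψ = 0 := by
    rw [← hψ, Category.assoc, grι_tr_assoc, zero_comp, comp_zero]
  have hex : (ShortComplex.mk Ψ (cokernel.π Ψ) (cokernel.condition _)).Exact :=
    ShortComplex.exact_cokernel _
  obtain ⟨W', π, hπ, w, hw⟩ := hex.exact_up_to_refinements (x ≫ grι X (q + 1)) h0
  refine ⟨W', π, hπ, fun j => w ≫ biproduct.π _ j, ?_⟩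
  rw [← cancel_mono (grι X (q + 1)), Category.assoc, hw]
  change w ≫ Φ ≫ grι X (q + 1) = _
  rw [← Category.assoc]
  congr 1
  calc w ≫ Φ = (w ≫ ∑ j, biproduct.π (fun _ : Fin r => Gr X q) j ≫
        biproduct.ι (fun _ : Fin r => Gr X q) j) ≫ Φ := by
        rw [biproduct.total, Category.comp_id]
    _ = ∑ j, (w ≫ biproduct.π (fun _ : Fin r => Gr X q) j) ≫ Top J X hX (b j) (hb j) q := by
        rw [Preadditive.comp_sum, Preadditive.sum_comp]
        refine Finset.sum_congr rfl fun j _ => ?_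
        rw [Category.assoc, Category.assoc, hΦ, biproduct.ι_desc, Category.assoc]

end Adic


section Main

variable (J : Ideal A) (X : ARSys.PS C)

/-- The multiplication property of a graded submodule, with a free index. -/
theorem isGrSub_step {M : (q : ℕ) → Subobject (X.obj (op q))} (hM : ARSys.IsGrSub J X M)
    (p q n : ℕ) (hn : p + q = n) (a : A) (ha : a ∈ J ^ p) {W : C} (x : W ⟶ X.obj (op n))
    (hx : (M q).Factors (x ≫ tr X (show q ≤ n by omega))) :
    (M n).Factors (x ≫ (a • 𝟙 (X.obj (op n)))) := by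
  subst hn
  have h := hM.2 p q a ha
  rw [image_le_iff_factors] at h
  have hx' : ((Subobject.pullback (tr X (Nat.le_add_left q p))).obj (M q)).Factors x := by
    rw [pullback_factors_iff]
    exact hx
  rw [← Subobject.factorThru_arrow _ _ hx', Category.assoc]
  exact Subobject.factors_of_factors_right _ h

/-- The family of subobjects of `grs(X)` cut out by a family of subobjects of the `X_q`. -/
noncomputable def grFam (M : (q : ℕ) → Subobject (X.obj (op q))) : Fam (Gr X) :=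
  fun q => (Subobject.pullback (grι X q)).obj (M q)

theorem grFam_factors_iff (M : (q : ℕ) → Subobject (X.obj (op q))) (q : ℕ) {W : C}
    (g : W ⟶ Gr X q) : (grFam X M q).Factors g ↔ (M q).Factors (g ≫ grι X q) :=
  pullback_factors_iff _ _ _

theorem grFam_mono {M M' : (q : ℕ) → Subobject (X.obj (op q))} (h : M ≤ M') :
    grFam X M ≤ grFam X M' :=
  fun q => (Subobject.pullback (grι X q)).monotone (h q)

theorem stable_grFam (hX : ARSys.IsAdic J X) (a : A) (ha : a ∈ J)
    {M : (q : ℕ) → Subobject (X.obj (op q))} (hM : ARSys.IsGrSub J X M) :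
    Stable (fun q => Top J X hX a ha q) (grFam X M) := by
  rw [stable_iff]
  intro q W g hg
  rw [grFam_factors_iff] at hg ⊢
  have hepi : Epi (tr X (Nat.le_succ q)) := epi_tr_of_isAdic J X hX _
  have hfst : Epi (pullback.fst (g ≫ grι X q) (tr X (Nat.le_succ q))) :=
    Abelian.epi_pullback_of_epi_g _ _
  have hc : pullback.snd (g ≫ grι X q) (tr X (Nat.le_succ q)) ≫ tr X (Nat.le_succ q) =
      (pullback.fst (g ≫ grι X q) (tr X (Nat.le_succ q)) ≫ g) ≫ grι X q := by
    rw [Category.assoc]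
    exact pullback.condition.symm
  have h1 := Top_spec J X hX a ha q _ _ hc
  apply factors_of_epi_comp _ (pullback.fst (g ≫ grι X q) (tr X (Nat.le_succ q)))
  have e : pullback.fst (g ≫ grι X q) (tr X (Nat.le_succ q)) ≫
      (g ≫ Top J X hX a ha q) ≫ grι X (q + 1) =
      (pullback.fst (g ≫ grι X q) (tr X (Nat.le_succ q)) ≫ g) ≫
        Top J X hX a ha q ≫ grι X (q + 1) := by
    simp only [Category.assoc]
  rw [e, h1]
  refine isGrSub_step J X hM 1 q (q + 1) (by omega) a (by simpa using ha) _ ?_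
  rw [hc, Category.assoc]
  exact Subobject.factors_of_factors_right _ hg

theorem eq_of_grFam_eq {M M' : (q : ℕ) → Subobject (X.obj (op q))}
    (hM : ∀ q, M q ≤ ARSys.Fsub X q q) (hM' : ∀ q, M' q ≤ ARSys.Fsub X q q)
    (h : grFam X M = grFam X M') : M = M' := by
  funext q
  apply eq_of_forall_factors_iff
  intro W y
  constructor
  · intro hy
    obtain ⟨g, rfl⟩ := (factors_grι_iff X q y).mpr (Subobject.factors_of_le _ (hM q) hy)
    rw [← grFam_factors_iff, ← h, grFam_factors_iff]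
    exact hy
  · intro hy
    obtain ⟨g, rfl⟩ := (factors_grι_iff X q y).mpr (Subobject.factors_of_le _ (hM' q) hy)
    rw [← grFam_factors_iff, h, grFam_factors_iff]
    exact hy

/-- **Noetherianity of `grs(X)`**: for `J` finitely generated and `X` a `J`-adic system with `X_0`
Noetherian, every increasing sequence of graded submodules of `grs(X)` is stationary. -/
theorem grs_chain_stationary (hJ : J.FG) (hX : ARSys.IsAdic J X)
    (h0 : IsNoetherianObject (X.obj (op 0)))
    (M : ℕ → (q : ℕ) → Subobject (X.obj (op q))) (hM : ∀ i : ℕ, ARSys.IsGrSub J X (M i))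
    (hmono : Monotone M) :
    ∃ i₀ : ℕ, ∀ i : ℕ, i₀ ≤ i → M i = M i₀ := by
  obtain ⟨r, b, hb⟩ := Submodule.fg_iff_exists_fin_generating_family.mp hJ
  have hbJ : ∀ j, b j ∈ J := fun j => hb ▸ Ideal.subset_span (Set.mem_range_self j)
  have hG0 : IsNoetherianObject (Gr X 0) := isNoetherianObject_of_mono (grι X 0)
  obtain ⟨i₀, hi₀⟩ := acc_of_noetherian r (Gr X) (fun j q => Top J X hX (b j) (hbJ j) q)
    (fun i j q => Top_comm J X hX _ _ _ _ q) (gen_Top J X hX b hbJ hb) hG0
    (fun i => grFam X (M i)) (fun i i' hii' => grFam_mono X (hmono hii'))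
    (fun i j => stable_grFam J X hX _ _ (hM i))
  exact ⟨i₀, fun i hi => eq_of_grFam_eq X (hM i).1 (hM i₀).1 (hi₀ i hi)⟩

end Main

end Groth.Agent.Lib.ARSysGrs
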