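import Groth.Agent.Lib.ARSysSub
import Groth.Agent.Lib.ARSysImage
import Groth.Agent.Lib.ARSysPull
import Groth.Agent.Lib.ARSysExt2
import Groth.Agent.S3156

/-!
# Kernels of morphisms of AR-adic Noetherian systems

* `isARIso_of_comp_left/right`: two-out-of-three for isomorphisms up to translation.
* `mlBy_of_isARIso`: the uniform Mittag-Leffler condition descends along AR-isomorphisms.
* `isARAdic_of_strict_mono`: a strict subsystem of an adic system with Noetherian `X_0` is AR-adic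
  (Artin–Rees).
* `isARAdicNoeth_of_shortExact`: S3162.
-/

namespace Groth.Agent.Lib.ARSysKer

open CategoryTheory CategoryTheory.Limits Opposite ARSys
open Groth.Agent.Lib.ARSysBasic Groth.Agent.Lib.ARSysExact Groth.Agent.Lib.ARSysQuot
  Groth.Agent.S3185 Groth.Agent.S3184 Groth.Agent.Lib.H86SubobjElem Groth.Agent.Lib.GrHilbert
  Groth.Agent.Lib.ARSysGrs Groth.Agent.Lib.ARSysSub Groth.Agent.Lib.ARSysElem
  Groth.Agent.Lib.ARSysImage Groth.Agent.Lib.ARSysPull Groth.Agent.Lib.ARSysGen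
open Groth.Agent.S3188 (imSys imι)

universe w v u

variable {C : Type u} [Category.{v} C] [Abelian C]

section TwoOfThree

variable {X Y Z : ARSys.PS C} (u : X ⟶ Y) (v : Y ⟶ Z)

theorem kerNullBy_of_comp {r : ℕ} (h : KerNullBy (u ≫ v) r) : KerNullBy u r := by
  intro n k hk T y hy
  exact h n k hk T y (by rw [NatTrans.comp_app, reassoc_of% hy, zero_comp])

theorem cokerNullBy_of_comp {r : ℕ} (h : CokerNullBy (u ≫ v) r) : CokerNullBy v r := by
  intro n k hk T z
  obtain ⟨T', π, hπ, x, hx⟩ := h n k hk T z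
  exact ⟨T', π, hπ, x ≫ u.app (op n), by rw [hx, NatTrans.comp_app, Category.assoc]⟩

/-- If `u ≫ v` and `v` are AR-isomorphisms then the cokernel of `u` is AR-null. -/
theorem cokerNullBy_of_comp_of_kerNullBy {r s : ℕ} (h : CokerNullBy (u ≫ v) r)
    (hv : KerNullBy v s) : CokerNullBy u (r + s) := by
  intro n k hk T y
  have h1 : (n + s) + r ≤ k := by omega
  obtain ⟨T', π, hπ, x, hx⟩ := h (n + s) k h1 T (y ≫ v.app (op k))
  refine ⟨T', π, hπ, x ≫ tr X (Nat.le_add_right n s), ?_⟩
  have hns : n + s ≤ k := by omega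
  have hd : (π ≫ y ≫ tr Y hns - x ≫ u.app (op (n + s))) ≫ v.app (op (n + s)) = 0 := by
    rw [Preadditive.sub_comp, sub_eq_zero]
    simp only [Category.assoc]
    rw [tr_naturality]
    simp only [Category.assoc] at hx
    rw [hx, NatTrans.comp_app]
  have h0 := hv n (n + s) le_rfl T' _ hd
  rw [Preadditive.sub_comp, sub_eq_zero] at h0
  simp only [Category.assoc] at h0
  rw [tr_comp] at h0
  rw [h0, Category.assoc, tr_naturality]

/-- If `u ≫ v` and `u` are AR-isomorphisms then the kernel of `v` is AR-null. -/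
theorem kerNullBy_of_comp_of_cokerNullBy {r s : ℕ} (h : KerNullBy (u ≫ v) r)
    (hu : CokerNullBy u s) : KerNullBy v (r + s) := by
  intro n k hk T y hy
  have h1 : (n + r) + s ≤ k := by omega
  obtain ⟨T', π, hπ, x, hx⟩ := hu (n + r) k h1 T y
  have hx0 : x ≫ (u ≫ v).app (op (n + r)) = 0 := by
    rw [NatTrans.comp_app, ← Category.assoc, ← hx]
    simp only [Category.assoc]
    rw [tr_naturality, reassoc_of% hy, zero_comp, comp_zero]
  have h0 := h n (n + r) le_rfl T' x hx0
  rw [← cancel_epi π, comp_zero]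
  have e : tr Y ((Nat.le_add_right n (r + s)).trans hk) =
      tr Y ((Nat.le_add_right (n + r) s).trans h1) ≫ tr Y (Nat.le_add_right n r) := by
    rw [tr_comp]
  rw [e, ← Category.assoc, ← Category.assoc, Category.assoc π, hx, Category.assoc,
    ← tr_naturality, reassoc_of% h0, zero_comp]

theorem isARIso_of_comp_left (huv : IsARIso (u ≫ v)) (hv : IsARIso v) : IsARIso u := by
  rw [isARIso_iff] at huv hv ⊢
  obtain ⟨⟨a, ha⟩, ⟨b, hb⟩⟩ := huv
  obtain ⟨⟨c, hc⟩, -⟩ := hv
  exact ⟨⟨a, kerNullBy_of_comp u v ha⟩, ⟨b + c, cokerNullBy_of_comp_of_kerNullBy u v hb hc⟩⟩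

theorem isARIso_of_comp_right (huv : IsARIso (u ≫ v)) (hu : IsARIso u) : IsARIso v := by
  rw [isARIso_iff] at huv hu ⊢
  obtain ⟨⟨a, ha⟩, ⟨b, hb⟩⟩ := huv
  obtain ⟨-, ⟨c, hc⟩⟩ := hu
  exact ⟨⟨a + c, kerNullBy_of_comp_of_cokerNullBy u v ha hc⟩, ⟨b, cokerNullBy_of_comp u v hb⟩⟩

end TwoOfThree

section MLInv

/-- The uniform Mittag-Leffler condition descends along AR-isomorphisms. -/
theorem mlBy_of_isARIso {P X : ARSys.PS C} (u : P ⟶ X) {a b r : ℕ} (ha : KerNullBy u a)
    (hb : CokerNullBy u b) (hr : MLBy X r) : MLBy P (r + a) := by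
  intro n k₁ k₂ h₁ h₂ T p
  have hm₁ : (n + a) + r ≤ k₁ := by omega
  have hm₂ : (n + a) + r ≤ k₂ + b := by omega
  obtain ⟨T₁, π₁, hπ₁, x', hx'⟩ := hr (n + a) k₁ (k₂ + b) hm₁ hm₂ T (p ≫ u.app (op k₁))
  obtain ⟨T₂, π₂, hπ₂, p', hp'⟩ := hb k₂ (k₂ + b) le_rfl T₁ x'
  refine ⟨T₂, π₂ ≫ π₁, epi_comp _ _, p', ?_⟩
  have hna₁ : n + a ≤ k₁ := by omega
  have hna₂ : n + a ≤ k₂ := by omega
  have hd : (π₂ ≫ π₁ ≫ p ≫ tr P hna₁ - p' ≫ tr P hna₂) ≫ u.app (op (n + a)) = 0 := by
    rw [Preadditive.sub_comp, sub_eq_zero]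
    simp only [Category.assoc]
    rw [tr_naturality, tr_naturality, ← reassoc_of% hp', tr_comp]
    simp only [Category.assoc] at hx'
    rw [hx']
  have h0 := ha n (n + a) le_rfl T₂ _ hd
  rw [Preadditive.sub_comp, sub_eq_zero] at h0
  simp only [Category.assoc] at h0 ⊢
  rw [tr_comp, tr_comp] at h0
  exact h0

theorem isMLAR_of_isARIso {P X : ARSys.PS C} (u : P ⟶ X) (hu : IsARIso u) (hX : IsMLAR X) :
    IsMLAR P := by
  rw [isARIso_iff] at hu
  obtain ⟨⟨a, ha⟩, ⟨b, hb⟩⟩ := hu
  obtain ⟨r, hr⟩ := (isMLAR_iff_exists_mlBy X).mp hX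
  exact isMLAR_of_mlBy (mlBy_of_isARIso u ha hb hr)

end MLInv


section PushSub

/-- The image of a subobject under a monomorphism. -/
noncomputable def pushSub {Z X : C} (f : Z ⟶ X) [Mono f] (S : Subobject Z) : Subobject X :=
  Subobject.mk (S.arrow ≫ f)

theorem pushSub_factors_iff {Z X : C} (f : Z ⟶ X) [Mono f] (S : Subobject Z) {W : C} (y : W ⟶ X) :
    (pushSub f S).Factors y ↔ ∃ z : W ⟶ Z, S.Factors z ∧ z ≫ f = y := by
  constructor
  · rintro ⟨m, hm⟩
    exact ⟨m ≫ S.arrow, Subobject.factors_comp_arrow m, by rw [Category.assoc]; exact hm⟩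
  · rintro ⟨z, hz, rfl⟩
    exact ⟨S.factorThru z hz, by
      change S.factorThru z hz ≫ S.arrow ≫ f = z ≫ f
      rw [← Category.assoc, Subobject.factorThru_arrow]⟩

theorem pushSub_factors_comp {Z X : C} (f : Z ⟶ X) [Mono f] (S : Subobject Z) {W : C} (z : W ⟶ Z) :
    (pushSub f S).Factors (z ≫ f) ↔ S.Factors z := by
  rw [pushSub_factors_iff]
  constructor
  · rintro ⟨z', hz', e⟩
    rw [cancel_mono] at e
    rwa [← e]
  · intro hz
    exact ⟨z, hz, rfl⟩

theorem pushSub_mono {Z X : C} (f : Z ⟶ X) [Mono f] {S S' : Subobject Z} (h : S ≤ S') :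
    pushSub f S ≤ pushSub f S' := by
  rw [le_iff_forall_factors]
  intro W y hy
  rw [pushSub_factors_iff] at hy ⊢
  obtain ⟨z, hz, e⟩ := hy
  exact ⟨z, Subobject.factors_of_le _ h hz, e⟩

theorem pushSub_injective {Z X : C} (f : Z ⟶ X) [Mono f] {S S' : Subobject Z}
    (h : pushSub f S = pushSub f S') : S = S' := by
  apply eq_of_forall_factors_iff
  intro W z
  rw [← pushSub_factors_comp f S, ← pushSub_factors_comp f S', h]

end PushSub

section Linear

variable {A : Type w} [CommRing A] [Linear A C] (J : Ideal A)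

/-- For an adic system, `J^p` kills the kernel of `X_{p+q} ⟶ X_q`. -/
theorem smul_eq_zero_of_tr_eq_zero {X : ARSys.PS C} (hX : ARSys.IsAdic J X) (p q : ℕ) (a : A)
    (ha : a ∈ J ^ p) {W : C} (d : W ⟶ X.obj (op (p + q)))
    (hd : d ≫ tr X (Nat.le_add_left q p) = 0) : d ≫ (a • 𝟙 (X.obj (op (p + q)))) = 0 := by
  have hd1 : (ARSys.Fsub X (q + 1) (p + q)).Factors d := by
    rw [Fsub_factors_iff]
    intro k hk hkn
    have hkq : k ≤ q := Nat.lt_succ_iff.mp hk
    have e : tr X hkn = tr X (Nat.le_add_left q p) ≫ tr X hkq := by rw [tr_comp]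
    rw [e, reassoc_of% hd, zero_comp]
  have hd' := Fsub_smul_factors J X hX (p + q) p (q + 1) a ha _ hd1
  rw [Fsub_factors_iff] at hd'
  have hd0 := hd' (p + q) (by omega) le_rfl
  rwa [tr_self, Category.comp_id] at hd0

/-- A subsystem of an adapted system is adapted. -/
theorem isAdapted_of_mono {Z X : ARSys.PS C} (i : Z ⟶ X) [Mono i] (hX : ARSys.IsAdapted J X) :
    ARSys.IsAdapted J Z := by
  intro n p hp a ha
  rw [← cancel_mono (i.app (op n)), zero_comp, Category.assoc, smul_id_comm, ← Category.assoc]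
  have hf : (ARSys.Fsub X (n + 1 - p) n).Factors
      ((ARSys.Fsub Z (n + 1 - p) n).arrow ≫ i.app (op n)) := by
    have h0 : (ARSys.Fsub Z (n + 1 - p) n).Factors (ARSys.Fsub Z (n + 1 - p) n).arrow :=
      Subobject.factors_self _
    rw [Fsub_factors_iff] at h0 ⊢
    intro k hk hkn
    rw [Category.assoc, ← tr_naturality, reassoc_of% (h0 k hk hkn), zero_comp]
  rw [← Subobject.factorThru_arrow _ _ hf, Category.assoc, hX n p hp a ha, comp_zero]

/-- Pushing a graded submodule of `grs(Z)` forward to `grs(X)`, for a strict subsystem `Z` of an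
adic system `X`. -/
theorem isGrSub_pushSub {Z X : ARSys.PS C} (i : Z ⟶ X) [Mono i] (hX : ARSys.IsAdic J X)
    (hZ : ARSys.IsStrict Z) {M : (q : ℕ) → Subobject (Z.obj (op q))} (hM : ARSys.IsGrSub J Z M) :
    ARSys.IsGrSub J X (fun q => pushSub (i.app (op q)) (M q)) := by
  constructor
  · intro q
    rw [le_iff_forall_factors]
    intro W y hy
    obtain ⟨z, hz, rfl⟩ := (pushSub_factors_iff _ _ _).mp hy
    have hz' := Subobject.factors_of_le _ (hM.1 q) hz
    rw [Fsub_factors_iff] at hz' ⊢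
    intro k hk hkn
    rw [Category.assoc, ← tr_naturality, reassoc_of% (hz' k hk hkn), zero_comp]
  · intro p q a ha
    rw [image_le_iff_factors]
    set Pb := (Subobject.pullback (tr X (Nat.le_add_left q p))).obj
      (pushSub (i.app (op q)) (M q)) with hPb
    have hx : (pushSub (i.app (op q)) (M q)).Factors (Pb.arrow ≫ tr X (Nat.le_add_left q p)) := by
      rw [← pullback_factors_iff]
      exact Subobject.factors_self _
    obtain ⟨z, hz, hzx⟩ := (pushSub_factors_iff _ _ _).mp hx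
    have := hZ q (p + q) (Nat.le_add_left q p)
    obtain ⟨W', π, hπ, z', hz'⟩ := surjective_up_to_refinements_of_epi
      (tr Z (Nat.le_add_left q p)) z
    have h1 : (M (p + q)).Factors (z' ≫ (a • 𝟙 (Z.obj (op (p + q))))) := by
      refine isGrSub_step J Z hM p q (p + q) rfl a ha z' ?_
      rw [← hz']
      exact Subobject.factors_of_factors_right _ hz
    have hd : (π ≫ Pb.arrow - z' ≫ i.app (op (p + q))) ≫ tr X (Nat.le_add_left q p) = 0 := by
      rw [Preadditive.sub_comp, sub_eq_zero, Category.assoc, Category.assoc, ← hzx,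
        ← tr_naturality, ← reassoc_of% hz']
    have hd0 := smul_eq_zero_of_tr_eq_zero J hX p q a ha _ hd
    rw [Preadditive.sub_comp, sub_eq_zero] at hd0
    apply factors_of_epi_comp _ π
    rw [← Category.assoc, hd0, Category.assoc, ← smul_id_comm, ← Category.assoc,
      pushSub_factors_comp]
    exact h1

/-- **Artin–Rees**: a strict subsystem of an adic system with Noetherian degree-zero term is AR-adic
(`J` finitely generated). -/
theorem isARAdic_of_strict_mono (hJ : J.FG) {Z X : ARSys.PS C} (i : Z ⟶ X) [Mono i]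
    (hX : ARSys.IsAdic J X) (h0 : IsNoetherianObject (X.obj (op 0))) (hZ : ARSys.IsStrict Z) :
    ARSys.IsARAdic J Z := by
  refine Groth.Agent.S3184.result J (Or.inl hJ) Z hZ
    (isAdapted_of_mono J i (isAdapted_of_isAdic J X hX)) ?_
  intro M hM hmono hlub
  obtain ⟨i₀, hi₀⟩ := grs_chain_stationary J X hJ hX h0
    (fun k q => pushSub (i.app (op q)) (M k q)) (fun k => isGrSub_pushSub J i hX hZ (hM k))
    (fun k k' hkk' q => pushSub_mono _ (hmono hkk' q))
  have hst : ∀ k, i₀ ≤ k → ∀ q, M k q = M i₀ q := fun k hk q =>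
    pushSub_injective (i.app (op q)) (congrFun (hi₀ k hk) q)
  refine ⟨i₀, fun q => le_antisymm ((hM i₀).1 q) ?_⟩
  refine (hlub q).2 ?_
  rintro _ ⟨k, rfl⟩
  rcases le_total k i₀ with hk | hk
  · exact hmono hk q
  · exact (hst k hk q).le


/-- If `v : Y ⟶ X` is an AR-isomorphism with `Y` strict and the terms of `X` Noetherian, then `Y_0` is
Noetherian. -/
theorem isNoetherianObject_zero_of_isARIso {Y X : ARSys.PS C} (v : Y ⟶ X) (hv : IsARIso v)
    (hY : ARSys.IsStrict Y) (hX : ∀ n : ℕ, IsNoetherianObject (X.obj (op n))) :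
    IsNoetherianObject (Y.obj (op 0)) := by
  rw [isARIso_iff] at hv
  obtain ⟨⟨a, ha⟩, -⟩ := hv
  have hepi : Epi (tr Y (Nat.zero_le a)) := hY 0 a (Nat.zero_le a)
  obtain ⟨φ, hφ⟩ := Groth.Agent.S3158.exists_fac_of_epi
    (Abelian.factorThruImage (v.app (op a))) (tr Y (Nat.zero_le a)) (by
      intro T y hy
      have hy' : y ≫ v.app (op a) = 0 := by
        rw [← Abelian.image.fac (v.app (op a)), reassoc_of% hy, zero_comp]
      have := ha 0 a (by omega) T y hy'
      exact this)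
  have hφepi : Epi φ := by
    have : Epi (Abelian.factorThruImage (v.app (op a)) ≫ φ) := by rw [hφ]; exact hepi
    exact epi_of_epi (Abelian.factorThruImage (v.app (op a))) φ
  have := hX a
  have h1 : IsNoetherianObject (Abelian.image (v.app (op a))) :=
    isNoetherianObject_of_mono (Abelian.image.ι (v.app (op a)))
  exact Groth.Agent.Lib.NoethSerre.isNoetherianObject_of_epi φ

/-- **S3162**: in a short exact sequence with middle and third terms AR-adic Noetherian, so is the
first term (`J` finitely generated). -/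
theorem isARAdicNoeth_of_shortExact (hJ : J.FG) (S : ShortComplex (ARSys.PS C))
    (hS : S.ShortExact) (h₂ : ARSys.IsARAdicNoeth J S.X₂) (h₃ : ARSys.IsARAdicNoeth J S.X₃) :
    ARSys.IsARAdicNoeth J S.X₁ := by
  have hfn : ∀ n : ℕ, Mono (S.f.app (op n)) := mono_f_app hS
  have k₁ : ARSys.TermKilled J S.X₁ := termKilled_of_mono J S.f hfn h₂.1.1
  refine ⟨?_, fun n => ?_⟩
  swap
  · have := h₂.2 n
    have := hfn n
    exact isNoetherianObject_of_mono (S.f.app (op n))
  -- `X₁` is uniformly Mittag-Leffler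
  have hML : ARSys.IsMLAR S.X₁ := Groth.Agent.S3156.result J (Or.inl hJ) S hS k₁ h₂.1.1 h₃.1.1
    (Groth.Agent.Lib.ARSysExt2.isMLAR_of_isARAdic J h₂.1) h₃.1
  -- reduce to an adic middle term
  obtain ⟨-, Y, v, hY, hv⟩ := h₂.1
  have hYs : ARSys.IsStrict Y := fun n m h => IsQuot.epi (hY.2 n m h)
  have hY0 : IsNoetherianObject (Y.obj (op 0)) :=
    isNoetherianObject_zero_of_isARIso v hv hYs h₂.2
  have hmono : Mono S.f := hS.mono_f
  have hfst : IsARIso (pullback.fst S.f v) := isARIso_pullback_fst S.f v hv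
  have hsnd : Mono (pullback.snd S.f v) := inferInstance
  have hPML : ARSys.IsMLAR (pullback S.f v) := isMLAR_of_isARIso _ hfst hML
  obtain ⟨r, hr⟩ := hPML
  have hstrict : ARSys.IsStrict (imSys (pullback S.f v) r) := isStrict_imSys hr
  have := mono_imι (pullback S.f v) r
  have hmono' : Mono (imι (pullback S.f v) r ≫ pullback.snd S.f v) := mono_comp _ _
  have h1 : ARSys.IsARAdic J (imSys (pullback S.f v) r) :=
    isARAdic_of_strict_mono J hJ (imι (pullback S.f v) r ≫ pullback.snd S.f v) hY hY0 hstrict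
  have kP : ARSys.TermKilled J (pullback S.f v) :=
    termKilled_of_mono J (pullback.snd S.f v) (fun n => inferInstance) hY.1
  have h2 : ARSys.IsARAdic J (pullback S.f v) :=
    isARAdic_of_isARIso J (imι (pullback S.f v) r) (isARIso_imι _ r) h1 kP
  exact isARAdic_of_isARIso J (pullback.fst S.f v) hfst h2 k₁

end Linear

end Groth.Agent.Lib.ARSysKer
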