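import Mathlib.CategoryTheory.Subobject.NoetherianObject
import Mathlib.CategoryTheory.Subobject.ArtinianObject
import Mathlib.CategoryTheory.Abelian.SerreClass.Basic
import Mathlib.CategoryTheory.Abelian.Refinements
import Mathlib.CategoryTheory.Abelian.Exact
import Mathlib.CategoryTheory.Subobject.Limits
import Mathlib.Order.RelClasses
import Mathlib.CategoryTheory.ObjectProperty.FiniteProducts
import Mathlib.CategoryTheory.Limits.Shapes.Biproducts
import Groth.Agent.Lib.H86SubobjElem

/-!
# Noetherian and Artinian objects of an abelian category form Serre classes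

Closure of `IsNoetherianObject` / `IsArtinianObject` under quotients, extensions (and subobjects,
which is in Mathlib), and finite biproducts.
-/

namespace Groth.Agent.Lib.NoethSerre

open CategoryTheory CategoryTheory.Limits Groth.Agent.Lib.H86SubobjElem

universe v u

variable {C : Type u} [Category.{v} C] [Abelian C]

/-- Pulling back subobjects along an epimorphism is injective. -/
theorem pullback_obj_injective_of_epi {X Y : C} (f : X ⟶ Y) [Epi f] :
    Function.Injective (Subobject.pullback f).obj := by
  intro S S' h
  apply eq_of_forall_factors_iff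
  intro W y
  obtain ⟨W', π, hπ, x, hx⟩ := surjective_up_to_refinements_of_epi f y
  have key : ∀ T : Subobject Y, T.Factors y ↔ ((Subobject.pullback f).obj T).Factors x := by
    intro T
    rw [Limits.pullback_factors_iff, ← hx]
    exact ⟨fun h => Subobject.factors_of_factors_right π h, fun h => factors_of_epi_comp T π y h⟩
  rw [key S, key S', h]

theorem pullback_strictMono_of_epi {X Y : C} (f : X ⟶ Y) [Epi f] :
    StrictMono (Subobject.pullback f).obj :=
  (Subobject.pullback f).monotone.strictMono_of_injective (pullback_obj_injective_of_epi f)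

/-- A quotient of a Noetherian object is Noetherian. -/
theorem isNoetherianObject_of_epi {X Y : C} (f : X ⟶ Y) [Epi f] [IsNoetherianObject X] :
    IsNoetherianObject Y :=
  ⟨(pullback_strictMono_of_epi f).wellFoundedGT⟩

/-- A quotient of an Artinian object is Artinian. -/
theorem isArtinianObject_of_epi {X Y : C} (f : X ⟶ Y) [Epi f] [IsArtinianObject X] :
    IsArtinianObject Y :=
  ⟨(pullback_strictMono_of_epi f).wellFoundedLT⟩

section Ext

variable {S : ShortComplex C} (hS : S.ShortExact)

/-- The pair (trace on the subobject, image in the quotient) of a subobject of the middle term. -/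
noncomputable def extMap (S : ShortComplex C) (T : Subobject S.X₂) :
    Subobject S.X₁ × Subobject S.X₃ :=
  ((Subobject.pullback S.f).obj T, imageSubobject (T.arrow ≫ S.g))

theorem extMap_monotone (S : ShortComplex C) : Monotone (extMap S) := by
  intro T T' h
  refine ⟨(Subobject.pullback S.f).monotone h, ?_⟩
  change imageSubobject (T.arrow ≫ S.g) ≤ imageSubobject (T'.arrow ≫ S.g)
  have e : T.arrow ≫ S.g = Subobject.ofLE T T' h ≫ T'.arrow ≫ S.g := by
    rw [← Category.assoc, Subobject.ofLE_arrow]
  rw [e]
  exact imageSubobject_comp_le _ _

include hS in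
theorem le_of_extMap_eq {T T' : Subobject S.X₂} (h : T ≤ T') (he : extMap S T = extMap S T') :
    T' ≤ T := by
  have he₁ : (Subobject.pullback S.f).obj T = (Subobject.pullback S.f).obj T' :=
    congrArg Prod.fst he
  have he₂ : imageSubobject (T.arrow ≫ S.g) = imageSubobject (T'.arrow ≫ S.g) :=
    congrArg Prod.snd he
  have := hS.mono_f
  rw [le_iff_forall_factors]
  intro W y hy
  -- the image of `y` in the quotient comes from `T`
  have h1 : (imageSubobject (T'.arrow ≫ S.g)).Factors (y ≫ S.g) := by
    rw [← Subobject.factorThru_arrow T' y hy, Category.assoc]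
    exact imageSubobject_factors_comp_self _ _
  rw [← he₂, imageSubobject_factors_iff] at h1
  obtain ⟨W', π, hπ, x, hx⟩ := h1
  -- the difference lies in `X₁`
  have h2 : (π ≫ y - x ≫ T.arrow) ≫ S.g = 0 := by
    rw [Preadditive.sub_comp, sub_eq_zero, Category.assoc, Category.assoc]
    exact hx
  obtain ⟨z, hz⟩ : ∃ z : W' ⟶ S.X₁, z ≫ S.f = π ≫ y - x ≫ T.arrow :=
    ⟨hS.exact.lift _ h2, hS.exact.lift_f _ h2⟩
  have hxT : T.Factors (x ≫ T.arrow) := Subobject.factors_comp_arrow x
  have hxT' : T'.Factors (x ≫ T.arrow) := Subobject.factors_of_le _ h hxT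
  have hπy' : T'.Factors (π ≫ y) := Subobject.factors_of_factors_right π hy
  have hz' : T'.Factors (z ≫ S.f) := by
    rw [hz, sub_eq_add_neg]
    apply Subobject.factors_add _ _ hπy'
    rw [← Preadditive.neg_comp]
    exact Subobject.factors_comp_arrow (-x)
      |> fun h' => Subobject.factors_of_le _ h h'
  have hzT : T.Factors (z ≫ S.f) := by
    rw [← Limits.pullback_factors_iff, he₁, Limits.pullback_factors_iff]
    exact hz'
  have hπy : T.Factors (π ≫ y) := by
    have e : π ≫ y = z ≫ S.f + x ≫ T.arrow := by rw [hz]; abel
    rw [e]
    exact Subobject.factors_add _ _ hzT hxT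
  exact factors_of_epi_comp T π y hπy

include hS in
theorem extMap_strictMono : StrictMono (extMap S) := by
  intro T T' h
  refine lt_of_le_of_ne (extMap_monotone S h.le) fun he => ?_
  exact absurd (le_of_extMap_eq hS h.le he) (not_le_of_gt h)

include hS in
/-- An extension of Noetherian objects is Noetherian. -/
theorem isNoetherianObject_of_shortExact [IsNoetherianObject S.X₁] [IsNoetherianObject S.X₃] :
    IsNoetherianObject S.X₂ :=
  ⟨(extMap_strictMono hS).wellFoundedGT⟩

include hS in
/-- An extension of Artinian objects is Artinian. -/
theorem isArtinianObject_of_shortExact [IsArtinianObject S.X₁] [IsArtinianObject S.X₃] :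
    IsArtinianObject S.X₂ :=
  ⟨(extMap_strictMono hS).wellFoundedLT⟩

end Ext

instance : (isNoetherianObject (C := C)).IsClosedUnderQuotients where
  prop_of_epi f _ hX := by
    rw [← isNoetherianObject.is_iff] at hX ⊢
    exact isNoetherianObject_of_epi f

instance : (isNoetherianObject (C := C)).IsClosedUnderExtensions where
  prop_X₂_of_shortExact hS h₁ h₃ := by
    rw [← isNoetherianObject.is_iff] at h₁ h₃ ⊢
    exact isNoetherianObject_of_shortExact hS

instance : (isNoetherianObject (C := C)).IsSerreClass where

instance : (isArtinianObject (C := C)).IsClosedUnderQuotients where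
  prop_of_epi f _ hX := by
    rw [← isArtinianObject.is_iff] at hX ⊢
    exact isArtinianObject_of_epi f

instance : (isArtinianObject (C := C)).IsClosedUnderExtensions where
  prop_X₂_of_shortExact hS h₁ h₃ := by
    rw [← isArtinianObject.is_iff] at h₁ h₃ ⊢
    exact isArtinianObject_of_shortExact hS

instance : (isArtinianObject (C := C)).IsSerreClass where

section FiniteProducts

/-- A property of objects closed under extensions and isomorphisms is closed under binary
products. -/
theorem isClosedUnderBinaryProducts_of_extensions (P : ObjectProperty C)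
    [P.IsClosedUnderExtensions] [P.IsClosedUnderIsomorphisms] :
    P.IsClosedUnderBinaryProducts where
  limitsOfShape_le := by
    rintro X ⟨p⟩
    refine P.prop_of_iso ?_ (P.prop_biprod (p.prop_diag_obj (.mk .left))
      (p.prop_diag_obj (.mk .right)))
    exact IsLimit.conePointUniqueUpToIso (BinaryBiproduct.isLimit _ _)
      ((IsLimit.postcomposeHomEquiv (diagramIsoPair p.diag) _).2 p.isLimit)

instance : (isNoetherianObject (C := C)).IsClosedUnderFiniteProducts := by
  have := isClosedUnderBinaryProducts_of_extensions (isNoetherianObject (C := C))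
  exact .mk'

instance : (isArtinianObject (C := C)).IsClosedUnderFiniteProducts := by
  have := isClosedUnderBinaryProducts_of_extensions (isArtinianObject (C := C))
  exact .mk'

/-- A finite biproduct of Noetherian objects is Noetherian. -/
theorem isNoetherianObject_biproduct {ι : Type*} [Finite ι] (f : ι → C) [HasBiproduct f]
    (h : ∀ i, IsNoetherianObject (f i)) : IsNoetherianObject (⨁ f) := by
  have h1 : isNoetherianObject (∏ᶜ f) :=
    (isNoetherianObject (C := C)).prop_product (fun i => (isNoetherianObject.is_iff _).mp (h i))
  exact (isNoetherianObject.is_iff _).mpr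
    ((isNoetherianObject (C := C)).prop_of_iso (biproduct.isoProduct f).symm h1)

/-- A finite biproduct of Artinian objects is Artinian. -/
theorem isArtinianObject_biproduct {ι : Type*} [Finite ι] (f : ι → C) [HasBiproduct f]
    (h : ∀ i, IsArtinianObject (f i)) : IsArtinianObject (⨁ f) := by
  have h1 : isArtinianObject (∏ᶜ f) :=
    (isArtinianObject (C := C)).prop_product (fun i => (isArtinianObject.is_iff _).mp (h i))
  exact (isArtinianObject.is_iff _).mpr
    ((isArtinianObject (C := C)).prop_of_iso (biproduct.isoProduct f).symm h1)

/-- An object covered by finitely many Noetherian objects is Noetherian. -/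
theorem isNoetherianObject_of_epi_desc {ι : Type*} [Finite ι] (f : ι → C) [HasBiproduct f] {Z : C}
    (ψ : ∀ i, f i ⟶ Z) [Epi (biproduct.desc ψ)] (h : ∀ i, IsNoetherianObject (f i)) :
    IsNoetherianObject Z := by
  have := isNoetherianObject_biproduct f h
  exact isNoetherianObject_of_epi (biproduct.desc ψ)

/-- An object covered by finitely many Artinian objects is Artinian. -/
theorem isArtinianObject_of_epi_desc {ι : Type*} [Finite ι] (f : ι → C) [HasBiproduct f] {Z : C}
    (ψ : ∀ i, f i ⟶ Z) [Epi (biproduct.desc ψ)] (h : ∀ i, IsArtinianObject (f i)) :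
    IsArtinianObject Z := by
  have := isArtinianObject_biproduct f h
  exact isArtinianObject_of_epi (biproduct.desc ψ)

end FiniteProducts

end Groth.Agent.Lib.NoethSerre
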