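import Groth.Agent.Lib.ARSysQuot
import Groth.Agent.Lib.NoethSerre
import Mathlib.RingTheory.Noetherian.Defs

/-!
Noetherian / Artinian terms of `J`-adic systems over a Noetherian ring.
-/

namespace Groth.Agent.Lib.ARSysNoeth

open CategoryTheory CategoryTheory.Limits Opposite ARSys Groth.Agent.Lib.ARSysBasic
  Groth.Agent.Lib.ARSysExact Groth.Agent.Lib.ARSysQuot Groth.Agent.Lib.NoethSerre

universe w v u

variable {C : Type u} [Category.{v} C] [Abelian C] {A : Type w} [CommRing A] [Linear A C]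

theorem homKilledBy_span {ι : Type*} (g : ι → A) {X Y : C} (φ : X ⟶ Y)
    (h : ∀ i, g i • φ = 0) : HomKilledBy (Ideal.span (Set.range g)) φ := by
  intro a ha
  induction ha using Submodule.span_induction with
  | mem a ha =>
    obtain ⟨i, rfl⟩ := ha
    exact h i
  | zero => exact zero_smul _ _
  | add a b _ _ ha hb => rw [add_smul, ha, hb, add_zero]
  | smul c a _ ha => rw [smul_eq_mul, mul_smul, ha, smul_zero]

/-- If `t : W ⟶ Q` is the quotient modulo the ideal generated by a finite family `g`, and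
multiplication by each `g i` on `W` factors through `p₀ : W ⟶ X₀`, then the kernel of `t`
embeds into the image of a map `⨁ X₀ ⟶ W`. -/
theorem exists_mono_kernel_to_image {ι : Type*} [Finite ι] (g : ι → A) {W Q X₀ : C}
    [HasBiproduct (fun _ : ι => X₀)]
    (t : W ⟶ Q) (ht : IsQuot (Ideal.span (Set.range g)) t) (p₀ : W ⟶ X₀)
    (ψ : ι → (X₀ ⟶ W)) (hψ : ∀ i, p₀ ≫ ψ i = g i • 𝟙 W) :
    ∃ m : kernel t ⟶ Abelian.image (biproduct.desc ψ), Mono m := by
  set Ψ := biproduct.desc ψ with hΨ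
  have hk : HomKilledBy (Ideal.span (Set.range g)) (cokernel.π Ψ) := by
    apply homKilledBy_span
    intro i
    calc g i • cokernel.π Ψ = (g i • 𝟙 W) ≫ cokernel.π Ψ := by
          rw [Linear.smul_comp, Category.id_comp]
      _ = p₀ ≫ (biproduct.ι (fun _ : ι => X₀) i ≫ Ψ) ≫ cokernel.π Ψ := by
          rw [← hψ i, hΨ, biproduct.ι_desc, Category.assoc]
      _ = 0 := by rw [Category.assoc, cokernel.condition, comp_zero, comp_zero]
  obtain ⟨χ, hχ⟩ := IsQuot.exists_fac ht _ hk
  have h0 : kernel.ι t ≫ cokernel.π Ψ = 0 := by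
    rw [← hχ, ← Category.assoc, kernel.condition, zero_comp]
  refine ⟨kernel.lift (cokernel.π Ψ) (kernel.ι t) h0, ?_⟩
  have e : kernel.lift (cokernel.π Ψ) (kernel.ι t) h0 ≫ Abelian.image.ι Ψ = kernel.ι t :=
    kernel.lift_ι _ _ _
  exact mono_of_mono_fac e

theorem isNoetherianObject_kernel_of_isQuot {ι : Type*} [Finite ι] (g : ι → A) {W Q X₀ : C}
    [HasBiproduct (fun _ : ι => X₀)]
    (t : W ⟶ Q) (ht : IsQuot (Ideal.span (Set.range g)) t) (p₀ : W ⟶ X₀)
    (ψ : ι → (X₀ ⟶ W)) (hψ : ∀ i, p₀ ≫ ψ i = g i • 𝟙 W) [IsNoetherianObject X₀] :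
    IsNoetherianObject (kernel t) := by
  obtain ⟨m, hm⟩ := exists_mono_kernel_to_image g t ht p₀ ψ hψ
  have h1 : IsNoetherianObject (⨁ fun _ : ι => X₀) :=
    isNoetherianObject_biproduct _ (fun _ => inferInstance)
  have h2 : IsNoetherianObject (Abelian.image (biproduct.desc ψ)) :=
    isNoetherianObject_of_epi (Abelian.factorThruImage (biproduct.desc ψ))
  exact isNoetherianObject_of_mono m

theorem isArtinianObject_kernel_of_isQuot {ι : Type*} [Finite ι] (g : ι → A) {W Q X₀ : C}
    [HasBiproduct (fun _ : ι => X₀)]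
    (t : W ⟶ Q) (ht : IsQuot (Ideal.span (Set.range g)) t) (p₀ : W ⟶ X₀)
    (ψ : ι → (X₀ ⟶ W)) (hψ : ∀ i, p₀ ≫ ψ i = g i • 𝟙 W) [IsArtinianObject X₀] :
    IsArtinianObject (kernel t) := by
  obtain ⟨m, hm⟩ := exists_mono_kernel_to_image g t ht p₀ ψ hψ
  have h1 : IsArtinianObject (⨁ fun _ : ι => X₀) :=
    isArtinianObject_biproduct _ (fun _ => inferInstance)
  have h2 : IsArtinianObject (Abelian.image (biproduct.desc ψ)) :=
    isArtinianObject_of_epi (Abelian.factorThruImage (biproduct.desc ψ))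
  exact isArtinianObject_of_mono m

/-- The short exact sequence `0 ⟶ ker t ⟶ W ⟶ Q ⟶ 0` of an epimorphism. -/
theorem shortExact_kernel {W Q : C} (t : W ⟶ Q) [Epi t] :
    (ShortComplex.mk (kernel.ι t) t (kernel.condition t)).ShortExact :=
  { exact := ShortComplex.exact_kernel t
    mono_f := by dsimp; infer_instance
    epi_g := by dsimp; infer_instance }

section Adic

variable [IsNoetherianRing A] (J : Ideal A) (X : ARSys.PS C) (hX : ARSys.IsAdic J X)

include hX in
/-- Data for the inductive step: the kernel of `X_{n+1} ⟶ X_n` is covered by copies of `X_0`. -/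
theorem exists_data (n : ℕ) :
    ∃ (ι : Type w) (_ : Finite ι) (g : ι → A) (ψ : ι → (X.obj (op 0) ⟶ X.obj (op (n + 1)))),
      IsQuot (Ideal.span (Set.range g)) (tr X (Nat.le_succ n)) ∧
      ∀ i, tr X (Nat.zero_le (n + 1)) ≫ ψ i = g i • 𝟙 (X.obj (op (n + 1))) := by
  obtain ⟨s, hs⟩ : (J ^ (n + 1)).FG := IsNoetherian.noetherian _
  have hs' : Ideal.span (s : Set A) = J ^ (n + 1) := hs
  have hmem : ∀ i : (s : Set A), (i : A) ∈ J ^ (n + 1) := fun i => by
    rw [← hs']; exact Ideal.subset_span i.2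
  have hq0 := hX.2 0 (n + 1) (Nat.zero_le _)
  have hex : ∀ i : (s : Set A), ∃ ψi : X.obj (op 0) ⟶ X.obj (op (n + 1)),
      tr X (Nat.zero_le (n + 1)) ≫ ψi = (i : A) • 𝟙 (X.obj (op (n + 1))) := by
    intro i
    apply IsQuot.exists_fac hq0
    intro b hb
    rw [smul_smul]
    apply hX.1 (n + 1)
    rw [zero_add, pow_one] at hb
    have : b * (i : A) ∈ J * J ^ (n + 1) := Ideal.mul_mem_mul hb (hmem i)
    rwa [← pow_succ'] at this
  choose ψ hψ using hex
  refine ⟨(s : Set A), inferInstance, fun i => (i : A), ψ, ?_, hψ⟩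
  rw [Subtype.range_coe, hs']
  exact hX.2 n (n + 1) (Nat.le_succ n)

include hX in
theorem isNoetherianObject_of_adic (h0 : IsNoetherianObject (X.obj (op 0))) (n : ℕ) :
    IsNoetherianObject (X.obj (op n)) := by
  have := Abelian.hasFiniteBiproducts (C := C)
  induction n with
  | zero => exact h0
  | succ n ih =>
    obtain ⟨ι, hι, g, ψ, hq, hψ⟩ := exists_data J X hX n
    have hK : IsNoetherianObject (kernel (tr X (Nat.le_succ n))) :=
      isNoetherianObject_kernel_of_isQuot g _ hq _ ψ hψ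
    have : Epi (tr X (Nat.le_succ n)) := IsQuot.epi hq
    exact isNoetherianObject_of_shortExact (shortExact_kernel (tr X (Nat.le_succ n)))

include hX in
theorem isArtinianObject_of_adic (h0 : IsArtinianObject (X.obj (op 0))) (n : ℕ) :
    IsArtinianObject (X.obj (op n)) := by
  have := Abelian.hasFiniteBiproducts (C := C)
  induction n with
  | zero => exact h0
  | succ n ih =>
    obtain ⟨ι, hι, g, ψ, hq, hψ⟩ := exists_data J X hX n
    have hK : IsArtinianObject (kernel (tr X (Nat.le_succ n))) :=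
      isArtinianObject_kernel_of_isQuot g _ hq _ ψ hψ
    have : Epi (tr X (Nat.le_succ n)) := IsQuot.epi hq
    exact isArtinianObject_of_shortExact (shortExact_kernel (tr X (Nat.le_succ n)))

end Adic

end Groth.Agent.Lib.ARSysNoeth
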