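import Groth.Agent.Lib.ARSysKer
import Groth.Agent.Lib.ARSysNoeth
import Groth.Agent.S3155
import Groth.Agent.S8638

/-!
# Kernels and cokernels of morphisms of AR-adic Noetherian systems (S3163)
-/

namespace Groth.Agent.Lib.ARSysKer2

open CategoryTheory CategoryTheory.Limits Opposite ARSys
open Groth.Agent.Lib.ARSysBasic Groth.Agent.Lib.ARSysExact Groth.Agent.Lib.ARSysKer

universe w v u

section General

variable {D : Type u} [Category.{v} D] [Abelian D]

/-- The short exact sequence `0 ⟶ ker u ⟶ X ⟶ im u ⟶ 0`. -/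
theorem shortExact_kernel_image {X Y : D} (u : X ⟶ Y) :
    (ShortComplex.mk (kernel.ι u) (Abelian.factorThruImage u) (by
      rw [← cancel_mono (Abelian.image.ι u), Category.assoc, Abelian.image.fac,
        kernel.condition, zero_comp])).ShortExact := by
  have hex : (ShortComplex.mk (kernel.ι u) u (kernel.condition u)).Exact :=
    ShortComplex.exact_kernel u
  let φ : ShortComplex.mk (kernel.ι u) (Abelian.factorThruImage u) (by
      rw [← cancel_mono (Abelian.image.ι u), Category.assoc, Abelian.image.fac,
        kernel.condition, zero_comp]) ⟶ ShortComplex.mk (kernel.ι u) u (kernel.condition u) :=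
    { τ₁ := 𝟙 _
      τ₂ := 𝟙 _
      τ₃ := Abelian.image.ι u
      comm₁₂ := by simp
      comm₂₃ := by simp }
  have h1 : Epi φ.τ₁ := by dsimp [φ]; infer_instance
  have h2 : IsIso φ.τ₂ := by dsimp [φ]; infer_instance
  have h3 : Mono φ.τ₃ := by dsimp [φ]; infer_instance
  exact
    { exact := (ShortComplex.exact_iff_of_epi_of_isIso_of_mono φ).mpr hex
      mono_f := by dsimp; infer_instance
      epi_g := by dsimp; infer_instance }

/-- The short exact sequence `0 ⟶ im u ⟶ Y ⟶ coker u ⟶ 0`. -/
theorem shortExact_image_cokernel {X Y : D} (u : X ⟶ Y) :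
    (ShortComplex.mk (Abelian.image.ι u) (cokernel.π u) (kernel.condition _)).ShortExact :=
  { exact := ShortComplex.exact_kernel _
    mono_f := by dsimp; infer_instance
    epi_g := by dsimp; infer_instance }

end General

variable {C : Type u} [Category.{v} C] [Abelian C] {A : Type w} [CommRing A] [Linear A C]

/-- **S3163**: kernels and cokernels of morphisms of AR-adic Noetherian systems are AR-adic
Noetherian (`J` finitely generated). -/
theorem isARAdicNoeth_kernel_cokernel (J : Ideal A) (hJ : J.FG) {X Y : ARSys.PS C} (u : X ⟶ Y)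
    (hX : ARSys.IsARAdicNoeth J X) (hY : ARSys.IsARAdicNoeth J Y) :
    ARSys.IsARAdicNoeth J (kernel u) ∧ ARSys.IsARAdicNoeth J (cokernel u) := by
  have hS1 := shortExact_kernel_image u
  have hS2 := shortExact_image_cokernel u
  -- the image is uniformly Mittag-Leffler
  have hImML : ARSys.IsMLAR (Abelian.image u) :=
    Groth.Agent.S8638.result _ hS1 (Groth.Agent.Lib.ARSysExt2.isMLAR_of_isARAdic J hX.1)
  have kIm : ARSys.TermKilled J (Abelian.image u) :=
    Groth.Agent.Lib.ARSysPull.termKilled_of_mono J (Abelian.image.ι u) (fun n => inferInstance)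
      hY.1.1
  have kCok : ARSys.TermKilled J (cokernel u) := fun n =>
    killedBy_of_epi ((cokernel.π u).app (op n)) (hY.1.1 n)
  have hCok : ARSys.IsARAdicNoeth J (cokernel u) := by
    refine ⟨Groth.Agent.S3155.result J (Or.inl hJ) _ hS2 kIm hY.1.1 kCok hImML hY.1, fun n => ?_⟩
    have := hY.2 n
    exact Groth.Agent.Lib.NoethSerre.isNoetherianObject_of_epi ((cokernel.π u).app (op n))
  have hIm : ARSys.IsARAdicNoeth J (Abelian.image u) :=
    isARAdicNoeth_of_shortExact J hJ _ hS2 hY hCok
  exact ⟨isARAdicNoeth_of_shortExact J hJ _ hS1 hX hIm, hCok⟩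

end Groth.Agent.Lib.ARSysKer2
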