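import Groth.Agent.Lib.GrGen22
import Groth.Agent.Lib.ARSysGrs
import Groth.Agent.Lib.ARSysDescent22

/-!
# The polynomial presentation of the graded object of an adic system (helper22)

For a `J`-adic system `X` in an abelian `A`-linear category, with `J` generated by `b : Fin r → A`:

* `Pq M q = ⨁_{s ∈ Sym (Fin r) q} M` with the commuting operators `Tq M j` ("`M[T_1..T_r]`");
* `piq : Pq (X_0) q ⟶ X_q`, given on the summand `s` by multiplication by the monomial `b^s`;
* `exact_piq`: the image of `piq (q+1)` is the kernel of `X_{q+1} ⟶ X_q`;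
* `stable_K`: the kernels of the `piq` form a graded family stable under the `Tq`;
* `exists_bound_pres`: if `X_0` is Noetherian, that family is generated in bounded degree;
* `prop_of_bound`: a property of objects closed under kernels, cokernels, extensions and finite
  constant sums holds for all `X_n` as soon as it holds for `X_0` and the first kernels.
-/

set_option autoImplicit false
set_option linter.unusedSectionVars false
set_option linter.style.haveILetI false

namespace Groth.Agent.Lib.ARSysPres22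

open CategoryTheory CategoryTheory.Limits Opposite ARSys
open Groth.Agent.Lib.ARSysBasic Groth.Agent.Lib.ARSysExact Groth.Agent.Lib.ARSysQuot
  Groth.Agent.S3185 Groth.Agent.S3184 Groth.Agent.Lib.H86SubobjElem Groth.Agent.Lib.GrHilbert
  Groth.Agent.Lib.ARSysGrs Groth.Agent.Lib.GrGen22

universe w v u

variable {C : Type u} [Category.{v} C] [Abelian C]

attribute [local instance] Abelian.hasFiniteBiproducts

section Free

variable {r : ℕ} (M : C)

/-- The degree `q` part of `M[T_1, …, T_r]`. -/
noncomputable abbrev Pq (q : ℕ) : C := ⨁ fun _ : Sym (Fin r) q => M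

/-- Multiplication by `T_j`. -/
noncomputable def Tq (j : Fin r) (q : ℕ) : Pq (r := r) M q ⟶ Pq (r := r) M (q + 1) :=
  biproduct.desc fun s : Sym (Fin r) q => biproduct.ι (fun _ : Sym (Fin r) (q + 1) => M) (j ::ₛ s)

@[reassoc]
theorem ι_Tq (j : Fin r) (q : ℕ) (s : Sym (Fin r) q) :
    biproduct.ι (fun _ : Sym (Fin r) q => M) s ≫ Tq M j q =
      biproduct.ι (fun _ : Sym (Fin r) (q + 1) => M) (j ::ₛ s) :=
  biproduct.ι_desc _ _

theorem Tq_comm (i j : Fin r) (q : ℕ) :
    Tq M i q ≫ Tq M j (q + 1) = Tq M j q ≫ Tq M i (q + 1) := by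
  apply biproduct.hom_ext'
  intro s
  rw [ι_Tq_assoc, ι_Tq, ι_Tq_assoc, ι_Tq, Sym.cons_swap]

theorem gen_Tq : Gen (fun (j : Fin r) q => Tq M j q) := by
  classical
  intro q W x
  choose a t hat using fun s' : Sym (Fin r) (q + 1) => Sym.exists_eq_cons_of_succ s'
  refine ⟨W, 𝟙 W, inferInstance, fun j => ∑ s' with a s' = j,
    (x ≫ biproduct.π (fun _ : Sym (Fin r) (q + 1) => M) s') ≫
      biproduct.ι (fun _ : Sym (Fin r) q => M) (t s'), ?_⟩
  rw [Category.id_comp]
  have h1 : ∀ s' : Sym (Fin r) (q + 1),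
      biproduct.ι (fun _ : Sym (Fin r) (q + 1) => M) s' =
        biproduct.ι (fun _ : Sym (Fin r) q => M) (t s') ≫ Tq M (a s') q := by
    intro s'
    rw [ι_Tq, ← hat s']
  calc x = x ≫ ∑ s', biproduct.π (fun _ : Sym (Fin r) (q + 1) => M) s' ≫
          biproduct.ι (fun _ : Sym (Fin r) (q + 1) => M) s' := by
        rw [biproduct.total]; exact (Category.comp_id x).symm
    _ = ∑ s', ((x ≫ biproduct.π (fun _ : Sym (Fin r) (q + 1) => M) s') ≫
          biproduct.ι (fun _ : Sym (Fin r) q => M) (t s')) ≫ Tq M (a s') q := by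
        rw [Preadditive.comp_sum]
        refine Finset.sum_congr rfl fun s' _ => ?_
        rw [Category.assoc, Category.assoc, ← h1 s']
    _ = ∑ j, ∑ s' with a s' = j, ((x ≫ biproduct.π (fun _ : Sym (Fin r) (q + 1) => M) s') ≫
          biproduct.ι (fun _ : Sym (Fin r) q => M) (t s')) ≫ Tq M (a s') q :=
        (Finset.sum_fiberwise Finset.univ a _).symm
    _ = ∑ j, (∑ s' with a s' = j, (x ≫ biproduct.π (fun _ : Sym (Fin r) (q + 1) => M) s') ≫
          biproduct.ι (fun _ : Sym (Fin r) q => M) (t s')) ≫ Tq M j q := by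
        refine Finset.sum_congr rfl fun j _ => ?_
        rw [Preadditive.sum_comp]
        refine Finset.sum_congr rfl fun s' hs' => ?_
        rw [(Finset.mem_filter.1 hs').2]

end Free

section Monom

variable {A : Type w} [CommRing A] {r : ℕ} (b : Fin r → A)

/-- The monomial `b^s`. -/
def monom {q : ℕ} (s : Sym (Fin r) q) : A := ((s : Multiset (Fin r)).map b).prod

theorem monom_cons {q : ℕ} (j : Fin r) (s : Sym (Fin r) q) :
    monom b (j ::ₛ s) = b j * monom b s := by
  unfold monom
  rw [Sym.coe_cons, Multiset.map_cons, Multiset.prod_cons]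

theorem monom_nil (s : Sym (Fin r) 0) : monom b s = 1 := by
  rw [Sym.eq_nil_of_card_zero s]
  unfold monom
  rw [Sym.coe_nil, Multiset.map_zero, Multiset.prod_zero]

theorem monom_mem (J : Ideal A) (hb : ∀ j, b j ∈ J) : ∀ {q : ℕ} (s : Sym (Fin r) q),
    monom b s ∈ J ^ q
  | 0, s => by rw [pow_zero, Ideal.one_eq_top]; exact Submodule.mem_top
  | q + 1, s => by
    obtain ⟨j, t, rfl⟩ := Sym.exists_eq_cons_of_succ s
    rw [monom_cons, pow_succ']
    exact Ideal.mul_mem_mul (hb j) (monom_mem J hb t)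

theorem span_monom (J : Ideal A) (hspan : Ideal.span (Set.range b) = J) : ∀ q : ℕ,
    Ideal.span (Set.range fun s : Sym (Fin r) q => monom b s) = J ^ q
  | 0 => by
    rw [pow_zero, Ideal.one_eq_top, Ideal.eq_top_iff_one]
    exact Ideal.subset_span ⟨Sym.nil, monom_nil b _⟩
  | q + 1 => by
    rw [pow_succ', ← span_monom J hspan q, ← hspan, Ideal.span_mul_span']
    congr 1
    ext c
    constructor
    · rintro ⟨s, rfl⟩
      obtain ⟨j, t, rfl⟩ := Sym.exists_eq_cons_of_succ s
      exact ⟨b j, ⟨j, rfl⟩, monom b t, ⟨t, rfl⟩, (monom_cons b j t).symm⟩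
    · rintro ⟨_, ⟨j, rfl⟩, _, ⟨t, rfl⟩, rfl⟩
      exact ⟨j ::ₛ t, monom_cons b j t⟩

end Monom

section Adic

variable {A : Type w} [CommRing A] [Linear A C] (J : Ideal A) (X : ARSys.PS C)
  (hX : ARSys.IsAdic J X) {r : ℕ} (b : Fin r → A) (hb : ∀ j, b j ∈ J)

include hX hb in
theorem exists_mu {q : ℕ} (s : Sym (Fin r) q) :
    ∃ μ : X.obj (op 0) ⟶ X.obj (op q),
      tr X (Nat.zero_le q) ≫ μ = monom b s • 𝟙 (X.obj (op q)) := by
  have hk : HomKilledBy (J ^ (0 + 1)) (monom b s • 𝟙 (X.obj (op q))) := by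
    intro c hc
    rw [smul_smul]
    refine hX.1 q (c * monom b s) ?_
    rw [pow_succ']
    rw [zero_add, pow_one] at hc
    exact Ideal.mul_mem_mul hc (monom_mem b J hb s)
  exact IsQuot.exists_fac (hX.2 0 q (Nat.zero_le q)) _ hk

/-- Multiplication by the monomial `b^s`, as a map `X_0 ⟶ X_q`. -/
noncomputable def mu {q : ℕ} (s : Sym (Fin r) q) : X.obj (op 0) ⟶ X.obj (op q) :=
  (exists_mu J X hX b hb s).choose

@[reassoc]
theorem tr_mu {q : ℕ} (s : Sym (Fin r) q) :
    tr X (Nat.zero_le q) ≫ mu J X hX b hb s = monom b s • 𝟙 (X.obj (op q)) :=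
  (exists_mu J X hX b hb s).choose_spec

/-- The presentation map. -/
noncomputable def piq (q : ℕ) : Pq (r := r) (X.obj (op 0)) q ⟶ X.obj (op q) :=
  biproduct.desc fun s => mu J X hX b hb s

@[reassoc]
theorem ι_piq (q : ℕ) (s : Sym (Fin r) q) :
    biproduct.ι (fun _ : Sym (Fin r) q => X.obj (op 0)) s ≫ piq J X hX b hb q =
      mu J X hX b hb s :=
  biproduct.ι_desc _ _

theorem piq_tr (q : ℕ) : piq J X hX b hb (q + 1) ≫ tr X (Nat.le_succ q) = 0 := by
  apply biproduct.hom_ext'
  intro s
  rw [ι_piq_assoc, comp_zero]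
  have hepi : Epi (tr X (Nat.zero_le (q + 1))) := epi_tr_of_isAdic J X hX _
  rw [← cancel_epi (tr X (Nat.zero_le (q + 1))), tr_mu_assoc, comp_zero, smul_id_comm]
  have : (monom b s • 𝟙 (X.obj (op q)) : X.obj (op q) ⟶ X.obj (op q)) = 0 :=
    hX.1 q _ (monom_mem b J hb s)
  rw [this, comp_zero]

include hX hb in
/-- The image of `piq (q+1)` is the kernel of the transition map. -/
theorem exact_piq (hspan : Ideal.span (Set.range b) = J) (q : ℕ) {W : C}
    (x : W ⟶ X.obj (op (q + 1))) (hx : x ≫ tr X (Nat.le_succ q) = 0) :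
    ∃ (W' : C) (π : W' ⟶ W) (_ : Epi π) (y : W' ⟶ Pq (r := r) (X.obj (op 0)) (q + 1)),
      π ≫ x = y ≫ piq J X hX b hb (q + 1) := by
  set Ψ := piq J X hX b hb (q + 1) with hΨ
  have hbase : ∀ s : Sym (Fin r) (q + 1), monom b s • cokernel.π Ψ = 0 := by
    intro s
    have h1 : monom b s • cokernel.π Ψ = (monom b s • 𝟙 (X.obj (op (q + 1)))) ≫ cokernel.π Ψ := by
      rw [Linear.smul_comp, Category.id_comp]
    rw [h1, ← tr_mu J X hX b hb s, Category.assoc, ← ι_piq J X hX b hb (q + 1) s, Category.assoc,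
      ← hΨ, cokernel.condition, comp_zero, comp_zero]
  have hρ : HomKilledBy (J ^ (q + 1)) (cokernel.π Ψ) := by
    intro c hc
    rw [← span_monom b J hspan (q + 1)] at hc
    induction hc using Submodule.span_induction with
    | mem c hc =>
      obtain ⟨s, rfl⟩ := hc
      exact hbase s
    | zero => rw [zero_smul]
    | add x y _ _ hx hy => rw [add_smul, hx, hy, add_zero]
    | smul a x _ hx => rw [smul_eq_mul, mul_smul, hx, smul_zero]
  obtain ⟨ψ, hψ⟩ := IsQuot.exists_fac (hX.2 q (q + 1) (Nat.le_succ q)) _ hρ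
  have h0 : x ≫ cokernel.π Ψ = 0 := by
    rw [← hψ, reassoc_of% hx, zero_comp]
  have hex : (ShortComplex.mk Ψ (cokernel.π Ψ) (cokernel.condition _)).Exact :=
    ShortComplex.exact_cokernel _
  obtain ⟨W', π, hπ, w, hw⟩ := hex.exact_up_to_refinements x h0
  exact ⟨W', π, hπ, w, hw⟩

/-- The kernels of the presentation maps are stable under the operators. -/
theorem stable_K (j : Fin r) (q : ℕ) {W : C} (x : W ⟶ Pq (r := r) (X.obj (op 0)) q)
    (hx : x ≫ piq J X hX b hb q = 0) :
    (x ≫ Tq (X.obj (op 0)) j q) ≫ piq J X hX b hb (q + 1) = 0 := by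
  classical
  have hepi0 : Epi (tr X (Nat.zero_le (q + 1))) := epi_tr_of_isAdic J X hX _
  obtain ⟨W', π, hπ, xt, hxt⟩ := surjective_up_to_refinements_of_epi
    (biproduct.map fun _ : Sym (Fin r) q => tr X (Nat.zero_le (q + 1))) x
  rw [← cancel_epi π, comp_zero]
  obtain ⟨xs, hxs_def⟩ : ∃ xs : Sym (Fin r) q → (W' ⟶ X.obj (op (q + 1))),
      ∀ s, xs s = xt ≫ biproduct.π (fun _ : Sym (Fin r) q => X.obj (op (q + 1))) s :=
    ⟨_, fun _ => rfl⟩
  obtain ⟨z, hz_def⟩ : ∃ z : W' ⟶ Pq (r := r) (X.obj (op 0)) q, z = π ≫ x := ⟨_, rfl⟩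
  have hzx : z ≫ piq J X hX b hb q = 0 := by rw [hz_def, Category.assoc, hx, comp_zero]
  have hxs : ∀ s, z ≫ biproduct.π (fun _ : Sym (Fin r) q => X.obj (op 0)) s =
      xs s ≫ tr X (Nat.zero_le (q + 1)) := by
    intro s
    rw [hz_def, hxt, Category.assoc, biproduct.map_π, ← Category.assoc, hxs_def]
  have htot := biproduct.total (f := fun _ : Sym (Fin r) q => X.obj (op 0))
  have hdecomp : z = ∑ s, (xs s ≫ tr X (Nat.zero_le (q + 1))) ≫
      biproduct.ι (fun _ : Sym (Fin r) q => X.obj (op 0)) s := by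
    calc z = z ≫ 𝟙 _ := (Category.comp_id _).symm
      _ = z ≫ ∑ s, biproduct.π (fun _ : Sym (Fin r) q => X.obj (op 0)) s ≫
          biproduct.ι (fun _ : Sym (Fin r) q => X.obj (op 0)) s := by rw [htot]
      _ = _ := by
          rw [Preadditive.comp_sum]
          refine Finset.sum_congr rfl fun s _ => ?_
          rw [← Category.assoc, hxs s]
  have hpiq : piq J X hX b hb q =
      ∑ s, biproduct.π (fun _ : Sym (Fin r) q => X.obj (op 0)) s ≫ mu J X hX b hb s := by
    calc piq J X hX b hb q = 𝟙 _ ≫ piq J X hX b hb q := (Category.id_comp _).symm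
      _ = (∑ s, biproduct.π (fun _ : Sym (Fin r) q => X.obj (op 0)) s ≫
          biproduct.ι (fun _ : Sym (Fin r) q => X.obj (op 0)) s) ≫ piq J X hX b hb q := by
          rw [htot]
      _ = _ := by
          rw [Preadditive.sum_comp]
          refine Finset.sum_congr rfl fun s _ => ?_
          rw [Category.assoc, ι_piq]
  obtain ⟨y, hy_def⟩ : ∃ y : W' ⟶ X.obj (op (q + 1)), y = ∑ s, monom b s • xs s := ⟨_, rfl⟩
  -- `y` lies in the kernel of the transition map
  have hy : y ≫ tr X (Nat.le_succ q) = 0 := by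
    have h1 : ∀ s, (monom b s • xs s) ≫ tr X (Nat.le_succ q) =
        (z ≫ biproduct.π (fun _ : Sym (Fin r) q => X.obj (op 0)) s) ≫ mu J X hX b hb s := by
      intro s
      have e : tr X (Nat.zero_le (q + 1)) = tr X (Nat.le_succ q) ≫ tr X (Nat.zero_le q) := by
        rw [tr_comp]
      rw [hxs s, e]
      simp only [Category.assoc]
      rw [tr_mu, Linear.smul_comp, Linear.comp_smul, Linear.comp_smul, Category.comp_id]
    rw [hy_def, Preadditive.sum_comp]
    calc ∑ s, (monom b s • xs s) ≫ tr X (Nat.le_succ q)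
        = ∑ s, (z ≫ biproduct.π (fun _ : Sym (Fin r) q => X.obj (op 0)) s) ≫
            mu J X hX b hb s := Finset.sum_congr rfl fun s _ => h1 s
      _ = z ≫ piq J X hX b hb q := by
          rw [hpiq, Preadditive.comp_sum]
          exact Finset.sum_congr rfl fun s _ => Category.assoc _ _ _
      _ = 0 := hzx
  obtain ⟨g, hg⟩ := exists_lift_grι_succ X q y hy
  have hby : b j • y = 0 := by
    have : y ≫ (b j • 𝟙 (X.obj (op (q + 1)))) = 0 := by
      rw [← hg, Category.assoc, grι_smul_eq_zero J X hX (q + 1) (b j) (hb j), comp_zero]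
    rwa [Linear.comp_smul, Category.comp_id] at this
  -- the composite is `b j • y`
  have hgoal : (z ≫ Tq (X.obj (op 0)) j q) ≫ piq J X hX b hb (q + 1) = 0 := by
    rw [hdecomp, Preadditive.sum_comp, Preadditive.sum_comp]
    calc ∑ s, (((xs s ≫ tr X (Nat.zero_le (q + 1))) ≫
            biproduct.ι (fun _ : Sym (Fin r) q => X.obj (op 0)) s) ≫ Tq (X.obj (op 0)) j q) ≫
            piq J X hX b hb (q + 1)
        = ∑ s, b j • (monom b s • xs s) := by
          refine Finset.sum_congr rfl fun s _ => ?_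
          simp only [Category.assoc]
          rw [ι_Tq_assoc, ι_piq, tr_mu, monom_cons, Linear.comp_smul, Category.comp_id, mul_smul]
      _ = b j • y := by rw [hy_def, ← Finset.smul_sum]
      _ = 0 := hby
  rw [← hgoal, hz_def]
  simp only [Category.assoc]

/-- The graded family of kernels of the presentation maps. -/
noncomputable def K : Fam (fun q => Pq (r := r) (X.obj (op 0)) q) :=
  fun q => kernelSubobject (piq J X hX b hb q)

theorem stable_Kfam (j : Fin r) :
    Stable (fun q => Tq (X.obj (op 0)) j q) (K J X hX b hb) := by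
  rw [stable_iff]
  intro q W x hx
  unfold K at hx ⊢
  rw [kernelSubobject_factors_iff] at hx ⊢
  exact stable_K J X hX b hb j q x hx

/-- Bounded generation of the kernels of the presentation. -/
theorem exists_bound_pres (h0 : IsNoetherianObject (X.obj (op 0))) :
    ∃ i₀ : ℕ, ∀ q : ℕ, i₀ ≤ q →
      K J X hX b hb (q + 1) = Sg (fun j q => Tq (X.obj (op 0)) j q) (K J X hX b hb q) := by
  have hP0 : IsNoetherianObject (Pq (r := r) (X.obj (op 0)) 0) := by
    -- `P_0 ≅ X_0`
    obtain ⟨e⟩ : Nonempty (Pq (r := r) (X.obj (op 0)) 0 ≅ X.obj (op 0)) := ⟨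
      { hom := biproduct.π (fun _ : Sym (Fin r) 0 => X.obj (op 0)) Sym.nil
        inv := biproduct.ι (fun _ : Sym (Fin r) 0 => X.obj (op 0)) Sym.nil
        hom_inv_id := by
          have := biproduct.total (f := fun _ : Sym (Fin r) 0 => X.obj (op 0))
          rw [Fintype.sum_unique] at this
          exact this
        inv_hom_id := biproduct.ι_π_self _ _ }⟩
    have : Mono e.hom := inferInstance
    exact isNoetherianObject_of_mono e.hom
  exact exists_bound (fun i j q => Tq_comm (X.obj (op 0)) i j q) (gen_Tq (X.obj (op 0))) hP0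
    (fun j => stable_Kfam J X hX b hb j)

open Groth.Agent.Lib.ARSysDescent22 (Adm adm_imageSubobject adm_kernelSubobject) in
include hX hb in
/-- A property closed under isomorphisms, kernels, cokernels, extensions and finite constant sums
holds for every term of the adic system as soon as it holds for `X_0` and the kernels of the
presentation up to the generation bound. -/
theorem prop_of_bound (hspan : Ideal.span (Set.range b) = J) {Q : C → Prop} (adm : Adm Q)
    (hext : ∀ S : ShortComplex C, S.ShortExact → Q S.X₁ → Q S.X₃ → Q S.X₂)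
    (hbip : ∀ Z : C, Q Z → ∀ (ι : Type) [Finite ι], Q (⨁ fun _ : ι => Z))
    (i₀ : ℕ)
    (hbound : ∀ q : ℕ, i₀ ≤ q →
      K J X hX b hb (q + 1) = Sg (fun j q => Tq (X.obj (op 0)) j q) (K J X hX b hb q))
    (h0 : Q (X.obj (op 0)))
    (hK : ∀ q : ℕ, q ≤ i₀ → Q ((K J X hX b hb q : Subobject _) : C)) (n : ℕ) :
    Q (X.obj (op n)) := by
  have hP : ∀ q, Q (Pq (r := r) (X.obj (op 0)) q) := fun q => hbip _ h0 (Sym (Fin r) q)
  have hKall : ∀ q, Q ((K J X hX b hb q : Subobject _) : C) := by
    intro q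
    induction q with
    | zero => exact hK 0 (Nat.zero_le _)
    | succ q ih =>
      by_cases h : q + 1 ≤ i₀
      · exact hK (q + 1) h
      · rw [hbound q (by omega)]
        exact adm_imageSubobject adm _ (hbip _ ih (Fin r)) (hP (q + 1))
  induction n with
  | zero => exact h0
  | succ n ih =>
    have hKer : Q (kernel (piq J X hX b hb (n + 1))) :=
      adm.iso (kernelSubobjectIso _) (hKall (n + 1))
    have hCoim : Q (Abelian.coimage (piq J X hX b hb (n + 1))) :=
      adm.coker (kernel.ι (piq J X hX b hb (n + 1))) hKer (hP (n + 1))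
    have hzero : Abelian.factorThruCoimage (piq J X hX b hb (n + 1)) ≫ tr X (Nat.le_succ n) = 0 := by
      rw [← cancel_epi (Abelian.coimage.π (piq J X hX b hb (n + 1))), ← Category.assoc,
        Abelian.coimage.fac, piq_tr, comp_zero]
    let S : ShortComplex C := ShortComplex.mk
      (Abelian.factorThruCoimage (piq J X hX b hb (n + 1))) (tr X (Nat.le_succ n)) hzero
    have hS : S.ShortExact :=
      { exact := by
          rw [ShortComplex.exact_iff_exact_up_to_refinements]
          intro W x hx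
          obtain ⟨W', π, hπ, y, hy⟩ := exact_piq J X hX b hb hspan n x hx
          refine ⟨W', π, hπ, y ≫ Abelian.coimage.π (piq J X hX b hb (n + 1)), ?_⟩
          rw [hy, Category.assoc]
          congr 1
          exact (Abelian.coimage.fac _).symm
        mono_f := by dsimp [S]; infer_instance
        epi_g := epi_tr_of_isAdic J X hX _ }
    exact hext S hS hCoim ih

end Adic

end Groth.Agent.Lib.ARSysPres22
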