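import Groth.Agent.Lib.ARSysGrs
import Mathlib.CategoryTheory.Limits.FunctorCategory.EpiMono

/-!
# Subobjects of projective systems, termwise

`evSub S n` is the `n`-th term of a subobject `S` of a projective system `X`, as a subobject of `X_n`.
Main result: `strict_chain_stationary` (increasing chains of strict subsystems of an adic Noetherian
system are stationary).
-/

namespace Groth.Agent.Lib.ARSysSub

open CategoryTheory CategoryTheory.Limits Opposite ARSys
open Groth.Agent.Lib.ARSysBasic Groth.Agent.Lib.ARSysExact Groth.Agent.Lib.ARSysQuot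
  Groth.Agent.S3185 Groth.Agent.S3184 Groth.Agent.Lib.H86SubobjElem Groth.Agent.Lib.GrHilbert
  Groth.Agent.Lib.ARSysGrs

universe w v u

variable {C : Type u} [Category.{v} C] [Abelian C]

section Ev

variable {X : ARSys.PS C}

/-- The `n`-th term of a subobject of a projective system. -/
noncomputable def evSub (S : Subobject X) (n : ℕ) : Subobject (X.obj (op n)) :=
  Subobject.mk (S.arrow.app (op n))

theorem evSub_factors_iff (S : Subobject X) (n : ℕ) {W : C} (y : W ⟶ X.obj (op n)) :
    (evSub S n).Factors y ↔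
      ∃ g : W ⟶ (Subobject.underlying.obj S : ARSys.PS C).obj (op n), g ≫ S.arrow.app (op n) = y :=
  Iff.rfl

theorem evSub_factors_app (S : Subobject X) (n : ℕ) {W : C}
    (g : W ⟶ (Subobject.underlying.obj S : ARSys.PS C).obj (op n)) :
    (evSub S n).Factors (g ≫ S.arrow.app (op n)) :=
  (evSub_factors_iff S n _).mpr ⟨g, rfl⟩

theorem evSub_mono {S T : Subobject X} (h : S ≤ T) (n : ℕ) : evSub S n ≤ evSub T n := by
  rw [le_iff_forall_factors]
  intro W y hy
  obtain ⟨g, rfl⟩ := (evSub_factors_iff S n y).mp hy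
  have e : S.arrow.app (op n) = (Subobject.ofLE S T h).app (op n) ≫ T.arrow.app (op n) := by
    rw [← NatTrans.comp_app, Subobject.ofLE_arrow]
  rw [e, ← Category.assoc]
  exact evSub_factors_app T n _

/-- Two comparable subobjects of a system with the same terms are equal. -/
theorem eq_of_le_of_evSub_le {S T : Subobject X} (h : S ≤ T) (he : ∀ n : ℕ, evSub T n ≤ evSub S n) :
    S = T := by
  have hiso : ∀ n : ℕ, IsIso ((Subobject.ofLE S T h).app (op n)) := by
    intro n
    have hT : (evSub S n).Factors (T.arrow.app (op n)) :=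
      Subobject.factors_of_le _ (he n) (by
        have := evSub_factors_app T n (𝟙 _)
        rwa [Category.id_comp] at this)
    obtain ⟨u, hu⟩ := (evSub_factors_iff S n _).mp hT
    have e : S.arrow.app (op n) = (Subobject.ofLE S T h).app (op n) ≫ T.arrow.app (op n) := by
      rw [← NatTrans.comp_app, Subobject.ofLE_arrow]
    have h1 : u ≫ (Subobject.ofLE S T h).app (op n) = 𝟙 _ := by
      rw [← cancel_mono (T.arrow.app (op n)), Category.assoc, ← e, hu, Category.id_comp]
    have h2 : (Subobject.ofLE S T h).app (op n) ≫ u = 𝟙 _ := by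
      rw [← cancel_mono (S.arrow.app (op n)), Category.assoc, hu, ← e, Category.id_comp]
    exact ⟨u, h2, h1⟩
  have hiso' : IsIso (Subobject.ofLE S T h) := by
    have : ∀ k : ℕᵒᵖ, IsIso ((Subobject.ofLE S T h).app k) := fun k => hiso k.unop
    exact NatIso.isIso_of_isIso_app _
  exact Subobject.eq_of_comm (asIso (Subobject.ofLE S T h)) (Subobject.ofLE_arrow h)

/-- Lifting along the transition maps of a strict subsystem, up to refinement. -/
theorem exists_lift_of_isStrict (S : Subobject X)
    (hS : ARSys.IsStrict (Subobject.underlying.obj S : ARSys.PS C)) {n m : ℕ} (h : n ≤ m) {W : C}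
    (y : W ⟶ X.obj (op n)) (hy : (evSub S n).Factors y) :
    ∃ (W' : C) (π : W' ⟶ W) (_ : Epi π) (z : W' ⟶ X.obj (op m)),
      (evSub S m).Factors z ∧ z ≫ tr X h = π ≫ y := by
  obtain ⟨g, rfl⟩ := (evSub_factors_iff S n y).mp hy
  have := hS n m h
  obtain ⟨W', π, hπ, z, hz⟩ := surjective_up_to_refinements_of_epi
    (tr (Subobject.underlying.obj S : ARSys.PS C) h) g
  refine ⟨W', π, hπ, z ≫ S.arrow.app (op m), evSub_factors_app S m z, ?_⟩
  rw [Category.assoc, ← tr_naturality, ← Category.assoc, ← hz, Category.assoc]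

end Ev


section Linear

variable {A : Type w} [CommRing A] [Linear A C] (J : Ideal A) (X : ARSys.PS C)

/-- An adic system is adapted. -/
theorem isAdapted_of_isAdic (hX : ARSys.IsAdic J X) : ARSys.IsAdapted J X := by
  intro n p hp a ha
  obtain ⟨q, hq⟩ : ∃ q, n + 1 - p = q := ⟨_, rfl⟩
  rw [hq]
  cases q with
  | zero =>
    have hpn : p = n + 1 := by omega
    subst hpn
    rw [hX.1 n a ha, comp_zero]
  | succ k =>
    have hkn : k ≤ n := by omega
    have hk : HomKilledBy (J ^ (k + 1)) (a • 𝟙 (X.obj (op n))) := by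
      intro c hc
      rw [smul_smul]
      refine hX.1 n (c * a) ?_
      have : n + 1 = (k + 1) + p := by omega
      rw [this, pow_add]
      exact Ideal.mul_mem_mul hc ha
    obtain ⟨ψ, hψ⟩ := IsQuot.exists_fac (hX.2 k n hkn) _ hk
    have h0 : (ARSys.Fsub X (k + 1) n).Factors (ARSys.Fsub X (k + 1) n).arrow :=
      Subobject.factors_self _
    rw [Fsub_factors_iff] at h0
    rw [← hψ, ← Category.assoc, h0 k (Nat.lt_succ_self k) hkn, zero_comp]

/-- Multiplication by `a ∈ J^p` maps `F^q(X_n)` into `F^{p+q}(X_n)` for an adic system. -/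
theorem Fsub_smul_factors (hX : ARSys.IsAdic J X) (n p q : ℕ) (a : A) (ha : a ∈ J ^ p) {W : C}
    (x : W ⟶ X.obj (op n)) (hx : (ARSys.Fsub X q n).Factors x) :
    (ARSys.Fsub X (p + q) n).Factors (x ≫ (a • 𝟙 (X.obj (op n)))) := by
  have h := (Groth.Agent.S3185.result J X).mp (isAdapted_of_isAdic J X hX) n p q a ha
  rw [image_le_iff_factors] at h
  rw [← Subobject.factorThru_arrow _ _ hx, Category.assoc]
  exact Subobject.factors_of_factors_right _ h

/-- A strict subsystem `S` of an adic system gives the graded submodule `(S_q ∩ F^q(X_q))_q`. -/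
theorem isGrSub_inf (hX : ARSys.IsAdic J X) (S : Subobject X)
    (hS : ARSys.IsStrict (Subobject.underlying.obj S : ARSys.PS C)) :
    ARSys.IsGrSub J X (fun q => evSub S q ⊓ ARSys.Fsub X q q) := by
  refine ⟨fun q => inf_le_right, ?_⟩
  intro p q a ha
  rw [image_le_iff_factors]
  set P := (Subobject.pullback (tr X (Nat.le_add_left q p))).obj (evSub S q ⊓ ARSys.Fsub X q q)
    with hP
  have hx : (evSub S q ⊓ ARSys.Fsub X q q).Factors (P.arrow ≫ tr X (Nat.le_add_left q p)) := by
    rw [← pullback_factors_iff]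
    exact Subobject.factors_self _
  rw [Subobject.inf_factors] at hx ⊢
  obtain ⟨hx1, hx2⟩ := hx
  constructor
  · -- membership in `S_{p+q}`
    obtain ⟨W', π, hπ, z, hz, hzx⟩ := exists_lift_of_isStrict S hS (Nat.le_add_left q p) _ hx1
    have hd : (ARSys.Fsub X (q + 1) (p + q)).Factors (π ≫ P.arrow - z) := by
      rw [Fsub_factors_iff]
      intro k hk hkn
      have hkq : k ≤ q := Nat.lt_succ_iff.mp hk
      have e : tr X hkn = tr X (Nat.le_add_left q p) ≫ tr X hkq := by rw [tr_comp]
      rw [e, Preadditive.sub_comp, Category.assoc, ← Category.assoc z, hzx]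
      simp only [Category.assoc, sub_self]
    have hd' := Fsub_smul_factors J X hX (p + q) p (q + 1) a ha _ hd
    rw [Fsub_factors_iff] at hd'
    have hd0 := hd' (p + q) (by omega) le_rfl
    rw [tr_self, Category.comp_id, Preadditive.sub_comp, sub_eq_zero] at hd0
    apply factors_of_epi_comp _ π
    rw [← Category.assoc, hd0]
    obtain ⟨g, rfl⟩ := (evSub_factors_iff S (p + q) z).mp hz
    rw [Category.assoc, ← smul_id_comm, ← Category.assoc]
    exact evSub_factors_app S (p + q) _
  · -- membership in `F^{p+q}(X_{p+q})`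
    refine Fsub_smul_factors J X hX (p + q) p q a ha _ ?_
    rw [Fsub_factors_iff] at hx2 ⊢
    intro k hk hkn
    have hkq : k ≤ q := hk.le
    have := hx2 k hk hkq
    rwa [Category.assoc, tr_comp] at this

/-- Increasing chains of strict subsystems of an adic system with `X_0` Noetherian are stationary
(`J` finitely generated). -/
theorem strict_chain_stationary (hJ : J.FG) (hX : ARSys.IsAdic J X)
    (h0 : IsNoetherianObject (X.obj (op 0))) (Z : ℕ →o Subobject X)
    (hZ : ∀ k : ℕ, ARSys.IsStrict (Subobject.underlying.obj (Z k) : ARSys.PS C)) :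
    ∃ k₀ : ℕ, ∀ k : ℕ, k₀ ≤ k → Z k = Z k₀ := by
  obtain ⟨k₀, hk₀⟩ := grs_chain_stationary J X hJ hX h0
    (fun k q => evSub (Z k) q ⊓ ARSys.Fsub X q q) (fun k => isGrSub_inf J X hX (Z k) (hZ k))
    (fun k k' hkk' q => inf_le_inf_right _ (evSub_mono (Z.monotone hkk') q))
  refine ⟨k₀, fun k hk => (eq_of_le_of_evSub_le (Z.monotone hk) ?_).symm⟩
  have hM : ∀ q, evSub (Z k) q ⊓ ARSys.Fsub X q q = evSub (Z k₀) q ⊓ ARSys.Fsub X q q :=
    fun q => congrFun (hk₀ k hk) q
  intro n
  induction n with
  | zero =>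
    rw [le_iff_forall_factors]
    intro W y hy
    have h1 : (evSub (Z k) 0 ⊓ ARSys.Fsub X 0 0).Factors y := by
      rw [Subobject.inf_factors, Fsub_zero]
      exact ⟨hy, Subobject.top_factors _⟩
    rw [hM 0, Subobject.inf_factors] at h1
    exact h1.1
  | succ n ih =>
    rw [le_iff_forall_factors]
    intro W y hy
    -- `y ≫ t_n` lies in `(Z k)_n = (Z k₀)_n`
    have hy1 : (evSub (Z k₀) n).Factors (y ≫ tr X (Nat.le_succ n)) := by
      refine Subobject.factors_of_le _ ih ?_
      obtain ⟨g, rfl⟩ := (evSub_factors_iff (Z k) (n + 1) y).mp hy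
      rw [Category.assoc, ← tr_naturality, ← Category.assoc]
      exact evSub_factors_app (Z k) n _
    obtain ⟨W', π, hπ, z, hz, hzy⟩ :=
      exists_lift_of_isStrict (Z k₀) (hZ k₀) (Nat.le_succ n) _ hy1
    have hd1 : (evSub (Z k) (n + 1)).Factors (π ≫ y - z) := by
      rw [sub_eq_add_neg]
      refine Subobject.factors_add _ _ (Subobject.factors_of_factors_right _ hy) ?_
      have hz' := Subobject.factors_of_le _ (evSub_mono (Z.monotone hk) (n + 1)) hz
      obtain ⟨g, rfl⟩ := (evSub_factors_iff (Z k) (n + 1) z).mp hz'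
      rw [← Preadditive.neg_comp]
      exact evSub_factors_app (Z k) (n + 1) _
    have hd2 : (ARSys.Fsub X (n + 1) (n + 1)).Factors (π ≫ y - z) := by
      rw [← factors_grι_iff]
      refine exists_lift_grι_succ X n _ ?_
      rw [Preadditive.sub_comp, Category.assoc, hzy, sub_self]
    have hd : (evSub (Z k) (n + 1) ⊓ ARSys.Fsub X (n + 1) (n + 1)).Factors (π ≫ y - z) := by
      rw [Subobject.inf_factors]
      exact ⟨hd1, hd2⟩
    rw [hM (n + 1), Subobject.inf_factors] at hd
    apply factors_of_epi_comp _ π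
    have e : π ≫ y = (π ≫ y - z) + z := by abel
    rw [e]
    exact Subobject.factors_add _ _ hd.1 hz

end Linear

end Groth.Agent.Lib.ARSysSub
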