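import Mathlib

/-
Lib/CyclicH1 (helper70): H^1 of a finite cyclic group G = <g> (of order p) with coefficients in a
k-linear representation, via Mathlib's `Rep.FiniteCyclicGroup.groupCohomologyπOdd`:
* `norm_eq_sum_pow`: the norm is `∑ j < p, (ρ g)^j`.
* `cyclic_H1_finrank`: if cocycles `c i ∈ ker N` span `ker N` modulo `im (ρ g - 1)` and are linearly
  independent modulo `im (ρ g - 1)`, then `H^1` is finite-dimensional of dimension `card ι`.
-/

set_option autoImplicit false
open CategoryTheory
universe u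

namespace Groth.Agent.Lib.CyclicH1

theorem norm_eq_sum_pow {k : Type u} [Field k] {G : Type u} [Group G] [Fintype G]
    {V : Type u} [AddCommGroup V] [Module k V] (ρ : Representation k G V)
    (g : G) (p : ℕ) (hG : Nat.card G = p) (hg : ∀ x : G, x ∈ Subgroup.zpowers g) (z : V) :
    Representation.norm ρ z = ∑ j ∈ Finset.range p, (ρ g ^ j) z := by
  classical
  have ho : orderOf g = p := by rw [orderOf_eq_card_of_forall_mem_zpowers hg, hG]
  have himg := IsCyclic.image_range_orderOf hg
  rw [Representation.norm, LinearMap.sum_apply, ← himg, ho, Finset.sum_image]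
  · refine Finset.sum_congr rfl fun j _ => ?_
    rw [map_pow]
  · intro i hi j hj hij
    rw [← ho] at hi hj
    exact pow_injOn_Iio_orderOf (by simpa using hi) (by simpa using hj) hij

theorem cyclic_H1_finrank {k : Type u} [Field k] {G : Type u} [Group G] [Finite G]
    {V : Type u} [AddCommGroup V] [Module k V] (ρ : Representation k G V)
    (g : G) (p : ℕ) (hG : Nat.card G = p) (hg : ∀ x : G, x ∈ Subgroup.zpowers g)
    {ι : Type} [Fintype ι] (c : ι → V)
    (hc : ∀ i, ∑ j ∈ Finset.range p, (ρ g ^ j) (c i) = 0)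
    (hspan : ∀ z, ∑ j ∈ Finset.range p, (ρ g ^ j) z = 0 →
      ∃ (h : V) (coef : ι → k), z = ρ g h - h + ∑ i, coef i • c i)
    (hind : ∀ (coef : ι → k) (h : V), ρ g h - h = ∑ i, coef i • c i → ∀ i, coef i = 0) :
    Module.Finite k (groupCohomology.H1 (Rep.of ρ)) ∧
      Module.finrank k (groupCohomology.H1 (Rep.of ρ)) = Fintype.card ι := by
  classical
  let _ : IsCyclic G := ⟨g, hg⟩
  let _ : CommGroup G := IsCyclic.commGroup
  let _ : Fintype G := Fintype.ofFinite G
  set A : Rep k G := Rep.of ρ with hA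
  have hnorm : ∀ z : V, A.norm.hom.toLinearMap z = ∑ j ∈ Finset.range p, (ρ g ^ j) z := by
    intro z
    exact norm_eq_sum_pow ρ g p hG hg z
  let π := Rep.FiniteCyclicGroup.groupCohomologyπOdd A g hg 1 (by decide)
  have hπsurj : Function.Surjective π.hom := by
    rw [← ModuleCat.epi_iff_surjective]
    dsimp only [π, Rep.FiniteCyclicGroup.groupCohomologyπOdd]
    have h1 : Epi ((Rep.FiniteCyclicGroup.subCompNormHom A g).homologyπ) := inferInstance
    have h2 : Epi ((Rep.FiniteCyclicGroup.groupCohomologyIsoOdd A g hg 1 (by decide)).inv) := inferInstance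
    have h3 : Epi ((Rep.FiniteCyclicGroup.subCompNormHom A g).moduleCatCyclesIso.inv) := inferInstance
    have h4 : Epi ((Rep.FiniteCyclicGroup.subCompNormHom A g).homologyπ ≫
        (Rep.FiniteCyclicGroup.groupCohomologyIsoOdd A g hg 1 (by decide)).inv) := epi_comp _ _
    exact epi_comp' h3 h4
  -- the map from coefficient vectors
  let f0 : (ι → k) →ₗ[k] V := Fintype.linearCombination k c
  have hf0 : ∀ coef, f0 coef ∈ LinearMap.ker A.norm.hom.toLinearMap := by
    intro coef
    rw [LinearMap.mem_ker, hnorm]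
    simp only [f0, Fintype.linearCombination_apply, map_sum, map_smul]
    rw [Finset.sum_comm]
    refine Finset.sum_eq_zero fun i _ => ?_
    rw [← Finset.smul_sum, hc i, smul_zero]
  let f : (ι → k) →ₗ[k] LinearMap.ker A.norm.hom.toLinearMap := f0.codRestrict _ hf0
  let Φ : (ι → k) →ₗ[k] groupCohomology.H1 A := π.hom ∘ₗ f
  have hrange : ∀ v : V, v ∈ LinearMap.range (A.applyAsHom g - 𝟙 A).hom.toLinearMap ↔
      ∃ h : V, ρ g h - h = v := by
    intro v
    rw [LinearMap.mem_range]
    rfl
  have hinj : Function.Injective Φ := by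
    rw [← LinearMap.ker_eq_bot, LinearMap.ker_eq_bot']
    intro coef h0
    have h1 : π.hom (f coef) = 0 := h0
    rw [Rep.FiniteCyclicGroup.groupCohomologyπOdd_eq_zero_iff, hrange] at h1
    obtain ⟨h, hh⟩ := h1
    funext i
    exact hind coef h (by rw [hh]; simp [f, f0, Fintype.linearCombination_apply]) i
  have hsurj : Function.Surjective Φ := by
    intro y
    obtain ⟨x, rfl⟩ := hπsurj y
    have hx : ∑ j ∈ Finset.range p, (ρ g ^ j) x.1 = 0 := by
      rw [← hnorm]; exact x.2
    obtain ⟨h, coef, hz⟩ := hspan x.1 hx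
    refine ⟨coef, ?_⟩
    show π.hom (f coef) = π.hom x
    rw [Rep.FiniteCyclicGroup.groupCohomologyπOdd_eq_iff, hrange]
    refine ⟨-h, ?_⟩
    rw [hz]
    simp [f, f0, Fintype.linearCombination_apply]
    abel
  let e : (ι → k) ≃ₗ[k] groupCohomology.H1 A := LinearEquiv.ofBijective Φ ⟨hinj, hsurj⟩
  refine ⟨Module.Finite.equiv e, ?_⟩
  rw [← e.finrank_eq, Module.finrank_fintype_fun_eq_card]

end Groth.Agent.Lib.CyclicH1
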