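import Groth.Agent.Lib.ASPowerSeries2
import Groth.Agent.Lib.CyclicH1

/-
Lib/ASH1 (helper70): H^1(G, (k[[t]], τ_a)) for the order-p automorphism σ(t) = t u, u^n (1+t^n) = 1,
τ_a(h) = u^a h(tu) (statement S13861).  Builds on helper75's Lib/ASPowerSeries(2).
* `hilbert90`: abstract twisted additive Hilbert 90.
* `sum_range_natCast_pow`, `sum_one_add_mul_pow`: power sums `∑_{j<p} (1 + jY)^{p-1} = -Y^{p-1}` in char p.
* `U`, `sig`, `T`: integer powers of u, the substitution σ, the twisted actions τ_b; multiplicativity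
  `T_mul`, `T_pow_mul`, `T_X_pow`, `T_pow_X_pow`.
* `exists_primitive`: N_a z = 0 ⇒ ∃ w, τ_{a-e} w - w = t^e z, e = n(p-1).
* `norm_cocycle`: the classes c_m = (u^{a-m}-1)/t^m are killed by the norm.
* `reduce`: order reduction, using the invariants t^r v^c.
* `card_filt`: the count of m ∈ [1,n] with p ∤ a - m.
* `finrank_H1`: the statement of S13861.
-/

set_option autoImplicit false
universe u
open PowerSeries

namespace Groth.Agent.Lib.ASH1
open Groth.Agent.Lib.ASPowerSeries

section Abstract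
variable {k : Type u} [Field k] {B : Type u} [CommRing B] [Algebra k B]

/-- twisted additive Hilbert 90 -/
theorem hilbert90 (τ τ' τ'' : B →ₗ[k] B) (hmul : ∀ x y, τ'' (x * y) = τ x * τ' y)
    (q : ℕ) (z : B) (hz : ∑ j ∈ Finset.range (q + 1), (τ ^ j) z = 0)
    (hR : (τ' ^ (q + 1)) 1 = 1) :
    ∃ w : B, τ'' w - w = - z * ∑ l ∈ Finset.range (q + 1), (τ' ^ l) 1 := by
  set S : ℕ → B := fun i => ∑ j ∈ Finset.range (i + 1), (τ ^ j) z with hS
  set R : ℕ → B := fun l => (τ' ^ l) 1 with hR'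
  refine ⟨∑ i ∈ Finset.range q, S i * R (i + 1), ?_⟩
  have hτS : ∀ i, τ (S i) = S (i + 1) - z := by
    intro i
    simp only [hS]
    rw [map_sum, Finset.sum_range_succ' _ (i + 1)]
    simp only [pow_zero, Module.End.one_apply, add_sub_cancel_right]
    refine Finset.sum_congr rfl fun j _ => ?_
    rw [pow_succ', Module.End.mul_apply]
  have hτR : ∀ l, τ' (R l) = R (l + 1) := by
    intro l
    simp only [hR']
    rw [pow_succ', Module.End.mul_apply]
  have h1 : τ'' (∑ i ∈ Finset.range q, S i * R (i + 1)) =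
      ∑ i ∈ Finset.range q, (S (i + 1) - z) * R (i + 1 + 1) := by
    rw [map_sum]
    refine Finset.sum_congr rfl fun i _ => ?_
    rw [hmul, hτS, hτR]
  have h2a := Finset.sum_range_succ' (fun i => S i * R (i + 1)) q
  have h2b := Finset.sum_range_succ (fun i => S i * R (i + 1)) q
  have h3a := Finset.sum_range_succ' (fun i => R (i + 1)) q
  have h3b := Finset.sum_range_succ (fun i => R (i + 1)) q
  have h4 := Finset.sum_range_succ' R q
  have hSq : S q = 0 := hz
  have hS0 : S 0 = z := by simp [hS]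
  have hR0 : R 0 = 1 := by simp [hR']
  have hRq : R (q + 1) = 1 := hR
  rw [h1]
  simp only [sub_mul, Finset.sum_sub_distrib, ← Finset.mul_sum]
  simp only [hSq, hS0, hR0, hRq, zero_mul, add_zero] at h2a h2b h3a h3b h4
  rw [h4]
  linear_combination h2a.symm.trans h2b - z * (h3a.symm.trans h3b)

end Abstract

section PowerSum
variable {B : Type u} [CommRing B] (p : ℕ) [Fact p.Prime] [CharP B p]

theorem sum_range_natCast_pow (i : ℕ) (hi : i ≤ p - 1) :
    ∑ j ∈ Finset.range p, ((j : ℕ) : B) ^ i = if i = p - 1 then -1 else 0 := by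
  classical
  have hp := (Fact.out : p.Prime)
  have : NeZero p := ⟨hp.ne_zero⟩
  -- transfer to ZMod p
  have h1 : ∑ j ∈ Finset.range p, ((j : ℕ) : B) ^ i =
      ∑ x : ZMod p, (ZMod.castHom (dvd_refl p) B x) ^ i := by
    symm
    refine Finset.sum_bij (fun x _ => x.val) ?_ ?_ ?_ ?_
    · intro x _
      exact Finset.mem_range.mpr (ZMod.val_lt x)
    · intro x _ y _ hxy
      exact ZMod.val_injective p hxy
    · intro j hj
      refine ⟨(j : ZMod p), Finset.mem_univ _, ?_⟩
      exact ZMod.val_natCast_of_lt (Finset.mem_range.mp hj)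
    · intro x _
      rw [ZMod.castHom_apply, ZMod.natCast_val]
  rw [h1]
  simp only [← map_pow, ← map_sum]
  by_cases hip : i = p - 1
  · rw [if_pos hip, hip]
    have h2 : ∀ x : ZMod p, x ^ (p - 1) = 1 - if x = 0 then 1 else 0 := by
      intro x
      by_cases hx : x = 0
      · rw [if_pos hx, hx, zero_pow (by have := hp.two_le; omega), sub_self]
      · rw [if_neg hx, sub_zero, ZMod.pow_card_sub_one_eq_one hx]
    rw [Finset.sum_congr rfl (fun x _ => h2 x), Finset.sum_sub_distrib]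
    simp
  · rw [if_neg hip]
    have h3 := FiniteField.sum_pow_lt_card_sub_one (ZMod p) i (by rw [ZMod.card]; omega)
    rw [h3, map_zero]

theorem sum_one_add_mul_pow (Y : B) :
    ∑ j ∈ Finset.range p, (1 + (j : B) * Y) ^ (p - 1) = - Y ^ (p - 1) := by
  classical
  have hp := (Fact.out : p.Prime)
  have h1 : ∀ j : ℕ, (1 + (j : B) * Y) ^ (p - 1) =
      ∑ i ∈ Finset.range (p - 1 + 1), (Y ^ i * ((p - 1).choose i : B)) * (j : B) ^ i := by
    intro j
    rw [add_comm, add_pow]
    refine Finset.sum_congr rfl fun i _ => ?_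
    rw [one_pow, mul_pow]
    ring
  rw [Finset.sum_congr rfl (fun j _ => h1 j), Finset.sum_comm]
  simp only [← Finset.mul_sum]
  rw [Finset.sum_range_succ]
  rw [Finset.sum_eq_zero, zero_add, sum_range_natCast_pow p (p - 1) le_rfl, if_pos rfl]
  · simp
  · intro i hi
    rw [sum_range_natCast_pow p i (Finset.mem_range.mp hi).le, if_neg (Finset.mem_range.mp hi).ne,
      mul_zero]

end PowerSum

section Twist
variable {k : Type u} [Field k] (u : PowerSeries k) (hu : IsUnit u)

/-- integer powers of `u` -/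
noncomputable def U (b : ℤ) : PowerSeries k := ((hu.unit ^ b : (PowerSeries k)ˣ) : PowerSeries k)

theorem U_add (b c : ℤ) : U u hu (b + c) = U u hu b * U u hu c := by
  unfold U; rw [zpow_add, Units.val_mul]

theorem U_zero : U u hu 0 = 1 := by unfold U; simp

theorem U_natCast (m : ℕ) : U u hu m = u ^ m := by
  unfold U; rw [zpow_natCast, Units.val_pow_eq_pow_val, IsUnit.unit_spec]

theorem U_neg_mul (b : ℤ) : U u hu (-b) * U u hu b = 1 := by
  rw [← U_add, neg_add_cancel, U_zero]

theorem U_mul_neg (b : ℤ) : U u hu b * U u hu (-b) = 1 := by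
  rw [← U_add, add_neg_cancel, U_zero]

theorem hsub : HasSubst (X * u : PowerSeries k) := HasSubst.of_constantCoeff_zero' (by simp)

/-- the substitution `t ↦ t u` as an algebra endomorphism -/
noncomputable def sig : PowerSeries k →ₐ[k] PowerSeries k := substAlgHom (hsub u)

theorem sig_apply (h : PowerSeries k) : sig u h = subst (X * u) h := by
  simp only [sig, coe_substAlgHom]

theorem sig_X : sig u X = X * u := by rw [sig_apply, subst_X (hsub u)]

/-- the twisted action `h ↦ u^b h(tu)` -/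
noncomputable def T (b : ℤ) : PowerSeries k →ₗ[k] PowerSeries k :=
  LinearMap.mulLeft k (U u hu b) ∘ₗ (sig u).toLinearMap

theorem T_apply' (b : ℤ) (h : PowerSeries k) : T u hu b h = U u hu b * sig u h := rfl

theorem T_apply (b : ℤ) (h : PowerSeries k) : T u hu b h = U u hu b * subst (X * u) h := by
  rw [T_apply', sig_apply]

theorem T_one (b : ℤ) : T u hu b 1 = U u hu b := by rw [T_apply', map_one, mul_one]

theorem T_mul (b c : ℤ) (x y : PowerSeries k) :
    T u hu (b + c) (x * y) = T u hu b x * T u hu c y := by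
  rw [T_apply', T_apply', T_apply', U_add, map_mul]; ring

theorem T_pow_mul (b c : ℤ) (j : ℕ) (x y : PowerSeries k) :
    (T u hu (b + c) ^ j) (x * y) = (T u hu b ^ j) x * (T u hu c ^ j) y := by
  induction j generalizing x y with
  | zero => simp
  | succ j ih =>
    rw [pow_succ, pow_succ, pow_succ, Module.End.mul_apply, Module.End.mul_apply,
      Module.End.mul_apply, T_mul, ih]

theorem T_X_pow (b : ℤ) (m : ℕ) (h : PowerSeries k) :
    T u hu b (X ^ m * h) = X ^ m * T u hu (b + m) h := by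
  rw [T_apply', T_apply', map_mul, map_pow, sig_X, U_add, U_natCast]; ring

theorem T_pow_X_pow (b : ℤ) (m : ℕ) (j : ℕ) (h : PowerSeries k) :
    (T u hu b ^ j) (X ^ m * h) = X ^ m * (T u hu (b + m) ^ j) h := by
  induction j generalizing h with
  | zero => simp
  | succ j ih =>
    rw [pow_succ, pow_succ, Module.End.mul_apply, Module.End.mul_apply, T_X_pow, ih]

theorem T_zero_pow_one (j : ℕ) : (T u hu 0 ^ j) 1 = 1 := by
  induction j with
  | zero => simp
  | succ j ih => rw [pow_succ, Module.End.mul_apply, T_one, U_zero, ih]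

end Twist

section Main
variable {k : Type u} [Field k] (p : ℕ) [Fact p.Prime] [CharP k p]
  (n : ℕ) (u : PowerSeries k) (hun : u ^ n * (1 + X ^ n) = 1) (hu : IsUnit u)

include hun in
theorem U_neg_n : U u hu (-(n : ℤ)) = 1 + X ^ n := by
  have h1 := U_neg_mul u hu (n : ℤ)
  rw [U_natCast] at h1
  calc U u hu (-(n : ℤ)) = U u hu (-(n : ℤ)) * (u ^ n * (1 + X ^ n)) := by rw [hun, mul_one]
    _ = (U u hu (-(n : ℤ)) * u ^ n) * (1 + X ^ n) := by ring
    _ = 1 + X ^ n := by rw [h1, one_mul]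

include hun in
theorem T_neg_n_pow_one (j : ℕ) : (T u hu (-(n : ℤ)) ^ j) 1 = 1 + (j : PowerSeries k) * X ^ n := by
  induction j with
  | zero => simp
  | succ j ih =>
    rw [pow_succ', Module.End.mul_apply, ih, T_apply', U_neg_n n u hun hu, map_add, map_one, map_mul,
      map_natCast, map_pow, sig_X, mul_pow]
    push_cast
    linear_combination ((j : PowerSeries k) * X ^ n) * hun

include hun in
theorem T_neg_mul_pow_one (q j : ℕ) :
    (T u hu (-((n * q : ℕ) : ℤ)) ^ j) 1 = (1 + (j : PowerSeries k) * X ^ n) ^ q := by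
  induction q with
  | zero => simp [T_zero_pow_one]
  | succ q ih =>
    have h1 : (-((n * (q + 1) : ℕ) : ℤ)) = (-((n * q : ℕ) : ℤ)) + (-(n : ℤ)) := by
      push_cast; ring
    rw [h1]
    have h2 := T_pow_mul u hu (-((n * q : ℕ) : ℤ)) (-(n : ℤ)) j 1 1
    rw [mul_one] at h2
    rw [h2, ih, T_neg_n_pow_one n u hun hu, pow_succ]

include hun in
/-- additive Hilbert 90 for the twisted action -/
theorem exists_primitive (a : ℤ) (z : PowerSeries k)
    (hz : ∑ j ∈ Finset.range p, (T u hu a ^ j) z = 0) :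
    ∃ w : PowerSeries k, T u hu (a - ((n * (p - 1) : ℕ) : ℤ)) w - w = X ^ (n * (p - 1)) * z := by
  have hp := (Fact.out : p.Prime)
  have hB : CharP (PowerSeries k) p :=
    charP_of_injective_algebraMap (algebraMap k (PowerSeries k)).injective p
  obtain ⟨q, hq⟩ : ∃ q, p = q + 1 := ⟨p - 1, by have := hp.two_le; omega⟩
  have hmul : ∀ x y, T u hu (a - ((n * (p - 1) : ℕ) : ℤ)) (x * y) =
      T u hu a x * T u hu (-((n * (p - 1) : ℕ) : ℤ)) y := by
    intro x y
    rw [sub_eq_add_neg, T_mul]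
  have hR : (T u hu (-((n * (p - 1) : ℕ) : ℤ)) ^ (q + 1)) 1 = 1 := by
    rw [T_neg_mul_pow_one n u hun hu, ← hq, CharP.cast_eq_zero, zero_mul, add_zero, one_pow]
  rw [hq] at hz
  obtain ⟨w, hw⟩ := hilbert90 (k := k) (T u hu a) (T u hu (-((n * (p - 1) : ℕ) : ℤ)))
    (T u hu (a - ((n * (p - 1) : ℕ) : ℤ))) hmul q z hz hR
  refine ⟨w, ?_⟩
  rw [hw, ← hq]
  have h1 : ∑ l ∈ Finset.range p, (T u hu (-((n * (p - 1) : ℕ) : ℤ)) ^ l) 1 =
      - (X ^ n) ^ (p - 1) := by
    rw [← sum_one_add_mul_pow p (X ^ n : PowerSeries k)]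
    refine Finset.sum_congr rfl fun l _ => ?_
    rw [T_neg_mul_pow_one n u hun hu]
  rw [h1, pow_mul]
  ring

end Main

section Cocycle
variable {k : Type u} [Field k] (p : ℕ) (u : PowerSeries k) (hu : IsUnit u)

/-- if `T a` has order dividing `p`, every `T b ^ p` fixes `1` for `b = a - m` -/
theorem T_pow_p_one (a : ℤ) (hTp : ∀ h, (T u hu a ^ p) h = h) (m : ℕ) :
    (T u hu (a - m) ^ p) 1 = 1 := by
  have hX : ∀ m' : ℕ, (T u hu (a + m') ^ p) 1 = 1 := by
    intro m'
    have h1 := T_pow_X_pow u hu a m' p 1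
    rw [hTp] at h1
    have h2 : (X : PowerSeries k) ^ m' * 1 = X ^ m' * (T u hu (a + m') ^ p) 1 := h1
    exact (mul_left_cancel₀ (pow_ne_zero m' (X_ne_zero (R := k))) h2).symm
  have hadd : ∀ b c : ℤ, (T u hu (b + c) ^ p) 1 = (T u hu b ^ p) 1 * (T u hu c ^ p) 1 := by
    intro b c
    have := T_pow_mul u hu b c p 1 1
    rwa [mul_one] at this
  have ha : (T u hu a ^ p) 1 = 1 := hTp 1
  have hm : (T u hu (m : ℤ) ^ p) 1 = 1 := by
    have h1 := hadd a m
    rw [hX m, ha, one_mul] at h1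
    exact h1.symm
  have h2 := hadd (a - m) m
  rw [sub_add_cancel, ha, hm, mul_one] at h2
  exact h2.symm

theorem norm_cocycle (a : ℤ) (hTp : ∀ h, (T u hu a ^ p) h = h) (m : ℕ) (c : PowerSeries k)
    (hc : X ^ m * c = U u hu (a - m) - 1) :
    ∑ j ∈ Finset.range p, (T u hu a ^ j) c = 0 := by
  have h1 : X ^ m * ∑ j ∈ Finset.range p, (T u hu a ^ j) c =
      ∑ j ∈ Finset.range p, (T u hu (a - m) ^ j) (X ^ m * c) := by
    rw [Finset.mul_sum]
    refine Finset.sum_congr rfl fun j _ => ?_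
    rw [T_pow_X_pow, sub_add_cancel]
  have h2 : ∀ j : ℕ, (T u hu (a - m) ^ j) (X ^ m * c) =
      (T u hu (a - m) ^ (j + 1)) 1 - (T u hu (a - m) ^ j) 1 := by
    intro j
    rw [hc, ← T_one u hu (a - m), map_sub, pow_succ, Module.End.mul_apply]
  rw [Finset.sum_congr rfl (fun j _ => h2 j),
    Finset.sum_range_sub (fun j => (T u hu (a - m) ^ j) 1) p, T_pow_p_one p u hu a hTp m] at h1
  simp only [pow_zero, Module.End.one_apply, sub_self] at h1
  exact (mul_eq_zero.mp h1).resolve_left (pow_ne_zero m (X_ne_zero (R := k)))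

end Cocycle

section Reduce
variable {k : Type u} [Field k] (p : ℕ) [Fact p.Prime] [CharP k p]
  (n : ℕ) (hpn : ¬ p ∣ n) (u : PowerSeries k) (hu1 : constantCoeff u = 1)
  (hun : u ^ n * (1 + X ^ n) = 1) (hu : IsUnit u)

include hpn hu1 hun in
/-- `σ(v^j) = v^j u^{-pj}` -/
theorem sig_V_zpow (v : PowerSeries k) (hv1 : constantCoeff v = 1)
    (hvn : v ^ n * (1 - X ^ (n * (p - 1))) = 1) (hvU : IsUnit v) (j : ℤ) :
    sig u ((hvU.unit ^ j : (PowerSeries k)ˣ) : PowerSeries k) =
      ((hvU.unit ^ j : (PowerSeries k)ˣ) : PowerSeries k) * U u hu (-((p : ℤ) * j)) := by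
  have hσv := sigma_v p n hpn u v hu1 hun hv1 hvn
  have h1 : sig u v = v * U u hu (-(p : ℤ)) := by
    have h2 : sig u v * u ^ p = v := by rw [sig_apply]; exact hσv
    have h3 := U_mul_neg u hu (p : ℤ)
    rw [U_natCast] at h3
    calc sig u v = sig u v * (u ^ p * U u hu (-(p : ℤ))) := by rw [h3, mul_one]
      _ = (sig u v * u ^ p) * U u hu (-(p : ℤ)) := by ring
      _ = v * U u hu (-(p : ℤ)) := by rw [h2]
  have hmap : Units.map ((sig u : PowerSeries k →ₐ[k] PowerSeries k) :
      PowerSeries k →* PowerSeries k) hvU.unit = hvU.unit * (hu.unit ^ (-(p : ℤ))) := by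
    apply Units.ext
    rw [Units.coe_map, Units.val_mul, IsUnit.unit_spec]
    exact h1
  have h4 : sig u ((hvU.unit ^ j : (PowerSeries k)ˣ) : PowerSeries k) =
      ((Units.map ((sig u : PowerSeries k →ₐ[k] PowerSeries k) :
        PowerSeries k →* PowerSeries k) (hvU.unit ^ j) : (PowerSeries k)ˣ) : PowerSeries k) := rfl
  rw [h4, map_zpow, hmap, mul_zpow, ← zpow_mul, Units.val_mul]
  unfold U
  rw [neg_mul]

include hpn hu1 hun in
theorem reduce (v : PowerSeries k) (hv1 : constantCoeff v = 1)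
    (hvn : v ^ n * (1 - X ^ (n * (p - 1))) = 1) (a : ℤ) (c : ℕ → PowerSeries k)
    (hc : ∀ m : ℕ, 1 ≤ m → m ≤ n → X ^ m * c m = U u hu (a - m) - 1)
    (e : ℕ) (d : ℕ) : ∀ (r : ℕ), r + d = e → ∀ (w z : PowerSeries k), X ^ r ∣ w →
      T u hu (a - (e : ℤ)) w - w = X ^ e * z →
      ∃ (h : PowerSeries k) (coef : ℕ → k), z = T u hu a h - h +
        ∑ m ∈ (Finset.Icc 1 n).filter (fun m : ℕ => ¬ (p : ℤ) ∣ a - (m : ℤ)), coef m • c m := by
  classical
  have hvU : IsUnit v := by
    rw [PowerSeries.isUnit_iff_constantCoeff, hv1]; exact isUnit_one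
  induction d with
  | zero =>
    intro r hr w z hw hwz
    rw [add_zero] at hr
    subst hr
    obtain ⟨h, rfl⟩ := hw
    refine ⟨h, fun _ => 0, ?_⟩
    rw [T_X_pow, sub_add_cancel, ← mul_sub] at hwz
    have h1 := mul_left_cancel₀ (pow_ne_zero r (X_ne_zero (R := k))) hwz
    simp [← h1]
  | succ d ih =>
    intro r hr w z hw hwz
    obtain ⟨w', rfl⟩ := hw
    by_cases hdiv : (p : ℤ) ∣ a - (e : ℤ) + (r : ℤ)
    · obtain ⟨cc, hcc⟩ := hdiv
      have hV1 : constantCoeff ((hvU.unit ^ cc : (PowerSeries k)ˣ) : PowerSeries k) = 1 :=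
        constantCoeff_zpow v hvU hv1 cc
      have hinv : T u hu (a - (e : ℤ)) (X ^ r * ((hvU.unit ^ cc : (PowerSeries k)ˣ) : PowerSeries k))
          = X ^ r * ((hvU.unit ^ cc : (PowerSeries k)ˣ) : PowerSeries k) := by
        rw [T_X_pow, hcc, T_apply', sig_V_zpow p n hpn u hu1 hun hu v hv1 hvn hvU cc]
        have h1 := U_mul_neg u hu ((p : ℤ) * cc)
        linear_combination (X ^ r * ((hvU.unit ^ cc : (PowerSeries k)ˣ) : PowerSeries k)) * h1
      have hdvd : (X : PowerSeries k) ^ (r + 1) ∣ X ^ r * w' - constantCoeff w' •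
          (X ^ r * ((hvU.unit ^ cc : (PowerSeries k)ˣ) : PowerSeries k)) := by
        have h0 : constantCoeff (w' - C (constantCoeff w') *
            ((hvU.unit ^ cc : (PowerSeries k)ˣ) : PowerSeries k)) = 0 := by
          simp [hV1]
        obtain ⟨x, hx⟩ := X_dvd_iff.mpr h0
        refine ⟨x, ?_⟩
        rw [smul_eq_C_mul, pow_succ]
        linear_combination X ^ r * hx
      refine ih (r + 1) (by omega) _ z hdvd ?_
      rw [map_sub, map_smul, hinv, ← hwz]
      abel
    · by_cases hβ0 : constantCoeff w' = 0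
      · have hdvd : (X : PowerSeries k) ^ (r + 1) ∣ X ^ r * w' := by
          obtain ⟨x, hx⟩ := X_dvd_iff.mpr hβ0
          refine ⟨x, ?_⟩
          rw [hx, pow_succ, mul_assoc]
        exact ih (r + 1) (by omega) _ z hdvd hwz
      · obtain ⟨ω, hω, hω0⟩ := u_zpow_sub_one p n hpn u hu1 hun hu (a - (e : ℤ) + (r : ℤ)) hdiv
        have hXn : (X : PowerSeries k) ^ (n + 1) ∣ X * (u - 1) := by
          rw [pow_succ']
          exact mul_dvd_mul_left X (X_pow_dvd_u_sub_one p n hpn u hu1 hun)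
        obtain ⟨q', hq'⟩ := subst_sub_self_dvd u w' (n + 1) hXn
        have hsig : sig u w' = w' + X ^ (n + 1) * q' := by
          rw [sig_apply]; linear_combination hq'
        have hUb : U u hu (a - (e : ℤ) + (r : ℤ)) = 1 + X ^ n * ω := by
          unfold U; linear_combination hω
        have hT : T u hu (a - (e : ℤ)) (X ^ r * w') - X ^ r * w' =
            X ^ (r + n) * (ω * sig u w' + X * q') := by
          rw [T_X_pow, T_apply', hUb, hsig]
          ring
        have hG0 : constantCoeff (ω * sig u w' + X * q') ≠ 0 := by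
          rw [hsig]
          simp only [map_add, map_mul, map_pow, constantCoeff_X, zero_mul, add_zero,
            zero_pow (Nat.succ_ne_zero n)]
          exact mul_ne_zero hω0 hβ0
        have hle : e ≤ r + n := by
          by_contra hlt
          obtain ⟨s, hs⟩ : ∃ s, e = (r + n) + (s + 1) := ⟨e - (r + n) - 1, by omega⟩
          rw [hT, hs, pow_add _ (r + n), mul_assoc] at hwz
          have h1 := mul_left_cancel₀ (pow_ne_zero _ (X_ne_zero (R := k))) hwz
          apply hG0
          rw [h1]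
          simp
        have hm1 : 1 ≤ e - r := by omega
        have hmn : e - r ≤ n := by omega
        have hcast : ((e - r : ℕ) : ℤ) = (e : ℤ) - r := by omega
        have ham : a - ((e - r : ℕ) : ℤ) = a - (e : ℤ) + (r : ℤ) := by rw [hcast]; ring
        have hmem : (e - r) ∈ (Finset.Icc 1 n).filter (fun m : ℕ => ¬ (p : ℤ) ∣ a - (m : ℤ)) := by
          rw [Finset.mem_filter, Finset.mem_Icc, ham]
          exact ⟨⟨hm1, hmn⟩, hdiv⟩
        have hcm := hc (e - r) hm1 hmn
        rw [ham] at hcm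
        have hXe : X ^ e * c (e - r) = T u hu (a - (e : ℤ)) (X ^ r) - X ^ r := by
          have h2 : (X : PowerSeries k) ^ e = X ^ r * X ^ (e - r) := by
            rw [← pow_add]; congr 1; omega
          rw [h2, mul_assoc, hcm]
          have h1 := T_X_pow u hu (a - (e : ℤ)) r 1
          rw [mul_one, T_one] at h1
          rw [h1]; ring
        have hdvd : (X : PowerSeries k) ^ (r + 1) ∣ X ^ r * w' - constantCoeff w' • X ^ r := by
          have h0 : constantCoeff (w' - C (constantCoeff w')) = 0 := by simp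
          obtain ⟨x, hx⟩ := X_dvd_iff.mpr h0
          refine ⟨x, ?_⟩
          rw [smul_eq_C_mul, pow_succ]
          linear_combination X ^ r * hx
        obtain ⟨h, coef, hh⟩ := ih (r + 1) (by omega) (X ^ r * w' - constantCoeff w' • X ^ r)
          (z - constantCoeff w' • c (e - r)) hdvd (by
            rw [map_sub, map_smul, mul_sub, mul_smul_comm, hXe, ← hwz, smul_sub]
            abel)
        refine ⟨h, fun m' => coef m' + if m' = e - r then constantCoeff w' else 0, ?_⟩
        simp only [add_smul, Finset.sum_add_distrib, ite_smul, zero_smul, Finset.sum_ite_eq', hmem,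
          if_true]
        rw [← add_assoc, ← hh]
        abel

end Reduce

section Count

theorem sub_one_ediv (p : ℕ) (hp : 0 < p) (x : ℤ) :
    (x - 1) / (p : ℤ) = x / (p : ℤ) - if (p : ℤ) ∣ x then 1 else 0 := by
  have hp' : (0 : ℤ) < p := by exact_mod_cast hp
  have h1 := Int.mul_ediv_add_emod x p
  have h2 := Int.emod_nonneg x hp'.ne'
  have h3 := Int.emod_lt_of_pos x hp'
  by_cases hd : (p : ℤ) ∣ x
  · rw [if_pos hd]
    have h4 : x % (p : ℤ) = 0 := Int.emod_eq_zero_of_dvd hd
    have h5 := (Int.ediv_emod_unique (a := x - 1) (b := (p : ℤ)) (q := x / (p : ℤ) - 1)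
      (r := (p : ℤ) - 1) hp').mpr ⟨?_, ?_, ?_⟩
    · exact h5.1
    · rw [h4, add_zero] at h1
      linear_combination h1
    · omega
    · omega
  · rw [if_neg hd, sub_zero]
    have h4 : x % (p : ℤ) ≠ 0 := fun h => hd (Int.dvd_of_emod_eq_zero h)
    have h5 := (Int.ediv_emod_unique (a := x - 1) (b := (p : ℤ)) (q := x / (p : ℤ))
      (r := x % (p : ℤ) - 1) hp').mpr ⟨?_, ?_, ?_⟩
    · exact h5.1
    · linear_combination h1
    · omega
    · omega

theorem card_filt (p : ℕ) (hp : 0 < p) (a : ℤ) (n : ℕ) :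
    (((Finset.Icc 1 n).filter (fun m : ℕ => ¬ (p : ℤ) ∣ a - (m : ℤ))).card : ℤ) =
      n - (a - 1) / (p : ℤ) + (a - 1 - n) / (p : ℤ) := by
  classical
  induction n with
  | zero => simp
  | succ n ih =>
    have h1 : Finset.Icc 1 (n + 1) = insert (n + 1) (Finset.Icc 1 n) := by
      ext x; simp only [Finset.mem_Icc, Finset.mem_insert]; omega
    have h2 : a - 1 - ((n + 1 : ℕ) : ℤ) = (a - 1 - n) - 1 := by push_cast; ring
    have h3 : a - ((n + 1 : ℕ) : ℤ) = a - 1 - n := by push_cast; ring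
    rw [h1, Finset.filter_insert, h2, sub_one_ediv p hp (a - 1 - n), h3]
    by_cases hd : (p : ℤ) ∣ a - 1 - n
    · rw [if_neg (not_not.mpr hd), if_pos hd, ih]
      push_cast; ring
    · rw [if_pos hd, if_neg hd, Finset.card_insert_of_notMem, Nat.cast_add, ih]
      · push_cast; ring
      · simp

end Count

section Final
open Groth.Agent.Lib.CyclicH1

theorem finrank_H1 {k : Type u} [Field k] [IsAlgClosed k] (p : ℕ)
    [Fact p.Prime] [CharP k p] (n : ℕ) (hn : 0 < n) (hpn : ¬ p ∣ n)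
    (u : PowerSeries k) (hu1 : PowerSeries.constantCoeff u = 1)
    (hun : u ^ n * (1 + PowerSeries.X ^ n) = 1) (hu : IsUnit u) (a : ℤ)
    {G : Type u} [Group G] [Finite G] (g : G) (hG : Nat.card G = p)
    (hg : ∀ x : G, x ∈ Subgroup.zpowers g)
    (ρ : Representation k G (PowerSeries k))
    (hρ : ∀ h : PowerSeries k, ρ g h =
      ((hu.unit ^ a : (PowerSeries k)ˣ) : PowerSeries k) * PowerSeries.subst (PowerSeries.X * u) h) :
    Module.Finite k (groupCohomology.H1 (Rep.of ρ)) ∧
      (Module.finrank k (groupCohomology.H1 (Rep.of ρ)) : ℤ) =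
        n - (a - 1) / (p : ℤ) + (a - 1 - n) / (p : ℤ) := by
  classical
  have hp := (Fact.out : p.Prime)
  have hρT : ρ g = T u hu a := LinearMap.ext (fun h => by rw [hρ, T_apply]; rfl)
  have hTp : ∀ h, (T u hu a ^ p) h = h := by
    intro h
    rw [← hρT, ← map_pow, ← hG, pow_card_eq_one', map_one]; rfl
  have hdvd : ∀ b : ℤ, (X : PowerSeries k) ^ n ∣ U u hu b - 1 := fun b =>
    (X_pow_dvd_u_sub_one p n hpn u hu1 hun).trans (sub_one_dvd_zpow' u hu b)
  choose dd hdd using hdvd
  have hc : ∀ m : ℕ, 1 ≤ m → m ≤ n →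
      X ^ m * (X ^ (n - m) * dd (a - m)) = U u hu (a - m) - 1 := by
    intro m _ hmn
    rw [hdd, ← mul_assoc, ← pow_add]
    congr 2; omega
  obtain ⟨v, hv1, hvn⟩ := exists_v p n hn u hu1 hun
  have key := cyclic_H1_finrank ρ g p hG hg
    (ι := ↥((Finset.Icc 1 n).filter (fun m : ℕ => ¬ (p : ℤ) ∣ a - (m : ℤ))))
    (fun i => X ^ (n - i.1) * dd (a - i.1)) ?_ ?_ ?_
  · refine ⟨key.1, ?_⟩
    rw [key.2, Fintype.card_coe, card_filt p hp.pos]
  · intro i
    rw [hρT]
    have hi := i.2
    rw [Finset.mem_filter, Finset.mem_Icc] at hi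
    exact norm_cocycle p u hu a hTp i.1 _ (hc i.1 hi.1.1 hi.1.2)
  · intro z hz
    rw [hρT] at hz ⊢
    obtain ⟨w, hw⟩ := exists_primitive p n u hun hu a z hz
    obtain ⟨h, coef, hh⟩ := reduce p n hpn u hu1 hun hu v hv1 hvn a
      (fun m => X ^ (n - m) * dd (a - m)) hc (n * (p - 1)) (n * (p - 1)) 0 (zero_add _) w z
      (by simp) hw
    refine ⟨h, fun i => coef i.1, ?_⟩
    rw [hh, Finset.sum_coe_sort _ (fun m => coef m • (X ^ (n - m) * dd (a - m)))]
  · intro coef h hh i
    rw [hρT, T_apply] at hh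
    have h1 := coef_eq_zero p n hpn u hu1 hun hu a (fun m => X ^ (n - m) * dd (a - m)) hc
      (fun m => if hm : m ∈ (Finset.Icc 1 n).filter (fun m : ℕ => ¬ (p : ℤ) ∣ a - (m : ℤ))
        then coef ⟨m, hm⟩ else 0) h ?_ i.1 i.2
    · simpa using h1
    · refine hh.trans ?_
      rw [← Finset.sum_coe_sort ((Finset.Icc 1 n).filter (fun m : ℕ => ¬ (p : ℤ) ∣ a - (m : ℤ)))
        (fun m => (if hm : m ∈ (Finset.Icc 1 n).filter (fun m : ℕ => ¬ (p : ℤ) ∣ a - (m : ℤ))
        then coef ⟨m, hm⟩ else 0) • (X ^ (n - m) * dd (a - m)))]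
      refine Finset.sum_congr rfl fun j _ => ?_
      simp

end Final

end Groth.Agent.Lib.ASH1
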