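import Mathlib

/-
Lib/CyclicH1Map (helper70): H^1 of a finite cyclic group G = <g> of order p via 1-cocycles
(`groupCohomology.cocycles₁`, `H1π`), natural in the coefficients.
* `cocycle_pow`: f(g^j) = ∑_{i<j} ρ(g)^i f(g).
* `coboundary_of_apply_gen`: a cocycle with f(g) = ρ(g)h - h is a coboundary.
* `norm_cocycle_apply`: N(f(g)) = 0.  `exists_cocycle`: every x with N x = 0 is f(g) for a cocycle f.
* `cyclic_H1_range_finrank`: dimension of the range of H^1(φ) for φ : ρ₀ ⟶ ρ₁.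
-/

set_option autoImplicit false
open CategoryTheory groupCohomology
universe u

namespace Groth.Agent.Lib.CyclicH1Map

section Cocycles
variable {k : Type u} [Field k] {G : Type u} [Group G]
  {V : Type u} [AddCommGroup V] [Module k V] (ρ : Representation k G V) (g : G)

theorem cocycle_pow (f : G → V) (hf : f ∈ cocycles₁ (Rep.of ρ)) (j : ℕ) :
    f (g ^ j) = ∑ i ∈ Finset.range j, (ρ g ^ i) (f g) := by
  have hf' := (mem_cocycles₁_iff (A := Rep.of ρ) f).1 hf
  induction j with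
  | zero =>
    have h1 := hf' 1 1
    simp only [mul_one, map_one, Module.End.one_apply] at h1
    simpa using h1
  | succ j ih =>
    rw [pow_succ, hf', ih, Finset.sum_range_succ, add_comm]
    congr 1
    show (ρ (g ^ j)) (f g) = _
    rw [map_pow]

theorem coboundary_of_apply_gen [Finite G] (hg : ∀ x : G, x ∈ Subgroup.zpowers g)
    (f : G → V) (hf : f ∈ cocycles₁ (Rep.of ρ)) (h : V) (hh : f g = ρ g h - h) :
    f ∈ coboundaries₁ (Rep.of ρ) := by
  refine ⟨h, ?_⟩
  funext y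
  obtain ⟨j, rfl⟩ := mem_powers_iff_mem_zpowers.2 (hg y)
  rw [cocycle_pow ρ g f hf j, hh, d₀₁_hom_apply]
  show (ρ (g ^ j)) h - h = _
  rw [map_pow]
  have h1 : ∀ i : ℕ, (ρ g ^ i) (ρ g h - h) = (ρ g ^ (i + 1)) h - (ρ g ^ i) h := by
    intro i
    rw [map_sub, pow_succ, Module.End.mul_apply]
  rw [Finset.sum_congr rfl (fun i _ => h1 i), Finset.sum_range_sub (fun i => (ρ g ^ i) h) j]
  simp

theorem norm_cocycle_apply [Finite G] (p : ℕ) (hG : Nat.card G = p)
    (f : G → V) (hf : f ∈ cocycles₁ (Rep.of ρ)) :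
    ∑ i ∈ Finset.range p, (ρ g ^ i) (f g) = 0 := by
  rw [← cocycle_pow ρ g f hf p, ← hG, pow_card_eq_one']
  have h1 := (mem_cocycles₁_iff (A := Rep.of ρ) f).1 hf 1 1
  simp only [mul_one, map_one, Module.End.one_apply] at h1
  simpa using h1

/-- every element killed by the norm is the value at `g` of a cocycle -/
theorem exists_cocycle [Finite G] (p : ℕ) (hG : Nat.card G = p)
    (hg : ∀ x : G, x ∈ Subgroup.zpowers g) (x : V)
    (hx : ∑ i ∈ Finset.range p, (ρ g ^ i) x = 0) :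
    ∃ f : G → V, f ∈ cocycles₁ (Rep.of ρ) ∧ f g = x := by
  classical
  have ho : orderOf g = p := by rw [orderOf_eq_card_of_forall_mem_zpowers hg, hG]
  set F : ℕ → V := fun j => ∑ i ∈ Finset.range j, (ρ g ^ i) x with hF
  have hFadd : ∀ j j' : ℕ, F (j + j') = F j + (ρ g ^ j) (F j') := by
    intro j j'
    simp only [hF]
    rw [Finset.sum_range_add, map_sum]
    congr 1
    refine Finset.sum_congr rfl fun i _ => ?_
    rw [pow_add, Module.End.mul_apply]
  have hFp : F p = 0 := hx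
  have hFper : ∀ q r : ℕ, F (r + p * q) = F r := by
    intro q
    induction q with
    | zero => intro r; simp
    | succ q ih =>
      intro r
      have : r + p * (q + 1) = (r + p * q) + p := by ring
      rw [this, hFadd, hFp, map_zero, add_zero, ih]
  have hFmod : ∀ a b : ℕ, a ≡ b [MOD p] → F a = F b := by
    intro a b hab
    have h1 := hFper (a / p) (a % p)
    have h2 := hFper (b / p) (b % p)
    rw [Nat.mod_add_div] at h1 h2
    rw [h1, h2, hab]
  have hex : ∀ y : G, ∃ j : ℕ, g ^ j = y := fun y => mem_powers_iff_mem_zpowers.2 (hg y)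
  choose lg hlg using hex
  refine ⟨fun y => F (lg y), ?_, ?_⟩
  · rw [mem_cocycles₁_iff (A := Rep.of ρ)]
    intro y y'
    show F (lg (y * y')) = (ρ y) (F (lg y')) + F (lg y)
    have h1 : lg (y * y') ≡ lg y + lg y' [MOD p] := by
      rw [← ho, ← pow_eq_pow_iff_modEq, hlg, pow_add, hlg, hlg]
    rw [hFmod _ _ h1, hFadd, add_comm]
    congr 1
    rw [← map_pow, hlg]
  · show F (lg g) = x
    have h1 : lg g ≡ 1 [MOD p] := by
      rw [← ho, ← pow_eq_pow_iff_modEq, hlg, pow_one]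
    rw [hFmod _ _ h1]
    simp [hF]

end Cocycles

section Range

theorem cyclic_H1_range_finrank {k : Type u} [Field k] {G : Type u} [Group G] [Finite G]
    {V₀ V₁ : Type u} [AddCommGroup V₀] [Module k V₀] [AddCommGroup V₁] [Module k V₁]
    (ρ₀ : Representation k G V₀) (ρ₁ : Representation k G V₁)
    (g : G) (p : ℕ) (hG : Nat.card G = p) (hg : ∀ x : G, x ∈ Subgroup.zpowers g)
    (φ : Rep.of ρ₀ ⟶ Rep.of ρ₁)
    {ι : Type} [Fintype ι] (c : ι → V₁)
    (ha : ∀ x : V₀, ∑ j ∈ Finset.range p, (ρ₀ g ^ j) x = 0 →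
      ∃ (h : V₁) (coef : ι → k), φ.hom x = ρ₁ g h - h + ∑ i, coef i • c i)
    (hb : ∀ i, ∃ x : V₀, ∑ j ∈ Finset.range p, (ρ₀ g ^ j) x = 0 ∧
      ∃ h : V₁, φ.hom x = ρ₁ g h - h + c i)
    (hc : ∀ (coef : ι → k) (h : V₁), ρ₁ g h - h = ∑ i, coef i • c i → ∀ i, coef i = 0) :
    Module.Finite k (LinearMap.range
        (groupCohomology.map (A := Rep.of ρ₀) (B := Rep.of ρ₁) (MonoidHom.id G) φ 1).hom) ∧
      Module.finrank k (LinearMap.range
        (groupCohomology.map (A := Rep.of ρ₀) (B := Rep.of ρ₁) (MonoidHom.id G) φ 1).hom) =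
        Fintype.card ι := by
  classical
  let M := (groupCohomology.map (A := Rep.of ρ₀) (B := Rep.of ρ₁) (MonoidHom.id G) φ 1).hom
  have hM : ∀ f : cocycles₁ (Rep.of ρ₀),
      M (H1π (Rep.of ρ₀) f) = H1π (Rep.of ρ₁) (mapCocycles₁ (A := Rep.of ρ₀) (B := Rep.of ρ₁) (MonoidHom.id G) φ f) := by
    intro f
    exact H1π_comp_map_apply (A := Rep.of ρ₀) (B := Rep.of ρ₁) (MonoidHom.id G) φ f
  have hmapg : ∀ f : cocycles₁ (Rep.of ρ₀),
      (mapCocycles₁ (A := Rep.of ρ₀) (B := Rep.of ρ₁) (MonoidHom.id G) φ f : G → V₁) g = φ.hom (f g) := by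
    intro f
    rw [coe_mapCocycles₁]
    rfl
  choose x hx h' hxh using hb
  have hfi : ∀ i, ∃ f : G → V₀, f ∈ cocycles₁ (Rep.of ρ₀) ∧ f g = x i :=
    fun i => exists_cocycle ρ₀ g p hG hg (x i) (hx i)
  choose fi hfi_mem hfi_g using hfi
  let F : ι → cocycles₁ (Rep.of ρ₀) := fun i => ⟨fi i, hfi_mem i⟩
  let Z : (ι → k) → cocycles₁ (Rep.of ρ₁) := fun coef =>
    ∑ i, coef i • (mapCocycles₁ (A := Rep.of ρ₀) (B := Rep.of ρ₁) (MonoidHom.id G) φ (F i) : cocycles₁ (Rep.of ρ₁))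
  have hZg : ∀ coef : ι → k, (Z coef : G → V₁) g =
      ∑ i, coef i • (ρ₁ g (h' i) - h' i + c i) := by
    intro coef
    have h1 : (Z coef : G → V₁) = ∑ i, coef i •
        ((mapCocycles₁ (A := Rep.of ρ₀) (B := Rep.of ρ₁) (MonoidHom.id G) φ (F i) : cocycles₁ (Rep.of ρ₁)) : G → V₁) := by
      show ((Z coef).1 : G → V₁) = _
      simp only [Z, Submodule.coe_sum, Submodule.coe_smul]
      rfl
    rw [h1, Finset.sum_apply]
    refine Finset.sum_congr rfl fun i _ => ?_
    rw [Pi.smul_apply, hmapg, ← hxh i]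
    congr 2
    exact hfi_g i
  let Ψ₀ : (ι → k) →ₗ[k] H1 (Rep.of ρ₁) :=
    Fintype.linearCombination k (fun i => M (H1π (Rep.of ρ₀) (F i)))
  have hΨ₀Z : ∀ coef, Ψ₀ coef = H1π (Rep.of ρ₁) (Z coef) := by
    intro coef
    simp only [Ψ₀, Z, Fintype.linearCombination_apply, map_sum, map_smul, hM]
  have hΨ₀ : ∀ coef, Ψ₀ coef ∈ LinearMap.range M := by
    intro coef
    simp only [Ψ₀, Fintype.linearCombination_apply]
    exact Submodule.sum_mem _ fun i _ => Submodule.smul_mem _ _ (LinearMap.mem_range_self _ _)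
  let Ψ : (ι → k) →ₗ[k] LinearMap.range M := Ψ₀.codRestrict _ hΨ₀
  have hsumD : ∀ coef : ι → k, ∑ i, coef i • (ρ₁ g (h' i) - h' i + c i) =
      (ρ₁ g (∑ i, coef i • h' i) - ∑ i, coef i • h' i) + ∑ i, coef i • c i := by
    intro coef
    simp only [smul_add, smul_sub, Finset.sum_add_distrib, Finset.sum_sub_distrib, map_sum,
      map_smul]
  have hinj : Function.Injective Ψ := by
    rw [← LinearMap.ker_eq_bot, LinearMap.ker_eq_bot']
    intro coef h0
    have h1 : Ψ₀ coef = 0 := congrArg Subtype.val h0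
    rw [hΨ₀Z, H1π_eq_zero_iff] at h1
    obtain ⟨h, hh⟩ := h1
    have h2 := congrFun hh g
    rw [d₀₁_hom_apply, hZg, hsumD] at h2
    funext i
    refine hc coef (h - ∑ i, coef i • h' i) ?_ i
    rw [map_sub]
    have h3 : (ρ₁ g) h - h = ((Rep.of ρ₁).ρ g) h - h := rfl
    rw [← h3] at h2
    rw [← sub_eq_iff_eq_add'] at h2
    rw [← h2]
    abel
  have hsurj : Function.Surjective Ψ := by
    rintro ⟨y, y₀, rfl⟩
    induction y₀ using H1_induction_on with
    | h f =>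
      have hN := norm_cocycle_apply ρ₀ g p hG f.1 f.2
      obtain ⟨h, coef, hh⟩ := ha (f g) hN
      refine ⟨coef, ?_⟩
      apply Subtype.ext
      show Ψ₀ coef = M (H1π (Rep.of ρ₀) f)
      rw [hΨ₀Z, hM, eq_comm, H1π_eq_iff]
      have hW : ((mapCocycles₁ (A := Rep.of ρ₀) (B := Rep.of ρ₁) (MonoidHom.id G) φ f - Z coef : cocycles₁ (Rep.of ρ₁)) : G → V₁) =
          (mapCocycles₁ (A := Rep.of ρ₀) (B := Rep.of ρ₁) (MonoidHom.id G) φ f : G → V₁) - (Z coef : G → V₁) := rfl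
      rw [← hW]
      refine coboundary_of_apply_gen ρ₁ g hg _
        (mapCocycles₁ (A := Rep.of ρ₀) (B := Rep.of ρ₁) (MonoidHom.id G) φ f - Z coef : cocycles₁ (Rep.of ρ₁)).2
        (h - ∑ i, coef i • h' i) ?_
      rw [hW, Pi.sub_apply, hmapg, hZg, hsumD, hh, map_sub]
      abel
  let e : (ι → k) ≃ₗ[k] LinearMap.range M := LinearEquiv.ofBijective Ψ ⟨hinj, hsurj⟩
  refine ⟨Module.Finite.equiv e, ?_⟩
  rw [← e.finrank_eq, Module.finrank_fintype_fun_eq_card]

end Range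

end Groth.Agent.Lib.CyclicH1Map
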