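import Groth.Agent.Lib.ASH1
import Groth.Agent.Lib.CyclicH1Map

/-
Lib/ASH1Map (helper70): the image of H^1(G, (k[[t]], σ)) → H^1(G, (k[[t]], u^{n+1} σ)) induced by d/dt
(statement S13862).  Builds on Lib/ASH1, Lib/CyclicH1Map and helper75's Lib/ASPowerSeries(2).
* `X_mul_deriv_u`: t u' = -t^n u^{n+1};  `X_mul_deriv_U_neg`: t (u^{-m})' = m t^n u^{n-m}.
* `deriv_c`: d/dt maps c⁰_m = (u^{-m}-1)/t^m to -m c¹_{m+1}, c¹_{m+1} = (u^{n-m}-1)/t^{m+1}.
* `spanning`: ker N = im(τ_a - 1) + span of the c_m.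
* `card_filt'`: the count of m ∈ [1,n] with p ∤ m, p ∤ n - m.
* `indep_shift`, `finrank_range` (= S13862).
-/

set_option autoImplicit false
universe u
open PowerSeries

namespace Groth.Agent.Lib.ASH1Map
open Groth.Agent.Lib.ASPowerSeries Groth.Agent.Lib.ASH1

section Deriv
variable {k : Type u} [Field k]

theorem mul_deriv_pow (a : PowerSeries k) (m : ℕ) :
    a * derivative k (a ^ m) = (m : PowerSeries k) * a ^ m * derivative k a := by
  rw [derivative_pow]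
  cases m with
  | zero => simp
  | succ m => simp only [Nat.add_sub_cancel, pow_succ]; ring

theorem X_mul_deriv_X_pow (m : ℕ) :
    (X : PowerSeries k) * derivative k (X ^ m) = (m : PowerSeries k) * X ^ m := by
  rw [mul_deriv_pow, derivative_X, mul_one]

variable (p : ℕ) [Fact p.Prime] [CharP k p]
  (n : ℕ) (hpn : ¬ p ∣ n) (u : PowerSeries k) (hun : u ^ n * (1 + X ^ n) = 1) (hu : IsUnit u)

include hpn hun in
theorem X_mul_deriv_u : X * derivative k u = - X ^ n * u ^ (n + 1) := by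
  have hnk : (n : k) ≠ 0 := by
    intro h
    exact hpn ((CharP.cast_eq_zero_iff k p n).mp h)
  have hnB : (n : PowerSeries k) ≠ 0 := by
    intro h
    have h1 := congrArg constantCoeff h
    rw [map_natCast, map_zero] at h1
    exact hnk h1
  have h1 := congrArg (derivative k) hun
  rw [Derivation.leibniz, Derivation.map_one_eq_zero, smul_eq_mul, smul_eq_mul, map_add,
    Derivation.map_one_eq_zero, zero_add] at h1
  have h2 := mul_deriv_pow u n
  have h3 := X_mul_deriv_X_pow (k := k) n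
  have h4 : (n : PowerSeries k) * (X * derivative k u + X ^ n * u ^ (n + 1)) = 0 := by
    have h5 : (n : PowerSeries k) * (X * derivative k u + X ^ n * u ^ (n + 1)) =
        X * u * (u ^ n * derivative k (X ^ n) + (1 + X ^ n) * derivative k (u ^ n)) +
        (n : PowerSeries k) * X * derivative k u * (1 - u ^ n * (1 + X ^ n)) := by
      linear_combination (-(u ^ (n + 1))) * h3 - (X * (1 + X ^ n)) * h2
    rw [h5, h1, hun]
    ring
  have h6 := (mul_eq_zero.mp h4).resolve_left hnB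
  linear_combination h6

include hpn hun in
theorem X_mul_deriv_U_neg (m : ℕ) :
    X * derivative k (U u hu (-(m : ℤ))) = (m : PowerSeries k) * X ^ n * U u hu ((n : ℤ) - m) := by
  have h0 := U_neg_mul u hu (m : ℤ)
  rw [U_natCast] at h0
  have h1 := congrArg (derivative k) h0
  rw [Derivation.leibniz, Derivation.map_one_eq_zero, smul_eq_mul, smul_eq_mul] at h1
  have h2 := mul_deriv_pow u m
  have h3 := X_mul_deriv_u p n hpn u hun
  -- X u^{m+1} ∂U(-m) = m X^n u^{n+1}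
  have h4 : X * u ^ (m + 1) * derivative k (U u hu (-(m : ℤ))) =
      (m : PowerSeries k) * X ^ n * u ^ (n + 1) := by
    linear_combination (X * u) * h1 - (U u hu (-(m : ℤ)) * X) * h2 -
      ((m : PowerSeries k) * U u hu (-(m : ℤ)) * u ^ m) * h3 +
      ((m : PowerSeries k) * X ^ n * u ^ (n + 1)) * h0
  have h5 : U u hu (-((m + 1 : ℕ) : ℤ)) * u ^ (m + 1) = 1 := by
    have := U_neg_mul u hu ((m + 1 : ℕ) : ℤ)
    rwa [U_natCast] at this
  have h6 : U u hu ((n : ℤ) - m) = u ^ (n + 1) * U u hu (-((m + 1 : ℕ) : ℤ)) := by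
    rw [← U_natCast u hu (n + 1), ← U_add]
    congr 1
    push_cast; ring
  rw [h6]
  linear_combination (U u hu (-((m + 1 : ℕ) : ℤ))) * h4 -
    (X * derivative k (U u hu (-(m : ℤ)))) * h5

include hpn hun in
/-- the derivative maps the class `c⁰_m` to `-m c¹_{m+1}` -/
theorem deriv_c (m : ℕ) (c0 c1 : PowerSeries k)
    (h0 : X ^ m * c0 = U u hu (-(m : ℤ)) - 1)
    (h1 : X ^ (m + 1) * c1 = U u hu ((n : ℤ) - m) - 1) :
    derivative k c0 = (-(m : k)) • c1 := by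
  have h2 := congrArg (derivative k) h0
  rw [Derivation.leibniz, smul_eq_mul, smul_eq_mul, map_sub, Derivation.map_one_eq_zero,
    sub_zero] at h2
  have h3 := X_mul_deriv_X_pow (k := k) m
  have h4 := X_mul_deriv_U_neg p n hpn u hun hu m
  have h5 : U u hu (-(m : ℤ)) = (1 + X ^ n) * U u hu ((n : ℤ) - m) := by
    rw [← U_neg_n n u hun hu, ← U_add]
    congr 1; ring
  apply mul_left_cancel₀ (pow_ne_zero (m + 1) (X_ne_zero (R := k)))
  have h6 : (-(m : k)) • c1 = -((m : PowerSeries k)) * c1 := by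
    rw [smul_eq_C_mul, map_neg, map_natCast]
  rw [h6]
  have h7 : X ^ (m + 1) * derivative k c0 = X * (X ^ m * derivative k c0) := by ring
  rw [h7]
  linear_combination X * h2 - c0 * h3 + h4 - (m : PowerSeries k) * h0 -
    (m : PowerSeries k) * h5 + (m : PowerSeries k) * h1

end Deriv

section Span
variable {k : Type u} [Field k] [IsAlgClosed k] (p : ℕ) [Fact p.Prime] [CharP k p]
  (n : ℕ) (hn : 0 < n) (hpn : ¬ p ∣ n) (u : PowerSeries k) (hu1 : constantCoeff u = 1)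
  (hun : u ^ n * (1 + X ^ n) = 1) (hu : IsUnit u)

include hn hpn hu1 hun in
theorem spanning (a : ℤ) (c : ℕ → PowerSeries k)
    (hc : ∀ m : ℕ, 1 ≤ m → m ≤ n → X ^ m * c m = U u hu (a - m) - 1)
    (z : PowerSeries k) (hz : ∑ j ∈ Finset.range p, (T u hu a ^ j) z = 0) :
    ∃ (h : PowerSeries k) (coef : ℕ → k), z = T u hu a h - h +
      ∑ m ∈ (Finset.Icc 1 n).filter (fun m : ℕ => ¬ (p : ℤ) ∣ a - (m : ℤ)), coef m • c m := by
  obtain ⟨v, hv1, hvn⟩ := exists_v p n hn u hu1 hun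
  obtain ⟨w, hw⟩ := exists_primitive p n u hun hu a z hz
  exact reduce p n hpn u hu1 hun hu v hv1 hvn a c hc (n * (p - 1)) (n * (p - 1)) 0 (zero_add _)
    w z (by simp) hw

end Span

section Count

theorem card_filt' (p : ℕ) (hp : 0 < p) (n : ℕ) (hpn : ¬ p ∣ n) :
    ((((Finset.Icc 1 n).filter (fun m : ℕ => ¬ (p : ℤ) ∣ 0 - (m : ℤ))).filter
      (fun m : ℕ => ¬ (p : ℤ) ∣ (n : ℤ) - (m : ℤ))).card : ℤ) =
      ((n + 1) * (p - 1) : ℤ) / p - 1 - (n - 1 : ℤ) / p := by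
  classical
  have hA := card_filt p hp 0 n
  have hB := card_filt p hp (n : ℤ) n
  have hunion : (Finset.Icc 1 n).filter (fun m : ℕ => ¬ (p : ℤ) ∣ 0 - (m : ℤ)) ∪
      (Finset.Icc 1 n).filter (fun m : ℕ => ¬ (p : ℤ) ∣ (n : ℤ) - (m : ℤ)) = Finset.Icc 1 n := by
    ext m
    simp only [Finset.mem_union, Finset.mem_filter]
    constructor
    · rintro (h | h) <;> exact h.1
    · intro hm
      by_cases h1 : (p : ℤ) ∣ 0 - (m : ℤ)
      · right
        refine ⟨hm, fun h2 => hpn ?_⟩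
        have h3 : (p : ℤ) ∣ (n : ℤ) := by
          have := dvd_sub h2 h1
          simpa using this
        exact Int.natCast_dvd_natCast.mp h3
      · exact Or.inl ⟨hm, h1⟩
  have hinter : ((Finset.Icc 1 n).filter (fun m : ℕ => ¬ (p : ℤ) ∣ 0 - (m : ℤ))).filter
      (fun m : ℕ => ¬ (p : ℤ) ∣ (n : ℤ) - (m : ℤ)) =
      (Finset.Icc 1 n).filter (fun m : ℕ => ¬ (p : ℤ) ∣ 0 - (m : ℤ)) ∩
      (Finset.Icc 1 n).filter (fun m : ℕ => ¬ (p : ℤ) ∣ (n : ℤ) - (m : ℤ)) := by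
    ext m
    simp only [Finset.mem_inter, Finset.mem_filter]
    tauto
  have hie := Finset.card_union_add_card_inter
    ((Finset.Icc 1 n).filter (fun m : ℕ => ¬ (p : ℤ) ∣ 0 - (m : ℤ)))
    ((Finset.Icc 1 n).filter (fun m : ℕ => ¬ (p : ℤ) ∣ (n : ℤ) - (m : ℤ)))
  rw [hunion, ← hinter] at hie
  have hcardIcc : (Finset.Icc 1 n).card = n := by simp
  rw [hcardIcc] at hie
  have hie' : ((((Finset.Icc 1 n).filter (fun m : ℕ => ¬ (p : ℤ) ∣ 0 - (m : ℤ))).filter
      (fun m : ℕ => ¬ (p : ℤ) ∣ (n : ℤ) - (m : ℤ))).card : ℤ) =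
      (((Finset.Icc 1 n).filter (fun m : ℕ => ¬ (p : ℤ) ∣ 0 - (m : ℤ))).card : ℤ) +
      (((Finset.Icc 1 n).filter (fun m : ℕ => ¬ (p : ℤ) ∣ (n : ℤ) - (m : ℤ))).card : ℤ) - n := by
    have := congrArg (Nat.cast : ℕ → ℤ) hie
    push_cast at this
    linarith
  rw [hie', hA, hB]
  have hp' : (p : ℤ) ≠ 0 := by exact_mod_cast hp.ne'
  have h1 : ((n + 1) * (p - 1) : ℤ) = (-(n : ℤ) - 1) + ((n : ℤ) + 1) * p := by ring
  rw [h1, Int.add_mul_ediv_right _ _ hp']
  have h2 : (0 : ℤ) - 1 - n = -(n : ℤ) - 1 := by ring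
  have h3 : (n : ℤ) - 1 - n = 0 - 1 := by ring
  rw [h2, h3]
  ring

end Count

section Indep
variable {k : Type u} [Field k] (p : ℕ) [Fact p.Prime] [CharP k p]

theorem indep_shift (n : ℕ) (hpn : ¬ p ∣ n)
    (u : PowerSeries k) (hu1 : constantCoeff u = 1)
    (hun : u ^ n * (1 + X ^ n) = 1) (hu : IsUnit u) (a : ℤ)
    (c1 : ℕ → PowerSeries k)
    (hc1 : ∀ m : ℕ, 1 ≤ m → m ≤ n → X ^ m * c1 m = U u hu (a - m) - 1)
    (filt' : Finset ℕ)
    (hmemfilt : ∀ m ∈ filt', m + 1 ∈ (Finset.Icc 1 n).filter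
      (fun m' : ℕ => ¬ (p : ℤ) ∣ a - (m' : ℤ)))
    (coef : ↥filt' → k) (h : PowerSeries k)
    (hh : U u hu a * subst (X * u) h - h = ∑ i, coef i • c1 (i.1 + 1)) :
    ∀ i, coef i = 0 := by
  classical
  intro i
  have h1 := coef_eq_zero p n hpn u hu1 hun hu a c1 hc1
    (fun m' => if hm : m' - 1 ∈ filt' then coef ⟨m' - 1, hm⟩ else 0) h ?_ (i.1 + 1)
    (hmemfilt i.1 i.2)
  · simpa using h1
  · refine hh.trans ?_
    have hsub : filt'.image (· + 1) ⊆ (Finset.Icc 1 n).filter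
        (fun m' : ℕ => ¬ (p : ℤ) ∣ a - (m' : ℤ)) := by
      intro m' hm'
      obtain ⟨m, hm, rfl⟩ := Finset.mem_image.mp hm'
      exact hmemfilt m hm
    rw [← Finset.sum_subset hsub, Finset.sum_image,
      ← Finset.sum_coe_sort filt' (fun m => (if hm : m + 1 - 1 ∈ filt' then
        coef ⟨m + 1 - 1, hm⟩ else 0) • c1 (m + 1))]
    · refine Finset.sum_congr rfl fun j _ => ?_
      simp
    · intro a _ b _ hab
      exact Nat.succ_injective hab
    · intro m' hm' hnot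
      rw [Finset.mem_filter, Finset.mem_Icc] at hm'
      have : ¬ (m' - 1 ∈ filt') := by
        intro hmem
        apply hnot
        refine Finset.mem_image.mpr ⟨m' - 1, hmem, ?_⟩
        omega
      rw [dif_neg this, zero_smul]

end Indep

section Final
open Groth.Agent.Lib.CyclicH1Map

theorem finrank_range {k : Type u} [Field k] [IsAlgClosed k] (p : ℕ)
    [Fact p.Prime] [CharP k p] (n : ℕ) (hn : 0 < n) (hpn : ¬ p ∣ n)
    (u : PowerSeries k) (hu1 : PowerSeries.constantCoeff u = 1)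
    (hun : u ^ n * (1 + PowerSeries.X ^ n) = 1)
    {G : Type u} [Group G] [Finite G] (g : G) (hG : Nat.card G = p)
    (hg : ∀ x : G, x ∈ Subgroup.zpowers g)
    (ρ₀ ρ₁ : Representation k G (PowerSeries k))
    (hρ₀ : ∀ h : PowerSeries k, ρ₀ g h = PowerSeries.subst (PowerSeries.X * u) h)
    (hρ₁ : ∀ h : PowerSeries k, ρ₁ g h = u ^ (n + 1) * PowerSeries.subst (PowerSeries.X * u) h)
    (φ : Rep.of ρ₀ ⟶ Rep.of ρ₁) (hφ : ∀ h : PowerSeries k, φ.hom h = PowerSeries.derivative k h) :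
    Module.Finite k (LinearMap.range ((groupCohomology.functor k G 1).map φ).hom) ∧
      (Module.finrank k (LinearMap.range ((groupCohomology.functor k G 1).map φ).hom) : ℤ) =
        ((n + 1) * (p - 1) : ℤ) / p - 1 - (n - 1 : ℤ) / p := by
  classical
  have hp := (Fact.out : p.Prime)
  have hu : IsUnit u := by
    rw [PowerSeries.isUnit_iff_constantCoeff, hu1]; exact isUnit_one
  have hρ₀T : ρ₀ g = T u hu 0 := LinearMap.ext fun h => by
    rw [hρ₀, T_apply, U_zero, one_mul]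
  have hρ₁T : ρ₁ g = T u hu ((n + 1 : ℕ) : ℤ) := LinearMap.ext fun h => by
    rw [hρ₁, T_apply, U_natCast]
  have hTp₀ : ∀ h, (T u hu 0 ^ p) h = h := by
    intro h
    rw [← hρ₀T, ← map_pow, ← hG, pow_card_eq_one', map_one]; rfl
  have hequiv : ∀ h : PowerSeries k, derivative k (T u hu 0 h) =
      T u hu ((n + 1 : ℕ) : ℤ) (derivative k h) := by
    intro h
    have h1 := Rep.hom_comm_apply φ g h
    rw [hφ] at h1
    have h2 : ((Rep.of ρ₀).ρ g) h = T u hu 0 h := by rw [← hρ₀T]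
    have h3 : ((Rep.of ρ₁).ρ g) (derivative k h) = T u hu ((n + 1 : ℕ) : ℤ) (derivative k h) := by
      rw [← hρ₁T]
    rw [h2, hφ, h3] at h1
    exact h1
  have hdvd : ∀ b : ℤ, (X : PowerSeries k) ^ n ∣ U u hu b - 1 := fun b =>
    (X_pow_dvd_u_sub_one p n hpn u hu1 hun).trans (sub_one_dvd_zpow' u hu b)
  choose dd hdd using hdvd
  -- the cocycles for a = 0
  have hc0 : ∀ m : ℕ, 1 ≤ m → m ≤ n →
      X ^ m * (X ^ (n - m) * dd ((0 : ℤ) - m)) = U u hu ((0 : ℤ) - m) - 1 := by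
    intro m _ hmn
    rw [hdd, ← mul_assoc, ← pow_add]
    congr 2; omega
  -- the cocycles for a = n + 1
  have hc1 : ∀ m : ℕ, 1 ≤ m → m ≤ n →
      X ^ m * (X ^ (n - m) * dd (((n + 1 : ℕ) : ℤ) - m)) = U u hu (((n + 1 : ℕ) : ℤ) - m) - 1 := by
    intro m _ hmn
    rw [hdd, ← mul_assoc, ← pow_add]
    congr 2; omega
  have hc1' : ∀ m : ℕ, m ≤ n → X ^ (m + 1) * (X ^ (n - (m + 1)) *
      dd (((n + 1 : ℕ) : ℤ) - ((m + 1 : ℕ) : ℤ))) = U u hu ((n : ℤ) - m) - 1 := by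
    intro m hmn
    have hcast : ((n + 1 : ℕ) : ℤ) - ((m + 1 : ℕ) : ℤ) = (n : ℤ) - m := by push_cast; ring
    rcases Nat.lt_or_ge m n with hlt | hge
    · have := hc1 (m + 1) (by omega) (by omega)
      rw [hcast] at this ⊢
      exact this
    · have hmn' : m = n := le_antisymm hmn hge
      subst hmn'
      rw [hcast, sub_self, U_zero, sub_self]
      have h0 := hdd 0
      rw [U_zero, sub_self] at h0
      have h1 : dd 0 = 0 := by
        rcases mul_eq_zero.mp h0.symm with h | h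
        · exact absurd h (pow_ne_zero _ (X_ne_zero (R := k)))
        · exact h
      rw [h1, mul_zero, mul_zero]
  set c0 : ℕ → PowerSeries k := fun m => X ^ (n - m) * dd ((0 : ℤ) - m) with hc0def
  set c1 : ℕ → PowerSeries k := fun m => X ^ (n - m) * dd (((n + 1 : ℕ) : ℤ) - m) with hc1def
  have hderiv : ∀ m : ℕ, 1 ≤ m → m ≤ n → derivative k (c0 m) = (-(m : k)) • c1 (m + 1) := by
    intro m hm1 hmn
    refine deriv_c p n hpn u hun hu m (c0 m) (c1 (m + 1)) ?_ (hc1' m hmn)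
    have := hc0 m hm1 hmn
    rw [show U u hu ((0 : ℤ) - m) = U u hu (-(m : ℤ)) by rw [zero_sub]] at this
    exact this
  have hnorm0 : ∀ m : ℕ, 1 ≤ m → m ≤ n → ∑ j ∈ Finset.range p, (T u hu 0 ^ j) (c0 m) = 0 :=
    fun m hm1 hmn => norm_cocycle p u hu 0 hTp₀ m (c0 m) (hc0 m hm1 hmn)
  have key := cyclic_H1_range_finrank ρ₀ ρ₁ g p hG hg φ
    (ι := ↥(((Finset.Icc 1 n).filter (fun m : ℕ => ¬ (p : ℤ) ∣ 0 - (m : ℤ))).filter
      (fun m : ℕ => ¬ (p : ℤ) ∣ (n : ℤ) - (m : ℤ))))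
    (fun i => c1 (i.1 + 1)) ?_ ?_ ?_
  · have key2 : Module.Finite k (LinearMap.range ((groupCohomology.functor k G 1).map φ).hom) ∧
        Module.finrank k (LinearMap.range ((groupCohomology.functor k G 1).map φ).hom) =
        Fintype.card (↥(((Finset.Icc 1 n).filter (fun m : ℕ => ¬ (p : ℤ) ∣ 0 - (m : ℤ))).filter
          (fun m : ℕ => ¬ (p : ℤ) ∣ (n : ℤ) - (m : ℤ)))) := key
    refine ⟨key2.1, ?_⟩
    rw [key2.2, Fintype.card_coe, card_filt' p hp.pos n hpn]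
  · -- image contained in span
    intro x hx
    rw [hρ₀T] at hx
    obtain ⟨h₀, coef₀, hx'⟩ := spanning p n hn hpn u hu1 hun hu 0 c0 hc0 x hx
    -- coboundaries among the c1
    have hcob : ∀ m ∈ (Finset.Icc 1 n).filter (fun m : ℕ => ¬ (p : ℤ) ∣ 0 - (m : ℤ)),
        (p : ℤ) ∣ (n : ℤ) - (m : ℤ) →
        ∃ h : PowerSeries k, T u hu ((n + 1 : ℕ) : ℤ) h - h = c1 (m + 1) := by
      intro m hm hdiv
      rw [Finset.mem_filter, Finset.mem_Icc] at hm
      rcases Nat.lt_or_ge m n with hlt | hge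
      · have hcast : ((n + 1 : ℕ) : ℤ) - ((m + 1 : ℕ) : ℤ) = (n : ℤ) - m := by push_cast; ring
        obtain ⟨h, hh⟩ := exists_coboundary p n hn hpn u hu1 hun hu ((n + 1 : ℕ) : ℤ) (m + 1)
          (by omega) (by omega) (by rw [hcast]; exact hdiv) (c1 (m + 1))
          (hc1 (m + 1) (by omega) (by omega))
        exact ⟨h, by rw [T_apply]; exact hh⟩
      · have hmn' : m = n := le_antisymm hm.1.2 hge
        subst hmn'
        refine ⟨0, ?_⟩
        have h0 := hc1' m le_rfl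
        rw [sub_self (m : ℤ), U_zero, sub_self (1 : PowerSeries k)] at h0
        have h1 : c1 (m + 1) = 0 := by
          rcases mul_eq_zero.mp h0 with h | h
          · exact absurd h (pow_ne_zero _ (X_ne_zero (R := k)))
          · exact h
        rw [h1, map_zero, sub_zero]
    choose! hm hhm using hcob
    refine ⟨derivative k h₀ + ∑ m ∈ (Finset.Icc 1 n).filter (fun m : ℕ => ¬ (p : ℤ) ∣ 0 - (m : ℤ)),
        (if (p : ℤ) ∣ (n : ℤ) - (m : ℤ) then (coef₀ m * (-(m : k))) • hm m else 0),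
      fun i => coef₀ i.1 * (-(i.1 : k)), ?_⟩
    have hterm : ∀ m ∈ (Finset.Icc 1 n).filter (fun m : ℕ => ¬ (p : ℤ) ∣ 0 - (m : ℤ)),
        derivative k (coef₀ m • c0 m) =
        (T u hu ((n + 1 : ℕ) : ℤ) (if (p : ℤ) ∣ (n : ℤ) - (m : ℤ) then
          (coef₀ m * (-(m : k))) • hm m else 0) -
          (if (p : ℤ) ∣ (n : ℤ) - (m : ℤ) then (coef₀ m * (-(m : k))) • hm m else 0)) +
        (if ¬ (p : ℤ) ∣ (n : ℤ) - (m : ℤ) then (coef₀ m * (-(m : k))) • c1 (m + 1) else 0) := by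
      intro m hmem
      have hmem' := hmem
      rw [Finset.mem_filter, Finset.mem_Icc] at hmem'
      rw [Derivation.map_smul, hderiv m hmem'.1.1 hmem'.1.2, smul_smul]
      by_cases hdiv : (p : ℤ) ∣ (n : ℤ) - (m : ℤ)
      · rw [if_pos hdiv, if_neg (not_not.mpr hdiv), add_zero, map_smul, ← smul_sub,
          hhm m hmem hdiv]
      · rw [if_neg hdiv, if_pos hdiv, map_zero, sub_zero, zero_add]
    have hsumL : ∑ m ∈ (Finset.Icc 1 n).filter (fun m : ℕ => ¬ (p : ℤ) ∣ 0 - (m : ℤ)),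
        derivative k (coef₀ m • c0 m) =
        (T u hu ((n + 1 : ℕ) : ℤ) (∑ m ∈ (Finset.Icc 1 n).filter
          (fun m : ℕ => ¬ (p : ℤ) ∣ 0 - (m : ℤ)),
          (if (p : ℤ) ∣ (n : ℤ) - (m : ℤ) then (coef₀ m * (-(m : k))) • hm m else 0)) -
        ∑ m ∈ (Finset.Icc 1 n).filter (fun m : ℕ => ¬ (p : ℤ) ∣ 0 - (m : ℤ)),
          (if (p : ℤ) ∣ (n : ℤ) - (m : ℤ) then (coef₀ m * (-(m : k))) • hm m else 0)) +
        ∑ m ∈ (Finset.Icc 1 n).filter (fun m : ℕ => ¬ (p : ℤ) ∣ 0 - (m : ℤ)),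
          (if ¬ (p : ℤ) ∣ (n : ℤ) - (m : ℤ) then (coef₀ m * (-(m : k))) • c1 (m + 1) else 0) := by
      rw [Finset.sum_congr rfl hterm, Finset.sum_add_distrib, Finset.sum_sub_distrib, map_sum]
    have hsumR : ∑ i : ↥(((Finset.Icc 1 n).filter (fun m : ℕ => ¬ (p : ℤ) ∣ 0 - (m : ℤ))).filter
        (fun m : ℕ => ¬ (p : ℤ) ∣ (n : ℤ) - (m : ℤ))), (coef₀ i.1 * (-(i.1 : k))) • c1 (i.1 + 1) =
        ∑ m ∈ (Finset.Icc 1 n).filter (fun m : ℕ => ¬ (p : ℤ) ∣ 0 - (m : ℤ)),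
          (if ¬ (p : ℤ) ∣ (n : ℤ) - (m : ℤ) then (coef₀ m * (-(m : k))) • c1 (m + 1) else 0) := by
      rw [Finset.sum_coe_sort (((Finset.Icc 1 n).filter
        (fun m : ℕ => ¬ (p : ℤ) ∣ 0 - (m : ℤ))).filter
        (fun m : ℕ => ¬ (p : ℤ) ∣ (n : ℤ) - (m : ℤ)))
        (fun m => (coef₀ m * (-(m : k))) • c1 (m + 1)), Finset.sum_filter]
    rw [hφ, hρ₁T, hx', map_add, map_sub, hequiv, map_sum, hsumL, hsumR, map_add]
    abel
  · -- each class is hit
    rintro ⟨m, hmem⟩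
    have hmem' := hmem
    rw [Finset.mem_filter, Finset.mem_filter, Finset.mem_Icc] at hmem'
    obtain ⟨⟨⟨hm1, hmn⟩, hpm⟩, hpnm⟩ := hmem'
    have hmk : (-(m : k)) ≠ 0 := by
      rw [neg_ne_zero]
      intro h0
      apply hpm
      rw [zero_sub, dvd_neg]
      exact Int.natCast_dvd_natCast.mpr ((CharP.cast_eq_zero_iff k p m).mp h0)
    refine ⟨(-(m : k))⁻¹ • c0 m, ?_, 0, ?_⟩
    · rw [hρ₀T]
      simp only [map_smul]
      rw [← Finset.smul_sum, hnorm0 m hm1 hmn, smul_zero]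
    · rw [hφ, Derivation.map_smul, hderiv m hm1 hmn, smul_smul, inv_mul_cancel₀ hmk, one_smul,
        map_zero, sub_zero, zero_add]
  · -- independence
    intro coef h hh
    rw [hρ₁T, T_apply] at hh
    refine indep_shift p n hpn u hu1 hun hu ((n + 1 : ℕ) : ℤ) c1 hc1 _ ?_ coef h hh
    intro m hm
    rw [Finset.mem_filter, Finset.mem_filter, Finset.mem_Icc] at hm
    obtain ⟨⟨⟨hm1, hmn⟩, _⟩, hpnm⟩ := hm
    have hcast : ((n + 1 : ℕ) : ℤ) - ((m + 1 : ℕ) : ℤ) = (n : ℤ) - m := by push_cast; ring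
    have hne : m ≠ n := by
      rintro rfl
      exact hpnm (by simp)
    rw [Finset.mem_filter, Finset.mem_Icc, hcast]
    exact ⟨⟨by omega, by omega⟩, hpnm⟩

end Final

end Groth.Agent.Lib.ASH1Map
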