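import Mathlib

/-
Lib/ASPowerSeries (helper75): the order-p automorphism σ(t) = t·u of k[[t]], u^n (1+t^n) = 1, char p.
* `eq_of_pow_eq`: uniqueness of n-th roots with constant coefficient 1 (n invertible).
* `sub_one_dvd_of_pow`: `A - 1` and `A^n - 1` are associated.
* `key_identity`: U(1+T)=1 ⇒ U^p (1 - T^{p-1}) = 1 - (TU)^{p-1} in char p.
* `exists_v`: the "norm of t" series v with v^n (1 - t^{n(p-1)}) = 1.
* `sigma_v`: σ(v) u^p = v, i.e. t^p v is σ-invariant.
* `exists_coboundary`: for p | a - m, 1 ≤ m ≤ n, the cocycle value c = (u^{a-m}-1)/t^m is a coboundary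
  u^a h(tu) - h (statement S13863).
-/

set_option autoImplicit false
universe u
open PowerSeries

namespace Groth.Agent.Lib.ASPowerSeries

section Roots
variable {k : Type u} [Field k]

/-- Uniqueness of `n`-th roots with constant coefficient `1` when `n` is invertible. -/
theorem eq_of_pow_eq {n : ℕ} (hn : (n : k) ≠ 0) (A B : PowerSeries k)
    (hA : constantCoeff A = 1) (hB : constantCoeff B = 1) (h : A ^ n = B ^ n) : A = B := by
  have h1 : (∑ i ∈ Finset.range n, A ^ i * B ^ (n - 1 - i)) * (A - B) = 0 := by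
    rw [(Commute.all A B).geom_sum₂_mul, h, sub_self]
  have h2 : constantCoeff (∑ i ∈ Finset.range n, A ^ i * B ^ (n - 1 - i)) = (n : k) := by
    rw [map_sum]
    simp [hA, hB]
  have h3 : (∑ i ∈ Finset.range n, A ^ i * B ^ (n - 1 - i)) ≠ 0 := by
    intro h0
    rw [h0, map_zero] at h2
    exact hn h2.symm
  rcases mul_eq_zero.mp h1 with h4 | h4
  · exact absurd h4 h3
  · exact sub_eq_zero.mp h4

/-- `A - 1` is divisible by `A ^ n - 1` up to a unit when `n` is invertible. -/
theorem sub_one_dvd_of_pow {n : ℕ} (hn : (n : k) ≠ 0) (A : PowerSeries k)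
    (hA : constantCoeff A = 1) : A ^ n - 1 ∣ A - 1 ∧ A - 1 ∣ A ^ n - 1 := by
  have h1 : (∑ i ∈ Finset.range n, A ^ i) * (A - 1) = A ^ n - 1 := geom_sum_mul A n
  have h2 : constantCoeff (∑ i ∈ Finset.range n, A ^ i) = (n : k) := by
    rw [map_sum]; simp [hA]
  have h3 : IsUnit (∑ i ∈ Finset.range n, A ^ i) := by
    rw [PowerSeries.isUnit_iff_constantCoeff, h2]
    exact isUnit_iff_ne_zero.mpr hn
  constructor
  · rw [← h1]
    exact (h3.mul_left_dvd).mpr dvd_rfl
  · exact Dvd.intro_left _ h1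

end Roots

section Key

theorem key_identity {B : Type u} [CommRing B] (p : ℕ) [Fact p.Prime] [CharP B p]
    (U T : B) (h : U * (1 + T) = 1) :
    U ^ p * (1 - T ^ (p - 1)) = 1 - (T * U) ^ (p - 1) := by
  obtain ⟨q, hq⟩ : ∃ q, p = q + 1 := ⟨p - 1, (Nat.succ_pred_eq_of_pos (Fact.out : p.Prime).pos).symm⟩
  have hq' : p - 1 = q := by omega
  rw [hq']
  have hunit : IsUnit ((1 + T) ^ p) := by
    refine IsUnit.of_mul_eq_one (U ^ p) ?_
    rw [← mul_pow, mul_comm, h, one_pow]
  apply hunit.mul_left_cancel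
  have h1 : (1 + T) ^ p * (U ^ p * (1 - T ^ q)) = 1 - T ^ q := by
    rw [← mul_assoc, ← mul_pow, mul_comm (1 + T) U, h, one_pow, one_mul]
  have h2 : (1 + T) ^ p = 1 + T ^ p := by
    rw [add_pow_char, one_pow]
  have h3 : (1 + T) ^ p * (T * U) ^ q = (1 + T) * T ^ q := by
    have h4 : (T * U) * (1 + T) = T := by rw [mul_assoc, h, mul_one]
    calc (1 + T) ^ p * (T * U) ^ q = (1 + T) * (((T * U) * (1 + T)) ^ q) := by
          rw [hq, pow_succ, mul_pow ((T * U)) (1 + T) q]; ring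
      _ = (1 + T) * T ^ q := by rw [h4]
  rw [h1, mul_sub, mul_one, h3, h2, hq, pow_succ]
  ring

end Key

section Main
variable {k : Type u} [Field k] [IsAlgClosed k] (p : ℕ) [Fact p.Prime] [CharP k p]

theorem hasSubst_X_mul (u : PowerSeries k) : HasSubst (X * u) :=
  HasSubst.of_constantCoeff_zero' (by simp)

/-- the norm-type series `v` with `v^n (1 - X^{n(p-1)}) = 1` -/
theorem exists_v (n : ℕ) (hn : 0 < n) (u : PowerSeries k) (hu1 : constantCoeff u = 1)
    (hun : u ^ n * (1 + X ^ n) = 1) :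
    ∃ v : PowerSeries k, constantCoeff v = 1 ∧ v ^ n * (1 - X ^ (n * (p - 1))) = 1 := by
  obtain ⟨ζ, hζ⟩ := IsAlgClosed.exists_pow_nat_eq (-1 : k) hn
  have hp1 : p - 1 ≠ 0 := by
    have := (Fact.out : p.Prime).two_le; omega
  have hs : HasSubst (C ζ * X ^ (p - 1) : PowerSeries k) :=
    HasSubst.of_constantCoeff_zero' (by simp [hp1])
  have hcc : constantCoeff (C ζ * X ^ (p - 1) : PowerSeries k) = 0 := by simp [hp1]
  refine ⟨subst (C ζ * X ^ (p - 1) : PowerSeries k) u, ?_, ?_⟩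
  · have h1 : constantCoeff (subst (C ζ * X ^ (p - 1) : PowerSeries k) (u - 1)) = 0 :=
      constantCoeff_subst_eq_zero hcc _ (by simp [hu1])
    rw [subst_sub hs, map_sub] at h1
    have h2 : subst (C ζ * X ^ (p - 1) : PowerSeries k) (1 : PowerSeries k) = 1 := by
      rw [← coe_substAlgHom hs, map_one]
    rw [h2, map_one] at h1
    exact sub_eq_zero.mp h1
  · have h1 := congrArg (subst (C ζ * X ^ (p - 1) : PowerSeries k)) hun
    rw [← coe_substAlgHom hs, map_mul, map_pow, map_add, map_one, map_pow,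
      coe_substAlgHom hs, subst_X hs] at h1
    have h2 : (C ζ * X ^ (p - 1) : PowerSeries k) ^ n = - X ^ (n * (p - 1)) := by
      rw [mul_pow, ← map_pow, hζ, ← pow_mul, mul_comm (p - 1) n]
      simp
    rw [h2, ← sub_eq_add_neg] at h1
    exact h1

end Main

section Final
variable {k : Type u} [Field k] (p : ℕ) [Fact p.Prime] [CharP k p]

theorem sigma_v (n : ℕ) (hpn : ¬ p ∣ n) (u v : PowerSeries k)
    (hu1 : constantCoeff u = 1) (hun : u ^ n * (1 + X ^ n) = 1)
    (hv1 : constantCoeff v = 1) (hvn : v ^ n * (1 - X ^ (n * (p - 1))) = 1) :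
    subst (X * u) v * u ^ p = v := by
  have hs : HasSubst (X * u) := HasSubst.of_constantCoeff_zero' (by simp)
  have : CharP (PowerSeries k) p :=
    charP_of_injective_algebraMap (algebraMap k (PowerSeries k)).injective p
  have hnk : (n : k) ≠ 0 := by
    intro h
    exact hpn ((CharP.cast_eq_zero_iff k p n).mp h)
  -- constant coefficient of σ v
  have hσ1 : constantCoeff (subst (X * u) v) = 1 := by
    have hcc : constantCoeff (X * u : PowerSeries k) = 0 := by simp
    have h1 : constantCoeff (subst (X * u) (v - 1)) = 0 :=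
      constantCoeff_subst_eq_zero hcc _ (by simp [hv1])
    rw [subst_sub hs, map_sub] at h1
    have h2 : subst (X * u) (1 : PowerSeries k) = 1 := by
      rw [← coe_substAlgHom hs, map_one]
    rw [h2, map_one] at h1
    exact sub_eq_zero.mp h1
  apply eq_of_pow_eq hnk
  · simp [hσ1, hu1]
  · exact hv1
  -- compare n-th powers
  have h1 := congrArg (subst (X * u)) hvn
  rw [← coe_substAlgHom hs, map_mul, map_pow, map_sub, map_one, map_pow,
    coe_substAlgHom hs, subst_X hs] at h1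
  have hU : u ^ n * (1 + X ^ n) = 1 := hun
  have hkey := key_identity p (u ^ n) (X ^ n) hU
  have h2 : (X * u) ^ (n * (p - 1)) = (X ^ n * u ^ n) ^ (p - 1) := by
    rw [pow_mul, mul_pow]
  have h3 : (X : PowerSeries k) ^ (n * (p - 1)) = (X ^ n) ^ (p - 1) := by rw [pow_mul]
  rw [h2, ← hkey] at h1
  -- h1 : σ v ^ n * (u^n ^ p * (1 - (X^n)^(p-1))) = 1
  have h4 : (subst (X * u) v * u ^ p) ^ n * (1 - X ^ (n * (p - 1))) = 1 := by
    rw [h3, mul_pow, ← pow_mul, mul_comm p n, pow_mul, mul_assoc]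
    exact h1
  have hunit : IsUnit (1 - (X : PowerSeries k) ^ (n * (p - 1))) :=
    IsUnit.of_mul_eq_one _ (by rw [mul_comm]; exact hvn)
  exact hunit.mul_right_cancel (h4.trans hvn.symm)

end Final

section Statement
variable {k : Type u} [Field k] [IsAlgClosed k] (p : ℕ) [Fact p.Prime] [CharP k p]

theorem sub_one_dvd_zpow (v : PowerSeries k) (hv : IsUnit v) (j : ℤ) :
    v - 1 ∣ ((hv.unit ^ j : (PowerSeries k)ˣ) : PowerSeries k) - 1 := by
  obtain ⟨l, rfl | rfl⟩ := Int.eq_nat_or_neg j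
  · rw [zpow_natCast, Units.val_pow_eq_pow_val, IsUnit.unit_spec]
    have := sub_dvd_pow_sub_pow v 1 l
    rwa [one_pow] at this
  · have h1 : ((hv.unit ^ (-(l : ℤ)) : (PowerSeries k)ˣ) : PowerSeries k) - 1 =
        ((hv.unit ^ (-(l : ℤ)) : (PowerSeries k)ˣ) : PowerSeries k) * (1 - v ^ l) := by
      rw [mul_sub, mul_one]
      congr 1
      have : ((hv.unit ^ (-(l : ℤ)) : (PowerSeries k)ˣ) : PowerSeries k) * v ^ l =
          ((hv.unit ^ (-(l : ℤ)) * hv.unit ^ l : (PowerSeries k)ˣ) : PowerSeries k) := by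
        rw [Units.val_mul, Units.val_pow_eq_pow_val, IsUnit.unit_spec]
      rw [this, zpow_neg, zpow_natCast, inv_mul_cancel, Units.val_one]
    rw [h1]
    apply Dvd.dvd.mul_left
    have := sub_dvd_pow_sub_pow v 1 l
    rw [one_pow] at this
    exact (dvd_sub_comm).mp this

theorem exists_coboundary (n : ℕ) (hn : 0 < n) (hpn : ¬ p ∣ n)
    (u : PowerSeries k) (hu1 : constantCoeff u = 1)
    (hun : u ^ n * (1 + X ^ n) = 1) (hu : IsUnit u) (a : ℤ) (m : ℕ)
    (hm1 : 1 ≤ m) (hmn : m ≤ n) (hdvd : (p : ℤ) ∣ a - m) (c : PowerSeries k)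
    (hc : X ^ m * c = ((hu.unit ^ (a - m) : (PowerSeries k)ˣ) : PowerSeries k) - 1) :
    ∃ h : PowerSeries k,
      ((hu.unit ^ a : (PowerSeries k)ˣ) : PowerSeries k) * subst (X * u) h - h = c := by
  obtain ⟨v, hv1, hvn⟩ := exists_v p n hn u hu1 hun
  have hσv := sigma_v p n hpn u v hu1 hun hv1 hvn
  have hs : HasSubst (X * u) := HasSubst.of_constantCoeff_zero' (by simp)
  have hnk : (n : k) ≠ 0 := by
    intro h
    exact hpn ((CharP.cast_eq_zero_iff k p n).mp h)
  have hvU : IsUnit v := by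
    rw [PowerSeries.isUnit_iff_constantCoeff, hv1]; exact isUnit_one
  obtain ⟨j, hj⟩ := hdvd
  -- divisibility
  have hp1 : 1 ≤ p - 1 := by
    have := (Fact.out : p.Prime).two_le; omega
  have hd1 : (X : PowerSeries k) ^ m ∣ v - 1 := by
    have h1 : v ^ n - 1 = v ^ n * X ^ (n * (p - 1)) := by
      have := hvn
      rw [mul_sub, mul_one] at this
      linear_combination this
    have h2 : (X : PowerSeries k) ^ (n * (p - 1)) ∣ v ^ n - 1 := by
      rw [h1]; exact Dvd.intro_left _ rfl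
    have h3 : (X : PowerSeries k) ^ m ∣ X ^ (n * (p - 1)) := by
      apply pow_dvd_pow
      calc m ≤ n := hmn
        _ = n * 1 := (mul_one n).symm
        _ ≤ n * (p - 1) := Nat.mul_le_mul_left n hp1
    exact (h3.trans h2).trans (sub_one_dvd_of_pow hnk v hv1).1
  have hd2 : (X : PowerSeries k) ^ m ∣ 1 - ((hvU.unit ^ j : (PowerSeries k)ˣ) : PowerSeries k) :=
    (dvd_sub_comm).mp (hd1.trans (sub_one_dvd_zpow v hvU j))
  obtain ⟨h, hh⟩ := hd2
  refine ⟨h, ?_⟩
  apply mul_left_cancel₀ (pow_ne_zero m (X_ne_zero (R := k)))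
  rw [hc]
  -- apply σ to hh
  let σ' : PowerSeries k →ₐ[k] PowerSeries k := substAlgHom hs
  have hσ'X : σ' X = X * u := by
    simp only [σ', coe_substAlgHom hs, subst_X hs]
  have hσ'v : σ' v = v * ((hu.unit ^ p : (PowerSeries k)ˣ)⁻¹ : (PowerSeries k)ˣ) := by
    have h1 : σ' v * u ^ p = v := by simpa only [σ', coe_substAlgHom hs] using hσv
    have : u ^ p * (((hu.unit ^ p : (PowerSeries k)ˣ)⁻¹ : (PowerSeries k)ˣ) : PowerSeries k) = 1 := by
      have h2 : u ^ p = ((hu.unit ^ p : (PowerSeries k)ˣ) : PowerSeries k) := by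
        rw [Units.val_pow_eq_pow_val, IsUnit.unit_spec]
      rw [h2, ← Units.val_mul, mul_inv_cancel, Units.val_one]
    calc σ' v = σ' v * (u ^ p *
          (((hu.unit ^ p : (PowerSeries k)ˣ)⁻¹ : (PowerSeries k)ˣ) : PowerSeries k)) := by
          rw [this, mul_one]
      _ = (σ' v * u ^ p) *
          (((hu.unit ^ p : (PowerSeries k)ˣ)⁻¹ : (PowerSeries k)ˣ) : PowerSeries k) := by
          rw [mul_assoc]
      _ = v * (((hu.unit ^ p : (PowerSeries k)ˣ)⁻¹ : (PowerSeries k)ˣ) : PowerSeries k) := by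
          rw [h1]
  have hσ'vU : Units.map (σ' : PowerSeries k →* PowerSeries k) hvU.unit =
      hvU.unit * (hu.unit ^ p)⁻¹ := by
    apply Units.ext
    rw [Units.coe_map, Units.val_mul, IsUnit.unit_spec]
    exact hσ'v
  have hσ'vj : σ' ((hvU.unit ^ j : (PowerSeries k)ˣ) : PowerSeries k) =
      ((hvU.unit ^ j : (PowerSeries k)ˣ) : PowerSeries k) *
        (((hu.unit ^ (a - m))⁻¹ : (PowerSeries k)ˣ) : PowerSeries k) := by
    have h1 : σ' ((hvU.unit ^ j : (PowerSeries k)ˣ) : PowerSeries k) =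
        ((Units.map (σ' : PowerSeries k →* PowerSeries k) (hvU.unit ^ j) : (PowerSeries k)ˣ) :
          PowerSeries k) := rfl
    rw [h1, map_zpow, hσ'vU, mul_zpow, inv_zpow, ← zpow_natCast, ← zpow_mul, ← hj, Units.val_mul]
  have hE2 : (X * u) ^ m * σ' h = 1 - ((hvU.unit ^ j : (PowerSeries k)ˣ) : PowerSeries k) *
        (((hu.unit ^ (a - m))⁻¹ : (PowerSeries k)ˣ) : PowerSeries k) := by
    have := congrArg σ' hh
    rw [map_sub, map_one, map_mul, map_pow, hσ'X, hσ'vj] at this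
    exact this.symm
  have hσh : subst (X * u) h = σ' h := by simp only [σ', coe_substAlgHom hs]
  rw [hσh]
  have hua : ((hu.unit ^ a : (PowerSeries k)ˣ) : PowerSeries k) =
      ((hu.unit ^ (a - m) : (PowerSeries k)ˣ) : PowerSeries k) * u ^ m := by
    have : a = (a - m) + (m : ℤ) := by ring
    conv_lhs => rw [this, zpow_add, zpow_natCast, Units.val_mul, Units.val_pow_eq_pow_val,
      IsUnit.unit_spec]
  have hinv : ((hu.unit ^ (a - m) : (PowerSeries k)ˣ) : PowerSeries k) *
      (((hu.unit ^ (a - m))⁻¹ : (PowerSeries k)ˣ) : PowerSeries k) = 1 := by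
    rw [← Units.val_mul, mul_inv_cancel, Units.val_one]
  rw [mul_pow] at hE2
  calc X ^ m * (((hu.unit ^ a : (PowerSeries k)ˣ) : PowerSeries k) * σ' h - h)
      = ((hu.unit ^ (a - m) : (PowerSeries k)ˣ) : PowerSeries k) * (X ^ m * u ^ m * σ' h)
          - X ^ m * h := by rw [hua]; ring
    _ = ((hu.unit ^ (a - m) : (PowerSeries k)ˣ) : PowerSeries k) *
          (1 - ((hvU.unit ^ j : (PowerSeries k)ˣ) : PowerSeries k) *
            (((hu.unit ^ (a - m))⁻¹ : (PowerSeries k)ˣ) : PowerSeries k))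
          - (1 - ((hvU.unit ^ j : (PowerSeries k)ˣ) : PowerSeries k)) := by rw [hE2, ← hh]
    _ = ((hu.unit ^ (a - m) : (PowerSeries k)ˣ) : PowerSeries k) - 1 := by
        linear_combination (-((hvU.unit ^ j : (PowerSeries k)ˣ) : PowerSeries k)) * hinv

end Statement

end Groth.Agent.Lib.ASPowerSeries
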