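import Groth.Agent.Lib.ASPowerSeries

/-
Lib/ASPowerSeries2 (helper75): continuation of Lib/ASPowerSeries (σ(t) = t·u on k[[t]], char p).
* `constantCoeff_zpow`, `zpow_sub_one`: integer powers of units with constant coefficient 1.
* `u_zpow_sub_one`: for p ∤ i, u^i - 1 = X^n · w with w(0) ≠ 0.
* `subst_sub_self_dvd`, `X_pow_dvd_cocycle`: X^n ∣ u^a h(tu) - h for all h.
* `coef_eq_zero`: linear independence of the classes of t^i (p ∤ i) in H^1 (statement S13864).
-/

set_option autoImplicit false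
universe u
open PowerSeries

namespace Groth.Agent.Lib.ASPowerSeries

section Indep
variable {k : Type u} [Field k] (p : ℕ) [Fact p.Prime] [CharP k p]

omit [Fact p.Prime] [CharP k p] in
theorem constantCoeff_zpow (u : PowerSeries k) (hu : IsUnit u) (hu1 : constantCoeff u = 1) (i : ℤ) :
    constantCoeff ((hu.unit ^ i : (PowerSeries k)ˣ) : PowerSeries k) = 1 := by
  have h1 : constantCoeff ((hu.unit ^ i : (PowerSeries k)ˣ) : PowerSeries k) =
      ((Units.map (constantCoeff : PowerSeries k →+* k).toMonoidHom (hu.unit ^ i) : kˣ) : k) := rfl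
  rw [h1, map_zpow]
  have h2 : Units.map (constantCoeff : PowerSeries k →+* k).toMonoidHom hu.unit = 1 := by
    apply Units.ext
    simp [hu1]
  rw [h2, one_zpow, Units.val_one]

omit [Fact p.Prime] [CharP k p] in
/-- `y^i - 1 = (y - 1) * w` with `w(0) = i` for a unit `y` with constant coefficient `1`. -/
theorem zpow_sub_one (y : PowerSeries k) (hy : IsUnit y) (hy1 : constantCoeff y = 1) (i : ℤ) :
    ∃ w : PowerSeries k, ((hy.unit ^ i : (PowerSeries k)ˣ) : PowerSeries k) - 1 = (y - 1) * w ∧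
      constantCoeff w = (i : k) := by
  obtain ⟨l, rfl | rfl⟩ := Int.eq_nat_or_neg i
  · refine ⟨∑ s ∈ Finset.range l, y ^ s, ?_, ?_⟩
    · rw [zpow_natCast, Units.val_pow_eq_pow_val, IsUnit.unit_spec, mul_comm, geom_sum_mul]
    · rw [map_sum]; simp [hy1]
  · refine ⟨-(((hy.unit ^ (-(l : ℤ)) : (PowerSeries k)ˣ) : PowerSeries k) *
      ∑ s ∈ Finset.range l, y ^ s), ?_, ?_⟩
    · have h1 : ((hy.unit ^ (-(l : ℤ)) : (PowerSeries k)ˣ) : PowerSeries k) * y ^ l = 1 := by
        have : ((hy.unit ^ (-(l : ℤ)) : (PowerSeries k)ˣ) : PowerSeries k) * y ^ l =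
            ((hy.unit ^ (-(l : ℤ)) * hy.unit ^ l : (PowerSeries k)ˣ) : PowerSeries k) := by
          rw [Units.val_mul, Units.val_pow_eq_pow_val, IsUnit.unit_spec]
        rw [this, zpow_neg, zpow_natCast, inv_mul_cancel, Units.val_one]
      have h2 : (∑ s ∈ Finset.range l, y ^ s) * (y - 1) = y ^ l - 1 := geom_sum_mul y l
      linear_combination h1 +
        ((hy.unit ^ (-(l : ℤ)) : (PowerSeries k)ˣ) : PowerSeries k) * h2
    · rw [map_neg, map_mul, constantCoeff_zpow y hy hy1, one_mul, map_sum]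
      simp [hy1]


omit [Fact p.Prime] [CharP k p] in
theorem zpow_sub_one_aux (y : PowerSeries k) (hy : IsUnit y) (i : ℤ) :
    ∃ w : PowerSeries k, ((hy.unit ^ i : (PowerSeries k)ˣ) : PowerSeries k) - 1 = (y - 1) * w ∧
      True := by
  obtain ⟨l, rfl | rfl⟩ := Int.eq_nat_or_neg i
  · refine ⟨∑ s ∈ Finset.range l, y ^ s, ?_, trivial⟩
    rw [zpow_natCast, Units.val_pow_eq_pow_val, IsUnit.unit_spec, mul_comm, geom_sum_mul]
  · refine ⟨-(((hy.unit ^ (-(l : ℤ)) : (PowerSeries k)ˣ) : PowerSeries k) *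
      ∑ s ∈ Finset.range l, y ^ s), ?_, trivial⟩
    have h1 : ((hy.unit ^ (-(l : ℤ)) : (PowerSeries k)ˣ) : PowerSeries k) * y ^ l = 1 := by
      have : ((hy.unit ^ (-(l : ℤ)) : (PowerSeries k)ˣ) : PowerSeries k) * y ^ l =
          ((hy.unit ^ (-(l : ℤ)) * hy.unit ^ l : (PowerSeries k)ˣ) : PowerSeries k) := by
        rw [Units.val_mul, Units.val_pow_eq_pow_val, IsUnit.unit_spec]
      rw [this, zpow_neg, zpow_natCast, inv_mul_cancel, Units.val_one]
    have h2 : (∑ s ∈ Finset.range l, y ^ s) * (y - 1) = y ^ l - 1 := geom_sum_mul y l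
    linear_combination h1 +
      ((hy.unit ^ (-(l : ℤ)) : (PowerSeries k)ˣ) : PowerSeries k) * h2

omit [Fact p.Prime] [CharP k p] in
theorem sub_one_dvd_zpow' (v : PowerSeries k) (hv : IsUnit v) (j : ℤ) :
    v - 1 ∣ ((hv.unit ^ j : (PowerSeries k)ˣ) : PowerSeries k) - 1 := by
  obtain ⟨w, hw, _⟩ := zpow_sub_one_aux v hv j
  exact Dvd.intro _ hw.symm

end Indep

section Indep2
variable {k : Type u} [Field k] (p : ℕ) [Fact p.Prime] [CharP k p]

theorem u_zpow_sub_one (n : ℕ) (hpn : ¬ p ∣ n) (u : PowerSeries k)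
    (hu1 : constantCoeff u = 1) (hun : u ^ n * (1 + X ^ n) = 1) (hu : IsUnit u) (i : ℤ)
    (hi : ¬ (p : ℤ) ∣ i) :
    ∃ w : PowerSeries k, ((hu.unit ^ i : (PowerSeries k)ˣ) : PowerSeries k) - 1 = X ^ n * w ∧
      constantCoeff w ≠ 0 := by
  have hnk : (n : k) ≠ 0 := by
    intro h
    exact hpn ((CharP.cast_eq_zero_iff k p n).mp h)
  have hik : ((-i : ℤ) : k) ≠ 0 := by
    intro h
    rw [CharP.intCast_eq_zero_iff k p] at h
    exact hi ((dvd_neg).mp h)
  set z : PowerSeries k := ((hu.unit ^ i : (PowerSeries k)ˣ) : PowerSeries k) with hz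
  have hz1 : constantCoeff z = 1 := constantCoeff_zpow u hu hu1 i
  have hy : IsUnit (1 + X ^ n : PowerSeries k) :=
    IsUnit.of_mul_eq_one _ (by rw [mul_comm]; exact hun)
  have hy1 : constantCoeff (1 + X ^ n : PowerSeries k) = 1 := by
    have h1 := congrArg constantCoeff hun
    rw [map_mul, map_pow, hu1, one_pow, one_mul, map_one] at h1
    exact h1
  have huy : hu.unit ^ n = hy.unit⁻¹ := by
    apply eq_inv_of_mul_eq_one_left
    apply Units.ext
    rw [Units.val_mul, Units.val_pow_eq_pow_val, IsUnit.unit_spec, IsUnit.unit_spec, Units.val_one]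
    exact hun
  have hzn : z ^ n = ((hy.unit ^ (-i) : (PowerSeries k)ˣ) : PowerSeries k) := by
    rw [hz, ← Units.val_pow_eq_pow_val, ← zpow_natCast, ← zpow_mul, mul_comm, zpow_mul, zpow_natCast,
      huy, inv_zpow, zpow_neg]
  obtain ⟨w', hw', hw'0⟩ := zpow_sub_one (1 + X ^ n : PowerSeries k) hy hy1 (-i)
  have hG : (∑ l ∈ Finset.range n, z ^ l) * (z - 1) = z ^ n - 1 := geom_sum_mul z n
  have hG0 : constantCoeff (∑ l ∈ Finset.range n, z ^ l) = (n : k) := by
    rw [map_sum]; simp [hz1]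
  have hGu : IsUnit (∑ l ∈ Finset.range n, z ^ l) := by
    rw [PowerSeries.isUnit_iff_constantCoeff, hG0]
    exact isUnit_iff_ne_zero.mpr hnk
  refine ⟨((hGu.unit⁻¹ : (PowerSeries k)ˣ) : PowerSeries k) * w', ?_, ?_⟩
  · have h1 : ((hGu.unit⁻¹ : (PowerSeries k)ˣ) : PowerSeries k) *
        (∑ l ∈ Finset.range n, z ^ l) = 1 := by
      have : ((hGu.unit⁻¹ : (PowerSeries k)ˣ) : PowerSeries k) * (∑ l ∈ Finset.range n, z ^ l) =
          ((hGu.unit⁻¹ * hGu.unit : (PowerSeries k)ˣ) : PowerSeries k) := by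
        rw [Units.val_mul, IsUnit.unit_spec]
      rw [this, inv_mul_cancel, Units.val_one]
    rw [hzn, hw'] at hG
    have h2 : (1 + X ^ n - 1 : PowerSeries k) = X ^ n := by ring
    rw [h2] at hG
    linear_combination (z - 1) * (-h1) + ((hGu.unit⁻¹ : (PowerSeries k)ˣ) : PowerSeries k) * hG
  · rw [map_mul, hw'0]
    have h3 : constantCoeff ((hGu.unit⁻¹ : (PowerSeries k)ˣ) : PowerSeries k) ≠ 0 := by
      intro h0
      have h4 : ((hGu.unit⁻¹ : (PowerSeries k)ˣ) : PowerSeries k) *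
          ((hGu.unit : (PowerSeries k)ˣ) : PowerSeries k) = 1 := by
        rw [← Units.val_mul, inv_mul_cancel, Units.val_one]
      have h5 := congrArg constantCoeff h4
      rw [map_mul, h0, zero_mul, map_one] at h5
      exact zero_ne_one h5
    exact mul_ne_zero h3 hik

end Indep2

section Indep3
variable {k : Type u} [Field k] (p : ℕ) [Fact p.Prime] [CharP k p]

theorem X_pow_dvd_u_sub_one (n : ℕ) (hpn : ¬ p ∣ n) (u : PowerSeries k)
    (hu1 : constantCoeff u = 1) (hun : u ^ n * (1 + X ^ n) = 1) :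
    (X : PowerSeries k) ^ n ∣ u - 1 := by
  have hnk : (n : k) ≠ 0 := by
    intro h
    exact hpn ((CharP.cast_eq_zero_iff k p n).mp h)
  have h1 : u ^ n - 1 = - u ^ n * X ^ n := by linear_combination hun
  have h2 : (X : PowerSeries k) ^ n ∣ u ^ n - 1 := by
    rw [h1]; exact Dvd.intro_left _ rfl
  exact h2.trans (sub_one_dvd_of_pow hnk u hu1).1

omit [Fact p.Prime] [CharP k p] in
/-- substitution changes a power series only modulo `X * (u - 1)` -/
theorem subst_sub_self_dvd (u h : PowerSeries k) (N : ℕ) (hN : (X : PowerSeries k) ^ N ∣ X * (u - 1)) :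
    (X : PowerSeries k) ^ N ∣ subst (X * u) h - h := by
  have hs : HasSubst (X * u) := HasSubst.of_constantCoeff_zero' (by simp)
  have hdec := h.eq_X_pow_mul_shift_add_trunc N
  set h' : PowerSeries k := mk fun i ↦ coeff (i + N) h with hh'
  set P : Polynomial k := h.trunc N with hP
  have h1 : subst (X * u) h = (X * u) ^ N * subst (X * u) h' + Polynomial.aeval (X * u) P := by
    conv_lhs => rw [hdec]
    rw [subst_add hs, subst_mul hs, subst_pow hs, subst_X hs, subst_coe hs]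
  have h2 : (P : PowerSeries k) = Polynomial.aeval (X : PowerSeries k) P := by
    have := subst_coe (HasSubst.X' (R := k)) P
    rw [X_subst] at this
    exact this
  have h3 : (X * u - X : PowerSeries k) ∣ Polynomial.aeval (X * u) P - Polynomial.aeval X P := by
    have := Polynomial.sub_dvd_eval_sub (X * u) (X : PowerSeries k)
      (P.map (algebraMap k (PowerSeries k)))
    rwa [Polynomial.eval_map_algebraMap, Polynomial.eval_map_algebraMap] at this
  have h4 : (X : PowerSeries k) ^ N ∣ Polynomial.aeval (X * u) P - Polynomial.aeval X P := by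
    refine dvd_trans ?_ h3
    have : (X * u - X : PowerSeries k) = X * (u - 1) := by ring
    rw [this]; exact hN
  have h5 : subst (X * u) h - h = X ^ N * (u ^ N * subst (X * u) h' - h') +
      (Polynomial.aeval (X * u) P - Polynomial.aeval X P) := by
    rw [h1]
    conv_lhs => rw [hdec, h2]
    ring
  rw [h5]
  exact dvd_add (Dvd.intro _ rfl) h4

theorem X_pow_dvd_cocycle (n : ℕ) (hpn : ¬ p ∣ n) (u : PowerSeries k)
    (hu1 : constantCoeff u = 1) (hun : u ^ n * (1 + X ^ n) = 1) (hu : IsUnit u) (a : ℤ)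
    (h : PowerSeries k) :
    (X : PowerSeries k) ^ n ∣
      ((hu.unit ^ a : (PowerSeries k)ˣ) : PowerSeries k) * subst (X * u) h - h := by
  have hd := X_pow_dvd_u_sub_one p n hpn u hu1 hun
  have h1 : (X : PowerSeries k) ^ n ∣ subst (X * u) h - h :=
    subst_sub_self_dvd u h n (Dvd.dvd.mul_left hd X)
  have h2 : (X : PowerSeries k) ^ n ∣ ((hu.unit ^ a : (PowerSeries k)ˣ) : PowerSeries k) - 1 :=
    hd.trans (sub_one_dvd_zpow' u hu a)
  have h3 : ((hu.unit ^ a : (PowerSeries k)ˣ) : PowerSeries k) * subst (X * u) h - h =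
      ((hu.unit ^ a : (PowerSeries k)ˣ) : PowerSeries k) * (subst (X * u) h - h) +
      (((hu.unit ^ a : (PowerSeries k)ˣ) : PowerSeries k) - 1) * h := by ring
  rw [h3]
  exact dvd_add (Dvd.dvd.mul_left h1 _) (Dvd.dvd.mul_right h2 _)

end Indep3

section Indep4
variable {k : Type u} [Field k] (p : ℕ) [Fact p.Prime] [CharP k p]

theorem coef_eq_zero (n : ℕ) (hpn : ¬ p ∣ n)
    (u : PowerSeries k) (hu1 : constantCoeff u = 1)
    (hun : u ^ n * (1 + X ^ n) = 1) (hu : IsUnit u) (a : ℤ)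
    (c : ℕ → PowerSeries k)
    (hc : ∀ m : ℕ, 1 ≤ m → m ≤ n →
      X ^ m * c m = ((hu.unit ^ (a - m) : (PowerSeries k)ˣ) : PowerSeries k) - 1)
    (coef : ℕ → k) (h : PowerSeries k)
    (hh : ((hu.unit ^ a : (PowerSeries k)ˣ) : PowerSeries k) * subst (X * u) h - h =
      ∑ m ∈ (Finset.Icc 1 n).filter (fun m : ℕ => ¬ (p : ℤ) ∣ a - (m : ℤ)), coef m • c m) :
    ∀ m ∈ (Finset.Icc 1 n).filter (fun m : ℕ => ¬ (p : ℤ) ∣ a - (m : ℤ)), coef m = 0 := by
  classical
  set filt := (Finset.Icc 1 n).filter (fun m : ℕ => ¬ (p : ℤ) ∣ a - (m : ℤ)) with hfilt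
  -- shape of c m
  have hshape : ∀ m ∈ filt, ∃ w : PowerSeries k, c m = X ^ (n - m) * w ∧ constantCoeff w ≠ 0 := by
    intro m hm
    rw [hfilt, Finset.mem_filter, Finset.mem_Icc] at hm
    obtain ⟨⟨hm1, hmn⟩, hmp⟩ := hm
    obtain ⟨w, hw, hw0⟩ := u_zpow_sub_one p n hpn u hu1 hun hu (a - m) hmp
    refine ⟨w, ?_, hw0⟩
    have h1 := hc m hm1 hmn
    rw [hw] at h1
    have h2 : (X : PowerSeries k) ^ n = X ^ m * X ^ (n - m) := by
      rw [← pow_add]; congr 1; omega
    rw [h2, mul_assoc] at h1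
    exact mul_left_cancel₀ (pow_ne_zero m (X_ne_zero (R := k))) h1
  choose! w hw hw0 using hshape
  have hdvd := X_pow_dvd_cocycle p n hpn u hu1 hun hu a h
  rw [hh] at hdvd
  -- downward induction
  have key : ∀ m₀ ∈ filt, (∀ m ∈ filt, m₀ < m → coef m = 0) → coef m₀ = 0 := by
    intro m₀ hm₀ hbig
    have hm₀' := hm₀
    rw [hfilt, Finset.mem_filter, Finset.mem_Icc] at hm₀'
    obtain ⟨⟨hm1, hmn⟩, _⟩ := hm₀'
    have hlt : n - m₀ < n := by omega
    have h0 : coeff (n - m₀) (∑ m ∈ filt, coef m • c m) = 0 := by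
      obtain ⟨g, hg⟩ := hdvd
      rw [hg, coeff_X_pow_mul', if_neg (by omega)]
    rw [map_sum, Finset.sum_eq_single m₀] at h0
    · rw [hw m₀ hm₀, coeff_smul, coeff_X_pow_mul', if_pos le_rfl, Nat.sub_self,
        coeff_zero_eq_constantCoeff_apply] at h0
      exact (mul_eq_zero.mp h0).resolve_right (hw0 m₀ hm₀)
    · intro m hm hne
      rcases lt_or_gt_of_ne hne with hlt' | hgt
      · -- m < m₀ : the power of X is too high
        have hm' := hm
        rw [hfilt, Finset.mem_filter, Finset.mem_Icc] at hm'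
        rw [hw m hm, coeff_smul, coeff_X_pow_mul', if_neg (by omega), smul_zero]
      · rw [hbig m hm hgt, zero_smul, map_zero]
    · intro hnot; exact absurd hm₀ hnot
  -- conclude
  have main : ∀ d : ℕ, ∀ m₀ ∈ filt, n - m₀ = d → coef m₀ = 0 := by
    intro d
    induction d using Nat.strong_induction_on with
    | _ d ih =>
      intro m₀ hm₀ hd
      apply key m₀ hm₀
      intro m hm hlt
      have hm' := hm
      rw [hfilt, Finset.mem_filter, Finset.mem_Icc] at hm'
      exact ih (n - m) (by omega) m hm rfl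
  intro m hm
  exact main (n - m) m hm rfl

end Indep4

end Groth.Agent.Lib.ASPowerSeries
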