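import Mathlib.Algebra.Category.Grp.Limits
import Mathlib.Algebra.Category.Grp.Colimits
import Mathlib.Algebra.DirectSum.Basic
import Mathlib.CategoryTheory.Limits.Shapes.Products

/-!
# Coproducts of abelian groups are direct sums (helper95)

For `A : ι → AddCommGrpCat.{u+1}` with `ι : Type u`: the projections `proj A i : ∐ A ⟶ A i`
(`ι_proj_self`, `ι_proj_ne`) are jointly injective (`eq_zero_of_forall_proj`), and for finite `ι`
the induced map `∐ A → Π i, A i` is bijective (`bijective_piProj`).
-/

set_option autoImplicit false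
universe u

open CategoryTheory CategoryTheory.Limits

namespace Groth.Agent.Lib.AbCoprodModel95

variable {ι : Type u} (A : ι → AddCommGrpCat.{u+1})

/-- the projection of the coproduct onto a summand -/
noncomputable def proj (i' : ι) : ∐ A ⟶ A i' := by
  classical
  exact Sigma.desc (fun i => if h : i = i' then eqToHom (by rw [h]) else 0)

lemma ι_proj_self (i : ι) : Sigma.ι A i ≫ proj A i = 𝟙 _ := by
  unfold proj
  rw [Sigma.ι_desc, dif_pos rfl, eqToHom_refl]

lemma ι_proj_ne {i i' : ι} (h : i ≠ i') : Sigma.ι A i ≫ proj A i' = 0 := by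
  unfold proj
  rw [Sigma.ι_desc, dif_neg h]

open scoped DirectSum

/-- the direct sum as a cofan -/
noncomputable def dsCofan : Cofan A := by
  classical
  exact Cofan.mk (AddCommGrpCat.of (⨁ i, A i))
    (fun i => AddCommGrpCat.ofHom (DirectSum.of (fun i => A i) i))

/-- the direct sum is a coproduct -/
noncomputable def dsIsColimit : IsColimit (dsCofan A) := by
  classical
  refine Cofan.IsColimit.mk _
    (fun s => AddCommGrpCat.ofHom (DirectSum.toAddMonoid (fun i => (s.inj i).hom))) ?_ ?_
  · intro s i
    ext a
    exact DirectSum.toAddMonoid_of (fun i => (s.inj i).hom) i a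
  · intro s m hm
    ext : 1
    apply DirectSum.addHom_ext
    intro i a
    have := ConcreteCategory.congr_hom (hm i) a
    refine Eq.trans ?_ (DirectSum.toAddMonoid_of (fun i => (s.inj i).hom) i a).symm
    exact this

/-- the comparison `∐ A ≅ ⨁ A` -/
noncomputable def coprodIso : ∐ A ≅ AddCommGrpCat.of (⨁ i, A i) :=
  (coproductIsCoproduct A).coconePointUniqueUpToIso (dsIsColimit A)

lemma ι_coprodIso_hom (i : ι) (a : A i) :
    (coprodIso A).hom (Sigma.ι A i a) = (by classical exact DirectSum.of (fun i => A i) i a) := by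
  classical
  have h : Sigma.ι A i ≫ (coprodIso A).hom = (dsCofan A).inj i :=
    (coproductIsCoproduct A).comp_coconePointUniqueUpToIso_hom (dsIsColimit A) ⟨i⟩
  exact ConcreteCategory.congr_hom h a

/-- evaluation of a direct sum at an index -/
noncomputable def ev (i' : ι) : (⨁ i, A i) →+ A i' where
  toFun x := x i'
  map_zero' := rfl
  map_add' x y := DirectSum.add_apply x y i'

lemma proj_eq (i' : ι) (b : (∐ A : AddCommGrpCat.{u+1})) :
    proj A i' b = ((coprodIso A).hom b : ⨁ i, A i) i' := by
  classical
  have h : proj A i' = (coprodIso A).hom ≫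
      AddCommGrpCat.ofHom (ev A i') := by
    apply Sigma.hom_ext
    intro i
    ext a
    have h1 : ((Sigma.ι A i ≫ (coprodIso A).hom ≫
        AddCommGrpCat.ofHom (ev A i')) :
          A i ⟶ A i') a = (DirectSum.of (fun i => A i) i a : ⨁ i, A i) i' := by
      show ((coprodIso A).hom (Sigma.ι A i a) : ⨁ i, A i) i' = _
      rw [ι_coprodIso_hom]
    refine Eq.trans ?_ h1.symm
    by_cases hi : i = i'
    · subst hi
      rw [ι_proj_self, DirectSum.of_eq_same]
      rfl
    · rw [ι_proj_ne A hi, DirectSum.of_eq_of_ne _ _ _ (fun h => hi h.symm)]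
      rfl
  exact ConcreteCategory.congr_hom h b

/-- the projections are jointly injective -/
lemma eq_zero_of_forall_proj (b : (∐ A : AddCommGrpCat.{u+1})) (hb : ∀ i, proj A i b = 0) :
    b = 0 := by
  have h1 : (coprodIso A).hom b = 0 := by
    apply DFinsupp.ext
    intro i
    rw [← proj_eq, hb]
    rfl
  have h2 := congrArg (coprodIso A).inv h1
  rwa [map_zero, ← ConcreteCategory.comp_apply, Iso.hom_inv_id, ConcreteCategory.id_apply] at h2

lemma proj_ι_self (i : ι) (a : A i) : proj A i (Sigma.ι A i a) = a :=
  ConcreteCategory.congr_hom (ι_proj_self A i) a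

lemma proj_ι_ne {i i' : ι} (h : i ≠ i') (a : A i) : proj A i' (Sigma.ι A i a) = 0 :=
  ConcreteCategory.congr_hom (ι_proj_ne A h) a

/-- for a finite index set, the coproduct maps bijectively onto the product -/
lemma bijective_piProj [Finite ι] :
    Function.Bijective (fun (b : (∐ A : AddCommGrpCat.{u+1})) (i : ι) => proj A i b) := by
  classical
  have := Fintype.ofFinite ι
  constructor
  · intro b b' h
    rw [← sub_eq_zero]
    apply eq_zero_of_forall_proj
    intro i
    rw [map_sub, sub_eq_zero]
    exact congrFun h i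
  · intro p
    refine ⟨∑ i, Sigma.ι A i (p i), ?_⟩
    funext i'
    show proj A i' (∑ i, Sigma.ι A i (p i)) = p i'
    rw [map_sum, Finset.sum_eq_single i']
    · exact proj_ι_self A i' (p i')
    · intro i _ hne
      exact proj_ι_ne A hne (p i)
    · intro h
      exact (h (Finset.mem_univ _)).elim

end Groth.Agent.Lib.AbCoprodModel95
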