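/-
helper11: abstract "Tor-free" flatness lemmas.  For a bifunctor `T : A ⥤ A ⥤ A` on an abelian category which is
right exact in both variables and has enough (right-)flat objects:
* if `0 → F'' → F' → F → 0` is exact with `F ⊗ -` mono-preserving then `F'' ⊗ G → F' ⊗ G` is mono for all `G`;
* two-out-of-three for flatness in short exact sequences with flat cokernel.
-/
import Mathlib.CategoryTheory.Abelian.Refinements
import Mathlib.Algebra.Homology.ShortComplex.ExactFunctor

universe v u
open CategoryTheory Limits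

namespace Groth.Agent.Lib.AbTensorFlat

variable {A : Type u} [Category.{v} A] [Abelian A] (T : A ⥤ A ⥤ A)
  [∀ X, (T.obj X).Additive] [∀ X, PreservesFiniteColimits (T.obj X)]
  [∀ Y, (T.flip.obj Y).Additive] [∀ Y, PreservesFiniteColimits (T.flip.obj Y)]

/-- right exactness of an additive functor, unpacked -/
lemma rightExact (F : A ⥤ A) [F.Additive] [PreservesFiniteColimits F] (S : ShortComplex A)
    (hS : S.ShortExact) : (S.map F).Exact ∧ Epi (F.map S.g) :=
  ((Functor.preservesFiniteColimits_tfae F).out 3 0 rfl rfl).mp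
    (inferInstance : PreservesFiniteColimits F) S hS

/-- Key lemma: if `0 → X₁ → X₂ → X₃ → 0` is exact, `X₃ ⊗ -` preserves monomorphisms, and `G` is a quotient of
an object `P` with `- ⊗ P` mono-preserving, then `X₁ ⊗ G → X₂ ⊗ G` is a monomorphism. -/
theorem mono_map_app (S : ShortComplex A) (hS : S.ShortExact)
    (hF : (T.obj S.X₃).PreservesMonomorphisms) (G P : A) (π : P ⟶ G) [Epi π]
    (hP : (T.flip.obj P).PreservesMonomorphisms) : Mono ((T.map S.f).app G) := by
  -- the short exact sequence `0 → K → P → G → 0`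
  let SG : ShortComplex A := ShortComplex.mk (kernel.ι π) π (kernel.condition π)
  have hSG : SG.ShortExact :=
    { exact := ShortComplex.exact_of_f_is_kernel _ (kernelIsKernel π)
      mono_f := inferInstanceAs (Mono (kernel.ι π))
      epi_g := inferInstanceAs (Epi π) }
  let K := kernel π
  let κ : K ⟶ P := kernel.ι π
  have hmonoκ : Mono κ := inferInstance
  -- exactness facts
  have colX₁ := rightExact (T.obj S.X₁) SG hSG
  have colX₂ := rightExact (T.obj S.X₂) SG hSG
  have rowK := rightExact (T.flip.obj K) S hS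
  have hmonoF : Mono ((T.obj S.X₃).map κ) := inferInstance
  have hmonoS : Mono S.f := hS.mono_f
  have hmonoP : Mono ((T.map S.f).app P) :=
    inferInstanceAs (Mono ((T.flip.obj P).map S.f))
  have epi1 : Epi ((T.obj S.X₁).map π) := colX₁.2
  have natfπ : (T.obj S.X₁).map π ≫ (T.map S.f).app G = (T.map S.f).app P ≫ (T.obj S.X₂).map π :=
    (T.map S.f).naturality π
  have natfκ : (T.obj S.X₁).map κ ≫ (T.map S.f).app P = (T.map S.f).app K ≫ (T.obj S.X₂).map κ :=
    (T.map S.f).naturality κ
  have natgκ : (T.obj S.X₂).map κ ≫ (T.map S.g).app P = (T.map S.g).app K ≫ (T.obj S.X₃).map κ :=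
    (T.map S.g).naturality κ
  have fgP : (T.map S.f).app P ≫ (T.map S.g).app P = 0 := by
    have h : (T.flip.obj P).map S.f ≫ (T.flip.obj P).map S.g = 0 := by
      rw [← Functor.map_comp, S.zero, Functor.map_zero]
    exact h
  have κπ₁ : (T.obj S.X₁).map κ ≫ (T.obj S.X₁).map π = 0 := by
    rw [← Functor.map_comp]
    have : κ ≫ π = 0 := kernel.condition π
    rw [this, Functor.map_zero]
  rw [Preadditive.mono_iff_cancel_zero]
  intro A₀ x hx
  -- lift `x` to `X₁ ⊗ P`
  obtain ⟨A₁, p₁, hp₁, y, hy⟩ := surjective_up_to_refinements_of_epi ((T.obj S.X₁).map π) x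
  -- `y ≫ (f ⊗ P)` dies in `X₂ ⊗ G`
  have h1 : (y ≫ (T.map S.f).app P) ≫ (T.obj S.X₂).map π = 0 := by
    rw [Category.assoc, ← natfπ, ← Category.assoc, ← hy, Category.assoc, hx, comp_zero]
  obtain ⟨A₂, p₂, hp₂, z', hz'⟩ := colX₂.1.exact_up_to_refinements (y ≫ (T.map S.f).app P) h1
  let z : A₂ ⟶ (T.obj S.X₂).obj K := z'
  have hz : p₂ ≫ y ≫ (T.map S.f).app P = z ≫ (T.obj S.X₂).map κ := hz'
  -- `z ≫ (g ⊗ K) = 0`
  have h2 : (z ≫ (T.map S.g).app K) = 0 := by
    rw [← cancel_mono ((T.obj S.X₃).map κ), zero_comp, Category.assoc, ← natgκ, ← Category.assoc,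
      ← hz, Category.assoc, Category.assoc, fgP, comp_zero, comp_zero]
  obtain ⟨A₃, p₃, hp₃, w', hw'⟩ := rowK.1.exact_up_to_refinements z h2
  let w : A₃ ⟶ (T.obj S.X₁).obj K := w'
  have hw : p₃ ≫ z = w ≫ (T.map S.f).app K := hw'
  -- `w ≫ (X₁ ⊗ κ) = y` after refinement
  have h3 : w ≫ (T.obj S.X₁).map κ = p₃ ≫ p₂ ≫ y := by
    rw [← cancel_mono ((T.map S.f).app P), Category.assoc, natfκ, ← Category.assoc, ← hw,
      Category.assoc, ← hz, Category.assoc, Category.assoc]
  -- conclude
  have h4 : (p₃ ≫ p₂ ≫ p₁) ≫ x = 0 := by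
    rw [Category.assoc, Category.assoc, hy, ← Category.assoc p₂, ← Category.assoc p₃, ← h3,
      Category.assoc, κπ₁, comp_zero]
  have : Epi (p₃ ≫ p₂ ≫ p₁) := epi_comp' hp₃ (epi_comp' hp₂ hp₁)
  rwa [← cancel_epi (p₃ ≫ p₂ ≫ p₁), comp_zero]

/-- enough flat objects: every object is a quotient of an object `P` with `- ⊗ P` mono-preserving -/
def EnoughFlats : Prop :=
  ∀ G : A, ∃ (P : A) (π : P ⟶ G), Epi π ∧ (T.flip.obj P).PreservesMonomorphisms

variable {T}

theorem mono_map_app_of_enoughFlats (hE : EnoughFlats T) (S : ShortComplex A) (hS : S.ShortExact)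
    (hF : (T.obj S.X₃).PreservesMonomorphisms) (G : A) : Mono ((T.map S.f).app G) := by
  obtain ⟨P, π, hπ, hP⟩ := hE G
  exact mono_map_app T S hS hF G P π hP

/-- tensoring a short exact sequence with flat cokernel stays short exact -/
theorem shortExact_map_flip (hE : EnoughFlats T) (S : ShortComplex A) (hS : S.ShortExact)
    (hF : (T.obj S.X₃).PreservesMonomorphisms) (G : A) : (S.map (T.flip.obj G)).ShortExact := by
  have h := rightExact (T.flip.obj G) S hS
  exact
    { exact := h.1
      mono_f := mono_map_app_of_enoughFlats hE S hS hF G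
      epi_g := h.2 }

/-- extensions of flats are flat -/
theorem preservesMono_X₂ (hE : EnoughFlats T) (S : ShortComplex A) (hS : S.ShortExact)
    (h₁ : (T.obj S.X₁).PreservesMonomorphisms) (h₃ : (T.obj S.X₃).PreservesMonomorphisms) :
    (T.obj S.X₂).PreservesMonomorphisms := by
  refine ⟨fun {G' G} m hm => ?_⟩
  have hG' := shortExact_map_flip hE S hS h₃ G'
  have hG := shortExact_map_flip hE S hS h₃ G
  have mono1 : Mono ((T.obj S.X₁).map m) := inferInstance
  have mono3 : Mono ((T.obj S.X₃).map m) := inferInstance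
  have monoG : Mono ((T.map S.f).app G) := hG.mono_f
  have natf : (T.obj S.X₁).map m ≫ (T.map S.f).app G = (T.map S.f).app G' ≫ (T.obj S.X₂).map m :=
    (T.map S.f).naturality m
  have natg : (T.obj S.X₂).map m ≫ (T.map S.g).app G = (T.map S.g).app G' ≫ (T.obj S.X₃).map m :=
    (T.map S.g).naturality m
  rw [Preadditive.mono_iff_cancel_zero]
  intro A₀ k hk
  have hk3 : k ≫ (T.map S.g).app G' = 0 := by
    rw [← cancel_mono ((T.obj S.X₃).map m), zero_comp, Category.assoc, ← natg, ← Category.assoc, hk,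
      zero_comp]
  -- lift through the kernel
  have : Mono (S.map (T.flip.obj G')).f := hG'.mono_f
  let k' : A₀ ⟶ (T.obj S.X₁).obj G' := hG'.exact.lift k hk3
  have hk' : k' ≫ (T.map S.f).app G' = k := hG'.exact.lift_f k hk3
  have h0 : k' = 0 := by
    rw [← cancel_mono ((T.obj S.X₁).map m), ← cancel_mono ((T.map S.f).app G), zero_comp, zero_comp,
      Category.assoc, natf, ← Category.assoc, hk', hk]
  rw [← hk', h0, zero_comp]

/-- kernels of epimorphisms of flats are flat -/
theorem preservesMono_X₁ (hE : EnoughFlats T) (S : ShortComplex A) (hS : S.ShortExact)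
    (h₂ : (T.obj S.X₂).PreservesMonomorphisms) (h₃ : (T.obj S.X₃).PreservesMonomorphisms) :
    (T.obj S.X₁).PreservesMonomorphisms := by
  refine ⟨fun {G' G} m hm => ?_⟩
  have monoG' : Mono ((T.map S.f).app G') := mono_map_app_of_enoughFlats hE S hS h₃ G'
  have mono2 : Mono ((T.obj S.X₂).map m) := inferInstance
  have natf : (T.obj S.X₁).map m ≫ (T.map S.f).app G = (T.map S.f).app G' ≫ (T.obj S.X₂).map m :=
    (T.map S.f).naturality m
  have : Mono ((T.obj S.X₁).map m ≫ (T.map S.f).app G) := by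
    rw [natf]
    infer_instance
  exact mono_of_mono _ ((T.map S.f).app G)

end Groth.Agent.Lib.AbTensorFlat
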