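/-
helper11: abstract lemma: a right-bounded exact sequence of flat objects stays exact after tensoring.
-/
import Groth.Agent.Lib.AbTensorFlat

universe v u
open CategoryTheory Limits

namespace Groth.Agent.Lib.AbTensorFlat

section Splice

variable {B : Type u} [Category.{v} B] [Abelian B]

/-- splicing: exactness is preserved by precomposing with an epi and postcomposing with a mono -/
lemma exact_splice {X₁ Z₂ X₂ Z₃ X₃ : B} (q : X₁ ⟶ Z₂) [Epi q] (i : Z₂ ⟶ X₂) (p : X₂ ⟶ Z₃)
    (j : Z₃ ⟶ X₃) [Mono j] (w : i ≫ p = 0) (h : (ShortComplex.mk i p w).Exact)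
    (w' : (q ≫ i) ≫ (p ≫ j) = 0) : (ShortComplex.mk (q ≫ i) (p ≫ j) w').Exact := by
  rw [ShortComplex.exact_iff_exact_up_to_refinements]
  intro A₀ x₂ hx₂
  have h1 : x₂ ≫ p = 0 := by
    rw [← cancel_mono j, zero_comp, Category.assoc]
    exact hx₂
  obtain ⟨A₁, π₁, hπ₁, z, hz⟩ := h.exact_up_to_refinements x₂ h1
  obtain ⟨A₂, π₂, hπ₂, y, hy⟩ := surjective_up_to_refinements_of_epi q z
  refine ⟨A₂, π₂ ≫ π₁, epi_comp' hπ₂ hπ₁, y, ?_⟩
  change (π₂ ≫ π₁) ≫ x₂ = y ≫ q ≫ i
  have hz' : π₁ ≫ x₂ = z ≫ i := hz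
  rw [Category.assoc, hz', ← Category.assoc, hy, Category.assoc]

lemma exact_congr {X₁ X₂ X₃ : B} {f f' : X₁ ⟶ X₂} {g g' : X₂ ⟶ X₃} (hf : f = f') (hg : g = g')
    (w : f ≫ g = 0) (w' : f' ≫ g' = 0) :
    (ShortComplex.mk f g w).Exact ↔ (ShortComplex.mk f' g' w').Exact := by
  subst hf hg
  rfl

end Splice

variable {A : Type u} [Category.{v} A] [Abelian A] {T : A ⥤ A ⥤ A}
  [∀ X, (T.obj X).Additive] [∀ X, PreservesFiniteColimits (T.obj X)]
  [∀ Y, (T.flip.obj Y).Additive] [∀ Y, PreservesFiniteColimits (T.flip.obj Y)]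

section Seq

variable (hE : EnoughFlats T) (X : ℕ → A) (d : ∀ n, X (n + 1) ⟶ X n)
  (hd : ∀ n, d (n + 1) ≫ d n = 0)
  (hex : ∀ n, (ShortComplex.mk (d (n + 1)) (d n) (hd n)).Exact)
  (h0 : Epi (d 0)) (hX : ∀ n, (T.obj (X n)).PreservesMonomorphisms)

/-- the objects of cycles: `W 0 = X 0`, `W (n+1) = ker (d n)` -/
noncomputable def W : ℕ → A
  | 0 => X 0
  | (n + 1) => kernel (d n)

/-- the inclusion `W (n+1) ⟶ X (n+1)` -/
noncomputable def ιW (n : ℕ) : W X d (n + 1) ⟶ X (n + 1) := kernel.ι (d n)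

/-- the projection `X (n+1) ⟶ W n` -/
noncomputable def πW : ∀ n : ℕ, X (n + 1) ⟶ W X d n
  | 0 => d 0
  | (n + 1) => kernel.lift (d n) (d (n + 1)) (hd n)

lemma πW_ιW (n : ℕ) : πW X d hd (n + 1) ≫ ιW X d n = d (n + 1) :=
  kernel.lift_ι _ _ _

instance mono_ιW (n : ℕ) : Mono (ιW X d n) := inferInstanceAs (Mono (kernel.ι (d n)))

lemma ιW_d (n : ℕ) : ιW X d n ≫ d n = 0 := kernel.condition (d n)

lemma ιW_πW (n : ℕ) : ιW X d n ≫ πW X d hd n = 0 := by
  cases n with
  | zero => exact kernel.condition (d 0)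
  | succ n =>
    rw [← cancel_mono (ιW X d n), zero_comp, Category.assoc, πW_ιW, ιW_d]

include hex h0 in
lemma epi_πW (n : ℕ) : Epi (πW X d hd n) := by
  cases n with
  | zero => exact h0
  | succ n => exact (ShortComplex.exact_iff_epi_kernel_lift _).1 (hex n)

/-- the short exact sequences `0 → W (n+1) → X (n+1) → W n → 0` -/
noncomputable def ses (n : ℕ) : ShortComplex A :=
  ShortComplex.mk (ιW X d n) (πW X d hd n) (ιW_πW X d hd n)

include hex h0 in
lemma ses_shortExact (n : ℕ) : (ses X d hd n).ShortExact := by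
  have hmono : Mono (ιW X d n) := inferInstanceAs (Mono (kernel.ι (d n)))
  have hepi : Epi (πW X d hd n) := epi_πW X d hd hex h0 n
  refine { exact := ?_, mono_f := hmono, epi_g := hepi }
  cases n with
  | zero => exact ShortComplex.exact_of_f_is_kernel _ (kernelIsKernel (d 0))
  | succ n =>
    -- `ker (πW (n+1)) = ker (d (n+1))` since `ιW n` is mono
    refine ShortComplex.exact_of_f_is_kernel _ ?_
    have key : ∀ {Z : A} (x : Z ⟶ X (n + 2)), x ≫ πW X d hd (n + 1) = 0 → x ≫ d (n + 1) = 0 := by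
      intro Z x hx
      rw [← πW_ιW X d hd n, ← Category.assoc, hx, zero_comp]
    refine KernelFork.IsLimit.ofι _ _ (fun {Z} x hx => kernel.lift (d (n + 1)) x (key x hx)) ?_ ?_
    · intro Z x hx
      exact kernel.lift_ι _ _ _
    · intro Z x hx b hb
      apply (cancel_mono (ιW X d (n + 1))).1
      exact hb.trans (kernel.lift_ι _ _ _).symm

include hE hex h0 hX in
lemma flat_W (n : ℕ) : (T.obj (W X d n)).PreservesMonomorphisms := by
  induction n with
  | zero => exact hX 0
  | succ n ih =>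
    exact preservesMono_X₁ hE (ses X d hd n) (ses_shortExact X d hd hex h0 n) (hX (n + 1)) ih

include hE hex h0 hX in
/-- an exact sequence `… → X 2 → X 1 → X 0 → 0` of flat objects stays exact after `- ⊗ F` -/
theorem exact_map_seq (F : A) (n : ℕ)
    (w : (T.flip.obj F).map (d (n + 1)) ≫ (T.flip.obj F).map (d n) = 0) :
    (ShortComplex.mk ((T.flip.obj F).map (d (n + 1))) ((T.flip.obj F).map (d n)) w).Exact := by
  have hses : ∀ m, ((ses X d hd m).map (T.flip.obj F)).ShortExact := fun m =>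
    shortExact_map_flip hE (ses X d hd m) (ses_shortExact X d hd hex h0 m)
      (flat_W hE X d hd hex h0 hX m) F
  have hepi : Epi ((T.flip.obj F).map (πW X d hd (n + 1))) := by
    have := epi_πW X d hd hex h0 (n + 1)
    infer_instance
  have e1 : (T.flip.obj F).map (d (n + 1)) =
      (T.flip.obj F).map (πW X d hd (n + 1)) ≫ (T.flip.obj F).map (ιW X d n) := by
    rw [← Functor.map_comp, πW_ιW]
  cases n with
  | zero =>
    have h := exact_splice ((T.flip.obj F).map (πW X d hd 1)) ((T.flip.obj F).map (ιW X d 0))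
      ((T.flip.obj F).map (d 0)) (𝟙 _) ((ses X d hd 0).map (T.flip.obj F)).zero (hses 0).exact (by
        rw [Category.comp_id, ← e1]; exact w)
    exact (exact_congr e1 (Category.comp_id _).symm _ _).2 h
  | succ m =>
    have hmono : Mono ((T.flip.obj F).map (ιW X d m)) := (hses m).mono_f
    have e3 : (T.flip.obj F).map (d (m + 1)) =
        (T.flip.obj F).map (πW X d hd (m + 1)) ≫ (T.flip.obj F).map (ιW X d m) := by
      rw [← Functor.map_comp, πW_ιW]
    have h := exact_splice ((T.flip.obj F).map (πW X d hd (m + 2)))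
      ((T.flip.obj F).map (ιW X d (m + 1))) ((T.flip.obj F).map (πW X d hd (m + 1)))
      ((T.flip.obj F).map (ιW X d m)) ((ses X d hd (m + 1)).map (T.flip.obj F)).zero
      (hses (m + 1)).exact (by rw [← e1, ← e3]; exact w)
    exact (exact_congr e1 e3 _ _).2 h

end Seq

end Groth.Agent.Lib.AbTensorFlat
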