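import Mathlib

set_option autoImplicit false
universe u
open Cardinal

namespace Groth.Agent.Lib.UncountableAvoid97

/-- A field extension of countable dimension over an uncountable field is algebraic. -/
theorem isAlgebraic_of_rank_le_aleph0 (k L : Type u) [Field k] [Field L] [Algebra k L]
    [Uncountable k] (h : Module.rank k L ≤ ℵ₀) : Algebra.IsAlgebraic k L := by
  by_contra hna
  rw [← Algebra.transcendental_iff_not_isAlgebraic] at hna
  have h1 := Algebra.Transcendental.rank_eq_cardinalMk k L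
  have h2 : #k ≤ #L := Cardinal.mk_le_of_injective (algebraMap k L).injective
  have h3 : ℵ₀ < #k := Cardinal.aleph0_lt_mk_iff.mpr inferInstance
  exact absurd (h3.trans_le (h2.trans (h1 ▸ h))) (lt_irrefl _)

/-- Over an uncountable algebraically closed field, a finitely generated domain has a maximal
ideal avoiding any given countable family of nonzero elements. -/
theorem exists_isMaximal_forall_notMem (k D : Type u) [Field k] [IsAlgClosed k] [Uncountable k]
    [CommRing D] [IsDomain D] [Algebra k D] [Algebra.FiniteType k D] (f : ℕ → D)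
    (hf : ∀ n, f n ≠ 0) : ∃ m : Ideal D, m.IsMaximal ∧ ∀ n, f n ∉ m := by
  classical
  let K := FractionRing D
  obtain ⟨s, hs⟩ := (Algebra.FiniteType.out : (⊤ : Subalgebra k D).FG)
  let G : Set K := (algebraMap D K '' (s : Set D)) ∪ Set.range (fun n => (algebraMap D K (f n))⁻¹)
  have hG : G.Countable := (s.countable_toSet.image _).union (Set.countable_range _)
  let E : Subalgebra k K := Algebra.adjoin k G
  have hrankE : Module.rank k E ≤ ℵ₀ := by
    refine (Algebra.rank_adjoin_le G).trans (max_le ?_ le_rfl)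
    exact Cardinal.mk_le_aleph0_iff.mpr hG.to_subtype
  have hDE : ∀ d : D, algebraMap D K d ∈ E := by
    intro d
    have h1 : (IsScalarTower.toAlgHom k D K).range ≤ E := by
      rw [← Algebra.map_top, ← hs, AlgHom.map_adjoin]
      exact Algebra.adjoin_mono (fun x hx => Or.inl hx)
    exact h1 ⟨d, rfl⟩
  let g : D →ₐ[k] E := (IsScalarTower.toAlgHom k D K).codRestrict E hDE
  obtain ⟨M, hM⟩ := Ideal.exists_maximal E
  let _ : Field (E ⧸ M) := Ideal.Quotient.field M
  have hrankL : Module.rank k (E ⧸ M) ≤ ℵ₀ :=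
    (LinearMap.rank_le_of_surjective (Ideal.Quotient.mkₐ k M).toLinearMap
      (Ideal.Quotient.mkₐ_surjective k M)).trans hrankE
  have halg : Algebra.IsAlgebraic k (E ⧸ M) := isAlgebraic_of_rank_le_aleph0 k _ hrankL
  have hint : Algebra.IsIntegral k (E ⧸ M) := Algebra.IsAlgebraic.isIntegral
  have hbij : Function.Surjective (algebraMap k (E ⧸ M)) :=
    (IsAlgClosed.algebraMap_bijective_of_isIntegral (k := k) (K := E ⧸ M)).2
  let h : D →ₐ[k] (E ⧸ M) := (Ideal.Quotient.mkₐ k M).comp g
  have hsurj : Function.Surjective h := by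
    intro l
    obtain ⟨c, rfl⟩ := hbij l
    exact ⟨algebraMap k D c, h.commutes c⟩
  refine ⟨RingHom.ker h.toRingHom, RingHom.ker_isMaximal_of_surjective _ hsurj, fun n hn => ?_⟩
  have hinv : (algebraMap D K (f n))⁻¹ ∈ E := Algebra.subset_adjoin (Or.inr ⟨n, rfl⟩)
  have hne : algebraMap D K (f n) ≠ 0 := by
    simpa using hf n
  have h1 : g (f n) * ⟨_, hinv⟩ = 1 := by
    apply Subtype.ext
    exact mul_inv_cancel₀ hne
  have h2 : h (f n) * Ideal.Quotient.mk M ⟨_, hinv⟩ = 1 := by
    change Ideal.Quotient.mk M (g (f n)) * _ = 1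
    rw [← map_mul, h1, map_one]
  have h3 : h (f n) = 0 := hn
  rw [h3, zero_mul] at h2
  exact zero_ne_one h2

/-- Ring-hom version: `A` of finite type over an uncountable algebraically closed field `k`,
`P` a prime of `A`, `f n ∉ P` for all `n`; then some maximal ideal `m ⊇ P` avoids all `f n`. -/
theorem exists_isMaximal_ge_forall_notMem (k A : Type u) [Field k] [IsAlgClosed k] [Uncountable k]
    [CommRing A] (φ : k →+* A) (hφ : φ.FiniteType) (P : Ideal A) [P.IsPrime] (f : ℕ → A)
    (hf : ∀ n, f n ∉ P) : ∃ m : Ideal A, m.IsMaximal ∧ P ≤ m ∧ ∀ n, f n ∉ m := by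
  let _ : Algebra k A := φ.toAlgebra
  have hft : Algebra.FiniteType k A := hφ
  have hftD : Algebra.FiniteType k (A ⧸ P) :=
    Algebra.FiniteType.of_surjective (Ideal.Quotient.mkₐ k P) (Ideal.Quotient.mkₐ_surjective k P)
  obtain ⟨mD, hmD, hfD⟩ := exists_isMaximal_forall_notMem k (A ⧸ P)
    (fun n => Ideal.Quotient.mk P (f n)) (fun n h => hf n (Ideal.Quotient.eq_zero_iff_mem.mp h))
  refine ⟨mD.comap (Ideal.Quotient.mk P), Ideal.comap_isMaximal_of_surjective _
    Ideal.Quotient.mk_surjective, fun a ha => ?_, fun n hn => hfD n hn⟩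
  rw [Ideal.mem_comap, Ideal.Quotient.eq_zero_iff_mem.mpr ha]
  exact mD.zero_mem

open AlgebraicGeometry CategoryTheory TopologicalSpace

/-- On a scheme locally of finite type over an uncountable algebraically closed field, given an
irreducible closed set `T`, an open `W` meeting `T` and countably many closed sets `Z n` none of
which contains `T`, there is a closed point of `T ∩ W` outside all `Z n`. -/
theorem exists_closedPoint_avoiding (k : Type u) [Field k] [IsAlgClosed k] [Uncountable k]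
    (X : Scheme.{u}) (sX : X ⟶ Spec (CommRingCat.of k)) [LocallyOfFiniteType sX]
    (T : Set X) (hT : IsIrreducible T) (hTc : IsClosed T) (W : Set X) (hW : IsOpen W)
    (hTW : (T ∩ W).Nonempty) (Z : ℕ → Set X) (hZc : ∀ n, IsClosed (Z n))
    (hZ : ∀ n, ¬ T ⊆ Z n) :
    ∃ x ∈ T ∩ W, IsClosed ({x} : Set X) ∧ ∀ n, x ∉ Z n := by
  have hJ : JacobsonSpace X := LocallyOfFiniteType.jacobsonSpace sX
  obtain ⟨η, hη⟩ := QuasiSober.sober hT hTc
  have hηT : closure {η} = T := hη
  obtain ⟨y, hyT, hyW⟩ := hTW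
  have hηy : η ⤳ y := by
    rw [specializes_iff_mem_closure, hηT]; exact hyT
  have hηW : η ∈ W := hηy.mem_open hW hyW
  have hηZ : ∀ n, η ∉ Z n := by
    intro n hn
    apply hZ n
    rw [← hηT]
    exact (hZc n).closure_subset_iff.mpr (Set.singleton_subset_iff.mpr hn)
  obtain ⟨U, hU, hηU, hUW⟩ := (Opens.isBasis_iff_nbhd.mp X.isBasis_affineOpens)
    (show η ∈ (⟨W, hW⟩ : Opens X) from hηW)
  have hU : IsAffineOpen U := hU
  let φ : k →+* Γ(X, U) := (sX.appLE ⊤ U le_top).hom.comp (Scheme.ΓSpecIso (.of k)).inv.hom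
  have hφ : φ.FiniteType := by
    refine RingHom.FiniteType.comp (LocallyOfFiniteType.finiteType_appLE sX (isAffineOpen_top _) hU le_top) ?_
    exact RingHom.FiniteType.of_surjective _
      (ConcreteCategory.bijective_of_isIso (Scheme.ΓSpecIso (.of k)).inv).2
  let P : PrimeSpectrum Γ(X, U) := hU.primeIdealOf ⟨η, hηU⟩
  have hPη : hU.fromSpec P = η := hU.fromSpec_primeIdealOf ⟨η, hηU⟩
  have hex : ∀ n, ∃ f : Γ(X, U), X.basicOpen f ≤ ⟨(Z n)ᶜ, (hZc n).isOpen_compl⟩ ∧
      η ∈ X.basicOpen f := fun n =>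
    hU.exists_basicOpen_le (V := ⟨(Z n)ᶜ, (hZc n).isOpen_compl⟩) ⟨η, hηZ n⟩ hηU
  choose f hfZ hfη using hex
  have hmem : ∀ (Q : PrimeSpectrum Γ(X, U)) (a : Γ(X, U)),
      hU.fromSpec Q ∈ X.basicOpen a ↔ a ∉ Q.asIdeal := by
    intro Q a
    have := hU.fromSpec_preimage_basicOpen a
    constructor
    · intro h
      have h' : Q ∈ hU.fromSpec ⁻¹ᵁ X.basicOpen a := h
      rw [this] at h'
      exact h'
    · intro h
      have h' : Q ∈ hU.fromSpec ⁻¹ᵁ X.basicOpen a := by
        rw [this]; exact h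
      exact h'
  have hfP : ∀ n, f n ∉ P.asIdeal := fun n => (hmem P (f n)).mp (hPη ▸ hfη n)
  obtain ⟨m, hm, hPm, hfm⟩ := exists_isMaximal_ge_forall_notMem k Γ(X, U) φ hφ P.asIdeal f hfP
  let Q : PrimeSpectrum Γ(X, U) := ⟨m, hm.isPrime⟩
  refine ⟨hU.fromSpec Q, ⟨?_, ?_⟩, ?_, ?_⟩
  · -- in T
    have hsp : P ⤳ Q := (PrimeSpectrum.le_iff_specializes P Q).mp hPm
    have := hsp.map hU.fromSpec.continuous
    rw [hPη] at this
    rw [← hηT]
    exact specializes_iff_mem_closure.mp this
  · apply hUW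
    have : hU.fromSpec Q ∈ hU.fromSpec.opensRange := ⟨Q, rfl⟩
    rw [hU.opensRange_fromSpec] at this
    exact this
  · have hQ : IsClosed ({Q} : Set (PrimeSpectrum Γ(X, U))) :=
      (PrimeSpectrum.isClosed_singleton_iff_isMaximal Q).mpr hm
    have h1 := hU.fromSpec.isOpenEmbedding.preimage_closedPoints
    have h2 : Q ∈ closedPoints (Spec Γ(X, U)) := hQ
    rw [← h1] at h2
    exact h2
  · intro n hn
    exact hfZ n ((hmem Q (f n)).mpr (hfm n)) hn

end Groth.Agent.Lib.UncountableAvoid97
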