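import Mathlib
import Groth.Agent.Lib.UncountableAvoid97

set_option autoImplicit false
universe u
open AlgebraicGeometry CategoryTheory TopologicalSpace

namespace Groth.Agent.Lib.IrredDecomp97

/-- In a partial order, if every element has finite coheight, every element of a set lies below
a maximal element of that set. -/
theorem exists_maximal_ge_of_coheight_lt_top {α : Type*} [PartialOrder α]
    (h : ∀ a : α, Order.coheight a < ⊤) (C : Set α) (a : α) (ha : a ∈ C) :
    ∃ b ∈ C, a ≤ b ∧ ∀ c ∈ C, b ≤ c → c = b := by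
  let C' : Set α := {b | b ∈ C ∧ a ≤ b}
  have hne : (Order.coheight '' C').Nonempty := ⟨_, a, ⟨ha, le_rfl⟩, rfl⟩
  obtain ⟨m, ⟨b, ⟨hbC, hab⟩, rfl⟩, hmin⟩ := (wellFounded_lt (α := ℕ∞)).has_min _ hne
  refine ⟨b, hbC, hab, fun c hcC hbc => ?_⟩
  by_contra hne'
  have hlt : b < c := lt_of_le_of_ne hbc (Ne.symm hne')
  have : Order.coheight c < Order.coheight b := Order.coheight_strictAnti hlt (h c)
  exact hmin _ ⟨c, ⟨hcC, hab.trans hbc⟩, rfl⟩ this

attribute [local instance] specializationOrder in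
/-- In a locally Noetherian scheme, every irreducible closed subset has finite coheight. -/
theorem coheight_irreducibleCloseds_lt_top (X : Scheme.{u}) [IsLocallyNoetherian X]
    (T : IrreducibleCloseds X) : Order.coheight T < ⊤ := by
  rw [← Order.coheight_orderIso (irreducibleSetEquivPoints (α := X)) T]
  have h1 := ringKrullDim_stalk_eq_coheight (irreducibleSetEquivPoints (α := X) T)
  have h2 : ringKrullDim (X.presheaf.stalk (irreducibleSetEquivPoints (α := X) T)) < ⊤ :=
    ringKrullDim_lt_top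
  rw [h1] at h2
  exact WithBot.coe_lt_coe.mp (h2.trans_le le_rfl)

/-- ACC-type statement for sets of irreducible closed subsets of a locally Noetherian scheme. -/
theorem exists_maximal_ge (X : Scheme.{u}) [IsLocallyNoetherian X] (C : Set (Closeds X))
    (hC : ∀ T ∈ C, IsIrreducible (T : Set X)) (T : Closeds X) (hT : T ∈ C) :
    ∃ T' ∈ C, T ≤ T' ∧ ∀ T'' ∈ C, T' ≤ T'' → T'' = T' := by
  let ι : IrreducibleCloseds X → Closeds X := fun T => ⟨T, T.isClosed⟩
  have hι : ∀ a b : IrreducibleCloseds X, ι a ≤ ι b ↔ a ≤ b := fun a b => Iff.rfl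
  obtain ⟨b, hbC, hab, hmax⟩ := exists_maximal_ge_of_coheight_lt_top
    (coheight_irreducibleCloseds_lt_top X) (ι ⁻¹' C) ⟨T, hC T hT, T.isClosed⟩ hT
  refine ⟨ι b, hbC, hab, fun T'' hT'' hle => ?_⟩
  have := hmax ⟨T'', hC T'' hT'', T''.isClosed⟩ hT'' hle
  rw [← this]
  rfl

/-- If all closed points of an irreducible closed `T` lie in the union of a countable family
`S'` of closed subsets, then `T` is contained in a member of `S'`. -/
theorem exists_le_of_closedPoints_subset (k : Type u) [Field k] [IsAlgClosed k] [Uncountable k]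
    (X : Scheme.{u}) (sX : X ⟶ Spec (CommRingCat.of k)) [LocallyOfFiniteType sX]
    (T : Closeds X) (hT : IsIrreducible (T : Set X)) (S' : Set (Closeds X)) (hS' : S'.Countable)
    (h : ∀ x ∈ T, IsClosed ({x} : Set X) → ∃ T' ∈ S', x ∈ T') : ∃ T' ∈ S', T ≤ T' := by
  by_contra hno
  push Not at hno
  obtain ⟨f, hf⟩ := (hS'.insert ⊥).exists_eq_range (Set.insert_nonempty _ _)
  have hfn : ∀ n, ¬ (T : Set X) ⊆ (f n : Set X) := by
    intro n hsub
    have hmem : f n ∈ insert ⊥ S' := hf ▸ Set.mem_range_self n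
    rcases hmem with h0 | hmem
    · rw [h0] at hsub
      obtain ⟨y, hy⟩ := hT.nonempty
      exact hsub hy
    · exact hno _ hmem hsub
  obtain ⟨x, ⟨hxT, -⟩, hxc, hxf⟩ :=
    Groth.Agent.Lib.UncountableAvoid97.exists_closedPoint_avoiding k X sX (T : Set X) hT
      T.isClosed Set.univ isOpen_univ (by simpa using hT.nonempty)
      (fun n => (f n : Set X)) (fun n => (f n).isClosed) hfn
  obtain ⟨T', hT', hxT'⟩ := h x hxT hxc
  have : T' ∈ Set.range f := hf ▸ Set.mem_insert_of_mem _ hT'
  obtain ⟨n, rfl⟩ := this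
  exact hxf n hxT'

end Groth.Agent.Lib.IrredDecomp97
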