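import Mathlib
import Groth.Agent.Lib.IrredDecomp97

set_option autoImplicit false
universe u
open CategoryTheory MonoidalCategory CartesianMonoidalCategory MonObj GrpObj AlgebraicGeometry
open TopologicalSpace

namespace Groth.Agent.Lib.AbVarComp97

variable {k : Type u} [Field k] (A : Over (Spec (CommRingCat.of k))) [GrpObj A]

/-- the image point of a `k`-point -/
noncomputable def pt (x : 𝟙_ (Over (Spec (CommRingCat.of k))) ⟶ A) : A.left :=
  x.left (IsLocalRing.closedPoint k)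

variable {A}

omit [GrpObj A] in
lemma range_subset_iff (x : 𝟙_ (Over (Spec (CommRingCat.of k))) ⟶ A) (T : Set A.left) :
    Set.range ⇑x.left.base ⊆ T ↔ pt A x ∈ T := by
  constructor
  · intro h
    exact h ⟨IsLocalRing.closedPoint k, rfl⟩
  · rintro h _ ⟨z, rfl⟩
    have : z = IsLocalRing.closedPoint k :=
      Subsingleton.elim (α := ↥(Spec (CommRingCat.of k))) _ _
    rw [this]; exact h

omit [GrpObj A] in
lemma pt_comp (x : 𝟙_ (Over (Spec (CommRingCat.of k))) ⟶ A) (f : A ⟶ A) :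
    pt A (x ≫ f) = f.left (pt A x) := by
  unfold pt
  rw [Over.comp_left, Scheme.Hom.comp_apply]

/-- right translation -/
noncomputable def Rt (y : 𝟙_ (Over (Spec (CommRingCat.of k))) ⟶ A) : A ⟶ A :=
  𝟙 A * (toUnit A ≫ y)

/-- left translation -/
noncomputable def Lt (x : 𝟙_ (Over (Spec (CommRingCat.of k))) ⟶ A) : A ⟶ A :=
  (toUnit A ≫ x) * 𝟙 A

lemma comp_Rt (x y : 𝟙_ (Over (Spec (CommRingCat.of k))) ⟶ A) : x ≫ Rt y = x * y := by
  have : x ≫ toUnit A = 𝟙 _ := toUnit_unique _ _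
  rw [Rt, MonObj.comp_mul, Category.comp_id, ← Category.assoc, this, Category.id_comp]

lemma comp_Lt (x y : 𝟙_ (Over (Spec (CommRingCat.of k))) ⟶ A) : y ≫ Lt x = x * y := by
  have : y ≫ toUnit A = 𝟙 _ := toUnit_unique _ _
  rw [Lt, MonObj.comp_mul, Category.comp_id, ← Category.assoc, this, Category.id_comp]

lemma Rt_comp_Rt (y y' : 𝟙_ (Over (Spec (CommRingCat.of k))) ⟶ A) :
    Rt y ≫ Rt y' = Rt (y * y') := by
  conv_lhs => rw [Rt.eq_def y', MonObj.comp_mul]
  rw [Category.comp_id, ← Category.assoc]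
  have : Rt y ≫ toUnit A = toUnit A := toUnit_unique _ _
  rw [this, Rt, Rt, _root_.mul_assoc, ← MonObj.comp_mul]

lemma Rt_one : Rt (1 : 𝟙_ (Over (Spec (CommRingCat.of k))) ⟶ A) = 𝟙 A := by
  rw [Rt, MonObj.comp_one, _root_.mul_one]

lemma Lt_comp_Lt (x x' : 𝟙_ (Over (Spec (CommRingCat.of k))) ⟶ A) :
    Lt x ≫ Lt x' = Lt (x' * x) := by
  conv_lhs => rw [Lt.eq_def x', MonObj.comp_mul]
  rw [Category.comp_id, ← Category.assoc]
  have : Lt x ≫ toUnit A = toUnit A := toUnit_unique _ _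
  rw [this, Lt, Lt, ← _root_.mul_assoc, ← MonObj.comp_mul]

lemma Lt_one : Lt (1 : 𝟙_ (Over (Spec (CommRingCat.of k))) ⟶ A) = 𝟙 A := by
  rw [Lt, MonObj.comp_one, _root_.one_mul]

lemma Rt_apply_pt (x y : 𝟙_ (Over (Spec (CommRingCat.of k))) ⟶ A) :
    (Rt y).left (pt A x) = pt A (x * y) := by
  rw [← pt_comp, comp_Rt]

lemma Lt_apply_pt (x y : 𝟙_ (Over (Spec (CommRingCat.of k))) ⟶ A) :
    (Lt x).left (pt A y) = pt A (x * y) := by
  rw [← pt_comp, comp_Lt]

lemma Rt_inv_apply (y : 𝟙_ (Over (Spec (CommRingCat.of k))) ⟶ A) (g : A.left) :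
    (Rt y).left ((Rt y⁻¹).left g) = g := by
  have : Rt y⁻¹ ≫ Rt y = 𝟙 A := by rw [Rt_comp_Rt, inv_mul_cancel, Rt_one]
  have h2 := congrArg (fun f : A ⟶ A => f.left g) this
  simpa using h2

lemma Rt_inv_apply' (y : 𝟙_ (Over (Spec (CommRingCat.of k))) ⟶ A) (g : A.left) :
    (Rt y⁻¹).left ((Rt y).left g) = g := by
  have : Rt y ≫ Rt y⁻¹ = 𝟙 A := by rw [Rt_comp_Rt, mul_inv_cancel, Rt_one]
  have h2 := congrArg (fun f : A ⟶ A => f.left g) this
  simpa using h2

lemma Lt_inv_apply (y : 𝟙_ (Over (Spec (CommRingCat.of k))) ⟶ A) (g : A.left) :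
    (Lt y).left ((Lt y⁻¹).left g) = g := by
  have : Lt y⁻¹ ≫ Lt y = 𝟙 A := by rw [Lt_comp_Lt, mul_inv_cancel, Lt_one]
  have h2 := congrArg (fun f : A ⟶ A => f.left g) this
  simpa using h2

lemma Lt_inv_apply' (y : 𝟙_ (Over (Spec (CommRingCat.of k))) ⟶ A) (g : A.left) :
    (Lt y⁻¹).left ((Lt y).left g) = g := by
  have : Lt y ≫ Lt y⁻¹ = 𝟙 A := by rw [Lt_comp_Lt, inv_mul_cancel, Lt_one]
  have h2 := congrArg (fun f : A ⟶ A => f.left g) this
  simpa using h2

lemma isIrreducible_preimage_of_inverse {X : Type*} [TopologicalSpace X] (f f' : X → X)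
    (hf' : Continuous f') (h1 : ∀ x, f (f' x) = x) (h2 : ∀ x, f' (f x) = x)
    (T : Set X) (hT : IsIrreducible T) : IsIrreducible (f ⁻¹' T) := by
  have : f ⁻¹' T = f' '' T := by
    ext x
    constructor
    · intro hx; exact ⟨f x, hx, h2 x⟩
    · rintro ⟨t, ht, rfl⟩
      change f (f' t) ∈ T
      rw [h1]; exact ht
  rw [this]
  exact hT.image f' hf'.continuousOn

/-- preimage of a closed set under right translation -/
noncomputable def trR (y : 𝟙_ (Over (Spec (CommRingCat.of k))) ⟶ A) (T : Closeds A.left) :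
    Closeds A.left :=
  ⟨(Rt y).left ⁻¹' (T : Set A.left), T.isClosed.preimage (Rt y).left.continuous⟩

/-- preimage of a closed set under left translation -/
noncomputable def trL (x : 𝟙_ (Over (Spec (CommRingCat.of k))) ⟶ A) (T : Closeds A.left) :
    Closeds A.left :=
  ⟨(Lt x).left ⁻¹' (T : Set A.left), T.isClosed.preimage (Lt x).left.continuous⟩

lemma mem_trR (y : 𝟙_ (Over (Spec (CommRingCat.of k))) ⟶ A) (T : Closeds A.left) (g : A.left) :
    g ∈ trR y T ↔ (Rt y).left g ∈ T := Iff.rfl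

lemma mem_trL (y : 𝟙_ (Over (Spec (CommRingCat.of k))) ⟶ A) (T : Closeds A.left) (g : A.left) :
    g ∈ trL y T ↔ (Lt y).left g ∈ T := Iff.rfl

lemma isIrreducible_trR (y : 𝟙_ (Over (Spec (CommRingCat.of k))) ⟶ A) (T : Closeds A.left)
    (hT : IsIrreducible (T : Set A.left)) : IsIrreducible (trR y T : Set A.left) :=
  isIrreducible_preimage_of_inverse _ _ (Rt y⁻¹).left.continuous (Rt_inv_apply y)
    (Rt_inv_apply' y) _ hT

lemma isIrreducible_trL (y : 𝟙_ (Over (Spec (CommRingCat.of k))) ⟶ A) (T : Closeds A.left)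
    (hT : IsIrreducible (T : Set A.left)) : IsIrreducible (trL y T : Set A.left) :=
  isIrreducible_preimage_of_inverse _ _ (Lt y⁻¹).left.continuous (Lt_inv_apply y)
    (Lt_inv_apply' y) _ hT

section AlgClosed

variable [IsAlgClosed k] [LocallyOfFiniteType A.hom]

omit [GrpObj A] in
lemma exists_pt_eq (g : A.left) (hg : IsClosed ({g} : Set A.left)) :
    ∃ x : 𝟙_ (Over (Spec (CommRingCat.of k))) ⟶ A, pt A x = g := by
  obtain ⟨⟨p, hp⟩, e⟩ := (pointEquivClosedPoint A.hom).surjective ⟨g, hg⟩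
  refine ⟨Over.homMk p (by simpa using hp), ?_⟩
  exact congr(($e).1)

omit [GrpObj A] in
lemma isClosed_pt (x : 𝟙_ (Over (Spec (CommRingCat.of k))) ⟶ A) :
    IsClosed ({pt A x} : Set A.left) :=
  ((pointEquivClosedPoint A.hom) ⟨x.left, by simp⟩).2

omit [GrpObj A] in
/-- if all closed points of an irreducible closed `T` lie in a closed `C`, then `T ≤ C`. -/
lemma le_of_closedPoints_mem [Uncountable k] (T C : Closeds A.left)
    (hT : IsIrreducible (T : Set A.left))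
    (h : ∀ x : 𝟙_ (Over (Spec (CommRingCat.of k))) ⟶ A, pt A x ∈ T → pt A x ∈ C) : T ≤ C := by
  obtain ⟨T', hT', hle⟩ := Groth.Agent.Lib.IrredDecomp97.exists_le_of_closedPoints_subset k A.left
    A.hom T hT {C} (Set.countable_singleton C) (fun g hgT hgc => by
      obtain ⟨x, rfl⟩ := exists_pt_eq g hgc
      exact ⟨C, rfl, h x hgT⟩)
  rw [Set.mem_singleton_iff.mp hT'] at hle
  exact hle

omit [LocallyOfFiniteType A.hom] in
theorem main [Uncountable k] [IsProper A.hom]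
    (K : Subgroup (𝟙_ (Over (Spec (CommRingCat.of k))) ⟶ A)) (Z : ℕ → Closeds A.left)
    (hK : ∀ x : 𝟙_ (Over (Spec (CommRingCat.of k))) ⟶ A,
      x ∈ K ↔ pt A x ∈ ⋃ n, (Z n : Set A.left))
    (adm : Closeds A.left → Prop)
    (hadm : ∀ T, adm T ↔ (IsIrreducible (T : Set A.left) ∧
      ∀ x : 𝟙_ (Over (Spec (CommRingCat.of k))) ⟶ A, pt A x ∈ T → x ∈ K)) :
    (∃! T : Closeds A.left, Maximal adm T ∧ pt A 1 ∈ T) ∧
    ∀ T : Closeds A.left, Maximal adm T → pt A 1 ∈ T →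
      (∃ n, (T : Set A.left) ⊆ (Z n : Set A.left)) ∧
      ∀ x y : 𝟙_ (Over (Spec (CommRingCat.of k))) ⟶ A, pt A x ∈ T → pt A y ∈ T →
        pt A (x * y⁻¹) ∈ T := by
  classical
  have hLN : IsLocallyNoetherian A.left := LocallyOfFiniteType.isLocallyNoetherian A.hom
  have hcpt : CompactSpace A.left := QuasiCompact.compactSpace_of_compactSpace A.hom
  have hN : IsNoetherian A.left := { }
  have hNS : NoetherianSpace A.left := inferInstance
  -- Step A
  have stepA : ∀ T, adm T → ∃ n, T ≤ Z n := by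
    intro T hT
    rw [hadm] at hT
    obtain ⟨T', ⟨n, rfl⟩, hle⟩ :=
      Groth.Agent.Lib.IrredDecomp97.exists_le_of_closedPoints_subset k A.left
        A.hom T hT.1 (Set.range Z) (Set.countable_range Z) (fun g hgT hgc => by
          obtain ⟨x, rfl⟩ := exists_pt_eq g hgc
          have hx := (hK x).mp (hT.2 x hgT)
          obtain ⟨n, hn⟩ := Set.mem_iUnion.mp hx
          exact ⟨Z n, ⟨n, rfl⟩, hn⟩)
    exact ⟨n, hle⟩
  -- Step B
  have stepB : ∀ (T : Closeds A.left) (n : ℕ), IsIrreducible (T : Set A.left) → T ≤ Z n →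
      adm T := by
    intro T n hT hle
    rw [hadm]
    exact ⟨hT, fun x hx => (hK x).mpr (Set.mem_iUnion.mpr ⟨n, hle hx⟩)⟩
  -- Step C
  have stepCR : ∀ (y : 𝟙_ (Over (Spec (CommRingCat.of k))) ⟶ A) (T : Closeds A.left), y ∈ K →
      adm T → adm (trR y T) := by
    intro y T hy hT
    rw [hadm] at hT ⊢
    refine ⟨isIrreducible_trR y T hT.1, fun x hx => ?_⟩
    rw [mem_trR, Rt_apply_pt] at hx
    have := hT.2 _ hx
    exact (Subgroup.mul_mem_cancel_right K hy).mp this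
  have stepCL : ∀ (y : 𝟙_ (Over (Spec (CommRingCat.of k))) ⟶ A) (T : Closeds A.left), y ∈ K →
      adm T → adm (trL y T) := by
    intro y T hy hT
    rw [hadm] at hT ⊢
    refine ⟨isIrreducible_trL y T hT.1, fun x hx => ?_⟩
    rw [mem_trL, Lt_apply_pt] at hx
    have := hT.2 _ hx
    exact (Subgroup.mul_mem_cancel_left K hy).mp this
  -- Step D
  have stepD : ∀ T, adm T → ∃ M, Maximal adm M ∧ T ≤ M := by
    intro T hT
    obtain ⟨M, hM, hTM, hmax⟩ := Groth.Agent.Lib.IrredDecomp97.exists_maximal_ge A.left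
      {T | adm T} (fun T h => ((hadm T).mp h).1) T hT
    exact ⟨M, ⟨hM, fun M' hM' hle => (hmax M' hM' hle).le⟩, hTM⟩
  -- Step E
  have stepE : adm ⟨{pt A 1}, isClosed_pt 1⟩ := by
    rw [hadm]
    refine ⟨isIrreducible_singleton, fun x hx => ?_⟩
    have hx' : pt A x = pt A 1 := hx
    rw [hK, hx', ← hK]
    exact K.one_mem
  -- decomposition of the Z n
  choose Sn hirr hsup using fun n => NoetherianSpace.exists_finset_irreducible (Z n)
  have hmemZ : ∀ n (x : A.left), x ∈ Z n ↔ ∃ T ∈ Sn n, x ∈ T := by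
    intro n x
    rw [hsup n]
    rw [← SetLike.mem_coe, TopologicalSpace.Closeds.coe_finset_sup]
    simp
  have hcomp : ∀ T, adm T → ∃ n, ∃ C ∈ Sn n, T ≤ C := by
    intro T hT
    obtain ⟨n, hn⟩ := stepA T hT
    refine ⟨n, ?_⟩
    have hTi := ((hadm T).mp hT).1
    let t : Finset (Set A.left) := Finset.image (fun C : Closeds A.left => (C : Set A.left)) (Sn n)
    have hsub : (T : Set A.left) ⊆ ⋃₀ (t : Set (Set A.left)) := by
      intro g hg
      have hg' : g ∈ Z n := hn hg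
      obtain ⟨C, hC, hgC⟩ := (hmemZ n g).mp hg'
      exact ⟨(C : Set A.left), Finset.mem_coe.mpr (Finset.mem_image.mpr ⟨C, hC, rfl⟩), hgC⟩
    obtain ⟨z, hz, hTz⟩ := (isIrreducible_iff_sUnion_isClosed.mp hTi) t (by
      intro z hz
      obtain ⟨C, -, rfl⟩ := Finset.mem_image.mp hz
      exact C.isClosed) hsub
    obtain ⟨C, hC, rfl⟩ := Finset.mem_image.mp hz
    exact ⟨C, hC, hTz⟩
  have hSn_le : ∀ n, ∀ C ∈ Sn n, C ≤ Z n := by
    intro n C hC
    rw [hsup n]
    exact Finset.le_sup (f := id) hC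
  have hSn_adm : ∀ n, ∀ C ∈ Sn n, adm C := fun n C hC =>
    stepB C n (hirr n ⟨C, hC⟩) (hSn_le n C hC)
  -- Step F
  have stepF : ∀ T₁ T₂, Maximal adm T₁ → Maximal adm T₂ → pt A 1 ∈ T₁ → pt A 1 ∈ T₂ →
      T₁ = T₂ := by
    intro T₁ T₂ h₁ h₂ he₁ he₂
    have h₁a := (hadm T₁).mp h₁.1
    have h₂a := (hadm T₂).mp h₂.1
    -- the closed sets B_C
    let B : Closeds A.left → Closeds A.left := fun C =>
      ⟨⋂ (y : 𝟙_ (Over (Spec (CommRingCat.of k))) ⟶ A) (_ : pt A y ∈ T₂),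
          (Rt y).left ⁻¹' (C : Set A.left),
        isClosed_iInter fun y => isClosed_iInter fun _ =>
          C.isClosed.preimage (Rt y).left.continuous⟩
    have hBmem : ∀ (C : Closeds A.left) (g : A.left), g ∈ B C ↔
        ∀ y : 𝟙_ (Over (Spec (CommRingCat.of k))) ⟶ A, pt A y ∈ T₂ → (Rt y).left g ∈ C := by
      intro C g
      change g ∈ (⋂ (y : 𝟙_ (Over (Spec (CommRingCat.of k))) ⟶ A) (_ : pt A y ∈ T₂),
          (Rt y).left ⁻¹' (C : Set A.left)) ↔ _
      simp only [Set.mem_iInter, Set.mem_preimage, SetLike.mem_coe]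
    let S' : Set (Closeds A.left) := ⋃ n, B '' (Sn n : Set (Closeds A.left))
    have hS'c : S'.Countable :=
      Set.countable_iUnion fun n => ((Sn n).countable_toSet).image B
    obtain ⟨B', hB', hT₁B⟩ := Groth.Agent.Lib.IrredDecomp97.exists_le_of_closedPoints_subset k
      A.left A.hom T₁ h₁a.1 S' hS'c (fun g hgT hgc => by
        obtain ⟨x, rfl⟩ := exists_pt_eq g hgc
        have hxK : x ∈ K := h₁a.2 x hgT
        obtain ⟨n, C, hC, hle⟩ := hcomp _ (stepCL x⁻¹ T₂ (K.inv_mem hxK) h₂.1)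
        refine ⟨B C, Set.mem_iUnion.mpr ⟨n, C, hC, rfl⟩, ?_⟩
        rw [hBmem]
        intro y hy
        rw [Rt_apply_pt]
        apply hle
        rw [mem_trL, Lt_apply_pt, inv_mul_cancel_left]
        exact hy)
    obtain ⟨n, hn⟩ := Set.mem_iUnion.mp hB'
    obtain ⟨C, hC, rfl⟩ := hn
    have hCadm : adm C := hSn_adm n C hC
    have hT₂C : T₂ ≤ C := by
      apply le_of_closedPoints_mem T₂ C h₂a.1
      intro y hy
      have := (hBmem C _).mp (hT₁B he₁) y hy
      rwa [Rt_apply_pt, _root_.one_mul] at this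
    have hT₁C : T₁ ≤ C := by
      apply le_of_closedPoints_mem T₁ C h₁a.1
      intro x hx
      have := (hBmem C _).mp (hT₁B hx) 1 he₂
      rwa [Rt_apply_pt, _root_.mul_one] at this
    exact le_antisymm ((h₂.2 hCadm hT₂C).trans' hT₁C) ((h₁.2 hCadm hT₁C).trans' hT₂C)
  refine ⟨?_, ?_⟩
  · obtain ⟨M, hM, hle⟩ := stepD _ stepE
    refine ⟨M, ⟨hM, hle rfl⟩, fun M' hM' => stepF M' M hM'.1 hM hM'.2 (hle rfl)⟩
  · intro T hT he
    refine ⟨stepA T hT.1, fun x y hx hy => ?_⟩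
    have hTa := (hadm T).mp hT.1
    have hyK : y ∈ K := hTa.2 y hy
    have hadm' : adm (trR y T) := stepCR y T hyK hT.1
    obtain ⟨M, hM, hle⟩ := stepD _ hadm'
    have he' : pt A 1 ∈ trR y T := by
      rw [mem_trR, Rt_apply_pt, _root_.one_mul]; exact hy
    have hMT : M = T := stepF M T hM hT (hle he') he
    have : pt A (x * y⁻¹) ∈ trR y T := by
      rw [mem_trR, Rt_apply_pt, inv_mul_cancel_right]; exact hx
    exact hMT ▸ hle this

end AlgClosed

end Groth.Agent.Lib.AbVarComp97
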