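import Mathlib.CategoryTheory.Abelian.Basic
import Mathlib.Algebra.Homology.ShortComplex.ShortExact
import Mathlib.CategoryTheory.Limits.Shapes.Biproducts

/-!
# Presenting the middle term of an extension (helper22)

In an abelian category, let `0 ⟶ F ⟶ E ⟶ G ⟶ 0` be exact and `l : P ⟶ E` be such that
`l ≫ π : P ⟶ G` is an epimorphism.  Then `E` is the cokernel of a morphism
`kernel (l ≫ π) ⟶ F ⊞ P` (`exists_iso_cokernel_of_lift`).
-/

set_option autoImplicit false
set_option linter.style.haveILetI false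
universe v u
open CategoryTheory CategoryTheory.Limits

namespace Groth.Agent.Lib.AbelianLift22

variable {𝒜 : Type u} [Category.{v} 𝒜] [Abelian 𝒜]

theorem exists_iso_cokernel_of_lift {F E G P : 𝒜} (i : F ⟶ E) (π : E ⟶ G) (w : i ≫ π = 0)
    (hS : (ShortComplex.mk i π w).ShortExact) (l : P ⟶ E) [Epi (l ≫ π)] :
    ∃ κ : kernel (l ≫ π) ⟶ F ⊞ P, Nonempty (E ≅ cokernel κ) := by
  haveI : Mono i := hS.mono_f
  haveI : Epi π := hS.epi_g
  let ιQ := kernel.ι (l ≫ π)
  have hk : (ιQ ≫ l) ≫ π = 0 := by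
    rw [Category.assoc]
    exact kernel.condition _
  -- `i` is a kernel of `π`
  let μ : kernel (l ≫ π) ⟶ F := hS.fIsKernel.lift (KernelFork.ofι (ιQ ≫ l) hk)
  have hμ : μ ≫ i = ιQ ≫ l := hS.fIsKernel.fac (KernelFork.ofι (ιQ ≫ l) hk) WalkingParallelPair.zero
  let κ : kernel (l ≫ π) ⟶ F ⊞ P := biprod.lift (-μ) ιQ
  let σ : F ⊞ P ⟶ E := biprod.desc i l
  have hκσ : κ ≫ σ = 0 := by
    simp only [κ, σ, biprod.lift_desc, Preadditive.neg_comp, hμ]
    exact neg_add_cancel _
  -- `σ` is an epimorphism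
  haveI : Epi σ := by
    apply Preadditive.epi_of_cancel_zero
    intro Z g hg
    have h1 : i ≫ g = 0 := by
      have := congrArg (fun t => biprod.inl ≫ t) hg
      simpa [σ] using this
    have h2 : l ≫ g = 0 := by
      have := congrArg (fun t => biprod.inr ≫ t) hg
      simpa [σ] using this
    let g' : G ⟶ Z := hS.gIsCokernel.desc (CokernelCofork.ofπ g h1)
    have hg' : π ≫ g' = g := hS.gIsCokernel.fac (CokernelCofork.ofπ g h1) WalkingParallelPair.one
    have h3 : (l ≫ π) ≫ g' = 0 := by rw [Category.assoc, hg', h2]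
    have h4 : g' = 0 := by
      rw [← cancel_epi (l ≫ π), h3, comp_zero]
    rw [← hg', h4, comp_zero]
  have hσz : ∀ {Z : 𝒜} (z : Z ⟶ F ⊞ P),
      z ≫ σ = (z ≫ biprod.fst) ≫ i + (z ≫ biprod.snd) ≫ l := by
    intro Z z
    simp only [σ]
    rw [biprod.desc_eq, Preadditive.comp_add, Category.assoc, Category.assoc]
  -- `κ` is a kernel of `σ`
  have hlim : IsLimit (KernelFork.ofι κ hκσ) := by
    refine KernelFork.IsLimit.ofι κ hκσ (fun {Z} z hz => kernel.lift (l ≫ π) (z ≫ biprod.snd) ?_)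
      (fun {Z} z hz => ?_) (fun {Z} z hz m hm => ?_)
    · -- (z ≫ snd) ≫ l ≫ π = 0
      have h0 : (z ≫ biprod.fst) ≫ i + (z ≫ biprod.snd) ≫ l = 0 := by
        rw [← hσz z, hz]
      have h1 : ((z ≫ biprod.fst) ≫ i + (z ≫ biprod.snd) ≫ l) ≫ π = 0 := by rw [h0, zero_comp]
      rw [Preadditive.add_comp, Category.assoc (z ≫ biprod.fst) i π, w, comp_zero, zero_add] at h1
      simpa only [Category.assoc] using h1
    · -- lift ≫ κ = z
      have h0 : (z ≫ biprod.fst) ≫ i + (z ≫ biprod.snd) ≫ l = 0 := by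
        rw [← hσz z, hz]
      apply biprod.hom_ext
      · rw [← cancel_mono i]
        simp only [κ, Category.assoc, biprod.lift_fst, Preadditive.comp_neg, Preadditive.neg_comp,
          hμ]
        rw [← Category.assoc, kernel.lift_ι]
        have : (z ≫ biprod.fst) ≫ i = -((z ≫ biprod.snd) ≫ l) := eq_neg_of_add_eq_zero_left h0
        rw [Category.assoc] at this
        rw [this]
      · simp only [κ, Category.assoc, biprod.lift_snd]
        exact kernel.lift_ι _ _ _
    · -- uniqueness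
      rw [← cancel_mono ιQ]
      have : m ≫ ιQ = z ≫ biprod.snd := by
        rw [← hm]
        simp [κ]
      rw [this]
      exact (kernel.lift_ι _ _ _).symm
  have hcolim : IsColimit (CokernelCofork.ofπ σ hκσ) :=
    Abelian.epiIsCokernelOfKernel (KernelFork.ofι κ hκσ) hlim
  exact ⟨κ, ⟨hcolim.coconePointUniqueUpToIso (colimit.isColimit (parallelPair κ 0))⟩⟩

end Groth.Agent.Lib.AbelianLift22
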