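import Mathlib
import Groth.Agent.Lib.AbsRepH52

/-!
# Existence of cofiltered limits of schemes with affine transition maps (helper77)

* `isSheaf_cones`: for a subcanonical topology, the presheaf of cones over a diagram is a sheaf.
* `hasLimit_of_isAffine`: small diagrams of affine schemes have limits in `Scheme`.
* `hasLimit_of_isAffineHom`: a small cofiltered diagram of schemes with affine transition maps has
  a limit in `Scheme` (EGA IV 8.2.3 / Stacks 01YX).
* `exists_isLimit_isAffineHom`: ... and the projections are affine (Mathlib's `isAffineHom_π_app`).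
-/

set_option autoImplicit false
universe u

open CategoryTheory CategoryTheory.Limits AlgebraicGeometry Opposite

namespace Groth.Agent.Lib.H77AffLim

/-- For a subcanonical topology, the presheaf of cones over a diagram is a sheaf. -/
theorem isSheaf_cones {C : Type*} [Category C] (K : GrothendieckTopology C) [K.Subcanonical]
    {J : Type*} [Category J] (G : J ⥤ C) : Presieve.IsSheaf K G.cones := by
  intro T R hR
  have hy : ∀ j, Presieve.IsSheafFor (yoneda.obj (G.obj j)) (R : Presieve T) := fun j =>
    GrothendieckTopology.Subcanonical.isSheaf_of_isRepresentable (J := K) _ R hR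
  intro x hx
  let xj : ∀ j, Presieve.FamilyOfElements (yoneda.obj (G.obj j)) (R : Presieve T) :=
    fun j Y f hf => (x f hf).app j
  have hxj : ∀ j, (xj j).Compatible := by
    intro j Y₁ Y₂ Z g₁ g₂ f₁ f₂ h₁ h₂ comm
    exact congrArg (fun c => NatTrans.app c j) (hx g₁ g₂ h₁ h₂ comm)
  let t : ∀ j, T ⟶ G.obj j := fun j => (hy j).amalgamate (xj j) (hxj j)
  have ht : ∀ j {Y : C} (f : Y ⟶ T) (hf : R f), f ≫ t j = (x f hf).app j := fun j Y f hf =>
    (hy j).valid_glue (hxj j) f hf
  refine ⟨{ app := t, naturality := ?_ }, ?_, ?_⟩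
  · intro j k φ
    refine (hy k).isSeparatedFor.ext ?_
    intro Y f hf
    change f ≫ (((Functor.const J).obj T).map φ ≫ t k) = f ≫ (t j ≫ G.map φ)
    have h1 : 𝟙 Y ≫ (x f hf).app k = (x f hf).app j ≫ G.map φ := (x f hf).naturality φ
    rw [Category.id_comp] at h1
    simp only [Functor.const_obj_obj, Functor.const_obj_map, Category.id_comp]
    rw [ht k f hf, ← Category.assoc, ht j f hf, h1]
  · intro Y f hf
    refine NatTrans.ext (funext fun j => ?_)
    exact ht j f hf
  · intro c hc
    refine NatTrans.ext (funext fun j => ?_)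
    refine (hy j).isSeparatedFor.ext ?_
    intro Y f hf
    change f ≫ NatTrans.app c j = f ≫ t j
    rw [ht j f hf]
    exact congrArg (fun c => NatTrans.app c j) (hc f hf)

/-- Small diagrams of affine schemes have limits in schemes. -/
theorem hasLimit_of_isAffine {J : Type u} [Category.{u} J] (D : J ⥤ Scheme.{u})
    [∀ j, IsAffine (D.obj j)] : HasLimit D := by
  let α : D ⟶ (D ⋙ Scheme.Γ.rightOp) ⋙ Scheme.Spec := D.whiskerLeft ΓSpec.adjunction.unit
  have (i : _) : IsIso (α.app i) := IsAffine.affine
  have : IsIso α := NatIso.isIso_of_isIso_app α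
  have : HasLimit ((D ⋙ Scheme.Γ.rightOp) ⋙ Scheme.Spec) := inferInstance
  exact hasLimit_of_iso (asIso α).symm

section Main

variable {I : Type u} [SmallCategory I] [IsCofiltered I] (D : I ⥤ Scheme.{u})
  [∀ (i j : I) (f : i ⟶ j), IsAffineHom (D.map f)]

instance isAffine_opensDiagram_obj (i₀ : I) (a : (D.obj i₀).affineOpens) (j : Over i₀) :
    IsAffine ((opensDiagram D i₀ a.1).obj j) :=
  a.2.preimage (D.map j.hom)

instance hasLimit_opensDiagram (i₀ : I) (a : (D.obj i₀).affineOpens) :
    HasLimit (opensDiagram D i₀ a.1) :=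
  hasLimit_of_isAffine _

omit [IsCofiltered I] in
/-- The restriction of the diagram to `Over i₀` has a limit. -/
theorem hasLimit_overForget_comp (i₀ : I) : HasLimit (Over.forget i₀ ⋙ D) := by
  classical
  let D' : Over i₀ ⥤ Scheme.{u} := Over.forget i₀ ⋙ D
  let S : Scheme.{u} := D.obj i₀
  let top : Over i₀ := Over.mk (𝟙 i₀)
  let F : Scheme.{u}ᵒᵖ ⥤ Type u := D'.cones
  have hF : Presieve.IsSheaf Scheme.zariskiTopology F := isSheaf_cones _ _
  let q : ∀ ⦃T : Scheme.{u}⦄, F.obj (op T) → (T ⟶ S) := fun T ξ => NatTrans.app ξ top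
  have hq : ∀ ⦃T T' : Scheme.{u}⦄ (g : T' ⟶ T) (ξ : F.obj (op T)),
      q (F.map g.op ξ) = g ≫ q ξ := fun T T' g ξ => rfl
  let j : ∀ a : S.affineOpens, a.1.toScheme ⟶ S := fun a => a.1.ι
  let U : S.affineOpens → Scheme.{u} := fun a => limit (opensDiagram D i₀ a.1)
  let ζ : ∀ a, F.obj (op (U a)) := fun a =>
    (limit.cone (opensDiagram D i₀ a.1)).π ≫ opensDiagramι D i₀ a.1
  -- the structure map to `S` of every object of the diagram
  have hstr : ∀ {T : Scheme.{u}} (ξ : F.obj (op T)) (k : Over i₀),
      (show T ⟶ D.obj k.left from NatTrans.app ξ k) ≫ D.map k.hom = q ξ := by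
    intro T ξ k
    have h1 := ξ.naturality (Over.homMk k.hom (Category.comp_id _) : k ⟶ top)
    exact ((Category.id_comp _).symm.trans h1).symm
  have hζ : ∀ a, Set.range (q (ζ a)) ⊆ Set.range (j a) := by
    intro a
    rintro _ ⟨w, rfl⟩
    change _ ∈ Set.range a.1.ι
    rw [Scheme.Opens.range_ι]
    have h2 : (D.map (𝟙 i₀)) ((limit.π (opensDiagram D i₀ a.1) top w).1) ∈ a.1 :=
      (limit.π (opensDiagram D i₀ a.1) top w).2
    rw [D.map_id] at h2
    exact h2
  have huniv : ∀ a ⦃T : Scheme.{u}⦄ (ξ : F.obj (op T)), Set.range (q ξ) ⊆ Set.range (j a) →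
      ∃! g : T ⟶ U a, F.map g.op (ζ a) = ξ := by
    intro a T ξ hξ
    change _ ⊆ Set.range a.1.ι at hξ
    rw [Scheme.Opens.range_ι] at hξ
    have hr : ∀ k : Over i₀, Set.range (show T ⟶ D.obj k.left from NatTrans.app ξ k) ⊆
        Set.range ((opensDiagramι D i₀ a.1).app k) := by
      intro k
      rintro _ ⟨w, rfl⟩
      change _ ∈ Set.range (D.map k.hom ⁻¹ᵁ a.1).ι
      rw [Scheme.Opens.range_ι]
      change (D.map k.hom) ((show T ⟶ D.obj k.left from NatTrans.app ξ k) w) ∈ a.1
      have h4 : (D.map k.hom) ((show T ⟶ D.obj k.left from NatTrans.app ξ k) w) = (q ξ) w := by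
        rw [← Scheme.Hom.comp_apply, hstr ξ k]
      rw [h4]
      exact hξ ⟨w, rfl⟩
    let ξ' : ∀ k : Over i₀, T ⟶ (opensDiagram D i₀ a.1).obj k := fun k =>
      IsOpenImmersion.lift ((opensDiagramι D i₀ a.1).app k)
        (show T ⟶ D.obj k.left from NatTrans.app ξ k) (hr k)
    have hξ' : ∀ k, ξ' k ≫ (opensDiagramι D i₀ a.1).app k = NatTrans.app ξ k := fun k =>
      IsOpenImmersion.lift_fac _ _ _
    let cξ : Cone (opensDiagram D i₀ a.1) :=
      { pt := T
        π :=
          { app := ξ'
            naturality := by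
              intro k l φ
              rw [← cancel_mono ((opensDiagramι D i₀ a.1).app l), Category.assoc, Category.assoc,
                (opensDiagramι D i₀ a.1).naturality φ, hξ' l, ← Category.assoc, hξ' k]
              exact ξ.naturality φ } }
    refine ⟨limit.lift _ cξ, ?_, ?_⟩
    · refine NatTrans.ext (funext fun k => ?_)
      change limit.lift _ cξ ≫ limit.π _ k ≫ (opensDiagramι D i₀ a.1).app k = _
      rw [← Category.assoc, limit.lift_π]
      exact hξ' k
    · intro g hg
      refine limit.hom_ext fun k => ?_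
      rw [limit.lift_π, ← cancel_mono ((opensDiagramι D i₀ a.1).app k)]
      change _ = ξ' k ≫ _
      rw [hξ' k, ← hg]
      rfl
  have hcov : ∀ b : S, ∃ a, b ∈ Set.range (j a) := by
    intro b
    obtain ⟨_, ⟨V, hV, rfl⟩, hbV, -⟩ :=
      S.isBasis_affineOpens.exists_subset_of_mem_open (Set.mem_univ b) isOpen_univ
    refine ⟨⟨V, hV⟩, ?_⟩
    change b ∈ Set.range (Scheme.Opens.ι (X := S) V)
    rw [Scheme.Opens.range_ι]
    exact hbV
  obtain ⟨V, ε, hV⟩ := AbsRepH52.exists_universal F q hq j ζ hζ huniv hF hcov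
  refine ⟨⟨{ cone := ⟨V, ε⟩
             isLimit :=
              { lift := fun s => (hV s.π).exists.choose
                fac := fun s k => ?_
                uniq := fun s m hm => ?_ } }⟩⟩
  · have h1 := (hV s.π).exists.choose_spec
    exact congrArg (fun c => NatTrans.app c k) h1
  · refine (hV s.π).unique ?_ (hV s.π).exists.choose_spec
    refine NatTrans.ext (funext fun k => ?_)
    exact hm k

/-- **Existence of cofiltered limits with affine transition maps** (EGA IV 8.2.3, Stacks 01YX). -/
theorem hasLimit_of_isAffineHom : HasLimit D := by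
  obtain ⟨i₀⟩ := IsCofiltered.nonempty (C := I)
  have := hasLimit_overForget_comp D i₀
  exact Functor.Initial.hasLimit_of_comp (Over.forget i₀)

/-- Existence of the limit, with affine projections. -/
theorem exists_isLimit_isAffineHom :
    ∃ (c : Limits.Cone D) (_ : Limits.IsLimit c), ∀ i, IsAffineHom (c.π.app i) := by
  have := hasLimit_of_isAffineHom D
  exact ⟨limit.cone D, limit.isLimit D, fun i => isAffineHom_π_app D _ (limit.isLimit D) i⟩

end Main

end Groth.Agent.Lib.H77AffLim
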