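import Mathlib
import Groth.Agent.Lib.H77AffLim

/-! # Absolute Noetherian approximation (helper62), part AA2 -/

set_option autoImplicit false
set_option linter.style.haveILetI false
universe u
open CategoryTheory Limits AlgebraicGeometry

namespace Groth.Agent.Lib.AbsApprox62c

lemma aux_resLE {X X' Y : Scheme.{u}} (u : X ⟶ X') (p : X ⟶ Y) (p' : X' ⟶ Y) (hu : u ≫ p' = p)
    (U : Y.Opens) (V' : X'.Opens) (V : X.Opens) (e' : V' ≤ p' ⁻¹ᵁ U) (e : V ≤ p ⁻¹ᵁ U)
    (hpre : u ⁻¹ᵁ V' = V) :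
    (X.isoOfEq hpre).inv ≫ (u ∣_ V') ≫ p'.resLE U V' e' = p.resLE U V e := by
  rw [← cancel_mono U.ι]
  simp only [Category.assoc, Scheme.Hom.resLE_comp_ι, morphismRestrict_ι_assoc,
    Scheme.isoOfEq_inv_ι_assoc, hu]

variable {I : Type u} [SmallCategory I] [IsCofiltered I] (D : I ⥤ Scheme.{u})
  [∀ {i j : I} (f : i ⟶ j), IsAffineHom (D.map f)]

/-- A cone over a cofiltered diagram of schemes with affine transition maps is a limit cone as soon
as its restrictions over the members of an open cover of one stage are limit cones. -/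
theorem nonempty_isLimit_of_opensCone (c : Cone D) (i₀ : I) {ι : Type*} (V : ι → (D.obj i₀).Opens)
    (hV : iSup V = ⊤) (H : ∀ a, Nonempty (IsLimit (opensCone D c i₀ (V a)))) :
    Nonempty (IsLimit c) := by
  haveI : ∀ (i j : I) (f : i ⟶ j), IsAffineHom (D.map f) := fun i j f => inferInstance
  haveI : HasLimit D := Groth.Agent.Lib.H77AffLim.hasLimit_of_isAffineHom D
  let c' := limit.cone D
  let hc' := limit.isLimit D
  let u : c.pt ⟶ c'.pt := hc'.lift c
  have hu : ∀ i, u ≫ c'.π.app i = c.π.app i := fun i => hc'.fac c i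
  suffices IsIso u by
    refine ⟨IsLimit.ofIsoLimit hc' (Cone.ext (asIso u) (fun i => (hu i).symm)).symm⟩
  rw [← MorphismProperty.isomorphisms.iff]
  apply IsZariskiLocalAtTarget.of_iSup_eq_top (P := .isomorphisms Scheme)
    (fun a => c'.π.app i₀ ⁻¹ᵁ V a)
  · rw [← Scheme.Hom.preimage_iSup, hV]; rfl
  intro a
  rw [MorphismProperty.isomorphisms.iff]
  obtain ⟨Ha⟩ := H a
  have Ha' := isLimitOpensCone D c' hc' i₀ (V a)
  -- the comparison map
  have hpre : u ⁻¹ᵁ (c'.π.app i₀ ⁻¹ᵁ V a) = c.π.app i₀ ⁻¹ᵁ V a := by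
    rw [← Scheme.Hom.comp_preimage, hu]
  let w : (opensCone D c i₀ (V a)).pt ⟶ (opensCone D c' i₀ (V a)).pt :=
    (c.pt.isoOfEq hpre).inv ≫ (u ∣_ (c'.π.app i₀ ⁻¹ᵁ V a))
  have key : w = (Ha.conePointUniqueUpToIso Ha').hom := by
    apply Ha'.hom_ext
    intro j
    rw [IsLimit.conePointUniqueUpToIso_hom_comp]
    exact (Category.assoc _ _ _).trans
      (aux_resLE u (c.π.app j.left) (c'.π.app j.left) (hu _) _ _ _ _ _ hpre)
  have hw : IsIso w := by rw [key]; infer_instance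
  have : IsIso ((c.pt.isoOfEq hpre).inv ≫ (u ∣_ (c'.π.app i₀ ⁻¹ᵁ V a))) := hw
  exact IsIso.of_isIso_comp_left (c.pt.isoOfEq hpre).inv _

end Groth.Agent.Lib.AbsApprox62c
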