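import Mathlib

/-! # Absolute Noetherian approximation (helper62), part AA3 -/

set_option autoImplicit false
set_option linter.style.haveILetI false
universe u
open CategoryTheory Limits AlgebraicGeometry

namespace Groth.Agent.Lib.AbsApprox62b

variable {A R' : Type u} [CommRing A] [CommRing R'] (q : A →+* R') {ι : Type*} (h : ι → A)

/-- The open `⋃ D(q (h i))` of `Spec R'`. -/
noncomputable def srcOpen : (Spec (CommRingCat.of R')).Opens :=
  ⨆ i, PrimeSpectrum.basicOpen (q (h i))

/-- The open `⋃ D(h i)` of `Spec A`. -/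
noncomputable def tgtOpen : (Spec (CommRingCat.of A)).Opens :=
  ⨆ i, PrimeSpectrum.basicOpen (h i)

/-- If `A_{h i} → R'_{q (h i)}` is bijective for all `i`, then `⋃ D(q (h i)) → Spec A` is an open
immersion (after helper13's S7431). -/
theorem isOpenImmersion_of_awayMap_bijective
    (hbij : ∀ i, Function.Bijective (Localization.awayMap q (h i))) :
    IsOpenImmersion ((srcOpen q h).ι ≫ Spec.map (CommRingCat.ofHom q)) := by
  have hsurj : ∀ i (r' : R'), ∃ (b' : A) (m : ℕ), q b' = q (h i) ^ m * r' := fun i r' => by
    obtain ⟨b', m, hb'⟩ := Localization.awayMap_surjective_iff.mp (hbij i).2 r'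
    exact ⟨b', m, hb'⟩
  set W' : (Spec (CommRingCat.of R')).Opens := srcOpen q h with hW'
  refine IsOpenImmersion.of_forall_source_exists _ ?_ ?_
  · intro x y hxy
    apply W'.ι.isOpenEmbedding.injective
    have hxy' : Spec.map (CommRingCat.ofHom q) (W'.ι x) =
        Spec.map (CommRingCat.ofHom q) (W'.ι y) := by
      simpa using hxy
    obtain ⟨i, hi⟩ := TopologicalSpace.Opens.mem_iSup.mp (show W'.ι x ∈ W' from x.2)
    have key : ∀ P P' : PrimeSpectrum R', PrimeSpectrum.comap q P = PrimeSpectrum.comap q P' →
        q (h i) ∉ P.asIdeal → P.asIdeal ≤ P'.asIdeal := by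
      intro P P' hPP' hfP r' hr'
      have hfP' : q (h i) ∉ P'.asIdeal := by
        intro hmem
        apply hfP
        have : h i ∈ (PrimeSpectrum.comap q P').asIdeal := hmem
        rw [← hPP'] at this
        exact this
      obtain ⟨b', m, hb'⟩ := hsurj i r'
      have h1 : b' ∈ (PrimeSpectrum.comap q P).asIdeal := by
        change q b' ∈ P.asIdeal
        rw [hb']; exact Ideal.mul_mem_left _ _ hr'
      rw [hPP'] at h1
      have h2 : q (h i) ^ m * r' ∈ P'.asIdeal := by rw [← hb']; exact h1
      exact (P'.isPrime.mem_or_mem h2).resolve_left fun h3 =>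
        hfP' (P'.isPrime.mem_of_pow_mem _ h3)
    have hxP : q (h i) ∉ (W'.ι x).asIdeal := hi
    have hyP : q (h i) ∉ (W'.ι y).asIdeal := by
      intro hmem
      apply hxP
      have : h i ∈ (PrimeSpectrum.comap q (W'.ι y)).asIdeal := hmem
      rw [show PrimeSpectrum.comap q (W'.ι y) = PrimeSpectrum.comap q (W'.ι x) from
        hxy'.symm] at this
      exact this
    exact PrimeSpectrum.ext (le_antisymm (key _ _ hxy' hxP) (key _ _ hxy'.symm hyP))
  · intro x
    obtain ⟨i, hi⟩ := TopologicalSpace.Opens.mem_iSup.mp (show W'.ι x ∈ W' from x.2)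
    let A' := Localization.Away (q (h i))
    let j₀ : Spec (CommRingCat.of A') ⟶ Spec (CommRingCat.of R') :=
      Spec.map (CommRingCat.ofHom (algebraMap R' A'))
    have hj₀ : IsOpenImmersion j₀ := inferInstance
    have hrange : Set.range j₀ = (PrimeSpectrum.basicOpen (q (h i)) : Set (PrimeSpectrum R')) :=
      PrimeSpectrum.localization_away_comap_range A' (q (h i))
    have hle : Set.range j₀ ⊆ Set.range W'.ι := by
      rw [hrange, Scheme.Opens.range_ι]
      exact fun z hz => TopologicalSpace.Opens.mem_iSup.mpr ⟨i, hz⟩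
    let j : Spec (CommRingCat.of A') ⟶ W'.toScheme := IsOpenImmersion.lift W'.ι j₀ hle
    have hj : j ≫ W'.ι = j₀ := IsOpenImmersion.lift_fac _ _ _
    have hjo : IsOpenImmersion j := by
      have : IsOpenImmersion (j ≫ W'.ι) := by rw [hj]; exact hj₀
      exact IsOpenImmersion.of_comp j W'.ι
    refine ⟨_, j, hjo, ?_, ?_⟩
    · have : W'.ι x ∈ Set.range j₀ := by
        rw [hrange]; exact hi
      obtain ⟨u, hu⟩ := this
      refine ⟨u, W'.ι.isOpenEmbedding.injective ?_⟩
      rw [← hu, ← hj]; rfl
    · rw [← Category.assoc, hj]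
      have hcomp : CommRingCat.ofHom q ≫ CommRingCat.ofHom (algebraMap R' A') =
          CommRingCat.ofHom (algebraMap A (Localization.Away (h i))) ≫
            CommRingCat.ofHom (Localization.awayMap q (h i)) := by
        ext b
        change algebraMap R' A' (q b) =
          Localization.awayMap q (h i) (algebraMap A (Localization.Away (h i)) b)
        exact (IsLocalization.map_eq (S := Localization.Away (h i)) (Q := A') _ b).symm
      change IsOpenImmersion (Spec.map _ ≫ Spec.map _)
      rw [← Spec.map_comp, hcomp, Spec.map_comp]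
      have : IsIso (CommRingCat.ofHom (Localization.awayMap q (h i))) :=
        (ConcreteCategory.isIso_iff_bijective _).mpr (hbij i)
      infer_instance

/-- The image of `⋃ D(q (h i)) → Spec A` is `⋃ D(h i)`. -/
theorem range_eq (hbij : ∀ i, Function.Bijective (Localization.awayMap q (h i))) :
    Set.range ((srcOpen q h).ι ≫ Spec.map (CommRingCat.ofHom q)) = (tgtOpen h : Set _) := by
  ext P
  constructor
  · rintro ⟨x, rfl⟩
    obtain ⟨i, hi⟩ := TopologicalSpace.Opens.mem_iSup.mp
      (show (srcOpen q h).ι x ∈ srcOpen q h from x.2)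
    exact TopologicalSpace.Opens.mem_iSup.mpr ⟨i, hi⟩
  · intro hP
    obtain ⟨i, hi⟩ := TopologicalSpace.Opens.mem_iSup.mp hP
    -- a prime of `A_{h i}` over `P`
    have h1 : P ∈ Set.range (PrimeSpectrum.comap (algebraMap A (Localization.Away (h i)))) := by
      rw [PrimeSpectrum.localization_away_comap_range (Localization.Away (h i)) (h i)]
      exact hi
    obtain ⟨P₁, hP₁⟩ := h1
    let e : Localization.Away (h i) ≃+* Localization.Away (q (h i)) :=
      RingEquiv.ofBijective _ (hbij i)
    let P₂ : PrimeSpectrum (Localization.Away (q (h i))) := PrimeSpectrum.comap e.symm.toRingHom P₁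
    let P' : PrimeSpectrum R' := PrimeSpectrum.comap (algebraMap R' _) P₂
    have hP'mem : P' ∈ srcOpen q h := by
      refine TopologicalSpace.Opens.mem_iSup.mpr ⟨i, ?_⟩
      have : P' ∈ Set.range (PrimeSpectrum.comap (algebraMap R' (Localization.Away (q (h i))))) :=
        ⟨P₂, rfl⟩
      rw [PrimeSpectrum.localization_away_comap_range (Localization.Away (q (h i))) (q (h i))]
        at this
      exact this
    refine ⟨⟨P', hP'mem⟩, ?_⟩
    rw [← hP₁]
    apply PrimeSpectrum.ext
    ext a
    change q a ∈ P'.asIdeal ↔ algebraMap A (Localization.Away (h i)) a ∈ P₁.asIdeal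
    change e.symm (algebraMap R' _ (q a)) ∈ P₁.asIdeal ↔ _
    have : algebraMap R' (Localization.Away (q (h i))) (q a) =
        Localization.awayMap q (h i) (algebraMap A (Localization.Away (h i)) a) :=
      (IsLocalization.map_eq (S := Localization.Away (h i))
        (Q := Localization.Away (q (h i))) _ a).symm
    rw [this]
    change e.symm (e (algebraMap A (Localization.Away (h i)) a)) ∈ P₁.asIdeal ↔ _
    rw [RingEquiv.symm_apply_apply]

end Groth.Agent.Lib.AbsApprox62b
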