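import Mathlib
import Groth.Agent.S7431

/-! # Absolute Noetherian approximation (helper62), part AA4 -/

set_option autoImplicit false
set_option linter.style.haveILetI false
universe u
open CategoryTheory

namespace Groth.Agent.Lib.AbsApprox62a

/-- Ring-level input: a ring `B`, a ring `R`, a directed system of rings `Rr i` mapping to `R`. -/
structure RingData (I : Type u) [Preorder I] where
  B : Type u
  [instB : CommRing B]
  R : Type u
  [instR : CommRing R]
  res : B →+* R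
  Rr : I → Type u
  [instRr : ∀ i, CommRing (Rr i)]
  φ : ∀ i, Rr i →+* R
  ρ : ∀ {i i' : I}, i ≤ i' → Rr i →+* Rr i'
  φ_ρ : ∀ {i i' : I} (h : i ≤ i') (x : Rr i), φ i' (ρ h x) = φ i x
  ρ_id : ∀ (i : I) (x : Rr i), ρ (le_refl i) x = x
  ρ_comp : ∀ {i i' i'' : I} (h : i ≤ i') (h' : i' ≤ i'') (x : Rr i), ρ h' (ρ h x) = ρ (h.trans h') x

attribute [instance] RingData.instB RingData.instR RingData.instRr

namespace RingData

variable {I : Type u} [Preorder I] (X : RingData I)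

/-- The fibre product `B ×_R R_i`, as a subring of `B × R_i`. -/
def Bfib (i : I) : Subring (X.B × X.Rr i) :=
  RingHom.eqLocus (X.res.comp (RingHom.fst X.B (X.Rr i))) ((X.φ i).comp (RingHom.snd X.B (X.Rr i)))

lemma mem_Bfib {i : I} (z : X.B × X.Rr i) : z ∈ X.Bfib i ↔ X.res z.1 = X.φ i z.2 := Iff.rfl

/-- First projection `B ×_R R_i → B`. -/
def pB (i : I) : X.Bfib i →+* X.B := (RingHom.fst X.B (X.Rr i)).comp (X.Bfib i).subtype

/-- Second projection `B ×_R R_i → R_i`. -/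
def pR (i : I) : X.Bfib i →+* X.Rr i := (RingHom.snd X.B (X.Rr i)).comp (X.Bfib i).subtype

lemma res_pB {i : I} (z : X.Bfib i) : X.res (X.pB i z) = X.φ i (X.pR i z) := z.2

lemma ext_Bfib {i : I} {z w : X.Bfib i} (h1 : X.pB i z = X.pB i w) (h2 : X.pR i z = X.pR i w) :
    z = w := Subtype.ext (Prod.ext h1 h2)

/-- Constructor for elements of the fibre product. -/
def mkB {i : I} (b : X.B) (r : X.Rr i) (h : X.res b = X.φ i r) : X.Bfib i := ⟨(b, r), h⟩

@[simp] lemma pB_mkB {i : I} (b : X.B) (r : X.Rr i) (h) : X.pB i (X.mkB b r h) = b := rfl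
@[simp] lemma pR_mkB {i : I} (b : X.B) (r : X.Rr i) (h) : X.pR i (X.mkB b r h) = r := rfl

/-- Transition maps between the fibre products. -/
def μ {i i' : I} (h : i ≤ i') : X.Bfib i →+* X.Bfib i' :=
  ((RingHom.prodMap (RingHom.id X.B) (X.ρ h)).comp (X.Bfib i).subtype).codRestrict (X.Bfib i')
    (fun z => by
      rw [mem_Bfib]
      change X.res z.1.1 = X.φ i' (X.ρ h z.1.2)
      rw [X.φ_ρ]; exact z.2)

@[simp] lemma pB_μ {i i' : I} (h : i ≤ i') (z : X.Bfib i) : X.pB i' (X.μ h z) = X.pB i z := rfl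
@[simp] lemma pR_μ {i i' : I} (h : i ≤ i') (z : X.Bfib i) :
    X.pR i' (X.μ h z) = X.ρ h (X.pR i z) := rfl

lemma μ_id (i : I) (z : X.Bfib i) : X.μ (le_refl i) z = z :=
  X.ext_Bfib rfl (by rw [pR_μ, X.ρ_id])

lemma μ_comp {i i' i'' : I} (h : i ≤ i') (h' : i' ≤ i'') (z : X.Bfib i) :
    X.μ h' (X.μ h z) = X.μ (h.trans h') z :=
  X.ext_Bfib rfl (by rw [pR_μ, pR_μ, pR_μ, X.ρ_comp])

/-- The fibre product square in helper13's element-level form. -/
lemma isFibre (i : I) : Groth.Agent.S7431.IsFibre X.res (X.φ i) (X.pB i) (X.pR i) where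
  comm z := X.res_pB z
  ext _ _ h1 h2 := X.ext_Bfib h1 h2
  exists_ b r h := ⟨X.mkB b r h, rfl, rfl⟩

end RingData

end Groth.Agent.Lib.AbsApprox62a
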