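import Mathlib
import Groth.Agent.Lib.AbsApprox62AA4

/-! # Absolute Noetherian approximation (helper62), part AA5 -/

set_option autoImplicit false
set_option linter.style.haveILetI false
universe u
open CategoryTheory

namespace Groth.Agent.Lib.AbsApprox62a

/-- Prepared ring-level input. -/
structure GoodData (I : Type u) [Preorder I] extends RingData I where
  i₀ : I
  le : ∀ i, i₀ ≤ i
  L : Type
  [finL : Finite L]
  g : L → B
  r : L → Rr i₀
  res_g : ∀ l, res (g l) = φ i₀ (r l)
  away_bij : ∀ l, Function.Bijective (Localization.awayMap res (g l))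
  ft : ∀ i l, ∃ G : Finset (Localization.Away (ρ (le i) (r l))),
    Subring.closure (G : Set (Localization.Away (ρ (le i) (r l)))) = ⊤
  surj : ∀ x : R, ∃ (i : I) (y : Rr i), φ i y = x
  inj : ∀ (i : I) (y : Rr i), φ i y = 0 → ∃ (i' : I) (h : i ≤ i'), ρ h y = 0

attribute [instance] GoodData.finL

namespace GoodData

variable {I : Type u} [Preorder I] (X : GoodData I)

/-- The elements `(g_l, r_l|_i)` of the fibre product. -/
def hfib (l : X.L) (i : I) : X.Bfib i :=
  X.mkB (X.g l) (X.ρ (X.le i) (X.r l)) (by rw [X.φ_ρ, X.res_g])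

@[simp] lemma pB_hfib (l : X.L) (i : I) : X.pB i (X.hfib l i) = X.g l := rfl
@[simp] lemma pR_hfib (l : X.L) (i : I) : X.pR i (X.hfib l i) = X.ρ (X.le i) (X.r l) := rfl

lemma μ_hfib (l : X.L) {i i' : I} (h : i ≤ i') : X.μ h (X.hfib l i) = X.hfib l i' :=
  X.ext_Bfib rfl (by rw [RingData.pR_μ, pR_hfib, pR_hfib, X.ρ_comp])

lemma awayMap_pR_bijective (l : X.L) (i : I) :
    Function.Bijective (Localization.awayMap (X.pR i) (X.hfib l i)) :=
  (X.isFibre i).awayMap_bijective (X.hfib l i) (X.away_bij l)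

/-- A subalgebra of the fibre product is good if it contains the `h_l` and surjects onto the
localisations of `R_i` at the `r_l`. -/
def Good (i : I) (A : Subalgebra ℤ (X.Bfib i)) : Prop :=
  (∀ l, X.hfib l i ∈ A) ∧
    ∀ (l : X.L) (x : X.Rr i), ∃ a ∈ A, ∃ N : ℕ, X.pR i a = X.pR i (X.hfib l i) ^ N * x

lemma Good.mono {i : I} {A A' : Subalgebra ℤ (X.Bfib i)} (hA : X.Good i A) (h : A ≤ A') :
    X.Good i A' :=
  ⟨fun l => h (hA.1 l), fun l x => by
    obtain ⟨a, ha, N, hN⟩ := hA.2 l x
    exact ⟨a, h ha, N, hN⟩⟩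

/-- The restriction of the second projection to a subalgebra. -/
def qA {i : I} (A : Subalgebra ℤ (X.Bfib i)) : A →+* X.Rr i := (X.pR i).comp A.val.toRingHom

/-- The restriction of the first projection to a subalgebra. -/
def bA {i : I} (A : Subalgebra ℤ (X.Bfib i)) : A →+* X.B := (X.pB i).comp A.val.toRingHom

/-- The element `h_l` of a good subalgebra. -/
def hA {i : I} {A : Subalgebra ℤ (X.Bfib i)} (hA : X.Good i A) (l : X.L) : A :=
  ⟨X.hfib l i, hA.1 l⟩

lemma Good.awayMap_bijective {i : I} {A : Subalgebra ℤ (X.Bfib i)} (hA : X.Good i A) (l : X.L) :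
    Function.Bijective (Localization.awayMap (X.qA A) (X.hA hA l)) := by
  refine ⟨Localization.awayMap_injective_iff.mpr fun c hc => ?_,
    Localization.awayMap_surjective_iff.mpr fun x => ?_⟩
  · obtain ⟨n, hn⟩ := Localization.awayMap_injective_iff.mp (X.awayMap_pR_bijective l i).1
      (c : X.Bfib i) hc
    exact ⟨n, Subtype.ext hn⟩
  · obtain ⟨a, ha, N, hN⟩ := hA.2 l x
    exact ⟨⟨a, ha⟩, N, hN⟩

end GoodData

end Groth.Agent.Lib.AbsApprox62a
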