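import Mathlib
import Groth.Agent.Lib.AbsApprox62AA5

/-! # Absolute Noetherian approximation (helper62), part AA6 -/

set_option autoImplicit false
set_option linter.style.haveILetI false
universe u
open CategoryTheory

namespace Groth.Agent.Lib.AbsApprox62a

namespace GoodData

variable {I : Type u} [Preorder I] (X : GoodData I)

/-- surjectivity of the localised projection from a subalgebra containing suitable numerators -/
lemma good_of_surjective {i : I} (A : Subalgebra ℤ (X.Bfib i)) (hh : ∀ l, X.hfib l i ∈ A)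
    (hs : ∀ l, Function.Surjective
      (Localization.awayMap ((X.pR i).comp A.val.toRingHom) ⟨X.hfib l i, hh l⟩)) :
    X.Good i A :=
  ⟨hh, fun l x => by
    obtain ⟨a, N, hN⟩ := Localization.awayMap_surjective_iff.mp (hs l) x
    exact ⟨a.1, a.2, N, hN⟩⟩

/-- A generic surjectivity criterion: if `f : P → Q` induces a surjection `P_h → Q_{f h}`, the
target localisation is generated over `ℤ` by a finite set `G`, and a subalgebra `A ⊆ P` contains
`h` and numerators of preimages of the elements of `G`, then `A_h → Q_{f h}` is surjective. -/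
lemma surjective_awayMap_of_numerators {P Q : Type u} [CommRing P] [CommRing Q] (f : P →+* Q) (h : P)
    (A : Subalgebra ℤ P) (hh : h ∈ A) (G : Set (Localization.Away (f h)))
    (hG : Subring.closure G = ⊤)
    (hnum : ∀ z ∈ G, ∃ a ∈ A, ∃ n : ℕ,
      Localization.awayMap f h (IsLocalization.mk' (Localization.Away h) a
        (⟨h ^ n, n, rfl⟩ : Submonoid.powers h)) = z) :
    Function.Surjective (Localization.awayMap (f.comp A.val.toRingHom) ⟨h, hh⟩) := by
  set ψ := Localization.awayMap (f.comp A.val.toRingHom) (⟨h, hh⟩ : A) with hψ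
  have hrange : (⊤ : Subring (Localization.Away (f h))) ≤ ψ.range := by
    rw [← hG]
    refine Subring.closure_le.mpr fun z hz => ?_
    obtain ⟨a, ha, n, hn⟩ := hnum z hz
    refine ⟨IsLocalization.mk' (Localization.Away (⟨h, hh⟩ : A)) (⟨a, ha⟩ : A)
      (⟨(⟨h, hh⟩ : A) ^ n, n, rfl⟩ : Submonoid.powers (⟨h, hh⟩ : A)), ?_⟩
    rw [← hn]
    change ψ _ = _
    simp only [hψ, Localization.awayMap, IsLocalization.Away.map, IsLocalization.map_mk']
    rfl
  intro z
  obtain ⟨w, hw⟩ := hrange (Subring.mem_top z)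
  exact ⟨w, hw⟩

end GoodData

end Groth.Agent.Lib.AbsApprox62a

namespace Groth.Agent.Lib.AbsApprox62a

namespace GoodData

variable {I : Type u} [Preorder I] (X : GoodData I)

/-- **Existence of good finitely generated subalgebras** (Stacks 01Z0-type lemma). -/
lemma exists_good (i : I) (F : Set (X.Bfib i)) (hF : F.Finite) :
    ∃ A : Subalgebra ℤ (X.Bfib i), A.FG ∧ F ⊆ A ∧ X.Good i A := by
  classical
  choose G hG using X.ft i
  have key : ∀ (l : X.L) (z : Localization.Away (X.pR i (X.hfib l i))),
      ∃ (a : X.Bfib i) (n : ℕ), Localization.awayMap (X.pR i) (X.hfib l i)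
        (IsLocalization.mk' (Localization.Away (X.hfib l i)) a
          (⟨X.hfib l i ^ n, n, rfl⟩ : Submonoid.powers (X.hfib l i))) = z := by
    intro l z
    obtain ⟨w, hw⟩ := (X.awayMap_pR_bijective l i).2 z
    obtain ⟨⟨a, m⟩, rfl⟩ := IsLocalization.mk'_surjective (Submonoid.powers (X.hfib l i)) w
    obtain ⟨n, hn⟩ := m.2
    refine ⟨a, n, ?_⟩
    rw [← hw]
    congr 2
    exact Subtype.ext hn
  choose a n han using key
  let S : Set (X.Bfib i) := F ∪ Set.range (fun l => X.hfib l i) ∪
    ⋃ l, (a l) '' (↑(G l) : Set (Localization.Away (X.ρ (X.le i) (X.r l))))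
  have hS : S.Finite := by
    refine (hF.union (Set.finite_range _)).union (Set.finite_iUnion fun l => ?_)
    exact (Finset.finite_toSet _).image _
  have hh : ∀ l, X.hfib l i ∈ Algebra.adjoin ℤ S := fun l =>
    Algebra.subset_adjoin (Or.inl (Or.inr ⟨l, rfl⟩))
  refine ⟨Algebra.adjoin ℤ S, Subalgebra.fg_def.2 ⟨S, hS, rfl⟩, fun x hx =>
    Algebra.subset_adjoin (Or.inl (Or.inl hx)), ?_⟩
  refine X.good_of_surjective _ hh fun l => ?_
  refine surjective_awayMap_of_numerators (X.pR i) (X.hfib l i) _ (hh l)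
    (↑(G l) : Set (Localization.Away (X.ρ (X.le i) (X.r l)))) (hG l) fun z hz => ?_
  exact ⟨a l z, Algebra.subset_adjoin (Or.inr (Set.mem_iUnion.mpr ⟨l, ⟨z, hz, rfl⟩⟩)), n l z,
    han l z⟩

end GoodData

end Groth.Agent.Lib.AbsApprox62a
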