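import Mathlib
import Groth.Agent.Lib.AbsApprox62AA6

/-! # Absolute Noetherian approximation (helper62), part AA7 -/

set_option autoImplicit false
set_option linter.style.haveILetI false
universe u
open CategoryTheory

namespace Groth.Agent.Lib.AbsApprox62a

namespace GoodData

variable {I : Type u} [Preorder I] (X : GoodData I)

/-- The index type: pairs `(i, A)` with `A` a good finitely generated subalgebra of `B ×_R R_i`. -/
structure Idx where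
  i : I
  A : Subalgebra ℤ (X.Bfib i)
  fg : A.FG
  good : X.Good i A

instance : LE X.Idx := ⟨fun j j' => ∃ h : j.i ≤ j'.i, ∀ a ∈ j.A, X.μ h a ∈ j'.A⟩

lemma Idx.le_def (j j' : X.Idx) : j ≤ j' ↔ ∃ h : j.i ≤ j'.i, ∀ a ∈ j.A, X.μ h a ∈ j'.A := Iff.rfl

lemma Idx.le_i {j j' : X.Idx} (h : j ≤ j') : j.i ≤ j'.i := h.1

lemma Idx.le_mem {j j' : X.Idx} (h : j ≤ j') {a : X.Bfib j.i} (ha : a ∈ j.A) :
    X.μ (Idx.le_i X h) a ∈ j'.A := h.2 a ha

instance : Preorder X.Idx where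
  le_refl j := ⟨le_refl _, fun a ha => by rw [X.μ_id]; exact ha⟩
  le_trans j j' j'' h h' := ⟨h.1.trans h'.1, fun a ha => by
    rw [← X.μ_comp h.1 h'.1]; exact h'.2 _ (h.2 a ha)⟩

/-- A finite generating set of a finitely generated subalgebra is mapped into a subalgebra iff
the whole subalgebra is. -/
lemma map_mem_of_generators {i i' : I} (h : i ≤ i') (A : Subalgebra ℤ (X.Bfib i))
    (A' : Subalgebra ℤ (X.Bfib i')) (s : Set (X.Bfib i)) (hs : Algebra.adjoin ℤ s = A)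
    (hsA' : ∀ x ∈ s, X.μ h x ∈ A') : ∀ a ∈ A, X.μ h a ∈ A' := by
  intro a ha
  rw [← hs] at ha
  have : Algebra.adjoin ℤ s ≤ A'.comap (X.μ h).toIntAlgHom :=
    Algebra.adjoin_le fun x hx => hsA' x hx
  exact this ha

/-- Upper bounds in the index type. -/
lemma exists_idx_ge [IsDirected I (· ≤ ·)] (j j' : X.Idx) (i : I) (F : Set (X.Bfib i))
    (hF : F.Finite) :
    ∃ (j'' : X.Idx) (_ : j ≤ j'') (_ : j' ≤ j'') (hi : i ≤ j''.i), ∀ x ∈ F, X.μ hi x ∈ j''.A := by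
  obtain ⟨i₁, h1, h2⟩ := _root_.exists_ge_ge j.i j'.i
  obtain ⟨i₂, h3, h4⟩ := _root_.exists_ge_ge i₁ i
  obtain ⟨s, hsf, hs⟩ := Subalgebra.fg_def.1 j.fg
  obtain ⟨s', hsf', hs'⟩ := Subalgebra.fg_def.1 j'.fg
  obtain ⟨A, hAfg, hAF, hAgood⟩ := X.exists_good i₂
    (X.μ (h1.trans h3) '' s ∪ X.μ (h2.trans h3) '' s' ∪ X.μ h4 '' F)
    (((hsf.image _).union (hsf'.image _)).union (hF.image _))
  refine ⟨⟨i₂, A, hAfg, hAgood⟩, ⟨h1.trans h3, ?_⟩, ⟨h2.trans h3, ?_⟩, h4, ?_⟩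
  · exact X.map_mem_of_generators _ _ _ s hs fun x hx =>
      hAF (Or.inl (Or.inl ⟨x, hx, rfl⟩))
  · exact X.map_mem_of_generators _ _ _ s' hs' fun x hx =>
      hAF (Or.inl (Or.inr ⟨x, hx, rfl⟩))
  · exact fun x hx => hAF (Or.inr ⟨x, hx, rfl⟩)

instance [IsDirected I (· ≤ ·)] : IsDirected X.Idx (· ≤ ·) :=
  ⟨fun j j' => by
    obtain ⟨j'', h1, h2, -, -⟩ := X.exists_idx_ge j j' j.i ∅ Set.finite_empty
    exact ⟨j'', h1, h2⟩⟩

instance : Nonempty X.Idx := by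
  obtain ⟨A, hAfg, -, hAgood⟩ := X.exists_good X.i₀ ∅ Set.finite_empty
  exact ⟨⟨X.i₀, A, hAfg, hAgood⟩⟩

/-- Every element of `B` comes from a good subalgebra at a large enough stage. -/
lemma exists_pB_eq [IsDirected I (· ≤ ·)] (j₀ : X.Idx) (b : X.B) :
    ∃ (j : X.Idx) (_ : j₀ ≤ j), ∃ a ∈ j.A, X.pB j.i a = b := by
  obtain ⟨i, y, hy⟩ := X.surj (X.res b)
  obtain ⟨j, h1, -, hi, hmem⟩ := X.exists_idx_ge j₀ j₀ i {X.mkB b y hy.symm} (Set.finite_singleton _)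
  exact ⟨j, h1, _, hmem _ rfl, rfl⟩

/-- An element of a good subalgebra mapping to zero in `B` vanishes at a later stage. -/
lemma exists_μ_eq_zero [IsDirected I (· ≤ ·)] (j : X.Idx) (a : X.Bfib j.i) (ha : X.pB j.i a = 0) :
    ∃ (j' : X.Idx) (h : j ≤ j'), X.μ (Idx.le_i X h) a = 0 := by
  have h1 : X.φ j.i (X.pR j.i a) = 0 := by rw [← X.res_pB, ha, map_zero]
  obtain ⟨i', hi', h0⟩ := X.inj j.i _ h1
  obtain ⟨j', h2, -, hi, -⟩ := X.exists_idx_ge j j i' ∅ Set.finite_empty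
  refine ⟨j', h2, X.ext_Bfib ?_ ?_⟩
  · rw [RingData.pB_μ, ha, map_zero]
  · rw [RingData.pR_μ, map_zero, ← X.ρ_comp hi' hi, h0, map_zero]

end GoodData

end Groth.Agent.Lib.AbsApprox62a
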