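import Mathlib
import Groth.Agent.Lib.AbsApprox62AA2

/-! # Absolute Noetherian approximation (helper62), part AA8 -/

set_option autoImplicit false
set_option linter.style.haveILetI false
universe u
open CategoryTheory Limits AlgebraicGeometry

namespace Groth.Agent.Lib.AbsApprox62c

attribute [local instance] CategoryTheory.isConnected_of_hasTerminal

/-- The range of the base change of an open immersion is the preimage of the range. -/
lemma range_eq_preimage_of_isPullback' {P X Y Z : Scheme.{u}} {p : P ⟶ X} {h' : P ⟶ Y}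
    {f : X ⟶ Z} {g : Y ⟶ Z} (sq : IsPullback p h' f g) :
    Set.range h' = g ⁻¹' Set.range f := by
  ext y
  constructor
  · rintro ⟨x, rfl⟩
    refine ⟨p x, ?_⟩
    rw [← Scheme.Hom.comp_apply, sq.w, Scheme.Hom.comp_apply]
  · rintro ⟨x, hx⟩
    obtain ⟨z, hz1, hz2⟩ := Scheme.Pullback.exists_preimage_pullback x y hx
    refine ⟨sq.isoPullback.inv z, ?_⟩
    rw [← Scheme.Hom.comp_apply, sq.isoPullback_inv_snd, hz2]

variable {I : Type u} [SmallCategory I] [IsCofiltered I] (D : I ⥤ Scheme.{u})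

/-- If `κ : E ⟶ D` is a cartesian natural transformation of open immersions, `e` is a limit cone of
`E` and `k : e.pt ⟶ c.pt` is cartesian over the cone maps, then the restriction of `c` over the range
of `κ` at a stage is a limit cone. -/
theorem nonempty_isLimit_opensCone_of_cartesian (c : Cone D) (i₀ : I)
    (E : I ⥤ Scheme.{u}) (κ : E ⟶ D) [∀ i, IsOpenImmersion (κ.app i)]
    (hκ : ∀ {i j : I} (f : i ⟶ j), IsPullback (E.map f) (κ.app i) (κ.app j) (D.map f))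
    (e : Cone E) (he : IsLimit e) (k : e.pt ⟶ c.pt) [IsOpenImmersion k]
    (hk : ∀ i, IsPullback (e.π.app i) k (κ.app i) (c.π.app i)) :
    Nonempty (IsLimit (opensCone D c i₀ (κ.app i₀).opensRange)) := by
  set V := (κ.app i₀).opensRange with hV
  -- ranges
  have hr : ∀ j : Over i₀, Set.range (D.map j.hom ⁻¹ᵁ V).ι = Set.range (κ.app j.left) := by
    intro j
    rw [Scheme.Opens.range_ι, range_eq_preimage_of_isPullback' (hκ j.hom)]
    rfl
  have hr' : Set.range (c.π.app i₀ ⁻¹ᵁ V).ι = Set.range k := by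
    rw [Scheme.Opens.range_ι, range_eq_preimage_of_isPullback' (hk i₀)]
    rfl
  let θ' : ∀ j : Over i₀, ((D.map j.hom ⁻¹ᵁ V : (D.obj j.left).Opens) : Scheme.{u}) ⟶ E.obj j.left :=
    fun j => (IsOpenImmersion.isoOfRangeEq (D.map j.hom ⁻¹ᵁ V).ι (κ.app j.left) (hr j)).hom
  have hθ' : ∀ j : Over i₀, θ' j ≫ κ.app j.left = (D.map j.hom ⁻¹ᵁ V).ι := fun j =>
    IsOpenImmersion.isoOfRangeEq_hom_fac _ _ _
  have hnat : ∀ {j j' : Over i₀} (f : j ⟶ j'),
      (D.map f.left).resLE (D.map j'.hom ⁻¹ᵁ V) (D.map j.hom ⁻¹ᵁ V)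
        (by rw [← Scheme.Hom.comp_preimage, ← D.map_comp, Over.w f]) ≫ θ' j' =
      θ' j ≫ E.map f.left := by
    intro j j' f
    rw [← cancel_mono (κ.app j'.left), Category.assoc, Category.assoc, hθ', κ.naturality,
      reassoc_of% (hθ' j), Scheme.Hom.resLE_comp_ι]
  let θ : opensDiagram D i₀ V ⟶ Over.forget i₀ ⋙ E :=
    { app j := θ' j
      naturality j j' f := hnat f }
  let φ : ((c.π.app i₀ ⁻¹ᵁ V : c.pt.Opens) : Scheme.{u}) ⟶ e.pt :=
    (IsOpenImmersion.isoOfRangeEq (c.π.app i₀ ⁻¹ᵁ V).ι k hr').hom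
  have hφ : φ ≫ k = (c.π.app i₀ ⁻¹ᵁ V).ι := IsOpenImmersion.isoOfRangeEq_hom_fac _ _ _
  have hw : ∀ j : Over i₀,
      (c.π.app j.left).resLE (D.map j.hom ⁻¹ᵁ V) (c.π.app i₀ ⁻¹ᵁ V)
        (by rw [← Scheme.Hom.comp_preimage, c.w]) ≫ θ' j = φ ≫ e.π.app j.left := by
    intro j
    rw [← cancel_mono (κ.app j.left), Category.assoc, Category.assoc, hθ', (hk j.left).w,
      reassoc_of% hφ, Scheme.Hom.resLE_comp_ι]
  let f : (Cone.postcompose θ).obj (opensCone D c i₀ V) ⟶ e.whisker (Over.forget i₀) :=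
    { hom := φ
      w j := (hw j).symm }
  have hφiso : IsIso φ := inferInstanceAs (IsIso
    (IsOpenImmersion.isoOfRangeEq (c.π.app i₀ ⁻¹ᵁ V).ι k hr').hom)
  have hθiso : ∀ j, IsIso (θ.app j) := fun j =>
    inferInstanceAs (IsIso
      (IsOpenImmersion.isoOfRangeEq (D.map j.hom ⁻¹ᵁ V).ι (κ.app j.left) (hr j)).hom)
  refine ⟨isLimitOfIsPullbackOfIsConnected θ _ _ f (fun j => ?_)
    ((Functor.Initial.isLimitWhiskerEquiv (Over.forget i₀) e).symm he)⟩
  exact IsPullback.of_vert_isIso ⟨(hw j)⟩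

/-- Two-piece version: a cone over a cofiltered diagram with affine transition maps is a limit cone
if it is covered by two cartesian systems of open immersions from diagrams with limit cones. -/
theorem nonempty_isLimit_of_two_cartesian [∀ {i j : I} (f : i ⟶ j), IsAffineHom (D.map f)]
    (c : Cone D) (i₀ : I)
    (E₁ : I ⥤ Scheme.{u}) (κ₁ : E₁ ⟶ D) [∀ i, IsOpenImmersion (κ₁.app i)]
    (hκ₁ : ∀ {i j : I} (f : i ⟶ j), IsPullback (E₁.map f) (κ₁.app i) (κ₁.app j) (D.map f))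
    (e₁ : Cone E₁) (he₁ : IsLimit e₁) (k₁ : e₁.pt ⟶ c.pt) [IsOpenImmersion k₁]
    (hk₁ : ∀ i, IsPullback (e₁.π.app i) k₁ (κ₁.app i) (c.π.app i))
    (E₂ : I ⥤ Scheme.{u}) (κ₂ : E₂ ⟶ D) [∀ i, IsOpenImmersion (κ₂.app i)]
    (hκ₂ : ∀ {i j : I} (f : i ⟶ j), IsPullback (E₂.map f) (κ₂.app i) (κ₂.app j) (D.map f))
    (e₂ : Cone E₂) (he₂ : IsLimit e₂) (k₂ : e₂.pt ⟶ c.pt) [IsOpenImmersion k₂]
    (hk₂ : ∀ i, IsPullback (e₂.π.app i) k₂ (κ₂.app i) (c.π.app i))
    (hcov : ∀ x : D.obj i₀, x ∈ Set.range (κ₁.app i₀) ∨ x ∈ Set.range (κ₂.app i₀)) :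
    Nonempty (IsLimit c) := by
  refine nonempty_isLimit_of_opensCone D c i₀
    (fun b : Bool => cond b (κ₁.app i₀).opensRange (κ₂.app i₀).opensRange) ?_ ?_
  · rw [eq_top_iff]
    intro x _
    rcases hcov x with h | h
    · exact TopologicalSpace.Opens.mem_iSup.mpr ⟨true, h⟩
    · exact TopologicalSpace.Opens.mem_iSup.mpr ⟨false, h⟩
  · rintro (_ | _)
    · exact nonempty_isLimit_opensCone_of_cartesian D c i₀ E₂ κ₂ hκ₂ e₂ he₂ k₂ hk₂
    · exact nonempty_isLimit_opensCone_of_cartesian D c i₀ E₁ κ₁ hκ₁ e₁ he₁ k₁ hk₁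

end Groth.Agent.Lib.AbsApprox62c
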