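import Mathlib
import Groth.Agent.Lib.AbsApprox62AA7

/-! # Absolute Noetherian approximation (helper62), part AB1 -/

set_option autoImplicit false
set_option linter.style.haveILetI false
universe u
open CategoryTheory Limits AlgebraicGeometry Opposite

namespace Groth.Agent.Lib.AbsApprox62d

open Groth.Agent.Lib.AbsApprox62a

/-- Abstract geometric input for the one-affine-step of absolute Noetherian approximation. -/
structure GeomData where
  I : Type u
  [preI : Preorder I]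
  [dirI : IsDirected I (· ≤ ·)]
  i₀ : I
  le : ∀ i, i₀ ≤ i
  DU : Iᵒᵖ ⥤ Scheme.{u}
  DT : Iᵒᵖ ⥤ Scheme.{u}
  ι : DT ⟶ DU
  oi : ∀ i, IsOpenImmersion (ι.app i)
  cart : ∀ {i j : Iᵒᵖ} (f : i ⟶ j), IsPullback (DT.map f) (ι.app i) (ι.app j) (DU.map f)
  affU : ∀ {i j : Iᵒᵖ} (f : i ⟶ j), IsAffineHom (DU.map f)
  cptU : ∀ i, CompactSpace (DU.obj i)
  ftU : ∀ i, LocallyOfFiniteType (IsTerminal.from specULiftZIsTerminal (DU.obj i))
  cU : Cone DU
  hcU : IsLimit cU
  cT : Cone DT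
  hcT : IsLimit cT
  ιT : cT.pt ⟶ cU.pt
  oiT : IsOpenImmersion ιT
  cartT : ∀ i, IsPullback (cT.π.app i) ιT (ι.app i) (cU.π.app i)
  W : Scheme.{u}
  affW : IsAffine W
  jW : cT.pt ⟶ W
  oiW : IsOpenImmersion jW
  L : Type
  finL : Finite L
  g : L → Γ(W, ⊤)
  r : L → Γ(DT.obj (op i₀), ⊤)
  range_jW : jW.opensRange = ⨆ l, W.basicOpen (g l)
  jW_g : ∀ l, jW.appTop (g l) = (cT.π.app (op i₀)).appTop (r l)
  affine_r : ∀ l, IsAffineOpen ((DT.obj (op i₀)).basicOpen (r l))
  cover_r : ⨆ l, (DT.obj (op i₀)).basicOpen (r l) = ⊤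

attribute [instance] GeomData.preI GeomData.dirI GeomData.oi GeomData.affU GeomData.cptU
  GeomData.ftU GeomData.oiT GeomData.affW GeomData.oiW GeomData.finL

namespace GeomData

variable (G : GeomData.{u})

instance : Nonempty G.I := ⟨G.i₀⟩

instance : IsCofiltered G.Iᵒᵖ := inferInstance

/-- The transition map of `DT` for `i ≤ i'`. -/
noncomputable abbrev tT {i i' : G.I} (h : i ≤ i') : G.DT.obj (op i') ⟶ G.DT.obj (op i) :=
  G.DT.map (homOfLE h).op

/-- The transition map of `DU` for `i ≤ i'`. -/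
noncomputable abbrev tU {i i' : G.I} (h : i ≤ i') : G.DU.obj (op i') ⟶ G.DU.obj (op i) :=
  G.DU.map (homOfLE h).op

instance {i j : G.Iᵒᵖ} (f : i ⟶ j) : IsAffineHom (G.DT.map f) :=
  MorphismProperty.of_isPullback (G.cart f).flip (G.affU f)

/-- The section `r_l` transported to stage `i`. -/
noncomputable def rr (l : G.L) (i : G.I) : Γ(G.DT.obj (op i), ⊤) := (G.tT (G.le i)).appTop (G.r l)

end GeomData

end Groth.Agent.Lib.AbsApprox62d
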