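import Mathlib
import Groth.Agent.Lib.AbsApprox62AB1

/-! # Absolute Noetherian approximation (helper62), part AB2 -/

set_option autoImplicit false
set_option linter.style.haveILetI false
universe u
open CategoryTheory Limits AlgebraicGeometry Opposite

namespace Groth.Agent.Lib.AbsApprox62d

open Groth.Agent.Lib.AbsApprox62a

namespace GeomData

variable (G : GeomData.{u})

lemma basicOpen_rr (l : G.L) (i : G.I) :
    (G.DT.obj (op i)).basicOpen (G.rr l i) =
      (G.tT (G.le i)) ⁻¹ᵁ (G.DT.obj (op G.i₀)).basicOpen (G.r l) :=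
  (Scheme.preimage_basicOpen_top _ _).symm

lemma affine_rr (l : G.L) (i : G.I) : IsAffineOpen ((G.DT.obj (op i)).basicOpen (G.rr l i)) := by
  rw [basicOpen_rr]
  exact (G.affine_r l).preimage _

lemma cover_rr (i : G.I) : ⨆ l, (G.DT.obj (op i)).basicOpen (G.rr l i) = ⊤ := by
  simp_rw [basicOpen_rr]
  rw [← Scheme.Hom.preimage_iSup, G.cover_r]
  rfl

instance compactSpace_DT (i : G.I) : CompactSpace (G.DT.obj (op i)) := by
  rw [← isCompact_univ_iff]
  have h : (Set.univ : Set (G.DT.obj (op i))) =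
      ⋃ l, ((G.DT.obj (op i)).basicOpen (G.rr l i) : Set _) := by
    have := congrArg (fun U : (G.DT.obj (op i)).Opens => (U : Set (G.DT.obj (op i)))) (G.cover_rr i)
    simpa using this.symm
  rw [h]
  exact isCompact_iUnion fun l => (G.affine_rr l i).isCompact

instance isQuasiAffine_DT (i : G.I) : (G.DT.obj (op i)).IsQuasiAffine := by
  refine Scheme.IsQuasiAffine.of_forall_exists_mem_basicOpen _ fun x => ?_
  have hx : x ∈ (⨆ l, (G.DT.obj (op i)).basicOpen (G.rr l i)) := by
    rw [G.cover_rr]; trivial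
  obtain ⟨l, hl⟩ := TopologicalSpace.Opens.mem_iSup.mp hx
  exact ⟨G.rr l i, G.affine_rr l i, hl⟩

instance compactSpace_DT' (i : G.Iᵒᵖ) : CompactSpace (G.DT.obj i) := G.compactSpace_DT i.unop

instance quasiSeparatedSpace_DT (i : G.Iᵒᵖ) : QuasiSeparatedSpace (G.DT.obj i) := by
  have : (G.DT.obj (op i.unop)).IsQuasiAffine := G.isQuasiAffine_DT i.unop
  have : (G.DT.obj (op i.unop)).IsSeparated := inferInstance
  exact inferInstanceAs (QuasiSeparatedSpace (G.DT.obj (op i.unop)))

end GeomData

end Groth.Agent.Lib.AbsApprox62d
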