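import Mathlib

/-! # Absolute Noetherian approximation (helper62), part AB3 -/

set_option autoImplicit false
set_option linter.style.haveILetI false
universe u
open CategoryTheory Limits AlgebraicGeometry Opposite

namespace Groth.Agent.Lib.AbsApprox62d

/-- For an open immersion `j : T → W` into an affine scheme and a global function `g` on `W`
with `D(g) ⊆ j(T)`, the induced map `Γ(W)_g → Γ(T)_{j^* g}` is bijective. -/
theorem awayMap_appTop_bijective {T W : Scheme.{u}} [IsAffine W] [CompactSpace T] (j : T ⟶ W)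
    [IsOpenImmersion j] (g : Γ(W, ⊤)) (hg : W.basicOpen g ≤ j.opensRange) :
    Function.Bijective (Localization.awayMap j.appTop.hom g) := by
  have hpre : T.basicOpen (j.appTop g) ≤ j ⁻¹ᵁ W.basicOpen g :=
    (Scheme.preimage_basicOpen_top j g).ge
  haveI : IsIso (j.app (W.basicOpen g)) := Scheme.Hom.isIso_app j _ hg
  -- the restricted map `Γ(W, D(g)) → Γ(T, D(j^* g))` is an isomorphism
  have hiso : IsIso (j.appLE (W.basicOpen g) (T.basicOpen (j.appTop g)) hpre) := by
    have e : j.appLE (W.basicOpen g) (T.basicOpen (j.appTop g)) hpre =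
        j.app (W.basicOpen g) ≫ T.presheaf.map
          (eqToHom (Scheme.preimage_basicOpen_top j g).symm).op := by
      rw [Scheme.Hom.appLE]; rfl
    rw [e]; infer_instance
  -- compatibility of restrictions
  have hcomp : ∀ b : Γ(W, ⊤), j.appLE (W.basicOpen g) (T.basicOpen (j.appTop g)) hpre
      (b |_ W.basicOpen g) = (j.appTop b) |_ T.basicOpen (j.appTop g) := by
    intro b
    have h1 := Scheme.Hom.map_appLE j hpre (homOfLE (le_top : W.basicOpen g ≤ ⊤)).op
    have h2 := Scheme.Hom.appLE_map j (U := ⊤) (V := ⊤) (V' := T.basicOpen (j.appTop g)) le_top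
      (homOfLE (le_top : T.basicOpen (j.appTop g) ≤ ⊤)).op
    have h3 : j.appLE ⊤ ⊤ le_top = j.appTop := by
      rw [Scheme.Hom.appTop, Scheme.Hom.app_eq_appLE]; rfl
    rw [h3] at h2
    change (W.presheaf.map _ ≫ j.appLE _ _ hpre) b = (j.appTop ≫ T.presheaf.map _) b
    rw [h1, h2]
  refine ⟨Localization.awayMap_injective_iff.mpr fun b hb => ?_,
    Localization.awayMap_surjective_iff.mpr fun x => ?_⟩
  · have h0 : b |_ W.basicOpen g = 0 := by
      have := hcomp b
      rw [show j.appTop b = 0 from hb] at this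
      have h4 : (0 : Γ(T, ⊤)) |_ T.basicOpen (j.appTop g) = 0 := map_zero _
      rw [h4] at this
      have hinj : Function.Injective
          (j.appLE (W.basicOpen g) (T.basicOpen (j.appTop g)) hpre) :=
        ((ConcreteCategory.isIso_iff_bijective _).mp hiso).1
      exact hinj (this.trans (map_zero _).symm)
    exact exists_pow_mul_eq_zero_of_res_basicOpen_eq_zero_of_isAffineOpen W
      (isAffineOpen_top W) b g h0
  · have hsurj : Function.Surjective
        (j.appLE (W.basicOpen g) (T.basicOpen (j.appTop g)) hpre) :=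
      ((ConcreteCategory.isIso_iff_bijective _).mp hiso).2
    obtain ⟨β, hβ⟩ := hsurj (x |_ T.basicOpen (j.appTop g))
    obtain ⟨n, y, hy⟩ := exists_eq_pow_mul_of_isAffineOpen W ⊤ (isAffineOpen_top W) g β
    -- apply `j` to `hy`
    have h5 : (j.appTop y) |_ T.basicOpen (j.appTop g) =
        ((j.appTop g) |_ T.basicOpen (j.appTop g)) ^ n * (x |_ T.basicOpen (j.appTop g)) := by
      rw [← hcomp y, hy, map_mul, map_pow, hcomp g, hβ]
    have h6 : (j.appTop y - (j.appTop g) ^ n * x) |_ T.basicOpen (j.appTop g) = 0 := by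
      have : (j.appTop y - (j.appTop g) ^ n * x) |_ T.basicOpen (j.appTop g) =
          (j.appTop y) |_ T.basicOpen (j.appTop g) -
            ((j.appTop g) |_ T.basicOpen (j.appTop g)) ^ n * (x |_ T.basicOpen (j.appTop g)) := by
        change T.presheaf.map _ _ = T.presheaf.map _ _ - (T.presheaf.map _ _) ^ n * T.presheaf.map _ _
        rw [map_sub, map_mul, map_pow]
      rw [this, h5, sub_self]
    obtain ⟨m, hm⟩ := exists_pow_mul_eq_zero_of_res_basicOpen_eq_zero_of_isCompact T (U := ⊤)
      isCompact_univ _ (j.appTop g) h6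
    refine ⟨g ^ m * y, m + n, ?_⟩
    rw [mul_sub, sub_eq_zero] at hm
    change j.appTop (g ^ m * y) = (j.appTop g) ^ (m + n) * x
    rw [map_mul, map_pow, hm, pow_add, mul_assoc]

end Groth.Agent.Lib.AbsApprox62d
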