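import Mathlib

/-! # Absolute Noetherian approximation (helper62), part AB4 -/

set_option autoImplicit false
set_option linter.style.haveILetI false
universe u
open CategoryTheory Limits AlgebraicGeometry Opposite

namespace Groth.Agent.Lib.AbsApprox62d


/-- A ring of finite type over a quotient of `ℤ` is finitely generated as a ring. -/
theorem exists_finset_closure_of_finiteType {R S : Type u} [CommRing R] [CommRing S] (φ : R →+* S)
    (hφ : φ.FiniteType) (hR : ∀ x : R, ∃ n : ℤ, (n : R) = x) :
    ∃ G : Finset S, Subring.closure (G : Set S) = ⊤ := by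
  algebraize [φ]
  obtain ⟨G, hG⟩ := (‹Algebra.FiniteType R S›).out
  refine ⟨G, ?_⟩
  rw [eq_top_iff]
  intro x _
  have hx : x ∈ Algebra.adjoin R (G : Set S) := by rw [hG]; trivial
  rw [← Subalgebra.mem_toSubring, Algebra.adjoin_eq_ring_closure] at hx
  refine Subring.closure_le.mpr ?_ hx
  rintro y (⟨a, rfl⟩ | hy)
  · obtain ⟨n, rfl⟩ := hR a
    change algebraMap R S (n : R) ∈ _
    rw [map_intCast]
    exact intCast_mem _ n
  · exact Subring.subset_closure hy

end Groth.Agent.Lib.AbsApprox62d

namespace Groth.Agent.Lib.AbsApprox62d

/-- Transport of finite generation along a ring isomorphism. -/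
theorem exists_finset_closure_of_ringEquiv {S S' : Type u} [CommRing S] [CommRing S'] (e : S ≃+* S')
    (h : ∃ G : Finset S, Subring.closure (G : Set S) = ⊤) :
    ∃ G : Finset S', Subring.closure (G : Set S') = ⊤ := by
  classical
  obtain ⟨G, hG⟩ := h
  refine ⟨G.image e, ?_⟩
  rw [Finset.coe_image]
  have := congrArg (Subring.map e.toRingHom) hG
  rw [RingHom.map_closure] at this
  rw [show (e : S → S') '' (G : Set S) = e.toRingHom '' (G : Set S) from rfl, this]
  rw [← RingHom.range_eq_map]
  exact RingHom.range_eq_top.mpr e.surjective

/-- The ring of functions on an affine open of a quasi-compact scheme locally of finite type over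
`ℤ` is a finitely generated ring; version for localisations of global sections. -/
theorem exists_finset_closure_away {X : Scheme.{u}} [CompactSpace X] [QuasiSeparatedSpace X]
    [LocallyOfFiniteType (IsTerminal.from specULiftZIsTerminal X)] (s : Γ(X, ⊤))
    (hs : IsAffineOpen (X.basicOpen s)) :
    ∃ G : Finset (Localization.Away s), Subring.closure (G : Set (Localization.Away s)) = ⊤ := by
  let f := IsTerminal.from specULiftZIsTerminal X
  have hft := f.finiteType_appLE (isAffineOpen_top _) hs le_top
  have h1 : ∃ G : Finset Γ(X, X.basicOpen s), Subring.closure (G : Set Γ(X, X.basicOpen s)) = ⊤ := by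
    refine exists_finset_closure_of_finiteType _ hft fun x => ?_
    let e := (Scheme.ΓSpecIso (CommRingCat.of (ULift.{u, 0} ℤ))).commRingCatIsoToRingEquiv
    refine ⟨(e x).down, ?_⟩
    apply e.injective
    rw [map_intCast]
    rfl
  have := isLocalization_basicOpen_of_qcqs (X := X) (U := ⊤) isCompact_univ isQuasiSeparated_univ s
  let e' : Γ(X, X.basicOpen s) ≃+* Localization.Away s :=
    (IsLocalization.algEquiv (Submonoid.powers s) Γ(X, X.basicOpen s)
      (Localization.Away s)).toRingEquiv
  exact exists_finset_closure_of_ringEquiv e' h1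

end Groth.Agent.Lib.AbsApprox62d
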