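import Mathlib
import Groth.Agent.Lib.AbsApprox62AB2
import Groth.Agent.Lib.AbsApprox62AB3
import Groth.Agent.Lib.AbsApprox62AB4

/-! # Absolute Noetherian approximation (helper62), part AB5 -/

set_option autoImplicit false
set_option linter.style.haveILetI false
universe u
open CategoryTheory Limits AlgebraicGeometry Opposite

namespace Groth.Agent.Lib.AbsApprox62d

open Groth.Agent.Lib.AbsApprox62a

namespace GeomData

variable (G : GeomData.{u})

instance compactSpace_cT : CompactSpace G.cT.pt :=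
  Scheme.compactSpace_of_isLimit G.DT G.cT G.hcT

lemma tT_refl (i : G.I) : G.tT (le_refl i) = 𝟙 _ := by
  change G.DT.map (homOfLE (le_refl i)).op = 𝟙 _
  rw [show (homOfLE (le_refl i)).op = 𝟙 (op i) from Subsingleton.elim _ _, G.DT.map_id]

lemma tT_trans {i i' i'' : G.I} (h : i ≤ i') (h' : i' ≤ i'') :
    G.tT h' ≫ G.tT h = G.tT (h.trans h') := by
  change G.DT.map _ ≫ G.DT.map _ = G.DT.map _
  rw [← G.DT.map_comp]
  congr 1

lemma tU_refl (i : G.I) : G.tU (le_refl i) = 𝟙 _ := by
  change G.DU.map (homOfLE (le_refl i)).op = 𝟙 _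
  rw [show (homOfLE (le_refl i)).op = 𝟙 (op i) from Subsingleton.elim _ _, G.DU.map_id]

lemma tU_trans {i i' i'' : G.I} (h : i ≤ i') (h' : i' ≤ i'') :
    G.tU h' ≫ G.tU h = G.tU (h.trans h') := by
  change G.DU.map _ ≫ G.DU.map _ = G.DU.map _
  rw [← G.DU.map_comp]
  congr 1

lemma cT_tT {i i' : G.I} (h : i ≤ i') : G.cT.π.app (op i') ≫ G.tT h = G.cT.π.app (op i) :=
  G.cT.w (homOfLE h).op

lemma cU_tU {i i' : G.I} (h : i ≤ i') : G.cU.π.app (op i') ≫ G.tU h = G.cU.π.app (op i) :=
  G.cU.w (homOfLE h).op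

instance lft_DT (i : G.I) :
    LocallyOfFiniteType (IsTerminal.from specULiftZIsTerminal (G.DT.obj (op i))) := by
  have : IsTerminal.from specULiftZIsTerminal (G.DT.obj (op i)) =
      G.ι.app (op i) ≫ IsTerminal.from specULiftZIsTerminal (G.DU.obj (op i)) :=
    specULiftZIsTerminal.hom_ext _ _
  rw [this]
  infer_instance

/-- The ring-level data attached to the geometric data. -/
noncomputable def ringData : RingData G.I where
  B := Γ(G.W, ⊤)
  R := Γ(G.cT.pt, ⊤)
  res := G.jW.appTop.hom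
  Rr i := Γ(G.DT.obj (op i), ⊤)
  φ i := (G.cT.π.app (op i)).appTop.hom
  ρ h := (G.tT h).appTop.hom
  φ_ρ h x := by
    change ((G.tT h).appTop ≫ (G.cT.π.app _).appTop) x = _
    rw [← Scheme.Hom.comp_appTop, G.cT_tT]
  ρ_id i x := by
    change (G.tT (le_refl i)).appTop x = x
    rw [G.tT_refl]; rfl
  ρ_comp h h' x := by
    change ((G.tT h).appTop ≫ (G.tT h').appTop) x = _
    rw [← Scheme.Hom.comp_appTop, G.tT_trans]

end GeomData

end Groth.Agent.Lib.AbsApprox62d
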