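import Mathlib
import Groth.Agent.Lib.AbsApprox62AB5

/-! # Absolute Noetherian approximation (helper62), part AB6 -/

set_option autoImplicit false
set_option linter.style.haveILetI false
universe u
open CategoryTheory Limits AlgebraicGeometry Opposite

namespace Groth.Agent.Lib.AbsApprox62d

open Groth.Agent.Lib.AbsApprox62a

namespace GeomData

variable (G : GeomData.{u})


/-- The prepared ring-level data attached to the geometric data. -/
noncomputable def goodData : GoodData G.I where
  toRingData := G.ringData
  i₀ := G.i₀
  le := G.le
  L := G.L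
  g := G.g
  r := G.r
  res_g := G.jW_g
  away_bij l := by
    refine awayMap_appTop_bijective G.jW (G.g l) ?_
    rw [G.range_jW]
    exact le_iSup (fun l => G.W.basicOpen (G.g l)) l
  ft i l := exists_finset_closure_away (X := G.DT.obj (op i)) (G.rr l i) (G.affine_rr l i)
  surj x := by
    obtain ⟨i, y, hy⟩ := exists_appTop_π_eq_of_isLimit G.DT G.cT G.hcT x
    exact ⟨i.unop, y, hy.symm⟩
  inj i y hy := by
    obtain ⟨j, f, hf⟩ := exists_appTop_map_eq_zero_of_isLimit G.DT G.cT G.hcT (i := op i) y hy
    refine ⟨j.unop, leOfHom f.unop, ?_⟩
    have : G.tT (leOfHom f.unop) = G.DT.map f := by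
      change G.DT.map _ = G.DT.map f
      congr 1
    change (G.tT (leOfHom f.unop)).appTop y = 0
    rw [this]; exact hf

end GeomData

end Groth.Agent.Lib.AbsApprox62d
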