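import Groth.Agent.Lib.LocImm7

/-! # Localizing immersions, part 8 (helper34): closure lemma, pushouts of open immersions,
two-member covers, separatedness of glued schemes -/

universe u
open CategoryTheory AlgebraicGeometry Limits

namespace Groth.Agent.Lib.LocImm
open _root_.LocImm

/-- For a quasi-compact morphism, every point in the closure of the range is a specialization of a
point of the range. -/
theorem exists_specializes_of_mem_closure_range {X Y : Scheme.{u}} (f : X ⟶ Y) [QuasiCompact f]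
    (y : Y) (hy : y ∈ closure (Set.range f)) : ∃ x : X, f x ⤳ y := by
  obtain ⟨_, ⟨V, hV : IsAffineOpen V, rfl⟩, hyV, -⟩ :=
    Y.isBasis_affineOpens.exists_subset_of_mem_open (Set.mem_univ y) isOpen_univ
  have : IsAffine (V : Scheme) := hV
  have : CompactSpace ↥(f ⁻¹ᵁ V).toScheme := QuasiCompact.compactSpace_of_compactSpace (f ∣_ V)
  let g : (f ⁻¹ᵁ V : Scheme) ⟶ Spec Γ(V, ⊤) := (f ∣_ V) ≫ (V : Scheme).isoSpec.hom
  let y' : (V : Scheme) := ⟨y, hyV⟩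
  have h1 : y' ∈ closure (Set.range (f ∣_ V)) := by
    have hr : Set.range (f ∣_ V) = (Scheme.Opens.ι V) ⁻¹' Set.range f := by
      ext v
      constructor
      · rintro ⟨c, rfl⟩
        refine ⟨(f ⁻¹ᵁ V).ι c, ?_⟩
        rw [← Scheme.Hom.comp_apply, ← Scheme.Hom.comp_apply, morphismRestrict_ι]
      · rintro ⟨x, hx⟩
        have hxV : x ∈ f ⁻¹ᵁ V := by
          change f x ∈ V
          rw [hx]
          exact v.2
        refine ⟨⟨x, hxV⟩, ?_⟩
        apply (Scheme.Opens.ι V).injective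
        rw [← Scheme.Hom.comp_apply, morphismRestrict_ι, Scheme.Hom.comp_apply]
        exact hx
    rw [hr, ← (Scheme.Opens.ι V).isOpenEmbedding.isOpenMap.preimage_closure_eq_closure_preimage (Scheme.Opens.ι V).continuous]
    exact hy
  have h2 : (V : Scheme).isoSpec.hom y' ∈ closure (g '' Set.univ) := by
    have : (⇑g : _ → _) = (V : Scheme).isoSpec.hom ∘ (f ∣_ V) := by ext; simp [g]
    rw [Set.image_univ, this, Set.range_comp]
    exact image_closure_subset_closure_image (V : Scheme).isoSpec.hom.continuous ⟨y', h1, rfl⟩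
  obtain ⟨c, -, hc⟩ := exists_specializes_of_mem_closure_image_of_Spec g Set.univ isClosed_univ
    _ h2
  refine ⟨(f ⁻¹ᵁ V).ι c, ?_⟩
  have h3 : (f ∣_ V) c ⤳ y' := by
    have := hc.map (V : Scheme).isoSpec.inv.continuous
    have e1 : (V : Scheme).isoSpec.inv (g c) = (f ∣_ V) c := by
      change (V : Scheme).isoSpec.inv ((V : Scheme).isoSpec.hom ((f ∣_ V) c)) = _
      rw [← Scheme.Hom.comp_apply, Iso.hom_inv_id]; rfl
    have e2 : (V : Scheme).isoSpec.inv ((V : Scheme).isoSpec.hom y') = y' := by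
      rw [← Scheme.Hom.comp_apply, Iso.hom_inv_id]; rfl
    rwa [e1, e2] at this
  have h4 := h3.map (Scheme.Opens.ι V).continuous
  rw [← Scheme.Hom.comp_apply, morphismRestrict_ι, Scheme.Hom.comp_apply] at h4
  exact h4

set_option backward.isDefEq.respectTransparency.types false in
theorem exists_pushout_of_isOpenImmersion {W Y₁ Y₂ : Scheme.{u}} (g₁ : W ⟶ Y₁) (g₂ : W ⟶ Y₂)
    [IsOpenImmersion g₁] [IsOpenImmersion g₂] :
    ∃ (Y : Scheme.{u}) (ι₁ : Y₁ ⟶ Y) (ι₂ : Y₂ ⟶ Y), IsOpenImmersion ι₁ ∧ IsOpenImmersion ι₂ ∧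
      IsPushout g₁ g₂ ι₁ ι₂ ∧ (∀ y : Y, y ∈ Set.range ι₁ ∨ y ∈ Set.range ι₂) ∧
      (∀ y₁ y₂, ι₁ y₁ = ι₂ y₂ → ∃ w, g₁ w = y₁ ∧ g₂ w = y₂) := by
  have hF : ∀ {i j : WalkingSpan} (φ : i ⟶ j), IsOpenImmersion ((span g₁ g₂).map φ) := by
    rintro i j (_ | (_ | _))
    · have : (span g₁ g₂).map (𝟙 i) = 𝟙 _ := CategoryTheory.Functor.map_id _ _
      change IsOpenImmersion ((span g₁ g₂).map (𝟙 i))
      rw [this]; infer_instance
    · exact inferInstanceAs (IsOpenImmersion g₁)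
    · exact inferInstanceAs (IsOpenImmersion g₂)
  have : HasPushout g₁ g₂ := inferInstanceAs (HasColimit (span g₁ g₂))
  refine ⟨pushout g₁ g₂, pushout.inl g₁ g₂, pushout.inr g₁ g₂,
    inferInstanceAs (IsOpenImmersion (colimit.ι (span g₁ g₂) WalkingSpan.left)),
    inferInstanceAs (IsOpenImmersion (colimit.ι (span g₁ g₂) WalkingSpan.right)),
    IsPushout.of_hasPushout g₁ g₂, ?_, ?_⟩
  · intro y
    obtain ⟨i, yi, rfl⟩ := Scheme.IsLocallyDirected.ι_jointly_surjective (span g₁ g₂) y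
    match i with
    | none =>
      left
      refine ⟨g₁ yi, ?_⟩
      rw [← Scheme.Hom.comp_apply]
      have := colimit.w (span g₁ g₂) WalkingSpan.Hom.fst
      exact congr(($this) yi)
    | some WalkingPair.left => exact Or.inl ⟨yi, rfl⟩
    | some WalkingPair.right => exact Or.inr ⟨yi, rfl⟩
  · intro y₁ y₂ h
    obtain ⟨k, fi, fj, x, hx₁, hx₂⟩ :=
      (Scheme.IsLocallyDirected.ι_eq_ι_iff (span g₁ g₂) (i := WalkingSpan.left)
        (j := WalkingSpan.right)).1 h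
    match k, fi, fj with
    | none, .init _, .init _ => exact ⟨x, hx₁, hx₂⟩

/-- two-member family of opens -/
def twoOpens {X : Scheme.{u}} (U₁ U₂ : X.Opens) : Bool → X.Opens
  | true => U₁
  | false => U₂

lemma iSup_twoOpens {X : Scheme.{u}} (U₁ U₂ : X.Opens) (hU : U₁ ⊔ U₂ = ⊤) :
    iSup (twoOpens U₁ U₂) = ⊤ := by
  rw [iSup_bool_eq]
  exact hU

theorem hom_ext_of_sup_eq_top {X Y : Scheme.{u}} (U₁ U₂ : X.Opens) (hU : U₁ ⊔ U₂ = ⊤)
    (φ ψ : X ⟶ Y) (h₁ : U₁.ι ≫ φ = U₁.ι ≫ ψ) (h₂ : U₂.ι ≫ φ = U₂.ι ≫ ψ) : φ = ψ := by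
  refine Scheme.Cover.hom_ext (X.openCoverOfIsOpenCover (twoOpens U₁ U₂) (iSup_twoOpens U₁ U₂ hU))
    φ ψ ?_
  rintro (_ | _)
  · exact h₂
  · exact h₁

theorem exists_glue_of_sup_eq_top {X Y : Scheme.{u}} (U₁ U₂ : X.Opens) (hU : U₁ ⊔ U₂ = ⊤)
    (φ₁ : (U₁ : Scheme.{u}) ⟶ Y) (φ₂ : (U₂ : Scheme.{u}) ⟶ Y)
    (h : X.homOfLE (inf_le_left : U₁ ⊓ U₂ ≤ U₁) ≫ φ₁ = X.homOfLE (inf_le_right : U₁ ⊓ U₂ ≤ U₂) ≫ φ₂) :
    ∃ φ : X ⟶ Y, U₁.ι ≫ φ = φ₁ ∧ U₂.ι ≫ φ = φ₂ := by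
  let 𝒱 := X.openCoverOfIsOpenCover (twoOpens U₁ U₂) (iSup_twoOpens U₁ U₂ hU)
  let F : ∀ b : Bool, 𝒱.X b ⟶ Y := fun b => match b with
    | true => φ₁
    | false => φ₂
  have hmono : ∀ (U : X.Opens), pullback.fst U.ι U.ι = pullback.snd U.ι U.ι := fun U =>
    (cancel_mono U.ι).1 pullback.condition
  have h12 : pullback.fst U₁.ι U₂.ι ≫ φ₁ = pullback.snd U₁.ι U₂.ι ≫ φ₂ := by
    rw [← cancel_epi (isPullback_opens_inf U₁ U₂).isoPullback.hom]
    rw [IsPullback.isoPullback_hom_fst_assoc, IsPullback.isoPullback_hom_snd_assoc]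
    exact h
  have h21 : pullback.fst U₂.ι U₁.ι ≫ φ₂ = pullback.snd U₂.ι U₁.ι ≫ φ₁ := by
    rw [← cancel_epi (isPullback_opens_inf U₁ U₂).flip.isoPullback.hom]
    rw [IsPullback.isoPullback_hom_fst_assoc, IsPullback.isoPullback_hom_snd_assoc]
    exact h.symm
  have hF : ∀ x y, pullback.fst (𝒱.f x) (𝒱.f y) ≫ F x = pullback.snd _ _ ≫ F y := by
    rintro (_ | _) (_ | _)
    · change pullback.fst U₂.ι U₂.ι ≫ φ₂ = pullback.snd U₂.ι U₂.ι ≫ φ₂
      rw [hmono]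
    · exact h21
    · exact h12
    · change pullback.fst U₁.ι U₁.ι ≫ φ₁ = pullback.snd U₁.ι U₁.ι ≫ φ₁
      rw [hmono]
  refine ⟨𝒱.glueMorphisms F hF, ?_, ?_⟩
  · exact 𝒱.ι_glueMorphisms F hF true
  · exact 𝒱.ι_glueMorphisms F hF false

theorem of_sup_eq_top_of_isZariskiLocalAtSource (P : MorphismProperty Scheme.{u})
    [IsZariskiLocalAtSource P] {X Y : Scheme.{u}} (U₁ U₂ : X.Opens) (hU : U₁ ⊔ U₂ = ⊤)
    (φ : X ⟶ Y) (h₁ : P (U₁.ι ≫ φ)) (h₂ : P (U₂.ι ≫ φ)) : P φ := by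
  refine IsZariskiLocalAtSource.of_iSup_eq_top (twoOpens U₁ U₂) (iSup_twoOpens U₁ U₂ hU) ?_
  rintro (_ | _)
  · exact h₂
  · exact h₁

/-- two-member family of schemes -/
def twoX (Y₁ Y₂ : Scheme.{u}) : Bool → Scheme.{u}
  | true => Y₁
  | false => Y₂

/-- two-member family of morphisms -/
def twoF {Y₁ Y₂ Y : Scheme.{u}} (ι₁ : Y₁ ⟶ Y) (ι₂ : Y₂ ⟶ Y) : (b : Bool) → (twoX Y₁ Y₂ b ⟶ Y)
  | true => ι₁
  | false => ι₂

/-- two-member open cover -/
def twoCover {Y₁ Y₂ Y : Scheme.{u}} (ι₁ : Y₁ ⟶ Y) (ι₂ : Y₂ ⟶ Y) [IsOpenImmersion ι₁]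
    [IsOpenImmersion ι₂] (h : ∀ y : Y, y ∈ Set.range ι₁ ∨ y ∈ Set.range ι₂) : Y.OpenCover where
  I₀ := Bool
  X := twoX Y₁ Y₂
  f := twoF ι₁ ι₂
  mem₀ := by
    rw [Scheme.presieve₀_mem_precoverage_iff]
    refine ⟨fun y => ?_, fun b => ?_⟩
    · rcases h y with ⟨a, ha⟩ | ⟨a, ha⟩
      · exact ⟨true, a, ha⟩
      · exact ⟨false, a, ha⟩
    · cases b
      · exact inferInstanceAs (IsOpenImmersion ι₂)
      · exact inferInstanceAs (IsOpenImmersion ι₁)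

set_option backward.isDefEq.respectTransparency false in
theorem isSeparated_of_openCover_mapDesc {Y S : Scheme.{u}} (p : Y ⟶ S) (𝒰 : Y.OpenCover)
    (h : ∀ i j, IsClosedImmersion (pullback.mapDesc (𝒰.f i) (𝒰.f j) p)) : IsSeparated p := by
  refine ⟨IsZariskiLocalAtTarget.of_openCover (Scheme.Pullback.openCoverOfLeftRight 𝒰 𝒰 p p) ?_⟩
  intro ⟨i, j⟩
  dsimp [Scheme.Cover.pullbackHom]
  refine (MorphismProperty.cancel_left_of_respectsIso (P := @IsClosedImmersion)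
    (f := (pullbackDiagonalMapIdIso (𝒰.f i) (𝒰.f j) p).inv) _).mp ?_
  have : (pullbackDiagonalMapIdIso (𝒰.f i) (𝒰.f j) p).inv ≫ pullback.snd _ _ =
      pullback.mapDesc (𝒰.f i) (𝒰.f j) p := by
    apply pullback.hom_ext
    · simp [pullback.mapDesc]
    · simp [pullback.mapDesc]
  have key := h i j
  rw [← this] at key
  exact key

set_option backward.isDefEq.respectTransparency false in
lemma mapDesc_self {Y₁ Y S : Scheme.{u}} (ι : Y₁ ⟶ Y) [Mono ι] (p : Y ⟶ S) :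
    pullback.mapDesc ι ι p = pullback.fst ι ι ≫ pullback.diagonal (ι ≫ p) := by
  have hmono : pullback.fst ι ι = pullback.snd ι ι := (cancel_mono ι).1 pullback.condition
  apply pullback.hom_ext
  · simp [pullback.mapDesc]
  · simp [pullback.mapDesc, hmono]

set_option backward.isDefEq.respectTransparency false in
theorem isSeparated_of_two {Y₁ Y₂ W Y S : Scheme.{u}} (g₁ : W ⟶ Y₁) (g₂ : W ⟶ Y₂)
    (ι₁ : Y₁ ⟶ Y) (ι₂ : Y₂ ⟶ Y) [IsOpenImmersion ι₁]
    [IsOpenImmersion ι₂] (h : ∀ y : Y, y ∈ Set.range ι₁ ∨ y ∈ Set.range ι₂)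
    (hpb : IsPullback g₁ g₂ ι₁ ι₂) (p : Y ⟶ S) [IsSeparated (ι₁ ≫ p)] [IsSeparated (ι₂ ≫ p)]
    (hcl : IsClosedImmersion (pullback.lift g₁ g₂ (by rw [hpb.w_assoc]) :
      W ⟶ pullback (ι₁ ≫ p) (ι₂ ≫ p))) : IsSeparated p := by
  refine isSeparated_of_openCover_mapDesc p (twoCover ι₁ ι₂ h) ?_
  have hw : g₁ ≫ ι₁ ≫ p = g₂ ≫ ι₂ ≫ p := by rw [hpb.w_assoc]
  rintro (_ | _) (_ | _)
  · change IsClosedImmersion (pullback.mapDesc ι₂ ι₂ p)
    rw [mapDesc_self]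
    infer_instance
  · change IsClosedImmersion (pullback.mapDesc ι₂ ι₁ p)
    have : pullback.mapDesc ι₂ ι₁ p = hpb.flip.isoPullback.inv ≫ pullback.lift g₁ g₂ hw ≫
        (pullbackSymmetry _ _).hom := by
      rw [Iso.eq_inv_comp]
      apply pullback.hom_ext
      · simp [pullback.mapDesc]
      · simp [pullback.mapDesc]
    rw [this]
    infer_instance
  · change IsClosedImmersion (pullback.mapDesc ι₁ ι₂ p)
    have : pullback.mapDesc ι₁ ι₂ p = hpb.isoPullback.inv ≫ pullback.lift g₁ g₂ hw := by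
      rw [Iso.eq_inv_comp]
      apply pullback.hom_ext
      · simp [pullback.mapDesc]
      · simp [pullback.mapDesc]
    rw [this]
    infer_instance
  · change IsClosedImmersion (pullback.mapDesc ι₁ ι₁ p)
    rw [mapDesc_self]
    infer_instance

end Groth.Agent.Lib.LocImm
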