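import Mathlib
import Groth.Agent.Lib.LocImm8

/-! # Absolute Noetherian approximation (helper62), part AC1 -/

set_option autoImplicit false
set_option linter.style.haveILetI false
universe u
open CategoryTheory Limits AlgebraicGeometry

namespace Groth.Agent.Lib.AbsApprox62e

/-- A commutative square `g₁ ≫ ι₁ = g₂ ≫ ι₂` with `g₁` and `ι₂` open immersions is cartesian as
soon as it is so on points. -/
theorem isPullback_of_isOpenImmersion {W Y₁ Y₂ Y : Scheme.{u}} (g₁ : W ⟶ Y₁) (g₂ : W ⟶ Y₂)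
    (ι₁ : Y₁ ⟶ Y) (ι₂ : Y₂ ⟶ Y) [IsOpenImmersion g₁] [IsOpenImmersion ι₂]
    (w : g₁ ≫ ι₁ = g₂ ≫ ι₂) (h : ∀ y₁ y₂, ι₁ y₁ = ι₂ y₂ → ∃ w, g₁ w = y₁) :
    IsPullback g₁ g₂ ι₁ ι₂ := by
  let l : W ⟶ pullback ι₁ ι₂ := pullback.lift g₁ g₂ w
  have hl1 : l ≫ pullback.fst ι₁ ι₂ = g₁ := pullback.lift_fst _ _ _
  have hl2 : l ≫ pullback.snd ι₁ ι₂ = g₂ := pullback.lift_snd _ _ _
  haveI : IsOpenImmersion (l ≫ pullback.fst ι₁ ι₂) := by rw [hl1]; infer_instance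
  haveI : IsOpenImmersion l := IsOpenImmersion.of_comp l (pullback.fst ι₁ ι₂)
  haveI : IsIso l := by
    rw [isIso_iff_isOpenImmersion_and_surjective]
    refine ⟨inferInstance, ⟨fun p => ?_⟩⟩
    have hp : ι₁ (pullback.fst ι₁ ι₂ p) = ι₂ (pullback.snd ι₁ ι₂ p) := by
      rw [← Scheme.Hom.comp_apply, pullback.condition, Scheme.Hom.comp_apply]
    obtain ⟨x, hx⟩ := h _ _ hp
    refine ⟨x, ?_⟩
    apply (pullback.fst ι₁ ι₂).isOpenEmbedding.injective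
    rw [← Scheme.Hom.comp_apply, hl1, hx]
  exact IsPullback.of_iso_pullback ⟨w⟩ (asIso l) hl1 hl2

end Groth.Agent.Lib.AbsApprox62e

namespace Groth.Agent.Lib.AbsApprox62e

open Groth.Agent.Lib.LocImm

/-- Points of a fibre product of schemes. -/
theorem exists_of_isPullback {P X Y Z : Scheme.{u}} {p : P ⟶ X} {h' : P ⟶ Y} {f : X ⟶ Z}
    {g : Y ⟶ Z} (sq : IsPullback p h' f g) (x : X) (y : Y) (hxy : f x = g y) :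
    ∃ z : P, p z = x ∧ h' z = y := by
  obtain ⟨z, hz1, hz2⟩ := Scheme.Pullback.exists_preimage_pullback x y hxy
  refine ⟨sq.isoPullback.inv z, ?_, ?_⟩
  · rw [← Scheme.Hom.comp_apply, sq.isoPullback_inv_fst, hz1]
  · rw [← Scheme.Hom.comp_apply, sq.isoPullback_inv_snd, hz2]

/-- A gluing of two schemes along a common open subscheme. -/
structure Glue2 {W Y₁ Y₂ : Scheme.{u}} (g₁ : W ⟶ Y₁) (g₂ : W ⟶ Y₂) where
  Y : Scheme.{u}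
  ι₁ : Y₁ ⟶ Y
  ι₂ : Y₂ ⟶ Y
  [oi₁ : IsOpenImmersion ι₁]
  [oi₂ : IsOpenImmersion ι₂]
  po : IsPushout g₁ g₂ ι₁ ι₂
  cover : ∀ y : Y, y ∈ Set.range ι₁ ∨ y ∈ Set.range ι₂
  fib : ∀ y₁ y₂, ι₁ y₁ = ι₂ y₂ → ∃ w, g₁ w = y₁ ∧ g₂ w = y₂

attribute [instance] Glue2.oi₁ Glue2.oi₂

namespace Glue2

variable {W Y₁ Y₂ : Scheme.{u}} {g₁ : W ⟶ Y₁} {g₂ : W ⟶ Y₂}

theorem nonempty (g₁ : W ⟶ Y₁) (g₂ : W ⟶ Y₂) [IsOpenImmersion g₁] [IsOpenImmersion g₂] :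
    Nonempty (Glue2 g₁ g₂) := by
  obtain ⟨Y, ι₁, ι₂, h1, h2, po, cov, fib⟩ := exists_pushout_of_isOpenImmersion g₁ g₂
  exact ⟨{ Y := Y, ι₁ := ι₁, ι₂ := ι₂, po := po, cover := cov, fib := fib }⟩

variable (P : Glue2 g₁ g₂)

lemma w : g₁ ≫ P.ι₁ = g₂ ≫ P.ι₂ := P.po.w

lemma hom_ext {Z : Scheme.{u}} {f f' : P.Y ⟶ Z} (h₁ : P.ι₁ ≫ f = P.ι₁ ≫ f')
    (h₂ : P.ι₂ ≫ f = P.ι₂ ≫ f') : f = f' := P.po.hom_ext h₁ h₂

theorem isPullback [IsOpenImmersion g₁] : IsPullback g₁ g₂ P.ι₁ P.ι₂ :=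
  isPullback_of_isOpenImmersion g₁ g₂ P.ι₁ P.ι₂ P.w fun y₁ y₂ h => by
    obtain ⟨w, hw, -⟩ := P.fib y₁ y₂ h
    exact ⟨w, hw⟩

instance compactSpace [CompactSpace Y₁] [CompactSpace Y₂] : CompactSpace P.Y := by
  rw [← isCompact_univ_iff]
  have : (Set.univ : Set P.Y) = Set.range P.ι₁ ∪ Set.range P.ι₂ := by
    ext y
    simpa using P.cover y
  rw [this]
  exact (isCompact_range P.ι₁.continuous).union (isCompact_range P.ι₂.continuous)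

/-- The open cover of the glued scheme by the two pieces. -/
noncomputable def openCover : P.Y.OpenCover := twoCover P.ι₁ P.ι₂ P.cover

theorem of_isZariskiLocalAtSource (Q : MorphismProperty Scheme.{u}) [IsZariskiLocalAtSource Q]
    {Z : Scheme.{u}} (p : P.Y ⟶ Z) (h₁ : Q (P.ι₁ ≫ p)) (h₂ : Q (P.ι₂ ≫ p)) : Q p := by
  refine IsZariskiLocalAtSource.of_openCover P.openCover ?_
  rintro (_ | _)
  · exact h₂
  · exact h₁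

section map

variable {W' Y₁' Y₂' : Scheme.{u}} {g₁' : W' ⟶ Y₁'} {g₂' : W' ⟶ Y₂'} (P' : Glue2 g₁' g₂')
  (a₀ : W' ⟶ W) (a₁ : Y₁' ⟶ Y₁) (a₂ : Y₂' ⟶ Y₂) (h₁ : g₁' ≫ a₁ = a₀ ≫ g₁)
  (h₂ : g₂' ≫ a₂ = a₀ ≫ g₂)

/-- The morphism between gluings induced by a morphism of gluing data. -/
noncomputable def map : P'.Y ⟶ P.Y :=
  P'.po.desc (a₁ ≫ P.ι₁) (a₂ ≫ P.ι₂) (by rw [reassoc_of% h₁, reassoc_of% h₂, P.w])

@[reassoc (attr := simp)]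
lemma ι₁_map : P'.ι₁ ≫ map P P' a₀ a₁ a₂ h₁ h₂ = a₁ ≫ P.ι₁ := P'.po.inl_desc _ _ _

@[reassoc (attr := simp)]
lemma ι₂_map : P'.ι₂ ≫ map P P' a₀ a₁ a₂ h₁ h₂ = a₂ ≫ P.ι₂ := P'.po.inr_desc _ _ _

theorem isPullback_map₁
    (hc : ∀ (y₂' : Y₂') (w : W), a₂ y₂' = g₂ w → ∃ w', g₂' w' = y₂') :
    IsPullback P'.ι₁ a₁ (map P P' a₀ a₁ a₂ h₁ h₂) P.ι₁ := by
  refine isPullback_of_isOpenImmersion _ _ _ _ (ι₁_map P P' a₀ a₁ a₂ h₁ h₂) fun y' y₁ h => ?_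
  rcases P'.cover y' with ⟨y₁', rfl⟩ | ⟨y₂', rfl⟩
  · exact ⟨y₁', rfl⟩
  · rw [← Scheme.Hom.comp_apply, ι₂_map, Scheme.Hom.comp_apply] at h
    obtain ⟨w, -, hw2⟩ := P.fib _ _ h.symm
    obtain ⟨w', rfl⟩ := hc _ _ hw2.symm
    refine ⟨g₁' w', ?_⟩
    rw [← Scheme.Hom.comp_apply, P'.w, Scheme.Hom.comp_apply]

theorem isPullback_map₂
    (hc : ∀ (y₁' : Y₁') (w : W), a₁ y₁' = g₁ w → ∃ w', g₁' w' = y₁') :
    IsPullback P'.ι₂ a₂ (map P P' a₀ a₁ a₂ h₁ h₂) P.ι₂ := by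
  refine isPullback_of_isOpenImmersion _ _ _ _ (ι₂_map P P' a₀ a₁ a₂ h₁ h₂) fun y' y₂ h => ?_
  rcases P'.cover y' with ⟨y₁', rfl⟩ | ⟨y₂', rfl⟩
  · rw [← Scheme.Hom.comp_apply, ι₁_map, Scheme.Hom.comp_apply] at h
    obtain ⟨w, hw1, -⟩ := P.fib _ _ h
    obtain ⟨w', rfl⟩ := hc _ _ hw1.symm
    refine ⟨g₂' w', ?_⟩
    rw [← Scheme.Hom.comp_apply, ← P'.w, Scheme.Hom.comp_apply]
  · exact ⟨y₂', rfl⟩

theorem of_isZariskiLocalAtTarget_map (Q : MorphismProperty Scheme.{u}) [IsZariskiLocalAtTarget Q]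
    (hc₁ : ∀ (y₁' : Y₁') (w : W), a₁ y₁' = g₁ w → ∃ w', g₁' w' = y₁')
    (hc₂ : ∀ (y₂' : Y₂') (w : W), a₂ y₂' = g₂ w → ∃ w', g₂' w' = y₂')
    (hQ₁ : Q a₁) (hQ₂ : Q a₂) : Q (map P P' a₀ a₁ a₂ h₁ h₂) := by
  refine IsZariskiLocalAtTarget.of_openCover P.openCover ?_
  rintro (_ | _)
  · have hp := isPullback_map₂ P P' a₀ a₁ a₂ h₁ h₂ hc₁
    change Q (pullback.snd (map P P' a₀ a₁ a₂ h₁ h₂) P.ι₂)
    rw [← MorphismProperty.cancel_left_of_respectsIso Q hp.isoPullback.hom, hp.isoPullback_hom_snd]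
    exact hQ₂
  · have hp := isPullback_map₁ P P' a₀ a₁ a₂ h₁ h₂ hc₂
    change Q (pullback.snd (map P P' a₀ a₁ a₂ h₁ h₂) P.ι₁)
    rw [← MorphismProperty.cancel_left_of_respectsIso Q hp.isoPullback.hom, hp.isoPullback_hom_snd]
    exact hQ₁

end map

end Glue2

end Groth.Agent.Lib.AbsApprox62e
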