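import Mathlib
import Groth.Agent.Lib.AbsApprox62AA3

/-! # Absolute Noetherian approximation (helper62), part AC2 -/

set_option autoImplicit false
set_option linter.style.haveILetI false
universe u
open CategoryTheory Limits AlgebraicGeometry Opposite

namespace Groth.Agent.Lib.AbsApprox62f

open Groth.Agent.Lib.AbsApprox62b

/-- For a global function `r` on a qcqs scheme with `D(r)` affine, the basic open `D(r)` of
`Spec Γ(X, ⊤)` lies in the range of `X ⟶ Spec Γ(X, ⊤)`. -/
theorem basicOpen_le_opensRange_toSpecΓ {X : Scheme.{u}} [X.IsQuasiAffine]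
    (r : Γ(X, ⊤)) (hr : IsAffineOpen (X.basicOpen r)) :
    (PrimeSpectrum.basicOpen r : (Spec Γ(X, ⊤)).Opens) ≤ X.toSpecΓ.opensRange := by
  intro p hp
  have hloc := isLocalization_basicOpen_of_qcqs (X := X) (U := ⊤) isCompact_univ
    isQuasiSeparated_univ r
  have h1 : (X.basicOpen r).toSpecΓ ≫ Spec.map (X.presheaf.map (homOfLE le_top).op) =
      (X.basicOpen r).ι ≫ X.toSpecΓ := Scheme.Opens.toSpecΓ_SpecMap_presheaf_map_top _
  have h2 : p ∈ Set.range (PrimeSpectrum.comap (algebraMap Γ(X, ⊤) Γ(X, X.basicOpen r))) := by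
    rw [PrimeSpectrum.localization_away_comap_range Γ(X, X.basicOpen r) r]
    exact hp
  obtain ⟨p', hp'⟩ := h2
  haveI : IsIso (X.basicOpen r).toSpecΓ := by
    rw [← IsAffineOpen.isoSpec_hom hr]; infer_instance
  obtain ⟨x', hx'⟩ := (X.basicOpen r).toSpecΓ.surjective p'
  refine ⟨(X.basicOpen r).ι x', ?_⟩
  rw [← Scheme.Hom.comp_apply, ← h1, Scheme.Hom.comp_apply, hx', ← hp']
  rfl

/-- The range of `X ⟶ Spec Γ(X, ⊤)` for a quasi-affine scheme covered by affine basic opens. -/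
theorem opensRange_toSpecΓ_eq {X : Scheme.{u}} [X.IsQuasiAffine] {L : Type*}
    (r : L → Γ(X, ⊤)) (hr : ∀ l, IsAffineOpen (X.basicOpen (r l)))
    (hcov : ⨆ l, X.basicOpen (r l) = ⊤) :
    X.toSpecΓ.opensRange = ⨆ l, (PrimeSpectrum.basicOpen (r l) : (Spec Γ(X, ⊤)).Opens) := by
  apply le_antisymm
  · rintro _ ⟨x, rfl⟩
    have hx : x ∈ ⨆ l, X.basicOpen (r l) := by rw [hcov]; trivial
    obtain ⟨l, hl⟩ := TopologicalSpace.Opens.mem_iSup.mp hx
    refine TopologicalSpace.Opens.mem_iSup.mpr ⟨l, ?_⟩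
    rw [← X.toSpecΓ_preimage_basicOpen (r l)] at hl
    exact hl
  · refine iSup_le fun l => ?_
    exact basicOpen_le_opensRange_toSpecΓ (r l) (hr l)

section comp

variable {X : Scheme.{u}} [X.IsQuasiAffine] {A : Type u} [CommRing A] (q : A →+* Γ(X, ⊤))
  {L : Type*} (h : L → A) (hr : ∀ l, IsAffineOpen (X.basicOpen (q (h l))))
  (hcov : ⨆ l, X.basicOpen (q (h l)) = ⊤)
  (hbij : ∀ l, Function.Bijective (Localization.awayMap q (h l)))

include hr hcov in
lemma opensRange_toSpecΓ_eq_srcOpen : X.toSpecΓ.opensRange = srcOpen q h :=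
  opensRange_toSpecΓ_eq (fun l => q (h l)) hr hcov

include hr hcov hbij in
/-- The composite `X ⟶ Spec Γ(X, ⊤) ⟶ Spec A` is an open immersion if `A_{h_l} ≅ Γ(X, ⊤)_{q h_l}`
and the `D(q h_l)` form an affine cover of `X`. -/
theorem isOpenImmersion_toSpecΓ_comp :
    IsOpenImmersion (X.toSpecΓ ≫ Spec.map (CommRingCat.ofHom q)) := by
  have hle : Set.range X.toSpecΓ ⊆ Set.range (srcOpen q h).ι := by
    rw [Scheme.Opens.range_ι, ← opensRange_toSpecΓ_eq_srcOpen q h hr hcov]
    rfl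
  let e : X ⟶ (srcOpen q h).toScheme := IsOpenImmersion.lift (srcOpen q h).ι X.toSpecΓ hle
  have he : e ≫ (srcOpen q h).ι = X.toSpecΓ := IsOpenImmersion.lift_fac _ _ _
  haveI : IsOpenImmersion e := by
    haveI : IsOpenImmersion (e ≫ (srcOpen q h).ι) := by rw [he]; infer_instance
    exact IsOpenImmersion.of_comp e (srcOpen q h).ι
  haveI := isOpenImmersion_of_awayMap_bijective q h hbij
  have : X.toSpecΓ ≫ Spec.map (CommRingCat.ofHom q) =
      e ≫ ((srcOpen q h).ι ≫ Spec.map (CommRingCat.ofHom q)) := by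
    rw [← Category.assoc, he]
  rw [this]
  infer_instance

include hr hcov hbij in
theorem range_toSpecΓ_comp :
    Set.range (X.toSpecΓ ≫ Spec.map (CommRingCat.ofHom q)) = (tgtOpen h : Set _) := by
  rw [← range_eq q h hbij]
  have h1 : Set.range X.toSpecΓ = Set.range (srcOpen q h).ι := by
    rw [Scheme.Opens.range_ι, ← opensRange_toSpecΓ_eq_srcOpen q h hr hcov]
    rfl
  rw [Scheme.Hom.comp_base, TopCat.coe_comp, Set.range_comp, h1, ← Set.range_comp]
  rfl

end comp

end Groth.Agent.Lib.AbsApprox62f
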