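import Mathlib

/-! # Absolute Noetherian approximation (helper62), part AC3 -/

set_option autoImplicit false
set_option linter.style.haveILetI false
universe u
open CategoryTheory Limits AlgebraicGeometry Opposite

namespace Groth.Agent.Lib.AbsApprox62f

/-- The spectrum of a finitely generated ring is locally of finite type over `ℤ`. -/
theorem locallyOfFiniteType_spec_of_finiteType (A : Type u) [CommRing A] [Algebra.FiniteType ℤ A] :
    LocallyOfFiniteType (IsTerminal.from specULiftZIsTerminal (Spec (CommRingCat.of A))) := by
  let φ : ULift.{u} ℤ →+* A := (algebraMap ℤ A).comp (ULift.ringEquiv (R := ℤ)).toRingHom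
  have h : IsTerminal.from specULiftZIsTerminal (Spec (CommRingCat.of A)) =
      Spec.map (CommRingCat.ofHom φ) := specULiftZIsTerminal.hom_ext _ _
  rw [h, HasRingHomProperty.Spec_iff (P := @LocallyOfFiniteType)]
  change φ.FiniteType
  refine RingHom.FiniteType.comp ?_ ?_
  · rw [RingHom.finiteType_algebraMap]; infer_instance
  · exact RingHom.FiniteType.of_surjective _ (ULift.ringEquiv (R := ℤ)).surjective

end Groth.Agent.Lib.AbsApprox62f
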