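import Mathlib
import Groth.Agent.Lib.AbsApprox62AB6
import Groth.Agent.Lib.AbsApprox62AC1
import Groth.Agent.Lib.AbsApprox62AC2
import Groth.Agent.Lib.AbsApprox62AC3

/-! # Absolute Noetherian approximation (helper62), part AC4 -/

set_option autoImplicit false
set_option linter.style.haveILetI false
universe u
open CategoryTheory Limits AlgebraicGeometry Opposite

namespace Groth.Agent.Lib.AbsApprox62d

open Groth.Agent.Lib.AbsApprox62a Groth.Agent.Lib.AbsApprox62b Groth.Agent.Lib.AbsApprox62e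
  Groth.Agent.Lib.AbsApprox62f

namespace GeomData

variable (G : GeomData.{u})

/-- The index type of the approximating system. -/
abbrev J : Type u := G.goodData.Idx

/-- The affine piece `Spec A_j`. -/
noncomputable abbrev specA (j : G.J) : Scheme.{u} := Spec (CommRingCat.of j.A)

/-- The ring map `A_j → Γ(T_i)` as a morphism of commutative rings. -/
noncomputable def qAhom (j : G.J) : CommRingCat.of j.A ⟶ Γ(G.DT.obj (op j.i), ⊤) :=
  CommRingCat.ofHom (G.goodData.qA j.A)

/-- The open immersion `T_i → Spec A_j`. -/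
noncomputable def tA (j : G.J) : G.DT.obj (op j.i) ⟶ G.specA j :=
  (G.DT.obj (op j.i)).toSpecΓ ≫ Spec.map (G.qAhom j)

instance isOpenImmersion_tA (j : G.J) : IsOpenImmersion (G.tA j) :=
  isOpenImmersion_toSpecΓ_comp (X := G.DT.obj (op j.i)) (G.goodData.qA j.A)
    (G.goodData.hA j.good) (fun l => G.affine_rr l j.i) (G.cover_rr j.i)
    (fun l => GoodData.Good.awayMap_bijective G.goodData j.good l)

lemma range_tA (j : G.J) :
    Set.range (G.tA j) = (tgtOpen (G.goodData.hA j.good) : Set (G.specA j)) :=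
  range_toSpecΓ_comp (X := G.DT.obj (op j.i)) (G.goodData.qA j.A)
    (G.goodData.hA j.good) (fun l => G.affine_rr l j.i) (G.cover_rr j.i)
    (fun l => GoodData.Good.awayMap_bijective G.goodData j.good l)

/-- The ring map `A_j → A_j'` for `j ≤ j'`. -/
noncomputable def μA (j j' : G.J) (h : j ≤ j') : j.A →+* j'.A :=
  RingHom.codRestrict ((G.goodData.μ (GoodData.Idx.le_i G.goodData h)).comp j.A.val.toRingHom) j'.A
    (fun a => GoodData.Idx.le_mem G.goodData h a.2)

lemma coe_μA {j j' : G.J} (h : j ≤ j') (a : j.A) :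
    ((G.μA j j' h a : j'.A) : G.goodData.Bfib j'.i) =
      G.goodData.μ (GoodData.Idx.le_i G.goodData h) (a : G.goodData.Bfib j.i) := rfl

lemma qA_μA {j j' : G.J} (h : j ≤ j') (a : j.A) :
    G.goodData.qA j'.A (G.μA j j' h a) =
      (G.tT (GoodData.Idx.le_i G.goodData h)).appTop (G.goodData.qA j.A a) := rfl

lemma bA_μA {j j' : G.J} (h : j ≤ j') (a : j.A) :
    G.goodData.bA j'.A (G.μA j j' h a) = G.goodData.bA j.A a := rfl

lemma μA_hA {j j' : G.J} (h : j ≤ j') (l : G.L) :
    G.μA j j' h (G.goodData.hA j.good l) = G.goodData.hA j'.good l :=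
  Subtype.ext (G.goodData.μ_hfib l (GoodData.Idx.le_i G.goodData h))

lemma μA_refl (j : G.J) (a : j.A) : G.μA j j (le_refl j) a = a :=
  Subtype.ext (G.goodData.μ_id j.i a)

lemma μA_trans {j j' j'' : G.J} (h : j ≤ j') (h' : j' ≤ j'') (a : j.A) :
    G.μA j' j'' h' (G.μA j j' h a) = G.μA j j'' (h.trans h') a :=
  Subtype.ext (G.goodData.μ_comp _ _ (a : G.goodData.Bfib j.i))

/-- The transition map `Spec A_j' → Spec A_j`. -/
noncomputable def specμ (j j' : G.J) (h : j ≤ j') : G.specA j' ⟶ G.specA j :=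
  Spec.map (CommRingCat.ofHom (G.μA j j' h))

lemma specμ_refl (j : G.J) : G.specμ j j (le_refl j) = 𝟙 _ := by
  have : CommRingCat.ofHom (G.μA j j (le_refl j)) = 𝟙 _ :=
    CommRingCat.hom_ext (RingHom.ext fun a => G.μA_refl j a)
  rw [specμ, this, Spec.map_id]

lemma specμ_trans {j j' j'' : G.J} (h : j ≤ j') (h' : j' ≤ j'') :
    G.specμ j' j'' h' ≫ G.specμ j j' h = G.specμ j j'' (h.trans h') := by
  have : CommRingCat.ofHom (G.μA j j' h) ≫ CommRingCat.ofHom (G.μA j' j'' h') =
      CommRingCat.ofHom (G.μA j j'' (h.trans h')) :=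
    CommRingCat.hom_ext (RingHom.ext fun a => G.μA_trans h h' a)
  rw [specμ, specμ, ← Spec.map_comp, this, specμ]

lemma tA_specμ {j j' : G.J} (h : j ≤ j') :
    G.tA j' ≫ G.specμ j j' h = G.tT (GoodData.Idx.le_i G.goodData h) ≫ G.tA j := by
  have key : CommRingCat.ofHom (G.μA j j' h) ≫ G.qAhom j' =
      G.qAhom j ≫ (G.tT (GoodData.Idx.le_i G.goodData h)).appTop :=
    CommRingCat.hom_ext (RingHom.ext fun a => G.qA_μA h a)
  rw [tA, tA, specμ, Category.assoc, ← Spec.map_comp, key, Spec.map_comp,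
    Scheme.toSpecΓ_naturality_assoc]

end GeomData

end Groth.Agent.Lib.AbsApprox62d
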