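import Mathlib
import Groth.Agent.Lib.AbsApprox62AC4

/-! # Absolute Noetherian approximation (helper62), part AC5 -/

set_option autoImplicit false
set_option linter.style.haveILetI false
universe u
open CategoryTheory Limits AlgebraicGeometry Opposite

namespace Groth.Agent.Lib.AbsApprox62d

open Groth.Agent.Lib.AbsApprox62a Groth.Agent.Lib.AbsApprox62b Groth.Agent.Lib.AbsApprox62e
  Groth.Agent.Lib.AbsApprox62f

namespace GeomData

variable (G : GeomData.{u})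

/-- The chosen gluing `S_j = U_i ∪_{T_i} Spec A_j`. -/
noncomputable def glue (j : G.J) : Glue2 (G.ι.app (op j.i)) (G.tA j) :=
  Classical.choice (Glue2.nonempty _ _)

/-- The scheme `S_j`. -/
noncomputable def SJ (j : G.J) : Scheme.{u} := (G.glue j).Y

/-- The open immersion `U_i → S_j`. -/
noncomputable def inl (j : G.J) : G.DU.obj (op j.i) ⟶ G.SJ j := (G.glue j).ι₁

/-- The open immersion `Spec A_j → S_j`. -/
noncomputable def inr (j : G.J) : G.specA j ⟶ G.SJ j := (G.glue j).ι₂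

instance (j : G.J) : IsOpenImmersion (G.inl j) := (G.glue j).oi₁
instance (j : G.J) : IsOpenImmersion (G.inr j) := (G.glue j).oi₂

lemma ι_tU {i i' : G.I} (h : i ≤ i') :
    G.ι.app (op i') ≫ G.tU h = G.tT h ≫ G.ι.app (op i) := (G.ι.naturality _).symm

/-- The transition map `S_j' → S_j`. -/
noncomputable def tS (j j' : G.J) (h : j ≤ j') : G.SJ j' ⟶ G.SJ j :=
  Glue2.map (G.glue j) (G.glue j') (G.tT (GoodData.Idx.le_i G.goodData h))
    (G.tU (GoodData.Idx.le_i G.goodData h)) (G.specμ j j' h) (G.ι_tU _) (G.tA_specμ h)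

@[reassoc]
lemma inl_tS {j j' : G.J} (h : j ≤ j') :
    G.inl j' ≫ G.tS j j' h = G.tU (GoodData.Idx.le_i G.goodData h) ≫ G.inl j :=
  Glue2.ι₁_map _ _ _ _ _ _ _

@[reassoc]
lemma inr_tS {j j' : G.J} (h : j ≤ j') :
    G.inr j' ≫ G.tS j j' h = G.specμ j j' h ≫ G.inr j :=
  Glue2.ι₂_map _ _ _ _ _ _ _

lemma SJ_hom_ext {j : G.J} {Z : Scheme.{u}} {f f' : G.SJ j ⟶ Z} (h₁ : G.inl j ≫ f = G.inl j ≫ f')
    (h₂ : G.inr j ≫ f = G.inr j ≫ f') : f = f' := (G.glue j).hom_ext h₁ h₂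

lemma tS_refl (j : G.J) : G.tS j j (le_refl j) = 𝟙 _ := by
  apply G.SJ_hom_ext
  · rw [inl_tS, G.tU_refl]; simp
  · rw [inr_tS, G.specμ_refl]; simp

lemma tS_trans {j j' j'' : G.J} (h : j ≤ j') (h' : j' ≤ j'') :
    G.tS j' j'' h' ≫ G.tS j j' h = G.tS j j'' (h.trans h') := by
  apply G.SJ_hom_ext
  · rw [inl_tS_assoc, inl_tS, inl_tS, ← Category.assoc, G.tU_trans]
  · rw [inr_tS_assoc, inr_tS, inr_tS, ← Category.assoc, G.specμ_trans]

lemma hc₁ {j j' : G.J} (h : j ≤ j') (y₁' : G.DU.obj (op j'.i)) (w : G.DT.obj (op j.i))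
    (hw : G.tU (GoodData.Idx.le_i G.goodData h) y₁' = G.ι.app (op j.i) w) :
    ∃ w', G.ι.app (op j'.i) w' = y₁' := by
  obtain ⟨z, -, hz⟩ := exists_of_isPullback
    (G.cart (homOfLE (GoodData.Idx.le_i G.goodData h)).op) w y₁' hw.symm
  exact ⟨z, hz⟩

lemma mem_tgtOpen_iff {A : Type u} [CommRing A] {L : Type*} (h : L → A)
    (y : Spec (CommRingCat.of A)) :
    y ∈ tgtOpen h ↔ ∃ l, h l ∉ y.asIdeal := by
  exact TopologicalSpace.Opens.mem_iSup

lemma hc₂ {j j' : G.J} (h : j ≤ j') (y₂' : G.specA j') (w : G.DT.obj (op j.i))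
    (hw : G.specμ j j' h y₂' = G.tA j w) : ∃ w', G.tA j' w' = y₂' := by
  have h1 : G.specμ j j' h y₂' ∈ Set.range (G.tA j) := ⟨w, hw.symm⟩
  rw [G.range_tA j] at h1
  obtain ⟨l, hl⟩ := (mem_tgtOpen_iff _ _).mp h1
  have h2 : y₂' ∈ (tgtOpen (G.goodData.hA j'.good) : Set (G.specA j')) := by
    refine (mem_tgtOpen_iff _ _).mpr ⟨l, ?_⟩
    rw [← G.μA_hA h l]
    exact hl
  rw [← G.range_tA j'] at h2
  exact h2

theorem isPullback_tS₁ {j j' : G.J} (h : j ≤ j') :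
    IsPullback (G.inl j') (G.tU (GoodData.Idx.le_i G.goodData h)) (G.tS j j' h) (G.inl j) :=
  Glue2.isPullback_map₁ _ _ _ _ _ _ _ (G.hc₂ h)

theorem isPullback_tS₂ {j j' : G.J} (h : j ≤ j') :
    IsPullback (G.inr j') (G.specμ j j' h) (G.tS j j' h) (G.inr j) :=
  Glue2.isPullback_map₂ _ _ _ _ _ _ _ (G.hc₁ h)

instance isAffineHom_tS {j j' : G.J} (h : j ≤ j') : IsAffineHom (G.tS j j' h) :=
  Glue2.of_isZariskiLocalAtTarget_map _ _ _ _ _ _ _ @IsAffineHom (G.hc₁ h) (G.hc₂ h)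
    inferInstance (by rw [specμ]; infer_instance)

instance compactSpace_SJ (j : G.J) : CompactSpace (G.SJ j) :=
  Glue2.compactSpace (G.glue j)

instance lft_SJ (j : G.J) :
    LocallyOfFiniteType (IsTerminal.from specULiftZIsTerminal (G.SJ j)) := by
  refine Glue2.of_isZariskiLocalAtSource (G.glue j) @LocallyOfFiniteType _ ?_ ?_
  · rw [specULiftZIsTerminal.hom_ext ((G.glue j).ι₁ ≫ _)
      (IsTerminal.from specULiftZIsTerminal (G.DU.obj (op j.i)))]
    infer_instance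
  · rw [specULiftZIsTerminal.hom_ext ((G.glue j).ι₂ ≫ _)
      (IsTerminal.from specULiftZIsTerminal (G.specA j))]
    haveI : Algebra.FiniteType ℤ j.A := (Subalgebra.fg_iff_finiteType j.A).mp j.fg
    exact locallyOfFiniteType_spec_of_finiteType j.A

end GeomData

end Groth.Agent.Lib.AbsApprox62d
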