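import Mathlib
import Groth.Agent.Lib.AbsApprox62AC5

/-! # Absolute Noetherian approximation (helper62), part AC6 -/

set_option autoImplicit false
set_option linter.style.haveILetI false
universe u
open CategoryTheory Limits AlgebraicGeometry Opposite

namespace Groth.Agent.Lib.AbsApprox62d

open Groth.Agent.Lib.AbsApprox62a Groth.Agent.Lib.AbsApprox62b Groth.Agent.Lib.AbsApprox62e
  Groth.Agent.Lib.AbsApprox62f

namespace GeomData

variable (G : GeomData.{u})

/-- The approximating system `j ↦ S_j`. -/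
noncomputable def DS : G.Jᵒᵖ ⥤ Scheme.{u} where
  obj j := G.SJ j.unop
  map {j j'} f := G.tS j'.unop j.unop (leOfHom f.unop)
  map_id j := G.tS_refl j.unop
  map_comp f g := (G.tS_trans (leOfHom g.unop) (leOfHom f.unop)).symm

/-- The index map `J → I`. -/
noncomputable def iMono : G.J →o G.I where
  toFun j := j.i
  monotone' _ _ h := GoodData.Idx.le_i G.goodData h

/-- The index functor `J ⥤ I`. -/
noncomputable def iFun : G.J ⥤ G.I := G.iMono.monotone.functor

/-- The system `j ↦ U_{i(j)}`. -/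
noncomputable def E₁ : G.Jᵒᵖ ⥤ Scheme.{u} := G.iFun.op ⋙ G.DU

/-- The ring diagram `j ↦ A_j`. -/
noncomputable def RA : G.J ⥤ CommRingCat.{u} where
  obj j := CommRingCat.of j.A
  map {j j'} f := CommRingCat.ofHom (G.μA j j' (leOfHom f))
  map_id j := CommRingCat.hom_ext (RingHom.ext fun a => G.μA_refl j a)
  map_comp f g := CommRingCat.hom_ext (RingHom.ext fun a =>
    (G.μA_trans (leOfHom f) (leOfHom g) a).symm)

/-- The system `j ↦ Spec A_j`. -/
noncomputable def E₂ : G.Jᵒᵖ ⥤ Scheme.{u} := G.RA.op ⋙ Scheme.Spec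

/-- The open immersions `U_{i(j)} → S_j`. -/
noncomputable def κ₁ : G.E₁ ⟶ G.DS where
  app j := G.inl j.unop
  naturality _ _ f := (G.inl_tS (leOfHom f.unop)).symm

/-- The open immersions `Spec A_j → S_j`. -/
noncomputable def κ₂ : G.E₂ ⟶ G.DS where
  app j := G.inr j.unop
  naturality _ _ f := (G.inr_tS (leOfHom f.unop)).symm

instance (j : G.Jᵒᵖ) : IsOpenImmersion (G.κ₁.app j) := inferInstanceAs (IsOpenImmersion (G.inl j.unop))
instance (j : G.Jᵒᵖ) : IsOpenImmersion (G.κ₂.app j) := inferInstanceAs (IsOpenImmersion (G.inr j.unop))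

lemma hκ₁ {j j' : G.Jᵒᵖ} (f : j ⟶ j') :
    IsPullback (G.E₁.map f) (G.κ₁.app j) (G.κ₁.app j') (G.DS.map f) :=
  (G.isPullback_tS₁ (leOfHom f.unop)).flip

lemma hκ₂ {j j' : G.Jᵒᵖ} (f : j ⟶ j') :
    IsPullback (G.E₂.map f) (G.κ₂.app j) (G.κ₂.app j') (G.DS.map f) :=
  (G.isPullback_tS₂ (leOfHom f.unop)).flip

instance (j j' : G.Jᵒᵖ) (f : j ⟶ j') : IsAffineHom (G.DS.map f) :=
  G.isAffineHom_tS (leOfHom f.unop)

instance (j : G.Jᵒᵖ) : CompactSpace (G.DS.obj j) := G.compactSpace_SJ j.unop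

instance (j : G.Jᵒᵖ) : LocallyOfFiniteType (IsTerminal.from specULiftZIsTerminal (G.DS.obj j)) :=
  G.lft_SJ j.unop

end GeomData

end Groth.Agent.Lib.AbsApprox62d
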