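import Mathlib
import Groth.Agent.Lib.AbsApprox62AC6
import Groth.Agent.Lib.AbsApprox62AA8

/-! # Absolute Noetherian approximation (helper62), part AC7 -/

set_option autoImplicit false
set_option linter.style.haveILetI false
universe u
open CategoryTheory Limits AlgebraicGeometry Opposite

namespace Groth.Agent.Lib.AbsApprox62d

open Groth.Agent.Lib.AbsApprox62a Groth.Agent.Lib.AbsApprox62b Groth.Agent.Lib.AbsApprox62e
  Groth.Agent.Lib.AbsApprox62f Groth.Agent.Lib.AbsApprox62c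

namespace GeomData

variable (G : GeomData.{u})

/-- The ring map `A_j → Γ(W)` as a morphism of commutative rings. -/
noncomputable def bAhom (j : G.J) : CommRingCat.of j.A ⟶ Γ(G.W, ⊤) :=
  CommRingCat.ofHom (G.goodData.bA j.A)

/-- The morphism `W → Spec A_j`. -/
noncomputable def wA (j : G.J) : G.W ⟶ G.specA j := G.W.toSpecΓ ≫ Spec.map (G.bAhom j)

lemma jW_wA (j : G.J) : G.jW ≫ G.wA j = G.cT.π.app (op j.i) ≫ G.tA j := by
  have key : G.bAhom j ≫ G.jW.appTop = G.qAhom j ≫ (G.cT.π.app (op j.i)).appTop :=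
    CommRingCat.hom_ext (RingHom.ext fun a => G.goodData.res_pB (a : G.goodData.Bfib j.i))
  rw [wA, tA, Scheme.toSpecΓ_naturality_assoc, Scheme.toSpecΓ_naturality_assoc, ← Spec.map_comp,
    ← Spec.map_comp, key]
  rfl

lemma wA_specμ {j j' : G.J} (h : j ≤ j') : G.wA j' ≫ G.specμ j j' h = G.wA j := by
  have key : CommRingCat.ofHom (G.μA j j' h) ≫ G.bAhom j' = G.bAhom j :=
    CommRingCat.hom_ext (RingHom.ext fun a => G.bA_μA h a)
  rw [wA, wA, specμ, Category.assoc, ← Spec.map_comp, key]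

variable (PS : Glue2 G.ιT G.jW)

/-- The projection `S → S_j`. -/
noncomputable def πS (j : G.J) : PS.Y ⟶ G.SJ j :=
  Glue2.map (G.glue j) PS (G.cT.π.app (op j.i)) (G.cU.π.app (op j.i)) (G.wA j)
    (G.cartT (op j.i)).w.symm (G.jW_wA j)

@[reassoc]
lemma ι₁_πS (j : G.J) : PS.ι₁ ≫ G.πS PS j = G.cU.π.app (op j.i) ≫ G.inl j :=
  Glue2.ι₁_map _ _ _ _ _ _ _

@[reassoc]
lemma ι₂_πS (j : G.J) : PS.ι₂ ≫ G.πS PS j = G.wA j ≫ G.inr j :=
  Glue2.ι₂_map _ _ _ _ _ _ _

lemma πS_tS {j j' : G.J} (h : j ≤ j') : G.πS PS j' ≫ G.tS j j' h = G.πS PS j := by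
  apply PS.hom_ext
  · rw [ι₁_πS_assoc, ι₁_πS, inl_tS, ← Category.assoc, G.cU_tU]
  · rw [ι₂_πS_assoc, ι₂_πS, inr_tS, ← Category.assoc, G.wA_specμ]

/-- The cone over the approximating system with point `S`. -/
noncomputable def coneS : Cone G.DS where
  pt := PS.Y
  π :=
    { app j := G.πS PS j.unop
      naturality _ _ f := (Category.id_comp _).trans (G.πS_tS PS (leOfHom f.unop)).symm }

lemma hcptW (j : G.J) (y₂' : G.W) (w : G.DT.obj (op j.i)) (hw : G.wA j y₂' = G.tA j w) :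
    ∃ w' : G.cT.pt, G.jW w' = y₂' := by
  have h1 : G.wA j y₂' ∈ Set.range (G.tA j) := ⟨w, hw.symm⟩
  rw [G.range_tA j] at h1
  obtain ⟨l, hl⟩ := (mem_tgtOpen_iff _ _).mp h1
  have h2 : y₂' ∈ G.W.basicOpen (G.g l) := by
    rw [← G.W.toSpecΓ_preimage_basicOpen (G.g l)]
    exact hl
  have h3 : y₂' ∈ G.jW.opensRange := by
    rw [G.range_jW]
    exact TopologicalSpace.Opens.mem_iSup.mpr ⟨l, h2⟩
  exact h3

lemma hcptU (j : G.J) (y₁' : G.cU.pt) (w : G.DT.obj (op j.i))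
    (hw : G.cU.π.app (op j.i) y₁' = G.ι.app (op j.i) w) : ∃ w' : G.cT.pt, G.ιT w' = y₁' := by
  obtain ⟨z, -, hz⟩ := exists_of_isPullback (G.cartT (op j.i)) w y₁' hw.symm
  exact ⟨z, hz⟩

theorem isPullback_πS₁ (j : G.J) :
    IsPullback PS.ι₁ (G.cU.π.app (op j.i)) (G.πS PS j) (G.inl j) :=
  Glue2.isPullback_map₁ _ _ _ _ _ _ _ (G.hcptW j)

theorem isPullback_πS₂ (j : G.J) : IsPullback PS.ι₂ (G.wA j) (G.πS PS j) (G.inr j) :=
  Glue2.isPullback_map₂ _ _ _ _ _ _ _ (G.hcptU j)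

instance : IsFiltered G.J := isFiltered_of_directed_le_nonempty _

instance final_iFun : G.iFun.Final := by
  refine Functor.final_of_exists_of_isFiltered _ (fun i => ?_) (fun {i j} s s' => ?_)
  · obtain ⟨j₀⟩ := (inferInstance : Nonempty G.J)
    obtain ⟨j, -, -, hi, -⟩ := G.goodData.exists_idx_ge j₀ j₀ i ∅ Set.finite_empty
    exact ⟨j, ⟨homOfLE hi⟩⟩
  · exact ⟨j, 𝟙 j, Subsingleton.elim _ _⟩

/-- The cone over `j ↦ U_{i(j)}` with point `U`. -/
noncomputable def e₁ : Cone G.E₁ := G.cU.whisker G.iFun.op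

/-- `U = lim U_{i(j)}`. -/
noncomputable def he₁ : IsLimit G.e₁ :=
  (Functor.Initial.isLimitWhiskerEquiv G.iFun.op G.cU).symm G.hcU

/-- The cocone `A_j → Γ(W)`. -/
noncomputable def cRA : Cocone G.RA where
  pt := Γ(G.W, ⊤)
  ι :=
    { app j := G.bAhom j
      naturality _ _ f := (CommRingCat.hom_ext (RingHom.ext fun a => G.bA_μA (leOfHom f) a)).trans
        (Category.comp_id _).symm }

/-- `Γ(W) = colim A_j`. -/
noncomputable def isColimit_cRA : IsColimit G.cRA := by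
  haveI : ReflectsColimit G.RA (forget CommRingCat.{u}) :=
    reflectsColimit_of_reflectsIsomorphisms _ _
  refine isColimitOfReflects (forget CommRingCat.{u}) ?_
  refine Types.FilteredColimit.isColimitOf' _ _ ?_ ?_
  · intro x
    change Γ(G.W, ⊤) at x
    obtain ⟨j₀⟩ := (inferInstance : Nonempty G.J)
    obtain ⟨j, -, a, ha, hab⟩ := G.goodData.exists_pB_eq j₀ x
    exact ⟨j, (⟨a, ha⟩ : j.A), hab.symm⟩
  · intro j x y h
    change j.A at x y
    have h0 : G.goodData.pB j.i ((x : G.goodData.Bfib j.i) - (y : G.goodData.Bfib j.i)) = 0 := by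
      rw [map_sub, sub_eq_zero]
      exact h
    obtain ⟨j', hjj', hz⟩ := G.goodData.exists_μ_eq_zero j _ h0
    refine ⟨j', homOfLE hjj', ?_⟩
    rw [map_sub, sub_eq_zero] at hz
    exact Subtype.ext hz

/-- The cone over `j ↦ Spec A_j` with point `W`. -/
noncomputable def e₂ : Cone G.E₂ where
  pt := G.W
  π :=
    { app j := G.wA j.unop
      naturality _ _ f := (Category.id_comp _).trans (G.wA_specμ (leOfHom f.unop)).symm }

/-- `W = lim Spec A_j`. -/
noncomputable def he₂ : IsLimit G.e₂ :=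
  IsLimit.ofIsoLimit (isLimitOfPreserves Scheme.Spec G.isColimit_cRA.op)
    (Cone.ext G.W.isoSpec (fun _ => rfl) : G.e₂ ≅ Scheme.Spec.mapCone G.cRA.op).symm

/-- **The one-affine-step of absolute Noetherian approximation**: `S = lim S_j`. -/
theorem nonempty_isLimit_coneS : Nonempty (IsLimit (G.coneS PS)) := by
  obtain ⟨j₀⟩ := (inferInstance : Nonempty G.J)
  haveI : IsOpenImmersion (show G.e₁.pt ⟶ (G.coneS PS).pt from PS.ι₁) := PS.oi₁
  haveI : IsOpenImmersion (show G.e₂.pt ⟶ (G.coneS PS).pt from PS.ι₂) := PS.oi₂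
  refine nonempty_isLimit_of_two_cartesian G.DS (G.coneS PS) (op j₀)
    G.E₁ G.κ₁ (fun f => G.hκ₁ f) G.e₁ G.he₁ PS.ι₁ (fun j => (G.isPullback_πS₁ PS j.unop).flip)
    G.E₂ G.κ₂ (fun f => G.hκ₂ f) G.e₂ G.he₂ PS.ι₂ (fun j => (G.isPullback_πS₂ PS j.unop).flip)
    (fun x => (G.glue j₀).cover x)

end GeomData

end Groth.Agent.Lib.AbsApprox62d
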