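import Mathlib
import Groth.Agent.Lib.AbsApprox62AC1

/-! # Absolute Noetherian approximation (helper62), part AC8 -/

set_option autoImplicit false
set_option linter.style.haveILetI false
universe u
open CategoryTheory Limits AlgebraicGeometry

namespace Groth.Agent.Lib.AbsApprox62e

namespace Glue2

/-- A scheme covered by two open subschemes is the gluing of these along their intersection. -/
noncomputable def ofCover {T U' W' S : Scheme.{u}} (g₁ : T ⟶ U') (g₂ : T ⟶ W') (ι₁ : U' ⟶ S)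
    (ι₂ : W' ⟶ S) [IsOpenImmersion g₁] [IsOpenImmersion g₂] [IsOpenImmersion ι₁]
    [IsOpenImmersion ι₂] (w : g₁ ≫ ι₁ = g₂ ≫ ι₂)
    (cover : ∀ s : S, s ∈ Set.range ι₁ ∨ s ∈ Set.range ι₂)
    (fib : ∀ y₁ y₂, ι₁ y₁ = ι₂ y₂ → ∃ t, g₁ t = y₁ ∧ g₂ t = y₂) : Glue2 g₁ g₂ where
  Y := S
  ι₁ := ι₁
  ι₂ := ι₂
  po := by
    obtain ⟨P⟩ := Glue2.nonempty g₁ g₂
    let d : P.Y ⟶ S := P.po.desc ι₁ ι₂ w
    have hd1 : P.ι₁ ≫ d = ι₁ := P.po.inl_desc _ _ _
    have hd2 : P.ι₂ ≫ d = ι₂ := P.po.inr_desc _ _ _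
    have hinj : Function.Injective d := by
      intro p p' hpp'
      rcases P.cover p with ⟨u, rfl⟩ | ⟨v, rfl⟩ <;> rcases P.cover p' with ⟨u', rfl⟩ | ⟨v', rfl⟩
      · rw [← Scheme.Hom.comp_apply, ← Scheme.Hom.comp_apply, hd1] at hpp'
        rw [ι₁.isOpenEmbedding.injective hpp']
      · rw [← Scheme.Hom.comp_apply, ← Scheme.Hom.comp_apply, hd1, hd2] at hpp'
        obtain ⟨t, rfl, rfl⟩ := fib _ _ hpp'
        rw [← Scheme.Hom.comp_apply, ← Scheme.Hom.comp_apply, P.w]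
      · rw [← Scheme.Hom.comp_apply, ← Scheme.Hom.comp_apply, hd1, hd2] at hpp'
        obtain ⟨t, rfl, rfl⟩ := fib _ _ hpp'.symm
        rw [← Scheme.Hom.comp_apply, ← Scheme.Hom.comp_apply, P.w]
      · rw [← Scheme.Hom.comp_apply, ← Scheme.Hom.comp_apply, hd2] at hpp'
        rw [ι₂.isOpenEmbedding.injective hpp']
    haveI : IsOpenImmersion d := by
      refine IsOpenImmersion.of_forall_source_exists d hinj fun p => ?_
      rcases P.cover p with hp | hp
      · exact ⟨_, P.ι₁, inferInstance, hp, by rw [hd1]; infer_instance⟩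
      · exact ⟨_, P.ι₂, inferInstance, hp, by rw [hd2]; infer_instance⟩
    haveI : IsIso d := by
      rw [isIso_iff_isOpenImmersion_and_surjective]
      refine ⟨inferInstance, ⟨fun s => ?_⟩⟩
      rcases cover s with ⟨u, rfl⟩ | ⟨v, rfl⟩
      · exact ⟨P.ι₁ u, by rw [← Scheme.Hom.comp_apply, hd1]⟩
      · exact ⟨P.ι₂ v, by rw [← Scheme.Hom.comp_apply, hd2]⟩
    exact IsPushout.of_iso P.po (Iso.refl _) (Iso.refl _) (Iso.refl _) (asIso d) (by simp)
      (by simp) (by simpa using hd1) (by simpa using hd2)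
  cover := cover
  fib := fib

end Glue2

end Groth.Agent.Lib.AbsApprox62e
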