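import Mathlib

/-! # Absolute Noetherian approximation (helper62), part AD1 -/

set_option autoImplicit false
set_option linter.style.haveILetI false
universe u
open CategoryTheory Limits AlgebraicGeometry Opposite

namespace Groth.Agent.Lib.AbsApprox62h

/-- The conclusion of relative Noetherian approximation, in cartesian form: `S = lim S_j` for an
inverse system of schemes of finite type over `ℤ` with affine transition maps, together with a
cartesian system of open immersions `V_{α j} → S_j` compatible with the limits. -/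
def CleanExt (S : Scheme.{u}) {I : Type u} [Preorder I] (DV : Iᵒᵖ ⥤ Scheme.{u}) (cV : Cone DV)
    (jV : cV.pt ⟶ S) : Prop :=
  ∃ (J : Type u) (_ : Preorder J) (_ : IsDirected J (fun a b => a ≤ b)) (_ : Nonempty J)
    (DS : Jᵒᵖ ⥤ Scheme.{u}) (cS : Cone DS) (_ : IsLimit cS) (eS : cS.pt ≅ S)
    (α : J →o I) (κ : ∀ j : J, DV.obj (op (α j)) ⟶ DS.obj (op j)),
    (∀ (j j' : Jᵒᵖ) (a : j ⟶ j'), IsAffineHom (DS.map a)) ∧
    (∀ j, CompactSpace (DS.obj j) ∧
      LocallyOfFiniteType (IsTerminal.from specULiftZIsTerminal (DS.obj j))) ∧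
    (∀ j, IsOpenImmersion (κ j)) ∧
    (∀ (j j' : J) (h : j ≤ j'), IsPullback (DV.map (homOfLE (α.mono h)).op) (κ j') (κ j)
      (DS.map (homOfLE h).op)) ∧
    (∀ j : J, IsPullback (cV.π.app (op (α j))) (jV ≫ eS.inv) (κ j) (cS.π.app (op j)))

variable {S : Scheme.{u}} {I : Type u} [Preorder I] {DV : Iᵒᵖ ⥤ Scheme.{u}} {cV : Cone DV}
  {jV : cV.pt ⟶ S}

/-- Change of index category. -/
theorem CleanExt.of_whisker {I' : Type u} [Preorder I'] (Φ : I'ᵒᵖ ⥤ Iᵒᵖ)
    (h : CleanExt S (Φ ⋙ DV) (cV.whisker Φ) jV) : CleanExt S DV cV jV := by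
  obtain ⟨J, pJ, dJ, nJ, DS, cS, hcS, eS, α, κ, h1, h2, h3, h4, h5⟩ := h
  let α' : J →o I :=
    { toFun j := (Φ.obj (op (α j))).unop
      monotone' j j' hjj' := leOfHom (Φ.map (homOfLE (α.mono hjj')).op).unop }
  refine ⟨J, pJ, dJ, nJ, DS, cS, hcS, eS, α', κ, h1, h2, h3, fun j j' hjj' => ?_, fun j => ?_⟩
  · have := h4 j j' hjj'
    have e : Φ.map (homOfLE (α.mono hjj')).op = (homOfLE (α'.mono hjj')).op :=
      Subsingleton.elim _ _
    change IsPullback (DV.map (Φ.map (homOfLE (α.mono hjj')).op)) _ _ _ at this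
    rw [e] at this
    exact this
  · exact h5 j

/-- Base case: the system itself. -/
theorem CleanExt.of_isIso [IsDirected I (fun a b => a ≤ b)] [Nonempty I] (hcV : IsLimit cV)
    (haff : ∀ (i i' : Iᵒᵖ) (a : i ⟶ i'), IsAffineHom (DV.map a))
    (hft : ∀ i, CompactSpace (DV.obj i) ∧
      LocallyOfFiniteType (IsTerminal.from specULiftZIsTerminal (DV.obj i)))
    [IsIso jV] : CleanExt S DV cV jV := by
  refine ⟨I, inferInstance, inferInstance, inferInstance, DV, cV, hcV, asIso jV, OrderHom.id,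
    fun j => 𝟙 (DV.obj (op j)), haff, hft, fun j => ?_, fun j j' h => ?_, fun j => ?_⟩
  · exact inferInstanceAs (IsOpenImmersion (𝟙 (DV.obj (op j))))
  · exact @IsPullback.of_vert_isIso _ _ _ _ _ _ _ _ _ _ (IsIso.id (DV.obj (op j')))
      (IsIso.id (DV.obj (op j))) ⟨(Category.comp_id _).trans (Category.id_comp _).symm⟩
  · haveI : IsIso (jV ≫ (asIso jV).inv) := by
      rw [asIso_inv, IsIso.hom_inv_id]; infer_instance
    exact @IsPullback.of_vert_isIso _ _ _ _ _ _ _ _ _ _ this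
      (IsIso.id (DV.obj (op j))) ⟨by
      change cV.π.app (op j) ≫ 𝟙 _ = (jV ≫ inv jV) ≫ cV.π.app (op j)
      rw [IsIso.hom_inv_id, Category.comp_id, Category.id_comp]⟩

/-- Transitivity. -/
theorem CleanExt.trans {U : Scheme.{u}} {jV' : cV.pt ⟶ U} (ιU : U ⟶ S)
    (h₁ : CleanExt U DV cV jV')
    (h₂ : ∀ (J : Type u) [Preorder J] [IsDirected J (fun a b => a ≤ b)] [Nonempty J]
      (DS : Jᵒᵖ ⥤ Scheme.{u}) (cS : Cone DS) (_ : IsLimit cS) (eS : cS.pt ≅ U),
      (∀ (j j' : Jᵒᵖ) (a : j ⟶ j'), IsAffineHom (DS.map a)) →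
      (∀ j, CompactSpace (DS.obj j) ∧
        LocallyOfFiniteType (IsTerminal.from specULiftZIsTerminal (DS.obj j))) →
      CleanExt S DS cS (eS.hom ≫ ιU)) :
    CleanExt S DV cV (jV' ≫ ιU) := by
  obtain ⟨J, pJ, dJ, nJ, DS, cS, hcS, eS, α, κ, h1, h2, h3, h4, h5⟩ := h₁
  obtain ⟨K, pK, dK, nK, DS2, cS2, hcS2, eS2, β, κ2, k1, k2, k3, k4, k5⟩ :=
    h₂ J DS cS hcS eS h1 h2
  refine ⟨K, pK, dK, nK, DS2, cS2, hcS2, eS2, α.comp β, fun k => κ (β k) ≫ κ2 k, k1, k2,
    fun k => ?_, fun k k' h => ?_, fun k => ?_⟩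
  · haveI := h3 (β k)
    haveI := k3 k
    exact inferInstanceAs (IsOpenImmersion (κ (β k) ≫ κ2 k))
  · exact (h4 (β k) (β k') (β.mono h)).paste_vert (k4 k k' h)
  · have := (h5 (β k)).paste_vert (k5 k)
    have e : (jV' ≫ eS.inv) ≫ (eS.hom ≫ ιU) ≫ eS2.inv = (jV' ≫ ιU) ≫ eS2.inv := by simp
    rw [e] at this
    exact this

/-- The range of the base change of a morphism is the preimage of the range. -/
lemma range_eq_preimage_of_isPullback {P X Y Z : Scheme.{u}} {p : P ⟶ X} {h' : P ⟶ Y}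
    {f : X ⟶ Z} {g : Y ⟶ Z} (sq : IsPullback p h' f g) :
    Set.range h' = g ⁻¹' Set.range f := by
  ext y
  constructor
  · rintro ⟨x, rfl⟩
    refine ⟨p x, ?_⟩
    rw [← Scheme.Hom.comp_apply, sq.w, Scheme.Hom.comp_apply]
  · rintro ⟨x, hx⟩
    obtain ⟨z, hz1, hz2⟩ := Scheme.Pullback.exists_preimage_pullback x y hx
    refine ⟨sq.isoPullback.inv z, ?_⟩
    rw [← Scheme.Hom.comp_apply, sq.isoPullback_inv_snd, hz2]

/-- From the cartesian form to the form of the statement of relative approximation. -/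
theorem CleanExt.toOpens (V : S.Opens) (eV : cV.pt ≅ (V : Scheme.{u}))
    (h : CleanExt S DV cV (eV.hom ≫ V.ι)) :
    ∃ (J : Type u) (_ : Preorder J) (_ : IsDirected J (fun a b => a ≤ b)) (_ : Nonempty J)
      (DS : Jᵒᵖ ⥤ Scheme.{u}) (cS : Limits.Cone DS) (_ : Limits.IsLimit cS) (eS : cS.pt ≅ S)
      (α : J →o I) (V' : ∀ j : J, (DS.obj (op j)).Opens)
      (φ : ∀ j : J, (V' j : Scheme.{u}) ≅ DV.obj (op (α j))),
      (∀ (j j' : Jᵒᵖ) (a : j ⟶ j'), IsAffineHom (DS.map a)) ∧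
      (∀ j, CompactSpace (DS.obj j) ∧ LocallyOfFiniteType (Limits.IsTerminal.from specULiftZIsTerminal (DS.obj j))) ∧
      (∀ (j j' : J) (h : j' ≤ j), (DS.map (homOfLE h).op) ⁻¹ᵁ (V' j') = V' j) ∧
      (∀ j : J, (eS.inv ≫ cS.π.app (op j)) ⁻¹ᵁ (V' j) = V) ∧
      (∀ j : J, ∃ ρ : (V : Scheme.{u}) ⟶ (V' j : Scheme.{u}),
        ρ ≫ (V' j).ι = V.ι ≫ eS.inv ≫ cS.π.app (op j) ∧ ρ ≫ (φ j).hom = eV.inv ≫ cV.π.app (op (α j))) ∧
      (∀ (j j' : J) (h : j' ≤ j), ∃ τ : (V' j : Scheme.{u}) ⟶ (V' j' : Scheme.{u}),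
        τ ≫ (V' j').ι = (V' j).ι ≫ DS.map (homOfLE h).op ∧
        (φ j).hom ≫ DV.map (homOfLE (α.mono h)).op = τ ≫ (φ j').hom) := by
  obtain ⟨J, pJ, dJ, nJ, DS, cS, hcS, eS, α, κ, h1, h2, h3, h4, h5⟩ := h
  haveI := h3
  refine ⟨J, pJ, dJ, nJ, DS, cS, hcS, eS, α, fun j => (κ j).opensRange,
    fun j => (κ j).isoOpensRange.symm, h1, h2, fun j j' h => ?_, fun j => ?_, fun j => ?_,
    fun j j' h => ?_⟩
  · apply TopologicalSpace.Opens.ext
    exact (range_eq_preimage_of_isPullback (h4 j' j h)).symm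
  · apply TopologicalSpace.Opens.ext
    have := range_eq_preimage_of_isPullback (h5 j)
    ext s
    simp only [TopologicalSpace.Opens.map_coe, Scheme.Hom.comp_base, TopCat.coe_comp,
      Set.mem_preimage, Function.comp_apply, SetLike.mem_coe]
    change cS.π.app (op j) (eS.inv s) ∈ Set.range (κ j) ↔ _
    rw [← Set.mem_preimage, ← this]
    constructor
    · rintro ⟨v, hv⟩
      have hs : s = V.ι (eV.hom v) := by
        have := congrArg eS.hom hv
        rw [← Scheme.Hom.comp_apply, ← Scheme.Hom.comp_apply] at this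
        simpa using this.symm
      rw [hs]
      exact (eV.hom v).2
    · intro hs
      refine ⟨eV.inv ⟨s, hs⟩, ?_⟩
      rw [← Scheme.Hom.comp_apply]
      simp
  · refine ⟨eV.inv ≫ cV.π.app (op (α j)) ≫ (κ j).isoOpensRange.hom, ?_, ?_⟩
    · simp only [Category.assoc, Scheme.Hom.isoOpensRange_hom_ι]
      rw [(h5 j).w]
      simp
    · simp
  · refine ⟨(κ j).isoOpensRange.inv ≫ DV.map (homOfLE (α.mono h)).op ≫ (κ j').isoOpensRange.hom,
      ?_, ?_⟩
    · simp only [Category.assoc, Scheme.Hom.isoOpensRange_hom_ι]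
      rw [(h4 j' j h).w]
      simp
    · simp

end Groth.Agent.Lib.AbsApprox62h
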