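import Mathlib

/-! # Absolute Noetherian approximation (helper62), part AD3 -/

set_option autoImplicit false
set_option linter.style.haveILetI false
universe u
open CategoryTheory Limits Opposite

namespace Groth.Agent.Lib.AbsApprox62h

section

variable {I : Type u} [Preorder I] [IsDirected I (· ≤ ·)] (i₀ : I)

/-- The indices above a given one. -/
abbrev Ige : Type u := {i : I // i₀ ≤ i}

instance : IsDirected (Ige i₀) (· ≤ ·) :=
  ⟨fun a b => by
    obtain ⟨c, h1, h2⟩ := exists_ge_ge a.1 b.1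
    exact ⟨⟨c, a.2.trans h1⟩, h1, h2⟩⟩

instance : Nonempty (Ige i₀) := ⟨⟨i₀, le_rfl⟩⟩

/-- The inclusion of the indices above a given one, as a functor between opposite categories. -/
def inclGe : (Ige i₀)ᵒᵖ ⥤ Iᵒᵖ := (Subtype.mono_coe (fun i : I => i₀ ≤ i)).functor.op

instance : (Subtype.mono_coe (fun i : I => i₀ ≤ i)).functor.Final := by
  refine Functor.final_of_exists_of_isFiltered _ (fun d => ?_) (fun {d c} s s' => ?_)
  · obtain ⟨c, h1, h2⟩ := exists_ge_ge i₀ d
    exact ⟨⟨c, h1⟩, ⟨homOfLE h2⟩⟩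
  · exact ⟨c, 𝟙 c, Subsingleton.elim _ _⟩

instance : (inclGe i₀).Initial := by
  delta inclGe; infer_instance

end

end Groth.Agent.Lib.AbsApprox62h
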