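import Mathlib
import Groth.Agent.Lib.AbsApprox62AB1

/-! # Absolute Noetherian approximation (helper62), part AD2 -/

set_option autoImplicit false
set_option linter.style.haveILetI false
universe u
open CategoryTheory Limits AlgebraicGeometry Opposite

namespace Groth.Agent.Lib.AbsApprox62d

/-- A cartesian system of open subschemes `T_i ⊆ U_i` of an inverse system of schemes of finite type
over `ℤ` with affine transition maps, with its limit `T ⊆ U`. -/
structure PreData where
  I : Type u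
  [preI : Preorder I]
  [dirI : IsDirected I (· ≤ ·)]
  [neI : Nonempty I]
  DU : Iᵒᵖ ⥤ Scheme.{u}
  DT : Iᵒᵖ ⥤ Scheme.{u}
  ι : DT ⟶ DU
  oi : ∀ i, IsOpenImmersion (ι.app i)
  cart : ∀ {i j : Iᵒᵖ} (f : i ⟶ j), IsPullback (DT.map f) (ι.app i) (ι.app j) (DU.map f)
  affU : ∀ {i j : Iᵒᵖ} (f : i ⟶ j), IsAffineHom (DU.map f)
  cptU : ∀ i, CompactSpace (DU.obj i)
  ftU : ∀ i, LocallyOfFiniteType (IsTerminal.from specULiftZIsTerminal (DU.obj i))
  cU : Cone DU
  hcU : IsLimit cU
  cT : Cone DT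
  ιT : cT.pt ⟶ cU.pt
  oiT : IsOpenImmersion ιT
  cartT : ∀ i, IsPullback (cT.π.app i) ιT (ι.app i) (cU.π.app i)

attribute [instance] PreData.preI PreData.dirI PreData.neI PreData.oi PreData.affU PreData.cptU
  PreData.ftU PreData.oiT

namespace PreData

variable (P : PreData.{u})

instance : IsCofiltered P.Iᵒᵖ := inferInstance

/-- The cone `T → T_i` is a limit cone. -/
noncomputable def hcT : IsLimit P.cT :=
  haveI : IsConnected P.Iᵒᵖ := IsCofiltered.isConnected _
  isLimitOfIsPullbackOfIsConnected P.ι P.cT P.cU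
    { hom := P.ιT
      w := fun i => (P.cartT i).w.symm } P.cartT P.hcU

instance {i j : P.Iᵒᵖ} (f : i ⟶ j) : IsAffineHom (P.DT.map f) :=
  MorphismProperty.of_isPullback (P.cart f).flip (P.affU f)

/-- Restriction of the data along an initial functor between index categories. -/
noncomputable def restrict {I' : Type u} [Preorder I'] [IsDirected I' (· ≤ ·)] [Nonempty I']
    (Φ : I'ᵒᵖ ⥤ P.Iᵒᵖ) [Φ.Initial] : PreData.{u} where
  I := I'
  DU := Φ ⋙ P.DU
  DT := Φ ⋙ P.DT
  ι := Functor.whiskerLeft Φ P.ι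
  oi i := P.oi (Φ.obj i)
  cart f := P.cart (Φ.map f)
  affU f := P.affU (Φ.map f)
  cptU i := P.cptU (Φ.obj i)
  ftU i := P.ftU (Φ.obj i)
  cU := P.cU.whisker Φ
  hcU := (Functor.Initial.isLimitWhiskerEquiv Φ P.cU).symm P.hcU
  cT := P.cT.whisker Φ
  ιT := P.ιT
  oiT := P.oiT
  cartT i := P.cartT (Φ.obj i)

end PreData

end Groth.Agent.Lib.AbsApprox62d
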