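import Mathlib

/-! # Absolute Noetherian approximation (helper62), part AD4 -/

set_option autoImplicit false
set_option linter.style.haveILetI false
universe u
open CategoryTheory Limits AlgebraicGeometry Opposite

namespace Groth.Agent.Lib.AbsApprox62h

variable {I : Type u} [Category.{u} I] [IsCofiltered I] (D : I ⥤ Scheme.{u}) (c : Cone D)
  (hc : IsLimit c) [∀ {i j} (f : i ⟶ j), IsAffineHom (D.map f)]
  [∀ i, QuasiSeparatedSpace (D.obj i)]

include hc in
/-- If the preimage in the limit of a quasi-compact open of a stage is affine, then so is the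
preimage at some later stage. -/
theorem exists_isAffineOpen_map_preimage {i : I} (U : (D.obj i).Opens)
    (hU : IsCompact (U : Set (D.obj i))) (h : IsAffineOpen (c.π.app i ⁻¹ᵁ U)) :
    ∃ (j : I) (f : j ⟶ i), IsAffineOpen (D.map f ⁻¹ᵁ U) := by
  have (j : Over i) : CompactSpace ((opensDiagram D i U).obj j) :=
    isCompact_iff_compactSpace.mp (QuasiCompact.isCompact_preimage _ U.2 hU)
  have (j : Over i) : QuasiSeparatedSpace ((opensDiagram D i U).obj j) :=
    (isQuasiSeparated_iff_quasiSeparatedSpace _ (D.map _ ⁻¹ᵁ _).2).mp (.of_quasiSeparatedSpace _)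
  have : IsAffine (opensCone D c i U).pt := h
  obtain ⟨j, hj⟩ := Scheme.exists_isAffine_of_isLimit _ _ (isLimitOpensCone D c hc i U)
  exact ⟨j.left, j.hom, hj⟩

end Groth.Agent.Lib.AbsApprox62h
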