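import Mathlib
import Groth.Agent.Lib.AbsApprox62AD2
import Groth.Agent.Lib.AbsApprox62AD4

/-! # Absolute Noetherian approximation (helper62), part AD5 -/

set_option autoImplicit false
set_option linter.style.haveILetI false
universe u
open CategoryTheory Limits AlgebraicGeometry Opposite

namespace Groth.Agent.Lib.AbsApprox62d

open Groth.Agent.Lib.AbsApprox62h

instance : IsNoetherianRing (ULift.{u} ℤ) :=
  isNoetherianRing_of_ringEquiv ℤ (ULift.ringEquiv (R := ℤ)).symm

/-- A scheme locally of finite type over `ℤ` is locally Noetherian. -/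
theorem isLocallyNoetherian_of_lft (X : Scheme.{u})
    [LocallyOfFiniteType (IsTerminal.from specULiftZIsTerminal X)] : IsLocallyNoetherian X :=
  LocallyOfFiniteType.isLocallyNoetherian (IsTerminal.from specULiftZIsTerminal X)

namespace PreData

variable (P : PreData.{u})

instance (i : P.Iᵒᵖ) : IsLocallyNoetherian (P.DU.obj i) := isLocallyNoetherian_of_lft _

instance (i : P.Iᵒᵖ) : IsNoetherian (P.DU.obj i) := ⟨⟩

instance (i : P.Iᵒᵖ) : IsLocallyNoetherian (P.DT.obj i) :=
  isLocallyNoetherian_of_isOpenImmersion (P.ι.app i)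

instance compactSpace_DT (i : P.Iᵒᵖ) : CompactSpace (P.DT.obj i) := by
  rw [← isCompact_univ_iff, (P.ι.app i).isOpenEmbedding.toIsEmbedding.isCompact_iff]
  exact TopologicalSpace.NoetherianSpace.isCompact _

instance (i : P.Iᵒᵖ) : IsNoetherian (P.DT.obj i) := ⟨⟩

lemma isCompact_opens {i : P.Iᵒᵖ} (U : (P.DT.obj i).Opens) : IsCompact (U : Set (P.DT.obj i)) :=
  TopologicalSpace.NoetherianSpace.isCompact _

instance compactSpace_cT : CompactSpace P.cT.pt :=
  Scheme.compactSpace_of_isLimit P.DT P.cT P.hcT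

end PreData

end Groth.Agent.Lib.AbsApprox62d

namespace Groth.Agent.Lib.AbsApprox62d

open Groth.Agent.Lib.AbsApprox62h

/-- A quasi-compact open of an affine scheme is a finite union of basic opens. -/
theorem exists_basicOpen_cover (W : Scheme.{u}) [IsAffine W] (U : W.Opens)
    (hU : IsCompact (U : Set W)) :
    ∃ (n : ℕ) (g : Fin n → Γ(W, ⊤)), U = ⨆ l, W.basicOpen (g l) := by
  obtain ⟨Us, hUs, hfin, rfl⟩ := (isBasis_basicOpen W).exists_finite_of_isCompact hU
  obtain ⟨n, f, -, hf⟩ := hfin.fin_param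
  have hf' : ∀ k, ∃ g : Γ(W, ⊤), W.basicOpen g = f k := fun k => by
    have : f k ∈ Us := by rw [← hf]; exact ⟨k, rfl⟩
    exact hUs this
  choose g hg using hf'
  refine ⟨n, g, ?_⟩
  rw [← hf, sSup_range]
  exact iSup_congr fun k => (hg k).symm

namespace PreData

variable (P : PreData.{u})

/-- Transition maps of the system `T_i`. -/
noncomputable abbrev tT {i i' : P.I} (h : i ≤ i') : P.DT.obj (op i') ⟶ P.DT.obj (op i) :=
  P.DT.map (homOfLE h).op

lemma cT_tT {i i' : P.I} (h : i ≤ i') : P.cT.π.app (op i') ≫ P.tT h = P.cT.π.app (op i) :=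
  P.cT.w (homOfLE h).op

lemma tT_trans {i i' i'' : P.I} (h : i ≤ i') (h' : i' ≤ i'') :
    P.tT h' ≫ P.tT h = P.tT (h.trans h') := by
  change P.DT.map _ ≫ P.DT.map _ = P.DT.map _
  rw [← P.DT.map_comp]
  congr 1

lemma cT_appTop_tT {i i' : P.I} (h : i ≤ i') (r : Γ(P.DT.obj (op i), ⊤)) :
    (P.cT.π.app (op i')).appTop ((P.tT h).appTop r) = (P.cT.π.app (op i)).appTop r := by
  rw [← P.cT_tT h, Scheme.Hom.comp_appTop]
  rfl

end PreData

end Groth.Agent.Lib.AbsApprox62d
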