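import Mathlib
import Groth.Agent.Lib.AbsApprox62AD5

/-! # Absolute Noetherian approximation (helper62), part AD6 -/

set_option autoImplicit false
set_option linter.style.haveILetI false
universe u
open CategoryTheory Limits AlgebraicGeometry Opposite

namespace Groth.Agent.Lib.AbsApprox62d

open Groth.Agent.Lib.AbsApprox62h

namespace PreData

variable (P : PreData.{u})

/-- **Preparation**: after passing to a large enough stage, the open `T ⊆ W` is covered by basic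
opens `D(g_l)` whose pullbacks to `T` come from sections `r_l` at that stage with `D(r_l)` affine
and covering. -/
theorem exists_prepared (W : Scheme.{u}) [IsAffine W] (jW : P.cT.pt ⟶ W) [IsOpenImmersion jW] :
    ∃ (i₀ : P.I) (n : ℕ) (g : Fin n → Γ(W, ⊤)) (r : Fin n → Γ(P.DT.obj (op i₀), ⊤)),
      jW.opensRange = ⨆ l, W.basicOpen (g l) ∧
      (∀ l, jW.appTop (g l) = (P.cT.π.app (op i₀)).appTop (r l)) ∧
      (∀ l, IsAffineOpen ((P.DT.obj (op i₀)).basicOpen (r l))) ∧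
      ⨆ l, (P.DT.obj (op i₀)).basicOpen (r l) = ⊤ := by
  -- B1
  have hcpt : IsCompact (jW.opensRange : Set W) := isCompact_range jW.continuous
  obtain ⟨n, g, hg⟩ := exists_basicOpen_cover W jW.opensRange hcpt
  -- B2
  have h2 : ∀ l, ∃ (i : P.Iᵒᵖ) (t : Γ(P.DT.obj i, ⊤)),
      jW.appTop (g l) = (P.cT.π.app i).appTop t :=
    fun l => exists_appTop_π_eq_of_isLimit P.DT P.cT P.hcT (jW.appTop (g l))
  choose i1 t1 ht1 using h2
  obtain ⟨i₂, hi₂⟩ := Finite.exists_le (fun l => (i1 l).unop)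
  let r2 : Fin n → Γ(P.DT.obj (op i₂), ⊤) := fun l => (P.tT (hi₂ l)).appTop (t1 l)
  have hr2 : ∀ l, jW.appTop (g l) = (P.cT.π.app (op i₂)).appTop (r2 l) := fun l => by
    rw [ht1 l]; exact (P.cT_appTop_tT (hi₂ l) (t1 l)).symm
  let A : Fin n → (P.DT.obj (op i₂)).Opens := fun l => (P.DT.obj (op i₂)).basicOpen (r2 l)
  have hA : ∀ l, P.cT.π.app (op i₂) ⁻¹ᵁ A l = jW ⁻¹ᵁ W.basicOpen (g l) := fun l => by
    rw [Scheme.preimage_basicOpen_top jW, hr2 l]
    exact Scheme.preimage_basicOpen_top (P.cT.π.app (op i₂)) (r2 l)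
  -- affineness
  have hAaff : ∀ l, IsAffineOpen (P.cT.π.app (op i₂) ⁻¹ᵁ A l) := fun l => by
    rw [hA l, ← Scheme.Hom.isAffineOpen_iff_of_isOpenImmersion jW,
      Scheme.Hom.image_preimage_eq_opensRange_inf, hg,
      inf_eq_right.mpr (le_iSup (fun l => W.basicOpen (g l)) l)]
    exact (isAffineOpen_top W).basicOpen (g l)
  have h3 : ∀ l, ∃ (j : P.Iᵒᵖ) (f : j ⟶ op i₂), IsAffineOpen (P.DT.map f ⁻¹ᵁ A l) := fun l =>
    exists_isAffineOpen_map_preimage P.DT P.cT P.hcT (A l) (P.isCompact_opens _) (hAaff l)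
  choose j3 f3 hf3 using h3
  -- covering
  have hcov : P.cT.π.app (op i₂) ⁻¹ᵁ (⨆ l, A l) = ⊤ := by
    rw [Scheme.Hom.preimage_iSup]
    simp_rw [hA]
    rw [← Scheme.Hom.preimage_iSup, ← hg]
    exact jW.preimage_opensRange
  obtain ⟨j4, f4, hf4⟩ := exists_map_eq_top P.DT P.cT P.hcT (⨆ l, A l) hcov
  -- common stage
  obtain ⟨i₀, hi₀⟩ := Finite.exists_le
    (fun o : Option (Fin n) => o.elim j4.unop (fun l => (j3 l).unop))
  have h40 : j4.unop ≤ i₀ := hi₀ none
  have h30 : ∀ l, (j3 l).unop ≤ i₀ := fun l => hi₀ (some l)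
  have h24 : i₂ ≤ j4.unop := leOfHom f4.unop
  have h23 : ∀ l, i₂ ≤ (j3 l).unop := fun l => leOfHom (f3 l).unop
  have h20 : i₂ ≤ i₀ := h24.trans h40
  refine ⟨i₀, n, g, fun l => (P.tT h20).appTop (r2 l), hg, fun l => ?_, fun l => ?_, ?_⟩
  · rw [hr2 l]; exact (P.cT_appTop_tT h20 (r2 l)).symm
  · rw [← Scheme.preimage_basicOpen_top (P.tT h20) (r2 l)]
    have e : P.tT h20 = P.tT (h30 l) ≫ P.DT.map (f3 l) := by
      change P.DT.map _ = P.DT.map _ ≫ P.DT.map _
      rw [← P.DT.map_comp]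
      congr 1
    rw [e, Scheme.Hom.comp_preimage]
    exact (hf3 l).preimage (P.tT (h30 l))
  · have e : P.tT h20 = P.tT h40 ≫ P.DT.map f4 := by
      change P.DT.map _ = P.DT.map _ ≫ P.DT.map _
      rw [← P.DT.map_comp]
      congr 1
    have : ∀ l, (P.DT.obj (op i₀)).basicOpen ((P.tT h20).appTop (r2 l)) = P.tT h20 ⁻¹ᵁ A l :=
      fun l => (Scheme.preimage_basicOpen_top (P.tT h20) (r2 l)).symm
    simp_rw [this]
    rw [← Scheme.Hom.preimage_iSup, e, Scheme.Hom.comp_preimage, hf4]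
    rfl

end PreData

end Groth.Agent.Lib.AbsApprox62d
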