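import Mathlib
import Groth.Agent.Lib.AbsApprox62AD6
import Groth.Agent.Lib.AbsApprox62AD3
import Groth.Agent.Lib.AbsApprox62AD1
import Groth.Agent.Lib.AbsApprox62AC7

/-! # Absolute Noetherian approximation (helper62), part AD7 -/

set_option autoImplicit false
set_option linter.style.haveILetI false
universe u
open CategoryTheory Limits AlgebraicGeometry Opposite

namespace Groth.Agent.Lib.AbsApprox62d

open Groth.Agent.Lib.AbsApprox62h Groth.Agent.Lib.AbsApprox62e

/-- The output of the one-affine-step in cartesian form. -/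
theorem GeomData.cleanExt (G : GeomData.{u}) (PS : Glue2 G.ιT G.jW) :
    CleanExt PS.Y G.DU G.cU PS.ι₁ := by
  obtain ⟨hlim⟩ := G.nonempty_isLimit_coneS PS
  refine ⟨G.J, inferInstance, inferInstance, inferInstance, G.DS, G.coneS PS, hlim, Iso.refl _,
    G.iMono, fun j => G.inl j, fun j j' a => inferInstance, fun j => ⟨inferInstance, inferInstance⟩,
    fun j => inferInstanceAs (IsOpenImmersion (G.inl j)), fun j j' h => ?_, fun j => ?_⟩
  · exact (G.isPullback_tS₁ h).flip
  · have := (G.isPullback_πS₁ PS j).flip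
    have e : PS.ι₁ ≫ (Iso.refl (G.coneS PS).pt).inv = PS.ι₁ := Category.comp_id _
    rw [e]
    exact this

namespace PreData

variable (P : PreData.{u})

/-- The prepared geometric data attached to a stage `i₀`. -/
noncomputable def toGeomData (i₀ : P.I) (W : Scheme.{u}) [IsAffine W] (jW : P.cT.pt ⟶ W)
    [IsOpenImmersion jW] (n : ℕ) (g : Fin n → Γ(W, ⊤)) (r : Fin n → Γ(P.DT.obj (op i₀), ⊤))
    (h1 : jW.opensRange = ⨆ l, W.basicOpen (g l))
    (h2 : ∀ l, jW.appTop (g l) = (P.cT.π.app (op i₀)).appTop (r l))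
    (h3 : ∀ l, IsAffineOpen ((P.DT.obj (op i₀)).basicOpen (r l)))
    (h4 : ⨆ l, (P.DT.obj (op i₀)).basicOpen (r l) = ⊤) : GeomData.{u} where
  I := Ige i₀
  i₀ := ⟨i₀, le_rfl⟩
  le i := i.2
  DU := inclGe i₀ ⋙ P.DU
  DT := inclGe i₀ ⋙ P.DT
  ι := Functor.whiskerLeft (inclGe i₀) P.ι
  oi i := P.oi ((inclGe i₀).obj i)
  cart f := P.cart ((inclGe i₀).map f)
  affU f := P.affU ((inclGe i₀).map f)
  cptU i := P.cptU ((inclGe i₀).obj i)
  ftU i := P.ftU ((inclGe i₀).obj i)
  cU := P.cU.whisker (inclGe i₀)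
  hcU := (Functor.Initial.isLimitWhiskerEquiv (inclGe i₀) P.cU).symm P.hcU
  cT := P.cT.whisker (inclGe i₀)
  hcT := (Functor.Initial.isLimitWhiskerEquiv (inclGe i₀) P.cT).symm P.hcT
  ιT := P.ιT
  oiT := P.oiT
  cartT i := P.cartT ((inclGe i₀).obj i)
  W := W
  affW := inferInstance
  jW := jW
  oiW := inferInstance
  L := Fin n
  finL := inferInstance
  g := g
  r := r
  range_jW := h1
  jW_g := h2
  affine_r := h3
  cover_r := h4

/-- **One-affine-step of absolute Noetherian approximation**, for a cartesian system of opens. -/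
theorem cleanExt_of_glue (W : Scheme.{u}) [IsAffine W] (jW : P.cT.pt ⟶ W) [IsOpenImmersion jW]
    (Q : Glue2 P.ιT jW) : CleanExt Q.Y P.DU P.cU Q.ι₁ := by
  obtain ⟨i₀, n, g, r, h1, h2, h3, h4⟩ := P.exists_prepared W jW
  apply CleanExt.of_whisker (inclGe i₀)
  exact (P.toGeomData i₀ W jW n g r h1 h2 h3 h4).cleanExt Q

end PreData

end Groth.Agent.Lib.AbsApprox62d
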