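import Mathlib
import Groth.Agent.Lib.AbsApprox62AD7

/-! # Absolute Noetherian approximation (helper62), part AD8 -/

set_option autoImplicit false
set_option linter.style.haveILetI false
universe u
open CategoryTheory Limits AlgebraicGeometry Opposite

namespace Groth.Agent.Lib.AbsApprox62d

open Groth.Agent.Lib.AbsApprox62h Groth.Agent.Lib.AbsApprox62e

section

variable {I : Type u} [Preorder I] [IsDirected I (· ≤ ·)] (i₁ : I)

/-- The functor from the indices above `i₁` to the over category of `op i₁`. -/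
def toOver : (Ige i₁)ᵒᵖ ⥤ Over (op i₁) where
  obj i := Over.mk (homOfLE i.unop.2).op
  map f := Over.homMk ((inclGe i₁).map f) (Subsingleton.elim _ _)
  map_id _ := by ext; exact Subsingleton.elim _ _
  map_comp _ _ := by ext; exact Subsingleton.elim _ _

/-- The inclusion of the indices above `i₁`, through the over category. -/
abbrev toOverForget : (Ige i₁)ᵒᵖ ⥤ Iᵒᵖ := toOver i₁ ⋙ Over.forget (op i₁)

instance : (toOverForget i₁).Initial := by
  refine Functor.initial_of_exists_of_isCofiltered _ (fun d => ?_) (fun {d c} s s' => ?_)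
  · obtain ⟨m, h1, h2⟩ := exists_ge_ge i₁ d.unop
    exact ⟨op ⟨m, h1⟩, ⟨(homOfLE h2).op⟩⟩
  · exact ⟨c, 𝟙 c, Subsingleton.elim _ _⟩

end

section

variable {I : Type u} [Category.{u} I] (D : I ⥤ Scheme.{u}) (c : Cone D) (i : I)
  (V : (D.obj i).Opens)

set_option backward.isDefEq.respectTransparency false in
lemma cart_aux {j k : Over i} (f : j ⟶ k) :
    IsPullback ((opensDiagram D i V).map f) ((opensDiagramι D i V).app j)
      ((opensDiagramι D i V).app k) (D.map f.left) := by
  refine IsOpenImmersion.isPullback _ _ _ _ ?_ ?_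
  · exact ((opensDiagramι D i V).naturality f).symm
  · have : D.map f.left ≫ D.map k.hom = D.map j.hom := by rw [← D.map_comp, Over.w f]
    simp [← Scheme.Hom.comp_preimage, this]

set_option backward.isDefEq.respectTransparency false in
lemma cartT_aux (j : Over i) :
    IsPullback ((opensCone D c i V).π.app j) (c.π.app i ⁻¹ᵁ V).ι
      ((opensDiagramι D i V).app j) (c.π.app j.left) :=
  IsOpenImmersion.isPullback _ _ _ _ (by simp) (by simp [← Scheme.Hom.comp_preimage])

end

section

variable {I : Type u} [Preorder I] [IsDirected I (· ≤ ·)] (i₁ : I)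

variable [Nonempty I] (DU : Iᵒᵖ ⥤ Scheme.{u})
  (haff : ∀ (i i' : Iᵒᵖ) (a : i ⟶ i'), IsAffineHom (DU.map a))
  (hft : ∀ i, CompactSpace (DU.obj i) ∧
    LocallyOfFiniteType (IsTerminal.from specULiftZIsTerminal (DU.obj i)))
  (cU : Cone DU) (hcU : IsLimit cU) (V : (DU.obj (op i₁)).Opens)

/-- The cartesian system of opens attached to an open of a stage. -/
noncomputable def preDataOfOpens : PreData.{u} where
  I := Ige i₁
  DU := toOverForget i₁ ⋙ DU
  DT := toOver i₁ ⋙ opensDiagram DU (op i₁) V
  ι := Functor.whiskerLeft (toOver i₁) (opensDiagramι DU (op i₁) V)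
  oi i := inferInstanceAs (IsOpenImmersion ((opensDiagramι DU (op i₁) V).app ((toOver i₁).obj i)))
  cart f := cart_aux DU (op i₁) V ((toOver i₁).map f)
  affU _ := haff _ _ _
  cptU _ := (hft _).1
  ftU _ := (hft _).2
  cU := cU.whisker (toOverForget i₁)
  hcU := (Functor.Initial.isLimitWhiskerEquiv (toOverForget i₁) cU).symm hcU
  cT := (opensCone DU cU (op i₁) V).whisker (toOver i₁)
  ιT := (cU.π.app (op i₁) ⁻¹ᵁ V).ι
  oiT := inferInstanceAs (IsOpenImmersion (Scheme.Opens.ι (cU.π.app (op i₁) ⁻¹ᵁ V)))
  cartT i := cartT_aux DU cU (op i₁) V ((toOver i₁).obj i)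

end

end Groth.Agent.Lib.AbsApprox62d
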