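import Mathlib
import Groth.Agent.Lib.AbsApprox62AD8
import Groth.Agent.Lib.AbsApprox62AC8

/-! # Absolute Noetherian approximation (helper62), part AD9 -/

set_option autoImplicit false
set_option linter.style.haveILetI false
universe u
open CategoryTheory Limits AlgebraicGeometry Opposite

namespace Groth.Agent.Lib.AbsApprox62h

open Groth.Agent.Lib.AbsApprox62d Groth.Agent.Lib.AbsApprox62e

/-- **One-affine-step of absolute Noetherian approximation** (Stacks 01Z8-type lemma): if `S` is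
quasi-separated, covered by a quasi-compact open `U = lim U_i` and an affine open `W`, then
`S = lim S_j` relative to `U = lim U_i`. -/
theorem cleanExt_of_affine_step (S : Scheme.{u}) [QuasiSeparatedSpace S]
    {I : Type u} [Preorder I] [IsDirected I (fun a b => a ≤ b)] [Nonempty I]
    (DU : Iᵒᵖ ⥤ Scheme.{u}) (haff : ∀ (i i' : Iᵒᵖ) (a : i ⟶ i'), IsAffineHom (DU.map a))
    (hft : ∀ i, CompactSpace (DU.obj i) ∧
      LocallyOfFiniteType (IsTerminal.from specULiftZIsTerminal (DU.obj i)))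
    (cU : Cone DU) (hcU : IsLimit cU) (jU : cU.pt ⟶ S) [IsOpenImmersion jU]
    (W : S.Opens) (hW : IsAffineOpen W) (hcov : jU.opensRange ⊔ W = ⊤) :
    CleanExt S DU cU jU := by
  haveI : ∀ {i i' : Iᵒᵖ} (a : i ⟶ i'), IsAffineHom (DU.map a) := fun a => haff _ _ a
  haveI : ∀ i, CompactSpace (DU.obj i) := fun i => (hft i).1
  haveI : CompactSpace cU.pt := Scheme.compactSpace_of_isLimit DU cU hcU
  have hT' : IsCompact ((jU ⁻¹ᵁ W : cU.pt.Opens) : Set cU.pt) :=
    QuasiCompact.isCompact_preimage (f := jU) _ W.2 hW.isCompact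
  obtain ⟨i, V, -, hV⟩ := exists_preimage_eq DU cU hcU (jU ⁻¹ᵁ W) hT'
  let P := preDataOfOpens i.unop DU haff hft cU hcU V
  let jW : P.cT.pt ⟶ (W : Scheme.{u}) := jU.resLE W (cU.π.app i ⁻¹ᵁ V) (le_of_eq hV)
  have hjW : jW ≫ W.ι = P.ιT ≫ jU := Scheme.Hom.resLE_comp_ι _ _
  haveI : IsOpenImmersion jW := by
    haveI : IsOpenImmersion (jW ≫ W.ι) := by
      rw [hjW]
      exact inferInstanceAs (IsOpenImmersion ((cU.π.app i ⁻¹ᵁ V).ι ≫ jU))
    exact IsOpenImmersion.of_comp jW W.ι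
  haveI : IsAffine (W : Scheme.{u}) := hW
  haveI : IsOpenImmersion (show P.cU.pt ⟶ S from jU) := inferInstanceAs (IsOpenImmersion jU)
  let Q : Glue2 P.ιT jW := Glue2.ofCover P.ιT jW (show P.cU.pt ⟶ S from jU) W.ι hjW.symm
    (fun s => by
      have hs : s ∈ jU.opensRange ⊔ W := by rw [hcov]; trivial
      rcases hs with hs | hs
      · exact Or.inl hs
      · exact Or.inr ⟨⟨s, hs⟩, rfl⟩)
    (fun y₁ y₂ h => by
      have h' : jU y₁ = W.ι y₂ := h
      have hy : y₁ ∈ cU.π.app i ⁻¹ᵁ V := by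
        rw [hV]
        change jU y₁ ∈ W
        rw [h']
        exact y₂.2
      refine ⟨⟨y₁, hy⟩, rfl, ?_⟩
      apply W.ι.isOpenEmbedding.injective
      rw [← Scheme.Hom.comp_apply, hjW, Scheme.Hom.comp_apply]
      exact h')
  have := P.cleanExt_of_glue W jW Q
  exact CleanExt.of_whisker (toOverForget i.unop) this

end Groth.Agent.Lib.AbsApprox62h
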