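import Mathlib
import Groth.Agent.Lib.AbsApprox62AD9

/-! # Absolute Noetherian approximation (helper62), part AD10 -/

set_option autoImplicit false
set_option linter.style.haveILetI false
universe u
open CategoryTheory Limits AlgebraicGeometry Opposite

namespace Groth.Agent.Lib.AbsApprox62h

/-- **Relative absolute Noetherian approximation**, by induction on the number of affine opens needed
to cover the complement. -/
theorem cleanExt_of_cover (n : ℕ) : ∀ (S : Scheme.{u}) [QuasiSeparatedSpace S]
    {I : Type u} [Preorder I] [IsDirected I (fun a b => a ≤ b)] [Nonempty I]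
    (DV : Iᵒᵖ ⥤ Scheme.{u}) (_ : ∀ (i i' : Iᵒᵖ) (a : i ⟶ i'), IsAffineHom (DV.map a))
    (_ : ∀ i, CompactSpace (DV.obj i) ∧
      LocallyOfFiniteType (IsTerminal.from specULiftZIsTerminal (DV.obj i)))
    (cV : Cone DV) (_ : IsLimit cV) (jV : cV.pt ⟶ S) [IsOpenImmersion jV]
    (W : Fin n → S.Opens) (_ : ∀ k, IsAffineOpen (W k)) (_ : jV.opensRange ⊔ ⨆ k, W k = ⊤),
    CleanExt S DV cV jV := by
  induction n with
  | zero =>
    intro S _ I _ _ _ DV haff hft cV hcV jV _ W hW hcov
    have h : jV.opensRange = ⊤ := by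
      rw [← hcov]
      have : (⨆ k, W k) = ⊥ := by
        rw [eq_bot_iff]
        exact iSup_le fun k => k.elim0
      rw [this, sup_bot_eq]
    haveI : IsIso jV := isIso_of_isOpenImmersion_of_opensRange_eq_top jV h
    exact CleanExt.of_isIso hcV haff hft
  | succ n ih =>
    intro S _ I _ _ _ DV haff hft cV hcV jV _ W hW hcov
    haveI : ∀ {i i' : Iᵒᵖ} (a : i ⟶ i'), IsAffineHom (DV.map a) := fun a => haff _ _ a
    haveI : ∀ i, CompactSpace (DV.obj i) := fun i => (hft i).1
    haveI : CompactSpace cV.pt := Scheme.compactSpace_of_isLimit DV cV hcV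
    let U : S.Opens := jV.opensRange ⊔ ⨆ k : Fin n, W k.castSucc
    have hle : Set.range jV ⊆ Set.range U.ι := by
      rw [Scheme.Opens.range_ι]
      exact fun x hx => Or.inl hx
    let jV' : cV.pt ⟶ (U : Scheme.{u}) := IsOpenImmersion.lift U.ι jV hle
    have hjV' : jV' ≫ U.ι = jV := IsOpenImmersion.lift_fac _ _ _
    haveI : IsOpenImmersion jV' := by
      haveI : IsOpenImmersion (jV' ≫ U.ι) := by rw [hjV']; infer_instance
      exact IsOpenImmersion.of_comp jV' U.ι
    let W' : Fin n → (U : Scheme.{u}).Opens := fun k => U.ι ⁻¹ᵁ W k.castSucc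
    have hWU : ∀ k : Fin n, W k.castSucc ≤ U := fun k =>
      le_sup_of_le_right (le_iSup (fun k : Fin n => W k.castSucc) k)
    have hW' : ∀ k, IsAffineOpen (W' k) := fun k => by
      rw [← Scheme.Hom.isAffineOpen_iff_of_isOpenImmersion U.ι,
        Scheme.Hom.image_preimage_eq_opensRange_inf, Scheme.Opens.opensRange_ι,
        inf_eq_right.mpr (hWU k)]
      exact hW _
    have hcov' : jV'.opensRange ⊔ ⨆ k, W' k = ⊤ := by
      rw [eq_top_iff]
      rintro ⟨x, hx⟩ -
      rcases hx with hx | hx
      · obtain ⟨v, rfl⟩ := hx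
        refine Or.inl ⟨v, ?_⟩
        apply U.ι.isOpenEmbedding.injective
        rw [← Scheme.Hom.comp_apply, hjV']
        rfl
      · obtain ⟨k, hk⟩ := TopologicalSpace.Opens.mem_iSup.mp hx
        exact Or.inr (TopologicalSpace.Opens.mem_iSup.mpr ⟨k, hk⟩)
    haveI : QuasiSeparatedSpace (U : Scheme.{u}) :=
      QuasiSeparatedSpace.of_isOpenEmbedding U.ι.isOpenEmbedding
    have h₁ : CleanExt (U : Scheme.{u}) DV cV jV' := ih U DV haff hft cV hcV jV' W' hW' hcov'
    have := CleanExt.trans U.ι h₁ (fun J _ _ _ DS cS hcS eS h1 h2 => by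
      refine cleanExt_of_affine_step S DS h1 h2 cS hcS (eS.hom ≫ U.ι) (W (Fin.last n))
        (hW _) ?_
      have hr : (eS.hom ≫ U.ι).opensRange = U := by
        apply TopologicalSpace.Opens.ext
        rw [Scheme.Hom.coe_opensRange, Scheme.Hom.comp_base, TopCat.coe_comp, Set.range_comp,
          Set.range_eq_univ.mpr eS.hom.surjective, Set.image_univ, Scheme.Opens.range_ι]
      rw [hr, eq_top_iff, ← hcov]
      refine sup_le (le_sup_of_le_left le_sup_left) (iSup_le fun k => ?_)
      refine Fin.lastCases ?_ (fun k => ?_) k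
      · exact le_sup_right
      · exact le_sup_of_le_left (hWU k))
    rw [hjV'] at this
    exact this

end Groth.Agent.Lib.AbsApprox62h
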