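import Mathlib
import Groth.Agent.Lib.AbsApprox62AD10

/-! # Absolute Noetherian approximation (helper62), part AD11 -/

set_option autoImplicit false
set_option linter.style.haveILetI false
universe u
open CategoryTheory Limits AlgebraicGeometry Opposite

namespace Groth.Agent.Lib.AbsApprox62h

/-- A quasi-compact scheme has a finite affine open cover. -/
theorem exists_finite_affine_cover (S : Scheme.{u}) [CompactSpace S] :
    ∃ (n : ℕ) (W : Fin n → S.Opens), (∀ k, IsAffineOpen (W k)) ∧ ⨆ k, W k = ⊤ := by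
  obtain ⟨Us, hUs, hfin, h⟩ := S.isBasis_affineOpens.exists_finite_of_isCompact
    (U := ⊤) (by simpa using isCompact_univ)
  obtain ⟨n, f, -, hf⟩ := hfin.fin_param
  refine ⟨n, f, fun k => ?_, ?_⟩
  · have : f k ∈ Us := by rw [← hf]; exact ⟨k, rfl⟩
    exact hUs this
  · rw [h, ← hf, sSup_range]

/-- **Noetherian approximation relative to a quasi-compact open**, in cartesian form. -/
theorem cleanExt (S : Scheme.{u}) [CompactSpace S] [QuasiSeparatedSpace S]
    {I : Type u} [Preorder I] [IsDirected I (fun a b => a ≤ b)] [Nonempty I]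
    (DV : Iᵒᵖ ⥤ Scheme.{u}) (haff : ∀ (i i' : Iᵒᵖ) (a : i ⟶ i'), IsAffineHom (DV.map a))
    (hft : ∀ i, CompactSpace (DV.obj i) ∧
      LocallyOfFiniteType (IsTerminal.from specULiftZIsTerminal (DV.obj i)))
    (cV : Cone DV) (hcV : IsLimit cV) (jV : cV.pt ⟶ S) [IsOpenImmersion jV] :
    CleanExt S DV cV jV := by
  obtain ⟨n, W, hW, hcov⟩ := exists_finite_affine_cover S
  exact cleanExt_of_cover n S DV haff hft cV hcV jV W hW (by rw [hcov, sup_top_eq])

end Groth.Agent.Lib.AbsApprox62h
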