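import Mathlib
import Groth.Agent.Lib.AbsApprox62AD11

/-! # Absolute Noetherian approximation (helper62), part AD12: the absolute case -/

set_option autoImplicit false
set_option linter.style.haveILetI false
universe u
open CategoryTheory Limits AlgebraicGeometry Opposite

namespace Groth.Agent.Lib.AbsApprox62h

/-- The constant system with value the empty scheme. -/
noncomputable def emptySys : (PUnit.{u + 1})ᵒᵖ ⥤ Scheme.{u} := (Functor.const _).obj ∅

/-- The cone over the empty system. -/
noncomputable def emptyCone : Cone emptySys.{u} where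
  pt := ∅
  π := { app _ := 𝟙 _ }

/-- The empty cone is a limit cone. -/
noncomputable def emptyConeIsLimit : IsLimit emptyCone.{u} where
  lift s := s.π.app (op PUnit.unit)
  fac s j := by
    obtain ⟨⟨⟩⟩ := j
    exact Category.comp_id _
  uniq s m hm := by
    rw [← hm (op PUnit.unit)]
    exact (Category.comp_id _).symm

/-- **Absolute Noetherian approximation** (Stacks 01ZA): every quasi-compact quasi-separated scheme is
the limit of an inverse system, indexed by a nonempty directed preorder, of quasi-compact schemes
locally of finite type over `ℤ` with affine transition morphisms. -/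
theorem exists_limit_finiteType (S : Scheme.{u}) [CompactSpace S] [QuasiSeparatedSpace S] :
    ∃ (I : Type u) (_ : Preorder I) (_ : IsDirected I (fun a b => a ≤ b)) (_ : Nonempty I)
      (D : Iᵒᵖ ⥤ Scheme.{u}) (c : Limits.Cone D) (_ : Limits.IsLimit c),
      (∀ (i j : Iᵒᵖ) (f : i ⟶ j), IsAffineHom (D.map f)) ∧
      (∀ i, CompactSpace (D.obj i) ∧
        LocallyOfFiniteType (Limits.IsTerminal.from specULiftZIsTerminal (D.obj i))) ∧
      Nonempty (c.pt ≅ S) := by
  haveI : IsOpenImmersion (show emptyCone.{u}.pt ⟶ S from Scheme.emptyTo S) :=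
    inferInstanceAs (IsOpenImmersion (Scheme.emptyTo S))
  have h := cleanExt S emptySys.{u}
    (fun i i' a => by
      change IsAffineHom (𝟙 (∅ : Scheme.{u}))
      infer_instance)
    (fun i => by
      change CompactSpace (∅ : Scheme.{u}) ∧
        LocallyOfFiniteType (IsTerminal.from specULiftZIsTerminal (∅ : Scheme.{u}))
      exact ⟨inferInstance, inferInstance⟩)
    emptyCone emptyConeIsLimit (jV := Scheme.emptyTo S)
  obtain ⟨J, pJ, dJ, nJ, DS, cS, hcS, eS, α, κ, h1, h2, -⟩ := h
  exact ⟨J, pJ, dJ, nJ, DS, cS, hcS, h1, h2, ⟨eS⟩⟩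

end Groth.Agent.Lib.AbsApprox62h
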