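import Mathlib
import Groth.Agent.Lib.AbsApprox62AD12

/-! # Absolute Noetherian approximation (helper62), part AE1: morphisms as limits -/

set_option autoImplicit false
set_option linter.style.haveILetI false
universe u
open CategoryTheory Limits AlgebraicGeometry Opposite

namespace Groth.Agent.Lib.AbsApprox62i

open Groth.Agent.Lib.AbsApprox62d

/-- A presentation of a scheme as a limit of an inverse system, indexed by a nonempty directed
preorder, of quasi-compact schemes locally of finite type over `ℤ` with affine transition maps. -/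
structure Approx (X : Scheme.{u}) where
  A : Type u
  [preA : Preorder A]
  [dirA : IsDirected A (· ≤ ·)]
  [neA : Nonempty A]
  D : Aᵒᵖ ⥤ Scheme.{u}
  c : Cone D
  hc : IsLimit c
  e : c.pt ≅ X
  aff : ∀ {i j : Aᵒᵖ} (f : i ⟶ j), IsAffineHom (D.map f)
  cpt : ∀ i, CompactSpace (D.obj i)
  lft : ∀ i, LocallyOfFiniteType (IsTerminal.from specULiftZIsTerminal (D.obj i))

attribute [instance] Approx.preA Approx.dirA Approx.neA Approx.aff Approx.cpt Approx.lft

theorem Approx.nonempty (X : Scheme.{u}) [CompactSpace X] [QuasiSeparatedSpace X] :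
    Nonempty (Approx X) := by
  obtain ⟨I, pI, dI, nI, D, c, hc, h1, h2, ⟨e⟩⟩ :=
    Groth.Agent.Lib.AbsApprox62h.exists_limit_finiteType X
  exact ⟨{ A := I, D := D, c := c, hc := hc, e := e, aff := fun f => h1 _ _ f,
           cpt := fun i => (h2 i).1, lft := fun i => (h2 i).2 }⟩

namespace Approx

variable {X : Scheme.{u}} (P : Approx X)

instance : IsCofiltered P.Aᵒᵖ := inferInstance

/-- Transition maps. -/
noncomputable abbrev tr {a a' : P.A} (h : a ≤ a') : P.D.obj (op a') ⟶ P.D.obj (op a) :=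
  P.D.map (homOfLE h).op

lemma tr_refl (a : P.A) : P.tr (le_refl a) = 𝟙 _ := by
  change P.D.map (homOfLE (le_refl a)).op = 𝟙 _
  rw [show (homOfLE (le_refl a)).op = 𝟙 (op a) from Subsingleton.elim _ _, P.D.map_id]

lemma tr_trans {a a' a'' : P.A} (h : a ≤ a') (h' : a' ≤ a'') :
    P.tr h' ≫ P.tr h = P.tr (h.trans h') := by
  change P.D.map _ ≫ P.D.map _ = P.D.map _
  rw [← P.D.map_comp]
  congr 1

/-- The projection from the limit. -/
noncomputable def pr (a : P.A) : X ⟶ P.D.obj (op a) := P.e.inv ≫ P.c.π.app (op a)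

@[reassoc]
lemma pr_tr {a a' : P.A} (h : a ≤ a') : P.pr a' ≫ P.tr h = P.pr a := by
  rw [pr, pr, Category.assoc]
  congr 1
  exact P.c.w (homOfLE h).op

lemma hom_ext {Z : Scheme.{u}} {g g' : Z ⟶ X} (h : ∀ a, g ≫ P.pr a = g' ≫ P.pr a) : g = g' := by
  rw [← cancel_mono P.e.inv]
  apply P.hc.hom_ext
  intro a
  have := h a.unop
  simpa [pr] using this

instance (i : P.Aᵒᵖ) : IsLocallyNoetherian (P.D.obj i) := isLocallyNoetherian_of_lft _

/-- The structure maps to `Spec ℤ`. -/
noncomputable def tZ : P.D ⟶ (Functor.const P.Aᵒᵖ).obj (Spec (CommRingCat.of (ULift.{u} ℤ))) where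
  app i := IsTerminal.from specULiftZIsTerminal (P.D.obj i)
  naturality _ _ _ := specULiftZIsTerminal.hom_ext _ _

/-- Morphisms from the limit to a scheme locally of finite presentation over `ℤ` factor through
a stage. -/
theorem exists_factor {Y : Scheme.{u}}
    [LocallyOfFinitePresentation (IsTerminal.from specULiftZIsTerminal Y)] (a : X ⟶ Y) :
    ∃ (i : P.A) (g : P.D.obj (op i) ⟶ Y), P.pr i ≫ g = a := by
  obtain ⟨i, g, hg, -⟩ := Scheme.exists_π_app_comp_eq_of_locallyOfFinitePresentation P.D P.tZ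
    (IsTerminal.from specULiftZIsTerminal Y) P.c P.hc (P.e.hom ≫ a)
    (by ext i : 2; exact specULiftZIsTerminal.hom_ext _ _)
  refine ⟨i.unop, g, ?_⟩
  rw [pr, Category.assoc]
  change P.e.inv ≫ P.c.π.app i ≫ g = a
  rw [hg, Iso.inv_hom_id_assoc]

/-- Two morphisms from a stage to a scheme locally of finite type over `ℤ` which agree on the limit
agree at a later stage. -/
theorem exists_eq {Y : Scheme.{u}}
    [LocallyOfFiniteType (IsTerminal.from specULiftZIsTerminal Y)] {i : P.A}
    (g g' : P.D.obj (op i) ⟶ Y) (h : P.pr i ≫ g = P.pr i ≫ g') :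
    ∃ (i' : P.A) (hi : i ≤ i'), P.tr hi ≫ g = P.tr hi ≫ g' := by
  obtain ⟨k, hik, hk⟩ := Scheme.exists_hom_comp_eq_comp_of_locallyOfFiniteType P.D P.tZ
    (IsTerminal.from specULiftZIsTerminal Y) P.c P.hc (i := op i) g g'
    (specULiftZIsTerminal.hom_ext _ _) (specULiftZIsTerminal.hom_ext _ _)
    (by
      have := congrArg (fun z => P.e.hom ≫ z) h
      simpa [pr] using this)
  refine ⟨k.unop, leOfHom hik.unop, ?_⟩
  have : P.tr (leOfHom hik.unop) = P.D.map hik := by
    change P.D.map _ = P.D.map _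
    congr 1
  rw [this]
  exact hk

end Approx

end Groth.Agent.Lib.AbsApprox62i
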