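import Mathlib
import Groth.Agent.Lib.AbsApprox62AE1

/-! # Absolute Noetherian approximation (helper62), part AE2: morphisms as limits -/

set_option autoImplicit false
set_option linter.style.haveILetI false
universe u
open CategoryTheory Limits AlgebraicGeometry Opposite

namespace Groth.Agent.Lib.AbsApprox62i

open Groth.Agent.Lib.AbsApprox62d

variable {X S : Scheme.{u}} (P : Approx X) (Q : Approx S) (f : X ⟶ S)

/-- The index type for approximating a morphism: triples `(a, b, g : X_a → S_b)` compatible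
with `f`. -/
structure MorIdx where
  a : P.A
  b : Q.A
  g : P.D.obj (op a) ⟶ Q.D.obj (op b)
  hg : P.pr a ≫ g = f ≫ Q.pr b

namespace MorIdx

variable {P Q f}

instance : LE (MorIdx P Q f) :=
  ⟨fun i i' => ∃ (ha : i.a ≤ i'.a) (hb : i.b ≤ i'.b), P.tr ha ≫ i.g = i'.g ≫ Q.tr hb⟩

lemma le_a {i i' : MorIdx P Q f} (h : i ≤ i') : i.a ≤ i'.a := h.1
lemma le_b {i i' : MorIdx P Q f} (h : i ≤ i') : i.b ≤ i'.b := h.2.1
lemma le_g {i i' : MorIdx P Q f} (h : i ≤ i') : P.tr (le_a h) ≫ i.g = i'.g ≫ Q.tr (le_b h) :=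
  h.2.2

instance : Preorder (MorIdx P Q f) where
  le_refl i := ⟨le_refl _, le_refl _, by rw [P.tr_refl, Q.tr_refl, Category.id_comp,
    Category.comp_id]⟩
  le_trans i i' i'' h h' := ⟨(le_a h).trans (le_a h'), (le_b h).trans (le_b h'), by
    rw [← P.tr_trans (le_a h) (le_a h'), Category.assoc, le_g h, ← Category.assoc, le_g h',
      Category.assoc, Q.tr_trans]⟩

instance (b : Q.Aᵒᵖ) : LocallyOfFinitePresentation
    (IsTerminal.from specULiftZIsTerminal (Q.D.obj b)) := inferInstance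

/-- Existence of indices above given stages. -/
theorem exists_ge (a₀ : P.A) (b₀ : Q.A) :
    ∃ i : MorIdx P Q f, a₀ ≤ i.a ∧ b₀ ≤ i.b := by
  obtain ⟨a₁, g₁, hg₁⟩ := P.exists_factor (f ≫ Q.pr b₀)
  obtain ⟨a, h0, h1⟩ := exists_ge_ge a₀ a₁
  exact ⟨⟨a, b₀, P.tr h1 ≫ g₁, by rw [P.pr_tr_assoc, hg₁]⟩, h0, le_refl _⟩

instance : Nonempty (MorIdx P Q f) := by
  obtain ⟨a₀⟩ := (inferInstance : Nonempty P.A)
  obtain ⟨b₀⟩ := (inferInstance : Nonempty Q.A)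
  obtain ⟨i, -, -⟩ := exists_ge (f := f) a₀ b₀
  exact ⟨i⟩

/-- Given an index `i` and stages `a ≥ i.a`, `b ≥ i.b` with a compatible morphism `g : X_a → S_b`,
there is a later stage `a'` at which `(a', b, g)` dominates `i`. -/
theorem exists_ge_of (i : MorIdx P Q f) (j : MorIdx P Q f) (ha : i.a ≤ j.a) (hb : i.b ≤ j.b) :
    ∃ j' : MorIdx P Q f, i ≤ j' ∧ j ≤ j' := by
  have h : P.pr j.a ≫ (P.tr ha ≫ i.g) = P.pr j.a ≫ (j.g ≫ Q.tr hb) := by
    rw [P.pr_tr_assoc, i.hg, ← Category.assoc, j.hg, Category.assoc, Q.pr_tr]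
  obtain ⟨a', hi, heq⟩ := P.exists_eq _ _ h
  refine ⟨⟨a', j.b, P.tr hi ≫ j.g, by rw [P.pr_tr_assoc, j.hg]⟩, ⟨ha.trans hi, hb, ?_⟩,
    ⟨hi, le_refl _, ?_⟩⟩
  · change P.tr (ha.trans hi) ≫ i.g = (P.tr hi ≫ j.g) ≫ Q.tr hb
    rw [← P.tr_trans ha hi, Category.assoc, heq, Category.assoc]
  · change P.tr hi ≫ j.g = (P.tr hi ≫ j.g) ≫ Q.tr (le_refl _)
    rw [Q.tr_refl, Category.comp_id]

instance : IsDirected (MorIdx P Q f) (· ≤ ·) :=
  ⟨fun i₁ i₂ => by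
    obtain ⟨a₀, ha1, ha2⟩ := exists_ge_ge i₁.a i₂.a
    obtain ⟨b₀, hb1, hb2⟩ := exists_ge_ge i₁.b i₂.b
    obtain ⟨j, hja, hjb⟩ := exists_ge (f := f) a₀ b₀
    obtain ⟨j', h1, h2⟩ := exists_ge_of i₁ j (ha1.trans hja) (hb1.trans hjb)
    obtain ⟨j'', h3, h4⟩ := exists_ge_of i₂ j' (ha2.trans (hja.trans (le_a h2)))
      (hb2.trans (hjb.trans (le_b h2)))
    exact ⟨j'', h1.trans h4, h3⟩⟩

end MorIdx

end Groth.Agent.Lib.AbsApprox62i
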