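import Mathlib
import Groth.Agent.Lib.AbsApprox62AE2

/-! # Absolute Noetherian approximation (helper62), part AE3: morphisms as limits -/

set_option autoImplicit false
set_option linter.style.haveILetI false
universe u
open CategoryTheory Limits AlgebraicGeometry Opposite

namespace Groth.Agent.Lib.AbsApprox62i

open Groth.Agent.Lib.AbsApprox62d

variable {X S : Scheme.{u}} (P : Approx X) (Q : Approx S) (f : X ⟶ S)

namespace MorIdx

/-- The projection to the first index. -/
def pA : MorIdx P Q f →o P.A where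
  toFun i := i.a
  monotone' _ _ h := le_a h

/-- The projection to the second index. -/
def pB : MorIdx P Q f →o Q.A where
  toFun i := i.b
  monotone' _ _ h := le_b h

instance : (pA P Q f).monotone.functor.Final := by
  refine Functor.final_of_exists_of_isFiltered _ (fun a => ?_) (fun {d c} s s' => ?_)
  · obtain ⟨b₀⟩ := (inferInstance : Nonempty Q.A)
    obtain ⟨i, hi, -⟩ := exists_ge (f := f) a b₀
    exact ⟨i, ⟨homOfLE hi⟩⟩
  · exact ⟨c, 𝟙 c, Subsingleton.elim _ _⟩

instance : (pB P Q f).monotone.functor.Final := by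
  refine Functor.final_of_exists_of_isFiltered _ (fun b => ?_) (fun {d c} s s' => ?_)
  · obtain ⟨a₀⟩ := (inferInstance : Nonempty P.A)
    obtain ⟨i, -, hi⟩ := exists_ge (f := f) a₀ b
    exact ⟨i, ⟨homOfLE hi⟩⟩
  · exact ⟨c, 𝟙 c, Subsingleton.elim _ _⟩

/-- The system `i ↦ X_{a(i)}`. -/
noncomputable def DX : (MorIdx P Q f)ᵒᵖ ⥤ Scheme.{u} := (pA P Q f).monotone.functor.op ⋙ P.D

/-- The system `i ↦ S_{b(i)}`. -/
noncomputable def DS : (MorIdx P Q f)ᵒᵖ ⥤ Scheme.{u} := (pB P Q f).monotone.functor.op ⋙ Q.D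

/-- The morphisms `X_{a(i)} → S_{b(i)}`. -/
noncomputable def φ : DX P Q f ⟶ DS P Q f where
  app i := i.unop.g
  naturality _ _ h := le_g (leOfHom h.unop)

/-- The limit cone over `DX`. -/
noncomputable def cX : Cone (DX P Q f) := P.c.whisker (pA P Q f).monotone.functor.op

/-- The limit cone over `DS`. -/
noncomputable def cS : Cone (DS P Q f) := Q.c.whisker (pB P Q f).monotone.functor.op

/-- `X = lim X_{a(i)}`. -/
noncomputable def hcX : IsLimit (cX P Q f) :=
  (Functor.Initial.isLimitWhiskerEquiv (pA P Q f).monotone.functor.op P.c).symm P.hc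

/-- `S = lim S_{b(i)}`. -/
noncomputable def hcS : IsLimit (cS P Q f) :=
  (Functor.Initial.isLimitWhiskerEquiv (pB P Q f).monotone.functor.op Q.c).symm Q.hc

lemma cX_φ (i : (MorIdx P Q f)ᵒᵖ) :
    (cX P Q f).π.app i ≫ (φ P Q f).app i = P.e.hom ≫ f ≫ Q.e.inv ≫ (cS P Q f).π.app i := by
  have := i.unop.hg
  rw [Approx.pr, Approx.pr, Category.assoc, Iso.inv_comp_eq] at this
  exact this

end MorIdx

/-- **A morphism of quasi-compact quasi-separated schemes is a limit of morphisms of schemes of finite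
type over `ℤ`.** -/
theorem exists_approx_hom {X S : Scheme.{u}} (f : X ⟶ S) [CompactSpace X]
    [QuasiSeparatedSpace X] [CompactSpace S] [QuasiSeparatedSpace S] :
    ∃ (I : Type u) (_ : Preorder I) (_ : IsDirected I (fun a b => a ≤ b)) (_ : Nonempty I)
      (DX DS : Iᵒᵖ ⥤ Scheme.{u}) (φ : DX ⟶ DS)
      (cX : Limits.Cone DX) (cS : Limits.Cone DS) (_ : Limits.IsLimit cX) (_ : Limits.IsLimit cS)
      (eX : cX.pt ≅ X) (eS : cS.pt ≅ S),
      (∀ (i j : Iᵒᵖ) (a : i ⟶ j), IsAffineHom (DX.map a) ∧ IsAffineHom (DS.map a)) ∧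
      (∀ i, CompactSpace (DX.obj i) ∧ CompactSpace (DS.obj i) ∧
        LocallyOfFiniteType (Limits.IsTerminal.from specULiftZIsTerminal (DX.obj i)) ∧
        LocallyOfFiniteType (Limits.IsTerminal.from specULiftZIsTerminal (DS.obj i))) ∧
      (∀ i, cX.π.app i ≫ φ.app i = eX.hom ≫ f ≫ eS.inv ≫ cS.π.app i) := by
  obtain ⟨P⟩ := Approx.nonempty X
  obtain ⟨Q⟩ := Approx.nonempty S
  refine ⟨MorIdx P Q f, inferInstance, inferInstance, inferInstance, MorIdx.DX P Q f,
    MorIdx.DS P Q f, MorIdx.φ P Q f, MorIdx.cX P Q f, MorIdx.cS P Q f, MorIdx.hcX P Q f,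
    MorIdx.hcS P Q f, P.e, Q.e, fun i j a => ⟨?_, ?_⟩, fun i => ⟨?_, ?_, ?_, ?_⟩,
    MorIdx.cX_φ P Q f⟩
  · exact P.aff _
  · exact Q.aff _
  · exact P.cpt _
  · exact Q.cpt _
  · exact P.lft _
  · exact Q.lft _

end Groth.Agent.Lib.AbsApprox62i
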