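import Mathlib

/-! # Absolute Noetherian approximation (helper62), part AE4: relative approximation -/

set_option autoImplicit false
set_option linter.style.haveILetI false
universe u
open CategoryTheory Limits AlgebraicGeometry Opposite

namespace Groth.Agent.Lib.AbsApprox62j

/-- A presentation of a morphism `f' : X → S'` as a limit of morphisms `X_i → S_i`. -/
structure MorSys {X S' : Scheme.{u}} (f' : X ⟶ S') where
  I : Type u
  [preI : Preorder I]
  DX : Iᵒᵖ ⥤ Scheme.{u}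
  DS : Iᵒᵖ ⥤ Scheme.{u}
  φ : DX ⟶ DS
  cX : Cone DX
  cS : Cone DS
  hcX : IsLimit cX
  hcS : IsLimit cS
  eX : cX.pt ≅ X
  eS : cS.pt ≅ S'
  h3 : ∀ i, cX.π.app i ≫ φ.app i = eX.hom ≫ f' ≫ eS.inv ≫ cS.π.app i

attribute [instance] MorSys.preI

namespace MorSys

variable {X S' S : Scheme.{u}} {f' : X ⟶ S'} (M : MorSys f') (ι : S' ⟶ S)

/-- The projection `S' → S_i`. -/
noncomputable def pS (i : M.Iᵒᵖ) : S' ⟶ M.DS.obj i := M.eS.inv ≫ M.cS.π.app i

@[reassoc (attr := simp)]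
lemma pS_map {i j : M.Iᵒᵖ} (a : i ⟶ j) : M.pS i ≫ M.DS.map a = M.pS j := by
  rw [pS, pS, Category.assoc, M.cS.w]

/-- The projection `X → X_i`. -/
noncomputable def pX (i : M.Iᵒᵖ) : X ⟶ M.DX.obj i := M.eX.inv ≫ M.cX.π.app i

@[reassoc (attr := simp)]
lemma pX_map {i j : M.Iᵒᵖ} (a : i ⟶ j) : M.pX i ≫ M.DX.map a = M.pX j := by
  rw [pX, pX, Category.assoc, M.cX.w]

@[reassoc]
lemma pX_φ (i : M.Iᵒᵖ) : M.pX i ≫ M.φ.app i = f' ≫ M.pS i := by
  rw [pX, pS, Category.assoc, M.h3, Iso.inv_hom_id_assoc]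

/-- The scheme `X_i ×_{S_i} S'`. -/
noncomputable abbrev Xp (i : M.Iᵒᵖ) : Scheme.{u} := pullback (M.φ.app i) (M.pS i)

/-- The transition maps of the `X_i ×_{S_i} S'`. -/
noncomputable def XpMap {i j : M.Iᵒᵖ} (a : i ⟶ j) : M.Xp i ⟶ M.Xp j :=
  pullback.map (M.φ.app i) (M.pS i) (M.φ.app j) (M.pS j) (M.DX.map a) (𝟙 S') (M.DS.map a)
    (M.φ.naturality a).symm (by rw [pS_map, Category.id_comp])

@[reassoc (attr := simp)]
lemma XpMap_fst {i j : M.Iᵒᵖ} (a : i ⟶ j) :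
    M.XpMap a ≫ pullback.fst _ _ = pullback.fst _ _ ≫ M.DX.map a :=
  pullback.lift_fst _ _ _

@[reassoc (attr := simp)]
lemma XpMap_snd {i j : M.Iᵒᵖ} (a : i ⟶ j) :
    M.XpMap a ≫ pullback.snd _ _ = pullback.snd _ _ := by
  rw [XpMap, pullback.map]
  simp only [Category.comp_id]
  exact pullback.lift_snd _ _ _

/-- The system `i ↦ (X_i ×_{S_i} S' → S)` of schemes over `S`. -/
noncomputable def DO : M.Iᵒᵖ ⥤ Over S where
  obj i := Over.mk (pullback.snd (M.φ.app i) (M.pS i) ≫ ι)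
  map a := Over.homMk (M.XpMap a) (by simp)
  map_id i := by
    ext
    apply pullback.hom_ext <;> simp
  map_comp a b := by
    ext
    apply pullback.hom_ext <;> simp

/-- The map `X → X_i ×_{S_i} S'`. -/
noncomputable def toXp (i : M.Iᵒᵖ) : X ⟶ M.Xp i := pullback.lift (M.pX i) f' (M.pX_φ i)

@[reassoc (attr := simp)]
lemma toXp_fst (i : M.Iᵒᵖ) : M.toXp i ≫ pullback.fst _ _ = M.pX i := pullback.lift_fst _ _ _

@[reassoc (attr := simp)]
lemma toXp_snd (i : M.Iᵒᵖ) : M.toXp i ≫ pullback.snd _ _ = f' := pullback.lift_snd _ _ _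

/-- The cone over `DO` with point `X → S`. -/
noncomputable def cO : Cone (M.DO ι) where
  pt := Over.mk (f' ≫ ι)
  π :=
    { app i := Over.homMk (M.toXp i) (by simp [DO])
      naturality i j a := by
        ext
        apply pullback.hom_ext
        · simp [DO]
        · simp [DO] }

section limit

variable [Mono ι] [Nonempty M.I] (s : Cone (M.DO ι))

/-- The components `Z → X_i ×_{S_i} S'` of a cone. -/
noncomputable def sL (i : M.Iᵒᵖ) : s.pt.left ⟶ M.Xp i := (s.π.app i).left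

lemma sL_ι (i : M.Iᵒᵖ) : M.sL ι s i ≫ pullback.snd _ _ ≫ ι = s.pt.hom := Over.w (s.π.app i)

lemma sL_map {i j : M.Iᵒᵖ} (a : i ⟶ j) : M.sL ι s i ≫ M.XpMap a = M.sL ι s j :=
  congrArg (fun m => m.left) (s.w a)

/-- The components `Z → X_i` of a cone. -/
noncomputable def zX (i : M.Iᵒᵖ) : s.pt.left ⟶ M.DX.obj i := M.sL ι s i ≫ pullback.fst _ _

/-- The components `Z → S'` of a cone. -/
noncomputable def zS (i : M.Iᵒᵖ) : s.pt.left ⟶ S' := M.sL ι s i ≫ pullback.snd _ _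

lemma zS_ι (i : M.Iᵒᵖ) : M.zS ι s i ≫ ι = s.pt.hom := by
  rw [zS, Category.assoc, sL_ι]

lemma zS_eq (i j : M.Iᵒᵖ) : M.zS ι s i = M.zS ι s j := by
  rw [← cancel_mono ι, zS_ι, zS_ι]

lemma zX_map {i j : M.Iᵒᵖ} (a : i ⟶ j) : M.zX ι s i ≫ M.DX.map a = M.zX ι s j := by
  rw [zX, zX, Category.assoc, ← XpMap_fst, ← Category.assoc, sL_map]

lemma zX_φ (i : M.Iᵒᵖ) : M.zX ι s i ≫ M.φ.app i = M.zS ι s i ≫ M.pS i := by
  rw [zX, zS, Category.assoc, Category.assoc, pullback.condition]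

/-- The cone over `DX` induced by a cone over `DO`. -/
noncomputable def coneX : Cone M.DX where
  pt := s.pt.left
  π :=
    { app i := M.zX ι s i
      naturality _ _ a := (Category.id_comp _).trans (M.zX_map ι s a).symm }

/-- The induced morphism `Z → X`. -/
noncomputable def liftX : s.pt.left ⟶ X := M.hcX.lift (M.coneX ι s) ≫ M.eX.hom

@[reassoc]
lemma liftX_pX (i : M.Iᵒᵖ) : M.liftX ι s ≫ M.pX i = M.zX ι s i := by
  rw [liftX, pX, Category.assoc, Iso.hom_inv_id_assoc]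
  exact M.hcX.fac (M.coneX ι s) i

lemma liftX_f' (i : M.Iᵒᵖ) : M.liftX ι s ≫ f' = M.zS ι s i := by
  rw [← cancel_mono M.eS.inv]
  apply M.hcS.hom_ext
  intro j
  have h1 : (M.liftX ι s ≫ f') ≫ M.pS j = M.zS ι s i ≫ M.pS j := by
    rw [Category.assoc, ← M.pX_φ j, liftX_pX_assoc, zX_φ, M.zS_eq ι s j i]
  simpa [pS] using h1

lemma liftX_toXp (i : M.Iᵒᵖ) : M.liftX ι s ≫ M.toXp i = M.sL ι s i := by
  apply pullback.hom_ext
  · rw [Category.assoc, toXp_fst, liftX_pX, zX]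
  · rw [Category.assoc, toXp_snd, M.liftX_f' ι s i, zS]

/-- The lift of a cone. -/
noncomputable def liftO : s.pt ⟶ (M.cO ι).pt :=
  Over.homMk (M.liftX ι s) (by
    obtain ⟨i⟩ := (inferInstance : Nonempty M.I)
    change M.liftX ι s ≫ f' ≫ ι = s.pt.hom
    rw [← Category.assoc, M.liftX_f' ι s (op i), zS_ι])

lemma liftX_uniq (g : s.pt.left ⟶ X) (hg : ∀ i, g ≫ M.toXp i = M.sL ι s i) :
    g = M.liftX ι s := by
  rw [← cancel_mono M.eX.inv]
  apply M.hcX.hom_ext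
  intro i
  have h1 : g ≫ M.pX i = M.liftX ι s ≫ M.pX i := by
    rw [liftX_pX, zX, ← hg i, Category.assoc, toXp_fst]
  simpa [pX] using h1

/-- `X = lim X_i ×_{S_i} S'` in the category of schemes over `S`. -/
noncomputable def isLimitCO : IsLimit (M.cO ι) where
  lift s := M.liftO ι s
  fac s i := by
    ext
    exact M.liftX_toXp ι s i
  uniq s m hm := by
    ext
    refine M.liftX_uniq ι s m.left fun i => ?_
    exact congrArg (fun m => m.left) (hm i)

end limit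

end MorSys

end Groth.Agent.Lib.AbsApprox62j
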