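import Mathlib
import Groth.Agent.Lib.AbsApprox62AE4
import Groth.Agent.Lib.AbsApprox62AE3

/-! # Absolute Noetherian approximation (helper62), part AE5: relative approximation -/

set_option autoImplicit false
set_option linter.style.haveILetI false
universe u
open CategoryTheory Limits AlgebraicGeometry Opposite

namespace Groth.Agent.Lib.AbsApprox62j

open Groth.Agent.Lib.AbsApprox62d Groth.Agent.Lib.AbsApprox62i

/-- The image of a quasi-compact scheme lies in a quasi-compact open. -/
theorem exists_isCompact_opens_range_le {X S : Scheme.{u}} (f : X ⟶ S) [CompactSpace X] :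
    ∃ S' : S.Opens, IsCompact (S' : Set S) ∧ Set.range f ⊆ (S' : Set S) := by
  have hc : IsCompact (Set.range f) := isCompact_range f.continuous
  obtain ⟨t, ht⟩ := hc.elim_finite_subcover (fun U : S.affineOpens => (U.1 : Set S))
    (fun U => U.1.2) (fun s _ => by
      obtain ⟨_, ⟨U, hU, rfl⟩, hsU, -⟩ :=
        S.isBasis_affineOpens.exists_subset_of_mem_open (Set.mem_univ s) isOpen_univ
      exact Set.mem_iUnion.mpr ⟨⟨U, hU⟩, hsU⟩)
  refine ⟨⨆ U ∈ t, U.1, ?_, ?_⟩
  · have : ((⨆ U ∈ t, U.1 : S.Opens) : Set S) = ⋃ U ∈ t, (U.1 : Set S) := by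
      simp
    rw [this]
    exact t.isCompact_biUnion fun U _ => U.2.isCompact
  · intro s hs
    have := ht hs
    simpa using this

/-- **Relative approximation** (Stacks 09MV): a quasi-compact quasi-separated scheme over a
quasi-separated base `S` is a directed limit of schemes of finite presentation over `S` with affine
transition maps. -/
theorem exists_limit_over {X S : Scheme.{u}} (f : X ⟶ S)
    [CompactSpace X] [QuasiSeparatedSpace X] [QuasiSeparatedSpace S] :
    ∃ (I : Type u) (_ : Preorder I) (_ : IsDirected I (fun a b => a ≤ b)) (_ : Nonempty I)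
      (D : Iᵒᵖ ⥤ Over S) (c : Limits.Cone D) (_ : Limits.IsLimit c),
      (∀ i, LocallyOfFinitePresentation (D.obj i).hom ∧ QuasiCompact (D.obj i).hom ∧
        QuasiSeparated (D.obj i).hom) ∧
      (∀ (i j : Iᵒᵖ) (a : i ⟶ j), IsAffineHom (D.map a).left) ∧
      Nonempty (c.pt ≅ Over.mk f) := by
  obtain ⟨S', hS'c, hS'⟩ := exists_isCompact_opens_range_le f
  haveI : CompactSpace (S' : Scheme.{u}) := isCompact_iff_compactSpace.mp hS'c
  haveI : QuasiSeparatedSpace (S' : Scheme.{u}) :=
    QuasiSeparatedSpace.of_isOpenEmbedding S'.ι.isOpenEmbedding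
  have hle : Set.range f ⊆ Set.range S'.ι := by
    rw [Scheme.Opens.range_ι]; exact hS'
  let f' : X ⟶ (S' : Scheme.{u}) := IsOpenImmersion.lift S'.ι f hle
  have hf' : f' ≫ S'.ι = f := IsOpenImmersion.lift_fac _ _ _
  obtain ⟨I, pI, dI, nI, DX, DS, φ, cX, cS, hcX, hcS, eX, eS, h1, h2, h3⟩ := exists_approx_hom f'
  let M : MorSys f' :=
    { I := I, DX := DX, DS := DS, φ := φ, cX := cX, cS := cS, hcX := hcX, hcS := hcS, eX := eX,
      eS := eS, h3 := h3 }
  haveI : Nonempty M.I := nI
  -- instances at the stages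
  haveI : ∀ {i j : Iᵒᵖ} (a : i ⟶ j), IsAffineHom (DS.map a) := fun a => (h1 _ _ a).2
  haveI : ∀ {i j : Iᵒᵖ} (a : i ⟶ j), IsAffineHom (DX.map a) := fun a => (h1 _ _ a).1
  haveI : ∀ i, CompactSpace (DX.obj i) := fun i => (h2 i).1
  haveI : ∀ i, CompactSpace (DS.obj i) := fun i => (h2 i).2.1
  haveI : ∀ i, LocallyOfFiniteType (IsTerminal.from specULiftZIsTerminal (DX.obj i)) :=
    fun i => (h2 i).2.2.1
  haveI : ∀ i, LocallyOfFiniteType (IsTerminal.from specULiftZIsTerminal (DS.obj i)) :=
    fun i => (h2 i).2.2.2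
  haveI : ∀ i, IsLocallyNoetherian (DX.obj i) := fun i => isLocallyNoetherian_of_lft _
  haveI : ∀ i, IsLocallyNoetherian (DS.obj i) := fun i => isLocallyNoetherian_of_lft _
  haveI : ∀ i, LocallyOfFiniteType (φ.app i) := fun i => by
    haveI : LocallyOfFiniteType (φ.app i ≫ IsTerminal.from specULiftZIsTerminal (DS.obj i)) := by
      rw [specULiftZIsTerminal.hom_ext (φ.app i ≫ _)
        (IsTerminal.from specULiftZIsTerminal (DX.obj i))]
      infer_instance
    exact locallyOfFiniteType_of_comp (φ.app i) (IsTerminal.from specULiftZIsTerminal (DS.obj i))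
  haveI : ∀ i, IsAffineHom (cS.π.app i) := isAffineHom_π_app DS cS hcS
  haveI : ∀ i, IsAffineHom (M.pS i) := fun i => by
    rw [MorSys.pS]; infer_instance
  refine ⟨I, pI, dI, nI, M.DO S'.ι, M.cO S'.ι, M.isLimitCO S'.ι, fun i => ⟨?_, ?_, ?_⟩,
    fun i j a => ?_, ⟨?_⟩⟩
  · change LocallyOfFinitePresentation (pullback.snd (φ.app i) (M.pS i) ≫ S'.ι)
    infer_instance
  · change QuasiCompact (pullback.snd (φ.app i) (M.pS i) ≫ S'.ι)
    infer_instance
  · change QuasiSeparated (pullback.snd (φ.app i) (M.pS i) ≫ S'.ι)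
    infer_instance
  · change IsAffineHom (M.XpMap a)
    haveI : IsAffineHom (M.XpMap a ≫ pullback.fst (M.φ.app j) (M.pS j)) := by
      rw [MorSys.XpMap_fst]
      haveI : IsAffineHom (M.DX.map a) := (h1 _ _ a).1
      haveI : IsAffineHom (pullback.fst (M.φ.app i) (M.pS i)) :=
        MorphismProperty.pullback_fst _ _ (inferInstance : IsAffineHom (M.pS i))
      infer_instance
    exact IsAffineHom.of_comp (M.XpMap a) (pullback.fst (M.φ.app j) (M.pS j))
  · exact Over.isoMk (Iso.refl _) ((Category.id_comp _).trans hf'.symm)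

end Groth.Agent.Lib.AbsApprox62j
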