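import Mathlib.AlgebraicGeometry.AffineTransitionLimit
import Mathlib.AlgebraicGeometry.Morphisms.FiniteType
import Mathlib.AlgebraicGeometry.Morphisms.FinitePresentation
import Mathlib.AlgebraicGeometry.Morphisms.Separated
import Mathlib.AlgebraicGeometry.Limits

/-!
# Absolute / relative Noetherian approximation, as hypotheses (helper62)

`Hyp0590`, `Hyp7384`, `Hyp7383` are, verbatim, the statements of milestones S0590 (every qcqs scheme
is a directed limit of schemes of finite type over `ℤ` with affine transition maps), S7384 (the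
same for a morphism of qcqs schemes) and S7383 (`X → S` with `X` qcqs, `S` quasi-separated is a
directed limit, in `Over S`, of finitely presented `S`-schemes with affine transition maps).

Purpose: consumers (S17880, S17885, S2077, S2078, S7380, S7395, S2079, S2147, S1455, ...) can be
developed **before** the keystone lands, as theorems `theorem foo (H : AbsApproxHyp62.Hyp7383.{u}) ...`.
Once `Groth.Agent.S7383.result` exists the hypothesis is discharged by
`fun f => Groth.Agent.S7383.result f` (similarly for the others).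
-/

set_option autoImplicit false
universe u
open CategoryTheory AlgebraicGeometry

namespace Groth.Agent.Lib.AbsApproxHyp62

/-- The statement of S0590 (absolute Noetherian approximation), as a proposition. -/
def Hyp0590 : Prop :=
  ∀ (S : Scheme.{u}) [CompactSpace S] [QuasiSeparatedSpace S],
    ∃ (I : Type u) (_ : Preorder I) (_ : IsDirected I (fun a b => a ≤ b)) (_ : Nonempty I)
      (D : Iᵒᵖ ⥤ Scheme.{u}) (c : Limits.Cone D) (_ : Limits.IsLimit c),
      (∀ (i j : Iᵒᵖ) (f : i ⟶ j), IsAffineHom (D.map f)) ∧
      (∀ i, CompactSpace (D.obj i) ∧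
        LocallyOfFiniteType (Limits.IsTerminal.from specULiftZIsTerminal (D.obj i))) ∧
      Nonempty (c.pt ≅ S)

/-- The statement of S7384 (a morphism of qcqs schemes is a directed limit of morphisms of schemes
of finite type over `ℤ`), as a proposition. -/
def Hyp7384 : Prop :=
  ∀ {X S : Scheme.{u}} (f : X ⟶ S) [CompactSpace X]
    [QuasiSeparatedSpace X] [CompactSpace S] [QuasiSeparatedSpace S],
    ∃ (I : Type u) (_ : Preorder I) (_ : IsDirected I (fun a b => a ≤ b)) (_ : Nonempty I)
      (DX DS : Iᵒᵖ ⥤ Scheme.{u}) (φ : DX ⟶ DS)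
      (cX : Limits.Cone DX) (cS : Limits.Cone DS) (_ : Limits.IsLimit cX) (_ : Limits.IsLimit cS)
      (eX : cX.pt ≅ X) (eS : cS.pt ≅ S),
      (∀ (i j : Iᵒᵖ) (a : i ⟶ j), IsAffineHom (DX.map a) ∧ IsAffineHom (DS.map a)) ∧
      (∀ i, CompactSpace (DX.obj i) ∧ CompactSpace (DS.obj i) ∧
        LocallyOfFiniteType (Limits.IsTerminal.from specULiftZIsTerminal (DX.obj i)) ∧
        LocallyOfFiniteType (Limits.IsTerminal.from specULiftZIsTerminal (DS.obj i))) ∧
      (∀ i, cX.π.app i ≫ φ.app i = eX.hom ≫ f ≫ eS.inv ≫ cS.π.app i)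

/-- The statement of S7383 (relative approximation: `X → S` with `X` qcqs and `S` quasi-separated
is a directed limit of finitely presented `S`-schemes with affine transition maps), as a
proposition. -/
def Hyp7383 : Prop :=
  ∀ {X S : Scheme.{u}} (f : X ⟶ S)
    [CompactSpace X] [QuasiSeparatedSpace X] [QuasiSeparatedSpace S],
    ∃ (I : Type u) (_ : Preorder I) (_ : IsDirected I (fun a b => a ≤ b)) (_ : Nonempty I)
      (D : Iᵒᵖ ⥤ Over S) (c : Limits.Cone D) (_ : Limits.IsLimit c),
      (∀ i, LocallyOfFinitePresentation (D.obj i).hom ∧ QuasiCompact (D.obj i).hom ∧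
        QuasiSeparated (D.obj i).hom) ∧
      (∀ (i j : Iᵒᵖ) (a : i ⟶ j), IsAffineHom (D.map a).left) ∧
      Nonempty (c.pt ≅ Over.mk f)

end Groth.Agent.Lib.AbsApproxHyp62
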