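import Mathlib

/-!
# Flatness of the diagonal and descent of flatness (Stacks 092C)

If the multiplication map `B ⊗[A] B → B` is flat, then every `B`-module which is flat over `A`
is flat over `B`.
-/

set_option autoImplicit false

namespace Groth.Agent.Lib.DiagFlat

open TensorProduct

section

variable (A B : Type*) [CommRing A] [CommRing B] [Algebra A B]
variable (N N' : Type*) [AddCommGroup N] [Module A N] [Module B N] [IsScalarTower A B N]
  [AddCommGroup N'] [Module A N'] [Module B N'] [IsScalarTower A B N']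

/-- The action of `B ⊗[A] B` on `N ⊗[A] N'`, as an algebra homomorphism to the endomorphism
ring. -/
noncomputable def rho : B ⊗[A] B →ₐ[A] Module.End A (N ⊗[A] N') :=
  (Module.endTensorEndAlgHom (R := A) (S := A) (A := A) (M := N) (N := N')).comp
    (Algebra.TensorProduct.map (Algebra.lsmul A A N) (Algebra.lsmul A A N'))

@[simp]
theorem rho_tmul_tmul (b₁ b₂ : B) (n : N) (n' : N') :
    rho A B N N' (b₁ ⊗ₜ b₂) (n ⊗ₜ n') = (b₁ • n) ⊗ₜ (b₂ • n') := by
  simp [rho, Module.endTensorEndAlgHom_apply]

theorem rho_tmul_one (b : B) (m : N ⊗[A] N') :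
    rho A B N N' (b ⊗ₜ 1) m = b • m := by
  induction m using TensorProduct.induction_on with
  | zero => simp
  | tmul n n' => simp [smul_tmul']
  | add x y hx hy => simp only [map_add, smul_add, hx, hy]

/-- `rho` is compatible with the projection to `N ⊗[B] N'`. -/
theorem proj_rho (c : B ⊗[A] B) (m : N ⊗[A] N') :
    mapOfCompatibleSMul B A B N N' (rho A B N N' c m) =
      (Algebra.TensorProduct.lmul' A (S := B) c) • mapOfCompatibleSMul B A B N N' m := by
  induction c using TensorProduct.induction_on with
  | zero => simp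
  | tmul b₁ b₂ =>
    induction m using TensorProduct.induction_on with
    | zero => simp
    | tmul n n' =>
      simp only [rho_tmul_tmul, mapOfCompatibleSMul_tmul, Algebra.TensorProduct.lmul'_apply_tmul]
      rw [← smul_tmul, smul_tmul', mul_comm, mul_smul]
    | add x y hx hy => simp only [map_add, smul_add, hx, hy]
  | add x y hx hy => simp only [map_add, LinearMap.add_apply, add_smul, hx, hy]

variable {N'} in
/-- `rho` is natural in the second variable. -/
theorem lTensor_rho {N'' : Type*} [AddCommGroup N''] [Module A N''] [Module B N'']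
    [IsScalarTower A B N''] (f : N' →ₗ[B] N'') (c : B ⊗[A] B) (m : N ⊗[A] N') :
    (f.restrictScalars A).lTensor N (rho A B N N' c m) =
      rho A B N N'' c ((f.restrictScalars A).lTensor N m) := by
  induction c using TensorProduct.induction_on with
  | zero => simp
  | tmul b₁ b₂ =>
    induction m using TensorProduct.induction_on with
    | zero => simp
    | tmul n n' => simp
    | add x y hx hy => simp only [map_add, hx, hy]
  | add x y hx hy => simp only [map_add, LinearMap.add_apply, hx, hy]

variable {A B N N'} in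
/-- Elements of the kernel of `N ⊗[A] N' → N ⊗[B] N'` are fixed by some `rho y` with `y` in
the kernel of the multiplication map, provided that kernel is "pure". -/
theorem exists_rho_eq_of_mem_ker
    (h : ∀ x : B ⊗[A] B, Algebra.TensorProduct.lmul' A (S := B) x = 0 →
      ∃ y, Algebra.TensorProduct.lmul' A (S := B) y = 0 ∧ x = x * y)
    (m : N ⊗[A] N') (hm : mapOfCompatibleSMul B A B N N' m = 0) :
    ∃ y, Algebra.TensorProduct.lmul' A (S := B) y = 0 ∧ rho A B N N' y m = m := by
  have hmem : m ∈ LinearMap.ker (mapOfCompatibleSMul B A B N N') := hm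
  rw [TensorProduct.AlgebraTensorModule.ker_mapOfCompatibleSMul] at hmem
  clear hm
  induction hmem using Submodule.span_induction with
  | mem m hm =>
    obtain ⟨b, n, n', rfl⟩ := hm
    have hx : Algebra.TensorProduct.lmul' A (S := B) (b ⊗ₜ[A] (1 : B) - (1 : B) ⊗ₜ[A] b) = 0 := by
      simp
    obtain ⟨y, hy, hxy⟩ := h _ hx
    refine ⟨y, hy, ?_⟩
    have e : (b • n) ⊗ₜ[A] n' - n ⊗ₜ[A] (b • n') =
        rho A B N N' (b ⊗ₜ[A] (1 : B) - (1 : B) ⊗ₜ[A] b) (n ⊗ₜ n') := by
      simp [map_sub]
    rw [e, ← Module.End.mul_apply, ← map_mul, mul_comm, ← hxy]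
  | zero => exact ⟨0, by simp, by simp⟩
  | add m₁ m₂ _ _ h₁ h₂ =>
    obtain ⟨y₁, hy₁, e₁⟩ := h₁
    obtain ⟨y₂, hy₂, e₂⟩ := h₂
    refine ⟨y₁ + y₂ - y₁ * y₂, by simp [hy₁, hy₂], ?_⟩
    have c₁ : rho A B N N' (y₁ + y₂ - y₁ * y₂) m₁ = m₁ := by
      rw [mul_comm y₁ y₂]
      simp only [map_sub, map_add, map_mul, LinearMap.sub_apply, LinearMap.add_apply,
        Module.End.mul_apply, e₁]
      abel
    have c₂ : rho A B N N' (y₁ + y₂ - y₁ * y₂) m₂ = m₂ := by
      simp only [map_sub, map_add, map_mul, LinearMap.sub_apply, LinearMap.add_apply,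
        Module.End.mul_apply, e₂]
      abel
    rw [map_add, c₁, c₂]
  | smul b m _ h₁ =>
    obtain ⟨y, hy, e⟩ := h₁
    refine ⟨y, hy, ?_⟩
    rw [← rho_tmul_one, ← Module.End.mul_apply, ← map_mul, mul_comm, map_mul,
      Module.End.mul_apply, e]

end

/-- If the multiplication map `B ⊗[A] B → B` is flat then its kernel is pure, elementwise. -/
theorem exists_eq_mul_of_flat_lmul' {A B : Type*} [CommRing A] [CommRing B] [Algebra A B]
    (h : (Algebra.TensorProduct.lmul' A (S := B)).Flat) (x : B ⊗[A] B)
    (hx : Algebra.TensorProduct.lmul' A (S := B) x = 0) :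
    ∃ y, Algebra.TensorProduct.lmul' A (S := B) y = 0 ∧ x = x * y := by
  algebraize [(Algebra.TensorProduct.lmul' A (S := B)).toRingHom]
  have hsurj : Function.Surjective (Algebra.ofId (B ⊗[A] B) B) := fun x ↦ ⟨1 ⊗ₜ x, by
    simp [Algebra.ofId_apply, RingHom.algebraMap_toAlgebra]⟩
  let e : ((B ⊗[A] B) ⧸ RingHom.ker (Algebra.ofId (B ⊗[A] B) B)) ≃ₐ[B ⊗[A] B] B :=
    Ideal.quotientKerAlgEquivOfSurjective hsurj
  have : (RingHom.ker (Algebra.ofId (B ⊗[A] B) B)).Pure :=
    Module.Flat.of_linearEquiv e.toLinearEquiv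
  have hxI : x ∈ RingHom.ker (Algebra.ofId (B ⊗[A] B) B) := by
    rw [RingHom.mem_ker]
    exact hx
  obtain ⟨y, hy, hxy⟩ := Ideal.exists_eq_mul_of_pure hxI
  exact ⟨y, hy, hxy⟩

/-- **Stacks 092C**: if `B ⊗[A] B → B` is flat, a `B`-module which is `A`-flat is `B`-flat. -/
theorem flat_of_flat_lmul' {A B : Type*} [CommRing A] [CommRing B] [Algebra A B]
    (h : (Algebra.TensorProduct.lmul' A (S := B)).Flat) (N : Type*) [AddCommGroup N]
    [Module B N] [Module A N] [IsScalarTower A B N] [Module.Flat A N] : Module.Flat B N := by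
  rw [Module.Flat.iff_lTensor_preserves_injective_linearMap]
  intro N' N'' _ _ _ _ f hf
  letI : Module A N' := Module.compHom N' (algebraMap A B)
  haveI : IsScalarTower A B N' := IsScalarTower.of_algebraMap_smul fun _ _ => rfl
  letI : Module A N'' := Module.compHom N'' (algebraMap A B)
  haveI : IsScalarTower A B N'' := IsScalarTower.of_algebraMap_smul fun _ _ => rfl
  have hpure := exists_eq_mul_of_flat_lmul' h
  have hinj : Function.Injective ((f.restrictScalars A).lTensor N) :=
    Module.Flat.lTensor_preserves_injective_linearMap (f.restrictScalars A) hf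
  rw [injective_iff_map_eq_zero]
  intro t ht
  obtain ⟨m, rfl⟩ := mapOfCompatibleSMul_surjective B A B N N' t
  have comm : ∀ m : N ⊗[A] N', f.lTensor N (mapOfCompatibleSMul B A B N N' m) =
      mapOfCompatibleSMul B A B N N'' ((f.restrictScalars A).lTensor N m) := by
    intro m
    induction m using TensorProduct.induction_on with
    | zero => simp
    | tmul n n' => simp
    | add x y hx hy => simp only [map_add, hx, hy]
  rw [comm] at ht
  obtain ⟨y, hy, e⟩ := exists_rho_eq_of_mem_ker hpure _ ht
  rw [← lTensor_rho] at e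
  have e' := hinj e
  rw [← e', proj_rho, hy, zero_smul]

end Groth.Agent.Lib.DiagFlat

namespace Groth.Agent.Lib.DiagFlat

open TensorProduct

/-- If `f : P → Q` is surjective and `g ∘ f` is flat then `g` is flat. -/
theorem ringHom_flat_of_comp_surjective {P Q C : Type*} [CommRing P] [CommRing Q] [CommRing C]
    (f : P →+* Q) (hf : Function.Surjective f) (g : Q →+* C) (h : (g.comp f).Flat) : g.Flat := by
  algebraize [f, g, g.comp f]
  have hbij : Function.Bijective (Algebra.TensorProduct.lmul' P (S := Q)) :=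
    LinearMap.mul'_bijective_of_surjective (R := P) (A := Q) hf
  have : (Algebra.TensorProduct.lmul' P (S := Q)).Flat := RingHom.Flat.of_bijective hbij
  exact flat_of_flat_lmul' this C

/-- **Stacks 092L**: an `A`-algebra map between weakly étale `A`-algebras is weakly étale. -/
theorem weaklyEtale_of_tower (A B C : Type*) [CommRing A] [CommRing B] [CommRing C]
    [Algebra A B] [Algebra A C] [Algebra B C] [IsScalarTower A B C] [Algebra.WeaklyEtale A B]
    [Algebra.WeaklyEtale A C] : Algebra.WeaklyEtale B C := by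
  have hBC : Module.Flat B C := flat_of_flat_lmul' (Algebra.WeaklyEtale.flat_lmul' A B) C
  refine ⟨hBC, ?_⟩
  let φ : C ⊗[A] C →ₐ[A] C ⊗[B] C := Algebra.TensorProduct.mapOfCompatibleSMul B A A C C
  have hφ : Function.Surjective φ := Algebra.TensorProduct.mapOfCompatibleSMul_surjective B A A C C
  have hcomp : (Algebra.TensorProduct.lmul' B (S := C)).toRingHom.comp φ.toRingHom =
      (Algebra.TensorProduct.lmul' A (S := C)).toRingHom := by
    have : ((Algebra.TensorProduct.lmul' B (S := C)).restrictScalars A).comp φ =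
        Algebra.TensorProduct.lmul' A (S := C) := by
      ext <;> simp [φ]
    exact congrArg (fun ψ : C ⊗[A] C →ₐ[A] C => ψ.toRingHom) this
  have hA : ((Algebra.TensorProduct.lmul' B (S := C)).toRingHom.comp φ.toRingHom).Flat := by
    rw [hcomp]
    exact Algebra.WeaklyEtale.flat_lmul' A C
  exact ringHom_flat_of_comp_surjective φ.toRingHom hφ _ hA

end Groth.Agent.Lib.DiagFlat
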