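import Mathlib

/-!
# Von Neumann regular (absolutely flat) commutative rings

`Groth.Agent.Lib.VNRegular.flat_of_vnr`: if every `a : R` has a weak inverse `b` with
`a * b * a = a`, then every `R`-module is flat.  `vnr_pi_field`: products of fields are such.
-/

namespace Groth.Agent.Lib.VNRegular

/-- In a von Neumann regular commutative ring every finitely generated ideal is generated by an
idempotent. -/
theorem exists_idempotent_span_eq {R : Type*} [CommRing R] (h : ∀ a : R, ∃ b, a * b * a = a)
    (I : Ideal R) (hI : I.FG) : ∃ e : R, e * e = e ∧ I = Ideal.span {e} := by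
  induction I, hI using Submodule.fg_induction with
  | singleton a =>
    obtain ⟨b, hb⟩ := h a
    refine ⟨a * b, ?_, ?_⟩
    · calc a * b * (a * b) = (a * b * a) * b := by ring
        _ = a * b := by rw [hb]
    · change Ideal.span {a} = Ideal.span {a * b}
      apply le_antisymm
      · rw [Ideal.span_le, Set.singleton_subset_iff]
        exact Ideal.mem_span_singleton'.mpr ⟨a, by rw [show a * (a * b) = a * b * a by ring, hb]⟩
      · rw [Ideal.span_le, Set.singleton_subset_iff]
        exact Ideal.mem_span_singleton'.mpr ⟨b, by ring⟩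
  | sup I J hI hJ ihI ihJ =>
    obtain ⟨e, he, rfl⟩ := ihI
    obtain ⟨f, hf, rfl⟩ := ihJ
    refine ⟨e + f - e * f, ?_, ?_⟩
    · have : (e + f - e * f) * (e + f - e * f)
          = e * e + f * f + 2 * (e * f) - 2 * (e * e) * f - 2 * e * (f * f) + (e * e) * (f * f) := by
        ring
      rw [this, he, hf]; ring
    · apply le_antisymm
      · rw [sup_le_iff, Ideal.span_le, Ideal.span_le, Set.singleton_subset_iff,
          Set.singleton_subset_iff]
        constructor
        · refine Ideal.mem_span_singleton'.mpr ⟨e, ?_⟩
          calc e * (e + f - e * f) = e * e + (e * f - (e * e) * f) := by ring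
            _ = e := by rw [he]; ring
        · refine Ideal.mem_span_singleton'.mpr ⟨f, ?_⟩
          calc f * (e + f - e * f) = f * f + (e * f - e * (f * f)) := by ring
            _ = f := by rw [hf]; ring
      · rw [Ideal.span_le, Set.singleton_subset_iff]
        have h1 : e ∈ Ideal.span {e} ⊔ Ideal.span {f} :=
          Ideal.mem_sup_left (Ideal.mem_span_singleton_self e)
        have h2 : f ∈ Ideal.span {e} ⊔ Ideal.span {f} :=
          Ideal.mem_sup_right (Ideal.mem_span_singleton_self f)
        exact Ideal.sub_mem _ (Ideal.add_mem _ h1 h2) (Ideal.mul_mem_left _ e h2)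

/-- Every module over a von Neumann regular commutative ring is flat. -/
theorem flat_of_vnr {R : Type*} [CommRing R] (h : ∀ a : R, ∃ b, a * b * a = a)
    (M : Type*) [AddCommGroup M] [Module R M] : Module.Flat R M := by
  rw [Module.Flat.iff_rTensor_injective]
  intro I hI
  obtain ⟨e, he, rfl⟩ := exists_idempotent_span_eq h I hI
  -- retraction of the inclusion
  let r : R →ₗ[R] (Ideal.span {e} : Ideal R) :=
    { toFun := fun x => ⟨x * e, Ideal.mul_mem_left _ _ (Ideal.mem_span_singleton_self e)⟩
      map_add' := fun x y => by ext; simp [add_mul]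
      map_smul' := fun c x => by ext; simp [mul_assoc] }
  have hr : r ∘ₗ (Ideal.span {e} : Ideal R).subtype = LinearMap.id := by
    ext ⟨x, hx⟩
    obtain ⟨c, rfl⟩ := Ideal.mem_span_singleton'.mp hx
    simp [r, mul_assoc, he]
  have : (r.rTensor M) ∘ₗ ((Ideal.span {e} : Ideal R).subtype.rTensor M) = LinearMap.id := by
    rw [← LinearMap.rTensor_comp, hr, LinearMap.rTensor_id]
  exact Function.LeftInverse.injective (g := r.rTensor M) fun x => by
    have := LinearMap.congr_fun this x
    simpa using this

/-- A product of fields is von Neumann regular. -/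
theorem vnr_pi_field {ι : Type*} (K : ι → Type*) [∀ i, Field (K i)] (a : ∀ i, K i) :
    ∃ b : ∀ i, K i, a * b * a = a := by
  refine ⟨fun i => (a i)⁻¹, ?_⟩
  funext i
  by_cases hi : a i = 0
  · simp [hi]
  · simp [hi]

end Groth.Agent.Lib.VNRegular
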