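import Mathlib
import Groth.Agent.Lib.VNRegular
import Groth.Agent.Lib.DiagFlat

/-!
# Weakly étale algebras over absolutely flat / reduced rings

* `isReduced_of_weaklyEtale_of_vnr`: a weakly étale algebra over a von Neumann regular ring is
  reduced (Stacks 092F + 092G).
* `isReduced_of_weaklyEtale`: a weakly étale algebra over a reduced ring is reduced
  (Stacks 092I).
-/

set_option autoImplicit false

namespace Groth.Agent.Lib.AbsFlat

open TensorProduct Groth.Agent.Lib.VNRegular Groth.Agent.Lib.DiagFlat

/-- A weakly étale algebra over a von Neumann regular ring is absolutely flat. -/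
theorem flat_of_weaklyEtale_of_vnr {K B : Type*} [CommRing K] [CommRing B] [Algebra K B]
    [Algebra.WeaklyEtale K B] (hK : ∀ a : K, ∃ b, a * b * a = a)
    (N : Type*) [AddCommGroup N] [Module B N] : Module.Flat B N := by
  letI : Module K N := Module.compHom N (algebraMap K B)
  haveI : IsScalarTower K B N := IsScalarTower.of_algebraMap_smul fun _ _ => rfl
  haveI : Module.Flat K N := flat_of_vnr hK N
  exact flat_of_flat_lmul' (Algebra.WeaklyEtale.flat_lmul' K B) N

/-- A ring all of whose modules are flat is reduced. -/
theorem isReduced_of_forall_flat {B : Type*} [CommRing B]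
    (h : ∀ I : Ideal B, Module.Flat B (B ⧸ I)) : IsReduced B := by
  rw [isReduced_iff_pow_one_lt 2 one_lt_two]
  intro x hx
  haveI : (Ideal.span {x}).Pure := h _
  obtain ⟨y, hy, hxy⟩ := Ideal.exists_eq_mul_of_pure (Ideal.mem_span_singleton_self x)
  obtain ⟨c, rfl⟩ := Ideal.mem_span_singleton'.mp hy
  rw [hxy, show x * (c * x) = c * x ^ 2 by ring, hx, mul_zero]

/-- A weakly étale algebra over a von Neumann regular ring is reduced. -/
theorem isReduced_of_weaklyEtale_of_vnr {K B : Type*} [CommRing K] [CommRing B] [Algebra K B]
    [Algebra.WeaklyEtale K B] (hK : ∀ a : K, ∃ b, a * b * a = a) : IsReduced B :=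
  isReduced_of_forall_flat fun I => flat_of_weaklyEtale_of_vnr hK (B ⧸ I)

/-- A reduced ring embeds in the product of the residue fields at its primes. -/
theorem injective_algebraMap_pi_residueField (A : Type*) [CommRing A] [IsReduced A] :
    Function.Injective
      (algebraMap A (∀ p : PrimeSpectrum A, p.asIdeal.ResidueField)) := by
  rw [injective_iff_map_eq_zero]
  intro a ha
  have hmem : ∀ p : PrimeSpectrum A, a ∈ p.asIdeal := fun p =>
    Ideal.algebraMap_residueField_eq_zero.mp (congrFun ha p)
  have : a ∈ nilradical A := by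
    rw [nilradical_eq_sInf, Ideal.mem_sInf]
    intro J hJ
    exact hmem ⟨J, hJ⟩
  exact (mem_nilradical.mp this).eq_zero

/-- **Stacks 092I**: a weakly étale algebra over a reduced ring is reduced. -/
theorem isReduced_of_weaklyEtale (A B : Type*) [CommRing A] [CommRing B] [Algebra A B]
    [IsReduced A] [Algebra.WeaklyEtale A B] : IsReduced B := by
  let K := ∀ p : PrimeSpectrum A, p.asIdeal.ResidueField
  have hK : ∀ a : K, ∃ b, a * b * a = a := vnr_pi_field _
  haveI : IsReduced (K ⊗[A] B) := isReduced_of_weaklyEtale_of_vnr hK
  have hinj : Function.Injective (Algebra.TensorProduct.includeRight : B →ₐ[A] K ⊗[A] B) :=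
    Algebra.TensorProduct.includeRight_injective (injective_algebraMap_pi_residueField A)
  exact isReduced_of_injective _ hinj

end Groth.Agent.Lib.AbsFlat
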