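import Mathlib
import Groth.Agent.S16572

namespace Groth.Agent.Lib.AbsIntClosed97

open Polynomial Groth.Agent.S16572

universe u

theorem adjoinRoot_of_injective {R : Type u} [CommRing R] (f : R[X]) (hf : f.Monic)
    (hd : 0 < f.natDegree) : Function.Injective (AdjoinRoot.of f) := by
  rw [injective_iff_map_eq_zero]
  intro a ha
  rw [AdjoinRoot.of, RingHom.comp_apply, AdjoinRoot.mk_eq_zero] at ha
  by_contra hne
  refine hf.not_dvd_of_natDegree_lt ?_ ?_ ha
  · rwa [Ne, C_eq_zero]
  · rw [natDegree_C]; exact hd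

theorem exists_roots_finset {A : Type u} [CommRing A] (s : Finset A[X])
    (hs : ∀ P ∈ s, P.Monic ∧ 0 < P.natDegree) :
    ∃ (T : Type u) (_ : CommRing T) (φ : A →+* T), Function.Injective φ ∧
      ∀ P ∈ s, ∃ t : T, P.eval₂ φ t = 0 := by
  classical
  induction s using Finset.induction_on with
  | empty => exact ⟨A, inferInstance, RingHom.id A, Function.injective_id, by simp⟩
  | insert P s hP ih =>
    obtain ⟨T, _, φ, hφ, hroots⟩ := ih (fun Q hQ => hs Q (Finset.mem_insert_of_mem hQ))
    obtain ⟨hPm, hPd⟩ := hs P (Finset.mem_insert_self P s)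
    have hm : (P.map φ).Monic := hPm.map φ
    have hnt : Nontrivial T := by
      by_contra hnt
      rw [not_nontrivial_iff_subsingleton] at hnt
      have : Subsingleton A := hφ.subsingleton
      have : P = 0 := Subsingleton.elim _ _
      rw [this, natDegree_zero] at hPd
      exact lt_irrefl _ hPd
    have hdeg : 0 < (P.map φ).natDegree := by rwa [hPm.natDegree_map]
    refine ⟨AdjoinRoot (P.map φ), inferInstance, (AdjoinRoot.of (P.map φ)).comp φ,
      (adjoinRoot_of_injective _ hm hdeg).comp hφ, ?_⟩
    intro Q hQ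
    rcases Finset.mem_insert.mp hQ with rfl | hQ
    · refine ⟨AdjoinRoot.root (Q.map φ), ?_⟩
      rw [← eval₂_map, AdjoinRoot.eval₂_root]
    · obtain ⟨t, ht⟩ := hroots Q hQ
      refine ⟨AdjoinRoot.of (P.map φ) t, ?_⟩
      rw [← hom_eval₂, ht, map_zero]

theorem algebraMap_TT_injective (A : Type u) [CommRing A] :
    Function.Injective (algebraMap A (TT A)) := by
  classical
  rw [injective_iff_map_eq_zero]
  intro a ha
  have h1 : (MvPolynomial.C a : MvPolynomial (Idx A) A) ∈ JJ A := by
    rw [← Ideal.Quotient.eq_zero_iff_mem]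
    exact ha
  obtain ⟨T, hT, hmem⟩ := Submodule.mem_span_finite_of_mem_span h1
  obtain ⟨s, -, rfl⟩ := (Finset.subset_set_image_iff (t := T)
    (f := fun P : Idx A => Polynomial.aeval (MvPolynomial.X (R := A) P) P.1)
    (s := Set.univ)).mp (by rwa [Set.image_univ])
  obtain ⟨R, _, φ, hφ, hroots⟩ := exists_roots_finset (s.image fun P : Idx A => P.1) (by
    intro Q hQ
    obtain ⟨P, _, rfl⟩ := Finset.mem_image.mp hQ
    exact P.2)
  have hr : ∀ P : Idx A, ∃ t : R, P ∈ s → P.1.eval₂ φ t = 0 := by
    intro P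
    by_cases hP : P ∈ s
    · obtain ⟨t, ht⟩ := hroots P.1 (Finset.mem_image_of_mem _ hP)
      exact ⟨t, fun _ => ht⟩
    · exact ⟨0, fun h => absurd h hP⟩
  choose ρ hρ using hr
  let θ : MvPolynomial (Idx A) A →+* R := MvPolynomial.eval₂Hom φ ρ
  have hle : Ideal.span ((s.image fun P : Idx A =>
      Polynomial.aeval (MvPolynomial.X (R := A) P) P.1 : Finset _) : Set (MvPolynomial (Idx A) A)) ≤
      RingHom.ker θ := by
    rw [Ideal.span_le]
    intro x hx
    obtain ⟨P, hP, rfl⟩ := Finset.mem_image.mp (Finset.mem_coe.mp hx)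
    rw [SetLike.mem_coe, RingHom.mem_ker, Polynomial.aeval_def, Polynomial.hom_eval₂]
    have e1 : θ.comp (algebraMap A (MvPolynomial (Idx A) A)) = φ := by
      ext x; simp [θ]
    have e2 : θ (MvPolynomial.X P) = ρ P := by simp [θ]
    rw [e1, e2]
    exact hρ P hP
  have h2 : θ (MvPolynomial.C a) = 0 := RingHom.mem_ker.mp (hle hmem)
  have h3 : θ (MvPolynomial.C a) = φ a := by simp [θ]
  rw [h3] at h2
  exact hφ (by rw [h2, map_zero])


open CategoryTheory CategoryTheory.Limits

/-- the tower `A → TT A → TT (TT A) → ...`. -/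
noncomputable def XX (A : Type u) [CommRing A] : ℕ → CommRingCat.{u} :=
  fun n => Nat.rec (CommRingCat.of A) (fun _ R => CommRingCat.of (TT R)) n

noncomputable def fseq (A : Type u) [CommRing A] (n : ℕ) : XX A n ⟶ XX A (n + 1) :=
  CommRingCat.ofHom (algebraMap (XX A n) (TT (XX A n)))

noncomputable def FF (A : Type u) [CommRing A] : ℕ ⥤ CommRingCat.{u} :=
  Functor.ofSequence (fseq A)

lemma FF_map_succ (A : Type u) [CommRing A] (n : ℕ) :
    (FF A).map (homOfLE (Nat.le_add_right n 1)) = fseq A n :=
  Functor.ofSequence_map_homOfLE_succ _ n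

lemma FF_map_succ_injective (A : Type u) [CommRing A] (j : ℕ) :
    Function.Injective ((FF A).map (homOfLE (Nat.le_add_right j 1))).hom := by
  have e2 : ((FF A).map (homOfLE (Nat.le_add_right j 1))).hom = (fseq A j).hom :=
    congrArg CommRingCat.Hom.hom (FF_map_succ A j)
  intro x y hxy
  rw [e2] at hxy
  exact algebraMap_TT_injective _ hxy

lemma FF_map_injective (A : Type u) [CommRing A] (i j : ℕ) (h : i ≤ j) :
    Function.Injective ((FF A).map (homOfLE h)).hom := by
  induction j, h using Nat.le_induction with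
  | base =>
    have : (homOfLE (le_refl i) : i ⟶ i) = 𝟙 i := Subsingleton.elim _ _
    rw [this, CategoryTheory.Functor.map_id]
    exact Function.injective_id
  | succ j hij ih =>
    have e : (FF A).map (homOfLE (hij.trans (Nat.le_add_right j 1))) =
        (FF A).map (homOfLE hij) ≫ (FF A).map (homOfLE (Nat.le_add_right j 1)) := by
      rw [← CategoryTheory.Functor.map_comp]
      congr 1
    rw [e, CommRingCat.hom_comp, RingHom.coe_comp]
    exact (FF_map_succ_injective A j).comp ih


instance (A : Type u) [CommRing A] : PreservesColimit (FF A) (forget CommRingCat.{u}) := by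
  have : PreservesFilteredColimitsOfSize.{0, 0} (forget CommRingCat.{u}) :=
    preservesSmallestFilteredColimits_of_preservesFilteredColimits _
  have : PreservesColimitsOfShape ℕ (forget CommRingCat.{u}) :=
    PreservesFilteredColimitsOfSize.preserves_filtered_colimits ℕ
  infer_instance

/-- the colimit ring. -/
noncomputable def BB (A : Type u) [CommRing A] : CommRingCat.{u} := colimit (FF A)

noncomputable def inc (A : Type u) [CommRing A] (n : ℕ) : XX A n →+* BB A :=
  (colimit.ι (FF A) n).hom

/-- transition maps of the tower. -/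
noncomputable def tr (A : Type u) [CommRing A] {i j : ℕ} (h : i ≤ j) : XX A i →+* XX A j :=
  ((FF A).map (homOfLE h)).hom

lemma inc_injective (A : Type u) [CommRing A] (n : ℕ) : Function.Injective (inc A n) := by
  intro x y hxy
  obtain ⟨k, f, g, hfg⟩ := Concrete.colimit_exists_of_rep_eq (FF A)
    (i := n) (j := n) x y hxy
  have h1 : g = f := Subsingleton.elim _ _
  subst h1
  have h2 : g = homOfLE (leOfHom g) := Subsingleton.elim _ _
  rw [h2] at hfg
  exact FF_map_injective A n k _ hfg

lemma inc_surj (A : Type u) [CommRing A] (b : BB A) : ∃ n, ∃ y : XX A n, inc A n y = b :=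
  Concrete.colimit_exists_rep (FF A) b

lemma inc_tr (A : Type u) [CommRing A] {i j : ℕ} (h : i ≤ j) (y : XX A i) :
    inc A j (tr A h y) = inc A i y := by
  have := colimit.w (FF A) (homOfLE h)
  have h2 := congrArg CommRingCat.Hom.hom this
  rw [CommRingCat.hom_comp] at h2
  exact congrArg (fun φ : (FF A).obj i →+* BB A => φ y) h2

lemma inc_succ (A : Type u) [CommRing A] (n : ℕ) (y : XX A n) :
    inc A (n + 1) (algebraMap (XX A n) (TT (XX A n)) y) = inc A n y := by
  rw [← inc_tr A (Nat.le_add_right n 1) y]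
  have e2 : ((FF A).map (homOfLE (Nat.le_add_right n 1))).hom = (fseq A n).hom :=
    congrArg CommRingCat.Hom.hom (FF_map_succ A n)
  have e3 : tr A (Nat.le_add_right n 1) y = algebraMap (XX A n) (TT (XX A n)) y :=
    congrArg (fun φ : (FF A).obj n →+* (FF A).obj (n + 1) => φ y) e2
  rw [e3]

lemma exists_common_level (A : Type u) [CommRing A] (c : ℕ → BB A) (s : Finset ℕ) :
    ∃ N, ∀ i ∈ s, ∃ y : XX A N, inc A N y = c i := by
  classical
  induction s using Finset.induction_on with
  | empty => exact ⟨0, by simp⟩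
  | insert i s hi ih =>
    obtain ⟨N, hN⟩ := ih
    obtain ⟨n, y, hy⟩ := inc_surj A (c i)
    refine ⟨max N n, ?_⟩
    intro j hj
    rcases Finset.mem_insert.mp hj with rfl | hj
    · exact ⟨tr A (le_max_right N n) y, by rw [inc_tr, hy]⟩
    · obtain ⟨z, hz⟩ := hN j hj
      exact ⟨tr A (le_max_left N n) z, by rw [inc_tr, hz]⟩

theorem exists_root (A : Type u) [CommRing A] (f : (BB A)[X]) (hf : f.Monic)
    (hd : 0 < f.natDegree) : ∃ b : BB A, f.eval b = 0 := by
  classical
  have hnt : Nontrivial (BB A) := by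
    by_contra hnt
    rw [not_nontrivial_iff_subsingleton] at hnt
    have : f = 0 := Subsingleton.elim _ _
    rw [this, natDegree_zero] at hd
    exact lt_irrefl _ hd
  obtain ⟨N, hN⟩ := exists_common_level A f.coeff (Finset.range f.natDegree)
  have hy : ∀ i : ℕ, ∃ y : XX A N, i ∈ Finset.range f.natDegree → inc A N y = f.coeff i := by
    intro i
    by_cases hi : i ∈ Finset.range f.natDegree
    · obtain ⟨y, hy⟩ := hN i hi
      exact ⟨y, fun _ => hy⟩
    · exact ⟨0, fun h => absurd h hi⟩
  choose y hy using hy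
  let r : (XX A N)[X] := ∑ i ∈ Finset.range f.natDegree, C (y i) * X ^ i
  have hr : r.degree < (f.natDegree : WithBot ℕ) := by
    refine (Polynomial.degree_sum_le _ _).trans_lt ?_
    rw [Finset.sup_lt_iff (WithBot.bot_lt_coe _)]
    intro i hi
    refine (Polynomial.degree_C_mul_X_pow_le i (y i)).trans_lt ?_
    exact_mod_cast Finset.mem_range.mp hi
  let g : (XX A N)[X] := X ^ f.natDegree + r
  have hgm : g.Monic := Polynomial.monic_X_pow_add hr
  have hgf : g.map (inc A N) = f := by
    conv_rhs => rw [hf.as_sum]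
    simp only [g, r, Polynomial.map_add, Polynomial.map_pow, Polynomial.map_X, Polynomial.map_sum,
      Polynomial.map_mul, Polynomial.map_C]
    congr 1
    refine Finset.sum_congr rfl fun i hi => ?_
    rw [hy i hi]
  have hgd : g.natDegree = f.natDegree := by
    rw [← hgm.natDegree_map (inc A N), hgf]
  let P : Idx (XX A N) := ⟨g, hgm, by rw [hgd]; exact hd⟩
  let ιs : TT (XX A N) →+* BB A := inc A (N + 1)
  let b : BB A := ιs (xx (XX A N) P)
  refine ⟨b, ?_⟩
  have h1 : inc A N = ιs.comp (algebraMap (XX A N) (TT (XX A N))) := by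
    ext z
    exact (inc_succ A N z).symm
  have h2 : Polynomial.eval₂ (algebraMap (XX A N) (TT (XX A N))) (xx (XX A N) P) g = 0 :=
    xx_root (XX A N) P
  have h3 : Polynomial.eval b f = Polynomial.eval₂ (inc A N) b g := by
    rw [← hgf, Polynomial.eval_map]
  rw [h3, h1]
  have h4 := Polynomial.hom_eval₂ g (algebraMap (XX A N) (TT (XX A N))) ιs (xx (XX A N) P)
  rw [h2, map_zero] at h4
  exact h4.symm


theorem splits_of_roots {B : Type u} [CommRing B]
    (h : ∀ f : B[X], f.Monic → 0 < f.natDegree → ∃ b, f.eval b = 0) :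
    ∀ f : B[X], f.Monic → ∃ s : Multiset B, f = (s.map fun b => X - C b).prod := by
  rcases subsingleton_or_nontrivial B with hB | hB
  · intro f _
    exact ⟨0, Subsingleton.elim _ _⟩
  have key : ∀ n : ℕ, ∀ f : B[X], f.Monic → f.natDegree = n →
      ∃ s : Multiset B, f = (s.map fun b => X - C b).prod := by
    intro n
    induction n with
    | zero =>
      intro f hf hn
      refine ⟨0, ?_⟩
      rw [Multiset.map_zero, Multiset.prod_zero]
      exact Polynomial.eq_one_of_monic_natDegree_zero hf hn
    | succ n ih =>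
      intro f hf hn
      obtain ⟨b, hb⟩ := h f hf (by rw [hn]; exact Nat.succ_pos n)
      have hmul : (X - C b) * (f /ₘ (X - C b)) = f := Polynomial.mul_divByMonic_eq_iff_isRoot.mpr hb
      have hq : (f /ₘ (X - C b)).Monic :=
        (monic_X_sub_C b).of_mul_monic_left (by rw [hmul]; exact hf)
      have hdeg : (f /ₘ (X - C b)).natDegree = n := by
        have := (monic_X_sub_C b).natDegree_mul hq
        rw [hmul, hn, natDegree_X_sub_C] at this
        omega
      obtain ⟨s, hs⟩ := ih _ hq hdeg
      refine ⟨b ::ₘ s, ?_⟩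
      rw [Multiset.map_cons, Multiset.prod_cons, ← hs, hmul]
  intro f hf
  exact key _ f hf rfl

theorem main (A : Type u) [CommRing A] :
    ∃ (B : Type u) (_ : CommRing B) (_ : Algebra A B), Function.Injective (algebraMap A B) ∧
      ∀ f : B[X], f.Monic → ∃ s : Multiset B, f = (s.map fun b => X - C b).prod := by
  let φ : A →+* BB A := inc A 0
  refine ⟨BB A, inferInstance, φ.toAlgebra, ?_, splits_of_roots (exists_root A)⟩
  exact inc_injective A 0

end Groth.Agent.Lib.AbsIntClosed97
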