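import Mathlib.RingTheory.TensorProduct.Basic
import Mathlib.FieldTheory.IsAlgClosed.AlgebraicClosure
import Mathlib.FieldTheory.IsAlgClosed.Spectrum
import Mathlib.Algebra.Module.FinitePresentation
import Mathlib.RingTheory.Flat.FaithfullyFlat.Algebra
import Mathlib.LinearAlgebra.Dual.Lemmas
import Mathlib.RingTheory.IntegralClosure.IsIntegral.Basic

/-!
# Absolutely irreducible modules have only scalar endomorphisms (helper18)
-/

set_option autoImplicit false
universe u v w u'
open scoped TensorProduct
open Polynomial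

namespace Groth.Agent.Lib.AbsIrr18

variable {K : Type u} [Field K] {D : Type v} [Ring D] [Algebra K D]
  {E : Type w} [AddCommGroup E] [Module K E] [Module D E] [IsScalarTower K D E]
  (L : Type u') [Field L] [Algebra K L]

/-- Base change of `D`-linear endomorphisms, as a ring homomorphism. -/
noncomputable def bc : Module.End D E →+* Module.End L (L ⊗[K] E) where
  toFun φ := (φ.restrictScalars K).baseChange L
  map_one' := by
    ext x
    simp
  map_mul' f g := by
    ext x
    simp
  map_zero' := by
    ext x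
    simp
  map_add' f g := by
    ext x
    simp

@[simp] theorem bc_apply_tmul (φ : Module.End D E) (a : L) (x : E) :
    bc L φ (a ⊗ₜ[K] x) = a ⊗ₜ[K] φ x := rfl

theorem bc_comp_algebraMap :
    (bc (K := K) (D := D) (E := E) L).comp (algebraMap K (Module.End D E)) =
      (algebraMap L (Module.End L (L ⊗[K] E))).comp (algebraMap K L) := by
  ext c x
  simp [TensorProduct.smul_tmul', Algebra.smul_def]

/-- The action of `d` commutes with the base change of a `D`-linear endomorphism. -/
theorem bc_comm (φ : Module.End D E) (d : D) (x : L ⊗[K] E) :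
    bc L φ ((DistribSMul.toLinearMap K E d).baseChange L x) =
      (DistribSMul.toLinearMap K E d).baseChange L (bc L φ x) := by
  induction x using TensorProduct.induction_on with
  | zero => simp
  | tmul a e => simp
  | add x y hx hy => simp only [map_add, hx, hy]


/-- `ψ = k` on an irreducible module as soon as `k - ψ` is not invertible, for `ψ` commuting
with `D`. -/
theorem eq_smul_of_not_isUnit
    (hirr : ∀ N : Submodule L (L ⊗[K] E), (∀ (d : D) (x : L ⊗[K] E), x ∈ N →
      (DistribSMul.toLinearMap K E d).baseChange L x ∈ N) → N = ⊥ ∨ N = ⊤)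
    (χ : Module.End L (L ⊗[K] E))
    (hχ : ∀ (d : D) (x : L ⊗[K] E), χ ((DistribSMul.toLinearMap K E d).baseChange L x) =
      (DistribSMul.toLinearMap K E d).baseChange L (χ x))
    (hnu : ¬ IsUnit χ) : χ = 0 := by
  have hker := hirr (LinearMap.ker χ) (by
    intro d x hx
    rw [LinearMap.mem_ker] at hx ⊢
    rw [hχ, hx, map_zero])
  have hrange := hirr (LinearMap.range χ) (by
    rintro d _ ⟨y, rfl⟩
    exact ⟨(DistribSMul.toLinearMap K E d).baseChange L y, hχ d y⟩)
  rcases hker with hker | hker
  · rcases hrange with hrange | hrange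
    · exact LinearMap.range_eq_bot.1 hrange
    · exfalso
      apply hnu
      rw [Module.End.isUnit_iff]
      exact ⟨LinearMap.ker_eq_bot.1 hker, LinearMap.range_eq_top.1 hrange⟩
  · exact LinearMap.ker_eq_top.1 hker

theorem exists_smul_eq_of_irreducible [IsAlgClosed L]
    (hirr : Nontrivial (L ⊗[K] E) ∧ ∀ N : Submodule L (L ⊗[K] E),
      (∀ (d : D) (x : L ⊗[K] E), x ∈ N →
        (DistribSMul.toLinearMap K E d).baseChange L x ∈ N) → N = ⊥ ∨ N = ⊤)
    (φ : Module.End D E) (hφ : IsIntegral K φ) : ∃ c : K, ∀ x : E, φ x = c • x := by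
  obtain ⟨hnt, hirr⟩ := hirr
  obtain ⟨q, hq_monic, hq⟩ := hφ
  set ψ : Module.End L (L ⊗[K] E) := bc L φ with hψ
  have hp : aeval ψ (q.map (algebraMap K L)) = 0 := by
    rw [aeval_def, eval₂_map, ← bc_comp_algebraMap (K := K) (D := D) (E := E) L, hψ, ← hom_eval₂, hq,
      map_zero]
  have nu : ¬ IsUnit (aeval ψ (q.map (algebraMap K L))) := by
    rw [hp, Module.End.isUnit_iff]
    intro h
    obtain ⟨a, b, hab⟩ := hnt
    exact hab (h.1 rfl)
  rw [(IsAlgClosed.splits (q.map (algebraMap K L))).eq_prod_roots_of_monic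
    (hq_monic.map _)] at nu
  obtain ⟨k, hk, -⟩ := spectrum.exists_mem_of_not_isUnit_aeval_prod (R := L)
    (A := Module.End L (L ⊗[K] E)) (a := ψ) nu
  have hχ0 := eq_smul_of_not_isUnit L hirr (algebraMap L _ k - ψ) (by
    intro d x
    simp only [LinearMap.sub_apply, Module.algebraMap_end_apply, map_sub, map_smul]
    rw [hψ, bc_comm]) hk
  have hψk : ∀ y, ψ y = k • y := by
    intro y
    have := LinearMap.congr_fun hχ0 y
    simp only [LinearMap.sub_apply, Module.algebraMap_end_apply, LinearMap.zero_apply,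
      sub_eq_zero] at this
    exact this.symm
  -- descend the eigenvalue
  have hE : Nontrivial E := by
    by_contra h
    rw [not_nontrivial_iff_subsingleton] at h
    have : Subsingleton (L ⊗[K] E) := inferInstance
    exact not_subsingleton _ this
  obtain ⟨e, he⟩ := exists_ne (0 : E)
  obtain ⟨ℓ, hℓ⟩ : ∃ ℓ : Module.Dual K E, ℓ e ≠ 0 := by
    by_contra h
    push Not at h
    exact he ((Module.forall_dual_apply_eq_zero_iff K e).1 h)
  have h1 := hψk ((1 : L) ⊗ₜ[K] e)
  rw [hψ, bc_apply_tmul, TensorProduct.smul_tmul', smul_eq_mul, mul_one] at h1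
  have h2 := congrArg (fun z => TensorProduct.rid K L (ℓ.baseChange L z)) h1
  simp only [LinearMap.baseChange_tmul, TensorProduct.rid_tmul] at h2
  refine ⟨(ℓ e)⁻¹ * ℓ (φ e), fun x => ?_⟩
  have hk' : k = algebraMap K L ((ℓ e)⁻¹ * ℓ (φ e)) := by
    rw [map_mul, map_inv₀, Algebra.algebraMap_eq_smul_one (ℓ (φ e)), h2, Algebra.smul_def,
      ← mul_assoc, inv_mul_cancel₀, one_mul]
    exact (_root_.map_ne_zero _).2 hℓ
  have h3 := hψk ((1 : L) ⊗ₜ[K] x)
  rw [hψ, bc_apply_tmul, TensorProduct.smul_tmul', smul_eq_mul, mul_one, hk',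
    Algebra.algebraMap_eq_smul_one, TensorProduct.smul_tmul] at h3
  exact Module.Flat.tensorProduct_mk_injective K E L h3

end Groth.Agent.Lib.AbsIrr18
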