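import Mathlib.RingTheory.TensorProduct.Basic
import Mathlib.FieldTheory.IsAlgClosed.AlgebraicClosure
import Mathlib.FieldTheory.IntermediateField.Adjoin.Basic
import Mathlib.LinearAlgebra.TensorProduct.Finiteness
import Mathlib.LinearAlgebra.Basis.VectorSpace
import Mathlib.RingTheory.Flat.Basic
import Mathlib.RingTheory.Flat.FaithfullyFlat.Algebra

/-!
# Irreducibility of base changes along field extensions (helper18)
-/

set_option autoImplicit false
universe u v w u' u''
open scoped TensorProduct

namespace Groth.Agent.Lib.AbsIrrDescent18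

variable {K : Type u} [Field K] {D : Type v} [Ring D] [Algebra K D]
  {E : Type w} [AddCommGroup E] [Module K E] [Module D E] [IsScalarTower K D E]

variable (K D E) in
/-- `L ⊗ E` is irreducible as a module over `L ⊗ D`. -/
def Irr (L : Type u') [Field L] [Algebra K L] : Prop :=
  Nontrivial (L ⊗[K] E) ∧ ∀ N : Submodule L (L ⊗[K] E),
    (∀ (d : D) (x : L ⊗[K] E), x ∈ N →
      (DistribSMul.toLinearMap K E d).baseChange L x ∈ N) → N = ⊥ ∨ N = ⊤

section Tower

variable (L : Type u') [Field L] [Algebra K L] (M : Type u'') [Field M] [Algebra K M]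
  [Algebra L M] [IsScalarTower K L M]

variable (E) in
/-- The inclusion `L ⊗ E → M ⊗ E`. -/
noncomputable def jj : L ⊗[K] E →ₗ[L] M ⊗[K] E :=
  TensorProduct.AlgebraTensorModule.map (Algebra.linearMap L M) LinearMap.id

@[simp] theorem jj_tmul (l : L) (e : E) : jj E L M (l ⊗ₜ[K] e) = algebraMap L M l ⊗ₜ[K] e := rfl

theorem jj_act (d : D) (y : L ⊗[K] E) :
    jj E L M ((DistribSMul.toLinearMap K E d).baseChange L y) =
      (DistribSMul.toLinearMap K E d).baseChange M (jj E L M y) := by
  induction y using TensorProduct.induction_on with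
  | zero => simp
  | tmul l e => simp
  | add x y hx hy => simp only [map_add, hx, hy]

theorem jj_injective : Function.Injective (jj (K := K) E L M) := by
  have h : Function.Injective ((Algebra.linearMap L M).restrictScalars K) :=
    (algebraMap L M).injective
  have := Module.Flat.rTensor_preserves_injective_linearMap (M := E) _ h
  intro x y hxy
  apply this
  have hj : ∀ z, ((Algebra.linearMap L M).restrictScalars K).rTensor E z = jj E L M z := by
    intro z
    induction z using TensorProduct.induction_on with
    | zero => simp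
    | tmul l e => simp
    | add x y hx hy => simp only [map_add, hx, hy]
  rw [hj, hj, hxy]

theorem nontrivial_of_nontrivial (h : Nontrivial (L ⊗[K] E)) : Nontrivial E := by
  by_contra hE
  rw [not_nontrivial_iff_subsingleton] at hE
  have : Subsingleton (L ⊗[K] E) := inferInstance
  exact not_subsingleton _ this

theorem nontrivial_tensor [Nontrivial E] : Nontrivial (L ⊗[K] E) := by
  obtain ⟨e, he⟩ := exists_ne (0 : E)
  refine ⟨(1 : L) ⊗ₜ[K] e, 0, fun h => he ?_⟩
  apply Module.Flat.tensorProduct_mk_injective K E L
  rw [map_zero]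
  exact h

/-- Irreducibility descends along field extensions. -/
theorem irr_of_irr (h : Irr K D E M) : Irr K D E L := by
  classical
  obtain ⟨hnt, hirr⟩ := h
  have hE : Nontrivial E := nontrivial_of_nontrivial M hnt
  refine ⟨nontrivial_tensor L, fun N hN => ?_⟩
  let N' : Submodule M (M ⊗[K] E) := Submodule.span M (jj E L M '' N)
  have hN' : ∀ (d : D) (x : M ⊗[K] E), x ∈ N' →
      (DistribSMul.toLinearMap K E d).baseChange M x ∈ N' := by
    intro d x hx
    induction hx using Submodule.span_induction with
    | mem y hy =>
      obtain ⟨n, hn, rfl⟩ := hy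
      rw [← jj_act]
      exact Submodule.subset_span ⟨_, hN d n hn, rfl⟩
    | zero => simp
    | add x y _ _ hx hy => rw [map_add]; exact Submodule.add_mem _ hx hy
    | smul a x _ hx => rw [map_smul]; exact Submodule.smul_mem _ a hx
  rcases hirr N' hN' with h0 | h1
  · left
    rw [eq_bot_iff]
    intro n hn
    have h1 : jj E L M n ∈ N' := Submodule.subset_span ⟨n, hn, rfl⟩
    rw [h0, Submodule.mem_bot] at h1
    rw [Submodule.mem_bot]
    apply jj_injective L M
    rw [h1, map_zero]
  · right
    rw [eq_top_iff]
    intro x _
    obtain ⟨ρ, hρ⟩ := LinearMap.exists_leftInverse_of_injective (Algebra.linearMap L M)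
      (LinearMap.ker_eq_bot.2 (algebraMap L M).injective)
    have hρ' : ∀ l : L, ρ (algebraMap L M l) = l := fun l => LinearMap.congr_fun hρ l
    let r : M ⊗[K] E →ₗ[L] L ⊗[K] E := TensorProduct.AlgebraTensorModule.map ρ LinearMap.id
    have hr : ∀ (a : M) (y : L ⊗[K] E), r (a • jj E L M y) = ρ a • y := by
      intro a y
      induction y using TensorProduct.induction_on with
      | zero => simp
      | tmul l e =>
        rw [jj_tmul, TensorProduct.smul_tmul', TensorProduct.smul_tmul']
        show ρ (a • algebraMap L M l) ⊗ₜ[K] e = _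
        rw [smul_eq_mul, smul_eq_mul, mul_comm a, ← Algebra.smul_def, map_smul, smul_eq_mul,
          mul_comm]
      | add x y hx hy => simp only [map_add, smul_add, hx, hy]
    have key : ∀ y ∈ N', ∀ a : M, r (a • y) ∈ N := by
      intro y hy
      induction hy using Submodule.span_induction with
      | mem y hy =>
        obtain ⟨n, hn, rfl⟩ := hy
        intro a
        rw [hr]
        exact N.smul_mem _ hn
      | zero => intro a; simp
      | add x y _ _ hx hy => intro a; rw [smul_add, map_add]; exact N.add_mem (hx a) (hy a)
      | smul b x _ hx => intro a; rw [smul_smul]; exact hx _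
    have hx : jj E L M x ∈ N' := by rw [h1]; exact Submodule.mem_top
    have := key _ hx 1
    rwa [hr, ← (algebraMap L M).map_one, hρ', one_smul] at this

end Tower

section Ascent

variable (M : Type u') [Field M] [Algebra K M] [Algebra.IsAlgebraic K M]

/-- Irreducibility over an algebraic extension follows from irreducibility over all finite
subextensions. -/
theorem irr_of_forall_finite
    (h : ∀ L : IntermediateField K M, FiniteDimensional K L → Irr K D E L) : Irr K D E M := by
  classical
  have hbot : Irr K D E (⊥ : IntermediateField K M) := h ⊥ inferInstance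
  have hE : Nontrivial E := nontrivial_of_nontrivial _ hbot.1
  refine ⟨nontrivial_tensor M, fun N hN => ?_⟩
  by_cases hNbot : N = ⊥
  · exact Or.inl hNbot
  right
  obtain ⟨x, hxN, hx0⟩ := (Submodule.ne_bot_iff N).1 hNbot
  obtain ⟨S, hS⟩ := TensorProduct.exists_finset x
  let T : Set M := ((S.image Prod.fst : Finset M) : Set M)
  have hTfin : Finite T := Finset.finite_toSet _ |>.to_subtype
  let L : IntermediateField K M := IntermediateField.adjoin K T
  have hLfin : FiniteDimensional K L :=
    IntermediateField.finiteDimensional_adjoin fun a _ => (Algebra.IsIntegral.isIntegral a)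
  have hmem : ∀ i ∈ S, i.1 ∈ L := fun i hi =>
    IntermediateField.subset_adjoin K T (Finset.mem_coe.2 (Finset.mem_image_of_mem _ hi))
  let x' : L ⊗[K] E := ∑ i ∈ S.attach, (⟨i.1.1, hmem i.1 i.2⟩ : L) ⊗ₜ[K] i.1.2
  have hx' : jj E L M x' = x := by
    rw [hS, map_sum, ← Finset.sum_attach S]
    rfl
  let NL : Submodule L (L ⊗[K] E) := (N.restrictScalars L).comap (jj E L M)
  have hNL : ∀ (d : D) (y : L ⊗[K] E), y ∈ NL →
      (DistribSMul.toLinearMap K E d).baseChange L y ∈ NL := by
    intro d y hy
    show jj E L M _ ∈ N
    rw [jj_act]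
    exact hN d _ hy
  rcases (h L hLfin).2 NL hNL with h0 | h1
  · exfalso
    have : x' ∈ NL := by
      show jj E L M x' ∈ N
      rw [hx']; exact hxN
    rw [h0, Submodule.mem_bot] at this
    rw [this, map_zero] at hx'
    exact hx0 hx'.symm
  · rw [eq_top_iff]
    intro y _
    clear * - h1 N
    induction y using TensorProduct.induction_on with
    | zero => exact N.zero_mem
    | tmul a e =>
      have h2 : (1 : L) ⊗ₜ[K] e ∈ NL := by rw [h1]; exact Submodule.mem_top
      have h3 : jj E L M ((1 : L) ⊗ₜ[K] e) ∈ N := h2
      rw [jj_tmul, map_one] at h3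
      have := N.smul_mem a h3
      rwa [TensorProduct.smul_tmul', smul_eq_mul, mul_one] at this
    | add y z hy hz => exact N.add_mem hy hz

end Ascent

end Groth.Agent.Lib.AbsIrrDescent18
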