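import Groth.Agent.Lib.AbsRepH52

/-!
# Abstract local representability: local structure of the representing object (helper52)

In the situation of `AbsRepH52.exists_universal`, any representing pair `(V, ε)` is, over the
member `B₀ a` of the cover of `B`, isomorphic to `U a` (`locusIso`); hence any property `P` of
morphisms which is Zariski local at the source and holds for all `q (ζ a) : U a ⟶ B` holds for
`q ε : V ⟶ B` (`prop_of_universal`).
-/

set_option autoImplicit false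
set_option linter.style.haveILetI false

universe u

open CategoryTheory CategoryTheory.Limits AlgebraicGeometry Opposite

namespace Groth.Agent.Lib.AbsRepH52

variable (F : Scheme.{u}ᵒᵖ ⥤ Type u) {B : Scheme.{u}}
  (q : ∀ ⦃T : Scheme.{u}⦄, F.obj (op T) → (T ⟶ B))
  (hq : ∀ ⦃T T' : Scheme.{u}⦄ (g : T' ⟶ T) (ξ : F.obj (op T)), q (F.map g.op ξ) = g ≫ q ξ)
  {A : Type u} {B₀ : A → Scheme.{u}} (j : ∀ a, B₀ a ⟶ B) [hj : ∀ a, IsOpenImmersion (j a)]
  {U : A → Scheme.{u}} (ζ : ∀ a, F.obj (op (U a)))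
  (hζ : ∀ a, Set.range (q (ζ a)) ⊆ Set.range (j a))
  (huniv : ∀ a ⦃T : Scheme.{u}⦄ (ξ : F.obj (op T)), Set.range (q ξ) ⊆ Set.range (j a) →
    ∃! g : T ⟶ U a, F.map g.op (ζ a) = ξ)

include hq hζ huniv in
/-- Over `B₀ a`, a representing object is isomorphic to `U a`. -/
theorem exists_locusIso {V : Scheme.{u}} (ε : F.obj (op V))
    (hε : ∀ ⦃T : Scheme.{u}⦄ (ξ : F.obj (op T)), ∃! g : T ⟶ V, F.map g.op ε = ξ) (a : A) :
    ∃ g₀ : (locus F q j ε a).toScheme ≅ U a,
      g₀.hom ≫ q (ζ a) = (locus F q j ε a).ι ≫ q ε := by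
  obtain ⟨g₀, hg₀⟩ := exists_locusMap F q hq j ζ huniv ε a
  obtain ⟨m, hm, -⟩ := hε (ζ a)
  have hmr : Set.range m ⊆ Set.range (locus F q j ε a).ι := by
    rw [Scheme.Opens.range_ι]
    rintro _ ⟨w, rfl⟩
    have h1 : q (ζ a) = m ≫ q ε := by rw [← hm, hq]
    have h2 := hζ a ⟨w, rfl⟩
    rw [h1, Scheme.Hom.comp_apply] at h2
    exact h2
  let k : U a ⟶ (locus F q j ε a).toScheme := IsOpenImmersion.lift (locus F q j ε a).ι m hmr
  have hk : k ≫ (locus F q j ε a).ι = m := IsOpenImmersion.lift_fac _ _ _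
  have hFk : F.map k.op (F.map (locus F q j ε a).ι.op ε) = ζ a := by
    change (F.map (locus F q j ε a).ι.op ≫ F.map k.op) ε = _
    rw [← F.map_comp, ← op_comp, hk, hm]
  have h1 : k ≫ g₀ = 𝟙 _ := by
    apply (huniv a (ζ a) (hζ a)).unique
    · rw [op_comp, F.map_comp]
      change F.map k.op (F.map g₀.op (ζ a)) = _
      rw [hg₀, hFk]
    · simp
  have h2 : g₀ ≫ k = 𝟙 _ := by
    rw [← cancel_mono (locus F q j ε a).ι, Category.assoc, hk, Category.id_comp]
    apply (hε (F.map (locus F q j ε a).ι.op ε)).unique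
    · rw [op_comp, F.map_comp]
      change F.map g₀.op (F.map m.op ε) = _
      rw [hm, hg₀]
    · rfl
  refine ⟨⟨g₀, k, h2, h1⟩, ?_⟩
  change g₀ ≫ q (ζ a) = _
  rw [← hq, ← hq, hg₀]

include hq hζ huniv in
/-- A property local at the source holds for the structure morphism of a representing object if it
holds for the local models. -/
theorem prop_of_universal (P : MorphismProperty Scheme.{u}) [IsZariskiLocalAtSource P]
    (hcov : ∀ b : B, ∃ a, b ∈ Set.range (j a)) (hP : ∀ a, P (q (ζ a)))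
    {V : Scheme.{u}} (ε : F.obj (op V))
    (hε : ∀ ⦃T : Scheme.{u}⦄ (ξ : F.obj (op T)), ∃! g : T ⟶ V, F.map g.op ε = ξ) : P (q ε) := by
  have hcovV : ⨆ a, locus F q j ε a = ⊤ := by
    rw [eq_top_iff]
    intro x _
    obtain ⟨a, ha⟩ := hcov (q ε x)
    exact TopologicalSpace.Opens.mem_iSup.2 ⟨a, ha⟩
  rw [IsZariskiLocalAtSource.iff_of_iSup_eq_top (P := P) _ hcovV]
  intro a
  obtain ⟨g₀, hg₀⟩ := exists_locusIso F q hq j ζ hζ huniv ε hε a
  rw [← hg₀]
  exact (P.cancel_left_of_respectsIso g₀.hom _).2 (hP a)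

end Groth.Agent.Lib.AbsRepH52
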