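import Groth.Agent.Lib.EffDescGlueH52
import Groth.Agent.S1131

/-!
# Representability descends along fpqc morphisms (helper52)

`F : Schemeᵒᵖ ⥤ Type u` with a natural map `q : F ⟶ h_B`, `p : B₁ ⟶ B` fpqc.  Suppose
* `F` satisfies gluing along fpqc morphisms (`hglue`),
* the restriction of `F` over `B₁` is represented by `u₁ : U₁ ⟶ B₁`, `ζ ∈ F(U₁)` (`huniv`).
Then `U₁` carries a canonical descent datum `dd` relative to `p`, and if this descent datum is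
effective, `toDD p U ≅ dd`, then `U` represents `F` (`exists_universal_of_iso`).
-/

set_option autoImplicit false
set_option linter.style.haveILetI false
set_option backward.isDefEq.respectTransparency false
set_option backward.isDefEq.respectTransparency.types false

universe u

open CategoryTheory CategoryTheory.Limits AlgebraicGeometry Opposite

namespace Groth.Agent.Lib.AbsRepFpqcH52

open Desc

variable (F : Scheme.{u}ᵒᵖ ⥤ Type u) {B : Scheme.{u}}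
  (q : ∀ ⦃T : Scheme.{u}⦄, F.obj (op T) → (T ⟶ B))
  (hq : ∀ ⦃T T' : Scheme.{u}⦄ (g : T' ⟶ T) (ξ : F.obj (op T)), q (F.map g.op ξ) = g ≫ q ξ)
  {B₁ : Scheme.{u}} (p : B₁ ⟶ B)
  {U₁ : Scheme.{u}} (u₁ : U₁ ⟶ B₁) (ζ : F.obj (op U₁)) (hζ : q ζ = u₁ ≫ p)
  (huniv : ∀ ⦃T : Scheme.{u}⦄ (t₁ : T ⟶ B₁) (ξ : F.obj (op T)), q ξ = t₁ ≫ p →
    ∃! g : T ⟶ U₁, g ≫ u₁ = t₁ ∧ F.map g.op ζ = ξ)

theorem map_comp_apply {T T' T'' : Scheme.{u}} (g : T' ⟶ T) (g' : T'' ⟶ T') (ξ : F.obj (op T)) :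
    F.map (g' ≫ g).op ξ = F.map g'.op (F.map g.op ξ) := by
  rw [op_comp, F.map_comp]; rfl

include hq hζ in
theorem q_map_lift {T : Scheme.{u}} (x : T ⟶ B₁) (v : Lifts (Over.mk u₁) x) :
    q (F.map v.1.op ζ) = x ≫ p := by
  have e : v.1 ≫ u₁ = x := v.2
  rw [hq, hζ, ← Category.assoc, e]

/-- Points of `U₁` over `x` are the elements of `F` over `x ≫ p`. -/
noncomputable def Θ {T : Scheme.{u}} (x : T ⟶ B₁) :
    Lifts (Over.mk u₁) x ≃ {ξ : F.obj (op T) // q ξ = x ≫ p} where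
  toFun v := ⟨F.map v.1.op ζ, q_map_lift F q hq p u₁ ζ hζ x v⟩
  invFun ξ := ⟨(huniv x ξ.1 ξ.2).choose, (huniv x ξ.1 ξ.2).choose_spec.1.1⟩
  left_inv v := by
    apply Subtype.ext
    exact ((huniv x _ (q_map_lift F q hq p u₁ ζ hζ x v)).choose_spec.2 v.1 ⟨v.2, rfl⟩).symm
  right_inv ξ := Subtype.ext (huniv x ξ.1 ξ.2).choose_spec.1.2

/-- The gluing bijections of the canonical descent datum on `U₁`. -/
noncomputable def φ {T : Scheme.{u}} (x₀ x₁ : T ⟶ B₁) (h : x₀ ≫ p = x₁ ≫ p) :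
    Lifts (Over.mk u₁) x₀ ≃ Lifts (Over.mk u₁) x₁ :=
  (Θ F q hq p u₁ ζ hζ huniv x₀).trans
    ((Equiv.subtypeEquivRight (fun ξ => by rw [h])).trans (Θ F q hq p u₁ ζ hζ huniv x₁).symm)

theorem φ_map {T : Scheme.{u}} (x₀ x₁ : T ⟶ B₁) (h : x₀ ≫ p = x₁ ≫ p)
    (v : Lifts (Over.mk u₁) x₀) :
    F.map (φ F q hq p u₁ ζ hζ huniv x₀ x₁ h v).1.op ζ = F.map v.1.op ζ := by
  have := congrArg Subtype.val
    ((Θ F q hq p u₁ ζ hζ huniv x₁).apply_symm_apply
      ((Equiv.subtypeEquivRight (fun ξ => by rw [h]))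
        ((Θ F q hq p u₁ ζ hζ huniv x₀) v)))
  exact this

theorem φ_eq {T : Scheme.{u}} (x₀ x₁ : T ⟶ B₁) (h : x₀ ≫ p = x₁ ≫ p)
    (v : Lifts (Over.mk u₁) x₀) (w : T ⟶ U₁) (hw : w ≫ u₁ = x₁)
    (hF : F.map w.op ζ = F.map v.1.op ζ) : (φ F q hq p u₁ ζ hζ huniv x₀ x₁ h v).1 = w := by
  have hx : q (F.map v.1.op ζ) = x₁ ≫ p := by
    rw [q_map_lift F q hq p u₁ ζ hζ x₀ v, h]
  exact (huniv x₁ _ hx).unique
    ⟨(φ F q hq p u₁ ζ hζ huniv x₀ x₁ h v).2, φ_map F q hq p u₁ ζ hζ huniv x₀ x₁ h v⟩ ⟨hw, hF⟩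

/-- The canonical descent datum on `U₁` relative to `p`. -/
noncomputable def dd : SchDD p where
  obj := Over.mk u₁
  φ := fun _ x₀ x₁ h => φ F q hq p u₁ ζ hζ huniv x₀ x₁ h
  φ_natural := fun T T' g x₀ x₁ h h' v v' hv' => by
    apply φ_eq
    · rw [Category.assoc]
      have := (φ F q hq p u₁ ζ hζ huniv x₀ x₁ h v).2
      exact congrArg (fun z => g ≫ z) this
    · calc F.map (g ≫ (φ F q hq p u₁ ζ hζ huniv x₀ x₁ h v).1).op ζ
          = F.map g.op (F.map (φ F q hq p u₁ ζ hζ huniv x₀ x₁ h v).1.op ζ) :=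
            map_comp_apply F _ _ _
        _ = F.map g.op (F.map v.1.op ζ) :=
            congrArg (F.map g.op) (φ_map F q hq p u₁ ζ hζ huniv x₀ x₁ h v)
        _ = F.map (g ≫ v.1).op ζ := (map_comp_apply F _ _ _).symm
        _ = F.map v'.1.op ζ := by rw [hv']
  φ_self := fun T x v => Subtype.ext (φ_eq F q hq p u₁ ζ hζ huniv x x rfl v v.1 v.2 rfl)
  φ_comp := fun T x₀ x₁ x₂ h₀₁ h₁₂ v => by
    apply Subtype.ext
    apply φ_eq
    · exact (φ F q hq p u₁ ζ hζ huniv x₀ x₂ (h₀₁.trans h₁₂) v).2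
    · exact (φ_map F q hq p u₁ ζ hζ huniv x₀ x₂ (h₀₁.trans h₁₂) v).trans
        (φ_map F q hq p u₁ ζ hζ huniv x₀ x₁ h₀₁ v).symm

theorem dd_φ_eq {T : Scheme.{u}} (x₀ x₁ : T ⟶ B₁) (h : x₀ ≫ p = x₁ ≫ p)
    (v : Lifts (dd F q hq p u₁ ζ hζ huniv).obj x₀) (w : T ⟶ U₁) (hw : w ≫ u₁ = x₁)
    (hF : F.map w.op ζ = F.map v.1.op ζ) : ((dd F q hq p u₁ ζ hζ huniv).φ x₀ x₁ h v).1 = w :=
  φ_eq F q hq p u₁ ζ hζ huniv x₀ x₁ h v w hw hF

theorem dd_φ_map {T : Scheme.{u}} (x₀ x₁ : T ⟶ B₁) (h : x₀ ≫ p = x₁ ≫ p)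
    (v : Lifts (dd F q hq p u₁ ζ hζ huniv).obj x₀) :
    F.map ((dd F q hq p u₁ ζ hζ huniv).φ x₀ x₁ h v).1.op ζ = F.map v.1.op ζ :=
  φ_map F q hq p u₁ ζ hζ huniv x₀ x₁ h v


section Main

variable [Flat p] [Surjective p] [QuasiCompact p]
  (hglue : ∀ ⦃T₁ T : Scheme.{u}⦄ (π : T₁ ⟶ T) [Flat π] [Surjective π] [QuasiCompact π]
    (ξ₁ : F.obj (op T₁)), F.map (pullback.fst π π).op ξ₁ = F.map (pullback.snd π π).op ξ₁ →
      ∃! ξ : F.obj (op T), F.map π.op ξ = ξ₁)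

include hglue in
/-- **Representability descends along fpqc morphisms**, given effectivity of the canonical descent
datum on the local solution. -/
theorem exists_universal_of_iso (U : Over B)
    (e : (toDD p).obj U ≅ dd F q hq p u₁ ζ hζ huniv) :
    ∃ ε : F.obj (op U.left), q ε = U.hom ∧
      ∀ ⦃T : Scheme.{u}⦄ (ξ : F.obj (op T)), ∃! g : T ⟶ U.left, F.map g.op ε = ξ := by
  obtain ⟨θ, hθdef⟩ : ∃ θ : pullback p U.hom ⟶ U₁, θ = e.hom.hom.left := ⟨_, rfl⟩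
  have hθ : θ ≫ u₁ = pullback.fst p U.hom := by rw [hθdef]; exact Over.w e.hom.hom
  haveI : IsIso θ := by
    rw [hθdef]; exact Groth.Agent.Lib.EffDescH52.isIso_left_of_isIso e.hom
  obtain ⟨π, hπdef⟩ : ∃ π : pullback p U.hom ⟶ U.left, π = pullback.snd p U.hom := ⟨_, rfl⟩
  haveI : Flat π := by rw [hπdef]; infer_instance
  haveI : Surjective π := by rw [hπdef]; infer_instance
  haveI : QuasiCompact π := by rw [hπdef]; infer_instance
  have hπw : π ≫ U.hom = pullback.fst p U.hom ≫ p := by rw [hπdef, pullback.condition]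
  -- the section over the cover
  obtain ⟨ξ₁, hξ₁⟩ : ∃ ξ₁ : F.obj (op (pullback p U.hom)), ξ₁ = F.map θ.op ζ := ⟨_, rfl⟩
  have hcoc : F.map (pullback.fst π π).op ξ₁ = F.map (pullback.snd π π).op ξ₁ := by
    obtain ⟨a, ha⟩ : ∃ a : pullback π π ⟶ pullback p U.hom, a = pullback.fst π π := ⟨_, rfl⟩
    obtain ⟨b, hb⟩ : ∃ b : pullback π π ⟶ pullback p U.hom, b = pullback.snd π π := ⟨_, rfl⟩
    have hab : a ≫ π = b ≫ π := by rw [ha, hb, pullback.condition]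
    rw [← ha, ← hb, hξ₁, ← map_comp_apply, ← map_comp_apply]
    have hx : (a ≫ pullback.fst p U.hom) ≫ p = (b ≫ pullback.fst p U.hom) ≫ p := by
      rw [Category.assoc, Category.assoc, ← hπw, ← Category.assoc, hab, Category.assoc]
    let v : Lifts ((toDD p).obj U).obj (a ≫ pullback.fst p U.hom) := ⟨a, rfl⟩
    let w : Lifts (dd F q hq p u₁ ζ hζ huniv).obj (a ≫ pullback.fst p U.hom) :=
      ⟨a ≫ θ, by
        change (a ≫ θ) ≫ u₁ = _
        rw [Category.assoc, hθ]⟩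
    have hc := e.hom.comm (a ≫ pullback.fst p U.hom) (b ≫ pullback.fst p U.hom) hx v w
      (by change a ≫ θ = a ≫ e.hom.hom.left; rw [hθdef])
    have hcan : (canMap p U (a ≫ pullback.fst p U.hom) (b ≫ pullback.fst p U.hom) hx v).1 = b := by
      rw [canMap_val]
      apply pullback.hom_ext
      · rw [pullback.lift_fst]
      · rw [pullback.lift_snd]
        change a ≫ pullback.snd p U.hom = b ≫ pullback.snd p U.hom
        rw [← hπdef]; exact hab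
    have hc' : ((dd F q hq p u₁ ζ hζ huniv).φ (a ≫ pullback.fst p U.hom)
        (b ≫ pullback.fst p U.hom) hx w).1 = b ≫ θ := by
      refine hc.trans ((congrArg (fun z => z ≫ e.hom.hom.left) hcan).trans ?_)
      change b ≫ e.hom.hom.left = b ≫ θ
      rw [hθdef]
    have := dd_φ_map F q hq p u₁ ζ hζ huniv _ _ hx w
    rw [hc'] at this
    exact this.symm
  obtain ⟨ε, hε, hεuniq⟩ := hglue π ξ₁ hcoc
  have hqε : q ε = U.hom := by
    rw [← cancel_epi π, ← hq, hε, hξ₁, hq, hζ, ← Category.assoc, hθ, hπw]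
  refine ⟨ε, hqε, fun T ξ => ?_⟩
  -- the cover of `T`
  obtain ⟨t, ht⟩ : ∃ t : T ⟶ B, t = q ξ := ⟨_, rfl⟩
  obtain ⟨πT, hπT⟩ : ∃ πT : pullback p t ⟶ T, πT = pullback.snd p t := ⟨_, rfl⟩
  haveI : Flat πT := by rw [hπT]; infer_instance
  haveI : Surjective πT := by rw [hπT]; infer_instance
  haveI : QuasiCompact πT := by rw [hπT]; infer_instance
  have hπTw : πT ≫ t = pullback.fst p t ≫ p := by rw [hπT, pullback.condition]
  obtain ⟨ξ', hξ'⟩ : ∃ ξ' : F.obj (op (pullback p t)), ξ' = F.map πT.op ξ := ⟨_, rfl⟩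
  have hqξ' : q ξ' = pullback.fst p t ≫ p := by rw [hξ', hq, ← ht, hπTw]
  obtain ⟨g₁, ⟨hg₁u, hg₁F⟩, hg₁uniq⟩ := huniv (pullback.fst p t) ξ' hqξ'
  -- key relation for morphisms `c : T ⟶ U` over `B`
  have key : ∀ (c : T ⟶ U.left) (hc : c ≫ U.hom = t),
      F.map c.op ε = ξ ↔
        pullback.map p t p U.hom (𝟙 _) c (𝟙 _) (by simp) (by simp [hc]) ≫ θ = g₁ := by
    intro c hc
    obtain ⟨mc, hmc⟩ : ∃ mc : pullback p t ⟶ pullback p U.hom,
        mc = pullback.map p t p U.hom (𝟙 _) c (𝟙 _) (by simp) (by simp [hc]) := ⟨_, rfl⟩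
    rw [← hmc]
    have hmc1 : mc ≫ pullback.fst p U.hom = pullback.fst p t := by
      rw [hmc, pullback.lift_fst, Category.comp_id]
    have hmc2 : mc ≫ π = πT ≫ c := by
      rw [hmc, hπdef, hπT, pullback.lift_snd]
    have h1 : F.map (mc ≫ θ).op ζ = F.map πT.op (F.map c.op ε) := by
      rw [map_comp_apply, ← hξ₁, ← hε, ← map_comp_apply, hmc2, map_comp_apply]
    constructor
    · intro h
      apply hg₁uniq
      refine ⟨by rw [Category.assoc, hθ, hmc1], ?_⟩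
      rw [h1, h, hξ']
    · intro h
      have h2 : F.map πT.op (F.map c.op ε) = ξ' := by rw [← h1, h, hg₁F]
      have hcocT : F.map (pullback.fst πT πT).op ξ' = F.map (pullback.snd πT πT).op ξ' := by
        rw [hξ', ← map_comp_apply, ← map_comp_apply, pullback.condition]
      obtain ⟨ξ'', -, huq⟩ := hglue πT ξ' hcocT
      rw [huq _ h2, huq ξ hξ'.symm]
  -- the morphism of descent data
  have hg₁w : g₁ ≫ (dd F q hq p u₁ ζ hζ huniv).obj.hom = pullback.fst p t := hg₁u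
  let G : (toDD p).obj (Over.mk t) ⟶ dd F q hq p u₁ ζ hζ huniv :=
    ⟨Over.homMk g₁ hg₁w, fun Z x₀ x₁ h v w hw => by
      obtain ⟨v1, hv1⟩ : ∃ v1 : Z ⟶ pullback p t, v1 = v.1 := ⟨_, rfl⟩
      obtain ⟨w1, hw1⟩ : ∃ w1 : Z ⟶ U₁, w1 = w.1 := ⟨_, rfl⟩
      have hw' : w1 = v1 ≫ g₁ := by rw [hw1, hv1]; exact hw
      obtain ⟨cm, hcm⟩ : ∃ cm : Z ⟶ pullback p t,
          cm = (canMap p (Over.mk t) x₀ x₁ h v).1 := ⟨_, rfl⟩
      have hcm1 : cm ≫ pullback.fst p t = x₁ := by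
        rw [hcm]; exact (canMap p (Over.mk t) x₀ x₁ h v).2
      have hcm2 : cm ≫ πT = v1 ≫ πT := by
        rw [hcm, hπT, hv1, canMap_val]; exact pullback.lift_snd _ _ _
      have e1 : F.map (cm ≫ g₁).op ζ = F.map cm.op ξ' :=
        (map_comp_apply F g₁ cm ζ).trans (congrArg (F.map cm.op) hg₁F)
      have e2 : F.map (v1 ≫ g₁).op ζ = F.map v1.op ξ' :=
        (map_comp_apply F g₁ v1 ζ).trans (congrArg (F.map v1.op) hg₁F)
      have e3 : F.map cm.op ξ' = F.map (cm ≫ πT).op ξ := by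
        rw [hξ']; exact (map_comp_apply F πT cm ξ).symm
      have e4 : F.map v1.op ξ' = F.map (v1 ≫ πT).op ξ := by
        rw [hξ']; exact (map_comp_apply F πT v1 ξ).symm
      have e5 : F.map (cm ≫ g₁).op ζ = F.map w1.op ζ := by
        rw [hw', e1, e2, e3, e4, hcm2]
      refine dd_φ_eq F q hq p u₁ ζ hζ huniv x₀ x₁ h w
        ((canMap p (Over.mk t) x₀ x₁ h v).1 ≫ g₁) ?_ ?_
      · rw [← hcm, Category.assoc, hg₁u, hcm1]
      · rw [← hcm, ← hw1]; exact e5⟩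
  haveI := Groth.Agent.S1131.result p
  obtain ⟨c, hc⟩ := (toDD p).map_surjective (G ≫ e.inv)
  have hc' : (toDD p).map c ≫ e.hom = G := by
    rw [hc, Category.assoc, e.inv_hom_id, Category.comp_id]
  have hcw : c.left ≫ U.hom = t := Over.w c
  have hcl : pullback.map p t p U.hom (𝟙 _) c.left (𝟙 _) (by simp) (by simp [hcw]) ≫ θ = g₁ := by
    have := congrArg (fun a : (toDD p).obj (Over.mk t) ⟶ dd F q hq p u₁ ζ hζ huniv =>
      a.hom.left) hc'
    rw [hθdef]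
    exact this
  refine ⟨c.left, (key c.left hcw).2 hcl, fun c' hc' => ?_⟩
  have hc'w : c' ≫ U.hom = t := by rw [ht, ← hc', hq, hqε]
  have h3 := (key c' hc'w).1 hc'
  have h4 : pullback.map p t p U.hom (𝟙 _) c' (𝟙 _) (by simp) (by simp [hc'w]) =
      pullback.map p t p U.hom (𝟙 _) c.left (𝟙 _) (by simp) (by simp [hcw]) := by
    rw [← cancel_mono θ, h3, hcl]
  have h5 := congrArg (fun a => a ≫ pullback.snd p U.hom) h4
  simp only [pullback.lift_snd] at h5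
  rw [← hπT] at h5
  exact (cancel_epi πT).1 h5

end Main

end Groth.Agent.Lib.AbsRepFpqcH52
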