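import Mathlib

/-!
# An abstract representability criterion with open loci (helper37)

Generalises helper52's `Lib/AbsRepH52` (which treats loci of the form `(q ξ)⁻¹(B₀ a)` for a natural
map `q : F ⟶ h_B`).  Let `F : Schemeᵒᵖ ⥤ Type u` be a Zariski sheaf, and for every index `a` let
`L a ξ ⊆ T` (for `ξ ∈ F(T)`) be an open "locus", compatible with pullback.  Suppose that for every
`a` the subfunctor `{ξ | L a ξ = ⊤}` is represented by `(U a, ζ a)` and that the loci cover.  Then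
`F` is representable (`exists_universal`).  Uses Mathlib's `Scheme.LocalRepresentability`.
-/

set_option autoImplicit false
set_option linter.style.haveILetI false

universe u

open CategoryTheory CategoryTheory.Limits AlgebraicGeometry Opposite

namespace Groth.Agent.Lib.AbsRepLocus37

variable (F : Scheme.{u}ᵒᵖ ⥤ Type u) {A : Type u}
  (L : A → ∀ ⦃T : Scheme.{u}⦄, F.obj (op T) → T.Opens)
  (hL : ∀ a ⦃T T' : Scheme.{u}⦄ (r : T' ⟶ T) (ξ : F.obj (op T)),
    L a (F.map r.op ξ) = r ⁻¹ᵁ L a ξ)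
  {U : A → Scheme.{u}} (ζ : ∀ a, F.obj (op (U a)))
  (hζ : ∀ a, L a (ζ a) = ⊤)
  (huniv : ∀ a ⦃T : Scheme.{u}⦄ (ξ : F.obj (op T)), L a ξ = ⊤ →
    ∃! g : T ⟶ U a, F.map g.op (ζ a) = ξ)

include hL in
theorem res_locus_top {T : Scheme.{u}} (ξ : F.obj (op T)) (a : A) :
    L a (F.map (L a ξ).ι.op ξ) = ⊤ := by
  rw [hL]
  exact Scheme.Opens.ι_preimage_self _

include hL huniv in
theorem exists_locusMap {T : Scheme.{u}} (ξ : F.obj (op T)) (a : A) :
    ∃ g₀ : (L a ξ).toScheme ⟶ U a, F.map g₀.op (ζ a) = F.map (L a ξ).ι.op ξ :=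
  (huniv a _ (res_locus_top F L hL ξ a)).exists

include hL hζ huniv in
theorem isPullback_locus {T : Scheme.{u}} (ξ : F.obj (op T)) (a : A)
    (g₀ : (L a ξ).toScheme ⟶ U a)
    (hg₀ : F.map g₀.op (ζ a) = F.map (L a ξ).ι.op ξ) :
    IsPullback (yoneda.map g₀) (yoneda.map (L a ξ).ι) (yonedaEquiv.symm (ζ a))
      (yonedaEquiv.symm ξ) := by
  apply IsPullback.of_forall_isPullback_app
  intro K
  rw [Types.isPullback_iff]
  refine ⟨?_, ?_, ?_⟩
  · ext (k : K.unop ⟶ (L a ξ).toScheme)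
    change F.map (k ≫ g₀).op (ζ a) = F.map (k ≫ (L a ξ).ι).op ξ
    rw [op_comp, op_comp, F.map_comp, F.map_comp]
    change F.map k.op (F.map g₀.op (ζ a)) = F.map k.op (F.map (L a ξ).ι.op ξ)
    rw [hg₀]
  · rintro (k : K.unop ⟶ _) (k' : K.unop ⟶ _) ⟨-, h2⟩
    change k ≫ (L a ξ).ι = k' ≫ (L a ξ).ι at h2
    exact (cancel_mono _).1 h2
  · rintro (a' : K.unop ⟶ U a) (b : K.unop ⟶ T) h
    change F.map a'.op (ζ a) = F.map b.op ξ at h
    have hb : L a (F.map b.op ξ) = ⊤ := by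
      rw [← h, hL, hζ]
      rfl
    have hb' : Set.range b ⊆ Set.range (L a ξ).ι := by
      rw [Scheme.Opens.range_ι]
      rintro _ ⟨w, rfl⟩
      have h1 : w ∈ b ⁻¹ᵁ L a ξ := by
        rw [← hL, hb]
        trivial
      exact h1
    let k : K.unop ⟶ (L a ξ).toScheme := IsOpenImmersion.lift (L a ξ).ι b hb'
    have hk : k ≫ (L a ξ).ι = b := IsOpenImmersion.lift_fac _ _ _
    refine ⟨k, ?_, hk⟩
    change k ≫ g₀ = a'
    apply (huniv a (F.map b.op ξ) hb).unique
    · rw [op_comp, F.map_comp]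
      change F.map k.op (F.map g₀.op (ζ a)) = _
      rw [hg₀]
      change (F.map (L a ξ).ι.op ≫ F.map k.op) ξ = _
      rw [← F.map_comp, ← op_comp, hk]
    · exact h

include hL hζ huniv in
theorem isOpenImmersion_presheaf (a : A) :
    IsOpenImmersion.presheaf (yonedaEquiv.symm (ζ a) : yoneda.obj (U a) ⟶ F) := by
  apply MorphismProperty.relative.of_exists
  intro T g
  obtain ⟨ξ, rfl⟩ : ∃ ξ : F.obj (op T), g = yonedaEquiv.symm ξ :=
    ⟨yonedaEquiv g, (Equiv.symm_apply_apply _ _).symm⟩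
  obtain ⟨g₀, hg₀⟩ := exists_locusMap F L hL ζ huniv ξ a
  exact ⟨_, yoneda.map g₀, (L a ξ).ι, isPullback_locus F L hL ζ hζ huniv ξ a g₀ hg₀,
    inferInstance⟩

variable (hF : Presieve.IsSheaf Scheme.zariskiTopology F)
  (hcov : ∀ ⦃T : Scheme.{u}⦄ (ξ : F.obj (op T)) (t : T), ∃ a, t ∈ L a ξ)

/-- The sheaf. -/
noncomputable def sheaf : Sheaf Scheme.zariskiTopology.{u} (Type u) :=
  ⟨F, (isSheaf_iff_isSheaf_of_type _ _).2 hF⟩

include hL huniv hcov in
theorem isLocallySurjective_sigmaDesc :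
    Presheaf.IsLocallySurjective Scheme.zariskiTopology
      (Sigma.desc (fun a => (yonedaEquiv.symm (ζ a) : yoneda.obj (U a) ⟶ (sheaf F hF).1))) := by
  refine ⟨fun {T} (ξ : F.obj (op T)) => ?_⟩
  rw [Scheme.mem_grothendieckTopology_iff]
  choose g₀ hg₀ using fun a => exists_locusMap F L hL ζ huniv ξ a
  let 𝒰 : T.OpenCover :=
    { I₀ := A
      X := fun a => (L a ξ).toScheme
      f := fun a => (L a ξ).ι
      mem₀ := by
        rw [Scheme.presieve₀_mem_precoverage_iff]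
        refine ⟨fun x => ?_, inferInstance⟩
        obtain ⟨a, ha⟩ := hcov ξ x
        refine ⟨a, ?_⟩
        rw [Scheme.Opens.range_ι]
        exact ha }
  refine ⟨𝒰, ?_⟩
  rintro _ _ ⟨a⟩
  refine ⟨(Sigma.ι (fun a => yoneda.obj (U a)) a).app _ (g₀ a), ?_⟩
  have h1 : Sigma.ι (fun a => yoneda.obj (U a)) a ≫
      Sigma.desc (fun a => (yonedaEquiv.symm (ζ a) : yoneda.obj (U a) ⟶ (sheaf F hF).1)) =
        yonedaEquiv.symm (ζ a) :=
    Sigma.ι_desc _ _
  have h2 := congrArg (fun φ => φ.app (op (L a ξ).toScheme) (g₀ a)) h1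
  simp only [NatTrans.comp_app] at h2
  refine Eq.trans ?_ (h2.trans ?_)
  · rfl
  · exact hg₀ a

include hL hζ huniv hcov hF in
/-- **Abstract local representability with loci.** -/
theorem exists_universal : ∃ (V : Scheme.{u}) (ε : F.obj (op V)),
    ∀ ⦃T : Scheme.{u}⦄ (ξ : F.obj (op T)), ∃! g : T ⟶ V, F.map g.op ε = ξ := by
  have hf : ∀ a, IsOpenImmersion.presheaf
      (yonedaEquiv.symm (ζ a) : yoneda.obj (U a) ⟶ (sheaf F hF).1) :=
    fun a => isOpenImmersion_presheaf F L hL ζ hζ huniv a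
  have hls := isLocallySurjective_sigmaDesc F L hL ζ huniv hF hcov
  let R := @Scheme.LocalRepresentability.representableBy (sheaf F hF) A U
    (fun a => (yonedaEquiv.symm (ζ a) : yoneda.obj (U a) ⟶ (sheaf F hF).1)) hf hls
  let V := (Scheme.LocalRepresentability.glueData (F := sheaf F hF)
    (f := fun a => (yonedaEquiv.symm (ζ a) : yoneda.obj (U a) ⟶ (sheaf F hF).1)) hf).glued
  let ε : F.obj (op V) := R.homEquiv (𝟙 V)
  have hε : ∀ {T : Scheme.{u}} (g : T ⟶ V), R.homEquiv g = F.map g.op ε :=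
    fun g => R.homEquiv_eq g
  refine ⟨V, ε, fun T ξ => ⟨R.homEquiv.symm ξ, ?_, fun g hg => ?_⟩⟩
  · change F.map _ ε = ξ
    exact (hε _).symm.trans (R.homEquiv.apply_symm_apply ξ)
  · apply R.homEquiv.injective
    exact ((hε g).trans hg).trans (R.homEquiv.apply_symm_apply ξ).symm

end Groth.Agent.Lib.AbsRepLocus37
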