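import Groth.Agent.Lib.GrpAction

/-!
# The shear isomorphism `G ⊗ X ≅ G ⊗ X`, `(g, x) ↦ (g, g • x)` of an action (helper21)

For `a : AlgGrp.Action G X` in `Over S`: `shear a = lift fst a.act` is an isomorphism with
`shear a ≫ snd = a.act`, so the action morphism is, up to an isomorphism of the source, the second
projection `G ×_S X ⟶ X`, a base change of `G ⟶ S`.
-/

universe u

open CategoryTheory MonoidalCategory CartesianMonoidalCategory MonObj AlgebraicGeometry

namespace Groth.Agent.Lib.GrpAction

variable {S : Scheme.{u}} {G X : Over S} [GrpObj G] (a : AlgGrp.Action G X)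

/-- `(g, x) ↦ (g, g • x)`. -/
noncomputable def shear : G ⊗ X ⟶ G ⊗ X := lift (fst G X) a.act

/-- `(g, x) ↦ (g, g⁻¹ • x)`. -/
noncomputable def shearInv : G ⊗ X ⟶ G ⊗ X :=
  lift (fst G X) (lift (fst G X)⁻¹ (snd G X) ≫ a.act)

@[reassoc (attr := simp)]
lemma shear_fst : shear a ≫ fst G X = fst G X := lift_fst _ _

@[reassoc (attr := simp)]
lemma shear_snd : shear a ≫ snd G X = a.act := lift_snd _ _

lemma inv_act_act : lift (fst G X)⁻¹ a.act ≫ a.act = snd G X :=
  calc lift (fst G X)⁻¹ a.act ≫ a.act
      = lift (fst G X)⁻¹ (lift (fst G X) (snd G X) ≫ a.act) ≫ a.act := by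
        rw [lift_fst_snd, Category.id_comp]
    _ = lift ((fst G X)⁻¹ * fst G X) (snd G X) ≫ a.act := (mul_act a _ _ _).symm
    _ = snd G X := by rw [inv_mul_cancel, one_act]

lemma act_inv_act : lift (fst G X) (lift (fst G X)⁻¹ (snd G X) ≫ a.act) ≫ a.act = snd G X :=
  calc lift (fst G X) (lift (fst G X)⁻¹ (snd G X) ≫ a.act) ≫ a.act
      = lift (fst G X * (fst G X)⁻¹) (snd G X) ≫ a.act := (mul_act a _ _ _).symm
    _ = snd G X := by rw [mul_inv_cancel, one_act]

lemma shear_shearInv : shear a ≫ shearInv a = 𝟙 _ := by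
  unfold shearInv
  rw [comp_lift, ← Category.assoc, comp_lift, GrpObj.comp_inv, shear_fst, shear_snd, inv_act_act,
    lift_fst_snd]

lemma shearInv_shear : shearInv a ≫ shear a = 𝟙 _ := by
  have h1 : shearInv a ≫ fst G X = fst G X := lift_fst _ _
  have h2 : shearInv a ≫ snd G X = lift (fst G X)⁻¹ (snd G X) ≫ a.act := lift_snd _ _
  have h3 : shearInv a ≫ a.act = snd G X := by
    calc shearInv a ≫ a.act = shearInv a ≫ lift (fst G X) (snd G X) ≫ a.act := by
          rw [lift_fst_snd, Category.id_comp]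
      _ = lift (fst G X) (lift (fst G X)⁻¹ (snd G X) ≫ a.act) ≫ a.act := by
          rw [← Category.assoc, comp_lift, h1, h2]
      _ = snd G X := act_inv_act a
  unfold shear
  rw [comp_lift, h1, h3, lift_fst_snd]

instance isIso_shear : IsIso (shear a) :=
  ⟨⟨shearInv a, shear_shearInv a, shearInv_shear a⟩⟩

instance isIso_shear_left : IsIso (shear a).left :=
  inferInstanceAs (IsIso ((Over.forget S).map (shear a)))

/-- The action morphism is the shear isomorphism followed by the second projection. -/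
lemma act_left_eq : a.act.left = (shear a).left ≫ Limits.pullback.snd G.hom X.hom := by
  rw [← shear_snd a]
  rfl

end Groth.Agent.Lib.GrpAction
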