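import Mathlib
import Groth.Prelude.Def_AlgGrp
import Groth.Agent.Lib.GrpActionShear

/-!
# Topology of group actions on schemes over a field (helper18)

* `exists_preimage_of_isPullback` : points of an `IsPullback` square of schemes.
* `isPullback_whiskerLeft_snd` : `M ◁ z` is the base change of `z` along `snd`.
* `univOpen_hom_of_field`, `flat_hom_of_field` : a scheme locally of finite type over a field
  is flat and universally open over it.
* `act_univOpen`, `act_flat`, `act_surjective` for an action of a locally algebraic group.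
-/

set_option autoImplicit false
set_option maxHeartbeats 400000
universe u
open CategoryTheory MonoidalCategory CartesianMonoidalCategory MonObj AlgebraicGeometry

namespace Groth.Agent.Lib.ActOpen18

lemma exists_preimage_of_isPullback {P X Y Z : Scheme.{u}} {fst : P ⟶ X} {snd : P ⟶ Y}
    {f : X ⟶ Z} {g : Y ⟶ Z} (h : IsPullback fst snd f g) (x : X) (y : Y)
    (hxy : f.base x = g.base y) : ∃ p : P, fst.base p = x ∧ snd.base p = y := by
  obtain ⟨z, hz1, hz2⟩ := Scheme.Pullback.exists_preimage_pullback (f := f) (g := g) x y hxy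
  refine ⟨h.isoPullback.inv.base z, ?_, ?_⟩
  · rw [← Scheme.Hom.comp_apply, h.isoPullback_inv_fst]; exact hz1
  · rw [← Scheme.Hom.comp_apply, h.isoPullback_inv_snd]; exact hz2

section overS

variable {S : Scheme.{u}}

lemma isPullback_whiskerLeft_snd (M : Over S) {Z X : Over S} (z : Z ⟶ X) :
    IsPullback (M ◁ z).left (CartesianMonoidalCategory.snd M Z).left
      (CartesianMonoidalCategory.snd M X).left z.left := by
  show IsPullback (M ◁ z).left (Limits.pullback.snd M.hom Z.hom)
      (Limits.pullback.snd M.hom X.hom) z.left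
  refine IsPullback.of_right (h₁₂ := Limits.pullback.fst M.hom X.hom) (h₂₂ := X.hom)
    (v₁₃ := M.hom) ?_ (Over.whiskerLeft_left_snd z) ?_
  · rw [Over.whiskerLeft_left_fst, Over.w z]
    exact IsPullback.of_hasPullback M.hom Z.hom
  · exact IsPullback.of_hasPullback M.hom X.hom

end overS

section fieldk

variable {k : Type u} [Field k]

instance : Subsingleton ↥(Spec (CommRingCat.of k)) :=
  inferInstanceAs (Subsingleton (PrimeSpectrum k))

lemma flat_hom_of_field {X : Scheme.{u}} (f : X ⟶ Spec (CommRingCat.of k)) : Flat f :=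
  inferInstance

lemma univOpen_hom_of_field {X : Scheme.{u}} (f : X ⟶ Spec (CommRingCat.of k))
    [LocallyOfFiniteType f] : UniversallyOpen f := by
  haveI : Flat f := flat_hom_of_field f
  haveI : LocallyOfFinitePresentation f :=
    LocallyOfFinitePresentation.iff_locallyOfFiniteType.mpr inferInstance
  infer_instance

end fieldk

section act

variable {k : Type u} [Field k] {G X : Over (Spec (CommRingCat.of k))} [GrpObj G]
  (a : AlgGrp.Action G X)

/-- the unit section `x ↦ (e, x)` -/
noncomputable def unitSec (G X : Over (Spec (CommRingCat.of k))) [GrpObj G] : X ⟶ G ⊗ X :=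
  (λ_ X).inv ≫ (η[G] ▷ X)

lemma unitSec_act : unitSec G X ≫ a.act = 𝟙 X := by
  rw [unitSec, Category.assoc, a.one_act, Iso.inv_hom_id]

lemma unitSec_snd : unitSec G X ≫ CartesianMonoidalCategory.snd G X = 𝟙 X := by
  rw [unitSec, Category.assoc, whiskerRight_snd, leftUnitor_inv_snd]

lemma act_surjective : Surjective a.act.left := by
  refine ⟨fun x => ⟨(unitSec G X).left.base x, ?_⟩⟩
  rw [← Scheme.Hom.comp_apply, ← Over.comp_left, unitSec_act]
  rfl

variable [LocallyOfFiniteType G.hom]

lemma snd_univOpen : UniversallyOpen (CartesianMonoidalCategory.snd G X).left := by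
  haveI : UniversallyOpen G.hom := univOpen_hom_of_field G.hom
  show UniversallyOpen (Limits.pullback.snd G.hom X.hom)
  infer_instance

lemma act_univOpen : UniversallyOpen a.act.left := by
  haveI := snd_univOpen (G := G) (X := X)
  haveI := Groth.Agent.Lib.GrpAction.isIso_shear_left a
  rw [Groth.Agent.Lib.GrpAction.act_left_eq a]
  have : UniversallyOpen (Limits.pullback.snd G.hom X.hom) := snd_univOpen (G := G) (X := X)
  infer_instance

lemma act_flat : Flat a.act.left := by
  haveI : Flat G.hom := flat_hom_of_field G.hom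
  haveI := Groth.Agent.Lib.GrpAction.isIso_shear_left a
  rw [Groth.Agent.Lib.GrpAction.act_left_eq a]
  infer_instance

/-- `G · U` -/
def orbitSet (U : Set ↥X.left) : Set ↥X.left :=
  a.act.left.base '' ((CartesianMonoidalCategory.snd G X).left.base ⁻¹' U)

lemma isOpen_orbitSet {U : Set ↥X.left} (hU : IsOpen U) : IsOpen (orbitSet a U) := by
  haveI := act_univOpen a
  exact a.act.left.isOpenMap _ (hU.preimage (CartesianMonoidalCategory.snd G X).left.continuous)

omit [LocallyOfFiniteType G.hom] in
lemma subset_orbitSet (U : Set ↥X.left) : U ⊆ orbitSet a U := by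
  intro u hu
  refine ⟨(unitSec G X).left.base u, ?_, ?_⟩
  · show (CartesianMonoidalCategory.snd G X).left.base ((unitSec G X).left.base u) ∈ U
    rw [← Scheme.Hom.comp_apply, ← Over.comp_left, unitSec_snd]
    exact hu
  · rw [← Scheme.Hom.comp_apply, ← Over.comp_left, unitSec_act]
    rfl

omit [LocallyOfFiniteType G.hom] in
lemma orbitSet_mono {U W : Set ↥X.left} (h : U ⊆ W) : orbitSet a U ⊆ orbitSet a W :=
  Set.image_mono (Set.preimage_mono h)

omit [LocallyOfFiniteType G.hom] in
lemma orbitSet_orbitSet (U : Set ↥X.left) : orbitSet a (orbitSet a U) ⊆ orbitSet a U := by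
  rintro _ ⟨z, ⟨w, hw, hwz⟩, rfl⟩
  have hpb := isPullback_whiskerLeft_snd G a.act
  obtain ⟨q, hq1, hq2⟩ := exists_preimage_of_isPullback hpb z w hwz.symm
  refine ⟨((α_ G G X).inv ≫ (μ[G] ▷ X)).left.base q, ?_, ?_⟩
  · show (CartesianMonoidalCategory.snd G X).left.base
      (((α_ G G X).inv ≫ (μ[G] ▷ X)).left.base q) ∈ U
    rw [← Scheme.Hom.comp_apply, ← Over.comp_left, Category.assoc, whiskerRight_snd,
      associator_inv_snd, Over.comp_left, Scheme.Hom.comp_apply, hq2]
    exact hw
  · rw [← Scheme.Hom.comp_apply, ← Over.comp_left, Category.assoc, a.mul_act,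
      Iso.inv_hom_id_assoc, Over.comp_left, Scheme.Hom.comp_apply, hq1]

end act

end Groth.Agent.Lib.ActOpen18
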