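import Mathlib.Algebra.Category.ModuleCat.Basic
import Mathlib.CategoryTheory.Preadditive.FunctorCategory
import Mathlib.CategoryTheory.Preadditive.AdditiveFunctor
import Mathlib.Algebra.Module.LocalizedModule.Basic

/-!
# Presheaves of abelian groups with a ring action, as presheaves of modules (helper49)

`P : Cᵒᵖ ⥤ AddCommGrpCat`, `act : R →+* End P`.  `modPresheaf P act : Cᵒᵖ ⥤ ModuleCat R` has the same underlying
presheaf of abelian groups (`modPresheafForgetIso`), and scalar multiplication `r • x = (act r).app U x`.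
`isLocalizedModule_of_elementwise`: an elementwise criterion for `IsLocalizedModule (powers h)` of its restriction maps.
-/

set_option autoImplicit false
universe u v w

open CategoryTheory Opposite

namespace Groth.Agent.Lib.ActPresheaf

/-- an additive functor induces ring morphisms on endomorphism rings -/
def mapEndRingHom {𝒜 ℬ : Type*} [Category 𝒜] [Category ℬ] [Preadditive 𝒜] [Preadditive ℬ]
    (F : 𝒜 ⥤ ℬ) [F.Additive] (A : 𝒜) : End A →+* End (F.obj A) where
  toFun := F.map
  map_one' := F.map_id A
  map_mul' x y := F.map_comp y x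
  map_zero' := F.map_zero _ _
  map_add' _ _ := F.map_add

variable {C : Type v} [Category.{w} C] {R : Type u} [Ring R] (P : Cᵒᵖ ⥤ AddCommGrpCat.{u}) (act : R →+* End P)

/-- evaluation of endomorphisms of a presheaf at an object, as a ring morphism -/
def evalEnd (U : Cᵒᵖ) : End P →+* End (P.obj U) where
  toFun α := α.app U
  map_one' := rfl
  map_mul' _ _ := rfl
  map_zero' := rfl
  map_add' _ _ := rfl

/-- the presheaf of `R`-modules attached to a presheaf of abelian groups with an action of `R` -/
noncomputable def modPresheaf : Cᵒᵖ ⥤ ModuleCat.{u} R where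
  obj U := ModuleCat.mkOfSMul ((evalEnd P U).comp act)
  map {U V} f := ModuleCat.homMk (M := ModuleCat.mkOfSMul ((evalEnd P U).comp act))
    (N := ModuleCat.mkOfSMul ((evalEnd P V).comp act)) (P.map f)
    (fun r => (act r : P ⟶ P).naturality f)
  map_id U := by
    apply (forget₂ (ModuleCat.{u} R) AddCommGrpCat.{u}).map_injective
    exact P.map_id U
  map_comp f g := by
    apply (forget₂ (ModuleCat.{u} R) AddCommGrpCat.{u}).map_injective
    exact P.map_comp f g

/-- the underlying presheaf of abelian groups is the given one -/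
noncomputable def modPresheafForgetIso :
    modPresheaf P act ⋙ forget₂ (ModuleCat.{u} R) AddCommGrpCat.{u} ≅ P :=
  NatIso.ofComponents (fun _ => Iso.refl _) (fun f => by
    ext x
    rfl)

lemma smul_def (U : Cᵒᵖ) (r : R) (x : (modPresheaf P act).obj U) :
    r • x = ((act r : P ⟶ P).app U) x := rfl

lemma map_apply {U V : Cᵒᵖ} (f : U ⟶ V) (x : (modPresheaf P act).obj U) :
    ((modPresheaf P act).map f).hom x = (P.map f) x := rfl

end Groth.Agent.Lib.ActPresheaf

namespace Groth.Agent.Lib.ActPresheaf

variable {C : Type v} [Category.{w} C] {R : Type u} [CommRing R] (P : Cᵒᵖ ⥤ AddCommGrpCat.{u}) (act : R →+* End P)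

lemma pow_smul_eq_iterate (U : Cᵒᵖ) (h : R) (k : ℕ) (x : (modPresheaf P act).obj U) :
    h ^ k • x = (fun y : P.obj U => ((act h : P ⟶ P).app U) y)^[k] x := by
  induction k with
  | zero => simp
  | succ k ih =>
    rw [Function.iterate_succ_apply', ← ih, pow_succ', mul_smul]
    rfl

/-- elementwise criterion: a restriction map of `modPresheaf P act` is a localization at `h` -/
theorem isLocalizedModule_of_elementwise {U V : Cᵒᵖ} (f : U ⟶ V) (h : R)
    (hbij : Function.Bijective fun y : P.obj V => ((act h : P ⟶ P).app V) y)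
    (hsurj : ∀ y : P.obj V, ∃ (k : ℕ) (x : P.obj U),
      (fun y : P.obj V => ((act h : P ⟶ P).app V) y)^[k] y = (P.map f) x)
    (hinj : ∀ x : P.obj U, (P.map f) x = 0 →
      ∃ k : ℕ, (fun y : P.obj U => ((act h : P ⟶ P).app U) y)^[k] x = 0) :
    IsLocalizedModule (Submonoid.powers h) ((modPresheaf P act).map f).hom where
  map_units := by
    rintro ⟨c, k, rfl⟩
    rw [Module.End.isUnit_iff]
    have : (fun y : (modPresheaf P act).obj V => h ^ k • y) =
        (fun y : P.obj V => ((act h : P ⟶ P).app V) y)^[k] := by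
      funext y
      exact pow_smul_eq_iterate P act V h k y
    change Function.Bijective (fun y : (modPresheaf P act).obj V => h ^ k • y)
    rw [this]
    exact hbij.iterate k
  surj := by
    intro y
    obtain ⟨k, x, hx⟩ := hsurj y
    refine ⟨⟨x, ⟨h ^ k, k, rfl⟩⟩, ?_⟩
    change h ^ k • y = (P.map f) x
    rw [pow_smul_eq_iterate]
    exact hx
  exists_of_eq := by
    intro x₁ x₂ hx
    let y₁ : P.obj U := x₁
    let y₂ : P.obj U := x₂
    have h0 : (P.map f) (y₁ - y₂) = 0 := by
      rw [map_sub, sub_eq_zero]
      exact hx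
    obtain ⟨k, hk⟩ := hinj (y₁ - y₂) h0
    refine ⟨⟨h ^ k, k, rfl⟩, ?_⟩
    change h ^ k • x₁ = h ^ k • x₂
    rw [← sub_eq_zero, ← smul_sub, pow_smul_eq_iterate]
    exact hk

end Groth.Agent.Lib.ActPresheaf
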