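import Mathlib.AlgebraicGeometry.FunctionField
import Mathlib.AlgebraicGeometry.Morphisms.Integral
import Mathlib.AlgebraicGeometry.Morphisms.IsIso
import Mathlib.RingTheory.LocalProperties.IntegrallyClosed
import Mathlib.RingTheory.Ideal.GoingUp
import Mathlib.AlgebraicGeometry.IdealSheaf.Subscheme
import Mathlib.AlgebraicGeometry.Morphisms.ClosedImmersion

set_option autoImplicit false
universe u

open CategoryTheory CategoryTheory.Limits AlgebraicGeometry TopologicalSpace

namespace Groth.Agent.Lib.IntegralSection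

/-- An integral ring map `φ : A → B` from an integrally closed domain to a domain which admits a
retraction `ψ : B → Frac A` over `A` is bijective. -/
theorem bijective_of_isIntegral_of_retraction {A B K : Type*} [CommRing A] [IsDomain A]
    [IsIntegrallyClosed A] [CommRing B] [IsDomain B] [Field K] [Algebra A K] [IsFractionRing A K]
    (φ : A →+* B) (hφ : φ.IsIntegral) (ψ : B →+* K) (h : ψ.comp φ = algebraMap A K) :
    Function.Bijective φ := by
  have hinjAK : Function.Injective (algebraMap A K) := IsFractionRing.injective A K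
  have hφinj : Function.Injective φ := by
    have : Function.Injective (ψ.comp φ) := by rw [h]; exact hinjAK
    exact Function.Injective.of_comp (f := ψ) (by simpa using this)
  let _ := φ.toAlgebra
  have : Algebra.IsIntegral A B := ⟨hφ⟩
  have hψinj : Function.Injective ψ := by
    rw [RingHom.injective_iff_ker_eq_bot]
    apply Ideal.eq_bot_of_comap_eq_bot (R := A)
    rw [eq_bot_iff]
    intro a ha
    rw [Ideal.mem_comap, RingHom.mem_ker] at ha
    have : algebraMap A K a = 0 := by
      rw [← h]; exact ha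
    rw [Submodule.mem_bot]
    exact hinjAK (by rw [this, map_zero])
  refine ⟨hφinj, fun b ↦ ?_⟩
  have hint : IsIntegral A (ψ b) := by
    have hb : IsIntegral A b := Algebra.IsIntegral.isIntegral b
    obtain ⟨p, hp, hpb⟩ := hb
    refine ⟨p, hp, ?_⟩
    have : Polynomial.eval₂ (algebraMap A K) (ψ b) p = ψ (Polynomial.eval₂ (algebraMap A B) b p) := by
      rw [Polynomial.hom_eval₂, ← h]
      rfl
    rw [this, hpb, map_zero]
  obtain ⟨a, ha⟩ := IsIntegrallyClosed.algebraMap_eq_of_integral hint
  refine ⟨a, hψinj ?_⟩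
  rw [← ha, ← h]
  rfl

/-- On an integral scheme whose stalks are integrally closed, the sections over a nonempty
affine open form an integrally closed domain. -/
theorem isIntegrallyClosed_sections {X : Scheme.{u}} [IsIntegral X]
    (hX : ∀ x : X, IsIntegrallyClosed (X.presheaf.stalk x)) {V : X.Opens} (hV : IsAffineOpen V)
    [Nonempty V] : IsIntegrallyClosed Γ(X, V) := by
  have hmem : ∀ y : PrimeSpectrum Γ(X, V), hV.fromSpec y ∈ V := fun y ↦ (hV.isoSpec.inv y).2
  exact @IsIntegrallyClosed.of_isLocalization_maximal Γ(X, V) _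
    (fun P hP ↦ X.presheaf.stalk (hV.fromSpec ⟨P, hP.isPrime⟩)) (fun P hP ↦ inferInstance)
    (fun P hP ↦ TopCat.Presheaf.algebra_section_stalk X.presheaf
      ⟨hV.fromSpec ⟨P, hP.isPrime⟩, hmem _⟩)
    (fun P hP ↦ hV.isLocalization_stalk' ⟨P, hP.isPrime⟩ (hmem _)) _ (fun P hP ↦ hX _)

/-- Let `X` be an integral scheme with integrally closed stalks, `Z` an integral scheme and
`h : Z ⟶ X` an integral morphism admitting a section over a nonempty open. Then `h` is an
isomorphism. -/
theorem isIso_of_isIntegralHom_of_section {X Z : Scheme.{u}} [IsIntegral X] [IsIntegral Z]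
    (hX : ∀ x : X, IsIntegrallyClosed (X.presheaf.stalk x)) (h : Z ⟶ X) [IsIntegralHom h]
    (U : X.Opens) [hU : Nonempty U] (s : U.toScheme ⟶ Z) (hs : s ≫ h = U.ι) : IsIso h := by
  change MorphismProperty.isomorphisms Scheme h
  refine IsZariskiLocalAtTarget.of_iSup_eq_top (P := MorphismProperty.isomorphisms Scheme)
    (fun V : X.affineOpens ↦ V.1) (iSup_affineOpens_eq_top X) fun V ↦ ?_
  change IsIso (h ∣_ V.1)
  obtain ⟨V, hV⟩ := V
  dsimp only
  by_cases hne : Nonempty V
  swap
  · have : IsEmpty (V : Scheme.{u}) := not_nonempty_iff.mp hne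
    infer_instance
  rw [isIso_morphismRestrict_iff_isIso_app h hV]
  -- the generic point lies in `U ⊓ V`
  have hηU : genericPoint X ∈ U :=
    ((genericPoint_spec X).mem_open_set_iff U.isOpen).mpr (by simpa using hU)
  have hηV : genericPoint X ∈ V :=
    ((genericPoint_spec X).mem_open_set_iff V.isOpen).mpr (by simpa using hne)
  let D : X.Opens := U ⊓ V
  have hηD : genericPoint X ∈ D := ⟨hηU, hηV⟩
  let sD : D.toScheme ⟶ Z := X.homOfLE (inf_le_left : D ≤ U) ≫ s
  have hsD : sD ≫ h = D.ι := by
    simp only [sD, Category.assoc, hs, Scheme.homOfLE_ι]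
  have e : (⊤ : D.toScheme.Opens) ≤ sD ⁻¹ᵁ (h ⁻¹ᵁ V) := by
    intro d _
    change (sD ≫ h).base d ∈ V
    rw [hsD]
    exact d.2.2
  have hne' : Nonempty (h ⁻¹ᵁ V : Z.Opens) := ⟨⟨sD.base ⟨genericPoint X, hηD⟩, e trivial⟩⟩
  have hηD' : genericPoint X ∈ D.ι ''ᵁ ⊤ := by
    rw [Scheme.Opens.ι_image_top]; exact hηD
  let ψ : Γ(Z, h ⁻¹ᵁ V) ⟶ X.functionField :=
    sD.appLE (h ⁻¹ᵁ V) ⊤ e ≫ X.presheaf.germ (D.ι ''ᵁ ⊤) (genericPoint X) hηD'
  have hψ : h.app V ≫ ψ = X.germToFunctionField V := by
    simp only [ψ]
    rw [← Category.assoc, ← Scheme.Hom.comp_appLE]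
    simp only [hsD, Scheme.Opens.ι_appLE]
    exact TopCat.Presheaf.germ_res _ _ _ _
  have hic : IsIntegrallyClosed Γ(X, V) := isIntegrallyClosed_sections hX hV
  have hfr : IsFractionRing Γ(X, V) X.functionField :=
    functionField_isFractionRing_of_isAffineOpen X V hV
  have hint : (h.app V).hom.IsIntegral := IsIntegralHom.isIntegral_app h V hV
  have hbij := bijective_of_isIntegral_of_retraction (h.app V).hom hint ψ.hom
    (by rw [← CommRingCat.hom_comp, hψ]; rfl)
  exact (ConcreteCategory.isIso_iff_bijective _).mpr hbij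

open Scheme.IdealSheafData in
/-- A morphism from a reduced scheme whose range lies in a closed set `W` kills the vanishing
ideal sheaf of `W`. -/
theorem vanishingIdeal_le_ker {T Y : Scheme.{u}} [IsReduced T] (f : T ⟶ Y) (W : Closeds Y)
    (hW : Set.range f.base ⊆ (W : Set Y)) : vanishingIdeal W ≤ f.ker := by
  refine le_ofIdeals_iff.mpr fun V a ha ↦ ?_
  rw [vanishingIdeal_ideal] at ha
  rw [RingHom.mem_ker, ← AlgebraicGeometry.basicOpen_eq_bot_iff, ← Scheme.preimage_basicOpen]
  ext y
  simp only [Opens.coe_bot, Set.mem_empty_iff_false, iff_false]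
  intro hy
  have hy' : f.base y ∈ Y.basicOpen a := hy
  have hyV : f.base y ∈ V.1 := Y.basicOpen_le a hy'
  let p := V.2.primeIdealOf ⟨f.base y, hyV⟩
  have hp : V.2.fromSpec p = f.base y := V.2.fromSpec_primeIdealOf ⟨f.base y, hyV⟩
  have hpW : p ∈ V.2.fromSpec ⁻¹' (W : Set Y) := by
    change V.2.fromSpec p ∈ (W : Set Y)
    rw [hp]
    exact hW ⟨y, rfl⟩
  have hap : a ∈ p.asIdeal := (PrimeSpectrum.mem_vanishingIdeal _ _).mp ha p hpW
  have : p ∈ V.2.fromSpec ⁻¹ᵁ Y.basicOpen a := by
    change V.2.fromSpec p ∈ Y.basicOpen a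
    rw [hp]; exact hy'
  rw [V.2.fromSpec_preimage_basicOpen] at this
  exact this hap

open Scheme.IdealSheafData in
theorem isReduced_subscheme_vanishingIdeal {Y : Scheme.{u}} (W : Closeds Y) :
    IsReduced (vanishingIdeal W).subscheme := by
  have (V : Y.affineOpens) : IsReduced ((vanishingIdeal W).subschemeCover.openCover.X V) := by
    have : _root_.IsReduced (Γ(Y, V) ⧸ (vanishingIdeal W).ideal V) := by
      rw [← Ideal.isRadical_iff_quotient_reduced, vanishingIdeal_ideal]
      exact PrimeSpectrum.isRadical_vanishingIdeal _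
    change IsReduced (Spec (.of (Γ(Y, V) ⧸ (vanishingIdeal W).ideal V)))
    infer_instance
  exact IsReduced.of_openCover _ (vanishingIdeal W).subschemeCover.openCover

open Scheme.IdealSheafData in
/-- Let `X` be an integral scheme with integrally closed stalks and `g : X' ⟶ X` an integral
morphism with a section `s` over a nonempty open `U`. Then `s` extends to a section over `X`. -/
theorem exists_section_of_isIntegralHom {X X' : Scheme.{u}} [IsIntegral X]
    (hX : ∀ x : X, IsIntegrallyClosed (X.presheaf.stalk x)) (g : X' ⟶ X) [IsIntegralHom g]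
    (U : X.Opens) [Nonempty U] (s : U.toScheme ⟶ X') (hs : s ≫ g = U.ι) :
    ∃ s' : X ⟶ X', s' ≫ g = 𝟙 X ∧ U.ι ≫ s' = s := by
  let W : Closeds X' := ⟨closure (Set.range s.base), isClosed_closure⟩
  let ι : (vanishingIdeal W).subscheme ⟶ X' := (vanishingIdeal W).subschemeι
  have hle : ι.ker ≤ s.ker := by
    rw [ker_subschemeι]
    exact vanishingIdeal_le_ker s W subset_closure
  let t : U.toScheme ⟶ (vanishingIdeal W).subscheme := IsClosedImmersion.lift ι s hle
  have ht : t ≫ ι = s := IsClosedImmersion.lift_fac _ _ _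
  have : IsReduced (vanishingIdeal W).subscheme := isReduced_subscheme_vanishingIdeal W
  have hrange : Set.range ι.base = closure (Set.range s.base) := by
    rw [range_subschemeι, coe_support_vanishingIdeal]
    rfl
  have hdense : DenseRange t.base := by
    rw [DenseRange, dense_iff_closure_eq, ι.isEmbedding.closure_eq_preimage_closure_image,
      ← Set.range_comp]
    have : ι.base ∘ t.base = s.base := by
      rw [← ht]; rfl
    rw [this, ← hrange, Set.preimage_range]
  have : IrreducibleSpace (vanishingIdeal W).subscheme := by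
    rw [irreducibleSpace_def]
    convert!
      ((IrreducibleSpace.isIrreducible_univ U.toScheme).image _
          t.continuous.continuousOn).closure
    simpa using hdense.closure_range.symm
  have : IsIntegral (vanishingIdeal W).subscheme := isIntegral_of_irreducibleSpace_of_isReduced _
  have hsec : t ≫ ι ≫ g = U.ι := by rw [← Category.assoc, ht, hs]
  have hiso : IsIso (ι ≫ g) := isIso_of_isIntegralHom_of_section hX (ι ≫ g) U t hsec
  refine ⟨inv (ι ≫ g) ≫ ι, by simp, ?_⟩
  have h1 : t = U.ι ≫ inv (ι ≫ g) := by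
    rw [IsIso.eq_comp_inv]; exact hsec
  rw [← Category.assoc, ← h1, ht]

end Groth.Agent.Lib.IntegralSection
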