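import Groth.Agent.Lib.H69SchReduced
import Groth.Agent.Lib.IntegralSection

/-!
# helper69: reduced induced closed subschemes and smooth base change

* `redSub W`, `redSubι W` : the reduced induced closed subscheme on a closed subset `W` of a scheme.
* `exists_lift_redSub` : a morphism from a reduced scheme with range in `W` factors through `redSub W`.
* `isPullback_redSub_of_smooth` : for `f : R ⟶ U` smooth, the reduced induced subscheme on `f ⁻¹ W` is the
  pullback of the reduced induced subscheme on `W`.
-/

set_option autoImplicit false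
universe u
open CategoryTheory CategoryTheory.Limits AlgebraicGeometry TopologicalSpace

namespace Groth.Agent.Lib.H69RedInduced

open Scheme.IdealSheafData

variable {X : Scheme.{u}}

/-- The reduced induced closed subscheme on a closed subset. -/
noncomputable abbrev redSub (W : Closeds X) : Scheme.{u} := (vanishingIdeal W).subscheme

/-- The closed immersion of the reduced induced closed subscheme. -/
noncomputable abbrev redSubι (W : Closeds X) : redSub W ⟶ X := (vanishingIdeal W).subschemeι

instance (W : Closeds X) : IsReduced (redSub W) :=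
  Groth.Agent.Lib.IntegralSection.isReduced_subscheme_vanishingIdeal W

theorem range_redSubι (W : Closeds X) : Set.range (redSubι W) = (W : Set X) := by
  rw [range_subschemeι, coe_support_vanishingIdeal]

/-- A morphism from a reduced scheme whose range lies in the closed set `W` factors through the reduced induced
closed subscheme on `W`. -/
theorem exists_lift_redSub {T : Scheme.{u}} [IsReduced T] (g : T ⟶ X) (W : Closeds X)
    (h : Set.range g ⊆ (W : Set X)) : ∃ l : T ⟶ redSub W, l ≫ redSubι W = g := by
  have hle : (redSubι W).ker ≤ g.ker := by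
    rw [ker_subschemeι]
    exact Groth.Agent.Lib.IntegralSection.vanishingIdeal_le_ker g W h
  exact ⟨IsClosedImmersion.lift (redSubι W) g hle, IsClosedImmersion.lift_fac _ _ _⟩

/-- Smooth base change of the reduced induced closed subscheme. -/
theorem isPullback_redSub_of_smooth {R U : Scheme.{u}} (f : R ⟶ U) [Smooth f] (WU : Closeds U)
    (WR : Closeds R) (h : (WR : Set R) = f ⁻¹' (WU : Set U)) :
    ∃ f' : redSub WR ⟶ redSub WU, IsPullback (redSubι WR) f' f (redSubι WU) := by
  -- the map on reduced subschemes
  obtain ⟨f', hf'⟩ := exists_lift_redSub (redSubι WR ≫ f) WU (by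
    rintro _ ⟨y, rfl⟩
    have hy : (redSubι WR) y ∈ (WR : Set R) := by
      rw [← range_redSubι]; exact ⟨y, rfl⟩
    rw [h] at hy
    exact hy)
  refine ⟨f', ?_⟩
  -- the pullback is reduced
  have : IsReduced (pullback f (redSubι WU)) :=
    Groth.Agent.Lib.H69SchReduced.isReduced_of_smooth (pullback.snd f (redSubι WU))
  obtain ⟨a, ha⟩ := exists_lift_redSub (pullback.fst f (redSubι WU)) WR (by
    rintro _ ⟨y, rfl⟩
    rw [h]
    change f ((pullback.fst f (redSubι WU)) y) ∈ (WU : Set U)
    rw [← Scheme.Hom.comp_apply, pullback.condition, Scheme.Hom.comp_apply, ← range_redSubι]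
    exact ⟨_, rfl⟩)
  let b : redSub WR ⟶ pullback f (redSubι WU) := pullback.lift (redSubι WR) f' hf'.symm
  have hb1 : b ≫ pullback.fst f (redSubι WU) = redSubι WR := pullback.lift_fst _ _ _
  have hb2 : b ≫ pullback.snd f (redSubι WU) = f' := pullback.lift_snd _ _ _
  have hab : a ≫ b = 𝟙 _ := by
    rw [← cancel_mono (pullback.fst f (redSubι WU)), Category.assoc, hb1, ha, Category.id_comp]
  have hba : b ≫ a = 𝟙 _ := by
    rw [← cancel_mono (redSubι WR), Category.assoc, ha, hb1, Category.id_comp]
  exact IsPullback.of_iso_pullback ⟨hf'.symm⟩ ⟨b, a, hba, hab⟩ hb1 hb2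

end Groth.Agent.Lib.H69RedInduced
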