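import Mathlib.AlgebraicGeometry.Geometrically.Reduced
import Mathlib.LinearAlgebra.TensorProduct.Basis
import Mathlib.RingTheory.LocalRing.ResidueField.Ideal
import Mathlib.RingTheory.Nilpotent.Lemmas

set_option autoImplicit false
universe u

namespace Groth.Agent.Lib.GeomReducedProd

open TensorProduct

/-- If `A ⊗[k] K` is reduced for every field extension `K` of `k` and `B` is a reduced
`k`-algebra, then `A ⊗[k] B` is reduced. -/
theorem isReduced_tensorProduct {k A B : Type u} [Field k] [CommRing A] [CommRing B]
    [Algebra k A] [Algebra k B] [IsReduced B]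
    (hA : ∀ (K : Type u) [Field K] [Algebra k K], IsReduced (A ⊗[k] K)) :
    IsReduced (A ⊗[k] B) := by
  classical
  let ℬ := Module.Free.chooseBasis k A
  refine ⟨fun z hz => ?_⟩
  apply (TensorProduct.equivFinsuppOfBasisLeft (N := B) ℬ).injective
  rw [map_zero]
  ext i
  have hc : ∀ (p : Ideal B) [p.IsPrime],
      (TensorProduct.equivFinsuppOfBasisLeft (N := B) ℬ z i) ∈ p := by
    intro p _
    let g : B →ₐ[k] p.ResidueField := IsScalarTower.toAlgHom k B p.ResidueField
    let G : A ⊗[k] B →ₐ[k] A ⊗[k] p.ResidueField :=
      Algebra.TensorProduct.map (AlgHom.id k A) g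
    have hGz : G z = 0 := by
      have := hA p.ResidueField
      exact (hz.map G).eq_zero
    have hnat : ∀ w : A ⊗[k] B,
        TensorProduct.equivFinsuppOfBasisLeft (N := p.ResidueField) ℬ (G w) i =
          g (TensorProduct.equivFinsuppOfBasisLeft (N := B) ℬ w i) := by
      intro w
      induction w using TensorProduct.induction_on with
      | zero => simp
      | tmul a b =>
        simp [G]
      | add x y hx hy => simp [map_add, hx, hy]
    have h1 := hnat z
    rw [hGz, map_zero, Finsupp.zero_apply] at h1
    exact Ideal.algebraMap_residueField_eq_zero.mp h1.symm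
  have hnil : TensorProduct.equivFinsuppOfBasisLeft (N := B) ℬ z i ∈ nilradical B := by
    rw [nilradical_eq_sInf, Ideal.mem_sInf]
    intro p hp
    exact @hc p hp
  rw [nilradical_eq_zero, Ideal.zero_eq_bot, Ideal.mem_bot] at hnil
  rw [hnil, Finsupp.zero_apply]

open AlgebraicGeometry CategoryTheory Limits

/-- Precomposing a geometrically reduced morphism with an open immersion. -/
lemma geometricallyReduced_comp_of_isOpenImmersion {U X Y : Scheme.{u}} (ι : U ⟶ X)
    [IsOpenImmersion ι] (f : X ⟶ Y) [GeometricallyReduced f] : GeometricallyReduced (ι ≫ f) := by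
  refine ⟨geometrically_iff_of_isClosedUnderIsomorphisms.mpr fun K _ y => ?_⟩
  have h1 : IsReduced (pullback f y) :=
    pullback_of_geometrically (GeometricallyReduced.geometrically_isReduced) K y
  have h2 : IsReduced (pullback ι (pullback.fst f y)) :=
    isReduced_of_isOpenImmersion (pullback.snd ι (pullback.fst f y))
  exact isReduced_of_isOpenImmersion (pullbackRightPullbackFstIso f y ι).inv

variable {k : Type u} [Field k]

lemma isReduced_pullback_Spec (A B : CommRingCat.{u}) (φ : CommRingCat.of k ⟶ A)
    (ψ : CommRingCat.of k ⟶ B) [GeometricallyReduced (Spec.map φ)] [IsReduced (Spec B)] :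
    IsReduced (pullback (Spec.map φ) (Spec.map ψ)) := by
  algebraize [φ.hom, ψ.hom]
  have hB : _root_.IsReduced B := (affine_isReduced_iff B).mp inferInstance
  have hA : ∀ (K : Type u) [Field K] [Algebra k K], _root_.IsReduced (A ⊗[k] K) := by
    intro K _ _
    have h1 : IsReduced (pullback (Spec.map φ) (Spec.map (CommRingCat.ofHom (algebraMap k K)))) :=
      pullback_of_geometrically (GeometricallyReduced.geometrically_isReduced) K _
    have h2 : IsReduced (Spec (CommRingCat.of (A ⊗[k] K))) :=
      isReduced_of_isOpenImmersion (pullbackSpecIso k A K).inv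
    exact (affine_isReduced_iff _).mp h2
  have h3 : _root_.IsReduced (A ⊗[k] B) := isReduced_tensorProduct hA
  have h4 : IsReduced (Spec (CommRingCat.of (A ⊗[k] B))) := inferInstance
  exact isReduced_of_isOpenImmersion (pullbackSpecIso k A B).hom

/-- The product of a geometrically reduced `k`-scheme with a reduced `k`-scheme is reduced. -/
theorem isReduced_pullback {X S : Scheme.{u}} (f : X ⟶ Spec (CommRingCat.of k))
    (g : S ⟶ Spec (CommRingCat.of k)) [GeometricallyReduced f] [IsReduced S] :
    IsReduced (pullback f g) := by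
  let 𝒰 := Scheme.Pullback.openCoverOfLeftRight X.affineOpenCover.openCover
    S.affineOpenCover.openCover f g
  have : ∀ ij, IsReduced (𝒰.X ij) := by
    rintro ⟨i, j⟩
    obtain ⟨φ, hφ⟩ := Spec.map_surjective (X.affineOpenCover.f i ≫ f)
    obtain ⟨ψ, hψ⟩ := Spec.map_surjective (S.affineOpenCover.f j ≫ g)
    have : GeometricallyReduced (Spec.map φ) := by
      rw [hφ]; exact geometricallyReduced_comp_of_isOpenImmersion _ _
    have : IsReduced (Spec (S.affineOpenCover.X j)) :=
      isReduced_of_isOpenImmersion (S.affineOpenCover.f j)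
    change IsReduced (pullback (X.affineOpenCover.f i ≫ f) (S.affineOpenCover.f j ≫ g))
    rw [← hφ, ← hψ]
    exact isReduced_pullback_Spec _ _ φ ψ
  exact IsReduced.of_openCover _ 𝒰

end Groth.Agent.Lib.GeomReducedProd
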