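import Groth.Agent.Lib.MacLane5H44
import Groth.Agent.Lib.GeomReducedProd
import Mathlib.RingTheory.HopfAlgebra.Convolution
import Mathlib.RingTheory.HopfAlgebra.Quotient

/-!
# The nilradical of a commutative Hopf algebra over a perfect field (helper41)

* `isReduced_tensor_of_perfectField`: over a perfect field the tensor product of two reduced
  algebras is reduced (helper44 `MacLane5H44` + helper73 `GeomReducedProd`).
* `isHopfIdeal_nilradical`: the nilradical of a commutative Hopf algebra over a perfect field is a
  Hopf ideal (`G_red` is a subgroup scheme).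
-/

set_option autoImplicit false
universe u
open scoped TensorProduct

namespace Groth.Agent.Lib.HopfNilrad41

/-- Over a perfect field the tensor product of two reduced algebras is reduced. -/
theorem isReduced_tensor_of_perfectField (k A B : Type u) [Field k] [PerfectField k]
    [CommRing A] [CommRing B] [Algebra k A] [Algebra k B] [IsReduced A] [IsReduced B] :
    IsReduced (A ⊗[k] B) := by
  apply Groth.Agent.Lib.GeomReducedProd.isReduced_tensorProduct
  intro K _ _
  have := Groth.Agent.Lib.MacLane5H44.isReduced_tensor_of_perfect k K A
  exact isReduced_of_injective (Algebra.TensorProduct.comm k A K).toRingHom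
    (Algebra.TensorProduct.comm k A K).injective

/-- The nilradical of a commutative Hopf algebra over a perfect field is a Hopf ideal. -/
theorem isHopfIdeal_nilradical (k : Type u) [Field k] [PerfectField k] (A : Type u) [CommRing A]
    [HopfAlgebra k A] : (nilradical A).IsHopfIdeal k := by
  have hred : IsReduced (A ⧸ nilradical A) :=
    (Ideal.isRadical_iff_quotient_reduced _).1 (Ideal.radical_isRadical _)
  have hred2 : IsReduced ((A ⧸ nilradical A) ⊗[k] (A ⧸ nilradical A)) :=
    isReduced_tensor_of_perfectField k _ _
  refine { counit_eq_zero := ?_, map_mkQ_comul_eq_zero := ?_, antipode_mem := ?_ }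
  · intro x hx
    have hx' : IsNilpotent x := mem_nilradical.1 hx
    have : IsNilpotent (Bialgebra.counitAlgHom k A x) := hx'.map _
    exact this.eq_zero
  · intro x hx
    have hx' : IsNilpotent x := mem_nilradical.1 hx
    let Φ : A →ₐ[k] (A ⧸ nilradical A) ⊗[k] (A ⧸ nilradical A) :=
      (Algebra.TensorProduct.map (Ideal.Quotient.mkₐ k (nilradical A))
        (Ideal.Quotient.mkₐ k (nilradical A))).comp (Bialgebra.comulAlgHom k A)
    have : IsNilpotent (Φ x) := hx'.map Φ
    exact this.eq_zero
  · intro x hx
    have hx' : IsNilpotent x := mem_nilradical.1 hx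
    have : IsNilpotent (HopfAlgebra.antipodeAlgHom k A x) := hx'.map _
    exact mem_nilradical.2 this

end Groth.Agent.Lib.HopfNilrad41
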