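import Groth.Agent.Lib.H69PairGrpd
import Groth.Agent.Lib.H69RedInduced
import Groth.Agent.Lib.HopfNilrad41
import Mathlib.AlgebraicGeometry.Morphisms.UniversallyOpen

/-!
# Reduced closure of the image of a morphism of groupoid schemes over a perfect field (helper69)

* `isReduced_pullback_of_perfectField`: product of reduced schemes over a perfect field is reduced.
* `denseRange_lift`: `a × a` has dense range if `a` has, when the projections are universally open.
* `redData f`: over a perfect field, the reduced induced closed subscheme on the closure of the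
  image of `f.fR` is stable under identity, inverse and composition.
-/

set_option autoImplicit false
universe u
open CategoryTheory CategoryTheory.Limits AlgebraicGeometry TopologicalSpace
open Grpd

namespace Groth.Agent.Lib.H69SubGrpdRed

open Groth.Agent.Lib.H69SubGrpd Groth.Agent.Lib.H69RedInduced

section reduced

open TensorProduct

variable {k : Type u} [Field k] [PerfectField k]

lemma isReduced_pullback_Spec (A B : CommRingCat.{u}) (φ : CommRingCat.of k ⟶ A)
    (ψ : CommRingCat.of k ⟶ B) [IsReduced (Spec A)] [IsReduced (Spec B)] :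
    IsReduced (pullback (Spec.map φ) (Spec.map ψ)) := by
  algebraize [φ.hom, ψ.hom]
  have hA : _root_.IsReduced A := (affine_isReduced_iff A).mp inferInstance
  have hB : _root_.IsReduced B := (affine_isReduced_iff B).mp inferInstance
  have h3 : _root_.IsReduced (A ⊗[k] B) :=
    Groth.Agent.Lib.HopfNilrad41.isReduced_tensor_of_perfectField k A B
  have h4 : IsReduced (Spec (CommRingCat.of (A ⊗[k] B))) := inferInstance
  exact isReduced_of_isOpenImmersion (pullbackSpecIso k A B).hom

/-- The product of two reduced schemes over a perfect field is reduced. -/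
theorem isReduced_pullback_Spec' {X Y : Scheme.{u}} (f : X ⟶ Spec (CommRingCat.of k))
    (g : Y ⟶ Spec (CommRingCat.of k)) [IsReduced X] [IsReduced Y] :
    IsReduced (pullback f g) := by
  let 𝒰 := Scheme.Pullback.openCoverOfLeftRight X.affineOpenCover.openCover
    Y.affineOpenCover.openCover f g
  have : ∀ ij, IsReduced (𝒰.X ij) := by
    rintro ⟨i, j⟩
    obtain ⟨φ, hφ⟩ := Spec.map_surjective (X.affineOpenCover.f i ≫ f)
    obtain ⟨ψ, hψ⟩ := Spec.map_surjective (Y.affineOpenCover.f j ≫ g)
    have : IsReduced (Spec (X.affineOpenCover.X i)) :=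
      isReduced_of_isOpenImmersion (X.affineOpenCover.f i)
    have : IsReduced (Spec (Y.affineOpenCover.X j)) :=
      isReduced_of_isOpenImmersion (Y.affineOpenCover.f j)
    change IsReduced (pullback (X.affineOpenCover.f i ≫ f) (Y.affineOpenCover.f j ≫ g))
    rw [← hφ, ← hψ]
    exact isReduced_pullback_Spec _ _ φ ψ
  exact IsReduced.of_openCover _ 𝒰

/-- Version with the base only isomorphic to `Spec k`. -/
theorem isReduced_pullback_of_perfectField {X Y U : Scheme.{u}}
    (eU : U ≅ Spec (CommRingCat.of k)) (f : X ⟶ U) (g : Y ⟶ U) [IsReduced X] [IsReduced Y] :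
    IsReduced (pullback f g) := by
  have H : IsPullback (pullback.fst f g) (pullback.snd f g) (f ≫ eU.hom) (g ≫ eU.hom) :=
    isPullback_comp_mono (IsPullback.of_hasPullback f g) eU.hom
  have := isReduced_pullback_Spec' (f ≫ eU.hom) (g ≫ eU.hom)
  exact isReduced_of_isOpenImmersion H.isoPullback.hom

end reduced

section dense

lemma range_snd_of_isPullback {P X Y T : Scheme.{u}} {pX : P ⟶ X} {pY : P ⟶ Y} {f : X ⟶ T}
    {g : Y ⟶ T} (H : IsPullback pX pY f g) : Set.range pY = g ⁻¹' Set.range f := by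
  have hs : Set.range ⇑H.isoPullback.hom = Set.univ :=
    Set.range_eq_univ.2 H.isoPullback.hom.homeomorph.surjective
  rw [← H.isoPullback_hom_snd, Scheme.Hom.comp_base, TopCat.coe_comp, Set.range_comp,
    hs, Set.image_univ, Scheme.Pullback.range_snd]

lemma denseRange_of_isPullback {P X Y T : Scheme.{u}} {pX : P ⟶ X} {pY : P ⟶ Y} {f : X ⟶ T}
    {g : Y ⟶ T} (H : IsPullback pX pY f g) (hf : DenseRange f) [UniversallyOpen g] :
    DenseRange pY := by
  rw [DenseRange, range_snd_of_isPullback H]
  exact Dense.preimage hf g.isOpenMap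

variable {X Z U U' P : Scheme.{u}} (a : X ⟶ Z) (ha : DenseRange a)
  (p q : Z ⟶ U) [UniversallyOpen p] [UniversallyOpen (a ≫ q)]
  {π₁ π₂ : P ⟶ X} {u v : X ⟶ U'} (j : U' ⟶ U) [Mono j] (H : IsPullback π₁ π₂ u v)
  (hu : u ≫ j = a ≫ p) (hv : v ≫ j = a ≫ q)

include ha H hu hv in
theorem denseRange_lift (d : P ⟶ pullback p q)
    (hd1 : d ≫ pullback.fst p q = π₁ ≫ a) (hd2 : d ≫ pullback.snd p q = π₂ ≫ a) :
    DenseRange d := by
  have H' : IsPullback π₁ π₂ (a ≫ p) (a ≫ q) := by
    have := isPullback_comp_mono H j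
    rwa [hu, hv] at this
  let d₁ : P ⟶ pullback p (a ≫ q) :=
    pullback.lift (π₁ ≫ a) π₂ (by rw [Category.assoc, H'.w])
  have hd₁1 : d₁ ≫ pullback.fst p (a ≫ q) = π₁ ≫ a := pullback.lift_fst _ _ _
  have hd₁2 : d₁ ≫ pullback.snd p (a ≫ q) = π₂ := pullback.lift_snd _ _ _
  let d₂ : pullback p (a ≫ q) ⟶ pullback p q :=
    pullback.lift (pullback.fst p (a ≫ q)) (pullback.snd p (a ≫ q) ≫ a)
      (by rw [Category.assoc, pullback.condition])
  have hd₂1 : d₂ ≫ pullback.fst p q = pullback.fst p (a ≫ q) := pullback.lift_fst _ _ _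
  have hd₂2 : d₂ ≫ pullback.snd p q = pullback.snd p (a ≫ q) ≫ a := pullback.lift_snd _ _ _
  have hdd : d = d₁ ≫ d₂ := by
    apply pullback.hom_ext
    · rw [hd1, Category.assoc, hd₂1, hd₁1]
    · rw [hd2, Category.assoc, hd₂2, ← Category.assoc, hd₁2]
  have hsq1 : IsPullback π₁ d₁ a (pullback.fst p (a ≫ q)) := by
    have hout : IsPullback (d₁ ≫ pullback.snd p (a ≫ q)) π₁ (a ≫ q) (a ≫ p) := by
      rw [hd₁2]; exact H'.flip
    exact (IsPullback.of_right hout hd₁1 (IsPullback.of_hasPullback p (a ≫ q)).flip).flip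
  have h1 : DenseRange d₁ := denseRange_of_isPullback hsq1 ha
  have hsq2 : IsPullback (pullback.snd p (a ≫ q)) d₂ a (pullback.snd p q) := by
    have hout : IsPullback (pullback.snd p (a ≫ q)) (d₂ ≫ pullback.fst p q) (a ≫ q) p := by
      rw [hd₂1]; exact (IsPullback.of_hasPullback p (a ≫ q)).flip
    exact IsPullback.of_bot hout hd₂2.symm (IsPullback.of_hasPullback p q).flip
  have h2 : DenseRange d₂ := denseRange_of_isPullback hsq2 ha
  rw [hdd, Scheme.Hom.comp_base, TopCat.coe_comp]
  exact h2.comp h1 d₂.continuous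

end dense


section red

open Scheme.IdealSheafData

/-- lift of a morphism from a reduced scheme through the reduced induced closed subscheme -/
noncomputable def liftRed {T X : Scheme.{u}} [IsReduced T] (g : T ⟶ X) (W : Closeds X)
    (h : Set.range g ⊆ (W : Set X)) : T ⟶ redSub W :=
  IsClosedImmersion.lift (redSubι W) g (by
    rw [ker_subschemeι]
    exact Groth.Agent.Lib.IntegralSection.vanishingIdeal_le_ker g W h)

lemma liftRed_fac {T X : Scheme.{u}} [IsReduced T] (g : T ⟶ X) (W : Closeds X)
    (h : Set.range g ⊆ (W : Set X)) : liftRed g W h ≫ redSubι W = g :=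
  IsClosedImmersion.lift_fac _ _ _

variable {S : Scheme.{u}} {G₁ G₂ : GroupoidScheme S} (f : GroupoidScheme.Hom G₁ G₂)

/-- closure of the image of the arrow map -/
def clW : Closeds G₂.R := ⟨closure (Set.range f.fR), isClosed_closure⟩

lemma range_subset_clW {T : Scheme.{u}} (g : T ⟶ G₁.R) :
    Set.range (g ≫ f.fR) ⊆ (clW f : Set G₂.R) := by
  rintro _ ⟨x, rfl⟩
  exact subset_closure ⟨g x, rfl⟩

variable [IsIso f.fU] (k : Type u) [Field k] [PerfectField k]
  (eU : G₂.U ≅ Spec (CommRingCat.of k))

/-- Over a perfect field, the reduced closure of the image of a morphism of groupoid schemes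
(iso on objects) is stable under identity, inverse and composition. -/
noncomputable def redData : SubData G₂ (redSubι (clW f)) := by
  have hsub : Subsingleton G₂.U := eU.hom.homeomorph.subsingleton
  have hne : Nonempty G₂.U := ⟨eU.inv (IsLocalRing.closedPoint k)⟩
  have hint : IsIntegral G₂.U := isIntegral_of_isOpenImmersion eU.hom
  have hredU : IsReduced G₂.U := inferInstance
  -- identity
  have hee : G₂.e = (inv f.fU ≫ G₁.e) ≫ f.fR := by
    rw [Category.assoc, Groth.Agent.Lib.GrpdPts18.hom_e f, IsIso.inv_hom_id_assoc]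
  have he : Set.range G₂.e ⊆ (clW f : Set G₂.R) := by
    rw [hee]; exact range_subset_clW f _
  -- inverse
  have hi : Set.range (redSubι (clW f) ≫ G₂.i) ⊆ (clW f : Set G₂.R) := by
    rintro _ ⟨z, rfl⟩
    have hz : (redSubι (clW f)) z ∈ closure (Set.range f.fR) := by
      have : (redSubι (clW f)) z ∈ Set.range (redSubι (clW f)) := ⟨z, rfl⟩
      rw [range_redSubι] at this
      exact this
    have h1 : G₂.i '' closure (Set.range f.fR) ⊆ closure (G₂.i '' Set.range f.fR) :=
      image_closure_subset_closure_image G₂.i.continuous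
    have h2 : G₂.i '' Set.range f.fR ⊆ Set.range f.fR := by
      rintro _ ⟨_, ⟨x, rfl⟩, rfl⟩
      refine ⟨G₁.i x, ?_⟩
      have := congrArg (fun φ : G₁.R ⟶ G₂.R => φ x) (Groth.Agent.Lib.GrpdPts18.hom_i f)
      simpa using this
    rw [Scheme.Hom.comp_apply]
    exact closure_mono h2 (h1 ⟨_, hz, rfl⟩)
  -- composition
  let ι := redSubι (clW f)
  let ρ := redSubι (⊤ : Closeds G₁.R)
  have hρ : Function.Surjective ρ := by
    rw [← Set.range_eq_univ, range_redSubι]; rfl
  let a : redSub (⊤ : Closeds G₁.R) ⟶ redSub (clW f) :=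
    liftRed (ρ ≫ f.fR) (clW f) (range_subset_clW f ρ)
  have haι : a ≫ ι = ρ ≫ f.fR := liftRed_fac _ _ _
  have hrange : ι '' Set.range a = Set.range f.fR := by
    rw [← Set.range_comp]
    have : (⇑ι ∘ ⇑a) = ⇑(a ≫ ι) := by ext x; simp
    rw [this, haι, Scheme.Hom.comp_base, TopCat.coe_comp, Set.range_comp,
      Set.range_eq_univ.2 hρ, Set.image_univ]
  have hdense : DenseRange a := by
    rw [DenseRange, dense_iff_closure_eq,
      (ι.isClosedEmbedding.isEmbedding.isInducing).closure_eq_preimage_closure_image, hrange]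
    ext z
    simp only [Set.mem_preimage, Set.mem_univ, iff_true]
    have : ι z ∈ Set.range ι := ⟨z, rfl⟩
    rw [range_redSubι] at this
    exact this
  have hredZ : IsReduced (pullback (ι ≫ G₂.s) (ι ≫ G₂.t)) :=
    isReduced_pullback_of_perfectField eU _ _
  have hu : (ρ ≫ G₁.s) ≫ f.fU = a ≫ ι ≫ G₂.s := by
    rw [← Category.assoc a, haι, Category.assoc, Category.assoc, f.comm_s]
  have hv : (ρ ≫ G₁.t) ≫ f.fU = a ≫ ι ≫ G₂.t := by
    rw [← Category.assoc a, haι, Category.assoc, Category.assoc, f.comm_t]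
  let d : pullback (ρ ≫ G₁.s) (ρ ≫ G₁.t) ⟶ pullback (ι ≫ G₂.s) (ι ≫ G₂.t) :=
    pullback.lift (pullback.fst _ _ ≫ a) (pullback.snd _ _ ≫ a)
      (by
        rw [Category.assoc, Category.assoc, ← hu, ← hv]
        exact pullback.condition_assoc _)
  have hd : DenseRange d :=
    denseRange_lift a hdense (ι ≫ G₂.s) (ι ≫ G₂.t) f.fU
      (IsPullback.of_hasPullback (ρ ≫ G₁.s) (ρ ≫ G₁.t)) hu hv d (pullback.lift_fst _ _ _)
      (pullback.lift_snd _ _ _)
  have hcond : (pullback.fst (ρ ≫ G₁.s) (ρ ≫ G₁.t) ≫ ρ) ≫ G₁.s =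
      (pullback.snd (ρ ≫ G₁.s) (ρ ≫ G₁.t) ≫ ρ) ≫ G₁.t := by
    rw [Category.assoc, Category.assoc, pullback.condition]
  have hdc : d ≫ pmap G₂ ι ≫ G₂.c =
      (pullback.lift (pullback.fst (ρ ≫ G₁.s) (ρ ≫ G₁.t) ≫ ρ)
        (pullback.snd (ρ ≫ G₁.s) (ρ ≫ G₁.t) ≫ ρ) hcond ≫ G₁.c) ≫ f.fR := by
    rw [f.comm_c _ _ hcond, ← Category.assoc]
    congr 1
    unfold pmap
    apply pullback.hom_ext
    · rw [Category.assoc, pullback.lift_fst, ← Category.assoc, pullback.lift_fst,
        pullback.lift_fst, Category.assoc, haι, Category.assoc]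
    · rw [Category.assoc, pullback.lift_snd, ← Category.assoc, pullback.lift_snd,
        pullback.lift_snd, Category.assoc, haι, Category.assoc]
  have hc : Set.range (pmap G₂ ι ≫ G₂.c) ⊆ (clW f : Set G₂.R) := by
    rintro _ ⟨w, rfl⟩
    have hw : w ∈ closure (Set.range d) := by rw [hd.closure_range]; trivial
    have h1 := image_closure_subset_closure_image (pmap G₂ ι ≫ G₂.c).continuous
      ⟨w, hw, rfl⟩
    refine closure_mono ?_ h1
    rintro _ ⟨_, ⟨y, rfl⟩, rfl⟩
    rw [← Scheme.Hom.comp_apply, hdc, Scheme.Hom.comp_apply]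
    exact ⟨_, rfl⟩
  exact
    { eZ := liftRed G₂.e (clW f) he
      he := liftRed_fac _ _ _
      iZ := liftRed (ι ≫ G₂.i) (clW f) hi
      hi := liftRed_fac _ _ _
      cZ := liftRed (pmap G₂ ι ≫ G₂.c) (clW f) hc
      hc := liftRed_fac _ _ _ }

end red

section main

open Groth.Agent.Lib.H69PairGrpd

variable {S : Scheme.{u}}

/-- S7491: reduced closure of the image of a morphism of groupoid schemes over a perfect field. -/
theorem exists_groupoid_red {G₁ G₂ : GroupoidScheme S} (f : GroupoidScheme.Hom G₁ G₂)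
    [IsIso f.fU] (k : Type u) [Field k] [PerfectField k] (eU : G₂.U ≅ Spec (CommRingCat.of k)) :
    ∃ (G' : GroupoidScheme S) (ψ : GroupoidScheme.Hom G' G₂), IsIso ψ.fU ∧
      IsClosedImmersion ψ.fR ∧ IsReduced G'.R ∧
      Set.range ⇑ψ.fR = closure (Set.range ⇑f.fR) := by
  refine ⟨(redData f k eU).groupoid, (redData f k eU).hom, ?_, ?_, ?_, ?_⟩
  · change IsIso (𝟙 _); infer_instance
  · change IsClosedImmersion (redSubι (clW f)); infer_instance
  · change IsReduced (redSub (clW f)); infer_instance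
  · exact range_redSubι (clW f)

/-- S7503: reduced closure of the image of `j` over a perfect field. -/
theorem exists_groupoid_red_j (G : GroupoidScheme S) (k : Type u) [Field k] [PerfectField k]
    (eU : G.U ≅ Spec (CommRingCat.of k)) :
    ∃ (G' : GroupoidScheme S) (ψ : G'.U ≅ G.U) (hψ : ψ.hom ≫ G.pU = G'.pU),
      IsReduced G'.R ∧ IsClosedImmersion G'.j ∧
      Set.range ⇑(G'.j ≫ pullback.map G'.pU G'.pU G.pU G.pU ψ.hom ψ.hom (𝟙 S)
        ((Category.comp_id _).trans hψ.symm) ((Category.comp_id _).trans hψ.symm)) =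
        closure (Set.range ⇑G.j) := by
  have hiso : IsIso (jHom G).fU := by change IsIso (𝟙 _); infer_instance
  let D := redData (jHom G) k eU
  have hj : D.groupoid.j = redSubι (clW (jHom G)) := by
    apply pullback.hom_ext
    · exact pullback.lift_fst _ _ _
    · exact pullback.lift_snd _ _ _
  refine ⟨D.groupoid, Iso.refl _, Category.id_comp _, ?_, ?_, ?_⟩
  · change IsReduced (redSub (clW (jHom G))); infer_instance
  · have hcl : IsClosedImmersion (redSubι (clW (jHom G))) := inferInstance
    rw [hj]; exact hcl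
  · have hm : pullback.map D.groupoid.pU D.groupoid.pU G.pU G.pU (Iso.refl D.groupoid.U).hom
        (Iso.refl D.groupoid.U).hom (𝟙 S)
        ((Category.comp_id _).trans (Category.id_comp G.pU).symm)
        ((Category.comp_id _).trans (Category.id_comp G.pU).symm) = 𝟙 (pullback G.pU G.pU) := by
      apply pullback.hom_ext
      · exact (pullback.lift_fst _ _ _).trans
          ((Category.comp_id _).trans (Category.id_comp _).symm)
      · exact (pullback.lift_snd _ _ _).trans
          ((Category.comp_id _).trans (Category.id_comp _).symm)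
    rw [hj, hm]
    have := range_redSubι (clW (jHom G))
    refine Eq.trans ?_ this
    exact congrArg (fun φ : redSub (clW (jHom G)) ⟶ pullback G.pU G.pU => Set.range ⇑φ)
      (Category.comp_id _)

end main

end Groth.Agent.Lib.H69SubGrpdRed
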