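import Mathlib.Topology.NoetherianSpace
import Mathlib.Topology.Connected.LocallyConnected
import Mathlib.Topology.Connected.Clopen
import Mathlib.Data.List.TFAE
import Mathlib.Tactic.TFAE

set_option autoImplicit false
universe u

namespace Groth.Agent.Lib.NoethTop

open Set Topology TopologicalSpace

variable {X : Type u} [TopologicalSpace X]

/-- An irreducible set meeting a connected component is contained in it. -/
theorem subset_connectedComponent_of_isPreirreducible {Z : Set X} (hZ : IsPreirreducible Z) {x y : X}
    (hyZ : y ∈ Z) (hyC : y ∈ connectedComponent x) : Z ⊆ connectedComponent x := by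
  rw [connectedComponent_eq hyC]
  exact hZ.isPreconnected.subset_connectedComponent hyZ

/-- In a space with finitely many irreducible components, connected components are open. -/
theorem isOpen_connectedComponent_of_finite (h : (irreducibleComponents X).Finite) (x : X) :
    IsOpen (connectedComponent x) := by
  have heq : connectedComponent x =
      (⋃₀ {Z ∈ irreducibleComponents X | ¬ Z ⊆ connectedComponent x})ᶜ := by
    ext y
    simp only [mem_compl_iff, mem_sUnion, mem_ofPred_eq, not_exists, not_and, and_imp]
    constructor
    · intro hy Z hZ hZC hyZ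
      exact hZC (subset_connectedComponent_of_isPreirreducible hZ.1.isPreirreducible hyZ hy)
    · intro H
      by_contra hy
      refine H (irreducibleComponent y) (irreducibleComponent_mem_irreducibleComponents y) ?_
        mem_irreducibleComponent
      intro hsub
      exact hy (hsub mem_irreducibleComponent)
  rw [heq, isOpen_compl_iff, sUnion_eq_biUnion]
  refine Set.Finite.isClosed_biUnion (h.subset fun Z hZ ↦ hZ.1) fun Z hZ ↦ ?_
  exact isClosed_of_mem_irreducibleComponents Z hZ.1

/-- A space in which every point has a Noetherian neighbourhood is locally connected. -/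
theorem locallyConnectedSpace_of_locallyNoetherian
    (hX : ∀ x : X, ∃ U ∈ nhds x, NoetherianSpace U) : LocallyConnectedSpace X := by
  rw [locallyConnectedSpace_iff_connected_subsets]
  intro x U hU
  obtain ⟨N, hN, hNoeth⟩ := hX x
  let W : Set X := interior (U ∩ N)
  have hWopen : IsOpen W := isOpen_interior
  have hxW : x ∈ W := mem_interior_iff_mem_nhds.mpr (Filter.inter_mem hU hN)
  have hWN : W ⊆ N := interior_subset.trans inter_subset_right
  have hWU : W ⊆ U := interior_subset.trans inter_subset_left
  have : NoetherianSpace W := NoetherianSpace.of_subset hWN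
  let C : Set W := connectedComponent (⟨x, hxW⟩ : W)
  have hCopen : IsOpen C :=
    isOpen_connectedComponent_of_finite NoetherianSpace.finite_irreducibleComponents _
  refine ⟨Subtype.val '' C, ?_, ?_, ?_⟩
  · refine (hWopen.isOpenMap_subtype_val C hCopen).mem_nhds ?_
    exact ⟨⟨x, hxW⟩, mem_connectedComponent, rfl⟩
  · exact isPreconnected_connectedComponent.image _ continuous_subtype_val.continuousOn
  · rintro _ ⟨y, -, rfl⟩
    exact hWU y.2

/-- If the irreducible components are pairwise disjoint and every point has a Noetherian
neighbourhood, then every irreducible component is open. -/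
theorem isOpen_of_mem_irreducibleComponents_of_pairwiseDisjoint
    (hX : ∀ x : X, ∃ U ∈ nhds x, NoetherianSpace U)
    (hd : (irreducibleComponents X).PairwiseDisjoint id) {Z : Set X}
    (hZ : Z ∈ irreducibleComponents X) : IsOpen Z := by
  rw [isOpen_iff_mem_nhds]
  intro x hxZ
  obtain ⟨N, hN, hNoeth⟩ := hX x
  let W : Set X := interior N
  have hWopen : IsOpen W := isOpen_interior
  have hxW : x ∈ W := mem_interior_iff_mem_nhds.mpr hN
  have : NoetherianSpace W := NoetherianSpace.of_subset interior_subset
  have hfin : (irreducibleComponents W).Finite := NoetherianSpace.finite_irreducibleComponents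
  let x' : W := ⟨x, hxW⟩
  let F : Set W := ⋃₀ {Y ∈ irreducibleComponents W | x' ∉ Y}
  have hFclosed : IsClosed F := by
    change IsClosed (⋃₀ {Y ∈ irreducibleComponents W | x' ∉ Y})
    rw [sUnion_eq_biUnion]
    exact Set.Finite.isClosed_biUnion (hfin.subset fun Y hY ↦ hY.1)
      fun Y hY ↦ isClosed_of_mem_irreducibleComponents Y hY.1
  have hx'F : x' ∉ F := by
    simp only [F, mem_sUnion, mem_ofPred_eq, not_exists, not_and, and_imp]
    intro Y _ hxY hxY'
    exact hxY hxY'
  have hopen : IsOpen (Subtype.val '' Fᶜ) := hWopen.isOpenMap_subtype_val _ hFclosed.isOpen_compl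
  refine Filter.mem_of_superset (hopen.mem_nhds ⟨x', hx'F, rfl⟩) ?_
  rintro _ ⟨y, hyF, rfl⟩
  -- an irreducible component of `W` through `y` contains `x'`
  have hxY : x' ∈ irreducibleComponent y := by
    by_contra hcon
    exact hyF ⟨irreducibleComponent y,
      ⟨irreducibleComponent_mem_irreducibleComponents y, hcon⟩, mem_irreducibleComponent⟩
  have hirr : IsIrreducible (Subtype.val '' irreducibleComponent y) :=
    isIrreducible_irreducibleComponent.image _ continuous_subtype_val.continuousOn
  obtain ⟨Z', hZ', hsub⟩ := exists_mem_irreducibleComponents_subset_of_isIrreducible _ hirr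
  have hxZ' : x ∈ Z' := hsub ⟨x', hxY, rfl⟩
  have hZZ' : Z' = Z := by
    by_contra hne
    exact (Set.disjoint_left.mp (hd hZ' hZ hne)) hxZ' hxZ
  rw [← hZZ']
  exact hsub ⟨y, mem_irreducibleComponent, rfl⟩

/-- The four conditions on irreducible components of a locally Noetherian space. -/
theorem tfae_irreducibleComponents_open
    (hX : ∀ x : X, ∃ U ∈ nhds x, NoetherianSpace U) :
    List.TFAE [∀ Z ∈ irreducibleComponents X, IsOpen Z,
      irreducibleComponents X = Set.range (connectedComponent : X → Set X),
      ∀ x : X, IsIrreducible (connectedComponent x),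
      (irreducibleComponents X).PairwiseDisjoint id] := by
  have key : (∀ Z ∈ irreducibleComponents X, IsOpen Z) → ∀ Z ∈ irreducibleComponents X,
      ∀ x ∈ Z, Z = connectedComponent x := by
    intro h Z hZ x hxZ
    refine le_antisymm (hZ.1.isPreirreducible.isPreconnected.subset_connectedComponent hxZ) ?_
    exact IsClopen.connectedComponent_subset
      ⟨isClosed_of_mem_irreducibleComponents Z hZ, h Z hZ⟩ hxZ
  tfae_have 1 → 2 := by
    intro h
    ext Z
    constructor
    · intro hZ
      obtain ⟨x, hxZ⟩ := hZ.1.nonempty
      exact ⟨x, (key h Z hZ x hxZ).symm⟩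
    · rintro ⟨x, rfl⟩
      rw [← key h _ (irreducibleComponent_mem_irreducibleComponents x) x mem_irreducibleComponent]
      exact irreducibleComponent_mem_irreducibleComponents x
  tfae_have 2 → 3 := by
    intro h x
    have : connectedComponent x ∈ irreducibleComponents X := h ▸ ⟨x, rfl⟩
    exact this.1
  tfae_have 3 → 4 := by
    intro h Z₁ hZ₁ Z₂ hZ₂ hne
    rw [Function.onFun, Set.disjoint_left]
    intro y hy₁ hy₂
    apply hne
    have h1 : Z₁ ⊆ connectedComponent y :=
      hZ₁.1.isPreirreducible.isPreconnected.subset_connectedComponent hy₁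
    have h2 : Z₂ ⊆ connectedComponent y :=
      hZ₂.1.isPreirreducible.isPreconnected.subset_connectedComponent hy₂
    have e1 : Z₁ = connectedComponent y := le_antisymm h1 (hZ₁.2 (h y) h1)
    have e2 : Z₂ = connectedComponent y := le_antisymm h2 (hZ₂.2 (h y) h2)
    exact e1.trans e2.symm
  tfae_have 4 → 1 := fun hd Z hZ ↦
    isOpen_of_mem_irreducibleComponents_of_pairwiseDisjoint hX hd hZ
  tfae_finish

end Groth.Agent.Lib.NoethTop
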