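import Groth.Agent.Lib.GrpIdComp45
import Groth.Agent.Lib.NoethTop
import Groth.Agent.Lib.H69SubGrpdRed
import Groth.Agent.Lib.ActOpen18

/-!
# The identity component of a group scheme over a field: functorial points and cosets (helper45)

`K` a field, `G` an ARBITRARY group scheme over `K`, `C0 = connectedComponent (unitPt G)`.

* `mulSet_cc_subset`, `isSubgrpSet_cc` : `C0` is a subgroup-subset.
* `range_div_subset` : `g h⁻¹` lands in `C0` for `T`-points `g`, `h` landing in `C0`.
* `range_conj_subset` : `g n g⁻¹` lands in `C0` for `n` landing in `C0`.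
* `isClopen_mulSet_singleton` : cosets `{x} · W` of an open subgroup-subset are clopen.
* `connectedComponent_eq_mulSet`, `isCompact_connectedComponent`,
  `isIrreducible_connectedComponent` : if `C0` is open, the connected component of `x` is
  `{x} · C0`, irreducible and quasi-compact.
* `isOpen_cc` : `C0` is open when `G` is locally of finite type.
-/

set_option autoImplicit false
set_option linter.unusedSectionVars false
universe u
open CategoryTheory CategoryTheory.Limits MonoidalCategory CartesianMonoidalCategory MonObj GrpObj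
  AlgebraicGeometry
open Groth.Agent.Lib.GrpTopPts45 Groth.Agent.Lib.GrpIdComp45

namespace Groth.Agent.Lib.GrpIdCompPts45

variable {K : Type u} [Field K] (G : Over (Spec (CommRingCat.of K))) [GrpObj G]

theorem mulSet_cc_subset :
    mulSet G (connectedComponent (unitPt G)) (connectedComponent (unitPt G)) ⊆
      connectedComponent (unitPt G) := by
  obtain ⟨G₀, hG₀, incl, hincl, hcl, hfl, hr, hgeo, hcpt⟩ := exists_identityComponent G
  have h := Groth.Agent.Lib.GrpTopDiv45.range_tensorHom_comp_mul incl incl
  rw [hr] at h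
  rw [← h]
  have h2 : (incl ⊗ₘ incl) ≫ μ[G] = μ[G₀] ≫ incl := (IsMonHom.mul_hom (f := incl)).symm
  rw [h2]
  rintro _ ⟨z, rfl⟩
  rw [← hr, Over.comp_left, Scheme.Hom.comp_apply]
  exact ⟨_, rfl⟩

theorem isSubgrpSet_cc : IsSubgrpSet G (connectedComponent (unitPt G)) :=
  ⟨mem_connectedComponent, mulSet_cc_subset G, inv_cc_subset G⟩

variable {G}

theorem range_div_subset {T : Over (Spec (CommRingCat.of K))} (g h : T ⟶ G)
    (hg : Set.range g.left ⊆ connectedComponent (unitPt G))
    (hh : Set.range h.left ⊆ connectedComponent (unitPt G)) :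
    Set.range (g * h⁻¹).left ⊆ connectedComponent (unitPt G) := by
  rintro _ ⟨t, rfl⟩
  apply mulSet_cc_subset G
  refine mul_mem_mulSet g h⁻¹ t (hg ⟨t, rfl⟩) ?_
  rw [inv_left_apply]
  exact inv_cc_subset G ⟨_, hh ⟨t, rfl⟩, rfl⟩

theorem range_conj_subset {T : Over (Spec (CommRingCat.of K))} (g n : T ⟶ G)
    (hn : Set.range n.left ⊆ connectedComponent (unitPt G)) :
    Set.range (g * n * g⁻¹).left ⊆ connectedComponent (unitPt G) := by
  obtain ⟨G₀, hG₀, incl, hincl, hcl, hfl, hr, hgeo, hcpt⟩ := exists_identityComponent G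
  obtain ⟨l, hl⟩ := Groth.Agent.Lib.FlatClosedSub45.exists_lift_of_range_subset incl.left n.left
    (hr ▸ hn)
  let n₀ : T ⟶ G₀ := Over.homMk l (by rw [← Over.w incl, ← Category.assoc, hl, Over.w])
  have hn₀ : n₀ ≫ incl = n := by
    apply Over.OverMorphism.ext
    exact hl
  let φ : T ⊗ G₀ ⟶ G := (fst T G₀ ≫ g) * (snd T G₀ ≫ incl) * (fst T G₀ ≫ g)⁻¹
  have h1 : lift (𝟙 T) n₀ ≫ φ = g * n * g⁻¹ := by
    simp only [φ, MonObj.comp_mul, GrpObj.comp_inv, lift_fst_assoc, lift_snd_assoc,
      Category.id_comp, hn₀]
  have h2 : lift (𝟙 T) (1 : T ⟶ G₀) ≫ φ = 1 := by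
    have h3 : (1 : T ⟶ G₀) ≫ incl = 1 := by
      rw [Hom.one_def, Category.assoc, IsMonHom.one_hom, ← Hom.one_def]
    simp only [φ, MonObj.comp_mul, GrpObj.comp_inv, lift_fst_assoc, lift_snd_assoc,
      Category.id_comp, h3, _root_.mul_one, _root_.mul_inv_cancel]
  have hgi : GeometricallyIrreducible (pullback.fst T.hom G₀.hom) := inferInstance
  have huo : UniversallyOpen G₀.hom := inferInstance
  have huo2 : UniversallyOpen (pullback.fst T.hom G₀.hom) := inferInstance
  rintro _ ⟨t, rfl⟩
  have hirr : IsIrreducible ((fst T G₀).left ⁻¹' {t}) :=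
    (pullback.fst T.hom G₀.hom).isIrreducible_preimage (pullback.fst T.hom G₀.hom).isOpenMap
      isIrreducible_singleton
  have hpre : _root_.IsPreconnected (φ.left '' ((fst T G₀).left ⁻¹' {t})) :=
    hirr.isPreirreducible.isPreconnected.image _ φ.left.continuous.continuousOn
  have hunit : unitPt G ∈ φ.left '' ((fst T G₀).left ⁻¹' {t}) := by
    refine ⟨(lift (𝟙 T) (1 : T ⟶ G₀)).left t, ?_, ?_⟩
    · change (fst T G₀).left ((lift (𝟙 T) (1 : T ⟶ G₀)).left t) = t
      rw [← Scheme.Hom.comp_apply, ← Over.comp_left, lift_fst]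
      rfl
    · rw [← Scheme.Hom.comp_apply, ← Over.comp_left, h2, one_left_apply]
  apply hpre.subset_connectedComponent hunit
  refine ⟨(lift (𝟙 T) n₀).left t, ?_, ?_⟩
  · change (fst T G₀).left ((lift (𝟙 T) n₀).left t) = t
    rw [← Scheme.Hom.comp_apply, ← Over.comp_left, lift_fst]
    rfl
  · rw [← Scheme.Hom.comp_apply, ← Over.comp_left, h1]

/-- Cosets of an open subgroup-subset are clopen. -/
theorem isClopen_mulSet_singleton {W : Set G.left} (hW : IsSubgrpSet G W) (ho : IsOpen W)
    (x : G.left) : IsClopen (mulSet G {x} W) := by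
  refine ⟨?_, isOpen_mulSet_right _ ho⟩
  rw [← isOpen_compl_iff, isOpen_iff_forall_mem_open]
  intro g hg
  refine ⟨mulSet G {g} W, ?_, isOpen_mulSet_right _ ho, subset_mulSet_right hW.one_mem rfl⟩
  intro y hy hyW
  apply hg
  obtain ⟨Q, z, a, b, ha, hb, rfl⟩ := mem_mulSet_iff.mp hy
  have h1 : a.left z = ((a * b) * b⁻¹).left z := by rw [mul_inv_cancel_right]
  have ha' : a.left z = g := ha
  rw [← ha', h1]
  have h2 : ((a * b) * b⁻¹).left z ∈ mulSet G (mulSet G {x} W) W :=
    mul_mem_mulSet _ _ _ hyW (hW.inv_mem (by rw [inv_left_apply]; exact ⟨_, hb, rfl⟩))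
  exact mulSet_mono subset_rfl hW.mul_mem (mulSet_assoc_subset {x} W W h2)

section coset

variable (x : G.left)

/-- `{x} · C0` is the image of `Spec κ(x) × G⁰`. -/
lemma exists_irreducible_compact_cover :
    ∃ (Z : Scheme.{u}) (f : Z ⟶ G.left), IrreducibleSpace Z ∧ CompactSpace Z ∧
      Set.range f = mulSet G {x} (connectedComponent (unitPt G)) := by
  obtain ⟨G₀, hG₀, incl, hincl, hcl, hfl, hr, hgeo, hcpt⟩ := exists_identityComponent G
  have hsq := (Groth.Agent.Lib.ActOpen18.isPullback_whiskerLeft_snd (ptObj x) incl).flip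
  have hrange := Groth.Agent.Lib.H69SubGrpdRed.range_snd_of_isPullback hsq
  refine ⟨(ptObj x ⊗ G₀).left, ((ptObj x ◁ incl) ≫ lact x).left, ?_, ?_, ?_⟩
  · have h1 : UniversallyOpen G₀.hom := inferInstance
    have h2 : GeometricallyIrreducible G₀.hom := hgeo
    have h3 : IrreducibleSpace ↥(ptObj x).left :=
      inferInstanceAs (IrreducibleSpace ↥(Spec (G.left.residueField x)))
    change IrreducibleSpace ↥(pullback (ptObj x).hom G₀.hom)
    infer_instance
  · have h1 : QuasiCompact G₀.hom := (quasiCompact_iff_compactSpace G₀.hom).mpr hcpt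
    have h2 : QuasiCompact (pullback.fst (ptObj x).hom G₀.hom) := inferInstance
    have h3 : CompactSpace ↥(ptObj x).left :=
      inferInstanceAs (CompactSpace ↥(Spec (G.left.residueField x)))
    change CompactSpace ↥(pullback (ptObj x).hom G₀.hom)
    exact QuasiCompact.compactSpace_of_compactSpace (pullback.fst (ptObj x).hom G₀.hom)
  · rw [mulSet_singleton_eq, ← hr, ← hrange, Over.comp_left, Scheme.Hom.comp_base,
      TopCat.coe_comp, Set.range_comp]

theorem isIrreducible_mulSet_singleton_cc :
    IsIrreducible (mulSet G {x} (connectedComponent (unitPt G))) := by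
  obtain ⟨Z, f, h1, h2, h3⟩ := exists_irreducible_compact_cover x
  rw [← h3, ← Set.image_univ]
  exact (IrreducibleSpace.isIrreducible_univ _).image _ f.continuous.continuousOn

theorem isCompact_mulSet_singleton_cc :
    IsCompact (mulSet G {x} (connectedComponent (unitPt G))) := by
  obtain ⟨Z, f, h1, h2, h3⟩ := exists_irreducible_compact_cover x
  rw [← h3]
  exact isCompact_range f.continuous

variable (ho : IsOpen (connectedComponent (unitPt G)))
include ho

/-- If the identity component is open, the connected component of `x` is the coset `{x} · C0`. -/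
theorem connectedComponent_eq_mulSet :
    connectedComponent x = mulSet G {x} (connectedComponent (unitPt G)) := by
  apply Set.Subset.antisymm
  · exact (isClopen_mulSet_singleton (isSubgrpSet_cc G) ho x).connectedComponent_subset
      (subset_mulSet_right mem_connectedComponent rfl)
  · exact (isIrreducible_mulSet_singleton_cc x).isPreirreducible.isPreconnected.subset_connectedComponent
      (subset_mulSet_right mem_connectedComponent rfl)

theorem isCompact_connectedComponent : IsCompact (connectedComponent x) := by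
  rw [connectedComponent_eq_mulSet x ho]
  exact isCompact_mulSet_singleton_cc x

theorem isIrreducible_connectedComponent : IsIrreducible (connectedComponent x) := by
  rw [connectedComponent_eq_mulSet x ho]
  exact isIrreducible_mulSet_singleton_cc x

end coset

/-- In a locally Noetherian scheme all connected components are open. -/
theorem isOpen_connectedComponent_of_isLocallyNoetherian (X : Scheme.{u}) [IsLocallyNoetherian X]
    (x : X) : IsOpen (connectedComponent x) := by
  have : LocallyConnectedSpace X := by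
    apply Groth.Agent.Lib.NoethTop.locallyConnectedSpace_of_locallyNoetherian
    intro x
    obtain ⟨_, ⟨V, hV, rfl⟩, hxV, -⟩ :=
      X.isBasis_affineOpens.exists_subset_of_mem_open (Set.mem_univ x) isOpen_univ
    replace hV : IsAffineOpen V := hV
    have : IsNoetherianRing Γ(X, V) := IsLocallyNoetherian.component_noetherian ⟨V, hV⟩
    exact ⟨(V : Set X), V.isOpen.mem_nhds hxV, noetherianSpace_of_isAffineOpen V hV⟩
  exact isOpen_connectedComponent

end Groth.Agent.Lib.GrpIdCompPts45
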