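import Groth.Agent.Lib.HomogUC45
import Groth.Agent.Lib.GrpIdCompPts45

/-!
# Product sets `A · B` for a group scheme acting on a scheme over a field (helper45)

`actSet a A B = a(pr₁⁻¹ A ∩ pr₂⁻¹ B)` for `A ⊆ |G|`, `B ⊆ |X|`; calculus through `T`-points,
openness as soon as `B` is open.
-/

set_option autoImplicit false
set_option linter.unusedSectionVars false
universe u
open CategoryTheory CategoryTheory.Limits MonoidalCategory CartesianMonoidalCategory MonObj GrpObj
  AlgebraicGeometry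
open Groth.Agent.Lib.GrpTopPts45 Groth.Agent.Lib.GrpAction Groth.Agent.Lib.HomogUC45

namespace Groth.Agent.Lib.ActSet45

variable {k : Type u} [Field k] {G X : Over (Spec (CommRingCat.of k))} [GrpObj G]
  (a : AlgGrp.Action G X)

/-- The product set `A · B = a(pr₁⁻¹ A ∩ pr₂⁻¹ B)`. -/
def actSet (A : Set G.left) (B : Set X.left) : Set X.left :=
  a.act.left '' ((fst G X).left ⁻¹' A ∩ (snd G X).left ⁻¹' B)

variable {a}

lemma act_mem_actSet {T : Over (Spec (CommRingCat.of k))} (g : T ⟶ G) (b : T ⟶ X) (t : T.left)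
    {A : Set G.left} {B : Set X.left} (hg : g.left t ∈ A) (hb : b.left t ∈ B) :
    (lift g b ≫ a.act).left t ∈ actSet a A B := by
  refine ⟨(lift g b).left t, ⟨?_, ?_⟩, ?_⟩
  · change (fst G X).left ((lift g b).left t) ∈ A
    rw [← Scheme.Hom.comp_apply, ← Over.comp_left, lift_fst]
    exact hg
  · change (snd G X).left ((lift g b).left t) ∈ B
    rw [← Scheme.Hom.comp_apply, ← Over.comp_left, lift_snd]
    exact hb
  · rw [← Scheme.Hom.comp_apply, ← Over.comp_left]

lemma lift_fst_snd_id : lift (fst G X) (snd G X) = 𝟙 (G ⊗ X) := by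
  apply CartesianMonoidalCategory.hom_ext <;> simp

lemma mem_actSet_iff {x : X.left} {A : Set G.left} {B : Set X.left} :
    x ∈ actSet a A B ↔ ∃ (Q : Over (Spec (CommRingCat.of k))) (z : Q.left) (g : Q ⟶ G)
      (b : Q ⟶ X), g.left z ∈ A ∧ b.left z ∈ B ∧ (lift g b ≫ a.act).left z = x := by
  constructor
  · rintro ⟨s, ⟨hs1, hs2⟩, rfl⟩
    refine ⟨G ⊗ X, s, fst G X, snd G X, hs1, hs2, ?_⟩
    rw [lift_fst_snd_id, Category.id_comp]
  · rintro ⟨Q, z, g, b, hg, hb, rfl⟩
    exact act_mem_actSet g b z hg hb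

lemma exists_of_mem_actSet {T : Over (Spec (CommRingCat.of k))} (c : T ⟶ X) (t : T.left)
    {A : Set G.left} {B : Set X.left} (h : c.left t ∈ actSet a A B) :
    ∃ (Q : Over (Spec (CommRingCat.of k))) (q : Q ⟶ T) (z : Q.left) (g : Q ⟶ G) (b : Q ⟶ X),
      q.left z = t ∧ g.left z ∈ A ∧ b.left z ∈ B ∧ q ≫ c = lift g b ≫ a.act := by
  obtain ⟨s, ⟨hs1, hs2⟩, hs⟩ := h
  obtain ⟨Q, q, q', z, hz1, hz2, hq⟩ := exists_common c a.act t s hs.symm
  refine ⟨Q, q, z, q' ≫ fst G X, q' ≫ snd G X, hz1, ?_, ?_, ?_⟩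
  · rw [comp_left_apply, hz2]; exact hs1
  · rw [comp_left_apply, hz2]; exact hs2
  · rw [hq, ← comp_lift, lift_fst_snd_id, Category.comp_id]

lemma actSet_mono {A A' : Set G.left} {B B' : Set X.left} (hA : A ⊆ A') (hB : B ⊆ B') :
    actSet a A B ⊆ actSet a A' B' :=
  Set.image_mono (Set.inter_subset_inter (Set.preimage_mono hA) (Set.preimage_mono hB))

lemma subset_actSet {A : Set G.left} {B : Set X.left} (hA : unitPt G ∈ A) : B ⊆ actSet a A B := by
  intro x hx
  have := act_mem_actSet (a := a) (1 : X ⟶ G) (𝟙 X) x (A := A) (B := B)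
    (by rw [one_left_apply]; exact hA) (by simpa using hx)
  rw [one_act] at this
  simpa using this

lemma actSet_actSet_subset (A A' : Set G.left) (B : Set X.left) :
    actSet a A (actSet a A' B) ⊆ actSet a (mulSet G A A') B := by
  intro x hx
  obtain ⟨Q, z, g, c, hg, hc, rfl⟩ := mem_actSet_iff.mp hx
  obtain ⟨Q', q, z', g', b, hz, h1, h2, hq⟩ := exists_of_mem_actSet c z hc
  have e : lift ((q ≫ g) * g') b ≫ a.act = q ≫ (lift g c ≫ a.act) := by
    rw [mul_act, ← hq, ← comp_lift_act]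
  have : (lift g c ≫ a.act).left z = (lift ((q ≫ g) * g') b ≫ a.act).left z' := by
    rw [e, comp_left_apply q (lift g c ≫ a.act) z', hz]
  rw [this]
  refine act_mem_actSet _ _ _ (mul_mem_mulSet _ _ _ ?_ h1) h2
  rw [comp_left_apply, hz]; exact hg

/-- If `x ∈ A · {y}` then `y ∈ A⁻¹ · {x}`. -/
lemma mem_actSet_inv {x y : X.left} {A : Set G.left} (h : x ∈ actSet a A {y}) :
    y ∈ actSet a (ι[G].left '' A) {x} := by
  obtain ⟨Q, z, g, b, hg, hb, rfl⟩ := mem_actSet_iff.mp h
  have e : lift g⁻¹ (lift g b ≫ a.act) ≫ a.act = b := by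
    rw [← mul_act, inv_mul_cancel, one_act]
  have := act_mem_actSet (a := a) g⁻¹ (lift g b ≫ a.act) z (A := ι[G].left '' A)
    (B := {(lift g b ≫ a.act).left z}) (by rw [inv_left_apply]; exact ⟨_, hg, rfl⟩) rfl
  rw [e] at this
  rw [Set.mem_singleton_iff] at hb
  rwa [hb] at this

variable (a) in
/-- Translation by the point `g`: `X ×ₖ Spec κ(g) ⟶ X`, `(x, p) ↦ g · x`. -/
noncomputable def lactX (g : G.left) : X ⊗ ptObj g ⟶ X :=
  (transl a (ptHom g)).hom ≫ fst X (ptObj g)

lemma lactX_eq (g : G.left) :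
    lactX a g = lift (snd X (ptObj g) ≫ ptHom g) (fst X (ptObj g)) ≫ a.act := by
  change translHom a (ptHom g) ≫ fst X (ptObj g) = _
  unfold translHom
  rw [lift_fst]

lemma isOpenMap_lactX (g : G.left) : IsOpenMap (lactX a g).left := by
  have hiso : IsIso (transl a (ptHom g)).hom.left :=
    inferInstanceAs (IsIso ((Over.forget _).map (transl a (ptHom g)).hom))
  have htr : IsOpenMap (transl a (ptHom g)).hom.left :=
    (transl a (ptHom g)).hom.left.homeomorph.isOpenMap
  unfold lactX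
  rw [Over.comp_left, Scheme.Hom.comp_base, TopCat.coe_comp]
  exact (isOpenMap_fst X (ptObj g)).comp htr

lemma actSet_singleton_eq (g : G.left) (B : Set X.left) :
    actSet a {g} B = (lactX a g).left '' ((fst X (ptObj g)).left ⁻¹' B) := by
  ext y
  constructor
  · intro hy
    obtain ⟨Q, z, g', b, hg, hb, rfl⟩ := mem_actSet_iff.mp hy
    obtain ⟨Q', q, q', z', hz1, -, hq⟩ := exists_common g' (ptHom g) z (ptPt g)
      (by rw [ptHom_left_apply]; exact hg)
    refine ⟨(lift (q ≫ b) q').left z', ?_, ?_⟩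
    · change (fst X (ptObj g)).left ((lift (q ≫ b) q').left z') ∈ B
      rw [← Scheme.Hom.comp_apply, ← Over.comp_left, lift_fst, comp_left_apply, hz1]
      exact hb
    · rw [← Scheme.Hom.comp_apply, ← Over.comp_left, lactX_eq, ← Category.assoc, comp_lift,
        ← Category.assoc, lift_snd, lift_fst, ← hq, ← comp_lift, Category.assoc, comp_left_apply,
        hz1]
  · rintro ⟨s, hs, rfl⟩
    rw [lactX_eq]
    exact act_mem_actSet _ _ _ (by rw [comp_left_apply, ptHom_left_apply]; rfl) hs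

lemma actSet_eq_biUnion (A : Set G.left) (B : Set X.left) :
    actSet a A B = ⋃ g ∈ A, actSet a {g} B := by
  ext y
  simp only [actSet, Set.mem_image, Set.mem_inter_iff, Set.mem_preimage, Set.mem_iUnion,
    Set.mem_singleton_iff, exists_prop]
  constructor
  · rintro ⟨s, ⟨h1, h2⟩, rfl⟩
    exact ⟨_, h1, s, ⟨rfl, h2⟩, rfl⟩
  · rintro ⟨x, hx, s, ⟨h1, h2⟩, rfl⟩
    exact ⟨s, ⟨h1 ▸ hx, h2⟩, rfl⟩

/-- `A · B` is open as soon as `B` is. -/
theorem isOpen_actSet (A : Set G.left) {B : Set X.left} (hB : IsOpen B) :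
    IsOpen (actSet a A B) := by
  rw [actSet_eq_biUnion]
  refine isOpen_biUnion fun g _ => ?_
  rw [actSet_singleton_eq]
  exact isOpenMap_lactX g _ (hB.preimage (fst X (ptObj g)).left.continuous)

end Groth.Agent.Lib.ActSet45
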