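import Mathlib
import Groth.Prelude.Def_AlgGrp
import Groth.Agent.Lib.ActOpen18

/-!
# The largest open over which an equivariant morphism has a property is stable (helper18)

* `restrict_sSup` : `P` Zariski-local at the target, `P (f ∣_ U)` for all `U ∈ 𝒮` ⟹ `P (f ∣_ sSup 𝒮)`.
* `isPullback_whiskerLeft_act` : for equivariant `f`, `G ◁ f` is the base change of `f` along the
  action map.
* `stable_of_descends` : the main statement.
-/

set_option autoImplicit false
set_option maxHeartbeats 400000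
universe u
open CategoryTheory MonoidalCategory CartesianMonoidalCategory MonObj AlgebraicGeometry

namespace Groth.Agent.Lib.ActStable18

lemma restrict_sSup (P : MorphismProperty Scheme.{u}) [IsZariskiLocalAtTarget P]
    {X Y : Scheme.{u}} (f : X ⟶ Y) (𝒮 : Set Y.Opens) (h : ∀ U ∈ 𝒮, P (f ∣_ U)) :
    P (f ∣_ sSup 𝒮) := by
  refine IsZariskiLocalAtTarget.of_iSup_eq_top (f := f ∣_ sSup 𝒮)
    (fun i : 𝒮 => (sSup 𝒮).ι ⁻¹ᵁ i.1) ?_ ?_
  · apply (sSup 𝒮).ι.image_injective
    dsimp only
    rw [Scheme.Hom.image_iSup, Scheme.Hom.image_top_eq_opensRange, Scheme.Opens.opensRange_ι]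
    simp only [Scheme.Hom.image_preimage_eq_opensRange_inf, Scheme.Opens.opensRange_ι]
    apply le_antisymm
    · exact iSup_le fun i => inf_le_left
    · refine sSup_le fun U hU => ?_
      exact le_iSup_of_le ⟨U, hU⟩ (le_inf (le_sSup hU) le_rfl)
  · intro i
    rw [P.arrow_mk_iso_iff (morphismRestrictRestrict f (sSup 𝒮) _)]
    have e : (sSup 𝒮).ι ''ᵁ ((sSup 𝒮).ι ⁻¹ᵁ i.1) = i.1 := by
      rw [Scheme.Hom.image_preimage_eq_opensRange_inf, Scheme.Opens.opensRange_ι]
      exact inf_eq_right.mpr (le_sSup i.2)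
    rw [P.arrow_mk_iso_iff (morphismRestrictEq f e)]
    exact h i.1 i.2

section act

variable {S : Scheme.{u}} {G X Y : Over S} [GrpObj G] (aX : AlgGrp.Action G X)
  (aY : AlgGrp.Action G Y) (f : X ⟶ Y)

open Groth.Agent.Lib.GrpAction in
lemma shear_whiskerLeft (hf : (G ◁ f) ≫ aY.act = aX.act ≫ f) :
    shear aX ≫ (G ◁ f) = (G ◁ f) ≫ shear aY := by
  apply CartesianMonoidalCategory.hom_ext
  · rw [Category.assoc, whiskerLeft_fst, shear_fst, Category.assoc, shear_fst, whiskerLeft_fst]
  · rw [Category.assoc, whiskerLeft_snd, shear_snd_assoc, Category.assoc, shear_snd, hf]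

open Groth.Agent.Lib.GrpAction in
lemma isPullback_whiskerLeft_act (hf : (G ◁ f) ≫ aY.act = aX.act ≫ f) :
    IsPullback (G ◁ f).left aX.act.left aY.act.left f.left := by
  have h1 := Groth.Agent.Lib.ActOpen18.isPullback_whiskerLeft_snd G f
  haveI := isIso_shear_left aX
  haveI := isIso_shear_left aY
  have h2 : IsPullback (shear aX).left (G ◁ f).left (G ◁ f).left (shear aY).left :=
    IsPullback.of_horiz_isIso
      ⟨by rw [← Over.comp_left, ← Over.comp_left, shear_whiskerLeft aX aY f hf]⟩
  have h3 := h2.paste_horiz h1.flip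
  rw [← Over.comp_left, ← Over.comp_left, shear_snd, shear_snd] at h3
  exact h3.flip

end act

end Groth.Agent.Lib.ActStable18
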