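import Groth.Agent.Lib.GrpAction

/-!
# Restriction of an action to a stable subobject (helper45)

`restrict a j b hb : AlgGrp.Action G Y` for a monomorphism `j : Y ⟶ X` and `b : G ⊗ Y ⟶ Y` with
`b ≫ j = (G ◁ j) ≫ a.act`.
-/

set_option autoImplicit false
universe u

open CategoryTheory MonoidalCategory CartesianMonoidalCategory MonObj AlgebraicGeometry

namespace Groth.Agent.Lib.ActionRestrict45

variable {S : Scheme.{u}} {G X Y : Over S} [GrpObj G] (a : AlgGrp.Action G X)

/-- The restriction of an action to a stable subobject. -/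
noncomputable def restrict (j : Y ⟶ X) [Mono j] (b : G ⊗ Y ⟶ Y)
    (hb : b ≫ j = (G ◁ j) ≫ a.act) : AlgGrp.Action G Y where
  act := b
  one_act := by
    rw [← cancel_mono j, Category.assoc, hb, ← whisker_exchange_assoc, a.one_act,
      leftUnitor_naturality]
  mul_act := by
    rw [← cancel_mono j]
    simp only [Category.assoc]
    rw [hb, ← whisker_exchange_assoc, a.mul_act, ← MonoidalCategory.whiskerLeft_comp_assoc G b j,
      hb, MonoidalCategory.whiskerLeft_comp_assoc, associator_naturality_right_assoc]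

@[simp]
lemma restrict_act (j : Y ⟶ X) [Mono j] (b : G ⊗ Y ⟶ Y)
    (hb : b ≫ j = (G ◁ j) ≫ a.act) : (restrict a j b hb).act = b := rfl

lemma restrict_act_comp (j : Y ⟶ X) [Mono j] (b : G ⊗ Y ⟶ Y)
    (hb : b ≫ j = (G ◁ j) ≫ a.act) {T : Over S} (g : T ⟶ G) (y : T ⟶ Y) :
    (lift g y ≫ (restrict a j b hb).act) ≫ j = lift g (y ≫ j) ≫ a.act := by
  rw [restrict_act, Category.assoc, hb, lift_whiskerLeft_assoc]

end Groth.Agent.Lib.ActionRestrict45
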