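import Mathlib.Algebra.Homology.DerivedCategory.TStructure
import Mathlib.Algebra.Homology.DerivedCategory.FullyFaithful
import Mathlib.CategoryTheory.Shift.CommShift
import Mathlib.CategoryTheory.Triangulated.Functor
import Mathlib.CategoryTheory.Triangulated.TStructure.TruncLEGT
import Mathlib.Tactic

/-!
# Way-out lemmas for natural transformations of triangulated functors on `D(A)`

* `mapTriangleHom`, `isIso_app₂_of_distTriang`: 2-out-of-3 for `IsIso (η.app _)` on distinguished
  triangles.
* `isIso_homologyMap_truncLEι`, `isIso_homologyMap_truncGEπ`: cohomology of the canonical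
  truncations in `D(A)`.
* `isIso_app_of_bounded`: bounded way-out lemma.
-/

open CategoryTheory Limits Category Pretriangulated Triangulated

universe w v u w' v' u'

namespace Groth.Agent.Lib.DWayOut

set_option linter.unusedSectionVars false

section General

variable {C D : Type*} [Category C] [Category D] [HasShift C ℤ] [HasShift D ℤ]
  [HasZeroObject C] [HasZeroObject D] [Preadditive C] [Preadditive D]
  [∀ n : ℤ, (shiftFunctor C n).Additive] [∀ n : ℤ, (shiftFunctor D n).Additive]
  [Pretriangulated C] [Pretriangulated D]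
  (F G : C ⥤ D) [F.CommShift ℤ] [G.CommShift ℤ] [F.IsTriangulated] [G.IsTriangulated]
  (η : F ⟶ G) [NatTrans.CommShift η ℤ]

set_option backward.isDefEq.respectTransparency.types false in
set_option backward.defeqAttrib.useBackward true in
/-- The morphism of triangles induced by a natural transformation commuting with shifts. -/
@[simps!]
def mapTriangleHom (T : Triangle C) : F.mapTriangle.obj T ⟶ G.mapTriangle.obj T :=
  Triangle.homMk _ _ (η.app _) (η.app _) (η.app _) (by simp) (by simp) (by
    dsimp
    simp only [assoc, NatTrans.shift_app_comm η (1 : ℤ) T.obj₁, NatTrans.naturality_assoc])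

include F G in
lemma isIso_app₂_of_distTriang (T : Triangle C) (hT : T ∈ distTriang C)
    (h₁ : IsIso (η.app T.obj₁)) (h₃ : IsIso (η.app T.obj₃)) : IsIso (η.app T.obj₂) :=
  isIso₂_of_isIso₁₃ (mapTriangleHom F G η T) (F.map_distinguished T hT)
    (G.map_distinguished T hT) h₁ h₃

omit [HasShift C ℤ] [HasShift D ℤ] [HasZeroObject C] [HasZeroObject D] [Preadditive C]
  [Preadditive D] [∀ n : ℤ, (shiftFunctor C n).Additive] [∀ n : ℤ, (shiftFunctor D n).Additive]
  [Pretriangulated C] [Pretriangulated D] [F.CommShift ℤ] [G.CommShift ℤ] [F.IsTriangulated]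
  [G.IsTriangulated] [NatTrans.CommShift η ℤ] in
lemma isIso_app_of_iso {X Y : C} (e : X ≅ Y) (h : IsIso (η.app X)) : IsIso (η.app Y) := by
  have : η.app Y = F.map e.inv ≫ η.app X ≫ G.map e.hom := by
    rw [← η.naturality, ← Functor.map_comp_assoc, e.inv_hom_id, CategoryTheory.Functor.map_id, id_comp]
  rw [this]
  infer_instance

omit [HasZeroObject C] [HasZeroObject D] [Preadditive C]
  [Preadditive D] [∀ n : ℤ, (shiftFunctor C n).Additive] [∀ n : ℤ, (shiftFunctor D n).Additive]
  [Pretriangulated C] [Pretriangulated D] [F.IsTriangulated] [G.IsTriangulated] in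
lemma isIso_app_shift (X : C) (n : ℤ) (h : IsIso (η.app X)) : IsIso (η.app (X⟦n⟧)) := by
  rw [NatTrans.app_shift η n X]
  infer_instance

include F G in
lemma isIso_app_of_isZero (X : C) (hX : IsZero X) : IsIso (η.app X) := by
  have h1 : IsZero (F.obj X) := F.map_isZero hX
  have h2 : IsZero (G.obj X) := G.map_isZero hX
  exact ⟨⟨0, h1.eq_of_src _ _, h2.eq_of_src _ _⟩⟩

end General

section Derived

variable {A : Type u} [Category.{v} A] [Abelian A] [HasDerivedCategory.{w} A]

open DerivedCategory DerivedCategory.TStructure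

lemma isIso_homologyMap_truncLEι (X : DerivedCategory A) (m j : ℤ) (hj : j ≤ m) :
    IsIso ((homologyFunctor A j).map ((t.truncLEι m).app X)) := by
  have hT := t.triangleLEGE_distinguished m (m + 1) rfl X
  have hmono : Mono ((homologyFunctor A j).map ((t.truncLEι m).app X)) := by
    refine (HomologySequence.mono_homologyMap_mor₁_iff _ hT (j - 1) j (by lia)).mpr ?_
    exact (isZero_of_isGE ((t.truncGE (m + 1)).obj X) (m + 1) (j - 1) (by lia)).eq_of_src _ _
  have hepi : Epi ((homologyFunctor A j).map ((t.truncLEι m).app X)) := by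
    refine (HomologySequence.epi_homologyMap_mor₁_iff _ hT j).mpr ?_
    exact (isZero_of_isGE ((t.truncGE (m + 1)).obj X) (m + 1) j (by lia)).eq_of_tgt _ _
  exact isIso_of_mono_of_epi _

lemma isIso_homologyMap_truncGEπ (X : DerivedCategory A) (m j : ℤ) (hj : m ≤ j) :
    IsIso ((homologyFunctor A j).map ((t.truncGEπ m).app X)) := by
  have hT := t.triangleLEGE_distinguished (m - 1) m (by lia) X
  have hmono : Mono ((homologyFunctor A j).map ((t.truncGEπ m).app X)) := by
    refine (HomologySequence.mono_homologyMap_mor₂_iff _ hT j).mpr ?_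
    exact (isZero_of_isLE ((t.truncLE (m - 1)).obj X) (m - 1) j (by lia)).eq_of_src _ _
  have hepi : Epi ((homologyFunctor A j).map ((t.truncGEπ m).app X)) := by
    refine (HomologySequence.epi_homologyMap_mor₂_iff _ hT j (j + 1) rfl).mpr ?_
    exact (isZero_of_isLE ((t.truncLE (m - 1)).obj X) (m - 1) (j + 1) (by lia)).eq_of_tgt _ _
  exact isIso_of_mono_of_epi _

variable {B : Type u'} [Category.{v'} B] [Abelian B] [HasDerivedCategory.{w'} B]
  (P : ObjectProperty A) [P.IsClosedUnderIsomorphisms]
  (F G : DerivedCategory A ⥤ DerivedCategory B) [F.CommShift ℤ] [G.CommShift ℤ]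
  [F.IsTriangulated] [G.IsTriangulated] (η : F ⟶ G) [NatTrans.CommShift η ℤ]

include P in
/-- Objects concentrated in a single degree `a` with `H^a ∈ P`. -/
lemma isIso_app_of_single_degree
    (hη : ∀ X : A, P X → IsIso (η.app ((singleFunctor A 0).obj X)))
    (X : DerivedCategory A) (a : ℤ) [X.IsGE a] [X.IsLE a]
    (hX : P ((homologyFunctor A a).obj X)) : IsIso (η.app X) := by
  obtain ⟨M, ⟨e⟩⟩ := exists_iso_singleFunctor_obj_of_isGE_of_isLE X a
  have hM : P M := by
    refine P.prop_of_iso ?_ hX
    exact (homologyFunctor A a).mapIso e ≪≫ (singleFunctorCompHomologyFunctorIso A a).app M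
  have e' : ((singleFunctor A 0).obj M)⟦-a⟧ ≅ (singleFunctor A a).obj M :=
    ((DerivedCategory.singleFunctors A).shiftIso (-a) a 0 (by lia)).app M
  have h1 : IsIso (η.app (((singleFunctor A 0).obj M)⟦-a⟧)) :=
    isIso_app_shift F G η _ (-a) (hη M hM)
  exact isIso_app_of_iso F G η (e' ≪≫ e.symm) h1

include P in
theorem isIso_app_of_bounded_aux
    (hη : ∀ X : A, P X → IsIso (η.app ((singleFunctor A 0).obj X)))
    (n : ℕ) : ∀ (X : DerivedCategory A) (a : ℤ) [X.IsGE a] [X.IsLE (a + n)]
      (_ : ∀ i : ℤ, a ≤ i → i ≤ a + n → P ((homologyFunctor A i).obj X)), IsIso (η.app X) := by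
  induction n with
  | zero =>
    intro X a _ _ hX
    have : X.IsLE a := by
      have h : X.IsLE (a + (0 : ℕ)) := inferInstance
      simpa using h
    exact isIso_app_of_single_degree P F G η hη X a (hX a le_rfl (by simp))
  | succ n ih =>
    intro X a _ _ hX
    have hXle : X.IsLE ((a + 1) + n) := by
      have h : X.IsLE (a + ((n + 1 : ℕ) : ℤ)) := inferInstance
      have e : a + ((n + 1 : ℕ) : ℤ) = (a + 1) + n := by push_cast; ring
      rwa [e] at h
    let L := (t.truncLE a).obj X
    let R := (t.truncGE (a + 1)).obj X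
    have hT := t.triangleLEGE_distinguished a (a + 1) rfl X
    have i1 : L.IsLE a := by dsimp [L]; infer_instance
    have i1' : L.IsGE a := by dsimp [L]; infer_instance
    have i3 : R.IsGE (a + 1) := by dsimp [R]; infer_instance
    have i3' : R.IsLE ((a + 1) + n) := by dsimp [R]; infer_instance
    have hL : IsIso (η.app L) := by
      apply isIso_app_of_single_degree P F G η hη L a
      have := isIso_homologyMap_truncLEι X a a le_rfl
      exact P.prop_of_iso (asIso ((homologyFunctor A a).map ((t.truncLEι a).app X))).symm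
        (hX a le_rfl (by push_cast; lia))
    have hR : IsIso (η.app R) := by
      apply ih R (a + 1)
      intro i hi1 hi2
      have := isIso_homologyMap_truncGEπ X (a + 1) i hi1
      exact P.prop_of_iso (asIso ((homologyFunctor A i).map ((t.truncGEπ (a + 1)).app X)))
        (hX i (by lia) (by push_cast; lia))
    exact isIso_app₂_of_distTriang F G η _ hT hL hR

include P in
/-- Bounded way-out lemma: only the cohomology objects in the range `[a, b]` need to be in `P`. -/
theorem isIso_app_of_bounded
    (hη : ∀ X : A, P X → IsIso (η.app ((singleFunctor A 0).obj X)))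
    (X : DerivedCategory A) (a b : ℤ) [X.IsGE a] [X.IsLE b]
    (hX : ∀ i : ℤ, a ≤ i → i ≤ b → P ((homologyFunctor A i).obj X)) : IsIso (η.app X) := by
  by_cases hab : b < a
  · exact isIso_app_of_isZero F G η X (t.isZero X b a hab)
  · obtain ⟨n, rfl⟩ : ∃ n : ℕ, b = a + n := ⟨(b - a).toNat, by lia⟩
    exact isIso_app_of_bounded_aux P F G η hη n X a hX

end Derived

end Groth.Agent.Lib.DWayOut
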