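import Groth.Agent.Lib.AcycHocolimMain31
import Groth.Agent.Lib.DWayOut

/-!
# The unit of an unbounded right derived functor at complexes of acyclic objects, III (helper31)

* `isIso_η_app_of_sg`: the unit `F(K) ⟶ RF(K)` is an isomorphism for a complex `K` with
  `F`-acyclic terms as soon as, for every `i`, `H^i(RF(σ_{≥ a} K)) ⟶ H^i(RF(K))` is an
  isomorphism for some `a < i`.
* `isIso_truncGE_map`: `τ_{≥ a} φ` is an isomorphism if `H^i(φ)` is for all `i ≥ a`.
* `isIso_homology_map_of_truncGEπ`: if `H^j(G K) ⟶ H^j(G τ_{≥ a} K)` is an isomorphism for `K`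
  and `K'` and `H^i(φ)` is an isomorphism for `i ≥ a`, then `H^j(G φ)` is an isomorphism.
-/

set_option autoImplicit false
set_option linter.style.haveILetI false
set_option linter.unusedSectionVars false

open CategoryTheory Limits Pretriangulated

universe w w' v v' u u'

namespace Groth.Agent.AcycBound31

open Groth.Agent.RDPlus31 Groth.Agent.Lib.SigmaGE66 Groth.Agent.AcycHocolim31

section Unit

variable {A : Type u} [Category.{v} A] [Abelian A] [HasDerivedCategory.{w} A] [EnoughInjectives A]
  {B : Type u'} [Category.{v'} B] [Abelian B] [HasDerivedCategory.{w'} B]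
  (F : A ⥤ B) [F.Additive] [PreservesFiniteLimits F]
  (RF : DerivedCategory A ⥤ DerivedCategory B) (η : Φ F ⟶ DerivedCategory.Qh ⋙ RF)
  [RF.IsRightDerivedFunctor η (HomotopyCategory.quasiIso A (ComplexShape.up ℤ))]
  [(Φ F).HasPointwiseRightDerivedFunctor (HomotopyCategory.quasiIso A (ComplexShape.up ℤ))]

theorem isIso_η_app_of_sg (K : CochainComplex A ℤ) (hK : ∀ m, UAcyc F (K.X m))
    (h : ∀ i : ℤ, ∃ a : ℤ, a + 1 ≤ i ∧
      IsIso ((DerivedCategory.homologyFunctor B i).map
        (RF.map (DerivedCategory.Q.map (sgι K a))))) :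
    IsIso (η.app ((HomotopyCategory.quotient A (ComplexShape.up ℤ)).obj K)) := by
  rw [DerivedCategory.isIso_iff]
  intro i
  obtain ⟨a, hai, ha⟩ := h i
  have hb : IsIso ((DerivedCategory.homologyFunctor B i).map
      ((Φ F).map ((HomotopyCategory.quotient A (ComplexShape.up ℤ)).map (sgι K a)))) :=
    isIso_homology_Φ_map F _ i (isIso_sgι_f K _ (i - 1) (by omega))
      (isIso_sgι_f K _ i (by omega)) (isIso_sgι_f K _ (i + 1) (by omega))
  haveI := isStrictlyGE_sg K a
  have hηL : IsIso (η.app ((HomotopyCategory.quotient A (ComplexShape.up ℤ)).obj (sg K a))) :=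
    isIso_η_of_uAcyc F RF η _ a (uAcyc_sg F K hK _)
  have nat := η.naturality ((HomotopyCategory.quotient A (ComplexShape.up ℤ)).map (sgι K a))
  have e1 := (DerivedCategory.homologyFunctor B i).map_comp
    ((Φ F).map ((HomotopyCategory.quotient A (ComplexShape.up ℤ)).map (sgι K a)))
    (η.app ((HomotopyCategory.quotient A (ComplexShape.up ℤ)).obj K))
  have e2 := (DerivedCategory.homologyFunctor B i).map_comp
    (η.app ((HomotopyCategory.quotient A (ComplexShape.up ℤ)).obj (sg K a)))
    ((DerivedCategory.Qh ⋙ RF).map ((HomotopyCategory.quotient A (ComplexShape.up ℤ)).map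
      (sgι K a)))
  have e3 := congrArg (DerivedCategory.homologyFunctor B i).map nat
  have ha' : IsIso ((DerivedCategory.homologyFunctor B i).map
      ((DerivedCategory.Qh ⋙ RF).map ((HomotopyCategory.quotient A (ComplexShape.up ℤ)).map
        (sgι K a)))) := ha
  have k3 : IsIso ((DerivedCategory.homologyFunctor B i).map
      ((Φ F).map ((HomotopyCategory.quotient A (ComplexShape.up ℤ)).map (sgι K a))) ≫
      (DerivedCategory.homologyFunctor B i).map
        (η.app ((HomotopyCategory.quotient A (ComplexShape.up ℤ)).obj K))) := by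
    rw [← e1, e3, e2]
    exact IsIso.comp_isIso' inferInstance ha'
  exact @IsIso.of_isIso_comp_left _ _ _ _ _ _ _ hb k3

end Unit

section Trunc

open DerivedCategory DerivedCategory.TStructure

variable {A : Type u} [Category.{v} A] [Abelian A] [HasDerivedCategory.{w} A]

/-- `τ_{≥ a} φ` is an isomorphism if `H^i(φ)` is one for all `i ≥ a` -/
lemma isIso_truncGE_map {K K' : DerivedCategory A} (φ : K ⟶ K') (a : ℤ)
    (h : ∀ i : ℤ, a ≤ i → IsIso ((homologyFunctor A i).map φ)) :
    IsIso ((t.truncGE a).map φ) := by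
  rw [DerivedCategory.isIso_iff]
  intro i
  by_cases hi : a ≤ i
  · have h1 := Groth.Agent.Lib.DWayOut.isIso_homologyMap_truncGEπ K a i hi
    have h2 := Groth.Agent.Lib.DWayOut.isIso_homologyMap_truncGEπ K' a i hi
    have h3 := h i hi
    have nat : (homologyFunctor A i).map φ ≫ (homologyFunctor A i).map ((t.truncGEπ a).app K') =
        (homologyFunctor A i).map ((t.truncGEπ a).app K) ≫
          (homologyFunctor A i).map ((t.truncGE a).map φ) := by
      rw [← Functor.map_comp, ← Functor.map_comp]
      exact congrArg _ ((t.truncGEπ a).naturality φ)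
    have h4 : IsIso ((homologyFunctor A i).map ((t.truncGEπ a).app K) ≫
        (homologyFunctor A i).map ((t.truncGE a).map φ)) := by
      rw [← nat]; infer_instance
    exact IsIso.of_isIso_comp_left ((homologyFunctor A i).map ((t.truncGEπ a).app K)) _
  · have z1 : IsZero ((homologyFunctor A i).obj ((t.truncGE a).obj K)) :=
      DerivedCategory.isZero_of_isGE _ a i (by omega)
    have z2 : IsZero ((homologyFunctor A i).obj ((t.truncGE a).obj K')) :=
      DerivedCategory.isZero_of_isGE _ a i (by omega)
    exact ⟨0, z1.eq_of_src _ _, z2.eq_of_src _ _⟩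

variable {B : Type u'} [Category.{v'} B] [Abelian B] [HasDerivedCategory.{w'} B]

/-- if `H^j(G K) ⟶ H^j(G τ_{≥ a} K)` is an isomorphism for `K` and `K'` and `H^i(φ)` is an
isomorphism for `i ≥ a`, then `H^j(G φ)` is an isomorphism -/
lemma isIso_homology_map_of_truncGEπ (G : DerivedCategory A ⥤ DerivedCategory B)
    {K K' : DerivedCategory A} (φ : K ⟶ K') (a j : ℤ)
    (h : ∀ i : ℤ, a ≤ i → IsIso ((homologyFunctor A i).map φ))
    (hK : IsIso ((homologyFunctor B j).map (G.map ((t.truncGEπ a).app K))))
    (hK' : IsIso ((homologyFunctor B j).map (G.map ((t.truncGEπ a).app K')))) :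
    IsIso ((homologyFunctor B j).map (G.map φ)) := by
  have h1 := isIso_truncGE_map φ a h
  have nat : (homologyFunctor B j).map (G.map φ) ≫
      (homologyFunctor B j).map (G.map ((t.truncGEπ a).app K')) =
      (homologyFunctor B j).map (G.map ((t.truncGEπ a).app K)) ≫
        (homologyFunctor B j).map (G.map ((t.truncGE a).map φ)) := by
    rw [← Functor.map_comp, ← Functor.map_comp, ← Functor.map_comp, ← Functor.map_comp]
    exact congrArg _ (congrArg _ ((t.truncGEπ a).naturality φ))
  have h2 : IsIso ((homologyFunctor B j).map (G.map φ) ≫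
      (homologyFunctor B j).map (G.map ((t.truncGEπ a).app K'))) := by
    rw [nat]; infer_instance
  exact IsIso.of_isIso_comp_right _ ((homologyFunctor B j).map (G.map ((t.truncGEπ a).app K')))

end Trunc

end Groth.Agent.AcycBound31
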