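import Mathlib.Algebra.Homology.ShortComplex.FunctorEquivalence
import Mathlib.Algebra.Homology.ShortComplex.PreservesHomology
import Mathlib.Algebra.Homology.ShortComplex.ExactFunctor
import Mathlib.Algebra.Homology.ShortComplex.Limits
import Mathlib.Algebra.Homology.ShortComplex.HomologicalComplex
import Mathlib.Algebra.Homology.HomologicalComplexLimits
import Mathlib.CategoryTheory.Abelian.GrothendieckAxioms.Basic

/-!
# Homology commutes with exact colimits (helper21)

If `A` is abelian and colimits of shape `J` are exact in `A`, then the homology functors
`ShortComplex A ⥤ A` and `HomologicalComplex A c ⥤ A` preserve colimits of shape `J`.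
-/

set_option autoImplicit false
set_option backward.isDefEq.respectTransparency false
universe v' u' v u

open CategoryTheory CategoryTheory.Limits

namespace Groth.Agent.Lib.HomologyCoprod

variable {A : Type u} [Category.{v} A] [Abelian A] {J : Type u'} [Category.{v'} J]
  [HasColimitsOfShape J A]

/-- `colimit.ι` as a natural transformation from an evaluation functor to `colim`. -/
noncomputable def ιNat (j : J) : (evaluation J A).obj j ⟶ colim where
  app F := colimit.ι F j
  naturality F G α := by
    dsimp
    rw [ι_colimMap]

variable (T : ShortComplex (J ⥤ A))

/-- The canonical cocone with point `T.map colim`. -/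
noncomputable def cocone : Cocone ((ShortComplex.functorEquivalence J A).functor.obj T) where
  pt := T.map colim
  ι :=
    { app := fun j => T.mapNatTrans (ιNat j)
      naturality := fun j j' a => by
        ext
        · dsimp [ιNat]
          rw [Category.comp_id]
          exact colimit.w T.X₁ a
        · dsimp [ιNat]
          rw [Category.comp_id]
          exact colimit.w T.X₂ a
        · dsimp [ιNat]
          rw [Category.comp_id]
          exact colimit.w T.X₃ a }

/-- The canonical cocone is a colimit cocone. -/
noncomputable def isColimitCocone : IsColimit (cocone T) :=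
  ShortComplex.isColimitOfIsColimitπ _
    (IsColimit.ofIsoColimit (colimit.isColimit T.X₁)
      (Cocone.ext (Iso.refl _) (fun j => by dsimp [cocone, ιNat]; simp)))
    (IsColimit.ofIsoColimit (colimit.isColimit T.X₂)
      (Cocone.ext (Iso.refl _) (fun j => by dsimp [cocone, ιNat]; simp)))
    (IsColimit.ofIsoColimit (colimit.isColimit T.X₃)
      (Cocone.ext (Iso.refl _) (fun j => by dsimp [cocone, ιNat]; simp)))

section Exact

variable [HasExactColimitsOfShape J A]

instance : (colim : (J ⥤ A) ⥤ A).PreservesZeroMorphisms :=
  Functor.preservesZeroMorphisms_of_preserves_terminal_object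

omit [HasColimitsOfShape J A] in
lemma homologyMap_mapNatTrans_comp {F G : (J ⥤ A) ⥤ A} (τ : F ⟶ G)
    [F.PreservesZeroMorphisms] [G.PreservesZeroMorphisms]
    [F.PreservesLeftHomologyOf T] [G.PreservesLeftHomologyOf T] [F.PreservesRightHomologyOf T]
    [G.PreservesRightHomologyOf T] :
    ShortComplex.homologyMap (T.mapNatTrans τ) ≫ (T.mapHomologyIso G).hom =
      (T.mapHomologyIso F).hom ≫ τ.app T.homology := by
  rw [NatTrans.app_homology τ T, Iso.hom_inv_id_assoc]

/-- The identification of the pointwise homology with the homology in the functor category. -/
noncomputable def homologyNatIso :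
    (ShortComplex.functorEquivalence J A).functor.obj T ⋙ ShortComplex.homologyFunctor A ≅
      T.homology :=
  NatIso.ofComponents (fun j => T.mapHomologyIso ((evaluation J A).obj j)) (fun a =>
    homologyMap_mapNatTrans_comp T ((evaluation J A).map a))

/-- The homology functor sends the canonical colimit cocone to a colimit cocone. -/
noncomputable def isColimitMapCocone :
    IsColimit ((ShortComplex.homologyFunctor A).mapCocone (cocone T)) := by
  refine IsColimit.ofIsoColimit
    ((IsColimit.precomposeHomEquiv (homologyNatIso T) _).symm (colimit.isColimit T.homology))
    (Cocone.ext (T.mapHomologyIso colim).symm (fun j => ?_))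
  have := homologyMap_mapNatTrans_comp T (ιNat j)
  change ((T.mapHomologyIso ((evaluation J A).obj j)).hom ≫ colimit.ι T.homology j) ≫
    (T.mapHomologyIso colim).inv = ShortComplex.homologyMap (T.mapNatTrans (ιNat j))
  rw [← cancel_mono (T.mapHomologyIso colim).hom, Category.assoc, Iso.inv_hom_id,
    Category.comp_id, this]
  rfl

instance : PreservesColimitsOfShape J (ShortComplex.homologyFunctor A) where
  preservesColimit {K} := by
    have : PreservesColimit (((ShortComplex.functorEquivalence J A).inverse ⋙
        (ShortComplex.functorEquivalence J A).functor).obj K)
        (ShortComplex.homologyFunctor A) :=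
      preservesColimit_of_preserves_colimit_cocone
        (isColimitCocone ((ShortComplex.functorEquivalence J A).inverse.obj K))
        (isColimitMapCocone _)
    exact preservesColimit_of_iso_diagram _
      ((ShortComplex.functorEquivalence J A).counitIso.app K)

end Exact

section HomologicalComplex

variable {ι : Type*} (c : ComplexShape ι)

instance (i : ι) : PreservesColimitsOfShape J (HomologicalComplex.shortComplexFunctor A c i) where
  preservesColimit := ⟨fun hs => ⟨ShortComplex.isColimitOfIsColimitπ _
    (isColimitOfPreserves (HomologicalComplex.eval A c (c.prev i)) hs)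
    (isColimitOfPreserves (HomologicalComplex.eval A c i) hs)
    (isColimitOfPreserves (HomologicalComplex.eval A c (c.next i)) hs)⟩⟩

variable [HasExactColimitsOfShape J A]

instance (i : ι) : PreservesColimitsOfShape J (HomologicalComplex.homologyFunctor A c i) :=
  preservesColimitsOfShape_of_natIso (HomologicalComplex.homologyFunctorIso A c i).symm

end HomologicalComplex

end Groth.Agent.Lib.HomologyCoprod
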