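import Mathlib.Algebra.Homology.HomotopyCategory
import Mathlib.Algebra.Homology.HomologicalComplexLimits
import Mathlib.CategoryTheory.Limits.Shapes.Products
import Mathlib.CategoryTheory.Limits.Preserves.Shapes.Products

/-!
# Coproducts in the homotopy category (helper21)

The quotient functor `HomologicalComplex V c ⥤ HomotopyCategory V c` preserves coproducts
(when they exist termwise), and the homotopy category has coproducts.
-/

set_option autoImplicit false
set_option backward.isDefEq.respectTransparency false
universe w v u

open CategoryTheory CategoryTheory.Limits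

namespace Groth.Agent.Lib.HomotopyCoprod

variable {V : Type u} [Category.{v} V] [Preadditive V] {ι : Type*} (c : ComplexShape ι)
  {J : Type w} [HasCoproductsOfShape J V]

section Homotopy

variable {c} (X : J → HomologicalComplex V c) {Y : HomologicalComplex V c}
  (h h' : (∐ X) ⟶ Y) (H : ∀ j, Homotopy (Sigma.ι X j ≫ h) (Sigma.ι X j ≫ h'))

/-- The degreewise colimit cocone. -/
noncomputable def isColimitEval (p : ι) :
    IsColimit ((HomologicalComplex.eval V c p).mapCocone (colimit.cocone (Discrete.functor X))) :=
  isColimitOfPreserves (HomologicalComplex.eval V c p) (colimit.isColimit _)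

/-- The components of the assembled homotopy. -/
noncomputable def homAux (p q : ι) : (∐ X).X p ⟶ Y.X q :=
  (isColimitEval X p).desc (Cocone.mk _ (Discrete.natTrans (fun ⟨j⟩ => (H j).hom p q)))

@[reassoc]
lemma ι_homAux (j : J) (p q : ι) :
    (Sigma.ι X j).f p ≫ homAux X h h' H p q = (H j).hom p q :=
  (isColimitEval X p).fac _ ⟨j⟩

lemma hom_ext_eval {p : ι} {Z : V} (a b : (∐ X).X p ⟶ Z)
    (hab : ∀ j, (Sigma.ι X j).f p ≫ a = (Sigma.ι X j).f p ≫ b) : a = b :=
  (isColimitEval X p).hom_ext (fun ⟨j⟩ => hab j)

/-- Homotopies on the summands assemble to a homotopy on the coproduct. -/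
noncomputable def homotopy : Homotopy h h' where
  hom := homAux X h h' H
  zero p q hpq := by
    apply hom_ext_eval
    intro j
    rw [ι_homAux, (H j).zero p q hpq, comp_zero]
  comm p := by
    apply hom_ext_eval
    intro j
    have e1 : (Sigma.ι X j).f p ≫ dNext p (homAux X h h' H) = dNext p (H j).hom := by
      rw [← dNext_comp_left]
      congr 1
      funext a b
      exact ι_homAux X h h' H j a b
    have e2 : (Sigma.ι X j).f p ≫ prevD p (homAux X h h' H) = prevD p (H j).hom := by
      rw [← prevD_comp_left]
      congr 1
      funext a b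
      exact ι_homAux X h h' H j a b
    rw [Preadditive.comp_add, Preadditive.comp_add, e1, e2]
    exact (H j).comm p

end Homotopy

/-- The quotient functor to the homotopy category preserves coproducts. -/
instance preservesColimit_quotient (X : J → HomologicalComplex V c) :
    PreservesColimit (Discrete.functor X) (HomotopyCategory.quotient V c) := by
  apply preservesColimit_of_preserves_colimit_cocone (colimit.isColimit (Discrete.functor X))
  apply IsColimit.ofExistsUnique
  intro s
  have hsurj : ∀ j, ∃ g : X j ⟶ s.pt.as, (HomotopyCategory.quotient V c).map g = s.ι.app ⟨j⟩ :=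
    fun j => (HomotopyCategory.quotient V c).map_surjective (s.ι.app ⟨j⟩)
  choose g hg using hsurj
  refine ⟨(HomotopyCategory.quotient V c).map (Sigma.desc g), ?_, ?_⟩
  · rintro ⟨j⟩
    change (HomotopyCategory.quotient V c).map (Sigma.ι X j) ≫ _ = _
    rw [← Functor.map_comp, Sigma.ι_desc, hg]
  · intro m hm
    obtain ⟨h, rfl⟩ := (HomotopyCategory.quotient V c).map_surjective m
    apply HomotopyCategory.eq_of_homotopy
    apply homotopy
    intro j
    apply HomotopyCategory.homotopyOfEq
    rw [Functor.map_comp, Sigma.ι_desc, hg]
    exact hm ⟨j⟩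

instance : PreservesColimitsOfShape (Discrete J) (HomotopyCategory.quotient V c) where
  preservesColimit {K} := by
    have : PreservesColimit (Discrete.functor (K.obj ∘ Discrete.mk))
        (HomotopyCategory.quotient V c) := preservesColimit_quotient c _
    exact preservesColimit_of_iso_diagram _ Discrete.natIsoFunctor.symm

/-- The homotopy category has coproducts. -/
instance : HasCoproductsOfShape J (HomotopyCategory V c) where
  has_colimit K := by
    have h : HasColimit (Discrete.functor (fun j => (K.obj ⟨j⟩).as) ⋙
        HomotopyCategory.quotient V c) :=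
      ⟨⟨⟨_, isColimitOfPreserves (HomotopyCategory.quotient V c) (colimit.isColimit _)⟩⟩⟩
    have e : Discrete.functor (fun j => (K.obj ⟨j⟩).as) ⋙ HomotopyCategory.quotient V c ≅ K :=
      Discrete.natIso (fun ⟨j⟩ => Iso.refl _)
    exact hasColimit_of_iso e.symm

end Groth.Agent.Lib.HomotopyCoprod
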