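import Groth.Agent.Lib.LocCoprod
import Groth.Agent.Lib.HomologyCoprod
import Groth.Agent.Lib.HomotopyCoprod
import Mathlib.Algebra.Homology.DerivedCategory.Fractions
import Mathlib.Algebra.Homology.DerivedCategory.HomologySequence

/-!
# Coproducts in the derived category (helper21)

Let `A` be an abelian category in which coproducts of shape `J` exist and are exact (AB4 for `J`).
Then `DerivedCategory A` has coproducts of shape `J`, the localization functors
`Q : CochainComplex A ℤ ⥤ DerivedCategory A` and `Qh` preserve them, and so do the homology
functors `DerivedCategory.homologyFunctor A n`.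
-/

set_option autoImplicit false
set_option backward.isDefEq.respectTransparency false
universe w' w v u

open CategoryTheory CategoryTheory.Limits

namespace Groth.Agent.Lib.DerivedCoprod

section General

variable {C : Type*} [Category* C] {D : Type*} [Category* D] {E : Type*} [Category* E]
  {J : Type w'}

/-- If `F` is essentially surjective and preserves coproducts of shape `J`, and `F ⋙ G` preserves
coproducts of shape `J`, then so does `G`. -/
theorem preservesColimitsOfShape_of_comp (F : C ⥤ D) (G : D ⥤ E) [F.EssSurj]
    [HasCoproductsOfShape J C] [PreservesColimitsOfShape (Discrete J) F]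
    [PreservesColimitsOfShape (Discrete J) (F ⋙ G)] :
    PreservesColimitsOfShape (Discrete J) G where
  preservesColimit {K} := by
    let X : J → C := fun j => F.objPreimage (K.obj ⟨j⟩)
    have e : Discrete.functor X ⋙ F ≅ K :=
      Discrete.natIso (fun ⟨j⟩ => F.objObjPreimageIso (K.obj ⟨j⟩))
    have : PreservesColimit (Discrete.functor X ⋙ F) G :=
      preservesColimit_of_preserves_colimit_cocone
        (isColimitOfPreserves F (colimit.isColimit (Discrete.functor X)))
        (isColimitOfPreserves (F ⋙ G) (colimit.isColimit (Discrete.functor X)))
    exact preservesColimit_of_iso_diagram G e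

/-- A functor preserving coproducts of shape `J` sends a coproduct of maps inverted by it to an
isomorphism. -/
theorem isIso_map_sigmaMap (G : D ⥤ E) [HasCoproductsOfShape J D] [HasCoproductsOfShape J E]
    [PreservesColimitsOfShape (Discrete J) G] {X' X : J → D} (s : ∀ j, X' j ⟶ X j)
    (hs : ∀ j, IsIso (G.map (s j))) : IsIso (G.map (Limits.Sigma.map s)) := by
  have h : sigmaComparison G X' ≫ G.map (Limits.Sigma.map s) =
      Limits.Sigma.map (fun j => G.map (s j)) ≫ sigmaComparison G X := by
    apply Sigma.hom_ext
    intro j
    rw [ι_comp_sigmaComparison_assoc, ← G.map_comp, Sigma.ι_map, G.map_comp, Sigma.ι_map_assoc,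
      ι_comp_sigmaComparison]
  have e : G.map (Limits.Sigma.map s) = inv (sigmaComparison G X') ≫
      (Sigma.mapIso (fun j => asIso (G.map (s j)))).hom ≫ sigmaComparison G X := by
    rw [IsIso.eq_inv_comp, h]
    rfl
  rw [e]
  infer_instance

end General

section Homotopy

variable {A : Type u} [Category.{v} A] [Abelian A] {ι : Type*} (c : ComplexShape ι)
  {J : Type w'} [HasColimitsOfShape (Discrete J) A] [HasExactColimitsOfShape (Discrete J) A]

instance (n : ι) : PreservesColimitsOfShape (Discrete J)
    (HomotopyCategory.homologyFunctor A c n) := by
  have : PreservesColimitsOfShape (Discrete J)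
      (HomotopyCategory.quotient A c ⋙ HomotopyCategory.homologyFunctor A c n) :=
    preservesColimitsOfShape_of_natIso (HomotopyCategory.homologyFunctorFactors A c n).symm
  exact preservesColimitsOfShape_of_comp (HomotopyCategory.quotient A c) _

/-- Quasi-isomorphisms in the homotopy category are stable under exact coproducts. -/
theorem quasiIso_sigmaMap {X' X : J → HomotopyCategory A c} (s : ∀ j, X' j ⟶ X j)
    (hs : ∀ j, HomotopyCategory.quasiIso A c (s j)) :
    HomotopyCategory.quasiIso A c (Limits.Sigma.map s) :=
  fun n => isIso_map_sigmaMap (HomotopyCategory.homologyFunctor A c n) s (fun j => hs j n)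

end Homotopy

section Derived

variable {A : Type u} [Category.{v} A] [Abelian A] [HasDerivedCategory.{w} A]
  {J : Type w'} [HasColimitsOfShape (Discrete J) A] [HasExactColimitsOfShape (Discrete J) A]

instance : PreservesColimitsOfShape (Discrete J) (DerivedCategory.Qh (C := A)) :=
  LocCoprod.preservesColimitsOfShape DerivedCategory.Qh
    (HomotopyCategory.quasiIso A (ComplexShape.up ℤ))
    (fun _ _ s hs => quasiIso_sigmaMap (ComplexShape.up ℤ) s hs)

instance : PreservesColimitsOfShape (Discrete J) (DerivedCategory.Q (C := A)) :=
  preservesColimitsOfShape_of_natIso (DerivedCategory.quotientCompQhIso A)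

instance : HasCoproductsOfShape J (DerivedCategory A) :=
  LocCoprod.hasCoproductsOfShape DerivedCategory.Qh
    (HomotopyCategory.quasiIso A (ComplexShape.up ℤ))
    (fun _ _ s hs => quasiIso_sigmaMap (ComplexShape.up ℤ) s hs)

instance (n : ℤ) : PreservesColimitsOfShape (Discrete J)
    (DerivedCategory.homologyFunctor A n) := by
  have : PreservesColimitsOfShape (Discrete J)
      (DerivedCategory.Q ⋙ DerivedCategory.homologyFunctor A n) :=
    preservesColimitsOfShape_of_natIso (DerivedCategory.homologyFunctorFactors A n).symm
  exact preservesColimitsOfShape_of_comp (DerivedCategory.Q (C := A)) _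

end Derived

end Groth.Agent.Lib.DerivedCoprod
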