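import Groth.Prelude.Def_DerLim
import Mathlib.CategoryTheory.Abelian.GrothendieckAxioms.Colim
import Mathlib.Algebra.Homology.ShortComplex.ShortExact
import Mathlib.CategoryTheory.Functor.OfSequence

/-!
# The telescope short exact sequence (helper21)

For a sequence `F : ℕ ⥤ A` in an abelian category with exact colimits of shape `ℕ`:
`0 ⟶ ∐ F ⟶ ∐ F ⟶ colim F ⟶ 0` (first map `1 - shift`) is short exact.

* `T F` : `1 - shift`; `ι_T`.
* `isColimitCokernelCofork` : for any colimit cocone `c` of `F`, `Sigma.desc c.ι.app` is a cokernel of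
  `T F` (no exactness hypothesis needed).
* `mono_T` : `T F` is a monomorphism (uses exactness of `ℕ`-colimits; `Q`, `T_Q`, partial sums `S`,
  `isColimitCocone`).
* `shortExact`, `shortExact'`.
-/

set_option autoImplicit false
set_option backward.isDefEq.respectTransparency false
universe v u

open CategoryTheory CategoryTheory.Limits

namespace Groth.Agent.Lib.Telescope

variable {A : Type u} [Category.{v} A] [Abelian A] (F : ℕ ⥤ A) [HasCoproduct F.obj]

abbrev tr (n : ℕ) : F.obj n ⟶ F.obj (n + 1) := F.map (homOfLE (Nat.le_succ n))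

noncomputable def T : (∐ F.obj) ⟶ ∐ F.obj := 𝟙 _ - DerLim.shiftMap F.obj (tr F)

@[reassoc]
lemma ι_T (n : ℕ) : Sigma.ι F.obj n ≫ T F = Sigma.ι F.obj n - tr F n ≫ Sigma.ι F.obj (n + 1) := by
  simp [T, DerLim.shiftMap, Preadditive.comp_sub]

section Cokernel

variable {F} (c : Cocone F)

@[reassoc]
lemma T_desc : T F ≫ Sigma.desc (fun n => c.ι.app n) = 0 := by
  apply Sigma.hom_ext
  intro n
  rw [ι_T_assoc, Preadditive.sub_comp, Category.assoc, Sigma.ι_desc, Sigma.ι_desc, comp_zero,
    sub_eq_zero]
  exact (c.w (homOfLE (Nat.le_succ n))).symm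

/-- The canonical map from the coproduct to a colimit of the sequence is a cokernel of
`1 - shift`. -/
noncomputable def isColimitCokernelCofork (hc : IsColimit c) :
    IsColimit (CokernelCofork.ofπ (Sigma.desc (fun n => c.ι.app n)) (T_desc c)) :=
  CokernelCofork.IsColimit.ofπ _ _
    (fun {Z} g hg => hc.desc (Cocone.mk Z (NatTrans.ofSequence (fun n => Sigma.ι F.obj n ≫ g) (by
      intro n
      have := ι_T_assoc F n g
      rw [hg, comp_zero, Preadditive.sub_comp, Category.assoc] at this
      simpa using (sub_eq_zero.mp this.symm).symm))))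
    (fun {Z} g hg => by
      apply Sigma.hom_ext
      intro n
      rw [Sigma.ι_desc_assoc, hc.fac]
      rfl)
    (fun {Z} g hg m hm => by
      apply hc.hom_ext
      intro n
      rw [hc.fac]
      subst hm
      change _ = Sigma.ι F.obj n ≫ _
      rw [Sigma.ι_desc_assoc])

end Cokernel

section Mono

attribute [local instance] Abelian.hasFiniteBiproducts

/-- The sum of the transition maps into `F k` from the summands of index `≤ k`. -/
noncomputable def Q (k : ℕ) : (∐ F.obj) ⟶ F.obj k :=
  Sigma.desc (fun j => if h : j ≤ k then F.map (homOfLE h) else 0)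

@[reassoc]
lemma ι_Q_of_le {j k : ℕ} (h : j ≤ k) : Sigma.ι F.obj j ≫ Q F k = F.map (homOfLE h) := by
  simp [Q, h]

@[reassoc]
lemma ι_Q_of_lt {j k : ℕ} (h : k < j) : Sigma.ι F.obj j ≫ Q F k = 0 := by
  simp [Q, not_le.mpr h]

lemma T_Q (k : ℕ) : T F ≫ Q F k = Sigma.π F.obj k := by
  apply Sigma.hom_ext
  intro j
  rw [ι_T_assoc, Preadditive.sub_comp, Category.assoc]
  rcases lt_trichotomy j k with h | h | h
  · rw [ι_Q_of_le F h.le, ι_Q_of_le F (Nat.succ_le_of_lt h), Sigma.ι_π_of_ne _ h.ne,
      ← F.map_comp, sub_eq_zero]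
    rfl
  · subst h
    rw [ι_Q_of_le F le_rfl, ι_Q_of_lt F (Nat.lt_succ_self j), comp_zero, sub_zero,
      Sigma.ι_π_eq_id]
    exact F.map_id _
  · rw [ι_Q_of_lt F h, ι_Q_of_lt F (h.trans (Nat.lt_succ_self j)), comp_zero, sub_zero,
      Sigma.ι_π_of_ne _ h.ne']

/-- The partial sums of the sequence. -/
noncomputable abbrev S (n : ℕ) : A := ⨁ (fun k : Fin n => F.obj k)

/-- The inclusion of a partial sum in the coproduct. -/
noncomputable def j (n : ℕ) : S F n ⟶ ∐ F.obj := biproduct.desc (fun k : Fin n => Sigma.ι F.obj k)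

@[reassoc (attr := simp)]
lemma ι_j (n : ℕ) (k : Fin n) :
    biproduct.ι (fun k : Fin n => F.obj k) k ≫ j F n = Sigma.ι F.obj k := by
  simp [j]

lemma j_π (n : ℕ) (k : Fin n) :
    j F n ≫ Sigma.π F.obj k = biproduct.π (fun k : Fin n => F.obj k) k := by
  apply biproduct.hom_ext'
  intro i
  rw [ι_j_assoc, Sigma.ι_π, biproduct.ι_π]
  by_cases h : i = k
  · subst h; simp
  · have : (i : ℕ) ≠ k := fun e => h (Fin.ext e)
    simp [h, this]

lemma mono_j_T (n : ℕ) : Mono (j F n ≫ T F) := by
  rw [Preadditive.mono_iff_cancel_zero]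
  intro Z z hz
  apply biproduct.hom_ext
  intro k
  rw [zero_comp, ← j_π, ← T_Q, ← Category.assoc, ← Category.assoc, Category.assoc z, hz,
    zero_comp]

/-- The transition maps of the partial sums. -/
noncomputable def Smap {n m : ℕ} (h : n ≤ m) : S F n ⟶ S F m :=
  biproduct.desc (fun k : Fin n => biproduct.ι (fun k : Fin m => F.obj k) (Fin.castLE h k))

@[reassoc (attr := simp)]
lemma Smap_j {n m : ℕ} (h : n ≤ m) : Smap F h ≫ j F m = j F n := by
  apply biproduct.hom_ext'
  intro k
  simp [Smap]

/-- The diagram of partial sums. -/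
noncomputable def Sfunctor : ℕ ⥤ A where
  obj := S F
  map f := Smap F (leOfHom f)
  map_id n := by
    apply biproduct.hom_ext'
    intro k
    simp [Smap]
  map_comp f g := by
    apply biproduct.hom_ext'
    intro k
    simp [Smap]
    rfl

omit [HasCoproduct F.obj] in
lemma ι_Sfunctor_map {n m : ℕ} (h : n ≤ m) (k : Fin n) :
    biproduct.ι (fun k : Fin n => F.obj k) k ≫ (Sfunctor F).map (homOfLE h) =
      biproduct.ι (fun k : Fin m => F.obj k) (Fin.castLE h k) := by
  change _ ≫ Smap F h = _
  simp [Smap]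

/-- The cocone of partial sums on the coproduct. -/
noncomputable def cocone : Cocone (Sfunctor F) where
  pt := ∐ F.obj
  ι := { app := j F
         naturality := fun n m f => by
           change Smap F _ ≫ j F m = j F n ≫ 𝟙 _
           rw [Smap_j, Category.comp_id] }

/-- The coproduct is the colimit of the partial sums. -/
noncomputable def isColimitCocone : IsColimit (cocone F) where
  desc c := Sigma.desc (fun k =>
    biproduct.ι (fun k : Fin (k + 1) => F.obj k) ⟨k, Nat.lt_succ_self k⟩ ≫ c.ι.app (k + 1))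
  fac c n := by
    apply biproduct.hom_ext'
    intro k
    change _ ≫ j F n ≫ _ = _
    rw [ι_j_assoc, Sigma.ι_desc]
    have h : (k : ℕ) + 1 ≤ n := k.2
    have e : biproduct.ι (fun k : Fin n => F.obj k) k =
        biproduct.ι (fun i : Fin ((k : ℕ) + 1) => F.obj i) ⟨k, Nat.lt_succ_self k⟩ ≫
          (Sfunctor F).map (homOfLE h) :=
      (ι_Sfunctor_map F h ⟨k, Nat.lt_succ_self k⟩).symm
    exact ((congrArg (· ≫ c.ι.app n) e).trans ((Category.assoc _ _ _).trans
      (congrArg (_ ≫ ·) (c.w (homOfLE h))))).symm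
  uniq c m hm := by
    apply Sigma.hom_ext
    intro k
    rw [Sigma.ι_desc, ← hm (k + 1)]
    change _ = _ ≫ j F (k + 1) ≫ m
    rw [ι_j_assoc]

variable [HasColimitsOfShape ℕ A] [HasExactColimitsOfShape ℕ A]

attribute [local instance] IsFiltered.isConnected in
theorem mono_T : Mono (T F) := by
  let φ : Sfunctor F ⟶ (Functor.const ℕ).obj (∐ F.obj) :=
    { app := fun n => j F n ≫ T F
      naturality := fun n m f => by
        change Smap F _ ≫ j F m ≫ T F = (j F n ≫ T F) ≫ 𝟙 _
        rw [Smap_j_assoc, Category.comp_id] }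
  have : ∀ n, Mono (φ.app n) := fun n => mono_j_T F n
  have := NatTrans.mono_of_mono_app φ
  exact colim.map_mono' φ (isColimitCocone F) (isColimitConstCocone ℕ (∐ F.obj)) (T F)
    (fun n => by
      change j F n ≫ T F = (j F n ≫ T F) ≫ 𝟙 _
      rw [Category.comp_id])

end Mono

section ShortExact

variable [HasColimitsOfShape ℕ A] [HasExactColimitsOfShape ℕ A]

/-- The telescope sequence for an arbitrary colimit cocone. -/
theorem shortExact' {c : Cocone F} (hc : IsColimit c) :
    (ShortComplex.mk (T F) (Sigma.desc (fun n => c.ι.app n)) (T_desc c)).ShortExact := by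
  have := mono_T F
  have hcok := isColimitCokernelCofork c hc
  have : Epi (Sigma.desc (fun n => c.ι.app n)) := epi_of_isColimit_cofork hcok
  exact { exact := ShortComplex.exact_of_g_is_cokernel _ hcok }

/-- The telescope sequence `0 ⟶ ∐ F ⟶ ∐ F ⟶ colim F ⟶ 0`. -/
theorem shortExact :
    (ShortComplex.mk (T F) (Sigma.desc (fun n => colimit.ι F n))
      (T_desc (colimit.cocone F))).ShortExact :=
  shortExact' F (colimit.isColimit F)

end ShortExact

end Groth.Agent.Lib.Telescope
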