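import Groth.Prelude.Def_DerLim
import Groth.Agent.Lib.Telescope
import Mathlib.Algebra.Homology.GrothendieckAbelian
import Mathlib.Algebra.Homology.DerivedCategory.ShortExact
import Mathlib.CategoryTheory.Limits.Preserves.Shapes.Products
import Mathlib.Algebra.Category.ModuleCat.AB

/-!
# The termwise colimit of a sequence of complexes is a homotopy colimit (helper21)

`isHocolim_of_isColimit`: for an abelian category `A` with exact colimits of sequences and a
sequence `L : ℕ ⥤ CochainComplex A ℤ` with an arbitrary colimit cocone `c`, the image of `c.pt` in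
`D(A)` is a homotopy colimit (in the sense of `DerLim.IsHocolim`) of the images of the `L n`
(assuming that `Q` preserves the coproduct of the `L n`, which `Lib/DerivedCoprod` provides under
AB4-type hypotheses).

`hasExactColimitsOfShape_nat_moduleCat`: sequential colimits in `ModuleCat.{u} R` are exact.
-/

set_option autoImplicit false
universe w v u

open CategoryTheory CategoryTheory.Limits

namespace Groth.Agent.Lib.DerivedHocolim

theorem isHocolim_of_isColimit {A : Type u} [Category.{v} A] [Abelian A] [HasDerivedCategory.{w} A]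
    [HasColimitsOfShape ℕ A] [HasExactColimitsOfShape ℕ A]
    (L : ℕ ⥤ CochainComplex A ℤ) [HasCoproduct L.obj]
    [PreservesColimit (Discrete.functor L.obj) (DerivedCategory.Q (C := A))]
    [HasCoproduct (fun n => DerivedCategory.Q.obj (L.obj n))] (c : Cocone L) (hc : IsColimit c) :
    DerLim.IsHocolim (fun n => DerivedCategory.Q.obj (L.obj n))
      (fun n => DerivedCategory.Q.map (L.map (homOfLE (Nat.le_succ n))))
      (DerivedCategory.Q.obj c.pt) (fun n => DerivedCategory.Q.map (c.ι.app n)) := by
  classical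
  have hS := Groth.Agent.Lib.Telescope.shortExact' L hc
  have hdist := DerivedCategory.triangleOfSES_distinguished hS
  let θ : (∐ fun n => DerivedCategory.Q.obj (L.obj n)) ≅ DerivedCategory.Q.obj (∐ L.obj) :=
    (PreservesCoproduct.iso DerivedCategory.Q L.obj).symm
  have hθ : ∀ n, Sigma.ι (fun n => DerivedCategory.Q.obj (L.obj n)) n ≫ θ.hom =
      DerivedCategory.Q.map (Sigma.ι L.obj n) := fun n =>
    ι_comp_sigmaComparison DerivedCategory.Q L.obj n
  refine ⟨DerivedCategory.triangleOfSESδ hS ≫ (θ.inv)⟦(1 : ℤ)⟧', ?_⟩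
  refine Pretriangulated.isomorphic_distinguished _ hdist _ ?_
  refine Pretriangulated.Triangle.isoMk _ _ θ θ (Iso.refl _) ?_ ?_ ?_
  · apply Sigma.hom_ext
    intro n
    change Sigma.ι _ n ≫ (𝟙 _ - DerLim.shiftMap _ _) ≫ θ.hom =
      Sigma.ι _ n ≫ θ.hom ≫ DerivedCategory.Q.map (Groth.Agent.Lib.Telescope.T L)
    rw [Preadditive.sub_comp, Preadditive.comp_sub, Category.id_comp, hθ, DerLim.shiftMap,
      Sigma.ι_desc_assoc, Category.assoc, hθ, reassoc_of% hθ, ← Functor.map_comp,
      ← Functor.map_comp, Groth.Agent.Lib.Telescope.ι_T, Functor.map_sub, Functor.map_comp]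
  · apply Sigma.hom_ext
    intro n
    change Sigma.ι (fun n => DerivedCategory.Q.obj (L.obj n)) n ≫
        Sigma.desc (fun n => DerivedCategory.Q.map (c.ι.app n)) ≫ 𝟙 _ =
      Sigma.ι (fun n => DerivedCategory.Q.obj (L.obj n)) n ≫ θ.hom ≫
        DerivedCategory.Q.map (Sigma.desc fun n => c.ι.app n)
    rw [Category.comp_id, Sigma.ι_desc, reassoc_of% hθ, ← Functor.map_comp, Sigma.ι_desc]
  · change (DerivedCategory.triangleOfSESδ hS ≫ (θ.inv)⟦(1 : ℤ)⟧') ≫ (θ.hom)⟦(1 : ℤ)⟧' =
      𝟙 _ ≫ DerivedCategory.triangleOfSESδ hS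
    rw [Category.assoc, ← Functor.map_comp, Iso.inv_hom_id, CategoryTheory.Functor.map_id,
      Category.comp_id, Category.id_comp]

/-- Sequential colimits of modules are exact. -/
instance hasExactColimitsOfShape_nat_moduleCat (R : Type u) [Ring R] :
    HasExactColimitsOfShape ℕ (ModuleCat.{u} R) := by
  have : HasFilteredColimitsOfSize.{0, 0} (ModuleCat.{u} R) :=
    hasFilteredColimitsOfSize_shrink.{0, 0, u, u}
  have : AB5OfSize.{0, 0} (ModuleCat.{u} R) := AB5OfSize_shrink.{0, 0, u, u} _
  exact AB5OfSize.ofShape ℕ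

end Groth.Agent.Lib.DerivedHocolim
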