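import Groth.Agent.Lib.KInjW31
import Mathlib.Algebra.Homology.Double
import Mathlib.Algebra.Homology.HomotopyCategory.KInjective
import Mathlib.Algebra.Homology.HomotopyCategory.Pretriangulated
import Mathlib.CategoryTheory.Preadditive.Injective.Basic

/-!
# Extension property against monic quasi-isomorphisms implies K-injective with injective terms
(helper31)
-/

set_option autoImplicit false

universe v u

open CategoryTheory Limits

namespace Groth.Agent.KInjRlp31

open Groth.Agent.KInjAcyc31 Groth.Agent.KInjW31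

variable {C : Type u} [Category.{v} C] [Abelian C]

/-- Morphisms to `I` extend along monomorphisms that are quasi-isomorphisms. -/
def HasExt (I : CochainComplex C ℤ) : Prop :=
  ∀ ⦃K L : CochainComplex C ℤ⦄ (i : K ⟶ L), monoQis C i → ∀ g : K ⟶ I, ∃ h : L ⟶ I, i ≫ h = g

lemma acyclic_of_homotopy_id_zero (K : CochainComplex C ℤ) (h : Homotopy (𝟙 K) 0) :
    K.Acyclic := by
  intro n
  rw [HomologicalComplex.exactAt_iff_isZero_homology, IsZero.iff_id_eq_zero,
    ← HomologicalComplex.homologyMap_id, h.homologyMap_eq n, HomologicalComplex.homologyMap_zero]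

lemma quasiIso_of_acyclic {K L : CochainComplex C ℤ} (f : K ⟶ L) (hK : K.Acyclic)
    (hL : L.Acyclic) : QuasiIso f := by
  rw [quasiIso_iff]
  intro i
  rw [quasiIsoAt_iff_exactAt f i (hK i)]
  exact hL i

lemma isKInjective_of_hasExt (I : CochainComplex C ℤ) (hI : HasExt I) : I.IsKInjective where
  nonempty_homotopy_zero {K} f hK := by
    let i := CochainComplex.mappingCone.inr (𝟙 K)
    have hmono : Mono i := by
      apply HomologicalComplex.mono_of_mono_f
      intro n
      exact mono_of_mono_fac (CochainComplex.mappingCone.inr_f_snd_v (𝟙 K) n)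
    have hcone : (CochainComplex.mappingCone (𝟙 K)).Acyclic :=
      acyclic_of_homotopy_id_zero _ (CochainComplex.mappingCone.homotopyToZeroOfId K)
    have hi : monoQis C i := (monoQis_iff _).2 ⟨hmono, quasiIso_of_acyclic i hK hcone⟩
    obtain ⟨h, hh⟩ := hI i hi f
    have H := ((CochainComplex.mappingCone.homotopyToZeroOfId K).compRight h).compLeft i
    exact ⟨(Homotopy.ofEq (by simp [hh])).trans (H.trans (Homotopy.ofEq (by simp)))⟩

section double

open HomologicalComplex

variable (X : C) (n : ℤ)

lemma rel_succ : (ComplexShape.up ℤ).Rel n (n + 1) := rfl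

lemma acyclic_double_id : (double (𝟙 X) (rel_succ n)).Acyclic := by
  intro k
  by_cases h0 : k = n
  · subst h0
    rw [HomologicalComplex.exactAt_iff' _ (k - 1) k (k + 1) (by simp) (by simp)]
    rw [ShortComplex.exact_iff_mono _ (double_d_eq_zero₀ (𝟙 X) (rel_succ k) (k - 1) k (by lia))]
    change Mono ((double (𝟙 X) (rel_succ k)).d k (k + 1))
    rw [double_d _ _ (by lia)]
    infer_instance
  · by_cases h1 : k = n + 1
    · subst h1
      rw [HomologicalComplex.exactAt_iff' _ n (n + 1) (n + 1 + 1) (by simp) (by simp)]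
      rw [ShortComplex.exact_iff_epi _
        (double_d_eq_zero₀ (𝟙 X) (rel_succ n) (n + 1) (n + 1 + 1) (by lia))]
      change Epi ((double (𝟙 X) (rel_succ n)).d n (n + 1))
      rw [double_d _ _ (by lia)]
      infer_instance
    · exact ExactAt.of_isZero (isZero_double_X _ _ _ h0 h1)

variable {X} {Y : C} (a : X ⟶ Y)

/-- the map of disk complexes induced by a morphism -/
noncomputable def doubleMap : double (𝟙 X) (rel_succ n) ⟶ double (𝟙 Y) (rel_succ n) :=
  mkHomFromDouble (rel_succ n) (by lia) (a ≫ (doubleXIso₀ (𝟙 Y) (rel_succ n)).inv)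
    (a ≫ (doubleXIso₁ (𝟙 Y) (rel_succ n) (by lia)).inv)
    (by rw [double_d _ _ (by lia)]; simp)
    (fun k _ => by rw [double_d_eq_zero₀ _ _ _ _ (by lia), comp_zero])

lemma mono_doubleMap [Mono a] : Mono (doubleMap n a) := by
  apply HomologicalComplex.mono_of_mono_f
  intro k
  by_cases h0 : k = n
  · subst h0
    dsimp only [doubleMap]
    rw [mkHomFromDouble_f₀]
    infer_instance
  · by_cases h1 : k = n + 1
    · subst h1
      dsimp only [doubleMap]
      rw [mkHomFromDouble_f₁]
      infer_instance
    · constructor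
      intro Z g h _
      exact (isZero_double_X _ _ _ h0 h1).eq_of_tgt _ _

end double

open HomologicalComplex in
lemma injective_X_of_hasExt (I : CochainComplex C ℤ) (hI : HasExt I) (n : ℤ) :
    Injective (I.X n) where
  factors {X Y} u a _ := by
    have hi : monoQis C (doubleMap n a) := (monoQis_iff _).2 ⟨mono_doubleMap n a,
      quasiIso_of_acyclic _ (acyclic_double_id X n) (acyclic_double_id Y n)⟩
    let e := evalCompCoyonedaCorepresentableByDoubleId (C := C) (rel_succ n) (by lia) X
    obtain ⟨h, hh⟩ := hI _ hi (e.homEquiv.symm u)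
    refine ⟨(doubleXIso₀ (𝟙 Y) (rel_succ n)).inv ≫ h.f n, ?_⟩
    have h1 : e.homEquiv (e.homEquiv.symm u) = u := e.homEquiv.apply_symm_apply u
    rw [← hh] at h1
    rw [← h1]
    change _ = (doubleXIso₀ (𝟙 X) (rel_succ n)).inv ≫ (doubleMap n a ≫ h).f n
    rw [HomologicalComplex.comp_f]
    dsimp only [doubleMap]
    rw [mkHomFromDouble_f₀]
    simp

end Groth.Agent.KInjRlp31
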