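import Groth.Agent.Lib.KInjStep31
import Groth.Agent.Lib.KInjRlp31

/-!
# K-injective resolutions in Grothendieck abelian categories (helper31)
-/

set_option autoImplicit false

universe w u

open CategoryTheory Limits Cardinal MorphismProperty ZeroObject

namespace Groth.Agent.KInjMain31

open Groth.Agent.KInjGen31 Groth.Agent.KInjDelta31 Groth.Agent.KInjKey31 Groth.Agent.KInjW31
  Groth.Agent.KInjAcyc31 Groth.Agent.KInjStep31 Groth.Agent.KInjTransf31

variable {C : Type u} [Category.{w} C] [Abelian C] [IsGrothendieckAbelian.{w} C]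
variable {G : CochainComplex C ℤ} {T : Type w} {κ : Cardinal.{w}}

lemma monoQis_mk_arrow_iff {X N : CochainComplex C ℤ} (f : X ⟶ N) [Mono f] :
    monoQis C (Subobject.mk f).arrow ↔ monoQis C f :=
  (monoQis C).arrow_mk_iso_iff (Arrow.isoMk (Subobject.underlyingIso f) (Iso.refl _) (by simp))

set_option backward.defeqAttrib.useBackward true in
lemma exists_larger_subobject (H : Hyp G κ) (hT : #T = κ) {N : CochainComplex C ℤ}
    (A : Subobject N) (hA : monoQis C A.arrow) (hA' : A ≠ ⊤) :
    ∃ (A' : Subobject N) (h : A < A'), monoQis C A'.arrow ∧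
      (genMaps G T).pushouts (Subobject.ofLE A A' h.le) := by
  revert hA hA'
  induction A using Subobject.ind with | _ f
  intro hA hA'
  have hf : monoQis C f := (monoQis_mk_arrow_iff f).1 hA
  obtain ⟨X', i, p', hi, hi', hp', hq, fac⟩ := exists_pushouts H hT f ((monoQis_iff _).1 hf).2
    (by simpa only [Subobject.isIso_iff_mk_eq_top] using hA')
  refine ⟨Subobject.mk p', Subobject.mk_lt_mk_of_comm i fac hi',
    (monoQis_mk_arrow_iff p').2 ((monoQis_iff _).2 ⟨hp', hq⟩),
    (MorphismProperty.arrow_mk_iso_iff _ ?_).2 hi⟩
  refine Arrow.isoMk (Subobject.underlyingIso f) (Subobject.underlyingIso p') ?_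
  dsimp
  simp only [← cancel_mono p', Category.assoc, fac,
    Subobject.underlyingIso_hom_comp_eq_mk, Subobject.ofLE_arrow]

/-- the step data for `monoQis` -/
def stepData (H : Hyp G κ) (hT : #T = κ) (N : CochainComplex C ℤ) :
    StepData (genMaps G T) N where
  Good A := monoQis C A.arrow
  good_top := isomorphisms_le_monoQis _ (isomorphisms.infer_property _)
  step A hA hA' := exists_larger_subobject H hT A hA hA'
  iso_le := isomorphisms_le_pushouts_genMaps G T

set_option backward.defeqAttrib.useBackward true in
set_option backward.isDefEq.respectTransparency false in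
lemma goodSup (H : Hyp G κ) (hT : #T = κ) (N : CochainComplex C ℤ) :
    StepData.GoodSup.{w} (stepData H hT N) := by
  intro J _ _ _ _ m hm a ha hgood
  change monoQis C (⨆ j : Set.Iio m, a j.1).arrow
  have := hm.nonempty_Iio.to_subtype
  let F : Set.Iio m ⥤ MonoOver N :=
    { obj j := MonoOver.mk (a j.1).arrow
      map {j j'} f := MonoOver.homMk (Subobject.ofLE _ _ (ha (leOfHom f))) }
  let c : Cocone (F ⋙ MonoOver.forget _) :=
    { pt := Over.mk (⨆ j : Set.Iio m, a j.1).arrow
      ι :=
        { app j := Over.homMk (Subobject.ofLE _ _ (le_iSup (fun j : Set.Iio m => a j.1) j))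
          naturality j j' f := by
            apply Over.OverMorphism.ext
            dsimp [F, MonoOver.forget]
            rw [Subobject.ofLE_comp_ofLE, Category.comp_id] } }
  have : Mono c.pt.hom := by dsimp [c]; infer_instance
  have hc : IsColimit ((Over.forget _).mapCocone c) :=
    IsGrothendieckAbelian.isColimitMapCoconeOfSubobjectMkEqISup F c (by
      dsimp [c, F]
      simp only [Subobject.mk_arrow])
  let α : F ⋙ MonoOver.forget _ ⋙ Over.forget _ ⟶ (Functor.const _).obj N :=
    { app j := (F.obj j).obj.hom }
  exact (isStableUnderColimitsOfShape_monoQis (C := C) (Set.Iio m)).condition _ _ _ _ hc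
    (isColimitConstCocone _ N) α (fun j => hgood j.1 j.2) _ (fun j => by
      dsimp [c, α, F]
      simp)

/-- every monic quasi-isomorphism has the left lifting property with respect to
`(genMaps G T).rlp` -/
lemma monoQis_le_llp_rlp (H : Hyp G κ) (hT : #T = κ) :
    monoQis C ≤ (genMaps G T).rlp.llp := by
  intro X N f hf
  have : Mono f := ((monoQis_iff _).1 hf).1
  exact (stepData H hT N).mem_llp_rlp f (goodSup H hT N) ((monoQis_mk_arrow_iff f).2 hf)

section SmallObject

variable (G T)

instance : MorphismProperty.IsSmall.{w} (genMaps G T) := by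
  dsimp [genMaps]
  infer_instance

instance : HasSmallObjectArgument.{w} (genMaps G T) := by
  obtain ⟨κ, hκ', hκ⟩ := HasCardinalLT.exists_regular_cardinal.{w} (Subobject (E₀ G T))
  have : Fact κ.IsRegular := ⟨hκ'⟩
  have : Nonempty κ.ord.ToType := by simpa using hκ'.ne_zero
  have := WellFoundedLT.toOrderBot κ.ord.ToType
  exact ⟨κ, inferInstance, inferInstance,
    { preservesColimit {A B X Y} i hi f hf := by
        let hf' : (monomorphisms (CochainComplex C ℤ)).TransfiniteCompositionOfShape
            κ.ord.ToType f :=
          { toTransfiniteCompositionOfShape := hf.toTransfiniteCompositionOfShape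
            map_mem j hj := by
              have := (hf.attachCells j hj).pushouts_coproducts
              simp only [ofHoms_homFamily] at this
              refine (?_ : _ ≤ monomorphisms (CochainComplex C ℤ)) _ this
              simp only [pushouts_le_iff, coproducts_le_iff]
              exact genMaps_le_monomorphisms G T }
        have (j j' : κ.ord.ToType) (φ : j ⟶ j') : Mono (hf'.F.map φ) := hf'.mem_map φ
        apply IsGrothendieckAbelian.preservesColimit_coyoneda_obj_of_mono (Y := hf'.F) (κ := κ)
        obtain ⟨S⟩ := hi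
        exact Subobject.hasCardinalLT_of_mono hκ S.1.arrow }⟩

lemma llp_rlp_genMaps_le : (genMaps G T).rlp.llp ≤ monoQis C := by
  rw [llp_rlp_of_hasSmallObjectArgument]
  trans (transfiniteCompositions.{w} (coproducts.{w} (monoQis C)).pushouts).retracts
  · apply retracts_monotone
    apply transfiniteCompositions_monotone
    apply pushouts_monotone
    apply coproducts_monotone
    apply genMaps_le_monoQis
  · simp

end SmallObject

open Groth.Agent.KInjRlp31

/-- the resolution, given the cardinal data -/
theorem exists_resolution_of_hyp (H : Hyp G κ) (hT : #T = κ) (M : CochainComplex C ℤ) :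
    ∃ (I : CochainComplex C ℤ) (f : M ⟶ I),
      I.IsKInjective ∧ QuasiIso f ∧ (∀ n, Mono (f.f n)) ∧ ∀ n, Injective (I.X n) := by
  let fac : MapFactorizationData (genMaps G T).rlp.llp (genMaps G T).rlp
      (0 : M ⟶ (0 : CochainComplex C ℤ)) :=
    (functorialFactorizationData _ _).factorizationData _
  have hi : monoQis C fac.i := llp_rlp_genMaps_le G T _ fac.hi
  have hExt : HasExt fac.Z := by
    intro K L i hi g
    have hl : HasLiftingProperty i fac.p := monoQis_le_llp_rlp H hT i hi fac.p fac.hp
    have sq : CommSq g i fac.p (0 : L ⟶ 0) := ⟨(isZero_zero _).eq_of_tgt _ _⟩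
    exact ⟨sq.lift, sq.fac_left⟩
  have hmono : Mono fac.i := ((monoQis_iff _).1 hi).1
  exact ⟨fac.Z, fac.i, isKInjective_of_hasExt _ hExt, ((monoQis_iff _).1 hi).2,
    fun n => inferInstance, fun n => injective_X_of_hasExt _ hExt n⟩

variable (C) in
lemma exists_hyp : ∃ (G : CochainComplex C ℤ) (κ : Cardinal.{w}), Hyp G κ := by
  let G := separator (CochainComplex C ℤ)
  have hG : IsSeparator G := isSeparator_separator _
  let κ : Cardinal.{w} :=
    max ℵ₀ (max #(Shrink.{w} (Subobject G)) (max #(G ⟶ G) #(G ⟶ G⟦(1 : ℤ)⟧)))
  refine ⟨G, κ, hG, le_max_left _ _, ?_, ?_, ?_⟩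
  · exact le_trans (le_max_left _ _) (le_max_right _ _)
  · exact le_trans (le_trans (le_max_left _ _) (le_max_right _ _)) (le_max_right _ _)
  · refine ⟨(G ⟶ G⟦(1 : ℤ)⟧), ?_, Sigma.desc (fun f => f), ?_⟩
    · exact le_trans (le_trans (le_max_right _ _) (le_max_right _ _)) (le_max_right _ _)
    · apply epi_sigma_desc
      intro Z u hu
      exact hG.def _ _ (fun h => by rw [hu h, comp_zero])

/-- **K-injective resolutions**: in a Grothendieck abelian category, every cochain complex admits
a monomorphic quasi-isomorphism to a K-injective complex with injective terms. -/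
theorem exists_kinjective_resolution (M : CochainComplex C ℤ) :
    ∃ (I : CochainComplex C ℤ) (f : M ⟶ I),
      I.IsKInjective ∧ QuasiIso f ∧ (∀ n, Mono (f.f n)) ∧ ∀ n, Injective (I.X n) := by
  obtain ⟨G, κ, H⟩ := exists_hyp C
  exact exists_resolution_of_hyp (T := κ.out) H (Cardinal.mk_out κ) M

end Groth.Agent.KInjMain31
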