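import Mathlib.Algebra.Homology.DerivedCategory.Fractions
import Mathlib.Algebra.Homology.DerivedCategory.HomologySequence
import Mathlib.Algebra.Homology.DerivedCategory.Basic
import Mathlib.Algebra.Homology.HomologicalComplexAbelian

/-!
# Stupid truncation `σ_{≥ n}` of a cochain complex in an abelian category

Namespace `Groth.Agent.Lib.PCohStupid`.

* `gate p A` : the object `A` if `p` holds, `0` otherwise, with `gateι`, `gateπ`.
* `sigmaGE E n` : the stupid truncation `σ_{≥ n} E`, `sigmaGEι E n : sigmaGE E n ⟶ E`.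
* `isIso_homologyMap_of_f`, `epi_homologyMap_of_f` : homology criteria for a morphism of complexes
  in terms of its components.
* `isIso_homologyFunctor_map_Q_iff`, `epi_homologyFunctor_map_Q_iff` : homology of `Q.map φ`.
-/

set_option autoImplicit false
universe w v u
open CategoryTheory CategoryTheory.Limits
open scoped ZeroObject

namespace Groth.Agent.Lib.PCohStupid

variable {C : Type u} [Category.{v} C] [Abelian C]

section Gate

variable (p : Prop) [Decidable p] (A : C)

/-- `A` if `p` holds, `0` otherwise -/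
noncomputable def gate : C := if p then A else 0

/-- the canonical map `gate p A ⟶ A` -/
noncomputable def gateι : gate p A ⟶ A :=
  if h : p then eqToHom (if_pos h) else 0

/-- the canonical map `A ⟶ gate p A` -/
noncomputable def gateπ : A ⟶ gate p A :=
  if h : p then eqToHom (if_pos h).symm else 0

lemma gate_isZero (h : ¬ p) : IsZero (gate p A) := by
  unfold gate
  rw [if_neg h]
  exact isZero_zero C

lemma gateι_neg (h : ¬ p) : gateι p A = 0 := by
  simp [gateι, h]

lemma gateπ_neg (h : ¬ p) : gateπ p A = 0 := by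
  simp [gateπ, h]

@[reassoc]
lemma gateι_π : gateι p A ≫ gateπ p A = 𝟙 _ := by
  by_cases h : p
  · simp [gateι, gateπ, h]
  · exact (gate_isZero p A h).eq_of_src _ _

@[reassoc]
lemma gateπ_ι_pos (h : p) : gateπ p A ≫ gateι p A = 𝟙 _ := by
  simp [gateι, gateπ, h]

lemma isIso_gateι (h : p) : IsIso (gateι p A) :=
  ⟨gateπ p A, gateι_π p A, gateπ_ι_pos p A h⟩

end Gate

section Sigma

variable (E : CochainComplex C ℤ) (n : ℤ)

/-- the stupid truncation `σ_{≥ n} E` -/
noncomputable def sigmaGE : CochainComplex C ℤ where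
  X i := gate (n ≤ i) (E.X i)
  d i j := gateι (n ≤ i) (E.X i) ≫ E.d i j ≫ gateπ (n ≤ j) (E.X j)
  shape i j hij := by simp [E.shape i j hij]
  d_comp_d' i j k _ _ := by
    simp only [Category.assoc]
    by_cases hj : n ≤ j
    · rw [gateπ_ι_pos_assoc _ _ hj]
      simp
    · rw [gateπ_neg _ _ hj]
      simp

/-- the canonical morphism `σ_{≥ n} E ⟶ E` -/
noncomputable def sigmaGEι : sigmaGE E n ⟶ E where
  f i := gateι (n ≤ i) (E.X i)
  comm' i j hij := by
    have hij' : i + 1 = j := hij
    by_cases hj : n ≤ j
    · simp [sigmaGE, gateπ_ι_pos _ _ hj]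
    · have hi : ¬ n ≤ i := by lia
      simp [sigmaGE, gateι_neg _ _ hi]

lemma isZero_sigmaGE_X (i : ℤ) (hi : i < n) : IsZero ((sigmaGE E n).X i) :=
  gate_isZero _ _ (by lia)

lemma isZero_sigmaGE_X_of_isZero (i : ℤ) (hi : IsZero (E.X i)) : IsZero ((sigmaGE E n).X i) := by
  by_cases h : n ≤ i
  · have := isIso_gateι (n ≤ i) (E.X i) h
    have e : gate (n ≤ i) (E.X i) ≅ E.X i := asIso (gateι (n ≤ i) (E.X i))
    exact IsZero.of_iso hi e
  · exact gate_isZero _ _ h

lemma isIso_sigmaGEι_f (i : ℤ) (hi : n ≤ i) : IsIso ((sigmaGEι E n).f i) :=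
  isIso_gateι _ _ hi

end Sigma

section Homology

variable {K L : CochainComplex C ℤ} (φ : K ⟶ L) (i : ℤ)

lemma isIso_homologyMap_of_f (h1 : Epi (φ.f (i - 1))) (h2 : IsIso (φ.f i))
    (h3 : Mono (φ.f (i + 1))) : IsIso (HomologicalComplex.homologyMap φ i) := by
  rw [← quasiIsoAt_iff_isIso_homologyMap]
  rw [_root_.quasiIsoAt_iff' φ (i - 1) i (i + 1) (by simp) (by simp)]
  have : Epi ((HomologicalComplex.shortComplexFunctor' C (ComplexShape.up ℤ)
    (i - 1) i (i + 1)).map φ).τ₁ := h1
  have : IsIso ((HomologicalComplex.shortComplexFunctor' C (ComplexShape.up ℤ)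
    (i - 1) i (i + 1)).map φ).τ₂ := h2
  have : Mono ((HomologicalComplex.shortComplexFunctor' C (ComplexShape.up ℤ)
    (i - 1) i (i + 1)).map φ).τ₃ := h3
  exact ShortComplex.quasiIso_of_epi_of_isIso_of_mono _

lemma epi_homologyMap_of_f (h2 : IsIso (φ.f i)) (h3 : Mono (φ.f (i + 1))) :
    Epi (HomologicalComplex.homologyMap φ i) := by
  have h3' : Mono (φ.f ((ComplexShape.up ℤ).next i)) := by
    rw [CochainComplex.next]
    exact h3
  have hc : IsIso (HomologicalComplex.cyclesMap φ i) :=
    ShortComplex.isIso_cyclesMap_of_isIso_of_mono'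
      ((HomologicalComplex.shortComplexFunctor C (ComplexShape.up ℤ) i).map φ) h2 h3'
  have h := HomologicalComplex.homologyπ_naturality φ i
  have : Epi (K.homologyπ i ≫ HomologicalComplex.homologyMap φ i) := by
    rw [h]
    infer_instance
  exact epi_of_epi (K.homologyπ i) _

end Homology

section Derived

variable [HasDerivedCategory.{w} C] {K L : CochainComplex C ℤ} (φ : K ⟶ L) (i : ℤ)

lemma isIso_homologyFunctor_map_Q_iff :
    IsIso ((DerivedCategory.homologyFunctor C i).map (DerivedCategory.Q.map φ)) ↔
      IsIso (HomologicalComplex.homologyMap φ i) :=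
  NatIso.isIso_map_iff (DerivedCategory.homologyFunctorFactors C i) φ

lemma epi_homologyFunctor_map_Q_iff :
    Epi ((DerivedCategory.homologyFunctor C i).map (DerivedCategory.Q.map φ)) ↔
      Epi (HomologicalComplex.homologyMap φ i) := by
  have h := (DerivedCategory.homologyFunctorFactors C i).hom.naturality φ
  let eK : (DerivedCategory.homologyFunctor C i).obj (DerivedCategory.Q.obj K) ≅ K.homology i :=
    (DerivedCategory.homologyFunctorFactors C i).app K
  let eL : (DerivedCategory.homologyFunctor C i).obj (DerivedCategory.Q.obj L) ≅ L.homology i :=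
    (DerivedCategory.homologyFunctorFactors C i).app L
  have h' : (DerivedCategory.homologyFunctor C i).map (DerivedCategory.Q.map φ) ≫ eL.hom =
      eK.hom ≫ HomologicalComplex.homologyMap φ i := h
  constructor
  · intro hA
    have : Epi (eK.hom ≫ HomologicalComplex.homologyMap φ i) := by
      rw [← h']
      exact epi_comp _ _
    exact epi_of_epi eK.hom _
  · intro hB
    have h1 : Epi ((DerivedCategory.homologyFunctor C i).map (DerivedCategory.Q.map φ) ≫
        eL.hom) := by
      rw [h']
      exact epi_comp _ _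
    have h2 : (DerivedCategory.homologyFunctor C i).map (DerivedCategory.Q.map φ) =
        ((DerivedCategory.homologyFunctor C i).map (DerivedCategory.Q.map φ) ≫ eL.hom) ≫
          eL.inv := by
      rw [Category.assoc, Iso.hom_inv_id, Category.comp_id]
    rw [h2]
    exact epi_comp _ _

end Derived

end Groth.Agent.Lib.PCohStupid
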