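import Groth.Agent.Lib.RDPlusLeray31

/-!
# Leray's acyclicity lemma for `R⁺F`, part B (helper31)
-/

set_option autoImplicit false

open CategoryTheory Limits

namespace Groth.Agent.RDPlus31

section Cone

variable {A : Type*} [Category* A] [Abelian A]

/-- A morphism of cochain complexes is a quasi-isomorphism iff its mapping cone is acyclic. -/
lemma quasiIso_iff_mappingCone_exactAt {K L : CochainComplex A ℤ} (f : K ⟶ L) :
    QuasiIso f ↔ ∀ n, (CochainComplex.mappingCone f).ExactAt n := by
  rw [← HomotopyCategory.quotient_obj_mem_subcategoryAcyclic_iff_exactAt]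
  have h := (HomotopyCategory.subcategoryAcyclic A).trW_iff_of_distinguished _
    (HomotopyCategory.mappingCone_triangleh_distinguished f)
  rw [← HomotopyCategory.quasiIso_eq_trW_subcategoryAcyclic] at h
  refine Iff.trans ?_ h
  show _ ↔ HomotopyCategory.quasiIso A _ ((HomotopyCategory.quotient A (.up ℤ)).map f)
  rw [HomotopyCategory.quotient_map_mem_quasiIso_iff, HomologicalComplex.mem_quasiIso_iff]

end Cone

section Leray

variable {A B : Type*} [Category* A] [Category* B] [Abelian A] [Abelian B]
  [HasDerivedCategory A] [HasDerivedCategory B] [EnoughInjectives A]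
  (F : A ⥤ B) [F.Additive] [PreservesFiniteLimits F]

lemma uAcyc_of_injective (X : A) [Injective X] : UAcyc F X := by
  rw [uAcyc_iff]
  intro i hi
  obtain ⟨k, rfl⟩ := Nat.exists_eq_succ_of_ne_zero hi.ne'
  exact F.isZero_rightDerived_obj_injective_succ k X

/-- The terms of the mapping cone of a morphism between complexes with `F`-acyclic terms are
`F`-acyclic. -/
lemma uAcyc_mappingCone_X {K L : CochainComplex A ℤ} (f : K ⟶ L)
    (hK : ∀ n, UAcyc F (K.X n)) (hL : ∀ n, UAcyc F (L.X n)) (n : ℤ) :
    UAcyc F ((CochainComplex.mappingCone f).X n) := by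
  let S : ShortComplex A := ShortComplex.mk ((CochainComplex.mappingCone.inr f).f n)
    ((CochainComplex.mappingCone.fst f).1.v n (n + 1) rfl)
    (CochainComplex.mappingCone.inr_f_fst_v f n (n + 1) rfl)
  have spl : S.Splitting :=
    { r := (CochainComplex.mappingCone.snd f).v n n (add_zero n)
      s := (CochainComplex.mappingCone.inl f).v (n + 1) n (by omega)
      f_r := CochainComplex.mappingCone.inr_f_snd_v f n
      s_g := CochainComplex.mappingCone.inl_v_fst_v f (n + 1) n rfl
      id := by
        rw [add_comm]
        exact CochainComplex.mappingCone.id_X f n (n + 1) rfl }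
  exact uAcyc_X₂_of_X₁_X₃ F spl.shortExact (hL n) (hK (n + 1))

/-- A left exact functor sends a quasi-isomorphism between bounded below complexes with
`F`-acyclic terms to a quasi-isomorphism. -/
theorem quasiIso_map_of_uAcyc {K L : CochainComplex A ℤ} (f : K ⟶ L) [QuasiIso f] (a : ℤ)
    [K.IsStrictlyGE a] [L.IsStrictlyGE a]
    (hK : ∀ n, UAcyc F (K.X n)) (hL : ∀ n, UAcyc F (L.X n)) :
    QuasiIso ((F.mapHomologicalComplex (.up ℤ)).map f) := by
  rw [quasiIso_iff_mappingCone_exactAt]
  have hC : ∀ n, (CochainComplex.mappingCone f).ExactAt n :=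
    (quasiIso_iff_mappingCone_exactAt f).1 inferInstance
  have : (CochainComplex.mappingCone f).IsStrictlyGE (a - 1) :=
    CochainComplex.isStrictlyGE_mappingCone f a a (a - 1)
  have hFC := exactAt_map_of_uAcyc F (a - 1) hC (uAcyc_mappingCone_X F f hK hL)
  intro n
  exact (hFC n).of_iso (CochainComplex.mappingCone.mapHomologicalComplexIso f F)

/-- **Leray's acyclicity lemma**: the unit of `R⁺F` at a bounded below complex with `F`-acyclic
terms is an isomorphism. -/
theorem isIso_unit_app_of_uAcyc (K : CochainComplex.Plus A) (hK : ∀ n, UAcyc F (K.obj.X n)) :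
    IsIso (F.rightDerivedFunctorPlusUnit.app ((HomotopyCategory.Plus.quotient A).obj K)) := by
  obtain ⟨a, ha⟩ := K.property
  obtain ⟨L, hL, s, hs⟩ := CochainComplex.Plus.exists_quasiIso_injective K a
  have : QuasiIso s.hom := hs
  have hinj : ∀ n, Injective (((InjectiveObject.ι A).mapCochainComplexPlus.obj L).obj.X n) :=
    fun n => inferInstanceAs (Injective ((InjectiveObject.ι A).obj (L.obj.X n)))
  rw [isIso_unit_app_iff F s]
  have : CochainComplex.IsStrictlyGE ((InjectiveObject.ι A).mapCochainComplexPlus.obj L).obj a := by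
    show CochainComplex.IsStrictlyGE
      (((InjectiveObject.ι A).mapHomologicalComplex (.up ℤ)).obj L.obj) a
    infer_instance
  exact quasiIso_map_of_uAcyc F s.hom a hK (fun n => uAcyc_of_injective F _)

end Leray

end Groth.Agent.RDPlus31
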