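/-
helper66: stupid truncations `σ_{≥a} K` (sub-complexes) of a cochain complex, with inclusions
`sgι : sg K a ⟶ K`, transition maps `sgMap : sg K a' ⟶ sg K a` (a ≤ a'), the sequence
`n ↦ sg K (b - n)` and the fact that `K` is its colimit.
-/
import Mathlib

universe v u
open CategoryTheory Limits ZeroObject

namespace Groth.Agent.Lib.SigmaGE66

variable {C : Type u} [Category.{v} C] [HasZeroMorphisms C] [HasZeroObject C]

/-- `A` if `P` holds, `0` otherwise -/
noncomputable def pick (P : Prop) [Decidable P] (A : C) : C := if P then A else 0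

noncomputable def pickIso {P : Prop} [Decidable P] (A : C) (h : P) : pick P A ≅ A :=
  eqToIso (if_pos h)

lemma isZero_pick {P : Prop} [Decidable P] (A : C) (h : ¬ P) : IsZero (pick P A) := by
  unfold pick
  rw [if_neg h]
  exact isZero_zero C

/-- the stupid truncation `σ_{≥ a} K` -/
noncomputable def sg (K : CochainComplex C ℤ) (a : ℤ) : CochainComplex C ℤ where
  X n := pick (a ≤ n) (K.X n)
  d n m := if h : a ≤ n ∧ a ≤ m then (pickIso (K.X n) h.1).hom ≫ K.d n m ≫ (pickIso (K.X m) h.2).inv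
    else 0
  shape n m hnm := by
    split_ifs
    · rw [K.shape n m hnm]; simp
    · rfl
  d_comp_d' n m l _ _ := by
    split_ifs <;> simp

variable (K : CochainComplex C ℤ) (a : ℤ)

noncomputable def sgXIso (n : ℤ) (h : a ≤ n) : (sg K a).X n ≅ K.X n := pickIso (K.X n) h

lemma isZero_sg_X (n : ℤ) (h : ¬ a ≤ n) : IsZero ((sg K a).X n) := isZero_pick (K.X n) h

lemma sg_d (n m : ℤ) (hn : a ≤ n) (hm : a ≤ m) :
    (sg K a).d n m = (sgXIso K a n hn).hom ≫ K.d n m ≫ (sgXIso K a m hm).inv := by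
  change (if h : a ≤ n ∧ a ≤ m then _ else 0) = _
  rw [dif_pos ⟨hn, hm⟩]
  rfl

/-- the inclusion `σ_{≥ a} K ⟶ K` -/
noncomputable def sgι : sg K a ⟶ K where
  f n := if h : a ≤ n then (sgXIso K a n h).hom else 0
  comm' n m hnm := by
    by_cases hn : a ≤ n
    · have hm : a ≤ m := by
        have : n + 1 = m := hnm
        omega
      rw [dif_pos hn, dif_pos hm, sg_d K a n m hn hm]
      simp
    · exact (isZero_sg_X K a n hn).eq_of_src _ _

lemma sgι_f (n : ℤ) (h : a ≤ n) : (sgι K a).f n = (sgXIso K a n h).hom := dif_pos h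

lemma isIso_sgι_f (n : ℤ) (h : a ≤ n) : IsIso ((sgι K a).f n) := by
  rw [sgι_f K a n h]; infer_instance

/-- transition maps -/
noncomputable def sgMap {a a' : ℤ} (haa' : a ≤ a') : sg K a' ⟶ sg K a where
  f n := if h : a' ≤ n then (sgXIso K a' n h).hom ≫ (sgXIso K a n (haa'.trans h)).inv else 0
  comm' n m hnm := by
    by_cases hn : a' ≤ n
    · have hm : a' ≤ m := by
        have : n + 1 = m := hnm
        omega
      rw [dif_pos hn, dif_pos hm, sg_d K a' n m hn hm, sg_d K a n m (haa'.trans hn) (haa'.trans hm)]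
      simp
    · exact (isZero_sg_X K a' n hn).eq_of_src _ _

@[reassoc (attr := simp)]
lemma sgMap_ι {a a' : ℤ} (haa' : a ≤ a') : sgMap K haa' ≫ sgι K a = sgι K a' := by
  ext n
  by_cases hn : a' ≤ n
  · simp only [HomologicalComplex.comp_f]
    rw [sgι_f K a n (haa'.trans hn), sgι_f K a' n hn]
    change (if h : a' ≤ n then _ else 0) ≫ _ = _
    rw [dif_pos hn]
    simp
  · exact (isZero_sg_X K a' n hn).eq_of_src _ _

lemma isIso_sgMap_f {a a' : ℤ} (haa' : a ≤ a') (n : ℤ) (h : a' ≤ n) :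
    IsIso ((sgMap K haa').f n) := by
  change IsIso (if h : a' ≤ n then _ else 0)
  rw [dif_pos h]
  infer_instance

/-- the sequence `n ↦ σ_{≥ b - n} K` -/
noncomputable def sgSeq (b : ℤ) : ℕ ⥤ CochainComplex C ℤ :=
  Functor.ofSequence (X := fun n : ℕ => sg K (b - n))
    (fun n => sgMap K (by push_cast; omega : b - ((n + 1 : ℕ) : ℤ) ≤ b - (n : ℤ)))

/-- the cocone with point `K` -/
noncomputable def sgCocone (b : ℤ) : Cocone (sgSeq K b) where
  pt := K
  ι := NatTrans.ofSequence (fun n => sgι K (b - n)) (fun n => by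
    dsimp only [sgSeq]
    rw [Functor.ofSequence_map_homOfLE_succ]
    exact (sgMap_ι K _).trans (Category.comp_id _).symm)

lemma sgCocone_ι_app (b : ℤ) (n : ℕ) : (sgCocone K b).ι.app n = sgι K (b - n) := rfl


lemma isIso_sgSeq_map_f (b : ℤ) {i j : ℕ} (φ : i ⟶ j) (q : ℤ) (h : b - i ≤ q) :
    IsIso (((sgSeq K b).map φ).f q) := by
  have h1 : (sgSeq K b).map φ ≫ (sgCocone K b).ι.app j = (sgCocone K b).ι.app i :=
    (sgCocone K b).w φ
  have h2 : ((sgSeq K b).map φ).f q ≫ (sgι K (b - j)).f q = (sgι K (b - i)).f q := by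
    rw [← HomologicalComplex.comp_f]
    exact congrArg (fun ψ => ψ.f q) h1
  have hij : i ≤ j := leOfHom φ
  have hj : b - (j : ℤ) ≤ q := by
    have : (i : ℤ) ≤ j := by exact_mod_cast hij
    omega
  haveI e1 : IsIso ((sgι K (b - j)).f q) := isIso_sgι_f K (b - j) q hj
  haveI e2 : IsIso ((sgι K (b - i)).f q) := isIso_sgι_f K (b - i) q h
  exact @IsIso.of_isIso_fac_right _ _ _ _ _ _ _ _ e1 e2 h2

/-- `K` is the colimit of its stupid truncations -/
noncomputable def isColimitSgCocone (b : ℤ) : IsColimit (sgCocone K b) := by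
  refine HomologicalComplex.isColimitOfEval _ _ (fun q => ?_)
  -- from `i₀ = (b - q).toNat` on the diagram is constant in degree `q`
  have hi₀ : b - ((b - q).toNat : ℤ) ≤ q := by
    have := Int.self_le_toNat (b - q)
    omega
  have hconst : (sgSeq K b ⋙ HomologicalComplex.eval C (ComplexShape.up ℤ) q).IsEventuallyConstantFrom
      (b - q).toNat := by
    intro j φ
    have hj : b - (j : ℤ) ≤ q := by
      have : ((b - q).toNat : ℤ) ≤ j := by exact_mod_cast (leOfHom φ)
      omega
    exact isIso_sgSeq_map_f K b φ q hi₀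
  have : IsIso (((HomologicalComplex.eval C (ComplexShape.up ℤ) q).mapCocone (sgCocone K b)).ι.app
      (b - q).toNat) := isIso_sgι_f K _ q hi₀
  exact hconst.isColimitOfIsIso _


end Groth.Agent.Lib.SigmaGE66

namespace Groth.Agent.Lib.SigmaGE66

section Abelian

variable {A : Type u} [Category.{v} A] [Abelian A] (K : CochainComplex A ℤ)

lemma mono_sgMap_f {a a' : ℤ} (haa' : a ≤ a') (n : ℤ) : Mono ((sgMap K haa').f n) := by
  by_cases h : a' ≤ n
  · have := isIso_sgMap_f K haa' n h
    infer_instance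
  · exact ⟨fun g g' _ => (isZero_sg_X K a' n h).eq_of_tgt _ _⟩

instance mono_sgMap {a a' : ℤ} (haa' : a ≤ a') : Mono (sgMap K haa') :=
  HomologicalComplex.mono_of_mono_f _ (fun n => mono_sgMap_f K haa' n)

/-- the quotient `σ_{≥ a} K / σ_{≥ a+1} K` -/
noncomputable abbrev sgQuot (a : ℤ) : CochainComplex A ℤ :=
  cokernel (sgMap K (by omega : a ≤ a + 1))

/-- the short exact sequence `0 → σ_{≥ a+1} K → σ_{≥ a} K → sgQuot → 0` -/
noncomputable def sgSC (a : ℤ) : ShortComplex (CochainComplex A ℤ) :=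
  ShortComplex.mk (sgMap K (by omega : a ≤ a + 1)) (cokernel.π _) (cokernel.condition _)

lemma sgSC_shortExact (a : ℤ) : (sgSC K a).ShortExact :=
  ShortComplex.ShortExact.mk' (ShortComplex.exact_cokernel _)
    (by dsimp [sgSC]; infer_instance) (by dsimp [sgSC]; infer_instance)

/-- degreewise description of the quotient -/
noncomputable def sgQuotXIso (a m : ℤ) :
    (sgQuot K a).X m ≅ cokernel ((sgMap K (by omega : a ≤ a + 1)).f m) :=
  PreservesCokernel.iso (HomologicalComplex.eval A (ComplexShape.up ℤ) m) _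

lemma isZero_sgQuot_X (a m : ℤ) (hm : m ≠ a) : IsZero ((sgQuot K a).X m) := by
  refine IsZero.of_iso ?_ (sgQuotXIso K a m)
  by_cases h : a + 1 ≤ m
  · have := isIso_sgMap_f K (by omega : a ≤ a + 1) m h
    exact isZero_cokernel_of_epi _
  · have hz : IsZero ((sg K a).X m) := isZero_sg_X K a m (by omega)
    exact IsZero.of_epi (cokernel.π _) hz

/-- in degree `a` the quotient is `K.X a` -/
noncomputable def sgQuotXIsoSelf (a : ℤ) : (sgQuot K a).X a ≅ K.X a :=
  sgQuotXIso K a a ≪≫
    cokernelIsoOfEq ((isZero_sg_X K (a + 1) a (by omega)).eq_of_src _ 0) ≪≫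
    cokernelZeroIsoTarget ≪≫ sgXIso K a a le_rfl

end Abelian

end Groth.Agent.Lib.SigmaGE66
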