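import Groth.Agent.Lib.Telescope
import Mathlib.CategoryTheory.Triangulated.HomologicalFunctor
import Mathlib.CategoryTheory.Limits.Preserves.Shapes.Products

/-!
# Homological functors and homotopy colimits (helper21)

* `map_T` : an additive functor `H` preserving the coproduct of a sequence `K` conjugates
  `H.map (1 - shift)` into `T` of the sequence `H (K n)`.
* `mono_map_one_sub_shift` : `H.map (1 - shift)` is a monomorphism when the target has exact
  `ℕ`-colimits.
* `exists_iso_of_isHocolim` : a homological functor commuting with countable coproducts sends a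
  homotopy colimit to the colimit.
-/

set_option autoImplicit false
set_option backward.isDefEq.respectTransparency false
universe v v' u u'

open CategoryTheory CategoryTheory.Limits

namespace Groth.Agent.Lib.Telescope

section Additive

variable {D : Type u} [Category.{v} D] [Preadditive D]
  {A : Type u'} [Category.{v'} A] [Abelian A]
  (H : D ⥤ A) [H.Additive] (K : ℕ → D) (f : ∀ n, K n ⟶ K (n + 1)) [HasCoproduct K]
  [PreservesColimit (Discrete.functor K) H]

/-- The sequence `H (K n)`. -/
abbrev seq : ℕ ⥤ A := Functor.ofSequence (fun n => H.map (f n))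

omit [Preadditive D] [Abelian A] [H.Additive] in
lemma hasCoproduct_map : HasCoproduct (fun n => H.obj (K n)) :=
  ⟨⟨⟨_, isColimitOfHasCoproductOfPreservesColimit H K⟩⟩⟩

omit [Preadditive D] [Abelian A] [H.Additive] [HasCoproduct K]
  [PreservesColimit (Discrete.functor K) H] in
lemma tr_seq (n : ℕ) : tr (seq H K f) n = H.map (f n) :=
  Functor.ofSequence_map_homOfLE_succ _ n

variable [HasCoproduct (fun n => H.obj (K n))]

instance : HasCoproduct (seq H K f).obj :=
  inferInstanceAs (HasCoproduct (fun n => H.obj (K n)))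

/-- The comparison isomorphism `∐ H (K n) ≅ H (∐ K)`. -/
noncomputable def θ : (∐ (seq H K f).obj) ≅ H.obj (∐ K) :=
  (PreservesCoproduct.iso H K).symm

@[reassoc (attr := simp)]
lemma ι_θ_hom (n : ℕ) : Sigma.ι (seq H K f).obj n ≫ (θ H K f).hom = H.map (Sigma.ι K n) :=
  ι_comp_sigmaComparison H K n

lemma θ_hom_map_T :
    (θ H K f).hom ≫ H.map (𝟙 (∐ K) - DerLim.shiftMap K f) = T (seq H K f) ≫ (θ H K f).hom := by
  apply Sigma.hom_ext
  intro n
  rw [ι_θ_hom_assoc, ι_T_assoc, ← H.map_comp, Preadditive.sub_comp, Category.assoc, ι_θ_hom,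
    ι_θ_hom, tr_seq, Preadditive.comp_sub, Category.comp_id, DerLim.shiftMap, Sigma.ι_desc,
    H.map_sub, H.map_comp]

lemma θ_hom_map_desc {L : D} (i : ∀ n, K n ⟶ L) :
    (θ H K f).hom ≫ H.map (Sigma.desc i) = Sigma.desc (fun n => H.map (i n)) := by
  apply Sigma.hom_ext
  intro n
  rw [ι_θ_hom_assoc, ← H.map_comp, Sigma.ι_desc, Sigma.ι_desc]

variable [HasColimitsOfShape ℕ A] [HasExactColimitsOfShape ℕ A]

lemma mono_map_one_sub_shift : Mono (H.map (𝟙 (∐ K) - DerLim.shiftMap K f)) := by
  have := mono_T (seq H K f)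
  have e : H.map (𝟙 (∐ K) - DerLim.shiftMap K f) =
      (θ H K f).inv ≫ T (seq H K f) ≫ (θ H K f).hom := by
    rw [← θ_hom_map_T, Iso.inv_hom_id_assoc]
  rw [e]
  infer_instance

end Additive

section Homological

open CategoryTheory.Pretriangulated

variable {D : Type u} [Category.{v} D] [Preadditive D] [HasZeroObject D] [HasShift D ℤ]
  [∀ n : ℤ, (shiftFunctor D n).Additive] [Pretriangulated D]
  {A : Type u'} [Category.{v'} A] [Abelian A] [HasColimitsOfShape ℕ A]
  [HasExactColimitsOfShape ℕ A]
  (H : D ⥤ A) [H.IsHomological] (K : ℕ → D) (f : ∀ n, K n ⟶ K (n + 1)) [HasCoproduct K]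
  [PreservesColimit (Discrete.functor K) H]
  [PreservesColimit (Discrete.functor K) (shiftFunctor D (1 : ℤ) ⋙ H)]

/-- A homological functor which commutes with the relevant countable coproducts sends a homotopy
colimit of a sequence to the colimit of the image sequence. -/
theorem exists_iso_of_isHocolim (L : D) (i : ∀ n, K n ⟶ L) (hL : DerLim.IsHocolim K f L i) :
    ∃ e : colimit (Functor.ofSequence (fun n => H.map (f n))) ≅ H.obj L,
      ∀ n : ℕ, colimit.ι (Functor.ofSequence (fun n => H.map (f n))) n ≫ e.hom = H.map (i n) := by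
  obtain ⟨c, hc⟩ := hL
  have : HasCoproduct (fun n => H.obj (K n)) := hasCoproduct_map H K
  have : HasCoproduct (fun n => (shiftFunctor D (1 : ℤ) ⋙ H).obj (K n)) :=
    hasCoproduct_map (shiftFunctor D (1 : ℤ) ⋙ H) K
  have : (shiftFunctor D (1 : ℤ) ⋙ H).Additive := inferInstance
  -- exactness at `H (∐ K)` and at `H L`
  have ex1 := H.map_distinguished_exact _ hc
  have ex2 := H.map_distinguished_exact _ (rot_of_distTriang _ hc)
  have ex3 := H.map_distinguished_exact _ (rot_of_distTriang _ (rot_of_distTriang _ hc))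
  -- `H (τ⟦1⟧)` is a monomorphism
  have hmono : Mono (H.map ((𝟙 (∐ K) - DerLim.shiftMap K f)⟦(1 : ℤ)⟧')) :=
    mono_map_one_sub_shift (shiftFunctor D (1 : ℤ) ⋙ H) K f
  -- hence `H c = 0` and `H σ` is an epimorphism
  have hc0 : H.map c = 0 := by
    have h : H.map c ≫ H.map (-(𝟙 (∐ K) - DerLim.shiftMap K f)⟦(1 : ℤ)⟧') = 0 :=
      ((shortComplexOfDistTriangle _
        (rot_of_distTriang _ (rot_of_distTriang _ hc))).map H).zero
    rw [Functor.map_neg, Preadditive.comp_neg, neg_eq_zero] at h
    rw [← cancel_mono (H.map ((𝟙 (∐ K) - DerLim.shiftMap K f)⟦(1 : ℤ)⟧')), zero_comp]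
    exact h
  have hepi : Epi (H.map (Sigma.desc i)) := ex2.epi_f hc0
  -- `H σ` is a cokernel of `H τ`
  have hzero : H.map (𝟙 (∐ K) - DerLim.shiftMap K f) ≫ H.map (Sigma.desc i) = 0 :=
    ((shortComplexOfDistTriangle _ hc).map H).zero
  have hcok : IsColimit (CokernelCofork.ofπ (H.map (Sigma.desc i)) hzero) :=
    haveI : Epi ((shortComplexOfDistTriangle _ hc).map H).g := hepi
    ex1.gIsCokernel
  -- comparison with the telescope sequence
  have e0 : H.map (𝟙 (∐ K) - DerLim.shiftMap K f) =
      (θ H K f).inv ≫ T (seq H K f) ≫ (θ H K f).hom := by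
    rw [← θ_hom_map_T, Iso.inv_hom_id_assoc]
  have hw : T (seq H K f) ≫ (θ H K f).hom ≫ H.map (Sigma.desc i) = 0 := by
    rw [← Category.assoc, ← θ_hom_map_T, Category.assoc, hzero, comp_zero]
  have hcok' : IsColimit (CokernelCofork.ofπ ((θ H K f).hom ≫ H.map (Sigma.desc i)) hw) :=
    CokernelCofork.IsColimit.ofπ _ _
      (fun {Z} g hg => hcok.desc (CokernelCofork.ofπ ((θ H K f).inv ≫ g) (by
        rw [e0, Category.assoc, Category.assoc, Iso.hom_inv_id_assoc, hg, comp_zero])))
      (fun {Z} g hg => by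
        rw [Category.assoc]
        have := hcok.fac (CokernelCofork.ofπ ((θ H K f).inv ≫ g) (by
          rw [e0, Category.assoc, Category.assoc, Iso.hom_inv_id_assoc, hg, comp_zero]))
          WalkingParallelPair.one
        dsimp at this
        rw [this, Iso.hom_inv_id_assoc])
      (fun {Z} g hg m hm => by
        apply Cofork.IsColimit.hom_ext hcok
        have := hcok.fac (CokernelCofork.ofπ ((θ H K f).inv ≫ g) (by
          rw [e0, Category.assoc, Category.assoc, Iso.hom_inv_id_assoc, hg, comp_zero]))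
          WalkingParallelPair.one
        dsimp at this ⊢
        rw [this, ← hm, Category.assoc, Iso.inv_hom_id_assoc])
  have hcok'' := isColimitCokernelCofork (colimit.cocone (seq H K f))
    (colimit.isColimit (seq H K f))
  refine ⟨IsColimit.coconePointUniqueUpToIso hcok'' hcok', fun n => ?_⟩
  have h1 : Sigma.desc (fun n => colimit.ι (seq H K f) n) ≫
      (IsColimit.coconePointUniqueUpToIso hcok'' hcok').hom =
        (θ H K f).hom ≫ H.map (Sigma.desc i) :=
    IsColimit.comp_coconePointUniqueUpToIso_hom hcok'' hcok' WalkingParallelPair.one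
  have h2 : Sigma.ι (seq H K f).obj n ≫ Sigma.desc (fun n => colimit.ι (seq H K f) n) ≫
      (IsColimit.coconePointUniqueUpToIso hcok'' hcok').hom =
        Sigma.ι (seq H K f).obj n ≫ (θ H K f).hom ≫ H.map (Sigma.desc i) := by rw [h1]
  rw [Sigma.ι_desc_assoc, ι_θ_hom_assoc, ← H.map_comp, Sigma.ι_desc] at h2
  exact h2

end Homological

end Groth.Agent.Lib.Telescope
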