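import Groth.Agent.Lib.RFTriang31
import Groth.Agent.Lib.RDPlusLerayB31
import Groth.Agent.Lib.SigmaGE66
import Groth.Agent.Lib.DerivedHocolim
import Groth.Agent.Lib.TelescopeHocolim
import Groth.Agent.Lib.DerivedCoprod
import Groth.Agent.Lib.KInjMain31
import Groth.Agent.Lib.PCohStupid
import Mathlib.CategoryTheory.Limits.Constructions.EventuallyConstant

/-!
# The unit of an unbounded right derived functor at complexes of acyclic objects (helper31)

If `RF` commutes with countable direct sums, then `F(K) ⟶ RF(K)` is an isomorphism for every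
complex `K` with `F`-acyclic terms (via `K = hocolim σ_{≥ -n} K`).
-/

set_option autoImplicit false

open CategoryTheory Limits Pretriangulated

universe w w' v v' u u'

namespace Groth.Agent.AcycHocolim31

open Groth.Agent.RDPlus31

section General

variable {A : Type u} [Category.{v} A] [Abelian A] [HasDerivedCategory.{w} A] [EnoughInjectives A]
  {B : Type u'} [Category.{v'} B] [Abelian B] [HasDerivedCategory.{w'} B]
  (F : A ⥤ B) [F.Additive] [PreservesFiniteLimits F]

/-- `K(A) ⥤ D(B)` induced by `F` -/
noncomputable abbrev Φ : HomotopyCategory A (ComplexShape.up ℤ) ⥤ DerivedCategory B :=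
  F.mapHomotopyCategory (ComplexShape.up ℤ) ⋙ DerivedCategory.Qh

omit [HasDerivedCategory.{w} A] [EnoughInjectives A] [PreservesFiniteLimits F] in
lemma Φ_map_quotient_map {M M' : CochainComplex A ℤ} (g : M ⟶ M') :
    (Φ F).map ((HomotopyCategory.quotient A (ComplexShape.up ℤ)).map g) =
      DerivedCategory.Q.map ((F.mapHomologicalComplex (ComplexShape.up ℤ)).map g) := rfl

omit [HasDerivedCategory.{w} A] [EnoughInjectives A] [PreservesFiniteLimits F] in
/-- `H^i(F g)` is an isomorphism when `g` is an isomorphism in degrees `i-1, i, i+1` -/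
lemma isIso_homology_Φ_map {M M' : CochainComplex A ℤ} (g : M ⟶ M') (i : ℤ)
    (h1 : IsIso (g.f (i - 1))) (h2 : IsIso (g.f i)) (h3 : IsIso (g.f (i + 1))) :
    IsIso ((DerivedCategory.homologyFunctor B i).map
      ((Φ F).map ((HomotopyCategory.quotient A (ComplexShape.up ℤ)).map g))) := by
  change IsIso ((DerivedCategory.homologyFunctor B i).map
    (DerivedCategory.Q.map ((F.mapHomologicalComplex (ComplexShape.up ℤ)).map g)))
  rw [Groth.Agent.Lib.PCohStupid.isIso_homologyFunctor_map_Q_iff]
  have e1 : IsIso (((F.mapHomologicalComplex (ComplexShape.up ℤ)).map g).f (i - 1)) := by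
    change IsIso (F.map (g.f (i - 1))); infer_instance
  have e2 : IsIso (((F.mapHomologicalComplex (ComplexShape.up ℤ)).map g).f i) := by
    change IsIso (F.map (g.f i)); infer_instance
  have e3 : IsIso (((F.mapHomologicalComplex (ComplexShape.up ℤ)).map g).f (i + 1)) := by
    change IsIso (F.map (g.f (i + 1))); infer_instance
  exact Groth.Agent.Lib.PCohStupid.isIso_homologyMap_of_f _ i inferInstance e2 inferInstance

variable (RF : DerivedCategory A ⥤ DerivedCategory B) (η : Φ F ⟶ DerivedCategory.Qh ⋙ RF)
  [RF.IsRightDerivedFunctor η (HomotopyCategory.quasiIso A (ComplexShape.up ℤ))]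
  [(Φ F).HasPointwiseRightDerivedFunctor (HomotopyCategory.quasiIso A (ComplexShape.up ℤ))]

/-- the unit is an isomorphism at bounded below complexes with `F`-acyclic terms -/
lemma isIso_η_of_uAcyc (M : CochainComplex A ℤ) (a : ℤ) [M.IsStrictlyGE a]
    (hM : ∀ n, UAcyc F (M.X n)) :
    IsIso (η.app ((HomotopyCategory.quotient A (ComplexShape.up ℤ)).obj M)) := by
  obtain ⟨I, s, hs, hI, hIa⟩ :=
    CochainComplex.Plus.modelCategoryQuillen.exists_quasiIso_injective M a
  haveI : I.IsKInjective := CochainComplex.isKInjective_of_injective I a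
  have h1 := η.naturality ((HomotopyCategory.quotient A (ComplexShape.up ℤ)).map s)
  have i1 : IsIso ((Φ F).map ((HomotopyCategory.quotient A (ComplexShape.up ℤ)).map s)) := by
    change IsIso (DerivedCategory.Q.map ((F.mapHomologicalComplex (ComplexShape.up ℤ)).map s))
    rw [DerivedCategory.isIso_Q_map_iff_quasiIso]
    exact quasiIso_map_of_uAcyc F s a hM (fun n => uAcyc_of_injective F _)
  have i2 : IsIso (η.app ((HomotopyCategory.quotient A (ComplexShape.up ℤ)).obj I)) :=
    Groth.Agent.KInjDerived31.isIso_unit_app_of_isKInjective (Φ F) RF η I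
  have i3 : IsIso ((DerivedCategory.Qh ⋙ RF).map
      ((HomotopyCategory.quotient A (ComplexShape.up ℤ)).map s)) := by
    have : IsIso (DerivedCategory.Q.map s) := by
      rw [DerivedCategory.isIso_Q_map_iff_quasiIso]; exact hs
    change IsIso (RF.map (DerivedCategory.Q.map s))
    infer_instance
  have i4 : IsIso (η.app ((HomotopyCategory.quotient A (ComplexShape.up ℤ)).obj M) ≫
      (DerivedCategory.Qh ⋙ RF).map ((HomotopyCategory.quotient A (ComplexShape.up ℤ)).map s)) := by
    rw [← h1]; infer_instance
  exact IsIso.of_isIso_comp_right _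
    ((DerivedCategory.Qh ⋙ RF).map ((HomotopyCategory.quotient A (ComplexShape.up ℤ)).map s))

include η in
/-- `H^i(RF(g))` is an isomorphism for `g` between bounded below complexes of acyclics which is
an isomorphism in degrees `i-1, i, i+1` -/
lemma isIso_homology_RF_map {M M' : CochainComplex A ℤ} (g : M ⟶ M') (a a' : ℤ)
    [M.IsStrictlyGE a] [M'.IsStrictlyGE a']
    (hM : ∀ n, UAcyc F (M.X n)) (hM' : ∀ n, UAcyc F (M'.X n)) (i : ℤ)
    (h1 : IsIso (g.f (i - 1))) (h2 : IsIso (g.f i)) (h3 : IsIso (g.f (i + 1))) :
    IsIso ((DerivedCategory.homologyFunctor B i).map (RF.map (DerivedCategory.Q.map g))) := by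
  have hη := η.naturality ((HomotopyCategory.quotient A (ComplexShape.up ℤ)).map g)
  have j1 := isIso_η_of_uAcyc F RF η M a hM
  have j2 := isIso_η_of_uAcyc F RF η M' a' hM'
  have j3 := isIso_homology_Φ_map F g i h1 h2 h3
  have k1 : IsIso ((DerivedCategory.homologyFunctor B i).map (η.app ((HomotopyCategory.quotient A (ComplexShape.up ℤ)).obj M))) :=
    inferInstance
  have k2 : IsIso ((DerivedCategory.homologyFunctor B i).map (η.app ((HomotopyCategory.quotient A (ComplexShape.up ℤ)).obj M'))) :=
    inferInstance
  have e1 : (DerivedCategory.homologyFunctor B i).map (η.app ((HomotopyCategory.quotient A (ComplexShape.up ℤ)).obj M) ≫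
      RF.map (DerivedCategory.Q.map g)) =
      (DerivedCategory.homologyFunctor B i).map (η.app ((HomotopyCategory.quotient A (ComplexShape.up ℤ)).obj M)) ≫
        (DerivedCategory.homologyFunctor B i).map (RF.map (DerivedCategory.Q.map g)) := (DerivedCategory.homologyFunctor B i).map_comp _ _
  have e2 : (DerivedCategory.homologyFunctor B i).map ((Φ F).map ((HomotopyCategory.quotient A (ComplexShape.up ℤ)).map g) ≫
      η.app ((HomotopyCategory.quotient A (ComplexShape.up ℤ)).obj M')) =
      (DerivedCategory.homologyFunctor B i).map ((Φ F).map ((HomotopyCategory.quotient A (ComplexShape.up ℤ)).map g)) ≫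
        (DerivedCategory.homologyFunctor B i).map (η.app ((HomotopyCategory.quotient A (ComplexShape.up ℤ)).obj M')) :=
    (DerivedCategory.homologyFunctor B i).map_comp _ _
  have e3 : (DerivedCategory.homologyFunctor B i).map (η.app ((HomotopyCategory.quotient A (ComplexShape.up ℤ)).obj M) ≫
      RF.map (DerivedCategory.Q.map g)) =
      (DerivedCategory.homologyFunctor B i).map ((Φ F).map ((HomotopyCategory.quotient A (ComplexShape.up ℤ)).map g) ≫
        η.app ((HomotopyCategory.quotient A (ComplexShape.up ℤ)).obj M')) :=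
    congrArg (DerivedCategory.homologyFunctor B i).map hη.symm
  have k3 : IsIso ((DerivedCategory.homologyFunctor B i).map (η.app ((HomotopyCategory.quotient A (ComplexShape.up ℤ)).obj M)) ≫
      (DerivedCategory.homologyFunctor B i).map (RF.map (DerivedCategory.Q.map g))) := by
    rw [← e1, e3, e2]
    exact IsIso.comp_isIso' j3 k2
  exact @IsIso.of_isIso_comp_left _ _ _ _ _
    ((DerivedCategory.homologyFunctor B i).map
      (η.app ((HomotopyCategory.quotient A (ComplexShape.up ℤ)).obj M))) _ k1 k3

end General

end Groth.Agent.AcycHocolim31
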