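import Groth.Agent.Lib.AcycHocolim31

/-!
# The unit of an unbounded right derived functor at complexes of acyclic objects, II (helper31)
-/

set_option autoImplicit false
set_option linter.style.haveILetI false
set_option linter.unusedSectionVars false

open CategoryTheory Limits Pretriangulated

universe w w' v v' u u'

namespace Groth.Agent.AcycHocolim31

open Groth.Agent.RDPlus31 Groth.Agent.Lib.SigmaGE66

/-- a sequence whose maps are eventually isomorphisms is eventually constant -/
lemma isEventuallyConstantFrom_ofSequence {C : Type*} [Category* C] {X : ℕ → C}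
    (g : ∀ n, X n ⟶ X (n + 1)) (n₀ : ℕ) (h : ∀ n, n₀ ≤ n → IsIso (g n)) :
    (Functor.ofSequence g).IsEventuallyConstantFrom n₀ := by
  intro j φ
  have hle : n₀ ≤ j := leOfHom φ
  obtain ⟨k, rfl⟩ := Nat.exists_eq_add_of_le hle
  induction k with
  | zero =>
    have : φ = 𝟙 _ := Subsingleton.elim _ _
    rw [this, CategoryTheory.Functor.map_id]
    infer_instance
  | succ k ih =>
    have h1 : φ = homOfLE (Nat.le_add_right n₀ k) ≫ homOfLE (Nat.le_add_right (n₀ + k) 1) :=
      Subsingleton.elim _ _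
    rw [h1, Functor.map_comp, Functor.ofSequence_map_homOfLE_succ]
    exact IsIso.comp_isIso' (ih (homOfLE (Nat.le_add_right n₀ k)) (Nat.le_add_right n₀ k))
      (h (n₀ + k) (Nat.le_add_right n₀ k))

section

variable {A : Type u} [Category.{v} A] [Abelian A] [HasDerivedCategory.{w} A] [EnoughInjectives A]
  {B : Type u'} [Category.{v'} B] [Abelian B] [HasDerivedCategory.{w'} B]
  (F : A ⥤ B) [F.Additive] [PreservesFiniteLimits F]

lemma uAcyc_of_iso {X Y : A} (e : X ≅ Y) (hX : UAcyc F X) : UAcyc F Y := by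
  rw [uAcyc_iff] at hX ⊢
  intro i hi
  exact (hX i hi).of_iso ((F.rightDerived i).mapIso e.symm)

lemma uAcyc_of_isZero {X : A} (hX : IsZero X) : UAcyc F X := by
  haveI : Injective X := hX.injective
  exact uAcyc_of_injective F X

lemma uAcyc_sg (K : CochainComplex A ℤ) (hK : ∀ m, UAcyc F (K.X m)) (a n : ℤ) :
    UAcyc F ((sg K a).X n) := by
  by_cases h : a ≤ n
  · exact uAcyc_of_iso F (sgXIso K a n h).symm (hK n)
  · exact uAcyc_of_isZero F (isZero_sg_X K a n h)

omit [HasDerivedCategory.{w} A] [EnoughInjectives A] in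
lemma isStrictlyGE_sg (K : CochainComplex A ℤ) (a : ℤ) : (sg K a).IsStrictlyGE a := by
  rw [CochainComplex.isStrictlyGE_iff]
  intro i hi
  exact isZero_sg_X K a i (by omega)

end

section Main

variable {A : Type u} [Category.{v} A] [Abelian A] [IsGrothendieckAbelian.{v} A]
  [HasDerivedCategory.{w} A]
  {B : Type u'} [Category.{v'} B] [Abelian B] [HasDerivedCategory.{w'} B]
  [HasColimitsOfShape ℕ B] [HasExactColimitsOfShape ℕ B]
  [HasColimitsOfShape (Discrete ℕ) B] [HasExactColimitsOfShape (Discrete ℕ) B]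
  (F : A ⥤ B) [F.Additive] [PreservesFiniteLimits F]
  (RF : DerivedCategory A ⥤ DerivedCategory B) (η : Φ F ⟶ DerivedCategory.Qh ⋙ RF)
  [RF.IsRightDerivedFunctor η (HomotopyCategory.quasiIso A (ComplexShape.up ℤ))]

lemma hKinj (X : CochainComplex A ℤ) : ∃ (I : CochainComplex A ℤ) (f : X ⟶ I),
    I.IsKInjective ∧ QuasiIso f := by
  obtain ⟨I, f, h1, h2, -, -⟩ := Groth.Agent.KInjMain31.exists_kinjective_resolution X
  exact ⟨I, f, h1, h2⟩

include η in
lemma isHomological (i : ℤ) :
    (RF ⋙ DerivedCategory.homologyFunctor B i).IsHomological := by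
  haveI : RF.Additive := Groth.Agent.RFTriang31.additive hKinj (Φ F) RF η
  refine ⟨fun T hT => ?_⟩
  obtain ⟨δ, hδ⟩ := Groth.Agent.RFTriang31.exists_distinguished hKinj (Φ F) RF η T hT
  exact (DerivedCategory.homologyFunctor B i).map_distinguished_exact _ hδ

include η in
/-- **Main theorem**: if `RF` commutes with countable coproducts, the unit `F(K) ⟶ RF(K)` is an
isomorphism for every complex `K` with `F`-acyclic terms. -/
theorem isIso_η_app [HasColimitsOfShape (Discrete ℕ) (DerivedCategory A)]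
    [PreservesColimitsOfShape (Discrete ℕ) RF]
    (K : CochainComplex A ℤ) (hK : ∀ m, UAcyc F (K.X m)) :
    IsIso (η.app ((HomotopyCategory.quotient A (ComplexShape.up ℤ)).obj K)) := by
  haveI : (Φ F).HasPointwiseRightDerivedFunctor
      (HomotopyCategory.quasiIso A (ComplexShape.up ℤ)) :=
    Groth.Agent.KInjDerived31.hasPointwiseRightDerivedFunctor (Φ F) hKinj
  haveI : HasFilteredColimitsOfSize.{0, 0} A := hasFilteredColimitsOfSize_shrink.{0, 0, v, v}
  haveI : AB5OfSize.{0, 0} A := AB5OfSize_shrink.{0, 0, v, v} A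
  haveI : HasExactColimitsOfShape ℕ A := AB5OfSize.ofShape ℕ
  haveI : HasCoproducts.{0} A := hasCoproducts_shrink.{0, v}
  haveI : HasFiniteBiproducts A := Abelian.hasFiniteBiproducts
  haveI : AB4OfSize.{0} A := AB4.of_AB5 A
  haveI : HasExactColimitsOfShape (Discrete ℕ) A := AB4OfSize.ofShape ℕ
  rw [DerivedCategory.isIso_iff]
  intro i
  -- the tower of stupid truncations
  let L := sgSeq K 0
  let c := sgCocone K 0
  have hc : IsColimit c := isColimitSgCocone K 0
  have hA := Groth.Agent.Lib.DerivedHocolim.isHocolim_of_isColimit L c hc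
  haveI := isHomological F RF η i
  obtain ⟨e, he⟩ := Groth.Agent.Lib.Telescope.exists_iso_of_isHocolim
    (RF ⋙ DerivedCategory.homologyFunctor B i)
    (fun n => DerivedCategory.Q.obj (L.obj n))
    (fun n => DerivedCategory.Q.map (L.map (homOfLE (Nat.le_succ n))))
    (DerivedCategory.Q.obj K) (fun n => DerivedCategory.Q.map (c.ι.app n)) hA
  let n₀ : ℕ := (1 - i).toNat
  have hn₀ : (1 : ℤ) - i ≤ n₀ := Int.self_le_toNat _
  -- the image sequence is eventually constant
  have hS : (Functor.ofSequence (fun n => (RF ⋙ DerivedCategory.homologyFunctor B i).map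
      (DerivedCategory.Q.map (L.map (homOfLE (Nat.le_succ n)))))).IsEventuallyConstantFrom n₀ := by
    apply isEventuallyConstantFrom_ofSequence
    intro n hn
    have hnn : (0 : ℤ) - ((n + 1 : ℕ) : ℤ) ≤ 0 - (n : ℤ) := by push_cast; omega
    have hmap : L.map (homOfLE (Nat.le_succ n)) = sgMap K hnn :=
      Functor.ofSequence_map_homOfLE_succ _ n
    rw [hmap]
    haveI := isStrictlyGE_sg K (0 - (n : ℤ))
    haveI := isStrictlyGE_sg K (0 - ((n + 1 : ℕ) : ℤ))
    have hni : (n₀ : ℤ) ≤ n := by exact_mod_cast hn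
    exact isIso_homology_RF_map F RF η (sgMap K hnn) (0 - (n : ℤ)) (0 - ((n + 1 : ℕ) : ℤ))
      (uAcyc_sg F K hK _) (uAcyc_sg F K hK _) i
      (isIso_sgMap_f K hnn (i - 1) (by omega)) (isIso_sgMap_f K hnn i (by omega))
      (isIso_sgMap_f K hnn (i + 1) (by omega))
  have hι := hS.isIso_ι_of_isColimit (colimit.isColimit _)
  have ha : IsIso ((RF ⋙ DerivedCategory.homologyFunctor B i).map
      (DerivedCategory.Q.map (c.ι.app n₀))) := by
    have h := he n₀
    exact h ▸ IsIso.comp_isIso' hι inferInstance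
  have hb : IsIso ((DerivedCategory.homologyFunctor B i).map
      ((Φ F).map ((HomotopyCategory.quotient A (ComplexShape.up ℤ)).map
        (sgι K (0 - (n₀ : ℤ)))))) :=
    isIso_homology_Φ_map F _ i (isIso_sgι_f K _ (i - 1) (by omega))
      (isIso_sgι_f K _ i (by omega)) (isIso_sgι_f K _ (i + 1) (by omega))
  haveI := isStrictlyGE_sg K (0 - (n₀ : ℤ))
  have hηL : IsIso (η.app ((HomotopyCategory.quotient A (ComplexShape.up ℤ)).obj
      (sg K (0 - (n₀ : ℤ))))) :=
    isIso_η_of_uAcyc F RF η _ (0 - (n₀ : ℤ)) (uAcyc_sg F K hK _)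
  have nat := η.naturality ((HomotopyCategory.quotient A (ComplexShape.up ℤ)).map
    (sgι K (0 - (n₀ : ℤ))))
  have e1 := (DerivedCategory.homologyFunctor B i).map_comp
    ((Φ F).map ((HomotopyCategory.quotient A (ComplexShape.up ℤ)).map (sgι K (0 - (n₀ : ℤ)))))
    (η.app ((HomotopyCategory.quotient A (ComplexShape.up ℤ)).obj K))
  have e2 := (DerivedCategory.homologyFunctor B i).map_comp
    (η.app ((HomotopyCategory.quotient A (ComplexShape.up ℤ)).obj (sg K (0 - (n₀ : ℤ)))))
    ((DerivedCategory.Qh ⋙ RF).map ((HomotopyCategory.quotient A (ComplexShape.up ℤ)).map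
      (sgι K (0 - (n₀ : ℤ)))))
  have e3 := congrArg (DerivedCategory.homologyFunctor B i).map nat
  have k3 : IsIso ((DerivedCategory.homologyFunctor B i).map
      ((Φ F).map ((HomotopyCategory.quotient A (ComplexShape.up ℤ)).map
        (sgι K (0 - (n₀ : ℤ))))) ≫
      (DerivedCategory.homologyFunctor B i).map
        (η.app ((HomotopyCategory.quotient A (ComplexShape.up ℤ)).obj K))) := by
    rw [← e1, e3, e2]
    exact IsIso.comp_isIso' inferInstance ha
  exact @IsIso.of_isIso_comp_left _ _ _ _ _ _ _ hb k3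

end Main

end Groth.Agent.AcycHocolim31
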