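import Mathlib.CategoryTheory.Abelian.RightDerived
import Mathlib.Algebra.Homology.ShortComplex.Exact
import Mathlib.Algebra.Homology.ShortComplex.ShortExact
import Mathlib.CategoryTheory.Limits.Preserves.Shapes.Kernels

/-!
Acyclicity of a class of objects for a left exact functor (in the style of Stacks 05T9):
if a class `P` of objects of an abelian category with injective resolutions contains the
injectives, is closed under cokernels of monomorphisms between its members, and a left exact
additive functor `G` sends epimorphisms with kernel in `P` to epimorphisms, then the higher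
right derived functors of `G` vanish on `P`.
-/

set_option autoImplicit false
universe v v' u u'

namespace Groth.Agent.Lib.AcyclicClass

open CategoryTheory CategoryTheory.Limits

variable {C : Type u} [Category.{v} C] [Abelian C] [HasInjectiveResolutions C]
  {D : Type u'} [Category.{v'} D] [Abelian D]

section

variable {X : C} (I : InjectiveResolution X)

/-- the map `K^n ⟶ Z^{n+1}` -/
noncomputable abbrev toKer (n : ℕ) :
    I.cocomplex.X n ⟶ kernel (I.cocomplex.d (n + 1) (n + 2)) :=
  kernel.lift _ (I.cocomplex.d n (n + 1)) (I.cocomplex.d_comp_d _ _ _)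

omit [HasInjectiveResolutions C] in
lemma toKer_ι (n : ℕ) : toKer I n ≫ kernel.ι _ = I.cocomplex.d n (n + 1) :=
  kernel.lift_ι _ _ _

instance (n : ℕ) : Epi (toKer I n) :=
  (ShortComplex.exact_iff_epi_kernel_lift
    (ShortComplex.mk _ _ (I.cocomplex.d_comp_d n (n + 1) (n + 2)))).1 (I.exact_succ n)

omit [HasInjectiveResolutions C] in
lemma ker_toKer (n : ℕ) : kernel.ι (I.cocomplex.d n (n + 1)) ≫ toKer I n = 0 := by
  rw [← cancel_mono (kernel.ι (I.cocomplex.d (n + 1) (n + 2))), Category.assoc, toKer_ι,
    kernel.condition, zero_comp]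

/-- the short complex `Z^n ⟶ K^n ⟶ Z^{n+1}` -/
noncomputable abbrev sesZ (n : ℕ) : ShortComplex C :=
  ShortComplex.mk (kernel.ι (I.cocomplex.d n (n + 1))) (toKer I n) (ker_toKer I n)

omit [HasInjectiveResolutions C] in
lemma sesZ_shortExact (n : ℕ) : (sesZ I n).ShortExact where
  exact := ShortComplex.exact_of_f_is_kernel _
    (isKernelOfComp (kernel.ι (I.cocomplex.d (n + 1) (n + 2))) (I.cocomplex.d n (n + 1))
      (kernelIsKernel (I.cocomplex.d n (n + 1))) (ker_toKer I n) (toKer_ι I n))
  mono_f := by dsimp; infer_instance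
  epi_g := by dsimp; infer_instance

/-- `Z^0 ≅ X` -/
noncomputable def kerZeroIso : kernel (I.cocomplex.d 0 1) ≅ X :=
  IsLimit.conePointUniqueUpToIso (kernelIsKernel _) I.isLimitKernelFork

end

variable (G : C ⥤ D) [G.Additive] [PreservesFiniteLimits G] (P : ObjectProperty C)

theorem isZero_rightDerived_succ
    (hiso : ∀ X Y : C, (X ≅ Y) → P X → P Y)
    (hinj : ∀ I : C, Injective I → P I)
    (hcok : ∀ S : ShortComplex C, S.ShortExact → P S.X₁ → P S.X₂ → P S.X₃)
    (hG : ∀ S : ShortComplex C, S.ShortExact → P S.X₁ → Epi (G.map S.g))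
    (X : C) (hX : P X) (q : ℕ) : IsZero ((G.rightDerived (q + 1)).obj X) := by
  let I : InjectiveResolution X := injectiveResolution X
  have hZ : ∀ n : ℕ, P (kernel (I.cocomplex.d n (n + 1))) := by
    intro n
    induction n with
    | zero => exact hiso _ _ (kerZeroIso I).symm hX
    | succ n ih =>
      exact hcok (sesZ I n) (sesZ_shortExact I n) ih (hinj _ (I.injective n))
  refine IsZero.of_iso ?_ (I.isoRightDerivedObj G (q + 1))
  refine (HomologicalComplex.exactAt_iff_isZero_homology _ _).1 ?_
  rw [HomologicalComplex.exactAt_iff' _ q (q + 1) (q + 2) (by simp)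
    (by simp only [CochainComplex.next]; rfl)]
  -- the two short complexes
  let S₁ : ShortComplex D := ShortComplex.mk (G.map (I.cocomplex.d q (q + 1)))
    (G.map (I.cocomplex.d (q + 1) (q + 2)))
    (by rw [← G.map_comp, I.cocomplex.d_comp_d, G.map_zero])
  let S₂ : ShortComplex D := ShortComplex.mk
    (G.map (kernel.ι (I.cocomplex.d (q + 1) (q + 2))))
    (G.map (I.cocomplex.d (q + 1) (q + 2)))
    (by rw [← G.map_comp, kernel.condition, G.map_zero])
  have hS₂ : S₂.Exact :=
    ShortComplex.exact_of_f_is_kernel _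
      (KernelFork.mapIsLimit _ (kernelIsKernel (I.cocomplex.d (q + 1) (q + 2))) G)
  let φ : S₁ ⟶ S₂ :=
    { τ₁ := G.map (toKer I q)
      τ₂ := 𝟙 _
      τ₃ := 𝟙 _
      comm₁₂ := by
        dsimp [S₁, S₂]
        rw [Category.comp_id, ← G.map_comp, toKer_ι]
      comm₂₃ := by
        dsimp [S₁, S₂]
        rw [Category.comp_id, Category.id_comp] }
  have : Epi φ.τ₁ := hG (sesZ I q) (sesZ_shortExact I q) (hZ q)
  have : IsIso φ.τ₂ := by dsimp [φ]; infer_instance
  have : Mono φ.τ₃ := by dsimp [φ]; infer_instance
  exact (ShortComplex.exact_iff_of_epi_of_isIso_of_mono φ).2 hS₂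

end Groth.Agent.Lib.AcyclicClass
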