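import Groth.Agent.Lib.AcyclicClass

/-!
# Graded version of the acyclic-class lemma

Let `P : ℕ → ObjectProperty C` be a family of classes of objects of an abelian category with injective
resolutions, `G` a left exact additive functor.  Assume that for every short exact sequence
`0 → X₁ → I → X₃ → 0` with `I` injective, `P (k+1) X₁ → P k X₃` and `P 0 X₁ → P 0 X₃`, and that `G` sends
epimorphisms with kernel in `P 0` to epimorphisms.  Then `R^{q+1} G X = 0` for `X` in `P k` and `q ≥ k`.
(Think of `P k` as: "cohomology of `X` vanishes in degrees `> k` on a basis of opens".)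
-/

set_option autoImplicit false
universe v v' u u'

namespace Groth.Agent.Lib.AcyclicClass

open CategoryTheory CategoryTheory.Limits

variable {C : Type u} [Category.{v} C] [Abelian C] [HasInjectiveResolutions C]
  {D : Type u'} [Category.{v'} D] [Abelian D]
  (G : C ⥤ D) [G.Additive] [PreservesFiniteLimits G] (P : ℕ → ObjectProperty C)

theorem isZero_rightDerived_succ_of_graded
    (hiso : ∀ (k : ℕ) (X Y : C), (X ≅ Y) → P k X → P k Y)
    (hstep : ∀ (k : ℕ) (S : ShortComplex C), S.ShortExact → Injective S.X₂ →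
      P (k + 1) S.X₁ → P k S.X₃)
    (hzero : ∀ S : ShortComplex C, S.ShortExact → Injective S.X₂ → P 0 S.X₁ → P 0 S.X₃)
    (hG : ∀ S : ShortComplex C, S.ShortExact → P 0 S.X₁ → Epi (G.map S.g))
    (X : C) (k : ℕ) (hX : P k X) (q : ℕ) (hq : k ≤ q) :
    IsZero ((G.rightDerived (q + 1)).obj X) := by
  let I : InjectiveResolution X := injectiveResolution X
  have hZ : ∀ n : ℕ, P (k - n) (kernel (I.cocomplex.d n (n + 1))) := by
    intro n
    induction n with
    | zero => exact hiso _ _ _ (kerZeroIso I).symm hX
    | succ n ih =>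
      rcases Nat.eq_zero_or_pos (k - n) with h0 | hpos
      · have h0' : k - (n + 1) = 0 := by omega
        rw [h0'] 
        rw [h0] at ih
        exact hzero (sesZ I n) (sesZ_shortExact I n) (I.injective n) ih
      · obtain ⟨j, hj⟩ := Nat.exists_eq_succ_of_ne_zero hpos.ne'
        have hj' : k - (n + 1) = j := by omega
        rw [hj']
        rw [hj] at ih
        exact hstep j (sesZ I n) (sesZ_shortExact I n) (I.injective n) ih
  have hZq : P 0 (kernel (I.cocomplex.d q (q + 1))) := by
    have := hZ q
    rwa [Nat.sub_eq_zero_of_le hq] at this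
  refine IsZero.of_iso ?_ (I.isoRightDerivedObj G (q + 1))
  refine (HomologicalComplex.exactAt_iff_isZero_homology _ _).1 ?_
  rw [HomologicalComplex.exactAt_iff' _ q (q + 1) (q + 2) (by simp)
    (by simp only [CochainComplex.next]; rfl)]
  let S₁ : ShortComplex D := ShortComplex.mk (G.map (I.cocomplex.d q (q + 1)))
    (G.map (I.cocomplex.d (q + 1) (q + 2)))
    (by rw [← G.map_comp, I.cocomplex.d_comp_d, G.map_zero])
  let S₂ : ShortComplex D := ShortComplex.mk
    (G.map (kernel.ι (I.cocomplex.d (q + 1) (q + 2))))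
    (G.map (I.cocomplex.d (q + 1) (q + 2)))
    (by rw [← G.map_comp, kernel.condition, G.map_zero])
  have hS₂ : S₂.Exact :=
    ShortComplex.exact_of_f_is_kernel _
      (KernelFork.mapIsLimit _ (kernelIsKernel (I.cocomplex.d (q + 1) (q + 2))) G)
  let φ : S₁ ⟶ S₂ :=
    { τ₁ := G.map (toKer I q)
      τ₂ := 𝟙 _
      τ₃ := 𝟙 _
      comm₁₂ := by
        dsimp [S₁, S₂]
        rw [Category.comp_id, ← G.map_comp, toKer_ι]
      comm₂₃ := by
        dsimp [S₁, S₂]
        rw [Category.comp_id, Category.id_comp] }
  have : Epi φ.τ₁ := hG (sesZ I q) (sesZ_shortExact I q) hZq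
  have : IsIso φ.τ₂ := by dsimp [φ]; infer_instance
  have : Mono φ.τ₃ := by dsimp [φ]; infer_instance
  exact (ShortComplex.exact_iff_of_epi_of_isIso_of_mono φ).2 hS₂

end Groth.Agent.Lib.AcyclicClass
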