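import Mathlib.Algebra.Homology.HomotopyCategory.Plus
import Mathlib.Algebra.Homology.HomotopyCategory.Triangulated
import Mathlib.CategoryTheory.Triangulated.Subcategory

/-!
# The triangulated subcategory of `K(A)` of complexes with terms in a class `P` (helper11)
-/

set_option autoImplicit false

open CategoryTheory Limits Pretriangulated HomotopyCategory
open scoped ZeroObject

namespace Groth.Agent.Lib.TermwiseTri11

variable {A : Type*} [Category* A] [Preadditive A] [HasZeroObject A] [HasBinaryBiproducts A]
  (P : ObjectProperty A)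

/-- complexes with all terms in `P` -/
def cplx : ObjectProperty (CochainComplex A ℤ) := fun K => ∀ m, P (K.X m)

/-- the strict image of `cplx P` in the homotopy category (not closed under isos) -/
def termwise0 : ObjectProperty (HomotopyCategory A (.up ℤ)) :=
  (cplx P).strictMap (quotient _ _)

variable {P} in
@[simp]
lemma termwise0_quotient_obj_iff (K : CochainComplex A ℤ) :
    termwise0 P ((quotient _ _).obj K) ↔ cplx P K := by
  refine ⟨?_, fun h ↦ ⟨_, h⟩⟩
  simp only [termwise0, ObjectProperty.strictMap_iff]
  rintro ⟨L, h, hL⟩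
  obtain rfl : L = K := congr_arg Quotient.as hL
  exact h

/-- objects of `K(A)` isomorphic to a complex with terms in `P` -/
def termwise : ObjectProperty (HomotopyCategory A (.up ℤ)) := (termwise0 P).isoClosure

instance : (termwise P).IsClosedUnderIsomorphisms := by
  dsimp [termwise]; infer_instance

lemma termwise_quotient_obj {K : CochainComplex A ℤ} (hK : ∀ m, P (K.X m)) :
    termwise P ((quotient _ _).obj K) :=
  ObjectProperty.le_isoClosure _ _ ((termwise0_quotient_obj_iff K).2 hK)

lemma termwise_iff (X : HomotopyCategory A (.up ℤ)) :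
    termwise P X ↔ ∃ (K : CochainComplex A ℤ), (∀ m, P (K.X m)) ∧
      Nonempty (X ≅ (quotient _ _).obj K) := by
  constructor
  · rintro ⟨Y, hY, ⟨e⟩⟩
    obtain ⟨K, rfl⟩ := Y.quotient_obj_surjective
    exact ⟨K, (termwise0_quotient_obj_iff K).1 hY, ⟨e⟩⟩
  · rintro ⟨K, hK, ⟨e⟩⟩
    exact ⟨_, (termwise0_quotient_obj_iff K).2 hK, ⟨e⟩⟩

section

variable [P.IsClosedUnderIsomorphisms] (hP0 : ∀ Z : A, IsZero Z → P Z)
  (hPsum : ∀ X Y : A, P X → P Y → P (X ⊞ Y))

include hP0 in
lemma containsZero0 : (termwise0 P).ContainsZero where
  exists_zero :=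
    ⟨(HomotopyCategory.quotient _ _).obj 0, Functor.map_isZero _ (isZero_zero _), by
      simp only [termwise0_quotient_obj_iff]
      intro m
      exact hP0 _ ((HomologicalComplex.eval A (ComplexShape.up ℤ) m).map_isZero (isZero_zero _))⟩

instance : (termwise0 P).IsStableUnderShift ℤ where
  isStableUnderShiftBy n :=
    { le_shift K hK := by
        obtain ⟨K : CochainComplex _ _, rfl⟩ := K.quotient_obj_surjective
        simp only [termwise0_quotient_obj_iff] at hK
        rw [ObjectProperty.prop_shift_iff, shift_quotient_obj, termwise0_quotient_obj_iff]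
        intro m
        exact hK _ }

include hPsum in
set_option backward.defeqAttrib.useBackward true in
set_option backward.isDefEq.respectTransparency false in
lemma isTriangulatedClosed₃0 : (termwise0 P).IsTriangulatedClosed₃ where
  ext₃' T hT h₁ h₂ := by
    have h₁' : cplx P T.obj₁.as := by rwa [← termwise0_quotient_obj_iff]
    have h₂' : cplx P T.obj₂.as := by rwa [← termwise0_quotient_obj_iff]
    obtain ⟨f : T.obj₁.as ⟶ T.obj₂.as, hf⟩ := (quotient _ _).map_surjective T.mor₁
    refine ⟨_, ?_,
      ⟨Triangle.π₃.mapIso (isoTriangleOfIso₁₂ T _ hT (mappingCone_triangleh_distinguished f)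
        (Iso.refl _) (Iso.refl _) ?_)⟩⟩
    · dsimp
      simp only [termwise0_quotient_obj_iff]
      intro m
      exact P.prop_of_iso (HomologicalComplex.homotopyCofiber.XIsoBiprod f m (m + 1) (by simp)).symm
        (hPsum _ _ (h₁' _) (h₂' _))
    · simp [hf]

include hP0 hPsum in
lemma isTriangulated0 : (termwise0 P).IsTriangulated :=
  have := containsZero0 P hP0
  have := isTriangulatedClosed₃0 P hPsum
  { toIsTriangulatedClosed₂ := .of_isTriangulatedClosed₃ }

include hP0 hPsum in
lemma isTriangulated : (termwise P).IsTriangulated := by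
  have := isTriangulated0 P hP0 hPsum
  dsimp [termwise]
  infer_instance

end

end Groth.Agent.Lib.TermwiseTri11
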