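import Groth.Agent.Lib.DerivOre11
import Groth.Agent.Lib.TermwiseTri11
import Mathlib.CategoryTheory.Triangulated.LocalizingSubcategory
import Mathlib.Algebra.Homology.HomotopyCategory.Acyclic
import Mathlib.Algebra.Homology.DerivedCategory.Basic

/-!
# Deriving functors on the unbounded homotopy category via a class of "acyclic" objects (helper11)

Let `A` be an abelian category and `P` a class of objects such that every complex admits a
quasi-isomorphism to a complex with terms in `P`. Then the inclusion of the full triangulated
subcategory of `K(A)` of complexes with terms in `P` is a right derivability structure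
(with respect to quasi-isomorphisms). Consequently any triangulated functor `G` on `K(A)`
killing the acyclic complexes with terms in `P` has a (pointwise) right derived functor, and the
unit is an isomorphism on complexes with terms in `P`.
-/

set_option autoImplicit false

universe v u

open CategoryTheory Limits Pretriangulated HomotopyCategory ObjectProperty

namespace Groth.Agent.Lib.AcyclicDerive11

open Groth.Agent.Lib.TermwiseTri11

variable {A : Type u} [Category.{v} A] [Abelian A] (P : ObjectProperty A)
  [(termwise P).IsTriangulated]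

/-- the localizer morphism -/
noncomputable abbrev Φ : LocalizerMorphism
    ((subcategoryAcyclic A).inverseImage (termwise P).ι).trW (subcategoryAcyclic A).trW :=
  (termwise P).triangulatedLocalizerMorphism (subcategoryAcyclic A)

instance : (Φ P).functor.Full := inferInstanceAs (termwise P).ι.Full

instance : (Φ P).functor.Faithful := inferInstanceAs (termwise P).ι.Faithful

variable (hres : ∀ X : CochainComplex A ℤ, ∃ (I : CochainComplex A ℤ) (f : X ⟶ I),
    QuasiIso f ∧ ∀ k : ℤ, P (I.X k))

include hres in
lemma hasRightResolutions : (Φ P).HasRightResolutions := by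
  intro X
  obtain ⟨K, rfl⟩ := X.quotient_obj_surjective
  obtain ⟨I, f, hf, hI⟩ := hres K
  exact ⟨{ X₁ := ⟨(quotient _ _).obj I, termwise_quotient_obj P hI⟩
           w := (quotient _ _).map f
           hw := by
            have h : quasiIso A (.up ℤ) ((quotient _ _).map f) :=
              (quotient_map_mem_quasiIso_iff f).2 hf
            rwa [quasiIso_eq_trW_subcategoryAcyclic] at h }⟩

/-- a quasi-isomorphism between objects of `termwise P` has its cone in `termwise P ⊓ acyclic` -/
lemma trW_inf_of_trW {X Y : HomotopyCategory A (.up ℤ)} (f : X ⟶ Y) (hX : termwise P X)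
    (hY : termwise P Y) (hf : (subcategoryAcyclic A).trW f) :
    (termwise P ⊓ subcategoryAcyclic A).trW f := by
  obtain ⟨Z, g, h, hT⟩ := distinguished_cocone_triangle f
  have h1 := ((subcategoryAcyclic A).trW_iff_of_distinguished _ hT).1 hf
  have h2 : termwise P Z := (termwise P).ext_of_isTriangulatedClosed₃ _ hT hX hY
  exact ⟨Z, g, h, hT, h2, h1⟩

include hres in
lemma isVerdierRightLocalizing :
    (termwise P).IsVerdierRightLocalizing (subcategoryAcyclic A) := by
  rw [isVerdierRightLocalizing_iff]
  intro X Y s hX hs
  obtain ⟨R⟩ := hasRightResolutions P hres Y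
  refine ⟨R.X₁.obj, s ≫ R.w, R.w, R.X₁.property, ?_, rfl⟩
  exact trW_inf_of_trW P _ hX R.X₁.property (MorphismProperty.comp_mem _ _ _ hs R.hw)

include hres in
theorem isRightDerivabilityStructure : (Φ P).IsRightDerivabilityStructure := by
  have := hasRightResolutions P hres
  have := isVerdierRightLocalizing P hres
  exact DerivOre11.isRightDerivabilityStructure (Φ P)

section Derives

variable {H : Type*} [Category* H] [HasZeroObject H] [HasShift H ℤ] [Preadditive H]
  [∀ (n : ℤ), (shiftFunctor H n).Additive] [Pretriangulated H]
  (G : HomotopyCategory A (.up ℤ) ⥤ H) [G.CommShift ℤ] [G.IsTriangulated]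
  (hG : ∀ K : CochainComplex A ℤ, (∀ m, P (K.X m)) → K.Acyclic →
    IsZero (G.obj ((quotient _ _).obj K)))

include hG in
lemma derives : (Φ P).Derives G := by
  intro X Y f hf
  rw [trW_inverseImage_ι_iff] at hf
  obtain ⟨Z, g, h, hT, hZ1, hZ2⟩ := hf
  have hZ : IsZero (G.obj Z) := by
    obtain ⟨K, hK, ⟨e⟩⟩ := (termwise_iff P Z).1 hZ1
    have hK' : K.Acyclic := by
      rw [← quotient_obj_mem_subcategoryAcyclic_iff_acyclic]
      exact (subcategoryAcyclic A).prop_of_iso e hZ2
    exact (hG K hK hK').of_iso (G.mapIso e)
  have hT' := G.map_distinguished _ hT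
  exact (Triangle.isZero₃_iff_isIso₁ _ hT').1 hZ

include hres hG in
theorem hasPointwiseRightDerivedFunctor :
    G.HasPointwiseRightDerivedFunctor (quasiIso A (.up ℤ)) := by
  have := isRightDerivabilityStructure P hres
  rw [quasiIso_eq_trW_subcategoryAcyclic]
  exact (derives P G hG).hasPointwiseRightDerivedFunctor

include hres hG in
theorem isIso_unit_app' (W : MorphismProperty (HomotopyCategory A (.up ℤ)))
    (hW : W = (subcategoryAcyclic A).trW)
    {D : Type*} [Category* D] (L : HomotopyCategory A (.up ℤ) ⥤ D)
    [L.IsLocalization W] (RG : D ⥤ H) (α : G ⟶ L ⋙ RG)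
    [RG.IsRightDerivedFunctor α W]
    (K : CochainComplex A ℤ) (hK : ∀ m, P (K.X m)) :
    IsIso (α.app ((quotient _ _).obj K)) := by
  subst hW
  have := isRightDerivabilityStructure P hres
  exact (derives P G hG).isIso_of_isRightDerivedFunctor α
    (⟨(quotient _ _).obj K, termwise_quotient_obj P hK⟩ : (termwise P).FullSubcategory)

include hres hG in
theorem isIso_unit_app {D : Type*} [Category* D] (L : HomotopyCategory A (.up ℤ) ⥤ D)
    [L.IsLocalization (quasiIso A (.up ℤ))] (RG : D ⥤ H) (α : G ⟶ L ⋙ RG)
    [RG.IsRightDerivedFunctor α (quasiIso A (.up ℤ))]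
    (K : CochainComplex A ℤ) (hK : ∀ m, P (K.X m)) :
    IsIso (α.app ((quotient _ _).obj K)) :=
  isIso_unit_app' P hres G hG _ (quasiIso_eq_trW_subcategoryAcyclic A) L RG α K hK

end Derives

end Groth.Agent.Lib.AcyclicDerive11
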