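import Mathlib.CategoryTheory.Abelian.RightDerived
import Mathlib.Algebra.Homology.HomologySequenceLemmas
import Mathlib.Algebra.Homology.HomologicalComplexAbelian
import Mathlib.CategoryTheory.Abelian.FunctorCategory

/-!
# The natural long exact sequence of right derived functors of a short exact sequence of functors

Let `α : F₁ ⟶ F₂`, `β : F₂ ⟶ F₃` be natural transformations of additive functors `A ⥤ B`
(`A` abelian with injective resolutions) such that `0 → F₁ I → F₂ I → F₃ I → 0` is short exact
for every injective `I`.  We construct NATURAL connecting transformations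
`δ n : F₃.rightDerived n ⟶ F₁.rightDerived (n + 1)` and prove the exactness of the long sequence
objectwise.
-/

set_option autoImplicit false

open CategoryTheory Limits

namespace Groth.Agent.Lib.FunctorSESNat

variable {A : Type*} [Category A] [Abelian A] [HasInjectiveResolutions A]
  {B : Type*} [Category B] [Abelian B]
  {F₁ F₂ F₃ : A ⥤ B} [F₁.Additive] [F₂.Additive] [F₃.Additive]
  (α : F₁ ⟶ F₂) (β : F₂ ⟶ F₃)

/-- the hypothesis: short exact on injective objects -/
def ExactOnInj : Prop :=
  ∀ I : A, Injective I → ∃ w : α.app I ≫ β.app I = 0,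
    (ShortComplex.mk (α.app I) (β.app I) w).ShortExact

variable {α β}

section Complex

variable (h : ExactOnInj α β)

/-- the short complex of complexes `F₁ K → F₂ K → F₃ K` for a complex of injectives -/
noncomputable def sc (K : CochainComplex A ℕ) [∀ n, Injective (K.X n)] :
    ShortComplex (CochainComplex B ℕ) :=
  ShortComplex.mk ((NatTrans.mapHomologicalComplex α (ComplexShape.up ℕ)).app K)
    ((NatTrans.mapHomologicalComplex β (ComplexShape.up ℕ)).app K) (by
      ext n
      exact (h (K.X n) inferInstance).1)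

omit [HasInjectiveResolutions A] in
lemma sc_shortExact (K : CochainComplex A ℕ) [∀ n, Injective (K.X n)] :
    (sc h K).ShortExact :=
  HomologicalComplex.shortExact_of_degreewise_shortExact _ (fun n => (h (K.X n) inferInstance).2)

/-- functoriality of `sc` -/
noncomputable def scMap {K L : CochainComplex A ℕ} [∀ n, Injective (K.X n)]
    [∀ n, Injective (L.X n)] (φ : K ⟶ L) : sc h K ⟶ sc h L where
  τ₁ := (F₁.mapHomologicalComplex _).map φ
  τ₂ := (F₂.mapHomologicalComplex _).map φ
  τ₃ := (F₃.mapHomologicalComplex _).map φ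
  comm₁₂ := (NatTrans.mapHomologicalComplex α (ComplexShape.up ℕ)).naturality φ
  comm₂₃ := (NatTrans.mapHomologicalComplex β (ComplexShape.up ℕ)).naturality φ

end Complex

section Delta

variable (h : ExactOnInj α β)

/-- the chosen injective resolution has injective terms -/
instance (X : A) (n : ℕ) : Injective ((injectiveResolution X).cocomplex.X n) :=
  (injectiveResolution X).injective n

/-- the short exact sequence of complexes attached to an object -/
noncomputable abbrev scObj (X : A) : ShortComplex (CochainComplex B ℕ) :=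
  sc h (injectiveResolution X).cocomplex

lemma scObj_shortExact (X : A) : (scObj h X).ShortExact := sc_shortExact h _

lemma rel (n : ℕ) : (ComplexShape.up ℕ).Rel n (n + 1) := rfl

/-- the chosen lift of a morphism to the injective resolutions -/
noncomputable def lift {X Y : A} (f : X ⟶ Y) :
    (injectiveResolution X).cocomplex ⟶ (injectiveResolution Y).cocomplex :=
  InjectiveResolution.desc f (injectiveResolution Y) (injectiveResolution X)

lemma lift_comm {X Y : A} (f : X ⟶ Y) :
    (injectiveResolution X).ι.f 0 ≫ (lift f).f 0 = f ≫ (injectiveResolution Y).ι.f 0 :=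
  InjectiveResolution.desc_commutes_zero f _ _

/-- `RⁿF₁ X ≅ Hⁿ(F₁ I_X)` -/
noncomputable def e₁ (n : ℕ) (X : A) :
    (F₁.rightDerived n).obj X ≅ (scObj h X).X₁.homology n :=
  (injectiveResolution X).isoRightDerivedObj F₁ n

/-- `RⁿF₂ X ≅ Hⁿ(F₂ I_X)` -/
noncomputable def e₂ (n : ℕ) (X : A) :
    (F₂.rightDerived n).obj X ≅ (scObj h X).X₂.homology n :=
  (injectiveResolution X).isoRightDerivedObj F₂ n

/-- `RⁿF₃ X ≅ Hⁿ(F₃ I_X)` -/
noncomputable def e₃ (n : ℕ) (X : A) :
    (F₃.rightDerived n).obj X ≅ (scObj h X).X₃.homology n :=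
  (injectiveResolution X).isoRightDerivedObj F₃ n

lemma e₁_hom_naturality (n : ℕ) {X Y : A} (f : X ⟶ Y) :
    (F₁.rightDerived n).map f ≫ (e₁ h n Y).hom =
      (e₁ h n X).hom ≫ HomologicalComplex.homologyMap (scMap h (lift f)).τ₁ n :=
  InjectiveResolution.isoRightDerivedObj_hom_naturality f _ _ (lift f) (lift_comm f) F₁ n

lemma e₁_inv_naturality (n : ℕ) {X Y : A} (f : X ⟶ Y) :
    (e₁ h n X).inv ≫ (F₁.rightDerived n).map f =
      HomologicalComplex.homologyMap (scMap h (lift f)).τ₁ n ≫ (e₁ h n Y).inv :=
  InjectiveResolution.isoRightDerivedObj_inv_naturality f _ _ (lift f) (lift_comm f) F₁ n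

lemma e₃_hom_naturality (n : ℕ) {X Y : A} (f : X ⟶ Y) :
    (F₃.rightDerived n).map f ≫ (e₃ h n Y).hom =
      (e₃ h n X).hom ≫ HomologicalComplex.homologyMap (scMap h (lift f)).τ₃ n :=
  InjectiveResolution.isoRightDerivedObj_hom_naturality f _ _ (lift f) (lift_comm f) F₃ n

/-- the connecting morphism at an object -/
noncomputable def δApp (n : ℕ) (X : A) :
    (F₃.rightDerived n).obj X ⟶ (F₁.rightDerived (n + 1)).obj X :=
  (e₃ h n X).hom ≫ (scObj_shortExact h X).δ n (n + 1) (rel n) ≫ (e₁ h (n + 1) X).inv

/-- **the natural connecting transformations** -/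
noncomputable def δ (n : ℕ) : F₃.rightDerived n ⟶ F₁.rightDerived (n + 1) where
  app X := δApp h n X
  naturality X Y f := by
    have h3 := HomologicalComplex.HomologySequence.δ_naturality (scMap h (lift f))
      (scObj_shortExact h X) (scObj_shortExact h Y) n (n + 1) (rel n)
    dsimp only [δApp]
    rw [Category.assoc, Category.assoc, e₁_inv_naturality, reassoc_of% (e₃_hom_naturality h n f),
      reassoc_of% h3]

lemma δ_app (n : ℕ) (X : A) :
    (δ h n).app X =
      (e₃ h n X).hom ≫ (scObj_shortExact h X).δ n (n + 1) (rel n) ≫ (e₁ h (n + 1) X).inv := rfl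

lemma rightDerived_α_app (n : ℕ) (X : A) :
    (NatTrans.rightDerived α n).app X =
      (e₁ h n X).hom ≫ HomologicalComplex.homologyMap (scObj h X).f n ≫ (e₂ h n X).inv :=
  InjectiveResolution.rightDerived_app_eq α (injectiveResolution X) n

lemma rightDerived_β_app (n : ℕ) (X : A) :
    (NatTrans.rightDerived β n).app X =
      (e₂ h n X).hom ≫ HomologicalComplex.homologyMap (scObj h X).g n ≫ (e₃ h n X).inv :=
  InjectiveResolution.rightDerived_app_eq β (injectiveResolution X) n

include h in
/-- exactness of `RⁿF₁ X → RⁿF₂ X → RⁿF₃ X` -/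
lemma exact₂ (n : ℕ) (X : A) :
    ∃ w, (ShortComplex.mk ((NatTrans.rightDerived α n).app X)
      ((NatTrans.rightDerived β n).app X) w).Exact := by
  have hw : (NatTrans.rightDerived α n).app X ≫ (NatTrans.rightDerived β n).app X = 0 := by
    rw [rightDerived_α_app h, rightDerived_β_app h]
    simp only [Category.assoc, Iso.inv_hom_id_assoc]
    rw [← HomologicalComplex.homologyMap_comp_assoc, (scObj h X).zero,
      HomologicalComplex.homologyMap_zero, zero_comp, comp_zero]
  refine ⟨hw, ?_⟩
  refine ShortComplex.exact_of_iso ?_ ((scObj_shortExact h X).homology_exact₂ n)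
  refine (ShortComplex.isoMk (e₁ h n X) (e₂ h n X) (e₃ h n X) ?_ ?_).symm
  · dsimp
    rw [rightDerived_α_app h]
    simp only [Category.assoc, Iso.inv_hom_id, Category.comp_id]
  · dsimp
    rw [rightDerived_β_app h]
    simp only [Category.assoc, Iso.inv_hom_id, Category.comp_id]

/-- exactness of `RⁿF₂ X → RⁿF₃ X → Rⁿ⁺¹F₁ X` -/
lemma exact₃ (n : ℕ) (X : A) :
    ∃ w, (ShortComplex.mk ((NatTrans.rightDerived β n).app X) ((δ h n).app X) w).Exact := by
  have hw : (NatTrans.rightDerived β n).app X ≫ (δ h n).app X = 0 := by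
    rw [rightDerived_β_app h, δ_app]
    simp only [Category.assoc, Iso.inv_hom_id_assoc]
    rw [(scObj_shortExact h X).comp_δ_assoc, zero_comp, comp_zero]
  refine ⟨hw, ?_⟩
  refine ShortComplex.exact_of_iso ?_ ((scObj_shortExact h X).homology_exact₃ n (n + 1) (rel n))
  refine (ShortComplex.isoMk (e₂ h n X) (e₃ h n X) (e₁ h (n + 1) X) ?_ ?_).symm
  · dsimp
    rw [rightDerived_β_app h]
    simp only [Category.assoc, Iso.inv_hom_id, Category.comp_id]
  · dsimp
    rw [δ_app]
    simp only [Category.assoc, Iso.inv_hom_id, Category.comp_id]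

/-- exactness of `RⁿF₃ X → Rⁿ⁺¹F₁ X → Rⁿ⁺¹F₂ X` -/
lemma exact₁ (n : ℕ) (X : A) :
    ∃ w, (ShortComplex.mk ((δ h n).app X) ((NatTrans.rightDerived α (n + 1)).app X) w).Exact := by
  have hw : (δ h n).app X ≫ (NatTrans.rightDerived α (n + 1)).app X = 0 := by
    rw [rightDerived_α_app h, δ_app]
    simp only [Category.assoc, Iso.inv_hom_id_assoc]
    rw [(scObj_shortExact h X).δ_comp_assoc, zero_comp, comp_zero]
  refine ⟨hw, ?_⟩
  refine ShortComplex.exact_of_iso ?_ ((scObj_shortExact h X).homology_exact₁ n (n + 1) (rel n))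
  refine (ShortComplex.isoMk (e₃ h n X) (e₁ h (n + 1) X) (e₂ h (n + 1) X) ?_ ?_).symm
  · dsimp
    rw [δ_app]
    simp only [Category.assoc, Iso.inv_hom_id, Category.comp_id]
  · dsimp
    rw [rightDerived_α_app h]
    simp only [Category.assoc, Iso.inv_hom_id, Category.comp_id]

/-- if the higher derived functors of `F₂` vanish, the connecting transformations are
isomorphisms in positive degrees -/
theorem isIso_δ_succ (hF₂ : ∀ (n : ℕ) (X : A), IsZero ((F₂.rightDerived (n + 1)).obj X)) (n : ℕ) :
    IsIso (δ h (n + 1)) := by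
  have : ∀ X, IsIso ((δ h (n + 1)).app X) := by
    intro X
    have hi : IsZero ((scObj h X).X₂.homology (n + 1)) := (hF₂ n X).of_iso (e₂ h (n + 1) X).symm
    have hj : IsZero ((scObj h X).X₂.homology (n + 1 + 1)) :=
      (hF₂ (n + 1) X).of_iso (e₂ h (n + 1 + 1) X).symm
    have := (scObj_shortExact h X).isIso_δ (n + 1) (n + 1 + 1) (rel (n + 1)) hi hj
    rw [δ_app]
    infer_instance
  exact NatIso.isIso_of_isIso_app _

/-- epi in degree zero -/
lemma epi_δ_zero_app (X : A) (hF₂ : IsZero ((F₂.rightDerived 1).obj X)) :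
    Epi ((δ h 0).app X) := by
  have hj : IsZero ((scObj h X).X₂.homology (0 + 1)) := hF₂.of_iso (e₂ h 1 X).symm
  have := (scObj_shortExact h X).epi_δ 0 (0 + 1) (rel 0) hj
  rw [δ_app]
  infer_instance

end Delta

section Zero

/-- `toRightDerivedZero` is natural in the functor -/
lemma toRightDerivedZero_naturality {F G : A ⥤ B} [F.Additive] [G.Additive] (γ : F ⟶ G) (X : A) :
    F.toRightDerivedZero.app X ≫ (NatTrans.rightDerived γ 0).app X =
      γ.app X ≫ G.toRightDerivedZero.app X := by
  let I := injectiveResolution X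
  let FK : CochainComplex B ℕ := (F.mapHomologicalComplex _).obj I.cocomplex
  let GK : CochainComplex B ℕ := (G.mapHomologicalComplex _).obj I.cocomplex
  let γK : FK ⟶ GK := (NatTrans.mapHomologicalComplex γ (ComplexShape.up ℕ)).app I.cocomplex
  let eF : (F.rightDerived 0).obj X ≅ FK.homology 0 := I.isoRightDerivedObj F 0
  let eG : (G.rightDerived 0).obj X ≅ GK.homology 0 := I.isoRightDerivedObj G 0
  let a : F.obj X ⟶ FK.homology 0 := I.toRightDerivedZero' F ≫ FK.isoHomologyπ₀.hom
  let b : G.obj X ⟶ GK.homology 0 := I.toRightDerivedZero' G ≫ GK.isoHomologyπ₀.hom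
  have e1 : F.toRightDerivedZero.app X = a ≫ eF.inv :=
    (I.toRightDerivedZero_eq F).trans (Category.assoc _ _ _).symm
  have e2 : G.toRightDerivedZero.app X = b ≫ eG.inv :=
    (I.toRightDerivedZero_eq G).trans (Category.assoc _ _ _).symm
  have e3 : (NatTrans.rightDerived γ 0).app X =
      eF.hom ≫ HomologicalComplex.homologyMap γK 0 ≫ eG.inv :=
    InjectiveResolution.rightDerived_app_eq γ I 0
  have key : a ≫ HomologicalComplex.homologyMap γK 0 = γ.app X ≫ b := by
    rw [← cancel_mono GK.isoHomologyπ₀.inv]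
    simp only [a, b, Category.assoc, Iso.hom_inv_id, Category.comp_id]
    rw [CochainComplex.isoHomologyπ₀_inv_naturality, Iso.hom_inv_id_assoc,
      ← cancel_mono (HomologicalComplex.iCycles _ _)]
    simp only [Category.assoc, HomologicalComplex.cyclesMap_i]
    have hF : I.toRightDerivedZero' F ≫ HomologicalComplex.iCycles FK 0 = F.map (I.ι.f 0) :=
      I.toRightDerivedZero'_comp_iCycles F
    have hG : I.toRightDerivedZero' G ≫ HomologicalComplex.iCycles GK 0 = G.map (I.ι.f 0) :=
      I.toRightDerivedZero'_comp_iCycles G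
    rw [reassoc_of% hF, hG]
    exact γ.naturality (I.ι.f 0)
  rw [e1, e2, e3, Category.assoc, Iso.inv_hom_id_assoc, reassoc_of% key]

end Zero

section Coker

/-- exactness in a functor category is checked objectwise -/
lemma exact_of_evaluation {K : Type*} [Category K] (S : ShortComplex (K ⥤ B))
    (hS : ∀ k, (S.map ((evaluation K B).obj k)).Exact) : S.Exact := by
  rw [ShortComplex.exact_iff_isZero_homology]
  apply Functor.isZero
  intro k
  have := hS k
  rw [ShortComplex.exact_iff_isZero_homology] at this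
  exact IsZero.of_iso this (S.mapHomologyIso ((evaluation K B).obj k)).symm

variable (h : ExactOnInj α β) [PreservesFiniteLimits F₂] [PreservesFiniteLimits F₃]

/-- the natural map `F₃ ⟶ R¹F₁` -/
noncomputable def q : F₃ ⟶ F₁.rightDerived 1 := F₃.toRightDerivedZero ≫ δ h 0

omit [PreservesFiniteLimits F₂] [PreservesFiniteLimits F₃] in
lemma q_app (X : A) : (q h).app X = F₃.toRightDerivedZero.app X ≫ (δ h 0).app X := rfl

omit [PreservesFiniteLimits F₂] [PreservesFiniteLimits F₃] in
lemma β_q_app (X : A) : β.app X ≫ (q h).app X = 0 := by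
  obtain ⟨w, -⟩ := exact₃ h 0 X
  rw [q_app, ← reassoc_of% (toRightDerivedZero_naturality β X), w, comp_zero]

omit [PreservesFiniteLimits F₂] [PreservesFiniteLimits F₃] in
lemma β_q : β ≫ q h = 0 := by
  ext X
  exact β_q_app h X

lemma exact_β_q_app (X : A) : (ShortComplex.mk (β.app X) ((q h).app X) (β_q_app h X)).Exact := by
  obtain ⟨w, hw⟩ := exact₃ h 0 X
  have e : ShortComplex.mk (β.app X) ((q h).app X) (β_q_app h X) ≅
      ShortComplex.mk ((NatTrans.rightDerived β 0).app X) ((δ h 0).app X) w :=
    ShortComplex.isoMk (asIso (F₂.toRightDerivedZero.app X))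
      (asIso (F₃.toRightDerivedZero.app X)) (Iso.refl _)
      (toRightDerivedZero_naturality β X) (by
        dsimp
        rw [Category.comp_id, q_app])
  exact ShortComplex.exact_of_iso e.symm hw

omit [PreservesFiniteLimits F₂] in
lemma epi_q_app (X : A) (hF₂ : IsZero ((F₂.rightDerived 1).obj X)) : Epi ((q h).app X) := by
  have := epi_δ_zero_app h X hF₂
  rw [q_app]
  infer_instance

include h in
/-- `R¹F₁` is the cokernel of `β : F₂ ⟶ F₃` when `F₂`, `F₃` are left exact and `R¹F₂ = 0` -/
theorem nonempty_rightDerived_one_iso_cokernel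
    (hF₂ : ∀ X : A, IsZero ((F₂.rightDerived 1).obj X)) :
    Nonempty (F₁.rightDerived 1 ≅ cokernel β) := by
  have he : Epi (q h) := by
    have : ∀ X, Epi ((q h).app X) := fun X => epi_q_app h X (hF₂ X)
    exact NatTrans.epi_of_epi_app _
  have hex : (ShortComplex.mk β (q h) (β_q h)).Exact :=
    exact_of_evaluation _ (fun X => exact_β_q_app h X)
  have hc : IsColimit (CokernelCofork.ofπ (q h) (β_q h)) := hex.gIsCokernel
  exact ⟨(IsColimit.coconePointUniqueUpToIso (cokernelIsCokernel β) hc).symm⟩

end Coker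

end Groth.Agent.Lib.FunctorSESNat
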