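/-
helper49: computing right derived functors "in the other variable" by acyclic resolutions.

Abstract form: families of additive functors `TK j, TL j : A ⥤ B` with natural transformations
`α j : TK j ⟶ TL j`, `β j : TL j ⟶ TK (j+1)` which are short exact on injectives
(`FunctorSESNat.ExactOnInj`).  If `G : A` is `TL j`-acyclic for all `j` (and `TL j G ≅ R⁰(TL j) G`),
then the complex `TL 0 G → TL 1 G → ...` (differentials `β j ≫ α (j+1)`) computes `Rⁱ(TK 0) G`.

Typical use: `TK j = f_* ℋom(K_j, -)`, `TL j = f_* ℋom(L_j, -)` for a resolution `L_• → F` with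
syzygies `K_j` (`K_0 = F`).
-/
import Groth.Agent.Lib.FunctorSESNat
import Mathlib.Algebra.Homology.ShortComplex.HomologicalComplex

set_option autoImplicit false
open CategoryTheory CategoryTheory.Limits

namespace Groth.Agent.Lib.AcyclicFirstVar

section LemmaH

variable {B : Type*} [Category B] [Abelian B]

/-- transport of a cokernel cofork along an equality of morphisms -/
noncomputable def isColimit_cokernelCofork_of_eq {X Y Q : B} {f g : X ⟶ Y} (h : f = g) (π : Y ⟶ Q)
    (w : g ≫ π = 0) (hc : IsColimit (CokernelCofork.ofπ π w)) :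
    IsColimit (CokernelCofork.ofπ π (show f ≫ π = 0 by rw [h, w])) := by
  subst h
  exact hc

/-- homology of `X₁ --(b ≫ a)--> X₂ --(b' ≫ a')--> X₃` with `a = ker b'` and `a'` mono is
`coker b`. -/
lemma nonempty_homology_iso_cokernel (S : ShortComplex B) {Z Z' : B} (b : S.X₁ ⟶ Z)
    (a : Z ⟶ S.X₂) (b' : S.X₂ ⟶ Z') (a' : Z' ⟶ S.X₃) [Mono a] [Mono a'] (hf : S.f = b ≫ a)
    (hg : S.g = b' ≫ a') (w : a ≫ b' = 0) (hex : (ShortComplex.mk a b' w).Exact) :
    Nonempty (S.homology ≅ cokernel b) := by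
  have hker0 : IsLimit (KernelFork.ofι a w) := hex.fIsKernel
  have wi : a ≫ S.g = 0 := by rw [hg, ← Category.assoc, w, zero_comp]
  have hker : IsLimit (KernelFork.ofι a wi) := isKernelCompMono hker0 a' hg
  have hl : hker.lift (KernelFork.ofι S.f S.zero) = b := by
    rw [← cancel_mono a]
    exact (Fork.IsLimit.lift_ι hker).trans hf
  let h : S.LeftHomologyData :=
    { K := Z
      H := cokernel b
      i := a
      π := cokernel.π b
      wi := wi
      hi := hker
      wπ := by rw [hl]; exact cokernel.condition b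
      hπ := isColimit_cokernelCofork_of_eq hl _ (cokernel.condition b) (cokernelIsCokernel b) }
  exact ⟨h.homologyIso⟩

variable (C : CochainComplex B ℕ) (Z A : ℕ → B) (e : ∀ j, C.X j ≅ A j)
  (a : ∀ j, Z j ⟶ A j) (b : ∀ j, A j ⟶ Z (j + 1)) (ha : ∀ j, Mono (a j))
  (hex : ∀ j, ∃ w : a j ≫ b j = 0, (ShortComplex.mk (a j) (b j) w).Exact)
  (hC : ∀ j, C.d j (j + 1) ≫ (e (j + 1)).hom = (e j).hom ≫ b j ≫ a (j + 1))

include ha hex hC in
lemma nonempty_homology_succ_iso (j : ℕ) : Nonempty (C.homology (j + 1) ≅ cokernel (b j)) := by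
  have := ha (j + 1)
  have := ha (j + 2)
  obtain ⟨w, hw⟩ := hex (j + 1)
  have hf : C.d j (j + 1) = ((e j).hom ≫ b j) ≫ (a (j + 1) ≫ (e (j + 1)).inv) := by
    rw [← cancel_mono (e (j + 1)).hom, hC]; simp
  have hg : C.d (j + 1) (j + 2) = ((e (j + 1)).hom ≫ b (j + 1)) ≫ (a (j + 2) ≫ (e (j + 2)).inv) := by
    rw [← cancel_mono (e (j + 2)).hom, hC]; simp
  have w' : (a (j + 1) ≫ (e (j + 1)).inv) ≫ ((e (j + 1)).hom ≫ b (j + 1)) = 0 := by
    simp [w]
  have hex' : (ShortComplex.mk _ _ w').Exact := by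
    refine ShortComplex.exact_of_iso ?_ hw
    exact ShortComplex.isoMk (Iso.refl _) (e (j + 1)).symm (Iso.refl _) (by simp) (by simp)
  obtain ⟨i1⟩ := nonempty_homology_iso_cokernel (C.sc' j (j + 1) (j + 2)) ((e j).hom ≫ b j)
    (a (j + 1) ≫ (e (j + 1)).inv) ((e (j + 1)).hom ≫ b (j + 1)) (a (j + 2) ≫ (e (j + 2)).inv)
    hf hg w' hex'
  exact ⟨C.homologyIsoSc' j (j + 1) (j + 2) (by simp) (by simp) ≪≫ i1 ≪≫
    cokernelEpiComp (e j).hom (b j)⟩

include ha hex hC in
lemma nonempty_homology_zero_iso : Nonempty (C.homology 0 ≅ Z 0) := by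
  have := ha 0
  have := ha 1
  obtain ⟨w, hw⟩ := hex 0
  have hg : C.d 0 1 = ((e 0).hom ≫ b 0) ≫ (a 1 ≫ (e 1).inv) := by
    rw [← cancel_mono (e 1).hom, hC]; simp
  have w' : (a 0 ≫ (e 0).inv) ≫ ((e 0).hom ≫ b 0) = 0 := by simp [w]
  have hex' : (ShortComplex.mk _ _ w').Exact := by
    refine ShortComplex.exact_of_iso ?_ hw
    exact ShortComplex.isoMk (Iso.refl _) (e 0).symm (Iso.refl _) (by simp) (by simp)
  have hker0 : IsLimit (KernelFork.ofι _ w') := hex'.fIsKernel
  have hker : IsLimit (KernelFork.ofι (a 0 ≫ (e 0).inv)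
      (show (a 0 ≫ (e 0).inv) ≫ C.d 0 1 = 0 by rw [hg, ← Category.assoc, w', zero_comp])) :=
    isKernelCompMono hker0 (a 1 ≫ (e 1).inv) hg
  have hcyc := C.cyclesIsKernel 0 1 (by simp)
  exact ⟨C.isoHomologyπ₀.symm ≪≫ IsLimit.conePointUniqueUpToIso hcyc hker⟩

end LemmaH

section Main

open Groth.Agent.Lib.FunctorSESNat

variable {A : Type*} [Category A] [Abelian A] [HasInjectiveResolutions A]
  {B : Type*} [Category B] [Abelian B]

/-- objectwise: the connecting map is an isomorphism between two vanishing terms -/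
lemma isIso_δ_app {F₁ F₂ F₃ : A ⥤ B} [F₁.Additive] [F₂.Additive] [F₃.Additive]
    {α : F₁ ⟶ F₂} {β : F₂ ⟶ F₃} (h : ExactOnInj α β) (n : ℕ) (G : A)
    (h0 : IsZero ((F₂.rightDerived n).obj G)) (h1 : IsZero ((F₂.rightDerived (n + 1)).obj G)) :
    IsIso ((δ h n).app G) := by
  obtain ⟨w3, e3⟩ := exact₃ h n G
  obtain ⟨w1, e1⟩ := exact₁ h n G
  have hm : Mono ((δ h n).app G) := e3.mono_g (h0.eq_of_src _ _)
  have he : Epi ((δ h n).app G) := e1.epi_f (h1.eq_of_tgt _ _)
  exact isIso_of_mono_of_epi _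

/-- objectwise: `R¹F₁ G` is the cokernel of `R⁰β` when `R¹F₂ G = 0` -/
lemma nonempty_cokernel_iso_rightDerived_one {F₁ F₂ F₃ : A ⥤ B} [F₁.Additive] [F₂.Additive]
    [F₃.Additive] {α : F₁ ⟶ F₂} {β : F₂ ⟶ F₃} (h : ExactOnInj α β) (G : A)
    (h1 : IsZero ((F₂.rightDerived 1).obj G)) :
    Nonempty (cokernel ((NatTrans.rightDerived β 0).app G) ≅ (F₁.rightDerived 1).obj G) := by
  obtain ⟨w3, e3⟩ := exact₃ h 0 G
  obtain ⟨w1, e1⟩ := exact₁ h 0 G
  have he : Epi ((δ h 0).app G) := e1.epi_f (h1.eq_of_tgt _ _)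
  have hc : IsColimit (CokernelCofork.ofπ ((δ h 0).app G) w3) := e3.gIsCokernel
  exact ⟨IsColimit.coconePointUniqueUpToIso (cokernelIsCokernel _) hc⟩

variable (TK TL : ℕ → A ⥤ B) [∀ j, (TK j).Additive] [∀ j, (TL j).Additive]
  (α : ∀ j, TK j ⟶ TL j) (β : ∀ j, TL j ⟶ TK (j + 1))
  (h : ∀ j, ExactOnInj (α j) (β j)) (G : A)
  (hacyc : ∀ j p : ℕ, IsZero (((TL j).rightDerived (p + 1)).obj G))

include h hacyc in
/-- dimension shifting along the syzygies -/
lemma nonempty_shift_iso (n : ℕ) : ∀ j m : ℕ, m = j + n →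
    Nonempty (((TK j).rightDerived (n + 1)).obj G ≅ ((TK m).rightDerived 1).obj G) := by
  induction n with
  | zero =>
    intro j m hm
    obtain rfl : m = j := by omega
    exact ⟨Iso.refl _⟩
  | succ n ih =>
    intro j m hm
    obtain ⟨i1⟩ := ih (j + 1) m (by omega)
    have := isIso_δ_app (h j) (n + 1) G (hacyc j n) (hacyc j (n + 1))
    exact ⟨(asIso ((δ (h j) (n + 1)).app G)).symm ≪≫ i1⟩

variable (hiso : ∀ j, IsIso ((TL j).toRightDerivedZero.app G))
  (C : CochainComplex B ℕ) (e : ∀ j, C.X j ≅ (TL j).obj G)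
  (hC : ∀ j, C.d j (j + 1) ≫ (e (j + 1)).hom =
    (e j).hom ≫ (β j).app G ≫ (α (j + 1)).app G)

include h hacyc hiso hC in
/-- **Derived functors via acyclic resolutions in the other variable.** -/
theorem nonempty_homology_iso (i : ℕ) :
    Nonempty (C.homology i ≅ ((TK 0).rightDerived i).obj G) := by
  have hi := hiso
  -- the R⁰-level data
  let e' : ∀ j, C.X j ≅ ((TL j).rightDerived 0).obj G := fun j =>
    e j ≪≫ asIso ((TL j).toRightDerivedZero.app G)
  have hC' : ∀ j, C.d j (j + 1) ≫ (e' (j + 1)).hom = (e' j).hom ≫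
      (NatTrans.rightDerived (β j) 0).app G ≫ (NatTrans.rightDerived (α (j + 1)) 0).app G := by
    intro j
    have n1 := toRightDerivedZero_naturality (α (j + 1)) G
    have n2 := toRightDerivedZero_naturality (β j) G
    simp only [e', Iso.trans_hom, asIso_hom, Category.assoc]
    rw [reassoc_of% (hC j), ← n1, reassoc_of% n2]
  have ha : ∀ j, Mono ((NatTrans.rightDerived (α j) 0).app G) := fun j => by
    rw [rightDerived_α_app (h j) 0 G]
    have : Mono ((scObj (h j) G).f.f 0) := by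
      obtain ⟨w, hw⟩ := h j ((injectiveResolution G).cocomplex.X 0) inferInstance
      exact hw.mono_f
    have h1 : Mono (HomologicalComplex.cyclesMap (scObj (h j) G).f 0) := by
      have : Mono (HomologicalComplex.cyclesMap (scObj (h j) G).f 0 ≫
          (scObj (h j) G).X₂.iCycles 0) := by
        rw [HomologicalComplex.cyclesMap_i]; infer_instance
      exact mono_of_mono _ ((scObj (h j) G).X₂.iCycles 0)
    have h2 : HomologicalComplex.homologyMap (scObj (h j) G).f 0 =
        (scObj (h j) G).X₁.isoHomologyπ₀.inv ≫ HomologicalComplex.cyclesMap (scObj (h j) G).f 0 ≫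
          (scObj (h j) G).X₂.isoHomologyπ₀.hom := by
      rw [← Category.assoc, ← CochainComplex.isoHomologyπ₀_inv_naturality, Category.assoc,
        Iso.inv_hom_id, Category.comp_id]
    rw [h2]
    infer_instance
  have hex : ∀ j, ∃ w, (ShortComplex.mk ((NatTrans.rightDerived (α j) 0).app G)
      ((NatTrans.rightDerived (β j) 0).app G) w).Exact := fun j => exact₂ (h j) 0 G
  cases i with
  | zero =>
    exact nonempty_homology_zero_iso C (fun j => ((TK j).rightDerived 0).obj G)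
      (fun j => ((TL j).rightDerived 0).obj G) e' _ _ ha hex hC'
  | succ i =>
    obtain ⟨i1⟩ := nonempty_homology_succ_iso C (fun j => ((TK j).rightDerived 0).obj G)
      (fun j => ((TL j).rightDerived 0).obj G) e' _ _ ha hex hC' i
    obtain ⟨i2⟩ := nonempty_cokernel_iso_rightDerived_one (h i) G (hacyc i 0)
    obtain ⟨i3⟩ := nonempty_shift_iso TK TL α β h G hacyc i 0 i (by omega)
    exact ⟨i1 ≪≫ i2 ≪≫ i3.symm⟩

end Main

end Groth.Agent.Lib.AcyclicFirstVar
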