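/-
Groth.Agent.Lib.AcyclicShift49 (helper49)

Dimension shifting along a finite acyclic complex (abstract form).  For an acyclic cochain complex `C` in an
abelian category, concentrated in degrees `[0, N]`, and a family of functors `H q` (`q : ℕ`) with the
"right part of a long exact sequence" property
  `0 → A' → A → A'' → 0` exact, `H q A = 0`, `H (q+1) A' = 0`  ⟹  `H q A'' = 0`,
if `H q (C^j) = 0` whenever `q + j + 1 = m + N` (`j < N`), then `H m (C^N) = 0`
(`isZero_top_of_acyclic`).  Also the short exact sequences `0 → Z^j → C^j → Z^{j+1} → 0` (`zSC`,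
`zSC_shortExact`).  Mathlib only.
-/
import Mathlib.Algebra.Homology.ShortComplex.HomologicalComplex
import Mathlib.Algebra.Homology.ShortComplex.ShortExact
import Mathlib.Algebra.Homology.ShortComplex.Abelian
import Mathlib.Algebra.Homology.HomologicalComplex

set_option autoImplicit false
universe v u v' u'

open CategoryTheory CategoryTheory.Limits

namespace Groth.Agent.Lib.AcyclicShift49

variable {𝒜 : Type u} [Category.{v} 𝒜] [Abelian 𝒜]

/-- the cycles `Z^j = ker (d : C^j → C^{j+1})` -/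
noncomputable abbrev Z (C : CochainComplex 𝒜 ℤ) (j : ℤ) : 𝒜 := kernel (C.d j (j + 1))

/-- the map `C^j → Z^{j+1}` induced by the differential -/
noncomputable def toZ (C : CochainComplex 𝒜 ℤ) (j : ℤ) : C.X j ⟶ Z C (j + 1) :=
  kernel.lift _ (C.d j (j + 1)) (C.d_comp_d _ _ _)

@[reassoc]
lemma toZ_ι (C : CochainComplex 𝒜 ℤ) (j : ℤ) :
    toZ C j ≫ kernel.ι (C.d (j + 1) (j + 1 + 1)) = C.d j (j + 1) :=
  kernel.lift_ι _ _ _

lemma ι_toZ (C : CochainComplex 𝒜 ℤ) (j : ℤ) : kernel.ι (C.d j (j + 1)) ≫ toZ C j = 0 := by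
  have h : (kernel.ι (C.d j (j + 1)) ≫ toZ C j) ≫ kernel.ι (C.d (j + 1) (j + 1 + 1)) =
      0 ≫ kernel.ι (C.d (j + 1) (j + 1 + 1)) := by
    rw [Category.assoc, toZ_ι, kernel.condition, zero_comp]
  exact (cancel_mono (kernel.ι (C.d (j + 1) (j + 1 + 1)))).1 h

/-- the sequence `0 → Z^j → C^j → Z^{j+1} → 0` -/
noncomputable def zSC (C : CochainComplex 𝒜 ℤ) (j : ℤ) : ShortComplex 𝒜 :=
  ShortComplex.mk (kernel.ι (C.d j (j + 1))) (toZ C j) (ι_toZ C j)

lemma zSC_shortExact (C : CochainComplex 𝒜 ℤ) (j : ℤ) (h : C.ExactAt (j + 1)) :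
    (zSC C j).ShortExact := by
  have hex : (C.sc' j (j + 1) (j + 1 + 1)).Exact :=
    (C.exactAt_iff' j (j + 1) (j + 1 + 1) (by simp) (by simp)).1 h
  have hepi : Epi (toZ C j) := (ShortComplex.exact_iff_epi_kernel_lift _).1 hex
  have hmono : Mono (zSC C j).f := inferInstanceAs (Mono (kernel.ι (C.d j (j + 1))))
  have hepi' : Epi (zSC C j).g := hepi
  refine ShortComplex.ShortExact.mk' ?_ hmono hepi'
  exact ShortComplex.exact_of_f_is_kernel _
    (isKernelOfComp (kernel.ι (C.d (j + 1) (j + 1 + 1))) (C.d j (j + 1))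
      (kernelIsKernel (C.d j (j + 1))) (ι_toZ C j) (toZ_ι C j))

variable {ℬ : Type u'} [Category.{v'} ℬ]

/-- **dimension shifting along an acyclic complex, cycle form**: if `H q (C^j) = 0` whenever `q + j + 1 = m + N`
(`j < N`), then `H m (Z^N) = 0`. -/
theorem isZero_Z_of_acyclic (H : ℕ → 𝒜 ⥤ ℬ)
    (hH : ∀ (S : ShortComplex 𝒜), S.ShortExact → ∀ q : ℕ, IsZero ((H q).obj S.X₂) →
      IsZero ((H (q + 1)).obj S.X₁) → IsZero ((H q).obj S.X₃))
    (hzero : ∀ (q : ℕ) (A : 𝒜), IsZero A → IsZero ((H q).obj A))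
    (C : CochainComplex 𝒜 ℤ) (hC : ∀ i, C.ExactAt i) (hneg : IsZero (C.X (-1)))
    (N : ℕ) (m : ℕ)
    (hvan : ∀ j q : ℕ, j < N → q + j + 1 = m + N → IsZero ((H q).obj (C.X (j : ℤ)))) :
    IsZero ((H m).obj (Z C (N : ℤ))) := by
  have P : ∀ j : ℕ, j ≤ N → ∀ q : ℕ, q + j = m + N → IsZero ((H q).obj (Z C (j : ℤ))) := by
    intro j
    induction j with
    | zero =>
      intro _ q _
      apply hzero
      have hex : (C.sc' (-1) 0 1).Exact := (C.exactAt_iff' (-1) 0 1 (by simp) (by simp)).1 (hC 0)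
      have hmono : Mono (C.d 0 1) := hex.mono_g (hneg.eq_of_src _ _)
      have : Mono (C.d ((0 : ℕ) : ℤ) (((0 : ℕ) : ℤ) + 1)) := by
        simpa using hmono
      exact isZero_kernel_of_mono _
    | succ j ih =>
      intro hj q hq
      have hS := zSC_shortExact C (j : ℤ) (hC _)
      have h1 : IsZero ((H q).obj (zSC C (j : ℤ)).X₂) := hvan j q (by omega) (by omega)
      have h2 : IsZero ((H (q + 1)).obj (zSC C (j : ℤ)).X₁) := ih (by omega) (q + 1) (by omega)
      have h3 := hH _ hS q h1 h2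
      have e : (zSC C (j : ℤ)).X₃ = Z C ((j + 1 : ℕ) : ℤ) := by
        change Z C ((j : ℤ) + 1) = Z C ((j + 1 : ℕ) : ℤ)
        congr 1
      rw [e] at h3
      exact h3
  exact P N le_rfl m (by omega)

/-- **dimension shifting along a finite acyclic complex** -/
theorem isZero_top_of_acyclic (H : ℕ → 𝒜 ⥤ ℬ)
    (hH : ∀ (S : ShortComplex 𝒜), S.ShortExact → ∀ q : ℕ, IsZero ((H q).obj S.X₂) →
      IsZero ((H (q + 1)).obj S.X₁) → IsZero ((H q).obj S.X₃))
    (hzero : ∀ (q : ℕ) (A : 𝒜), IsZero A → IsZero ((H q).obj A))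
    (C : CochainComplex 𝒜 ℤ) (hC : ∀ i, C.ExactAt i) (hneg : IsZero (C.X (-1)))
    (N : ℕ) (hN : IsZero (C.X ((N : ℤ) + 1))) (m : ℕ)
    (hvan : ∀ j q : ℕ, j < N → q + j + 1 = m + N → IsZero ((H q).obj (C.X (j : ℤ)))) :
    IsZero ((H m).obj (C.X (N : ℤ))) := by
  have hP := isZero_Z_of_acyclic H hH hzero C hC hneg N m hvan
  have h0 : C.d (N : ℤ) ((N : ℤ) + 1) = 0 := hN.eq_of_tgt _ _
  have e : Z C (N : ℤ) ≅ C.X (N : ℤ) := kernelIsoOfEq h0 ≪≫ kernelZeroIsoSource
  exact hP.of_iso ((H m).mapIso e).symm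

end Groth.Agent.Lib.AcyclicShift49
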