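import Groth.Agent.Lib.RDLES31
import Mathlib.CategoryTheory.Abelian.Refinements

/-!
# Adapted classes of objects are acyclic (helper31)

`F : A ⥤ B` additive, `A` with enough injectives, `I` a class of objects such that every object
embeds into an object of `I`, and for every short exact sequence `0 → P → Q → R → 0` with
`P, Q ∈ I`, also `R ∈ I` and `F` of the sequence is short exact. Then every `X ∈ I` is right
`F`-acyclic: `F X ≅ R⁰F X` and `RⁱF X = 0` for `i > 0`.
-/

set_option autoImplicit false

open CategoryTheory Limits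

namespace Groth.Agent.AdaptedClass31

open Groth.Agent.RDPlus31

variable {A B : Type*} [Category* A] [Category* B] [Abelian A] [Abelian B] [EnoughInjectives A]
  (F : A ⥤ B) [F.Additive] (I : ObjectProperty A)
  (h1 : ∀ X : A, ∃ (Y : A) (ι : X ⟶ Y), I Y ∧ Mono ι)
  (h2 : ∀ S : ShortComplex A, S.ShortExact → I S.X₁ → I S.X₂ → I S.X₃ ∧ (S.map F).ShortExact)

/-- The short exact sequence `0 → X → Y → coker → 0` attached to a monomorphism. -/
noncomputable abbrev sesOfMono {X Y : A} (f : X ⟶ Y) : ShortComplex A :=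
  ShortComplex.mk f (cokernel.π f) (cokernel.condition f)

omit [EnoughInjectives A] in
lemma sesOfMono_shortExact {X Y : A} (f : X ⟶ Y) [Mono f] : (sesOfMono f).ShortExact where
  exact := ShortComplex.exact_cokernel f

include h2

omit [EnoughInjectives A] in
lemma mem_cokernel {X Y : A} (f : X ⟶ Y) [Mono f] (hX : I X) (hY : I Y) : I (cokernel f) :=
  (h2 _ (sesOfMono_shortExact f) hX hY).1

omit [EnoughInjectives A] in
lemma shortExact_map {X Y : A} (f : X ⟶ Y) [Mono f] (hX : I X) (hY : I Y) :
    ((sesOfMono f).map F).ShortExact :=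
  (h2 _ (sesOfMono_shortExact f) hX hY).2

omit [EnoughInjectives A] in
lemma mono_map_of_mem {X Y : A} (f : X ⟶ Y) [Mono f] (hX : I X) (hY : I Y) : Mono (F.map f) :=
  (shortExact_map F I h2 f hX hY).mono_f

include h1

omit [EnoughInjectives A] in
/-- `F` sends a monomorphism from an object of `I` to an injective object to a monomorphism. -/
lemma mono_map_of_injective {X J : A} (j : X ⟶ J) [Mono j] [Injective J] (hX : I X) :
    Mono (F.map j) := by
  obtain ⟨Y, ι, hY, _⟩ := h1 J
  have : Mono (F.map (j ≫ ι)) := mono_map_of_mem F I h2 (j ≫ ι) hX hY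
  rw [F.map_comp] at this
  exact mono_of_mono (F.map j) (F.map ι)

/-- `F X ⟶ R⁰F X` is a monomorphism for `X ∈ I`. -/
lemma mono_toRightDerivedZero_app {X : A} (hX : I X) : Mono (F.toRightDerivedZero.app X) := by
  have : Mono (F.map (Injective.ι X)) := mono_map_of_injective F I h1 h2 (Injective.ι X) hX
  have nat := F.toRightDerivedZero.naturality (Injective.ι X)
  have : Mono (F.toRightDerivedZero.app X ≫ (F.rightDerived 0).map (Injective.ι X)) := by
    rw [← nat]
    infer_instance
  exact mono_of_mono _ ((F.rightDerived 0).map (Injective.ι X))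

/-- `F X ⟶ R⁰F X` is an isomorphism for `X ∈ I`. -/
theorem isIso_toRightDerivedZero_app {X : A} (hX : I X) : IsIso (F.toRightDerivedZero.app X) := by
  let J := Injective.under X
  let j : X ⟶ J := Injective.ι X
  obtain ⟨Y, ι, hY, _⟩ := h1 J
  let r : Y ⟶ J := Injective.factorThru (𝟙 J) ι
  have hr : ι ≫ r = 𝟙 J := Injective.comp_factorThru (𝟙 J) ι
  have : Mono (j ≫ ι) := mono_comp _ _
  have hQ : I (cokernel (j ≫ ι)) := mem_cokernel F I h2 (j ≫ ι) hX hY
  have hSY := shortExact_map F I h2 (j ≫ ι) hX hY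
  let πY : Y ⟶ cokernel (j ≫ ι) := cokernel.π (j ≫ ι)
  let πJ : J ⟶ cokernel j := cokernel.π j
  let ib : cokernel j ⟶ cokernel (j ≫ ι) := cokernel.desc j (ι ≫ πY)
    (by rw [← Category.assoc, cokernel.condition])
  let rb : cokernel (j ≫ ι) ⟶ cokernel j := cokernel.desc (j ≫ ι) (r ≫ πJ)
    (by rw [Category.assoc, ← Category.assoc ι, hr, Category.id_comp, cokernel.condition])
  have hib : πJ ≫ ib = ι ≫ πY := cokernel.π_desc _ _ _
  have hrb : πY ≫ rb = r ≫ πJ := cokernel.π_desc _ _ _
  have hir : ib ≫ rb = 𝟙 _ := by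
    rw [← cancel_epi πJ, ← Category.assoc, hib, Category.assoc, hrb, ← Category.assoc, hr,
      Category.id_comp, Category.comp_id]
  have hηQ : Mono (F.toRightDerivedZero.app (cokernel (j ≫ ι))) :=
    mono_toRightDerivedZero_app F I h1 h2 hQ
  have hηZ : Mono (F.toRightDerivedZero.app (cokernel j)) := by
    have hsplit : Mono (F.map ib) := by
      have h : F.map ib ≫ F.map rb = 𝟙 _ := by rw [← F.map_comp, hir, F.map_id]
      exact mono_of_mono_fac h
    have : Mono (F.toRightDerivedZero.app (cokernel j) ≫ (F.rightDerived 0).map ib) := by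
      rw [← F.toRightDerivedZero.naturality ib]
      infer_instance
    exact mono_of_mono _ ((F.rightDerived 0).map ib)
  have hex : ∀ ⦃T : B⦄ (t : T ⟶ F.obj J), t ≫ F.map πJ = 0 →
      ∃ s : T ⟶ F.obj X, t = s ≫ F.map j := by
    intro T t ht
    have h0 : (t ≫ F.map ι) ≫ F.map πY = 0 := by
      rw [Category.assoc, ← F.map_comp, ← hib, F.map_comp, ← Category.assoc, ht, zero_comp]
    have hk := hSY.fIsKernel
    let s : T ⟶ F.obj X := hk.lift (KernelFork.ofι (t ≫ F.map ι) h0)
    have hs : s ≫ F.map (j ≫ ι) = t ≫ F.map ι := hk.fac _ WalkingParallelPair.zero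
    refine ⟨s, ?_⟩
    calc t = t ≫ F.map ι ≫ F.map r := by rw [← F.map_comp, hr, F.map_id, Category.comp_id]
      _ = s ≫ F.map (j ≫ ι) ≫ F.map r := by rw [← Category.assoc, ← hs, Category.assoc]
      _ = s ≫ F.map j := by rw [← F.map_comp, Category.assoc, hr, Category.comp_id]
  have hGj : Mono ((F.rightDerived 0).map j) :=
    ((Functor.preservesFiniteLimits_iff_forall_exact_map_and_mono (F.rightDerived 0)).1
      inferInstance _ (sesOfMono_shortExact j)).2
  have hmono := mono_toRightDerivedZero_app F I h1 h2 hX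
  have hepi : Epi (F.toRightDerivedZero.app X) := by
    rw [epi_iff_surjective_up_to_refinements]
    intro T y
    let t : T ⟶ F.obj J := y ≫ (F.rightDerived 0).map j ≫ inv (F.toRightDerivedZero.app J)
    have ht : t ≫ F.map πJ = 0 := by
      rw [← cancel_mono (F.toRightDerivedZero.app (cokernel j)), Category.assoc,
        F.toRightDerivedZero.naturality πJ, zero_comp]
      dsimp only [t]
      rw [Category.assoc, Category.assoc, IsIso.inv_hom_id_assoc, ← Functor.map_comp,
        cokernel.condition, Functor.map_zero, comp_zero]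
    obtain ⟨s, hs⟩ := hex t ht
    refine ⟨T, 𝟙 T, inferInstance, s, ?_⟩
    rw [Category.id_comp, ← cancel_mono ((F.rightDerived 0).map j), Category.assoc,
      ← F.toRightDerivedZero.naturality j, ← Category.assoc, ← hs]
    dsimp only [t]
    rw [Category.assoc, Category.assoc, IsIso.inv_hom_id, Category.comp_id]
  exact isIso_of_mono_of_epi _

/-- `Rⁿ⁺¹F X = 0` for `X ∈ I`. -/
theorem isZero_rightDerived_succ (n : ℕ) :
    ∀ {X : A}, I X → IsZero ((F.rightDerived (n + 1)).obj X) := by
  have key : ∀ (m : ℕ) {X : A}, I X → ∃ (Y : A) (f : X ⟶ Y) (_ : Mono f), I Y ∧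
      ∃ δ : (F.rightDerived m).obj (cokernel f) ⟶ (F.rightDerived (m + 1)).obj X, Epi δ ∧
        ∃ w, (ShortComplex.mk ((F.rightDerived m).map (cokernel.π f)) δ w).Exact := by
    intro m X hX
    obtain ⟨Y, ι, hY, _⟩ := h1 (Injective.under X)
    have : Mono (Injective.ι X ≫ ι) := mono_comp _ _
    obtain ⟨δ, -, h⟩ := rightDerived_les F (sesOfMono_shortExact (Injective.ι X ≫ ι))
    obtain ⟨w, hw⟩ := (h m).2.2
    refine ⟨Y, Injective.ι X ≫ ι, inferInstance, hY, δ m, ?_, (h m).2.1⟩
    refine hw.epi_f ?_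
    show (F.rightDerived (m + 1)).map (Injective.ι X ≫ ι) = 0
    rw [Functor.map_comp]
    have hz : IsZero ((F.rightDerived (m + 1)).obj (Injective.under X)) :=
      F.isZero_rightDerived_obj_injective_succ m _
    rw [hz.eq_of_tgt ((F.rightDerived (m + 1)).map (Injective.ι X)) 0, zero_comp]
  induction n with
  | zero =>
    intro X hX
    obtain ⟨Y, f, _, hY, δ, hδ, w, hw⟩ := key 0 hX
    have hQ : I (cokernel f) := mem_cokernel F I h2 f hX hY
    have h3 : IsIso (F.toRightDerivedZero.app Y) := isIso_toRightDerivedZero_app F I h1 h2 hY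
    have h4 : IsIso (F.toRightDerivedZero.app (cokernel f)) :=
      isIso_toRightDerivedZero_app F I h1 h2 hQ
    have h5 : Epi (F.map (cokernel.π f)) := (shortExact_map F I h2 f hX hY).epi_g
    have h6 : Epi ((F.rightDerived 0).map (cokernel.π f)) := by
      have : (F.rightDerived 0).map (cokernel.π f) =
          inv (F.toRightDerivedZero.app Y) ≫ F.map (cokernel.π f) ≫
            F.toRightDerivedZero.app (cokernel f) := by
        rw [F.toRightDerivedZero.naturality, IsIso.inv_hom_id_assoc]
      rw [this]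
      infer_instance
    exact IsZero.of_epi_eq_zero δ (hw.epi_f_iff.1 h6)
  | succ n ih =>
    intro X hX
    obtain ⟨Y, f, _, hY, δ, hδ, -⟩ := key (n + 1) hX
    exact IsZero.of_epi δ (ih (mem_cokernel F I h2 f hX hY))

end Groth.Agent.AdaptedClass31
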