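import Mathlib

/-!
# The polynomial `∏_{a ∈ s} (X - a)` of a finite additive subgroup is additive
-/

set_option autoImplicit false

namespace Groth.Agent.Lib.AdditivePoly

open Polynomial

variable {L : Type*} [Field L]

/-- translation by an element of a finite additively closed set is a bijection of it -/
theorem image_add_eq (s : Finset L) (hadd : ∀ a ∈ s, ∀ b ∈ s, a + b ∈ s) (a : L) (ha : a ∈ s)
    [DecidableEq L] : s.image (fun b => b + a) = s := by
  apply Finset.eq_of_subset_of_card_le
  · intro c hc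
    obtain ⟨b, hb, rfl⟩ := Finset.mem_image.mp hc
    exact hadd b hb a ha
  · rw [Finset.card_image_of_injective _ (add_left_injective a)]

/-- the key polynomial identity in `L[Y][X]` -/
theorem poly_identity (s : Finset L) (h0 : (0 : L) ∈ s)
    (hadd : ∀ a ∈ s, ∀ b ∈ s, a + b ∈ s) :
    ((∏ a ∈ s, (X - C a) : L[X]).map (C : L →+* L[X])).comp (X + C (X : L[X]))
      - (∏ a ∈ s, (X - C a) : L[X]).map (C : L →+* L[X])
      - C (∏ a ∈ s, (X - C a) : L[X]) = 0 := by
  classical
  set f : L[X] := ∏ a ∈ s, (X - C a) with hf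
  set fS : L[X][X] := f.map (C : L →+* L[X]) with hfS
  have hfmonic : f.Monic := monic_prod_of_monic _ _ fun a _ => monic_X_sub_C a
  have hfSmonic : fS.Monic := hfmonic.map _
  have hfdeg : f.natDegree = s.card := by
    rw [hf, natDegree_prod_of_monic _ _ fun a _ => monic_X_sub_C a]
    simp
  have hfSdeg : fS.natDegree = s.card := by rw [hfS, hfmonic.natDegree_map, hfdeg]
  have hcard : 0 < s.card := Finset.card_pos.mpr ⟨0, h0⟩
  set A : L[X][X] := fS.comp (X + C (X : L[X])) with hA
  have hAmonic : A.Monic := hfSmonic.comp_X_add_C _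
  have hAdeg : A.natDegree = s.card := by
    rw [hA, natDegree_comp, natDegree_X_add_C, mul_one, hfSdeg]
  set F : L[X][X] := A - fS - C f with hF
  by_contra hne
  have hdeg1 : (A - fS).degree < (s.card : WithBot ℕ) := by
    have hd : A.degree = fS.degree := by
      rw [degree_eq_natDegree hAmonic.ne_zero, degree_eq_natDegree hfSmonic.ne_zero, hAdeg, hfSdeg]
    have := degree_sub_lt_left hd hAmonic.ne_zero (by rw [hAmonic.leadingCoeff, hfSmonic.leadingCoeff])
    rwa [degree_eq_natDegree hAmonic.ne_zero, hAdeg] at this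
  have hdeg2 : F.degree < (s.card : WithBot ℕ) := by
    refine lt_of_le_of_lt (degree_sub_le _ _) (max_lt hdeg1 ?_)
    exact lt_of_le_of_lt degree_C_le (by exact_mod_cast hcard)
  have hnat : F.natDegree < (s.image (C : L → L[X])).card := by
    rw [Finset.card_image_of_injective _ C_injective]
    exact (natDegree_lt_iff_degree_lt hne).mpr hdeg2
  apply hne
  apply eq_zero_of_natDegree_lt_card_of_eval_eq_zero' F (s.image (C : L → L[X])) _ hnat
  intro c hc
  obtain ⟨a, ha, rfl⟩ := Finset.mem_image.mp hc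
  -- evaluate at `C a`
  have e1 : eval (C a) fS = 0 := by
    rw [hfS, hf, Polynomial.map_prod, eval_prod]
    apply Finset.prod_eq_zero ha
    simp
  have e2 : eval (C a) A = f := by
    rw [hA, eval_comp, hfS, hf, Polynomial.map_prod, eval_prod]
    simp only [Polynomial.map_sub, map_X, map_C, eval_sub, eval_X, eval_add, eval_C]
    -- ∏ b, (C a + X - C b) = ∏ b, (X - C b)
    have hre : ∏ b ∈ s, (C a + (X : L[X]) - C b) =
        ∏ b ∈ s.image (fun b => b + a), (C a + (X : L[X]) - C b) := by
      rw [image_add_eq s hadd a ha]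
    rw [hre, Finset.prod_image (fun x _ y _ h => add_left_injective a h)]
    refine Finset.prod_congr rfl fun b _ => ?_
    rw [C_add]; ring
  rw [hF, eval_sub, eval_sub, e1, e2, eval_C]
  ring

/-- **Additivity** of `∏_{a ∈ s} (X - a)` for a finite additive subgroup `s`. -/
theorem aeval_add (s : Finset L) (h0 : (0 : L) ∈ s)
    (hadd : ∀ a ∈ s, ∀ b ∈ s, a + b ∈ s) {R : Type*} [CommRing R] [Algebra L R] (x y : R) :
    aeval (x + y) (∏ a ∈ s, (X - C a) : L[X]) =
      aeval x (∏ a ∈ s, (X - C a) : L[X]) + aeval y (∏ a ∈ s, (X - C a) : L[X]) := by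
  have h := poly_identity s h0 hadd
  set f : L[X] := ∏ a ∈ s, (X - C a) with hf
  have hφ : ((aeval y : L[X] →ₐ[L] R) : L[X] →+* R).comp (C : L →+* L[X]) = algebraMap L R := by
    ext a; simp
  have := congrArg (eval₂ ((aeval y : L[X] →ₐ[L] R) : L[X] →+* R) x) h
  rw [eval₂_sub, eval₂_sub, eval₂_comp, eval₂_add, eval₂_X, eval₂_C, eval₂_C, eval₂_map, hφ,
    eval₂_map, hφ, eval₂_zero] at this
  simp only [RingHom.coe_coe, aeval_X] at this
  rw [← aeval_def, ← aeval_def] at this
  rw [sub_sub, sub_eq_zero] at this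
  exact this

end Groth.Agent.Lib.AdditivePoly
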