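import Groth.Prelude.Def_Adeq
import Mathlib.Algebra.Category.ModuleCat.Presheaf.Limits
import Mathlib.Algebra.Category.ModuleCat.Presheaf.Sheafification
import Mathlib.CategoryTheory.Limits.Preserves.Shapes.Kernels
import Mathlib.Algebra.Homology.ShortComplex.ExactFunctor

/-!
# Adequate functors: change of rings (helper24)
-/

set_option autoImplicit false
universe v u u₁ v₁ u₂ v₂

open CategoryTheory Opposite Limits TensorProduct

namespace Groth.Agent.Lib.Adeq24

section Push

variable {C : Type u₁} [Category.{v₁} C] {D : Type u₂} [Category.{v₂} D] {F : C ⥤ D}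
  {R : Dᵒᵖ ⥤ RingCat.{u}} {S : Cᵒᵖ ⥤ RingCat.{u}} (φ : S ⟶ F.op ⋙ R)

instance reflectsIsomorphisms_toPresheaf :
    (PresheafOfModules.toPresheaf.{v} S).ReflectsIsomorphisms :=
  reflectsIsomorphisms_of_reflectsMonomorphisms_of_reflectsEpimorphisms _

instance preservesFiniteLimits_pushforward :
    PreservesFiniteLimits (PresheafOfModules.pushforward.{v} φ) := by
  constructor
  intro J _ _
  have h0 : PreservesLimitsOfShape J (PresheafOfModules.toPresheaf.{v} R) := inferInstance
  have h0' : PreservesLimitsOfShape J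
      ((Functor.whiskeringLeft Cᵒᵖ Dᵒᵖ Ab.{v}).obj F.op) := inferInstance
  have h1 : PreservesLimitsOfShape J
      (PresheafOfModules.pushforward.{v} φ ⋙ PresheafOfModules.toPresheaf S) := by
    show PreservesLimitsOfShape J
      (PresheafOfModules.toPresheaf R ⋙ (Functor.whiskeringLeft _ _ _).obj F.op)
    infer_instance
  have h00 : PreservesLimitsOfShape J (PresheafOfModules.toPresheaf.{v} S) := inferInstance
  have h2 : ReflectsLimitsOfShape J (PresheafOfModules.toPresheaf.{v} S) :=
    reflectsLimitsOfShape_of_reflectsIsomorphisms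
  exact preservesLimitsOfShape_of_reflects_of_preserves _ (PresheafOfModules.toPresheaf.{v} S)

end Push

end Groth.Agent.Lib.Adeq24

namespace Groth.Agent.Lib.Adeq24

section Ext

lemma tensor_addHom_ext {R : Type*} [CommSemiring R] {B M P : Type*} [AddCommMonoid B] [Module R B]
    [AddCommMonoid M] [Module R M] [AddCommMonoid P] (f g : B ⊗[R] M →+ P)
    (h : ∀ b m, f (b ⊗ₜ[R] m) = g (b ⊗ₜ[R] m)) (x : B ⊗[R] M) : f x = g x := by
  induction x using TensorProduct.induction_on with
  | zero => rw [map_zero, map_zero]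
  | tmul b m => exact h b m
  | add x y hx hy => rw [map_add, map_add, hx, hy]

end Ext

section Restr

variable (A A' : Type u) [CommRing A] [CommRing A'] [Algebra A A']

/-- `A' ⊗ M` as an `A'`-module. -/
noncomputable abbrev bcMod (M : ModuleCat.{u + 1} A) : ModuleCat.{u + 1} A' :=
  ModuleCat.of A' (A' ⊗[A] M)

/-- base change of maps. -/
noncomputable abbrev bcMap {M N : ModuleCat.{u + 1} A} (φ : M ⟶ N) :
    bcMod A A' M ⟶ bcMod A A' N :=
  ModuleCat.ofHom (φ.hom.baseChange A')

/-- the comparison equivalence `B' ⊗[A] M ≃ B' ⊗[A'] (A' ⊗[A] M)`. -/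
noncomputable def eqv (M : ModuleCat.{u + 1} A) (B' : Adeq.Alg A') :
    letI : Algebra A B' := ((algebraMap A' B').comp (algebraMap A A')).toAlgebra
    (B' ⊗[A] M) ≃ₗ[B'] (B' ⊗[A'] (A' ⊗[A] M)) :=
  letI : Algebra A B' := ((algebraMap A' B').comp (algebraMap A A')).toAlgebra
  haveI : IsScalarTower A A' B' := IsScalarTower.of_algebraMap_eq (fun _ => rfl)
  (TensorProduct.AlgebraTensorModule.cancelBaseChange A A' B' B' M).symm

lemma eqv_tmul (M : ModuleCat.{u + 1} A) (B' : Adeq.Alg A') (b : B') (m : M) :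
    letI : Algebra A B' := ((algebraMap A' B').comp (algebraMap A A')).toAlgebra
    eqv A A' M B' (b ⊗ₜ[A] m) = b ⊗ₜ[A'] ((1 : A') ⊗ₜ[A] m) := rfl

/-- the components of the comparison isomorphism. -/
noncomputable def restrUnderlineApp (M : ModuleCat.{u + 1} A) (X : (Adeq.Alg A')ᵒᵖᵒᵖ) :
    ((Adeq.restr A A').obj (Adeq.underlineObj A M)).obj X ≅
      (Adeq.underlineObj A' (bcMod A A' M)).obj X :=
  LinearEquiv.toModuleIso (eqv A A' M X.unop.unop)

/-- restriction of `underline M` is `underline (A' ⊗ M)`. -/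
noncomputable def restrUnderlineIso (M : ModuleCat.{u + 1} A) :
    (Adeq.restr A A').obj (Adeq.underlineObj A M) ≅ Adeq.underlineObj A' (bcMod A A' M) :=
  PresheafOfModules.isoMk (restrUnderlineApp A A' M) (by
    intro X Y f
    ext x
    letI : Algebra A X.unop.unop :=
      ((algebraMap A' X.unop.unop).comp (algebraMap A A')).toAlgebra
    exact tensor_addHom_ext (R := A) (B := X.unop.unop) (M := M)
      (AddMonoidHomClass.toAddMonoidHom (ModuleCat.Hom.hom
        (((Adeq.restr A A').obj (Adeq.underlineObj A M)).map f ≫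
          (ModuleCat.restrictScalars (RingCat.Hom.hom ((Adeq.ringOf A').map f))).map
            (restrUnderlineApp A A' M Y).hom)))
      (AddMonoidHomClass.toAddMonoidHom (ModuleCat.Hom.hom
        ((restrUnderlineApp A A' M X).hom ≫ (Adeq.underlineObj A' (bcMod A A' M)).map f)))
      (fun b m => rfl) x)

lemma restrUnderlineIso_hom_naturality {M N : ModuleCat.{u + 1} A} (φ : M ⟶ N) :
    (Adeq.restr A A').map ((Adeq.underline A).map φ) ≫ (restrUnderlineIso A A' N).hom =
      (restrUnderlineIso A A' M).hom ≫ (Adeq.underline A').map (bcMap A A' φ) := by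
  ext X x
  letI : Algebra A X.unop.unop :=
    ((algebraMap A' X.unop.unop).comp (algebraMap A A')).toAlgebra
  exact tensor_addHom_ext (R := A) (B := X.unop.unop) (M := M)
    (AddMonoidHomClass.toAddMonoidHom (ModuleCat.Hom.hom
      (((Adeq.restr A A').map ((Adeq.underline A).map φ) ≫
        (restrUnderlineIso A A' N).hom).app X)))
    (AddMonoidHomClass.toAddMonoidHom (ModuleCat.Hom.hom
      (((restrUnderlineIso A A' M).hom ≫ (Adeq.underline A').map (bcMap A A' φ)).app X)))
    (fun b m => rfl) x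

theorem adequate_restr (F : Adeq.MVF A) (hF : Adeq.adequate A F) :
    Adeq.adequate A' ((Adeq.restr A A').obj F) := by
  obtain ⟨M, N, φ, ⟨e⟩⟩ := hF
  refine ⟨bcMod A A' M, bcMod A A' N, bcMap A A' φ, ⟨?_⟩⟩
  haveI : PreservesFiniteLimits (Adeq.restr A A') := by
    unfold Adeq.restr
    infer_instance
  refine (Adeq.restr A A').mapIso e ≪≫
    PreservesKernel.iso (Adeq.restr A A') ((Adeq.underline A).map φ) ≪≫ ?_
  exact kernel.mapIso _ _ (restrUnderlineIso A A' M) (restrUnderlineIso A A' N)
    (restrUnderlineIso_hom_naturality A A' φ)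

end Restr

end Groth.Agent.Lib.Adeq24
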