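import Groth.Agent.Lib.Adeq24

/-!
# Adequate functors: change of rings, push (helper24)
-/

set_option autoImplicit false
universe u

open CategoryTheory Opposite Limits TensorProduct

namespace Groth.Agent.Lib.Adeq24

section PushA

variable (A A' : Type u) [CommRing A] [CommRing A'] [Algebra A A']

/-- restriction of scalars of an `A'`-module to `A`. -/
noncomputable abbrev rsMod (M' : ModuleCat.{u + 1} A') : ModuleCat.{u + 1} A :=
  (ModuleCat.restrictScalars (algebraMap A A')).obj M'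

/-- restriction of scalars of maps. -/
noncomputable abbrev rsMap {M' N' : ModuleCat.{u + 1} A'} (φ : M' ⟶ N') :
    rsMod A A' M' ⟶ rsMod A A' N' :=
  (ModuleCat.restrictScalars (algebraMap A A')).map φ

/-- the additive comparison equivalence `(A' ⊗[A] B) ⊗[A'] M' ≃ B ⊗[A] M'`. -/
noncomputable def eqv2 (M' : ModuleCat.{u + 1} A') (B : Adeq.Alg A) :
    ((A' ⊗[A] B) ⊗[A'] M') ≃+ (B ⊗[A] (rsMod A A' M')) :=
  letI : Module A M' := Module.compHom M' (algebraMap A A')
  haveI : IsScalarTower A A' M' := IsScalarTower.of_algebraMap_smul (fun _ _ => rfl)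
  ((TensorProduct.comm A' (A' ⊗[A] B) M').toAddEquiv.trans
    (TensorProduct.AlgebraTensorModule.cancelBaseChange A A' A' M' B).toAddEquiv).trans
    (TensorProduct.comm A M' B).toAddEquiv

lemma eqv2_tmul (M' : ModuleCat.{u + 1} A') (B : Adeq.Alg A) (a' : A') (b : B) (m : M') :
    eqv2 A A' M' B ((a' ⊗ₜ[A] b) ⊗ₜ[A'] m) = b ⊗ₜ[A] (show rsMod A A' M' from a' • m) := rfl

end PushA

section PushB

variable (A A' : Type u) [CommRing A] [CommRing A'] [Algebra A A']

lemma eqv2_smul (M' : ModuleCat.{u + 1} A') (B : Adeq.Alg A) (b : B)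
    (x : (A' ⊗[A] B) ⊗[A'] M') :
    eqv2 A A' M' B (((1 : A') ⊗ₜ[A] b) • x) = b • eqv2 A A' M' B x := by
  refine tensor_addHom_ext (R := A') (B := A' ⊗[A] B) (M := M')
    ((eqv2 A A' M' B).toAddMonoidHom.comp
      (DistribSMul.toAddMonoidHom _ ((1 : A') ⊗ₜ[A] b)))
    ((DistribSMul.toAddMonoidHom _ b).comp (eqv2 A A' M' B).toAddMonoidHom) ?_ x
  intro t m
  refine tensor_addHom_ext (R := A) (B := A') (M := B)
    (((eqv2 A A' M' B).toAddMonoidHom.comp
      (DistribSMul.toAddMonoidHom _ ((1 : A') ⊗ₜ[A] b))).comp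
      ((TensorProduct.mk A' (A' ⊗[A] B) M').flip m).toAddMonoidHom)
    (((DistribSMul.toAddMonoidHom _ b).comp (eqv2 A A' M' B).toAddMonoidHom).comp
      ((TensorProduct.mk A' (A' ⊗[A] B) M').flip m).toAddMonoidHom) ?_ t
  intro a' b₀
  change eqv2 A A' M' B ((((1 : A') ⊗ₜ[A] b) * (a' ⊗ₜ[A] b₀)) ⊗ₜ[A'] m) =
    b • eqv2 A A' M' B ((a' ⊗ₜ[A] b₀) ⊗ₜ[A'] m)
  rw [Algebra.TensorProduct.tmul_mul_tmul, eqv2_tmul, eqv2_tmul, one_mul]
  rfl

/-- the linear comparison equivalence. -/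
noncomputable def eqv2Lin (M' : ModuleCat.{u + 1} A') (X : (Adeq.Alg A)ᵒᵖᵒᵖ) :
    ((Adeq.push A A').obj (Adeq.underlineObj A' M')).obj X ≃ₗ[X.unop.unop]
      (Adeq.underlineObj A (rsMod A A' M')).obj X :=
  { eqv2 A A' M' X.unop.unop with
    map_smul' := by
      intro b x
      exact eqv2_smul A A' M' X.unop.unop b x }

/-- the components of the comparison isomorphism. -/
noncomputable def pushUnderlineApp (M' : ModuleCat.{u + 1} A') (X : (Adeq.Alg A)ᵒᵖᵒᵖ) :
    ((Adeq.push A A').obj (Adeq.underlineObj A' M')).obj X ≅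
      (Adeq.underlineObj A (rsMod A A' M')).obj X :=
  LinearEquiv.toModuleIso (eqv2Lin A A' M' X)

lemma pushUnderlineApp_hom_tmul (M' : ModuleCat.{u + 1} A') (X : (Adeq.Alg A)ᵒᵖᵒᵖ)
    (a' : A') (b : X.unop.unop) (m : M') :
    (pushUnderlineApp A A' M' X).hom.hom ((a' ⊗ₜ[A] b) ⊗ₜ[A'] m) =
      b ⊗ₜ[A] (show rsMod A A' M' from a' • m) := rfl

/-- two-step extensionality. -/
lemma tensor2_addHom_ext {P : Type*} [AddCommMonoid P] (M' : ModuleCat.{u + 1} A')
    (B : Adeq.Alg A) (f g : ((A' ⊗[A] B) ⊗[A'] M') →+ P)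
    (h : ∀ (a' : A') (b : B) (m : M'), f ((a' ⊗ₜ[A] b) ⊗ₜ[A'] m) = g ((a' ⊗ₜ[A] b) ⊗ₜ[A'] m))
    (x : (A' ⊗[A] B) ⊗[A'] M') : f x = g x := by
  refine tensor_addHom_ext (R := A') (B := A' ⊗[A] B) (M := M') f g ?_ x
  intro t m
  refine tensor_addHom_ext (R := A) (B := A') (M := B)
    (f.comp ((TensorProduct.mk A' (A' ⊗[A] B) M').flip m).toAddMonoidHom)
    (g.comp ((TensorProduct.mk A' (A' ⊗[A] B) M').flip m).toAddMonoidHom) ?_ t
  intro a' b
  exact h a' b m

/-- push of `underline M'` is `underline` of the restriction of scalars. -/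
noncomputable def pushUnderlineIso (M' : ModuleCat.{u + 1} A') :
    (Adeq.push A A').obj (Adeq.underlineObj A' M') ≅ Adeq.underlineObj A (rsMod A A' M') :=
  PresheafOfModules.isoMk (pushUnderlineApp A A' M') (by
    intro X Y f
    ext x
    exact tensor2_addHom_ext A A' M' X.unop.unop
      (AddMonoidHomClass.toAddMonoidHom (ModuleCat.Hom.hom
        (((Adeq.push A A').obj (Adeq.underlineObj A' M')).map f ≫
          (ModuleCat.restrictScalars (RingCat.Hom.hom ((Adeq.ringOf A).map f))).map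
            (pushUnderlineApp A A' M' Y).hom)))
      (AddMonoidHomClass.toAddMonoidHom (ModuleCat.Hom.hom
        ((pushUnderlineApp A A' M' X).hom ≫ (Adeq.underlineObj A (rsMod A A' M')).map f)))
      (fun a' b m => rfl) x)

lemma pushUnderlineIso_hom_naturality {M' N' : ModuleCat.{u + 1} A'} (φ : M' ⟶ N') :
    (Adeq.push A A').map ((Adeq.underline A').map φ) ≫ (pushUnderlineIso A A' N').hom =
      (pushUnderlineIso A A' M').hom ≫ (Adeq.underline A).map (rsMap A A' φ) := by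
  ext X x
  refine tensor2_addHom_ext A A' M' X.unop.unop
    (AddMonoidHomClass.toAddMonoidHom (ModuleCat.Hom.hom
      (((Adeq.push A A').map ((Adeq.underline A').map φ) ≫
        (pushUnderlineIso A A' N').hom).app X)))
    (AddMonoidHomClass.toAddMonoidHom (ModuleCat.Hom.hom
      (((pushUnderlineIso A A' M').hom ≫ (Adeq.underline A).map (rsMap A A' φ)).app X)))
    (fun a' b m => ?_) x
  change b ⊗ₜ[A] (show rsMod A A' N' from a' • φ.hom m) =
    b ⊗ₜ[A] (show rsMod A A' N' from φ.hom (a' • m))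
  rw [map_smul]

theorem adequate_push (F' : Adeq.MVF A') (hF' : Adeq.adequate A' F') :
    Adeq.adequate A ((Adeq.push A A').obj F') := by
  obtain ⟨M, N, φ, ⟨e⟩⟩ := hF'
  refine ⟨rsMod A A' M, rsMod A A' N, rsMap A A' φ, ⟨?_⟩⟩
  haveI : PreservesFiniteLimits (Adeq.push A A') := by
    unfold Adeq.push
    infer_instance
  refine (Adeq.push A A').mapIso e ≪≫
    PreservesKernel.iso (Adeq.push A A') ((Adeq.underline A').map φ) ≪≫ ?_
  exact kernel.mapIso _ _ (pushUnderlineIso A A' M) (pushUnderlineIso A A' N)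
    (pushUnderlineIso_hom_naturality A A' φ)

end PushB

end Groth.Agent.Lib.Adeq24
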