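import Groth.Agent.Lib.Adeq24b
import Mathlib.Algebra.Category.ModuleCat.Descent
import Mathlib.CategoryTheory.Adjunction.Additive

/-!
# Adequate functors: flat base change (helper24)
-/

set_option autoImplicit false
universe v u

open CategoryTheory Opposite Limits TensorProduct

namespace Groth.Agent.Lib.Adeq24

section ExtendFlat

variable {R S : Type u} [CommRing R] [CommRing S] (f : R →+* S)

instance extendScalars_additive : (ModuleCat.extendScalars.{u, u, max u v} f).Additive :=
  (ModuleCat.extendRestrictScalarsAdj.{max u v, u, u} f).left_adjoint_additive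

lemma extendScalars_map_exact (hf : f.Flat) (T : ShortComplex (ModuleCat.{max u v} R))
    (h : T.Exact) : (T.map (ModuleCat.extendScalars.{u, u, max u v} f)).Exact := by
  rw [CategoryTheory.ShortComplex.ShortExact.moduleCat_exact_iff_function_exact] at h ⊢
  letI := f.toAlgebra
  haveI : Module.Flat R S := hf
  exact Module.Flat.lTensor_exact S h

lemma preservesFiniteLimits_extendScalars_of_flat' (hf : f.Flat) :
    PreservesFiniteLimits (ModuleCat.extendScalars.{u, u, max u v} f) := by
  have := ((Functor.exact_tfae _).out 1 3).mp (extendScalars_map_exact.{v} f hf)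
  exact this.1

end ExtendFlat

section KerNat

variable {C D : Type*} [Category C] [Category D] [Preadditive C] [Preadditive D]
  {Φ Ψ : C ⥤ D} [Φ.Additive] [Ψ.Additive] (τ : Φ ⟶ Ψ)

lemma isIso_app_kernel {X Y : C} (g : X ⟶ Y) [HasKernel g] [HasKernel (Φ.map g)]
    [HasKernel (Ψ.map g)]
    [PreservesLimit (parallelPair g 0) Φ] [PreservesLimit (parallelPair g 0) Ψ]
    [IsIso (τ.app X)] [IsIso (τ.app Y)] : IsIso (τ.app (kernel g)) := by
  have h : τ.app (kernel g) ≫ kernelComparison g Ψ =
      kernelComparison g Φ ≫ kernel.map (Φ.map g) (Ψ.map g) (τ.app X) (τ.app Y)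
        (τ.naturality g) := by
    ext
    simp
  haveI : IsIso (kernel.map (Φ.map g) (Ψ.map g) (τ.app X) (τ.app Y) (τ.naturality g)) :=
    (kernel.mapIso (Φ.map g) (Ψ.map g) (asIso (τ.app X)) (asIso (τ.app Y))
      (τ.naturality g)).isIso_hom
  have h2 : τ.app (kernel g) = (kernelComparison g Φ ≫
      kernel.map (Φ.map g) (Ψ.map g) (τ.app X) (τ.app Y) (τ.naturality g)) ≫
      inv (kernelComparison g Ψ) := by
    rw [← h, Category.assoc, IsIso.hom_inv_id, Category.comp_id]
  rw [h2]
  infer_instance

end KerNat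

section BC

variable {A : Type u} [CommRing A]

lemma bc_naturality {F G : Adeq.MVF A} (α : F ⟶ G) {B B' : Adeq.Alg A} (f : B ⟶ B') :
    (ModuleCat.extendScalars.{u, u, u + 1} f.hom.toRingHom).map (α.app (Adeq.pt B)) ≫ G.bc f =
      F.bc f ≫ α.app (Adeq.pt B') := by
  unfold Adeq.MVF.bc
  rw [← Adjunction.homEquiv_naturality_left_symm, ← Adjunction.homEquiv_naturality_right_symm]
  congr 1
  exact (α.naturality (Adeq.ptHom f)).symm

/-- `bc` as a natural transformation. -/
noncomputable def bcNat {B B' : Adeq.Alg A} (f : B ⟶ B') :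
    PresheafOfModules.evaluation (Adeq.ringOf A) (Adeq.pt B) ⋙
      ModuleCat.extendScalars.{u, u, u + 1} f.hom.toRingHom ⟶
    PresheafOfModules.evaluation (Adeq.ringOf A) (Adeq.pt B') where
  app F := Adeq.MVF.bc F f
  naturality F G α := bc_naturality α f

end BC

section BC2

variable {A : Type u} [CommRing A]

instance evaluation_additive (B : Adeq.Alg A) :
    (PresheafOfModules.evaluation.{u+1} (Adeq.ringOf A) (Adeq.pt B)).Additive where
  map_add := rfl

instance extendScalars_additive' {B B' : Adeq.Alg A} (f : B ⟶ B') :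
    (ModuleCat.extendScalars.{u, u, u + 1} f.hom.toRingHom).Additive :=
  (ModuleCat.extendRestrictScalarsAdj.{u + 1, u, u} f.hom.toRingHom).left_adjoint_additive

instance evalExtend_additive {B B' : Adeq.Alg A} (f : B ⟶ B') :
    (PresheafOfModules.evaluation (Adeq.ringOf A) (Adeq.pt B) ⋙
      ModuleCat.extendScalars.{u, u, u + 1} f.hom.toRingHom).Additive := by
  infer_instance

lemma bc_tmul (F : Adeq.MVF A) {B B' : Adeq.Alg A} (f : B ⟶ B') (b' : B') (x : F.obj (Adeq.pt B)) :
    letI : Module B B' := Module.compHom B' f.hom.toRingHom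
    (Adeq.MVF.bc F f).hom (b' ⊗ₜ[B] x) = b' • (F.map (Adeq.ptHom f)).hom x := by
  rfl

lemma bc_underline_eq (M : ModuleCat.{u + 1} A) {B B' : Adeq.Alg A} (f : B ⟶ B') :
    letI : Algebra B B' := f.hom.toRingHom.toAlgebra
    haveI : IsScalarTower A B B' :=
      IsScalarTower.of_algebraMap_eq (fun a => (f.hom.commutes a).symm)
    ∀ x : B' ⊗[B] (B ⊗[A] M), (Adeq.MVF.bc (Adeq.underlineObj A M) f).hom x =
      TensorProduct.AlgebraTensorModule.cancelBaseChange A B B' B' M x := by
  letI : Algebra B B' := f.hom.toRingHom.toAlgebra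
  haveI : IsScalarTower A B B' :=
    IsScalarTower.of_algebraMap_eq (fun a => (f.hom.commutes a).symm)
  intro x
  induction x using TensorProduct.induction_on with
  | zero => rw [map_zero]; exact (map_zero _)
  | add x y hx hy => rw [map_add]; erw [map_add]; rw [hx, hy]; rfl
  | tmul b' y =>
    induction y using TensorProduct.induction_on with
    | zero => rw [TensorProduct.tmul_zero, map_zero]; exact map_zero _
    | add x y hx hy => rw [TensorProduct.tmul_add, map_add]; erw [map_add]; rw [hx, hy]; rfl
    | tmul b m =>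
      rw [TensorProduct.AlgebraTensorModule.cancelBaseChange_tmul]
      change b' • ((f.hom b) ⊗ₜ[A] m) = (f.hom b * b') ⊗ₜ[A] m
      rw [TensorProduct.smul_tmul', smul_eq_mul, mul_comm]

lemma isIso_bc_underline (M : ModuleCat.{u + 1} A) {B B' : Adeq.Alg A} (f : B ⟶ B') :
    IsIso (Adeq.MVF.bc (Adeq.underlineObj A M) f) := by
  rw [ConcreteCategory.isIso_iff_bijective]
  letI : Algebra B B' := f.hom.toRingHom.toAlgebra
  haveI : IsScalarTower A B B' :=
    IsScalarTower.of_algebraMap_eq (fun a => (f.hom.commutes a).symm)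
  have h : ⇑(ConcreteCategory.hom (Adeq.MVF.bc (Adeq.underlineObj A M) f)) =
      ⇑(TensorProduct.AlgebraTensorModule.cancelBaseChange A B B' B' M) :=
    funext (bc_underline_eq M f)
  rw [h]
  exact (TensorProduct.AlgebraTensorModule.cancelBaseChange A B B' B' M).bijective

theorem isIso_bc_of_adequate (F : Adeq.MVF A) (hF : Adeq.adequate A F)
    {B B' : Adeq.Alg A} (f : B ⟶ B') (hf : f.hom.toRingHom.Flat) : IsIso (Adeq.MVF.bc F f) := by
  obtain ⟨M, N, φ, ⟨e⟩⟩ := hF
  haveI := preservesFiniteLimits_extendScalars_of_flat'.{u + 1} f.hom.toRingHom hf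
  haveI : IsIso ((bcNat f).app ((Adeq.underline A).obj M)) := isIso_bc_underline M f
  haveI : IsIso ((bcNat f).app ((Adeq.underline A).obj N)) := isIso_bc_underline N f
  haveI hev : PreservesFiniteLimits
      (PresheafOfModules.evaluation.{u + 1} (Adeq.ringOf A) (Adeq.pt B)) :=
    PresheafOfModules.evaluation_preservesFiniteLimits _ _
  haveI hev' : PreservesFiniteLimits
      (PresheafOfModules.evaluation.{u + 1} (Adeq.ringOf A) (Adeq.pt B')) :=
    PresheafOfModules.evaluation_preservesFiniteLimits _ _
  haveI : PreservesLimit (parallelPair ((Adeq.underline A).map φ) 0)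
      (PresheafOfModules.evaluation (Adeq.ringOf A) (Adeq.pt B) ⋙
        ModuleCat.extendScalars.{u, u, u + 1} f.hom.toRingHom) :=
    @comp_preservesLimit _ _ _ _ _ _ _ _ _
      (PresheafOfModules.evaluation.{u + 1} (Adeq.ringOf A) (Adeq.pt B))
      (ModuleCat.extendScalars.{u, u, u + 1} f.hom.toRingHom) inferInstance inferInstance
  haveI : PreservesLimit (parallelPair ((Adeq.underline A).map φ) 0)
      (PresheafOfModules.evaluation.{u + 1} (Adeq.ringOf A) (Adeq.pt B')) := inferInstance
  have h1 : IsIso ((bcNat f).app (kernel ((Adeq.underline A).map φ))) :=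
    isIso_app_kernel (bcNat f) ((Adeq.underline A).map φ)
  have h2 : (bcNat f).app F = (PresheafOfModules.evaluation (Adeq.ringOf A) (Adeq.pt B) ⋙
      ModuleCat.extendScalars.{u, u, u + 1} f.hom.toRingHom).map e.hom ≫
      (bcNat f).app (kernel ((Adeq.underline A).map φ)) ≫
      (PresheafOfModules.evaluation (Adeq.ringOf A) (Adeq.pt B')).map e.inv := by
    rw [← Category.assoc, (bcNat f).naturality e.hom, Category.assoc, ← Functor.map_comp,
      e.hom_inv_id, CategoryTheory.Functor.map_id, Category.comp_id]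
  change IsIso ((bcNat f).app F)
  rw [h2]
  infer_instance

end BC2

end Groth.Agent.Lib.Adeq24
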