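import Groth.Agent.Lib.Adeq24c
import Mathlib.LinearAlgebra.TensorProduct.Vanishing
import Mathlib.RingTheory.TensorProduct.DirectLimitFG
import Mathlib.Algebra.Category.ModuleCat.Presheaf.EpiMono
import Mathlib.Algebra.Category.ModuleCat.Presheaf.Colimits

/-!
# Adequate functors: surjection from a sum of linearly adequate functors (helper24)
-/

set_option autoImplicit false
universe v u

open CategoryTheory Opposite Limits TensorProduct

namespace Groth.Agent.Lib.Adeq24

section Vanish

variable {R : Type*} [CommRing R] {M N : Type*} [AddCommGroup M] [Module R M]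
  [AddCommGroup N] [Module R N]

/-- General equational criterion for vanishing: after adding finitely many terms `m' s ⊗ 0`
the expression vanishes trivially. -/
theorem exists_vanishesTrivially_extend {ι : Type*} [Fintype ι] (m : ι → M) (n : ι → N)
    (h : ∑ i, m i ⊗ₜ[R] n i = 0) :
    ∃ (k : ℕ) (m' : Fin k → M),
      TensorProduct.VanishesTrivially R (Sum.elim m m') (Sum.elim n (fun _ => (0 : N))) := by
  classical
  set P : Submodule R M := Submodule.span R (Set.range m) with hP
  have hPfg : P.FG := Submodule.fg_span (Set.finite_range m)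
  have hmP : ∀ i, m i ∈ P := fun i => Submodule.subset_span ⟨i, rfl⟩
  set t : P ⊗[R] N := ∑ i, (⟨m i, hmP i⟩ : P) ⊗ₜ[R] n i with ht
  have h0 : LinearMap.rTensor N P.subtype t = 0 := by
    rw [ht, map_sum]
    simpa using h
  obtain ⟨Q, hPQ, hQfg, hQ⟩ := TensorProduct.eq_zero_of_fg_of_subtype_eq_zero hPfg h0
  obtain ⟨k, s, hs⟩ := Submodule.fg_iff_exists_fin_generating_family.mp hQfg
  have hsQ : ∀ j, s j ∈ Q := fun j => hs ▸ Submodule.subset_span ⟨j, rfl⟩
  refine ⟨k, s, ?_⟩
  set mQ : ι ⊕ Fin k → Q :=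
    Sum.elim (fun i => ⟨m i, hPQ (hmP i)⟩) (fun j => ⟨s j, hsQ j⟩) with hmQ
  have hspan : Submodule.span R (Set.range mQ) = ⊤ := by
    apply Submodule.map_injective_of_injective (Submodule.injective_subtype Q)
    rw [Submodule.map_span, Submodule.map_top, Submodule.range_subtype, ← Set.range_comp]
    apply le_antisymm
    · rw [Submodule.span_le]
      rintro _ ⟨x, rfl⟩
      exact (mQ x).2
    · conv_lhs => rw [← hs]
      apply Submodule.span_mono
      rintro _ ⟨j, rfl⟩
      exact ⟨Sum.inr j, rfl⟩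
  have hsum : ∑ x, mQ x ⊗ₜ[R] (Sum.elim n (fun _ => (0 : N)) x) = 0 := by
    rw [Fintype.sum_sum_type]
    simp only [Sum.elim_inl, Sum.elim_inr, TensorProduct.tmul_zero, Finset.sum_const_zero,
      add_zero]
    rw [ht, map_sum] at hQ
    rw [← hQ]
    apply Finset.sum_congr rfl
    intro i _
    rfl
  obtain ⟨k', a, y, h1, h2⟩ := TensorProduct.vanishesTrivially_of_sum_tmul_eq_zero R hspan hsum
  refine ⟨k', a, y, h1, fun j => ?_⟩
  have := congrArg Q.subtype (h2 j)
  rw [map_sum, map_zero] at this
  rw [← this]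
  apply Finset.sum_congr rfl
  rintro (i | j') _ <;> simp [hmQ]

end Vanish

section KerVal

variable {A : Type u} [CommRing A]

lemma kernel_ι_app_injective {X Y : Adeq.MVF A} (g : X ⟶ Y) (B : Adeq.Alg A) :
    Function.Injective ((kernel.ι g).app (Adeq.pt B)).hom := by
  haveI hev : PreservesFiniteLimits
      (PresheafOfModules.evaluation.{u + 1} (Adeq.ringOf A) (Adeq.pt B)) :=
    PresheafOfModules.evaluation_preservesFiniteLimits _ _
  have : Mono ((PresheafOfModules.evaluation.{u + 1} (Adeq.ringOf A) (Adeq.pt B)).map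
      (kernel.ι g)) := inferInstance
  exact (ModuleCat.mono_iff_injective _).mp this

lemma exists_kernel_lift_app {X Y : Adeq.MVF A} (g : X ⟶ Y) (B : Adeq.Alg A)
    (y : X.obj (Adeq.pt B)) (hy : (g.app (Adeq.pt B)).hom y = 0) :
    ∃ z : (kernel g).obj (Adeq.pt B), ((kernel.ι g).app (Adeq.pt B)).hom z = y := by
  haveI hev : PreservesFiniteLimits
      (PresheafOfModules.evaluation.{u + 1} (Adeq.ringOf A) (Adeq.pt B)) :=
    PresheafOfModules.evaluation_preservesFiniteLimits _ _
  have hex : (ShortComplex.mk (kernel.ι g) g (kernel.condition g)).Exact :=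
    ShortComplex.exact_of_f_is_kernel _ (kernelIsKernel g)
  haveI : Mono (ShortComplex.mk (kernel.ι g) g (kernel.condition g)).f := by
    dsimp; infer_instance
  have hex2 := hex.map_of_mono_of_preservesKernel
    (PresheafOfModules.evaluation.{u + 1} (Adeq.ringOf A) (Adeq.pt B)) inferInstance inferInstance
  rw [ShortComplex.ShortExact.moduleCat_exact_iff_function_exact] at hex2
  exact (hex2 y).mp hy

end KerVal

section Core

variable {A : Type u} [CommRing A]

lemma underline_map_app_hom {M N : ModuleCat.{u + 1} A} (φ : M ⟶ N) (B : Adeq.Alg A)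
    (x : B ⊗[A] M) :
    (((Adeq.underline A).map φ).app (Adeq.pt B)).hom x = (φ.hom.baseChange B) x := rfl

/-- core construction: a linearly adequate functor mapping to `kernel (underline φ)` hitting
a prescribed element given by vanishing data. -/
lemma exists_linAdequate_hit_core {M N : ModuleCat.{u + 1} A} (φ : M ⟶ N) (B : Adeq.Alg A)
    (I J : Type (u + 1)) [Fintype I] [DecidableEq I] [Fintype J]
    (b : I → B) (m : I → M) (a : I → J → A) (y : J → N)
    (h1 : ∀ i, φ.hom (m i) = ∑ j, a i j • y j) (h2 : ∀ j, ∑ i, a i j • b i = 0)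
    (ξ : (kernel ((Adeq.underline A).map φ)).obj (Adeq.pt B))
    (hξ : ((kernel.ι ((Adeq.underline A).map φ)).app (Adeq.pt B)).hom ξ = ∑ i, b i ⊗ₜ[A] m i) :
    ∃ (L : Adeq.MVF A) (_ : Adeq.linAdequate A L) (p : L ⟶ kernel ((Adeq.underline A).map φ))
      (z : L.obj (Adeq.pt B)), (p.app (Adeq.pt B)).hom z = ξ := by
  classical
  let P : ModuleCat.{u + 1} A := ModuleCat.of A (I → A)
  let P' : ModuleCat.{u + 1} A := ModuleCat.of A (J → A)
  let T : P ⟶ P' := ModuleCat.ofHom (Fintype.linearCombination A a)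
  let α : P ⟶ M := ModuleCat.ofHom (Fintype.linearCombination A m)
  let β : P' ⟶ N := ModuleCat.ofHom (Fintype.linearCombination A y)
  have comm : α ≫ φ = T ≫ β := by
    refine ModuleCat.hom_ext (LinearMap.ext fun f => ?_)
    change φ.hom (Fintype.linearCombination A m f) =
      Fintype.linearCombination A y (Fintype.linearCombination A a f)
    have e1 : Fintype.linearCombination A a f = ∑ i, f i • a i :=
      Fintype.linearCombination_apply A _ f
    rw [e1, map_sum, Fintype.linearCombination_apply, map_sum]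
    apply Finset.sum_congr rfl
    intro i _
    rw [map_smul, map_smul, h1 i, Fintype.linearCombination_apply]
  have comm2 : (Adeq.underline A).map T ≫ (Adeq.underline A).map β =
      (Adeq.underline A).map α ≫ (Adeq.underline A).map φ := by
    rw [← Functor.map_comp, ← Functor.map_comp, comm]
  let p : kernel ((Adeq.underline A).map T) ⟶ kernel ((Adeq.underline A).map φ) :=
    kernel.map _ _ ((Adeq.underline A).map α) ((Adeq.underline A).map β) comm2
  let η : B ⊗[A] (I → A) := ∑ i, b i ⊗ₜ[A] (Pi.single i (1 : A))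
  have hη0 : (((Adeq.underline A).map T).app (Adeq.pt B)).hom η = 0 := by
    rw [underline_map_app_hom]
    change ((Fintype.linearCombination A a).baseChange B) η = 0
    simp only [η, map_sum, LinearMap.baseChange_tmul, Fintype.linearCombination_apply_single,
      one_smul]
    refine TensorProduct.sum_tmul_eq_zero_of_vanishesTrivially A
      (TensorProduct.VanishesTrivially.of_fintype (κ := J) a
        (fun j => (Pi.single j (1 : A) : J → A)) (fun i => ?_) h2)
    ext j
    simp [Finset.sum_apply, Pi.single_apply]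
  obtain ⟨z, hz⟩ := exists_kernel_lift_app ((Adeq.underline A).map T) B η hη0
  refine ⟨kernel ((Adeq.underline A).map T),
    ⟨P, P', T, inferInstance, inferInstance, inferInstance, inferInstance, ⟨Iso.refl _⟩⟩,
    p, z, ?_⟩
  apply kernel_ι_app_injective ((Adeq.underline A).map φ) B
  rw [hξ]
  have h3 : p ≫ kernel.ι ((Adeq.underline A).map φ) =
      kernel.ι ((Adeq.underline A).map T) ≫ (Adeq.underline A).map α := kernel.lift_ι _ _ _
  have h4 := congrArg (fun q => (q.app (Adeq.pt B)).hom z) h3
  change ((kernel.ι ((Adeq.underline A).map φ)).app (Adeq.pt B)).hom ((p.app (Adeq.pt B)).hom z) =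
    (((Adeq.underline A).map α).app (Adeq.pt B)).hom
      (((kernel.ι ((Adeq.underline A).map T)).app (Adeq.pt B)).hom z) at h4
  rw [h4, hz, underline_map_app_hom]
  change ((Fintype.linearCombination A m).baseChange B) η = _
  simp only [η, map_sum, LinearMap.baseChange_tmul, Fintype.linearCombination_apply_single,
    one_smul]

end Core

section Hit

variable {A : Type u} [CommRing A]

lemma exists_linAdequate_hit_kernel {M N : ModuleCat.{u + 1} A} (φ : M ⟶ N) (B : Adeq.Alg A)
    (ξ : (kernel ((Adeq.underline A).map φ)).obj (Adeq.pt B)) :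
    ∃ (L : Adeq.MVF A) (_ : Adeq.linAdequate A L) (p : L ⟶ kernel ((Adeq.underline A).map φ))
      (z : L.obj (Adeq.pt B)), (p.app (Adeq.pt B)).hom z = ξ := by
  classical
  set x : B ⊗[A] M := ((kernel.ι ((Adeq.underline A).map φ)).app (Adeq.pt B)).hom ξ with hx
  have hx0 : (φ.hom.baseChange B) x = 0 := by
    have h := congrArg (fun q => (q.app (Adeq.pt B)).hom ξ)
      (kernel.condition ((Adeq.underline A).map φ))
    exact h
  obtain ⟨S, hS⟩ := TensorProduct.exists_finset x
  have hS' : x = ∑ i : S, (i.1.1 : B) ⊗ₜ[A] (i.1.2 : M) := by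
    rw [hS, ← Finset.sum_coe_sort]
  have hv : ∑ i : S, (i.1.1 : B) ⊗ₜ[A] φ.hom (i.1.2 : M) = 0 := by
    rw [hS', map_sum] at hx0
    simpa using hx0
  obtain ⟨k, b', k', a, y, h1, h2⟩ := exists_vanishesTrivially_extend (R := A)
    (fun i : S => (i.1.1 : B)) (fun i : S => φ.hom (i.1.2 : M)) hv
  refine exists_linAdequate_hit_core φ B (S ⊕ Fin k) (ULift.{u + 1} (Fin k'))
    (Sum.elim (fun i : S => (i.1.1 : B)) b') (Sum.elim (fun i : S => (i.1.2 : M)) (fun _ => 0))
    (fun s j => a s j.down) (fun j => y j.down) ?_ ?_ ξ ?_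
  · intro s
    have e : ∑ j : ULift.{u + 1} (Fin k'), a s j.down • y j.down = ∑ j, a s j • y j :=
      Equiv.sum_comp Equiv.ulift (fun j => a s j • y j)
    rw [e, ← h1 s]
    rcases s with i | j
    · rfl
    · simp only [Sum.elim_inr, map_zero]
  · intro j
    exact h2 j.down
  · rw [← hx, hS', Fintype.sum_sum_type]
    simp
  
end Hit

section Final

variable {A : Type u} [CommRing A]

theorem exists_epi_of_adequate (F : Adeq.MVF A) (hF : Adeq.adequate A F) :
    ∃ (ι : Type (u + 1)) (L : ι → Adeq.MVF A), (∀ i, Adeq.linAdequate A (L i)) ∧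
      ∃ (c : Cofan L) (_ : IsColimit c) (π : c.pt ⟶ F), Epi π := by
  obtain ⟨M, N, φ, ⟨e⟩⟩ := hF
  let ι : Type (u + 1) := Σ B : Adeq.Alg A, F.obj (Adeq.pt B)
  choose L hL p z hz using (fun i : ι =>
    exists_linAdequate_hit_kernel φ i.1 ((e.hom.app (Adeq.pt i.1)).hom i.2))
  refine ⟨ι, L, hL, Cofan.mk (∐ L) (Sigma.ι L), coproductIsCoproduct L,
    Sigma.desc (fun i => p i ≫ e.inv), ?_⟩
  apply PresheafOfModules.epi_of_surjective
  intro X ξ
  let i : ι := ⟨X.unop.unop, ξ⟩
  refine ⟨((Sigma.ι L i).app X).hom (z i), ?_⟩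
  have h1 : Sigma.ι L i ≫ Sigma.desc (fun i => p i ≫ e.inv) = p i ≫ e.inv :=
    Sigma.ι_desc _ _
  have h2 := congrArg (fun q => (q.app X).hom (z i)) h1
  change ((Sigma.desc (fun i => p i ≫ e.inv)).app X).hom (((Sigma.ι L i).app X).hom (z i)) =
    (e.inv.app X).hom (((p i).app X).hom (z i)) at h2
  refine h2.trans ?_
  have h3 : ((p i).app X).hom (z i) = (e.hom.app X).hom ξ := hz i
  rw [h3]
  have h4 := congrArg (fun q => (q.app X).hom ξ) e.hom_inv_id
  exact h4

end Final

end Groth.Agent.Lib.Adeq24
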