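import Groth.Agent.Lib.Adeq24d
import Mathlib.Algebra.MvPolynomial.Basic
import Mathlib.Algebra.Polynomial.AlgebraMap
import Mathlib.RingTheory.TensorProduct.Free
import Mathlib.LinearAlgebra.FreeModule.Finite.Basic

/-!
# Adequate functors: maps from linearly adequate functors extend (helper24)
-/

set_option autoImplicit false
universe v u

open CategoryTheory Opposite Limits TensorProduct

namespace Groth.Agent.Lib.Adeq24

section DegreeOne

variable {A : Type*} [CommRing A] {C : Type*} [CommRing C] [Algebra A C]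
  {M : Type*} [AddCommGroup M] [Module A M]

open Polynomial in
lemma smul_eq_rTensor_mulLeft (p : C[X]) (y : C[X] ⊗[A] M) :
    p • y = (LinearMap.rTensor M (LinearMap.mulLeft A p)) y := by
  induction y using TensorProduct.induction_on with
  | zero => rw [smul_zero, map_zero]
  | tmul q m => rw [TensorProduct.smul_tmul', LinearMap.rTensor_tmul]; rfl
  | add x y hx hy => rw [smul_add, map_add, hx, hy]

open Polynomial in
/-- coefficient of `t` as an `A`-linear map. -/
noncomputable def coeffOne : C[X] →ₗ[A] C := (Polynomial.lcoeff C 1).restrictScalars A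

open Polynomial in
lemma coeffOne_apply (p : C[X]) : coeffOne (A := A) p = p.coeff 1 := rfl

open Polynomial in
lemma coeffOne_comp_mulLeft_comp_C :
    (coeffOne (A := A) (C := C)) ∘ₗ (LinearMap.mulLeft A (X : C[X])) ∘ₗ
      (Polynomial.CAlgHom (R := A) (A := C)).toLinearMap = LinearMap.id := by
  ext c
  simp [coeffOne_apply]

end DegreeOne

section DegreeOne2

variable {A : Type*} [CommRing A] {C : Type*} [CommRing C] [Algebra A C]
  {M : Type*} [AddCommGroup M] [Module A M] {n : ℕ}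

open Polynomial in
lemma sigma_monomial (x : Fin n → C) (σ : C →ₐ[A] C[X])
    (hσ : ∀ i, σ (x i) = Polynomial.X * Polynomial.C (x i)) (s : Fin n →₀ ℕ) :
    σ (MvPolynomial.aeval x (MvPolynomial.monomial s (1 : A))) =
      Polynomial.X ^ (s.sum fun _ k => k) * Polynomial.C (s.prod fun i k => x i ^ k) := by
  rw [MvPolynomial.aeval_monomial, map_one, one_mul]
  unfold Finsupp.prod Finsupp.sum
  rw [map_prod, map_prod, ← Finset.prod_pow_eq_pow_sum, ← Finset.prod_mul_distrib]
  apply Finset.prod_congr rfl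
  intro i _
  rw [map_pow, hσ, mul_pow, map_pow]

open Polynomial in
lemma coeffOne_sigma_aeval (x : Fin n → C) (σ : C →ₐ[A] C[X])
    (hσ : ∀ i, σ (x i) = Polynomial.X * Polynomial.C (x i)) :
    (coeffOne (A := A) (C := C)) ∘ₗ σ.toLinearMap ∘ₗ (MvPolynomial.aeval x).toLinearMap =
      ∑ i, (LinearMap.toSpanSingleton A C (x i)) ∘ₗ (MvPolynomial.lcoeff A (Finsupp.single i 1)) := by
  classical
  apply MvPolynomial.linearMap_ext
  intro s
  apply LinearMap.ext_ring
  simp only [LinearMap.comp_apply, AlgHom.toLinearMap_apply, LinearMap.sum_apply, coeffOne_apply]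
  rw [sigma_monomial x σ hσ s, Polynomial.coeff_X_pow_mul', Polynomial.coeff_C]
  by_cases h1 : (s.sum fun _ k => k) = 1
  · obtain ⟨i₀, rfl⟩ := (Finsupp.sum_eq_one_iff s).mp h1
    simp [MvPolynomial.lcoeff, MvPolynomial.coeff_monomial, Finsupp.single_left_inj]
  · have hne : ∀ i, s ≠ Finsupp.single i 1 := fun i hi =>
      h1 ((Finsupp.sum_eq_one_iff s).mpr ⟨i, hi⟩)
    have h2 : (if (s.sum fun _ k => k) ≤ 1 then
        if (1 - s.sum fun _ k => k) = 0 then s.prod fun i k => x i ^ k else 0 else 0) = (0 : C) := by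
      split_ifs with h3 h4
      · omega
      · rfl
      · rfl
    rw [h2]
    symm
    apply Finset.sum_eq_zero
    intro i _
    simp only [LinearMap.comp_apply, MvPolynomial.lcoeff_apply, MvPolynomial.coeff_monomial]
    rw [if_neg (hne i), LinearMap.toSpanSingleton_apply, zero_smul]

lemma rTensor_sum' {ι : Type*} (t : Finset ι) {N P : Type*} [AddCommGroup N] [Module A N]
    [AddCommGroup P] [Module A P] (f : ι → (N →ₗ[A] P)) :
    LinearMap.rTensor M (∑ i ∈ t, f i) = ∑ i ∈ t, LinearMap.rTensor M (f i) :=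
  map_sum (LinearMap.rTensorHom M) f t

lemma rTensor_toSpanSingleton (c : C) (z : A ⊗[A] M) :
    (LinearMap.rTensor M (LinearMap.toSpanSingleton A C c)) z = c ⊗ₜ[A] (TensorProduct.lid A M z) := by
  induction z using TensorProduct.induction_on with
  | zero => rw [map_zero, map_zero, TensorProduct.tmul_zero]
  | tmul a m =>
    rw [LinearMap.rTensor_tmul, LinearMap.toSpanSingleton_apply, TensorProduct.lid_tmul,
      TensorProduct.smul_tmul]
  | add x y hx hy => rw [map_add, map_add, TensorProduct.tmul_add, hx, hy]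

open Polynomial in
theorem exists_eq_sum_tmul (x : Fin n → C)
    (hx : Function.Surjective (MvPolynomial.aeval x : MvPolynomial (Fin n) A →ₐ[A] C))
    (σ : C →ₐ[A] C[X]) (hσ : ∀ i, σ (x i) = Polynomial.X * Polynomial.C (x i)) (w : C ⊗[A] M)
    (hw : (LinearMap.rTensor M σ.toLinearMap) w = (Polynomial.X : C[X]) •
      ((LinearMap.rTensor M (Polynomial.CAlgHom (R := A) (A := C)).toLinearMap) w)) :
    ∃ g : Fin n → M, w = ∑ i, x i ⊗ₜ[A] g i := by
  obtain ⟨w', hw'⟩ := LinearMap.rTensor_surjective M (g := (MvPolynomial.aeval x).toLinearMap) hx w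
  have h1 : (LinearMap.rTensor M (coeffOne (A := A) (C := C)))
      ((LinearMap.rTensor M σ.toLinearMap) w) = w := by
    rw [hw, smul_eq_rTensor_mulLeft, ← LinearMap.comp_apply, ← LinearMap.comp_apply,
      ← LinearMap.rTensor_comp, ← LinearMap.rTensor_comp, LinearMap.comp_assoc,
      coeffOne_comp_mulLeft_comp_C, LinearMap.rTensor_id, LinearMap.id_apply]
  have h2 : (LinearMap.rTensor M (coeffOne (A := A) (C := C)))
      ((LinearMap.rTensor M σ.toLinearMap) w) =
      (LinearMap.rTensor M ((coeffOne (A := A) (C := C)) ∘ₗ σ.toLinearMap ∘ₗ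
        (MvPolynomial.aeval x).toLinearMap)) w' := by
    rw [← hw', ← LinearMap.comp_apply, ← LinearMap.comp_apply, ← LinearMap.rTensor_comp,
      ← LinearMap.rTensor_comp, LinearMap.comp_assoc]
  rw [coeffOne_sigma_aeval x σ hσ, rTensor_sum', LinearMap.sum_apply] at h2
  refine ⟨fun i => TensorProduct.lid A M
    ((LinearMap.rTensor M (MvPolynomial.lcoeff A (Finsupp.single i 1))) w'), ?_⟩
  rw [← h1, h2]
  apply Finset.sum_congr rfl
  intro i _
  rw [LinearMap.rTensor_comp, LinearMap.comp_apply, rTensor_toSpanSingleton]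

end DegreeOne2

section Univ

variable {A : Type u} [CommRing A]

lemma underlineObj_map_hom (M : ModuleCat.{u + 1} A) {B B' : Adeq.Alg A} (f : B ⟶ B')
    (x : B ⊗[A] M) :
    ((Adeq.underlineObj A M).map (Adeq.ptHom f)).hom x = (f.hom.toLinearMap.rTensor M) x := rfl

lemma underline_obj_map_hom (M : ModuleCat.{u + 1} A) {B B' : Adeq.Alg A} (f : B ⟶ B')
    (x : B ⊗[A] M) :
    (((Adeq.underline A).obj M).map (Adeq.ptHom f)).hom x = (f.hom.toLinearMap.rTensor M) x := rfl

variable {P P' M : ModuleCat.{u + 1} A} {n n' : ℕ}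
  (bP : Module.Basis (Fin n) A P) (bP' : Module.Basis (Fin n') A P') (φ₀ : P ⟶ P')

/-- the matrix of `φ₀`. -/
noncomputable def mat (j : Fin n') (i : Fin n) : A := bP'.repr (φ₀.hom (bP i)) j

lemma phi0_basis (i : Fin n) : φ₀.hom (bP i) = ∑ j, mat bP bP' φ₀ j i • bP' j :=
  (bP'.sum_repr (φ₀.hom (bP i))).symm

/-- the linear forms. -/
noncomputable def linForm (j : Fin n') : MvPolynomial (Fin n) A :=
  ∑ i, MvPolynomial.C (mat bP bP' φ₀ j i) * MvPolynomial.X i

/-- the ideal of the universal algebra. -/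
noncomputable def univIdeal : Ideal (MvPolynomial (Fin n) A) :=
  Ideal.span (Set.range (linForm bP bP' φ₀))

/-- the universal algebra. -/
abbrev UnivAlg : Type u := MvPolynomial (Fin n) A ⧸ univIdeal bP bP' φ₀

/-- the generators of the universal algebra. -/
noncomputable def xg (i : Fin n) : UnivAlg bP bP' φ₀ :=
  Ideal.Quotient.mk (univIdeal bP bP' φ₀) (MvPolynomial.X i)

lemma xg_rel (j : Fin n') : ∑ i, mat bP bP' φ₀ j i • xg bP bP' φ₀ i = 0 := by
  have h : Ideal.Quotient.mk (univIdeal bP bP' φ₀) (linForm bP bP' φ₀ j) = 0 :=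
    Ideal.Quotient.eq_zero_iff_mem.mpr (Ideal.subset_span ⟨j, rfl⟩)
  rw [← h, linForm, map_sum]
  apply Finset.sum_congr rfl
  intro i _
  rw [← MvPolynomial.smul_eq_C_mul]
  rfl

lemma aeval_xg_surjective :
    Function.Surjective (MvPolynomial.aeval (xg bP bP' φ₀) :
      MvPolynomial (Fin n) A →ₐ[A] UnivAlg bP bP' φ₀) := by
  have h : (MvPolynomial.aeval (xg bP bP' φ₀) : MvPolynomial (Fin n) A →ₐ[A] UnivAlg bP bP' φ₀) =
      Ideal.Quotient.mkₐ A (univIdeal bP bP' φ₀) := by
    apply MvPolynomial.algHom_ext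
    intro i
    rw [MvPolynomial.aeval_X]
    rfl
  rw [h]
  exact Ideal.Quotient.mkₐ_surjective A _

/-- evaluation at a solution of the linear equations. -/
noncomputable def evc {B : Type u} [CommRing B] [Algebra A B] (c : Fin n → B)
    (hc : ∀ j, ∑ i, mat bP bP' φ₀ j i • c i = 0) : UnivAlg bP bP' φ₀ →ₐ[A] B :=
  Ideal.Quotient.liftₐ (univIdeal bP bP' φ₀) (MvPolynomial.aeval c) (by
    intro p hp
    have : univIdeal bP bP' φ₀ ≤ RingHom.ker (MvPolynomial.aeval c : MvPolynomial (Fin n) A →ₐ[A] B) := by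
      rw [univIdeal, Ideal.span_le]
      rintro _ ⟨j, rfl⟩
      rw [SetLike.mem_coe, RingHom.mem_ker, linForm, map_sum, ← hc j]
      apply Finset.sum_congr rfl
      intro i _
      rw [map_mul, MvPolynomial.aeval_C, MvPolynomial.aeval_X, Algebra.smul_def]
    exact this hp)

lemma evc_xg {B : Type u} [CommRing B] [Algebra A B] (c : Fin n → B)
    (hc : ∀ j, ∑ i, mat bP bP' φ₀ j i • c i = 0) (i : Fin n) :
    evc bP bP' φ₀ c hc (xg bP bP' φ₀ i) = c i := by
  rw [evc, xg]
  erw [Ideal.Quotient.liftₐ_apply, Ideal.Quotient.lift_mk]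
  exact MvPolynomial.aeval_X c i

end Univ

section Univ2

variable {A : Type u} [CommRing A]

lemma kernel_ι_map_apply {X Y : Adeq.MVF A} (g : X ⟶ Y) {B B' : Adeq.Alg A} (f : B ⟶ B')
    (z : (kernel g).obj (Adeq.pt B)) :
    ((kernel.ι g).app (Adeq.pt B')).hom (((kernel g).map (Adeq.ptHom f)).hom z) =
      (X.map (Adeq.ptHom f)).hom (((kernel.ι g).app (Adeq.pt B)).hom z) :=
  PresheafOfModules.naturality_apply (kernel.ι g) (Adeq.ptHom f) z

variable {P P' M : ModuleCat.{u + 1} A} {n n' : ℕ}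
  (bP : Module.Basis (Fin n) A P) (bP' : Module.Basis (Fin n') A P') (φ₀ : P ⟶ P')

/-- The universal algebra as an object of `Alg A`. -/
noncomputable abbrev CuAlg : Adeq.Alg A := CommAlgCat.of A (UnivAlg bP bP' φ₀)

lemma baseChange_sum_basis {B : Type u} [CommRing B] [Algebra A B] (c : Fin n → B) :
    (φ₀.hom.baseChange B) (∑ i, c i ⊗ₜ[A] bP i) =
      ∑ j, (∑ i, mat bP bP' φ₀ j i • c i) ⊗ₜ[A] bP' j := by
  rw [map_sum]
  simp_rw [LinearMap.baseChange_tmul, phi0_basis bP bP' φ₀, TensorProduct.tmul_sum,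
    TensorProduct.tmul_smul, TensorProduct.sum_tmul, ← TensorProduct.smul_tmul']
  rw [Finset.sum_comm]

lemma univ_elt_ker :
    (((Adeq.underline A).map φ₀).app (Adeq.pt (CuAlg bP bP' φ₀))).hom
      (∑ i, xg bP bP' φ₀ i ⊗ₜ[A] bP i) = 0 := by
  rw [underline_map_app_hom]
  erw [baseChange_sum_basis bP bP' φ₀ (xg bP bP' φ₀)]
  apply Finset.sum_eq_zero
  intro j _
  rw [xg_rel, TensorProduct.zero_tmul]
  rfl

end Univ2

section Univ3

variable {A : Type u} [CommRing A]

variable {P P' M : ModuleCat.{u + 1} A} {n n' : ℕ}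
  (bP : Module.Basis (Fin n) A P) (bP' : Module.Basis (Fin n') A P') (φ₀ : P ⟶ P')
  (φ : kernel ((Adeq.underline A).map φ₀) ⟶ (Adeq.underline A).obj M)

lemma phi_eq_of_coords
    (zu : (kernel ((Adeq.underline A).map φ₀)).obj (Adeq.pt (CuAlg bP bP' φ₀)))
    (hzu : ((kernel.ι ((Adeq.underline A).map φ₀)).app (Adeq.pt (CuAlg bP bP' φ₀))).hom zu =
      ∑ i, xg bP bP' φ₀ i ⊗ₜ[A] bP i)
    (B : Adeq.Alg A) (c : Fin n → B) (hc : ∀ j, ∑ i, mat bP bP' φ₀ j i • c i = 0)
    (z : (kernel ((Adeq.underline A).map φ₀)).obj (Adeq.pt B))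
    (hz : ((kernel.ι ((Adeq.underline A).map φ₀)).app (Adeq.pt B)).hom z = ∑ i, c i ⊗ₜ[A] bP i) :
    (φ.app (Adeq.pt B)).hom z = ((evc bP bP' φ₀ c hc).toLinearMap.rTensor M)
      ((φ.app (Adeq.pt (CuAlg bP bP' φ₀))).hom zu) := by
  let f : CuAlg bP bP' φ₀ ⟶ B := CommAlgCat.ofHom (evc bP bP' φ₀ c hc)
  have hz' : ((kernel ((Adeq.underline A).map φ₀)).map (Adeq.ptHom f)).hom zu = z := by
    apply kernel_ι_app_injective _ B
    rw [kernel_ι_map_apply, hzu, hz, underline_obj_map_hom, map_sum]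
    apply Finset.sum_congr rfl
    intro i _
    rw [LinearMap.rTensor_tmul]
    congr 1
    exact evc_xg bP bP' φ₀ c hc i
  rw [← hz', PresheafOfModules.naturality_apply φ (Adeq.ptHom f) zu, underline_obj_map_hom]
  rfl

end Univ3

section Univ4

variable {A : Type u} [CommRing A]

variable {P P' M : ModuleCat.{u + 1} A} {n n' : ℕ}
  (bP : Module.Basis (Fin n) A P) (bP' : Module.Basis (Fin n') A P') (φ₀ : P ⟶ P')
  (φ : kernel ((Adeq.underline A).map φ₀) ⟶ (Adeq.underline A).obj M)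

open Polynomial in
lemma exists_w_eq
    (zu : (kernel ((Adeq.underline A).map φ₀)).obj (Adeq.pt (CuAlg bP bP' φ₀)))
    (hzu : ((kernel.ι ((Adeq.underline A).map φ₀)).app (Adeq.pt (CuAlg bP bP' φ₀))).hom zu =
      ∑ i, xg bP bP' φ₀ i ⊗ₜ[A] bP i) :
    ∃ g : Fin n → M, (φ.app (Adeq.pt (CuAlg bP bP' φ₀))).hom zu =
      ∑ i, xg bP bP' φ₀ i ⊗ₜ[A] g i := by
  let Bt : Adeq.Alg A := CommAlgCat.of A (Polynomial (UnivAlg bP bP' φ₀))
  let incl : CuAlg bP bP' φ₀ ⟶ Bt :=
    CommAlgCat.ofHom (Polynomial.CAlgHom (R := A) (A := UnivAlg bP bP' φ₀))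
  let c₁ : Fin n → Polynomial (UnivAlg bP bP' φ₀) :=
    fun i => Polynomial.X * Polynomial.C (xg bP bP' φ₀ i)
  have hc₁ : ∀ j, ∑ i, mat bP bP' φ₀ j i • c₁ i = 0 := by
    intro j
    have h : ∑ i, mat bP bP' φ₀ j i • c₁ i =
        Polynomial.X * Polynomial.C (∑ i, mat bP bP' φ₀ j i • xg bP bP' φ₀ i) := by
      rw [map_sum, Finset.mul_sum]
      apply Finset.sum_congr rfl
      intro i _
      rw [← Polynomial.smul_C, mul_smul_comm]
    rw [h, xg_rel, map_zero, mul_zero]
  let y : (kernel ((Adeq.underline A).map φ₀)).obj (Adeq.pt Bt) :=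
    ((kernel ((Adeq.underline A).map φ₀)).map (Adeq.ptHom incl)).hom zu
  let Xt : ↑((Adeq.ringOf A).obj (Adeq.pt Bt)) := (Polynomial.X : Polynomial (UnivAlg bP bP' φ₀))
  let z₁ : (kernel ((Adeq.underline A).map φ₀)).obj (Adeq.pt Bt) := Xt • y
  have hy : ((kernel.ι ((Adeq.underline A).map φ₀)).app (Adeq.pt Bt)).hom y =
      ∑ i, Polynomial.C (xg bP bP' φ₀ i) ⊗ₜ[A] bP i := by
    change ((kernel.ι ((Adeq.underline A).map φ₀)).app (Adeq.pt Bt)).hom
      (((kernel ((Adeq.underline A).map φ₀)).map (Adeq.ptHom incl)).hom zu) = _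
    rw [kernel_ι_map_apply, hzu, underline_obj_map_hom, map_sum]
    apply Finset.sum_congr rfl
    intro i _
    rw [LinearMap.rTensor_tmul]
    rfl
  have hz₁ : ((kernel.ι ((Adeq.underline A).map φ₀)).app (Adeq.pt Bt)).hom z₁ =
      ∑ i, c₁ i ⊗ₜ[A] bP i := by
    change ((kernel.ι ((Adeq.underline A).map φ₀)).app (Adeq.pt Bt)).hom (Xt • y) = _
    rw [map_smul, hy]
    change (Polynomial.X : Polynomial (UnivAlg bP bP' φ₀)) •
      (∑ i, Polynomial.C (xg bP bP' φ₀ i) ⊗ₜ[A] bP i :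
        Polynomial (UnivAlg bP bP' φ₀) ⊗[A] P) = _
    rw [Finset.smul_sum]
    apply Finset.sum_congr rfl
    intro i _
    exact TensorProduct.smul_tmul' _ _ _
  have key := phi_eq_of_coords bP bP' φ₀ φ zu hzu Bt c₁ hc₁ z₁ hz₁
  have hy2 : (φ.app (Adeq.pt Bt)).hom y =
      ((LinearMap.rTensor M (Polynomial.CAlgHom (R := A) (A := UnivAlg bP bP' φ₀)).toLinearMap)
        ((φ.app (Adeq.pt (CuAlg bP bP' φ₀))).hom zu)) := by
    change (φ.app (Adeq.pt Bt)).hom
      (((kernel ((Adeq.underline A).map φ₀)).map (Adeq.ptHom incl)).hom zu) = _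
    rw [PresheafOfModules.naturality_apply φ (Adeq.ptHom incl) zu, underline_obj_map_hom]
    rfl
  have lhs : (φ.app (Adeq.pt Bt)).hom z₁ = (Polynomial.X : Polynomial (UnivAlg bP bP' φ₀)) •
      ((LinearMap.rTensor M (Polynomial.CAlgHom (R := A) (A := UnivAlg bP bP' φ₀)).toLinearMap)
        ((φ.app (Adeq.pt (CuAlg bP bP' φ₀))).hom zu)) := by
    change (φ.app (Adeq.pt Bt)).hom (Xt • y) = _
    rw [map_smul, hy2]
    rfl
  refine exists_eq_sum_tmul (xg bP bP' φ₀) (aeval_xg_surjective bP bP' φ₀)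
    (evc bP bP' φ₀ c₁ hc₁) (evc_xg bP bP' φ₀ c₁ hc₁) _ ?_
  rw [← key, lhs]

end Univ4

section Univ5

variable {A : Type u} [CommRing A]

variable {P P' M : ModuleCat.{u + 1} A} {n n' : ℕ}
  (bP : Module.Basis (Fin n) A P) (bP' : Module.Basis (Fin n') A P') (φ₀ : P ⟶ P')
  (φ : kernel ((Adeq.underline A).map φ₀) ⟶ (Adeq.underline A).obj M)

include bP bP' in
theorem exists_extension_of_bases :
    ∃ g : P ⟶ M, kernel.ι ((Adeq.underline A).map φ₀) ≫ (Adeq.underline A).map g = φ := by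
  obtain ⟨zu, hzu⟩ := exists_kernel_lift_app ((Adeq.underline A).map φ₀) (CuAlg bP bP' φ₀)
    (∑ i, xg bP bP' φ₀ i ⊗ₜ[A] bP i) (univ_elt_ker bP bP' φ₀)
  obtain ⟨g, hg⟩ := exists_w_eq bP bP' φ₀ φ zu hzu
  refine ⟨ModuleCat.ofHom (bP.constr A g), ?_⟩
  apply PresheafOfModules.hom_ext
  intro X
  apply ModuleCat.hom_ext
  apply LinearMap.ext
  intro z
  let B : Adeq.Alg A := X.unop.unop
  let yy : B ⊗[A] P := ((kernel.ι ((Adeq.underline A).map φ₀)).app (Adeq.pt B)).hom z
  let bB := Algebra.TensorProduct.basis B bP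
  let c : Fin n → B := fun i => bB.repr yy i
  have hsum : yy = ∑ i, c i ⊗ₜ[A] bP i := by
    conv_lhs => rw [← bB.sum_repr yy]
    apply Finset.sum_congr rfl
    intro i _
    exact Algebra.TensorProduct.basis_repr_symm_apply' bP (c i) i
  have hc : ∀ j, ∑ i, mat bP bP' φ₀ j i • c i = 0 := by
    have h0 : (φ₀.hom.baseChange B) yy = 0 := by
      have h := congrArg (fun q => (q.app (Adeq.pt B)).hom z)
        (kernel.condition ((Adeq.underline A).map φ₀))
      exact h
    rw [hsum, baseChange_sum_basis bP bP' φ₀ c] at h0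
    have h1 : ∑ j, (∑ i, mat bP bP' φ₀ j i • c i) • (Algebra.TensorProduct.basis B bP') j = 0 := by
      rw [← h0]
      apply Finset.sum_congr rfl
      intro j _
      exact Algebra.TensorProduct.basis_repr_symm_apply' bP' _ j
    exact Fintype.linearIndependent_iff.mp (Algebra.TensorProduct.basis B bP').linearIndependent
      _ h1
  have h2 := phi_eq_of_coords bP bP' φ₀ φ zu hzu B c hc z hsum
  change (((Adeq.underline A).map (ModuleCat.ofHom (bP.constr A g))).app (Adeq.pt B)).hom yy =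
    (φ.app (Adeq.pt B)).hom z
  rw [h2, hg, map_sum, underline_map_app_hom, hsum, map_sum]
  apply Finset.sum_congr rfl
  intro i _
  rw [LinearMap.rTensor_tmul, LinearMap.baseChange_tmul]
  congr 1
  · exact (evc_xg bP bP' φ₀ c hc i).symm
  · exact Module.Basis.constr_basis bP A g i

end Univ5

section Univ6

variable {A : Type u} [CommRing A]

theorem exists_extension (P P' M : ModuleCat.{u + 1} A)
    [Module.Finite A P] [Module.Free A P] [Module.Finite A P'] [Module.Free A P'] (φ₀ : P ⟶ P')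
    (φ : kernel ((Adeq.underline A).map φ₀) ⟶ (Adeq.underline A).obj M) :
    ∃ g : P ⟶ M, kernel.ι ((Adeq.underline A).map φ₀) ≫ (Adeq.underline A).map g = φ :=
  exists_extension_of_bases
    ((Module.Free.chooseBasis A P).reindex (Fintype.equivFin _))
    ((Module.Free.chooseBasis A P').reindex (Fintype.equivFin _)) φ₀ φ

end Univ6

end Groth.Agent.Lib.Adeq24
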