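import Groth.Agent.Lib.Adeq24e

/-!
# Adequate functors: elementwise exactness in `MVF A`, cokernel = kernel lemma (helper24)
-/

set_option autoImplicit false
universe v u

open CategoryTheory Opposite Limits TensorProduct

namespace Groth.Agent.Lib.Adeq24

section AbL1

variable {C : Type*} [Category C] [Abelian C]

/-- if `F →φ X →j Y →q Z` is exact at `X` and at `Y`, then `cokernel φ ≅ kernel q`. -/
noncomputable def cokernelIsoKernelOfExact {F X Y Z : C} (φ : F ⟶ X) (j : X ⟶ Y) (q : Y ⟶ Z)
    (w1 : φ ≫ j = 0) (w2 : j ≫ q = 0) (h1 : (ShortComplex.mk φ j w1).Exact)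
    (h2 : (ShortComplex.mk j q w2).Exact) : cokernel φ ≅ kernel q := by
  have hm : Mono (cokernel.desc φ j w1) := h1.mono_cokernelDesc
  have he : Epi (kernel.lift q j w2) := h2.epi_kernelLift
  have w3 : cokernel.desc φ j w1 ≫ q = 0 := by
    apply (cancel_epi (cokernel.π φ)).mp
    rw [cokernel.π_desc_assoc, w2, comp_zero]
  let t : cokernel φ ⟶ kernel q := kernel.lift q (cokernel.desc φ j w1) w3
  have ht : cokernel.π φ ≫ t = kernel.lift q j w2 := by
    apply (cancel_mono (kernel.ι q)).mp
    simp [t]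
  haveI : Mono t := by
    have : Mono (t ≫ kernel.ι q) := by
      simp only [t, kernel.lift_ι]
      exact hm
    exact mono_of_mono t (kernel.ι q)
  haveI : Epi t := by
    have : Epi (cokernel.π φ ≫ t) := by rw [ht]; exact he
    exact epi_of_epi (cokernel.π φ) t
  haveI : IsIso t := isIso_of_mono_of_epi t
  exact asIso t

end AbL1

section Elementwise

variable {A : Type u} [CommRing A]

lemma mvf_app_exact {X Y Z : Adeq.MVF A} (f : X ⟶ Y) (g : Y ⟶ Z) (w : f ≫ g = 0)
    (h : (ShortComplex.mk f g w).Exact) (B : Adeq.Alg A) :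
    Function.Exact (f.app (Adeq.pt B)).hom (g.app (Adeq.pt B)).hom := by
  haveI hev : PreservesFiniteLimits
      (PresheafOfModules.evaluation.{u + 1} (Adeq.ringOf A) (Adeq.pt B)) :=
    PresheafOfModules.evaluation_preservesFiniteLimits _ _
  haveI hev' : PreservesFiniteColimits
      (PresheafOfModules.evaluation.{u + 1} (Adeq.ringOf A) (Adeq.pt B)) :=
    PresheafOfModules.Finite.evaluation_preservesFiniteColimits _ _
  have h2 := h.map (PresheafOfModules.evaluation.{u + 1} (Adeq.ringOf A) (Adeq.pt B))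
  rw [ShortComplex.ShortExact.moduleCat_exact_iff_function_exact] at h2
  exact h2

lemma mvf_exact_of_app {X Y Z : Adeq.MVF A} (f : X ⟶ Y) (g : Y ⟶ Z) (w : f ≫ g = 0)
    (h : ∀ B : Adeq.Alg A, Function.Exact (f.app (Adeq.pt B)).hom (g.app (Adeq.pt B)).hom) :
    (ShortComplex.mk f g w).Exact := by
  rw [ShortComplex.exact_iff_isZero_homology, IsZero.iff_id_eq_zero]
  apply PresheafOfModules.hom_ext
  intro X'
  haveI hev : PreservesFiniteLimits
      (PresheafOfModules.evaluation.{u + 1} (Adeq.ringOf A) (Adeq.pt X'.unop.unop)) :=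
    PresheafOfModules.evaluation_preservesFiniteLimits _ _
  haveI hev' : PreservesFiniteColimits
      (PresheafOfModules.evaluation.{u + 1} (Adeq.ringOf A) (Adeq.pt X'.unop.unop)) :=
    PresheafOfModules.Finite.evaluation_preservesFiniteColimits _ _
  have h2 : ((ShortComplex.mk f g w).map
      (PresheafOfModules.evaluation.{u + 1} (Adeq.ringOf A) (Adeq.pt X'.unop.unop))).Exact := by
    rw [ShortComplex.ShortExact.moduleCat_exact_iff_function_exact]
    exact h X'.unop.unop
  rw [ShortComplex.exact_iff_isZero_homology] at h2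
  have h3 : IsZero ((PresheafOfModules.evaluation.{u + 1} (Adeq.ringOf A)
      (Adeq.pt X'.unop.unop)).obj (ShortComplex.mk f g w).homology) :=
    IsZero.of_iso h2 ((ShortComplex.mk f g w).mapHomologyIso
      (PresheafOfModules.evaluation.{u + 1} (Adeq.ringOf A) (Adeq.pt X'.unop.unop))).symm
  exact (IsZero.iff_id_eq_zero _).mp h3

end Elementwise

end Groth.Agent.Lib.Adeq24
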