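import Groth.Agent.Lib.Adeq24f
import Mathlib.LinearAlgebra.DirectSum.TensorProduct
import Mathlib.LinearAlgebra.TensorProduct.RightExactness

/-!
# Adequate functors: linear algebra for the cokernel lemma (helper24)
-/

set_option autoImplicit false
universe v u w

open CategoryTheory Opposite Limits TensorProduct DirectSum

namespace Groth.Agent.Lib.Adeq24

section LA

variable {A : Type u} [CommRing A] {ι : Type w} [DecidableEq ι]
  {P P' : ι → Type w} [∀ i, AddCommGroup (P i)] [∀ i, Module A (P i)]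
  [∀ i, AddCommGroup (P' i)] [∀ i, Module A (P' i)]
  {M : Type w} [AddCommGroup M] [Module A M]
  (T : ∀ i, P i →ₗ[A] P' i) (g : ∀ i, P i →ₗ[A] M)
  (B : Type u) [AddCommGroup B] [Module A B]

/-- the sum of the `T i`. -/
noncomputable abbrev Tsum : (⨁ i, P i) →ₗ[A] (⨁ i, P' i) := DirectSum.lmap T

/-- the sum of the `g i`. -/
noncomputable abbrev gsum : (⨁ i, P i) →ₗ[A] M := DirectSum.toModule A ι M g

/-- the map `(g, T)`. -/
noncomputable abbrev gT : (⨁ i, P i) →ₗ[A] M × (⨁ i, P' i) := (gsum g).prod (Tsum T)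

/-- the pushout-like quotient. -/
abbrev Qmod : Type w := (M × (⨁ i, P' i)) ⧸ LinearMap.range (gT T g)

/-- the map `M → Q`. -/
noncomputable abbrev jmap : M →ₗ[A] Qmod T g :=
  (LinearMap.range (gT T g)).mkQ ∘ₗ LinearMap.inl A M (⨁ i, P' i)

lemma lTensor_gT (k : B ⊗[A] (⨁ i, P i)) :
    ((gT T g).lTensor B) k =
      ((LinearMap.inl A M (⨁ i, P' i)).lTensor B) (((gsum g).lTensor B) k) +
      ((LinearMap.inr A M (⨁ i, P' i)).lTensor B) (((Tsum T).lTensor B) k) := by
  have h : gT T g = (LinearMap.inl A M (⨁ i, P' i)) ∘ₗ (gsum g) +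
      (LinearMap.inr A M (⨁ i, P' i)) ∘ₗ (Tsum T) := by
    ext x <;> simp
  conv_lhs => rw [h]
  rw [LinearMap.lTensor_add, LinearMap.add_apply, LinearMap.lTensor_comp, LinearMap.lTensor_comp,
    LinearMap.comp_apply, LinearMap.comp_apply]

lemma LA1 (m : B ⊗[A] M) :
    ((jmap T g).lTensor B) m = 0 ↔
      ∃ k : B ⊗[A] (⨁ i, P i), ((Tsum T).lTensor B) k = 0 ∧ ((gsum g).lTensor B) k = m := by
  have hex : Function.Exact (gT T g) (LinearMap.range (gT T g)).mkQ :=
    LinearMap.exact_map_mkQ_range (gT T g)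
  have hex2 := lTensor_exact B hex (Submodule.mkQ_surjective _)
  constructor
  · intro h
    rw [LinearMap.lTensor_comp, LinearMap.comp_apply] at h
    obtain ⟨k, hk⟩ := (hex2 _).mp h
    refine ⟨k, ?_, ?_⟩
    · have := congrArg ((LinearMap.snd A M (⨁ i, P' i)).lTensor B) hk
      rw [← LinearMap.comp_apply, ← LinearMap.comp_apply, ← LinearMap.lTensor_comp,
        ← LinearMap.lTensor_comp] at this
      have e1 : (LinearMap.snd A M (⨁ i, P' i)) ∘ₗ gT T g = Tsum T := by ext x <;> simp
      have e2 : (LinearMap.snd A M (⨁ i, P' i)) ∘ₗ LinearMap.inl A M (⨁ i, P' i) = 0 := by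
        ext x <;> simp
      rw [e1, e2, LinearMap.lTensor_zero, LinearMap.zero_apply] at this
      exact this
    · have := congrArg ((LinearMap.fst A M (⨁ i, P' i)).lTensor B) hk
      rw [← LinearMap.comp_apply, ← LinearMap.comp_apply, ← LinearMap.lTensor_comp,
        ← LinearMap.lTensor_comp] at this
      have e1 : (LinearMap.fst A M (⨁ i, P' i)) ∘ₗ gT T g = gsum g := by ext x <;> simp
      have e2 : (LinearMap.fst A M (⨁ i, P' i)) ∘ₗ LinearMap.inl A M (⨁ i, P' i) =
          LinearMap.id := by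
        ext x <;> simp
      rw [e1, e2, LinearMap.lTensor_id, LinearMap.id_apply] at this
      exact this
  · rintro ⟨k, hk1, hk2⟩
    rw [LinearMap.lTensor_comp, LinearMap.comp_apply]
    apply (hex2 _).mpr
    refine ⟨k, ?_⟩
    rw [lTensor_gT, hk1, hk2, map_zero, add_zero]

end LA

section LA2

variable {A : Type u} [CommRing A] {ι : Type w} [DecidableEq ι]
  {P P' : ι → Type w} [∀ i, AddCommGroup (P i)] [∀ i, Module A (P i)]
  [∀ i, AddCommGroup (P' i)] [∀ i, Module A (P' i)]
  {M : Type w} [AddCommGroup M] [Module A M]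
  (T : ∀ i, P i →ₗ[A] P' i) (g : ∀ i, P i →ₗ[A] M)
  (B : Type u) [AddCommGroup B] [Module A B]

lemma LA3 (i : ι) (y : B ⊗[A] P i) (hy : ((T i).lTensor B) y = 0) :
    ((Tsum T).lTensor B) (((DirectSum.lof A ι P i).lTensor B) y) = 0 ∧
    ((gsum g).lTensor B) (((DirectSum.lof A ι P i).lTensor B) y) = ((g i).lTensor B) y := by
  constructor
  · rw [← LinearMap.comp_apply, ← LinearMap.lTensor_comp]
    have e : Tsum T ∘ₗ DirectSum.lof A ι P i = DirectSum.lof A ι P' i ∘ₗ T i := by
      ext x
      simp [Tsum]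
    rw [e, LinearMap.lTensor_comp, LinearMap.comp_apply, hy, map_zero]
  · rw [← LinearMap.comp_apply, ← LinearMap.lTensor_comp]
    have e : gsum g ∘ₗ DirectSum.lof A ι P i = g i := by
      ext x
      simp [gsum]
    rw [e]

/-- the set of elements of `B ⊗ M` coming from kernel elements of the summands. -/
def genSet : Set (B ⊗[A] M) :=
  {m | ∃ (i : ι) (y : B ⊗[A] P i), ((T i).lTensor B) y = 0 ∧ ((g i).lTensor B) y = m}

lemma directSumRight_lTensor_Tsum (k : B ⊗[A] (⨁ i, P i)) (i : ι) :
    (TensorProduct.directSumRight A A B P' (((Tsum T).lTensor B) k)) i =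
      ((T i).lTensor B) ((TensorProduct.directSumRight A A B P k) i) := by
  induction k using TensorProduct.induction_on with
  | zero => simp
  | tmul b κ =>
    rw [LinearMap.lTensor_tmul, TensorProduct.directSumRight_tmul,
      TensorProduct.directSumRight_tmul, LinearMap.lTensor_tmul]
    rfl
  | add x y hx hy =>
    rw [map_add, map_add, map_add, DirectSum.add_apply, DirectSum.add_apply, map_add, hx, hy]

lemma lTensor_gsum_eq (k : B ⊗[A] (⨁ i, P i)) :
    ((gsum g).lTensor B) k =
      DirectSum.toModule A ι (B ⊗[A] M) (fun i => (g i).lTensor B)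
        (TensorProduct.directSumRight A A B P k) := by
  induction k using TensorProduct.induction_on with
  | zero => simp
  | tmul b κ =>
    induction κ using DirectSum.induction_on with
    | zero => simp
    | of i x =>
      rw [← DirectSum.lof_eq_of A, TensorProduct.directSumRight_tmul_lof, DirectSum.toModule_lof,
        LinearMap.lTensor_tmul, LinearMap.lTensor_tmul, DirectSum.toModule_lof]
    | add x y hx hy =>
      rw [TensorProduct.tmul_add, map_add, map_add, map_add, hx, hy]
  | add x y hx hy => rw [map_add, map_add, map_add, hx, hy]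

lemma LA2 (k : B ⊗[A] (⨁ i, P i)) (hk : ((Tsum T).lTensor B) k = 0) :
    ((gsum g).lTensor B) k ∈ AddSubgroup.closure (genSet T g B) := by
  classical
  set z := TensorProduct.directSumRight A A B P k with hz
  have hz0 : ∀ i, ((T i).lTensor B) (z i) = 0 := by
    intro i
    rw [hz, ← directSumRight_lTensor_Tsum, hk, map_zero]
    rfl
  rw [lTensor_gsum_eq, ← hz, ← DirectSum.sum_support_of z, map_sum]
  apply AddSubgroup.sum_mem
  intro i _
  rw [← DirectSum.lof_eq_of A, DirectSum.toModule_lof]
  exact AddSubgroup.subset_closure ⟨i, z i, hz0 i, rfl⟩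

end LA2

end Groth.Agent.Lib.Adeq24
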