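import Groth.Agent.Lib.Adeq24g

/-!
# Adequate functors: cokernel of a map to `underline M` (helper24)
-/

set_option autoImplicit false
universe v u w

open CategoryTheory Opposite Limits TensorProduct DirectSum

namespace Groth.Agent.Lib.Adeq24

section CokerData

variable {A : Type u} [CommRing A]

lemma exists_lin_data {F : Adeq.MVF A} (hF : Adeq.adequate A F) {M : ModuleCat.{u + 1} A}
    (φ : F ⟶ (Adeq.underline A).obj M) (B : Adeq.Alg A) (ξ : F.obj (Adeq.pt B)) :
    ∃ (P P' : ModuleCat.{u + 1} A) (T : P ⟶ P') (g : P ⟶ M)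
      (p : kernel ((Adeq.underline A).map T) ⟶ F)
      (z : (kernel ((Adeq.underline A).map T)).obj (Adeq.pt B)),
      (p.app (Adeq.pt B)).hom z = ξ ∧
      kernel.ι ((Adeq.underline A).map T) ≫ (Adeq.underline A).map g = p ≫ φ := by
  obtain ⟨M₀, N₀, φ₀, ⟨e⟩⟩ := hF
  obtain ⟨L, hL, p, z, hz⟩ := exists_linAdequate_hit_kernel φ₀ B ((e.hom.app (Adeq.pt B)).hom ξ)
  obtain ⟨P, P', T, hP1, hP2, hP1', hP2', ⟨eL⟩⟩ := hL
  obtain ⟨g, hg⟩ := exists_extension P P' M T (eL.inv ≫ p ≫ e.inv ≫ φ)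
  refine ⟨P, P', T, g, eL.inv ≫ p ≫ e.inv, (eL.hom.app (Adeq.pt B)).hom z, ?_, ?_⟩
  · have h1 := congrArg (fun q => (q.app (Adeq.pt B)).hom z) eL.hom_inv_id
    have h2 := congrArg (fun q => (q.app (Adeq.pt B)).hom ξ) e.hom_inv_id
    change (eL.inv.app (Adeq.pt B)).hom ((eL.hom.app (Adeq.pt B)).hom z) = z at h1
    change (e.inv.app (Adeq.pt B)).hom ((e.hom.app (Adeq.pt B)).hom ξ) = ξ at h2
    change (e.inv.app (Adeq.pt B)).hom ((p.app (Adeq.pt B)).hom
      ((eL.inv.app (Adeq.pt B)).hom ((eL.hom.app (Adeq.pt B)).hom z))) = ξ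
    rw [h1, hz, h2]
  · rw [hg]
    simp only [Category.assoc]

end CokerData

section CokerMain

variable {A : Type u} [CommRing A]

theorem exists_exact_of_adequate {F : Adeq.MVF A} (hF : Adeq.adequate A F)
    {M : ModuleCat.{u + 1} A} (φ : F ⟶ (Adeq.underline A).obj M) :
    ∃ (Q : ModuleCat.{u + 1} A) (j₀ : M ⟶ Q) (w : φ ≫ (Adeq.underline A).map j₀ = 0),
      (ShortComplex.mk φ ((Adeq.underline A).map j₀) w).Exact := by
  classical
  let ι : Type (u + 1) := Σ B : Adeq.Alg A, F.obj (Adeq.pt B)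
  choose Pm Pm' Tm gm pm zm hzm hgm using
    (fun i : ι => exists_lin_data hF φ i.1 i.2)
  let Q : ModuleCat.{u + 1} A :=
    ModuleCat.of A (Qmod (fun i => (Tm i).hom) (fun i => (gm i).hom))
  let j₀ : M ⟶ Q := ModuleCat.ofHom (jmap (fun i => (Tm i).hom) (fun i => (gm i).hom))
  have key : ∀ (B : Adeq.Alg A) (m : B ⊗[A] M),
      (((Adeq.underline A).map j₀).app (Adeq.pt B)).hom m = 0 ↔
        m ∈ Set.range (φ.app (Adeq.pt B)).hom := by
    intro B m
    change ((jmap (fun i => (Tm i).hom) (fun i => (gm i).hom)).lTensor B) m = 0 ↔ _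
    rw [LA1]
    constructor
    · rintro ⟨k, hk1, hk2⟩
      have h2 := LA2 (fun i => (Tm i).hom) (fun i => (gm i).hom) B k hk1
      rw [hk2] at h2
      have hle : AddSubgroup.closure (genSet (fun i => (Tm i).hom) (fun i => (gm i).hom) B) ≤
          (φ.app (Adeq.pt B)).hom.toAddMonoidHom.range := by
        rw [AddSubgroup.closure_le]
        rintro _ ⟨i, y, hy1, rfl⟩
        obtain ⟨z, hz⟩ := exists_kernel_lift_app ((Adeq.underline A).map (Tm i)) B y hy1
        refine ⟨((pm i).app (Adeq.pt B)).hom z, ?_⟩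
        have h3 := congrArg (fun q => (q.app (Adeq.pt B)).hom z) (hgm i)
        change (((Adeq.underline A).map (gm i)).app (Adeq.pt B)).hom
          (((kernel.ι ((Adeq.underline A).map (Tm i))).app (Adeq.pt B)).hom z) =
          (φ.app (Adeq.pt B)).hom (((pm i).app (Adeq.pt B)).hom z) at h3
        rw [hz] at h3
        exact h3.symm
      obtain ⟨x, hx⟩ := hle h2
      exact ⟨x, hx⟩
    · rintro ⟨ξ, rfl⟩
      let i : ι := ⟨B, ξ⟩
      let y : B ⊗[A] Pm i :=
        ((kernel.ι ((Adeq.underline A).map (Tm i))).app (Adeq.pt B)).hom (zm i)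
      have hy : ((Tm i).hom.lTensor B) y = 0 := by
        have h := congrArg (fun q => (q.app (Adeq.pt B)).hom (zm i))
          (kernel.condition ((Adeq.underline A).map (Tm i)))
        exact h
      obtain ⟨h1, h2⟩ := LA3 (fun i => (Tm i).hom) (fun i => (gm i).hom) B i y hy
      refine ⟨_, h1, h2.trans ?_⟩
      have h3 := congrArg (fun q => (q.app (Adeq.pt B)).hom (zm i)) (hgm i)
      change (((Adeq.underline A).map (gm i)).app (Adeq.pt B)).hom y =
        (φ.app (Adeq.pt B)).hom (((pm i).app (Adeq.pt B)).hom (zm i)) at h3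
      rw [hzm i] at h3
      exact h3
  have w : φ ≫ (Adeq.underline A).map j₀ = 0 := by
    apply PresheafOfModules.hom_ext
    intro X
    apply ModuleCat.hom_ext
    apply LinearMap.ext
    intro ξ
    exact (key X.unop.unop _).mpr ⟨ξ, rfl⟩
  refine ⟨Q, j₀, w, mvf_exact_of_app _ _ w (fun B m => key B m)⟩

end CokerMain

end Groth.Agent.Lib.Adeq24
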