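import Groth.Agent.Lib.Adeq24h

/-!
# Adequate functors: cokernels and kernels are adequate (helper24)
-/

set_option autoImplicit false
universe v u w

open CategoryTheory Opposite Limits TensorProduct DirectSum

namespace Groth.Agent.Lib.Adeq24

section CokerElt

variable {A : Type u} [CommRing A]

lemma cokernel_π_app_surjective {X Y : Adeq.MVF A} (f : X ⟶ Y) (B : Adeq.Alg A) :
    Function.Surjective ((cokernel.π f).app (Adeq.pt B)).hom :=
  PresheafOfModules.surjective_of_epi (cokernel.π f) (Adeq.pt B)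

lemma cokernel_π_app_eq_zero_iff {X Y : Adeq.MVF A} (f : X ⟶ Y) (B : Adeq.Alg A)
    (y : Y.obj (Adeq.pt B)) :
    ((cokernel.π f).app (Adeq.pt B)).hom y = 0 ↔ y ∈ Set.range (f.app (Adeq.pt B)).hom := by
  have hex : (ShortComplex.mk f (cokernel.π f) (cokernel.condition f)).Exact :=
    ShortComplex.exact_of_g_is_cokernel _ (cokernelIsCokernel f)
  exact mvf_app_exact _ _ _ hex B y

/-- right exactness of `underline`: `underline M → underline Q → underline (Q / M) ` is exact. -/
lemma underline_exact_mkQ {M Q : ModuleCat.{u + 1} A} (j₀ : M ⟶ Q) :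
    ∃ (Q' : ModuleCat.{u + 1} A) (q₀ : Q ⟶ Q')
      (w : (Adeq.underline A).map j₀ ≫ (Adeq.underline A).map q₀ = 0),
      (ShortComplex.mk ((Adeq.underline A).map j₀) ((Adeq.underline A).map q₀) w).Exact := by
  let Q' : ModuleCat.{u + 1} A := ModuleCat.of A (Q ⧸ LinearMap.range j₀.hom)
  let q₀ : Q ⟶ Q' := ModuleCat.ofHom (LinearMap.range j₀.hom).mkQ
  have hex : Function.Exact j₀.hom (LinearMap.range j₀.hom).mkQ :=
    LinearMap.exact_map_mkQ_range j₀.hom
  have key : ∀ (B : Adeq.Alg A), Function.Exact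
      (((Adeq.underline A).map j₀).app (Adeq.pt B)).hom
      (((Adeq.underline A).map q₀).app (Adeq.pt B)).hom := by
    intro B
    exact lTensor_exact B hex (Submodule.mkQ_surjective _)
  have w : (Adeq.underline A).map j₀ ≫ (Adeq.underline A).map q₀ = 0 := by
    rw [← Functor.map_comp]
    have : j₀ ≫ q₀ = 0 := by
      ext x
      exact (hex (j₀.hom x)).mpr ⟨x, rfl⟩
    rw [this, Functor.map_zero]
  exact ⟨Q', q₀, w, mvf_exact_of_app _ _ w key⟩

/-- Cokernel of a map from an adequate functor to `underline M` is adequate. -/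
theorem adequate_cokernel_to_underline {F : Adeq.MVF A} (hF : Adeq.adequate A F)
    {M : ModuleCat.{u + 1} A} (φ : F ⟶ (Adeq.underline A).obj M) :
    Adeq.adequate A (cokernel φ) := by
  obtain ⟨Q, j₀, w, hex⟩ := exists_exact_of_adequate hF φ
  obtain ⟨Q', q₀, w', hex'⟩ := underline_exact_mkQ j₀
  exact ⟨Q, Q', q₀, ⟨cokernelIsoKernelOfExact φ _ _ w w' hex hex'⟩⟩

end CokerElt

section KerThm

variable {A : Type u} [CommRing A]

/-- Kernel of a map from an adequate functor to `underline N` is adequate. -/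
theorem adequate_kernel_to_underline {C : Adeq.MVF A} (hC : Adeq.adequate A C)
    {N : ModuleCat.{u + 1} A} (θ : C ⟶ (Adeq.underline A).obj N) :
    Adeq.adequate A (kernel θ) := by
  obtain ⟨Q₁, N₁, ψ₁, ⟨e⟩⟩ := hC
  let ι₁ : C ⟶ (Adeq.underline A).obj Q₁ := e.hom ≫ kernel.ι ((Adeq.underline A).map ψ₁)
  haveI : Mono ι₁ := mono_comp _ _
  let Y : ModuleCat.{u + 1} A := ModuleCat.of A (Q₁ × N)
  let inl : Q₁ ⟶ Y := ModuleCat.ofHom (LinearMap.inl A Q₁ N)
  let inr : N ⟶ Y := ModuleCat.ofHom (LinearMap.inr A Q₁ N)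
  let fst : Y ⟶ Q₁ := ModuleCat.ofHom (LinearMap.fst A Q₁ N)
  let snd : Y ⟶ N := ModuleCat.ofHom (LinearMap.snd A Q₁ N)
  have h_inl_fst : inl ≫ fst = 𝟙 _ := by ext x; rfl
  have h_inr_fst : inr ≫ fst = 0 := by ext x; rfl
  have h_inl_snd : inl ≫ snd = 0 := by ext x; rfl
  have h_inr_snd : inr ≫ snd = 𝟙 _ := by ext x; rfl
  let χ : C ⟶ (Adeq.underline A).obj Y :=
    ι₁ ≫ (Adeq.underline A).map inl + θ ≫ (Adeq.underline A).map inr
  have hχ1 : χ ≫ (Adeq.underline A).map fst = ι₁ := by
    simp only [χ, Preadditive.add_comp, Category.assoc, ← Functor.map_comp, h_inl_fst,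
      h_inr_fst, CategoryTheory.Functor.map_id, Functor.map_zero, Category.comp_id, comp_zero,
      add_zero]
  have hχ2 : χ ≫ (Adeq.underline A).map snd = θ := by
    simp only [χ, Preadditive.add_comp, Category.assoc, ← Functor.map_comp, h_inl_snd,
      h_inr_snd, CategoryTheory.Functor.map_id, Functor.map_zero, Category.comp_id, comp_zero,
      zero_add]
  obtain ⟨Q₂, j₂, w, hex⟩ := exists_exact_of_adequate ⟨Q₁, N₁, ψ₁, ⟨e⟩⟩ χ
  let a : kernel θ ⟶ (Adeq.underline A).obj Q₁ := kernel.ι θ ≫ ι₁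
  have ha : a ≫ (Adeq.underline A).map (inl ≫ j₂) = 0 := by
    have h1 : ι₁ ≫ (Adeq.underline A).map inl = χ - θ ≫ (Adeq.underline A).map inr := by
      simp only [χ, add_sub_cancel_right]
    rw [Functor.map_comp]
    simp only [a, Category.assoc]
    rw [← Category.assoc ι₁, h1, Preadditive.sub_comp, Preadditive.comp_sub, w, comp_zero,
      Category.assoc, kernel.condition_assoc, zero_comp, sub_zero]
  let t : kernel θ ⟶ kernel ((Adeq.underline A).map (inl ≫ j₂)) := kernel.lift _ a ha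
  haveI : Mono a := mono_comp _ _
  haveI : Mono t := by
    have : Mono (t ≫ kernel.ι _) := by
      simp only [t, kernel.lift_ι]
      infer_instance
    exact mono_of_mono t (kernel.ι _)
  haveI : Epi t := by
    apply PresheafOfModules.epi_of_surjective
    intro X x
    let B : Adeq.Alg A := X.unop.unop
    let x' : B ⊗[A] Q₁ :=
      ((kernel.ι ((Adeq.underline A).map (inl ≫ j₂))).app (Adeq.pt B)).hom x
    have hx' : (((Adeq.underline A).map j₂).app (Adeq.pt B)).hom
        ((((Adeq.underline A).map inl).app (Adeq.pt B)).hom x') = 0 := by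
      have h := congrArg (fun q => (q.app (Adeq.pt B)).hom x)
        (kernel.condition ((Adeq.underline A).map (inl ≫ j₂)))
      have hcomp := congrArg (fun q => (q.app (Adeq.pt B)).hom x')
        ((Adeq.underline A).map_comp inl j₂)
      exact hcomp.symm.trans h
    obtain ⟨c, hc⟩ := (mvf_app_exact _ _ w hex B _).mp hx'
    have hc1 : (ι₁.app (Adeq.pt B)).hom c = x' := by
      have h := congrArg (fun q => (q.app (Adeq.pt B)).hom c) hχ1
      change (((Adeq.underline A).map fst).app (Adeq.pt B)).hom ((χ.app (Adeq.pt B)).hom c) =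
        (ι₁.app (Adeq.pt B)).hom c at h
      rw [← h, hc]
      have h' := congrArg (fun q => (q.app (Adeq.pt B)).hom x')
        (by rw [← Functor.map_comp, h_inl_fst, CategoryTheory.Functor.map_id] :
          (Adeq.underline A).map inl ≫ (Adeq.underline A).map fst = 𝟙 _)
      exact h'
    have hc2 : (θ.app (Adeq.pt B)).hom c = 0 := by
      have h := congrArg (fun q => (q.app (Adeq.pt B)).hom c) hχ2
      change (((Adeq.underline A).map snd).app (Adeq.pt B)).hom ((χ.app (Adeq.pt B)).hom c) =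
        (θ.app (Adeq.pt B)).hom c at h
      rw [← h, hc]
      have h' := congrArg (fun q => (q.app (Adeq.pt B)).hom x')
        (by rw [← Functor.map_comp, h_inl_snd, Functor.map_zero] :
          (Adeq.underline A).map inl ≫ (Adeq.underline A).map snd = 0)
      exact h'
    obtain ⟨c', hc'⟩ := exists_kernel_lift_app θ B c hc2
    refine ⟨c', ?_⟩
    apply kernel_ι_app_injective ((Adeq.underline A).map (inl ≫ j₂)) B
    have h := congrArg (fun q => (q.app (Adeq.pt B)).hom c')
      (kernel.lift_ι ((Adeq.underline A).map (inl ≫ j₂)) a ha)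
    change ((kernel.ι ((Adeq.underline A).map (inl ≫ j₂))).app (Adeq.pt B)).hom
      ((t.app (Adeq.pt B)).hom c') =
      (ι₁.app (Adeq.pt B)).hom (((kernel.ι θ).app (Adeq.pt B)).hom c') at h
    rw [h, hc', hc1]
  haveI : IsIso t := isIso_of_mono_of_epi t
  exact ⟨Q₁, Q₂, inl ≫ j₂, ⟨asIso t⟩⟩

end KerThm

section KerCoker

variable {A : Type u} [CommRing A]

theorem adequate_kernel {F G : Adeq.MVF A} (φ : F ⟶ G) (hF : Adeq.adequate A F)
    (hG : Adeq.adequate A G) : Adeq.adequate A (kernel φ) := by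
  obtain ⟨M₂, N₂, ψ, ⟨eG⟩⟩ := hG
  let ιG : G ⟶ (Adeq.underline A).obj M₂ := eG.hom ≫ kernel.ι ((Adeq.underline A).map ψ)
  haveI : Mono ιG := mono_comp _ _
  have h := adequate_kernel_to_underline hF (φ ≫ ιG)
  exact (Adeq.adequate A).prop_of_iso (kernelCompMono φ ιG) h

theorem adequate_cokernel {F G : Adeq.MVF A} (φ : F ⟶ G) (hF : Adeq.adequate A F)
    (hG : Adeq.adequate A G) : Adeq.adequate A (cokernel φ) := by
  obtain ⟨M₂, N₂, ψ, ⟨eG⟩⟩ := hG
  let ιG : G ⟶ (Adeq.underline A).obj M₂ := eG.hom ≫ kernel.ι ((Adeq.underline A).map ψ)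
  haveI : Mono ιG := mono_comp _ _
  have hιψ : ιG ≫ (Adeq.underline A).map ψ = 0 := by
    simp only [ιG, Category.assoc, kernel.condition, comp_zero]
  have hC₁ : Adeq.adequate A (cokernel (φ ≫ ιG)) := adequate_cokernel_to_underline hF (φ ≫ ιG)
  let θ₁ : cokernel (φ ≫ ιG) ⟶ (Adeq.underline A).obj N₂ :=
    cokernel.desc (φ ≫ ιG) ((Adeq.underline A).map ψ) (by rw [Category.assoc, hιψ, comp_zero])
  have hker := adequate_kernel_to_underline hC₁ θ₁
  let j : G ⟶ cokernel (φ ≫ ιG) := ιG ≫ cokernel.π (φ ≫ ιG)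
  have w1 : φ ≫ j = 0 := by
    simp only [j, ← Category.assoc, cokernel.condition]
  have w2 : j ≫ θ₁ = 0 := by
    simp only [j, θ₁, Category.assoc, cokernel.π_desc, hιψ]
  have h1 : (ShortComplex.mk φ j w1).Exact := by
    refine mvf_exact_of_app _ _ w1 (fun B g => ⟨fun hg => ?_, ?_⟩)
    · have hg' : ((cokernel.π (φ ≫ ιG)).app (Adeq.pt B)).hom ((ιG.app (Adeq.pt B)).hom g) = 0 := hg
      obtain ⟨f, hf⟩ := (cokernel_π_app_eq_zero_iff (φ ≫ ιG) B _).mp hg'
      refine ⟨f, ?_⟩
      apply PresheafOfModules.injective_of_mono ιG (Adeq.pt B)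
      exact hf
    · rintro ⟨f, rfl⟩
      have h := congrArg (fun q => (q.app (Adeq.pt B)).hom f) w1
      exact h
  have h2 : (ShortComplex.mk j θ₁ w2).Exact := by
    refine mvf_exact_of_app _ _ w2 (fun B c => ⟨fun hc => ?_, ?_⟩)
    · obtain ⟨x, rfl⟩ := cokernel_π_app_surjective (φ ≫ ιG) B c
      have hx : (((Adeq.underline A).map ψ).app (Adeq.pt B)).hom x = 0 := by
        have h := congrArg (fun q => (q.app (Adeq.pt B)).hom x)
          (cokernel.π_desc (φ ≫ ιG) ((Adeq.underline A).map ψ)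
            (by rw [Category.assoc, hιψ, comp_zero]))
        exact h.symm.trans hc
      obtain ⟨k, hk⟩ := exists_kernel_lift_app ((Adeq.underline A).map ψ) B x hx
      refine ⟨(eG.inv.app (Adeq.pt B)).hom k, ?_⟩
      have h3 := congrArg (fun q => (q.app (Adeq.pt B)).hom k) eG.inv_hom_id
      change (eG.hom.app (Adeq.pt B)).hom ((eG.inv.app (Adeq.pt B)).hom k) = k at h3
      change ((cokernel.π (φ ≫ ιG)).app (Adeq.pt B)).hom
        (((kernel.ι ((Adeq.underline A).map ψ)).app (Adeq.pt B)).hom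
          ((eG.hom.app (Adeq.pt B)).hom ((eG.inv.app (Adeq.pt B)).hom k))) = _
      rw [h3, hk]
    · rintro ⟨g, rfl⟩
      have h := congrArg (fun q => (q.app (Adeq.pt B)).hom g) w2
      exact h
  exact (Adeq.adequate A).prop_of_iso (cokernelIsoKernelOfExact φ j θ₁ w1 w2 h1 h2).symm hker

end KerCoker

end Groth.Agent.Lib.Adeq24
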