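import Groth.Agent.Lib.Adeq24i

/-!
# Adequate functors: `underline` preserves colimits (helper24)
-/

set_option autoImplicit false
universe v u w

open CategoryTheory Opposite Limits TensorProduct

namespace Groth.Agent.Lib.Adeq24

section UnderlineColim

variable {A : Type u} [CommRing A]

/-- `B` with the `A`-module structure used by `extendScalars`. -/
noncomputable def e0 (B : Adeq.Alg A) :
    B ≃ₗ[A] ((ModuleCat.restrictScalars (algebraMap A B)).obj (ModuleCat.of B B)) :=
  { AddEquiv.refl B with
    map_smul' := fun a b => Algebra.smul_def a b }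

/-- the `A`-linear identification. -/
noncomputable def e1 (B : Adeq.Alg A) (M : ModuleCat.{u + 1} A) :
    (B ⊗[A] M) ≃ₗ[A]
      (((ModuleCat.restrictScalars (algebraMap A B)).obj (ModuleCat.of B B)) ⊗[A] M) :=
  TensorProduct.congr (e0 B) (LinearEquiv.refl A M)

set_option backward.isDefEq.respectTransparency false in
/-- cast to the carrier of `extendScalars`. -/
noncomputable def castE (B : Adeq.Alg A) (M : ModuleCat.{u + 1} A) :
    (((ModuleCat.restrictScalars (algebraMap A B)).obj (ModuleCat.of B B)) ⊗[A] M) ≃+
      ↑((ModuleCat.extendScalars.{u, u, u + 1} (algebraMap A B)).obj M) :=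
  AddEquiv.refl _

/-- the additive identification. -/
noncomputable def e2 (B : Adeq.Alg A) (M : ModuleCat.{u + 1} A) :
    (B ⊗[A] M) ≃+ ↑((ModuleCat.extendScalars.{u, u, u + 1} (algebraMap A B)).obj M) :=
  (e1 B M).toAddEquiv.trans (castE B M)

set_option backward.isDefEq.respectTransparency false in
lemma e2_smul (B : Adeq.Alg A) (M : ModuleCat.{u + 1} A) (b' : B) (x : B ⊗[A] M) :
    e2 B M (b' • x) = b' • e2 B M x := by
  induction x using TensorProduct.induction_on with
  | zero => rw [smul_zero, map_zero, smul_zero]
  | tmul b m => rfl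
  | add x y hx hy => rw [smul_add, map_add, map_add, smul_add, hx, hy]

/-- the additive identification `B ⊗[A] M ≃ (extendScalars (algebraMap A B)).obj M`. -/
noncomputable def evalEquiv (B : Adeq.Alg A) (M : ModuleCat.{u + 1} A) :
    (B ⊗[A] M) ≃ₗ[B] (ModuleCat.extendScalars.{u, u, u + 1} (algebraMap A B)).obj M :=
  { e2 B M with
    map_smul' := e2_smul B M }

set_option backward.isDefEq.respectTransparency false in
/-- evaluation of `underline` at `B` is extension of scalars. -/
noncomputable def underlineEvalIso (B : Adeq.Alg A) :
    Adeq.underline A ⋙ PresheafOfModules.evaluation.{u + 1} (Adeq.ringOf A) (Adeq.pt B) ≅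
      ModuleCat.extendScalars.{u, u, u + 1} (algebraMap A B) :=
  NatIso.ofComponents (fun M => LinearEquiv.toModuleIso (evalEquiv B M)) (by
    intro M N f
    apply ModuleCat.hom_ext
    apply LinearMap.ext
    intro x
    induction x using TensorProduct.induction_on with
    | zero => exact (map_zero _).trans (map_zero _).symm
    | tmul b m => rfl
    | add x y hx hy => exact (map_add _ _ _).trans ((congrArg₂ _ hx hy).trans (map_add _ _ _).symm))

end UnderlineColim

section UnderlineColim2

variable {A : Type u} [CommRing A]

instance preservesColimits_underline_eval (B : Adeq.Alg A) :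
    PreservesColimitsOfSize.{u + 1, u + 1}
      (Adeq.underline A ⋙ PresheafOfModules.evaluation.{u + 1} (Adeq.ringOf A) (Adeq.pt B)) :=
  haveI : PreservesColimitsOfSize.{u + 1, u + 1}
      (ModuleCat.extendScalars.{u, u, u + 1} (algebraMap A B)) :=
    (ModuleCat.extendRestrictScalarsAdj.{u + 1, u, u} (algebraMap A B)).leftAdjoint_preservesColimits
  preservesColimits_of_natIso (underlineEvalIso B).symm

instance preservesColimits_underline :
    PreservesColimitsOfSize.{u + 1, u + 1} (Adeq.underline A) where
  preservesColimitsOfShape {J} _ :=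
    { preservesColimit := fun {K} =>
        ⟨fun {c} hc => ⟨PresheafOfModules.evaluationJointlyReflectsColimits _ _ (fun X =>
          isColimitOfPreserves (Adeq.underline A ⋙
            PresheafOfModules.evaluation.{u + 1} (Adeq.ringOf A) (Adeq.pt X.unop.unop)) hc)⟩⟩ }

end UnderlineColim2

end Groth.Agent.Lib.Adeq24
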