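import Groth.Agent.Lib.Adeq24j
import Mathlib.CategoryTheory.Abelian.GrothendieckAxioms.Basic

/-!
# AB4: coproducts of kernels (helper24)
-/

set_option autoImplicit false
universe v u w

open CategoryTheory Opposite Limits

namespace Groth.Agent.Lib.Adeq24

section FunctorExact

variable {C : Type u} [Category.{v} C] [Abelian C]

lemma exact_of_evaluation' {K : Type*} [Category K] (S : ShortComplex (K ⥤ C))
    (h : ∀ k, (S.map ((evaluation K C).obj k)).Exact) : S.Exact := by
  rw [ShortComplex.exact_iff_isZero_homology]
  apply Functor.isZero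
  intro k
  have := (h k)
  rw [ShortComplex.exact_iff_isZero_homology] at this
  exact IsZero.of_iso this (S.mapHomologyIso ((evaluation K C).obj k)).symm

end FunctorExact

section AB4

variable {C : Type u} [Category.{v} C] [Abelian C] [HasCoproducts.{w} C] [AB4OfSize.{w} C]
  {ι : Type w} {X Y : ι → C} (f : ∀ i, X i ⟶ Y i)

lemma sigma_map_kernel_ι_comp :
    Limits.Sigma.map (fun i => kernel.ι (f i)) ≫ Limits.Sigma.map f = 0 := by
  apply Limits.Sigma.hom_ext
  intro i
  simp

/-- the short complex in the functor category. -/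
noncomputable def discSC : ShortComplex (Discrete ι ⥤ C) :=
  ShortComplex.mk (Discrete.natTrans (fun i => kernel.ι (f i.as)) :
      Discrete.functor (fun i => kernel (f i)) ⟶ Discrete.functor X)
    (Discrete.natTrans (fun i => f i.as) : Discrete.functor X ⟶ Discrete.functor Y) (by
      ext ⟨i⟩
      simp)

lemma discSC_exact : (discSC f).Exact := by
  apply exact_of_evaluation'
  rintro ⟨i⟩
  exact ShortComplex.exact_of_f_is_kernel _ (kernelIsKernel (f i))

instance discSC_mono : Mono (discSC f).f := by
  haveI : ∀ j : Discrete ι, Mono ((discSC f).f.app j) := by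
    rintro ⟨i⟩
    dsimp [discSC]
    infer_instance
  exact NatTrans.mono_of_mono_app _

/-- `∐ kernel (f i)` is a kernel of `Sigma.map f`. -/
noncomputable def sigmaKernelIsKernel :
    IsLimit (KernelFork.ofι (Limits.Sigma.map (fun i => kernel.ι (f i)))
      (sigma_map_kernel_ι_comp f)) := by
  have h1 : ((discSC f).map (colim : (Discrete ι ⥤ C) ⥤ C)).Exact :=
    (discSC_exact f).map_of_mono_of_preservesKernel colim inferInstance inferInstance
  haveI : Mono ((discSC f).map (colim : (Discrete ι ⥤ C) ⥤ C)).f := by
    change Mono ((colim : (Discrete ι ⥤ C) ⥤ C).map (discSC f).f)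
    infer_instance
  exact h1.fIsKernel

/-- AB4: coproduct of kernels is the kernel of the coproduct. -/
noncomputable def sigmaKernelIso :
    (∐ fun i => kernel (f i)) ≅ kernel (Limits.Sigma.map f) :=
  IsLimit.conePointUniqueUpToIso (sigmaKernelIsKernel f) (limit.isLimit _)

lemma sigmaKernelIso_hom_ι :
    (sigmaKernelIso f).hom ≫ kernel.ι (Limits.Sigma.map f) =
      Limits.Sigma.map (fun i => kernel.ι (f i)) :=
  IsLimit.conePointUniqueUpToIso_hom_comp (sigmaKernelIsKernel f) (limit.isLimit _)
    WalkingParallelPair.zero

end AB4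

end Groth.Agent.Lib.Adeq24
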