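import Mathlib
import Groth.Prelude.Def_Adeq

/-!
# `PresheafOfModules.{u+1} R` is Grothendieck abelian when `C : Type (u+1)`, `Category.{u} C`

(helper66) Universe-mismatched version of Mathlib's `PresheafOfModules/Generator.lean`: a hand-made
"free presheaf on a representable" `P R X` with values one universe up, the separating family, AB5
through `toPresheaf`, hence `IsGrothendieckAbelian.{u+1}` and `EnoughInjectives`.
-/

set_option autoImplicit false
universe u
open CategoryTheory Limits Opposite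

namespace Groth.Agent.Lib.PshModGroth66

variable {C : Type (u + 1)} [Category.{u} C] (R : Cᵒᵖ ⥤ RingCat.{u})

/-- restriction map of the free presheaf on `Hom(-, X)` -/
noncomputable def resMap (X : C) {Y Z : Cᵒᵖ} (f : Y ⟶ Z) :
    (ULift.{u + 1} (Y.unop ⟶ X) →₀ R.obj Y) →+ (ULift.{u + 1} (Z.unop ⟶ X) →₀ R.obj Z) :=
  (Finsupp.mapDomain.addMonoidHom
      (fun g : ULift.{u + 1} (Y.unop ⟶ X) => (⟨f.unop ≫ g.down⟩ : ULift.{u + 1} (Z.unop ⟶ X)))).comp
    (Finsupp.mapRange.addMonoidHom (R.map f).hom.toAddMonoidHom)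

lemma resMap_single (X : C) {Y Z : Cᵒᵖ} (f : Y ⟶ Z) (g : ULift.{u + 1} (Y.unop ⟶ X)) (r : R.obj Y) :
    resMap R X f (Finsupp.single g r) = Finsupp.single ⟨f.unop ≫ g.down⟩ ((R.map f).hom r) := by
  simp [resMap]

lemma resMap_smul (X : C) {Y Z : Cᵒᵖ} (f : Y ⟶ Z) (r : R.obj Y)
    (m : ULift.{u + 1} (Y.unop ⟶ X) →₀ R.obj Y) :
    resMap R X f (r • m) = (R.map f).hom r • resMap R X f m := by
  induction m using Finsupp.induction_linear with
  | zero => rw [smul_zero, map_zero, smul_zero]
  | add a b ha hb => rw [smul_add, map_add, map_add, ha, hb, smul_add]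
  | single g a =>
    rw [Finsupp.smul_single, resMap_single, resMap_single, Finsupp.smul_single, smul_eq_mul,
      smul_eq_mul, map_mul]

/-- underlying abelian presheaf of the free presheaf of modules on `Hom(-, X)`, lifted one universe up -/
noncomputable def PAb (X : C) : Cᵒᵖ ⥤ Ab.{u + 1} where
  obj Y := AddCommGrpCat.of (ULift.{u + 1} (Y.unop ⟶ X) →₀ R.obj Y)
  map {Y Z} f := AddCommGrpCat.ofHom (resMap R X f)
  map_id Y := by
    ext : 1
    refine Finsupp.addHom_ext fun g r => ?_
    simp [resMap]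
  map_comp {Y Z W} f g := by
    ext : 1
    refine Finsupp.addHom_ext fun h r => ?_
    simp [resMap]

noncomputable instance (X : C) (Y : Cᵒᵖ) : Module (R.obj Y) ((PAb R X).obj Y) :=
  inferInstanceAs (Module (R.obj Y) (ULift.{u + 1} (Y.unop ⟶ X) →₀ R.obj Y))

lemma PAb_map_smul (X : C) ⦃Y Z : Cᵒᵖ⦄ (f : Y ⟶ Z) (r : R.obj Y) (m : (PAb R X).obj Y) :
    (PAb R X).map f (r • m) = R.map f r • (PAb R X).map f m :=
  resMap_smul R X f r m

/-- the free presheaf of modules on `Hom(-, X)` with values one universe up -/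
noncomputable def P (X : C) : PresheafOfModules.{u + 1} R :=
  PresheafOfModules.ofPresheaf (PAb R X) (PAb_map_smul R X)


variable {R}

/-- the morphism `P R X ⟶ M` attached to a section `m ∈ M(X)` -/
noncomputable def descP {X : C} (M : PresheafOfModules.{u + 1} R) (m : M.obj (op X)) : P R X ⟶ M where
  app Y := ModuleCat.ofHom (X := ModuleCat.of (R.obj Y) (ULift.{u + 1} (Y.unop ⟶ X) →₀ R.obj Y))
    (Finsupp.lift (M.obj Y) (R.obj Y) (ULift.{u + 1} (Y.unop ⟶ X))
      (fun g => (M.map g.down.op m : M.obj Y)))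
  naturality {Y Z} f := by
    refine ModuleCat.hom_ext (Finsupp.lhom_ext' fun g => LinearMap.ext_ring ?_)
    change (Finsupp.lift (M.obj Z) (R.obj Z) (ULift.{u + 1} (Z.unop ⟶ X))
        (fun g => (M.map g.down.op m : M.obj Z))) (resMap R X f (Finsupp.single g 1)) =
      M.map f ((Finsupp.lift (M.obj Y) (R.obj Y) (ULift.{u + 1} (Y.unop ⟶ X))
        (fun g => (M.map g.down.op m : M.obj Y))) (Finsupp.single g 1))
    rw [resMap_single, Finsupp.lift_apply, Finsupp.lift_apply, Finsupp.sum_single_index (by simp),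
      Finsupp.sum_single_index (by simp), map_one, one_smul, one_smul]
    exact M.map_comp_apply g.down.op f m


lemma descP_app_single {X : C} (M : PresheafOfModules.{u + 1} R) (m : M.obj (op X)) :
    (descP M m).app (op X) (Finsupp.single ⟨𝟙 X⟩ 1 : ULift.{u + 1} (X ⟶ X) →₀ R.obj (op X)) = m := by
  change (Finsupp.lift (M.obj (op X)) (R.obj (op X)) (ULift.{u + 1} (X ⟶ X))
        (fun g => (M.map g.down.op m : M.obj (op X)))) (Finsupp.single ⟨𝟙 X⟩ 1) = m
  rw [Finsupp.lift_apply, Finsupp.sum_single_index (by simp), one_smul]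
  change M.map (𝟙 (op X)) m = m
  rw [M.map_id]
  rfl

variable (R)

lemma isSeparating : ObjectProperty.IsSeparating (ObjectProperty.ofObj (P R)) := by
  intro M N f₁ f₂ h
  ext ⟨X⟩ m
  have := congrArg (fun k => k.app (op X)
    (Finsupp.single ⟨𝟙 X⟩ 1 : ULift.{u + 1} (X ⟶ X) →₀ R.obj (op X))) (h _ ⟨X⟩ (descP M m))
  simp only [PresheafOfModules.comp_app] at this
  change f₁.app (op X) ((descP M m).app (op X) _) = f₂.app (op X) ((descP M m).app (op X) _) at this
  rwa [descP_app_single] at this

instance hasSeparator : HasSeparator (PresheafOfModules.{u + 1} R) :=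
  ⟨∐ (P R), (isSeparating R).isSeparator_coproduct⟩


instance reflectsIsomorphisms_toPresheaf :
    (PresheafOfModules.toPresheaf.{u + 1} R).ReflectsIsomorphisms :=
  reflectsIsomorphisms_of_reflectsMonomorphisms_of_reflectsEpimorphisms _

instance hasExactColimitsOfShape (J : Type (u + 1)) [SmallCategory J] [IsFiltered J] :
    HasExactColimitsOfShape J (PresheafOfModules.{u + 1} R) :=
  haveI : ReflectsFiniteLimits (PresheafOfModules.toPresheaf.{u + 1} R) :=
    ⟨fun _ _ _ => reflectsLimitsOfShape_of_reflectsIsomorphisms⟩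
  HasExactColimitsOfShape.domain_of_functor J (PresheafOfModules.toPresheaf.{u + 1} R)

instance ab5 : AB5OfSize.{u + 1, u + 1} (PresheafOfModules.{u + 1} R) where
  ofShape _ _ _ := inferInstance

instance isGrothendieckAbelian : IsGrothendieckAbelian.{u + 1} (PresheafOfModules.{u + 1} R) where

theorem enoughInjectives : EnoughInjectives (PresheafOfModules.{u + 1} R) :=
  IsGrothendieckAbelian.enoughInjectives.{u + 1}

end Groth.Agent.Lib.PshModGroth66
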