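import Groth.Agent.Lib.Adeq24k
import Groth.Agent.Lib.PshModGroth66
import Mathlib.CategoryTheory.Limits.Constructions.LimitsOfProductsAndEqualizers

/-!
# Adequate functors: coproducts and colimits (helper24)
-/

set_option autoImplicit false
universe v u w

open CategoryTheory Opposite Limits

namespace Groth.Agent.Lib.Adeq24

section Coprod

variable {A : Type u} [CommRing A]

lemma sigma_map_comp_sigmaComparison {C D : Type*} [Category C] [Category D] (G : C ⥤ D)
    {ι : Type*} {M N : ι → C} (φ : ∀ i, M i ⟶ N i) [HasCoproduct M] [HasCoproduct N]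
    [HasCoproduct (fun i => G.obj (M i))] [HasCoproduct (fun i => G.obj (N i))] :
    Limits.Sigma.map (fun i => G.map (φ i)) ≫ sigmaComparison G N =
      sigmaComparison G M ≫ G.map (Limits.Sigma.map φ) := by
  apply Limits.Sigma.hom_ext
  intro i
  rw [Limits.Sigma.ι_map_assoc, ι_comp_sigmaComparison, ι_comp_sigmaComparison_assoc,
    ← Functor.map_comp, ← Functor.map_comp, Limits.Sigma.ι_map]

theorem adequate_sigma {ι : Type (u + 1)} (F : ι → Adeq.MVF A)
    (hF : ∀ i, Adeq.adequate A (F i)) : Adeq.adequate A (∐ F) := by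
  choose M N φ e using hF
  let i1 : (∐ F) ≅ ∐ (fun i => kernel ((Adeq.underline A).map (φ i))) :=
    Limits.Sigma.mapIso (fun i => (e i).some)
  let i2 := sigmaKernelIso (fun i => (Adeq.underline A).map (φ i))
  haveI : IsIso (sigmaComparison (Adeq.underline A) M) := by
    rw [← PreservesCoproduct.inv_hom]; infer_instance
  haveI : IsIso (sigmaComparison (Adeq.underline A) N) := by
    rw [← PreservesCoproduct.inv_hom]; infer_instance
  let i3 : kernel (Limits.Sigma.map (fun i => (Adeq.underline A).map (φ i))) ≅
      kernel ((Adeq.underline A).map (Limits.Sigma.map φ)) :=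
    kernel.mapIso _ _ (asIso (sigmaComparison (Adeq.underline A) M))
      (asIso (sigmaComparison (Adeq.underline A) N))
      (sigma_map_comp_sigmaComparison (Adeq.underline A) φ)
  exact ⟨∐ M, ∐ N, Limits.Sigma.map φ, ⟨i1 ≪≫ i2 ≪≫ i3⟩⟩

end Coprod

section Colim

variable {A : Type u} [CommRing A]

theorem adequate_coequalizer {F G : Adeq.MVF A} (s t : F ⟶ G) (hF : Adeq.adequate A F)
    (hG : Adeq.adequate A G) : Adeq.adequate A (coequalizer s t) := by
  have h := adequate_cokernel (s - t) hF hG
  let e : coequalizer s t ≅ cokernel (s - t) :=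
    IsColimit.coconePointUniqueUpToIso
      (Preadditive.isColimitCokernelCoforkOfCofork (coequalizerIsCoequalizer s t))
      (colimit.isColimit (parallelPair (s - t) 0))
  exact (Adeq.adequate A).prop_of_iso e.symm h

theorem adequate_colimit {J : Type (u + 1)} [SmallCategory J] (D : J ⥤ Adeq.MVF A)
    (hD : ∀ j, Adeq.adequate A (D.obj j)) : Adeq.adequate A (colimit D) := by
  let cc := colimitCoconeOfCoequalizerAndCoproduct D
  have h1 : Adeq.adequate A (∐ fun f : Σ p : J × J, p.1 ⟶ p.2 => D.obj f.1.1) :=
    adequate_sigma _ (fun f => hD _)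
  have h2 : Adeq.adequate A (∐ D.obj) := adequate_sigma _ hD
  have h3 : Adeq.adequate A cc.cocone.pt := adequate_coequalizer _ _ h1 h2
  exact (Adeq.adequate A).prop_of_iso (colimit.isoColimitCocone cc).symm h3

end Colim

end Groth.Agent.Lib.Adeq24
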