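import Groth.Prelude.Def_W4c5adicflatcomplDec
import Mathlib.RingTheory.AdicCompletion.Basic
import Mathlib.RingTheory.Ideal.Operations
import Mathlib.RingTheory.Finiteness.Ideal
import Mathlib.RingTheory.Filtration
import Mathlib.RingTheory.AdicCompletion.Noetherian
import Mathlib.LinearAlgebra.TensorProduct.Pi
import Mathlib.RingTheory.Flat.Tensor
import Mathlib.RingTheory.AdicCompletion.Algebra
import Mathlib.RingTheory.AdicCompletion.Completeness

/-!
# Adically decaying functions: convergent sums

Helper library (helper89) for the `W4c5adicflatcompl` rows (`decaying I Z M`).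

* `HasAdicSum I h L`: `L` is the `I`-adically convergent sum of the family `h : Z → M`.
* `adicSum I : decaying I Z M →ₗ[A] M` for `M` `I`-adically complete.
* `smulFamily I f : decaying I Z A →ₗ[A] decaying I Z M`, `g ↦ (z ↦ g z • f z)`.
-/

set_option autoImplicit false

namespace Groth.Agent.Lib.AdicDecaying

open W4c5adicflatcompl

variable {A : Type*} [CommRing A] (I : Ideal A) {Z : Type*} {M : Type*} [AddCommGroup M]
  [Module A M]

/-- `L` is the `I`-adically convergent sum of the family `h`. -/
def HasAdicSum (h : Z → M) (L : M) : Prop :=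
  ∀ n : ℕ, ∃ S : Finset Z, (∀ z, z ∉ S → h z ∈ (I ^ n • ⊤ : Submodule A M)) ∧
    L - ∑ z ∈ S, h z ∈ (I ^ n • ⊤ : Submodule A M)

theorem sum_sub_sum_mem {N : Submodule A M} {h : Z → M} {S T : Finset Z} (hST : S ⊆ T)
    (hS : ∀ z, z ∉ S → h z ∈ N) : ∑ z ∈ T, h z - ∑ z ∈ S, h z ∈ N := by
  classical
  rw [← Finset.sum_sdiff hST, add_sub_cancel_right]
  exact Submodule.sum_mem _ fun z hz => hS z (Finset.mem_sdiff.mp hz).2

variable {I}

theorem HasAdicSum.exists_forall_superset {h : Z → M} {L : M} (H : HasAdicSum I h L) (n : ℕ) :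
    ∃ S : Finset Z, (∀ z, z ∉ S → h z ∈ (I ^ n • ⊤ : Submodule A M)) ∧
      ∀ T : Finset Z, S ⊆ T → L - ∑ z ∈ T, h z ∈ (I ^ n • ⊤ : Submodule A M) := by
  obtain ⟨S, hS, hL⟩ := H n
  refine ⟨S, hS, fun T hST => ?_⟩
  have := Submodule.sub_mem _ hL (sum_sub_sum_mem hST hS)
  convert this using 1
  abel

theorem HasAdicSum.unique [IsHausdorff I M] {h : Z → M} {L L' : M} (H : HasAdicSum I h L)
    (H' : HasAdicSum I h L') : L = L' := by
  classical
  rw [IsHausdorff.eq_iff_smodEq (I := I)]
  intro n
  obtain ⟨S, -, hS⟩ := H.exists_forall_superset n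
  obtain ⟨S', -, hS'⟩ := H'.exists_forall_superset n
  rw [SModEq.sub_mem]
  have := Submodule.sub_mem _ (hS (S ∪ S') Finset.subset_union_left)
    (hS' (S ∪ S') Finset.subset_union_right)
  convert this using 1
  abel

theorem HasAdicSum.add {h h' : Z → M} {L L' : M} (H : HasAdicSum I h L)
    (H' : HasAdicSum I h' L') : HasAdicSum I (h + h') (L + L') := by
  classical
  intro n
  obtain ⟨S, hS1, hS⟩ := H.exists_forall_superset n
  obtain ⟨S', hS1', hS'⟩ := H'.exists_forall_superset n
  refine ⟨S ∪ S', fun z hz => ?_, ?_⟩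
  · rw [Finset.mem_union, not_or] at hz
    exact Submodule.add_mem _ (hS1 z hz.1) (hS1' z hz.2)
  · have := Submodule.add_mem _ (hS (S ∪ S') Finset.subset_union_left)
      (hS' (S ∪ S') Finset.subset_union_right)
    convert this using 1
    simp only [Pi.add_apply, Finset.sum_add_distrib]
    abel

theorem HasAdicSum.smul {h : Z → M} {L : M} (H : HasAdicSum I h L) (a : A) :
    HasAdicSum I (a • h) (a • L) := by
  intro n
  obtain ⟨S, hS1, hS⟩ := H n
  refine ⟨S, fun z hz => Submodule.smul_mem _ a (hS1 z hz), ?_⟩
  have := Submodule.smul_mem _ a hS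
  convert this using 1
  simp only [Pi.smul_apply, smul_sub, Finset.smul_sum]

theorem hasAdicSum_zero : HasAdicSum I (0 : Z → M) 0 := by
  intro n
  exact ⟨∅, fun z _ => Submodule.zero_mem _, by simp⟩

/-- A family with finite support has the finite sum as its adic sum. -/
theorem hasAdicSum_of_support_subset {h : Z → M} (S : Finset Z) (hS : ∀ z, z ∉ S → h z = 0) :
    HasAdicSum I h (∑ z ∈ S, h z) := by
  intro n
  exact ⟨S, fun z hz => by rw [hS z hz]; exact Submodule.zero_mem _, by simp⟩

theorem exists_hasAdicSum [IsPrecomplete I M] {h : Z → M} (hh : h ∈ decaying I Z M) :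
    ∃ L, HasAdicSum I h L := by
  classical
  let S : ℕ → Finset Z := fun n => (hh n).toFinset
  have hSmem : ∀ n z, z ∉ S n → h z ∈ (I ^ n • ⊤ : Submodule A M) := by
    intro n z hz
    by_contra hcon
    exact hz ((hh n).mem_toFinset.mpr hcon)
  have hSmono : ∀ {m n}, m ≤ n → S m ⊆ S n := by
    intro m n hmn z hz
    rw [Set.Finite.mem_toFinset] at hz ⊢
    intro hcon
    exact hz (Submodule.smul_mono_left (Ideal.pow_le_pow_right hmn) hcon)
  obtain ⟨L, hL⟩ := IsPrecomplete.prec' (I := I) (fun n => ∑ z ∈ S n, h z) (by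
    intro m n hmn
    refine SModEq.symm ?_
    rw [SModEq.sub_mem]
    exact sum_sub_sum_mem (hSmono hmn) (hSmem m))
  refine ⟨L, fun n => ⟨S n, hSmem n, ?_⟩⟩
  have := hL n
  rw [SModEq.sub_mem] at this
  rw [← Submodule.neg_mem_iff]
  convert this using 1
  abel

variable (I)

/-- The `I`-adically convergent sum of a decaying family, as a linear map. -/
noncomputable def adicSum [IsAdicComplete I M] : decaying I Z M →ₗ[A] M where
  toFun h := (exists_hasAdicSum (I := I) h.2).choose
  map_add' h h' := by
    refine HasAdicSum.unique (exists_hasAdicSum (I := I) (h + h').2).choose_spec ?_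
    exact (exists_hasAdicSum (I := I) h.2).choose_spec.add
      (exists_hasAdicSum (I := I) h'.2).choose_spec
  map_smul' a h := by
    refine HasAdicSum.unique (exists_hasAdicSum (I := I) (a • h).2).choose_spec ?_
    exact (exists_hasAdicSum (I := I) h.2).choose_spec.smul a

theorem hasAdicSum_adicSum [IsAdicComplete I M] (h : decaying I Z M) :
    HasAdicSum I (h : Z → M) (adicSum I h) :=
  (exists_hasAdicSum (I := I) h.2).choose_spec

theorem adicSum_eq_of_hasAdicSum [IsAdicComplete I M] (h : decaying I Z M) {L : M}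
    (H : HasAdicSum I (h : Z → M) L) : adicSum I h = L :=
  (hasAdicSum_adicSum I h).unique H

theorem smul_top_self (n : ℕ) : (I ^ n • ⊤ : Submodule A A) = I ^ n := by
  simp

/-- `g ↦ (z ↦ g z • f z)` from decaying scalar functions to decaying families. -/
def smulFamily (f : Z → M) : decaying I Z A →ₗ[A] decaying I Z M where
  toFun g := ⟨fun z => (g : Z → A) z • f z, fun n => (g.2 n).subset fun z hz hcon => hz (by
    have : (g : Z → A) z ∈ I ^ n := by simpa using hcon
    exact Submodule.smul_mem_smul this Submodule.mem_top)⟩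
  map_add' g g' := by
    ext z
    simp [add_smul]
  map_smul' a g := by
    ext z
    simp [mul_smul]

@[simp] theorem smulFamily_apply (f : Z → M) (g : decaying I Z A) (z : Z) :
    (smulFamily I f g : Z → M) z = (g : Z → A) z • f z := rfl

/-! ### Choosing data of the best possible depth -/

/-- Abstract selection principle: if data of depth `N` exists whenever `x` has depth `N`, and
data of infinite depth exists when `x` has infinite depth, then there is a single datum which is
as deep as `x` is. -/
theorem exists_best {X : Type*} (E : ℕ → Prop) (D : ℕ → X → Prop) (Good : X → Prop)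
    (hE : ∀ m n, m ≤ n → E n → E m) (hD : ∀ m n c, m ≤ n → D n c → D m c) (h0 : E 0)
    (hex : ∀ N, E N → ∃ c, Good c ∧ D N c)
    (hinf : (∀ N, E N) → ∃ c, Good c ∧ ∀ N, D N c) :
    ∃ c, Good c ∧ ∀ N, E N → D N c := by
  classical
  by_cases h : ∀ N, E N
  · obtain ⟨c, hc, hcD⟩ := hinf h
    exact ⟨c, hc, fun N _ => hcD N⟩
  · push Not at h
    have hN₀ := Nat.find_spec h
    have hN₀ne : Nat.find h ≠ 0 := fun h0' => hN₀ (h0' ▸ h0)
    have hpred : E (Nat.find h - 1) := by
      by_contra hcon
      exact Nat.find_min h (Nat.sub_lt (Nat.pos_of_ne_zero hN₀ne) one_pos) hcon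
    obtain ⟨c, hc, hcD⟩ := hex _ hpred
    refine ⟨c, hc, fun N hN => ?_⟩
    have hlt : N < Nat.find h := by
      by_contra hcon
      exact hN₀ (hE _ _ (not_lt.mp hcon) hN)
    exact hD _ _ c (Nat.le_sub_one_of_lt hlt) hcD

/-! ### Decomposition with respect to generators -/

/-- Elements of `K • span (range m)` are combinations of the `m j` with coefficients in `K`. -/
theorem exists_coeff_of_mem_smul_span {ι : Type*} [Fintype ι] (m : ι → M) (K : Ideal A) {x : M}
    (hx : x ∈ K • Submodule.span A (Set.range m)) :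
    ∃ c : ι → A, (∀ j, c j ∈ K) ∧ x = ∑ j, c j • m j := by
  refine Submodule.smul_induction_on hx ?_ ?_
  · intro r hr n hn
    obtain ⟨d, rfl⟩ := (Submodule.mem_span_range_iff_exists_fun A).mp hn
    refine ⟨fun j => r * d j, fun j => K.mul_mem_right _ hr, ?_⟩
    simp [Finset.smul_sum, mul_smul]
  · rintro x y ⟨c, hc, rfl⟩ ⟨c', hc', rfl⟩
    refine ⟨c + c', fun j => K.add_mem (hc j) (hc' j), ?_⟩
    simp [add_smul, Finset.sum_add_distrib]

/-- Elements of `span (range r) • P` are combinations `∑ r j • c j` with `c j ∈ P`. -/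
theorem exists_coeff_of_mem_span_smul {ι : Type*} [Fintype ι] (r : ι → A) (P : Submodule A M)
    {x : M} (hx : x ∈ Ideal.span (Set.range r) • P) :
    ∃ c : ι → M, (∀ j, c j ∈ P) ∧ x = ∑ j, r j • c j := by
  refine Submodule.smul_induction_on hx ?_ ?_
  · intro a ha p hp
    obtain ⟨d, rfl⟩ := (Ideal.mem_span_range_iff_exists_fun).mp ha
    refine ⟨fun j => d j • p, fun j => P.smul_mem _ hp, ?_⟩
    simp [Finset.sum_smul, mul_smul, smul_comm (r _) (d _)]
  · rintro x y ⟨c, hc, rfl⟩ ⟨c', hc', rfl⟩
    refine ⟨c + c', fun j => P.add_mem (hc j) (hc' j), ?_⟩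
    simp [smul_add, Finset.sum_add_distrib]

theorem pow_smul_top_antitone {m n : ℕ} (h : m ≤ n) :
    (I ^ n • ⊤ : Submodule A M) ≤ I ^ m • ⊤ :=
  Submodule.smul_mono_left (Ideal.pow_le_pow_right h)

variable (Z) in
/-- For `M` Hausdorff and `I ^ n` finitely generated, a decaying function all of whose values lie
in `I ^ n • M` lies in `I ^ n • decaying`. -/
theorem mem_pow_smul_top_of_forall_mem [IsHausdorff I M] (n : ℕ) (hfg : (I ^ n).FG)
    (f : decaying I Z M) (hf : ∀ z, (f : Z → M) z ∈ (I ^ n • ⊤ : Submodule A M)) :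
    f ∈ (I ^ n • ⊤ : Submodule A (decaying I Z M)) := by
  classical
  obtain ⟨k, r, hr⟩ := Submodule.fg_iff_exists_fin_generating_family.mp hfg
  have hr' : Ideal.span (Set.range r) = I ^ n := hr
  have key : ∀ z, ∃ c : Fin k → M, (f : Z → M) z = ∑ j, r j • c j ∧
      ∀ N, (f : Z → M) z ∈ (I ^ (N + n) • ⊤ : Submodule A M) →
        ∀ j, c j ∈ (I ^ N • ⊤ : Submodule A M) := by
    intro z
    refine exists_best (fun N => (f : Z → M) z ∈ (I ^ (N + n) • ⊤ : Submodule A M))
      (fun N (c : Fin k → M) => ∀ j, c j ∈ (I ^ N • ⊤ : Submodule A M))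
      (fun c => (f : Z → M) z = ∑ j, r j • c j) ?_ ?_ ?_ ?_ ?_
    · intro m N hmN h
      exact pow_smul_top_antitone I (Nat.add_le_add_right hmN n) h
    · intro m N c hmN h j
      exact pow_smul_top_antitone I hmN (h j)
    · simpa using hf z
    · intro N hN
      have : (f : Z → M) z ∈ Ideal.span (Set.range r) • (I ^ N • ⊤ : Submodule A M) := by
        rw [hr', ← mul_smul, ← pow_add, add_comm]
        exact hN
      obtain ⟨c, hc, hx⟩ := exists_coeff_of_mem_span_smul r _ this
      exact ⟨c, hx, hc⟩
    · intro hall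
      refine ⟨0, ?_, fun N j => Submodule.zero_mem _⟩
      have : (f : Z → M) z = 0 := by
        apply IsHausdorff.haus' (I := I)
        intro N
        rw [SModEq.zero]
        exact pow_smul_top_antitone I (Nat.le_add_right N n) (hall N)
      simp [this]
  choose c hc1 hc2 using key
  have hdec : ∀ j, (fun z => c z j) ∈ decaying I Z M := by
    intro j N
    refine (f.2 (N + n)).subset fun z hz hcon => hz (hc2 z N hcon j)
  have hsum : f = ∑ j, r j • (⟨fun z => c z j, hdec j⟩ : decaying I Z M) := by
    apply Subtype.ext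
    funext z
    rw [hc1 z]
    simp [Finset.sum_apply]
  rw [hsum]
  refine Submodule.sum_mem _ fun j _ => Submodule.smul_mem_smul ?_ Submodule.mem_top
  rw [← hr']
  exact Ideal.subset_span ⟨j, rfl⟩

variable (Z) in
/-- Elements of `I ^ n • decaying` have all values in `I ^ n • M`. -/
theorem forall_mem_of_mem_pow_smul_top (n : ℕ) (f : decaying I Z M)
    (hf : f ∈ (I ^ n • ⊤ : Submodule A (decaying I Z M))) (z : Z) :
    (f : Z → M) z ∈ (I ^ n • ⊤ : Submodule A M) := by
  refine Submodule.smul_induction_on (p := fun f : decaying I Z M =>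
    (f : Z → M) z ∈ (I ^ n • ⊤ : Submodule A M)) hf ?_ ?_
  · intro r hr g _
    exact Submodule.smul_mem_smul hr Submodule.mem_top
  · intro x y hx hy
    exact Submodule.add_mem _ hx hy

variable (Z) in
/-- `decaying I Z M` is `I`-adically complete when `M` is and `I` is finitely generated. -/
theorem isAdicComplete_decaying [IsAdicComplete I M] (hI : I.FG) :
    IsAdicComplete I (decaying I Z M) := by
  have hfg : ∀ n, (I ^ n).FG := fun n => hI.pow
  refine { haus' := ?_, prec' := ?_ }
  · intro f hf
    apply Subtype.ext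
    funext z
    apply IsHausdorff.haus' (I := I)
    intro n
    have := hf n
    rw [SModEq.zero] at this ⊢
    exact forall_mem_of_mem_pow_smul_top I Z n f this z
  · intro f hf
    have hpt : ∀ z, ∃ L : M, ∀ n, (f n : Z → M) z ≡ L [SMOD (I ^ n • ⊤ : Submodule A M)] := by
      intro z
      apply IsPrecomplete.prec' (I := I) (fun n => (f n : Z → M) z)
      intro m n hmn
      have := hf hmn
      rw [SModEq.sub_mem] at this ⊢
      exact forall_mem_of_mem_pow_smul_top I Z m (f m - f n) this z
    choose L hL using hpt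
    have hLdec : L ∈ decaying I Z M := by
      intro n
      refine ((f n).2 n).subset fun z hz hcon => hz ?_
      have := hL z n
      rw [SModEq.sub_mem] at this
      have h2 := Submodule.sub_mem _ hcon this
      simpa using h2
    refine ⟨⟨L, hLdec⟩, fun n => ?_⟩
    rw [SModEq.sub_mem]
    apply mem_pow_smul_top_of_forall_mem I Z n (hfg n)
    intro z
    have := hL z n
    rw [SModEq.sub_mem] at this
    exact this

/-! ### Submodules: Artin–Rees -/

theorem mem_pow_smul_top_subtype_iff (N : Submodule A M) (n : ℕ) (x : N) :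
    x ∈ (I ^ n • ⊤ : Submodule A N) ↔ (x : M) ∈ I ^ n • N := by
  have h : (I ^ n • N : Submodule A M) = (I ^ n • (⊤ : Submodule A N)).map N.subtype := by
    rw [Submodule.map_smul'', Submodule.map_subtype_top]
  rw [h]
  constructor
  · intro hx
    exact Submodule.mem_map_of_mem hx
  · rintro ⟨y, hy, hxy⟩
    have : y = x := Subtype.ext hxy
    exact this ▸ hy

variable (Z) in
/-- Artin–Rees: a function into a submodule `N` of a finite module `M` over a Noetherian ring
decays in `N` iff it decays in `M`. -/
theorem mem_decaying_subtype_iff [IsNoetherianRing A] [Module.Finite A M] (N : Submodule A M)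
    (f : Z → N) : f ∈ decaying I Z N ↔ (fun z => (f z : M)) ∈ decaying I Z M := by
  constructor
  · intro hf n
    refine (hf n).subset fun z hz hcon => hz ?_
    have := (mem_pow_smul_top_subtype_iff I N n (f z)).mp hcon
    exact Submodule.smul_mono le_rfl le_top this
  · intro hf n
    obtain ⟨k, hk⟩ := Ideal.exists_pow_inf_eq_pow_smul I N
    refine (hf (n + k)).subset fun z hz hcon => hz ?_
    rw [mem_pow_smul_top_subtype_iff]
    have h1 : (f z : M) ∈ (I ^ (n + k) • ⊤ ⊓ N : Submodule A M) := ⟨hcon, (f z).2⟩
    rw [hk (n + k) (Nat.le_add_left k n), Nat.add_sub_cancel] at h1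
    exact Submodule.smul_mono le_rfl inf_le_right h1

/-! ### Lifting decaying functions along surjections; coefficients with respect to generators -/

variable (Z) in
/-- A decaying function into a Hausdorff module lifts along a surjection to a decaying
function. -/
theorem exists_decaying_lift {M'' : Type*} [AddCommGroup M''] [Module A M''] [IsHausdorff I M'']
    (φ : M →ₗ[A] M'') (hφ : Function.Surjective φ) (g : Z → M'') (hg : g ∈ decaying I Z M'') :
    ∃ f : Z → M, f ∈ decaying I Z M ∧ ∀ z, φ (f z) = g z := by
  have key : ∀ z, ∃ y : M, φ y = g z ∧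
      ∀ N, g z ∈ (I ^ N • ⊤ : Submodule A M'') → y ∈ (I ^ N • ⊤ : Submodule A M) := by
    intro z
    refine exists_best (fun N => g z ∈ (I ^ N • ⊤ : Submodule A M''))
      (fun N (y : M) => y ∈ (I ^ N • ⊤ : Submodule A M)) (fun y => φ y = g z) ?_ ?_ ?_ ?_ ?_
    · intro m N hmN h
      exact pow_smul_top_antitone I hmN h
    · intro m N c hmN h
      exact pow_smul_top_antitone I hmN h
    · simp
    · intro N hN
      have hmap : (I ^ N • ⊤ : Submodule A M).map φ = I ^ N • ⊤ := by
        rw [Submodule.map_smul'', Submodule.map_top, LinearMap.range_eq_top.mpr hφ]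
      rw [← hmap] at hN
      obtain ⟨y, hy, hyz⟩ := hN
      exact ⟨y, hyz, hy⟩
    · intro hall
      refine ⟨0, ?_, fun N => Submodule.zero_mem _⟩
      have : g z = 0 := by
        apply IsHausdorff.haus' (I := I)
        intro N
        rw [SModEq.zero]
        exact hall N
      rw [this, map_zero]
  choose f hf1 hf2 using key
  refine ⟨f, fun N => ?_, hf1⟩
  exact (hg N).subset fun z hz hcon => hz (hf2 z N hcon)

variable (Z) in
/-- A decaying function into a Hausdorff module spanned by a finite family `m` is a combination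
of the `m j` with decaying coefficient functions. -/
theorem exists_decaying_coeff [IsHausdorff I M] {ι : Type*} [Fintype ι] (m : ι → M)
    (hm : Submodule.span A (Set.range m) = ⊤) (h : Z → M) (hh : h ∈ decaying I Z M) :
    ∃ c : ι → decaying I Z A, ∀ z, h z = ∑ j, (c j : Z → A) z • m j := by
  have key : ∀ z, ∃ c : ι → A, h z = ∑ j, c j • m j ∧
      ∀ N, h z ∈ (I ^ N • ⊤ : Submodule A M) → ∀ j, c j ∈ I ^ N := by
    intro z
    refine exists_best (fun N => h z ∈ (I ^ N • ⊤ : Submodule A M))
      (fun N (c : ι → A) => ∀ j, c j ∈ I ^ N) (fun c => h z = ∑ j, c j • m j) ?_ ?_ ?_ ?_ ?_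
    · intro a N haN hN
      exact pow_smul_top_antitone I haN hN
    · intro a N c haN hN j
      exact Ideal.pow_le_pow_right haN (hN j)
    · simp
    · intro N hN
      rw [← hm] at hN
      obtain ⟨c, hc, hx⟩ := exists_coeff_of_mem_smul_span m _ hN
      exact ⟨c, hx, hc⟩
    · intro hall
      refine ⟨0, ?_, fun N j => Submodule.zero_mem _⟩
      have : h z = 0 := by
        apply IsHausdorff.haus' (I := I)
        intro N
        rw [SModEq.zero]
        exact hall N
      simp [this]
  choose c hc1 hc2 using key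
  refine ⟨fun j => ⟨fun z => c z j, fun N => ?_⟩, hc1⟩
  refine (hh N).subset fun z hz hcon => hz ?_
  show c z j ∈ (I ^ N • ⊤ : Submodule A A)
  simpa using hc2 z N hcon j

/-! ### The comparison map `M ⊗ decaying I Z A → (Z → M)` -/

open TensorProduct

variable (Z M) in
/-- The canonical map `M ⊗ decaying I Z A → (Z → M)`, `x ⊗ g ↦ (z ↦ g z • x)`. -/
noncomputable def theta : M ⊗[A] decaying I Z A →ₗ[A] (Z → M) :=
  (TensorProduct.piScalarRightHom A A M Z) ∘ₗ ((decaying I Z A).subtype.lTensor M)

@[simp] theorem theta_tmul (x : M) (g : decaying I Z A) :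
    theta I Z M (x ⊗ₜ g) = fun z => (g : Z → A) z • x := by
  simp [theta, TensorProduct.piScalarRightHom_tmul]

theorem theta_mem_decaying (t : M ⊗[A] decaying I Z A) : theta I Z M t ∈ decaying I Z M := by
  induction t with
  | zero => rw [map_zero]; exact Submodule.zero_mem _
  | tmul x g =>
    rw [theta_tmul]
    exact (smulFamily I (fun _ => x) g).2
  | add t₁ t₂ h₁ h₂ => rw [map_add]; exact Submodule.add_mem _ h₁ h₂

theorem exists_sum_tmul {ι : Type*} [Fintype ι] {P : Type*} [AddCommGroup P] [Module A P]
    (m : ι → M) (hm : Submodule.span A (Set.range m) = ⊤) (t : M ⊗[A] P) :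
    ∃ p : ι → P, t = ∑ j, m j ⊗ₜ[A] p j := by
  induction t with
  | zero => exact ⟨0, by simp⟩
  | tmul x p =>
    have hx : x ∈ Submodule.span A (Set.range m) := by rw [hm]; trivial
    obtain ⟨c, rfl⟩ := (Submodule.mem_span_range_iff_exists_fun A).1 hx
    refine ⟨fun i => c i • p, ?_⟩
    rw [TensorProduct.sum_tmul]
    refine Finset.sum_congr rfl fun i _ => ?_
    rw [TensorProduct.smul_tmul]
  | add t₁ t₂ h₁ h₂ =>
    obtain ⟨x₁, rfl⟩ := h₁
    obtain ⟨x₂, rfl⟩ := h₂
    refine ⟨x₁ + x₂, ?_⟩
    simp [TensorProduct.tmul_add, Finset.sum_add_distrib]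

theorem decaying_le_range_theta [Module.Finite A M] [IsHausdorff I M] :
    decaying I Z M ≤ LinearMap.range (theta I Z M) := by
  intro h hh
  obtain ⟨k, m, hm⟩ := Module.Finite.exists_fin (R := A) (M := M)
  obtain ⟨c, hc⟩ := exists_decaying_coeff I Z m hm h hh
  refine ⟨∑ j, m j ⊗ₜ[A] c j, ?_⟩
  funext z
  rw [map_sum, Finset.sum_apply, hc z]
  refine Finset.sum_congr rfl fun j _ => ?_
  rw [theta_tmul]

theorem range_theta [Module.Finite A M] [IsHausdorff I M] :
    LinearMap.range (theta I Z M) = decaying I Z M :=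
  le_antisymm (by rintro _ ⟨t, rfl⟩; exact theta_mem_decaying I t) (decaying_le_range_theta I)

theorem mem_pow_smul_top_pi {ι : Type*} [Fintype ι] [DecidableEq ι] (N : ℕ) (c : ι → A)
    (hc : ∀ j, c j ∈ I ^ N) : c ∈ (I ^ N • ⊤ : Submodule A (ι → A)) := by
  have : c = ∑ j, c j • (Pi.single j 1 : ι → A) := by
    funext i
    simp [Finset.sum_apply, Pi.single_apply]
  rw [this]
  exact Submodule.sum_mem _ fun j _ => Submodule.smul_mem_smul (hc j) Submodule.mem_top

theorem theta_injective [IsNoetherianRing A] [Module.Finite A M]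
    (hjac : I ≤ Ideal.jacobson ⊥) : Function.Injective (theta I Z M) := by
  classical
  rw [injective_iff_map_eq_zero]
  intro t ht
  obtain ⟨k, m, hm⟩ := Module.Finite.exists_fin (R := A) (M := M)
  obtain ⟨g, rfl⟩ := exists_sum_tmul m hm t
  -- the relation module
  let π : (Fin k → A) →ₗ[A] M := Fintype.linearCombination A m
  let K : Submodule A (Fin k → A) := LinearMap.ker π
  have hG : ∀ z, (fun j => (g j : Z → A) z) ∈ K := by
    intro z
    have := congrFun ht z
    rw [map_sum, Finset.sum_apply] at this
    simp only [theta_tmul, Pi.zero_apply] at this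
    show π _ = 0
    rw [Fintype.linearCombination_apply]
    exact this
  let G : Z → K := fun z => ⟨fun j => (g j : Z → A) z, hG z⟩
  have hGdec : G ∈ decaying I Z K := by
    rw [mem_decaying_subtype_iff I Z K G]
    intro N
    have hfin : (⋃ j, {z | (g j : Z → A) z ∉ (I ^ N • ⊤ : Submodule A A)}).Finite :=
      Set.finite_iUnion fun j => (g j).2 N
    refine hfin.subset fun z hz => ?_
    by_contra hcon
    apply hz
    apply mem_pow_smul_top_pi I N
    intro j
    by_contra hj
    exact hcon (Set.mem_iUnion.mpr ⟨j, by simpa using hj⟩)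
  have : IsHausdorff I K := IsHausdorff.of_le_jacobson I K hjac
  obtain ⟨l, ρ, hρ⟩ := Module.Finite.exists_fin (R := A) (M := K)
  obtain ⟨d, hd⟩ := exists_decaying_coeff I Z ρ hρ G hGdec
  have hg : ∀ j, g j = ∑ i, ((ρ i : Fin k → A) j) • d i := by
    intro j
    apply Subtype.ext
    funext z
    have h1 := congrArg (fun x : K => (x : Fin k → A) j) (hd z)
    simp only [G] at h1
    rw [h1]
    simp [Finset.sum_apply, mul_comm]
  have hρ0 : ∀ i, ∑ j, ((ρ i : Fin k → A) j) • m j = 0 := by
    intro i
    have := (ρ i).2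
    change π (ρ i : Fin k → A) = 0 at this
    rwa [Fintype.linearCombination_apply] at this
  calc ∑ j, m j ⊗ₜ[A] g j = ∑ j, ∑ i, m j ⊗ₜ[A] (((ρ i : Fin k → A) j) • d i) := by
        refine Finset.sum_congr rfl fun j _ => ?_
        rw [hg j, TensorProduct.tmul_sum]
    _ = ∑ i, ∑ j, (((ρ i : Fin k → A) j) • m j) ⊗ₜ[A] d i := by
        rw [Finset.sum_comm]
        refine Finset.sum_congr rfl fun i _ => Finset.sum_congr rfl fun j _ => ?_
        rw [TensorProduct.smul_tmul]
    _ = 0 := by
        refine Finset.sum_eq_zero fun i _ => ?_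
        rw [← TensorProduct.sum_tmul, hρ0 i, TensorProduct.zero_tmul]

/-- `decaying I Z A` is flat over a Noetherian ring `A` with `I` in the Jacobson radical. -/
theorem flat_decaying [IsNoetherianRing A] (hjac : I ≤ Ideal.jacobson ⊥) :
    Module.Flat A (decaying I Z A) := by
  rw [Module.Flat.iff_rTensor_injective']
  intro J
  rw [injective_iff_map_eq_zero]
  intro t ht
  apply theta_injective (M := J) I hjac
  have hcomm : ∀ t : J ⊗[A] decaying I Z A, ∀ z,
      ((theta I Z J t z : J) : A) =
        theta I Z A (LinearMap.rTensor (decaying I Z A) J.subtype t) z := by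
    intro t z
    induction t with
    | zero => simp
    | tmul x g => simp
    | add t₁ t₂ h₁ h₂ => simp only [map_add, Pi.add_apply, Submodule.coe_add, h₁, h₂]
  funext z
  apply Subtype.ext
  rw [hcomm t z, ht, map_zero]
  rfl

/-! ### Topological Nakayama: generation modulo `I` gives adic generation -/

/-- One approximation step. -/
theorem exists_finsupp_approx (m : Z → M)
    (hspan : Submodule.span A (Set.range m) ⊔ I • ⊤ = ⊤) (n : ℕ) (y : M)
    (hy : y ∈ (I ^ n • ⊤ : Submodule A M)) :
    ∃ a : Z →₀ A, (∀ z, a z ∈ I ^ n) ∧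
      y - Finsupp.linearCombination A m a ∈ (I ^ (n + 1) • ⊤ : Submodule A M) := by
  classical
  refine Submodule.smul_induction_on hy ?_ ?_
  · intro r hr x _
    have hx : x ∈ Submodule.span A (Set.range m) ⊔ I • ⊤ := by rw [hspan]; trivial
    obtain ⟨s, hs, w, hw, rfl⟩ := Submodule.mem_sup.mp hx
    obtain ⟨b, hb⟩ := (Finsupp.mem_span_range_iff_exists_finsupp).mp hs
    rw [← Finsupp.linearCombination_apply] at hb
    subst hb
    refine ⟨r • b, fun z => ?_, ?_⟩
    · simp only [Finsupp.smul_apply, smul_eq_mul]
      exact Ideal.mul_mem_right _ _ hr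
    · have : r • (Finsupp.linearCombination A m b + w) - Finsupp.linearCombination A m (r • b)
          = r • w := by
        rw [map_smul, smul_add]; abel
      rw [this, pow_succ, mul_smul]
      exact Submodule.smul_mem_smul hr hw
  · rintro x y ⟨a, ha, hx⟩ ⟨a', ha', hy'⟩
    refine ⟨a + a', fun z => ?_, ?_⟩
    · simp only [Finsupp.add_apply]
      exact Ideal.add_mem _ (ha z) (ha' z)
    · have := Submodule.add_mem _ hx hy'
      convert this using 1
      rw [map_add]; abel

/-- If the family `m` generates `M` modulo `I`, every element of `M` is an `I`-adically convergent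
combination of the `m z` with decaying coefficients (`A` precomplete). -/
theorem exists_decaying_hasAdicSum [IsPrecomplete I A] (m : Z → M)
    (hspan : Submodule.span A (Set.range m) ⊔ I • ⊤ = ⊤) (x : M) :
    ∃ g : Z → A, g ∈ decaying I Z A ∧ HasAdicSum I (fun z => g z • m z) x := by
  classical
  choose a ha1 ha2 using exists_finsupp_approx I m hspan
  let seq : (n : ℕ) → {y : M // y ∈ (I ^ n • ⊤ : Submodule A M)} := fun n =>
    Nat.rec ⟨x, by simp⟩
      (fun n y => ⟨y.1 - Finsupp.linearCombination A m (a n y.1 y.2), ha2 n y.1 y.2⟩) n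
  let b : ℕ → Z →₀ A := fun n => a n (seq n).1 (seq n).2
  have hb1 : ∀ n z, b n z ∈ I ^ n := fun n z => ha1 n _ _ z
  have hseq_succ : ∀ n, (seq (n + 1)).1 = (seq n).1 - Finsupp.linearCombination A m (b n) :=
    fun n => rfl
  have hseq0 : (seq 0).1 = x := rfl
  have htel : ∀ N, (seq N).1 = x - ∑ n ∈ Finset.range N, Finsupp.linearCombination A m (b n) := by
    intro N
    induction N with
    | zero => simp [hseq0]
    | succ N ih => rw [hseq_succ, ih, Finset.sum_range_succ]; abel
  let p : ℕ → Z → A := fun N z => ∑ n ∈ Finset.range N, b n z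
  have hcauchy : ∀ z N N', N ≤ N' → p N' z - p N z ∈ I ^ N := by
    intro z N N' hNN'
    induction N', hNN' using Nat.le_induction with
    | base => simp
    | succ N' hN' ih =>
      have : p (N' + 1) z - p N z = (p N' z - p N z) + b N' z := by
        simp only [p, Finset.sum_range_succ]; abel
      rw [this]
      exact Ideal.add_mem _ ih (Ideal.pow_le_pow_right hN' (hb1 N' z))
  have hlim : ∀ z, ∃ L : A, ∀ N, p N z - L ∈ I ^ N := by
    intro z
    obtain ⟨L, hL⟩ := IsPrecomplete.prec' (I := I) (fun N => p N z) (by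
      intro N N' hNN'
      refine SModEq.symm ?_
      rw [SModEq.sub_mem]
      simpa using hcauchy z N N' hNN')
    refine ⟨L, fun N => ?_⟩
    have := hL N
    rw [SModEq.sub_mem] at this
    simpa using this
  choose g hg using hlim
  let S : ℕ → Finset Z := fun N => (Finset.range N).biUnion fun n => (b n).support
  have hS : ∀ N z, z ∉ S N → g z ∈ I ^ N := by
    intro N z hz
    have hp : p N z = 0 := by
      refine Finset.sum_eq_zero fun n hn => ?_
      by_contra hne
      exact hz (Finset.mem_biUnion.mpr ⟨n, hn, Finsupp.mem_support_iff.mpr hne⟩)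
    have := hg z N
    rw [hp, zero_sub] at this
    exact (Ideal.neg_mem_iff _).mp this
  refine ⟨g, fun N => ?_, fun N => ⟨S N, fun z hz => ?_, ?_⟩⟩
  · refine (S N).finite_toSet.subset fun z hz => ?_
    by_contra hcon
    exact hz (by simpa using hS N z hcon)
  · exact Submodule.smul_mem_smul (hS N z hz) Submodule.mem_top
  · have hsum : ∑ n ∈ Finset.range N, Finsupp.linearCombination A m (b n) =
        ∑ z ∈ S N, p N z • m z := by
      simp only [p, Finset.sum_smul]
      rw [Finset.sum_comm]
      refine Finset.sum_congr rfl fun n hn => ?_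
      rw [Finsupp.linearCombination_apply]
      refine Finsupp.sum_of_support_subset _ ?_ _ (fun z _ => zero_smul _ _)
      exact Finset.subset_biUnion_of_mem (fun n => (b n).support) hn
    have hx : x - ∑ z ∈ S N, g z • m z = (seq N).1 + ∑ z ∈ S N, (p N z - g z) • m z := by
      rw [htel N, hsum]
      simp only [sub_smul, Finset.sum_sub_distrib]
      abel
    rw [hx]
    refine Submodule.add_mem _ (seq N).2 (Submodule.sum_mem _ fun z _ => ?_)
    exact Submodule.smul_mem_smul (hg z N) Submodule.mem_top


/-! ### Decaying functions with values in the completion -/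

theorem smul_mem_pow_smul_top_hat (n : ℕ) {α : AdicCompletion I A}
    (hα : α ∈ (I ^ n • ⊤ : Submodule A (AdicCompletion I A))) (v : AdicCompletion I M) :
    α • v ∈ (I ^ n • ⊤ : Submodule A (AdicCompletion I M)) := by
  refine Submodule.smul_induction_on hα ?_ ?_
  · intro r hr β _
    rw [smul_assoc]
    exact Submodule.smul_mem_smul hr Submodule.mem_top
  · intro x y hx hy
    rw [add_smul]
    exact Submodule.add_mem _ hx hy

/-- `g ↦ (z ↦ g z • v z)` for scalars in the completed ring. -/
noncomputable def smulFamilyHat (v : Z → AdicCompletion I M) :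
    decaying I Z (AdicCompletion I A) →ₗ[A] decaying I Z (AdicCompletion I M) where
  toFun g := ⟨fun z => (g : Z → AdicCompletion I A) z • v z, fun n =>
    (g.2 n).subset fun z hz hcon => hz (smul_mem_pow_smul_top_hat I n hcon (v z))⟩
  map_add' g g' := by
    ext z
    simp [add_smul]
  map_smul' a g := by
    apply Subtype.ext
    funext z
    simp [smul_assoc]

@[simp] theorem smulFamilyHat_apply (v : Z → AdicCompletion I M)
    (g : decaying I Z (AdicCompletion I A)) (z : Z) :
    (smulFamilyHat I v g : Z → AdicCompletion I M) z =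
      (g : Z → AdicCompletion I A) z • v z := rfl

/-- The linear map `decaying I Z Â → M` attached to a family `f : Z → M` in a complete module. -/
noncomputable def ofFamily (hI : I.FG) [IsAdicComplete I M] (f : Z → M) :
    decaying I Z (AdicCompletion I A) →ₗ[A] M :=
  haveI : IsAdicComplete I (AdicCompletion I M) := AdicCompletion.isAdicComplete hI
  (AdicCompletion.ofLinearEquiv I M).symm.toLinearMap ∘ₗ adicSum I ∘ₗ
    smulFamilyHat I (fun z => AdicCompletion.of I M (f z))

theorem ofFamily_single (hI : I.FG) [IsAdicComplete I M] [DecidableEq Z] (f : Z → M) (z : Z) :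
    ofFamily I hI f (single I z (1 : AdicCompletion I A)) = f z := by
  have : IsAdicComplete I (AdicCompletion I M) := AdicCompletion.isAdicComplete hI
  have key : adicSum I (smulFamilyHat I (fun z => AdicCompletion.of I M (f z))
      (single I z (1 : AdicCompletion I A))) = AdicCompletion.of I M (f z) := by
    apply adicSum_eq_of_hasAdicSum
    have := hasAdicSum_of_support_subset (I := I)
      (h := fun z' => ((Pi.single z (1 : AdicCompletion I A) : Z → AdicCompletion I A) z') •
        AdicCompletion.of I M (f z'))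
      {z} (fun z' hz' => by
        rw [Finset.mem_singleton] at hz'
        rw [Pi.single_eq_of_ne hz', zero_smul])
    have h2 : HasAdicSum I (fun z' => ((Pi.single z (1 : AdicCompletion I A) :
        Z → AdicCompletion I A) z') • AdicCompletion.of I M (f z'))
        (AdicCompletion.of I M (f z)) := by simpa using this
    exact h2
  show (AdicCompletion.ofLinearEquiv I M).symm (adicSum I _) = f z
  rw [key, AdicCompletion.ofLinearEquiv_symm_of]

theorem map_mem_pow_smul_top {P : Type*} [AddCommGroup P] [Module A P] (ψ : P →ₗ[A] M) (n : ℕ)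
    {g : P} (hg : g ∈ (I ^ n • ⊤ : Submodule A P)) : ψ g ∈ (I ^ n • ⊤ : Submodule A M) := by
  refine Submodule.smul_induction_on hg ?_ ?_
  · intro r hr g' _
    rw [map_smul]
    exact Submodule.smul_mem_smul hr Submodule.mem_top
  · intro x y hx hy
    rw [map_add]
    exact Submodule.add_mem _ hx hy

theorem exists_sub_algebraMap_mem (hI : I.FG) (n : ℕ) (α : AdicCompletion I A) :
    ∃ a : A, α - algebraMap A (AdicCompletion I A) a ∈
      (I ^ n • ⊤ : Submodule A (AdicCompletion I A)) := by
  obtain ⟨a, ha⟩ := Submodule.mkQ_surjective _ (AdicCompletion.eval I A n α)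
  refine ⟨a, ?_⟩
  rw [AdicCompletion.pow_smul_top_eq_ker_eval hI, LinearMap.mem_ker, map_sub,
    AdicCompletion.algebraMap_apply, AdicCompletion.eval_of, Algebra.algebraMap_self,
    RingHom.id_apply, ha, sub_self]

/-- A linear map out of `decaying I Z Â` into a Hausdorff module is determined by its values on
the functions `single z 1`. -/
theorem eq_zero_of_single_one (hI : I.FG) [IsHausdorff I M] [DecidableEq Z]
    (ψ : decaying I Z (AdicCompletion I A) →ₗ[A] M)
    (h : ∀ z, ψ (single I z (1 : AdicCompletion I A)) = 0) : ψ = 0 := by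
  have : IsAdicComplete I (AdicCompletion I A) := AdicCompletion.isAdicComplete hI
  have hfg : ∀ n, (I ^ n).FG := fun n => hI.pow
  -- values on `single z α`
  have hsingle : ∀ (n : ℕ) (z : Z) (α : AdicCompletion I A),
      ψ (single I z α) ∈ (I ^ n • ⊤ : Submodule A M) := by
    intro n z α
    obtain ⟨a, ha⟩ := exists_sub_algebraMap_mem I hI n α
    have hdecomp : single I z α = a • single I z (1 : AdicCompletion I A) +
        single I z (α - algebraMap A (AdicCompletion I A) a) := by
      apply Subtype.ext
      funext z'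
      by_cases hz : z' = z
      · subst hz
        simp [Algebra.algebraMap_eq_smul_one]
      · simp [Pi.single_eq_of_ne hz]
    rw [hdecomp, map_add, map_smul, h z, smul_zero, zero_add]
    apply map_mem_pow_smul_top I ψ n
    apply mem_pow_smul_top_of_forall_mem I Z n (hfg n)
    intro z'
    by_cases hz : z' = z
    · subst hz
      simpa using ha
    · simp [Pi.single_eq_of_ne hz]
  apply LinearMap.ext
  intro g
  rw [LinearMap.zero_apply]
  apply IsHausdorff.haus' (I := I)
  intro n
  rw [SModEq.zero]
  let S : Finset Z := (g.2 n).toFinset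
  let g' : decaying I Z (AdicCompletion I A) :=
    g - ∑ z ∈ S, single I z ((g : Z → AdicCompletion I A) z)
  have hg : g = ∑ z ∈ S, single I z ((g : Z → AdicCompletion I A) z) + g' := by
    simp [g']
  have hg'val : ∀ z, (g' : Z → AdicCompletion I A) z ∈
      (I ^ n • ⊤ : Submodule A (AdicCompletion I A)) := by
    intro z
    have hval : (g' : Z → AdicCompletion I A) z = (g : Z → AdicCompletion I A) z -
        ∑ z' ∈ S, (Pi.single z' ((g : Z → AdicCompletion I A) z') : Z → AdicCompletion I A) z := by
      simp [g', Finset.sum_apply]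
    rw [hval]
    by_cases hz : z ∈ S
    · rw [Finset.sum_eq_single_of_mem z hz (fun z' _ hne => Pi.single_eq_of_ne' hne _)]
      simp
    · rw [Finset.sum_eq_zero (fun z' hz' => Pi.single_eq_of_ne (fun h : z = z' => hz (h ▸ hz')) _),
        sub_zero]
      by_contra hcon
      exact hz ((g.2 n).mem_toFinset.mpr hcon)
  rw [hg, map_add, map_sum]
  refine Submodule.add_mem _ (Submodule.sum_mem _ fun z _ => hsingle n z _) ?_
  exact map_mem_pow_smul_top I ψ n (mem_pow_smul_top_of_forall_mem I Z n (hfg n) g' hg'val)


/-- A retract of an `I`-adically complete module is `I`-adically complete. -/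
theorem isAdicComplete_of_retract {D : Type*} [AddCommGroup D] [Module A D] [IsAdicComplete I D]
    (i : M →ₗ[A] D) (r : D →ₗ[A] M) (hri : r ∘ₗ i = LinearMap.id) : IsAdicComplete I M := by
  have hri' : ∀ x, r (i x) = x := fun x => LinearMap.congr_fun hri x
  refine { haus' := ?_, prec' := ?_ }
  · intro x hx
    have : i x = 0 := by
      apply IsHausdorff.haus' (I := I)
      intro n
      have := hx n
      rw [SModEq.zero] at this ⊢
      exact map_mem_pow_smul_top I i n this
    rw [← hri' x, this, map_zero]
  · intro f hf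
    obtain ⟨L, hL⟩ := IsPrecomplete.prec' (I := I) (fun n => i (f n)) (by
      intro m n hmn
      have := hf hmn
      rw [SModEq.sub_mem] at this ⊢
      rw [← map_sub]
      exact map_mem_pow_smul_top I i m this)
    refine ⟨r L, fun n => ?_⟩
    have := hL n
    rw [SModEq.sub_mem] at this ⊢
    have h2 := map_mem_pow_smul_top I r n this
    rwa [map_sub, hri'] at h2

end Groth.Agent.Lib.AdicDecaying
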