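/-
Adically free modules: flat + complete modules over a complete ring whose reduction mod `I`
is free are isomorphic to modules of decaying functions.
Author: helper89
-/
import Groth.Agent.Lib.AdicDecaying
import Mathlib.RingTheory.Flat.EquationalCriterion
import Mathlib.Algebra.Module.Torsion.Basic
import Mathlib.LinearAlgebra.Basis.VectorSpace
import Mathlib.RingTheory.AdicCompletion.Completeness

set_option autoImplicit false

namespace Groth.Agent.Lib.AdicFree

open W4c5adicflatcompl Groth.Agent.Lib.AdicDecaying

variable {A : Type*} [CommRing A] (I : Ideal A) (Z : Type*) {M N : Type*} [AddCommGroup M]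
  [Module A M] [AddCommGroup N] [Module A N]

/-- Post-composition with a linear map preserves decaying functions. -/
def decayingMap (φ : M →ₗ[A] N) : decaying I Z M →ₗ[A] decaying I Z N where
  toFun f := ⟨fun z => φ ((f : Z → M) z), fun n => (f.2 n).subset fun z hz => by
    by_contra h
    simp only [Set.mem_ofPred_eq, not_not] at h
    exact hz (map_mem_pow_smul_top I φ n h)⟩
  map_add' f g := by
    ext z
    simp
  map_smul' a f := by
    ext z
    simp

@[simp] theorem decayingMap_apply (φ : M →ₗ[A] N) (f : decaying I Z M) (z : Z) :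
    (decayingMap I Z φ f : Z → N) z = φ ((f : Z → M) z) := rfl

/-- A linear equivalence of value modules induces one of modules of decaying functions. -/
def decayingCongr (e : M ≃ₗ[A] N) : decaying I Z M ≃ₗ[A] decaying I Z N :=
  LinearEquiv.ofLinearMap (decayingMap I Z e.toLinearMap) (decayingMap I Z e.symm.toLinearMap)
    (by
      ext f z
      simp)
    (by
      ext f z
      simp)

variable {Z}

/-- If `M = D / K` is flat then `K ∩ J D = J K`. -/
theorem mem_smul_ker_of_flat {D : Type*} [AddCommGroup D] [Module A D] [Module.Flat A M]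
    (Φ : D →ₗ[A] M) (hΦ : Function.Surjective Φ) (J : Ideal A) {x : D} (hxK : Φ x = 0)
    (hxJ : x ∈ (J • ⊤ : Submodule A D)) : x ∈ J • LinearMap.ker Φ := by
  classical
  have hspan : (⊤ : Submodule A D) = Submodule.span A (Set.range (id : D → D)) := by
    rw [Set.range_id, Submodule.span_univ]
  rw [hspan, Submodule.mem_ideal_smul_span_iff_exists_sum] at hxJ
  obtain ⟨a, ha, rfl⟩ := hxJ
  have hrel : ∑ i : a.support, a i • Φ (i : D) = 0 := by
    rw [← hxK, Finsupp.sum, map_sum, ← Finset.sum_coe_sort a.support]
    simp
  obtain ⟨k, b, y, hy, hb⟩ := Module.Flat.isTrivialRelation_of_sum_smul_eq_zero hrel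
  simp only at hy hb
  choose e he using fun j => hΦ (y j)
  have hdecomp : a.sum (fun d c => c • id d) =
      ∑ i : a.support, a i • ((i : D) - ∑ j, b i j • e j) := by
    have h2 : ∑ i : a.support, a i • ∑ j, b i j • e j = 0 := by
      simp_rw [Finset.smul_sum, smul_smul]
      rw [Finset.sum_comm]
      refine Finset.sum_eq_zero fun j _ => ?_
      rw [← Finset.sum_smul, hb j, zero_smul]
    simp_rw [smul_sub]
    rw [Finset.sum_sub_distrib, h2, sub_zero, Finsupp.sum, ← Finset.sum_coe_sort a.support]
    simp
  rw [hdecomp]
  refine Submodule.sum_mem _ fun i _ => Submodule.smul_mem_smul (ha i) ?_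
  rw [LinearMap.mem_ker, map_sub, map_sum, hy i, sub_eq_zero]
  refine Finset.sum_congr rfl fun j _ => ?_
  rw [map_smul, he]

/-- If `M = D / K` is flat and `K ≤ J D` then `K ≤ J ^ n D` for all `n`. -/
theorem ker_le_pow_smul_top_of_flat {D : Type*} [AddCommGroup D] [Module A D] [Module.Flat A M]
    (Φ : D →ₗ[A] M) (hΦ : Function.Surjective Φ) (J : Ideal A)
    (h1 : LinearMap.ker Φ ≤ (J • ⊤ : Submodule A D)) (n : ℕ) :
    LinearMap.ker Φ ≤ (J ^ n • ⊤ : Submodule A D) := by
  induction n with
  | zero => simp
  | succ n ih =>
    intro x hx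
    have h2 : x ∈ J • LinearMap.ker Φ := mem_smul_ker_of_flat Φ hΦ J hx (h1 hx)
    have h3 : J • LinearMap.ker Φ ≤ J • (J ^ n • ⊤ : Submodule A D) := Submodule.smul_mono le_rfl ih
    have h4 := h3 h2
    rwa [← mul_smul, ← pow_succ'] at h4

/-- Key theorem: for `A` Noetherian and `I`-adically complete, `M` flat and `I`-adically complete,
and a family `m` which spans `M` modulo `I` and is linearly independent modulo `I`,
the map `g ↦ ∑ g z • m z` from decaying functions to `M` is bijective. -/
theorem bijective_adicSum_smulFamily [IsNoetherianRing A] [IsAdicComplete I A]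
    [IsAdicComplete I M] [Module.Flat A M] (m : Z → M)
    (hspan : Submodule.span A (Set.range m) ⊔ I • ⊤ = ⊤)
    (hindep : ∀ c : Z →₀ A, Finsupp.linearCombination A m c ∈ (I • ⊤ : Submodule A M) →
      ∀ z, c z ∈ I) :
    Function.Bijective ((adicSum I).comp (smulFamily I m) : decaying I Z A →ₗ[A] M) := by
  classical
  have hI : I.FG := IsNoetherian.noetherian I
  have hsurj : Function.Surjective ((adicSum I).comp (smulFamily I m) : decaying I Z A →ₗ[A] M) := by
    intro x
    obtain ⟨g, hg, H⟩ := exists_decaying_hasAdicSum I m hspan x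
    refine ⟨⟨g, hg⟩, ?_⟩
    rw [LinearMap.comp_apply]
    exact adicSum_eq_of_hasAdicSum I _ H
  refine ⟨?_, hsurj⟩
  have : IsAdicComplete I (decaying I Z A) := isAdicComplete_decaying I Z hI
  -- the kernel is contained in `I • ⊤`
  have h1 : LinearMap.ker ((adicSum I).comp (smulFamily I m) : decaying I Z A →ₗ[A] M) ≤
      (I • ⊤ : Submodule A (decaying I Z A)) := by
    intro g hg
    rw [LinearMap.mem_ker, LinearMap.comp_apply] at hg
    have H := hasAdicSum_adicSum I (smulFamily I m g)
    rw [hg] at H
    obtain ⟨S, hS1, hS2⟩ := H 1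
    have hgI : ∀ z, (g : Z → A) z ∈ I := by
      intro z
      by_cases hz : z ∈ S
      · have hc : Finsupp.linearCombination A m (∑ z ∈ S, Finsupp.single z ((g : Z → A) z)) ∈
            (I • ⊤ : Submodule A M) := by
          rw [map_sum]
          simp only [Finsupp.linearCombination_single]
          have := (Submodule.neg_mem_iff _).mpr hS2
          simpa using this
        have := hindep _ hc z
        rw [Finsupp.finsetSum_apply] at this
        simp only [Finsupp.single_apply] at this
        rw [Finset.sum_ite_eq' S z, if_pos hz] at this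
        exact this
      · have hc : Finsupp.linearCombination A m (Finsupp.single z ((g : Z → A) z)) ∈
            (I • ⊤ : Submodule A M) := by
          rw [Finsupp.linearCombination_single]
          have := hS1 z hz
          simpa using this
        have := hindep _ hc z
        simpa using this
    have := mem_pow_smul_top_of_forall_mem I Z 1 (by simpa using hI) g (by simpa using hgI)
    simpa using this
  rw [← LinearMap.ker_eq_bot, eq_bot_iff]
  intro g hg
  rw [Submodule.mem_bot]
  apply IsHausdorff.haus' (I := I)
  intro n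
  rw [SModEq.zero]
  exact ker_le_pow_smul_top_of_flat _ hsurj I h1 n hg

/-- From a basis of `M ⧸ I M` over `A ⧸ I`, an isomorphism of the flat complete module `M` with
a module of decaying functions. -/
theorem exists_equiv_decaying_of_basis [IsNoetherianRing A] [IsAdicComplete I A]
    [IsAdicComplete I M] [Module.Flat A M]
    (b : Module.Basis Z (A ⧸ I) (M ⧸ (I • ⊤ : Submodule A M))) :
    Nonempty (decaying I Z A ≃ₗ[A] M) := by
  classical
  choose m hm using fun z => Submodule.Quotient.mk_surjective (I • ⊤ : Submodule A M) (b z)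
  have hlc : ∀ c : Z →₀ A, Submodule.Quotient.mk (p := (I • ⊤ : Submodule A M))
      (Finsupp.linearCombination A m c) =
      Finsupp.linearCombination (A ⧸ I) b (c.mapRange (Ideal.Quotient.mk I) (map_zero _)) := by
    intro c
    induction c using Finsupp.induction_linear with
    | zero => simp
    | add c c' hc hc' =>
      rw [map_add, Submodule.Quotient.mk_add, hc, hc', Finsupp.mapRange_add (by simp), map_add]
    | single z a =>
      rw [Finsupp.linearCombination_single, Finsupp.mapRange_single,
        Finsupp.linearCombination_single, ← hm z, Module.Quotient.mk_smul_mk M I]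
  refine ⟨LinearEquiv.ofBijective _ (bijective_adicSum_smulFamily I m ?_ ?_)⟩
  · -- spanning
    have key : ∀ v : M ⧸ (I • ⊤ : Submodule A M), ∃ x ∈ Submodule.span A (Set.range m),
        Submodule.Quotient.mk (p := (I • ⊤ : Submodule A M)) x = v := by
      intro v
      have hv : v ∈ Submodule.span (A ⧸ I) (Set.range b) := by rw [b.span_eq]; trivial
      refine Submodule.span_induction ?_ ?_ ?_ ?_ hv
      · rintro _ ⟨z, rfl⟩
        exact ⟨m z, Submodule.subset_span ⟨z, rfl⟩, hm z⟩
      · exact ⟨0, Submodule.zero_mem _, rfl⟩
      · rintro _ _ _ _ ⟨x, hx, rfl⟩ ⟨y, hy, rfl⟩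
        exact ⟨x + y, Submodule.add_mem _ hx hy, rfl⟩
      · rintro r _ _ ⟨x, hx, rfl⟩
        obtain ⟨a, rfl⟩ := Ideal.Quotient.mk_surjective r
        exact ⟨a • x, Submodule.smul_mem _ a hx, (Module.Quotient.mk_smul_mk M I a x).symm⟩
    rw [eq_top_iff]
    intro x _
    obtain ⟨x', hx', hxx'⟩ := key (Submodule.Quotient.mk x)
    have h2 : x - x' ∈ (I • ⊤ : Submodule A M) := by
      rw [← Submodule.Quotient.mk_eq_zero, Submodule.Quotient.mk_sub, hxx', sub_self]
    have : x = x' + (x - x') := by abel
    rw [this]
    exact Submodule.add_mem_sup hx' h2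
  · -- independence
    intro c hc z
    rw [← Submodule.Quotient.mk_eq_zero, hlc c] at hc
    have := linearIndependent_iff.mp b.linearIndependent _ hc
    have h3 := DFunLike.congr_fun this z
    rw [Finsupp.mapRange_apply, Finsupp.zero_apply, Ideal.Quotient.eq_zero_iff_mem] at h3
    exact h3

end Groth.Agent.Lib.AdicFree
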