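/-
Completed base change of adically free modules.
Author: helper89
-/
import Groth.Agent.Lib.AdicFree
import Mathlib.RingTheory.AdicCompletion.Functoriality
import Mathlib.RingTheory.AdicCompletion.Completeness
import Mathlib.RingTheory.TensorProduct.Basic

set_option autoImplicit false

namespace Groth.Agent.Lib.AdicBaseChange

open W4c5adicflatcompl Groth.Agent.Lib.AdicDecaying Groth.Agent.Lib.AdicFree

section Le

variable {B : Type*} [CommRing B] {N : Type*} [AddCommGroup N] [Module B N]

/-- A `J`-adically complete module is `K`-adically complete for every finitely generated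
ideal `K ≤ J`. -/
theorem isAdicComplete_of_le (J K : Ideal B) (hK : K.FG) (hKJ : K ≤ J) [IsAdicComplete J N] :
    IsAdicComplete K N := by
  classical
  have hmono : ∀ n, (K ^ n • ⊤ : Submodule B N) ≤ J ^ n • ⊤ := fun n =>
    Submodule.smul_mono (Ideal.pow_right_mono hKJ n) le_rfl
  refine { haus' := ?_, prec' := ?_ }
  · intro x hx
    apply IsHausdorff.haus' (I := J)
    intro n
    have := hx n
    rw [SModEq.zero] at this ⊢
    exact hmono n this
  · intro f hf
    have hfJ : ∀ {m n}, m ≤ n → f m ≡ f n [SMOD (J ^ m • ⊤ : Submodule B N)] := by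
      intro m n hmn
      have := hf hmn
      rw [SModEq.sub_mem] at this ⊢
      exact hmono _ this
    obtain ⟨L, hL⟩ := IsPrecomplete.prec' (I := J) f hfJ
    refine ⟨L, fun n => ?_⟩
    obtain ⟨r, a, ha⟩ := Submodule.fg_iff_exists_fin_generating_family.mp (hK.pow (n := n))
    have ha' : Ideal.span (Set.range a) = K ^ n := ha
    have hstep : ∀ k, ∃ w : Fin r → N, (∀ i, w i ∈ (J ^ k • ⊤ : Submodule B N)) ∧
        f (n + k + 1) - f (n + k) = ∑ i, a i • w i := by
      intro k
      have h1 : f (n + k + 1) - f (n + k) ∈ (K ^ (n + k) • ⊤ : Submodule B N) := by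
        have := hf (Nat.le_succ (n + k))
        rw [SModEq.sub_mem] at this
        have := (Submodule.neg_mem_iff _).mpr this
        simpa using this
      have h2 : (K ^ (n + k) • ⊤ : Submodule B N) ≤
          Ideal.span (Set.range a) • (J ^ k • ⊤ : Submodule B N) := by
        rw [ha', pow_add, mul_smul]
        exact Submodule.smul_mono le_rfl (hmono k)
      exact exists_coeff_of_mem_span_smul a _ (h2 h1)
    choose w hw1 hw2 using hstep
    let s : ℕ → Fin r → N := fun k i => ∑ j ∈ Finset.range k, w j i
    have hs : ∀ k, f (n + k) - f n = ∑ i, a i • s k i := by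
      intro k
      induction k with
      | zero => simp [s]
      | succ k ih =>
        have : f (n + (k + 1)) - f n = (f (n + k) - f n) + (f (n + k + 1) - f (n + k)) := by
          rw [← add_assoc]; abel
        rw [this, hw2, ih, ← Finset.sum_add_distrib]
        refine Finset.sum_congr rfl fun i _ => ?_
        simp only [s]
        rw [Finset.sum_range_succ, smul_add]
    have hsC : ∀ i, ∀ {k l : ℕ}, k ≤ l →
        s k i ≡ s l i [SMOD (J ^ k • ⊤ : Submodule B N)] := by
      intro i k l hkl
      rw [SModEq.sub_mem]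
      have h3 : s l i - s k i ∈ (J ^ k • ⊤ : Submodule B N) := by
        have : s l i - s k i = ∑ j ∈ Finset.Ico k l, w j i := by
          simp only [s]
          rw [Finset.sum_Ico_eq_sub _ hkl]
        rw [this]
        refine Submodule.sum_mem _ fun j hj => ?_
        exact pow_smul_top_antitone J (Finset.mem_Ico.mp hj).1 (hw1 j i)
      have := (Submodule.neg_mem_iff _).mpr h3
      simpa using this
    choose y hy using fun i => IsPrecomplete.prec' (I := J) (fun k => s k i) (hsC i)
    have hfin : L - f n = ∑ i, a i • y i := by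
      rw [← sub_eq_zero]
      apply IsHausdorff.haus' (I := J)
      intro k
      rw [SModEq.zero]
      have e1 : L - f n - ∑ i, a i • y i = (L - f (n + k)) + ∑ i, a i • (s k i - y i) := by
        simp_rw [smul_sub]
        rw [Finset.sum_sub_distrib, ← hs k]
        abel
      rw [e1]
      refine Submodule.add_mem _ ?_
        (Submodule.sum_mem _ fun i _ => Submodule.smul_mem _ _ ?_)
      · have := hL (n + k)
        rw [SModEq.sub_mem] at this
        have := (Submodule.neg_mem_iff _).mpr this
        have h4 : L - f (n + k) ∈ (J ^ (n + k) • ⊤ : Submodule B N) := by simpa using this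
        exact pow_smul_top_antitone J (Nat.le_add_left k n) h4
      · have := hy i k
        rwa [SModEq.sub_mem] at this
    rw [SModEq.sub_mem]
    have h5 : L - f n ∈ (K ^ n • ⊤ : Submodule B N) := by
      rw [hfin]
      refine Submodule.sum_mem _ fun i _ => Submodule.smul_mem_smul ?_ Submodule.mem_top
      rw [← ha']
      exact Ideal.subset_span ⟨i, rfl⟩
    have := (Submodule.neg_mem_iff _).mpr h5
    simpa using this

end Le

section BaseChange

open scoped TensorProduct

variable {A B : Type*} [CommRing A] [CommRing B] [Algebra A B] (I : Ideal A) (J : Ideal B)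

/-- A `J`-adically complete `B`-module is `I`-adically complete over `A` when `I B ≤ J`. -/
theorem isAdicComplete_restrict (hI : I.FG) (hIJ : I.map (algebraMap A B) ≤ J) {N : Type*}
    [AddCommGroup N] [Module A N] [Module B N] [IsScalarTower A B N] [IsAdicComplete J N] :
    IsAdicComplete I N := by
  have : IsAdicComplete (I.map (algebraMap A B)) N :=
    isAdicComplete_of_le J _ (hI.map _) hIJ
  exact (IsAdicComplete.map_algebraMap_iff (I := I) (S := B) (M := N)).mp this

theorem exists_sub_of_mem {M : Type*} [AddCommGroup M] [Module B M] (hJ : J.FG) (n : ℕ)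
    (x : AdicCompletion J M) :
    ∃ q : M, x - AdicCompletion.of J M q ∈ (J ^ n • ⊤ : Submodule B (AdicCompletion J M)) := by
  obtain ⟨q, hq⟩ := Submodule.mkQ_surjective _ (AdicCompletion.eval J M n x)
  refine ⟨q, ?_⟩
  rw [AdicCompletion.pow_smul_top_eq_ker_eval hJ, LinearMap.mem_ker, map_sub,
    AdicCompletion.eval_of, hq, sub_self]

/-- **Completed base change** of a module of decaying functions. -/
theorem exists_equiv_completion_baseChange (hI : I.FG) (hJ : J.FG)
    (hIJ : I.map (algebraMap A B) ≤ J) {Z : Type*} {P : Type*} [AddCommGroup P] [Module A P]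
    (e : P ≃ₗ[A] decaying I Z (AdicCompletion I A)) :
    Nonempty (AdicCompletion J (B ⊗[A] P) ≃ₗ[B] decaying J Z (AdicCompletion J B)) := by
  classical
  have : IsAdicComplete J (AdicCompletion J B) := AdicCompletion.isAdicComplete hJ
  have hDJ : IsAdicComplete J (decaying J Z (AdicCompletion J B)) :=
    isAdicComplete_decaying J Z hJ
  have hQJ : IsAdicComplete J (AdicCompletion J (B ⊗[A] P)) := AdicCompletion.isAdicComplete hJ
  have hDI : IsAdicComplete I (decaying J Z (AdicCompletion J B)) :=
    isAdicComplete_restrict I J hI hIJ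
  have hQI : IsHausdorff I (AdicCompletion J (B ⊗[A] P)) := IsHausdorff.of_map hIJ
  let ι : B ⊗[A] P →ₗ[B] AdicCompletion J (B ⊗[A] P) := AdicCompletion.of J (B ⊗[A] P)
  let fam : Z → AdicCompletion J (B ⊗[A] P) := fun z =>
    ι (1 ⊗ₜ e.symm (single I z (1 : AdicCompletion I A)))
  let Φ : decaying J Z (AdicCompletion J B) →ₗ[B] AdicCompletion J (B ⊗[A] P) :=
    ofFamily J hJ fam
  let ψ : P →ₗ[A] decaying J Z (AdicCompletion J B) :=
    (ofFamily I hI (fun z => single J z (1 : AdicCompletion J B))).comp e.toLinearMap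
  let Ψ₀ : B ⊗[A] P →ₗ[B] decaying J Z (AdicCompletion J B) := ψ.liftBaseChange B
  let Ψ : AdicCompletion J (B ⊗[A] P) →ₗ[B] decaying J Z (AdicCompletion J B) :=
    (AdicCompletion.ofLinearEquiv J (decaying J Z (AdicCompletion J B))).symm.toLinearMap ∘ₗ
      AdicCompletion.map J Ψ₀
  have hΨι : ∀ q, Ψ (ι q) = Ψ₀ q := by
    intro q
    show (AdicCompletion.ofLinearEquiv J _).symm (AdicCompletion.map J Ψ₀ (AdicCompletion.of J _ q))
      = _
    rw [AdicCompletion.map_of, AdicCompletion.ofLinearEquiv_symm_of]
  have hψ : ∀ z, ψ (e.symm (single I z (1 : AdicCompletion I A))) =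
      single J z (1 : AdicCompletion J B) := by
    intro z
    show ofFamily I hI _ (e (e.symm _)) = _
    rw [e.apply_symm_apply, ofFamily_single]
  have h1 : Ψ ∘ₗ Φ = LinearMap.id := by
    rw [← sub_eq_zero]
    apply eq_zero_of_single_one J hJ
    intro z
    rw [LinearMap.sub_apply, LinearMap.comp_apply, LinearMap.id_apply, sub_eq_zero]
    show Ψ (ofFamily J hJ fam (single J z 1)) = _
    rw [ofFamily_single, hΨι]
    show ψ.liftBaseChange B (1 ⊗ₜ _) = _
    rw [LinearMap.liftBaseChange_one_tmul, hψ]
  have hP : ∀ p : P, Φ (ψ p) = ι (1 ⊗ₜ p) := by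
    let χ : decaying I Z (AdicCompletion I A) →ₗ[A] AdicCompletion J (B ⊗[A] P) :=
      ((Φ.restrictScalars A).comp ψ -
        (ι.restrictScalars A).comp (TensorProduct.mk A B P 1)).comp e.symm.toLinearMap
    have hχ : χ = 0 := by
      apply eq_zero_of_single_one I hI
      intro z
      show Φ (ψ (e.symm _)) - ι (1 ⊗ₜ e.symm _) = 0
      rw [hψ, sub_eq_zero]
      show ofFamily J hJ fam (single J z 1) = _
      rw [ofFamily_single]
    intro p
    have h3 := LinearMap.congr_fun hχ (e p)
    have h4 : χ (e p) = Φ (ψ p) - ι (1 ⊗ₜ p) := by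
      show Φ (ψ (e.symm (e p))) - ι (1 ⊗ₜ e.symm (e p)) = _
      rw [e.symm_apply_apply]
    rw [h4, LinearMap.zero_apply, sub_eq_zero] at h3
    exact h3
  have hQ : ∀ q : B ⊗[A] P, Φ (Ψ₀ q) = ι q := by
    intro q
    induction q using TensorProduct.induction_on with
    | zero => simp
    | tmul b p =>
      have : b ⊗ₜ[A] p = b • (1 ⊗ₜ[A] p : B ⊗[A] P) := by
        rw [TensorProduct.smul_tmul', smul_eq_mul, mul_one]
      rw [this, map_smul, map_smul, map_smul]
      congr 1
      show Φ (ψ.liftBaseChange B (1 ⊗ₜ p)) = _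
      rw [LinearMap.liftBaseChange_one_tmul, hP]
    | add x y hx hy => rw [map_add, map_add, map_add, hx, hy]
  have h2 : Φ ∘ₗ Ψ = LinearMap.id := by
    apply LinearMap.ext
    intro x
    rw [LinearMap.comp_apply, LinearMap.id_apply, ← sub_eq_zero]
    apply IsHausdorff.haus' (I := J)
    intro n
    rw [SModEq.zero]
    obtain ⟨q, hq⟩ := exists_sub_of_mem J hJ n x
    have h6 : Φ (Ψ (ι q)) = ι q := by rw [hΨι, hQ]
    have h5 : Φ (Ψ x) - x = Φ (Ψ (x - ι q)) - (x - ι q) := by
      rw [map_sub Ψ, map_sub Φ, h6]
      abel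
    rw [h5]
    exact Submodule.sub_mem _ (map_mem_pow_smul_top J (Φ ∘ₗ Ψ) n hq) hq
  exact ⟨LinearEquiv.ofLinearMap Ψ Φ h1 h2⟩

end BaseChange

end Groth.Agent.Lib.AdicBaseChange
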