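import Mathlib.RingTheory.AdicCompletion.Basic
import Mathlib.RingTheory.Finiteness.Ideal
import Mathlib.RingTheory.Ideal.Operations

/-!
If `I ≤ J` with `I` finitely generated and `M` is `J`-adically complete, then `M` is `I`-adically
complete (Stacks 090T).  The key point: for a finitely generated ideal `K`, the submodule `K • ⊤`
is closed for `J`-adically convergent series whose terms lie in `K • (J ^ t • ⊤)`.
-/

set_option autoImplicit false
universe u v

namespace Groth.Agent.Lib.AdicClosed

open Submodule

variable {A : Type u} [CommRing A] {M : Type v} [AddCommGroup M] [Module A M]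

theorem mem_span_range_smul_iff {s : ℕ} (k : Fin s → A) (N : Submodule A M) (x : M) :
    x ∈ (Ideal.span (Set.range k)) • N ↔
      ∃ n : Fin s → M, (∀ j, n j ∈ N) ∧ x = ∑ j, k j • n j := by
  constructor
  · intro hx
    refine Submodule.smul_induction_on hx ?_ ?_
    · intro r hr n hn
      obtain ⟨c, rfl⟩ := (Submodule.mem_span_range_iff_exists_fun A).1 hr
      refine ⟨fun j => c j • n, fun j => N.smul_mem _ hn, ?_⟩
      rw [Finset.sum_smul]
      refine Finset.sum_congr rfl fun j _ => ?_
      rw [smul_eq_mul, mul_comm, mul_smul]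
    · rintro x y ⟨n, hn, rfl⟩ ⟨n', hn', rfl⟩
      refine ⟨fun j => n j + n' j, fun j => N.add_mem (hn j) (hn' j), ?_⟩
      rw [← Finset.sum_add_distrib]
      refine Finset.sum_congr rfl fun j _ => ?_
      rw [smul_add]
  · rintro ⟨n, hn, rfl⟩
    exact Submodule.sum_mem _ fun j _ =>
      Submodule.smul_mem_smul (Ideal.subset_span ⟨j, rfl⟩) (hn j)

/-- Closedness of `K • ⊤` under suitable `J`-adically convergent telescoping sequences. -/
theorem mem_smul_top_of_tendsto (J : Ideal A) [IsAdicComplete J M] {K : Ideal A} (hK : K.FG)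
    (F : ℕ → M) (hF : ∀ T, F (T + 1) - F T ∈ K • (J ^ T • ⊤ : Submodule A M)) (L : M)
    (hL : ∀ T, F T ≡ L [SMOD (J ^ T • ⊤ : Submodule A M)]) :
    L - F 0 ∈ (K • ⊤ : Submodule A M) := by
  obtain ⟨s, k, hk⟩ := (Submodule.fg_iff_exists_fin_generating_family).1 hK
  have hk' : Ideal.span (Set.range k) = K := hk
  have hn : ∀ T, ∃ n : Fin s → M, (∀ j, n j ∈ (J ^ T • ⊤ : Submodule A M)) ∧
      F (T + 1) - F T = ∑ j, k j • n j := by
    intro T
    have := hF T
    rw [← hk', mem_span_range_smul_iff] at this
    exact this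
  choose n hnmem hnsum using hn
  -- partial sums
  let S : ℕ → Fin s → M := fun T j => ∑ t ∈ Finset.range T, n t j
  have hScauchy : ∀ j, AdicCompletion.IsAdicCauchy J M (fun T => S T j) := by
    intro j
    rw [AdicCompletion.isAdicCauchy_iff]
    intro T
    rw [SModEq.sub_mem]
    have : S T j - S (T + 1) j = - n T j := by
      simp only [S, Finset.sum_range_succ]; abel
    rw [this]
    exact Submodule.neg_mem _ (hnmem T j)
  have hlim : ∀ j, ∃ Nj : M, ∀ T, S T j ≡ Nj [SMOD (J ^ T • ⊤ : Submodule A M)] :=
    fun j => IsPrecomplete.prec' _ (hScauchy j)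
  choose N hN using hlim
  have hsum : ∀ T, ∑ j, k j • S T j = F T - F 0 := by
    intro T
    induction T with
    | zero => simp [S]
    | succ T ih =>
      have : ∑ j, k j • S (T + 1) j = ∑ j, k j • S T j + ∑ j, k j • n T j := by
        rw [← Finset.sum_add_distrib]
        refine Finset.sum_congr rfl fun j _ => ?_
        simp only [S, Finset.sum_range_succ, smul_add]
      rw [this, ih, ← hnsum T]
      abel
  have hfin : L - F 0 = ∑ j, k j • N j := by
    have hH : IsHausdorff J M := inferInstance
    rw [← sub_eq_zero]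
    apply hH.haus'
    intro T
    rw [SModEq.sub_mem, sub_zero]
    have h1 : (L - F 0) - ∑ j, k j • N j =
        (L - F T) + ∑ j, k j • (S T j - N j) := by
      simp only [smul_sub, Finset.sum_sub_distrib, hsum T]
      abel
    rw [h1]
    refine Submodule.add_mem _ ?_ (Submodule.sum_mem _ fun j _ => Submodule.smul_mem _ _ ?_)
    · have := hL T
      rw [SModEq.sub_mem] at this
      have h2 : L - F T = -(F T - L) := by abel
      rw [h2]
      exact Submodule.neg_mem _ this
    · have := hN j T
      rwa [SModEq.sub_mem] at this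
  rw [hfin]
  exact Submodule.sum_mem _ fun j _ =>
    Submodule.smul_mem_smul (hk' ▸ Ideal.subset_span ⟨j, rfl⟩) mem_top

/-- Stacks 090T. -/
theorem isAdicComplete_of_le (I J : Ideal A) (hIJ : I ≤ J) (hI : I.FG) [IsAdicComplete J M] :
    IsAdicComplete I M := by
  have hle : ∀ n, (I ^ n • ⊤ : Submodule A M) ≤ J ^ n • ⊤ := fun n =>
    Submodule.smul_mono_left (Ideal.pow_right_mono hIJ n)
  have hH : IsHausdorff J M := inferInstance
  have hHaus : IsHausdorff I M := by
    refine ⟨fun x hx => hH.haus' x fun n => ?_⟩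
    have := hx n
    rw [SModEq.sub_mem] at this ⊢
    exact hle n this
  have hPre : IsPrecomplete I M := by
    refine ⟨fun f hf => ?_⟩
    have hfJ : ∀ {m n}, m ≤ n → f m ≡ f n [SMOD (J ^ m • ⊤ : Submodule A M)] := by
      intro m n hmn
      have := hf hmn
      rw [SModEq.sub_mem] at this ⊢
      exact hle m this
    obtain ⟨L, hL⟩ := IsPrecomplete.prec' (I := J) f hfJ
    refine ⟨L, fun n => ?_⟩
    have key := mem_smul_top_of_tendsto (M := M) J (K := I ^ n) (Ideal.FG.pow hI)
      (fun T => f (n + T)) (fun T => ?_) L (fun T => ?_)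
    · rw [SModEq.sub_mem]
      have h2 : f n - L = -(L - f (n + 0)) := by simp
      rw [h2]
      exact Submodule.neg_mem _ key
    · have h1 := hf (show n + T ≤ n + (T + 1) by omega)
      rw [SModEq.sub_mem] at h1
      have h2 : f (n + (T + 1)) - f (n + T) = -(f (n + T) - f (n + (T + 1))) := by abel
      rw [h2]
      apply Submodule.neg_mem
      have h3 : (I ^ (n + T) • ⊤ : Submodule A M) ≤ I ^ n • (J ^ T • ⊤ : Submodule A M) := by
        rw [pow_add, Submodule.mul_smul]
        exact Submodule.smul_mono le_rfl (hle T)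
      exact h3 h1
    · have h1 := hL (n + T)
      rw [SModEq.sub_mem] at h1 ⊢
      have h3 : (J ^ (n + T) • ⊤ : Submodule A M) ≤ J ^ T • ⊤ :=
        Submodule.smul_mono_left (Ideal.pow_le_pow_right (by omega))
      exact h3 h1
  exact { toIsHausdorff := hHaus, toIsPrecomplete := hPre }

end Groth.Agent.Lib.AdicClosed
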