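import Groth.Agent.Lib.AdicNoeth
import Mathlib.RingTheory.AdicCompletion.AsTensorProduct
import Mathlib.RingTheory.Ideal.KrullsHeightTheorem
import Mathlib.RingTheory.Ideal.GoingDown
import Mathlib.RingTheory.LocalRing.ResidueField.Basic
import Mathlib.RingTheory.RegularLocalRing.Defs
import Mathlib.RingTheory.DiscreteValuationRing.TFAE
import Mathlib.RingTheory.Filtration
import Mathlib.RingTheory.AdicCompletion.Noetherian

/-!
The completion of a Noetherian local ring has the same Krull dimension.
-/

set_option autoImplicit false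
universe u

namespace Groth.Agent.Lib.AdicDim

open IsLocalRing

variable (A : Type u) [CommRing A] [IsLocalRing A] [IsNoetherianRing A]

theorem ringKrullDim_adicCompletion :
    ringKrullDim (AdicCompletion (maximalIdeal A) A) = ringKrullDim A := by
  have hN : IsNoetherianRing (AdicCompletion (maximalIdeal A) A) :=
    Groth.Agent.Lib.AdicNoeth.isNoetherianRing_adicCompletion _
  rw [← IsLocalRing.maximalIdeal_height_eq_ringKrullDim,
    ← IsLocalRing.maximalIdeal_height_eq_ringKrullDim]
  congr 1
  have key := Ideal.height_eq_height_add_of_liesOver_of_hasGoingDown (maximalIdeal A)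
    (maximalIdeal (AdicCompletion (maximalIdeal A) A))
  rw [key, ← AdicCompletion.maximalIdeal_eq_map, Ideal.map_quotient_self, Ideal.height_bot,
    add_zero]

theorem isRegularLocalRing_adicCompletion_iff :
    IsRegularLocalRing A ↔ IsRegularLocalRing (AdicCompletion (maximalIdeal A) A) := by
  have hN : IsNoetherianRing (AdicCompletion (maximalIdeal A) A) :=
    Groth.Agent.Lib.AdicNoeth.isNoetherianRing_adicCompletion _
  rw [isRegularLocalRing_iff, isRegularLocalRing_iff, ringKrullDim_adicCompletion,
    AdicCompletion.spanFinrank_maximalIdeal_eq]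

section dvr

variable {B : Type u} [CommRing B] [IsLocalRing B] [IsNoetherianRing B]

/-- In a Noetherian local ring whose maximal ideal is generated by `π`, every nonzero element is
a unit times a power of `π`. -/
theorem exists_unit_mul_pow {π : B} (hπ : maximalIdeal B = Ideal.span {π}) {x : B} (hx : x ≠ 0) :
    ∃ (n : ℕ) (u : B), IsUnit u ∧ x = u * π ^ n := by
  classical
  have hinf := Ideal.iInf_pow_eq_bot_of_isLocalRing (maximalIdeal B) Ideal.IsPrime.ne_top'
  have hex : ∃ n, x ∉ maximalIdeal B ^ n := by
    by_contra hcon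
    have hcon' : ∀ n, x ∈ maximalIdeal B ^ n := fun n => by_contra fun h => hcon ⟨n, h⟩
    have : x ∈ ⨅ i : ℕ, maximalIdeal B ^ i := by
      rw [Ideal.mem_iInf]; exact hcon'
    rw [hinf] at this
    exact hx this
  have hfind := Nat.find_spec hex
  have hpos : Nat.find hex ≠ 0 := by
    intro h0
    rw [h0] at hfind
    simp at hfind
  obtain ⟨n, hn⟩ := Nat.exists_eq_succ_of_ne_zero hpos
  have hmem : x ∈ maximalIdeal B ^ n := by
    by_contra hcon
    have := Nat.find_min' hex hcon
    omega
  rw [hπ, Ideal.span_singleton_pow, Ideal.mem_span_singleton'] at hmem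
  obtain ⟨u, hu⟩ := hmem
  refine ⟨n, u, ?_, hu.symm⟩
  by_contra hnu
  have hum : u ∈ maximalIdeal B := (IsLocalRing.mem_maximalIdeal u).2 hnu
  apply hfind
  rw [hn, Nat.succ_eq_add_one, pow_succ', ← hu]
  apply Ideal.mul_mem_mul hum
  rw [hπ, Ideal.span_singleton_pow]
  exact Ideal.mem_span_singleton_self _

theorem isDomain_of_maximalIdeal_eq_span_singleton {π : B}
    (hπ : maximalIdeal B = Ideal.span {π}) (hnil : ¬ IsNilpotent π) : IsDomain B := by
  have hnzd : NoZeroDivisors B := by
    refine ⟨fun {x y} hxy => ?_⟩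
    by_contra hcon0
    have hcon := not_or.1 hcon0
    obtain ⟨a, u, hu, rfl⟩ := exists_unit_mul_pow hπ hcon.1
    obtain ⟨b, v, hv, rfl⟩ := exists_unit_mul_pow hπ hcon.2
    apply hnil
    refine ⟨a + b, ?_⟩
    have h1 : (u * v) * π ^ (a + b) = 0 := by
      rw [pow_add]; linear_combination hxy
    exact ((hu.mul hv).mul_right_eq_zero).1 h1
  exact NoZeroDivisors.to_isDomain B

theorem exists_isDiscreteValuationRing_of_maximalIdeal_eq_span_singleton {π : B}
    (hπ : maximalIdeal B = Ideal.span {π}) (hnil : ¬ IsNilpotent π) :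
    ∃ _ : IsDomain B, IsDiscreteValuationRing B := by
  have hdom : IsDomain B := isDomain_of_maximalIdeal_eq_span_singleton hπ hnil
  refine ⟨hdom, ?_⟩
  have hnf : ¬ IsField B := by
    intro hf
    have h0 : maximalIdeal B = ⊥ := IsLocalRing.isField_iff_maximalIdeal_eq.1 hf
    rw [hπ, Ideal.span_singleton_eq_bot] at h0
    exact hnil (h0 ▸ IsNilpotent.zero)
  have h40 := (IsDiscreteValuationRing.TFAE B hnf).out 4 0
  exact h40.1 ⟨⟨π, hπ⟩⟩

end dvr

theorem isDiscreteValuationRing_iff_adicCompletion :
    (∃ _ : IsDomain A, IsDiscreteValuationRing A) ↔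
      ∃ _ : IsDomain (AdicCompletion (maximalIdeal A) A),
        IsDiscreteValuationRing (AdicCompletion (maximalIdeal A) A) := by
  have hN : IsNoetherianRing (AdicCompletion (maximalIdeal A) A) :=
    Groth.Agent.Lib.AdicNoeth.isNoetherianRing_adicCompletion _
  have hinj : Function.Injective (algebraMap A (AdicCompletion (maximalIdeal A) A)) :=
    AdicCompletion.of_injective (maximalIdeal A) A
  constructor
  · rintro ⟨hdom, hdvr⟩
    obtain ⟨π, hπ⟩ := (IsPrincipalIdealRing.principal (maximalIdeal A)).principal
    have hπ' : maximalIdeal A = Ideal.span {π} := hπ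
    have hπ0 : π ≠ 0 := by
      rintro rfl
      apply IsDiscreteValuationRing.not_a_field A
      rw [hπ']; simp
    apply exists_isDiscreteValuationRing_of_maximalIdeal_eq_span_singleton
      (π := algebraMap A (AdicCompletion (maximalIdeal A) A) π)
    · rw [AdicCompletion.maximalIdeal_eq_map, hπ', Ideal.map_span, Set.image_singleton]
    · rintro ⟨n, hn⟩
      rw [← map_pow, map_eq_zero_iff _ hinj] at hn
      exact hπ0 (pow_eq_zero_iff (by
        rintro rfl
        simp at hn
        ) |>.1 hn)
  · rintro ⟨hdom, hdvr⟩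
    have hdomA : IsDomain A := hinj.isDomain _
    refine ⟨hdomA, ?_⟩
    rw [← IsLocalRing.finrank_CotangentSpace_eq_one_iff,
      ← IsLocalRing.spanFinrank_maximalIdeal_eq_finrank_cotangentSpace,
      ← AdicCompletion.spanFinrank_maximalIdeal_eq,
      IsLocalRing.spanFinrank_maximalIdeal_eq_finrank_cotangentSpace]
    exact IsLocalRing.finrank_CotangentSpace_eq_one _

end Groth.Agent.Lib.AdicDim
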