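import Mathlib.RingTheory.AdicCompletion.Exactness
import Mathlib.RingTheory.AdicCompletion.Functoriality

/-!
# Exactness of adic completion under an Artin-Rees type condition (helper88)

If `0 → K → M → N → 0` is exact and `i⁻¹(I^(n+c) M) ≤ I^n K` for all `n`, then the sequence of
`I`-adic completions is exact.
-/

set_option autoImplicit false
universe u v w t

namespace Groth.Agent.Lib.AdicExact

open AdicCompletion

variable {R : Type u} [CommRing R] (I : Ideal R) {K : Type v} {M : Type w} {N : Type t}
  [AddCommGroup K] [Module R K] [AddCommGroup M] [Module R M] [AddCommGroup N] [Module R N]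
  (i : K →ₗ[R] M) (g : M →ₗ[R] N)

/-- The Artin-Rees type condition. -/
def ARCond (c : ℕ) : Prop :=
  ∀ (n : ℕ) (x : K), i x ∈ (I ^ (n + c) • ⊤ : Submodule R M) → x ∈ (I ^ n • ⊤ : Submodule R K)

variable {I i g}

theorem mk_eq_zero_iff (a : AdicCauchySequence I K) :
    AdicCompletion.mk I K a = 0 ↔ ∀ n, a n ∈ (I ^ n • ⊤ : Submodule R K) := by
  constructor
  · intro h n
    have := congrArg (fun x => x.val n) h
    simp only [mk_apply_coe, Submodule.mkQ_apply, val_zero, Pi.zero_apply] at this
    rwa [Submodule.Quotient.mk_eq_zero] at this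
  · intro h
    apply AdicCompletion.ext
    intro n
    rw [mk_apply_coe, Submodule.mkQ_apply, val_zero, Pi.zero_apply,
      Submodule.Quotient.mk_eq_zero]
    exact h n

theorem map_injective_of_ARCond {c : ℕ} (hAR : ARCond I i c) :
    Function.Injective (AdicCompletion.map I i) := by
  rw [← LinearMap.ker_eq_bot, eq_bot_iff]
  intro x hx
  obtain ⟨a, rfl⟩ := AdicCompletion.mk_surjective I K x
  rw [LinearMap.mem_ker, map_mk, mk_eq_zero_iff] at hx
  rw [Submodule.mem_bot, mk_eq_zero_iff]
  intro n
  have h1 : a (n + c) ∈ (I ^ n • ⊤ : Submodule R K) := hAR n _ (hx (n + c))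
  have h2 : a n ≡ a (n + c) [SMOD (I ^ n • ⊤ : Submodule R K)] := a.2 (Nat.le_add_right n c)
  rw [SModEq.sub_mem] at h2
  have : a n = (a n - a (n + c)) + a (n + c) := by abel
  rw [this]
  exact Submodule.add_mem _ h2 h1

theorem map_exact_of_ARCond {c : ℕ} (hAR : ARCond I i c) (hg : Function.Surjective g)
    (hig : Function.Exact i g) :
    Function.Exact (AdicCompletion.map I i) (AdicCompletion.map I g) := by
  refine LinearMap.exact_of_comp_eq_zero_of_ker_le_range ?_ (fun y hy ↦ ?_)
  · rw [AdicCompletion.map_comp, hig.linearMap_comp_eq_zero, AdicCompletion.map_zero]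
  · obtain ⟨b, rfl⟩ := AdicCompletion.mk_surjective I M y
    rw [LinearMap.mem_ker, map_mk, mk_eq_zero_iff] at hy
    have h1 : ∀ n, ∃ a : K, b n - i a ∈ (I ^ n • ⊤ : Submodule R M) := by
      intro n
      have h2 : g (b n) ∈ (I ^ n • ⊤ : Submodule R M).map g := by
        rw [Submodule.map_smul'', Submodule.map_top, LinearMap.range_eq_top.mpr hg]
        exact hy n
      obtain ⟨d, hd, hdg⟩ := h2
      have h3 : g (b n - d) = 0 := by rw [map_sub, hdg, sub_self]
      obtain ⟨a, ha⟩ := (hig _).mp h3
      refine ⟨a, ?_⟩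
      rw [ha]
      simpa using hd
    choose a ha using h1
    have hcauchy : IsAdicCauchy I K (fun n => a (n + c)) := by
      intro m n hmn
      rw [SModEq.sub_mem]
      apply hAR m
      rw [map_sub]
      have h4 : i (a (m + c)) - i (a (n + c)) =
          (b (m + c) - b (n + c)) - (b (m + c) - i (a (m + c))) + (b (n + c) - i (a (n + c))) := by
        abel
      rw [h4]
      refine Submodule.add_mem _ (Submodule.sub_mem _ ?_ (ha (m + c))) ?_
      · rw [← SModEq.sub_mem]
        exact b.2 (Nat.add_le_add_right hmn c)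
      · exact Submodule.smul_mono_left (Ideal.pow_le_pow_right (Nat.add_le_add_right hmn c))
          (ha (n + c))
    refine ⟨AdicCompletion.mk I K ⟨fun n => a (n + c), hcauchy⟩, ?_⟩
    rw [map_mk, ← sub_eq_zero, ← map_sub, mk_eq_zero_iff]
    intro n
    change i (a (n + c)) - b n ∈ (I ^ n • ⊤ : Submodule R M)
    have h5 : i (a (n + c)) - b n = - (b (n + c) - i (a (n + c))) + (b (n + c) - b n) := by abel
    rw [h5]
    refine Submodule.add_mem _ (Submodule.neg_mem _ ?_) ?_
    · exact Submodule.smul_mono_left (Ideal.pow_le_pow_right (Nat.le_add_right n c)) (ha (n + c))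
    · rw [← SModEq.sub_mem]
      exact (b.2 (Nat.le_add_right n c)).symm

end Groth.Agent.Lib.AdicExact
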