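import Mathlib.RingTheory.RegularLocalRing.Defs
import Mathlib.RingTheory.KrullDimension.Regular
import Mathlib.RingTheory.LocalRing.RingHom.Basic
import Mathlib.RingTheory.Ideal.Quotient.Operations
import Mathlib.RingTheory.Ideal.MinimalPrime.Noetherian
import Mathlib.RingTheory.Nakayama
import Mathlib.RingTheory.KrullDimension.NonZeroDivisors
import Mathlib.RingTheory.Regular.RegularSequence

set_option autoImplicit false
universe u

namespace Groth.Agent.Lib.RegularLocal

open IsLocalRing Pointwise RingTheory.Sequence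

variable {R : Type*} [CommRing R]

/-- Lifting generators: an ideal containing `x` needs at most one more generator than its image
modulo `x`. -/
lemma spanFinrank_le_map_mk_add_one (J : Ideal R) (x : R) (hx : x ∈ J)
    (hfg : (J.map (Ideal.Quotient.mk (Ideal.span {x}))).FG) :
    J.spanFinrank ≤ (J.map (Ideal.Quotient.mk (Ideal.span {x}))).spanFinrank + 1 := by
  classical
  set mk := Ideal.Quotient.mk (Ideal.span ({x} : Set R)) with hmk
  obtain ⟨s, hs_card, hs_span⟩ := Submodule.FG.exists_span_finset_card_eq_spanFinrank hfg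
  have hsurj : Function.Surjective mk := Ideal.Quotient.mk_surjective
  let g := Function.surjInv hsurj
  let t : Finset R := s.image g
  have ht_img : mk '' (t : Set R) = (s : Set _) := by
    ext y
    simp only [t, Finset.coe_image, Set.mem_image, Finset.mem_coe]
    constructor
    · rintro ⟨_, ⟨z, hz, rfl⟩, rfl⟩
      rwa [Function.surjInv_eq hsurj]
    · intro hy
      exact ⟨g y, ⟨y, hy, rfl⟩, Function.surjInv_eq hsurj y⟩
  have hmap : (Ideal.span (t : Set R)).map mk = J.map mk := by
    rw [Ideal.map_span, ht_img]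
    exact hs_span
  have hJ : J = Ideal.span ((t : Set R) ∪ {x}) := by
    have h1 : (J.map mk).comap mk = J := by
      rw [Ideal.comap_map_of_surjective mk hsurj, ← RingHom.ker_eq_comap_bot, Ideal.mk_ker]
      exact sup_eq_left.mpr ((Ideal.span_singleton_le_iff_mem J).mpr hx)
    have h2 : ((Ideal.span (t : Set R)).map mk).comap mk = Ideal.span ((t : Set R) ∪ {x}) := by
      rw [Ideal.comap_map_of_surjective mk hsurj, ← RingHom.ker_eq_comap_bot, Ideal.mk_ker,
        Ideal.span_union]
    rw [← h1, ← hmap, h2]
  have hfin : ((t : Set R) ∪ {x}).Finite := (Finset.finite_toSet t).union (Set.finite_singleton x)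
  calc J.spanFinrank = (Ideal.span ((t : Set R) ∪ {x})).spanFinrank := by rw [← hJ]
    _ ≤ ((t : Set R) ∪ {x}).ncard := Submodule.spanFinrank_span_le_ncard_of_finite hfin
    _ ≤ (t : Set R).ncard + ({x} : Set R).ncard := Set.ncard_union_le _ _
    _ = t.card + 1 := by rw [Set.ncard_coe_finset, Set.ncard_singleton]
    _ ≤ s.card + 1 := Nat.add_le_add_right Finset.card_image_le 1
    _ = _ := by rw [hs_card]

/-- `dim R ≤ dim R/(x) + 1` for `x` in the maximal ideal of a Noetherian local ring. -/
lemma ringKrullDim_le_quotient_span_singleton_add_one [IsLocalRing R] [IsNoetherianRing R] {x : R}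
    (hx : x ∈ maximalIdeal R) :
    ringKrullDim R ≤ ringKrullDim (R ⧸ Ideal.span ({x} : Set R)) + 1 := by
  have h : Ideal.span {x} = x • (⊤ : Ideal R) := by
    simp [← Submodule.ideal_span_singleton_smul]
  rw [ringKrullDim_eq_of_ringEquiv (Ideal.quotientEquivAlgOfEq R h).toRingEquiv]
  exact ringKrullDim_le_ringKrullDim_quotSMulTop_succ hx

/-- Exchange lemma: an element of `m \ m²` is part of a minimal generating set, so the image
of `m` modulo `x` needs one generator less. -/
lemma spanFinrank_map_mk_add_one_le [IsLocalRing R] [IsNoetherianRing R] {x : R}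
    (hx : x ∈ maximalIdeal R) (hx2 : x ∉ (maximalIdeal R) ^ 2) :
    ((maximalIdeal R).map (Ideal.Quotient.mk (Ideal.span ({x} : Set R)))).spanFinrank + 1 ≤
      (maximalIdeal R).spanFinrank := by
  classical
  set mk := Ideal.Quotient.mk (Ideal.span ({x} : Set R)) with hmk
  obtain ⟨s, hs_card, hs_span⟩ := Submodule.FG.exists_span_finset_card_eq_spanFinrank
    (Ideal.fg_of_isNoetherianRing (maximalIdeal R))
  have hxs : x ∈ Submodule.span R (s : Set R) := by rw [hs_span]; exact hx
  obtain ⟨f, -, hf⟩ := Submodule.mem_span_finset.mp hxs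
  have hsm : ∀ y ∈ s, y ∈ maximalIdeal R := fun y hy => by
    rw [← hs_span]; exact Submodule.subset_span hy
  -- some coefficient is a unit
  have hex : ∃ y0 ∈ s, IsUnit (f y0) := by
    by_contra hcon
    simp only [not_exists, not_and] at hcon
    apply hx2
    rw [← hf, pow_two]
    refine Ideal.sum_mem _ fun y hy => ?_
    rw [smul_eq_mul]
    exact Ideal.mul_mem_mul ((mem_maximalIdeal _).mpr (hcon y hy)) (hsm y hy)
  obtain ⟨y0, hy0, hu⟩ := hex
  have hmapspan : (maximalIdeal R).map mk = Ideal.span (mk '' ((s.erase y0 : Finset R) : Set R)) := by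
    apply le_antisymm
    · have : maximalIdeal R = Ideal.span (s : Set R) := hs_span.symm
      rw [this, Ideal.map_span, Ideal.span_le]
      rintro _ ⟨y, hy, rfl⟩
      by_cases hyy : y = y0
      · subst hyy
        -- mk y = - u⁻¹ * Σ_{z ≠ y} f z * mk z
        have hzero : mk x = 0 := by
          rw [hmk, Ideal.Quotient.eq_zero_iff_mem]
          exact Ideal.mem_span_singleton_self x
        have hsum : mk (f y) * mk y = - ∑ z ∈ s.erase y, mk (f z) * mk z := by
          have := congrArg mk hf
          rw [hzero, map_sum, ← Finset.add_sum_erase s _ hy0] at this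
          simp only [smul_eq_mul, map_mul] at this
          exact eq_neg_of_add_eq_zero_left this
        have hu' : IsUnit (mk (f y)) := hu.map mk
        obtain ⟨u, hu''⟩ := hu'
        have hy_eq : mk y = ↑u⁻¹ * (- ∑ z ∈ s.erase y, mk (f z) * mk z) := by
          rw [← hsum, ← hu'', ← mul_assoc, Units.inv_mul, one_mul]
        rw [hy_eq]
        refine Ideal.mul_mem_left _ _ (Ideal.neg_mem_iff _ |>.mpr ?_)
        refine Ideal.sum_mem _ fun z hz => Ideal.mul_mem_left _ _ (Ideal.subset_span ?_)
        exact ⟨z, hz, rfl⟩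
      · exact Ideal.subset_span ⟨y, Finset.mem_erase.mpr ⟨hyy, hy⟩, rfl⟩
    · rw [Ideal.span_le]
      rintro _ ⟨y, hy, rfl⟩
      exact Ideal.mem_map_of_mem _ (hsm y (Finset.mem_of_mem_erase hy))
  have hfin : (mk '' ((s.erase y0 : Finset R) : Set R)).Finite := (Finset.finite_toSet _).image _
  have hcard : s.card = (s.erase y0).card + 1 := by
    rw [Finset.card_erase_of_mem hy0]
    have : 0 < s.card := Finset.card_pos.mpr ⟨y0, hy0⟩
    omega
  calc ((maximalIdeal R).map mk).spanFinrank + 1
      = (Ideal.span (mk '' ((s.erase y0 : Finset R) : Set R))).spanFinrank + 1 := by rw [hmapspan]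
    _ ≤ (mk '' ((s.erase y0 : Finset R) : Set R)).ncard + 1 :=
        Nat.add_le_add_right (Submodule.spanFinrank_span_le_ncard_of_finite hfin) 1
    _ ≤ ((s.erase y0 : Finset R) : Set R).ncard + 1 :=
        Nat.add_le_add_right (Set.ncard_image_le (Finset.finite_toSet _)) 1
    _ = (s.erase y0).card + 1 := by rw [Set.ncard_coe_finset]
    _ = s.card := hcard.symm
    _ = _ := hs_card

/-- If `R` is a regular local ring and `x ∈ m` is such that the image of `m` in `R/(x)` needs
fewer generators, then `R/(x)` is regular local. -/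
lemma isRegularLocalRing_quotient_of_spanFinrank {R : Type*} [CommRing R] [IsRegularLocalRing R]
    {x : R} (hx : x ∈ maximalIdeal R)
    (h : ((maximalIdeal R).map (Ideal.Quotient.mk (Ideal.span ({x} : Set R)))).spanFinrank + 1 ≤
      (maximalIdeal R).spanFinrank) :
    ∃ (_ : IsRegularLocalRing (R ⧸ Ideal.span ({x} : Set R))),
      (maximalIdeal (R ⧸ Ideal.span ({x} : Set R))).spanFinrank + 1 =
        (maximalIdeal R).spanFinrank := by
  have hne : Ideal.span ({x} : Set R) ≠ ⊤ := by
    intro htop
    have : (1 : R) ∈ maximalIdeal R := by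
      have h1 : (1 : R) ∈ Ideal.span ({x} : Set R) := by rw [htop]; trivial
      exact (Ideal.span_singleton_le_iff_mem _).mpr hx h1
    exact (Ideal.ne_top_iff_one _).mp (maximalIdeal.isMaximal R).ne_top this
  have : Nontrivial (R ⧸ Ideal.span ({x} : Set R)) := Ideal.Quotient.nontrivial_iff.mpr hne
  have : IsLocalRing (R ⧸ Ideal.span ({x} : Set R)) :=
    IsLocalRing.of_surjective' (Ideal.Quotient.mk _) Ideal.Quotient.mk_surjective
  have hmap : (maximalIdeal R).map (Ideal.Quotient.mk (Ideal.span ({x} : Set R))) =
      maximalIdeal (R ⧸ Ideal.span ({x} : Set R)) :=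
    IsLocalRing.map_maximalIdeal_of_surjective _ Ideal.Quotient.mk_surjective
  rw [hmap] at h
  have h2 := ringKrullDim_le_quotient_span_singleton_add_one hx
  have h3 : ((maximalIdeal R).spanFinrank : WithBot ℕ∞) = ringKrullDim R :=
    IsRegularLocalRing.spanFinrank_maximalIdeal
  have hle : ((maximalIdeal (R ⧸ Ideal.span ({x} : Set R))).spanFinrank : WithBot ℕ∞) ≤
      ringKrullDim (R ⧸ Ideal.span ({x} : Set R)) := by
    rw [← ENat.WithBot.add_le_add_one_right_iff]
    refine le_trans ?_ h2
    rw [← h3]
    exact_mod_cast h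
  have hreg : IsRegularLocalRing (R ⧸ Ideal.span ({x} : Set R)) :=
    IsRegularLocalRing.of_spanFinrank_maximalIdeal_le _ hle
  refine ⟨hreg, le_antisymm h ?_⟩
  have h4 := spanFinrank_le_map_mk_add_one (maximalIdeal R) x hx (Ideal.fg_of_isNoetherianRing _)
  rwa [hmap] at h4

theorem isDomain_aux (n : ℕ) : ∀ (R : Type u) [CommRing R] [IsRegularLocalRing R],
    (maximalIdeal R).spanFinrank = n → IsDomain R := by
  induction n using Nat.strong_induction_on with
  | _ n ih =>
    intro R _ _ hn
    by_cases hm : maximalIdeal R = ⊥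
    · exact (IsLocalRing.isField_iff_maximalIdeal_eq.mpr hm).isDomain
    · have hjac : maximalIdeal R ≤ Ideal.jacobson ⊥ :=
        (IsLocalRing.jacobson_eq_maximalIdeal _ bot_ne_top).ge
      have hne : ¬ (maximalIdeal R ≤ maximalIdeal R ^ 2) := by
        intro hle
        apply hm
        refine Submodule.eq_bot_of_le_smul_of_le_jacobson_bot (maximalIdeal R) (maximalIdeal R)
          (Ideal.fg_of_isNoetherianRing _) ?_ hjac
        rwa [smul_eq_mul, ← pow_two]
      have hnotmin : ∀ p ∈ minimalPrimes R, ¬ (maximalIdeal R ≤ p) := by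
        intro p hp hle
        have hpp : p.IsPrime := hp.1.1
        have hpeq : p = maximalIdeal R := le_antisymm (IsLocalRing.le_maximalIdeal hpp.ne_top) hle
        rw [hpeq] at hp
        have h0 : (maximalIdeal R).height = 0 := Ideal.height_eq_zero_iff.mpr hp
        have h1 : ringKrullDim R = 0 := by
          rw [← IsLocalRing.maximalIdeal_height_eq_ringKrullDim, h0]; rfl
        have h3 : ((maximalIdeal R).spanFinrank : WithBot ℕ∞) = ringKrullDim R :=
          IsRegularLocalRing.spanFinrank_maximalIdeal
        rw [h1] at h3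
        have h4 : (maximalIdeal R).spanFinrank = 0 := by exact_mod_cast h3
        exact hm ((Submodule.spanFinrank_eq_zero_iff_eq_bot (Ideal.fg_of_isNoetherianRing _)).mp h4)
      obtain ⟨x, hxm, hx2, hxmin⟩ : ∃ x ∈ maximalIdeal R, x ∉ maximalIdeal R ^ 2 ∧
          ∀ p ∈ minimalPrimes R, x ∉ p := by
        by_contra hcon
        simp only [not_exists, not_and, not_forall, not_not] at hcon
        have hfin := minimalPrimes.finite_of_isNoetherianRing R
        have hsub : ((maximalIdeal R : Ideal R) : Set R) ⊆
            ((maximalIdeal R ^ 2 : Ideal R) : Set R) ∪ ((maximalIdeal R ^ 2 : Ideal R) : Set R) ∪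
              ⋃ i ∈ ((hfin.toFinset : Finset (Ideal R)) : Set (Ideal R)), ((id i : Ideal R) : Set R) := by
          intro y hy
          by_cases hy2 : y ∈ maximalIdeal R ^ 2
          · exact Or.inl (Or.inl hy2)
          · obtain ⟨p, hp, hyp⟩ := hcon y hy hy2
            refine Or.inr ?_
            simp only [Set.mem_iUnion]
            exact ⟨p, by simpa using hp, hyp⟩
        rcases (Ideal.subset_union_prime' (f := id) (s := hfin.toFinset)
          (fun i hi => ((hfin.mem_toFinset).mp hi).1.1)).mp hsub with h | h | ⟨p, hp, h⟩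
        · exact hne h
        · exact hne h
        · exact hnotmin p ((hfin.mem_toFinset).mp hp) h
      obtain ⟨hreg, hcard⟩ := isRegularLocalRing_quotient_of_spanFinrank hxm
        (spanFinrank_map_mk_add_one_le hxm hx2)
      have hdom : IsDomain (R ⧸ Ideal.span ({x} : Set R)) :=
        ih _ (by omega) (R ⧸ Ideal.span ({x} : Set R)) rfl
      have hprime : (Ideal.span ({x} : Set R)).IsPrime := (Ideal.Quotient.isDomain_iff_prime _).mp hdom
      obtain ⟨p, hp, hpx⟩ := Ideal.exists_minimalPrimes_le (I := ⊥) (J := Ideal.span ({x} : Set R)) bot_le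
      have hpp : p.IsPrime := hp.1.1
      have hxp : x ∉ p := hxmin p hp
      have hpbot : p = ⊥ := by
        refine Submodule.eq_bot_of_le_smul_of_le_jacobson_bot (Ideal.span ({x} : Set R)) p
          (Ideal.fg_of_isNoetherianRing _) ?_
          (le_trans ((Ideal.span_singleton_le_iff_mem _).mpr hxm) hjac)
        intro y hy
        obtain ⟨a, rfl⟩ := Ideal.mem_span_singleton'.mp (hpx hy)
        have hap : a ∈ p := (hpp.mem_or_mem hy).resolve_right hxp
        rw [smul_eq_mul, mul_comm a x]
        exact Ideal.mul_mem_mul (Ideal.mem_span_singleton_self x) hap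
      rw [hpbot] at hpp
      exact IsDomain.of_bot_isPrime R

/-- A regular local ring is a domain. -/
theorem isDomain (R : Type u) [CommRing R] [IsRegularLocalRing R] : IsDomain R :=
  isDomain_aux _ R rfl

/-- Generators of the maximal ideal of a regular local ring, as many as its embedding dimension,
form a weakly regular sequence. -/
theorem isWeaklyRegular_ofFn_aux (d : ℕ) : ∀ (R : Type u) [CommRing R] [IsRegularLocalRing R]
    (x : Fin d → R), (maximalIdeal R).spanFinrank = d →
    Ideal.span (Set.range x) = maximalIdeal R → IsWeaklyRegular R (List.ofFn x) := by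
  induction d with
  | zero =>
    intro R _ _ x _ _
    simp
  | succ d ih =>
    intro R _ _ x hd hx
    have hdom : IsDomain R := isDomain R
    rw [List.ofFn_succ, isWeaklyRegular_cons_iff]
    have hx0m : x 0 ∈ maximalIdeal R := by
      rw [← hx]; exact Ideal.subset_span ⟨0, rfl⟩
    set mk := Ideal.Quotient.mk (Ideal.span ({x 0} : Set R)) with hmk
    have hmk0 : mk (x 0) = 0 := by
      rw [hmk, Ideal.Quotient.eq_zero_iff_mem]
      exact Ideal.mem_span_singleton_self _
    -- the image of `m` is generated by the images of the remaining elements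
    have hmapspan : (maximalIdeal R).map mk = Ideal.span (Set.range (fun i : Fin d => mk (x i.succ))) := by
      rw [← hx, Ideal.map_span]
      apply le_antisymm
      · rw [Ideal.span_le]
        rintro _ ⟨_, ⟨i, rfl⟩, rfl⟩
        refine Fin.cases ?_ (fun j => ?_) i
        · rw [hmk0]; exact Ideal.zero_mem _
        · exact Ideal.subset_span ⟨j, rfl⟩
      · apply Ideal.span_mono
        rintro _ ⟨j, rfl⟩
        exact ⟨x j.succ, ⟨j.succ, rfl⟩, rfl⟩
    have hle : ((maximalIdeal R).map mk).spanFinrank + 1 ≤ (maximalIdeal R).spanFinrank := by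
      rw [hd, hmapspan]
      refine Nat.add_le_add_right ?_ 1
      refine le_trans (Submodule.spanFinrank_span_le_ncard_of_finite (Set.finite_range _)) ?_
      have := Set.ncard_image_le (f := fun i : Fin d => mk (x i.succ)) (Set.finite_univ)
      rw [Set.image_univ] at this
      refine le_trans this ?_
      simp
    obtain ⟨hreg, hcard⟩ := isRegularLocalRing_quotient_of_spanFinrank hx0m hle
    have hd' : (maximalIdeal (R ⧸ Ideal.span ({x 0} : Set R))).spanFinrank = d := by omega
    have hmap : (maximalIdeal R).map mk = maximalIdeal (R ⧸ Ideal.span ({x 0} : Set R)) :=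
      IsLocalRing.map_maximalIdeal_of_surjective _ Ideal.Quotient.mk_surjective
    constructor
    · -- `x 0 ≠ 0` and `R` is a domain
      have hne : x 0 ≠ 0 := by
        intro h0
        have hbot : Ideal.span ({x 0} : Set R) = ⊥ := by rw [h0]; simp
        -- then `m` is generated by `d` elements
        have h1 : maximalIdeal R = Ideal.span (Set.range (fun i : Fin d => x i.succ)) := by
          rw [← hx]
          apply le_antisymm
          · rw [Ideal.span_le]
            rintro _ ⟨i, rfl⟩
            refine Fin.cases ?_ (fun j => ?_) i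
            · rw [h0]; exact Ideal.zero_mem _
            · exact Ideal.subset_span ⟨j, rfl⟩
          · apply Ideal.span_mono
            rintro _ ⟨j, rfl⟩
            exact ⟨j.succ, rfl⟩
        have h2 : (maximalIdeal R).spanFinrank ≤ d := by
          rw [h1]
          refine le_trans (Submodule.spanFinrank_span_le_ncard_of_finite (Set.finite_range _)) ?_
          have := Set.ncard_image_le (f := fun i : Fin d => x i.succ) (Set.finite_univ)
          rw [Set.image_univ] at this
          refine le_trans this ?_
          simp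
        omega
      exact (IsRegular.of_ne_zero hne).left.isSMulRegular
    · have ih' := ih (R ⧸ Ideal.span ({x 0} : Set R)) (fun i => mk (x i.succ)) hd'
        (by rw [← hmap, hmapspan])
      have hlist : List.ofFn (fun i : Fin d => mk (x i.succ)) =
          (List.ofFn (fun i : Fin d => x i.succ)).map (algebraMap R (R ⧸ Ideal.span ({x 0} : Set R))) := by
        rw [List.map_ofFn]; rfl
      rw [hlist, isWeaklyRegular_map_algebraMap_iff] at ih'
      have h : Ideal.span {x 0} = x 0 • (⊤ : Ideal R) := by
        simp [← Submodule.ideal_span_singleton_smul]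
      let e : (R ⧸ Ideal.span ({x 0} : Set R)) ≃ₗ[R] QuotSMulTop (x 0) R :=
        Submodule.quotEquivOfEq _ _ h
      exact (e.isWeaklyRegular_congr _).mp ih'

lemma spanFinrank_maximalIdeal_eq_of_ringKrullDim_eq {R : Type*} [CommRing R]
    [IsRegularLocalRing R] {d : ℕ} (hd : ringKrullDim R = d) :
    (maximalIdeal R).spanFinrank = d := by
  have h3 : ((maximalIdeal R).spanFinrank : WithBot ℕ∞) = ringKrullDim R :=
    IsRegularLocalRing.spanFinrank_maximalIdeal
  rw [hd] at h3
  exact_mod_cast h3

/-- In a regular local ring of dimension `d`, any `d` generators of the maximal ideal form a regular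
sequence. -/
theorem isRegular_ofFn (R : Type u) [CommRing R] [IsRegularLocalRing R] (d : ℕ)
    (hd : ringKrullDim R = d) (x : Fin d → R)
    (hx : Ideal.span (Set.range x) = maximalIdeal R) : IsRegular R (List.ofFn x) := by
  rw [IsLocalRing.isRegular_iff_isWeaklyRegular_of_subset_maximalIdeal]
  · exact isWeaklyRegular_ofFn_aux d R x (spanFinrank_maximalIdeal_eq_of_ringKrullDim_eq hd) hx
  · intro r hr
    rw [List.mem_ofFn] at hr
    obtain ⟨i, rfl⟩ := hr
    rw [← hx]
    exact Ideal.subset_span ⟨i, rfl⟩

/-- Lifting a minimal generating set of the image of `J` modulo `I`. -/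
lemma exists_finset_lift {R : Type*} [CommRing R] (I J : Ideal R)
    (hfg : (J.map (Ideal.Quotient.mk I)).FG) :
    ∃ t : Finset R, t.card ≤ (J.map (Ideal.Quotient.mk I)).spanFinrank ∧
      Ideal.span (t : Set R) ⊔ I = J ⊔ I := by
  classical
  set mk := Ideal.Quotient.mk I with hmk
  obtain ⟨s, hs_card, hs_span⟩ := Submodule.FG.exists_span_finset_card_eq_spanFinrank hfg
  have hsurj : Function.Surjective mk := Ideal.Quotient.mk_surjective
  let g := Function.surjInv hsurj
  let t : Finset R := s.image g
  have ht_img : mk '' (t : Set R) = (s : Set _) := by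
    ext y
    simp only [t, Finset.coe_image, Set.mem_image, Finset.mem_coe]
    constructor
    · rintro ⟨_, ⟨z, hz, rfl⟩, rfl⟩
      rwa [Function.surjInv_eq hsurj]
    · intro hy
      exact ⟨g y, ⟨y, hy, rfl⟩, Function.surjInv_eq hsurj y⟩
  have hmap : (Ideal.span (t : Set R)).map mk = J.map mk := by
    rw [Ideal.map_span, ht_img]
    exact hs_span
  refine ⟨t, ?_, ?_⟩
  · rw [← hs_card]; exact Finset.card_image_le
  · have h1 : (J.map mk).comap mk = J ⊔ I := by
      rw [Ideal.comap_map_of_surjective mk hsurj, ← RingHom.ker_eq_comap_bot, Ideal.mk_ker]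
    have h2 : ((Ideal.span (t : Set R)).map mk).comap mk = Ideal.span (t : Set R) ⊔ I := by
      rw [Ideal.comap_map_of_surjective mk hsurj, ← RingHom.ker_eq_comap_bot, Ideal.mk_ker]
    rw [← h1, ← hmap, h2]

/-- If `R` and `R/I` are regular local and `I ≠ 0`, then `I` is not contained in `m²`. -/
lemma exists_mem_notMem_sq {R : Type*} [CommRing R] [IsRegularLocalRing R] (I : Ideal R)
    [IsRegularLocalRing (R ⧸ I)] (hI : I ≠ ⊥) : ∃ x ∈ I, x ∉ maximalIdeal R ^ 2 := by
  by_contra hcon
  simp only [not_exists, not_and, not_not] at hcon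
  have hI2 : I ≤ maximalIdeal R ^ 2 := fun x hx => hcon x hx
  have hdom : IsDomain R := isDomain R
  have hjac : maximalIdeal R ≤ Ideal.jacobson ⊥ :=
    (IsLocalRing.jacobson_eq_maximalIdeal _ bot_ne_top).ge
  have hmap : (maximalIdeal R).map (Ideal.Quotient.mk I) = maximalIdeal (R ⧸ I) :=
    IsLocalRing.map_maximalIdeal_of_surjective _ Ideal.Quotient.mk_surjective
  obtain ⟨t, ht_card, ht⟩ := exists_finset_lift I (maximalIdeal R) (Ideal.fg_of_isNoetherianRing _)
  rw [hmap] at ht_card
  have hle : maximalIdeal R ≤ Ideal.span (t : Set R) := by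
    refine Submodule.le_of_le_smul_of_le_jacobson_bot (I := maximalIdeal R)
      (Ideal.fg_of_isNoetherianRing _) hjac ?_
    calc maximalIdeal R ≤ maximalIdeal R ⊔ I := le_sup_left
      _ = Ideal.span (t : Set R) ⊔ I := ht.symm
      _ ≤ Ideal.span (t : Set R) ⊔ maximalIdeal R • maximalIdeal R := by
        refine sup_le_sup_left ?_ _
        rwa [smul_eq_mul, ← pow_two]
  have hIm : I ≤ maximalIdeal R := le_trans hI2 (Ideal.pow_le_self two_ne_zero)
  have heq : maximalIdeal R = Ideal.span (t : Set R) := by
    refine le_antisymm hle ?_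
    calc Ideal.span (t : Set R) ≤ Ideal.span (t : Set R) ⊔ I := le_sup_left
      _ = maximalIdeal R ⊔ I := ht
      _ = maximalIdeal R := sup_eq_left.mpr hIm
  have h1 : (maximalIdeal R).spanFinrank ≤ (maximalIdeal (R ⧸ I)).spanFinrank := by
    refine le_trans ?_ ht_card
    conv_lhs => rw [heq]
    have := Submodule.spanFinrank_span_le_ncard_of_finite (R := R) (Finset.finite_toSet t)
    rwa [Set.ncard_coe_finset] at this
  -- dimension count
  obtain ⟨r, hrI, hr0⟩ := Submodule.exists_mem_ne_zero_of_ne_bot hI
  have h2 : ringKrullDim (R ⧸ Ideal.span {r}) + 1 ≤ ringKrullDim R :=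
    ringKrullDim_quotient_succ_le_of_nonZeroDivisor (mem_nonZeroDivisors_of_ne_zero hr0)
  have hrle : Ideal.span {r} ≤ I := (Ideal.span_singleton_le_iff_mem _).mpr hrI
  have h3 : ringKrullDim (R ⧸ I) ≤ ringKrullDim (R ⧸ Ideal.span {r}) :=
    ringKrullDim_le_of_surjective (Ideal.Quotient.factor hrle) (Ideal.Quotient.factor_surjective hrle)
  have h4 : ((maximalIdeal R).spanFinrank : WithBot ℕ∞) = ringKrullDim R :=
    IsRegularLocalRing.spanFinrank_maximalIdeal
  have h5 : ((maximalIdeal (R ⧸ I)).spanFinrank : WithBot ℕ∞) = ringKrullDim (R ⧸ I) :=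
    IsRegularLocalRing.spanFinrank_maximalIdeal
  have h6 : ((maximalIdeal (R ⧸ I)).spanFinrank : WithBot ℕ∞) + 1 ≤
      ((maximalIdeal R).spanFinrank : WithBot ℕ∞) := by
    rw [h4, h5]
    exact le_trans (add_le_add_left h3 1) h2
  have h7 : (maximalIdeal (R ⧸ I)).spanFinrank + 1 ≤ (maximalIdeal R).spanFinrank := by
    exact_mod_cast h6
  omega

lemma eq_span_insert_of_map_eq {R : Type*} [CommRing R] {ι : Type*} (x0 : R) (J : Ideal R)
    (hx0 : x0 ∈ J) (y : ι → R)
    (h : J.map (Ideal.Quotient.mk (Ideal.span ({x0} : Set R))) =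
      Ideal.span (Set.range (fun i => Ideal.Quotient.mk (Ideal.span ({x0} : Set R)) (y i)))) :
    J = Ideal.span (insert x0 (Set.range y)) := by
  set mk := Ideal.Quotient.mk (Ideal.span ({x0} : Set R)) with hmk
  have hsurj : Function.Surjective mk := Ideal.Quotient.mk_surjective
  have h1 : (J.map mk).comap mk = J := by
    rw [Ideal.comap_map_of_surjective mk hsurj, ← RingHom.ker_eq_comap_bot, Ideal.mk_ker]
    exact sup_eq_left.mpr ((Ideal.span_singleton_le_iff_mem J).mpr hx0)
  have h2 : Ideal.span (Set.range (fun i => mk (y i))) = (Ideal.span (Set.range y)).map mk := by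
    rw [Ideal.map_span, ← Set.range_comp]; rfl
  have h3 : ((Ideal.span (Set.range y)).map mk).comap mk = Ideal.span (insert x0 (Set.range y)) := by
    rw [Ideal.comap_map_of_surjective mk hsurj, ← RingHom.ker_eq_comap_bot, Ideal.mk_ker,
      Ideal.span_insert, sup_comm]
  rw [← h1, h, h2, h3]

theorem exists_generators_aux (d : ℕ) : ∀ (R : Type u) [CommRing R] [IsRegularLocalRing R]
    (I : Ideal R) [IsRegularLocalRing (R ⧸ I)], (maximalIdeal R).spanFinrank = d →
    ∃ (x : Fin d → R) (c : ℕ) (hc : c ≤ d), Ideal.span (Set.range x) = maximalIdeal R ∧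
      I = Ideal.span (Set.range (fun i : Fin c => x (Fin.castLE hc i))) := by
  induction d with
  | zero =>
    intro R _ _ I _ hd
    have hm : maximalIdeal R = ⊥ :=
      (Submodule.spanFinrank_eq_zero_iff_eq_bot (Ideal.fg_of_isNoetherianRing _)).mp hd
    have hItop : I ≠ ⊤ := Ideal.Quotient.nontrivial_iff.mp inferInstance
    have hI : I = ⊥ := by
      rw [eq_bot_iff, ← hm]; exact IsLocalRing.le_maximalIdeal hItop
    refine ⟨Fin.elim0, 0, le_refl _, ?_, ?_⟩
    · rw [hm]; simp
    · rw [hI]; simp
  | succ d ih =>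
    intro R _ _ I _ hd
    have hItop : I ≠ ⊤ := Ideal.Quotient.nontrivial_iff.mp inferInstance
    by_cases hI : I = ⊥
    · obtain ⟨s, hs_card, hs_span⟩ := Submodule.FG.exists_span_finset_card_eq_spanFinrank
        (Ideal.fg_of_isNoetherianRing (maximalIdeal R))
      rw [hd] at hs_card
      refine ⟨fun i => ((s.equivFin.symm (Fin.cast hs_card.symm i) : s) : R), 0, Nat.zero_le _, ?_, ?_⟩
      · rw [← hs_span]
        congr 1
        ext z
        simp only [Set.mem_range, Finset.mem_coe]
        constructor
        · rintro ⟨i, rfl⟩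
          exact (s.equivFin.symm (Fin.cast hs_card.symm i)).2
        · intro hz
          refine ⟨Fin.cast hs_card (s.equivFin ⟨z, hz⟩), ?_⟩
          simp
      · rw [hI]; simp
    · obtain ⟨x0, hx0I, hx0sq⟩ := exists_mem_notMem_sq I hI
      have hx0m : x0 ∈ maximalIdeal R := IsLocalRing.le_maximalIdeal hItop hx0I
      obtain ⟨hreg, hcard⟩ := isRegularLocalRing_quotient_of_spanFinrank hx0m
        (spanFinrank_map_mk_add_one_le hx0m hx0sq)
      have hd' : (maximalIdeal (R ⧸ Ideal.span ({x0} : Set R))).spanFinrank = d := by omega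
      set mk := Ideal.Quotient.mk (Ideal.span ({x0} : Set R)) with hmk
      have hsurj : Function.Surjective mk := Ideal.Quotient.mk_surjective
      have hle : Ideal.span ({x0} : Set R) ≤ I := (Ideal.span_singleton_le_iff_mem _).mpr hx0I
      have hreg' : IsRegularLocalRing ((R ⧸ Ideal.span ({x0} : Set R)) ⧸ I.map mk) :=
        IsRegularLocalRing.of_ringEquiv (DoubleQuot.quotQuotEquivQuotOfLE hle).symm
      obtain ⟨x', c', hc', hx'm, hx'I⟩ := ih (R ⧸ Ideal.span ({x0} : Set R)) (I.map mk) hd'
      have hmap : (maximalIdeal R).map mk = maximalIdeal (R ⧸ Ideal.span ({x0} : Set R)) :=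
        IsLocalRing.map_maximalIdeal_of_surjective _ hsurj
      let y : Fin d → R := fun i => Function.surjInv hsurj (x' i)
      have hy : ∀ i, mk (y i) = x' i := fun i => Function.surjInv_eq hsurj (x' i)
      refine ⟨Fin.cons x0 y, c' + 1, Nat.succ_le_succ hc', ?_, ?_⟩
      · rw [Fin.range_cons]
        symm
        apply eq_span_insert_of_map_eq x0 _ hx0m y
        rw [hmap, ← hx'm]
        congr 2
        funext i
        exact (hy i).symm
      · have hrange : Set.range (fun i : Fin (c' + 1) =>
            (Fin.cons x0 y : Fin (d + 1) → R) (Fin.castLE (Nat.succ_le_succ hc') i)) =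
            insert x0 (Set.range (fun i : Fin c' => y (Fin.castLE hc' i))) := by
          ext z
          simp only [Set.mem_range, Set.mem_insert_iff]
          constructor
          · rintro ⟨i, rfl⟩
            refine Fin.cases ?_ (fun j => ?_) i
            · left; rfl
            · right; exact ⟨j, rfl⟩
          · rintro (rfl | ⟨j, rfl⟩)
            · exact ⟨0, rfl⟩
            · exact ⟨j.succ, rfl⟩
        rw [hrange]
        apply eq_span_insert_of_map_eq x0 _ hx0I
        rw [hx'I]
        congr 2
        funext i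
        exact (hy _).symm

/-- If `R` is regular local of dimension `d` and `R/I` is regular local, then `I` is generated by
part of a regular system of parameters. -/
theorem exists_generators (R : Type u) [CommRing R] [IsRegularLocalRing R] (d : ℕ)
    (hd : ringKrullDim R = d) (I : Ideal R) [IsRegularLocalRing (R ⧸ I)] :
    ∃ (x : Fin d → R) (c : ℕ) (hc : c ≤ d), Ideal.span (Set.range x) = maximalIdeal R ∧
      I = Ideal.span (Set.range (fun i : Fin c => x (Fin.castLE hc i))) :=
  exists_generators_aux d R I (spanFinrank_maximalIdeal_eq_of_ringKrullDim_eq hd)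

end Groth.Agent.Lib.RegularLocal
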