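import Groth.Agent.Lib.H87GlDim
import Groth.Agent.Lib.RegularLocal
import Mathlib.RingTheory.LocalProperties.ProjectiveDimension
import Mathlib.RingTheory.Ideal.Height

set_option autoImplicit false
universe u
open CategoryTheory Abelian IsLocalRing Pointwise

namespace Groth.Agent.Lib.H87GlDim2

open Groth.Agent.Lib.H87GlDim

variable {A : Type u} [CommRing A]

theorem ext_subsingleton_of_subsingleton_right (X Y : ModuleCat.{u} A) [Subsingleton Y] (i : ℕ) :
    Subsingleton (Ext X Y i) := by
  have hz : Limits.IsZero Y := ModuleCat.isZero_of_subsingleton Y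
  have := hz.hasInjectiveDimensionLT_zero
  exact HasInjectiveDimensionLT.subsingleton Y 0 i (Nat.zero_le _) X

/-- Cyclic step: if `Ext^j(M, A) = 0` and `Ext^{j+1}(M, -) = 0` then `Ext^j(M, L) = 0` for cyclic `L`. -/
theorem ext_subsingleton_of_surjective (M : ModuleCat.{u} A) (j : ℕ)
    (h1 : Subsingleton (Ext M (ModuleCat.of A A) j))
    (h2 : ∀ L : ModuleCat.{u} A, Subsingleton (Ext M L (j + 1)))
    (L : ModuleCat.{u} A) (f : A →ₗ[A] L) (hf : Function.Surjective f) :
    Subsingleton (Ext M L j) := by
  have hS := LinearMap.shortExact_shortComplexKer hf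
  have := h2 f.shortComplexKer.X₁
  have key : ∀ x : Ext M L j, x = 0 := fun x => by
    obtain ⟨x₂, rfl⟩ := Ext.covariant_sequence_exact₃ M hS x rfl (Subsingleton.elim _ _)
    have : x₂ = 0 := Subsingleton.elim _ _
    rw [this, Ext.zero_comp]
  exact ⟨fun a b => by rw [key a, key b]⟩

theorem ext_subsingleton_of_span (M : ModuleCat.{u} A) (j : ℕ)
    (h1 : Subsingleton (Ext M (ModuleCat.of A A) j))
    (h2 : ∀ L : ModuleCat.{u} A, Subsingleton (Ext M L (j + 1))) :
    ∀ (r : ℕ) (L : ModuleCat.{u} A) (s : Fin r → L), Submodule.span A (Set.range s) = ⊤ →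
      Subsingleton (Ext M L j) := by
  intro r
  induction r with
  | zero =>
    intro L s hs
    have : Subsingleton L := by
      have h : (⊤ : Submodule A L) = ⊥ := by
        rw [← hs, Set.range_eq_empty, Submodule.span_empty]
      exact (Submodule.subsingleton_iff A).mp (subsingleton_of_bot_eq_top h.symm)
    exact ext_subsingleton_of_subsingleton_right M L j
  | succ r ih =>
    intro L s hs
    let g : A →ₗ[A] L := LinearMap.toSpanSingleton A L (s 0)
    let N : Submodule A L := LinearMap.range g
    have hN : Subsingleton (Ext M (ModuleCat.of A N) j) :=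
      ext_subsingleton_of_surjective M j h1 h2 (ModuleCat.of A N) g.rangeRestrict
        g.surjective_rangeRestrict
    have hQ : Subsingleton (Ext M (ModuleCat.of A (L ⧸ N)) j) := by
      refine ih (ModuleCat.of A (L ⧸ N)) (fun i => N.mkQ (s i.succ)) ?_
      rw [eq_top_iff]
      rintro y -
      obtain ⟨l, rfl⟩ := N.mkQ_surjective y
      have hl : l ∈ Submodule.span A (Set.range s) := by rw [hs]; trivial
      induction hl using Submodule.span_induction with
      | mem x hx =>
        obtain ⟨i, rfl⟩ := hx
        refine Fin.cases ?_ (fun k => ?_) i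
        · have : N.mkQ (s 0) = 0 := by
            rw [Submodule.mkQ_apply, Submodule.Quotient.mk_eq_zero]
            exact ⟨1, by simp [g]⟩
          rw [this]
          exact Submodule.zero_mem _
        · exact Submodule.subset_span ⟨k, rfl⟩
      | zero => rw [map_zero]; exact Submodule.zero_mem _
      | add x y _ _ hx hy => rw [map_add]; exact Submodule.add_mem _ hx hy
      | smul a x _ hx => rw [map_smul]; exact Submodule.smul_mem _ a hx
    let S : ShortComplex (ModuleCat.{u} A) :=
      ModuleCat.shortComplexOfCompEqZero N.subtype N.mkQ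
        (by ext y; exact (Submodule.Quotient.mk_eq_zero N).mpr y.2)
    have hS : S.ShortExact := ModuleCat.shortComplex_shortExact S
      (by
        intro y
        simp only [S, ModuleCat.hom_ofHom]
        constructor
        · intro hy
          exact ⟨⟨y, (Submodule.Quotient.mk_eq_zero N).mp hy⟩, rfl⟩
        · rintro ⟨z, rfl⟩
          exact (Submodule.Quotient.mk_eq_zero N).mpr z.2)
      (Subtype.val_injective) (Submodule.mkQ_surjective N)
    have key : ∀ x : Ext M L j, x = 0 := fun x => by
      obtain ⟨x₁, rfl⟩ := Ext.covariant_sequence_exact₂ M hS x (Subsingleton.elim _ _)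
      have : x₁ = 0 := Subsingleton.elim _ _
      rw [this, Ext.zero_comp]
    exact ⟨fun a b => by rw [key a, key b]⟩

variable [IsNoetherianRing A]

/-- If `pd M < j + 1` and `Ext^j(M, A) = 0` then `pd M < j` (`M` finite over Noetherian `A`). -/
theorem hasProjectiveDimensionLT_of_ext_ring (M : ModuleCat.{u} A) [Module.Finite A M] (j : ℕ)
    (hM : HasProjectiveDimensionLT M (j + 1))
    (h1 : Subsingleton (Ext M (ModuleCat.of A A) j)) : HasProjectiveDimensionLT M j := by
  apply ModuleCat.hasProjectiveDimensionLT_of_forall_finite
  intro L hL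
  obtain ⟨r, s, hs⟩ := Module.Finite.exists_fin (R := A) (M := L)
  exact ext_subsingleton_of_span M j h1
    (fun L => HasProjectiveDimensionLT.subsingleton M (j + 1) (j + 1) le_rfl L) r L s hs

/-- Finite projective dimension: `pd M ≤ q` as soon as `Ext^i(M, A) = 0` for `i > q`. -/
theorem hasProjectiveDimensionLT_of_forall_ext_ring (M : ModuleCat.{u} A) [Module.Finite A M]
    (N q : ℕ) (hN : HasProjectiveDimensionLT M N)
    (h : ∀ i, q < i → Subsingleton (Ext M (ModuleCat.of A A) i)) :
    HasProjectiveDimensionLT M (q + 1) := by
  have aux : ∀ k, HasProjectiveDimensionLT M (q + 1 + k) → HasProjectiveDimensionLT M (q + 1) := by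
    intro k
    induction k with
    | zero => exact fun h => h
    | succ k ih =>
      intro hk
      exact ih (hasProjectiveDimensionLT_of_ext_ring M (q + 1 + k) hk (h _ (by omega)))
  by_cases hle : N ≤ q + 1
  · exact hasProjectiveDimensionLT_of_ge M N (q + 1) hle
  · apply aux (N - (q + 1))
    have : q + 1 + (N - (q + 1)) = N := by omega
    rw [this]
    exact hN

omit [IsNoetherianRing A] in
/-- Regular local ring of dimension `d`: every module has projective dimension `≤ d`. -/
theorem hasProjectiveDimensionLT_of_isRegularLocalRing [IsRegularLocalRing A] (d : ℕ)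
    (hd : ringKrullDim A = d) (M : ModuleCat.{u} A) : HasProjectiveDimensionLT M (d + 1) := by
  have hk : HasProjectiveDimensionLT (ModuleCat.of A (ResidueField A)) (d + 1) := by
    have : IsRegularLocalRing (A ⧸ maximalIdeal A) := by
      change IsRegularLocalRing (ResidueField A)
      infer_instance
    obtain ⟨x, c, hc, hx, -⟩ := Groth.Agent.Lib.RegularLocal.exists_generators A d hd
      (maximalIdeal A)
    have hreg := Groth.Agent.Lib.RegularLocal.isRegular_ofFn A d hd x hx
    have hpd := ModuleCat.projectiveDimension_quotient_eq_length.{u} (List.ofFn x) hreg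
    have hlist : Ideal.ofList (List.ofFn x) = maximalIdeal A := by
      rw [← hx, Ideal.ofList]
      congr 1
      ext r
      simp [List.mem_ofFn]
    have hle : HasProjectiveDimensionLE
        (ModuleCat.of A (Shrink.{u} (A ⧸ Ideal.ofList (List.ofFn x)))) d := by
      rw [← projectiveDimension_le_iff, hpd]
      simp
    let e : Shrink.{u} (A ⧸ Ideal.ofList (List.ofFn x)) ≃ₗ[A] ResidueField A :=
      (Shrink.linearEquiv A _).trans (Submodule.quotEquivOfEq _ _ hlist)
    exact hasProjectiveDimensionLT_of_iso e.toModuleIso (d + 1)
  exact hasProjectiveDimensionLT_of_residueField d hk M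

/-- Noetherian ring whose localizations at maximal ideals are regular, of Krull dimension `≤ D`:
every module has projective dimension `≤ D`. -/
theorem hasProjectiveDimensionLT_of_regular
    (hreg : ∀ m : MaximalSpectrum A, IsRegularLocalRing (Localization.AtPrime m.asIdeal))
    (D : ℕ) (hD : ringKrullDim A ≤ D) (M : ModuleCat.{u} A) :
    HasProjectiveDimensionLT M (D + 1) := by
  have hfin : ∀ (N : ModuleCat.{u} A) [Module.Finite A N], HasProjectiveDimensionLE N D := by
    intro N _
    rw [ModuleCat.hasProjectiveDimensionLE_iff_forall_maximalSpectrum]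
    intro m
    have := hreg m
    have hd : ringKrullDim (Localization.AtPrime m.asIdeal) =
        ((maximalIdeal (Localization.AtPrime m.asIdeal)).spanFinrank : ℕ) :=
      IsRegularLocalRing.spanFinrank_maximalIdeal.symm
    have h1 := hasProjectiveDimensionLT_of_isRegularLocalRing
      (A := Localization.AtPrime m.asIdeal) _ hd (N.localizedModule m.1.primeCompl)
    have hle : (maximalIdeal (Localization.AtPrime m.asIdeal)).spanFinrank ≤ D := by
      have h2 : ringKrullDim (Localization.AtPrime m.asIdeal) ≤ ringKrullDim A := by
        rw [IsLocalization.AtPrime.ringKrullDim_eq_height m.asIdeal]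
        exact Ideal.height_le_ringKrullDim_of_isPrime
      have h3 := (hd ▸ h2).trans hD
      exact_mod_cast h3
    exact hasProjectiveDimensionLT_of_ge _
      ((maximalIdeal (Localization.AtPrime m.asIdeal)).spanFinrank + 1) (D + 1) (by omega)
  apply hasProjectiveDimensionLT_of_forall_quotient
  intro I
  exact hfin (ModuleCat.of A (A ⧸ I))

end Groth.Agent.Lib.H87GlDim2
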