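import Groth.Agent.Lib.H87Serre
import Groth.Agent.Lib.H87GlDim2
import Mathlib.RingTheory.Flat.FaithfullyFlat.Algebra
import Mathlib.RingTheory.Flat.EquationalCriterion
import Mathlib.RingTheory.RingHom.Flat
import Mathlib.RingTheory.Finiteness.Descent

set_option autoImplicit false
universe u
open CategoryTheory Abelian IsLocalRing Pointwise TensorProduct

namespace Groth.Agent.Lib.H87Serre2

variable {R : Type u} [CommRing R]

/-- Projective dimension over a localization is bounded by the projective dimension over the
base ring (for a module over the localization, restricted to the base ring). -/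
theorem hasProjectiveDimensionLE_localization_of_restrictScalars (S : Submonoid R) (N : Type u)
    [AddCommGroup N] [Module R N] [Module (Localization S) N] [IsScalarTower R (Localization S) N]
    (n : ℕ) (h : HasProjectiveDimensionLE (ModuleCat.of R N) n) :
    HasProjectiveDimensionLE (ModuleCat.of (Localization S) N) n := by
  have : Small.{u} (Localization S) := small_of_surjective Localization.mkHom_surjective
  have h1 := ModuleCat.localizedModule_hasProjectiveDimensionLE n S (ModuleCat.of R N)
  have : IsLocalizedModule S (LinearMap.id : N →ₗ[R] N) := isLocalizedModule_id S N (Localization S)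
  have hloc := ModuleCat.localizedModule_isLocalizedModule (ModuleCat.of R N) S
  let e : ((ModuleCat.of R N).localizedModule S) ≃ₗ[Localization S] N :=
    LinearEquiv.extendScalarsOfIsLocalization S (Localization S)
      (IsLocalizedModule.linearEquiv S ((ModuleCat.of R N).localizedModuleMkLinearMap S)
        LinearMap.id)
  exact hasProjectiveDimensionLT_of_iso e.toModuleIso (n + 1)

/-- The localization of a regular local ring at a prime is a regular local ring. -/
theorem isRegularLocalRing_localization [IsRegularLocalRing R] (p : Ideal R) [p.IsPrime] :
    IsRegularLocalRing (Localization.AtPrime p) := by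
  have hd : ringKrullDim R = ((maximalIdeal R).spanFinrank : ℕ) :=
    IsRegularLocalRing.spanFinrank_maximalIdeal.symm
  have h1 := Groth.Agent.Lib.H87GlDim2.hasProjectiveDimensionLT_of_isRegularLocalRing _ hd
    (ModuleCat.of R (ResidueField (Localization.AtPrime p)))
  have h2 := hasProjectiveDimensionLE_localization_of_restrictScalars p.primeCompl
    (ResidueField (Localization.AtPrime p)) _ h1
  exact Groth.Agent.Lib.H87Serre.isRegularLocalRing_of_hasProjectiveDimensionLT
    (Localization.AtPrime p) _ h2

/-- A regular local ring is a regular ring. -/
theorem isRegularRing_of_isRegularLocalRing [IsRegularLocalRing R] : IsRegularRing R where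
  isRegularLocalRing_localization p _ := isRegularLocalRing_localization p

/-- A Noetherian ring whose localizations at maximal ideals are regular is a regular ring. -/
theorem isRegularRing_of_maximal [IsNoetherianRing R]
    (h : ∀ (m : Ideal R) [m.IsMaximal], IsRegularLocalRing (Localization.AtPrime m)) :
    IsRegularRing R := by
  rw [isRegularRing_iff]
  intro p hp
  obtain ⟨m, hm, hpm⟩ := p.exists_le_maximal hp.ne_top
  have := h m
  have hdisj : Disjoint (m.primeCompl : Set R) (p : Set R) := by
    rw [Set.disjoint_left]
    intro a ha hap
    exact ha (hpm hap)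
  let P := p.map (algebraMap R (Localization.AtPrime m))
  have hP : P.IsPrime :=
    IsLocalization.isPrime_of_isPrime_disjoint m.primeCompl (Localization.AtPrime m) p hp hdisj
  have hreg : IsRegularLocalRing (Localization.AtPrime P) := isRegularLocalRing_localization P
  have hloc := IsLocalization.isLocalization_isLocalization_atPrime_isLocalization
    (M := m.primeCompl) (Localization.AtPrime P) P
  simp_rw [P, IsLocalization.under_map_of_isPrime_disjoint m.primeCompl
    (Localization.AtPrime m) hp hdisj] at hloc
  exact IsRegularLocalRing.of_ringEquiv (IsLocalization.algEquiv p.primeCompl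
    (Localization.AtPrime P) (Localization.AtPrime p)).toRingEquiv

end Groth.Agent.Lib.H87Serre2

namespace Groth.Agent.Lib.H87Serre2

/-- Faithfully flat descent of projective dimension for finite modules over a Noetherian ring. -/
theorem hasProjectiveDimensionLE_of_tensorProduct (R S : Type u) [CommRing R] [CommRing S]
    [Algebra R S] [Module.FaithfullyFlat R S] [IsNoetherianRing R] (n : ℕ) :
    ∀ (M : ModuleCat.{u} R) [Module.Finite R M],
      HasProjectiveDimensionLE (ModuleCat.of S (S ⊗[R] M)) n → HasProjectiveDimensionLE M n := by
  induction n with
  | zero =>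
    intro M _ h
    simp only [HasProjectiveDimensionLE, zero_add,
      ← projective_iff_hasProjectiveDimensionLT_one] at h ⊢
    rw [← IsProjective.iff_projective] at h ⊢
    have hproj : Module.Projective S (S ⊗[R] M) := h
    have : Module.Flat S (S ⊗[R] M) := Module.Flat.of_projective
    have : Module.Flat R M := Module.Flat.of_flat_tensorProduct R M S
    have : Module.FinitePresentation R M := Module.finitePresentation_of_finite R M
    exact Module.Flat.projective_of_finitePresentation
  | succ n ih =>
    intro M _ h
    rcases Module.exists_finite_presentation R M with ⟨P, _, _, _, _, f, surjf⟩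
    have hS := LinearMap.shortExact_shortComplexKer surjf
    have projP : Projective f.shortComplexKer.X₂ := by
      change Projective (ModuleCat.of R P)
      rw [← IsProjective.iff_projective]
      infer_instance
    simp only [HasProjectiveDimensionLE] at h ⊢
    rw [hS.hasProjectiveDimensionLT_X₃_iff n projP]
    have : Module.Finite R (LinearMap.ker f) := inferInstance
    apply ih (ModuleCat.of R (LinearMap.ker f))
    -- the tensored sequence
    let f₁ : S ⊗[R] (LinearMap.ker f) →ₗ[S] S ⊗[R] P := (LinearMap.ker f).subtype.baseChange S
    let f₂ : S ⊗[R] P →ₗ[S] S ⊗[R] M := f.baseChange S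
    have hex : Function.Exact f₁ f₂ := by
      have := lTensor_exact S (LinearMap.exact_subtype_ker_map f) surjf
      exact this
    have hinj : Function.Injective f₁ :=
      Module.Flat.lTensor_preserves_injective_linearMap _ (Submodule.injective_subtype _)
    have hsurj : Function.Surjective f₂ := LinearMap.lTensor_surjective S surjf
    let T : ShortComplex (ModuleCat.{u} S) :=
      ModuleCat.shortComplexOfCompEqZero f₁ f₂ hex.linearMap_comp_eq_zero
    have hT : T.ShortExact := ModuleCat.shortComplex_shortExact T hex hinj hsurj
    have projT : Projective T.X₂ := by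
      change Projective (ModuleCat.of S (S ⊗[R] P))
      rw [← IsProjective.iff_projective]
      infer_instance
    exact (hT.hasProjectiveDimensionLT_X₃_iff n projT).mp h

end Groth.Agent.Lib.H87Serre2

namespace Groth.Agent.Lib.H87Serre2

/-- Regularity descends along flat local homomorphisms of Noetherian local rings. -/
theorem isRegularLocalRing_of_flat (R S : Type u) [CommRing R] [CommRing S] [IsLocalRing R]
    [IsNoetherianRing R] [IsRegularLocalRing S] [Algebra R S] [IsLocalHom (algebraMap R S)]
    [Module.Flat R S] : IsRegularLocalRing R := by
  have : Module.FaithfullyFlat R S := Module.FaithfullyFlat.of_flat_of_isLocalHom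
  have hd : ringKrullDim S = ((maximalIdeal S).spanFinrank : ℕ) :=
    IsRegularLocalRing.spanFinrank_maximalIdeal.symm
  have h1 := Groth.Agent.Lib.H87GlDim2.hasProjectiveDimensionLT_of_isRegularLocalRing _ hd
    (ModuleCat.of S (S ⊗[R] ResidueField R))
  have h2 := hasProjectiveDimensionLE_of_tensorProduct R S _ (ModuleCat.of R (ResidueField R)) h1
  exact Groth.Agent.Lib.H87Serre.isRegularLocalRing_of_hasProjectiveDimensionLT R _ h2

/-- Regularity descends along faithfully flat ring maps. -/
theorem isRegularRing_of_faithfullyFlat (R S : Type u) [CommRing R] [CommRing S] [Algebra R S]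
    [Module.FaithfullyFlat R S] [IsRegularRing S] : IsRegularRing R := by
  have hN : IsNoetherianRing R := by
    rw [isNoetherianRing_iff_ideal_fg]
    intro I
    exact Ideal.FG.of_FG_map_of_faithfullyFlat (S := S)
      ((isNoetherianRing_iff_ideal_fg S).mp inferInstance _)
  rw [isRegularRing_iff]
  intro p hp
  obtain ⟨Q, hQ⟩ := PrimeSpectrum.comap_surjective_of_faithfullyFlat (A := R) (B := S) ⟨p, hp⟩
  obtain rfl : p = Q.asIdeal.under R := (congrArg PrimeSpectrum.asIdeal hQ).symm
  let := Localization.AtPrime.algebraOfLiesOver (Q.asIdeal.under R) Q.asIdeal
  have : IsLocalHom (algebraMap (Localization.AtPrime <| Q.asIdeal.under R)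
      (Localization.AtPrime Q.asIdeal)) := by
    rw [RingHom.algebraMap_toAlgebra]
    exact Localization.isLocalHom_localRingHom (Q.asIdeal.under R) Q.asIdeal (algebraMap R S)
      Ideal.LiesOver.over
  have : IsRegularLocalRing (Localization.AtPrime Q.asIdeal) := inferInstance
  exact isRegularLocalRing_of_flat (Localization.AtPrime (Q.asIdeal.under R))
    (Localization.AtPrime Q.asIdeal)

end Groth.Agent.Lib.H87Serre2
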