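import Groth.Agent.Lib.MacLane3H44

/-!
# helper44: MacLane's criterion, part 4 (assembly over the prime field)

For fields `k ⊆ K` of characteristic `p` (in one universe):
`IsGeometricallyReduced k K ↔ LD p k K ↔ FormallySmooth k K ↔
  Function.Injective (mapBaseChange ℤ k K)`.
-/

set_option autoImplicit false
universe u

namespace Groth.Agent.Lib.MacLane4H44

open Groth.Agent.Lib.MacLaneH44 Groth.Agent.Lib.MacLane3H44

/-- A copy of the prime field `ZMod p` in an arbitrary universe (no scalar actions attached). -/
def PF (p : ℕ) : Type u := ULift.{u} (ZMod p)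

section

variable (p : ℕ) [hp : Fact p.Prime]

noncomputable instance : Field (PF.{u} p) := inferInstanceAs (Field (ULift.{u} (ZMod p)))

instance : CharP (PF.{u} p) p := inferInstanceAs (CharP (ULift.{u} (ZMod p)) p)

instance : Finite (PF.{u} p) := inferInstanceAs (Finite (ULift.{u} (ZMod p)))

instance : PerfectRing (PF.{u} p) p := PerfectRing.ofFiniteOfIsReduced p (PF.{u} p)

/-- the identification with `ZMod p` -/
noncomputable def pfEquiv : PF.{u} p ≃+* ZMod p :=
  (ULift.ringEquiv : ULift.{u} (ZMod p) ≃+* ZMod p)

/-- the ring map from the prime field -/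
noncomputable def toField (K : Type u) [Field K] [CharP K p] : PF.{u} p →+* K :=
  (ZMod.castHom (dvd_refl p) K).comp (pfEquiv p).toRingHom

theorem toField_unique (K : Type u) [Field K] [CharP K p] (f : PF.{u} p →+* K) :
    f = toField p K := by
  have h := Subsingleton.elim (f.comp (pfEquiv p).symm.toRingHom)
    ((toField p K).comp (pfEquiv p).symm.toRingHom)
  ext x
  have h2 := RingHom.congr_fun h (pfEquiv p x)
  have h3 : (pfEquiv p).symm (pfEquiv p x) = x := (pfEquiv p).symm_apply_apply x
  simp only [RingHom.comp_apply, RingEquiv.toRingHom_eq_coe, RingHom.coe_coe] at h2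
  rw [h3] at h2
  exact h2

theorem int_surjective : Function.Surjective (algebraMap ℤ (PF.{u} p)) := by
  intro x
  obtain ⟨n, hn⟩ := ZMod.intCast_surjective (pfEquiv p x)
  refine ⟨n, ?_⟩
  apply (pfEquiv p).injective
  rw [← hn]
  exact map_intCast (pfEquiv p) n

variable (k K : Type u) [Field k] [Field K] [Algebra k K] [CharP k p]

theorem charP_main :
    (Algebra.IsGeometricallyReduced k K ↔ LD p k K) ∧
    (Algebra.FormallySmooth k K ↔ LD p k K) ∧
    (Function.Injective (KaehlerDifferential.mapBaseChange ℤ k K) ↔ LD p k K) := by
  have hK : CharP K p := charP_of_injective_algebraMap (algebraMap k K).injective p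
  let _ : Algebra (PF.{u} p) k := (toField p k).toAlgebra
  let _ : Algebra (PF.{u} p) K := (toField p K).toAlgebra
  have htower : IsScalarTower (PF.{u} p) k K := by
    apply IsScalarTower.of_algebraMap_eq'
    exact (toField_unique p K ((algebraMap k K).comp (algebraMap (PF.{u} p) k))).symm
  refine ⟨isGeometricallyReduced_iff_LD p k K, formallySmooth_iff_LD p (PF.{u} p) k K, ?_⟩
  rw [mapBaseChange_injective_iff_of_surjective ℤ (PF.{u} p) k K (int_surjective p),
    LD_iff_mapBaseChange_injective p (PF.{u} p) k K]

end

section AllChar

open TensorProduct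

theorem isGeometricallyReduced_of_charZero (k K : Type u) [Field k] [Field K] [Algebra k K]
    [CharZero k] : Algebra.IsGeometricallyReduced k K := by
  rw [Algebra.isGeometricallyReduced_field_iff]
  have key : IsReduced (K ⊗[k] AlgebraicClosure k) := by
    apply IsReduced.tensorProduct_of_flat_of_forall_fg
    intro B hB
    obtain ⟨t, rfl⟩ := hB
    let L := IntermediateField.adjoin k (t : Set (AlgebraicClosure k))
    have hfin : FiniteDimensional k L :=
      IntermediateField.finiteDimensional_adjoin (fun x _ => Algebra.IsIntegral.isIntegral x)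
    have hsep : Algebra.IsSeparable k L := Algebra.IsAlgebraic.isSeparable_of_perfectField
    have hunr : Algebra.FormallyUnramified k L := Algebra.FormallyUnramified.of_isSeparable k L
    have hred : IsReduced (K ⊗[k] L) := Algebra.FormallyUnramified.isReduced_of_field K (K ⊗[k] L)
    have hle : Algebra.adjoin k (t : Set (AlgebraicClosure k)) ≤ L.toSubalgebra :=
      IntermediateField.algebra_adjoin_le_adjoin k _
    let ι : Algebra.adjoin k (t : Set (AlgebraicClosure k)) →ₐ[k] L := Subalgebra.inclusion hle
    exact isReduced_of_injective (Algebra.TensorProduct.map (AlgHom.id K K) ι)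
      (Module.Flat.lTensor_preserves_injective_linearMap (M := K) ι.toLinearMap
        (Subalgebra.inclusion_injective hle))
  exact isReduced_of_injective (Algebra.TensorProduct.comm k (AlgebraicClosure k) K).toRingHom
    (Algebra.TensorProduct.comm k (AlgebraicClosure k) K).injective

/-- A field extension in characteristic zero is formally smooth. -/
theorem formallySmooth_of_charZero (k K : Type u) [Field k] [Field K] [Algebra k K] [CharZero k] :
    Algebra.FormallySmooth k K := by
  obtain ⟨s, hs⟩ := exists_isTranscendenceBasis k K
  have halg := hs.isAlgebraic_field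
  have : CharZero (IntermediateField.adjoin k (Set.range ((↑) : s → K))) :=
    charZero_of_injective_algebraMap (algebraMap k _).injective
  have : Algebra.IsSeparable (IntermediateField.adjoin k (Set.range ((↑) : s → K))) K :=
    Algebra.IsAlgebraic.isSeparable_of_perfectField
  exact Algebra.FormallySmooth.of_algebraicIndependent_of_isSeparable hs.1

variable (k K : Type u) [Field k] [Field K] [Algebra k K]

/-- EGA 0_IV 19.6.1: a field extension is formally smooth iff it is separable. -/
theorem formallySmooth_iff_isGeometricallyReduced :
    Algebra.FormallySmooth k K ↔ Algebra.IsGeometricallyReduced k K := by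
  obtain h0 | ⟨p, hp, hchar⟩ := CharP.exists' k
  · exact ⟨fun _ => isGeometricallyReduced_of_charZero k K,
      fun _ => formallySmooth_of_charZero k K⟩
  · have := charP_main p k K
    rw [this.1, this.2.1]

/-- A field extension is separable iff `K ⊗ Ω_{k/ℤ} → Ω_{K/ℤ}` is injective. -/
theorem isGeometricallyReduced_iff_mapBaseChange_injective :
    Algebra.IsGeometricallyReduced k K ↔
      Function.Injective (KaehlerDifferential.mapBaseChange ℤ k K) := by
  obtain h0 | ⟨p, hp, hchar⟩ := CharP.exists' k
  · have := formallySmooth_of_charZero k K
    exact ⟨fun _ => mapBaseChange_injective_of_subsingleton_h1 ℤ k K,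
      fun _ => isGeometricallyReduced_of_charZero k K⟩
  · have := charP_main p k K
    rw [this.1, this.2.2]

end AllChar

end Groth.Agent.Lib.MacLane4H44
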