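import Mathlib.RingTheory.Smooth.AdicCompletion
import Mathlib.RingTheory.Smooth.Field
import Mathlib.RingTheory.Smooth.Kaehler
import Mathlib.RingTheory.AdicCompletion.Completeness
import Mathlib.RingTheory.Artinian.Ring
import Mathlib.RingTheory.HopkinsLevitzki
import Mathlib.RingTheory.LocalRing.ResidueField.Basic
import Mathlib.RingTheory.PowerSeries.Basic
import Mathlib.LinearAlgebra.Dual.Lemmas
import Mathlib.FieldTheory.Perfect
import Mathlib.FieldTheory.IsAlgClosed.AlgebraicClosure
import Mathlib.RingTheory.Etale.Descent
import Mathlib.RingTheory.Unramified.Locus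
import Mathlib.RingTheory.QuasiFinite.Basic
import Mathlib.RingTheory.Kaehler.TensorProduct
import Mathlib.RingTheory.LocalRing.Module

/-!
# Artinian local rings that are formally smooth over a field are fields (helper45)
-/

namespace Groth.Agent.Lib.ArtinSmoothField

open IsLocalRing

section Complete

variable {R : Type*} [CommRing R]

/-- `I`-adically complete rings are `I ^ 2`-adically complete. -/
theorem isAdicComplete_sq (I : Ideal R) [IsAdicComplete I R] : IsAdicComplete (I ^ 2) R := by
  have hle : ∀ n : ℕ, (I ^ 2) ^ n ≤ I ^ n := fun n => by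
    rw [← pow_mul]; exact Ideal.pow_le_pow_right (by omega)
  have heq : ∀ n : ℕ, (I ^ 2) ^ n = I ^ (2 * n) := fun n => (pow_mul I 2 n).symm
  refine { haus' := ?_, prec' := ?_ }
  · intro x hx
    refine IsHausdorff.haus (I := I) inferInstance x fun n => ?_
    have := hx n
    rw [SModEq.zero] at this ⊢
    simp only [smul_eq_mul, Ideal.mul_top] at this ⊢
    exact hle n this
  · intro f hf
    have hf' : ∀ {m n}, m ≤ n → f m ≡ f n [SMOD (I ^ m • ⊤ : Submodule R R)] := by
      intro m n hmn
      have := hf hmn
      rw [SModEq.sub_mem] at this ⊢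
      simp only [smul_eq_mul, Ideal.mul_top] at this ⊢
      exact hle m this
    obtain ⟨L, hL⟩ := IsPrecomplete.prec (I := I) inferInstance hf'
    refine ⟨L, fun n => ?_⟩
    have h1 := hf (show n ≤ 2 * n by omega)
    have h2 := hL (2 * n)
    rw [SModEq.sub_mem] at h1 h2 ⊢
    simp only [smul_eq_mul, Ideal.mul_top] at h1 h2 ⊢
    rw [heq]
    rw [heq] at h1
    have := Ideal.add_mem _ h1 h2
    simpa using this

end Complete

section Main

open TensorProduct KaehlerDifferential PowerSeries

/-- An Artinian local algebra which is formally smooth over a field `k`, and whose residue field is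
formally smooth over `k` (automatic if `k` is perfect), has zero maximal ideal. -/
theorem maximalIdeal_eq_bot (k C : Type*) [Field k] [CommRing C]
    [Algebra k C] [IsLocalRing C] [IsArtinianRing C] [Algebra.FormallySmooth k C]
    [hfs : Algebra.FormallySmooth k (ResidueField C)] :
    maximalIdeal C = ⊥ := by
  classical
  let K := ResidueField C
  obtain ⟨m, hm⟩ : ∃ m, maximalIdeal C ^ m = ⊥ := by
    have := IsArtinianRing.isNilpotent_jacobson_bot (R := C)
    rw [IsLocalRing.jacobson_eq_maximalIdeal ⊥ bot_ne_top] at this
    exact this
  by_contra hne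
  obtain ⟨x, hx, hx2⟩ : ∃ x ∈ maximalIdeal C, x ∉ maximalIdeal C ^ 2 := by
    by_contra h
    push Not at h
    apply hne
    have hfg : (maximalIdeal C).FG := (isNoetherianRing_iff_ideal_fg C).mp inferInstance _
    refine Submodule.eq_bot_of_le_smul_of_le_jacobson_bot (maximalIdeal C) (maximalIdeal C) hfg ?_ ?_
    · intro y hy
      have := h y hy
      rwa [pow_two, ← smul_eq_mul] at this
    · rw [IsLocalRing.jacobson_eq_maximalIdeal ⊥ bot_ne_top]
  have hker : RingHom.ker (algebraMap C K) = maximalIdeal C := IsLocalRing.ker_residue
  obtain ⟨l, hl⟩ := (Algebra.FormallySmooth.iff_split_injection (R := k) (P := C) (A := K)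
    IsLocalRing.residue_surjective).mp hfs
  let xI : RingHom.ker (algebraMap C K) := ⟨x, hker ▸ hx⟩
  have hv : (1 : K) ⊗ₜ[C] D k C x ≠ 0 := by
    intro h0
    have h1 : kerCotangentToTensor k C K (Ideal.toCotangent _ xI) = 0 := by
      rw [kerCotangentToTensor_toCotangent]; exact h0
    have h2 := congrArg l h1
    rw [← LinearMap.comp_apply, hl, LinearMap.id_apply, map_zero, Ideal.toCotangent_eq_zero] at h2
    exact hx2 (hker ▸ h2)
  obtain ⟨lam, hlam⟩ := Module.Projective.exists_dual_ne_zero K hv
  -- the "derivation"
  let d : C → K := fun c => lam ((1 : K) ⊗ₜ[C] D k C c)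
  have d_add : ∀ a b, d (a + b) = d a + d b := fun a b => by
    simp only [d, map_add, tmul_add]
  have d_mul : ∀ a b, d (a * b) = residue C a * d b + residue C b * d a := fun a b => by
    simp only [d, Derivation.leibniz, tmul_add, map_add, tmul_smul]
    rw [← algebraMap_smul K a, ← algebraMap_smul K b, map_smul, map_smul]
    rfl
  have d_alg : ∀ r : k, d (algebraMap k C r) = 0 := fun r => by
    simp only [d, Derivation.map_algebraMap, tmul_zero, map_zero]
  let J : Ideal K⟦X⟧ := (Ideal.span {(X : K⟦X⟧)}) ^ 2
  have hJ : J = Ideal.span {(X : K⟦X⟧) ^ 2} := Ideal.span_singleton_pow _ _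
  have : IsAdicComplete J K⟦X⟧ := isAdicComplete_sq _
  have hX2 : (X : K⟦X⟧) * X ∈ J := by
    rw [hJ, ← pow_two]; exact Ideal.subset_span rfl
  let ψ : C →ₐ[k] K⟦X⟧ ⧸ J :=
    { toFun := fun c => Ideal.Quotient.mk J (PowerSeries.C (residue C c) + PowerSeries.C (d c) * X)
      map_one' := by
        have : d 1 = 0 := by simpa using d_alg 1
        simp [this]
      map_mul' := fun a b => by
        rw [← map_mul, Ideal.Quotient.eq, d_mul]
        have : (PowerSeries.C ((residue C) (a * b)) +
            PowerSeries.C ((residue C) a * d b + (residue C) b * d a) * X -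
          (PowerSeries.C ((residue C) a) + PowerSeries.C (d a) * X) *
            (PowerSeries.C ((residue C) b) + PowerSeries.C (d b) * X) : K⟦X⟧) =
            - (PowerSeries.C (d a) * PowerSeries.C (d b)) * (X * X) := by
          simp only [map_mul, map_add]; ring
        rw [this]
        exact Ideal.mul_mem_left _ _ hX2
      map_zero' := by
        have : d 0 = 0 := by simpa using d_alg 0
        simp [this]
      map_add' := fun a b => by
        simp only [map_add, map_mul, d_add]; ring
      commutes' := fun r => by
        rw [d_alg]
        simp only [map_zero, zero_mul, add_zero]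
        rw [← Ideal.Quotient.mk_algebraMap, PowerSeries.algebraMap_apply,
          IsScalarTower.algebraMap_apply k C K r]
        rfl }
  obtain ⟨g, hg⟩ := Algebra.FormallySmooth.exists_mkₐ_comp_eq_of_isAdicComplete ψ
  have hgx : g x ≠ 0 := by
    intro h0
    have h1 : ψ x = 0 := by
      rw [← hg]; simp [h0]
    have hres : residue C x = 0 := by
      rwa [IsLocalRing.residue_eq_zero_iff]
    have h2 : PowerSeries.C (d x) * X ∈ J := by
      have : ψ x = Ideal.Quotient.mk J (PowerSeries.C (residue C x) + PowerSeries.C (d x) * X) := rfl
      rw [this, hres, map_zero, zero_add, Ideal.Quotient.eq_zero_iff_mem] at h1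
      exact h1
    rw [hJ, Ideal.mem_span_singleton, pow_two, mul_dvd_mul_iff_right PowerSeries.X_ne_zero,
      PowerSeries.X_dvd_iff] at h2
    apply hlam
    simpa using h2
  have hxm : x ^ m = 0 := by
    have : x ^ m ∈ maximalIdeal C ^ m := Ideal.pow_mem_pow hx m
    rwa [hm] at this
  have : g x ^ m = 0 := by rw [← map_pow, hxm, map_zero]
  exact hgx (pow_eq_zero_iff (by rintro rfl; simp at hm) |>.mp this)

/-- Field version of `maximalIdeal_eq_bot`. -/
theorem isField (k C : Type*) [Field k] [CommRing C]
    [Algebra k C] [IsLocalRing C] [IsArtinianRing C] [Algebra.FormallySmooth k C]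
    [Algebra.FormallySmooth k (ResidueField C)] : IsField C :=
  IsLocalRing.isField_iff_maximalIdeal_eq.mpr (maximalIdeal_eq_bot k C)

/-- Any field extension of a field of characteristic zero is formally smooth. -/
theorem formallySmooth_of_charZero (K L : Type*) [Field K] [Field L] [Algebra K L] [CharZero K] :
    Algebra.FormallySmooth K L := by
  obtain ⟨s, hs⟩ := exists_isTranscendenceBasis K L
  have halg : Algebra.IsAlgebraic (IntermediateField.adjoin K (Set.range ((↑) : s → L))) L :=
    hs.isAlgebraic_field
  have : Algebra.IsSeparable (IntermediateField.adjoin K (Set.range ((↑) : s → L))) L :=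
    Algebra.IsAlgebraic.isSeparable_of_perfectField
  exact Algebra.FormallySmooth.of_algebraicIndependent_of_isSeparable hs.1

end Main

section Unramified

open TensorProduct

/-- A finite algebra over an algebraically closed field which is formally smooth is formally
unramified (hence étale). -/
theorem formallyUnramified_of_finite_of_isAlgClosed (k F : Type*) [Field k] [IsAlgClosed k]
    [CommRing F] [Algebra k F] [Module.Finite k F] [Algebra.FormallySmooth k F] :
    Algebra.FormallyUnramified k F := by
  rw [Algebra.formallyUnramified_iff_forall]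
  intro P
  have : IsArtinianRing F := IsArtinianRing.of_finite k F
  have hsurj : Function.Surjective (algebraMap F (Localization.AtPrime P.asIdeal)) :=
    IsArtinianRing.localization_surjective P.asIdeal.primeCompl _
  have : Module.Finite k (Localization.AtPrime P.asIdeal) :=
    Module.Finite.of_surjective
      (IsScalarTower.toAlgHom k F (Localization.AtPrime P.asIdeal)).toLinearMap hsurj
  have : Module.Finite k (ResidueField (Localization.AtPrime P.asIdeal)) :=
    Module.Finite.of_surjective
      (IsScalarTower.toAlgHom k (Localization.AtPrime P.asIdeal)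
        (ResidueField (Localization.AtPrime P.asIdeal))).toLinearMap residue_surjective
  have : Algebra.FormallySmooth k (ResidueField (Localization.AtPrime P.asIdeal)) := inferInstance
  have hfield : IsField (Localization.AtPrime P.asIdeal) := isField k _
  have : IsDomain (Localization.AtPrime P.asIdeal) := hfield.isDomain
  have hbij := IsAlgClosed.algebraMap_bijective_of_isIntegral (k := k)
    (K := Localization.AtPrime P.asIdeal)
  exact Algebra.FormallyUnramified.of_surjective (Algebra.ofId k _) hbij.2

/-- A finite algebra over a field which is formally smooth is formally unramified. -/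
theorem formallyUnramified_of_finite_of_field (κ F : Type*) [Field κ] [CommRing F] [Algebra κ F]
    [Module.Finite κ F] [Algebra.FormallySmooth κ F] : Algebra.FormallyUnramified κ F := by
  have : Algebra.FormallyUnramified (AlgebraicClosure κ) (AlgebraicClosure κ ⊗[κ] F) :=
    formallyUnramified_of_finite_of_isAlgClosed _ _
  exact Algebra.FormallyUnramified.of_formallyUnramified_tensorProduct_of_faithfullyFlat
    (AlgebraicClosure κ)

/-- A local algebra which is essentially of finite type, quasi-finite and formally smooth is
formally unramified (hence formally étale). -/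
theorem formallyUnramified_of_quasiFinite_of_formallySmooth (R S : Type*) [CommRing R] [CommRing S]
    [Algebra R S] [IsLocalRing S] [Algebra.EssFiniteType R S] [Algebra.QuasiFinite R S]
    [Algebra.FormallySmooth R S] : Algebra.FormallyUnramified R S := by
  classical
  let p : Ideal R := (maximalIdeal S).comap (algebraMap R S)
  have hp : p.IsPrime := Ideal.comap_isPrime _ _
  let L := ResidueField S
  -- the fibre is formally unramified
  have : Algebra.FormallyUnramified p.ResidueField (p.Fiber S) :=
    formallyUnramified_of_finite_of_field _ _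
  -- hence `κ(p) ⊗ Ω = 0`
  have h1 : Subsingleton (p.ResidueField ⊗[R] Ω[S⁄R]) := by
    let _ : Algebra S (p.ResidueField ⊗[R] S) := Algebra.TensorProduct.rightAlgebra
    exact (KaehlerDifferential.tensorKaehlerEquivBase R p.ResidueField S
      (p.ResidueField ⊗[R] S)).subsingleton
  -- the map `κ(p) → L`
  let φ : p.ResidueField →ₐ[R] L := Ideal.ResidueField.liftₐ p (Algebra.ofId R L)
    (fun r hr => by
      rw [RingHom.mem_ker]
      change algebraMap R L r = 0
      rw [IsScalarTower.algebraMap_apply R S L]
      exact (IsLocalRing.residue_eq_zero_iff _).mpr hr)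
    (fun r hr => by
      change IsUnit (algebraMap R L r)
      rw [IsScalarTower.algebraMap_apply R S L, isUnit_iff_ne_zero]
      exact fun h => hr ((IsLocalRing.residue_eq_zero_iff _).mp h))
  let _ : Algebra p.ResidueField L := φ.toRingHom.toAlgebra
  have : IsScalarTower R p.ResidueField L := IsScalarTower.of_algebraMap_eq' φ.comp_algebraMap.symm
  have h2 : Subsingleton (L ⊗[R] Ω[S⁄R]) :=
    (AlgebraTensorModule.cancelBaseChange R p.ResidueField L L Ω[S⁄R]).symm.subsingleton
  have h3 : Subsingleton (L ⊗[S] Ω[S⁄R]) :=
    (TensorProduct.mapOfCompatibleSMul_surjective S R S L Ω[S⁄R]).subsingleton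
  have h4 : Subsingleton Ω[S⁄R] := IsLocalRing.subsingleton_tensorProduct.mp h3
  exact ⟨h4⟩

end Unramified

end Groth.Agent.Lib.ArtinSmoothField
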