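import Groth.Agent.S2453
import Groth.Agent.S2483
import Groth.Agent.Lib.MacLane4H44
import Groth.Agent.Lib.H87Serre2

/-!
# Adic formal smoothness over a field (helper50)

* `isAdicFormallySmooth_trans`: transitivity `k₀ → k` formally smooth, `k → A` adically formally
  smooth ⇒ `k₀ → A` adically formally smooth.
* `exists_perfect_subfield`: every field `k` is an algebra over a field `k₀` (in the same universe)
  over which all fields are formally smooth and geometrically reduced.
* `regular_of_isAdicFormallySmooth`: a Noetherian local algebra over a field `k` which is formally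
  smooth for the adic topology is regular and its completion is a power series ring.
* `isAdicFormallySmooth_localization_baseChange`: base change along `k → k'` followed by a
  localization at a maximal ideal preserves adic formal smoothness.
-/

set_option autoImplicit false
set_option linter.style.haveILetI false
universe u

namespace Groth.Agent.Lib.AdicFSField50

open IsLocalRing

/-- transitivity of (adic) formal smoothness. -/
theorem isAdicFormallySmooth_trans {k₀ k A : Type u} [CommRing k₀] [CommRing k] [CommRing A]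
    [Algebra k₀ k] [Algebra k A] [Algebra k₀ A] [IsScalarTower k₀ k A]
    [Algebra.FormallySmooth k₀ k] (𝔫 : Ideal A) (h : CAlgX.IsAdicFormallySmooth k A 𝔫) :
    CAlgX.IsAdicFormallySmooth k₀ A 𝔫 := by
  intro C _ _ J hJ ψ hψ
  obtain ⟨σ, hσ⟩ := Algebra.FormallySmooth.exists_lift J ⟨2, hJ⟩
    (ψ.comp (IsScalarTower.toAlgHom k₀ k A))
  letI algC : Algebra k C := σ.toRingHom.toAlgebra
  haveI : IsScalarTower k₀ k C := IsScalarTower.of_algebraMap_eq' (by
    ext c
    exact (σ.commutes c).symm)
  let ψ' : A →ₐ[k] C ⧸ J :=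
    { ψ.toRingHom with
      commutes' := fun c => by
        have := DFunLike.congr_fun hσ c
        exact this.symm }
  obtain ⟨χ', hχ'⟩ := h C J hJ ψ' hψ
  refine ⟨χ'.restrictScalars k₀, ?_⟩
  ext a
  exact DFunLike.congr_fun hχ' a

open Groth.Agent.Lib.MacLane4H44 in
/-- every field is an algebra over a "perfect" field of the same universe. -/
theorem exists_perfect_subfield (k : Type u) [Field k] :
    ∃ (k₀ : Type u) (_ : Field k₀) (_ : Algebra k₀ k),
      ∀ (K : Type u) [Field K] [Algebra k₀ K],
        Algebra.FormallySmooth k₀ K ∧ Algebra.IsGeometricallyReduced k₀ K := by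
  obtain h0 | ⟨p, hp, hchar⟩ := CharP.exists' k
  · exact ⟨k, inferInstance, inferInstance, fun K _ _ =>
      ⟨formallySmooth_of_charZero k K, isGeometricallyReduced_of_charZero k K⟩⟩
  · have hpf : Fact p.Prime := hp
    let alg : Algebra (PF.{u} p) k := (toField p k).toAlgebra
    refine ⟨PF.{u} p, inferInstance, alg, fun K _ _ => ?_⟩
    have hLD := Groth.Agent.S2483.LD_of_perfect p (PF.{u} p) K
    exact ⟨(charP_main p (PF.{u} p) K).2.1.mpr hLD, (charP_main p (PF.{u} p) K).1.mpr hLD⟩

/-- a Noetherian local algebra over a field which is formally smooth for the adic topology is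
regular, and its completion is a power series ring over the residue field. -/
theorem regular_of_isAdicFormallySmooth {k A : Type u} [Field k] [CommRing A] [IsLocalRing A]
    [IsNoetherianRing A] [Algebra k A] (h : CAlgX.IsAdicFormallySmooth k A (maximalIdeal A)) :
    IsRegularLocalRing A ∧
      ∃ n : ℕ, Nonempty (AdicCompletion (maximalIdeal A) A ≃+*
        MvPowerSeries (Fin n) (ResidueField A)) := by
  obtain ⟨k₀, _, _, hk₀⟩ := exists_perfect_subfield k
  letI algA : Algebra k₀ A := ((algebraMap k A).comp (algebraMap k₀ k)).toAlgebra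
  haveI : IsScalarTower k₀ k A := IsScalarTower.of_algebraMap_eq' rfl
  haveI : Algebra.FormallySmooth k₀ k := (hk₀ k).1
  have h0 : CAlgX.IsAdicFormallySmooth k₀ A (maximalIdeal A) :=
    isAdicFormallySmooth_trans (k := k) _ h
  haveI hgr : Algebra.IsGeometricallyReduced k₀ (ResidueField A) := (hk₀ (ResidueField A)).2
  have htfae := Groth.Agent.S2453.result (k := k₀) (A := A)
  exact ⟨(htfae.out 0 3).1 h0, (htfae.out 0 2).1 h0⟩

section BaseChange

open TensorProduct

variable {k A k' : Type u} [Field k] [CommRing A] [IsLocalRing A] [Algebra k A] [Field k']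
  [Algebra k k'] [Algebra.IsIntegral k k']

/-- a maximal ideal of `k' ⊗ A` contains the image of the maximal ideal of `A`. -/
lemma one_tmul_mem_of_isMaximal (𝔫 : Ideal (k' ⊗[k] A)) [𝔫.IsMaximal] (a : A)
    (ha : a ∈ maximalIdeal A) : (1 : k') ⊗ₜ[k] a ∈ 𝔫 := by
  let e : A ⊗[k] k' ≃ₐ[k] k' ⊗[k] A := Algebra.TensorProduct.comm k A k'
  have hmax : (𝔫.comap (e : A ⊗[k] k' →+* k' ⊗[k] A)).IsMaximal :=
    Ideal.comap_isMaximal_of_equiv (e : A ⊗[k] k' ≃+* k' ⊗[k] A)
  have hmax2 : ((𝔫.comap (e : A ⊗[k] k' →+* k' ⊗[k] A)).comap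
      (algebraMap A (A ⊗[k] k'))).IsMaximal :=
    Ideal.isMaximal_comap_of_isIntegral_of_isMaximal _
  have h1 := IsLocalRing.eq_maximalIdeal hmax2
  have h2 : a ∈ ((𝔫.comap (e : A ⊗[k] k' →+* k' ⊗[k] A)).comap
      (algebraMap A (A ⊗[k] k'))) := by rw [h1]; exact ha
  rw [Ideal.mem_comap, Ideal.mem_comap] at h2
  simpa [e] using h2

/-- base change along an algebraic field extension followed by localization at a maximal ideal
preserves adic formal smoothness. -/
theorem isAdicFormallySmooth_localization_baseChange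
    (h : CAlgX.IsAdicFormallySmooth k A (maximalIdeal A)) (𝔫 : Ideal (k' ⊗[k] A)) [𝔫.IsMaximal] :
    CAlgX.IsAdicFormallySmooth k' (Localization.AtPrime 𝔫)
      (maximalIdeal (Localization.AtPrime 𝔫)) := by
  intro C _ _ J hJ ψ hψ
  obtain ⟨m, hm⟩ := hψ
  letI algkC : Algebra k C := ((algebraMap k' C).comp (algebraMap k k')).toAlgebra
  haveI : IsScalarTower k k' C := IsScalarTower.of_algebraMap_eq' rfl
  haveI : IsScalarTower k k' (Localization.AtPrime 𝔫) := IsScalarTower.of_algebraMap_eq' (by
    ext c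
    rw [IsScalarTower.algebraMap_apply k (k' ⊗[k] A) (Localization.AtPrime 𝔫),
      RingHom.comp_apply,
      IsScalarTower.algebraMap_apply k' (k' ⊗[k] A) (Localization.AtPrime 𝔫),
      IsScalarTower.algebraMap_apply k k' (k' ⊗[k] A)])
  let ι : A →ₐ[k] Localization.AtPrime 𝔫 :=
    (IsScalarTower.toAlgHom k (k' ⊗[k] A) (Localization.AtPrime 𝔫)).comp
      Algebra.TensorProduct.includeRight
  let ψA : A →ₐ[k] C ⧸ J := (ψ.restrictScalars k).comp ι
  have hι : (maximalIdeal A).map (ι : A →+* Localization.AtPrime 𝔫) ≤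
      maximalIdeal (Localization.AtPrime 𝔫) := by
    rw [Ideal.map_le_iff_le_comap]
    intro a ha
    rw [Ideal.mem_comap]
    have h1 := one_tmul_mem_of_isMaximal 𝔫 a ha
    have h2 : (ι : A →+* Localization.AtPrime 𝔫) a =
        algebraMap (k' ⊗[k] A) (Localization.AtPrime 𝔫) ((1 : k') ⊗ₜ[k] a) := rfl
    rw [h2, ← Localization.AtPrime.map_eq_maximalIdeal]
    exact Ideal.mem_map_of_mem _ h1
  have hψA : ∃ m : ℕ, ∀ x ∈ maximalIdeal A ^ m, ψA x = 0 := by
    refine ⟨m, fun x hx => ?_⟩
    apply hm
    have h3 : (maximalIdeal A ^ m).map (ι : A →+* Localization.AtPrime 𝔫) ≤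
        maximalIdeal (Localization.AtPrime 𝔫) ^ m := by
      rw [Ideal.map_pow]
      exact Ideal.pow_right_mono hι m
    exact h3 (Ideal.mem_map_of_mem _ hx)
  obtain ⟨χA, hχA⟩ := h C J hJ ψA hψA
  let χB : k' ⊗[k] A →ₐ[k'] C :=
    Algebra.TensorProduct.lift (Algebra.ofId k' C) χA (fun _ _ => Commute.all _ _)
  have hχB : ∀ b : k' ⊗[k] A, Ideal.Quotient.mk J (χB b) =
      ψ (algebraMap (k' ⊗[k] A) (Localization.AtPrime 𝔫) b) := by
    intro b
    induction b using TensorProduct.induction_on with
    | zero => simp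
    | add x y hx hy => rw [map_add, map_add, hx, hy, map_add, map_add]
    | tmul c a =>
      have h4 : χB (c ⊗ₜ[k] a) = algebraMap k' C c * χA a := by
        simp [χB, Algebra.ofId_apply]
      have h5 : (c ⊗ₜ[k] a : k' ⊗[k] A) = c • ((1 : k') ⊗ₜ[k] a) := by
        rw [TensorProduct.smul_tmul', smul_eq_mul, mul_one]
      have h6 : Ideal.Quotient.mk J (χA a) = ψ (ι a) := DFunLike.congr_fun hχA a
      rw [h4, map_mul, h6, h5, Algebra.smul_def, map_mul, map_mul]
      congr 1
      rw [← IsScalarTower.algebraMap_apply k' (k' ⊗[k] A) (Localization.AtPrime 𝔫), ψ.commutes]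
      rfl
  have hunit : ∀ y : 𝔫.primeCompl, IsUnit (χB y) := by
    intro y
    apply (IsNilpotent.isUnit_quotient_mk_iff ⟨2, hJ⟩).mp
    rw [hχB]
    exact (IsLocalization.map_units (Localization.AtPrime 𝔫) y).map ψ
  let χ : Localization.AtPrime 𝔫 →ₐ[k'] C :=
    IsLocalization.liftAlgHom (M := 𝔫.primeCompl) (f := χB) hunit
  refine ⟨χ, ?_⟩
  apply AlgHom.coe_ringHom_injective
  refine IsLocalization.ringHom_ext 𝔫.primeCompl (RingHom.ext (fun b => ?_))
  simp only [RingHom.coe_comp, RingHom.coe_coe, Function.comp_apply, AlgHom.coe_comp,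
    Ideal.Quotient.mkₐ_eq_mk]
  rw [← hχB b]
  congr 1
  exact IsLocalization.lift_eq hunit b

end BaseChange

end Groth.Agent.Lib.AdicFSField50
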