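import Groth.Agent.Lib.AdicFSField50
import Mathlib.RingTheory.Kaehler.Basic
import Mathlib.LinearAlgebra.Dual.Lemmas

/-!
# Kähler differentials and adic formal smoothness over a field (helper50)

Let `k → B` be a ring map and `L` a field which is a `B`-algebra.

* `injective_lTensor_of_ext`: if every derivation `k → L` extends to a derivation `B → L` then
  `L ⊗_B (B ⊗_k Ω_k) → L ⊗_B Ω_B` is injective.
* `exists_ext_of_injective_lTensor`: conversely, if this map is injective then for every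
  `L`-vector space `V`, every derivation `k → V` extends to a derivation `B → V`.
-/

set_option autoImplicit false
set_option linter.style.haveILetI false
set_option linter.unusedSectionVars false
universe u

namespace Groth.Agent.Lib.KaehlerFS50

open TensorProduct KaehlerDifferential

section Linear

variable {k B L : Type u} [CommRing k] [CommRing B] [Algebra k B] [Field L] [Algebra B L]
  [Algebra k L] [IsScalarTower k B L]

/-- moving a scalar of `k` through `L ⊗_B (B ⊗_k Ω_k)`. -/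
lemma one_tmul_one_tmul_smul (c : k) (ω : Ω[k⁄ℤ]) :
    (1 : L) ⊗ₜ[B] ((1 : B) ⊗ₜ[k] (c • ω)) =
      algebraMap k L c • ((1 : L) ⊗ₜ[B] ((1 : B) ⊗ₜ[k] ω)) := by
  have h1 : (1 : B) ⊗ₜ[k] (c • ω) = algebraMap k B c • ((1 : B) ⊗ₜ[k] ω) := by
    rw [TensorProduct.tmul_smul, TensorProduct.smul_tmul', TensorProduct.smul_tmul',
      Algebra.smul_def, mul_one, smul_eq_mul, mul_one]
  rw [h1, TensorProduct.tmul_smul, TensorProduct.smul_tmul', TensorProduct.smul_tmul',
    Algebra.smul_def, mul_one, smul_eq_mul, mul_one,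
    ← IsScalarTower.algebraMap_apply k B L]

/-- moving a scalar of `B` through `L ⊗_B Ω_B`. -/
lemma one_tmul_smul (b : B) (ω : Ω[B⁄ℤ]) :
    (1 : L) ⊗ₜ[B] (b • ω) = algebraMap B L b • ((1 : L) ⊗ₜ[B] ω) := by
  rw [TensorProduct.tmul_smul, TensorProduct.smul_tmul', TensorProduct.smul_tmul',
    Algebra.smul_def, mul_one, smul_eq_mul, mul_one]

/-- `L`-linear maps out of `L ⊗_B (B ⊗_k Ω_k)` are determined by their values on `1 ⊗ 1 ⊗ dc`. -/
lemma ext_of_D {W : Type u} [AddCommGroup W] [Module L W]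
    (g₁ g₂ : L ⊗[B] (B ⊗[k] Ω[k⁄ℤ]) →ₗ[L] W)
    (h : ∀ c : k, g₁ ((1 : L) ⊗ₜ[B] ((1 : B) ⊗ₜ[k] (D ℤ k c))) =
      g₂ ((1 : L) ⊗ₜ[B] ((1 : B) ⊗ₜ[k] (D ℤ k c)))) : g₁ = g₂ := by
  have h1 : ∀ ω : Ω[k⁄ℤ], g₁ ((1 : L) ⊗ₜ[B] ((1 : B) ⊗ₜ[k] ω)) =
      g₂ ((1 : L) ⊗ₜ[B] ((1 : B) ⊗ₜ[k] ω)) := by
    intro ω
    have hω : ω ∈ Submodule.span k (Set.range (D ℤ k)) := by
      rw [KaehlerDifferential.span_range_derivation]; trivial
    induction hω using Submodule.span_induction with
    | mem x hx =>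
      obtain ⟨c, rfl⟩ := hx
      exact h c
    | zero => simp
    | add x y _ _ hx hy => rw [TensorProduct.tmul_add, TensorProduct.tmul_add, map_add, map_add, hx, hy]
    | smul c x _ hx => rw [one_tmul_one_tmul_smul, map_smul, map_smul, hx]
  have h2 : ∀ m : B ⊗[k] Ω[k⁄ℤ], g₁ ((1 : L) ⊗ₜ[B] m) = g₂ ((1 : L) ⊗ₜ[B] m) := by
    intro m
    induction m using TensorProduct.induction_on with
    | zero => simp
    | add x y hx hy => rw [TensorProduct.tmul_add, map_add, map_add, hx, hy]
    | tmul b ω =>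
      have h3 : (b ⊗ₜ[k] ω : B ⊗[k] Ω[k⁄ℤ]) = b • ((1 : B) ⊗ₜ[k] ω) := by
        rw [TensorProduct.smul_tmul', smul_eq_mul, mul_one]
      have h4 : (1 : L) ⊗ₜ[B] (b • ((1 : B) ⊗ₜ[k] ω)) =
          algebraMap B L b • ((1 : L) ⊗ₜ[B] ((1 : B) ⊗ₜ[k] ω)) := by
        rw [TensorProduct.tmul_smul, TensorProduct.smul_tmul', TensorProduct.smul_tmul',
          Algebra.smul_def, mul_one, smul_eq_mul, mul_one]
      rw [h3, h4, map_smul, map_smul, h1]
  refine LinearMap.ext fun x => ?_
  induction x using TensorProduct.induction_on with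
  | zero => simp
  | add x y hx hy => rw [map_add, map_add, hx, hy]
  | tmul l m =>
    have h5 : (l ⊗ₜ[B] m : L ⊗[B] (B ⊗[k] Ω[k⁄ℤ])) = l • ((1 : L) ⊗ₜ[B] m) := by
      rw [TensorProduct.smul_tmul', smul_eq_mul, mul_one]
    rw [h5, map_smul, map_smul, h2]

/-- the value of the base-changed canonical map on `1 ⊗ 1 ⊗ dc`. -/
lemma lTensor_mapBaseChange_apply (c : k) :
    (KaehlerDifferential.mapBaseChange ℤ k B).lTensor L
      ((1 : L) ⊗ₜ[B] ((1 : B) ⊗ₜ[k] (D ℤ k c))) = (1 : L) ⊗ₜ[B] (D ℤ B (algebraMap k B c)) := by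
  rw [LinearMap.lTensor_tmul, KaehlerDifferential.mapBaseChange_tmul, one_smul,
    KaehlerDifferential.map_D]

/-- if every derivation `k → L` extends to `B`, then `L ⊗ (B ⊗ Ω_k) → L ⊗ Ω_B` is injective. -/
theorem injective_lTensor_of_ext
    (hext : ∀ D₀ : Derivation ℤ k L, ∃ D' : Derivation ℤ B L,
      ∀ c, D' (algebraMap k B c) = D₀ c) :
    Function.Injective ((KaehlerDifferential.mapBaseChange ℤ k B).lTensor L) := by
  set f := (KaehlerDifferential.mapBaseChange ℤ k B).lTensor L with hf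
  rw [injective_iff_map_eq_zero]
  intro x hx
  rw [← Module.forall_dual_apply_eq_zero_iff L x]
  intro lam
  -- the derivation attached to the functional
  let φ : k →+ L := AddMonoidHom.mk'
    (fun c => lam ((1 : L) ⊗ₜ[B] ((1 : B) ⊗ₜ[k] (D ℤ k c))))
    (fun a b => by simp only [map_add, TensorProduct.tmul_add])
  let D₀ : Derivation ℤ k L := Derivation.mk' φ.toIntLinearMap (fun a b => by
    change lam ((1 : L) ⊗ₜ[B] ((1 : B) ⊗ₜ[k] (D ℤ k (a * b)))) =
      a • lam ((1 : L) ⊗ₜ[B] ((1 : B) ⊗ₜ[k] (D ℤ k b))) +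
      b • lam ((1 : L) ⊗ₜ[B] ((1 : B) ⊗ₜ[k] (D ℤ k a)))
    rw [Derivation.leibniz, TensorProduct.tmul_add, TensorProduct.tmul_add, map_add,
      one_tmul_one_tmul_smul, one_tmul_one_tmul_smul, map_smul, map_smul,
      algebraMap_smul, algebraMap_smul])
  obtain ⟨D', hD'⟩ := hext D₀
  let lam' : L ⊗[B] Ω[B⁄ℤ] →ₗ[L] L := LinearMap.liftBaseChange L D'.liftKaehlerDifferential
  have hcomp : lam = lam' ∘ₗ ((KaehlerDifferential.mapBaseChange ℤ k B).baseChange L) := by
    apply ext_of_D
    intro c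
    rw [LinearMap.comp_apply, LinearMap.baseChange_eq_ltensor, lTensor_mapBaseChange_apply,
      LinearMap.liftBaseChange_tmul, one_smul, Derivation.liftKaehlerDifferential_comp_D, hD']
    rfl
  rw [hcomp, LinearMap.comp_apply, LinearMap.baseChange_eq_ltensor]
  change lam' (f x) = 0
  rw [hx, map_zero]

/-- if `L ⊗ (B ⊗ Ω_k) → L ⊗ Ω_B` is injective, then every derivation from `k` to an `L`-vector
space extends to `B`. -/
theorem exists_ext_of_injective_lTensor
    (hinj : Function.Injective ((KaehlerDifferential.mapBaseChange ℤ k B).lTensor L))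
    {V : Type u} [AddCommGroup V] [Module B V] [Module k V] [IsScalarTower k B V]
    [Module L V] [IsScalarTower B L V] (D₀ : Derivation ℤ k V) :
    ∃ D' : Derivation ℤ B V, ∀ c, D' (algebraMap k B c) = D₀ c := by
  set f' := (KaehlerDifferential.mapBaseChange ℤ k B).baseChange L with hf'
  have hker : LinearMap.ker f' = ⊥ := by
    rw [LinearMap.ker_eq_bot]
    intro x y hxy
    apply hinj
    rw [← LinearMap.baseChange_eq_ltensor]
    exact hxy
  obtain ⟨g, hg⟩ := LinearMap.exists_leftInverse_of_injective f' hker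
  let φM : B ⊗[k] Ω[k⁄ℤ] →ₗ[B] V := LinearMap.liftBaseChange B D₀.liftKaehlerDifferential
  let φX : L ⊗[B] (B ⊗[k] Ω[k⁄ℤ]) →ₗ[L] V := LinearMap.liftBaseChange L φM
  let h : L ⊗[B] Ω[B⁄ℤ] →ₗ[L] V := φX ∘ₗ g
  let φ' : B →+ V := AddMonoidHom.mk'
    (fun b => h ((1 : L) ⊗ₜ[B] (D ℤ B b)))
    (fun a b => by simp only [map_add, TensorProduct.tmul_add])
  let D' : Derivation ℤ B V := Derivation.mk' φ'.toIntLinearMap (fun a b => by
    change h ((1 : L) ⊗ₜ[B] (D ℤ B (a * b))) =
      a • h ((1 : L) ⊗ₜ[B] (D ℤ B b)) + b • h ((1 : L) ⊗ₜ[B] (D ℤ B a))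
    rw [Derivation.leibniz, TensorProduct.tmul_add, map_add, one_tmul_smul, one_tmul_smul,
      map_smul, map_smul, algebraMap_smul, algebraMap_smul])
  refine ⟨D', fun c => ?_⟩
  change h ((1 : L) ⊗ₜ[B] (D ℤ B (algebraMap k B c))) = D₀ c
  rw [← lTensor_mapBaseChange_apply, ← LinearMap.baseChange_eq_ltensor]
  change φX (g (f' _)) = _
  have h1 := LinearMap.congr_fun hg ((1 : L) ⊗ₜ[B] ((1 : B) ⊗ₜ[k] (D ℤ k c)))
  rw [LinearMap.comp_apply, LinearMap.id_apply] at h1
  rw [h1]
  change LinearMap.liftBaseChange L φM _ = _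
  rw [LinearMap.liftBaseChange_tmul, one_smul]
  change LinearMap.liftBaseChange B D₀.liftKaehlerDifferential _ = _
  rw [LinearMap.liftBaseChange_tmul, one_smul, Derivation.liftKaehlerDifferential_comp_D]

end Linear

section Ext

open IsLocalRing

/-- dual numbers over a field, as a bare commutative ring (no algebra instances). -/
def Tw (L : Type u) [Field L] : Type u := TrivSqZeroExt L L

noncomputable instance (L : Type u) [Field L] : CommRing (Tw L) :=
  inferInstanceAs (CommRing (TrivSqZeroExt L L))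

lemma Tw.fst_mul {L : Type u} [Field L] (x y : Tw L) :
    TrivSqZeroExt.fst (x * y : Tw L) = TrivSqZeroExt.fst x * TrivSqZeroExt.fst y :=
  TrivSqZeroExt.fst_mul (R := L) (M := L) x y

lemma Tw.snd_mul {L : Type u} [Field L] (x y : Tw L) :
    TrivSqZeroExt.snd (x * y : Tw L) =
      TrivSqZeroExt.fst x * TrivSqZeroExt.snd y + TrivSqZeroExt.fst y * TrivSqZeroExt.snd x := by
  refine (TrivSqZeroExt.snd_mul (R := L) (M := L) x y).trans ?_
  simp [mul_comm]

/-- lifting along a surjection with square-zero kernel. -/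
theorem lift_of_surjective {R S : Type u} [CommRing R] [CommRing S] [Algebra R S] (𝔫 : Ideal S)
    (h : CAlgX.IsAdicFormallySmooth R S 𝔫) {E E'' : Type u} [CommRing E] [CommRing E'']
    [Algebra R E] [Algebra R E''] (q : E →ₐ[R] E'') (hq : Function.Surjective q)
    (hsq : RingHom.ker q ^ 2 = ⊥) (u : S →ₐ[R] E'') (hu : ∃ m : ℕ, ∀ x ∈ 𝔫 ^ m, u x = 0) :
    ∃ v : S →ₐ[R] E, q.comp v = u := by
  let e : (E ⧸ RingHom.ker q) ≃ₐ[R] E'' := Ideal.quotientKerAlgEquivOfSurjective hq
  obtain ⟨v, hv⟩ := h E (RingHom.ker q) hsq (e.symm.toAlgHom.comp u) (by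
    obtain ⟨m, hm⟩ := hu
    exact ⟨m, fun x hx => by simp [hm x hx]⟩)
  refine ⟨v, ?_⟩
  ext b
  have h1 := congrArg (fun f => e (f b)) hv
  simpa [e] using h1

variable {k A : Type u} [Field k] [CommRing A] [IsLocalRing A] [Algebra k A]

/-- formal smoothness gives extensions of derivations with values in the residue field. -/
theorem exists_ext_of_isAdicFormallySmooth
    (h : CAlgX.IsAdicFormallySmooth k A (maximalIdeal A))
    (D₀ : Derivation ℤ k (ResidueField A)) :
    ∃ D' : Derivation ℤ A (ResidueField A), ∀ c, D' (algebraMap k A c) = D₀ c := by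
  let ρ₀ : k →+* TrivSqZeroExt (ResidueField A) (ResidueField A) :=
    { toFun := fun c => TrivSqZeroExt.inl (algebraMap k (ResidueField A) c) +
        TrivSqZeroExt.inr (D₀ c)
      map_one' := by
        apply TrivSqZeroExt.ext <;> simp
      map_mul' := fun x y => by
        apply TrivSqZeroExt.ext
        · simp
        · simp only [TrivSqZeroExt.snd_mul, TrivSqZeroExt.fst_add, TrivSqZeroExt.fst_inl,
            TrivSqZeroExt.fst_inr, TrivSqZeroExt.snd_add, TrivSqZeroExt.snd_inl,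
            TrivSqZeroExt.snd_inr, add_zero, zero_add, Derivation.leibniz, smul_eq_mul,
            MulOpposite.smul_eq_mul_unop, MulOpposite.unop_op, Algebra.smul_def]
          ring
      map_zero' := by
        apply TrivSqZeroExt.ext <;> simp
      map_add' := fun x y => by
        apply TrivSqZeroExt.ext <;> simp [add_comm, add_left_comm] }
  let ρ : k →+* Tw (ResidueField A) := ρ₀
  letI algT : Algebra k (Tw (ResidueField A)) := ρ.toAlgebra
  let q₀ : TrivSqZeroExt (ResidueField A) (ResidueField A) →+* ResidueField A :=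
    (TrivSqZeroExt.fstHom (ResidueField A) (ResidueField A) (ResidueField A)).toRingHom
  let q : Tw (ResidueField A) →ₐ[k] ResidueField A :=
    { (q₀ : Tw (ResidueField A) →+* ResidueField A) with
      commutes' := fun c => by
        change TrivSqZeroExt.fst (ρ₀ c) = _
        simp [ρ₀] }
  have hq : Function.Surjective q := fun l =>
    ⟨(TrivSqZeroExt.inl l : TrivSqZeroExt (ResidueField A) (ResidueField A)),
      TrivSqZeroExt.fst_inl (ResidueField A) l⟩
  have hsq : RingHom.ker q ^ 2 = ⊥ := by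
    rw [eq_bot_iff, pow_two, Ideal.mul_le]
    intro x hx y hy
    rw [RingHom.mem_ker] at hx hy
    rw [Ideal.mem_bot]
    have hx' : TrivSqZeroExt.fst (x : TrivSqZeroExt (ResidueField A) (ResidueField A)) = 0 := hx
    have hy' : TrivSqZeroExt.fst (y : TrivSqZeroExt (ResidueField A) (ResidueField A)) = 0 := hy
    apply TrivSqZeroExt.ext
    · change TrivSqZeroExt.fst (x * y : Tw (ResidueField A)) = 0
      rw [Tw.fst_mul, hx', zero_mul]
    · change TrivSqZeroExt.snd (x * y : Tw (ResidueField A)) = 0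
      rw [Tw.snd_mul, hx', hy', zero_mul, zero_mul, add_zero]
  let u : A →ₐ[k] ResidueField A := IsScalarTower.toAlgHom k A (ResidueField A)
  have hu : ∃ m : ℕ, ∀ x ∈ maximalIdeal A ^ m, u x = 0 := by
    refine ⟨1, fun x hx => ?_⟩
    rw [pow_one] at hx
    change algebraMap A (ResidueField A) x = 0
    rw [IsLocalRing.ResidueField.algebraMap_eq, IsLocalRing.residue_eq_zero_iff]
    exact hx
  obtain ⟨v, hv⟩ := lift_of_surjective (maximalIdeal A) h q hq hsq u hu
  have hfst : ∀ a : A, TrivSqZeroExt.fst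
      (v a : TrivSqZeroExt (ResidueField A) (ResidueField A)) = algebraMap A (ResidueField A) a :=
    fun a => DFunLike.congr_fun hv a
  let φ : A →+ ResidueField A := AddMonoidHom.mk'
    (fun a => TrivSqZeroExt.snd (v a : TrivSqZeroExt (ResidueField A) (ResidueField A)))
    (fun a b => by rw [map_add]; exact TrivSqZeroExt.snd_add _ _)
  let D' : Derivation ℤ A (ResidueField A) := Derivation.mk' φ.toIntLinearMap (fun a b => by
    change TrivSqZeroExt.snd (v (a * b) : TrivSqZeroExt (ResidueField A) (ResidueField A)) =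
      a • TrivSqZeroExt.snd (v b : TrivSqZeroExt (ResidueField A) (ResidueField A)) +
      b • TrivSqZeroExt.snd (v a : TrivSqZeroExt (ResidueField A) (ResidueField A))
    rw [map_mul, Tw.snd_mul, hfst, hfst, Algebra.smul_def, Algebra.smul_def])
  refine ⟨D', fun c => ?_⟩
  change TrivSqZeroExt.snd
    (v (algebraMap k A c) : TrivSqZeroExt (ResidueField A) (ResidueField A)) = D₀ c
  rw [v.commutes]
  change TrivSqZeroExt.snd (ρ₀ c) = D₀ c
  simp only [ρ₀, RingHom.coe_mk, MonoidHom.coe_mk, OneHom.coe_mk, TrivSqZeroExt.snd_add,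
    TrivSqZeroExt.snd_inl, TrivSqZeroExt.snd_inr, zero_add]

end Ext

end Groth.Agent.Lib.KaehlerFS50
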