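import Groth.Agent.Lib.PBasisFieldH44

/-!
# helper44: existence of p-bases in fields (EGA 0_IV 21.4.2)

* restriction of a family to a subset: `IsPIndependent p A (fun j : J => x j) ↔ IndepOn p A x J`,
  `IsPGenerating p A (fun j : J => x j) ↔ adjoin (x '' J) = ⊤`;
* `exists_pBasis_between`: in a field extension of characteristic `p`, between a `p`-free set
  and a `p`-generating set there is a `p`-basis.
-/

set_option autoImplicit false
universe u

namespace Groth.Agent.Lib.PBasisField2H44

open EGA41 Groth.Agent.Lib.PBasisH44 Groth.Agent.Lib.PBasisFieldH44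

section Restrict

variable (p : ℕ) [hp : Fact p.Prime] {A B : Type u} [CommRing A] [CommRing B] [Algebra A B]
  {ι : Type u} (x : ι → B) (J : Set ι)

/-- from exponents on the subtype to exponents supported in `J` -/
noncomputable def up (e : {e : ↥J →₀ ℕ // ∀ i, e i < p}) : IdxOn p J :=
  ⟨e.1.mapDomain Subtype.val, by
    classical
    intro i hi
    have := Finsupp.mapDomain_support hi
    obtain ⟨j, -, rfl⟩ := Finset.mem_image.1 this
    exact j.2, by
    intro i
    by_cases hi : i ∈ J
    · have := Finsupp.mapDomain_apply Subtype.val_injective e.1 (⟨i, hi⟩ : ↥J)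
      rw [this]
      exact e.2 _
    · rw [Finsupp.mapDomain_of_notMem_range]
      · exact hp.out.pos
      · rintro ⟨j, rfl⟩
        exact hi j.2⟩

omit hp in
/-- from exponents supported in `J` to exponents on the subtype -/
noncomputable def down (e : IdxOn p J) : {e : ↥J →₀ ℕ // ∀ i, e i < p} :=
  ⟨e.1.subtypeDomain (· ∈ J), fun i => e.2.2 i⟩

theorem mon_up (e : {e : ↥J →₀ ℕ // ∀ i, e i < p}) :
    mon x (up p J e).1 = mon (fun j : J => x j) e.1 := by
  unfold mon up
  exact Finsupp.prod_mapDomain_index_inj Subtype.val_injective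

omit hp in
theorem mon_down (e : IdxOn p J) : mon (fun j : J => x j) (down p J e).1 = mon x e.1 := by
  unfold mon down
  exact Finsupp.prod_subtypeDomain_index (h := fun i n => x i ^ n) (fun i hi => e.2.1 hi)

theorem up_injective : Function.Injective (up p J) := by
  intro e e' h
  have : e.1.mapDomain Subtype.val = e'.1.mapDomain Subtype.val :=
    congrArg (fun t : IdxOn p J => t.1) h
  exact Subtype.ext (Finsupp.mapDomain_injective Subtype.val_injective this)

omit hp in
theorem down_injective : Function.Injective (down p J) := by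
  intro e e' h
  have h1 : e.1.subtypeDomain (· ∈ J) = e'.1.subtypeDomain (· ∈ J) :=
    congrArg (fun t : {e : ↥J →₀ ℕ // ∀ i, e i < p} => t.1) h
  apply Subtype.ext
  ext i
  by_cases hi : i ∈ J
  · exact DFunLike.congr_fun h1 (⟨i, hi⟩ : ↥J)
  · have h2 : e.1 i = 0 := by
      rw [← Finsupp.notMem_support_iff]
      exact fun h => hi (e.2.1 h)
    have h3 : e'.1 i = 0 := by
      rw [← Finsupp.notMem_support_iff]
      exact fun h => hi (e'.2.1 h)
    rw [h2, h3]

theorem isPIndependent_restrict_iff :
    IsPIndependent p A (fun j : J => x j) ↔ IndepOn p A x J := by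
  constructor
  · intro h
    have := h.comp (down p J) (down_injective p J)
    have hfam : (fun e : IdxOn p J => mon x e.1) =
        (fun e : {e : ↥J →₀ ℕ // ∀ i, e i < p} => pMonomial (fun j : J => x j) e.1) ∘ down p J := by
      funext e
      exact (mon_down p x J e).symm
    unfold IndepOn
    rw [hfam]
    exact this
  · intro h
    have := h.comp (up p J) (up_injective p J)
    have hfam : (fun e : {e : ↥J →₀ ℕ // ∀ i, e i < p} => pMonomial (fun j : J => x j) e.1) =
        (fun e : IdxOn p J => mon x e.1) ∘ up p J := by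
      funext e
      exact (mon_up p x J e).symm
    unfold IsPIndependent
    rw [hfam]
    exact this

theorem range_restrict_eq :
    (Set.range fun e : {e : ↥J →₀ ℕ // ∀ i, e i < p} => pMonomial (fun j : J => x j) e.1) =
      Set.range fun e : IdxOn p J => mon x e.1 := by
  apply Set.Subset.antisymm
  · rintro _ ⟨e, rfl⟩
    exact ⟨up p J e, mon_up p x J e⟩
  · rintro _ ⟨e, rfl⟩
    exact ⟨down p J e, mon_down p x J e⟩

theorem isPGenerating_restrict_iff :
    IsPGenerating p A (fun j : J => x j) ↔
      Algebra.adjoin (pPowerSubalgebra p A B) (x '' J) = ⊤ := by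
  unfold IsPGenerating
  rw [range_restrict_eq, span_eq_adjoin, ← Algebra.toSubmodule_eq_top]

end Restrict

section Zorn

variable (p : ℕ) [hp : Fact p.Prime] {k K : Type u} [Field k] [Field K] [Algebra k K] [CharP K p]

theorem exists_maximal_indepOn (S L : Set K) (hLS : L ⊆ S)
    (hS : Algebra.adjoin (pPowerSubalgebra p k K) S = ⊤)
    (hL : IndepOn p k (id : K → K) L) :
    ∃ B : Set K, L ⊆ B ∧ B ⊆ S ∧ IndepOn p k (id : K → K) B ∧
      Algebra.adjoin (pPowerSubalgebra p k K) B = ⊤ := by
  classical
  let 𝒮 : Set (Set K) := {T | L ⊆ T ∧ T ⊆ S ∧ IndepOn p k (id : K → K) T}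
  obtain ⟨B, hLB, hBmax⟩ := zorn_subset_nonempty 𝒮 (by
    intro c hc hchain hne
    refine ⟨⋃₀ c, ⟨?_, ?_, ?_⟩, fun s hs => Set.subset_sUnion_of_mem hs⟩
    · obtain ⟨T, hT⟩ := hne
      exact (hc hT).1.trans (Set.subset_sUnion_of_mem hT)
    · exact Set.sUnion_subset fun T hT => (hc hT).2.1
    · apply indepOn_of_finite
      intro J' hfin hsub
      obtain ⟨T, hT, hJT⟩ :=
        DirectedOn.exists_mem_subset_of_finite_of_subset_sUnion hne hchain.directedOn hfin hsub
      exact (hc hT).2.2.mono p _ hJT) L ⟨subset_rfl, hLS, hL⟩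
  obtain ⟨hLB', hBS, hBind⟩ := hBmax.prop
  refine ⟨B, hLB, hBS, hBind, ?_⟩
  by_contra hne
  have : ∃ s ∈ S, s ∉ Algebra.adjoin (pPowerSubalgebra p k K) B := by
    by_contra hcon
    push Not at hcon
    apply hne
    rw [eq_top_iff, ← hS]
    exact Algebra.adjoin_le hcon
  obtain ⟨s, hsS, hs⟩ := this
  have hsB : s ∉ B := fun h => hs (Algebra.subset_adjoin h)
  have hins : IndepOn p k (id : K → K) (insert s B) := by
    apply indepOn_insert p id hBind hsB
    rwa [Set.image_id]
  have hmem : insert s B ∈ 𝒮 :=
    ⟨hLB.trans (Set.subset_insert s B), Set.insert_subset hsS hBS, hins⟩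
  exact hsB (hBmax.le_of_ge hmem (Set.subset_insert s B) (Set.mem_insert s B))

/-- between a `p`-free set and a `p`-generating set there is a `p`-basis -/
theorem exists_pBasis_between (S L : Set K) (hLS : L ⊆ S)
    (hS : IsPGenerating p k (Subtype.val : S → K))
    (hL : IsPIndependent p k (Subtype.val : L → K)) :
    ∃ B : Set K, L ⊆ B ∧ B ⊆ S ∧ IsPBasis p k (Subtype.val : B → K) := by
  have hS' := (isPGenerating_restrict_iff p (A := k) (id : K → K) S).1 hS
  rw [Set.image_id] at hS'
  have hL' := (isPIndependent_restrict_iff p (A := k) (id : K → K) L).1 hL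
  obtain ⟨B, hLB, hBS, hBind, hBgen⟩ := exists_maximal_indepOn p S L hLS hS' hL'
  refine ⟨B, hLB, hBS, (isPIndependent_restrict_iff p (A := k) (id : K → K) B).2 hBind, ?_⟩
  apply (isPGenerating_restrict_iff p (A := k) (id : K → K) B).2
  rwa [Set.image_id]

end Zorn

end Groth.Agent.Lib.PBasisField2H44
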