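import Groth.Agent.Lib.PBasisH44

/-!
# helper44: p-bases, second part

* `existsUnique_algHom_of_injective`: `A ↪ B`, `B^p ⊆ A`, `x` a `p`-basis: `A`-algebra maps
  `B → T` correspond to families `z` with `z i ^ p` the image of the element of `A` giving `x i ^ p`.
* `existsUnique_ringHom_pow`: `A` perfect, `B` reduced with a `p`-basis `x`: a ring map
  `w : B → T` is determined by and can be prescribed through `b ↦ w (b ^ p ^ n)` and the `w (x i)`.
* `existsUnique_lift_of_perfect`: unique liftings through nilpotent ideals with prescribed values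
  on the `p`-basis.
-/

set_option autoImplicit false
universe u w

namespace Groth.Agent.Lib.PBasis2H44

open EGA41 Groth.Agent.Lib.PBasisH44

section Inj

variable (p : ℕ) [Fact p.Prime] {A B : Type u} [CommRing A] [CommRing B] [Algebra A B]
  (hinj : Function.Injective (algebraMap A B))
  (hpow : ∀ b : B, b ^ p ∈ Set.range (algebraMap A B))

omit [Fact (Nat.Prime p)] in
include hpow in
theorem mem_range_of_mem (c : pPowerSubalgebra p A B) : ∃ a : A, algebraMap A B a = c := by
  have hle : pPowerSubalgebra p A B ≤ ⊥ := by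
    refine Algebra.adjoin_le ?_
    rintro _ ⟨b, rfl⟩
    exact Algebra.mem_bot.2 (hpow b)
  exact Algebra.mem_bot.1 (hle c.2)

include hinj hpow in
theorem existsUnique_algHom_of_injective {ι : Type u} (x : ι → B) (hx : IsPBasis p A x)
    {T : Type w} [CommRing T] [Algebra A T] (z : ι → T)
    (hz : ∀ (i : ι) (a : A), algebraMap A B a = x i ^ p → algebraMap A T a = z i ^ p) :
    ∃! v : B →ₐ[A] T, ∀ i, v (x i) = z i := by
  classical
  have hbij : Function.Bijective (algebraMap A (pPowerSubalgebra p A B)) := by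
    constructor
    · intro a a' h
      exact hinj (congrArg Subtype.val h)
    · intro c
      obtain ⟨a, ha⟩ := mem_range_of_mem p hpow c
      exact ⟨a, Subtype.ext ha⟩
  let e : A ≃+* pPowerSubalgebra p A B := RingEquiv.ofBijective _ hbij
  let g : pPowerSubalgebra p A B →+* T := (algebraMap A T).comp e.symm.toRingHom
  have hg : ∀ a : A, g (algebraMap A (pPowerSubalgebra p A B) a) = algebraMap A T a := by
    intro a
    change algebraMap A T (e.symm (e a)) = _
    rw [e.symm_apply_apply]
  have hg' : ∀ (c : pPowerSubalgebra p A B) (a : A),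
      algebraMap A B a = c → g c = algebraMap A T a := by
    intro c a h
    rw [← hg a]
    congr 1
    exact Subtype.ext h.symm
  have hzp : ∀ i, z i ^ p = g ⟨x i ^ p, pow_mem p (x i)⟩ := by
    intro i
    obtain ⟨a, ha⟩ := hpow (x i)
    rw [hg' ⟨x i ^ p, pow_mem p (x i)⟩ a ha]
    exact (hz i a ha).symm
  obtain ⟨v₀, hv₀C, hv₀x⟩ := exists_ringHom p hx g z hzp
  have hcomm : ∀ a : A, v₀ (algebraMap A B a) = algebraMap A T a := by
    intro a
    have := hv₀C (algebraMap A (pPowerSubalgebra p A B) a)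
    rw [hg a] at this
    exact this
  let v : B →ₐ[A] T := { v₀ with commutes' := hcomm }
  refine ⟨v, hv₀x, ?_⟩
  intro v' hv'
  have : (v' : B →+* T) = (v : B →+* T) := by
    refine ringHom_ext p hx _ _ ?_ ?_
    · intro c
      obtain ⟨a, ha⟩ := mem_range_of_mem p hpow c
      rw [← ha]
      simp
    · intro i
      change v' (x i) = v₀ (x i)
      rw [hv' i, hv₀x i]
  exact AlgHom.coe_ringHom_injective this

omit [Fact (Nat.Prime p)] in
include hpow in
/-- two `A`-algebra maps out of `B` agreeing on a `p`-basis are equal -/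
theorem algHom_ext_of_pow_mem {ι : Type u} (x : ι → B) (hx : IsPBasis p A x)
    {T : Type w} [CommRing T] [Algebra A T] (v v' : B →ₐ[A] T) (h : ∀ i, v (x i) = v' (x i)) :
    v = v' := by
  have : (v : B →+* T) = (v' : B →+* T) := by
    refine ringHom_ext p hx _ _ ?_ h
    intro c
    obtain ⟨a, ha⟩ := mem_range_of_mem p hpow c
    rw [← ha]
    simp
  exact AlgHom.coe_ringHom_injective this

end Inj

section Perfect

variable (p : ℕ) [hp : Fact p.Prime] {A B : Type u} [CommRing A] [PerfectRing A p]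
  [CommRing B] [Algebra A B] [CharP B p]

omit hp in
/-- for perfect `A`, every element of `A[B^p]` is a `p`-th power -/
theorem exists_pow_eq_of_mem [Fact p.Prime] (c : B) (hc : c ∈ pPowerSubalgebra p A B) :
    ∃ b : B, b ^ p = c := by
  induction hc using Algebra.adjoin_induction with
  | mem c hc =>
    obtain ⟨b, rfl⟩ := hc
    exact ⟨b, rfl⟩
  | algebraMap a =>
    obtain ⟨α, hα⟩ := (PerfectRing.bijective_frobenius (R := A) (p := p)).2 a
    refine ⟨algebraMap A B α, ?_⟩
    rw [← map_pow]
    exact congrArg _ hα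
  | add s t _ _ hs ht =>
    obtain ⟨b, rfl⟩ := hs
    obtain ⟨b', rfl⟩ := ht
    exact ⟨b + b', add_pow_char b b' p⟩
  | mul s t _ _ hs ht =>
    obtain ⟨b, rfl⟩ := hs
    obtain ⟨b', rfl⟩ := ht
    exact ⟨b * b', mul_pow b b' p⟩

variable [IsReduced B] {ι : Type u} {x : ι → B} {T : Type w} [CommRing T]

theorem existsUnique_ringHom_one (hx : IsPBasis p A x) (g₁ : B →+* T) (z : ι → T)
    (hz : ∀ i, z i ^ p = g₁ (x i)) :
    ∃! v : B →+* T, (∀ b, v (b ^ p) = g₁ b) ∧ ∀ i, v (x i) = z i := by
  classical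
  have hFinj : Function.Injective (fun b : B => b ^ p) := frobenius_inj B p
  let F₀ : B →+* pPowerSubalgebra p A B :=
    (frobenius B p).codRestrict (pPowerSubalgebra p A B).toSubring (fun b => pow_mem p b)
  have hF₀ : ∀ b, (F₀ b : B) = b ^ p := fun b => rfl
  have hbij : Function.Bijective F₀ := by
    constructor
    · intro b b' h
      exact hFinj (congrArg Subtype.val h)
    · intro c
      obtain ⟨b, hb⟩ := exists_pow_eq_of_mem p c.1 c.2
      exact ⟨b, Subtype.ext hb⟩
  let F : B ≃+* pPowerSubalgebra p A B := RingEquiv.ofBijective F₀ hbij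
  let g : pPowerSubalgebra p A B →+* T := g₁.comp F.symm.toRingHom
  have hg : ∀ b : B, g ⟨b ^ p, pow_mem p b⟩ = g₁ b := by
    intro b
    change g₁ (F.symm ⟨b ^ p, pow_mem p b⟩) = g₁ b
    congr 1
    rw [RingEquiv.symm_apply_eq]
    exact Subtype.ext (hF₀ b).symm
  obtain ⟨v, hvC, hvx⟩ := exists_ringHom p hx g z (fun i => by rw [hg, hz])
  refine ⟨v, ⟨fun b => ?_, hvx⟩, ?_⟩
  · have := hvC ⟨b ^ p, pow_mem p b⟩
    rw [hg] at this
    exact this
  · rintro v' ⟨h1, h2⟩
    refine ringHom_ext p hx _ _ ?_ ?_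
    · intro c
      obtain ⟨b, hb⟩ := exists_pow_eq_of_mem p c.1 c.2
      rw [← hb, h1]
      have := hvC ⟨b ^ p, pow_mem p b⟩
      rw [hg] at this
      exact this.symm
    · intro i
      rw [h2, hvx]

theorem existsUnique_ringHom_pow (hx : IsPBasis p A x) (n : ℕ) :
    ∀ (g : B →+* T) (z : ι → T), (∀ i, z i ^ p ^ n = g (x i)) →
      ∃! v : B →+* T, (∀ b, v (b ^ p ^ n) = g b) ∧ ∀ i, v (x i) = z i := by
  induction n with
  | zero =>
    intro g z hz
    refine ⟨g, ⟨fun b => by simp, fun i => by simpa using (hz i).symm⟩, ?_⟩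
    rintro v' ⟨h1, -⟩
    ext b
    simpa using h1 b
  | succ n ih =>
    intro g z hz
    obtain ⟨wn, ⟨hwn1, hwn2⟩, hwnu⟩ := ih g (fun i => z i ^ p) (fun i => by
      rw [← pow_mul, ← pow_succ']
      exact hz i)
    obtain ⟨w, ⟨hw1, hw2⟩, hwu⟩ := existsUnique_ringHom_one (A := A) p hx wn z (fun i => (hwn2 i).symm)
    refine ⟨w, ⟨fun b => ?_, hw2⟩, ?_⟩
    · rw [pow_succ, pow_mul, hw1, hwn1]
    · rintro w' ⟨h1, h2⟩
      apply hwu
      refine ⟨fun b => ?_, h2⟩
      have hw'n : w'.comp (frobenius B p) = wn := by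
        apply hwnu
        refine ⟨fun b => ?_, fun i => ?_⟩
        · change w' ((b ^ p ^ n) ^ p) = g b
          rw [← pow_mul, ← pow_succ, h1]
        · change w' (x i ^ p) = z i ^ p
          rw [map_pow, h2]
      exact RingHom.congr_fun hw'n b

end Perfect

end Groth.Agent.Lib.PBasis2H44
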