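import Groth.Agent.Lib.ArtinSmoothField
import Groth.Agent.Lib.PBasisField2H44
import Groth.Agent.S4541

/-!
# Field extensions of perfect fields are formally smooth; Artinian local formally smooth
algebras over a field are fields (helper45)

Uses helper44's p-basis library (existence of p-bases, and `S4541`: a reduced algebra with a p-basis
over a perfect ring is formally smooth).
-/

set_option autoImplicit false
universe u v w

namespace Groth.Agent.Lib.ArtinSmoothField2

open IsLocalRing EGA41 Groth.Agent.Lib.PBasisH44 Groth.Agent.Lib.PBasisFieldH44
  Groth.Agent.Lib.PBasisField2H44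

/-- every field extension in characteristic `p` has a `p`-basis -/
theorem exists_pBasis (p : ℕ) [Fact p.Prime] (k K : Type u) [Field k] [Field K] [Algebra k K]
    [CharP K p] : ∃ B : Set K, IsPBasis p k (Subtype.val : B → K) := by
  obtain ⟨B, -, -, hBind, hBgen⟩ := exists_maximal_indepOn p (k := k) (K := K) Set.univ ∅
    (Set.empty_subset _) (by rw [Algebra.adjoin_univ]) (indepOn_empty p id)
  refine ⟨B, (isPIndependent_restrict_iff p (A := k) (id : K → K) B).2 hBind, ?_⟩
  apply (isPGenerating_restrict_iff p (A := k) (id : K → K) B).2
  rwa [Set.image_id]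

/-- a field extension of a perfect field of characteristic `p` is formally smooth
(both fields in the same universe) -/
theorem formallySmooth_of_perfect_charP (p : ℕ) [Fact p.Prime] (k K : Type u) [Field k] [Field K]
    [Algebra k K] [CharP k p] [PerfectRing k p] : Algebra.FormallySmooth k K := by
  have : CharP K p := charP_of_injective_algebraMap (algebraMap k K).injective p
  obtain ⟨B, hB⟩ := exists_pBasis p k K
  exact (Groth.Agent.S4541.result p (A := k) (B := K) (Subtype.val : B → K) hB).1

/-- a field extension of a perfect field of characteristic `p` is formally smooth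
(arbitrary universes) -/
theorem formallySmooth_of_perfect_charP' (p : ℕ) [Fact p.Prime] (k : Type u) (K : Type v)
    [Field k] [Field K] [Algebra k K] [CharP k p] [PerfectRing k p] :
    Algebra.FormallySmooth k K := by
  let k' := ULift.{max u v} k
  let K' := ULift.{max u v} K
  let _ : Algebra k' K' := ULift.algebra' k K'
  have : PerfectRing k' p := by
    apply PerfectRing.ofSurjective
    intro x
    obtain ⟨y, hy⟩ := surjective_frobenius k p x.down
    exact ⟨ULift.up y, ULift.ext _ _ hy⟩
  have h1 : Algebra.FormallySmooth k' K' := formallySmooth_of_perfect_charP p k' K'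
  have h0 : Algebra.FormallySmooth k k' :=
    Algebra.FormallySmooth.of_equiv (ULift.algEquiv (R := k) (A := k)).symm
  have : IsScalarTower k k' K' := IsScalarTower.of_algebraMap_eq (fun _ => rfl)
  have h2 : Algebra.FormallySmooth k K' := Algebra.FormallySmooth.comp k k' K'
  exact Algebra.FormallySmooth.of_equiv (ULift.algEquiv : K' ≃ₐ[k] K)

/-- Artinian local algebra, formally smooth over a field `κ` which is an extension of a perfect
field `k0` of characteristic `p`: it is a field. -/
theorem isField_of_perfect_base (p : ℕ) [Fact p.Prime] (k0 : Type w) (κ : Type u) (C : Type v)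
    [Field k0] [CharP k0 p]
    [PerfectRing k0 p] [Field κ] [Algebra k0 κ] [CommRing C] [Algebra κ C] [Algebra k0 C]
    [IsScalarTower k0 κ C] [IsLocalRing C] [IsArtinianRing C] [Algebra.FormallySmooth κ C] :
    IsField C := by
  have h1 : Algebra.FormallySmooth k0 κ := formallySmooth_of_perfect_charP' p k0 κ
  have h2 : Algebra.FormallySmooth k0 C := Algebra.FormallySmooth.comp k0 κ C
  have h3 : Algebra.FormallySmooth k0 (ResidueField C) :=
    formallySmooth_of_perfect_charP' p k0 (ResidueField C)
  exact Groth.Agent.Lib.ArtinSmoothField.isField k0 C

/-- An Artinian local ring which is formally smooth over a field is a field. -/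
theorem isField_of_formallySmooth_field (κ : Type u) (C : Type v) [Field κ] [CommRing C]
    [Algebra κ C]
    [IsLocalRing C] [IsArtinianRing C] [Algebra.FormallySmooth κ C] : IsField C := by
  obtain ⟨q, hq⟩ := CharP.exists κ
  rcases CharP.char_is_prime_or_zero κ q with hq' | hq'
  · have : Fact q.Prime := ⟨hq'⟩
    let k0 := ZMod q
    let f : k0 →+* κ := ZMod.castHom (dvd_refl q) κ
    let _ : Algebra k0 κ := f.toAlgebra
    let _ : Algebra k0 C := ((algebraMap κ C).comp f).toAlgebra
    have : IsScalarTower k0 κ C := IsScalarTower.of_algebraMap_eq (fun _ => rfl)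
    exact isField_of_perfect_base q k0 κ C
  · subst hq'
    have : CharZero κ := CharP.charP_to_charZero κ
    have : Algebra.FormallySmooth κ (ResidueField C) :=
      Groth.Agent.Lib.ArtinSmoothField.formallySmooth_of_charZero κ (ResidueField C)
    exact Groth.Agent.Lib.ArtinSmoothField.isField κ C

end Groth.Agent.Lib.ArtinSmoothField2
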