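import Mathlib
import Groth.Agent.Lib.ArtinSmoothField2

/-!
# One-variable purely inseparable step for regular local rings (helper44)

`A` regular local ring of characteristic `p`, `y : A`.  If `A[X]/(X^p - y)` is again a regular
local ring, then there is a field `L` over the residue field of `A` and a derivation
`D : A → L` with `D y ≠ 0`  (`exists_derivation_ne_zero`).

Pieces: `ringKrullDim_le_of_isIntegral`, `mem_sq_of_forall_derivation` (if all derivations into
residue-field vector spaces kill `y`, then `X^p - y ∈ M²` for the maximal ideal `M` of `A[X]`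
over the maximal ideal of the quotient), `not_mem_sq` (dimension count).
-/

namespace Groth.Agent.Lib.OneVarRegH44

open Polynomial IsLocalRing

universe u

/-- an integral extension does not raise the Krull dimension -/
theorem ringKrullDim_le_of_isIntegral (R S : Type*) [CommRing R] [CommRing S] [Algebra R S]
    [Algebra.IsIntegral R S] : ringKrullDim S ≤ ringKrullDim R := by
  refine Order.krullDim_le_of_strictMono (f := PrimeSpectrum.comap (algebraMap R S)) ?_
  intro a b hab
  exact Ideal.IsIntegral.comap_lt_comap (R := R) hab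

/-- square-zero ideal `I` of `C` with a ring-hom section `σ` of `C → C ⧸ I`: any nonzero element of `I`
is detected by a derivation into the field `C ⧸ I`. -/
theorem exists_derivation_of_section {C : Type u} [CommRing C] (I : Ideal C) [I.IsMaximal]
    (hI : I ^ 2 = ⊥) (σ : C ⧸ I →+* C) (hσ : ∀ l, Ideal.Quotient.mk I (σ l) = l)
    (a : C) (ha : a ∈ I) (ha0 : a ≠ 0) :
    letI : Field (C ⧸ I) := Ideal.Quotient.field I
    ∃ D : Derivation ℤ C (C ⧸ I), D a ≠ 0 := by
  letI : Field (C ⧸ I) := Ideal.Quotient.field I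
  have hδ : ∀ c : C, c - σ (Ideal.Quotient.mk I c) ∈ I := by
    intro c
    rw [← Ideal.Quotient.eq_zero_iff_mem, map_sub, hσ, sub_self]
  have hv : I.toCotangent ⟨a, ha⟩ ≠ 0 := by
    rw [Ne, Ideal.toCotangent_eq_zero, hI]
    exact ha0
  obtain ⟨lam, hlam⟩ : ∃ lam : I.Cotangent →ₗ[C ⧸ I] (C ⧸ I), lam (I.toCotangent ⟨a, ha⟩) ≠ 0 := by
    by_contra hcon
    push_neg at hcon
    exact hv ((Module.forall_dual_apply_eq_zero_iff (C ⧸ I) _).1 hcon)
  let φ : C →+ (C ⧸ I) := AddMonoidHom.mk'
    (fun c => lam (I.toCotangent ⟨c - σ (Ideal.Quotient.mk I c), hδ c⟩))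
    (fun c c' => by
      rw [← map_add, ← map_add]
      congr 2
      apply Subtype.ext
      simp only [map_add, Submodule.coe_add]
      ring)
  have hleib : ∀ c c' : C, φ (c * c') = c • φ c' + c' • φ c := by
    intro c c'
    change lam (I.toCotangent ⟨c * c' - σ (Ideal.Quotient.mk I (c * c')), hδ _⟩) =
      c • lam (I.toCotangent ⟨c' - σ (Ideal.Quotient.mk I c'), hδ c'⟩) +
      c' • lam (I.toCotangent ⟨c - σ (Ideal.Quotient.mk I c), hδ c⟩)
    have e1 : ∀ (c : C) (x : I), c • lam (I.toCotangent x) = lam (I.toCotangent (c • x)) := by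
      intro c x
      rw [← LinearMap.map_smul_of_tower, ← map_smul]
    rw [e1, e1, ← map_add, ← map_add]
    congr 1
    rw [Ideal.toCotangent_eq, pow_two]
    have h1 : (c - σ (Ideal.Quotient.mk I c)) * (c' - σ (Ideal.Quotient.mk I c')) ∈ I * I :=
      Ideal.mul_mem_mul (hδ c) (hδ c')
    convert (I * I).neg_mem h1 using 1
    simp only [map_mul, Submodule.coe_add, Submodule.coe_smul_of_tower, smul_eq_mul]
    ring
  let D : Derivation ℤ C (C ⧸ I) := Derivation.mk' φ.toIntLinearMap hleib
  refine ⟨D, ?_⟩
  change lam (I.toCotangent ⟨a - σ (Ideal.Quotient.mk I a), hδ a⟩) ≠ 0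
  convert hlam using 3
  apply Subtype.ext
  simp only
  rw [Ideal.Quotient.eq_zero_iff_mem.2 ha, map_zero, sub_zero]

/-- `B` of characteristic `p`, `M` a maximal ideal, `b ∈ M ∖ M²`: some derivation of `B` into a field
`L` with `ker (B → L) = M` does not kill `b`. -/
theorem exists_derivation_of_notMem_sq {B : Type u} [CommRing B] (p : ℕ) [Fact p.Prime] [CharP B p]
    (M : Ideal B) [M.IsMaximal] (b : B) (hb : b ∈ M) (hb2 : b ∉ M ^ 2) :
    ∃ (L : Type u) (_ : Field L) (_ : Algebra B L) (D : Derivation ℤ B L),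
      RingHom.ker (algebraMap B L) = M ∧ D b ≠ 0 := by
  let C := B ⧸ M ^ 2
  let I : Ideal C := M.map (Ideal.Quotient.mk (M ^ 2))
  have hI2 : I ^ 2 = ⊥ := by
    rw [← Ideal.map_pow, Ideal.map_quotient_self]
  have hle : M ^ 2 ≤ M := Ideal.pow_le_self two_ne_zero
  haveI hImax : I.IsMaximal :=
    Ideal.IsMaximal.map_of_surjective_of_ker_le Ideal.Quotient.mk_surjective
      (by rw [Ideal.mk_ker]; exact hle)
  haveI : Nontrivial C := Ideal.Quotient.nontrivial_iff.2 (fun h => by
    have : M = ⊤ := top_le_iff.1 (h ▸ hle)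
    exact (Ideal.IsMaximal.ne_top inferInstance) this)
  haveI : CharP C p := (CharP.charP_iff_prime_eq_zero (Fact.out)).2 (by
    rw [← map_natCast (Ideal.Quotient.mk (M ^ 2)), CharP.cast_eq_zero, map_zero])
  letI : Algebra (ZMod p) C := ZMod.algebra C p
  letI : Field (C ⧸ I) := Ideal.Quotient.field I
  haveI hfs : Algebra.FormallySmooth (ZMod p) (C ⧸ I) :=
    Groth.Agent.Lib.ArtinSmoothField2.formallySmooth_of_perfect_charP' p (ZMod p) (C ⧸ I)
  let σ : (C ⧸ I) →ₐ[ZMod p] C :=
    Algebra.FormallySmooth.lift I ⟨2, hI2⟩ (AlgHom.id (ZMod p) (C ⧸ I))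
  have hσ : ∀ l, Ideal.Quotient.mk I (σ l) = l := by
    intro l
    have := AlgHom.congr_fun
      (Algebra.FormallySmooth.comp_lift I ⟨2, hI2⟩ (AlgHom.id (ZMod p) (C ⧸ I))) l
    exact this
  have ha : Ideal.Quotient.mk (M ^ 2) b ∈ I := Ideal.mem_map_of_mem _ hb
  have ha0 : Ideal.Quotient.mk (M ^ 2) b ≠ 0 := by
    rwa [Ne, Ideal.Quotient.eq_zero_iff_mem]
  obtain ⟨D, hD⟩ := exists_derivation_of_section I hI2 σ.toRingHom hσ _ ha ha0
  refine ⟨C ⧸ I, inferInstance, inferInstance, D.compAlgebraMap B, ?_, ?_⟩
  · ext x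
    rw [RingHom.mem_ker, IsScalarTower.algebraMap_apply B C (C ⧸ I)]
    change Ideal.Quotient.mk I (Ideal.Quotient.mk (M ^ 2) x) = 0 ↔ _
    rw [Ideal.Quotient.eq_zero_iff_mem]
    constructor
    · intro hx
      have : x ∈ (M.map (Ideal.Quotient.mk (M ^ 2))).comap (Ideal.Quotient.mk (M ^ 2)) := hx
      rw [Ideal.comap_map_of_surjective _ Ideal.Quotient.mk_surjective, ← RingHom.ker_eq_comap_bot,
        Ideal.mk_ker, sup_eq_left.2 hle] at this
      exact this
    · intro hx
      exact Ideal.mem_map_of_mem _ hx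
  · exact hD

/-- dimension count: if `A[X]/(f)` (`f` monic) is regular local over the Noetherian local ring `A`,
then `f` is not in the square of the maximal ideal of `A[X]` over it. -/
theorem notMem_sq {A : Type u} [CommRing A] [IsLocalRing A] [IsNoetherianRing A] (f : A[X])
    (hf : f.Monic) [IsRegularLocalRing (AdjoinRoot f)] :
    f ∉ ((maximalIdeal (AdjoinRoot f)).comap (AdjoinRoot.mk f)) ^ 2 := by
  intro hf2
  set S := AdjoinRoot f with hS
  set M : Ideal A[X] := (maximalIdeal S).comap (AdjoinRoot.mk f) with hM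
  haveI hMmax : M.IsMaximal := Ideal.comap_isMaximal_of_surjective _ AdjoinRoot.mk_surjective
  haveI : Module.Finite A S := hf.finite_adjoinRoot
  haveI : Algebra.IsIntegral A S := Algebra.IsIntegral.of_finite A S
  -- M lies over the maximal ideal
  haveI : M.LiesOver (maximalIdeal A) := by
    constructor
    have h1 : M.under A = (maximalIdeal S).comap (algebraMap A S) := by
      rw [Ideal.under_def, hM, Ideal.comap_comap]
      rfl
    rw [h1]
    haveI := Ideal.isMaximal_comap_of_isIntegral_of_isMaximal (R := A) (maximalIdeal S)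
    exact (IsLocalRing.eq_maximalIdeal this).symm
  have hht : M.height = (maximalIdeal A).height + 1 :=
    Polynomial.height_eq_height_add_one (maximalIdeal A) M
  -- generators of the maximal ideal of S
  have hfg : (maximalIdeal S).FG := (isNoetherianRing_iff_ideal_fg S).1 inferInstance _
  set gens := Submodule.generators (maximalIdeal S) with hgens
  have hgfin : gens.Finite := Submodule.FG.finite_generators hfg
  have hgcard : gens.ncard = (maximalIdeal S).spanFinrank := Submodule.FG.generators_ncard hfg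
  let lift : S → A[X] := fun s => (AdjoinRoot.mk_surjective (g := f) s).choose
  have hlift : ∀ s, AdjoinRoot.mk f (lift s) = s := fun s =>
    (AdjoinRoot.mk_surjective (g := f) s).choose_spec
  set G : Set A[X] := lift '' gens with hG
  have hGfin : G.Finite := hgfin.image _
  have hGcard : G.ncard ≤ gens.ncard := Set.ncard_image_le hgfin
  set J : Ideal A[X] := Ideal.span G with hJ
  have hJmap : J.map (AdjoinRoot.mk f) = maximalIdeal S := by
    rw [hJ, Ideal.map_span, hG, Set.image_image]
    have : (fun s => AdjoinRoot.mk f (lift s)) '' gens = gens := by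
      simp only [hlift, Set.image_id']
    rw [this]
    exact Submodule.span_generators (maximalIdeal S)
  have hMJ : M = J ⊔ Ideal.span {f} := by
    have hker : RingHom.ker (AdjoinRoot.mk f) = Ideal.span {f} := by
      ext g
      rw [RingHom.mem_ker, AdjoinRoot.mk_eq_zero, Ideal.mem_span_singleton]
    rw [hM, ← hJmap, Ideal.comap_map_of_surjective _ AdjoinRoot.mk_surjective,
      ← RingHom.ker_eq_comap_bot, hker]
  have hJM : J ≤ M := by rw [hMJ]; exact le_sup_left
  -- localise
  let R := Localization.AtPrime M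
  have hn : maximalIdeal R = M.map (algebraMap A[X] R) :=
    (Localization.AtPrime.map_eq_maximalIdeal).symm
  have hle : maximalIdeal R ≤ J.map (algebraMap A[X] R) ⊔ maximalIdeal R • maximalIdeal R := by
    have hn' : maximalIdeal R = (J ⊔ Ideal.span {f}).map (algebraMap A[X] R) :=
      hn.trans (congrArg (Ideal.map (algebraMap A[X] R)) hMJ)
    conv_lhs => rw [hn', Ideal.map_sup]
    refine sup_le le_sup_left ?_
    refine le_trans ?_ le_sup_right
    rw [Ideal.map_span, Ideal.span_le, Set.image_singleton, Set.singleton_subset_iff, smul_eq_mul,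
      ← pow_two, hn, ← Ideal.map_pow]
    exact Ideal.mem_map_of_mem _ hf2
  have hfgn : (maximalIdeal R).FG := (isNoetherianRing_iff_ideal_fg R).1 inferInstance _
  have hle2 : maximalIdeal R ≤ J.map (algebraMap A[X] R) :=
    Submodule.le_of_le_smul_of_le_jacobson_bot hfgn
      (by rw [IsLocalRing.jacobson_eq_maximalIdeal ⊥ bot_ne_top]) hle
  have heq : maximalIdeal R = J.map (algebraMap A[X] R) :=
    le_antisymm hle2 (by rw [hn]; exact Ideal.map_mono hJM)
  have hJfg : J.FG := ⟨hGfin.toFinset, by rw [hJ]; simp⟩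
  have h1 : (maximalIdeal R).spanFinrank ≤ (maximalIdeal S).spanFinrank := by
    rw [heq]
    refine (Ideal.spanFinrank_map_le_of_fg _ hJfg).trans ?_
    refine (Submodule.spanFinrank_span_le_ncard_of_finite hGfin).trans ?_
    rw [← hgcard]
    exact hGcard
  have h2 : ringKrullDim R ≤ (maximalIdeal S).spanFinrank :=
    (ringKrullDim_le_spanFinrank_maximalIdeal R).trans (by exact_mod_cast h1)
  have h3 : ((maximalIdeal S).spanFinrank : WithBot ℕ∞) = ringKrullDim S :=
    IsRegularLocalRing.spanFinrank_maximalIdeal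
  have h4 : ringKrullDim S ≤ ringKrullDim A := ringKrullDim_le_of_isIntegral A S
  have h5 : ringKrullDim R = M.height := IsLocalization.AtPrime.ringKrullDim_eq_height M R
  have h6 : ((maximalIdeal A).height : WithBot ℕ∞) = ringKrullDim A :=
    IsLocalRing.maximalIdeal_height_eq_ringKrullDim
  rw [h3] at h2
  have h7 : ringKrullDim A + 1 ≤ ringKrullDim A := by
    calc ringKrullDim A + 1 = ((maximalIdeal A).height + 1 : ℕ∞) := by
          rw [← h6]; rfl
      _ = ringKrullDim R := by rw [h5, hht]
      _ ≤ ringKrullDim S := h2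
      _ ≤ ringKrullDim A := h4
  have hfin : (maximalIdeal A).height ≠ ⊤ := Ideal.height_ne_top_of_isPrime
  rw [← h6] at h7
  have h8 : (maximalIdeal A).height + 1 ≤ (maximalIdeal A).height := by exact_mod_cast h7
  exact absurd h8 (by
    rw [not_le]
    exact ENat.lt_add_one_iff hfin |>.2 le_rfl)

/-- **One-variable step.** `A` Noetherian local of characteristic `p`, `y : A`, and
`A[X]/(X^p - y)` a regular local ring: some derivation of `A` into a field `L` over the residue
field does not kill `y`. -/
theorem exists_derivation_ne_zero {A : Type u} [CommRing A] [IsLocalRing A] [IsNoetherianRing A]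
    (p : ℕ) [Fact p.Prime] [CharP A p] (y : A)
    [IsRegularLocalRing (AdjoinRoot (X ^ p - C y : A[X]))] :
    ∃ (L : Type u) (_ : Field L) (_ : Algebra A L) (D : Derivation ℤ A L),
      RingHom.ker (algebraMap A L) = maximalIdeal A ∧ D y ≠ 0 := by
  have hp : p.Prime := Fact.out
  set f : A[X] := X ^ p - C y with hf
  have hmonic : f.Monic := monic_X_pow_sub_C y hp.ne_zero
  set S := AdjoinRoot f with hS
  set M : Ideal A[X] := (maximalIdeal S).comap (AdjoinRoot.mk f) with hM
  haveI hMmax : M.IsMaximal := Ideal.comap_isMaximal_of_surjective _ AdjoinRoot.mk_surjective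
  have hfM : f ∈ M := by
    rw [hM, Ideal.mem_comap, AdjoinRoot.mk_self]
    exact Ideal.zero_mem _
  have hf2 : f ∉ M ^ 2 := notMem_sq f hmonic
  obtain ⟨L, _, _, D, hker, hD⟩ := exists_derivation_of_notMem_sq p M f hfM hf2
  letI : Algebra A L := ((algebraMap A[X] L).comp C).toAlgebra
  haveI : IsScalarTower A A[X] L := IsScalarTower.of_algebraMap_eq (fun x => rfl)
  refine ⟨L, inferInstance, inferInstance, D.compAlgebraMap A, ?_, ?_⟩
  · -- kernel
    haveI : Module.Finite A S := hmonic.finite_adjoinRoot
    haveI : Algebra.IsIntegral A S := Algebra.IsIntegral.of_finite A S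
    have h1 : RingHom.ker (algebraMap A L) = M.comap C := by
      ext x
      rw [RingHom.mem_ker, Ideal.mem_comap, ← hker, RingHom.mem_ker]
      rfl
    have h2 : M.comap C = (maximalIdeal S).comap (algebraMap A S) := by
      rw [hM, Ideal.comap_comap]
      rfl
    rw [h1, h2]
    haveI := Ideal.isMaximal_comap_of_isIntegral_of_isMaximal (R := A) (maximalIdeal S)
    exact IsLocalRing.eq_maximalIdeal this
  · intro h0
    apply hD
    have hpL : (p : L) = 0 := by
      rw [← map_natCast (algebraMap A[X] L), CharP.cast_eq_zero, map_zero]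
    have h1 : D (C y) = 0 := h0
    rw [hf, map_sub, h1, sub_zero, Derivation.leibniz_pow, ← Nat.cast_smul_eq_nsmul L, hpL,
      zero_smul]

end Groth.Agent.Lib.OneVarRegH44
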