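import Mathlib

/-!
# Finite purely inseparable extensions of exponent one and base change (helper44)

* `powSubring φ p` : for a ring hom `φ : R →+* S` into a ring of characteristic `p`, the subring of
  those `z` with `z ^ p ∈ range φ`.
* `pow_mem_range_includeRight` : if every `c : k'` has `c ^ p ∈ k`, then every `z : k' ⊗[k] A` has
  `z ^ p` in the image of `A`.
* `isLocalHom_includeRight`, `isLocalRing_tensor` : `A → k' ⊗[k] A` is a local homomorphism and
  `k' ⊗[k] A` is a local ring when `A` is.
* `adjoinRootTensorEquiv` : `AdjoinRoot g ⊗[R] T ≃+* AdjoinRoot (g.map (algebraMap R T))`.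
* `kY p Y` : the subfield `k(Y^{1/p})` of `AdjoinPthRoots k`, finite for finite `Y`, with `p`-th
  powers in `k`; `mem_closure_of_pow_eq`.
-/

namespace Groth.Agent.Lib.PthRootExtH44

open Polynomial IsLocalRing TensorProduct

universe u

section PowSubring

variable {R S : Type*} [CommRing R] [CommRing S] (φ : R →+* S) (p : ℕ) [Fact p.Prime] [CharP S p]

/-- elements whose `p`-th power comes from `R` -/
def powSubring : Subring S where
  carrier := {z | z ^ p ∈ φ.range}
  mul_mem' := by
    intro a b ha hb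
    change (a * b) ^ p ∈ φ.range
    rw [mul_pow]
    exact φ.range.mul_mem ha hb
  one_mem' := by
    change (1 : S) ^ p ∈ φ.range
    rw [one_pow]
    exact φ.range.one_mem
  add_mem' := by
    intro a b ha hb
    change (a + b) ^ p ∈ φ.range
    rw [add_pow_char]
    exact φ.range.add_mem ha hb
  zero_mem' := by
    change (0 : S) ^ p ∈ φ.range
    rw [zero_pow (Fact.out : p.Prime).ne_zero]
    exact φ.range.zero_mem
  neg_mem' := by
    intro a ha
    change (-a) ^ p ∈ φ.range
    rw [neg_pow]
    exact φ.range.mul_mem (φ.range.pow_mem (φ.range.neg_mem φ.range.one_mem) p) ha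

theorem mem_powSubring {z : S} : z ∈ powSubring φ p ↔ z ^ p ∈ φ.range := Iff.rfl

end PowSubring

section Tensor

variable {k k' A : Type*} [Field k] [Field k'] [Algebra k k'] [CommRing A] [Algebra k A]

/-- a `k`-linear retraction of `A → k' ⊗[k] A`, compatible with multiplication by `A` -/
theorem exists_retraction :
    ∃ ρ : k' ⊗[k] A →ₗ[k] A, ρ 1 = 1 ∧
      ∀ (w : k' ⊗[k] A) (a : A), ρ (w * (1 ⊗ₜ[k] a)) = ρ w * a := by
  obtain ⟨g, hg⟩ := LinearMap.exists_leftInverse_of_injective (Algebra.linearMap k k')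
    (LinearMap.ker_eq_bot.2 (algebraMap k k').injective)
  have hg1 : g 1 = 1 := by
    have := LinearMap.congr_fun hg 1
    simpa using this
  refine ⟨(TensorProduct.lid k A).toLinearMap ∘ₗ (g.rTensor A), ?_, ?_⟩
  · rw [Algebra.TensorProduct.one_def, LinearMap.comp_apply, LinearMap.rTensor_tmul, hg1]
    simp
  · intro w a
    induction w using TensorProduct.induction_on with
    | zero => simp
    | add x y hx hy => rw [add_mul, map_add, map_add, hx, hy, add_mul]
    | tmul c b =>
      rw [Algebra.TensorProduct.tmul_mul_tmul, mul_one, LinearMap.comp_apply, LinearMap.comp_apply,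
        LinearMap.rTensor_tmul, LinearMap.rTensor_tmul]
      simp

variable (k k' A)

theorem isLocalHom_includeRight :
    IsLocalHom (Algebra.TensorProduct.includeRight : A →ₐ[k] k' ⊗[k] A).toRingHom := by
  obtain ⟨ρ, hρ1, hρ⟩ := exists_retraction (k := k) (k' := k') (A := A)
  constructor
  intro a ha
  obtain ⟨w, hw⟩ := ha.exists_left_inv
  have h1 : ρ (w * (1 ⊗ₜ[k] a)) = 1 := by
    have : w * (1 ⊗ₜ[k] a) = 1 := hw
    rw [this, hρ1]
  rw [hρ] at h1
  exact IsUnit.of_mul_eq_one _ (by rw [mul_comm]; exact h1)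

theorem nontrivial_tensor [Nontrivial A] : Nontrivial (k' ⊗[k] A) := by
  obtain ⟨ρ, hρ1, -⟩ := exists_retraction (k := k) (k' := k') (A := A)
  refine ⟨⟨0, 1, fun h => ?_⟩⟩
  have := congrArg ρ h
  rw [map_zero, hρ1] at this
  exact zero_ne_one this

variable {k k' A}

theorem charP_tensor (p : ℕ) [Fact p.Prime] [CharP k p] [Nontrivial A] : CharP (k' ⊗[k] A) p := by
  haveI := nontrivial_tensor k k' A
  refine (CharP.charP_iff_prime_eq_zero (Fact.out)).2 ?_
  rw [← map_natCast (algebraMap k (k' ⊗[k] A)), CharP.cast_eq_zero, map_zero]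

/-- every element of `k' ⊗[k] A` has its `p`-th power in the image of `A` -/
theorem pow_mem_range_includeRight (p : ℕ) [Fact p.Prime] [CharP k p] [Nontrivial A]
    (hk' : ∀ c : k', c ^ p ∈ (algebraMap k k').range) (z : k' ⊗[k] A) :
    z ^ p ∈ (Algebra.TensorProduct.includeRight : A →ₐ[k] k' ⊗[k] A).toRingHom.range := by
  haveI := charP_tensor (k := k) (k' := k') (A := A) p
  set φ := (Algebra.TensorProduct.includeRight : A →ₐ[k] k' ⊗[k] A).toRingHom with hφ
  change z ∈ powSubring φ p
  induction z using TensorProduct.induction_on with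
  | zero => exact (powSubring φ p).zero_mem
  | add x y hx hy => exact (powSubring φ p).add_mem hx hy
  | tmul c a =>
    have h1 : (c ⊗ₜ[k] a : k' ⊗[k] A) = (c ⊗ₜ[k] 1) * (1 ⊗ₜ[k] a) := by
      rw [Algebra.TensorProduct.tmul_mul_tmul, mul_one, one_mul]
    rw [h1]
    refine (powSubring φ p).mul_mem ?_ ?_
    · obtain ⟨d, hd⟩ := hk' c
      rw [mem_powSubring, Algebra.TensorProduct.tmul_pow, one_pow, ← hd]
      refine ⟨algebraMap k A d, ?_⟩
      rw [hφ]
      change (1 : k') ⊗ₜ[k] (algebraMap k A d) = _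
      rw [Algebra.algebraMap_eq_smul_one, Algebra.algebraMap_eq_smul_one, TensorProduct.smul_tmul]
    · rw [mem_powSubring, Algebra.TensorProduct.tmul_pow, one_pow]
      exact ⟨a ^ p, rfl⟩

/-- `k' ⊗[k] A` is local when `A` is and `k'^p ⊆ k` -/
theorem isLocalRing_tensor (p : ℕ) [Fact p.Prime] [CharP k p] [IsLocalRing A]
    (hk' : ∀ c : k', c ^ p ∈ (algebraMap k k').range) : IsLocalRing (k' ⊗[k] A) := by
  haveI := nontrivial_tensor k k' A
  haveI := charP_tensor (k := k) (k' := k') (A := A) p
  haveI := isLocalHom_includeRight k k' A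
  set φ := (Algebra.TensorProduct.includeRight : A →ₐ[k] k' ⊗[k] A).toRingHom with hφ
  refine IsLocalRing.of_isUnit_or_isUnit_of_isUnit_add fun a b hab => ?_
  obtain ⟨α, hα⟩ := pow_mem_range_includeRight p hk' a
  obtain ⟨β, hβ⟩ := pow_mem_range_includeRight p hk' b
  have hp : p ≠ 0 := (Fact.out : p.Prime).ne_zero
  have h1 : IsUnit (φ (α + β)) := by
    rw [map_add, hα, hβ, ← add_pow_char]
    exact hab.pow p
  have h2 : IsUnit (α + β) := isUnit_of_map_unit φ _ h1
  rcases IsLocalRing.isUnit_or_isUnit_of_isUnit_add h2 with h | h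
  · left
    have : IsUnit (a ^ p) := by rw [← hα]; exact h.map φ
    exact (isUnit_pow_iff hp).1 this
  · right
    have : IsUnit (b ^ p) := by rw [← hβ]; exact h.map φ
    exact (isUnit_pow_iff hp).1 this

end Tensor

section AdjoinRootTensor

variable (R T : Type*) [CommRing R] [CommRing T] [Algebra R T] (g : R[X])

/-- the forward map -/
noncomputable def artFwd : AdjoinRoot g ⊗[R] T →ₐ[R] AdjoinRoot (g.map (algebraMap R T)) :=
  Algebra.TensorProduct.lift
    (AdjoinRoot.liftAlgHom g (Algebra.ofId R _) (AdjoinRoot.root (g.map (algebraMap R T))) (by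
      have h1 : eval₂ (algebraMap T (AdjoinRoot (g.map (algebraMap R T))))
          (AdjoinRoot.root (g.map (algebraMap R T))) (g.map (algebraMap R T)) = 0 := by
        rw [AdjoinRoot.algebraMap_eq]; exact AdjoinRoot.eval₂_root _
      rw [Polynomial.eval₂_map] at h1
      convert h1 using 2
      ext r
      exact IsScalarTower.algebraMap_apply R T _ r))
    (IsScalarTower.toAlgHom R T (AdjoinRoot (g.map (algebraMap R T))))
    (fun _ _ => Commute.all _ _)

/-- the backward map -/
noncomputable def artBwd : AdjoinRoot (g.map (algebraMap R T)) →+* AdjoinRoot g ⊗[R] T :=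
  AdjoinRoot.lift (Algebra.TensorProduct.includeRight : T →ₐ[R] AdjoinRoot g ⊗[R] T).toRingHom
    (AdjoinRoot.root g ⊗ₜ[R] 1) (by
      rw [Polynomial.eval₂_map]
      have h0 : ((Algebra.TensorProduct.includeRight : T →ₐ[R] AdjoinRoot g ⊗[R] T).toRingHom.comp
          (algebraMap R T)) =
          (Algebra.TensorProduct.includeLeft : AdjoinRoot g →ₐ[R] AdjoinRoot g ⊗[R] T).toRingHom.comp
          (algebraMap R (AdjoinRoot g)) := by
        ext r
        change (1 : AdjoinRoot g) ⊗ₜ[R] (algebraMap R T r) = (algebraMap R (AdjoinRoot g) r) ⊗ₜ[R] (1 : T)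
        rw [Algebra.algebraMap_eq_smul_one, Algebra.algebraMap_eq_smul_one, TensorProduct.smul_tmul]
      rw [h0]
      have h1 : (AdjoinRoot.root g ⊗ₜ[R] (1 : T)) =
          (Algebra.TensorProduct.includeLeft : AdjoinRoot g →ₐ[R] AdjoinRoot g ⊗[R] T).toRingHom
            (AdjoinRoot.root g) := rfl
      rw [h1, ← Polynomial.hom_eval₂, AdjoinRoot.algebraMap_eq, AdjoinRoot.eval₂_root, map_zero])


theorem artBwd_root : artBwd R T g (AdjoinRoot.root _) = AdjoinRoot.root g ⊗ₜ[R] 1 :=
  AdjoinRoot.lift_root _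

theorem artBwd_of (t : T) : artBwd R T g (AdjoinRoot.of _ t) = 1 ⊗ₜ[R] t :=
  AdjoinRoot.lift_of _

theorem artFwd_root_tmul : artFwd R T g (AdjoinRoot.root g ⊗ₜ[R] 1) = AdjoinRoot.root _ := by
  rw [artFwd, Algebra.TensorProduct.lift_tmul, map_one, mul_one]
  exact AdjoinRoot.liftAlgHom_root _ _ _ _

theorem artFwd_one_tmul (t : T) : artFwd R T g (1 ⊗ₜ[R] t) = AdjoinRoot.of _ t := by
  rw [artFwd, Algebra.TensorProduct.lift_tmul, map_one, one_mul]
  rfl

/-- base change of `AdjoinRoot` -/
noncomputable def adjoinRootTensorEquiv :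
    AdjoinRoot g ⊗[R] T ≃+* AdjoinRoot (g.map (algebraMap R T)) :=
  RingEquiv.ofRingHom (artFwd R T g).toRingHom (artBwd R T g)
    (by
      apply Ideal.Quotient.ringHom_ext
      apply Polynomial.ringHom_ext
      · intro t
        change (artFwd R T g) (artBwd R T g (AdjoinRoot.of _ t)) = AdjoinRoot.of _ t
        rw [artBwd_of, artFwd_one_tmul]
      · change (artFwd R T g) (artBwd R T g (AdjoinRoot.root _)) = AdjoinRoot.root _
        rw [artBwd_root, artFwd_root_tmul])
    (by
      have h : ((artBwd R T g).comp (artFwd R T g).toRingHom) =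
          (AlgHom.id R (AdjoinRoot g ⊗[R] T)).toRingHom := by
        have h2 : (⟨(artBwd R T g).comp (artFwd R T g).toRingHom, by
            intro r
            change artBwd R T g (artFwd R T g (algebraMap R _ r)) = algebraMap R _ r
            rw [AlgHom.commutes, IsScalarTower.algebraMap_apply R T, AdjoinRoot.algebraMap_eq,
              artBwd_of]
            rw [Algebra.TensorProduct.algebraMap_apply, Algebra.algebraMap_eq_smul_one,
              Algebra.algebraMap_eq_smul_one, TensorProduct.smul_tmul]⟩ :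
            AdjoinRoot g ⊗[R] T →ₐ[R] AdjoinRoot g ⊗[R] T) = AlgHom.id R _ := by
          apply Algebra.TensorProduct.ext
          · apply AdjoinRoot.algHom_ext
            change artBwd R T g (artFwd R T g (AdjoinRoot.root g ⊗ₜ[R] 1)) = AdjoinRoot.root g ⊗ₜ[R] 1
            rw [artFwd_root_tmul, artBwd_root]
          · ext t
            change artBwd R T g (artFwd R T g (1 ⊗ₜ[R] t)) = 1 ⊗ₜ[R] t
            rw [artFwd_one_tmul, artBwd_of]
        exact congrArg AlgHom.toRingHom h2
      exact h)

end AdjoinRootTensor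

section KY

variable {k : Type u} [Field k] (p : ℕ) [Fact p.Prime] [CharP k p]

/-- `k(Y^{1/p})` inside `AdjoinPthRoots k` -/
noncomputable def kY (Y : Set k) : IntermediateField k (AdjoinPthRoots k) :=
  IntermediateField.adjoin k (AdjoinPthRoots.root k '' Y)

include p in
theorem expChar_of_charP : ExpChar k p := ExpChar.prime (Fact.out)

theorem root_symm_algebraMap (a : k) :
    (AdjoinPthRoots.root k).symm (algebraMap k (AdjoinPthRoots k) a) = a ^ p := by
  haveI := expChar_of_charP (k := k) p
  apply (algebraMap k (AdjoinPthRoots k)).injective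
  rw [AdjoinPthRoots.algebraMap_root_symm p, map_pow]

theorem pow_mem_range_kY (Y : Set k) (z : kY Y) : z ^ p ∈ (algebraMap k (kY Y)).range := by
  haveI := expChar_of_charP (k := k) p
  refine ⟨(AdjoinPthRoots.root k).symm (z : AdjoinPthRoots k), ?_⟩
  apply Subtype.ext
  change algebraMap k (AdjoinPthRoots k) _ = ((z ^ p : kY Y) : AdjoinPthRoots k)
  rw [AdjoinPthRoots.algebraMap_root_symm p]
  rfl

theorem exists_root_kY (Y : Set k) {y : k} (hy : y ∈ Y) : ∃ t : kY Y, t ^ p = algebraMap k (kY Y) y := by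
  haveI := expChar_of_charP (k := k) p
  refine ⟨⟨AdjoinPthRoots.root k y, IntermediateField.subset_adjoin _ _ ⟨y, hy, rfl⟩⟩, ?_⟩
  apply Subtype.ext
  change (AdjoinPthRoots.root k y) ^ p = algebraMap k (AdjoinPthRoots k) y
  exact AdjoinPthRoots.root_pow p y

include p in
theorem finite_kY (Y : Set k) (hY : Y.Finite) : Module.Finite k (kY Y) := by
  haveI := expChar_of_charP (k := k) p
  haveI : Finite (AdjoinPthRoots.root k '' Y) := (hY.image _).to_subtype
  apply IntermediateField.finiteDimensional_adjoin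
  rintro x ⟨y, -, rfl⟩
  refine ⟨X ^ p - C y, monic_X_pow_sub_C y (Fact.out : p.Prime).ne_zero, ?_⟩
  rw [eval₂_sub, eval₂_pow, eval₂_X, eval₂_C, AdjoinPthRoots.root_pow p, sub_self]

/-- if `y₁` becomes a `p`-th power in `k(Y^{1/p})` then `y₁ ∈ k^p[Y]` -/
theorem mem_closure_of_pow_eq (Y : Set k) (y₁ : k) (b : kY Y)
    (hb : b ^ p = algebraMap k (kY Y) y₁) :
    y₁ ∈ Subring.closure (Set.range (frobenius k p) ∪ Y) := by
  haveI := expChar_of_charP (k := k) p
  haveI : Algebra.IsAlgebraic k (AdjoinPthRoots k) := inferInstance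
  -- every element of the adjoin has `root.symm` in the closure
  have key : ∀ z ∈ Algebra.adjoin k (AdjoinPthRoots.root k '' Y),
      (AdjoinPthRoots.root k).symm z ∈ Subring.closure (Set.range (frobenius k p) ∪ Y) := by
    intro z hz
    induction hz using Algebra.adjoin_induction with
    | mem x hx =>
      obtain ⟨y, hy, rfl⟩ := hx
      rw [RingEquiv.symm_apply_apply]
      exact Subring.subset_closure (Or.inr hy)
    | algebraMap a =>
      rw [root_symm_algebraMap p]
      exact Subring.subset_closure (Or.inl ⟨a, rfl⟩)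
    | add x y _ _ hx hy => rw [map_add]; exact Subring.add_mem _ hx hy
    | mul x y _ _ hx hy => rw [map_mul]; exact Subring.mul_mem _ hx hy
  have hbmem : (b : AdjoinPthRoots k) ∈ Algebra.adjoin k (AdjoinPthRoots.root k '' Y) := by
    rw [← IntermediateField.adjoin_toSubalgebra]
    exact b.2
  have h1 := key _ hbmem
  have h2 : (AdjoinPthRoots.root k).symm (b : AdjoinPthRoots k) = y₁ := by
    apply (algebraMap k (AdjoinPthRoots k)).injective
    rw [AdjoinPthRoots.algebraMap_root_symm p]
    have := congrArg (Subtype.val) hb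
    exact this
  rwa [h2] at h1

end KY

theorem derivation_mem_of_mem_closure {k V : Type*} [Field k] (p : ℕ) [Fact p.Prime] [CharP k p]
    [AddCommGroup V] [Module k V]
    (D : Derivation ℤ k V) (W : Submodule k V) (Y : Set k) (hY : ∀ y ∈ Y, D y ∈ W) {u : k}
    (hu : u ∈ Subring.closure (Set.range (frobenius k p) ∪ Y)) : D u ∈ W := by
  induction hu using Subring.closure_induction with
  | mem x hx =>
    rcases hx with ⟨c, rfl⟩ | hx
    · rw [frobenius_def, Derivation.leibniz_pow, ← Nat.cast_smul_eq_nsmul k, CharP.cast_eq_zero,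
        zero_smul]
      exact W.zero_mem
    · exact hY x hx
  | zero => rw [map_zero]; exact W.zero_mem
  | one => rw [Derivation.map_one_eq_zero]; exact W.zero_mem
  | add x y _ _ hx hy => rw [map_add]; exact W.add_mem hx hy
  | neg x _ hx => rw [map_neg]; exact W.neg_mem hx
  | mul x y _ _ hx hy =>
    rw [Derivation.leibniz]
    exact W.add_mem (W.smul_mem _ hy) (W.smul_mem _ hx)

end Groth.Agent.Lib.PthRootExtH44
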