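import Mathlib
import Groth.Agent.Lib.OneVarRegH44
import Groth.Agent.Lib.PthRootExtH44
import Groth.Agent.Lib.KaehlerFS50

/-!
# Geometric regularity implies injectivity of `Ω_k ⊗ K → Ω_A ⊗ K` (helper44)

`k` a field of characteristic `p`, `A` a Noetherian local `k`-algebra such that `k' ⊗[k] A` is a
regular ring for every finite extension `k'/k` with `k'^p ⊆ k`.  Then
`K ⊗ (A ⊗ Ω_{k/ℤ}) → K ⊗ Ω_{A/ℤ}` is injective (`injective_lTensor_of_regular`), `K` the residue
field of `A` (Matsumura 28.7 / EGA 0_IV 22.5.8, the hard half).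
-/

namespace Groth.Agent.Lib.GeomRegKaehlerH44

open Polynomial IsLocalRing TensorProduct KaehlerDifferential
open Groth.Agent.Lib.PthRootExtH44 Groth.Agent.Lib.OneVarRegH44

universe u

variable {k A : Type u} [Field k] (p : ℕ) [Fact p.Prime] [CharP k p]
  [CommRing A] [IsLocalRing A] [IsNoetherianRing A] [Algebra k A]

/-- the step through a one-variable extension, for an abstract field `k₁` -/
theorem exists_derivation_aux
    (H : ∀ (k' : Type u) [Field k'] [Algebra k k'], Module.Finite k k' →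
        (∀ x : k', x ^ p ∈ (algebraMap k k').range) → IsRegularRing (k' ⊗[k] A))
    (k₁ : Type u) [Field k₁] [Algebra k k₁] (hfin₁ : Module.Finite k k₁)
    (hpow₁ : ∀ x : k₁, x ^ p ∈ (algebraMap k k₁).range)
    (Y : Set k) (hroot : ∀ y ∈ Y, ∃ t : k₁, t ^ p = algebraMap k k₁ y) (y₁ : k)
    (hnot : ∀ b : k₁, b ^ p ≠ algebraMap k k₁ y₁) :
    ∃ (L : Type u) (_ : Field L) (_ : Algebra A L) (D : Derivation ℤ A L),
      RingHom.ker (algebraMap A L) = maximalIdeal A ∧
      (∀ y ∈ Y, D (algebraMap k A y) = 0) ∧ D (algebraMap k A y₁) ≠ 0 := by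
  have hp : p.Prime := Fact.out
  -- the field (AdjoinRoot g) = k₁(y₁^{1/p})
  set g : k₁[X] := X ^ p - C (algebraMap k k₁ y₁) with hg
  have hgmonic : g.Monic := monic_X_pow_sub_C _ hp.ne_zero
  haveI : Fact (Irreducible g) := ⟨X_pow_sub_C_irreducible_of_prime hp hnot⟩
  haveI : Module.Finite k₁ (AdjoinRoot g) := hgmonic.finite_adjoinRoot
  haveI hfin' : Module.Finite k (AdjoinRoot g) := Module.Finite.trans k₁ (AdjoinRoot g)
  haveI : CharP k₁ p := charP_of_injective_algebraMap (algebraMap k k₁).injective p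
  haveI : CharP (AdjoinRoot g) p := charP_of_injective_algebraMap (algebraMap k (AdjoinRoot g)).injective p
  have hpow' : ∀ x : (AdjoinRoot g), x ^ p ∈ (algebraMap k (AdjoinRoot g)).range := by
    intro x
    change x ∈ powSubring (algebraMap k (AdjoinRoot g)) p
    induction x using AdjoinRoot.induction_on with
    | ih q =>
      induction q using Polynomial.induction_on' with
      | add q r hq hr => rw [map_add]; exact (powSubring _ p).add_mem hq hr
      | monomial n a =>
        rw [← C_mul_X_pow_eq_monomial, map_mul, map_pow]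
        refine (powSubring _ p).mul_mem ?_ ((powSubring _ p).pow_mem ?_ n)
        · obtain ⟨c, hc⟩ := hpow₁ a
          rw [mem_powSubring]
          refine ⟨c, ?_⟩
          change algebraMap k (AdjoinRoot g) c = (AdjoinRoot.of g a) ^ p
          rw [IsScalarTower.algebraMap_apply k k₁ (AdjoinRoot g), hc, map_pow]
          rfl
        · rw [mem_powSubring]
          refine ⟨y₁, ?_⟩
          have h0 : AdjoinRoot.mk g (X ^ p - C (algebraMap k k₁ y₁)) = 0 := by
            rw [← hg]; exact AdjoinRoot.mk_self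
          rw [map_sub, map_pow, sub_eq_zero] at h0
          rw [h0, IsScalarTower.algebraMap_apply k k₁ (AdjoinRoot g)]
          rfl
  -- the rings (k₁ ⊗[k] A) and S
  haveI hreg₁ : IsRegularRing (k₁ ⊗[k] A) := H k₁ hfin₁ hpow₁
  haveI : IsLocalRing (k₁ ⊗[k] A) := isLocalRing_tensor p hpow₁
  haveI : CharP (k₁ ⊗[k] A) p := charP_tensor p
  set y : (k₁ ⊗[k] A) := algebraMap k₁ (k₁ ⊗[k] A) (algebraMap k k₁ y₁) with hy
  have hgmap : g.map (algebraMap k₁ (k₁ ⊗[k] A)) = X ^ p - C y := by
    rw [hg, Polynomial.map_sub, Polynomial.map_pow, Polynomial.map_X, Polynomial.map_C]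
  have hreg' : IsRegularRing ((AdjoinRoot g) ⊗[k] A) := H (AdjoinRoot g) hfin' hpow'
  haveI hloc' : IsLocalRing ((AdjoinRoot g) ⊗[k] A) := isLocalRing_tensor p hpow'
  obtain ⟨e⟩ : Nonempty ((AdjoinRoot g) ⊗[k] A ≃+* AdjoinRoot (X ^ p - C y : (k₁ ⊗[k] A)[X])) := by
    rw [← hgmap]
    exact ⟨((Algebra.TensorProduct.cancelBaseChange k k₁ k₁ (AdjoinRoot g) A).symm.toRingEquiv).trans
      (adjoinRootTensorEquiv k₁ (k₁ ⊗[k] A) g)⟩
  haveI : IsRegularRing (AdjoinRoot (X ^ p - C y : (k₁ ⊗[k] A)[X])) := IsRegularRing.of_ringEquiv e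
  haveI : IsLocalRing (AdjoinRoot (X ^ p - C y : (k₁ ⊗[k] A)[X])) := e.isLocalRing
  haveI : IsRegularLocalRing (AdjoinRoot (X ^ p - C y : (k₁ ⊗[k] A)[X])) :=
    IsRegularLocalRing.of_isRegularRing_of_isLocalRing _
  obtain ⟨L, _, _, D₁, hker, hD₁⟩ := exists_derivation_ne_zero (A := (k₁ ⊗[k] A)) p y
  -- transport to A
  let ι : A →+* (k₁ ⊗[k] A) := (Algebra.TensorProduct.includeRight : A →ₐ[k] k₁ ⊗[k] A).toRingHom
  haveI hιloc : IsLocalHom ι := isLocalHom_includeRight k k₁ A
  letI : Algebra A (k₁ ⊗[k] A) := ι.toAlgebra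
  letI : Algebra A L := ((algebraMap (k₁ ⊗[k] A) L).comp ι).toAlgebra
  haveI : IsScalarTower A (k₁ ⊗[k] A) L := IsScalarTower.of_algebraMap_eq (fun x => rfl)
  have hpL : (p : L) = 0 := by
    rw [← map_natCast (algebraMap (k₁ ⊗[k] A) L), CharP.cast_eq_zero, map_zero]
  have hι : ∀ c : k, ι (algebraMap k A c) = algebraMap k₁ (k₁ ⊗[k] A) (algebraMap k k₁ c) := by
    intro c
    have h1 : algebraMap k₁ (k₁ ⊗[k] A) (algebraMap k k₁ c) =
        (algebraMap k k₁ c) ⊗ₜ[k] (1 : A) := by
      rw [Algebra.TensorProduct.algebraMap_apply]; rfl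
    rw [h1]
    change (1 : k₁) ⊗ₜ[k] (algebraMap k A c) = _
    rw [Algebra.algebraMap_eq_smul_one (A := A) c, Algebra.algebraMap_eq_smul_one (A := k₁) c,
      TensorProduct.smul_tmul]
  refine ⟨L, inferInstance, inferInstance, D₁.compAlgebraMap A, ?_, ?_, ?_⟩
  · have h1 : RingHom.ker (algebraMap A L) = (RingHom.ker (algebraMap (k₁ ⊗[k] A) L)).comap ι := by
      ext x
      rw [RingHom.mem_ker, Ideal.mem_comap, RingHom.mem_ker]
      rfl
    rw [h1, hker]
    exact IsLocalRing.maximalIdeal_comap ι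
  · intro c hc
    obtain ⟨t, ht⟩ := hroot c hc
    change D₁ (ι (algebraMap k A c)) = 0
    rw [hι, ← ht, map_pow, Derivation.leibniz_pow, ← Nat.cast_smul_eq_nsmul L, hpL, zero_smul]
  · change D₁ (ι (algebraMap k A y₁)) ≠ 0
    rw [hι]
    exact hD₁

/-- the step through a one-variable extension -/
theorem exists_derivation_of_notMem_closure
    (H : ∀ (k' : Type u) [Field k'] [Algebra k k'], Module.Finite k k' →
        (∀ x : k', x ^ p ∈ (algebraMap k k').range) → IsRegularRing (k' ⊗[k] A))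
    (Y : Set k) (hYfin : Y.Finite) (y₁ : k)
    (hy₁ : y₁ ∉ Subring.closure (Set.range (frobenius k p) ∪ Y)) :
    ∃ (L : Type u) (_ : Field L) (_ : Algebra A L) (D : Derivation ℤ A L),
      RingHom.ker (algebraMap A L) = maximalIdeal A ∧
      (∀ y ∈ Y, D (algebraMap k A y) = 0) ∧ D (algebraMap k A y₁) ≠ 0 :=
  exists_derivation_aux p H (kY Y) (finite_kY p Y hYfin) (pow_mem_range_kY p Y) Y
    (fun _ hy => exists_root_kY p Y hy) y₁
    (fun b hb => hy₁ (mem_closure_of_pow_eq p Y y₁ b hb))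

open Groth.Agent.Lib.KaehlerFS50 in
/-- **Geometric regularity (tested on finite exponent-one extensions) implies injectivity of
`K ⊗ (A ⊗ Ω_k) → K ⊗ Ω_A`.** -/
theorem injective_lTensor_of_regular
    (H : ∀ (k' : Type u) [Field k'] [Algebra k k'], Module.Finite k k' →
        (∀ x : k', x ^ p ∈ (algebraMap k k').range) → IsRegularRing (k' ⊗[k] A)) :
    Function.Injective
      ((KaehlerDifferential.mapBaseChange ℤ k A).lTensor (ResidueField A)) := by
  classical
  -- the `K`-linear version of the map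
  set F := (KaehlerDifferential.mapBaseChange ℤ k A).baseChange (ResidueField A) with hF
  suffices hinj : Function.Injective F by
    intro x y hxy
    apply hinj
    rw [hF, LinearMap.baseChange_eq_ltensor]
    exact hxy
  -- the spanning family
  let e : k → (ResidueField A) ⊗[A] (A ⊗[k] Ω[k⁄ℤ]) :=
    fun c => (1 : ResidueField A) ⊗ₜ[A] ((1 : A) ⊗ₜ[k] (D ℤ k c))
  have hFe : ∀ c, F (e c) = (1 : ResidueField A) ⊗ₜ[A] (D ℤ A (algebraMap k A c)) := by
    intro c
    rw [hF, LinearMap.baseChange_eq_ltensor]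
    exact lTensor_mapBaseChange_apply c
  have hspan : Submodule.span (ResidueField A) (Set.range e) = ⊤ := by
    set S := Submodule.span (ResidueField A) (Set.range e) with hS
    have h0 : S.mkQ = 0 := by
      apply ext_of_D
      intro c
      rw [LinearMap.zero_apply, Submodule.mkQ_apply, Submodule.Quotient.mk_eq_zero]
      exact Submodule.subset_span ⟨c, rfl⟩
    rw [← Submodule.ker_mkQ S, h0, LinearMap.ker_zero]
  rw [injective_iff_map_eq_zero]
  intro x hx
  by_contra hx0
  obtain ⟨b, hb_sub, hb_span, hb_li⟩ := exists_linearIndependent (ResidueField A) (Set.range e)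
  have hxmem : x ∈ Submodule.span (ResidueField A) b := by
    rw [hb_span, hspan]; trivial
  obtain ⟨c, hc_supp, hc_sum⟩ := Submodule.mem_span_set.1 hxmem
  have hc0 : c ≠ 0 := by
    rintro rfl
    apply hx0
    rw [← hc_sum, Finsupp.sum_zero_index]
  obtain ⟨v₁, hv₁⟩ : ∃ v₁, v₁ ∈ c.support := by
    by_contra hcon
    push_neg at hcon
    exact hc0 (Finsupp.support_eq_empty.1 (Finset.eq_empty_of_forall_notMem hcon))
  -- choice of preimages
  let yof : (ResidueField A) ⊗[A] (A ⊗[k] Ω[k⁄ℤ]) → k :=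
    fun v => if h : v ∈ Set.range e then h.choose else 0
  have hyof : ∀ v ∈ b, e (yof v) = v := by
    intro v hv
    have h : v ∈ Set.range e := hb_sub hv
    simp only [yof, dif_pos h]
    exact h.choose_spec
  set Y'' : Finset ((ResidueField A) ⊗[A] (A ⊗[k] Ω[k⁄ℤ])) := c.support.erase v₁ with hY''
  have hY''b : (Y'' : Set _) ⊆ b := fun v hv =>
    hc_supp (Finset.mem_of_mem_erase (Finset.mem_coe.1 hv))
  have hv₁b : v₁ ∈ b := hc_supp (Finset.mem_coe.2 hv₁)
  set Y : Set k := yof '' (Y'' : Set _) with hY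
  have hYfin : Y.Finite := (Finset.finite_toSet Y'').image _
  have heY : e '' Y = (Y'' : Set _) := by
    rw [hY, Set.image_image]
    ext v
    constructor
    · rintro ⟨w, hw, rfl⟩
      change e (yof w) ∈ _
      rwa [hyof w (hY''b hw)]
    · intro hv
      exact ⟨v, hv, hyof v (hY''b hv)⟩
  -- `y₁` is not in the closure
  have hy₁ : yof v₁ ∉ Subring.closure (Set.range (frobenius k p) ∪ Y) := by
    intro hmem
    -- the derivation `e`
    let ℓ : Ω[k⁄ℤ] →ₗ[k] (ResidueField A) ⊗[A] (A ⊗[k] Ω[k⁄ℤ]) :=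
      { toFun := fun ω => (1 : ResidueField A) ⊗ₜ[A] ((1 : A) ⊗ₜ[k] ω)
        map_add' := fun a b => by rw [TensorProduct.tmul_add, TensorProduct.tmul_add]
        map_smul' := fun a ω => by
          rw [one_tmul_one_tmul_smul, RingHom.id_apply, algebraMap_smul] }
    let De : Derivation ℤ k ((ResidueField A) ⊗[A] (A ⊗[k] Ω[k⁄ℤ])) := ℓ.compDer (D ℤ k)
    have hDe : ∀ a, De a = e a := fun a => rfl
    have h1 := derivation_mem_of_mem_closure p De
      ((Submodule.span (ResidueField A) (e '' Y)).restrictScalars k) Y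
      (fun y hy => by
        rw [Submodule.restrictScalars_mem, hDe]
        exact Submodule.subset_span ⟨y, hy, rfl⟩) hmem
    rw [Submodule.restrictScalars_mem, hDe, hyof v₁ hv₁b, heY] at h1
    have h2 := LinearIndependent.notMem_span_image hb_li
      (s := {w : b | w.1 ∈ Y''}) (x := ⟨v₁, hv₁b⟩) (by
        simp only [Set.mem_setOf_eq, hY'']
        exact Finset.notMem_erase v₁ _)
    apply h2
    have h3 : (Subtype.val '' {w : b | w.1 ∈ Y''} : Set _) = (Y'' : Set _) := by
      ext v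
      constructor
      · rintro ⟨w, hw, rfl⟩
        exact hw
      · intro hv
        exact ⟨⟨v, hY''b hv⟩, hv, rfl⟩
    rw [h3]
    exact h1
  obtain ⟨L, _, _, Dv, hker, hDY, hD₁⟩ :=
    exists_derivation_of_notMem_closure p H Y hYfin (yof v₁) hy₁
  -- `L` as an extension of the residue field
  letI : Algebra (ResidueField A) L :=
    (Ideal.Quotient.lift (maximalIdeal A) (algebraMap A L) (fun a ha => by
      rw [← hker] at ha; exact ha)).toAlgebra
  haveI : IsScalarTower A (ResidueField A) L := IsScalarTower.of_algebraMap_eq (fun x => rfl)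
  let lam : (ResidueField A) ⊗[A] Ω[A⁄ℤ] →ₗ[ResidueField A] L :=
    LinearMap.liftBaseChange (ResidueField A) Dv.liftKaehlerDifferential
  have hlam : ∀ a : k, lam (F (e a)) = Dv (algebraMap k A a) := by
    intro a
    rw [hFe, LinearMap.liftBaseChange_tmul, one_smul, Derivation.liftKaehlerDifferential_comp_D]
  have h0 : lam (F x) = 0 := by rw [hx, map_zero]
  rw [← hc_sum, Finsupp.sum, map_sum, map_sum, ← Finset.add_sum_erase _ _ hv₁] at h0
  have hrest : ∑ v ∈ c.support.erase v₁, lam (F (c v • v)) = 0 := by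
    apply Finset.sum_eq_zero
    intro v hv
    have hvb : v ∈ b := hY''b (Finset.mem_coe.2 hv)
    rw [map_smul, map_smul, ← hyof v hvb, hlam,
      hDY (yof v) ⟨v, Finset.mem_coe.2 hv, rfl⟩, smul_zero]
  rw [hrest, add_zero, map_smul, map_smul, ← hyof v₁ hv₁b, hlam, hyof v₁ hv₁b] at h0
  have hcv : c v₁ ≠ 0 := Finsupp.mem_support_iff.1 hv₁
  rw [Algebra.smul_def, mul_eq_zero] at h0
  rcases h0 with h0 | h0
  · exact hcv ((map_eq_zero (algebraMap (ResidueField A) L)).1 h0)
  · exact hD₁ h0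

end Groth.Agent.Lib.GeomRegKaehlerH44
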