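import Groth.Agent.S9318
import Mathlib.RingTheory.MvPowerSeries.Equiv
import Mathlib.RingTheory.MvPowerSeries.Inverse
import Mathlib.RingTheory.Smooth.Basic
import Mathlib.RingTheory.Smooth.Field
import Mathlib.RingTheory.Etale.Field

/-!
# Adic formal smoothness of power series rings (helper50)

* `isAdicFormallySmooth_of_formallySmooth`: formally smooth ⇒ adically formally smooth.
* `isAdicFormallySmooth_of_ringEquiv`: transport along a ring isomorphism.
* `isAdicFormallySmooth_mvPowerSeries`: if `R → K` is formally smooth then `R → K[[x_1..x_n]]` is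
  formally smooth for the `I`-adic topology for every ideal `I` containing the variables.
* `formallySmooth_of_charZero`: a field extension in characteristic zero is formally smooth
  (no finiteness hypothesis).
-/

set_option autoImplicit false
universe u

namespace Groth.Agent.Lib.AdicFSPow50

/-- formally smooth ⇒ adically formally smooth for any ideal. -/
lemma isAdicFormallySmooth_of_formallySmooth {R S : Type u} [CommRing R] [CommRing S]
    [Algebra R S] [Algebra.FormallySmooth R S] (𝔫 : Ideal S) :
    CAlgX.IsAdicFormallySmooth R S 𝔫 := by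
  intro A _ _ J hJ ψ _
  exact Algebra.FormallySmooth.exists_lift J ⟨2, hJ⟩ ψ

/-- transport of adic formal smoothness along a ring equivalence compatible with the algebra
maps. -/
lemma isAdicFormallySmooth_of_ringEquiv {R T T' : Type u} [CommRing R] [CommRing T]
    [CommRing T'] [Algebra R T] [Algebra R T'] (e : T ≃+* T')
    (he : ∀ r, e (algebraMap R T r) = algebraMap R T' r) (I : Ideal T) (I' : Ideal T')
    (hI : I'.map (e.symm : T' →+* T) ≤ I) (h : CAlgX.IsAdicFormallySmooth R T' I') :
    CAlgX.IsAdicFormallySmooth R T I := by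
  intro A _ _ J hJ ψ ⟨k, hk⟩
  let eA : T ≃ₐ[R] T' := AlgEquiv.ofRingEquiv (f := e) he
  obtain ⟨χ, hχ⟩ := h A J hJ (ψ.comp eA.symm.toAlgHom) ⟨k, fun y hy => by
    rw [AlgHom.comp_apply]
    apply hk
    have : (I' ^ k).map (e.symm : T' →+* T) ≤ I ^ k := by
      rw [Ideal.map_pow]
      exact Ideal.pow_right_mono hI k
    exact this (Ideal.mem_map_of_mem _ hy)⟩
  refine ⟨χ.comp eA.toAlgHom, ?_⟩
  rw [← AlgHom.comp_assoc, hχ, AlgHom.comp_assoc]
  ext t
  simp

section PowerSeries

variable {R K : Type u} [CommRing R] [CommRing K] [Algebra R K]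

/-- If `R → K` is formally smooth then `R → K[[x_1, …, x_n]]` is formally smooth for the `I`-adic
topology, for every ideal `I` containing the variables. -/
theorem isAdicFormallySmooth_mvPowerSeries [Algebra.FormallySmooth R K] (n : ℕ)
    (I : Ideal (MvPowerSeries (Fin n) K))
    (hI : ∀ i, (MvPowerSeries.X i : MvPowerSeries (Fin n) K) ∈ I) :
    CAlgX.IsAdicFormallySmooth R (MvPowerSeries (Fin n) K) I := by
  have hfs : Algebra.FormallySmooth R (MvPolynomial (Fin n) K) :=
    Algebra.FormallySmooth.comp R K (MvPolynomial (Fin n) K)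
  have h1 : CAlgX.IsAdicFormallySmooth R (MvPolynomial (Fin n) K)
      (MvPolynomial.idealOfVars (Fin n) K) :=
    isAdicFormallySmooth_of_formallySmooth _
  rw [Groth.Agent.S9318.result _ (MvPolynomial.idealOfVars_fg (Fin n) K)] at h1
  let e := MvPowerSeries.toAdicCompletionAlgEquiv (Fin n) K
  refine isAdicFormallySmooth_of_ringEquiv e.toRingEquiv ?_ I _ ?_ h1
  · intro r
    have h2 : algebraMap R (MvPowerSeries (Fin n) K) r =
        algebraMap (MvPolynomial (Fin n) K) (MvPowerSeries (Fin n) K)
          (algebraMap R (MvPolynomial (Fin n) K) r) := by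
      rw [MvPowerSeries.algebraMap_apply, MvPolynomial.algebraMap_apply,
        MvPowerSeries.algebraMap_apply', Algebra.algebraMap_self, MvPowerSeries.map_id,
        RingHom.id_apply, MvPolynomial.coe_C]
    rw [h2]
    exact e.commutes _
  · rw [Ideal.map_map, Ideal.map_le_iff_le_comap, Ideal.span_le]
    rintro _ ⟨i, rfl⟩
    show e.symm (algebraMap (MvPolynomial (Fin n) K) _ (MvPolynomial.X i)) ∈ I
    have : e.symm (algebraMap (MvPolynomial (Fin n) K) _ (MvPolynomial.X i)) =
        (MvPowerSeries.X i : MvPowerSeries (Fin n) K) := by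
      rw [e.symm.commutes, MvPowerSeries.algebraMap_apply', Algebra.algebraMap_self,
        MvPowerSeries.map_id, RingHom.id_apply, MvPolynomial.coe_X]
    rw [this]
    exact hI i

/-- The variables lie in the maximal ideal of a power series ring over a local ring. -/
lemma X_mem_maximalIdeal {K : Type u} [CommRing K] [IsLocalRing K] (n : ℕ) (i : Fin n) :
    (MvPowerSeries.X i : MvPowerSeries (Fin n) K) ∈
      IsLocalRing.maximalIdeal (MvPowerSeries (Fin n) K) := by
  rw [IsLocalRing.mem_maximalIdeal, mem_nonunits_iff, MvPowerSeries.isUnit_iff_constantCoeff,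
    MvPowerSeries.constantCoeff_X]
  exact not_isUnit_zero

end PowerSeries

/-- A field extension in characteristic zero is formally smooth. -/
theorem formallySmooth_of_charZero (k K : Type u) [Field k] [Field K] [Algebra k K] [CharZero k] :
    Algebra.FormallySmooth k K := by
  obtain ⟨s, hs⟩ := exists_isTranscendenceBasis k K
  have halg := hs.isAlgebraic_field
  have : CharZero (IntermediateField.adjoin k (Set.range ((↑) : s → K))) :=
    charZero_of_injective_algebraMap (algebraMap k _).injective
  have : Algebra.IsSeparable (IntermediateField.adjoin k (Set.range ((↑) : s → K))) K :=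
    Algebra.IsAlgebraic.isSeparable_of_perfectField
  exact Algebra.FormallySmooth.of_algebraicIndependent_of_isSeparable hs.1

end Groth.Agent.Lib.AdicFSPow50
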