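import Mathlib.RingTheory.AdicCompletion.Basic
import Mathlib.RingTheory.AdicCompletion.Algebra
import Mathlib.RingTheory.AdicCompletion.Completeness
import Mathlib.RingTheory.AdicCompletion.LocalRing
import Mathlib.RingTheory.MvPolynomial.Homogeneous
import Mathlib.RingTheory.Polynomial.Basic
import Mathlib.RingTheory.Finiteness.Ideal
import Mathlib.RingTheory.Noetherian.Basic
import Mathlib.RingTheory.Ideal.Quotient.Noetherian

/-!
A ring which is complete with respect to a finitely generated ideal `J` such that `A ⧸ J` is
Noetherian is Noetherian.  Consequently the adic completion of a ring `R` along a finitely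
generated ideal `I` with `R ⧸ I` Noetherian is Noetherian (Stacks 05GH), in particular the
completion of a Noetherian ring along any ideal is Noetherian.

The proof is the classical "leading forms" argument, written with homogeneous polynomials in the
generators of `J` instead of the associated graded ring.
-/

set_option autoImplicit false
universe u

namespace Groth.Agent.Lib.AdicNoeth

open MvPolynomial

section homog

variable {σ : Type*} {R S : Type*} [CommRing R] [CommRing S]

theorem homogeneousComponent_mul_of_isHomogeneous {ψ : MvPolynomial σ R} {e : ℕ}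
    (hψ : ψ.IsHomogeneous e) (h : MvPolynomial σ R) (d : ℕ) :
    homogeneousComponent d (h * ψ) =
      (if e ≤ d then homogeneousComponent (d - e) h else 0) * ψ := by
  induction h using MvPolynomial.induction_on' with
  | monomial m c =>
    rw [homogeneousComponent_of_mem ((isHomogeneous_monomial c rfl).mul hψ),
      homogeneousComponent_of_mem (isHomogeneous_monomial c rfl)]
    by_cases hed : e ≤ d
    · rw [if_pos hed]
      by_cases h1 : d = m.degree + e
      · rw [if_pos h1, if_pos (by omega)]
      · rw [if_neg h1, if_neg (by omega), zero_mul]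
    · rw [if_neg hed, if_neg (by omega), zero_mul]
  | add p q hp hq =>
    rw [add_mul, map_add, hp, hq]
    by_cases hed : e ≤ d
    · simp only [if_pos hed, map_add, add_mul]
    · simp only [if_neg hed, zero_mul, add_zero]

theorem map_homogeneousComponent (f : R →+* S) (d : ℕ) (φ : MvPolynomial σ R) :
    map f (homogeneousComponent d φ) = homogeneousComponent d (map f φ) := by
  ext m
  rw [coeff_map, coeff_homogeneousComponent, coeff_homogeneousComponent, coeff_map]
  split_ifs <;> simp

end homog

variable {A : Type u} [CommRing A]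

section gens

variable {r : ℕ} (g : Fin r → A)

theorem eval_mem_pow {φ : MvPolynomial (Fin r) A} {d : ℕ} (hφ : φ.IsHomogeneous d) :
    eval g φ ∈ (Ideal.span (Set.range g)) ^ d :=
  (Ideal.mem_span_pow_iff_exists_isHomogeneous g _).2 ⟨φ, hφ, rfl⟩

theorem eval_mem_pow_succ {φ : MvPolynomial (Fin r) A} {d : ℕ} (hφ : φ.IsHomogeneous d)
    (h0 : map (Ideal.Quotient.mk (Ideal.span (Set.range g))) φ = 0) :
    eval g φ ∈ (Ideal.span (Set.range g)) ^ (d + 1) := by
  rw [eval_eq]
  refine Ideal.sum_mem _ fun m hm => ?_
  rw [pow_succ']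
  apply Ideal.mul_mem_mul
  · have := congrArg (coeff m) h0
    rw [coeff_map, coeff_zero, Ideal.Quotient.eq_zero_iff_mem] at this
    exact this
  · have hdeg : m.degree = d := by
      by_contra hne
      exact (mem_support_iff.mp hm) (hφ.coeff_eq_zero hne)
    have h1 : (monomial m (1 : A)).IsHomogeneous d := isHomogeneous_monomial 1 hdeg
    have h2 := eval_mem_pow g h1
    rw [eval_monomial, one_mul] at h2
    exact h2

/-- The core statement: every ideal is finitely generated. -/
theorem ideal_fg_of_isAdicComplete [IsAdicComplete (Ideal.span (Set.range g)) A]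
    [IsNoetherianRing (A ⧸ Ideal.span (Set.range g))] (𝔞 : Ideal A) : 𝔞.FG := by
  classical
  set J := Ideal.span (Set.range g) with hJ
  let red : MvPolynomial (Fin r) A →+* MvPolynomial (Fin r) (A ⧸ J) :=
    map (Ideal.Quotient.mk J)
  have hred_surj : Function.Surjective red := map_surjective _ Ideal.Quotient.mk_surjective
  let Lgen : Set (MvPolynomial (Fin r) (A ⧸ J)) :=
    {ψ | ∃ (d : ℕ) (φ : MvPolynomial (Fin r) A) (a : A),
      φ.IsHomogeneous d ∧ red φ = ψ ∧ a ∈ 𝔞 ∧ eval g φ - a ∈ J ^ (d + 1)}
  have hfg : (Ideal.span Lgen).FG := IsNoetherian.noetherian _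
  obtain ⟨S', hS'sub, hS'span⟩ := (Submodule.fg_span_iff_fg_span_finset_subset Lgen).1 hfg
  have hdata : ∀ ψ : S', ∃ (d : ℕ) (φ : MvPolynomial (Fin r) A) (a : A),
      φ.IsHomogeneous d ∧ red φ = ψ.1 ∧ a ∈ 𝔞 ∧ eval g φ - a ∈ J ^ (d + 1) :=
    fun ψ => hS'sub ψ.2
  choose dd φφ aa hhom hredφ ha𝔞 hdiff using hdata
  let D : ℕ := Finset.univ.sup dd
  have hD : ∀ k, dd k ≤ D := fun k => Finset.le_sup (Finset.mem_univ k)
  -- the approximation step
  have step : ∀ (d : ℕ) (x : A), x ∈ 𝔞 → x ∈ J ^ d →
      ∃ c : S' → A, (∀ k, c k ∈ J ^ (d - D)) ∧ x - ∑ k, c k * aa k ∈ J ^ (d + 1) := by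
    intro d x hx𝔞 hxd
    obtain ⟨G, hG, rfl⟩ := (Ideal.mem_span_pow_iff_exists_isHomogeneous g _).1 hxd
    have hGgen : red G ∈ Lgen := ⟨d, G, eval g G, hG, rfl, hx𝔞, by simp⟩
    have hGspan : red G ∈ Ideal.span (S' : Set (MvPolynomial (Fin r) (A ⧸ J))) := by
      have : red G ∈ Ideal.span Lgen := Ideal.subset_span hGgen
      rw [Ideal.span, hS'span] at this
      exact this
    have hrange : (S' : Set (MvPolynomial (Fin r) (A ⧸ J))) =
        Set.range (Subtype.val : S' → MvPolynomial (Fin r) (A ⧸ J)) := by
      simp
    rw [hrange, Ideal.mem_span_range_iff_exists_fun] at hGspan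
    obtain ⟨h, hh⟩ := hGspan
    -- homogeneous coefficients
    let h' : S' → MvPolynomial (Fin r) (A ⧸ J) := fun k =>
      if dd k ≤ d then homogeneousComponent (d - dd k) (h k) else 0
    have hψhom : ∀ k : S', (k.1).IsHomogeneous (dd k) := fun k => by
      rw [← hredφ k]; exact (hhom k).map _
    have hh' : red G = ∑ k, h' k * k.1 := by
      have h1 : homogeneousComponent d (red G) = red G :=
        homogeneousComponent_eq_self (hG.map _)
      rw [← h1, ← hh, map_sum]
      refine Finset.sum_congr rfl fun k _ => ?_
      exact homogeneousComponent_mul_of_isHomogeneous (hψhom k) (h k) d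
    -- lifts of the coefficients
    have hlift : ∀ k : S', ∃ H : MvPolynomial (Fin r) A, red H = h' k ∧
        H.IsHomogeneous (d - dd k) ∧ (¬ dd k ≤ d → H = 0) := by
      intro k
      obtain ⟨H₀, hH₀⟩ := hred_surj (h k)
      by_cases hk : dd k ≤ d
      · refine ⟨homogeneousComponent (d - dd k) H₀, ?_, homogeneousComponent_isHomogeneous _ _,
          fun h => absurd hk h⟩
        simp only [h', if_pos hk, red]
        rw [map_homogeneousComponent]
        exact congrArg _ hH₀
      · refine ⟨0, ?_, isHomogeneous_zero _ _ _, fun _ => rfl⟩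
        simp only [h', if_neg hk, map_zero]
    choose H hHred hHhom hHzero using hlift
    let Dp : MvPolynomial (Fin r) A := G - ∑ k, H k * φφ k
    have hDphom : Dp.IsHomogeneous d := by
      refine hG.sub (IsHomogeneous.sum _ _ _ fun k _ => ?_)
      by_cases hk : dd k ≤ d
      · have := (hHhom k).mul (hhom k)
        rwa [Nat.sub_add_cancel hk] at this
      · rw [hHzero k hk, zero_mul]; exact isHomogeneous_zero _ _ _
    have hDpred : red Dp = 0 := by
      simp only [Dp, map_sub, map_sum, map_mul, hHred, hredφ]
      rw [hh', sub_self]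
    have hDpmem : eval g Dp ∈ J ^ (d + 1) := eval_mem_pow_succ g hDphom hDpred
    refine ⟨fun k => eval g (H k), fun k => ?_, ?_⟩
    · show eval g (H k) ∈ J ^ (d - D)
      by_cases hk : dd k ≤ d
      · have h1 := eval_mem_pow g (hHhom k)
        have h2 : J ^ (d - dd k) ≤ J ^ (d - D) :=
          Ideal.pow_le_pow_right (Nat.sub_le_sub_left (hD k) d)
        exact h2 h1
      · rw [hHzero k hk, map_zero]; exact Ideal.zero_mem _
    · have hsplit : eval g G - ∑ k, eval g (H k) * aa k =
          eval g Dp + ∑ k, eval g (H k) * (eval g (φφ k) - aa k) := by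
        simp only [Dp, map_sub, map_sum, map_mul, mul_sub, Finset.sum_sub_distrib]
        ring
      rw [hsplit]
      refine Ideal.add_mem _ hDpmem (Ideal.sum_mem _ fun k _ => ?_)
      by_cases hk : dd k ≤ d
      · have h1 := eval_mem_pow g (hHhom k)
        have h2 := Ideal.mul_mem_mul h1 (hdiff k)
        rw [← pow_add] at h2
        have h3 : d - dd k + (dd k + 1) = d + 1 := by omega
        rwa [h3] at h2
      · rw [hHzero k hk, map_zero, zero_mul]; exact Ideal.zero_mem _
  -- iterate
  have hle : 𝔞 ≤ Ideal.span (Set.range aa) := by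
    intro x hx
    choose! cstep hc using step
    let xs : ℕ → A := fun n => Nat.rec x (fun d y => y - ∑ k, cstep d y k * aa k) n
    have hxs_succ : ∀ d, xs (d + 1) = xs d - ∑ k, cstep d (xs d) k * aa k := fun d => rfl
    have hxs : ∀ d, xs d ∈ 𝔞 ∧ xs d ∈ J ^ d := by
      intro d
      induction d with
      | zero => exact ⟨hx, by simp⟩
      | succ d ih =>
        refine ⟨?_, ?_⟩
        · rw [hxs_succ]
          exact Ideal.sub_mem _ ih.1
            (Ideal.sum_mem _ fun k _ => Ideal.mul_mem_left _ _ (ha𝔞 k))
        · rw [hxs_succ]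
          exact (hc d (xs d) ih.1 ih.2).2
    let cs : ℕ → S' → A := fun d k => cstep d (xs d) k
    have hcs : ∀ d k, cs d k ∈ J ^ (d - D) := fun d k => (hc d (xs d) (hxs d).1 (hxs d).2).1 k
    have hx_eq : ∀ T, x = ∑ k, (∑ d ∈ Finset.range T, cs d k) * aa k + xs T := by
      intro T
      induction T with
      | zero => simp [xs]
      | succ T ih =>
        rw [hxs_succ]
        have e : ∑ k, (∑ d ∈ Finset.range (T + 1), cs d k) * aa k =
            ∑ k, (∑ d ∈ Finset.range T, cs d k) * aa k + ∑ k, cs T k * aa k := by
          rw [← Finset.sum_add_distrib]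
          refine Finset.sum_congr rfl fun k _ => ?_
          rw [Finset.sum_range_succ, add_mul]
        rw [e]
        have e2 : ∑ k, cstep T (xs T) k * aa k = ∑ k, cs T k * aa k := rfl
        rw [e2]
        linear_combination ih
    -- partial sums shifted by D
    have hcauchy : ∀ k, ∃ C : A, ∀ T,
        (∑ d ∈ Finset.range (T + D), cs d k) ≡ C [SMOD (J ^ T • ⊤ : Submodule A A)] := by
      intro k
      apply IsPrecomplete.prec'
      have hca : AdicCompletion.IsAdicCauchy J A
          (fun T => ∑ d ∈ Finset.range (T + D), cs d k) := by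
        rw [AdicCompletion.isAdicCauchy_iff]
        intro T
        rw [SModEq.sub_mem]
        have e : (∑ d ∈ Finset.range (T + D), cs d k) -
            ∑ d ∈ Finset.range (T + 1 + D), cs d k = - cs (T + D) k := by
          rw [show T + 1 + D = (T + D) + 1 by omega, Finset.sum_range_succ]; ring
        rw [e]
        apply Submodule.neg_mem
        have := hcs (T + D) k
        rw [Nat.add_sub_cancel] at this
        simpa using this
      exact fun {m n} hmn => hca hmn
    choose C hC using hcauchy
    have hfinal : x = ∑ k, C k * aa k := by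
      have hH : IsHausdorff J A := inferInstance
      rw [← sub_eq_zero]
      apply hH.haus'
      intro T
      rw [SModEq.sub_mem, sub_zero]
      have h1 : x - ∑ k, C k * aa k =
          xs (T + D) + ∑ k, ((∑ d ∈ Finset.range (T + D), cs d k) - C k) * aa k := by
        conv_lhs => rw [hx_eq (T + D)]
        simp only [sub_mul, Finset.sum_sub_distrib]
        ring
      rw [h1]
      refine Submodule.add_mem _ ?_ (Submodule.sum_mem _ fun k _ => ?_)
      · have := (hxs (T + D)).2
        have h2 : J ^ (T + D) ≤ J ^ T := Ideal.pow_le_pow_right (by omega)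
        simpa using h2 this
      · have := hC k T
        rw [SModEq.sub_mem] at this
        exact Ideal.mul_mem_right _ (J ^ T • ⊤ : Ideal A) this
    rw [hfinal]
    exact Ideal.sum_mem _ fun k _ => Ideal.mul_mem_left _ _ (Ideal.subset_span ⟨k, rfl⟩)
  have hge : Ideal.span (Set.range aa) ≤ 𝔞 :=
    Ideal.span_le.2 (by rintro _ ⟨k, rfl⟩; exact ha𝔞 k)
  rw [le_antisymm hle hge]
  exact Submodule.fg_span (Set.finite_range aa)

end gens

/-- A ring complete with respect to a finitely generated ideal `J` with `A ⧸ J` Noetherian is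
Noetherian. -/
theorem isNoetherianRing_of_isAdicComplete (J : Ideal A) (hJ : J.FG) [IsAdicComplete J A]
    [IsNoetherianRing (A ⧸ J)] : IsNoetherianRing A := by
  obtain ⟨r, g, hg⟩ := (Submodule.fg_iff_exists_fin_generating_family).1 hJ
  have hg' : Ideal.span (Set.range g) = J := hg
  subst hg'
  exact (isNoetherianRing_iff_ideal_fg A).2 (ideal_fg_of_isAdicComplete g)

/-- Stacks 05GH. -/
theorem isNoetherianRing_adicCompletion_of_fg {R : Type u} [CommRing R] (I : Ideal R)
    (hI : I.FG) [IsNoetherianRing (R ⧸ I)] : IsNoetherianRing (AdicCompletion I R) := by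
  have hc : IsAdicComplete (I.map (algebraMap R (AdicCompletion I R))) (AdicCompletion I R) :=
    AdicCompletion.isAdicComplete_self I hI
  have hfg : (I.map (algebraMap R (AdicCompletion I R))).FG := hI.map _
  have hker := AdicCompletion.ker_evalOneₐ_eq_map I hI
  have hsurj : Function.Surjective (AdicCompletion.evalOneₐ I).toRingHom :=
    AdicCompletion.evalOneₐ_surjective I
  let e : (AdicCompletion I R ⧸ I.map (algebraMap R (AdicCompletion I R))) ≃+* R ⧸ I :=
    (Ideal.quotEquivOfEq hker.symm).trans (RingHom.quotientKerEquivOfSurjective hsurj)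
  have hq : IsNoetherianRing (AdicCompletion I R ⧸ I.map (algebraMap R (AdicCompletion I R))) :=
    isNoetherianRing_of_ringEquiv _ e.symm
  exact isNoetherianRing_of_isAdicComplete _ hfg

/-- The adic completion of a Noetherian ring is Noetherian. -/
theorem isNoetherianRing_adicCompletion {R : Type u} [CommRing R] [IsNoetherianRing R]
    (I : Ideal R) : IsNoetherianRing (AdicCompletion I R) :=
  isNoetherianRing_adicCompletion_of_fg I ((isNoetherianRing_iff_ideal_fg R).1 inferInstance I)

end Groth.Agent.Lib.AdicNoeth
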