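import Mathlib

/-!
# Algebra maps out of power series rings into adically complete rings (helper50)

`exists_algHom`: if `R` is `I`-adically complete and `b i ∈ I`, there is a `k`-algebra map
`ψ : k[[σ]] → R` with `ψ (X i) = b i` and `ψ p ≡ aeval b (truncTotal n p)` modulo `I ^ n`.
-/

set_option autoImplicit false

namespace Groth.Agent.Lib.PowerSeriesLift50

open MvPowerSeries

variable {σ : Type*} [Finite σ] {k R : Type*} [CommRing k] [CommRing R] [Algebra k R]
  (I : Ideal R) (b : σ → R)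

omit [Finite σ] in
lemma aeval_mem_pow (hb : ∀ i, b i ∈ I) (n : ℕ) (p : MvPolynomial σ k)
    (hp : p ∈ MvPolynomial.idealOfVars σ k ^ n) : MvPolynomial.aeval b p ∈ I ^ n := by
  have h1 : MvPolynomial.idealOfVars σ k ≤
      I.comap (MvPolynomial.aeval b : MvPolynomial σ k →ₐ[k] R) := by
    rw [Ideal.span_le]
    rintro _ ⟨i, rfl⟩
    simp [hb i]
  exact (Ideal.le_comap_pow _ n) (Ideal.pow_right_mono h1 n hp)

/-- the level `n` approximation of the evaluation map. -/
noncomputable def lvl (hb : ∀ i, b i ∈ I) (n : ℕ) : MvPowerSeries σ k →ₐ[k] R ⧸ I ^ n :=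
  (Ideal.Quotient.liftₐ (MvPolynomial.idealOfVars σ k ^ n)
    ((Ideal.Quotient.mkₐ k (I ^ n)).comp (MvPolynomial.aeval b)) (by
      intro p hp
      simp only [AlgHom.coe_comp, Ideal.Quotient.mkₐ_eq_mk, Function.comp_apply]
      exact Ideal.Quotient.eq_zero_iff_mem.2 (aeval_mem_pow I b hb n p hp))).comp
  ((truncTotalAlgHom σ k n).restrictScalars k)

lemma lvl_apply (hb : ∀ i, b i ∈ I) (n : ℕ) (p : MvPowerSeries σ k) :
    lvl I b hb n p = Ideal.Quotient.mk (I ^ n) (MvPolynomial.aeval b (truncTotal n p)) := by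
  simp [lvl]

lemma lvl_compat (hb : ∀ i, b i ∈ I) {m n : ℕ} (hle : m ≤ n) :
    (Ideal.Quotient.factorₐ k (Ideal.pow_le_pow_right hle)).comp (lvl I b hb n) = lvl I b hb m := by
  ext p
  simp only [AlgHom.coe_comp, Function.comp_apply, lvl_apply, Ideal.Quotient.factorₐ_apply_mk]
  rw [Ideal.Quotient.eq, ← map_sub]
  exact aeval_mem_pow I b hb m _
    (truncTotal_sub_truncTotal_mem_pow_idealOfVars hle le_rfl p)

omit [Finite σ] in
lemma truncTotal_X_sub_mem [Finite σ] (n : ℕ) (i : σ) :
    truncTotal n (X i : MvPowerSeries σ k) - MvPolynomial.X i ∈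
      MvPolynomial.idealOfVars σ k ^ n := by
  have h := (truncTotalAlgHom σ k n).commutes (MvPolynomial.X i)
  have h2 : algebraMap (MvPolynomial σ k) (MvPowerSeries σ k) (MvPolynomial.X i) = X i := by
    rw [MvPowerSeries.algebraMap_apply']
    simp
  rw [h2] at h
  rw [← Ideal.Quotient.eq]
  exact h

/-- existence of the evaluation map on power series. -/
theorem exists_algHom [IsAdicComplete I R] (hb : ∀ i, b i ∈ I) :
    ∃ ψ : MvPowerSeries σ k →ₐ[k] R, (∀ i, ψ (X i) = b i) ∧
      ∀ (p : MvPowerSeries σ k) (n : ℕ),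
        ψ p - MvPolynomial.aeval b (truncTotal n p) ∈ I ^ n := by
  let ψ : MvPowerSeries σ k →ₐ[k] R :=
    IsAdicComplete.liftAlgHom (R := k) I (lvl (k := k) I b hb)
      (fun hle => lvl_compat (k := k) I b hb hle)
  have hψ : ∀ (p : MvPowerSeries σ k) (n : ℕ),
      ψ p - MvPolynomial.aeval b (truncTotal n p) ∈ I ^ n := by
    intro p n
    rw [← Ideal.Quotient.eq, ← lvl_apply I b hb]
    exact IsAdicComplete.mk_liftAlgHom (R := k) I (lvl (k := k) I b hb)
      (fun hle => lvl_compat (k := k) I b hb hle) n p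
  refine ⟨ψ, ?_, hψ⟩
  intro i
  have hall : ∀ n, ψ (X i) - b i ∈ I ^ n := by
    intro n
    have h1 := hψ (X i) n
    have h2 := aeval_mem_pow I b hb n _ (truncTotal_X_sub_mem (k := k) n i)
    rw [map_sub, MvPolynomial.aeval_X] at h2
    have : ψ (X i) - b i = (ψ (X i) - MvPolynomial.aeval b (truncTotal n (X i : MvPowerSeries σ k)))
        + (MvPolynomial.aeval b (truncTotal n (X i : MvPowerSeries σ k)) - b i) := by ring
    rw [this]
    exact Ideal.add_mem _ h1 h2
  have h0 : ψ (X i) - b i = 0 := by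
    apply IsHausdorff.haus' (I := I) (ψ (X i) - b i)
    intro n
    rw [SModEq.zero]
    simpa using hall n
  exact sub_eq_zero.1 h0

end Groth.Agent.Lib.PowerSeriesLift50
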