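/-
helper50: formal inverse function theorem for multivariate power series.

Main results (namespace `Groth.Agent.Lib.FormalInverse50`):
* `IsUnip φ` : an additive endomorphism of `MvPowerSeries σ R` with `order f + 1 ≤ order (φ f - f)`;
  `IsUnip.bijective`.
* `isUnip_subst` : substitution by `y` with `2 ≤ order (y i - X i)` is unipotent.
* `subst_bijective_of_isUnit_det` : substitution by `y` (zero constant terms, invertible Jacobian
  at the origin) is bijective.
* `algHom_eq_subst` : any algebra endomorphism of `R[[σ]]` (σ finite) sending the variables to series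
  without constant term is the substitution.
-/
import Mathlib.RingTheory.MvPowerSeries.Substitution
import Mathlib.RingTheory.MvPowerSeries.Order
import Mathlib.LinearAlgebra.Matrix.NonsingularInverse
import Mathlib.RingTheory.LocalRing.ResidueField.Basic
import Mathlib.Tactic.Abel
import Mathlib.Tactic.Ring

set_option autoImplicit false

namespace Groth.Agent.Lib.FormalInverse50

open MvPowerSeries

section abstract

variable {σ : Type*} {R : Type*} [CommRing R]

/-- `φ` is unipotent with respect to the order filtration. -/
def IsUnip (φ : MvPowerSeries σ R →+ MvPowerSeries σ R) : Prop :=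
  ∀ f, f.order + 1 ≤ (φ f - f).order

variable {φ : MvPowerSeries σ R →+ MvPowerSeries σ R}

theorem IsUnip.injective (h : IsUnip φ) : Function.Injective φ := by
  rw [injective_iff_map_eq_zero]
  intro f hf
  by_contra hne
  have h1 := h f
  rw [hf, zero_sub, order_neg] at h1
  have hfin : f.order ≠ ⊤ := by rwa [Ne, order_eq_top_iff]
  rw [ENat.add_one_le_iff hfin] at h1
  exact lt_irrefl _ h1

theorem IsUnip.order_le (h : IsUnip φ) (f : MvPowerSeries σ R) : f.order ≤ (φ f).order := by
  have h1 : φ f = f + (φ f - f) := by abel
  rw [h1]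
  exact le_trans (le_min le_rfl (le_self_add.trans (h f))) min_order_le_add

theorem IsUnip.order_sub_le (h : IsUnip φ) (f : MvPowerSeries σ R) :
    f.order + 1 ≤ (f - φ f).order := by
  have h1 : f - φ f = -(φ f - f) := by abel
  rw [h1, order_neg]
  exact h f

theorem IsUnip.le_order_iterate (h : IsUnip φ) (g : MvPowerSeries σ R) (m : ℕ) :
    (m : ℕ∞) ≤ (((AddMonoidHom.id _ - φ) : MvPowerSeries σ R →+ MvPowerSeries σ R)^[m] g).order := by
  induction m with
  | zero => simp
  | succ m ih =>
    rw [Function.iterate_succ_apply', Nat.cast_succ]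
    refine le_trans (add_le_add_left ih 1) ?_
    exact h.order_sub_le _

theorem IsUnip.surjective (h : IsUnip φ) : Function.Surjective φ := by
  classical
  intro g
  set ψ : MvPowerSeries σ R →+ MvPowerSeries σ R := AddMonoidHom.id _ - φ with hψ
  have hψapp : ∀ x, ψ x = x - φ x := fun x => rfl
  have hord : ∀ m : ℕ, (m : ℕ∞) ≤ (ψ^[m] g).order := h.le_order_iterate g
  let S : ℕ → MvPowerSeries σ R := fun k => ∑ m ∈ Finset.range k, ψ^[m] g
  let f : MvPowerSeries σ R := fun d => coeff d (S (d.degree + 1))
  have claim1 : ∀ (k : ℕ) (d : σ →₀ ℕ), d.degree < k → coeff d f = coeff d (S k) := by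
    intro k d hd
    rw [coeff_apply]
    show coeff d (S (d.degree + 1)) = coeff d (S k)
    simp only [S, map_sum]
    apply Finset.sum_subset
    · intro m hm
      rw [Finset.mem_range] at hm ⊢
      omega
    · intro m _ hm
      rw [Finset.mem_range, not_lt] at hm
      apply coeff_of_lt_order
      refine lt_of_lt_of_le ?_ (hord m)
      exact_mod_cast hm
  have claim2 : ∀ k : ℕ, (k : ℕ∞) ≤ (f - S k).order := by
    intro k
    apply nat_le_order
    intro d hd
    rw [map_sub, claim1 k d hd, sub_self]
  have claim3 : ∀ k : ℕ, φ (S k) = g - ψ^[k] g := by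
    intro k
    induction k with
    | zero => simp [S]
    | succ k ih =>
      have hS : S (k + 1) = S k + ψ^[k] g := Finset.sum_range_succ _ _
      rw [hS, map_add, ih, Function.iterate_succ_apply', hψapp]
      abel
  refine ⟨f, ?_⟩
  rw [← sub_eq_zero, ← order_eq_top_iff, ENat.eq_top_iff_forall_ge]
  intro k
  have h1 : φ f - g = φ (f - S k) + -(ψ^[k] g) := by
    rw [map_sub, claim3]
    abel
  rw [h1]
  refine le_trans (le_min ?_ ?_) min_order_le_add
  · exact (claim2 k).trans (h.order_le _)
  · rw [order_neg]
    exact hord k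

theorem IsUnip.bijective (h : IsUnip φ) : Function.Bijective φ := ⟨h.injective, h.surjective⟩

end abstract

section subst

variable {σ : Type*} {R : Type*} [CommRing R]

/-- `a` agrees with `a'` up to terms of degree `> p`, and `a'` has order at least `p`. -/
def Close (p : ℕ) (a a' : MvPowerSeries σ R) : Prop :=
  (p : ℕ∞) ≤ a'.order ∧ (p : ℕ∞) + 1 ≤ (a - a').order

lemma Close.order_le {p : ℕ} {a a' : MvPowerSeries σ R} (h : Close p a a') :
    (p : ℕ∞) ≤ a.order := by
  have h1 : a = a' + (a - a') := by abel
  rw [h1]
  exact le_trans (le_min h.1 (le_self_add.trans h.2)) min_order_le_add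

lemma Close.one : Close 0 (1 : MvPowerSeries σ R) 1 := by
  refine ⟨by simp, ?_⟩
  rw [sub_self, order_zero]
  exact le_top

lemma Close.mul {p q : ℕ} {a a' b b' : MvPowerSeries σ R} (ha : Close p a a')
    (hb : Close q b b') : Close (p + q) (a * b) (a' * b') := by
  constructor
  · push_cast
    exact (add_le_add ha.1 hb.1).trans le_order_mul
  · have h1 : a * b - a' * b' = (a - a') * b + a' * (b - b') := by ring
    rw [h1]
    refine le_trans (le_min ?_ ?_) min_order_le_add
    · refine le_trans ?_ le_order_mul
      calc ((p + q : ℕ) : ℕ∞) + 1 = ((p : ℕ∞) + 1) + q := by push_cast; ring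
        _ ≤ (a - a').order + b.order := add_le_add ha.2 hb.order_le
    · refine le_trans ?_ le_order_mul
      calc ((p + q : ℕ) : ℕ∞) + 1 = (p : ℕ∞) + ((q : ℕ∞) + 1) := by push_cast; ring
        _ ≤ a'.order + (b - b').order := add_le_add ha.1 hb.2

lemma Close.pow {p : ℕ} {a a' : MvPowerSeries σ R} (h : Close p a a') (n : ℕ) :
    Close (n * p) (a ^ n) (a' ^ n) := by
  induction n with
  | zero => simpa using Close.one
  | succ n ih =>
    rw [pow_succ, pow_succ, Nat.succ_mul]
    exact ih.mul h

lemma Close.finset_prod {ι : Type*} (s : Finset ι) (p : ι → ℕ) (a a' : ι → MvPowerSeries σ R)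
    (h : ∀ i ∈ s, Close (p i) (a i) (a' i)) :
    Close (∑ i ∈ s, p i) (∏ i ∈ s, a i) (∏ i ∈ s, a' i) := by
  classical
  induction s using Finset.induction_on with
  | empty => simpa using Close.one
  | insert i s hi ih =>
    rw [Finset.sum_insert hi, Finset.prod_insert hi, Finset.prod_insert hi]
    exact (h i (Finset.mem_insert_self i s)).mul
      (ih (fun j hj => h j (Finset.mem_insert_of_mem hj)))

lemma close_X {y : σ → MvPowerSeries σ R} (hy : ∀ i, 2 ≤ (y i - X i).order) (i : σ) :
    Close 1 (y i) (X i) := by
  constructor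
  · rw [Nat.cast_one, one_le_order_iff_constCoeff_eq_zero]
    exact constantCoeff_X i
  · have := hy i
    rw [Nat.cast_one]
    exact this

lemma close_prod {y : σ → MvPowerSeries σ R} (hy : ∀ i, 2 ≤ (y i - X i).order) (e : σ →₀ ℕ) :
    Close e.degree (e.prod fun s n => y s ^ n) (e.prod fun s n => (X s : MvPowerSeries σ R) ^ n) := by
  rw [Finsupp.degree_apply]
  unfold Finsupp.prod
  refine Close.finset_prod _ _ _ _ (fun i _ => ?_)
  have := (close_X hy i).pow (e i)
  rwa [mul_one] at this

lemma constantCoeff_eq_zero_of_close {y : σ → MvPowerSeries σ R}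
    (hy : ∀ i, 2 ≤ (y i - X i).order) (i : σ) : constantCoeff (y i) = 0 := by
  have h1 := (close_X hy i).order_le
  rwa [Nat.cast_one, one_le_order_iff_constCoeff_eq_zero] at h1

/-- The additive endomorphism underlying a substitution. -/
noncomputable def substAddHom (y : σ → MvPowerSeries σ R) (hy : HasSubst y) :
    MvPowerSeries σ R →+ MvPowerSeries σ R :=
  ((substAlgHom (R := R) hy : MvPowerSeries σ R →ₐ[R] MvPowerSeries σ R) :
    MvPowerSeries σ R →+* MvPowerSeries σ R).toAddMonoidHom

lemma substAddHom_apply (y : σ → MvPowerSeries σ R) (hy : HasSubst y) (f : MvPowerSeries σ R) :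
    substAddHom y hy f = subst y f := by
  show substAlgHom hy f = subst y f
  rw [substAlgHom_apply]

theorem isUnip_subst (y : σ → MvPowerSeries σ R) (hy2 : ∀ i, 2 ≤ (y i - X i).order)
    (hy : HasSubst y) : IsUnip (substAddHom y hy) := by
  intro f
  apply le_order
  intro d hd
  rw [substAddHom_apply, map_sub, sub_eq_zero]
  have h1 : coeff d f = coeff d (subst (X : σ → MvPowerSeries σ R) f) := by
    rw [subst_self]
    rfl
  rw [h1, coeff_subst hy, coeff_subst HasSubst.X]
  apply finsum_congr
  intro e
  by_cases he : (e.degree : ℕ∞) < f.order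
  · rw [coeff_of_lt_order he, zero_smul, zero_smul]
  · rw [not_lt] at he
    congr 1
    have hc := close_prod hy2 e
    have hlt : (d.degree : ℕ∞) < ((e.prod fun s n => y s ^ n) -
        (e.prod fun s n => (X s : MvPowerSeries σ R) ^ n)).order := by
      refine lt_of_lt_of_le (lt_of_lt_of_le hd ?_) hc.2
      exact add_le_add_left he 1
    have := coeff_of_lt_order hlt
    rwa [map_sub, sub_eq_zero] at this

theorem subst_bijective_of_close [Finite σ] (y : σ → MvPowerSeries σ R) (hy2 : ∀ i, 2 ≤ (y i - X i).order) :
    Function.Bijective (subst y : MvPowerSeries σ R → MvPowerSeries σ R) := by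
  have hy : HasSubst y := hasSubst_of_constantCoeff_zero (constantCoeff_eq_zero_of_close hy2)
  have := (isUnip_subst y hy2 hy).bijective
  have h2 : ⇑(substAddHom y hy) = subst y := funext (substAddHom_apply y hy)
  rwa [h2] at this

end subst

section jacobian

variable {σ : Type*} [Fintype σ] [DecidableEq σ] {R : Type*} [CommRing R]

/-- The linear forms attached to a matrix. -/
noncomputable def lin (M : Matrix σ σ R) (i : σ) : MvPowerSeries σ R :=
  ∑ j, M i j • (X j : MvPowerSeries σ R)

lemma coeff_lin_single (M : Matrix σ σ R) (i k : σ) :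
    coeff (Finsupp.single k 1) (lin M i) = M i k := by
  simp [lin, coeff_index_single_X]

omit [DecidableEq σ] in
lemma constantCoeff_lin (M : Matrix σ σ R) (i : σ) : constantCoeff (lin M i) = 0 := by
  simp [lin]

omit [Fintype σ] [DecidableEq σ] in
lemma two_le_order_of_coeff (h : MvPowerSeries σ R) (h0 : constantCoeff h = 0)
    (h1 : ∀ k, coeff (Finsupp.single k 1) h = 0) : 2 ≤ h.order := by
  have h2 : ((2 : ℕ) : ℕ∞) ≤ h.order := by
    apply nat_le_order
    intro d hd
    have hd' : d.degree = 0 ∨ d.degree = 1 := by omega
    rcases hd' with hd0 | hd1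
    · have hd00 : d = 0 := (Finsupp.degree_eq_zero_iff d).mp hd0
      subst hd00
      exact h0
    · obtain ⟨k, rfl⟩ := (Finsupp.sum_eq_one_iff d).mp (by
        rw [← hd1, Finsupp.degree_apply]
        rfl)
      exact h1 k
  exact_mod_cast h2

omit [DecidableEq σ] in
lemma subst_lin (M N : Matrix σ σ R) (s : σ) :
    subst (lin N) (lin M s) = lin (M * N) s := by
  have hb : HasSubst (lin N) := hasSubst_of_constantCoeff_zero (constantCoeff_lin N)
  rw [← substAlgHom_apply hb]
  unfold lin
  rw [map_sum]
  simp only [map_smul, substAlgHom_X, Finset.smul_sum, smul_smul]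
  rw [Finset.sum_comm]
  refine Finset.sum_congr rfl (fun j _ => ?_)
  rw [← Finset.sum_smul, Matrix.mul_apply]

lemma lin_one (s : σ) : lin (1 : Matrix σ σ R) s = X s := by
  unfold lin
  simp [Matrix.one_apply, ite_smul]

theorem subst_bijective_of_isUnit_det (y : σ → MvPowerSeries σ R)
    (h0 : ∀ i, constantCoeff (y i) = 0)
    (hJ : IsUnit (Matrix.det (Matrix.of fun i j : σ => coeff (Finsupp.single j 1) (y i)))) :
    Function.Bijective (subst y : MvPowerSeries σ R → MvPowerSeries σ R) := by
  set J : Matrix σ σ R := Matrix.of fun i j => coeff (Finsupp.single j 1) (y i) with hJdef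
  have hy : HasSubst y := hasSubst_of_constantCoeff_zero h0
  have hJ1 : J * J⁻¹ = 1 := Matrix.mul_nonsing_inv J hJ
  have hJ2 : J⁻¹ * J = 1 := Matrix.nonsing_inv_mul J hJ
  set b := lin (J⁻¹) with hbdef
  have hb : HasSubst b := hasSubst_of_constantCoeff_zero (constantCoeff_lin _)
  have hz : ∀ s, subst y (b s) = ∑ j, (J⁻¹) s j • y j := by
    intro s
    rw [← substAlgHom_apply hy, hbdef]
    unfold lin
    rw [map_sum]
    refine Finset.sum_congr rfl (fun j _ => ?_)
    rw [map_smul, substAlgHom_X]
  constructor
  · -- injectivity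
    have hwclose : ∀ s, 2 ≤ ((fun s => subst b (y s)) s - X s).order := by
      intro s
      have h1 : subst b (y s) - X s = subst b (y s - lin J s) := by
        rw [subst_sub hb, hbdef, subst_lin, hJ1, lin_one]
      show 2 ≤ (subst b (y s) - X s).order
      rw [h1]
      have h2 : 2 ≤ (y s - lin J s).order := by
        apply two_le_order_of_coeff
        · rw [map_sub, h0, constantCoeff_lin, sub_zero]
        · intro k
          rw [map_sub, coeff_lin_single, hJdef, Matrix.of_apply, sub_self]
      have h3 : (1 : ℕ∞) ≤ ⨅ i, (b i).order := by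
        refine le_iInf (fun i => ?_)
        rw [one_le_order_iff_constCoeff_eq_zero]
        exact constantCoeff_lin _ i
      refine le_trans ?_ (le_order_subst hb _)
      calc (2 : ℕ∞) = 1 * 2 := by rw [one_mul]
        _ ≤ (⨅ i, (b i).order) * (y s - lin J s).order := mul_le_mul' h3 h2
    have hbij := subst_bijective_of_close _ hwclose
    intro f g hfg
    apply hbij.1
    rw [← subst_comp_subst_apply hy hb, ← subst_comp_subst_apply hy hb, hfg]
  · -- surjectivity
    have hzclose : ∀ s, 2 ≤ ((fun s => subst y (b s)) s - X s).order := by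
      intro s
      apply two_le_order_of_coeff
      · show constantCoeff (subst y (b s) - X s) = 0
        rw [hz, map_sub, map_sum, constantCoeff_X, sub_zero]
        refine Finset.sum_eq_zero (fun j _ => ?_)
        rw [constantCoeff_smul, h0, smul_zero]
      · intro k
        show coeff (Finsupp.single k 1) (subst y (b s) - X s) = 0
        rw [hz, map_sub, map_sum, coeff_index_single_X]
        have h1 : ∑ j, coeff (Finsupp.single k 1) ((J⁻¹) s j • y j) = (J⁻¹ * J) s k := by
          rw [Matrix.mul_apply]
          rfl
        rw [h1, hJ2, Matrix.one_apply]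
        by_cases hsk : s = k
        · subst hsk
          simp
        · rw [if_neg hsk, if_neg (fun h => hsk h.symm), sub_zero]
    have hbij := subst_bijective_of_close _ hzclose
    intro g
    obtain ⟨f, hf⟩ := hbij.2 g
    refine ⟨subst b f, ?_⟩
    rw [subst_comp_subst_apply hb hy]
    exact hf

end jacobian

section algHom

variable {σ : Type*} [Fintype σ] [DecidableEq σ] {R : Type*} [CommRing R]

omit [Fintype σ] [DecidableEq σ] in
lemma le_order_finset_sum {ι : Type*} (s : Finset ι) (g : ι → MvPowerSeries σ R) (k : ℕ∞)
    (h : ∀ i ∈ s, k ≤ (g i).order) : k ≤ (∑ i ∈ s, g i).order := by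
  apply le_order
  intro d hd
  rw [map_sum]
  exact Finset.sum_eq_zero (fun i hi => coeff_of_lt_order (lt_of_lt_of_le hd (h i hi)))

omit [DecidableEq σ] in
/-- A series without constant term is a combination of the variables, with control on orders. -/
lemma exists_decomp (r : MvPowerSeries σ R) (hr : constantCoeff r = 0) :
    ∃ q : σ → MvPowerSeries σ R, r = ∑ i, X i * q i ∧
      ∀ (k : ℕ), ((k : ℕ∞) + 1 ≤ r.order) → ∀ i, (k : ℕ∞) ≤ (q i).order := by
  classical
  let Pick : (σ →₀ ℕ) → σ → Prop := fun e i => ∃ h : e.support.Nonempty, h.choose = i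
  let q : σ → MvPowerSeries σ R := fun i e' =>
    if Pick (e' + Finsupp.single i 1) i then coeff (e' + Finsupp.single i 1) r else 0
  have hq : ∀ i e', coeff e' (q i) =
      if Pick (e' + Finsupp.single i 1) i then coeff (e' + Finsupp.single i 1) r else 0 :=
    fun i e' => rfl
  refine ⟨q, ?_, ?_⟩
  · ext e
    rw [map_sum]
    have hterm : ∀ i, coeff e (X i * q i) =
        if Finsupp.single i 1 ≤ e ∧ Pick e i then coeff e r else 0 := by
      intro i
      rw [X, coeff_monomial_mul, one_mul]
      by_cases hle : Finsupp.single i 1 ≤ e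
      · rw [if_pos hle, hq, tsub_add_cancel_of_le hle]
        by_cases hp : Pick e i
        · rw [if_pos hp, if_pos ⟨hle, hp⟩]
        · rw [if_neg hp, if_neg (fun h => hp h.2)]
      · rw [if_neg hle, if_neg (fun h => hle h.1)]
    simp only [hterm]
    by_cases he : e = 0
    · subst he
      have : coeff (0 : σ →₀ ℕ) r = 0 := hr
      rw [this]
      simp
    · have hne : e.support.Nonempty := Finsupp.support_nonempty_iff.mpr he
      have hmem : hne.choose ∈ e.support := hne.choose_spec
      rw [Finset.sum_eq_single hne.choose]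
      · rw [if_pos]
        refine ⟨?_, hne, rfl⟩
        rw [Finsupp.single_le_iff]
        exact Nat.one_le_iff_ne_zero.mpr (Finsupp.mem_support_iff.mp hmem)
      · intro i _ hi
        rw [if_neg]
        rintro ⟨-, h, hh⟩
        exact hi hh.symm
      · intro h
        exact absurd (Finset.mem_univ _) h
  · intro k hk i
    apply nat_le_order
    intro e' he'
    rw [hq]
    split_ifs with hp
    · apply coeff_of_lt_order
      refine lt_of_lt_of_le ?_ hk
      rw [map_add, Finsupp.degree_single]
      have : ((e'.degree + 1 : ℕ) : ℕ∞) < (k : ℕ∞) + 1 := by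
        have : e'.degree + 1 < k + 1 := by omega
        exact_mod_cast this
      exact_mod_cast this
    · rfl

omit [DecidableEq σ] in
/-- An algebra endomorphism sending the variables to series without constant term preserves
the order filtration. -/
lemma algHom_le_order (φ : MvPowerSeries σ R →ₐ[R] MvPowerSeries σ R)
    (h0 : ∀ i, constantCoeff (φ (X i)) = 0) (k : ℕ) :
    ∀ f : MvPowerSeries σ R, (k : ℕ∞) ≤ f.order → (k : ℕ∞) ≤ (φ f).order := by
  induction k with
  | zero => intro f _; simp
  | succ k ih =>
    intro f hf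
    have hf0 : constantCoeff f = 0 := by
      rw [← one_le_order_iff_constCoeff_eq_zero]
      refine le_trans ?_ hf
      rw [Nat.cast_succ]
      exact le_add_self
    obtain ⟨q, hfq, hq⟩ := exists_decomp f hf0
    have hq' := hq k (by rw [← Nat.cast_succ]; exact hf)
    rw [hfq, map_sum]
    apply le_order_finset_sum
    intro i _
    rw [map_mul, Nat.cast_succ, add_comm]
    refine le_trans (add_le_add ?_ (ih _ (hq' i))) le_order_mul
    rw [one_le_order_iff_constCoeff_eq_zero]
    exact h0 i

omit [DecidableEq σ] in
/-- An algebra endomorphism of `R[[σ]]` sending the variables to series without constant term is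
the substitution. -/
theorem algHom_eq_subst (φ : MvPowerSeries σ R →ₐ[R] MvPowerSeries σ R)
    (h0 : ∀ i, constantCoeff (φ (X i)) = 0) (f : MvPowerSeries σ R) :
    φ f = subst (fun i => φ (X i)) f := by
  set y : σ → MvPowerSeries σ R := fun i => φ (X i) with hy
  have hys : HasSubst y := hasSubst_of_constantCoeff_zero h0
  have hpoly : ∀ p : MvPolynomial σ R, φ (p : MvPowerSeries σ R) = subst y (p : MvPowerSeries σ R) := by
    intro p
    rw [subst_coe]
    induction p using MvPolynomial.induction_on with
    | C a =>
      have hC : (C a : MvPowerSeries σ R) = algebraMap R (MvPowerSeries σ R) a := by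
        rw [MvPowerSeries.algebraMap_apply]
        rfl
      rw [MvPolynomial.coe_C, MvPolynomial.aeval_C, hC, AlgHom.commutes]
    | add p q hp hq => rw [MvPolynomial.coe_add, map_add, map_add, hp, hq]
    | mul_X p i hp =>
      rw [MvPolynomial.coe_mul, map_mul, map_mul, hp, MvPolynomial.coe_X, MvPolynomial.aeval_X]
  rw [← sub_eq_zero, ← order_eq_top_iff, ENat.eq_top_iff_forall_ge]
  intro k
  set t : MvPolynomial σ R := truncTotal k f with ht
  have hft : (k : ℕ∞) ≤ (f - (t : MvPowerSeries σ R)).order := by
    apply nat_le_order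
    intro d hd
    rw [map_sub, MvPolynomial.coeff_coe, ht, coeff_truncTotal _ hd, sub_self]
  have h1 : φ f - subst y f = φ (f - (t : MvPowerSeries σ R)) + -(subst y (f - (t : MvPowerSeries σ R))) := by
    rw [map_sub, subst_sub hys, hpoly]
    abel
  rw [h1]
  refine le_trans (le_min ?_ ?_) min_order_le_add
  · exact algHom_le_order φ h0 k _ hft
  · rw [order_neg]
    refine le_trans ?_ (le_order_subst hys _)
    have h3 : (1 : ℕ∞) ≤ ⨅ i, (y i).order := by
      refine le_iInf (fun i => ?_)
      rw [one_le_order_iff_constCoeff_eq_zero]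
      exact h0 i
    calc (k : ℕ∞) = 1 * k := by rw [one_mul]
      _ ≤ (⨅ i, (y i).order) * (f - (t : MvPowerSeries σ R)).order := mul_le_mul' h3 hft

end algHom

section generators

variable {σ : Type*} [Fintype σ] [DecidableEq σ] {R : Type*} [CommRing R]

omit [Fintype σ] [DecidableEq σ] in
/-- Degree one coefficient of a product whose second factor has no constant term. -/
lemma coeff_single_mul (f g : MvPowerSeries σ R) (hg : constantCoeff g = 0) (k : σ) :
    coeff (Finsupp.single k 1) (f * g) = constantCoeff f * coeff (Finsupp.single k 1) g := by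
  have h1 : f = C (constantCoeff f) + (f - C (constantCoeff f)) := by abel
  have h2 : (2 : ℕ∞) ≤ ((f - C (constantCoeff f)) * g).order := by
    have ha : (1 : ℕ∞) ≤ (f - C (constantCoeff f)).order := by
      rw [one_le_order_iff_constCoeff_eq_zero, map_sub, constantCoeff_C, sub_self]
    have hb : (1 : ℕ∞) ≤ g.order := by rwa [one_le_order_iff_constCoeff_eq_zero]
    calc (2 : ℕ∞) = 1 + 1 := by norm_num
      _ ≤ (f - C (constantCoeff f)).order + g.order := add_le_add ha hb
      _ ≤ _ := le_order_mul
  have h3 : coeff (Finsupp.single k 1) ((f - C (constantCoeff f)) * g) = 0 := by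
    apply coeff_of_lt_order
    refine lt_of_lt_of_le ?_ h2
    rw [Finsupp.degree_single]
    norm_num
  conv_lhs => rw [h1, add_mul, map_add, h3, add_zero, coeff_C_mul]

/-- If over a local ring every variable lies in the ideal generated by the `y i` and the maximal
ideal of the coefficient ring, the Jacobian of `y` at the origin is invertible. -/
theorem isUnit_det_of_X_mem [IsLocalRing R] (y : σ → MvPowerSeries σ R)
    (h0 : ∀ i, constantCoeff (y i) = 0)
    (hX : ∀ j, ∃ (a : MvPowerSeries σ R) (m : R) (c : σ → MvPowerSeries σ R),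
      m ∈ IsLocalRing.maximalIdeal R ∧ (X j : MvPowerSeries σ R) = a * C m + ∑ i, c i * y i) :
    IsUnit (Matrix.det (Matrix.of fun i j : σ => coeff (Finsupp.single j 1) (y i))) := by
  choose a m c hm hXeq using hX
  set J : Matrix σ σ R := Matrix.of fun i j => coeff (Finsupp.single j 1) (y i) with hJ
  let C₀ : Matrix σ σ R := Matrix.of fun j i => constantCoeff (c j i)
  let A : Matrix σ σ R := Matrix.of fun j k => coeff (Finsupp.single k 1) (a j) * m j
  have hmat : C₀ * J = 1 - A := by
    ext j k
    have h1 := congrArg (coeff (Finsupp.single k 1)) (hXeq j)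
    rw [coeff_index_single_X, map_add, map_sum, mul_comm (a j), coeff_C_mul] at h1
    have h2 : ∀ i, coeff (Finsupp.single k 1) (c j i * y i) = C₀ j i * J i k := by
      intro i
      rw [coeff_single_mul _ _ (h0 i)]
      rfl
    simp only [h2] at h1
    rw [Matrix.mul_apply, Matrix.sub_apply, Matrix.one_apply]
    have h3 : A j k = m j * coeff (Finsupp.single k 1) (a j) := by
      show coeff (Finsupp.single k 1) (a j) * m j = _
      rw [mul_comm]
    rw [h3]
    have h4 : (if j = k then (1 : R) else 0) = if k = j then 1 else 0 := by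
      by_cases hjk : j = k
      · subst hjk; simp
      · rw [if_neg hjk, if_neg (fun h => hjk h.symm)]
    rw [h4, h1]
    ring
  have hdet : IsUnit (1 - A).det := by
    rw [← isUnit_map_iff (IsLocalRing.residue R), RingHom.map_det]
    have : (IsLocalRing.residue R).mapMatrix (1 - A) = 1 := by
      ext j k
      rw [RingHom.mapMatrix_apply, Matrix.map_apply, Matrix.sub_apply, map_sub]
      have hA : IsLocalRing.residue R (A j k) = 0 := by
        rw [IsLocalRing.residue_eq_zero_iff]
        exact Ideal.mul_mem_left _ _ (hm j)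
      rw [hA, sub_zero, Matrix.one_apply, Matrix.one_apply]
      split_ifs <;> simp
    rw [this, Matrix.det_one]
    exact isUnit_one
  rw [← hmat, Matrix.det_mul] at hdet
  exact isUnit_of_mul_isUnit_right hdet

end generators

end Groth.Agent.Lib.FormalInverse50
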