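import Mathlib
import Groth.Agent.Lib.GeomRegKaehlerH44
import Groth.Agent.S2471
import Groth.Agent.S4512
import Groth.Agent.S2035

/-!
# Adic formal smoothness over a field = geometric regularity (helper44)

For a field `k` and a Noetherian local `k`-algebra `A`:
`CAlgX.IsAdicFormallySmooth k A 𝔪 ↔ CAlg.IsGeometricallyRegular k A`
(`isAdicFormallySmooth_iff_isGeometricallyRegular`, EGA 0_IV 22.5.8), and in characteristic `p` it
is enough to test regularity of `k' ⊗ A` on finite extensions `k'` with `k'^p ⊆ k`
(`isAdicFormallySmooth_of_regular`).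
-/

namespace Groth.Agent.Lib.AdicFSGeomRegH44

open IsLocalRing TensorProduct

universe u

variable {k A : Type u} [Field k] [CommRing A] [IsLocalRing A] [IsNoetherianRing A] [Algebra k A]

/-- regularity of `k ⊗[k] A` gives regularity of `A` -/
theorem isRegularLocalRing_of_tensor_self (h : IsRegularRing (k ⊗[k] A)) : IsRegularLocalRing A := by
  haveI : IsRegularRing A := IsRegularRing.of_ringEquiv (Algebra.TensorProduct.lid k A).toRingEquiv
  exact IsRegularLocalRing.of_isRegularRing_of_isLocalRing A

/-- characteristic `p`: regularity after all finite exponent-one extensions gives adic formal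
smoothness -/
theorem isAdicFormallySmooth_of_regular (p : ℕ) [Fact p.Prime] [CharP k p]
    (H : ∀ (k' : Type u) [Field k'] [Algebra k k'], Module.Finite k k' →
        (∀ x : k', x ^ p ∈ (algebraMap k k').range) → IsRegularRing (k' ⊗[k] A)) :
    CAlgX.IsAdicFormallySmooth k A (maximalIdeal A) := by
  refine Groth.Agent.S2471.result.2 ⟨?_, ?_⟩
  · refine isRegularLocalRing_of_tensor_self (k := k) (H k inferInstance (fun x => ?_))
    exact ⟨x ^ p, rfl⟩
  · exact Groth.Agent.Lib.GeomRegKaehlerH44.injective_lTensor_of_regular p H

/-- EGA 0_IV 22.5.8: adic formal smoothness over a field is geometric regularity. -/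
theorem isAdicFormallySmooth_iff_isGeometricallyRegular :
    CAlgX.IsAdicFormallySmooth k A (maximalIdeal A) ↔ CAlg.IsGeometricallyRegular k A := by
  constructor
  · intro h
    exact (Groth.Agent.S4512.result h).1
  · intro h
    obtain ⟨q, hq⟩ := CharP.exists k
    rcases CharP.char_is_prime_or_zero k q with hq' | hq'
    · haveI : Fact q.Prime := ⟨hq'⟩
      exact isAdicFormallySmooth_of_regular q (fun k' _ _ hfin _ => h k' hfin)
    · subst hq'
      haveI : CharZero k := CharP.charP_to_charZero k
      exact Groth.Agent.S2035.result.1
        (isRegularLocalRing_of_tensor_self (k := k) (h k inferInstance))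

end Groth.Agent.Lib.AdicFSGeomRegH44
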