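import Groth.Agent.Lib.ArtinFamD64

/-!
# Flatness tested on a family of local base changes, Noetherian base: stage lemmas (helper64)

* `bijective_of_isLocalizedModule`: a localization map whose source is already local is bijective.
* `exists_mul_eq_one_tmul`: if every element of the `R`-algebra `A` is a fraction of elements of
  `R`, every element of `A ⊗[R] B` is, up to a unit, of the form `1 ⊗ b`.
* `flat_tensor_localized_of_flat_localized_tensor`: in that situation `A ⊗ M_p` is flat over `A`
  as soon as `(A ⊗ M)_P` is, for a prime `P` over `p`.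
* `HypAt.stage`: the pointwise hypothesis `HypAt` passes from the base `R` to a stage `A`.
-/

set_option autoImplicit false
set_option maxHeartbeats 400000
set_option linter.style.haveILetI false
set_option linter.unusedSectionVars false
universe u

open TensorProduct Function IsLocalRing
open Groth.Agent.Lib.FlatLimStage88 Groth.Agent.Lib.FlatLimGlobal88 Groth.Agent.Lib.ArtinFamD64
open scoped Groth.Agent.Lib.FlatLimStage88

namespace Groth.Agent.Lib.AdicFamA64

section Generic

variable {C : Type*} [CommSemiring C] {X Y : Type*} [AddCommMonoid X] [Module C X]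
  [AddCommMonoid Y] [Module C Y]

/-- A localization map whose source is already local is bijective. -/
theorem bijective_of_isLocalizedModule (V : Submonoid C) (g : X →ₗ[C] Y) [IsLocalizedModule V g]
    (hV : ∀ c ∈ V, Bijective fun x : X => c • x) : Bijective g := by
  constructor
  · intro x y hxy
    obtain ⟨c, hc⟩ := IsLocalizedModule.exists_of_eq (S := V) hxy
    exact (hV c.1 c.2).1 hc
  · intro z
    obtain ⟨⟨x, c⟩, hx⟩ := IsLocalizedModule.surj V g z
    obtain ⟨x', hx'⟩ := (hV c.1 c.2).2 x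
    refine ⟨x', ?_⟩
    have h1 : c • g x' = c • z := by
      rw [hx, ← hx']
      exact (map_smul g c.1 x').symm
    exact IsLocalizedModule.smul_injective g c h1

end Generic

section U

variable {R : Type u} [CommRing R] {B : Type u} [CommRing B] [Algebra R B]
  {M : Type u} [AddCommGroup M] [Module R M] [Module B M] [IsScalarTower R B M]
  (A : Type u) [CommRing A] [Algebra R A]

/-- If every element of `A` is a fraction of elements of `R`, every element of `A ⊗[R] B` is, up
to a unit coming from `R`, of the form `1 ⊗ b`. -/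
theorem exists_mul_eq_one_tmul
    (hA : ∀ a : A, ∃ r s : R, IsUnit (algebraMap R A s) ∧ a * algebraMap R A s = algebraMap R A r)
    (t : A ⊗[R] B) :
    ∃ (s : R) (b : B), IsUnit (algebraMap R A s) ∧
      (algebraMap R A s ⊗ₜ[R] (1 : B)) * t = (1 : A) ⊗ₜ[R] b := by
  induction t with
  | zero => exact ⟨1, 0, by rw [map_one]; exact isUnit_one, by rw [mul_zero, tmul_zero]⟩
  | tmul a b =>
    obtain ⟨r, s, hs, e⟩ := hA a
    refine ⟨s, r • b, hs, ?_⟩
    rw [Algebra.TensorProduct.tmul_mul_tmul, one_mul, mul_comm, e, Algebra.algebraMap_eq_smul_one,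
      TensorProduct.smul_tmul]
  | add t₁ t₂ h₁ h₂ =>
    obtain ⟨s₁, b₁, hs₁, e₁⟩ := h₁
    obtain ⟨s₂, b₂, hs₂, e₂⟩ := h₂
    refine ⟨s₁ * s₂, s₂ • b₁ + s₁ • b₂, by rw [map_mul]; exact hs₁.mul hs₂, ?_⟩
    have h3 : (algebraMap R A (s₁ * s₂) ⊗ₜ[R] (1 : B)) =
        (algebraMap R A s₂ ⊗ₜ[R] (1 : B)) * (algebraMap R A s₁ ⊗ₜ[R] (1 : B)) := by
      rw [Algebra.TensorProduct.tmul_mul_tmul, mul_one, map_mul, mul_comm]
    have h4 : (algebraMap R A (s₁ * s₂) ⊗ₜ[R] (1 : B)) =
        (algebraMap R A s₁ ⊗ₜ[R] (1 : B)) * (algebraMap R A s₂ ⊗ₜ[R] (1 : B)) := by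
      rw [Algebra.TensorProduct.tmul_mul_tmul, mul_one, map_mul]
    have h5 : ∀ (s : R) (b : B), (algebraMap R A s ⊗ₜ[R] (1 : B)) * ((1 : A) ⊗ₜ[R] b) =
        (1 : A) ⊗ₜ[R] (s • b) := by
      intro s b
      rw [Algebra.TensorProduct.tmul_mul_tmul, mul_one, one_mul, Algebra.algebraMap_eq_smul_one,
        TensorProduct.smul_tmul]
    rw [mul_add]
    nth_rewrite 1 [h3]
    rw [h4, mul_assoc, mul_assoc, e₁, e₂, h5, h5, tmul_add]

variable (p : Ideal B) [p.IsPrime]

set_option synthInstance.maxHeartbeats 400000 in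
/-- If every element of `A` is a fraction of elements of `R` and `P` is a prime of `A ⊗[R] B` over
`p`, the elements outside `P` act bijectively on `A ⊗[R] M_p`. -/
theorem bijective_smul_of_notMem
    (hA : ∀ a : A, ∃ r s : R, IsUnit (algebraMap R A s) ∧ a * algebraMap R A s = algebraMap R A r)
    (P : Ideal (A ⊗[R] B)) [P.IsPrime]
    (hP : P.comap (Algebra.TensorProduct.includeRight : B →ₐ[R] A ⊗[R] B) = p)
    (t : A ⊗[R] B) (ht : t ∉ P) :
    Bijective fun x : A ⊗[R] LocalizedModule p.primeCompl M => t • x := by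
  obtain ⟨s, b, hs, e⟩ := exists_mul_eq_one_tmul A hA t
  have hunit : IsUnit (algebraMap R A s ⊗ₜ[R] (1 : B) : A ⊗[R] B) := by
    have : (algebraMap R A s ⊗ₜ[R] (1 : B) : A ⊗[R] B) =
        algebraMap A (A ⊗[R] B) (algebraMap R A s) := by
      rw [Algebra.TensorProduct.algebraMap_apply, Algebra.algebraMap_self_apply]
    rw [this]
    exact hs.map _
  have hb : b ∉ p := by
    intro hb
    rw [← hP, Ideal.mem_comap, Algebra.TensorProduct.includeRight_apply, ← e] at hb
    rcases Ideal.IsPrime.mem_or_mem inferInstance hb with h | h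
    · exact (Ideal.IsPrime.ne_top inferInstance) (Ideal.eq_top_of_isUnit_mem _ h hunit)
    · exact ht h
  have h1 : Bijective fun x : A ⊗[R] LocalizedModule p.primeCompl M =>
      ((1 : A) ⊗ₜ[R] b : A ⊗[R] B) • x := by
    have h := IsLocalizedModule.map_units
      (stageMap R A (LocalizedModule.mkLinearMap p.primeCompl M))
      (S := stageSubmonoid R A p.primeCompl)
      ⟨(1 : A) ⊗ₜ[R] b, (mem_stageSubmonoid R A p.primeCompl).mpr ⟨b, hb, rfl⟩⟩
    rw [Module.End.isUnit_iff] at h
    exact h
  obtain ⟨v, hv⟩ := hunit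
  have h2 : Bijective fun x : A ⊗[R] LocalizedModule p.primeCompl M =>
      ((↑v⁻¹ : A ⊗[R] B)) • x := by
    rw [Function.bijective_iff_has_inverse]
    refine ⟨fun x => (v : A ⊗[R] B) • x, fun x => ?_, fun x => ?_⟩
    · change (v : A ⊗[R] B) • (↑v⁻¹ : A ⊗[R] B) • x = x
      rw [← mul_smul, Units.mul_inv, one_smul]
    · change (↑v⁻¹ : A ⊗[R] B) • (v : A ⊗[R] B) • x = x
      rw [← mul_smul, Units.inv_mul, one_smul]
  have h3 : t = (↑v⁻¹ : A ⊗[R] B) * ((1 : A) ⊗ₜ[R] b) := by
    rw [← e, ← hv, ← mul_assoc, Units.inv_mul, one_mul]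
  have h4 : (fun x : A ⊗[R] LocalizedModule p.primeCompl M => t • x) =
      (fun x => (↑v⁻¹ : A ⊗[R] B) • x) ∘ (fun x => ((1 : A) ⊗ₜ[R] b : A ⊗[R] B) • x) := by
    funext x
    rw [h3, mul_smul]
    rfl
  rw [h4]
  exact h2.comp h1

set_option synthInstance.maxHeartbeats 400000 in
/-- If every element of `A` is a fraction of elements of `R` and `P` is a prime of `A ⊗[R] B` over
`p`, then `A ⊗ M_p` is flat over `A` as soon as `(A ⊗ M)_P` is. -/
theorem flat_tensor_localized_of_flat_localized_tensor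
    (hA : ∀ a : A, ∃ r s : R, IsUnit (algebraMap R A s) ∧ a * algebraMap R A s = algebraMap R A r)
    (P : Ideal (A ⊗[R] B)) [P.IsPrime]
    (hP : P.comap (Algebra.TensorProduct.includeRight : B →ₐ[R] A ⊗[R] B) = p)
    (h : Module.Flat A (LocalizedModule P.primeCompl (A ⊗[R] M))) :
    Module.Flat A (A ⊗[R] LocalizedModule p.primeCompl M) := by
  have hWV : stageSubmonoid R A p.primeCompl ≤ P.primeCompl := by
    intro x hx
    obtain ⟨w, hw, rfl⟩ := (mem_stageSubmonoid R A _).mp hx
    intro hmem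
    have hwp : w ∉ p := hw
    apply hwp
    rw [← hP]
    exact Ideal.mem_comap.mpr hmem
  have hbij := bijective_of_isLocalizedModule P.primeCompl
    (lamOf R A p.primeCompl (LocalizedModule.mkLinearMap p.primeCompl M) P.primeCompl hWV)
    (fun c hc => bijective_smul_of_notMem (M := M) A p hA P hP c hc)
  let e : (A ⊗[R] LocalizedModule p.primeCompl M) ≃ₗ[A ⊗[R] B]
      LocalizedModule P.primeCompl (A ⊗[R] M) :=
    LinearEquiv.ofBijective _ hbij
  exact Module.Flat.of_linearEquiv (e.restrictScalars A)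

end U

section T

variable {R : Type u} [CommRing R] {B : Type u} [CommRing B] [Algebra R B]
  {M : Type u} [AddCommGroup M] [Module R M] [Module B M] [IsScalarTower R B M]
  (p : Ideal B) [p.IsPrime]
  (A : Type u) [CommRing A] [Algebra R A]
  (A' : Type u) [CommRing A'] [IsLocalRing A'] [Algebra R A'] [Algebra A A'] [IsScalarTower R A A']

set_option synthInstance.maxHeartbeats 400000 in
/-- The pointwise hypothesis `HypAt` passes from the base `R` to a stage `A`. -/
theorem hypAt_stage (P : Ideal (A ⊗[R] B)) [P.IsPrime]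
    (hP : P.comap (Algebra.TensorProduct.includeRight : B →ₐ[R] A ⊗[R] B) = p)
    (H : HypAt R M p A') : HypAt A (A ⊗[R] M) P A' := by
  intro Q _ hQP hQm
  let eS := Algebra.TensorProduct.cancelBaseChange R A A' A' B
  let eM := AlgebraTensorModule.cancelBaseChange R A A' A' M
  haveI : (Q.comap eS.symm.toRingEquiv).IsPrime := Ideal.comap_isPrime _ Q
  have h1 : (Q.comap eS.symm.toRingEquiv).comap
      (Algebra.TensorProduct.includeRight : B →ₐ[R] A' ⊗[R] B) = p := by
    rw [← hP, ← hQP]
    ext b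
    rw [Ideal.mem_comap, Ideal.mem_comap, Ideal.mem_comap, Ideal.mem_comap,
      Algebra.TensorProduct.includeRight_apply, Algebra.TensorProduct.includeRight_apply,
      Algebra.TensorProduct.includeRight_apply]
    have : eS.symm ((1 : A') ⊗ₜ[R] b) = (1 : A') ⊗ₜ[A] ((1 : A) ⊗ₜ[R] b) := by
      rw [AlgEquiv.symm_apply_eq]
      change _ = Algebra.TensorProduct.cancelBaseChange R A A' A' B _
      rw [Algebra.TensorProduct.cancelBaseChange_tmul, one_smul]
    change eS.symm ((1 : A') ⊗ₜ[R] b) ∈ Q ↔ _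
    rw [this]
  have h2 : (Q.comap eS.symm.toRingEquiv).comap (algebraMap A' (A' ⊗[R] B)) =
      maximalIdeal A' := by
    rw [← hQm]
    ext a
    rw [Ideal.mem_comap, Ideal.mem_comap, Ideal.mem_comap]
    change eS.symm (algebraMap A' (A' ⊗[R] B) a) ∈ Q ↔ _
    rw [eS.symm.commutes]
  have h3 := H (Q.comap eS.symm.toRingEquiv) h1 h2
  refine Groth.Agent.Lib.FlatLimOpenBC88.flat_localizedModule_of_semilinearEquiv
    eS.symm.toRingEquiv eM.symm (fun c x => ?_) Q h3
  apply eM.injective
  change eM (eM.symm (c • x)) = eM (eS.symm c • eM.symm x)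
  rw [cancelBaseChange_smul', LinearEquiv.apply_symm_apply, LinearEquiv.apply_symm_apply]
  change c • x = eS (eS.symm c) • x
  rw [AlgEquiv.apply_symm_apply]

end T

end Groth.Agent.Lib.AdicFamA64
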