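import Groth.Agent.Lib.CritFibB88

set_option autoImplicit false
set_option maxHeartbeats 400000
set_option linter.style.haveILetI false
set_option linter.unusedSectionVars false

open TensorProduct Function
open Groth.Agent.Lib.FlatLimStage88 Groth.Agent.Lib.FlatLimGlobal88 Groth.Agent.Lib.CritFibA88
  Groth.Agent.Lib.CritFibB88
open scoped Groth.Agent.Lib.FlatLimStage88 Groth.Agent.Lib.CritFibB88

/-!
# The fibrewise criterion of flatness in explicit stage form (helper88)

`flat_of_fibre_explicit`: for a tower `k → B₀ → C₀`, a `C₀`-module `M₀`, a local `k`-algebra `R`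
and a Noetherian stage `A → R` at which the stage module is `A`-flat at the contraction of `Q`:
if the closed fibre of `(R ⊗ M₀)_Q` is flat over the closed fibre of `R ⊗ B₀`, then `(R ⊗ M₀)_Q` is
flat over `R ⊗ B₀`.
-/

universe u

namespace Groth.Agent.Lib.CritFibC88

/-- A field is flat over a domain mapping injectively into it. -/
theorem flat_of_injective_of_field {D K : Type*} [CommRing D] [IsDomain D] [Field K] [Algebra D K]
    (hinj : Injective (algebraMap D K)) : Module.Flat D K := by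
  letI : Algebra (FractionRing D) K := (IsFractionRing.lift hinj).toAlgebra
  haveI : IsScalarTower D (FractionRing D) K :=
    IsScalarTower.of_algebraMap_eq (fun x => (IsFractionRing.lift_algebraMap hinj x).symm)
  haveI : Module.Flat D (FractionRing D) := IsLocalization.flat _ (nonZeroDivisors D)
  exact Module.Flat.trans D (FractionRing D) K

section Functoriality

variable {k : Type u} [CommRing k] (S₀ : Type u) [CommRing S₀] [Algebra k S₀]
  (X Y Z : Type u) [CommRing X] [CommRing Y] [CommRing Z] [Algebra k X] [Algebra k Y] [Algebra k Z]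
  [Algebra X Y] [Algebra Y Z] [Algebra X Z] [IsScalarTower k X Y] [IsScalarTower k Y Z]
  [IsScalarTower k X Z] [IsScalarTower X Y Z]

theorem sMap_comp (x : X ⊗[k] S₀) :
    sMap (IsScalarTower.toAlgHom k Y Z) S₀ (sMap (IsScalarTower.toAlgHom k X Y) S₀ x) =
      sMap (IsScalarTower.toAlgHom k X Z) S₀ x := by
  induction x with
  | zero => simp
  | add x y hx hy => simp only [map_add, hx, hy]
  | tmul a s =>
    simp only [sMap_tmul, IsScalarTower.coe_toAlgHom', ← IsScalarTower.algebraMap_apply]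

end Functoriality

section Core

variable {k B₀ C₀ M₀ : Type u} [CommRing k] [CommRing B₀] [CommRing C₀]
  [Algebra k B₀] [Algebra B₀ C₀] [Algebra k C₀] [IsScalarTower k B₀ C₀]
  [AddCommGroup M₀] [Module C₀ M₀] [Module B₀ M₀] [Module k M₀]
  [IsScalarTower B₀ C₀ M₀] [IsScalarTower k C₀ M₀] [IsScalarTower k B₀ M₀]
  (R : Type u) [CommRing R] [Algebra k R] [IsLocalRing R]
  (A : Type u) [CommRing A] [Algebra k A] [Algebra A R] [IsScalarTower k A R]

set_option synthInstance.maxHeartbeats 400000 in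
/-- **Fibrewise criterion, explicit stage form.** `R` local, `A → R` a Noetherian stage at which
the stage module is flat over `A` at the contraction of `Q`. If the fibre of `M_Q` over the closed
point of `R` is flat over the fibre of `B`, then `M_Q` is flat over `B = R ⊗ B₀`. -/
theorem flat_of_fibre_explicit [IsNoetherianRing (A ⊗[k] B₀)] [IsNoetherianRing (A ⊗[k] C₀)]
    [Module.Finite (A ⊗[k] C₀) (A ⊗[k] M₀)]
    (Q : Ideal (R ⊗[k] C₀)) [Q.IsPrime]
    (hQ : (IsLocalRing.maximalIdeal R).map (algebraMap R (R ⊗[k] C₀)) ≤ Q)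
    (h1 : Module.Flat A (LocalizedModule
      (Q.comap (sMap (IsScalarTower.toAlgHom k A R) C₀)).primeCompl (A ⊗[k] M₀)))
    (h2 : Module.Flat ((R ⊗[k] B₀) ⧸ (IsLocalRing.maximalIdeal R).map (algebraMap R (R ⊗[k] B₀)))
      (((R ⊗[k] B₀) ⧸ (IsLocalRing.maximalIdeal R).map (algebraMap R (R ⊗[k] B₀)))
        ⊗[R ⊗[k] B₀] LocalizedModule Q.primeCompl (R ⊗[k] M₀))) :
    Module.Flat (R ⊗[k] B₀) (LocalizedModule Q.primeCompl (R ⊗[k] M₀)) := by
  classical
  set m := IsLocalRing.maximalIdeal R with hm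
  set p' : Ideal A := m.comap (algebraMap A R) with hp'
  -- the primes
  have hsκ : Surjective (algebraMap R (R ⧸ m)) := Ideal.Quotient.mk_surjective
  have hkerκ : RingHom.ker (algebraMap R (R ⧸ m)) = m := Ideal.mk_ker
  have hsD : Surjective (algebraMap A (A ⧸ p')) := Ideal.Quotient.mk_surjective
  have hkerD : RingHom.ker (algebraMap A (A ⧸ p')) = p' := Ideal.mk_ker
  let σ : R ⊗[k] C₀ →ₐ[k] (R ⧸ m) ⊗[k] C₀ := sMap (IsScalarTower.toAlgHom k R (R ⧸ m)) C₀
  have hσsurj : Surjective σ := by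
    intro y
    induction y with
    | zero => exact ⟨0, map_zero _⟩
    | add y₁ y₂ h₁ h₂ =>
      obtain ⟨x₁, rfl⟩ := h₁
      obtain ⟨x₂, rfl⟩ := h₂
      exact ⟨x₁ + x₂, map_add _ _ _⟩
    | tmul a c =>
      obtain ⟨r, rfl⟩ := hsκ a
      exact ⟨r ⊗ₜ c, rfl⟩
  have hkerσ : RingHom.ker σ ≤ Q := by
    letI aC := algXY k R (R ⧸ m) C₀
    haveI tXC : IsScalarTower R (R ⊗[k] C₀) ((R ⧸ m) ⊗[k] C₀) :=
      Groth.Agent.Lib.StageAbs88.isScalarTower_stage
        (AlgEquiv.refl : (R ⧸ m) ⊗[k] C₀ ≃ₐ[R ⧸ m] (R ⧸ m) ⊗[k] C₀) R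
    haveI pC : Algebra.IsPushout R (R ⧸ m) (R ⊗[k] C₀) ((R ⧸ m) ⊗[k] C₀) :=
      Groth.Agent.Lib.StageAbs88.isPushout_stage
        (AlgEquiv.refl : (R ⧸ m) ⊗[k] C₀ ≃ₐ[R ⧸ m] (R ⧸ m) ⊗[k] C₀) R
    have h := Groth.Agent.Lib.DeformRing88.ker_eq_map_of_isPushout (R' := R) (R := R ⧸ m)
      (B' := R ⊗[k] C₀) (B := (R ⧸ m) ⊗[k] C₀) hsκ
    rw [hkerκ] at h
    have h' : RingHom.ker σ = m.map (algebraMap R (R ⊗[k] C₀)) := h
    rw [h']
    exact hQ
  set Qκ : Ideal ((R ⧸ m) ⊗[k] C₀) := Q.map σ with hQκ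
  haveI hQκp : Qκ.IsPrime := Ideal.map_isPrime_of_surjective hσsurj hkerσ
  have hQκc : Qκ.comap σ = Q := by
    rw [hQκ, Ideal.comap_map_of_surjective' σ hσsurj, sup_eq_left]
    exact hkerσ
  set QA : Ideal (A ⊗[k] C₀) := Q.comap (sMap (IsScalarTower.toAlgHom k A R) C₀) with hQA
  set QD : Ideal ((A ⧸ p') ⊗[k] C₀) :=
    Qκ.comap (sMap (IsScalarTower.toAlgHom k (A ⧸ p') (R ⧸ m)) C₀) with hQD
  have hQDA : QD.comap (sMap (IsScalarTower.toAlgHom k A (A ⧸ p')) C₀) = QA := by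
    rw [hQD, hQA, ← hQκc]
    ext x
    simp only [Ideal.mem_comap]
    rw [sMap_comp C₀ A (A ⧸ p') (R ⧸ m), ← sMap_comp C₀ A R (R ⧸ m)]
  -- step 1: the top fibre
  have s1 : Module.Flat ((R ⧸ m) ⊗[k] B₀) (LocalizedModule Qκ.primeCompl ((R ⧸ m) ⊗[k] M₀)) := by
    refine (quot_stage k B₀ C₀ M₀ R (R ⧸ m) hsκ Qκ Q hQκc).mpr ?_
    rw [hkerκ]
    exact h2
  -- step 2: descent along the residue field extension
  letI : Field (R ⧸ m) := Ideal.Quotient.field m
  haveI : IsDomain (A ⧸ p') := Ideal.Quotient.isDomain p'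
  haveI : Module.Flat (A ⧸ p') (R ⧸ m) := by
    apply flat_of_injective_of_field
    rw [injective_iff_map_eq_zero]
    intro x hx
    obtain ⟨a, rfl⟩ := Ideal.Quotient.mk_surjective x
    rw [Ideal.Quotient.eq_zero_iff_mem]
    have : algebraMap (A ⧸ p') (R ⧸ m) (Ideal.Quotient.mk p' a) =
        Ideal.Quotient.mk m (algebraMap A R a) := rfl
    rw [this, Ideal.Quotient.eq_zero_iff_mem] at hx
    exact hx
  have s2 : Module.Flat ((A ⧸ p') ⊗[k] B₀) (LocalizedModule QD.primeCompl ((A ⧸ p') ⊗[k] M₀)) :=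
    desc_stage k B₀ C₀ M₀ (A ⧸ p') (R ⧸ m) Qκ QD rfl s1
  -- step 3: the fibre of the stage
  have s3 := (quot_stage k B₀ C₀ M₀ A (A ⧸ p') hsD QD QA hQDA).mp s2
  rw [hkerD] at s3
  -- step 4: the Noetherian criterion at the stage
  have hpQA : p'.map (algebraMap A (A ⊗[k] C₀)) ≤ QA := by
    rw [Ideal.map_le_iff_le_comap]
    intro a ha
    rw [Ideal.mem_comap, hQA, Ideal.mem_comap]
    apply hQ
    have : sMap (IsScalarTower.toAlgHom k A R) C₀ (algebraMap A (A ⊗[k] C₀) a) =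
        algebraMap R (R ⊗[k] C₀) (algebraMap A R a) := by
      rw [Algebra.TensorProduct.algebraMap_apply, Algebra.TensorProduct.algebraMap_apply, sMap_tmul]
      simp
    rw [this]
    exact Ideal.mem_map_of_mem _ ha
  have s4 := noeth_stage k B₀ C₀ M₀ A QA p' hpQA h1 s3
  -- step 5: ascent
  exact asc_stage k B₀ C₀ M₀ A R Q QA rfl s4

end Core

end Groth.Agent.Lib.CritFibC88
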