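import Groth.Agent.Lib.FreeModStalk
import Mathlib.Algebra.Category.ModuleCat.Sheaf.LocallyFree

/-!
# Local freeness criterion

A retract of `O_X^n` whose stalk at `x` has a basis given by germs of global sections is free in a
neighbourhood of `x`; consequences.
-/

set_option autoImplicit false
universe u

open CategoryTheory CategoryTheory.Limits AlgebraicGeometry TopologicalSpace Opposite

namespace Groth.Agent.Lib.LocFreeCrit

open Groth.Agent.Lib.ModStalk Groth.Agent.Lib.ModStalkLin Groth.Agent.Lib.FreeModSch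
  Groth.Agent.Lib.FreeModStalk Groth.Agent.Lib.FinLocFree Groth.Agent.Lib.PerfectLocal

variable {X : Scheme.{u}}

section Lift

/-- Sections lift locally near `x` along a morphism which is surjective on the stalk at `x`. -/
theorem exists_lift_section' {G F : X.Modules} (p : G ⟶ F) (x : X)
    (hp : Function.Surjective (stalkLin p x)) (U : X.Opens) (s : Γ(F, U)) (hx : x ∈ U) :
    ∃ (V : X.Opens) (hVU : V ≤ U) (_ : x ∈ V) (t : Γ(G, V)),
      p.app V t = F.presheaf.map (homOfLE hVU).op s := by
  obtain ⟨g, hg⟩ := hp (F.presheaf.germ U x hx s)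
  obtain ⟨W, hxW, t0, rfl⟩ := TopCat.Presheaf.exists_germ_eq G.presheaf g
  rw [stalkLin_germ] at hg
  obtain ⟨V, hxV, iW, iU, hV⟩ := TopCat.Presheaf.germ_eq F.presheaf x hxW hx _ _ hg
  refine ⟨V, iU.le, hxV, G.presheaf.map iW.op t0, ?_⟩
  have hnat := congr($(p.mapPresheaf.naturality iW.op) t0)
  simp only [ConcreteCategory.comp_apply] at hnat
  change p.mapPresheaf.app (op V) (G.presheaf.map iW.op t0) = _
  rw [hnat]
  exact hV

/-- Finitely many sections lift simultaneously on a neighbourhood. -/
theorem exists_lift_sections' {G F : X.Modules} (p : G ⟶ F) (x : X)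
    (hp : Function.Surjective (stalkLin p x)) {n : ℕ} (s : Fin n → Γ(F, ⊤)) :
    ∃ (V : X.Opens) (_ : x ∈ V) (t : Fin n → Γ(G, V)),
      ∀ i, p.app V (t i) = F.presheaf.map (homOfLE (le_top : V ≤ ⊤)).op (s i) := by
  choose W hW hxW t ht using fun i => exists_lift_section' p x hp ⊤ (s i) trivial
  refine ⟨⨅ i, W i, ?_, fun i => G.presheaf.map (homOfLE (iInf_le W i)).op (t i), fun i => ?_⟩
  · rw [← SetLike.mem_coe, Opens.coe_iInf]
    exact Set.mem_iInter.mpr hxW
  · have hnat := congr($(p.mapPresheaf.naturality (homOfLE (iInf_le W i)).op) (t i))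
    simp only [ConcreteCategory.comp_apply] at hnat
    change p.mapPresheaf.app (op (⨅ i, W i)) (G.presheaf.map (homOfLE (iInf_le W i)).op (t i)) = _
    rw [hnat]
    change F.presheaf.map _ (p.app (W i) (t i)) = _
    rw [ht i, ← ConcreteCategory.comp_apply, ← Functor.map_comp]
    rfl

/-- A map from a free module of finite rank lifts, near `x`, along a morphism which is surjective on
the stalk at `x`. -/
theorem exists_lift_freeMod_of_le' {G F : X.Modules} (p : G ⟶ F) (x : X)
    (hp : Function.Surjective (stalkLin p x)) {n : ℕ} (φ : FlatMod.freeMod X n ⟶ F) :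
    ∃ (V : X.Opens), x ∈ V ∧ ∀ {W : Scheme.{u}} (j : W ⟶ X) [IsOpenImmersion j],
      j.opensRange ≤ V → ∃ ψ : (FlatMod.freeMod X n).restrict j ⟶ G.restrict j,
        ψ ≫ (Scheme.Modules.restrictFunctor j).map p =
          (Scheme.Modules.restrictFunctor j).map φ := by
  obtain ⟨V, hxV, t, ht⟩ := exists_lift_sections' p x hp
    (fun i => toSection (Sigma.ι (fun _ : Fin n => Coh.structureModule X) i ≫ φ))
  refine ⟨V, hxV, fun {W} j _ hj => ?_⟩
  have hle : j ''ᵁ (j ⁻¹ᵁ ⊤) ≤ V := by
    rw [Scheme.Hom.image_preimage_eq_opensRange_inf]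
    exact inf_le_left.trans hj
  let adj := Scheme.Modules.restrictAdjunction j
  let N := (Scheme.Modules.pushforward j).obj (G.restrict j)
  let t' : Fin n → Γ(N, ⊤) := fun i => G.presheaf.map (homOfLE hle).op (t i)
  refine ⟨(adj.homEquiv _ _).symm (ofSections N t'), ?_⟩
  apply (adj.homEquiv _ _).injective
  rw [Adjunction.homEquiv_naturality_right, Equiv.apply_symm_apply, Adjunction.homEquiv_unit,
    adj.unit_naturality]
  apply freeMod_hom_ext
  intro i
  rw [← Category.assoc, ι_ofSections, toSection_comp, toSection_ofSection, ← Category.assoc,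
    toSection_comp]
  change p.mapPresheaf.app (op (j ''ᵁ (j ⁻¹ᵁ ⊤))) (G.presheaf.map (homOfLE hle).op (t i)) =
    F.presheaf.map (homOfLE (j.image_preimage_le ⊤)).op
      (toSection (Sigma.ι (fun _ : Fin n => Coh.structureModule X) i ≫ φ))
  have hnat := congr($(p.mapPresheaf.naturality (homOfLE hle).op) (t i))
  simp only [ConcreteCategory.comp_apply] at hnat
  rw [hnat]
  change F.presheaf.map _ (p.app V (t i)) = _
  rw [ht i, ← ConcreteCategory.comp_apply, ← Functor.map_comp]
  rfl

end Lift


section LocFreeAt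

/-- `M` is free of rank `n` near `x`, in the flexible form: after restriction along any open
immersion landing in a fixed neighbourhood of `x`. -/
def LocFreeAt (M : X.Modules) (x : X) (n : ℕ) : Prop :=
  ∃ V : X.Opens, x ∈ V ∧ ∀ {W : Scheme.{u}} (j : W ⟶ X) [IsOpenImmersion j],
    j.opensRange ≤ V → Nonempty (M.restrict j ≅ FlatMod.freeMod W n)

theorem LocFreeAt.exists_restrict_iso {M : X.Modules} {x : X} {n : ℕ} (h : LocFreeAt M x n) :
    ∃ U : X.Opens, x ∈ U ∧ Nonempty (M.restrict U.ι ≅ FlatMod.freeMod U n) := by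
  obtain ⟨V, hxV, hV⟩ := h
  exact ⟨V, hxV, hV V.ι (by rw [Scheme.Opens.opensRange_ι])⟩

theorem locFreeAt_of_restrict_iso {M : X.Modules} {x : X} {n : ℕ} (U : X.Opens) (hxU : x ∈ U)
    (e : M.restrict U.ι ≅ FlatMod.freeMod U n) : LocFreeAt M x n := by
  refine ⟨U, hxU, fun {W} j _ hj => ?_⟩
  obtain ⟨j', _, hj'⟩ := exists_factor_ι j U hj
  exact ⟨((restrictFactorIso j' U.ι j hj').app M).symm ≪≫
    (Scheme.Modules.restrictFunctor j').mapIso e ≪≫ restrictFreeModIso j' n⟩

theorem locFreeAt_of_iso {M : X.Modules} (x : X) {n : ℕ} (e : M ≅ FlatMod.freeMod X n) :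
    LocFreeAt M x n :=
  ⟨⊤, trivial, fun j _ _ =>
    ⟨(Scheme.Modules.restrictFunctor j).mapIso e ≪≫ restrictFreeModIso j n⟩⟩

/-- Transitivity: local freeness of a restriction gives local freeness. -/
theorem LocFreeAt.of_restrict {M : X.Modules} {x : X} {n : ℕ} (U : X.Opens) (hxU : x ∈ U)
    (h : LocFreeAt (M.restrict U.ι) ⟨x, hxU⟩ n) : LocFreeAt M x n := by
  obtain ⟨V, hxV, hV⟩ := h
  refine ⟨U.ι ''ᵁ V, ⟨⟨x, hxU⟩, hxV, rfl⟩, fun {W} j _ hj => ?_⟩
  obtain ⟨j', _, hj'⟩ := exists_factor_ι j U (hj.trans (U.ι_image_le V))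
  have hle : j'.opensRange ≤ V := by
    rw [← Scheme.Hom.image_le_image_iff U.ι, ← Scheme.Hom.opensRange_comp]
    simpa only [hj'] using hj
  obtain ⟨e⟩ := hV j' hle
  exact ⟨((restrictFactorIso j' U.ι j hj').app M).symm ≪≫ e⟩

theorem isFinLocFree_of_forall_locFreeAt {M : X.Modules}
    (h : ∀ x : X, ∃ n, LocFreeAt M x n) : FlatMod.IsFinLocFree M := by
  intro x
  obtain ⟨n, hn⟩ := h x
  obtain ⟨U, hxU, hU⟩ := hn.exists_restrict_iso
  exact ⟨U, n, hxU, hU⟩

end LocFreeAt


section Zero

/-- Mathlib's free module on `ULift (Fin n)`, as an object of `X.Modules`. -/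
noncomputable abbrev freeU (X : Scheme.{u}) (n : ℕ) : X.Modules :=
  SheafOfModules.free (R := X.ringCatSheaf) (ULift.{u} (Fin n))

/-- Mathlib's free module on `ULift (Fin n)` is the prelude's `freeMod`. -/
noncomputable def freeIsoFreeMod (X : Scheme.{u}) (n : ℕ) : freeU X n ≅ FlatMod.freeMod X n :=
  Sigma.reindex (Equiv.ulift.{u} (α := Fin n)) (fun _ : Fin n => Coh.structureModule X)

/-- Finitely many generating sections of a quotient of `O_X^n`. -/
noncomputable def generatingSectionsOfEpi {K : X.Modules} {n : ℕ} (p : FlatMod.freeMod X n ⟶ K)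
    [Epi p] : SheafOfModules.GeneratingSections (R := X.ringCatSheaf) K :=
  have h : Epi ((freeIsoFreeMod X n).hom ≫ p) := epi_comp _ _
  @SheafOfModules.GeneratingSections.ofEpi _ _ _ _ _ _ _ _
    (SheafOfModules.free.generatingSections (R := X.ringCatSheaf) (ULift.{u} (Fin n)))
    ((freeIsoFreeMod X n).hom ≫ p) h

theorem isFiniteType_generatingSectionsOfEpi {K : X.Modules} {n : ℕ}
    (p : FlatMod.freeMod X n ⟶ K) [Epi p] : (generatingSectionsOfEpi p).IsFiniteType := by
  constructor
  change Finite (ULift.{u} (Fin n))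
  infer_instance

/-- A quotient of `O_X^n` whose stalk at `x` vanishes restricts to zero on a neighbourhood of
`x`. -/
theorem exists_isZero_restrict_of_epi {K : X.Modules} {n : ℕ} (p : FlatMod.freeMod X n ⟶ K)
    [Epi p] (x : X) (hx : Subsingleton (K.presheaf.stalk x)) :
    ∃ V : X.Opens, x ∈ V ∧ IsZero (K.restrict V.ι) := by
  have := isFiniteType_generatingSectionsOfEpi p
  have hopen := isOpen_setOf_subsingleton_stalk K (generatingSectionsOfEpi p)
  refine ⟨⟨{y | Subsingleton (K.presheaf.stalk y)}, hopen⟩, hx, ?_⟩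
  apply ModPullback.isZero_of_forall_subsingleton_stalk
  intro y
  exact (subsingleton_stalk_restrict_iff K _ y).mpr y.2

end Zero


section Main

/-- A morphism is an isomorphism after a restriction which kills its kernel and cokernel. -/
theorem isIso_restrict_map {A B : X.Modules} (g : A ⟶ B) {W : Scheme.{u}} (j : W ⟶ X)
    [IsOpenImmersion j] (hk : IsZero ((kernel g).restrict j))
    (hc : IsZero ((cokernel g).restrict j)) :
    IsIso ((Scheme.Modules.restrictFunctor j).map g) := by
  have h1 : Mono ((Scheme.Modules.restrictFunctor j).map g) :=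
    Preadditive.mono_of_isZero_kernel _
      (IsZero.of_iso hk (PreservesKernel.iso (Scheme.Modules.restrictFunctor j) g).symm)
  have h2 : Epi ((Scheme.Modules.restrictFunctor j).map g) :=
    Preadditive.epi_of_isZero_cokernel _
      (IsZero.of_iso hc (PreservesCokernel.iso (Scheme.Modules.restrictFunctor j) g).symm)
  exact isIso_of_mono_of_epi _

theorem subsingleton_stalk_of_iso {A B : X.Modules} (e : A ≅ B) (y : X)
    (h : Subsingleton (A.presheaf.stalk y)) : Subsingleton (B.presheaf.stalk y) :=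
  (stalkLinEquiv e y).symm.injective.subsingleton

/-- The kernel of a morphism which is injective on the stalk at `x` has zero stalk at `x`. -/
theorem subsingleton_stalk_kernel {A B : X.Modules} (g : A ⟶ B) (x : X)
    (hg : Function.Injective (stalkLin g x)) : Subsingleton ((kernel g).presheaf.stalk x) := by
  refine ⟨fun a b => ?_⟩
  apply stalkLin_injective_of_mono (kernel.ι g) x
  apply hg
  have h0 : stalkLin (kernel.ι g ≫ g) x = 0 := by rw [kernel.condition, stalkLin_zero]
  rw [stalkLin_comp] at h0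
  have ha := LinearMap.congr_fun h0 a
  have hb := LinearMap.congr_fun h0 b
  simp only [LinearMap.comp_apply, LinearMap.zero_apply] at ha hb
  rw [ha, hb]

/-- **Local freeness criterion for retracts of free modules.** If `M` is a retract of `O_X^n`
and `t` are global sections of `M` such that `ofSections M t : O_X^k ⟶ M` is bijective on the
stalk at `x`, then `M` is free of rank `k` near `x`. -/
theorem locFreeAt_of_retract {M : X.Modules} {n k : ℕ} (i : M ⟶ FlatMod.freeMod X n)
    (r : FlatMod.freeMod X n ⟶ M) (hir : i ≫ r = 𝟙 M) (t : Fin k → Γ(M, ⊤)) (x : X)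
    (hbij : Function.Bijective (stalkLin (ofSections M t) x)) : LocFreeAt M x k := by
  obtain ⟨V, hxV, hV⟩ := exists_lift_freeMod_of_le' (ofSections M t) x hbij.2 r
  obtain ⟨ψ, hψ⟩ := hV V.ι (by rw [Scheme.Opens.opensRange_ι])
  let R := Scheme.Modules.restrictFunctor V.ι
  let g := R.map (ofSections M t)
  let σ : R.obj M ⟶ R.obj (FlatMod.freeMod X k) := R.map i ≫ ψ
  have hσ : σ ≫ g = 𝟙 _ := by
    change (R.map i ≫ ψ) ≫ R.map (ofSections M t) = 𝟙 _
    rw [Category.assoc, hψ, ← R.map_comp, hir, R.map_id]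
  let q : R.obj (FlatMod.freeMod X k) ⟶ kernel g := kernel.lift g (𝟙 _ - g ≫ σ) (by
    rw [Preadditive.sub_comp, Category.id_comp, Category.assoc, hσ, Category.comp_id, sub_self])
  have hq : kernel.ι g ≫ q = 𝟙 _ := by
    rw [← cancel_mono (kernel.ι g), Category.assoc, kernel.lift_ι, Preadditive.comp_sub,
      Category.comp_id, kernel.condition_assoc, zero_comp, sub_zero, Category.id_comp]
  have hqe : Epi q := (SplitEpi.mk _ hq).epi
  have hpe : Epi ((restrictFreeModIso V.ι k).inv ≫ q) := epi_comp _ _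
  have hK : Subsingleton ((kernel g).presheaf.stalk ⟨x, hxV⟩) := by
    apply subsingleton_stalk_of_iso (PreservesKernel.iso R (ofSections M t))
    rw [subsingleton_stalk_restrict_iff]
    exact subsingleton_stalk_kernel _ x hbij.1
  obtain ⟨V', hxV', hzero⟩ := exists_isZero_restrict_of_epi
    ((restrictFreeModIso V.ι k).inv ≫ q) ⟨x, hxV⟩ hK
  have hge : Epi g := (SplitEpi.mk σ hσ).epi
  have hc : IsZero ((cokernel g).restrict V'.ι) :=
    (Scheme.Modules.restrictFunctor V'.ι).map_isZero (isZero_cokernel_of_epi g)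
  have hiso := isIso_restrict_map g V'.ι hzero hc
  apply LocFreeAt.of_restrict V hxV
  exact locFreeAt_of_restrict_iso V' hxV'
    ((asIso ((Scheme.Modules.restrictFunctor V'.ι).map g)).symm ≪≫
      (Scheme.Modules.restrictFunctor V'.ι).mapIso (restrictFreeModIso V.ι k) ≪≫
      restrictFreeModIso V'.ι k)

end Main

end Groth.Agent.Lib.LocFreeCrit
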