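import Groth.Agent.Lib.H90OXModAffine
import Groth.Agent.Lib.LocFreeCrit

/-!
# Local finite presentations of finitely presented `O_X`-modules

* `presentationRestrictOfOver`: a presentation of `M.over V` gives one of `M.restrict V.ι`
  (the converse of helper90's `presentationOver`), preserving finiteness.
* `exists_finite_presentation_restrict`: a finitely presented module has, near every point, a
  finite global presentation of its restriction.
* `exists_maps_of_presentation`: a finite presentation, in terms of `FlatMod.freeMod`.
-/

set_option autoImplicit false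
universe u

open CategoryTheory CategoryTheory.Limits AlgebraicGeometry TopologicalSpace Opposite
open AlgebraicGeometry.Scheme AlgebraicGeometry.Scheme.Modules

namespace Groth.Agent.Lib.LocFreePres

variable {X : Scheme.{u}}

set_option backward.isDefEq.respectTransparency false in
/-- A presentation of `M.over V` gives a presentation of `M|_V`. -/
noncomputable def presentationRestrictOfOver (M : X.Modules) (V : X.Opens)
    (P : (SheafOfModules.over M V).Presentation) : (M.restrict V.ι).Presentation :=
  haveI : PreservesColimitsOfSize.{u, u} (overEquiv V).functor := inferInstance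
  (P.map (overEquiv V).functor
    (TopologicalSpace.Opens.sheafOfModulesEquivOverUnit V X.ringCatSheaf).symm).ofIsIso
      ((overFunctorEquiv V).app M).hom

set_option backward.isDefEq.respectTransparency false in
theorem isFinite_presentationRestrictOfOver (M : X.Modules) (V : X.Opens)
    (P : (SheafOfModules.over M V).Presentation) [P.IsFinite] :
    (presentationRestrictOfOver M V P).IsFinite := by
  haveI : PreservesColimitsOfSize.{u, u} (overEquiv V).functor := inferInstance
  haveI : (P.map (overEquiv V).functor
      (TopologicalSpace.Opens.sheafOfModulesEquivOverUnit V X.ringCatSheaf).symm).IsFinite :=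
    { isFiniteType_generators := ⟨inferInstanceAs (Finite P.generators.I)⟩
      isFiniteType_relations := ⟨inferInstanceAs (Finite P.relations.I)⟩ }
  unfold presentationRestrictOfOver
  infer_instance

/-- A finitely presented module has a finite global presentation near every point. -/
theorem exists_finite_presentation_restrict (M : X.Modules)
    (hM : SheafOfModules.IsFinitePresentation (R := X.ringCatSheaf) M) (x : X) :
    ∃ (W : X.Opens) (_ : x ∈ W) (P : (M.restrict W.ι).Presentation), P.IsFinite := by
  obtain ⟨σ, hσ⟩ := SheafOfModules.IsFinitePresentation.exists_quasicoherentData M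
  have hcov := (_root_.Opens.coversTop_iff _ σ.X).mp σ.coversTop
  have hx : x ∈ (⨆ i, σ.X i : X.Opens) := by rw [hcov]; trivial
  obtain ⟨i, hi⟩ := Opens.mem_iSup.mp hx
  exact ⟨σ.X i, hi, presentationRestrictOfOver M _ (σ.presentation i),
    isFinite_presentationRestrictOfOver M _ (σ.presentation i)⟩

/-- The free module on a finite type is a `freeMod`. -/
noncomputable def freeIsoFreeModOfEquiv {I : Type u} {m : ℕ} (e : I ≃ Fin m) :
    (SheafOfModules.free (R := X.ringCatSheaf) I : X.Modules) ≅ FlatMod.freeMod X m :=
  Sigma.reindex e (fun _ : Fin m => Coh.structureModule X)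

/-- A finite presentation of `N`, in terms of `FlatMod.freeMod`: an exact sequence
`O^p ⟶ O^m ⟶ N ⟶ 0`. -/
theorem exists_maps_of_presentation {N : X.Modules} (P : N.Presentation) [P.IsFinite] :
    ∃ (m p : ℕ) (π : FlatMod.freeMod X m ⟶ N) (_ : Epi π)
      (ρ : FlatMod.freeMod X p ⟶ FlatMod.freeMod X m) (hρπ : ρ ≫ π = 0),
      (ShortComplex.mk ρ π hρπ).Exact := by
  have hfg : Finite P.generators.I := inferInstance
  have hfr : Finite P.relations.I := inferInstance
  let im := freeIsoFreeModOfEquiv (X := X) (Finite.equivFin P.generators.I)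
  let ip := freeIsoFreeModOfEquiv (X := X) (Finite.equivFin P.relations.I)
  let π₀ : (SheafOfModules.free (R := X.ringCatSheaf) P.generators.I : X.Modules) ⟶ N :=
    P.generators.π
  let r₀ : (SheafOfModules.free (R := X.ringCatSheaf) P.relations.I : X.Modules) ⟶ kernel π₀ :=
    P.relations.π
  have hπ₀ : Epi π₀ := P.generators.epi
  have hr₀ : Epi r₀ := P.relations.epi
  have h₀ : (r₀ ≫ kernel.ι π₀) ≫ π₀ = 0 := by rw [Category.assoc, kernel.condition, comp_zero]
  have hex₀ : (ShortComplex.mk (r₀ ≫ kernel.ι π₀) π₀ h₀).Exact := by
    rw [ShortComplex.exact_iff_epi_kernel_lift]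
    have : kernel.lift π₀ (r₀ ≫ kernel.ι π₀) h₀ = r₀ := by
      rw [← cancel_mono (kernel.ι π₀), kernel.lift_ι]
    change Epi (kernel.lift π₀ (r₀ ≫ kernel.ι π₀) h₀)
    rw [this]
    exact hr₀
  have hπ : Epi (im.inv ≫ π₀) := epi_comp _ _
  have hρπ : (ip.inv ≫ (r₀ ≫ kernel.ι π₀) ≫ im.hom) ≫ (im.inv ≫ π₀) = 0 := by
    simp only [Category.assoc, Iso.hom_inv_id_assoc, kernel.condition, comp_zero]
  refine ⟨_, _, im.inv ≫ π₀, hπ, ip.inv ≫ (r₀ ≫ kernel.ι π₀) ≫ im.hom, hρπ, ?_⟩
  refine ShortComplex.exact_of_iso ?_ hex₀
  exact ShortComplex.isoMk ip im (Iso.refl _)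
    (ip.hom_inv_id_assoc _)
    ((im.hom_inv_id_assoc _).trans (Category.comp_id _).symm)

end Groth.Agent.Lib.LocFreePres
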