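import Groth.Agent.Lib.ModStalk
import Mathlib.Algebra.Category.ModuleCat.Sheaf.PullbackFree
import Mathlib.CategoryTheory.Filtered.Final

set_option autoImplicit false
universe u

open CategoryTheory CategoryTheory.Limits AlgebraicGeometry TopologicalSpace Opposite

namespace Groth.Agent.Lib.ModPullback

open Groth.Agent.Lib.ModStalk Scheme.Modules

variable {X Y X' : Scheme.{u}}

instance : (toSheafAb X).Faithful :=
  inferInstanceAs (SheafOfModules.toSheaf.{u} X.ringCatSheaf).Faithful

/-- An `O_X`-module all of whose stalks vanish is zero. -/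
theorem isZero_of_forall_subsingleton_stalk (N : X.Modules)
    (h : ∀ y, Subsingleton (N.presheaf.stalk y)) : IsZero N := by
  have h1 : IsZero ((toSheafAb X).obj N) := by
    rw [TopCat.Sheaf.isZero_iff_stalkFunctor_obj_isZero]
    intro x
    have := h x
    exact AddCommGrpCat.isZero_of_subsingleton (N.presheaf.stalk x)
  rw [IsZero.iff_id_eq_zero]
  apply (toSheafAb X).map_injective
  rw [CategoryTheory.Functor.map_id, Functor.map_zero]
  exact (IsZero.iff_id_eq_zero _).mp h1

instance final_opensMap (f : X ⟶ Y) : (Opens.map f.base).Final := by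
  apply Functor.final_of_exists_of_isFiltered
  · intro d
    exact ⟨⊤, ⟨homOfLE (fun _ _ => trivial)⟩⟩
  · intro d c s s'
    exact ⟨c, 𝟙 c, Subsingleton.elim _ _⟩


/-- Pullback of modules commutes with restriction to an open and its preimage. -/
noncomputable def restrictPullbackIso (g : X' ⟶ X) (W : X.Opens) (F : X.Modules) :
    ((Scheme.Modules.pullback g).obj F).restrict (g ⁻¹ᵁ W).ι ≅ (Scheme.Modules.pullback (g ∣_ W)).obj (F.restrict W.ι) :=
  (restrictFunctorIsoPullback (g ⁻¹ᵁ W).ι).app ((Scheme.Modules.pullback g).obj F) ≪≫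
    (pullbackComp (g ⁻¹ᵁ W).ι g).app F ≪≫
    (pullbackCongr (morphismRestrict_ι g W).symm).app F ≪≫
    ((pullbackComp (g ∣_ W) W.ι).app F).symm ≪≫
    (Scheme.Modules.pullback (g ∣_ W)).mapIso ((restrictFunctorIsoPullback W.ι).app F).symm


/-- A module with closed support restricts to zero on the complement of its support. -/
theorem isZero_restrict_compl_support (F : X.Modules) (hF : IsClosed (CohB1.support F)) :
    IsZero (F.restrict (Scheme.Opens.ι (⟨(CohB1.support F)ᶜ, hF.isOpen_compl⟩ : X.Opens))) := by
  apply isZero_of_forall_subsingleton_stalk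
  intro y
  rw [subsingleton_stalk_restrict_iff]
  exact not_not.mp y.2

/-- The support of a pullback is contained in the preimage of the support. -/
theorem support_pullback_subset (g : X' ⟶ X) (F : X.Modules) (hF : IsClosed (CohB1.support F)) :
    CohB1.support ((Scheme.Modules.pullback g).obj F) ⊆ g ⁻¹' CohB1.support F := by
  intro x' hx'
  by_contra hx
  let W : X.Opens := ⟨(CohB1.support F)ᶜ, hF.isOpen_compl⟩
  have h0 : IsZero (F.restrict W.ι) := isZero_restrict_compl_support F hF
  have h1 : IsZero ((Scheme.Modules.pullback (g ∣_ W)).obj (F.restrict W.ι)) :=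
    (Scheme.Modules.pullback (g ∣_ W)).map_isZero h0
  have h2 : IsZero (((Scheme.Modules.pullback g).obj F).restrict (g ⁻¹ᵁ W).ι) :=
    h1.of_iso (restrictPullbackIso g W F)
  exact hx' (subsingleton_stalk_of_isZero_restrict _ (g ⁻¹ᵁ W) h2 x' hx)


/-- A module which is locally generated by finitely many sections has closed support. -/
theorem isClosed_support_of_cover (M : X.Modules) {ι : Type*} (U : ι → X.Opens)
    (hU : IsOpenCover U) (gen : ∀ i, (M.restrict (U i).ι).GeneratingSections)
    (hfin : ∀ i, (gen i).IsFiniteType) : IsClosed (CohB1.support M) := by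
  rw [← isOpen_compl_iff, isOpen_iff_forall_mem_open]
  intro x hx
  have hx' : Subsingleton (M.presheaf.stalk x) := not_not.mp hx
  obtain ⟨i, hxi⟩ := hU.exists_mem x
  have := hfin i
  have hopen := isOpen_setOf_subsingleton_stalk (M.restrict (U i).ι) (gen i)
  refine ⟨(U i).ι '' {y | Subsingleton ((M.restrict (U i).ι).presheaf.stalk y)}, ?_,
    (U i).ι.isOpenEmbedding.isOpenMap _ hopen, ⟨⟨x, hxi⟩, ?_, rfl⟩⟩
  · rintro _ ⟨y, hy, rfl⟩
    have : Subsingleton (M.presheaf.stalk ((U i).ι y)) :=
      (subsingleton_stalk_restrict_iff M (U i) y).mp hy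
    exact not_not.mpr this
  · exact (subsingleton_stalk_restrict_iff M (U i) ⟨x, hxi⟩).mpr hx'

/-- The pullback of the structure sheaf is the structure sheaf. -/
noncomputable def pullbackUnitIso (g : X' ⟶ X) :
    unitMod X' ≅ (Scheme.Modules.pullback g).obj (unitMod X) :=
  (asIso (SheafOfModules.pullbackObjUnitToUnit g.toRingCatSheafHom)).symm

set_option backward.isDefEq.respectTransparency false in
/-- Generating sections pull back. -/
noncomputable def pullbackGeneratingSections (g : X' ⟶ X) {N : X.Modules}
    (G : SheafOfModules.GeneratingSections N) :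
    SheafOfModules.GeneratingSections ((Scheme.Modules.pullback g).obj N) :=
  haveI : PreservesColimitsOfSize.{u, u} (Scheme.Modules.pullback g) :=
    (Scheme.Modules.pullbackPushforwardAdjunction g).leftAdjoint_preservesColimits
  G.map (Scheme.Modules.pullback g) (pullbackUnitIso g)

instance (g : X' ⟶ X) {N : X.Modules} (G : SheafOfModules.GeneratingSections N)
    [G.IsFiniteType] : (pullbackGeneratingSections g G).IsFiniteType := by
  unfold pullbackGeneratingSections
  infer_instance

/-- The pullback of a finite type module has closed support. -/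
theorem isClosed_support_pullback (g : X' ⟶ X) (F : X.Modules) [F.IsFiniteType] :
    IsClosed (CohB1.support ((Scheme.Modules.pullback g).obj F)) := by
  obtain ⟨ι, U, gen, hU, hfin⟩ := exists_isOpenCover_generatingSections F
  refine isClosed_support_of_cover _ (fun i => g ⁻¹ᵁ U i) ?_
    (fun i => (pullbackGeneratingSections (g ∣_ U i) (gen i)).ofEpi
      (restrictPullbackIso g (U i) F).inv) (fun i => ?_)
  · exact hU.comap g.base.hom
  · have := hfin i
    infer_instance

end Groth.Agent.Lib.ModPullback
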