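import Groth.Agent.Lib.ModStalkLin
import Groth.Agent.Lib.ModPullback
import Mathlib.CategoryTheory.Limits.Preserves.Shapes.Kernels
import Mathlib.Algebra.Category.Grp.Zero

/-!
# Mono / epi / iso of `O_X`-modules can be checked on stalks

* `mono_of_stalk_injective`, `epi_of_stalk_surjective`, `isIso_of_stalk_bijective`
  (+ `mono_iff_stalk_injective`, `epi_iff_stalk_surjective`, `isIso_iff_stalk_bijective`)
  for `φ : M ⟶ N` in `X.Modules`, in terms of `(ModStalk.stalkFunctor x).map φ`
  (= the function underlying `ModStalkLin.stalkLin φ x`,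
  = `(TopCat.Presheaf.stalkFunctor Ab x).map φ.mapPresheaf`).
-/

set_option autoImplicit false
universe u
open CategoryTheory CategoryTheory.Limits AlgebraicGeometry TopologicalSpace Opposite

namespace Groth.Agent.Lib.ModStalkIso

open Groth.Agent.Lib.ModStalk Groth.Agent.Lib.ModPullback

variable {X : Scheme.{u}}

theorem mono_of_stalk_injective {M N : X.Modules} (φ : M ⟶ N)
    (h : ∀ x : X, Function.Injective ((stalkFunctor x).map φ)) : Mono φ := by
  apply Preadditive.mono_of_isZero_kernel
  apply isZero_of_forall_subsingleton_stalk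
  intro x
  haveI : Mono ((stalkFunctor x).map φ) := (AddCommGrpCat.mono_iff_injective _).mpr (h x)
  have h1 : IsZero (kernel ((stalkFunctor x).map φ)) := isZero_kernel_of_mono _
  have h2 : IsZero ((stalkFunctor x).obj (kernel φ)) :=
    h1.of_iso (PreservesKernel.iso (stalkFunctor x) φ)
  exact AddCommGrpCat.subsingleton_of_isZero h2

theorem epi_of_stalk_surjective {M N : X.Modules} (φ : M ⟶ N)
    (h : ∀ x : X, Function.Surjective ((stalkFunctor x).map φ)) : Epi φ := by
  apply Preadditive.epi_of_isZero_cokernel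
  apply isZero_of_forall_subsingleton_stalk
  intro x
  haveI : Epi ((stalkFunctor x).map φ) := (AddCommGrpCat.epi_iff_surjective _).mpr (h x)
  have h1 : IsZero (cokernel ((stalkFunctor x).map φ)) := isZero_cokernel_of_epi _
  have h2 : IsZero ((stalkFunctor x).obj (cokernel φ)) :=
    h1.of_iso (PreservesCokernel.iso (stalkFunctor x) φ)
  exact AddCommGrpCat.subsingleton_of_isZero h2

theorem isIso_of_stalk_bijective {M N : X.Modules} (φ : M ⟶ N)
    (h : ∀ x : X, Function.Bijective ((stalkFunctor x).map φ)) : IsIso φ := by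
  haveI := mono_of_stalk_injective φ fun x => (h x).1
  haveI := epi_of_stalk_surjective φ fun x => (h x).2
  exact isIso_of_mono_of_epi φ

theorem mono_iff_stalk_injective {M N : X.Modules} (φ : M ⟶ N) :
    Mono φ ↔ ∀ x : X, Function.Injective ((stalkFunctor x).map φ) :=
  ⟨fun _ x => stalk_injective_of_mono φ x, mono_of_stalk_injective φ⟩

theorem epi_iff_stalk_surjective {M N : X.Modules} (φ : M ⟶ N) :
    Epi φ ↔ ∀ x : X, Function.Surjective ((stalkFunctor x).map φ) :=
  ⟨fun _ x => stalk_surjective_of_epi φ x, epi_of_stalk_surjective φ⟩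

theorem isIso_iff_stalk_bijective {M N : X.Modules} (φ : M ⟶ N) :
    IsIso φ ↔ ∀ x : X, Function.Bijective ((stalkFunctor x).map φ) :=
  ⟨fun _ x => ⟨stalk_injective_of_mono φ x, stalk_surjective_of_epi φ x⟩,
    isIso_of_stalk_bijective φ⟩

end Groth.Agent.Lib.ModStalkIso
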