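import Groth.Agent.Lib.FreeModSch
import Mathlib.CategoryTheory.Limits.Preserves.FunctorCategory

/-!
# Restriction of `O_X`-modules along an open immersion is exact

`Scheme.Modules.restrictFunctor f` is a left adjoint (Mathlib), hence preserves colimits; here we
show that it also preserves all limits (sections are computed by `Γ(M.restrict f, U) = Γ(M, f ''ᵁ U)`),
hence it is exact and preserves homology.
-/

set_option autoImplicit false
universe u

open CategoryTheory CategoryTheory.Limits AlgebraicGeometry

namespace Groth.Agent.Lib.RestrictExact

variable {X Y : Scheme.{u}} (f : X ⟶ Y) [IsOpenImmersion f]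

/-- Restriction followed by the forgetful functor to presheaves is the forgetful functor followed
by precomposition with `f.opensFunctor`. -/
noncomputable def restrictCompToPresheaf :
    Scheme.Modules.restrictFunctor f ⋙ Scheme.Modules.toPresheaf X ≅
      Scheme.Modules.toPresheaf Y ⋙ (Functor.whiskeringLeft (TopologicalSpace.Opens ↥X)ᵒᵖ
        (TopologicalSpace.Opens ↥Y)ᵒᵖ Ab.{u}).obj f.opensFunctor.op :=
  NatIso.ofComponents (fun M => Iso.refl _) (fun φ => by
    simp only [Iso.refl_hom]
    rfl)

instance reflectsLimits_toPresheaf : ReflectsLimits (Scheme.Modules.toPresheaf X) :=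
  reflectsLimits_of_reflectsIsomorphisms

instance preservesLimits_restrictFunctor :
    PreservesLimits (Scheme.Modules.restrictFunctor f) := by
  have h0 : PreservesLimits ((Functor.whiskeringLeft (TopologicalSpace.Opens ↥X)ᵒᵖ
        (TopologicalSpace.Opens ↥Y)ᵒᵖ Ab.{u}).obj f.opensFunctor.op) :=
    whiskeringLeft_preservesLimits _
  have h1 : PreservesLimits (Scheme.Modules.toPresheaf Y ⋙
      (Functor.whiskeringLeft (TopologicalSpace.Opens ↥X)ᵒᵖ
        (TopologicalSpace.Opens ↥Y)ᵒᵖ Ab.{u}).obj f.opensFunctor.op) :=
    comp_preservesLimits _ _
  have : PreservesLimits (Scheme.Modules.restrictFunctor f ⋙ Scheme.Modules.toPresheaf X) :=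
    preservesLimits_of_natIso (restrictCompToPresheaf f).symm
  exact preservesLimits_of_reflects_of_preserves _ (Scheme.Modules.toPresheaf X)

instance preservesFiniteLimits_restrictFunctor :
    PreservesFiniteLimits (Scheme.Modules.restrictFunctor f) := inferInstance

instance preservesFiniteColimits_restrictFunctor :
    PreservesFiniteColimits (Scheme.Modules.restrictFunctor f) := inferInstance

instance preservesHomology_restrictFunctor :
    (Scheme.Modules.restrictFunctor f).PreservesHomology := inferInstance

instance preservesMonomorphisms_restrictFunctor :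
    (Scheme.Modules.restrictFunctor f).PreservesMonomorphisms := inferInstance

instance preservesEpimorphisms_restrictFunctor :
    (Scheme.Modules.restrictFunctor f).PreservesEpimorphisms := inferInstance

end Groth.Agent.Lib.RestrictExact
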