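import Groth.Prelude.Def_FlatMod2
import Mathlib.AlgebraicGeometry.Modules.Tilde

set_option autoImplicit false
universe u
open CategoryTheory CategoryTheory.Limits AlgebraicGeometry TopologicalSpace Opposite

namespace Groth.Agent.Lib.QCohStalk

variable {X : Scheme.{u}}

theorem spec_isLocalized {R : CommRingCat.{u}} (M : (Spec R).Modules) [M.IsQuasicoherent] (f : R) :
    IsLocalizedModule (.powers f)
      ((modulesSpecToSheaf.obj M).obj.map (PrimeSpectrum.basicOpen f).leTop.op).hom :=
  (isIso_fromTildeΓ_iff_isLocalizing M).mp inferInstance f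

theorem germ_smul (F : X.Modules) (U : X.Opens) (x : X) (hx : x ∈ U) (r : Γ(X, U))
    (m : Γ(F, U)) :
    F.presheaf.germ U x hx (r • m) = X.presheaf.germ U x hx r • F.presheaf.germ U x hx m :=
  PresheafOfModules.germ_smul (R := X.presheaf) F.val x U hx r m

lemma image_fromSpec_le {U : X.Opens} (hU : IsAffineOpen U) (V : (Spec Γ(X, U)).Opens) :
    hU.fromSpec ''ᵁ V ≤ U := by
  conv_rhs => rw [← hU.opensRange_fromSpec]
  exact Scheme.Hom.image_le_opensRange _ _

lemma appIso_inv_fromSpec {U : X.Opens} (hU : IsAffineOpen U) (V : (Spec Γ(X, U)).Opens) :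
    (Scheme.ΓSpecIso Γ(X, U)).inv ≫ (Spec Γ(X, U)).presheaf.map V.leTop.op ≫
      (hU.fromSpec.appIso V).inv = X.presheaf.map (homOfLE (image_fromSpec_le hU V)).op := by
  rw [← Category.assoc, Iso.comp_inv_eq, Scheme.Hom.appIso_hom, ← Category.assoc,
    Scheme.Hom.naturality, hU.fromSpec_app_self]
  simp only [Category.assoc, ← Functor.map_comp]
  rfl

lemma smul_restrict_fromSpec (F : X.Modules) {U : X.Opens} (hU : IsAffineOpen U)
    (V : (Spec Γ(X, U)).Opens) (r : Γ(X, U)) (y : Γ(F.restrict hU.fromSpec, V)) :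
    r • y = (X.presheaf.map (homOfLE (image_fromSpec_le hU V)).op r) •
      (show Γ(F, hU.fromSpec ''ᵁ V) from y) := by
  rw [Scheme.Modules.smul_Spec_def]
  have := Scheme.Modules.smul_restrictAppIso_hom_apply hU.fromSpec F V
    (((Spec Γ(X, U)).presheaf.map V.leTop.op) ((Scheme.ΓSpecIso Γ(X, U)).inv r)) y
  have h2 := congr($(appIso_inv_fromSpec hU V) r)
  simp only [CommRingCat.comp_apply] at h2
  rw [h2] at this
  exact this

/-- restriction of sections of a module -/
noncomputable abbrev res (F : X.Modules) {V U : X.Opens} (h : V ≤ U) : Γ(F, U) → Γ(F, V) :=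
  fun s => F.presheaf.map (homOfLE h).op s

/-- restriction of functions -/
noncomputable abbrev resO (X : Scheme.{u}) {V U : X.Opens} (h : V ≤ U) : Γ(X, U) → Γ(X, V) :=
  fun s => X.presheaf.map (homOfLE h).op s

lemma res_smul (F : X.Modules) {V U : X.Opens} (h : V ≤ U) (r : Γ(X, U)) (s : Γ(F, U)) :
    res F h (r • s) = resO X h r • res F h s :=
  F.val.map_smul (homOfLE h).op r s

lemma res_res (F : X.Modules) {W V U : X.Opens} (h : W ≤ V) (h' : V ≤ U) (s : Γ(F, U)) :
    res F h (res F h' s) = res F (h.trans h') s := by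
  simp only [res, ← ConcreteCategory.comp_apply, ← Functor.map_comp]
  rfl

lemma res_self (F : X.Modules) {U : X.Opens} (s : Γ(F, U)) : res F (le_refl U) s = s := by
  change F.presheaf.map (𝟙 _) s = s
  rw [F.presheaf.map_id]
  rfl

lemma resO_resO (X : Scheme.{u}) {W V U : X.Opens} (h : W ≤ V) (h' : V ≤ U) (s : Γ(X, U)) :
    resO X h (resO X h' s) = resO X (h.trans h') s := by
  simp only [resO, ← ConcreteCategory.comp_apply, ← Functor.map_comp]
  rfl

lemma resO_pow (X : Scheme.{u}) {V U : X.Opens} (h : V ≤ U) (a : Γ(X, U)) (n : ℕ) :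
    resO X h (a ^ n) = resO X h a ^ n :=
  map_pow (X.presheaf.map (homOfLE h).op).hom a n

lemma res_injective_of_eq (F : X.Modules) {V U : X.Opens} (h : V = U) :
    Function.Injective (res F h.le) := by
  subst h
  intro a b hab
  rwa [res_self, res_self] at hab

theorem exists_pow_smul_eq_res (F : X.Modules) [F.IsQuasicoherent] {U : X.Opens}
    (hU : IsAffineOpen U) (f : Γ(X, U)) (t : Γ(F, X.basicOpen f)) :
    ∃ (n : ℕ) (s : Γ(F, U)),
      (resO X (X.basicOpen_le f) f) ^ n • t = res F (X.basicOpen_le f) s := by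
  have hloc := spec_isLocalized (F.restrict hU.fromSpec) f
  have e : hU.fromSpec ''ᵁ PrimeSpectrum.basicOpen f = X.basicOpen f :=
    hU.fromSpec_image_basicOpen f
  have e' : hU.fromSpec ''ᵁ ⊤ = U := by
    rw [Scheme.Hom.image_top_eq_opensRange, hU.opensRange_fromSpec]
  obtain ⟨⟨x, ⟨_, n, rfl⟩⟩, hx⟩ := hloc.surj (res F e.le t)
  refine ⟨n, res F e'.ge x, ?_⟩
  have hx' : (f ^ n : Γ(X, U)) •
      (show Γ(F.restrict hU.fromSpec, PrimeSpectrum.basicOpen f) from res F e.le t) =
      res F (Scheme.Hom.image_mono _ le_top) x := hx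
  rw [smul_restrict_fromSpec] at hx'
  apply res_injective_of_eq F e
  rw [res_smul, res_res, res_res, ← resO_pow, resO_resO]
  exact hx'

lemma res_zero (F : X.Modules) {V U : X.Opens} (h : V ≤ U) : res F h (0 : Γ(F, U)) = 0 :=
  map_zero (F.presheaf.map (homOfLE h).op).hom

theorem exists_pow_smul_eq_zero (F : X.Modules) [F.IsQuasicoherent] {U : X.Opens}
    (hU : IsAffineOpen U) (f : Γ(X, U)) (s : Γ(F, U))
    (hs : res F (X.basicOpen_le f) s = 0) : ∃ n : ℕ, f ^ n • s = 0 := by
  have hloc := spec_isLocalized (F.restrict hU.fromSpec) f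
  have e : hU.fromSpec ''ᵁ PrimeSpectrum.basicOpen f = X.basicOpen f :=
    hU.fromSpec_image_basicOpen f
  have e' : hU.fromSpec ''ᵁ ⊤ = U := by
    rw [Scheme.Hom.image_top_eq_opensRange, hU.opensRange_fromSpec]
  have h0 : ((modulesSpecToSheaf.obj (F.restrict hU.fromSpec)).obj.map
      (PrimeSpectrum.basicOpen f).leTop.op).hom (res F e'.le s) = 0 := by
    change res F (Scheme.Hom.image_mono hU.fromSpec (le_top : PrimeSpectrum.basicOpen f ≤ ⊤))
      (res F e'.le s) = 0
    rw [res_res]
    have : res F e.le (res F (X.basicOpen_le f) s) = 0 := by rw [hs, res_zero]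
    rw [res_res] at this
    exact this
  obtain ⟨⟨_, n, rfl⟩, hn⟩ := (IsLocalizedModule.eq_zero_iff (.powers f) _).mp h0
  refine ⟨n, ?_⟩
  have hn' : (f ^ n : Γ(X, U)) •
      (show Γ(F.restrict hU.fromSpec, ⊤) from res F e'.le s) = 0 := hn
  rw [smul_restrict_fromSpec] at hn'
  apply res_injective_of_eq F e'
  rw [res_smul, res_zero]
  exact hn'

lemma germ_res (F : X.Modules) {V U : X.Opens} (h : V ≤ U) (x : X) (hx : x ∈ V) (s : Γ(F, U)) :
    F.presheaf.germ V x hx (res F h s) = F.presheaf.germ U x (h hx) s :=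
  TopCat.Presheaf.germ_res_apply F.presheaf (homOfLE h) x hx s

lemma germO_res (X : Scheme.{u}) {V U : X.Opens} (h : V ≤ U) (x : X) (hx : x ∈ V) (s : Γ(X, U)) :
    X.presheaf.germ V x hx (resO X h s) = X.presheaf.germ U x (h hx) s :=
  TopCat.Presheaf.germ_res_apply X.presheaf (homOfLE h) x hx s

/-- Every element of the stalk of a quasi-coherent module at a point of an affine open `U`
is a fraction `s / g` with `s` a section over `U` and `g` a function on `U` invertible at `x`. -/
theorem exists_germ_smul_eq_germ (F : X.Modules) [F.IsQuasicoherent] {U : X.Opens}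
    (hU : IsAffineOpen U) (x : X) (hx : x ∈ U) (ξ : F.presheaf.stalk x) :
    ∃ (g : Γ(X, U)) (s : Γ(F, U)), IsUnit (X.presheaf.germ U x hx g) ∧
      X.presheaf.germ U x hx g • ξ = F.presheaf.germ U x hx s := by
  obtain ⟨V, hxV, t, rfl⟩ := TopCat.Presheaf.exists_germ_eq F.presheaf ξ
  obtain ⟨f, hfV, hxf⟩ := hU.exists_basicOpen_le ⟨x, hxV⟩ hx
  obtain ⟨n, s, hs⟩ := exists_pow_smul_eq_res F hU f (res F hfV t)
  refine ⟨f ^ n, s, ?_, ?_⟩
  · rw [map_pow]
    exact ((X.mem_basicOpen _ _ hx).mp hxf).pow n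
  · rw [← germ_res F (X.basicOpen_le f) x hxf s, ← hs, germ_smul, germ_res, ← resO_pow,
      germO_res]

/-- A section over an affine open `U` of a quasi-coherent module whose germ at `x` vanishes is
killed by a function on `U` invertible at `x`. -/
theorem exists_smul_eq_zero_of_germ_eq_zero (F : X.Modules) [F.IsQuasicoherent] {U : X.Opens}
    (hU : IsAffineOpen U) (x : X) (hx : x ∈ U) (s : Γ(F, U))
    (hs : F.presheaf.germ U x hx s = 0) :
    ∃ g : Γ(X, U), IsUnit (X.presheaf.germ U x hx g) ∧ g • s = 0 := by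
  have h0 : F.presheaf.germ U x hx s = F.presheaf.germ U x hx 0 := by rw [hs, map_zero]
  obtain ⟨W, hxW, iU, iV, hW⟩ := TopCat.Presheaf.germ_eq F.presheaf x hx hx s 0 h0
  obtain ⟨f, hfW, hxf⟩ := hU.exists_basicOpen_le ⟨x, hxW⟩ hx
  have h1 : res F (X.basicOpen_le f) s = 0 := by
    have h2 : res F iU.le s = 0 := by
      change F.presheaf.map (homOfLE iU.le).op s = 0
      rw [show (homOfLE iU.le) = iU from rfl, hW, map_zero]
    rw [← res_res F hfW iU.le, h2, res_zero]
  obtain ⟨n, hn⟩ := exists_pow_smul_eq_zero F hU f s h1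
  refine ⟨f ^ n, ?_, hn⟩
  rw [map_pow]
  exact ((X.mem_basicOpen _ _ hx).mp hxf).pow n

/-- The stalk of a module at a point of `U`, as a module over `Γ(X, U)` through the germ map.
Not a global instance: use `letI` or a local instance attribute. -/
@[reducible] noncomputable def moduleSectionStalk (F : X.Modules) {U : X.Opens} (x : U) :
    Module Γ(X, U) (F.presheaf.stalk (x : X)) :=
  Module.compHom _ (X.presheaf.germ U x.1 x.2).hom

lemma isScalarTower_sectionStalk (F : X.Modules) {U : X.Opens} (x : U) :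
    letI := moduleSectionStalk F x
    IsScalarTower Γ(X, U) (X.presheaf.stalk (x : X)) (F.presheaf.stalk (x : X)) :=
  letI := moduleSectionStalk F x
  IsScalarTower.of_algebraMap_smul fun _ _ => rfl

/-- The germ map as a `Γ(X, U)`-linear map. -/
noncomputable def germLinear (F : X.Modules) {U : X.Opens} (x : U) :
    letI := moduleSectionStalk F x
    Γ(F, U) →ₗ[Γ(X, U)] F.presheaf.stalk (x : X) :=
  letI := moduleSectionStalk F x
  { toFun := fun s => F.presheaf.germ U x.1 x.2 s
    map_add' := fun a b => map_add (F.presheaf.germ U x.1 x.2).hom a b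
    map_smul' := fun r m => germ_smul F U x.1 x.2 r m }

lemma germLinear_apply (F : X.Modules) {U : X.Opens} (x : U) (s : Γ(F, U)) :
    germLinear F x s = F.presheaf.germ U x.1 x.2 s := rfl

/-- For a quasi-coherent module, the germ map from the sections over an affine open `U` to the
stalk at `x ∈ U` is the localization at the prime ideal of `x`. -/
theorem isLocalizedModule_germ (F : X.Modules) [F.IsQuasicoherent] {U : X.Opens}
    (hU : IsAffineOpen U) (x : U) :
    letI := moduleSectionStalk F x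
    IsLocalizedModule (hU.primeIdealOf x).asIdeal.primeCompl (germLinear F x) := by
  letI := moduleSectionStalk F x
  have hunit : ∀ g : Γ(X, U), g ∈ (hU.primeIdealOf x).asIdeal.primeCompl ↔
      IsUnit (X.presheaf.germ U x.1 x.2 g) := by
    intro g
    have := hU.isLocalization_stalk x
    exact (IsLocalization.AtPrime.isUnit_to_map_iff (X.presheaf.stalk (x : X))
        (hU.primeIdealOf x).asIdeal g).symm
  refine ⟨?_, ?_, ?_⟩
  · intro g
    rw [Module.End.isUnit_iff]
    have hg := (hunit g.1).mp g.2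
    constructor
    · intro a b hab
      have hab' : X.presheaf.germ U x.1 x.2 g.1 • a = X.presheaf.germ U x.1 x.2 g.1 • b := hab
      exact (hg.smul_left_cancel).mp hab'
    · intro b
      obtain ⟨u, hu⟩ := hg
      refine ⟨(↑u⁻¹ : X.presheaf.stalk (x : X)) • b, ?_⟩
      change X.presheaf.germ U x.1 x.2 g.1 • ((↑u⁻¹ : X.presheaf.stalk (x : X)) • b) = b
      rw [← hu, smul_smul, Units.mul_inv, one_smul]
  · intro ξ
    obtain ⟨g, s, hg, hgs⟩ := exists_germ_smul_eq_germ F hU x.1 x.2 ξ
    exact ⟨⟨s, ⟨g, (hunit g).mpr hg⟩⟩, hgs⟩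
  · intro s t hst
    have h0 : F.presheaf.germ U x.1 x.2 (s - t) = 0 := by
      rw [map_sub, sub_eq_zero]
      exact hst
    obtain ⟨g, hg, hgs⟩ := exists_smul_eq_zero_of_germ_eq_zero F hU x.1 x.2 (s - t) h0
    refine ⟨⟨g, (hunit g).mpr hg⟩, ?_⟩
    rw [smul_sub, sub_eq_zero] at hgs
    exact hgs

end Groth.Agent.Lib.QCohStalk
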