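import Groth.Agent.Lib.ModStalk
import Groth.Agent.Lib.QCohStalk
import Mathlib.Algebra.Category.ModuleCat.Stalk
import Mathlib.Algebra.Exact.Basic

/-!
# Stalk maps of morphisms of `O_X`-modules as linear maps over the local ring

For `φ : M ⟶ N` in `X.Modules` and `x : X`:
* `stalkLin φ x : M.presheaf.stalk x →ₗ[X.presheaf.stalk x] N.presheaf.stalk x`
  (the underlying function is `(ModStalk.stalkFunctor x).map φ`), `stalkLin_germ`;
* `stalkLin_id`, `stalkLin_comp`, `stalkLinEquiv` (for an iso);
* `stalkLin_injective_of_mono`, `stalkLin_surjective_of_epi`, `stalkLin_exact` (for a short exact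
  sequence in `X.Modules`: injective, exact, surjective).
-/

set_option autoImplicit false
universe u
open CategoryTheory CategoryTheory.Limits AlgebraicGeometry TopologicalSpace Opposite

namespace Groth.Agent.Lib.ModStalkLin

open Groth.Agent.Lib.ModStalk

variable {X : Scheme.{u}}

/-- The stalk map of a morphism of `O_X`-modules, as an additive map on stalks. -/
noncomputable def stalkFun {M N : X.Modules} (φ : M ⟶ N) (x : X) :
    M.presheaf.stalk x →+ N.presheaf.stalk x :=
  ((TopCat.Presheaf.stalkFunctor Ab.{u} x).map φ.mapPresheaf).hom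

theorem stalkFun_eq {M N : X.Modules} (φ : M ⟶ N) (x : X) :
    stalkFun φ x = ((stalkFunctor x).map φ).hom := rfl

theorem stalkFun_germ {M N : X.Modules} (φ : M ⟶ N) (x : X) (U : X.Opens)
    (hx : x ∈ U) (s : Γ(M, U)) :
    stalkFun φ x (M.presheaf.germ U x hx s) = N.presheaf.germ U x hx (φ.app U s) :=
  TopCat.Presheaf.stalkFunctor_map_germ_apply U x hx φ.mapPresheaf s

/-- The stalk map of a morphism of `O_X`-modules is linear over the local ring. -/
theorem stalkFun_smul {M N : X.Modules} (φ : M ⟶ N) (x : X)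
    (r : X.presheaf.stalk x) (m : M.presheaf.stalk x) :
    stalkFun φ x (r • m) = r • stalkFun φ x m := by
  obtain ⟨U, hxU, r', rfl⟩ := TopCat.Presheaf.exists_germ_eq X.presheaf r
  obtain ⟨V, hxV, m', rfl⟩ := TopCat.Presheaf.exists_germ_eq M.presheaf m
  have hxW : x ∈ U ⊓ V := ⟨hxU, hxV⟩
  rw [← TopCat.Presheaf.germ_res_apply X.presheaf (homOfLE (inf_le_left : U ⊓ V ≤ U)) x hxW r',
    ← TopCat.Presheaf.germ_res_apply M.presheaf (homOfLE (inf_le_right : U ⊓ V ≤ V)) x hxW m',
    ← Groth.Agent.Lib.QCohStalk.germ_smul, stalkFun_germ, Scheme.Modules.Hom.app_smul,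
    Groth.Agent.Lib.QCohStalk.germ_smul, stalkFun_germ]

/-- The stalk map as a linear map over the local ring `O_{X,x}`. -/
noncomputable def stalkLin {M N : X.Modules} (φ : M ⟶ N) (x : X) :
    M.presheaf.stalk x →ₗ[X.presheaf.stalk x] N.presheaf.stalk x where
  toFun := stalkFun φ x
  map_add' := map_add _
  map_smul' := stalkFun_smul φ x

theorem stalkLin_apply {M N : X.Modules} (φ : M ⟶ N) (x : X) (m : M.presheaf.stalk x) :
    stalkLin φ x m = (stalkFunctor x).map φ m := rfl

@[simp]
theorem stalkLin_germ {M N : X.Modules} (φ : M ⟶ N) (x : X) (U : X.Opens)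
    (hx : x ∈ U) (s : Γ(M, U)) :
    stalkLin φ x (M.presheaf.germ U x hx s) = N.presheaf.germ U x hx (φ.app U s) :=
  stalkFun_germ φ x U hx s

@[simp]
theorem stalkLin_id (M : X.Modules) (x : X) : stalkLin (𝟙 M) x = LinearMap.id := by
  ext m
  change (stalkFunctor x).map (𝟙 M) m = m
  rw [CategoryTheory.Functor.map_id]
  rfl

theorem stalkLin_comp {M N K : X.Modules} (φ : M ⟶ N) (ψ : N ⟶ K) (x : X) :
    stalkLin (φ ≫ ψ) x = (stalkLin ψ x).comp (stalkLin φ x) := by
  ext m
  change (stalkFunctor x).map (φ ≫ ψ) m = (stalkFunctor x).map ψ ((stalkFunctor x).map φ m)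
  rw [CategoryTheory.Functor.map_comp]
  rfl

/-- An isomorphism of `O_X`-modules induces a linear equivalence on stalks. -/
noncomputable def stalkLinEquiv {M N : X.Modules} (e : M ≅ N) (x : X) :
    M.presheaf.stalk x ≃ₗ[X.presheaf.stalk x] N.presheaf.stalk x :=
  LinearEquiv.ofLinearMap (stalkLin e.hom x) (stalkLin e.inv x)
    (by rw [← stalkLin_comp, e.inv_hom_id, stalkLin_id])
    (by rw [← stalkLin_comp, e.hom_inv_id, stalkLin_id])

theorem stalkLin_injective_of_mono {M N : X.Modules} (φ : M ⟶ N) [Mono φ] (x : X) :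
    Function.Injective (stalkLin φ x) :=
  stalk_injective_of_mono φ x

theorem stalkLin_surjective_of_epi {M N : X.Modules} (φ : M ⟶ N) [Epi φ] (x : X) :
    Function.Surjective (stalkLin φ x) :=
  stalk_surjective_of_epi φ x

/-- Stalks of a short exact sequence of `O_X`-modules form a short exact sequence of modules over
the local ring. -/
theorem stalkLin_exact {S : ShortComplex X.Modules} (hS : S.ShortExact) (x : X) :
    Function.Injective (stalkLin S.f x) ∧ Function.Exact (stalkLin S.f x) (stalkLin S.g x) ∧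
      Function.Surjective (stalkLin S.g x) := by
  have hx := shortExact_stalk hS x
  exact ⟨hx.ab_injective_f, (ShortComplex.ab_exact_iff_function_exact _).mp hx.exact,
    hx.ab_surjective_g⟩

end Groth.Agent.Lib.ModStalkLin
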