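import Groth.Agent.Lib.CohFinite
import Groth.Agent.Lib.ModStalkLin
import Mathlib.RingTheory.Flat.Stability
import Mathlib.LinearAlgebra.FreeModule.Basic

/-!
# Stalks of restricted modules, semilinearly

For an open immersion `f : X ⟶ Y`, `M : Y.Modules` and `x : X`, the additive isomorphism
`(M.restrict f)_x ≃+ M_{f x}` is semilinear with respect to the stalk map `O_{Y, f x} → O_{X, x}`.
-/

set_option autoImplicit false
universe u

open CategoryTheory CategoryTheory.Limits AlgebraicGeometry TopologicalSpace Opposite

namespace Groth.Agent.Lib.RestrictStalk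

open Groth.Agent.Lib.QCohStalk

variable {X Y : Scheme.{u}} (f : X ⟶ Y) [IsOpenImmersion f] (M : Y.Modules) (x : X)

/-- The comparison of stalks of a restricted module, as an additive equivalence. -/
noncomputable def restrictStalkAddEquiv :
    (M.restrict f).presheaf.stalk x ≃+ M.presheaf.stalk (f x) :=
  { toFun := ((Scheme.Modules.restrictStalkNatIso f x).hom.app M).hom
    invFun := ((Scheme.Modules.restrictStalkNatIso f x).inv.app M).hom
    left_inv := fun ν => by
      have := congr($(((Scheme.Modules.restrictStalkNatIso f x).app M).hom_inv_id) ν)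
      exact this
    right_inv := fun μ => by
      have := congr($(((Scheme.Modules.restrictStalkNatIso f x).app M).inv_hom_id) μ)
      exact this
    map_add' := map_add _ }

theorem restrictStalkAddEquiv_germ (U : X.Opens) (hx : x ∈ U) (m : Γ(M.restrict f, U)) :
    restrictStalkAddEquiv f M x ((M.restrict f).presheaf.germ U x hx m) =
      M.presheaf.germ (f ''ᵁ U) (f x) ⟨x, hx, rfl⟩ (show Γ(M, f ''ᵁ U) from m) := by
  have key := congr($(Scheme.Modules.germ_restrictStalkNatIso_hom_app f x M hx) m)
  simp only [AddCommGrpCat.hom_comp, AddMonoidHom.coe_comp, Function.comp_apply] at key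
  exact key


/-- The stalk map of an open immersion on a germ over an open of the form `f ''ᵁ V`. -/
theorem stalkMap_germ_image (V : X.Opens) (hx : x ∈ V) (β : Γ(Y, f ''ᵁ V)) :
    (f.stalkMap x).hom (Y.presheaf.germ (f ''ᵁ V) (f x) ⟨x, hx, rfl⟩ β) =
      X.presheaf.germ V x hx ((f.appIso V).hom β) := by
  rw [Scheme.Hom.appIso_hom]
  change (f.stalkMap x) (Y.presheaf.germ (f ''ᵁ V) (f x) ⟨x, hx, rfl⟩ β) = _
  rw [Scheme.Hom.germ_stalkMap_apply]
  simp only [CommRingCat.comp_apply]
  exact (TopCat.Presheaf.germ_res_apply X.presheaf
    (eqToHom (Scheme.Hom.preimage_image_eq f V).symm) x hx _).symm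

/-- Semilinearity of the stalk comparison for restricted modules. -/
theorem restrictStalkAddEquiv_smul (b : Y.presheaf.stalk (f x))
    (ν : (M.restrict f).presheaf.stalk x) :
    restrictStalkAddEquiv f M x ((f.stalkMap x).hom b • ν) =
      b • restrictStalkAddEquiv f M x ν := by
  obtain ⟨U, hxU, β, rfl⟩ := TopCat.Presheaf.exists_germ_eq Y.presheaf b
  obtain ⟨V, hxV, m, rfl⟩ := TopCat.Presheaf.exists_germ_eq (M.restrict f).presheaf ν
  let V' : X.Opens := V ⊓ f ⁻¹ᵁ U
  have hxV' : x ∈ V' := ⟨hxV, hxU⟩
  have hle : f ''ᵁ V' ≤ U := (f.image_mono inf_le_right).trans (f.image_preimage_le U)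
  have hfx : f x ∈ f ''ᵁ V' := ⟨x, hxV', rfl⟩
  let β' : Γ(Y, f ''ᵁ V') := resO Y hle β
  let m' : Γ(M.restrict f, V') := res (M.restrict f) (inf_le_left : V' ≤ V) m
  have hb : Y.presheaf.germ U (f x) hxU β = Y.presheaf.germ (f ''ᵁ V') (f x) hfx β' :=
    (germO_res Y hle (f x) hfx β).symm
  have hν : (M.restrict f).presheaf.germ V x hxV m = (M.restrict f).presheaf.germ V' x hxV' m' :=
    (germ_res (M.restrict f) inf_le_left x hxV' m).symm
  rw [hb, hν, stalkMap_germ_image f x V' hxV' β', ← germ_smul, restrictStalkAddEquiv_germ,
    restrictStalkAddEquiv_germ]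
  have h3 := Scheme.Modules.smul_restrictAppIso_hom_apply f M V' ((f.appIso V').hom β') m'
  have h4 : (f.appIso V').inv ((f.appIso V').hom β') = β' := by
    rw [← CommRingCat.comp_apply, Iso.hom_inv_id]
    rfl
  rw [h4] at h3
  rw [← germ_smul]
  exact congrArg _ h3

/-- The stalk map of an open immersion, as a ring isomorphism. -/
noncomputable def stalkRingEquiv : Y.presheaf.stalk (f x) ≃+* X.presheaf.stalk x :=
  (asIso (f.stalkMap x)).commRingCatIsoToRingEquiv

theorem stalkRingEquiv_apply (b : Y.presheaf.stalk (f x)) :
    stalkRingEquiv f x b = (f.stalkMap x).hom b := rfl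

theorem restrictStalkAddEquiv_smul' (a : X.presheaf.stalk x)
    (ν : (M.restrict f).presheaf.stalk x) :
    restrictStalkAddEquiv f M x (a • ν) =
      (stalkRingEquiv f x).symm a • restrictStalkAddEquiv f M x ν := by
  rw [← restrictStalkAddEquiv_smul, ← stalkRingEquiv_apply, RingEquiv.apply_symm_apply]


section Naturality

open Groth.Agent.Lib.ModStalkLin

variable {M}

/-- The stalk comparison is natural in the module. -/
theorem restrictStalkAddEquiv_naturality {N : Y.Modules} (g : M ⟶ N)
    (ν : (M.restrict f).presheaf.stalk x) :
    restrictStalkAddEquiv f N x (stalkLin ((Scheme.Modules.restrictFunctor f).map g) x ν) =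
      stalkLin g (f x) (restrictStalkAddEquiv f M x ν) := by
  have h := congr($((Scheme.Modules.restrictStalkNatIso f x).hom.naturality g) ν)
  exact h

theorem stalkLin_restrict_injective_iff {N : Y.Modules} (g : M ⟶ N) :
    Function.Injective (stalkLin ((Scheme.Modules.restrictFunctor f).map g) x) ↔
      Function.Injective (stalkLin g (f x)) := by
  have key : ∀ ν, restrictStalkAddEquiv f N x
      (stalkLin ((Scheme.Modules.restrictFunctor f).map g) x ν) =
      stalkLin g (f x) (restrictStalkAddEquiv f M x ν) := restrictStalkAddEquiv_naturality f x g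
  constructor
  · intro h a b hab
    obtain ⟨a, rfl⟩ := (restrictStalkAddEquiv f M x).surjective a
    obtain ⟨b, rfl⟩ := (restrictStalkAddEquiv f M x).surjective b
    rw [← key, ← key] at hab
    rw [h ((restrictStalkAddEquiv f N x).injective hab)]
  · intro h a b hab
    apply (restrictStalkAddEquiv f M x).injective
    apply h
    rw [← key, ← key, hab]

theorem stalkLin_restrict_surjective_iff {N : Y.Modules} (g : M ⟶ N) :
    Function.Surjective (stalkLin ((Scheme.Modules.restrictFunctor f).map g) x) ↔
      Function.Surjective (stalkLin g (f x)) := by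
  have key : ∀ ν, restrictStalkAddEquiv f N x
      (stalkLin ((Scheme.Modules.restrictFunctor f).map g) x ν) =
      stalkLin g (f x) (restrictStalkAddEquiv f M x ν) := restrictStalkAddEquiv_naturality f x g
  constructor
  · intro h b
    obtain ⟨a, ha⟩ := h ((restrictStalkAddEquiv f N x).symm b)
    refine ⟨restrictStalkAddEquiv f M x a, ?_⟩
    rw [← key, ha, AddEquiv.apply_symm_apply]
  · intro h b
    obtain ⟨a, ha⟩ := h (restrictStalkAddEquiv f N x b)
    refine ⟨(restrictStalkAddEquiv f M x).symm a, ?_⟩
    apply (restrictStalkAddEquiv f N x).injective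
    rw [key, AddEquiv.apply_symm_apply, ha]

theorem stalkLin_restrict_bijective_iff {N : Y.Modules} (g : M ⟶ N) :
    Function.Bijective (stalkLin ((Scheme.Modules.restrictFunctor f).map g) x) ↔
      Function.Bijective (stalkLin g (f x)) :=
  and_congr (stalkLin_restrict_injective_iff f x g) (stalkLin_restrict_surjective_iff f x g)

end Naturality

section Basis

variable {ι : Type*} (v : ι → (M.restrict f).presheaf.stalk x)

/-- Linear independence transports along the semilinear stalk comparison. -/
theorem linearIndependent_restrict_iff :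
    LinearIndependent (X.presheaf.stalk x) v ↔
      LinearIndependent (Y.presheaf.stalk (f x)) (fun i => restrictStalkAddEquiv f M x (v i)) := by
  classical
  rw [linearIndependent_iff', linearIndependent_iff']
  constructor
  · intro h s c hc i hi
    have h1 : ∑ j ∈ s, (stalkRingEquiv f x (c j)) • v j = 0 := by
      apply (restrictStalkAddEquiv f M x).injective
      rw [map_sum, map_zero, ← hc]
      refine Finset.sum_congr rfl (fun j _ => ?_)
      rw [stalkRingEquiv_apply, restrictStalkAddEquiv_smul]
    have h2 := h s (fun j => stalkRingEquiv f x (c j)) h1 i hi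
    exact (map_eq_zero_iff _ (stalkRingEquiv f x).injective).mp h2
  · intro h s c hc i hi
    have h1 : ∑ j ∈ s, ((stalkRingEquiv f x).symm (c j)) • restrictStalkAddEquiv f M x (v j) = 0 := by
      rw [← map_zero (restrictStalkAddEquiv f M x), ← hc, map_sum]
      refine Finset.sum_congr rfl (fun j _ => ?_)
      rw [restrictStalkAddEquiv_smul']
    have h2 := h s (fun j => (stalkRingEquiv f x).symm (c j)) h1 i hi
    exact (map_eq_zero_iff _ (stalkRingEquiv f x).symm.injective).mp h2

/-- Spanning transports along the semilinear stalk comparison. -/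
theorem span_restrict_eq_top_iff :
    Submodule.span (X.presheaf.stalk x) (Set.range v) = ⊤ ↔
      Submodule.span (Y.presheaf.stalk (f x))
        (Set.range fun i => restrictStalkAddEquiv f M x (v i)) = ⊤ := by
  constructor
  · intro h
    rw [eq_top_iff]
    rintro μ -
    obtain ⟨ν, rfl⟩ := (restrictStalkAddEquiv f M x).surjective μ
    have hν : ν ∈ Submodule.span (X.presheaf.stalk x) (Set.range v) := by rw [h]; trivial
    induction hν using Submodule.span_induction with
    | mem ν h =>
      obtain ⟨i, rfl⟩ := h
      exact Submodule.subset_span ⟨i, rfl⟩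
    | zero => rw [map_zero]; exact Submodule.zero_mem _
    | add a b _ _ ha hb => rw [map_add]; exact Submodule.add_mem _ ha hb
    | smul a ν _ h =>
      rw [restrictStalkAddEquiv_smul']
      exact Submodule.smul_mem _ _ h
  · intro h
    rw [eq_top_iff]
    rintro ν -
    have hμ : restrictStalkAddEquiv f M x ν ∈ Submodule.span (Y.presheaf.stalk (f x))
        (Set.range fun i => restrictStalkAddEquiv f M x (v i)) := by rw [h]; trivial
    have key : ∀ μ ∈ Submodule.span (Y.presheaf.stalk (f x))
        (Set.range fun i => restrictStalkAddEquiv f M x (v i)),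
        (restrictStalkAddEquiv f M x).symm μ ∈
          Submodule.span (X.presheaf.stalk x) (Set.range v) := by
      intro μ hμ
      induction hμ using Submodule.span_induction with
      | mem μ h =>
        obtain ⟨i, rfl⟩ := h
        rw [AddEquiv.symm_apply_apply]
        exact Submodule.subset_span ⟨i, rfl⟩
      | zero => rw [map_zero]; exact Submodule.zero_mem _
      | add a b _ _ ha hb => rw [map_add]; exact Submodule.add_mem _ ha hb
      | smul b μ _ h =>
        have : (restrictStalkAddEquiv f M x).symm (b • μ) =
            (f.stalkMap x).hom b • (restrictStalkAddEquiv f M x).symm μ := by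
          apply (restrictStalkAddEquiv f M x).injective
          rw [AddEquiv.apply_symm_apply, restrictStalkAddEquiv_smul, AddEquiv.apply_symm_apply]
        rw [this]
        exact Submodule.smul_mem _ _ h
    have := key _ hμ
    rwa [AddEquiv.symm_apply_apply] at this

end Basis

section SemilinearTransport

/-- Flatness transports along an additive equivalence which is semilinear with respect to a ring
isomorphism. -/
theorem flat_of_semilinear_addEquiv {R S M N : Type*} [CommRing R] [CommRing S]
    [AddCommGroup M] [AddCommGroup N] [Module R M] [Module S N] (e : R ≃+* S) (φ : M ≃+ N)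
    (hφ : ∀ (r : R) (m : M), φ (r • m) = e r • φ m) [Module.Flat R M] : Module.Flat S N := by
  let _ : Algebra S R := (e.symm : S →+* R).toAlgebra
  let _ : Module S M := Module.compHom M (e.symm : S →+* R)
  have htower : IsScalarTower S R M := IsScalarTower.of_algebraMap_smul (fun _ _ => rfl)
  let eR : R ≃ₗ[S] S :=
    { e.toAddEquiv with
      map_smul' := fun s r => by
        change e (e.symm s * r) = s * e r
        rw [map_mul, RingEquiv.apply_symm_apply] }
  have hRflat : Module.Flat S R := Module.Flat.of_linearEquiv eR
  have hMflat : Module.Flat S M := Module.Flat.trans S R M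
  let φ' : N ≃ₗ[S] M :=
    { φ.symm with
      map_smul' := fun s n => by
        apply φ.injective
        change φ (φ.symm (s • n)) = φ (e.symm s • φ.symm n)
        rw [hφ, AddEquiv.apply_symm_apply, AddEquiv.apply_symm_apply,
          RingEquiv.apply_symm_apply] }
  exact Module.Flat.of_linearEquiv φ'

variable {X Y : Scheme.{u}} (f : X ⟶ Y) [IsOpenImmersion f] (M : Y.Modules) (x : X)

attribute [local instance] RingHomInvPair.of_ringEquiv RingHomInvPair.of_ringEquiv_symm

/-- The stalk comparison for restricted modules, as a semilinear equivalence. -/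
noncomputable def restrictStalkSemilinearEquiv :
    M.presheaf.stalk (f x) ≃ₛₗ[(stalkRingEquiv f x : Y.presheaf.stalk (f x) →+* X.presheaf.stalk x)]
      (M.restrict f).presheaf.stalk x :=
  { (restrictStalkAddEquiv f M x).symm with
    map_smul' := fun b μ => by
      apply (restrictStalkAddEquiv f M x).injective
      change restrictStalkAddEquiv f M x ((restrictStalkAddEquiv f M x).symm (b • μ)) =
        restrictStalkAddEquiv f M x
          (stalkRingEquiv f x b • (restrictStalkAddEquiv f M x).symm μ)
      rw [AddEquiv.apply_symm_apply, stalkRingEquiv_apply, restrictStalkAddEquiv_smul,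
        AddEquiv.apply_symm_apply] }

theorem free_restrict_iff :
    Module.Free (X.presheaf.stalk x) ((M.restrict f).presheaf.stalk x) ↔
      Module.Free (Y.presheaf.stalk (f x)) (M.presheaf.stalk (f x)) :=
  (Module.Free.iff_of_equiv (restrictStalkSemilinearEquiv f M x)).symm

theorem flat_restrict_iff :
    Module.Flat (X.presheaf.stalk x) ((M.restrict f).presheaf.stalk x) ↔
      Module.Flat (Y.presheaf.stalk (f x)) (M.presheaf.stalk (f x)) := by
  constructor
  · intro h
    exact flat_of_semilinear_addEquiv (stalkRingEquiv f x).symm (restrictStalkAddEquiv f M x)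
      (restrictStalkAddEquiv_smul' f M x)
  · intro h
    refine flat_of_semilinear_addEquiv (stalkRingEquiv f x) (restrictStalkAddEquiv f M x).symm ?_
    intro b μ
    exact (restrictStalkSemilinearEquiv f M x).map_smul' b μ

end SemilinearTransport

end Groth.Agent.Lib.RestrictStalk
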