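import Groth.Agent.Lib.LocFreeCrit
import Groth.Agent.Lib.RestrictStalk
import Groth.Agent.Lib.ModStalkIso
import Groth.Agent.Lib.RestrictExact
import Groth.Agent.Lib.LocFreePres

/-!
# Local freeness criterion for finitely presented modules

A finitely presented `O_X`-module whose stalk at `x` is free is free in a neighbourhood of `x`.
-/

set_option autoImplicit false
universe u

open CategoryTheory CategoryTheory.Limits AlgebraicGeometry TopologicalSpace Opposite

namespace Groth.Agent.Lib.LocFreeFP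

open Groth.Agent.Lib.ModStalk Groth.Agent.Lib.ModStalkLin Groth.Agent.Lib.FreeModSch
  Groth.Agent.Lib.FreeModStalk Groth.Agent.Lib.FinLocFree Groth.Agent.Lib.PerfectLocal
  Groth.Agent.Lib.LocFreeCrit Groth.Agent.Lib.RestrictStalk Groth.Agent.Lib.ModStalkIso
  Groth.Agent.Lib.LocFreePres

variable {X : Scheme.{u}}

/-- Exactness of a short complex of `O_X`-modules gives exactness on stalks. -/
theorem function_exact_stalkLin {A B C : X.Modules} (f : A ⟶ B) (g : B ⟶ C) (h : f ≫ g = 0)
    (hex : (ShortComplex.mk f g h).Exact) (y : X) :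
    Function.Exact (stalkLin f y) (stalkLin g y) := by
  have h1 := hex.map (stalkFunctor y)
  exact (ShortComplex.ab_exact_iff_function_exact _).mp h1

/-- Step 3: with compatible maps `a`, `b` between the two "presentations" such that
`a ≫ b = 𝟙`, the map `g` is an isomorphism near any point where it is injective on the stalk. -/
theorem locFreeAt_of_split {F G H M : X.Modules} {n p : ℕ} (eF : F ≅ FlatMod.freeMod X n)
    (qH : FlatMod.freeMod X p ⟶ H) [Epi qH] (g : F ⟶ M) (π : G ⟶ M) (ρ : H ⟶ G)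
    (hρπ : ρ ≫ π = 0) (hex : (ShortComplex.mk ρ π hρπ).Exact) [Epi π]
    (a : F ⟶ G) (b : G ⟶ F) (ha : a ≫ π = g) (hb : b ≫ g = π) (hab : a ≫ b = 𝟙 F)
    (x : X) (hinj : Function.Injective (stalkLin g x)) : LocFreeAt M x n := by
  have hge : Epi g := epi_of_epi_fac hb
  let c : H ⟶ kernel g := kernel.lift g (ρ ≫ b) (by rw [Category.assoc, hb, hρπ])
  have hc : Epi c := by
    apply epi_of_stalk_surjective
    intro y ζ
    let k := stalkLin (kernel.ι g) y ζ
    have hk : stalkLin g y k = 0 := by
      have h0 : stalkLin (kernel.ι g ≫ g) y = 0 := by rw [kernel.condition, stalkLin_zero]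
      rw [stalkLin_comp] at h0
      exact LinearMap.congr_fun h0 ζ
    have hak : stalkLin π y (stalkLin a y k) = 0 := by
      rw [← LinearMap.comp_apply, ← stalkLin_comp, ha, hk]
    obtain ⟨w, hw⟩ := (function_exact_stalkLin ρ π hρπ hex y _).mp hak
    refine ⟨w, ?_⟩
    apply stalkLin_injective_of_mono (kernel.ι g) y
    change stalkLin (kernel.ι g) y (stalkLin c y w) = k
    rw [← LinearMap.comp_apply, ← stalkLin_comp, kernel.lift_ι, stalkLin_comp,
      LinearMap.comp_apply, hw, ← LinearMap.comp_apply, ← stalkLin_comp, hab, stalkLin_id,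
      LinearMap.id_apply]
  have hqc : Epi (qH ≫ c) := epi_comp _ _
  obtain ⟨V, hxV, hzero⟩ := exists_isZero_restrict_of_epi (qH ≫ c) x
    (subsingleton_stalk_kernel g x hinj)
  have hcz : IsZero ((cokernel g).restrict V.ι) :=
    (Scheme.Modules.restrictFunctor V.ι).map_isZero (isZero_cokernel_of_epi g)
  have hiso := isIso_restrict_map g V.ι hzero hcz
  exact locFreeAt_of_restrict_iso V hxV
    ((asIso ((Scheme.Modules.restrictFunctor V.ι).map g)).symm ≪≫
      (Scheme.Modules.restrictFunctor V.ι).mapIso eF ≪≫ restrictFreeModIso V.ι n)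

/-- A morphism out of a quotient of `O_X^n` which vanishes on the stalk at `x` vanishes on a
neighbourhood of `x`. -/
theorem exists_restrict_map_eq_zero {F N : X.Modules} {n : ℕ} (q : FlatMod.freeMod X n ⟶ F)
    [Epi q] (φ : F ⟶ N) (x : X) (h : stalkLin φ x = 0) :
    ∃ V : X.Opens, x ∈ V ∧ (Scheme.Modules.restrictFunctor V.ι).map φ = 0 := by
  have hsub : Subsingleton ((Abelian.image φ).presheaf.stalk x) := by
    refine ⟨fun a b => ?_⟩
    have key : ∀ c : (Abelian.image φ).presheaf.stalk x, c = 0 := by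
      intro c
      obtain ⟨ζ, rfl⟩ := stalkLin_surjective_of_epi (Abelian.factorThruImage φ) x c
      apply stalkLin_injective_of_mono (Abelian.image.ι φ) x
      rw [map_zero, ← LinearMap.comp_apply, ← stalkLin_comp, Abelian.image.fac, h]
      rfl
    rw [key a, key b]
  have hq : Epi (q ≫ Abelian.factorThruImage φ) := epi_comp _ _
  obtain ⟨V, hxV, hzero⟩ := exists_isZero_restrict_of_epi (q ≫ Abelian.factorThruImage φ) x hsub
  refine ⟨V, hxV, ?_⟩
  rw [← Abelian.image.fac φ, Functor.map_comp]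
  have h0 : (Scheme.Modules.restrictFunctor V.ι).map (Abelian.factorThruImage φ) = 0 :=
    hzero.eq_of_tgt _ _
  rw [h0, zero_comp]

/-- **Core of the local freeness criterion.** If `M` has a global finite presentation
`O^p ⟶ O^m ⟶ M ⟶ 0` and `g : O^n ⟶ M` is bijective on the stalk at `x`, then `M` is free of
rank `n` near `x`. -/
theorem locFreeAt_of_presentation {M : X.Modules} {n m p : ℕ}
    (g : FlatMod.freeMod X n ⟶ M) (π : FlatMod.freeMod X m ⟶ M) [Epi π]
    (ρ : FlatMod.freeMod X p ⟶ FlatMod.freeMod X m) (hρπ : ρ ≫ π = 0)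
    (hex : (ShortComplex.mk ρ π hρπ).Exact) (x : X)
    (hbij : Function.Bijective (stalkLin g x)) : LocFreeAt M x n := by
  obtain ⟨V1, hxV1, hV1⟩ := exists_lift_freeMod_of_le' π x (stalkLin_surjective_of_epi π x) g
  obtain ⟨V2, hxV2, hV2⟩ := exists_lift_freeMod_of_le' g x hbij.2 π
  let V : X.Opens := V1 ⊓ V2
  have hxV : x ∈ V := ⟨hxV1, hxV2⟩
  obtain ⟨a, ha⟩ := hV1 V.ι (by rw [Scheme.Opens.opensRange_ι]; exact inf_le_left)
  obtain ⟨b, hb⟩ := hV2 V.ι (by rw [Scheme.Opens.opensRange_ι]; exact inf_le_right)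
  let R := Scheme.Modules.restrictFunctor V.ι
  let u : R.obj (FlatMod.freeMod X n) ⟶ R.obj (FlatMod.freeMod X n) := a ≫ b - 𝟙 _
  have hu : u ≫ R.map g = 0 := by
    rw [Preadditive.sub_comp, Category.assoc, hb, ha, Category.id_comp, sub_self]
  have hinj : Function.Injective (stalkLin (R.map g) ⟨x, hxV⟩) :=
    (stalkLin_restrict_injective_iff V.ι ⟨x, hxV⟩ g).mpr hbij.1
  have hu0 : stalkLin u ⟨x, hxV⟩ = 0 := by
    apply LinearMap.ext
    intro ζ
    apply hinj
    rw [← LinearMap.comp_apply, ← stalkLin_comp, hu, stalkLin_zero]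
    simp
  obtain ⟨V3, hxV3, hV3⟩ :=
    exists_restrict_map_eq_zero (restrictFreeModIso V.ι n).inv u ⟨x, hxV⟩ hu0
  let R3 := Scheme.Modules.restrictFunctor V3.ι
  have hab : R3.map a ≫ R3.map b = 𝟙 _ := by
    have h0 : R3.map (a ≫ b - 𝟙 _) = 0 := hV3
    rw [Functor.map_sub, Functor.map_comp, CategoryTheory.Functor.map_id, sub_eq_zero] at h0
    exact h0
  apply LocFreeAt.of_restrict V hxV
  apply LocFreeAt.of_restrict V3 hxV3
  have hqH : Epi ((restrictFreeModIso V3.ι p).inv ≫ R3.map (restrictFreeModIso V.ι p).inv) :=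
    inferInstance
  have hπ' : Epi (R3.map (R.map π)) := inferInstance
  have hρπ' : R3.map (R.map ρ) ≫ R3.map (R.map π) = 0 := by
    rw [← Functor.map_comp, ← Functor.map_comp, hρπ, Functor.map_zero, Functor.map_zero]
  have hex' : (ShortComplex.mk (R3.map (R.map ρ)) (R3.map (R.map π)) hρπ').Exact :=
    (hex.map R).map R3
  refine locFreeAt_of_split (R3.mapIso (restrictFreeModIso V.ι n) ≪≫ restrictFreeModIso V3.ι n)
    ((restrictFreeModIso V3.ι p).inv ≫ R3.map (restrictFreeModIso V.ι p).inv)
    (R3.map (R.map g)) (R3.map (R.map π)) (R3.map (R.map ρ)) hρπ' hex' (R3.map a) (R3.map b)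
    ?_ ?_ hab ⟨⟨x, hxV⟩, hxV3⟩ ?_
  · rw [← Functor.map_comp, ha]
  · rw [← Functor.map_comp, hb]
  · exact (stalkLin_restrict_injective_iff V3.ι ⟨⟨x, hxV⟩, hxV3⟩ (R.map g)).mpr hinj

/-- A basis of the stalk `M_x` extends to sections over a neighbourhood `W` of `x` such that the
induced map `O_W^n ⟶ M|_W` is bijective on the stalk at `x`. -/
theorem exists_bijective_ofSections (M : X.Modules) (x : X) {n : ℕ}
    (bas : Module.Basis (Fin n) (X.presheaf.stalk x) (M.presheaf.stalk x)) :
    ∃ (W : X.Opens) (hxW : x ∈ W) (t : Fin n → Γ(M.restrict W.ι, ⊤)),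
      Function.Bijective (stalkLin (ofSections (M.restrict W.ι) t) ⟨x, hxW⟩) := by
  choose U hxU s hs using fun i => TopCat.Presheaf.exists_germ_eq M.presheaf (bas i)
  let W : X.Opens := ⨅ i, U i
  have hxW : x ∈ W := by
    rw [← SetLike.mem_coe, Opens.coe_iInf]
    exact Set.mem_iInter.mpr hxU
  have hle : ∀ i, W.ι ''ᵁ ⊤ ≤ U i := fun i => by
    rw [Scheme.Opens.ι_image_top]
    exact iInf_le U i
  let t : Fin n → Γ(M.restrict W.ι, ⊤) := fun i => M.presheaf.map (homOfLE (hle i)).op (s i)
  have key : ∀ i, restrictStalkAddEquiv W.ι M ⟨x, hxW⟩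
      ((M.restrict W.ι).presheaf.germ ⊤ ⟨x, hxW⟩ trivial (t i)) = bas i := by
    intro i
    rw [restrictStalkAddEquiv_germ, ← hs i]
    exact TopCat.Presheaf.germ_res_apply M.presheaf (homOfLE (hle i)) x _ (s i)
  have hfun : (fun i => restrictStalkAddEquiv W.ι M ⟨x, hxW⟩
      ((M.restrict W.ι).presheaf.germ ⊤ ⟨x, hxW⟩ trivial (t i))) = fun i => bas i := funext key
  refine ⟨W, hxW, t, bijective_stalkLin_ofSections t ⟨x, hxW⟩ ?_ ?_⟩
  · rw [linearIndependent_restrict_iff W.ι M ⟨x, hxW⟩, hfun]
    exact bas.linearIndependent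
  · rw [span_restrict_eq_top_iff W.ι M ⟨x, hxW⟩, hfun]
    exact bas.span_eq

/-- On a scheme where `N` has a global finite presentation, a basis of the stalk at `x` spreads
out: `N` is free near `x`. -/
theorem locFreeAt_of_presentation_of_basis {N : X.Modules} (P : N.Presentation) [P.IsFinite]
    (x : X) {n : ℕ} (bas : Module.Basis (Fin n) (X.presheaf.stalk x) (N.presheaf.stalk x)) :
    LocFreeAt N x n := by
  obtain ⟨W, hxW, t, hbij⟩ := exists_bijective_ofSections N x bas
  have hP' := Groth.Agent.Lib.H90OXModAffine.isFinite_presentationRestrict W.ι P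
  obtain ⟨m, p, π, hπ, ρ, hρπ, hex⟩ :=
    exists_maps_of_presentation (Scheme.Modules.presentationRestrict W.ι P)
  apply LocFreeAt.of_restrict W hxW
  exact locFreeAt_of_presentation (ofSections _ t) π ρ hρπ hex ⟨x, hxW⟩ hbij

/-- The stalks of a module with a global finite presentation are finitely presented. -/
theorem finitePresentation_stalk_of_presentation {N : X.Modules} (P : N.Presentation)
    [P.IsFinite] (x : X) :
    Module.FinitePresentation (X.presheaf.stalk x) (N.presheaf.stalk x) := by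
  obtain ⟨m, p, π, hπ, ρ, hρπ, hex⟩ := exists_maps_of_presentation P
  have hsurj := stalkLin_surjective_of_epi π x
  have hexact := function_exact_stalkLin ρ π hρπ hex x
  have hfpm : Module.FinitePresentation (X.presheaf.stalk x)
      ((FlatMod.freeMod X m).presheaf.stalk x) := Module.finitePresentation_of_projective _ _
  refine Module.finitePresentation_of_surjective (stalkLin π x) hsurj ?_
  rw [LinearMap.exact_iff.mp hexact, LinearMap.range_eq_map]
  exact Submodule.FG.map _ Module.Finite.fg_top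

/-- **Local freeness criterion.** A finitely presented module whose stalk at `x` is free is free
of finite rank near `x`. -/
theorem exists_locFreeAt_of_isFP_of_free (M : X.Modules) (hM : CohB1.IsFP M) (x : X)
    (hfree : Module.Free (X.presheaf.stalk x) (M.presheaf.stalk x)) : ∃ n, LocFreeAt M x n := by
  obtain ⟨W, hxW, P, hP⟩ := exists_finite_presentation_restrict M hM x
  have hfree' : Module.Free (W.toScheme.presheaf.stalk ⟨x, hxW⟩)
      ((M.restrict W.ι).presheaf.stalk ⟨x, hxW⟩) :=
    (free_restrict_iff W.ι M ⟨x, hxW⟩).mpr hfree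
  have hfp := finitePresentation_stalk_of_presentation P ⟨x, hxW⟩
  have hfin : Module.Finite (W.toScheme.presheaf.stalk ⟨x, hxW⟩)
      ((M.restrict W.ι).presheaf.stalk ⟨x, hxW⟩) := inferInstance
  let bas := Module.finBasis (W.toScheme.presheaf.stalk ⟨x, hxW⟩)
      ((M.restrict W.ι).presheaf.stalk ⟨x, hxW⟩)
  exact ⟨_, LocFreeAt.of_restrict W hxW (locFreeAt_of_presentation_of_basis P ⟨x, hxW⟩ bas)⟩

/-- **Local freeness criterion, flat form.** A finitely presented module whose stalk at `x` is
flat is free of finite rank near `x`. -/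
theorem exists_locFreeAt_of_isFP_of_flat (M : X.Modules) (hM : CohB1.IsFP M) (x : X)
    (hflat : Module.Flat (X.presheaf.stalk x) (M.presheaf.stalk x)) : ∃ n, LocFreeAt M x n := by
  obtain ⟨W, hxW, P, hP⟩ := exists_finite_presentation_restrict M hM x
  have hflat' : Module.Flat (W.toScheme.presheaf.stalk ⟨x, hxW⟩)
      ((M.restrict W.ι).presheaf.stalk ⟨x, hxW⟩) :=
    (flat_restrict_iff W.ι M ⟨x, hxW⟩).mpr hflat
  have hfp := finitePresentation_stalk_of_presentation P ⟨x, hxW⟩
  have hfin : Module.Finite (W.toScheme.presheaf.stalk ⟨x, hxW⟩)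
      ((M.restrict W.ι).presheaf.stalk ⟨x, hxW⟩) := inferInstance
  have hfree' : Module.Free (W.toScheme.presheaf.stalk ⟨x, hxW⟩)
      ((M.restrict W.ι).presheaf.stalk ⟨x, hxW⟩) := Module.free_of_flat_of_isLocalRing
  let bas := Module.finBasis (W.toScheme.presheaf.stalk ⟨x, hxW⟩)
      ((M.restrict W.ι).presheaf.stalk ⟨x, hxW⟩)
  exact ⟨_, LocFreeAt.of_restrict W hxW (locFreeAt_of_presentation_of_basis P ⟨x, hxW⟩ bas)⟩

/-- The stalks of a module which is free of finite rank near `x` are free. -/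
theorem free_stalk_of_locFreeAt {M : X.Modules} {x : X} {n : ℕ} (h : LocFreeAt M x n) :
    Module.Free (X.presheaf.stalk x) (M.presheaf.stalk x) := by
  obtain ⟨U, hxU, ⟨e⟩⟩ := h.exists_restrict_iso
  have h1 : Module.Free (U.toScheme.presheaf.stalk ⟨x, hxU⟩)
      ((M.restrict U.ι).presheaf.stalk ⟨x, hxU⟩) :=
    Module.Free.of_equiv (stalkLinEquiv e ⟨x, hxU⟩).symm
  exact (free_restrict_iff U.ι M ⟨x, hxU⟩).mp h1

/-- The stalks of a finite locally free module are free. -/
theorem free_stalk_of_isFinLocFree {M : X.Modules} (h : FlatMod.IsFinLocFree M) (x : X) :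
    Module.Free (X.presheaf.stalk x) (M.presheaf.stalk x) := by
  obtain ⟨U, n, hxU, ⟨e⟩⟩ := h x
  exact free_stalk_of_locFreeAt (locFreeAt_of_restrict_iso U hxU e)

/-- A finitely presented module with free stalks is finite locally free. -/
theorem isFinLocFree_of_isFP_of_free (M : X.Modules) (hM : CohB1.IsFP M)
    (hfree : ∀ x : X, Module.Free (X.presheaf.stalk x) (M.presheaf.stalk x)) :
    FlatMod.IsFinLocFree M :=
  isFinLocFree_of_forall_locFreeAt fun x => exists_locFreeAt_of_isFP_of_free M hM x (hfree x)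

/-- A finitely presented flat module is finite locally free. -/
theorem isFinLocFree_of_isFP_of_flat (M : X.Modules) (hM : CohB1.IsFP M)
    (hflat : FlatMod.IsFlat M) : FlatMod.IsFinLocFree M :=
  isFinLocFree_of_forall_locFreeAt fun x => exists_locFreeAt_of_isFP_of_flat M hM x (hflat x)

end Groth.Agent.Lib.LocFreeFP
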