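import Groth.Agent.Lib.FibreFree88
import Groth.Agent.Lib.LocFreeFP

/-!
# Fibrewise freeness for finitely presented `O_X`-modules (helper88)

* `finitePresentation_of_semilinear_addEquiv`: finite presentation transports along a semilinear
  additive equivalence over a ring isomorphism.
* `finitePresentation_stalk_of_isFP`: stalks of finitely presented `O_X`-modules are finitely
  presented.
* `exists_free_nhd_of_flatOver_of_fibre_flat`: `F` finitely presented, flat over `S` at `x`, with
  `F_x / m_s F_x` flat over `O_{X,x} / m_s O_{X,x}`: then `F` is free of finite rank near `x`.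
-/

set_option autoImplicit false
set_option maxHeartbeats 400000
set_option linter.style.haveILetI false

universe u

namespace Groth.Agent.Lib.FibreFreeSch88

open TensorProduct Function

theorem finitePresentation_of_semilinear_addEquiv {R S M N : Type*} [CommRing R] [CommRing S]
    [AddCommGroup M] [AddCommGroup N] [Module R M] [Module S N] (e : R ≃+* S) (φ : M ≃+ N)
    (hφ : ∀ (r : R) (m : M), φ (r • m) = e r • φ m) [Module.FinitePresentation R M] :
    Module.FinitePresentation S N := by
  letI : Algebra R S := e.toRingHom.toAlgebra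
  letI : Module R N := Module.compHom N e.toRingHom
  haveI : IsScalarTower R S N := ⟨fun r s n => by
    change (e r * s) • n = e r • (s • n)
    rw [mul_smul]⟩
  let φR : M →ₗ[R] N :=
    { toFun := φ
      map_add' := map_add φ
      map_smul' := fun r m => hφ r m }
  refine FinitePresentation.of_isBaseChange φR ?_
  let l : S ⊗[R] M →ₗ[S] N := (TensorProduct.isBaseChange R M S).lift φR
  have hl : ∀ (s : S) (m : M), l (s ⊗ₜ m) = s • φ m := by
    intro s m
    have h0 : s ⊗ₜ[R] m = s • ((1 : S) ⊗ₜ[R] m) := by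
      rw [TensorProduct.smul_tmul', smul_eq_mul, mul_one]
    rw [h0, map_smul]
    congr 1
    exact (TensorProduct.isBaseChange R M S).lift_eq φR m
  have hone : ∀ x : S ⊗[R] M, ∃ m : M, x = (1 : S) ⊗ₜ[R] m := by
    intro x
    induction x with
    | zero => exact ⟨0, by simp⟩
    | add a b ha hb =>
      obtain ⟨m, rfl⟩ := ha
      obtain ⟨m', rfl⟩ := hb
      exact ⟨m + m', by rw [tmul_add]⟩
    | tmul s m =>
      refine ⟨e.symm s • m, ?_⟩
      rw [← TensorProduct.smul_tmul, Algebra.smul_def, mul_one]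
      congr 1
      exact (e.apply_symm_apply s).symm
  have hbij : Bijective l := by
    constructor
    · intro x y hxy
      obtain ⟨m, rfl⟩ := hone x
      obtain ⟨m', rfl⟩ := hone y
      rw [hl, hl, one_smul, one_smul] at hxy
      rw [φ.injective hxy]
    · intro n
      exact ⟨(1 : S) ⊗ₜ[R] φ.symm n, by rw [hl, one_smul, φ.apply_symm_apply]⟩
  exact IsBaseChange.of_equiv (LinearEquiv.ofBijective l hbij) (fun m => by
    rw [LinearEquiv.ofBijective_apply, hl, one_smul]
    rfl)

open CategoryTheory CategoryTheory.Limits AlgebraicGeometry TopologicalSpace Opposite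
open Groth.Agent.Lib.ModStalk Groth.Agent.Lib.ModStalkLin Groth.Agent.Lib.FreeModSch
  Groth.Agent.Lib.FreeModStalk Groth.Agent.Lib.FinLocFree Groth.Agent.Lib.PerfectLocal
  Groth.Agent.Lib.LocFreeCrit Groth.Agent.Lib.RestrictStalk Groth.Agent.Lib.ModStalkIso
  Groth.Agent.Lib.LocFreePres Groth.Agent.Lib.LocFreeFP

theorem finitePresentation_stalk_of_isFP {X : Scheme.{u}} (M : X.Modules) (hM : CohB1.IsFP M)
    (x : X) : Module.FinitePresentation (X.presheaf.stalk x) (M.presheaf.stalk x) := by
  obtain ⟨W, hxW, P, hP⟩ := exists_finite_presentation_restrict M hM x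
  let y : W.toScheme := ⟨x, hxW⟩
  have hfp := finitePresentation_stalk_of_presentation P y
  exact finitePresentation_of_semilinear_addEquiv (stalkRingEquiv W.ι y).symm
    (restrictStalkAddEquiv W.ι M y) (restrictStalkAddEquiv_smul' W.ι M y)

theorem exists_free_nhd_of_flatOver_of_fibre_flat {X S : Scheme.{u}} (f : X ⟶ S)
    (F : X.Modules) (hFp : CohB1.IsFP F) (x : X) (h1 : FlatMod.IsFlatOverAt f F x)
    (h2 : Module.Flat (↑(X.presheaf.stalk x) ⧸ Ideal.map (f.stalkMap x).hom (IsLocalRing.maximalIdeal ↑(S.presheaf.stalk (f x))))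
      (↑(F.presheaf.stalk x) ⧸ (Ideal.map (f.stalkMap x).hom (IsLocalRing.maximalIdeal ↑(S.presheaf.stalk (f x))) • (⊤ : Submodule ↑(X.presheaf.stalk x) ↑(F.presheaf.stalk x))))) :
    ∃ (U : X.Opens) (n : ℕ), x ∈ U ∧ Nonempty (F.restrict U.ι ≅ FlatMod.freeMod (↑U) n) := by
  letI : Algebra (S.presheaf.stalk (f x)) (X.presheaf.stalk x) := (f.stalkMap x).hom.toAlgebra
  letI := FlatMod.moduleStalkOver f F x
  haveI : IsScalarTower (S.presheaf.stalk (f x)) (X.presheaf.stalk x) (F.presheaf.stalk x) :=
    IsScalarTower.of_algebraMap_smul (fun _ _ => rfl)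
  haveI := finitePresentation_stalk_of_isFP F hFp x
  haveI : Module.Flat (S.presheaf.stalk (f x)) (F.presheaf.stalk x) := h1
  set I : Ideal (X.presheaf.stalk x) :=
    (IsLocalRing.maximalIdeal (S.presheaf.stalk (f x))).map
      (algebraMap (S.presheaf.stalk (f x)) (X.presheaf.stalk x)) with hI
  have hIle : I ≤ IsLocalRing.maximalIdeal (X.presheaf.stalk x) :=
    IsLocalRing.map_maximalIdeal_le (f.stalkMap x).hom
  let e0 := TensorProduct.quotTensorEquivQuotSMul (F.presheaf.stalk x) I
  let e1 : ((X.presheaf.stalk x) ⧸ I) ⊗[X.presheaf.stalk x] (F.presheaf.stalk x) ≃ₗ[(X.presheaf.stalk x) ⧸ I]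
      (F.presheaf.stalk x) ⧸ (I • (⊤ : Submodule (X.presheaf.stalk x) (F.presheaf.stalk x))) :=
    LinearEquiv.extendScalarsOfSurjective Ideal.Quotient.mk_surjective e0
  haveI : Module.Flat ((X.presheaf.stalk x) ⧸ I)
      (((X.presheaf.stalk x) ⧸ I) ⊗[X.presheaf.stalk x] (F.presheaf.stalk x)) :=
    Module.Flat.of_linearEquiv e1
  have hfree : Module.Free (X.presheaf.stalk x) (F.presheaf.stalk x) :=
    Groth.Agent.Lib.FibreFree88.free_of_flat_of_fibre_flat
      (A := S.presheaf.stalk (f x)) (R := X.presheaf.stalk x) (N := F.presheaf.stalk x)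
      (IsLocalRing.maximalIdeal (S.presheaf.stalk (f x))) hIle
  obtain ⟨n, hn⟩ := exists_locFreeAt_of_isFP_of_free F hFp x hfree
  obtain ⟨U, hxU, hU⟩ := hn.exists_restrict_iso
  exact ⟨U, n, hxU, hU⟩

end Groth.Agent.Lib.FibreFreeSch88
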