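import Groth.Agent.Lib.CritFibE88
import Groth.Agent.Lib.CritFibC88
import Groth.Agent.Lib.FibreFreeSch88

/-!
# Relative flatness descends from arbitrary base change: character form (helper64)

`A → B → C`, `B` of finite type and `C` of finite presentation over `A`, `M` a finitely presented
`C`-module, `γ : C → L` a character to a field, `A → A'` any `A`-algebra through which `A → L`
factors. `core`: if `M_{ker γ}` is flat over `A` and `(A' ⊗ M)_{ker χ}` is flat over `A' ⊗ B`
(`χ = chi γ A' : A' ⊗ C → L`), then `M_{ker γ}` is flat over `B`  (EGA IV 11.3.10-type statement,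
via helper88's critère de platitude par fibres `CritFibE88.flat_of_fibre_ft` and stage calculus).
-/

set_option autoImplicit false
set_option maxHeartbeats 400000
set_option linter.style.haveILetI false
set_option linter.unusedSectionVars false

open TensorProduct Function
open Groth.Agent.Lib.FlatLimStage88 Groth.Agent.Lib.FlatLimGlobal88 Groth.Agent.Lib.CritFibA88
  Groth.Agent.Lib.CritFibB88 Groth.Agent.Lib.CritFibC88
universe u

namespace Groth.Agent.Lib.RelFlatBC64

/-- The standard algebra structure on a localization at a prime (declared before the scoped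
stage instances are opened, to pin down the instance). -/
@[reducible] noncomputable def algLoc {S : Type*} [CommRing S] (Q : Ideal S) [Q.IsPrime] :
    Algebra S (Localization.AtPrime Q) := inferInstance

end Groth.Agent.Lib.RelFlatBC64

open scoped Groth.Agent.Lib.FlatLimStage88 Groth.Agent.Lib.CritFibB88

namespace Groth.Agent.Lib.RelFlatBC64

section Chi

variable {A C L : Type u} [CommRing A] [CommRing C] [Algebra A C] [Field L] [Algebra A L]
  (γ : C →ₐ[A] L)

/-- The character `X ⊗ C → L` attached to `X → L` and `γ : C → L`. -/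
noncomputable def chi (X : Type u) [CommRing X] [Algebra A X] [Algebra X L] [IsScalarTower A X L] :
    X ⊗[A] C →ₐ[X] L :=
  Algebra.TensorProduct.lift (Algebra.ofId X L) γ (fun _ _ => Commute.all _ _)

theorem chi_tmul (X : Type u) [CommRing X] [Algebra A X] [Algebra X L] [IsScalarTower A X L]
    (x : X) (c : C) : chi γ X (x ⊗ₜ[A] c) = algebraMap X L x * γ c := by
  rw [chi, Algebra.TensorProduct.lift_tmul]
  rfl

theorem chi_sMap (X Y : Type u) [CommRing X] [Algebra A X] [Algebra X L] [IsScalarTower A X L]
    [CommRing Y] [Algebra A Y] [Algebra Y L] [IsScalarTower A Y L] [Algebra X Y]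
    [IsScalarTower A X Y] [IsScalarTower X Y L] (z : X ⊗[A] C) :
    chi γ Y (sMap (IsScalarTower.toAlgHom A X Y) C z) = chi γ X z := by
  induction z with
  | zero => simp
  | add x y hx hy => simp only [map_add, hx, hy]
  | tmul x c =>
    rw [sMap_tmul, chi_tmul, chi_tmul, IsScalarTower.coe_toAlgHom',
      ← IsScalarTower.algebraMap_apply]

theorem comap_ker_chi (X Y : Type u) [CommRing X] [Algebra A X] [Algebra X L] [IsScalarTower A X L]
    [CommRing Y] [Algebra A Y] [Algebra Y L] [IsScalarTower A Y L] [Algebra X Y]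
    [IsScalarTower A X Y] [IsScalarTower X Y L] :
    (RingHom.ker (chi γ Y)).comap (sMap (IsScalarTower.toAlgHom A X Y) C) =
      RingHom.ker (chi γ X) := by
  ext z
  rw [Ideal.mem_comap, RingHom.mem_ker, RingHom.mem_ker, chi_sMap]

theorem comap_includeRight_ker_chi (X : Type u) [CommRing X] [Algebra A X] [Algebra X L]
    [IsScalarTower A X L] :
    (RingHom.ker (chi γ X)).comap (Algebra.TensorProduct.includeRight : C →ₐ[A] X ⊗[A] C) =
      RingHom.ker γ := by
  ext c
  rw [Ideal.mem_comap, RingHom.mem_ker, RingHom.mem_ker, Algebra.TensorProduct.includeRight_apply,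
    chi_tmul, map_one, one_mul]

instance ker_chi_isPrime (X : Type u) [CommRing X] [Algebra A X] [Algebra X L]
    [IsScalarTower A X L] : (RingHom.ker (chi γ X)).IsPrime := RingHom.ker_isPrime _

instance ker_gamma_isPrime : (RingHom.ker γ).IsPrime := RingHom.ker_isPrime _

end Chi

end Groth.Agent.Lib.RelFlatBC64

namespace Groth.Agent.Lib.RelFlatBC64

section FP

variable {k C₀ M₀ : Type u} [CommRing k] [CommRing C₀] [Algebra k C₀]
  [AddCommGroup M₀] [Module C₀ M₀] [Module k M₀] [IsScalarTower k C₀ M₀]

set_option synthInstance.maxHeartbeats 400000 in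
theorem finitePresentation_stage_of_le (B₀ : Type u) [CommRing B₀] [Algebra k B₀] [Algebra B₀ C₀]
    [IsScalarTower k B₀ C₀] [Module B₀ M₀] [IsScalarTower B₀ C₀ M₀] [IsScalarTower k B₀ M₀]
    (X Y : Type u) [CommRing X] [CommRing Y] [Algebra k X]
    [Algebra k Y] [Algebra X Y] [IsScalarTower k X Y]
    [Module.FinitePresentation (X ⊗[k] C₀) (X ⊗[k] M₀)] :
    Module.FinitePresentation (Y ⊗[k] C₀) (Y ⊗[k] M₀) := by
  pair_setup
  exact FinitePresentation.of_isBaseChange ψ hψ

theorem finitePresentation_stage_self [Module.FinitePresentation C₀ M₀] :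
    Module.FinitePresentation (k ⊗[k] C₀) (k ⊗[k] M₀) := by
  refine Groth.Agent.Lib.FibreFreeSch88.finitePresentation_of_semilinear_addEquiv
    (Algebra.TensorProduct.lid k C₀).symm.toRingEquiv (TensorProduct.lid k M₀).symm.toAddEquiv
    (fun c m => ?_)
  change (1 : k) ⊗ₜ[k] (c • m) = ((1 : k) ⊗ₜ[k] c) • ((1 : k) ⊗ₜ[k] m)
  rw [tmul_smul_tmul, one_mul]

theorem finitePresentation_stage (X : Type u) [CommRing X] [Algebra k X]
    [Module.FinitePresentation C₀ M₀] :
    Module.FinitePresentation (X ⊗[k] C₀) (X ⊗[k] M₀) := by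
  haveI := finitePresentation_stage_self (k := k) (C₀ := C₀) (M₀ := M₀)
  exact finitePresentation_stage_of_le C₀ k X

end FP

end Groth.Agent.Lib.RelFlatBC64

namespace Groth.Agent.Lib.RelFlatBC64

section Lid

variable {k B₀ C₀ M₀ : Type u} [CommRing k] [CommRing B₀] [CommRing C₀]
  [Algebra k B₀] [Algebra B₀ C₀] [Algebra k C₀] [IsScalarTower k B₀ C₀]
  [AddCommGroup M₀] [Module C₀ M₀] [Module B₀ M₀] [Module k M₀]
  [IsScalarTower B₀ C₀ M₀] [IsScalarTower k C₀ M₀] [IsScalarTower k B₀ M₀]

set_option synthInstance.maxHeartbeats 400000 in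
/-- Flatness at the trivial stage `k ⊗[k] -` is flatness of the original data. -/
theorem flat_of_stage_self (Q : Ideal C₀) [Q.IsPrime] (QA : Ideal (k ⊗[k] C₀)) [QA.IsPrime]
    (hQ : QA.comap (Algebra.TensorProduct.includeRight : C₀ →ₐ[k] k ⊗[k] C₀) = Q)
    (h : Module.Flat (k ⊗[k] B₀) (LocalizedModule QA.primeCompl (k ⊗[k] M₀))) :
    Module.Flat B₀ (LocalizedModule Q.primeCompl M₀) := by
  let e : k ⊗[k] C₀ ≃+* C₀ := (Algebra.TensorProduct.lid k C₀).toRingEquiv
  let β : k ⊗[k] B₀ ≃+* B₀ := (Algebra.TensorProduct.lid k B₀).toRingEquiv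
  have he : ∀ (a : k) (c : C₀), e (a ⊗ₜ[k] c) = a • c := fun a c => rfl
  have hβ : ∀ (a : k) (b : B₀), β (a ⊗ₜ[k] b) = a • b := fun a b => rfl
  have hQA : Q.comap e = QA := by
    subst hQ
    ext z
    rw [Ideal.mem_comap, Ideal.mem_comap]
    have : (Algebra.TensorProduct.includeRight : C₀ →ₐ[k] k ⊗[k] C₀) (e z) = z := by
      induction z with
      | zero => simp
      | add x y hx hy => simp only [map_add, hx, hy]
      | tmul a c =>
        rw [he, Algebra.TensorProduct.includeRight_apply, ← TensorProduct.smul_tmul,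
          smul_eq_mul, mul_one]
    rw [this]
  letI algRC : Algebra (k ⊗[k] B₀) C₀ := ((algebraMap B₀ C₀).comp β.toRingHom).toAlgebra
  letI modRM : Module (k ⊗[k] B₀) M₀ := Module.compHom M₀ β.toRingHom
  have hsm : ∀ (r : k ⊗[k] B₀) (m : M₀), r • m = β r • m := fun _ _ => rfl
  haveI : IsScalarTower (k ⊗[k] B₀) C₀ M₀ := ⟨fun r c m => by
    rw [Algebra.smul_def, mul_smul, hsm r (c • m)]
    change (algebraMap B₀ C₀ (β r)) • (c • m) = _
    rw [algebraMap_smul]⟩
  let ε : k ⊗[k] M₀ ≃ₗ[k ⊗[k] B₀] M₀ :=
    { (TensorProduct.lid k M₀).toAddEquiv with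
      map_smul' := fun r x => by
        change TensorProduct.lid k M₀ (r • x) = β r • TensorProduct.lid k M₀ x
        induction r with
        | zero =>
          have h0 : (0 : k ⊗[k] B₀) • x = 0 := zero_smul (k ⊗[k] B₀) x
          rw [h0, map_zero, map_zero, zero_smul]
        | add r₁ r₂ h₁ h₂ => rw [add_smul, map_add, h₁, h₂, map_add, add_smul]
        | tmul a b =>
          induction x with
          | zero => rw [smul_zero, map_zero, smul_zero]
          | add x₁ x₂ h₁ h₂ => rw [smul_add, map_add, h₁, h₂, map_add, smul_add]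
          | tmul a' m =>
            rw [tmul_smul_tmul, TensorProduct.lid_tmul, TensorProduct.lid_tmul, hβ, smul_assoc,
              mul_smul, smul_comm a' b m] }
  have hε : ∀ (c : k ⊗[k] C₀) (x : k ⊗[k] M₀), ε (c • x) = e c • ε x := by
    intro c x
    change TensorProduct.lid k M₀ (c • x) = e c • TensorProduct.lid k M₀ x
    induction c with
    | zero =>
      have h0 : (0 : k ⊗[k] C₀) • x = 0 := zero_smul (k ⊗[k] C₀) x
      rw [h0, map_zero, map_zero, zero_smul]
    | add r₁ r₂ h₁ h₂ => rw [add_smul, map_add, h₁, h₂, map_add, add_smul]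
    | tmul a b =>
      induction x with
      | zero => rw [smul_zero, map_zero, smul_zero]
      | add x₁ x₂ h₁ h₂ => rw [smul_add, map_add, h₁, h₂, map_add, smul_add]
      | tmul a' m =>
        rw [Groth.Agent.Lib.FlatLimStage88.tmul_smul_tmul, TensorProduct.lid_tmul,
          TensorProduct.lid_tmul, he, smul_assoc, mul_smul, smul_comm a' b m]
  have key : ∀ (P P' : Ideal (k ⊗[k] C₀)) [P.IsPrime] [P'.IsPrime], P = P' →
      Module.Flat (k ⊗[k] B₀) (LocalizedModule P.primeCompl (k ⊗[k] M₀)) →
      Module.Flat (k ⊗[k] B₀) (LocalizedModule P'.primeCompl (k ⊗[k] M₀)) := by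
    intro P P' _ _ hPP hP
    subst hPP
    exact hP
  haveI : (Q.comap e).IsPrime := Ideal.comap_isPrime e Q
  have h' := key QA (Q.comap e) hQA.symm h
  have h1 : Module.Flat (k ⊗[k] B₀) (LocalizedModule Q.primeCompl M₀) :=
    Groth.Agent.Lib.FlatLimOpenBC88.flat_localizedModule_of_semilinearEquiv e ε hε Q h'
  refine flat_of_ringEquiv_semilinear β (AddEquiv.refl _) (fun a x => ?_) h1
  induction x using LocalizedModule.induction_on with
  | h m s =>
    change a • LocalizedModule.mk m s = β a • LocalizedModule.mk m s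
    rw [LocalizedModule.smul'_mk, LocalizedModule.smul'_mk]
    rfl

end Lid

end Groth.Agent.Lib.RelFlatBC64

namespace Groth.Agent.Lib.RelFlatBC64

section Core

variable {A B C M : Type u} [CommRing A] [CommRing B] [CommRing C]
  [Algebra A B] [Algebra B C] [Algebra A C] [IsScalarTower A B C]
  [AddCommGroup M] [Module C M] [Module B M] [Module A M]
  [IsScalarTower B C M] [IsScalarTower A C M] [IsScalarTower A B M]

set_option synthInstance.maxHeartbeats 400000 in
/-- The fibre criterion at a local stage. -/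
theorem step_local {L : Type u} [Field L] [Algebra A L] (γ : C →ₐ[A] L)
    [Algebra.FiniteType A B] [Algebra.FinitePresentation A C] [Module.FinitePresentation C M]
    (R : Type u) [CommRing R] [IsLocalRing R] [Algebra A R] [Algebra R L] [IsScalarTower A R L]
    (hker : IsLocalRing.maximalIdeal R ≤ RingHom.ker (algebraMap R L))
    (h1R : Module.Flat R (LocalizedModule (RingHom.ker (chi γ R)).primeCompl (R ⊗[A] M)))
    (s3 : Module.Flat ((R ⊗[A] B) ⧸ (IsLocalRing.maximalIdeal R).map (algebraMap R (R ⊗[A] B)))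
        (((R ⊗[A] B) ⧸ (IsLocalRing.maximalIdeal R).map (algebraMap R (R ⊗[A] B)))
          ⊗[R ⊗[A] B] LocalizedModule (RingHom.ker (chi γ R)).primeCompl (R ⊗[A] M))) :
    Module.Flat (R ⊗[A] B) (LocalizedModule (RingHom.ker (chi γ R)).primeCompl (R ⊗[A] M)) := by
  have hle : (IsLocalRing.maximalIdeal R).map (algebraMap R (R ⊗[A] C)) ≤
      RingHom.ker (chi γ R) := by
    rw [Ideal.map_le_iff_le_comap]
    intro r hr
    rw [Ideal.mem_comap, RingHom.mem_ker, AlgHom.commutes]
    exact hker hr
  haveI := finitePresentation_stage (k := A) (C₀ := C) (M₀ := M) R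
  letI := algLoc (RingHom.ker (chi γ R))
  exact Groth.Agent.Lib.CritFibE88.flat_of_fibre_ft (R := R) (B := R ⊗[A] B) (C := R ⊗[A] C)
      (T := Localization.AtPrime (RingHom.ker (chi γ R)))
      (N := LocalizedModule (RingHom.ker (chi γ R)).primeCompl (R ⊗[A] M))
      (RingHom.ker (chi γ R)) hle h1R s3

set_option synthInstance.maxHeartbeats 400000 in
/-- **Relative flatness descends from an arbitrary base change**, character form. -/
theorem core (A' L : Type u) [CommRing A'] [Field L] [Algebra A A'] [Algebra A L] [Algebra A' L]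
    [IsScalarTower A A' L] (γ : C →ₐ[A] L)
    [Algebra.FiniteType A B] [Algebra.FinitePresentation A C] [Module.FinitePresentation C M]
    (h1 : Module.Flat A (LocalizedModule (RingHom.ker γ).primeCompl M))
    (h2 : Module.Flat (A' ⊗[A] B)
      (LocalizedModule (RingHom.ker (chi γ A')).primeCompl (A' ⊗[A] M))) :
    Module.Flat B (LocalizedModule (RingHom.ker γ).primeCompl M) := by
  classical
  -- the prime of `A` and its residue field
  set p : Ideal A := RingHom.ker (algebraMap A L) with hp
  haveI : p.IsPrime := RingHom.ker_isPrime _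
  let R := Localization.AtPrime p
  let κ := p.ResidueField
  let ικ : κ →+* L := Ideal.ResidueField.lift p (algebraMap A L) le_rfl (by
    intro a ha
    rw [Submonoid.mem_comap, IsUnit.mem_submonoid_iff, isUnit_iff_ne_zero]
    exact ha)
  have hικ : ∀ a : A, ικ (algebraMap A κ a) = algebraMap A L a := fun a =>
    Ideal.ResidueField.lift_algebraMap p (algebraMap A L) le_rfl _ a
  letI algκL : Algebra κ L := ικ.toAlgebra
  haveI : IsScalarTower A κ L := IsScalarTower.of_algebraMap_eq (fun a => (hικ a).symm)
  letI algRL : Algebra R L := (ικ.comp (algebraMap R κ)).toAlgebra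
  haveI : IsScalarTower R κ L := IsScalarTower.of_algebraMap_eq (fun _ => rfl)
  haveI : IsScalarTower A R L := IsScalarTower.of_algebraMap_eq (fun a => by
    change algebraMap A L a = ικ (algebraMap R κ (algebraMap A R a))
    rw [← IsScalarTower.algebraMap_apply A R κ, hικ])
  haveI : Module.Flat κ L := inferInstance
  -- the primes
  have hs : Surjective (algebraMap R κ) := IsLocalRing.residue_surjective
  have hker : RingHom.ker (algebraMap R κ) = IsLocalRing.maximalIdeal R := IsLocalRing.ker_residue (R := R)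
  -- step 1: ascent to `L`
  have s1 : Module.Flat (L ⊗[A] B) (LocalizedModule (RingHom.ker (chi γ L)).primeCompl (L ⊗[A] M)) :=
    asc_stage A B C M A' L (RingHom.ker (chi γ L)) (RingHom.ker (chi γ A'))
      (comap_ker_chi γ A' L) h2
  -- step 2: descent to `κ`
  have s2 : Module.Flat (κ ⊗[A] B) (LocalizedModule (RingHom.ker (chi γ κ)).primeCompl (κ ⊗[A] M)) :=
    desc_stage A B C M κ L (RingHom.ker (chi γ L)) (RingHom.ker (chi γ κ))
      (comap_ker_chi γ κ L) s1
  -- step 3: the fibre over the closed point of `R`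
  have s3 := (quot_stage A B C M R κ hs (RingHom.ker (chi γ κ)) (RingHom.ker (chi γ R))
    (comap_ker_chi γ R κ)).mp s2
  rw [hker] at s3
  -- step 4: the criterion over the local ring `R`
  have h1R : Module.Flat R (LocalizedModule (RingHom.ker (chi γ R)).primeCompl (R ⊗[A] M)) :=
    flat_baseChange_at R (RingHom.ker (chi γ R)) (RingHom.ker γ)
      (comap_includeRight_ker_chi γ R) h1
  have hkerL : IsLocalRing.maximalIdeal R ≤ RingHom.ker (algebraMap R L) := by
    intro r hr
    rw [← hker, RingHom.mem_ker] at hr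
    rw [RingHom.mem_ker]
    change ικ (algebraMap R κ r) = 0
    rw [hr, map_zero]
  have s4 : Module.Flat (R ⊗[A] B)
      (LocalizedModule (RingHom.ker (chi γ R)).primeCompl (R ⊗[A] M)) :=
    step_local γ R hkerL h1R s3
  -- step 5: descent to `A`
  have s5 : Module.Flat (A ⊗[A] B)
      (LocalizedModule (RingHom.ker (chi γ A)).primeCompl (A ⊗[A] M)) :=
    desc_stage A B C M A R (RingHom.ker (chi γ R)) (RingHom.ker (chi γ A))
      (comap_ker_chi γ A R) s4
  exact flat_of_stage_self (RingHom.ker γ) (RingHom.ker (chi γ A))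
    (comap_includeRight_ker_chi γ A) s5

end Core

end Groth.Agent.Lib.RelFlatBC64
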