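import Groth.Agent.Lib.AdicFamA64
import Groth.Agent.Lib.RelFlatBC64

/-!
# Flatness tested on a family of local base changes, Noetherian base: local criterion (helper64)

`R` Noetherian, `B` a finite type `R`-algebra, `M` a finite `B`-module, `p` a prime of `B` over the
prime `q` of `R`, `O` a localization of `R` at `q`.

* `toLoc`: the local homomorphism `O → B_p`.
* `flat_localized_of_forall_quotient`: `M_p` is flat over `R` as soon as for every `n > 0` there is
  an ideal `𝔠 ≤ 𝔪_O ^ n` with `(O ⧸ 𝔠) ⊗[R] M_p` flat over `O ⧸ 𝔠` (local criterion of flatness).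
-/

set_option autoImplicit false
set_option maxHeartbeats 400000
set_option linter.style.haveILetI false
set_option linter.unusedSectionVars false
universe u

open TensorProduct Function IsLocalRing

namespace Groth.Agent.Lib.AdicFamB64

section Loc

variable {R : Type u} [CommRing R] {B : Type u} [CommRing B] [Algebra R B]
  (p : Ideal B) [p.IsPrime] (q : Ideal R) [q.IsPrime] (hq : q = p.comap (algebraMap R B))
  (O : Type u) [CommRing O] [Algebra R O] [IsLocalization.AtPrime O q]

/-- The canonical local homomorphism `O = R_q → B_p`. -/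
noncomputable def toLoc : O →+* Localization.AtPrime p :=
  (Localization.localRingHom q p (algebraMap R B) hq).comp
    ((IsLocalization.algEquiv q.primeCompl O (Localization.AtPrime q)).toRingEquiv :
      O →+* Localization.AtPrime q)

theorem toLoc_algebraMap (r : R) :
    toLoc p q hq O (algebraMap R O r) =
      algebraMap B (Localization.AtPrime p) (algebraMap R B r) := by
  unfold toLoc
  rw [RingHom.comp_apply]
  have h1 : ((IsLocalization.algEquiv q.primeCompl O (Localization.AtPrime q)).toRingEquiv :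
      O →+* Localization.AtPrime q) (algebraMap R O r) =
      algebraMap R (Localization.AtPrime q) r :=
    (IsLocalization.algEquiv q.primeCompl O (Localization.AtPrime q)).commutes r
  rw [h1, Localization.localRingHom_to_map]

instance isLocalHom_toLoc : IsLocalHom (toLoc p q hq O) := by
  unfold toLoc
  haveI : IsLocalHom (Localization.localRingHom q p (algebraMap R B) hq) :=
    Localization.isLocalHom_localRingHom _ _ _ _
  haveI : IsLocalHom ((IsLocalization.algEquiv q.primeCompl O
      (Localization.AtPrime q)).toRingEquiv : O →+* Localization.AtPrime q) :=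
    ⟨fun a ha => (isUnit_map_iff (IsLocalization.algEquiv q.primeCompl O
      (Localization.AtPrime q)).toRingEquiv a).mp ha⟩
  exact RingHom.isLocalHom_comp _ _

end Loc

section Crit

variable {R : Type u} [CommRing R] [IsNoetherianRing R]
  {B : Type u} [CommRing B] [Algebra R B] [Algebra.FiniteType R B]
  {M : Type u} [AddCommGroup M] [Module R M] [Module B M] [IsScalarTower R B M] [Module.Finite B M]
  (p : Ideal B) [p.IsPrime] (q : Ideal R) [q.IsPrime] (hq : q = p.comap (algebraMap R B))
  (O : Type u) [CommRing O] [Algebra R O] [IsLocalization.AtPrime O q]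

include q hq in
set_option synthInstance.maxHeartbeats 400000 in
/-- **Local criterion of flatness** for `M_p` over `R`, tested on quotients of `O = R_q` by ideals
contained in arbitrarily high powers of the maximal ideal. -/
theorem flat_localized_of_forall_quotient [IsLocalRing O]
    (H : ∀ n : ℕ, 0 < n → ∃ 𝔠 : Ideal O, 𝔠 ≤ maximalIdeal O ^ n ∧
      Module.Flat (O ⧸ 𝔠) ((O ⧸ 𝔠) ⊗[R] LocalizedModule p.primeCompl M)) :
    Module.Flat R (LocalizedModule p.primeCompl M) := by
  letI algOBp : Algebra O (Localization.AtPrime p) := (toLoc p q hq O).toAlgebra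
  letI modO : Module O (LocalizedModule p.primeCompl M) :=
    Module.compHom (LocalizedModule p.primeCompl M) (toLoc p q hq O)
  haveI t1 : IsScalarTower O (Localization.AtPrime p) (LocalizedModule p.primeCompl M) :=
    .of_algebraMap_smul fun _ _ => rfl
  haveI t2 : IsScalarTower R O (Localization.AtPrime p) :=
    IsScalarTower.of_algebraMap_eq fun r => by
      change _ = toLoc p q hq O (algebraMap R O r)
      rw [toLoc_algebraMap, ← IsScalarTower.algebraMap_apply]
  haveI t3 : IsScalarTower R O (LocalizedModule p.primeCompl M) :=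
    .of_algebraMap_smul fun r x => by
      change toLoc p q hq O (algebraMap R O r) • x = r • x
      rw [toLoc_algebraMap, ← IsScalarTower.algebraMap_apply, algebraMap_smul]
  haveI : IsNoetherianRing O := IsLocalization.isNoetherianRing q.primeCompl O inferInstance
  haveI : IsNoetherianRing B := Algebra.FiniteType.isNoetherianRing R B
  haveI : IsNoetherianRing (Localization.AtPrime p) :=
    IsLocalization.isNoetherianRing p.primeCompl _ inferInstance
  haveI : Module.Flat R O := IsLocalization.flat O q.primeCompl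
  suffices h : Module.Flat O (LocalizedModule p.primeCompl M) from
    Module.Flat.trans R O (LocalizedModule p.primeCompl M)
  have hI : (maximalIdeal O).map (algebraMap O (Localization.AtPrime p)) ≤ Ideal.jacobson ⊥ := by
    rw [IsLocalRing.jacobson_eq_maximalIdeal ⊥ bot_ne_top, Ideal.map_le_iff_le_comap]
    intro x hx
    rw [Ideal.mem_comap, mem_maximalIdeal, mem_nonunits_iff]
    intro hu
    have hu' : IsUnit (toLoc p q hq O x) := hu
    exact (mem_maximalIdeal x).mp hx ((isUnit_map_iff (toLoc p q hq O) x).mp hu')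
  apply Groth.Agent.Lib.FlatCrit.flat_of_flat_quotient_pow (maximalIdeal O)
  · intro 𝔞 x hx
    haveI : Module.Finite O 𝔞 := Module.Finite.of_fg ((isNoetherianRing_iff_ideal_fg O).mp inferInstance 𝔞)
    exact Groth.Agent.Lib.FlatCrit.eq_zero_of_forall_mem_pow_smul_top
      (S := Localization.AtPrime p) (maximalIdeal O) hI x hx
  · intro n hn
    obtain ⟨𝔠, h𝔠, hfl⟩ := H n hn
    haveI := IsLocalization.tensorProduct_compatibleSMul q.primeCompl O (O ⧸ 𝔠)
      (LocalizedModule p.primeCompl M)
    let e1 : (O ⧸ 𝔠) ⊗[O] LocalizedModule p.primeCompl M ≃ₗ[O ⧸ 𝔠]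
        (O ⧸ 𝔠) ⊗[R] LocalizedModule p.primeCompl M :=
      TensorProduct.equivOfCompatibleSMul R O (O ⧸ 𝔠) (O ⧸ 𝔠) (LocalizedModule p.primeCompl M)
    haveI hfl1 : Module.Flat (O ⧸ 𝔠) ((O ⧸ 𝔠) ⊗[O] LocalizedModule p.primeCompl M) :=
      Module.Flat.of_linearEquiv e1
    letI : Algebra (O ⧸ 𝔠) (O ⧸ maximalIdeal O ^ n) := (Ideal.Quotient.factor h𝔠).toAlgebra
    haveI : IsScalarTower O (O ⧸ 𝔠) (O ⧸ maximalIdeal O ^ n) :=
      IsScalarTower.of_algebraMap_eq fun x => rfl
    exact Module.Flat.of_linearEquiv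
      (AlgebraTensorModule.cancelBaseChange O (O ⧸ 𝔠) (O ⧸ maximalIdeal O ^ n)
        (O ⧸ maximalIdeal O ^ n) (LocalizedModule p.primeCompl M)).symm

end Crit

section ArtinStage

open Groth.Agent.Lib.ArtinFamD64 Groth.Agent.Lib.AdicFamA64
open scoped Groth.Agent.Lib.FlatLimStage88

variable {R : Type u} [CommRing R]
  {B : Type u} [CommRing B] [Algebra R B] [Algebra.FiniteType R B]
  {M : Type u} [AddCommGroup M] [Module R M] [Module B M] [IsScalarTower R B M] [Module.Finite B M]
  (p : Ideal B) [p.IsPrime]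
  (A : Type u) [CommRing A] [Algebra R A] [IsLocalRing A] [IsArtinianRing A]

set_option synthInstance.maxHeartbeats 400000 in
/-- The Artinian criterion at a stage `A` over `R` all of whose elements are fractions of elements
of `R`: flatness of `A ⊗[R] M_p` over `A`, tested on a jointly injective family of local
`A`-algebras. -/
theorem flat_stage_of_family
    (hA : ∀ a : A, ∃ r s : R, IsUnit (algebraMap R A s) ∧ a * algebraMap R A s = algebraMap R A r)
    (P : Ideal (A ⊗[R] B)) [P.IsPrime]
    (hP : P.comap (Algebra.TensorProduct.includeRight : B →ₐ[R] A ⊗[R] B) = p)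
    {J : Type*} (A' : J → Type u) [∀ j, CommRing (A' j)] [∀ j, IsLocalRing (A' j)]
    [∀ j, Algebra R (A' j)] [∀ j, Algebra A (A' j)] [∀ j, IsScalarTower R A (A' j)]
    (hinj : ∀ a : A, (∀ j, algebraMap A (A' j) a = 0) → a = 0)
    (H : ∀ j, HypAt R M p (A' j)) :
    Module.Flat A (A ⊗[R] LocalizedModule p.primeCompl M) := by
  haveI : IsNoetherianRing (A ⊗[R] B) := Algebra.FiniteType.isNoetherianRing A (A ⊗[R] B)
  have h1 : Module.Flat A (LocalizedModule P.primeCompl (A ⊗[R] M)) :=
    flat_localized_of_family (A := A) (B := A ⊗[R] B) (M := A ⊗[R] M) P A' hinj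
      (fun j => hypAt_stage p A (A' j) P hP (H j))
  exact flat_tensor_localized_of_flat_localized_tensor A p hA P hP h1

end ArtinStage

section Quot

variable {R : Type u} [CommRing R] {B : Type u} [CommRing B] [Algebra R B]
  (p : Ideal B) [p.IsPrime] (q : Ideal R) [q.IsPrime] (hq : q = p.comap (algebraMap R B))
  (O : Type u) [CommRing O] [Algebra R O] [IsLocalization.AtPrime O q]

include q in
/-- Every element of a quotient of a localization of `R` is a fraction of elements of `R`. -/
theorem exists_fraction_quotient (𝔠 : Ideal O) (a : O ⧸ 𝔠) :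
    ∃ r s : R, IsUnit (algebraMap R (O ⧸ 𝔠) s) ∧
      a * algebraMap R (O ⧸ 𝔠) s = algebraMap R (O ⧸ 𝔠) r := by
  obtain ⟨x, rfl⟩ := Ideal.Quotient.mk_surjective a
  obtain ⟨r, s, rfl⟩ := IsLocalization.exists_mk'_eq q.primeCompl x
  refine ⟨r, s.1, ?_, ?_⟩
  · have h1 : IsUnit (algebraMap R O s.1) := IsLocalization.map_units O s
    have h2 : algebraMap R (O ⧸ 𝔠) s.1 = Ideal.Quotient.mk 𝔠 (algebraMap R O s.1) := rfl
    rw [h2]
    exact h1.map _
  · have h2 : ∀ t : R, algebraMap R (O ⧸ 𝔠) t = Ideal.Quotient.mk 𝔠 (algebraMap R O t) :=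
      fun _ => rfl
    rw [h2, h2, ← map_mul, IsLocalization.mk'_spec]

set_option synthInstance.maxHeartbeats 400000 in
include q hq in
/-- A prime of `(O ⧸ 𝔠) ⊗[R] B` over `p`. -/
theorem exists_prime_over [IsLocalRing O] (𝔠 : Ideal O) (h𝔠 : 𝔠 ≤ maximalIdeal O) :
    ∃ (P : Ideal ((O ⧸ 𝔠) ⊗[R] B)) (_ : P.IsPrime),
      P.comap (Algebra.TensorProduct.includeRight : B →ₐ[R] (O ⧸ 𝔠) ⊗[R] B) = p := by
  let L := IsLocalRing.ResidueField (Localization.AtPrime p)
  have hker : ∀ a ∈ 𝔠, ((IsLocalRing.residue (Localization.AtPrime p)).comp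
      (toLoc p q hq O)) a = 0 := by
    intro a ha
    rw [RingHom.comp_apply, IsLocalRing.residue_eq_zero_iff, mem_maximalIdeal, mem_nonunits_iff]
    intro hu
    exact (mem_maximalIdeal a).mp (h𝔠 ha) ((isUnit_map_iff (toLoc p q hq O) a).mp hu)
  letI algL : Algebra (O ⧸ 𝔠) L :=
    (Ideal.Quotient.lift 𝔠 ((IsLocalRing.residue (Localization.AtPrime p)).comp
      (toLoc p q hq O)) hker).toAlgebra
  haveI tow : IsScalarTower R (O ⧸ 𝔠) L := IsScalarTower.of_algebraMap_eq fun r => by
    change _ = Ideal.Quotient.lift 𝔠 _ hker (Ideal.Quotient.mk 𝔠 (algebraMap R O r))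
    rw [Ideal.Quotient.lift_mk, RingHom.comp_apply, toLoc_algebraMap,
      ← IsScalarTower.algebraMap_apply R B (Localization.AtPrime p)]
    rfl
  let γ : B →ₐ[R] L :=
    (IsScalarTower.toAlgHom R (Localization.AtPrime p) L).comp
      (IsScalarTower.toAlgHom R B (Localization.AtPrime p))
  have hγ : RingHom.ker γ = p := by
    ext b
    rw [RingHom.mem_ker]
    change IsLocalRing.residue (Localization.AtPrime p) (algebraMap B (Localization.AtPrime p) b) = 0
      ↔ _
    rw [IsLocalRing.residue_eq_zero_iff]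
    exact IsLocalization.AtPrime.to_map_mem_maximal_iff _ p b
  refine ⟨RingHom.ker (Groth.Agent.Lib.RelFlatBC64.chi γ (O ⧸ 𝔠)), inferInstance, ?_⟩
  rw [Groth.Agent.Lib.RelFlatBC64.comap_includeRight_ker_chi, hγ]

end Quot

section LocalQuot

variable {O : Type u} [CommRing O] [IsLocalRing O] [IsNoetherianRing O]

/-- A quotient of a Noetherian local ring by a proper ideal containing a power of the maximal
ideal is Artinian local. -/
theorem isArtinian_quotient (𝔠 : Ideal O) (h𝔠 : 𝔠 ≤ maximalIdeal O) (K : ℕ)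
    (hK : maximalIdeal O ^ K ≤ 𝔠) :
    ∃ (_ : IsLocalRing (O ⧸ 𝔠)), IsArtinianRing (O ⧸ 𝔠) := by
  have htop : 𝔠 ≠ ⊤ := fun h => (maximalIdeal.isMaximal O).ne_top (top_le_iff.mp (h ▸ h𝔠))
  haveI : Nontrivial (O ⧸ 𝔠) := Ideal.Quotient.nontrivial_iff.mpr htop
  haveI hloc : IsLocalRing (O ⧸ 𝔠) :=
    IsLocalRing.of_surjective' (Ideal.Quotient.mk 𝔠) Ideal.Quotient.mk_surjective
  refine ⟨hloc, ?_⟩
  rw [isArtinianRing_iff_isNilpotent_maximalIdeal]
  refine ⟨K, ?_⟩
  have h1 : maximalIdeal (O ⧸ 𝔠) ≤ (maximalIdeal O).map (Ideal.Quotient.mk 𝔠) := by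
    intro x hx
    obtain ⟨y, rfl⟩ := Ideal.Quotient.mk_surjective x
    apply Ideal.mem_map_of_mem
    rw [mem_maximalIdeal, mem_nonunits_iff] at hx ⊢
    exact fun h => hx (h.map _)
  rw [Ideal.zero_eq_bot, eq_bot_iff]
  calc maximalIdeal (O ⧸ 𝔠) ^ K ≤ ((maximalIdeal O).map (Ideal.Quotient.mk 𝔠)) ^ K :=
        Ideal.pow_right_mono h1 K
    _ = (maximalIdeal O ^ K).map (Ideal.Quotient.mk 𝔠) := (Ideal.map_pow _ _ _).symm
    _ ≤ 𝔠.map (Ideal.Quotient.mk 𝔠) := Ideal.map_mono hK
    _ = ⊥ := Ideal.map_quotient_self 𝔠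

end LocalQuot

end Groth.Agent.Lib.AdicFamB64
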