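import Groth.Agent.Lib.AdicFamB64

/-!
# Flatness tested on a family of local base changes, Noetherian base: ring level (helper64)

EGA IV 11.6-type statement, ring level (`flat_localized_of_adic_family`): `R` Noetherian, `B` a
finite type `R`-algebra, `M` a finite `B`-module, `p` a prime of `B` over `q`, `O = R_q`.  Let
`(A' i)` be local `O`-algebras (local homomorphisms) such that the topology of `O` defined by the
ideals `φ_i⁻¹(𝔪_i ^ n)` is finer than the `𝔪`-adic one.  If for every `i` the module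
`A' i ⊗[R] M` is flat over `A' i` at every prime of `A' i ⊗[R] B` over `p` and over the maximal
ideal, then `M_p` is flat over `R`.
-/

set_option autoImplicit false
set_option maxHeartbeats 400000
set_option linter.style.haveILetI false
set_option linter.unusedSectionVars false
universe u

open TensorProduct Function IsLocalRing
open Groth.Agent.Lib.ArtinFamD64 Groth.Agent.Lib.AdicFamA64

namespace Groth.Agent.Lib.AdicFamB64

section Main

variable {R : Type u} [CommRing R] [IsNoetherianRing R]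
  {B : Type u} [CommRing B] [Algebra R B] [Algebra.FiniteType R B]
  {M : Type u} [AddCommGroup M] [Module R M] [Module B M] [IsScalarTower R B M] [Module.Finite B M]
  (p : Ideal B) [p.IsPrime] (q : Ideal R) [q.IsPrime] (hq : q = p.comap (algebraMap R B))
  (O : Type u) [CommRing O] [Algebra R O] [IsLocalization.AtPrime O q] [IsLocalRing O]
  {ι : Type u} (A' : ι → Type u) [∀ i, CommRing (A' i)] [∀ i, IsLocalRing (A' i)]
  [∀ i, Algebra R (A' i)] [∀ i, Algebra O (A' i)] [∀ i, IsScalarTower R O (A' i)]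
  [∀ i, IsLocalHom (algebraMap O (A' i))]

include q hq in
set_option synthInstance.maxHeartbeats 400000 in
/-- The Artinian step: flatness modulo the intersection of finitely many of the ideals
`φ_i⁻¹(𝔪_i ^ n)`. -/
theorem flat_quotient_of_finset (s : Finset (ι × ℕ)) (hs : ∀ j ∈ s, 0 < j.2)
    (h𝔠 : (⨅ j ∈ s, Ideal.comap (algebraMap O (A' j.1)) (maximalIdeal (A' j.1) ^ j.2)) ≤
      maximalIdeal O)
    (H : ∀ i, HypAt R M p (A' i)) :
    Module.Flat
      (O ⧸ (⨅ j ∈ s, Ideal.comap (algebraMap O (A' j.1)) (maximalIdeal (A' j.1) ^ j.2)))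
      ((O ⧸ (⨅ j ∈ s, Ideal.comap (algebraMap O (A' j.1)) (maximalIdeal (A' j.1) ^ j.2))) ⊗[R]
        LocalizedModule p.primeCompl M) := by
  set 𝔠 : Ideal O := ⨅ j ∈ s, Ideal.comap (algebraMap O (A' j.1)) (maximalIdeal (A' j.1) ^ j.2)
    with h𝔠def
  haveI : IsNoetherianRing O := IsLocalization.isNoetherianRing q.primeCompl O inferInstance
  have hK : maximalIdeal O ^ (s.sup fun j => j.2) ≤ 𝔠 := by
    rw [h𝔠def]
    refine le_iInf₂ fun j hj => ?_
    have h1 : maximalIdeal O ≤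
        Ideal.comap (algebraMap O (A' j.1)) (maximalIdeal (A' j.1)) := by
      intro x hx
      rw [Ideal.mem_comap, mem_maximalIdeal, mem_nonunits_iff]
      intro hu
      exact (mem_maximalIdeal x).mp hx ((isUnit_map_iff (algebraMap O (A' j.1)) x).mp hu)
    calc maximalIdeal O ^ (s.sup fun j => j.2) ≤ maximalIdeal O ^ j.2 :=
          Ideal.pow_le_pow_right (Finset.le_sup (f := fun j : ι × ℕ => j.2) hj)
      _ ≤ (Ideal.comap (algebraMap O (A' j.1)) (maximalIdeal (A' j.1))) ^ j.2 :=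
          Ideal.pow_right_mono h1 _
      _ ≤ Ideal.comap (algebraMap O (A' j.1)) (maximalIdeal (A' j.1) ^ j.2) :=
          Ideal.le_comap_pow _ _
  obtain ⟨hloc, hart⟩ := isArtinian_quotient 𝔠 h𝔠 _ hK
  haveI := hloc
  haveI := hart
  obtain ⟨P, hPprime, hP⟩ := exists_prime_over p q hq O 𝔠 h𝔠
  haveI := hPprime
  -- the family of Artinian quotients
  haveI hlocfam : ∀ j : {j : ι × ℕ // j ∈ s},
      IsLocalRing (A' j.1.1 ⧸ maximalIdeal (A' j.1.1) ^ j.1.2) := fun j => by
    have htop : maximalIdeal (A' j.1.1) ^ j.1.2 ≠ ⊤ := by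
      intro h
      have h2 : maximalIdeal (A' j.1.1) ^ j.1.2 ≤ maximalIdeal (A' j.1.1) :=
        Ideal.pow_le_self (hs j.1 j.2).ne'
      exact (maximalIdeal.isMaximal (A' j.1.1)).ne_top (top_le_iff.mp (h ▸ h2))
    haveI : Nontrivial (A' j.1.1 ⧸ maximalIdeal (A' j.1.1) ^ j.1.2) :=
      Ideal.Quotient.nontrivial_iff.mpr htop
    exact IsLocalRing.of_surjective' (Ideal.Quotient.mk _) Ideal.Quotient.mk_surjective
  have hle : ∀ j : {j : ι × ℕ // j ∈ s},
      𝔠 ≤ Ideal.comap (algebraMap O (A' j.1.1)) (maximalIdeal (A' j.1.1) ^ j.1.2) :=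
    fun j => iInf₂_le j.1 j.2
  letI algfam : ∀ j : {j : ι × ℕ // j ∈ s},
      Algebra (O ⧸ 𝔠) (A' j.1.1 ⧸ maximalIdeal (A' j.1.1) ^ j.1.2) := fun j =>
    (Ideal.quotientMap (maximalIdeal (A' j.1.1) ^ j.1.2) (algebraMap O (A' j.1.1))
      (hle j)).toAlgebra
  haveI towfam : ∀ j : {j : ι × ℕ // j ∈ s},
      IsScalarTower R (O ⧸ 𝔠) (A' j.1.1 ⧸ maximalIdeal (A' j.1.1) ^ j.1.2) := fun j =>
    IsScalarTower.of_algebraMap_eq fun r => by
      change Ideal.Quotient.mk _ (algebraMap R (A' j.1.1) r) =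
        Ideal.quotientMap _ _ (hle j) (Ideal.Quotient.mk 𝔠 (algebraMap R O r))
      rw [Ideal.quotientMap_mk, ← IsScalarTower.algebraMap_apply]
  refine flat_stage_of_family p (O ⧸ 𝔠) (exists_fraction_quotient q O 𝔠) P hP
    (fun j : {j : ι × ℕ // j ∈ s} => A' j.1.1 ⧸ maximalIdeal (A' j.1.1) ^ j.1.2) ?_
    (fun j => (H j.1.1).quotient p _)
  intro a ha
  obtain ⟨x, rfl⟩ := Ideal.Quotient.mk_surjective a
  rw [Ideal.Quotient.eq_zero_iff_mem, h𝔠def]
  simp only [Ideal.mem_iInf]
  intro j hj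
  have h1 := ha ⟨j, hj⟩
  change Ideal.quotientMap _ _ (hle ⟨j, hj⟩) (Ideal.Quotient.mk 𝔠 x) = 0 at h1
  rw [Ideal.quotientMap_mk, Ideal.Quotient.eq_zero_iff_mem] at h1
  exact h1

include q hq in
/-- **EGA IV 11.6, ring level.** -/
theorem flat_localized_of_adic_family
    (htop : ∀ N : ℕ, ∃ s : Finset (ι × ℕ),
      ⨅ j ∈ s, Ideal.comap (algebraMap O (A' j.1)) (maximalIdeal (A' j.1) ^ j.2) ≤
        maximalIdeal O ^ N)
    (H : ∀ i, HypAt R M p (A' i)) :
    Module.Flat R (LocalizedModule p.primeCompl M) := by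
  classical
  apply flat_localized_of_forall_quotient p q hq O
  intro n hn
  obtain ⟨s, hs⟩ := htop n
  have heq : (⨅ j ∈ s.filter (fun j => 0 < j.2),
      Ideal.comap (algebraMap O (A' j.1)) (maximalIdeal (A' j.1) ^ j.2)) =
      ⨅ j ∈ s, Ideal.comap (algebraMap O (A' j.1)) (maximalIdeal (A' j.1) ^ j.2) := by
    apply le_antisymm
    · refine le_iInf₂ fun j hj => ?_
      by_cases h0 : 0 < j.2
      · exact iInf₂_le j (Finset.mem_filter.mpr ⟨hj, h0⟩)
      · have : j.2 = 0 := by omega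
        rw [this, pow_zero, Ideal.one_eq_top, Ideal.comap_top]
        exact le_top
    · exact le_iInf₂ fun j hj => iInf₂_le j (Finset.mem_of_mem_filter j hj)
  have hle : (⨅ j ∈ s.filter (fun j => 0 < j.2),
      Ideal.comap (algebraMap O (A' j.1)) (maximalIdeal (A' j.1) ^ j.2)) ≤ maximalIdeal O ^ n :=
    heq ▸ hs
  exact ⟨_, hle, flat_quotient_of_finset p q hq O A' (s.filter (fun j => 0 < j.2))
    (fun j hj => (Finset.mem_filter.mp hj).2) (hle.trans (Ideal.pow_le_self hn.ne')) H⟩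

end Main

end Groth.Agent.Lib.AdicFamB64
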