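import Groth.Agent.Lib.RelFlatBC64

/-!
# Relative flatness descends from arbitrary base change: explicit and pushout forms (helper64)

* `flatAt_of_baseChange`: explicit tensor form, at an arbitrary prime `Q'` of `A' ⊗[A] C`.
* `flatAt_of_isPushout`: abstract form with `Algebra.IsPushout A A' B B'`, `Algebra.IsPushout A A' C C'`
  and a base change map `ψ : M → M'` along `C → C'`.
-/

set_option autoImplicit false
set_option maxHeartbeats 400000
set_option linter.style.haveILetI false
set_option linter.unusedSectionVars false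

universe u

namespace Groth.Agent.Lib.RelFlatBC64

/-- Every prime is the kernel of a map to a field (stated before the scoped stage instances are
opened). -/
theorem exists_field_hom {S : Type u} [CommRing S] (P : Ideal S) [P.IsPrime] :
    ∃ (L : Type u) (_ : Field L) (φ : S →+* L), RingHom.ker φ = P :=
  ⟨P.ResidueField, inferInstance, algebraMap S P.ResidueField,
    Ideal.ker_algebraMap_residueField (I := P)⟩

end Groth.Agent.Lib.RelFlatBC64

open TensorProduct Function
open Groth.Agent.Lib.FlatLimStage88 Groth.Agent.Lib.FlatLimGlobal88 Groth.Agent.Lib.CritFibA88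
  Groth.Agent.Lib.CritFibB88 Groth.Agent.Lib.CritFibC88
open scoped Groth.Agent.Lib.FlatLimStage88 Groth.Agent.Lib.CritFibB88

namespace Groth.Agent.Lib.RelFlatBC64

section Explicit

variable {A B C M : Type u} [CommRing A] [CommRing B] [CommRing C]
  [Algebra A B] [Algebra B C] [Algebra A C] [IsScalarTower A B C]
  [AddCommGroup M] [Module C M] [Module B M] [Module A M]
  [IsScalarTower B C M] [IsScalarTower A C M] [IsScalarTower A B M]

/-- Flatness at a prime only depends on the prime (`subst` helper). -/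
theorem flat_localized_congr {R S X : Type*} [CommRing R] [CommRing S] [AddCommGroup X]
    [Module S X] [Module R X] [Algebra R S] [IsScalarTower R S X]
    (P P' : Ideal S) [P.IsPrime] [P'.IsPrime] (h : P = P')
    (hP : Module.Flat R (LocalizedModule P.primeCompl X)) :
    Module.Flat R (LocalizedModule P'.primeCompl X) := by
  subst h
  exact hP

set_option synthInstance.maxHeartbeats 400000 in
/-- **Relative flatness descends from an arbitrary base change**, explicit tensor form. -/
theorem flatAt_of_baseChange (A' : Type u) [CommRing A'] [Algebra A A']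
    (Q' : Ideal (A' ⊗[A] C)) [Q'.IsPrime] (Q : Ideal C) [Q.IsPrime]
    (hQ : Q'.comap (Algebra.TensorProduct.includeRight : C →ₐ[A] A' ⊗[A] C) = Q)
    [Algebra.FiniteType A B] [Algebra.FinitePresentation A C] [Module.FinitePresentation C M]
    (h1 : Module.Flat A (LocalizedModule Q.primeCompl M))
    (h2 : Module.Flat (A' ⊗[A] B) (LocalizedModule Q'.primeCompl (A' ⊗[A] M))) :
    Module.Flat B (LocalizedModule Q.primeCompl M) := by
  obtain ⟨L, _, φ, hφ⟩ := exists_field_hom Q'
  letI algA'L : Algebra A' L := (φ.comp (algebraMap A' (A' ⊗[A] C))).toAlgebra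
  letI algAL : Algebra A L := ((algebraMap A' L).comp (algebraMap A A')).toAlgebra
  haveI : IsScalarTower A A' L := IsScalarTower.of_algebraMap_eq' rfl
  let γ : C →ₐ[A] L :=
    { toRingHom := φ.comp (Algebra.TensorProduct.includeRight : C →ₐ[A] A' ⊗[A] C).toRingHom
      commutes' := fun a => by
        change φ ((1 : A') ⊗ₜ[A] (algebraMap A C a)) =
          φ (algebraMap A' (A' ⊗[A] C) (algebraMap A A' a))
        rw [Algebra.TensorProduct.algebraMap_apply, Algebra.algebraMap_eq_smul_one a,
          Algebra.algebraMap_eq_smul_one a, Algebra.algebraMap_self_apply,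
          TensorProduct.tmul_smul, TensorProduct.smul_tmul'] }
  have hγ : ∀ c : C, γ c = φ ((1 : A') ⊗ₜ[A] c) := fun c => rfl
  have hchi : ∀ z : A' ⊗[A] C, chi γ A' z = φ z := by
    intro z
    induction z with
    | zero => simp
    | add x y hx hy => simp only [map_add, hx, hy]
    | tmul a c =>
      rw [chi_tmul, hγ]
      change φ (algebraMap A' (A' ⊗[A] C) a) * _ = _
      rw [← map_mul, Algebra.TensorProduct.algebraMap_apply, Algebra.algebraMap_self_apply,
        Algebra.TensorProduct.tmul_mul_tmul, mul_one, one_mul]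
  have hker : RingHom.ker (chi γ A') = Q' := by
    rw [← hφ]
    ext z
    rw [RingHom.mem_ker, hchi, RingHom.mem_ker]
  have hkγ : RingHom.ker γ = Q := by
    rw [← comap_includeRight_ker_chi γ A']
    rw [← hQ]
    ext c
    rw [Ideal.mem_comap, Ideal.mem_comap, hker]
  have h1' : Module.Flat A (LocalizedModule (RingHom.ker γ).primeCompl M) :=
    flat_localized_congr Q (RingHom.ker γ) hkγ.symm h1
  have h2' : Module.Flat (A' ⊗[A] B)
      (LocalizedModule (RingHom.ker (chi γ A')).primeCompl (A' ⊗[A] M)) :=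
    flat_localized_congr Q' (RingHom.ker (chi γ A')) hker.symm h2
  exact flat_localized_congr (RingHom.ker γ) Q hkγ (core A' L γ h1' h2')

end Explicit

end Groth.Agent.Lib.RelFlatBC64

namespace Groth.Agent.Lib.RelFlatBC64

section Abstract

variable {A B C M A' B' C' M' : Type u} [CommRing A] [CommRing B] [CommRing C]
  [Algebra A B] [Algebra B C] [Algebra A C] [IsScalarTower A B C]
  [AddCommGroup M] [Module C M] [Module B M] [Module A M]
  [IsScalarTower B C M] [IsScalarTower A C M] [IsScalarTower A B M]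
  [CommRing A'] [CommRing B'] [CommRing C'] [Algebra A A']
  [Algebra A' B'] [Algebra B B'] [Algebra A B'] [IsScalarTower A A' B'] [IsScalarTower A B B']
  [Algebra A' C'] [Algebra C C'] [Algebra A C'] [IsScalarTower A A' C'] [IsScalarTower A C C']
  [Algebra B' C'] [IsScalarTower A' B' C'] [Algebra B C'] [IsScalarTower B B' C']
  [IsScalarTower B C C']
  [Algebra.IsPushout A A' B B'] [Algebra.IsPushout A A' C C']
  [AddCommGroup M'] [Module C' M'] [Module B' M'] [IsScalarTower B' C' M'] [Module C M']
  [IsScalarTower C C' M']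

/-- The additive identification `A' ⊗[A] M ≃ M'`. -/
noncomputable def epsEquiv (ψ : M →ₗ[C] M') (hψ : IsBaseChange C' ψ) : A' ⊗[A] M ≃+ M' :=
  (Algebra.IsPushout.cancelBaseChange A A' C C' M).symm.toAddEquiv.trans hψ.equiv.toAddEquiv

theorem epsEquiv_tmul (ψ : M →ₗ[C] M') (hψ : IsBaseChange C' ψ) (a : A') (m : M) :
    epsEquiv (A := A) ψ hψ (a ⊗ₜ[A] m) = algebraMap A' C' a • ψ m := by
  unfold epsEquiv
  rw [AddEquiv.trans_apply]
  change hψ.equiv ((Algebra.IsPushout.cancelBaseChange A A' C C' M).symm (a ⊗ₜ[A] m)) = _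
  rw [Algebra.IsPushout.cancelBaseChange_symm_tmul, hψ.equiv_tmul]

theorem epsEquiv_smulC (ψ : M →ₗ[C] M') (hψ : IsBaseChange C' ψ) (c : A' ⊗[A] C)
    (x : A' ⊗[A] M) :
    epsEquiv (A := A) ψ hψ (c • x) =
      (Algebra.IsPushout.equiv A A' C C') c • epsEquiv (A := A) ψ hψ x := by
  induction c with
  | zero =>
    have h0 : (0 : A' ⊗[A] C) • x = 0 := zero_smul (A' ⊗[A] C) x
    rw [h0, map_zero, map_zero, zero_smul]
  | add c₁ c₂ h₁ h₂ => rw [add_smul, map_add, h₁, h₂, map_add, add_smul]
  | tmul a c =>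
    induction x with
    | zero => rw [smul_zero, map_zero, smul_zero]
    | add x₁ x₂ h₁ h₂ => rw [smul_add, map_add, h₁, h₂, map_add, smul_add]
    | tmul a₁ m =>
      rw [Groth.Agent.Lib.FlatLimStage88.tmul_smul_tmul, epsEquiv_tmul, epsEquiv_tmul,
        Algebra.IsPushout.equiv_tmul, map_smul, map_mul, ← algebraMap_smul C' c (ψ m),
        ← mul_smul, ← mul_smul]
      congr 1
      ring

theorem epsEquiv_smulB (ψ : M →ₗ[C] M') (hψ : IsBaseChange C' ψ) (r : A' ⊗[A] B)
    (x : A' ⊗[A] M) :
    epsEquiv (A := A) ψ hψ (r • x) =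
      (Algebra.IsPushout.equiv A A' B B') r • epsEquiv (A := A) ψ hψ x := by
  induction r with
  | zero =>
    have h0 : (0 : A' ⊗[A] B) • x = 0 := zero_smul (A' ⊗[A] B) x
    rw [h0, map_zero, map_zero, zero_smul]
  | add c₁ c₂ h₁ h₂ => rw [add_smul, map_add, h₁, h₂, map_add, add_smul]
  | tmul a b =>
    induction x with
    | zero => rw [smul_zero, map_zero, smul_zero]
    | add x₁ x₂ h₁ h₂ => rw [smul_add, map_add, h₁, h₂, map_add, smul_add]
    | tmul a₁ m =>
      rw [Groth.Agent.Lib.FlatLimStage88.tmul_smul_tmul, epsEquiv_tmul, epsEquiv_tmul,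
        Algebra.IsPushout.equiv_tmul, ← algebraMap_smul C b m, map_smul,
        ← algebraMap_smul C' (algebraMap B C b) (ψ m),
        ← algebraMap_smul C' (algebraMap A' B' a * algebraMap B B' b), map_mul, map_mul,
        ← IsScalarTower.algebraMap_apply A' B' C', ← IsScalarTower.algebraMap_apply B B' C',
        ← IsScalarTower.algebraMap_apply B C C', ← mul_smul, ← mul_smul]
      congr 1
      ring

include A' in
set_option synthInstance.maxHeartbeats 400000 in
/-- **Relative flatness descends from an arbitrary base change**, abstract pushout form: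
`A → B → C` with `B` of finite type and `C` of finite presentation over `A`, `M` a finitely
presented `C`-module, `A → A'` arbitrary, `B' = A' ⊗ B`, `C' = A' ⊗ C`, `M' = C' ⊗ M`. If `M_Q` is
flat over `A` and `M'_{Q'}` is flat over `B'` for a prime `Q'` above `Q`, then `M_Q` is flat over
`B`. -/
theorem flatAt_of_isPushout (ψ : M →ₗ[C] M') (hψ : IsBaseChange C' ψ)
    (Q' : Ideal C') [Q'.IsPrime] (Q : Ideal C) [Q.IsPrime]
    (hQ : Q'.comap (algebraMap C C') = Q)
    [Algebra.FiniteType A B] [Algebra.FinitePresentation A C] [Module.FinitePresentation C M]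
    (h1 : Module.Flat A (LocalizedModule Q.primeCompl M))
    (h2 : Module.Flat B' (LocalizedModule Q'.primeCompl M')) :
    Module.Flat B (LocalizedModule Q.primeCompl M) := by
  let eB : A' ⊗[A] B ≃ₐ[A'] B' := Algebra.IsPushout.equiv A A' B B'
  let eC : A' ⊗[A] C ≃ₐ[A'] C' := Algebra.IsPushout.equiv A A' C C'
  let ε : A' ⊗[A] M ≃+ M' := epsEquiv (A := A) ψ hψ
  -- the prime of `A' ⊗ C`
  let Q'' : Ideal (A' ⊗[A] C) := Q'.comap eC.toRingEquiv
  haveI : Q''.IsPrime := Ideal.comap_isPrime eC.toRingEquiv Q'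
  have hQ'' : Q''.comap (Algebra.TensorProduct.includeRight : C →ₐ[A] A' ⊗[A] C) = Q := by
    rw [← hQ]
    ext c
    rw [Ideal.mem_comap, Ideal.mem_comap, Ideal.mem_comap,
      Algebra.TensorProduct.includeRight_apply]
    change eC ((1 : A') ⊗ₜ[A] c) ∈ Q' ↔ _
    rw [Algebra.IsPushout.equiv_tmul, map_one, one_mul]
  -- `M'` as a module over `A' ⊗ B`
  letI algRC : Algebra (A' ⊗[A] B) C' := ((algebraMap B' C').comp eB.toRingEquiv.toRingHom).toAlgebra
  letI modRM : Module (A' ⊗[A] B) M' := Module.compHom M' eB.toRingEquiv.toRingHom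
  have hsm : ∀ (r : A' ⊗[A] B) (m : M'), r • m = eB r • m := fun _ _ => rfl
  haveI : IsScalarTower (A' ⊗[A] B) C' M' := ⟨fun r c m => by
    rw [Algebra.smul_def, mul_smul, hsm r (c • m)]
    change (algebraMap B' C' (eB r)) • (c • m) = _
    rw [algebraMap_smul]⟩
  -- step 1: change the base ring from `B'` to `A' ⊗ B`
  have h2a : Module.Flat (A' ⊗[A] B) (LocalizedModule Q'.primeCompl M') := by
    refine flat_of_ringEquiv_semilinear eB.symm.toRingEquiv (AddEquiv.refl _) (fun b x => ?_) h2
    induction x using LocalizedModule.induction_on with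
    | h m s =>
      change b • LocalizedModule.mk m s = eB.symm b • LocalizedModule.mk m s
      rw [LocalizedModule.smul'_mk, LocalizedModule.smul'_mk, hsm, AlgEquiv.apply_symm_apply]
  -- step 2: transport along `ε`
  let ε' : M' ≃ₗ[A' ⊗[A] B] A' ⊗[A] M :=
    { ε.symm with
      map_smul' := fun r x => by
        obtain ⟨y, rfl⟩ := ε.surjective x
        change ε.symm (r • ε y) = r • ε.symm (ε y)
        rw [hsm, ← epsEquiv_smulB (A := A) ψ hψ r y, AddEquiv.symm_apply_apply,
          AddEquiv.symm_apply_apply] }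
  have hε' : ∀ (c : C') (x : M'), ε' (c • x) = eC.symm.toRingEquiv c • ε' x := by
    intro c x
    obtain ⟨y, rfl⟩ := ε.surjective x
    obtain ⟨d, rfl⟩ := eC.surjective c
    change ε.symm (eC d • ε y) = eC.symm (eC d) • ε.symm (ε y)
    rw [← epsEquiv_smulC (A := A) ψ hψ d y, AddEquiv.symm_apply_apply, AddEquiv.symm_apply_apply,
      AlgEquiv.symm_apply_apply]
  haveI : (Q''.comap eC.symm.toRingEquiv).IsPrime := Ideal.comap_isPrime _ Q''
  have hQQ : Q' = Q''.comap eC.symm.toRingEquiv := by
    ext c
    rw [Ideal.mem_comap, Ideal.mem_comap]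
    change _ ↔ eC (eC.symm c) ∈ Q'
    rw [AlgEquiv.apply_symm_apply]
  have h2b := flat_localized_congr Q' (Q''.comap eC.symm.toRingEquiv) hQQ h2a
  have h2c : Module.Flat (A' ⊗[A] B) (LocalizedModule Q''.primeCompl (A' ⊗[A] M)) :=
    Groth.Agent.Lib.FlatLimOpenBC88.flat_localizedModule_of_semilinearEquiv eC.symm.toRingEquiv
      ε' hε' Q'' h2b
  exact flatAt_of_baseChange A' Q'' Q hQ'' h1 h2c

end Abstract

end Groth.Agent.Lib.RelFlatBC64

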