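import Groth.Agent.Lib.ArtinFamExB64
import Groth.Agent.Lib.RelFlatPush64

/-!
# Flatness over an Artinian local ring tested at ONE point of each base change (helper64)

`flat_localized_of_family_ex` (EGA IV 11.4-type, ring level): `A` Artinian local, `B` a Noetherian
`A`-algebra, `p` a prime of `B` whose residue field is a primary extension of the residue field of
`A`, `M` a finite `B`-module; `(A' i)` local `A`-algebras with `A → ∏ A' i` injective.  If for every
`i` there is SOME prime of `A' i ⊗[A] B` over `p` and over the closed point at which `A' i ⊗[A] M`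
is flat over `A' i`, then `M_p` is flat over `A`.
-/

set_option autoImplicit false
set_option maxHeartbeats 400000
set_option linter.style.haveILetI false
set_option linter.unusedSectionVars false
universe u

open TensorProduct Function IsLocalRing
open Groth.Agent.Lib.FlatLimStage88 Groth.Agent.Lib.GenFlattenU64 Groth.Agent.Lib.FlatLimGlobal88
  Groth.Agent.Lib.ArtinFamExA64 Groth.Agent.Lib.ArtinFamExB64 Groth.Agent.Lib.ArtinFamD64
open scoped Groth.Agent.Lib.FlatLimStage88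

namespace Groth.Agent.Lib.ArtinFamExC64

/-- The existential pointwise flatness hypothesis for a local `A`-algebra `R`. -/
def HypEx (A : Type u) [CommRing A] {B : Type u} [CommRing B] [Algebra A B]
    (M : Type u) [AddCommGroup M] [Module A M] [Module B M] [IsScalarTower A B M]
    (p : Ideal B) (R : Type u) [CommRing R] [Algebra A R] [IsLocalRing R] : Prop :=
  ∃ Q : PrimeSpectrum (R ⊗[A] B),
    Q.asIdeal.comap (Algebra.TensorProduct.includeRight : B →ₐ[A] R ⊗[A] B) = p ∧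
    Q.asIdeal.comap (algebraMap R (R ⊗[A] B)) = maximalIdeal R ∧
    Module.Flat R (LocalizedModule Q.asIdeal.primeCompl (R ⊗[A] M))

section Quot

variable {A : Type u} [CommRing A] {B : Type u} [CommRing B] [Algebra A B]
  {M : Type u} [AddCommGroup M] [Module A M] [Module B M] [IsScalarTower A B M]
  (p : Ideal B) [p.IsPrime]

/-- The hypothesis passes to quotients of the local ring. -/
theorem HypEx.quotient {A' : Type u} [CommRing A'] [Algebra A A'] [IsLocalRing A']
    (H : HypEx A M p A') (𝔟 : Ideal A') [IsLocalRing (A' ⧸ 𝔟)] : HypEx A M p (A' ⧸ 𝔟) := by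
  obtain ⟨Q₀, hQp, hQm, hfl⟩ := H
  haveI : Nontrivial (A' ⧸ 𝔟) := inferInstance
  have h𝔟top : 𝔟 ≠ ⊤ := Ideal.Quotient.nontrivial_iff.mp inferInstance
  have h𝔟le : 𝔟 ≤ maximalIdeal A' := IsLocalRing.le_maximalIdeal h𝔟top
  haveI hloc : IsLocalHom (Ideal.Quotient.mk 𝔟) :=
    IsLocalHom.of_surjective _ Ideal.Quotient.mk_surjective
  set σ := sMap (IsScalarTower.toAlgHom A A' (A' ⧸ 𝔟)) B with hσ
  have hσsurj : Surjective σ :=
    Algebra.TensorProduct.map_surjective _ _ Ideal.Quotient.mk_surjective surjective_id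
  have hker : RingHom.ker σ ≤ Q₀.asIdeal := by
    have h1 : RingHom.ker σ = (RingHom.ker (IsScalarTower.toAlgHom A A' (A' ⧸ 𝔟))).map
        (Algebra.TensorProduct.includeLeft : A' →ₐ[A] A' ⊗[A] B) :=
      Algebra.TensorProduct.rTensor_ker (IsScalarTower.toAlgHom A A' (A' ⧸ 𝔟))
        Ideal.Quotient.mk_surjective
    rw [h1, Ideal.map_le_iff_le_comap]
    intro a ha
    have ha' : a ∈ 𝔟 := by
      have : (Ideal.Quotient.mk 𝔟) a = 0 := ha
      exact Ideal.Quotient.eq_zero_iff_mem.mp this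
    have h2 : a ∈ Q₀.asIdeal.comap (algebraMap A' (A' ⊗[A] B)) := by
      rw [hQm]
      exact h𝔟le ha'
    exact h2
  haveI hprime : (Q₀.asIdeal.map σ).IsPrime := Ideal.map_isPrime_of_surjective hσsurj hker
  have hcomap : (Q₀.asIdeal.map σ).comap σ = Q₀.asIdeal := by
    rw [Ideal.comap_map_of_surjective σ hσsurj, sup_eq_left]
    exact hker
  have key : ∀ x, σ x ∈ Q₀.asIdeal.map σ ↔ x ∈ Q₀.asIdeal := fun x => by
    rw [← Ideal.mem_comap, hcomap]
  refine ⟨⟨Q₀.asIdeal.map σ, hprime⟩, ?_, ?_, ?_⟩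
  · ext b
    have h1 : (Algebra.TensorProduct.includeRight : B →ₐ[A] (A' ⧸ 𝔟) ⊗[A] B) b =
        σ ((Algebra.TensorProduct.includeRight : B →ₐ[A] A' ⊗[A] B) b) := by
      simp only [Algebra.TensorProduct.includeRight_apply, hσ, sMap_tmul, map_one]
    rw [Ideal.mem_comap]
    change (Algebra.TensorProduct.includeRight : B →ₐ[A] (A' ⧸ 𝔟) ⊗[A] B) b ∈
      Q₀.asIdeal.map σ ↔ _
    rw [h1, key, ← Ideal.mem_comap, hQp]
  · ext a'
    obtain ⟨a, rfl⟩ := Ideal.Quotient.mk_surjective a'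
    have h1 : algebraMap (A' ⧸ 𝔟) ((A' ⧸ 𝔟) ⊗[A] B) (Ideal.Quotient.mk 𝔟 a) =
        σ (algebraMap A' (A' ⊗[A] B) a) := by
      rw [Algebra.TensorProduct.algebraMap_apply, Algebra.TensorProduct.algebraMap_apply, hσ,
        sMap_tmul]
      rfl
    rw [Ideal.mem_comap]
    change algebraMap (A' ⧸ 𝔟) ((A' ⧸ 𝔟) ⊗[A] B) (Ideal.Quotient.mk 𝔟 a) ∈ Q₀.asIdeal.map σ ↔ _
    rw [h1, key, ← Ideal.mem_comap, hQm, mem_maximalIdeal, mem_maximalIdeal, mem_nonunits_iff,
      mem_nonunits_iff]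
    exact not_congr (isUnit_map_iff (Ideal.Quotient.mk 𝔟) a).symm
  · haveI : ((Q₀.asIdeal.map σ).comap σ).IsPrime := Ideal.comap_isPrime _ _
    apply flat_stage_mono (k := A) (B := A') (A := A' ⧸ 𝔟) (S₀ := B) (M₀ := M) (Q₀.asIdeal.map σ)
    exact Groth.Agent.Lib.RelFlatBC64.flat_localized_congr Q₀.asIdeal _ hcomap.symm hfl

end Quot

section AlgResidue

variable {A : Type u} [CommRing A] [IsLocalRing A]
  {k : Type u} [Field k] [Algebra A k] (hk : Surjective (algebraMap A k))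
  (R : Type u) [CommRing R] [Algebra A R] [IsLocalRing R] [IsLocalHom (algebraMap A R)]

theorem ker_le_ker_residue :
    RingHom.ker (algebraMap A k) ≤ RingHom.ker (algebraMap A (ResidueField R)) := by
  intro a ha
  rw [RingHom.mem_ker] at ha ⊢
  rw [IsScalarTower.algebraMap_apply A R (ResidueField R)]
  change residue R (algebraMap A R a) = 0
  rw [residue_eq_zero_iff, mem_maximalIdeal, mem_nonunits_iff]
  intro hu
  have hua : IsUnit a := (isUnit_map_iff (algebraMap A R) a).mp hu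
  have := hua.map (algebraMap A k)
  rw [ha] at this
  exact not_isUnit_zero this

/-- The algebra structure `k → ResidueField R` induced by `A → k` surjective. -/
@[reducible] noncomputable def algResidue : Algebra k (ResidueField R) :=
  ((algebraMap A k).liftOfSurjective hk
    ⟨algebraMap A (ResidueField R), ker_le_ker_residue R⟩).toAlgebra

theorem isScalarTower_algResidue :
    letI := algResidue hk R
    IsScalarTower A k (ResidueField R) := by
  letI := algResidue hk R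
  refine IsScalarTower.of_algebraMap_eq fun a => ?_
  exact (RingHom.liftOfSurjective_comp_apply (algebraMap A k) hk
    ⟨algebraMap A (ResidueField R), ker_le_ker_residue R⟩ a).symm

end AlgResidue


section Step2

variable {A : Type u} [CommRing A] {B : Type u} [CommRing B] [Algebra A B]
  {M : Type u} [AddCommGroup M] [Module A M] [Module B M] [IsScalarTower A B M]
  (p : Ideal B) [p.IsPrime]
  [IsLocalRing A] [IsArtinianRing A] [IsNoetherianRing B] [Module.Finite B M]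
  {k : Type u} [Field k] [Algebra A k] (hk : Surjective (algebraMap A k))
  {κ : Type u} [Field κ] [Algebra B κ] [Algebra A κ] [IsScalarTower A B κ]
  [Algebra k κ] [IsScalarTower A k κ]
  (hκ : RingHom.ker (algebraMap B κ) = p)
  (hfrac : ∀ z : κ, ∃ b s : B, s ∉ p ∧ z * algebraMap B κ s = algebraMap B κ b)
  (hprim : ∀ α : κ, IsSeparable k α → α ∈ Set.range (algebraMap k κ))

include hk hκ hfrac hprim in
set_option synthInstance.maxHeartbeats 200000 in
/-- **Key step**: the flattening ideal of `M_p` dies in every local `A`-algebra satisfying the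
existential pointwise flatness hypothesis. -/
theorem map_eq_bot_of_hypEx (J : Ideal A) (hJle : J ≤ maximalIdeal A)
    (hJ : ∀ (R' : Type u) [CommRing R'] [Algebra A R'],
      Module.Flat R' (R' ⊗[A] LocalizedModule p.primeCompl M) ↔ J.map (algebraMap A R') = ⊥)
    (A' : Type u) [CommRing A'] [Algebra A A'] [IsLocalRing A'] (H : HypEx A M p A') :
    J.map (algebraMap A A') = ⊥ := by
  classical
  by_contra hne
  set 𝔞 : Ideal A' := J.map (algebraMap A A') with h𝔞
  have hnilA : IsNilpotent (maximalIdeal A) :=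
    Groth.Agent.Lib.ArtinianFlat.isNilpotent_maximalIdeal
  have hJfg : J.FG := (isNoetherianRing_iff_ideal_fg A).mp inferInstance J
  have h𝔞fg : 𝔞.FG := hJfg.map _
  have h𝔞nil : 𝔞 ≤ nilradical A' := by
    rw [h𝔞, Ideal.map_le_iff_le_comap]
    intro j hj
    rw [Ideal.mem_comap, mem_nilradical]
    obtain ⟨N, hN⟩ := hnilA
    have h1 : j ^ N ∈ maximalIdeal A ^ N := Ideal.pow_mem_pow (hJle hj) N
    rw [hN] at h1
    have h2 : j ^ N = 0 := h1
    exact IsNilpotent.map (⟨N, h2⟩ : IsNilpotent j) (algebraMap A A')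
  haveI := CompleteLattice.Iic_coatomic_of_compact_element ((Submodule.fg_iff_compact 𝔞).mp h𝔞fg)
  obtain hbot | ⟨⟨𝔟, h𝔟le⟩, hco, -⟩ :=
    eq_top_or_exists_le_coatom (⟨⊥, Set.mem_Iic.mpr bot_le⟩ : Set.Iic 𝔞)
  · exact hne (congrArg Subtype.val hbot).symm
  have h𝔟le' : 𝔟 ≤ 𝔞 := h𝔟le
  have h𝔟ne : 𝔟 ≠ 𝔞 := fun h => hco.1 (Subtype.ext h)
  have hmaxl : ∀ c : Ideal A', c ≤ 𝔞 → 𝔟 < c → c = 𝔞 := fun c hc hlt =>
    congrArg Subtype.val (hco.2 ⟨c, hc⟩ (Subtype.mk_lt_mk.mpr hlt))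
  obtain ⟨a, ha𝔞, ha𝔟⟩ := SetLike.exists_of_lt (lt_of_le_of_ne h𝔟le' h𝔟ne)
  have hsup : ∀ x ∈ 𝔞, x ∉ 𝔟 → 𝔟 ⊔ Ideal.span {x} = 𝔞 := by
    intro x hx hxb
    apply hmaxl
    · exact sup_le h𝔟le' ((Ideal.span_singleton_le_iff_mem _).mpr hx)
    · refine lt_of_le_of_ne le_sup_left (fun h => hxb ?_)
      rw [h]
      exact Ideal.mem_sup_right (Ideal.mem_span_singleton_self x)
  have h𝔟top : 𝔟 ≠ ⊤ := by
    intro h
    have : (1 : A') ∈ nilradical A' := h𝔞nil (h𝔟le' (h ▸ Submodule.mem_top))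
    obtain ⟨n, hn⟩ := mem_nilradical.mp this
    rw [one_pow] at hn
    exact one_ne_zero hn
  haveI : Nontrivial (A' ⧸ 𝔟) := Ideal.Quotient.nontrivial_iff.mpr h𝔟top
  haveI : IsLocalRing (A' ⧸ 𝔟) :=
    IsLocalRing.of_surjective' (Ideal.Quotient.mk 𝔟) Ideal.Quotient.mk_surjective
  haveI : IsLocalHom (Ideal.Quotient.mk 𝔟) :=
    IsLocalHom.of_surjective _ Ideal.Quotient.mk_surjective
  haveI : IsLocalHom (algebraMap A (A' ⧸ 𝔟)) := isLocalHom_algebraMap (A' ⧸ 𝔟)
  set δ : A' ⧸ 𝔟 := Ideal.Quotient.mk 𝔟 a with hδdef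
  have hδ0 : δ ≠ 0 := fun h => ha𝔟 (Ideal.Quotient.eq_zero_iff_mem.mp h)
  have hJmap : J.map (algebraMap A (A' ⧸ 𝔟)) = Ideal.span {δ} := by
    have h1 : algebraMap A (A' ⧸ 𝔟) = (Ideal.Quotient.mk 𝔟).comp (algebraMap A A') := rfl
    rw [h1, ← Ideal.map_map, ← h𝔞, ← hsup a ha𝔞 ha𝔟, Ideal.map_sup, Ideal.map_quotient_self,
      bot_sup_eq, Ideal.map_span, Set.image_singleton]
  have hδnil : IsNilpotent δ := (mem_nilradical.mp (h𝔞nil ha𝔞)).map _
  have hδm : δ ∈ maximalIdeal (A' ⧸ 𝔟) := by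
    rw [mem_maximalIdeal, mem_nonunits_iff]
    intro hu
    obtain ⟨n, hn⟩ := hδnil
    have := hu.pow n
    rw [hn] at this
    exact not_isUnit_zero this
  have hδ : ∀ r ∈ maximalIdeal (A' ⧸ 𝔟), r * δ = 0 := by
    intro r hr
    obtain ⟨r', rfl⟩ := Ideal.Quotient.mk_surjective r
    have hr' : r' ∈ maximalIdeal A' := by
      rw [mem_maximalIdeal, mem_nonunits_iff] at hr ⊢
      exact fun h => hr (h.map _)
    rw [hδdef, ← map_mul, Ideal.Quotient.eq_zero_iff_mem]
    by_contra hcon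
    have h1 := hsup (r' * a) (𝔞.mul_mem_left r' ha𝔞) hcon
    have h2 : a ∈ 𝔟 ⊔ Ideal.span {r' * a} := by rw [h1]; exact ha𝔞
    obtain ⟨b, hb, c, hc, hbc⟩ := Submodule.mem_sup.mp h2
    obtain ⟨s, rfl⟩ := Ideal.mem_span_singleton'.mp hc
    have hunit : IsUnit (1 - s * r') := by
      have hmem : s * r' ∈ maximalIdeal A' := Ideal.mul_mem_left _ s hr'
      by_contra hnu
      have h3 : (1 - s * r') ∈ maximalIdeal A' := (mem_maximalIdeal _).mpr hnu
      have h4 : (1 : A') ∈ maximalIdeal A' := by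
        have := Ideal.add_mem _ h3 hmem
        rwa [sub_add_cancel] at this
      exact (Ideal.ne_top_iff_one _).mp (maximalIdeal.isMaximal A').ne_top h4
    have h5 : (1 - s * r') * a = b := by
      linear_combination (-1 : A') * hbc
    have h6 : a ∈ 𝔟 := by
      obtain ⟨u, hu⟩ := hunit
      have : a = ↑u⁻¹ * b := by rw [← h5, ← hu, ← mul_assoc, Units.inv_mul, one_mul]
      rw [this]
      exact 𝔟.mul_mem_left _ hb
    exact ha𝔟 h6
  haveI hflq : Module.Flat ((A' ⧸ 𝔟) ⧸ Ideal.span {δ})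
      (((A' ⧸ 𝔟) ⧸ Ideal.span {δ}) ⊗[A' ⧸ 𝔟]
        ((A' ⧸ 𝔟) ⊗[A] LocalizedModule p.primeCompl M)) := by
    have h1 : Module.Flat ((A' ⧸ 𝔟) ⧸ Ideal.span {δ})
        (((A' ⧸ 𝔟) ⧸ Ideal.span {δ}) ⊗[A] LocalizedModule p.primeCompl M) := by
      rw [hJ]
      have h2 : algebraMap A ((A' ⧸ 𝔟) ⧸ Ideal.span {δ}) =
          (Ideal.Quotient.mk (Ideal.span {δ})).comp (algebraMap A (A' ⧸ 𝔟)) := rfl
      rw [h2, ← Ideal.map_map, hJmap, Ideal.map_quotient_self]
    exact Module.Flat.of_linearEquiv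
      (AlgebraTensorModule.cancelBaseChange A (A' ⧸ 𝔟) ((A' ⧸ 𝔟) ⧸ Ideal.span {δ})
        ((A' ⧸ 𝔟) ⧸ Ideal.span {δ}) (LocalizedModule p.primeCompl M))
  obtain ⟨Q, hQp, hQm, hQfl⟩ := H.quotient p 𝔟
  letI algk' : Algebra k (ResidueField (A' ⧸ 𝔟)) := algResidue hk (A' ⧸ 𝔟)
  haveI towk' : IsScalarTower A k (ResidueField (A' ⧸ 𝔟)) := isScalarTower_algResidue hk (A' ⧸ 𝔟)
  have hflat : Module.Flat (A' ⧸ 𝔟) ((A' ⧸ 𝔟) ⊗[A] LocalizedModule p.primeCompl M) := by
    refine flat_of_socle_of_key δ hδ hδm (fun n hn => ?_)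
    obtain ⟨c, hc, hcn⟩ := hloc_at p (A' ⧸ 𝔟) Q.asIdeal hQp δ hδ0 hQfl n hn
    exact mem_of_smul_mem p hk hκ hfrac hprim (A' ⧸ 𝔟) Q.asIdeal hQp hQm c hc n hcn
  have := (hJ (A' ⧸ 𝔟)).mp hflat
  rw [hJmap, Ideal.span_singleton_eq_bot] at this
  exact hδ0 this

include hk hκ hfrac hprim in
/-- **EGA IV 11.4 (existential version), ring level.** -/
theorem flat_localized_of_family_ex {ι : Type*} (A' : ι → Type u) [∀ i, CommRing (A' i)]
    [∀ i, Algebra A (A' i)] [∀ i, IsLocalRing (A' i)]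
    (hinj : ∀ a : A, (∀ i, algebraMap A (A' i) a = 0) → a = 0)
    (H : ∀ i, HypEx A M p (A' i)) :
    Module.Flat A (LocalizedModule p.primeCompl M) := by
  have hnil := Groth.Agent.Lib.ArtinianFlat.isNilpotent_maximalIdeal (A := A)
  letI : Field (A ⧸ maximalIdeal A) := Ideal.Quotient.field _
  haveI : Module.Free (A ⧸ maximalIdeal A)
      ((A ⧸ maximalIdeal A) ⊗[A] LocalizedModule p.primeCompl M) :=
    Module.Free.of_divisionRing _ _
  obtain ⟨J, hJle, hJ⟩ := exists_flattening_ideal (maximalIdeal A) hnil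
    (M := LocalizedModule p.primeCompl M)
  have hJbot : J = ⊥ := by
    rw [eq_bot_iff]
    intro a ha
    rw [Ideal.mem_bot]
    apply hinj
    intro i
    have h1 := map_eq_bot_of_hypEx p hk hκ hfrac hprim J hJle hJ (A' i) (H i)
    have hmem : algebraMap A (A' i) a ∈ J.map (algebraMap A (A' i)) :=
      Ideal.mem_map_of_mem _ ha
    rw [h1] at hmem
    exact hmem
  haveI : Module.Flat A (A ⊗[A] LocalizedModule p.primeCompl M) :=
    (hJ A).mpr (by rw [hJbot, Ideal.map_bot])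
  exact Module.Flat.of_linearEquiv (TensorProduct.lid A (LocalizedModule p.primeCompl M)).symm

end Step2

end Groth.Agent.Lib.ArtinFamExC64
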