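import Groth.Agent.Lib.AdicFamC64
import Groth.Agent.Lib.ArtinFamExC64

/-!
# Flatness tested at ONE point of each member of a family of local base changes, Noetherian base,
primary residue field extension: ring level (helper64)

EGA IV 11.6-type statement, existential version (`flat_localized_of_adic_family_ex`).
-/

set_option autoImplicit false
set_option maxHeartbeats 400000
set_option linter.style.haveILetI false
set_option linter.unusedSectionVars false
universe u

open TensorProduct Function IsLocalRing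
open Groth.Agent.Lib.ArtinFamD64 Groth.Agent.Lib.AdicFamA64 Groth.Agent.Lib.AdicFamB64
  Groth.Agent.Lib.ArtinFamExC64
open scoped Groth.Agent.Lib.FlatLimStage88

namespace Groth.Agent.Lib.AdicFamEx64

section Uniq

variable {R : Type u} [CommRing R] {B : Type u} [CommRing B] [Algebra R B]
  (A : Type u) [CommRing A] [Algebra R A]

/-- If every element of `A` is a fraction of elements of `R`, a prime of `A ⊗[R] B` is determined
by its contraction to `B`. -/
theorem le_of_comap_includeRight_le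
    (hA : ∀ a : A, ∃ r s : R, IsUnit (algebraMap R A s) ∧ a * algebraMap R A s = algebraMap R A r)
    (P₁ P₂ : Ideal (A ⊗[R] B)) [P₂.IsPrime]
    (h : P₁.comap (Algebra.TensorProduct.includeRight : B →ₐ[R] A ⊗[R] B) ≤
      P₂.comap (Algebra.TensorProduct.includeRight : B →ₐ[R] A ⊗[R] B)) : P₁ ≤ P₂ := by
  intro t ht
  obtain ⟨s, b, hs, e⟩ := exists_mul_eq_one_tmul A hA t
  have hunit : IsUnit (algebraMap R A s ⊗ₜ[R] (1 : B) : A ⊗[R] B) := by
    have : (algebraMap R A s ⊗ₜ[R] (1 : B) : A ⊗[R] B) =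
        algebraMap A (A ⊗[R] B) (algebraMap R A s) := by
      rw [Algebra.TensorProduct.algebraMap_apply, Algebra.algebraMap_self_apply]
    rw [this]
    exact hs.map _
  have h1 : (1 : A) ⊗ₜ[R] b ∈ P₁ := by
    rw [← e]
    exact P₁.mul_mem_left _ ht
  have h2 : (1 : A) ⊗ₜ[R] b ∈ P₂ := h (Ideal.mem_comap.mpr h1)
  rw [← e] at h2
  rcases Ideal.IsPrime.mem_or_mem inferInstance h2 with h3 | h3
  · exact absurd (Ideal.eq_top_of_isUnit_mem _ h3 hunit) (Ideal.IsPrime.ne_top inferInstance)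
  · exact h3

theorem eq_of_comap_includeRight_eq
    (hA : ∀ a : A, ∃ r s : R, IsUnit (algebraMap R A s) ∧ a * algebraMap R A s = algebraMap R A r)
    (P₁ P₂ : Ideal (A ⊗[R] B)) [P₁.IsPrime] [P₂.IsPrime]
    (h : P₁.comap (Algebra.TensorProduct.includeRight : B →ₐ[R] A ⊗[R] B) =
      P₂.comap (Algebra.TensorProduct.includeRight : B →ₐ[R] A ⊗[R] B)) : P₁ = P₂ :=
  le_antisymm (le_of_comap_includeRight_le A hA P₁ P₂ h.le)
    (le_of_comap_includeRight_le A hA P₂ P₁ h.ge)

end Uniq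

section T

variable {R : Type u} [CommRing R] {B : Type u} [CommRing B] [Algebra R B]
  {M : Type u} [AddCommGroup M] [Module R M] [Module B M] [IsScalarTower R B M]
  (p : Ideal B) [p.IsPrime]
  (A : Type u) [CommRing A] [Algebra R A]
  (A' : Type u) [CommRing A'] [IsLocalRing A'] [Algebra R A'] [Algebra A A'] [IsScalarTower R A A']

set_option synthInstance.maxHeartbeats 400000 in
/-- The existential pointwise hypothesis passes from the base `R` to a stage `A` all of whose
elements are fractions of elements of `R`. -/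
theorem hypEx_stage
    (hA : ∀ a : A, ∃ r s : R, IsUnit (algebraMap R A s) ∧ a * algebraMap R A s = algebraMap R A r)
    (P : Ideal (A ⊗[R] B)) [P.IsPrime]
    (hP : P.comap (Algebra.TensorProduct.includeRight : B →ₐ[R] A ⊗[R] B) = p)
    (H : HypEx R M p A') : HypEx A (A ⊗[R] M) P A' := by
  obtain ⟨Q₀, h1, h2, hfl⟩ := H
  let eS := Algebra.TensorProduct.cancelBaseChange R A A' A' B
  let eM := AlgebraTensorModule.cancelBaseChange R A A' A' M
  haveI hQprime : (Q₀.asIdeal.comap eS.toRingEquiv).IsPrime := Ideal.comap_isPrime _ _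
  have hcc : (Q₀.asIdeal.comap eS.toRingEquiv).comap eS.symm.toRingEquiv = Q₀.asIdeal := by
    ext c
    rw [Ideal.mem_comap, Ideal.mem_comap]
    change eS (eS.symm c) ∈ Q₀.asIdeal ↔ _
    rw [AlgEquiv.apply_symm_apply]
  haveI : ((Q₀.asIdeal.comap eS.toRingEquiv).comap eS.symm.toRingEquiv).IsPrime :=
    Ideal.comap_isPrime _ _
  haveI hQP : ((Q₀.asIdeal.comap eS.toRingEquiv).comap
      (Algebra.TensorProduct.includeRight : A ⊗[R] B →ₐ[A] A' ⊗[A] (A ⊗[R] B))).IsPrime :=
    Ideal.comap_isPrime _ _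
  refine ⟨⟨Q₀.asIdeal.comap eS.toRingEquiv, hQprime⟩, ?_, ?_, ?_⟩
  · apply eq_of_comap_includeRight_eq A hA
    rw [hP, ← h1]
    ext b
    rw [Ideal.mem_comap, Ideal.mem_comap, Ideal.mem_comap, Ideal.mem_comap,
      Algebra.TensorProduct.includeRight_apply, Algebra.TensorProduct.includeRight_apply,
      Algebra.TensorProduct.includeRight_apply]
    change eS ((1 : A') ⊗ₜ[A] ((1 : A) ⊗ₜ[R] b)) ∈ Q₀.asIdeal ↔ _
    rw [Algebra.TensorProduct.cancelBaseChange_tmul, one_smul]
  · rw [← h2]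
    ext a
    rw [Ideal.mem_comap, Ideal.mem_comap, Ideal.mem_comap]
    change eS (algebraMap A' (A' ⊗[A] (A ⊗[R] B)) a) ∈ Q₀.asIdeal ↔ _
    rw [eS.commutes]
  · refine Groth.Agent.Lib.FlatLimOpenBC88.flat_localizedModule_of_semilinearEquiv
      eS.symm.toRingEquiv eM.symm (fun c x => ?_) (Q₀.asIdeal.comap eS.toRingEquiv)
      (Groth.Agent.Lib.RelFlatBC64.flat_localized_congr Q₀.asIdeal _ hcc.symm hfl)
    apply eM.injective
    change eM (eM.symm (c • x)) = eM (eS.symm c • eM.symm x)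
    rw [Groth.Agent.Lib.FlatLimGlobal88.cancelBaseChange_smul', LinearEquiv.apply_symm_apply,
      LinearEquiv.apply_symm_apply]
    change c • x = eS (eS.symm c) • x
    rw [AlgEquiv.apply_symm_apply]

end T


section ArtinStage

variable {R : Type u} [CommRing R]
  {B : Type u} [CommRing B] [Algebra R B] [Algebra.FiniteType R B]
  {M : Type u} [AddCommGroup M] [Module R M] [Module B M] [IsScalarTower R B M] [Module.Finite B M]
  (p : Ideal B) [p.IsPrime]
  (A : Type u) [CommRing A] [Algebra R A] [IsLocalRing A] [IsArtinianRing A]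
  {k : Type u} [Field k] [Algebra A k] (hk : Surjective (algebraMap A k))
  {κ : Type u} [Field κ] [Algebra B κ] [Algebra R κ] [IsScalarTower R B κ]
  [Algebra A κ] [IsScalarTower R A κ] [Algebra k κ] [IsScalarTower A k κ]
  (hκ : RingHom.ker (algebraMap B κ) = p)
  (hfrac : ∀ z : κ, ∃ b s : B, s ∉ p ∧ z * algebraMap B κ s = algebraMap B κ b)
  (hprim : ∀ α : κ, IsSeparable k α → α ∈ Set.range (algebraMap k κ))

include hk hκ hfrac hprim in
set_option synthInstance.maxHeartbeats 400000 in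
/-- The Artinian criterion (existential version) at a stage `A` over `R` all of whose elements are
fractions of elements of `R`. -/
theorem flat_stage_of_family_ex
    (hA : ∀ a : A, ∃ r s : R, IsUnit (algebraMap R A s) ∧ a * algebraMap R A s = algebraMap R A r)
    {J : Type*} (A' : J → Type u) [∀ j, CommRing (A' j)] [∀ j, IsLocalRing (A' j)]
    [∀ j, Algebra R (A' j)] [∀ j, Algebra A (A' j)] [∀ j, IsScalarTower R A (A' j)]
    (hinj : ∀ a : A, (∀ j, algebraMap A (A' j) a = 0) → a = 0)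
    (H : ∀ j, HypEx R M p (A' j)) :
    Module.Flat A (A ⊗[R] LocalizedModule p.primeCompl M) := by
  haveI : IsNoetherianRing (A ⊗[R] B) := Algebra.FiniteType.isNoetherianRing A (A ⊗[R] B)
  let χ : A ⊗[R] B →ₐ[A] κ :=
    Algebra.TensorProduct.lift (Algebra.ofId A κ) (IsScalarTower.toAlgHom R B κ)
      (fun _ _ => Commute.all _ _)
  have hχ : ∀ (a : A) (b : B), χ (a ⊗ₜ[R] b) = algebraMap A κ a * algebraMap B κ b := by
    intro a b
    rw [Algebra.TensorProduct.lift_tmul]
    rfl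
  letI algCκ : Algebra (A ⊗[R] B) κ := χ.toRingHom.toAlgebra
  haveI towC : IsScalarTower A (A ⊗[R] B) κ :=
    IsScalarTower.of_algebraMap_eq fun a => (χ.commutes a).symm
  have hP : (RingHom.ker χ).comap (Algebra.TensorProduct.includeRight : B →ₐ[R] A ⊗[R] B) = p := by
    rw [← hκ]
    ext b
    rw [Ideal.mem_comap, RingHom.mem_ker, RingHom.mem_ker,
      Algebra.TensorProduct.includeRight_apply, hχ, map_one, one_mul]
  have hκ' : RingHom.ker (algebraMap (A ⊗[R] B) κ) = RingHom.ker χ := rfl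
  have hfrac' : ∀ z : κ, ∃ c s : A ⊗[R] B, s ∉ RingHom.ker χ ∧
      z * algebraMap (A ⊗[R] B) κ s = algebraMap (A ⊗[R] B) κ c := by
    intro z
    obtain ⟨b, s, hs, e⟩ := hfrac z
    refine ⟨(1 : A) ⊗ₜ[R] b, (1 : A) ⊗ₜ[R] s, ?_, ?_⟩
    · rw [RingHom.mem_ker, hχ, map_one, one_mul]
      intro h0
      apply hs
      rw [← hκ]
      exact RingHom.mem_ker.mpr h0
    · change z * χ ((1 : A) ⊗ₜ[R] s) = χ ((1 : A) ⊗ₜ[R] b)
      rw [hχ, hχ, map_one, one_mul, one_mul, e]
  have h1 : Module.Flat A (LocalizedModule (RingHom.ker χ).primeCompl (A ⊗[R] M)) :=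
    flat_localized_of_family_ex (A := A) (B := A ⊗[R] B) (M := A ⊗[R] M) (RingHom.ker χ)
      hk hκ' hfrac' hprim A' hinj
      (fun j => hypEx_stage p A (A' j) hA (RingHom.ker χ) hP (H j))
  exact flat_tensor_localized_of_flat_localized_tensor A p hA (RingHom.ker χ) hP h1

end ArtinStage


section Main

variable {R : Type u} [CommRing R] [IsNoetherianRing R]
  {B : Type u} [CommRing B] [Algebra R B] [Algebra.FiniteType R B]
  {M : Type u} [AddCommGroup M] [Module R M] [Module B M] [IsScalarTower R B M] [Module.Finite B M]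
  (p : Ideal B) [p.IsPrime] (q : Ideal R) [q.IsPrime] (hq : q = p.comap (algebraMap R B))
  (O : Type u) [CommRing O] [Algebra R O] [IsLocalization.AtPrime O q] [IsLocalRing O]
  {ι : Type u} (A' : ι → Type u) [∀ i, CommRing (A' i)] [∀ i, IsLocalRing (A' i)]
  [∀ i, Algebra R (A' i)] [∀ i, Algebra O (A' i)] [∀ i, IsScalarTower R O (A' i)]
  [∀ i, IsLocalHom (algebraMap O (A' i))]
  {k : Type u} [Field k] [Algebra O k] (hk : Surjective (algebraMap O k))
  {κ : Type u} [Field κ] [Algebra B κ] [Algebra R κ] [IsScalarTower R B κ]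
  [Algebra O κ] [IsScalarTower R O κ] [Algebra k κ] [IsScalarTower O k κ]
  (hκ : RingHom.ker (algebraMap B κ) = p)
  (hfrac : ∀ z : κ, ∃ b s : B, s ∉ p ∧ z * algebraMap B κ s = algebraMap B κ b)
  (hprim : ∀ α : κ, IsSeparable k α → α ∈ Set.range (algebraMap k κ))

include q hq hk hκ hfrac hprim in
set_option synthInstance.maxHeartbeats 400000 in
/-- The Artinian step (existential version). -/
theorem flat_quotient_of_finset_ex (s : Finset (ι × ℕ)) (hs : ∀ j ∈ s, 0 < j.2)
    (h𝔠 : (⨅ j ∈ s, Ideal.comap (algebraMap O (A' j.1)) (maximalIdeal (A' j.1) ^ j.2)) ≤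
      maximalIdeal O)
    (H : ∀ i, HypEx R M p (A' i)) :
    Module.Flat
      (O ⧸ (⨅ j ∈ s, Ideal.comap (algebraMap O (A' j.1)) (maximalIdeal (A' j.1) ^ j.2)))
      ((O ⧸ (⨅ j ∈ s, Ideal.comap (algebraMap O (A' j.1)) (maximalIdeal (A' j.1) ^ j.2))) ⊗[R]
        LocalizedModule p.primeCompl M) := by
  set 𝔠 : Ideal O := ⨅ j ∈ s, Ideal.comap (algebraMap O (A' j.1)) (maximalIdeal (A' j.1) ^ j.2)
    with h𝔠def
  haveI : IsNoetherianRing O := IsLocalization.isNoetherianRing q.primeCompl O inferInstance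
  have hK : maximalIdeal O ^ (s.sup fun j => j.2) ≤ 𝔠 := by
    rw [h𝔠def]
    refine le_iInf₂ fun j hj => ?_
    have h1 : maximalIdeal O ≤
        Ideal.comap (algebraMap O (A' j.1)) (maximalIdeal (A' j.1)) := by
      intro x hx
      rw [Ideal.mem_comap, mem_maximalIdeal, mem_nonunits_iff]
      intro hu
      exact (mem_maximalIdeal x).mp hx ((isUnit_map_iff (algebraMap O (A' j.1)) x).mp hu)
    calc maximalIdeal O ^ (s.sup fun j => j.2) ≤ maximalIdeal O ^ j.2 :=
          Ideal.pow_le_pow_right (Finset.le_sup (f := fun j : ι × ℕ => j.2) hj)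
      _ ≤ (Ideal.comap (algebraMap O (A' j.1)) (maximalIdeal (A' j.1))) ^ j.2 :=
          Ideal.pow_right_mono h1 _
      _ ≤ Ideal.comap (algebraMap O (A' j.1)) (maximalIdeal (A' j.1) ^ j.2) :=
          Ideal.le_comap_pow _ _
  obtain ⟨hloc, hart⟩ := isArtinian_quotient 𝔠 h𝔠 _ hK
  haveI := hloc
  haveI := hart
  -- the family of Artinian quotients
  haveI hlocfam : ∀ j : {j : ι × ℕ // j ∈ s},
      IsLocalRing (A' j.1.1 ⧸ maximalIdeal (A' j.1.1) ^ j.1.2) := fun j => by
    have htop : maximalIdeal (A' j.1.1) ^ j.1.2 ≠ ⊤ := by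
      intro h
      have h2 : maximalIdeal (A' j.1.1) ^ j.1.2 ≤ maximalIdeal (A' j.1.1) :=
        Ideal.pow_le_self (hs j.1 j.2).ne'
      exact (maximalIdeal.isMaximal (A' j.1.1)).ne_top (top_le_iff.mp (h ▸ h2))
    haveI : Nontrivial (A' j.1.1 ⧸ maximalIdeal (A' j.1.1) ^ j.1.2) :=
      Ideal.Quotient.nontrivial_iff.mpr htop
    exact IsLocalRing.of_surjective' (Ideal.Quotient.mk _) Ideal.Quotient.mk_surjective
  have hle : ∀ j : {j : ι × ℕ // j ∈ s},
      𝔠 ≤ Ideal.comap (algebraMap O (A' j.1.1)) (maximalIdeal (A' j.1.1) ^ j.1.2) :=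
    fun j => iInf₂_le j.1 j.2
  letI algfam : ∀ j : {j : ι × ℕ // j ∈ s},
      Algebra (O ⧸ 𝔠) (A' j.1.1 ⧸ maximalIdeal (A' j.1.1) ^ j.1.2) := fun j =>
    (Ideal.quotientMap (maximalIdeal (A' j.1.1) ^ j.1.2) (algebraMap O (A' j.1.1))
      (hle j)).toAlgebra
  haveI towfam : ∀ j : {j : ι × ℕ // j ∈ s},
      IsScalarTower R (O ⧸ 𝔠) (A' j.1.1 ⧸ maximalIdeal (A' j.1.1) ^ j.1.2) := fun j =>
    IsScalarTower.of_algebraMap_eq fun r => by
      change Ideal.Quotient.mk _ (algebraMap R (A' j.1.1) r) =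
        Ideal.quotientMap _ _ (hle j) (Ideal.Quotient.mk 𝔠 (algebraMap R O r))
      rw [Ideal.quotientMap_mk, ← IsScalarTower.algebraMap_apply]
  -- residue fields at the stage
  have hkerk : RingHom.ker (algebraMap O k) = maximalIdeal O := by
    haveI : (RingHom.ker (algebraMap O k)).IsMaximal :=
      RingHom.ker_isMaximal_of_surjective _ hk
    exact IsLocalRing.eq_maximalIdeal inferInstance
  have hkill : ∀ a ∈ 𝔠, algebraMap O k a = 0 := by
    intro a ha
    rw [← RingHom.mem_ker, hkerk]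
    exact h𝔠 ha
  letI algAk : Algebra (O ⧸ 𝔠) k := (Ideal.Quotient.lift 𝔠 (algebraMap O k) hkill).toAlgebra
  have hk' : Surjective (algebraMap (O ⧸ 𝔠) k) := by
    intro l
    obtain ⟨o, rfl⟩ := hk l
    exact ⟨Ideal.Quotient.mk 𝔠 o, Ideal.Quotient.lift_mk _ _ _⟩
  letI algAκ : Algebra (O ⧸ 𝔠) κ := ((algebraMap k κ).comp (algebraMap (O ⧸ 𝔠) k)).toAlgebra
  haveI towAkκ : IsScalarTower (O ⧸ 𝔠) k κ := IsScalarTower.of_algebraMap_eq fun _ => rfl
  haveI towRAκ : IsScalarTower R (O ⧸ 𝔠) κ := IsScalarTower.of_algebraMap_eq fun r => by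
    change _ = algebraMap k κ (Ideal.Quotient.lift 𝔠 (algebraMap O k) hkill
      (Ideal.Quotient.mk 𝔠 (algebraMap R O r)))
    rw [Ideal.Quotient.lift_mk, ← IsScalarTower.algebraMap_apply O k κ,
      ← IsScalarTower.algebraMap_apply R O κ]
  refine flat_stage_of_family_ex p (O ⧸ 𝔠) hk' hκ hfrac hprim (exists_fraction_quotient q O 𝔠)
    (fun j : {j : ι × ℕ // j ∈ s} => A' j.1.1 ⧸ maximalIdeal (A' j.1.1) ^ j.1.2) ?_
    (fun j => (H j.1.1).quotient p _)
  intro a ha
  obtain ⟨x, rfl⟩ := Ideal.Quotient.mk_surjective a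
  rw [Ideal.Quotient.eq_zero_iff_mem, h𝔠def]
  simp only [Ideal.mem_iInf]
  intro j hj
  have h1 := ha ⟨j, hj⟩
  change Ideal.quotientMap _ _ (hle ⟨j, hj⟩) (Ideal.Quotient.mk 𝔠 x) = 0 at h1
  rw [Ideal.quotientMap_mk, Ideal.Quotient.eq_zero_iff_mem] at h1
  exact h1

include q hq hk hκ hfrac hprim in
/-- **EGA IV 11.6 (existential version), ring level.** -/
theorem flat_localized_of_adic_family_ex
    (htop : ∀ N : ℕ, ∃ s : Finset (ι × ℕ),
      ⨅ j ∈ s, Ideal.comap (algebraMap O (A' j.1)) (maximalIdeal (A' j.1) ^ j.2) ≤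
        maximalIdeal O ^ N)
    (H : ∀ i, HypEx R M p (A' i)) :
    Module.Flat R (LocalizedModule p.primeCompl M) := by
  classical
  apply flat_localized_of_forall_quotient p q hq O
  intro n hn
  obtain ⟨s, hs⟩ := htop n
  have heq : (⨅ j ∈ s.filter (fun j => 0 < j.2),
      Ideal.comap (algebraMap O (A' j.1)) (maximalIdeal (A' j.1) ^ j.2)) =
      ⨅ j ∈ s, Ideal.comap (algebraMap O (A' j.1)) (maximalIdeal (A' j.1) ^ j.2) := by
    apply le_antisymm
    · refine le_iInf₂ fun j hj => ?_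
      by_cases h0 : 0 < j.2
      · exact iInf₂_le j (Finset.mem_filter.mpr ⟨hj, h0⟩)
      · have : j.2 = 0 := by omega
        rw [this, pow_zero, Ideal.one_eq_top, Ideal.comap_top]
        exact le_top
    · exact le_iInf₂ fun j hj => iInf₂_le j (Finset.mem_of_mem_filter j hj)
  have hle : (⨅ j ∈ s.filter (fun j => 0 < j.2),
      Ideal.comap (algebraMap O (A' j.1)) (maximalIdeal (A' j.1) ^ j.2)) ≤ maximalIdeal O ^ n :=
    heq ▸ hs
  exact ⟨_, hle, flat_quotient_of_finset_ex p q hq O A' hk hκ hfrac hprim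
    (s.filter (fun j => 0 < j.2))
    (fun j hj => (Finset.mem_filter.mp hj).2) (hle.trans (Ideal.pow_le_self hn.ne')) H⟩

end Main

end Groth.Agent.Lib.AdicFamEx64
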