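import Groth.Agent.Lib.QCohStalk
import Groth.Prelude.Def_CurvBase
import Mathlib.RingTheory.Ideal.MinimalPrime.Localization
import Mathlib.RingTheory.Ideal.AssociatedPrime.Localization

set_option autoImplicit false
universe u
open CategoryTheory CategoryTheory.Limits AlgebraicGeometry TopologicalSpace Opposite

namespace Groth.Agent.Lib.AssPoints

open Groth.Agent.Lib.QCohStalk

section Algebra

variable {A : Type*} [CommRing A] (p : Ideal A) [p.IsPrime]
  (A' : Type*) [CommRing A'] [Algebra A A'] [IsLocalization.AtPrime A' p]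
  {M M' : Type*} [AddCommGroup M] [Module A M] [AddCommGroup M'] [Module A M']
  [Module A' M'] [IsScalarTower A A' M'] (f : M →ₗ[A] M') [IsLocalizedModule p.primeCompl f]

/-- annihilator of an element -/
abbrev ann (R : Type*) [CommRing R] {N : Type*} [AddCommGroup N] [Module R N] (n : N) : Ideal R :=
  LinearMap.ker (LinearMap.toSpanSingleton R N n)

lemma mem_ann {R : Type*} [CommRing R] {N : Type*} [AddCommGroup N] [Module R N] (n : N)
    (r : R) : r ∈ ann R n ↔ r • n = 0 := by
  simp [ann, LinearMap.mem_ker]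

include p in
lemma ann_localized (m : M) :
    ann A' (f m) = (ann A m).map (algebraMap A A') := by
  apply le_antisymm
  · intro α hα
    rw [mem_ann] at hα
    obtain ⟨a, s, rfl⟩ := IsLocalization.exists_mk'_eq p.primeCompl α
    have h1 : (algebraMap A A' a) • f m = 0 := by
      have : algebraMap A A' a = algebraMap A A' s.1 * IsLocalization.mk' A' a s := by
        rw [IsLocalization.mk'_spec']
      rw [this, mul_smul, hα, smul_zero]
    rw [algebraMap_smul, ← map_smul] at h1
    obtain ⟨t, ht⟩ := (IsLocalizedModule.eq_zero_iff p.primeCompl f).mp h1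
    have hta : t.1 * a ∈ ann A m := by
      rw [mem_ann, mul_smul]
      exact ht
    have : IsLocalization.mk' A' a s = IsLocalization.mk' A' (t.1 * a) (t * s) := by
      rw [IsLocalization.mk'_eq_iff_eq]
      simp only [Submonoid.coe_mul]
      congr 1
      ring
    rw [this, IsLocalization.mk'_eq_mul_mk'_one]
    exact Ideal.mul_mem_right _ _ (Ideal.mem_map_of_mem _ hta)
  · rw [Ideal.map_le_iff_le_comap]
    intro a ha
    rw [mem_ann] at ha
    rw [Ideal.mem_comap, mem_ann, algebraMap_smul, ← map_smul, ha, map_zero]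

include p in
lemma radical_ann_localized_of_minimal [IsLocalRing A'] (m : M)
    (hp : p ∈ (ann A m).minimalPrimes) :
    (ann A' (f m)).radical = IsLocalRing.maximalIdeal A' := by
  rw [ann_localized p A' f m,
    IsLocalization.AtPrime.radical_map_of_mem_minimalPrimes (A := A') p _ hp,
    IsLocalization.AtPrime.map_eq_maximalIdeal p A']

include p in
lemma minimal_of_radical_ann_localized [IsLocalRing A'] (m : M)
    (h : (ann A' (f m)).radical = IsLocalRing.maximalIdeal A') :
    p ∈ (ann A m).minimalPrimes := by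
  rw [ann_localized p A' f m] at h
  have hle : ann A m ≤ p := by
    have hne : (ann A m).map (algebraMap A A') ≠ ⊤ := by
      intro htop
      rw [htop, Ideal.radical_top] at h
      exact (IsLocalRing.maximalIdeal.isMaximal A').ne_top h.symm
    rw [IsLocalization.map_algebraMap_ne_top_iff_disjoint p.primeCompl] at hne
    intro a ha
    by_contra hap
    exact Set.disjoint_left.mp hne hap ha
  refine ⟨⟨inferInstance, hle⟩, ?_⟩
  rintro q ⟨hq, hIq⟩ hqp
  have hq' : (q.map (algebraMap A A')).IsPrime :=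
    IsLocalization.isPrime_of_isPrime_disjoint p.primeCompl A' q hq
      (Set.disjoint_left.mpr fun a hap haq => hap (hqp haq))
  have h1 : IsLocalRing.maximalIdeal A' ≤ q.map (algebraMap A A') := by
    rw [← h]
    exact hq'.radical_le_iff.mpr (Ideal.map_mono hIq)
  have h2 : (IsLocalRing.maximalIdeal A').under A ≤ (q.map (algebraMap A A')).under A :=
    Ideal.comap_mono h1
  rw [IsLocalization.under_map_of_isPrime_disjoint p.primeCompl A' hq
    (Set.disjoint_left.mpr fun a hap haq => hap (hqp haq)),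
    IsLocalization.AtPrime.under_maximalIdeal A' p] at h2
  exact h2

end Algebra

section Geometry

variable {X : Scheme.{u}}

lemma fromSpec_mem {U : X.Opens} (hU : IsAffineOpen U) (q : PrimeSpectrum Γ(X, U)) :
    hU.fromSpec q ∈ U := by
  have : hU.fromSpec q ∈ Set.range hU.fromSpec := ⟨q, rfl⟩
  rw [hU.range_fromSpec] at this
  exact this

lemma primeIdealOf_fromSpec {U : X.Opens} (hU : IsAffineOpen U) (q : PrimeSpectrum Γ(X, U)) :
    hU.primeIdealOf ⟨hU.fromSpec q, fromSpec_mem hU q⟩ = q := by
  apply hU.fromSpec.isOpenEmbedding.injective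
  exact hU.fromSpec_primeIdealOf ⟨hU.fromSpec q, fromSpec_mem hU q⟩

/-- The module `G` has the localization property at the point `y` of the affine open `U`:
the germ map from sections over `U` to the stalk is the localization at the prime of `y`. -/
def IsLocAt (G : X.Modules) {U : X.Opens} (hU : IsAffineOpen U) (y : U) : Prop :=
  letI := moduleSectionStalk G y
  IsLocalizedModule (hU.primeIdealOf y).asIdeal.primeCompl (germLinear G y)

lemma isLocAt_of_isQuasicoherent (F : X.Modules) [F.IsQuasicoherent] {U : X.Opens}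
    (hU : IsAffineOpen U) (y : U) : IsLocAt F hU y :=
  isLocalizedModule_germ F hU y

theorem isWeakAssPoint_of_minimal (G : X.Modules) {U : X.Opens} (hU : IsAffineOpen U) (y : U)
    (hloc : IsLocAt G hU y) (m : Γ(G, U))
    (hmin : (hU.primeIdealOf y).asIdeal ∈ (ann Γ(X, U) m).minimalPrimes) :
    Curv2.IsWeakAssPoint G y.1 := by
  letI := moduleSectionStalk G y
  haveI := isScalarTower_sectionStalk G y
  haveI : IsLocalizedModule (hU.primeIdealOf y).asIdeal.primeCompl (germLinear G y) := hloc
  haveI := hU.isLocalization_stalk y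
  refine ⟨germLinear G y m, ?_⟩
  exact radical_ann_localized_of_minimal (hU.primeIdealOf y).asIdeal (X.presheaf.stalk y.1)
    (germLinear G y) m hmin

theorem exists_minimal_of_isWeakAssPoint (G : X.Modules) {U : X.Opens} (hU : IsAffineOpen U)
    (y : U) (hloc : IsLocAt G hU y) (hy : Curv2.IsWeakAssPoint G y.1) :
    ∃ m : Γ(G, U), (hU.primeIdealOf y).asIdeal ∈ (ann Γ(X, U) m).minimalPrimes := by
  letI := moduleSectionStalk G y
  haveI := isScalarTower_sectionStalk G y
  haveI : IsLocalizedModule (hU.primeIdealOf y).asIdeal.primeCompl (germLinear G y) := hloc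
  haveI := hU.isLocalization_stalk y
  obtain ⟨ξ, hξ⟩ := hy
  obtain ⟨⟨m, g⟩, hg⟩ := IsLocalizedModule.surj (hU.primeIdealOf y).asIdeal.primeCompl
    (germLinear G y) ξ
  refine ⟨m, ?_⟩
  apply minimal_of_radical_ann_localized (hU.primeIdealOf y).asIdeal (X.presheaf.stalk y.1)
    (germLinear G y) m
  rw [← hξ]
  congr 1
  have hunit : IsUnit (algebraMap Γ(X, U) (X.presheaf.stalk y.1) g.1) :=
    IsLocalization.map_units (X.presheaf.stalk y.1) g
  have hg' : algebraMap Γ(X, U) (X.presheaf.stalk y.1) g.1 • ξ = germLinear G y m := by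
    rw [algebraMap_smul]
    exact hg
  ext a
  rw [mem_ann, mem_ann, ← hg', smul_comm]
  exact hunit.smul_eq_zero

theorem isAssPoint_iff_isWeakAssPoint (F : X.Modules) (x : X) :
    Curv2.IsAssPoint F x ↔ Curv2.IsWeakAssPoint F x := by
  have hcolon : ∀ m : F.presheaf.stalk x,
      (Submodule.colon (⊥ : Submodule (X.presheaf.stalk x) (F.presheaf.stalk x)) {m}) =
        LinearMap.ker (LinearMap.toSpanSingleton (X.presheaf.stalk x) (F.presheaf.stalk x) m) := by
    intro m
    ext a
    rw [Submodule.mem_colon_singleton, LinearMap.mem_ker, LinearMap.toSpanSingleton_apply,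
      Submodule.mem_bot]
  constructor
  · rintro ⟨-, m, hm⟩
    exact ⟨m, by rw [← hcolon, ← hm]⟩
  · rintro ⟨m, hm⟩
    exact ⟨inferInstance, m, by rw [hcolon, hm]⟩

lemma isUnit_germ_iff {U : X.Opens} (hU : IsAffineOpen U) (y : U) (g : Γ(X, U)) :
    IsUnit (X.presheaf.germ U y.1 y.2 g) ↔ g ∉ (hU.primeIdealOf y).asIdeal := by
  have := hU.isLocalization_stalk y
  exact IsLocalization.AtPrime.isUnit_to_map_iff (X.presheaf.stalk (y : X))
    (hU.primeIdealOf y).asIdeal g

/-- If a section of a quasi-coherent module has a nonzero germ at `x`, then some weakly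
associated point `y` specializing to `x` also has nonzero germ. -/
theorem exists_isWeakAssPoint_of_germ_ne_zero (F : X.Modules) [F.IsQuasicoherent]
    {V : X.Opens} (s : Γ(F, V)) (x : X) (hx : x ∈ V) (hs : F.presheaf.germ V x hx s ≠ 0) :
    ∃ (y : X) (hy : y ∈ V), y ⤳ x ∧ Curv2.IsWeakAssPoint F y ∧
      F.presheaf.germ V y hy s ≠ 0 := by
  obtain ⟨_, ⟨W, hW, rfl⟩, hxW, hWV⟩ :=
    X.isBasis_affineOpens.exists_subset_of_mem_open hx V.2
  replace hWV : W ≤ V := hWV
  set m : Γ(F, W) := res F hWV s with hm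
  have hmx : F.presheaf.germ W x hxW m ≠ 0 := by
    rw [hm, germ_res]
    exact hs
  set p := hW.primeIdealOf ⟨x, hxW⟩ with hp
  have hIp : ann Γ(X, W) m ≤ p.asIdeal := by
    intro a ha
    by_contra hap
    have hu : IsUnit (X.presheaf.germ W x hxW a) := (isUnit_germ_iff hW ⟨x, hxW⟩ a).mpr hap
    rw [mem_ann] at ha
    have h0 : X.presheaf.germ W x hxW a • F.presheaf.germ W x hxW m = 0 := by
      rw [← germ_smul, ha, map_zero]
    exact hmx (hu.smul_eq_zero.mp h0)
  obtain ⟨q, hqmin, hqp⟩ := Ideal.exists_minimalPrimes_le hIp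
  haveI : q.IsPrime := hqmin.1.1
  let y : W := ⟨hW.fromSpec ⟨q, inferInstance⟩, fromSpec_mem hW _⟩
  have hyq : hW.primeIdealOf y = ⟨q, inferInstance⟩ := primeIdealOf_fromSpec hW _
  refine ⟨y.1, hWV y.2, ?_, ?_, ?_⟩
  · have h1 : (⟨q, inferInstance⟩ : PrimeSpectrum Γ(X, W)) ⤳ p :=
      (PrimeSpectrum.le_iff_specializes _ _).mp hqp
    have h2 := h1.map hW.fromSpec.continuous
    have h3 : hW.fromSpec p = x := hW.fromSpec_primeIdealOf ⟨x, hxW⟩
    rw [h3] at h2
    exact h2
  · apply isWeakAssPoint_of_minimal F hW y (isLocAt_of_isQuasicoherent F hW y) m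
    rw [hyq]
    exact hqmin
  · intro h0
    rw [← germ_res F hWV y.1 y.2 s] at h0
    obtain ⟨g, hg, hgm⟩ := exists_smul_eq_zero_of_germ_eq_zero F hW y.1 y.2 m h0
    rw [isUnit_germ_iff hW y g, hyq] at hg
    exact hg (hqmin.1.2 ((mem_ann m g).mpr hgm))

end Geometry

end Groth.Agent.Lib.AssPoints
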