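import Groth.Agent.Lib.ModStalk
import Groth.Agent.Lib.QCohStalk
import Groth.Agent.Lib.AssPoints
import Groth.Prelude.Def_Coh

/-!
# Finiteness for finite type / coherent `O_X`-modules

* `span_germ_eq_top`: if `G` is a family of generating sections of `N : Y.Modules`
  then at every point `y` the germs of the `G.s i` span the stalk `N_y` over `O_{Y,y}`.
-/

set_option autoImplicit false
universe u

open CategoryTheory CategoryTheory.Limits AlgebraicGeometry TopologicalSpace Opposite

namespace Groth.Agent.Lib.CohFinite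

open Groth.Agent.Lib.ModStalk Groth.Agent.Lib.QCohStalk

variable {Y : Scheme.{u}}

theorem app_one_res (N : Y.Modules) (φ : unitMod Y ⟶ N) {W V : Y.Opens} (h : W ≤ V) :
    φ.app W (1 : Γ(Y, W)) = N.presheaf.map (homOfLE h).op (φ.app V (1 : Γ(Y, V))) := by
  have hn := φ.mapPresheaf.naturality (homOfLE h).op
  have h1 := congrArg (fun g => g (1 : Γ(Y, V))) (congrArg (fun g => g.hom) hn)
  have h2 : (unitMod Y).presheaf.map (homOfLE h).op (1 : Γ(Y, V)) = (1 : Γ(Y, W)) :=
    map_one (Y.presheaf.map (homOfLE h).op).hom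
  simp only [Scheme.Modules.mapPresheaf_app] at h1
  rw [← h2]
  exact h1

/-- Image of a germ of a function under the stalk map of a morphism `O ⟶ N`. -/
theorem stalk_map_unit_mem (N : Y.Modules) (φ : unitMod Y ⟶ N) (y : Y)
    (ζ : (unitMod Y).presheaf.stalk y) :
    (show N.presheaf.stalk y from (stalkFunctor y).map φ ζ) ∈
      Submodule.span (Y.presheaf.stalk y)
        {N.presheaf.germ ⊤ y trivial (φ.app ⊤ (1 : Γ(Y, ⊤)))} := by
  obtain ⟨W, hyW, a, rfl⟩ := TopCat.Presheaf.exists_germ_eq (unitMod Y).presheaf ζ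
  have h1 : (stalkFunctor y).map φ ((unitMod Y).presheaf.germ W y hyW a) =
      N.presheaf.germ W y hyW (φ.app W a) := by
    rw [stalkFunctor_map]
    exact TopCat.Presheaf.stalkFunctor_map_germ_apply W y hyW φ.mapPresheaf a
  rw [h1]
  have ha : a = (show Γ(Y, W) from a) • (show Γ(unitMod Y, W) from (1 : Γ(Y, W))) :=
    (mul_one (show Γ(Y, W) from a)).symm
  have h2 : φ.app W a = (show Γ(Y, W) from a) • φ.app W (1 : Γ(Y, W)) := by
    conv_lhs => rw [ha]
    rw [Scheme.Modules.Hom.app_smul]
  rw [h2, germ_smul, app_one_res N φ (le_top : W ≤ ⊤)]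
  have h5 : N.presheaf.germ W y hyW
      (N.presheaf.map (homOfLE (le_top : W ≤ ⊤)).op (φ.app ⊤ (1 : Γ(Y, ⊤)))) =
      N.presheaf.germ ⊤ y trivial (φ.app ⊤ (1 : Γ(Y, ⊤))) := germ_res N le_top y hyW _
  rw [h5]
  exact Submodule.smul_mem _ _ (Submodule.subset_span rfl)

open SheafOfModules in
set_option backward.isDefEq.respectTransparency false in
/-- If `N` is generated by finitely many global sections, then at every point their germs span
the stalk. -/
theorem span_germ_eq_top (N : Y.Modules) (G : SheafOfModules.GeneratingSections N)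
    [G.IsFiniteType] (y : Y) :
    Submodule.span (Y.presheaf.stalk y)
      (Set.range fun i : G.I => N.presheaf.germ ⊤ y trivial ((G.s i).val (op ⊤))) = ⊤ := by
  classical
  set S : Submodule (Y.presheaf.stalk y) (N.presheaf.stalk y) := Submodule.span (Y.presheaf.stalk y)
      (Set.range fun i : G.I => N.presheaf.germ ⊤ y trivial ((G.s i).val (op ⊤))) with hS
  have := Fintype.ofFinite G.I
  let F := stalkFunctor y
  let q : F.obj N ⟶ AddCommGrpCat.of ((N.presheaf.stalk y) ⧸ S.toAddSubgroup) :=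
    AddCommGrpCat.ofHom (QuotientAddGroup.mk' S.toAddSubgroup)
  have hc : IsColimit (Cofan.mk (F.obj (free G.I)) fun j : G.I => F.map (ιFree (R := Y.ringCatSheaf) j)) :=
    isColimitCofanMkObjOfIsColimit F _ _ (isColimitFreeCofan (R := Y.ringCatSheaf) G.I)
  have hq : F.map G.π ≫ q = 0 := by
    apply Cofan.IsColimit.hom_ext hc
    intro i
    simp only [comp_zero]
    change F.map (ιFree i) ≫ F.map G.π ≫ q = 0
    have h1 : ιFree i ≫ G.π = (SheafOfModules.unitHomEquiv N).symm (G.s i) := by
      rw [← unitHomEquiv_symm_freeHomEquiv_apply, Equiv.apply_symm_apply]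
    rw [← Category.assoc, ← F.map_comp, h1]
    set φ : unitMod Y ⟶ N := (SheafOfModules.unitHomEquiv N).symm (G.s i) with hφ
    have h3 : φ.app ⊤ (1 : Γ(Y, ⊤)) = (G.s i).val (op ⊤) := by
      have := congrArg (fun t : N.sections => t.val (op ⊤))
        (Equiv.apply_symm_apply (SheafOfModules.unitHomEquiv N) (G.s i))
      exact this
    ext ζ
    have hmem := stalk_map_unit_mem N φ y ζ
    rw [h3] at hmem
    have hsub : ({N.presheaf.germ ⊤ y trivial ((G.s i).val (op ⊤))} : Set (N.presheaf.stalk y)) ⊆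
        Set.range fun i : G.I => N.presheaf.germ ⊤ y trivial ((G.s i).val (op ⊤)) := by
      rintro _ rfl
      exact ⟨i, rfl⟩
    have hS' : (show N.presheaf.stalk y from (stalkFunctor y).map φ ζ) ∈ S :=
      Submodule.span_mono hsub hmem
    exact (QuotientAddGroup.eq_zero_iff _).mpr hS'
  have hq0 : q = 0 := by
    have : Epi (F.map G.π) :=
      (AddCommGrpCat.epi_iff_surjective _).mpr
        (@stalk_surjective_of_epi Y (free G.I) N G.π G.epi y)
    exact (cancel_epi (F.map G.π)).mp (by rw [hq, comp_zero])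
  rw [eq_top_iff]
  intro ν _
  have := congrArg (fun g => g.hom ν) hq0
  exact (QuotientAddGroup.eq_zero_iff _).mp this

section Restrict

variable {X : Scheme.{u}}

/-- The comparison of stalks of a restricted module is semilinear. -/
theorem restrictStalk_smul (f : X ⟶ Y) [IsOpenImmersion f] (M : Y.Modules) (x : X)
    (a : X.presheaf.stalk x) (ν : (M.restrict f).presheaf.stalk x) :
    ∃ a' : Y.presheaf.stalk (f x),
      ((Scheme.Modules.restrictStalkNatIso f x).hom.app M) (a • ν) =
        a' • (show M.presheaf.stalk (f x) from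
          ((Scheme.Modules.restrictStalkNatIso f x).hom.app M) ν) := by
  obtain ⟨V₁, hx₁, r, rfl⟩ := TopCat.Presheaf.exists_germ_eq X.presheaf a
  obtain ⟨V₂, hx₂, m, rfl⟩ := TopCat.Presheaf.exists_germ_eq (M.restrict f).presheaf ν
  have hxV : x ∈ V₁ ⊓ V₂ := ⟨hx₁, hx₂⟩
  rw [← germO_res X (inf_le_left : V₁ ⊓ V₂ ≤ V₁) x hxV r,
    ← germ_res (M.restrict f) (inf_le_right : V₁ ⊓ V₂ ≤ V₂) x hxV m, ← germ_smul]
  have key := fun t => congr($(Scheme.Modules.germ_restrictStalkNatIso_hom_app f x M hxV) t)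
  simp only [AddCommGrpCat.hom_comp, AddMonoidHom.coe_comp, Function.comp_apply] at key
  set r' := resO X (inf_le_left : V₁ ⊓ V₂ ≤ V₁) r
  set m' := res (M.restrict f) (inf_le_right : V₁ ⊓ V₂ ≤ V₂) m
  have hmem : f x ∈ f ''ᵁ (V₁ ⊓ V₂) := ⟨x, hxV, rfl⟩
  refine ⟨Y.presheaf.germ (f ''ᵁ (V₁ ⊓ V₂)) (f x) hmem ((f.appIso (V₁ ⊓ V₂)).inv r'), ?_⟩
  have e1 := key (r' • m')
  have e2 := key m'
  refine e1.trans ?_
  refine Eq.trans ?_ (congrArg (fun z : M.presheaf.stalk (f x) =>
    Y.presheaf.germ (f ''ᵁ (V₁ ⊓ V₂)) (f x) hmem ((f.appIso (V₁ ⊓ V₂)).inv r') • z) e2.symm)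
  have h3 := Scheme.Modules.smul_restrictAppIso_hom_apply f M (V₁ ⊓ V₂) r' m'
  have h4 := germ_smul M (f ''ᵁ (V₁ ⊓ V₂)) (f x) hmem ((f.appIso (V₁ ⊓ V₂)).inv r')
    (show Γ(M, f ''ᵁ (V₁ ⊓ V₂)) from m')
  rw [← h4]
  exact congrArg _ h3

/-- Generating sections of the restriction of `M` along an open immersion `f` give sections of
`M` over the image of `f` whose germs span every stalk. -/
theorem span_germ_restrict_eq_top (f : X ⟶ Y) [IsOpenImmersion f] (M : Y.Modules)
    (G : SheafOfModules.GeneratingSections (M.restrict f)) [G.IsFiniteType] (x : X) :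
    Submodule.span (Y.presheaf.stalk (f x))
      (Set.range fun i : G.I => M.presheaf.germ (f ''ᵁ ⊤) (f x) ⟨x, trivial, rfl⟩
         (show Γ(M, f ''ᵁ ⊤) from (G.s i).val (op ⊤))) = ⊤ := by
  have hN := span_germ_eq_top (M.restrict f) G x
  have key := fun t => congr($(Scheme.Modules.germ_restrictStalkNatIso_hom_app f x M
    (U := ⊤) trivial) t)
  simp only [AddCommGrpCat.hom_comp, AddMonoidHom.coe_comp, Function.comp_apply] at key
  set e := (Scheme.Modules.restrictStalkNatIso f x).app M with he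
  let φ : (M.restrict f).presheaf.stalk x →+ M.presheaf.stalk (f x) := e.hom.hom
  have hφ : ∀ ν, φ ν = ((Scheme.Modules.restrictStalkNatIso f x).hom.app M) ν := fun _ => rfl
  rw [eq_top_iff]
  rintro μ -
  obtain ⟨ν, rfl⟩ : ∃ ν : (M.restrict f).presheaf.stalk x, φ ν = μ :=
    ⟨e.inv μ, by
      have := congr($(e.inv_hom_id) μ)
      exact this⟩
  have hν : ν ∈ Submodule.span (X.presheaf.stalk x)
      (Set.range fun i : G.I => (M.restrict f).presheaf.germ ⊤ x trivial ((G.s i).val (op ⊤))) := by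
    rw [hN]; trivial
  induction hν using Submodule.span_induction with
  | mem ν h =>
    obtain ⟨i, rfl⟩ := h
    apply Submodule.subset_span
    exact ⟨i, (key _).symm⟩
  | zero =>
    rw [map_zero φ]
    exact Submodule.zero_mem _
  | add a b _ _ ha hb =>
    rw [map_add φ]
    exact Submodule.add_mem _ ha hb
  | smul a ν _ h =>
    obtain ⟨a', ha'⟩ := restrictStalk_smul f M x a ν
    have : φ (a • ν) = a' • φ ν := ha'
    rw [this]
    exact Submodule.smul_mem _ _ h

/-- A finite type module is, locally around any point, generated on stalks by finitely many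
sections: there are an open neighbourhood `W` of `x` and finitely many sections of `M` over `W`
whose germs span the stalk of `M` at every point of `W`. -/
theorem exists_sections_span_stalk (M : Y.Modules) [M.IsFiniteType] (x : Y) :
    ∃ (W : Y.Opens) (_ : x ∈ W) (I : Type u) (_ : Finite I) (s : I → Γ(M, W)),
      ∀ (z : Y) (hz : z ∈ W), Submodule.span (Y.presheaf.stalk z)
        (Set.range fun k => M.presheaf.germ W z hz (s k)) = ⊤ := by
  obtain ⟨ι, U, gen, hU, hfin⟩ := exists_isOpenCover_generatingSections M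
  obtain ⟨i, hxi⟩ := hU.exists_mem x
  have := hfin i
  refine ⟨(U i).ι ''ᵁ ⊤, ⟨⟨x, hxi⟩, trivial, rfl⟩, (gen i).I, inferInstance,
    fun k => (show Γ(M, (U i).ι ''ᵁ ⊤) from ((gen i).s k).val (op ⊤)), ?_⟩
  rintro z ⟨y, -, rfl⟩
  exact span_germ_restrict_eq_top (U i).ι M (gen i) y

/-- The stalks of a finite type module are finitely generated. -/
theorem finite_stalk_of_isFiniteType (M : Y.Modules) [M.IsFiniteType] (x : Y) :
    Module.Finite (Y.presheaf.stalk x) (M.presheaf.stalk x) := by
  obtain ⟨W, hxW, I, hI, s, hs⟩ := exists_sections_span_stalk M x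
  rw [Module.finite_def, Submodule.fg_def]
  exact ⟨_, Set.finite_range _, hs x hxW⟩

end Restrict

section Affine

variable {X : Scheme.{u}}

/-- On an affine open `U`, a quasi-coherent finite type module is generated on the stalks of a
basic open neighbourhood of any point of `U` by finitely many sections over `U`. -/
theorem exists_basicOpen_sections_span_stalk (M : X.Modules) [M.IsQuasicoherent] [M.IsFiniteType]
    {U : X.Opens} (hU : IsAffineOpen U) (x : X) (hx : x ∈ U) :
    ∃ (f : Γ(X, U)) (_ : x ∈ X.basicOpen f) (I : Type u) (_ : Finite I) (t : I → Γ(M, U)),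
      ∀ (z : X) (hz : z ∈ X.basicOpen f),
        Submodule.span (X.presheaf.stalk z)
          (Set.range fun k => M.presheaf.germ U z (X.basicOpen_le f hz) (t k)) = ⊤ := by
  obtain ⟨W, hxW, I, hI, s, hs⟩ := exists_sections_span_stalk M x
  obtain ⟨f, hfW, hxf⟩ := hU.exists_basicOpen_le ⟨x, hxW⟩ hx
  have hn := fun k => exists_pow_smul_eq_res M hU f (res M hfW (s k))
  choose n t ht using hn
  refine ⟨f, hxf, I, hI, t, ?_⟩
  intro z hz
  rw [eq_top_iff, ← hs z (hfW hz)]
  apply Submodule.span_le.mpr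
  rintro _ ⟨k, rfl⟩
  have hzU : z ∈ U := X.basicOpen_le f hz
  have hu : IsUnit (X.presheaf.germ U z hzU f) := (X.mem_basicOpen _ _ hzU).mp hz
  have h1 : (X.presheaf.germ U z hzU f) ^ (n k) • M.presheaf.germ W z (hfW hz) (s k) =
      M.presheaf.germ U z hzU (t k) := by
    rw [← germ_res M (X.basicOpen_le f) z hz (t k), ← ht k, germ_smul, germ_res, map_pow,
      germO_res]
  have h2 : M.presheaf.germ W z (hfW hz) (s k) =
      ((hu.pow (n k)).unit⁻¹ : (X.presheaf.stalk z)ˣ) • M.presheaf.germ U z hzU (t k) := by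
    rw [← h1, Units.smul_def, smul_smul, IsUnit.val_inv_mul, one_smul]
  change M.presheaf.germ W z (hfW hz) (s k) ∈ _
  rw [h2]
  exact Submodule.smul_mem _ _ (Submodule.subset_span ⟨k, rfl⟩)

/-- On an affine open `U`, a quasi-coherent finite type module has finitely many sections over
`U` whose germs span the stalk at every point of `U`. -/
theorem exists_sections_span_stalk_affine (M : X.Modules) [M.IsQuasicoherent] [M.IsFiniteType]
    {U : X.Opens} (hU : IsAffineOpen U) :
    ∃ (I : Type u) (_ : Finite I) (t : I → Γ(M, U)),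
      ∀ (z : X) (hz : z ∈ U), Submodule.span (X.presheaf.stalk z)
          (Set.range fun k => M.presheaf.germ U z hz (t k)) = ⊤ := by
  have h := fun x : U => exists_basicOpen_sections_span_stalk M hU x.1 x.2
  choose f hxf I hI t ht using h
  obtain ⟨F, hF⟩ := hU.isCompact.elim_finite_subcover (fun x : U => (X.basicOpen (f x) : Set X))
    (fun x => (X.basicOpen (f x)).isOpen) (fun z hz => Set.mem_iUnion.mpr ⟨⟨z, hz⟩, hxf ⟨z, hz⟩⟩)
  have := hI
  refine ⟨Σ x : F, I x.1, inferInstance, fun p => t p.1.1 p.2, ?_⟩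
  intro z hz
  obtain ⟨x, hxF, hzx⟩ : ∃ x ∈ F, z ∈ X.basicOpen (f x) := by
    have := hF hz
    simp only [Set.mem_iUnion, exists_prop] at this
    exact this
  rw [eq_top_iff, ← ht x z hzx]
  apply Submodule.span_mono
  rintro _ ⟨k, rfl⟩
  exact ⟨⟨⟨x, hxF⟩, k⟩, rfl⟩

open Groth.Agent.Lib.AssPoints in
/-- Sections over an affine open `U` of a quasi-coherent module whose germs span the stalk at
every point of `U` span the module of sections over `U`. -/
theorem span_eq_top_of_forall_span_germ_eq_top (M : X.Modules) [M.IsQuasicoherent]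
    {U : X.Opens} (hU : IsAffineOpen U) {I : Type*} (t : I → Γ(M, U))
    (ht : ∀ (z : X) (hz : z ∈ U), Submodule.span (X.presheaf.stalk z)
      (Set.range fun k => M.presheaf.germ U z hz (t k)) = ⊤) :
    Submodule.span Γ(X, U) (Set.range t) = ⊤ := by
  set N' : Submodule Γ(X, U) Γ(M, U) := Submodule.span Γ(X, U) (Set.range t) with hN'
  rw [eq_top_iff]
  rintro m -
  let J : Ideal Γ(X, U) := N'.comap (LinearMap.toSpanSingleton Γ(X, U) Γ(M, U) m)
  have hJ : ∀ a, a ∈ J ↔ a • m ∈ N' := fun a => by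
    simp only [J, Submodule.mem_comap, LinearMap.toSpanSingleton_apply]
  by_contra hm
  have hJne : J ≠ ⊤ := by
    intro h
    have h1 : (1 : Γ(X, U)) ∈ J := h ▸ Submodule.mem_top
    rw [hJ, one_smul] at h1
    exact hm h1
  obtain ⟨𝔪, hmax, hJm⟩ := Ideal.exists_le_maximal J hJne
  have hprime : 𝔪.IsPrime := hmax.isPrime
  let q : PrimeSpectrum Γ(X, U) := ⟨𝔪, hprime⟩
  let z : U := ⟨hU.fromSpec q, fromSpec_mem hU q⟩
  have hzq : hU.primeIdealOf z = q := primeIdealOf_fromSpec hU q
  have claim : ∀ ν ∈ Submodule.span (X.presheaf.stalk z.1)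
      (Set.range fun k => M.presheaf.germ U z.1 z.2 (t k)),
      ∃ (g : Γ(X, U)) (n' : Γ(M, U)), IsUnit (X.presheaf.germ U z.1 z.2 g) ∧ n' ∈ N' ∧
        X.presheaf.germ U z.1 z.2 g • ν = M.presheaf.germ U z.1 z.2 n' := by
    intro ν hν
    induction hν using Submodule.span_induction with
    | mem ν h =>
      obtain ⟨k, rfl⟩ := h
      exact ⟨1, t k, by rw [map_one]; exact isUnit_one, Submodule.subset_span ⟨k, rfl⟩,
        by rw [map_one, one_smul]⟩
    | zero =>
      exact ⟨1, 0, by rw [map_one]; exact isUnit_one, Submodule.zero_mem _,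
        by rw [smul_zero, map_zero]⟩
    | add a b _ _ ha hb =>
      obtain ⟨g1, n1, hg1, hn1, e1⟩ := ha
      obtain ⟨g2, n2, hg2, hn2, e2⟩ := hb
      refine ⟨g1 * g2, g2 • n1 + g1 • n2, by rw [map_mul]; exact hg1.mul hg2,
        Submodule.add_mem _ (Submodule.smul_mem _ _ hn1) (Submodule.smul_mem _ _ hn2), ?_⟩
      rw [map_mul, smul_add, map_add, germ_smul, germ_smul, ← e1, ← e2, smul_smul, smul_smul,
        mul_comm]
    | smul b ν _ h =>
      obtain ⟨g, n', hg, hn', e⟩ := h
      let _ := X.presheaf.algebra_section_stalk (U := U) z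
      have hloc := hU.isLocalization_stalk z
      obtain ⟨⟨a, h'⟩, hab⟩ := IsLocalization.surj (hU.primeIdealOf z).asIdeal.primeCompl b
      have hab' : b * X.presheaf.germ U z.1 z.2 h'.1 = X.presheaf.germ U z.1 z.2 a := hab
      refine ⟨h'.1 * g, a • n', ?_, Submodule.smul_mem _ _ hn', ?_⟩
      · rw [map_mul]
        exact ((isUnit_germ_iff hU z h'.1).mpr h'.2).mul hg
      · rw [map_mul, germ_smul, ← e, smul_smul, smul_smul, ← hab']
        congr 1
        ring
  have hmem : M.presheaf.germ U z.1 z.2 m ∈ Submodule.span (X.presheaf.stalk z.1)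
      (Set.range fun k => M.presheaf.germ U z.1 z.2 (t k)) := by
    rw [ht z.1 z.2]; trivial
  obtain ⟨g, n', hg, hn', e⟩ := claim _ hmem
  have h0 : M.presheaf.germ U z.1 z.2 (g • m - n') = 0 := by
    rw [map_sub, germ_smul, e, sub_self]
  obtain ⟨g', hg', hgm⟩ := exists_smul_eq_zero_of_germ_eq_zero M hU z.1 z.2 _ h0
  rw [isUnit_germ_iff hU z g, hzq] at hg
  rw [isUnit_germ_iff hU z g', hzq] at hg'
  have hmem2 : g' * g ∈ J := by
    rw [hJ, mul_smul]
    rw [smul_sub, sub_eq_zero] at hgm
    rw [hgm]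
    exact Submodule.smul_mem _ _ hn'
  rcases hprime.mem_or_mem (hJm hmem2) with h | h
  · exact hg' h
  · exact hg h

/-- The sections of a quasi-coherent finite type module over an affine open form a finitely
generated module. -/
theorem finite_sections_of_isAffineOpen (M : X.Modules) [M.IsQuasicoherent] [M.IsFiniteType]
    {U : X.Opens} (hU : IsAffineOpen U) : Module.Finite Γ(X, U) Γ(M, U) := by
  obtain ⟨I, hI, t, ht⟩ := exists_sections_span_stalk_affine M hU
  rw [Module.finite_def, Submodule.fg_def]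
  exact ⟨_, Set.finite_range t, span_eq_top_of_forall_span_germ_eq_top M hU t ht⟩

/-- Version for the prelude's `Coh.IsCoh`. -/
theorem finite_sections_of_isCoh (M : X.Modules) (hM : Coh.IsCoh M)
    {U : X.Opens} (hU : IsAffineOpen U) : Module.Finite Γ(X, U) Γ(M, U) :=
  haveI : M.IsQuasicoherent := hM.1
  haveI : M.IsFiniteType := hM.2
  finite_sections_of_isAffineOpen M hU

/-- Version for the prelude's `Coh.IsCoh`. -/
theorem finite_stalk_of_isCoh (M : X.Modules) (hM : Coh.IsCoh M) (x : X) :
    Module.Finite (X.presheaf.stalk x) (M.presheaf.stalk x) :=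
  haveI : M.IsFiniteType := hM.2
  finite_stalk_of_isFiniteType M x

end Affine

end Groth.Agent.Lib.CohFinite
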