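import Mathlib.AlgebraicGeometry.Morphisms.Flat
import Mathlib.AlgebraicGeometry.Pullbacks
import Mathlib.AlgebraicGeometry.AffineScheme

/-!
# helper72: affine opens of a fibre product are flat over the tensor product of the coordinate rings

For a cartesian square `X' = X ×_S S'` and affine opens `W ⊆ S`, `U ⊆ f⁻¹W`, `W' ⊆ g⁻¹W`,
`U' ⊆ g'⁻¹U ∩ f'⁻¹W'`, the canonical ring map `Γ(X,U) ⊗_{Γ(S,W)} Γ(S',W') → Γ(X',U')` is flat
(`Spec` of it is an open immersion).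
-/

set_option autoImplicit false
universe u

namespace Groth.Agent.Lib.H72FibreProdFlat

open AlgebraicGeometry CategoryTheory CategoryTheory.Limits TopologicalSpace Opposite

variable {X S X' S' : Scheme.{u}} {f : X ⟶ S} {f' : X' ⟶ S'} {g' : X' ⟶ X} {g : S' ⟶ S}

theorem isOpenImmersion_SpecMap_desc (hc : IsPullback g' f' f g)
    {W : S.Opens} {U : X.Opens} {W' : S'.Opens} {U' : X'.Opens}
    (hW : IsAffineOpen W) (hU : IsAffineOpen U) (hW' : IsAffineOpen W') (hU' : IsAffineOpen U')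
    (hUW : U ≤ f ⁻¹ᵁ W) (hW'W : W' ≤ g ⁻¹ᵁ W) (hU'U : U' ≤ g' ⁻¹ᵁ U) (hU'W' : U' ≤ f' ⁻¹ᵁ W')
    {D : CommRingCat.{u}} {inl : Γ(X, U) ⟶ D} {inr : Γ(S', W') ⟶ D}
    (hD : IsPushout (f.appLE W U hUW) (g.appLE W W' hW'W) inl inr)
    (ψ : D ⟶ Γ(X', U')) (h1 : inl ≫ ψ = g'.appLE U U' hU'U)
    (h2 : inr ≫ ψ = f'.appLE W' U' hU'W') :
    IsOpenImmersion (Spec.map ψ) := by
  have hDp : IsPullback (Spec.map inl) (Spec.map inr) (Spec.map (f.appLE W U hUW))
      (Spec.map (g.appLE W W' hW'W)) := isPullback_SpecMap_of_isPushout _ _ _ _ hD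
  have e₁ : Spec.map (f.appLE W U hUW) ≫ hW.fromSpec = hU.fromSpec ≫ f :=
    IsAffineOpen.SpecMap_appLE_fromSpec f hW hU hUW
  have e₂ : Spec.map (g.appLE W W' hW'W) ≫ hW.fromSpec = hW'.fromSpec ≫ g :=
    IsAffineOpen.SpecMap_appLE_fromSpec g hW hW' hW'W
  let ιD : Spec D ⟶ X' := hDp.isoPullback.hom ≫
    pullback.map (Spec.map (f.appLE W U hUW)) (Spec.map (g.appLE W W' hW'W)) f g
      hU.fromSpec hW'.fromSpec hW.fromSpec e₁ e₂ ≫ hc.isoPullback.inv
  haveI : IsOpenImmersion ιD := by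
    dsimp only [ιD]
    infer_instance
  have hι1 : ιD ≫ g' = Spec.map inl ≫ hU.fromSpec := by
    dsimp only [ιD, pullback.map]
    rw [Category.assoc, Category.assoc, IsPullback.isoPullback_inv_fst, pullback.lift_fst,
      ← Category.assoc, IsPullback.isoPullback_hom_fst]
  have hι2 : ιD ≫ f' = Spec.map inr ≫ hW'.fromSpec := by
    dsimp only [ιD, pullback.map]
    rw [Category.assoc, Category.assoc, IsPullback.isoPullback_inv_snd, pullback.lift_snd,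
      ← Category.assoc, IsPullback.isoPullback_hom_snd]
  have key : Spec.map ψ ≫ ιD = hU'.fromSpec := by
    apply hc.hom_ext
    · rw [Category.assoc, hι1, ← Category.assoc, ← Spec.map_comp, h1]
      exact IsAffineOpen.SpecMap_appLE_fromSpec g' hU hU' hU'U
    · rw [Category.assoc, hι2, ← Category.assoc, ← Spec.map_comp, h2]
      exact IsAffineOpen.SpecMap_appLE_fromSpec f' hW' hU' hU'W'
  haveI : IsOpenImmersion (Spec.map ψ ≫ ιD) := by
    rw [key]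
    infer_instance
  exact IsOpenImmersion.of_comp (Spec.map ψ) ιD

theorem flat_desc (hc : IsPullback g' f' f g)
    {W : S.Opens} {U : X.Opens} {W' : S'.Opens} {U' : X'.Opens}
    (hW : IsAffineOpen W) (hU : IsAffineOpen U) (hW' : IsAffineOpen W') (hU' : IsAffineOpen U')
    (hUW : U ≤ f ⁻¹ᵁ W) (hW'W : W' ≤ g ⁻¹ᵁ W) (hU'U : U' ≤ g' ⁻¹ᵁ U) (hU'W' : U' ≤ f' ⁻¹ᵁ W')
    {D : CommRingCat.{u}} {inl : Γ(X, U) ⟶ D} {inr : Γ(S', W') ⟶ D}
    (hD : IsPushout (f.appLE W U hUW) (g.appLE W W' hW'W) inl inr)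
    (ψ : D ⟶ Γ(X', U')) (h1 : inl ≫ ψ = g'.appLE U U' hU'U)
    (h2 : inr ≫ ψ = f'.appLE W' U' hU'W') :
    ψ.hom.Flat := by
  haveI := isOpenImmersion_SpecMap_desc hc hW hU hW' hU' hUW hW'W hU'U hU'W' hD ψ h1 h2
  exact Flat.SpecMap_iff.mp inferInstance

end Groth.Agent.Lib.H72FibreProdFlat
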