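import Groth.Agent.Lib.H72PullbackStalk
import Groth.Agent.Lib.H72FibreProdFlat
import Mathlib.RingTheory.Flat.Localization

/-!
# helper72: flatness of a quasi-coherent module over the base is stable under base change (pointwise)

* `isFlatOverAt_iff_flat_sections` (= S9353.key): `IsFlatOverAt f F x ↔ Flat Γ(S,V) F_x`.
* `flat_of_pushout_of_isBaseChange`: abstract algebra core.
* `isFlatOverAt_pullback_of_isPullback`: in a cartesian square `X' = X ×_S S'`, `F` qcoh on `X` flat over `S` at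
  `g' x'` implies `g'^*F` flat over `S'` at `x'`.
-/

set_option autoImplicit false
set_option linter.style.haveILetI false
universe u

namespace Groth.Agent.Lib.H72FlatBaseChange

open TensorProduct Groth.Agent.Lib.H72PullbackStalk

/-- Abstract core of "flatness over the base is stable under base change", stalk level. -/
theorem flat_of_pushout_of_isBaseChange
    {A B A' D O O' Fx N' : Type*} [CommRing A] [CommRing B] [CommRing A'] [CommRing D]
    [CommRing O] [CommRing O']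
    [Algebra A B] [Algebra A A'] [Algebra A D] [Algebra B D] [Algebra A' D]
    [IsScalarTower A B D] [IsScalarTower A A' D] [Algebra.IsPushout A A' B D]
    [Algebra B O] (S : Submonoid B) [IsLocalization S O]
    [Algebra O O'] [Algebra D O'] [Algebra B O'] [Algebra A' O']
    [IsScalarTower B O O'] [IsScalarTower B D O'] [IsScalarTower A' D O'] [Module.Flat D O']
    [AddCommGroup Fx] [Module O Fx] [Module B Fx] [IsScalarTower B O Fx] [Module A Fx]
    [IsScalarTower A B Fx] [Module.Flat A Fx]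
    [AddCommGroup N'] [Module O' N'] [Module O N'] [IsScalarTower O O' N'] [Module D N']
    [IsScalarTower D O' N'] [Module B N'] [IsScalarTower B O N'] [IsScalarTower B O' N']
    [IsScalarTower B D N'] [Module A' N'] [IsScalarTower A' D N']
    (τ : Fx →ₗ[O] N') (hτ : IsBaseChange O' τ) : Module.Flat A' N' := by
  have h_id : IsBaseChange O (LinearMap.id : Fx →ₗ[B] Fx) :=
    (isLocalizedModule_iff_isBaseChange S O _).mp (isLocalizedModule_id S Fx O)
  have hτB : IsBaseChange O' ((τ.restrictScalars B).comp (LinearMap.id : Fx →ₗ[B] Fx)) :=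
    IsBaseChange.comp h_id hτ
  have hmk : IsBaseChange D (TensorProduct.mk B D Fx 1) := TensorProduct.isBaseChange B Fx D
  let σ : D ⊗[B] Fx →ₗ[D] N' := hmk.lift (τ.restrictScalars B)
  have hσ : IsBaseChange O' σ := by
    refine IsBaseChange.of_comp hmk ?_
    have : (σ.restrictScalars B).comp (TensorProduct.mk B D Fx 1) = τ.restrictScalars B :=
      hmk.lift_comp _
    change IsBaseChange O' ((σ.restrictScalars B).comp (TensorProduct.mk B D Fx 1))
    rw [this]
    exact hτB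
  have hflat : Module.Flat A' (D ⊗[B] Fx) :=
    Module.Flat.of_linearEquiv (Algebra.IsPushout.cancelBaseChange A A' B D Fx)
  exact flat_of_isBaseChange_of_flat (R := A') σ hσ hflat


section Geometric

open AlgebraicGeometry CategoryTheory CategoryTheory.Limits TopologicalSpace Opposite
open Groth.Agent.Lib.QCohStalk

variable {X S : Scheme.{u}}

/-- Flatness over the base at a point, in terms of the sections over an affine open of the base. -/
theorem isFlatOverAt_iff_flat_sections (f : X ⟶ S) (F : X.Modules) {U : X.Opens} {V : S.Opens}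
    (hUV : U ≤ f ⁻¹ᵁ V) (hV : IsAffineOpen V) (x : X) (hx : x ∈ U) :
    FlatMod.IsFlatOverAt f F x ↔
      @Module.Flat Γ(S, V) (F.presheaf.stalk x) _ _
        (Module.compHom _ ((X.presheaf.germ U x hx).hom.comp (f.appLE V U hUV).hom)) := by
  letI modR : Module Γ(S, V) (F.presheaf.stalk x) :=
    Module.compHom _ ((X.presheaf.germ U x hx).hom.comp (f.appLE V U hUV).hom)
  letI modSx := FlatMod.moduleStalkOver f F x
  letI algR : Algebra Γ(S, V) (S.presheaf.stalk (f x)) :=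
    TopCat.Presheaf.algebra_section_stalk S.presheaf (⟨f x, hUV hx⟩ : V)
  haveI hloc : IsLocalization.AtPrime (S.presheaf.stalk (f x))
      (hV.primeIdealOf ⟨f x, hUV hx⟩).asIdeal := hV.isLocalization_stalk ⟨f x, hUV hx⟩
  haveI : IsScalarTower Γ(S, V) (S.presheaf.stalk (f x)) (F.presheaf.stalk x) := by
    refine .of_algebraMap_smul fun r n => ?_
    have e := germ_appLE f hUV x hx r
    exact congrArg (fun t : X.presheaf.stalk x => t • n) e
  unfold FlatMod.IsFlatOverAt
  exact Module.flat_iff_of_isLocalization (S.presheaf.stalk (f x))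
    (hV.primeIdealOf ⟨f x, hUV hx⟩).asIdeal.primeCompl _

end Geometric

section BaseChange

open AlgebraicGeometry CategoryTheory CategoryTheory.Limits TopologicalSpace Opposite
open Groth.Agent.Lib.QCohStalk

attribute [local instance] Algebra.TensorProduct.rightAlgebra

variable {X S X' S' : Scheme.{u}} {f : X ⟶ S} {f' : X' ⟶ S'} {g' : X' ⟶ X} {g : S' ⟶ S}

/-- In a cartesian square `X' = X ×_S S'`, if the quasi-coherent module `F` on `X` is flat over `S` at
`g' x'`, then `g'^* F` is flat over `S'` at `x'`. -/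
theorem isFlatOverAt_pullback_of_isPullback (hc : IsPullback g' f' f g) (F : X.Modules)
    [F.IsQuasicoherent] (x' : X') (h : FlatMod.IsFlatOverAt f F (g' x')) :
    FlatMod.IsFlatOverAt f' ((Scheme.Modules.pullback g').obj F) x' := by
  have hs : g (f' x') = f (g' x') := by
    rw [← Scheme.Hom.comp_apply, ← Scheme.Hom.comp_apply, hc.w]
  -- affine neighbourhoods
  obtain ⟨W, hW, hxW⟩ : ∃ W : S.Opens, IsAffineOpen W ∧ f (g' x') ∈ W := by
    obtain ⟨_, ⟨W, hW, rfl⟩, hxW, -⟩ :=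
      S.isBasis_affineOpens.exists_subset_of_mem_open (Set.mem_univ (f (g' x'))) isOpen_univ
    exact ⟨W, hW, hxW⟩
  obtain ⟨U, hU, hxU, hUW⟩ : ∃ U : X.Opens, IsAffineOpen U ∧ g' x' ∈ U ∧ U ≤ f ⁻¹ᵁ W := by
    obtain ⟨_, ⟨U, hU, rfl⟩, hxU, hUW⟩ :=
      X.isBasis_affineOpens.exists_subset_of_mem_open (show g' x' ∈ (f ⁻¹ᵁ W : Set X) from hxW)
        (f ⁻¹ᵁ W).isOpen
    exact ⟨U, hU, hxU, hUW⟩
  obtain ⟨W', hW', hxW', hW'W⟩ : ∃ W' : S'.Opens, IsAffineOpen W' ∧ f' x' ∈ W' ∧ W' ≤ g ⁻¹ᵁ W := by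
    obtain ⟨_, ⟨W', hW', rfl⟩, hxW', hW'W⟩ :=
      S'.isBasis_affineOpens.exists_subset_of_mem_open
        (show f' x' ∈ (g ⁻¹ᵁ W : Set S') from by
          change g (f' x') ∈ W
          rw [hs]; exact hxW)
        (g ⁻¹ᵁ W).isOpen
    exact ⟨W', hW', hxW', hW'W⟩
  obtain ⟨U', hU', hxU', hU'U, hU'W'⟩ :
      ∃ U' : X'.Opens, IsAffineOpen U' ∧ x' ∈ U' ∧ U' ≤ g' ⁻¹ᵁ U ∧ U' ≤ f' ⁻¹ᵁ W' := by
    obtain ⟨_, ⟨U', hU', rfl⟩, hxU', hU'le⟩ :=
      X'.isBasis_affineOpens.exists_subset_of_mem_open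
        (show x' ∈ ((g' ⁻¹ᵁ U ⊓ f' ⁻¹ᵁ W' : X'.Opens) : Set X') from ⟨hxU, hxW'⟩)
        (g' ⁻¹ᵁ U ⊓ f' ⁻¹ᵁ W').isOpen
    exact ⟨U', hU', hxU', fun y hy => (hU'le hy).1, fun y hy => (hU'le hy).2⟩
  let F' := (Scheme.Modules.pullback g').obj F
  rw [isFlatOverAt_iff_flat_sections f' F' hU'W' hW' x' hxU']
  rw [isFlatOverAt_iff_flat_sections f F hUW hW (g' x') hxU] at h
  -- rings
  letI algAB : Algebra Γ(S, W) Γ(X, U) := (f.appLE W U hUW).hom.toAlgebra
  letI algAA' : Algebra Γ(S, W) Γ(S', W') := (g.appLE W W' hW'W).hom.toAlgebra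
  have hpo := CommRingCat.isPushout_tensorProduct Γ(S, W) Γ(X, U) Γ(S', W')
  have compat : f.appLE W U hUW ≫ g'.appLE U U' hU'U = g.appLE W W' hW'W ≫ f'.appLE W' U' hU'W' := by
    rw [Scheme.Hom.appLE_comp_appLE, Scheme.Hom.appLE_comp_appLE]
    simp only [hc.w]
  let ψ : CommRingCat.of (Γ(X, U) ⊗[Γ(S, W)] Γ(S', W')) ⟶ Γ(X', U') :=
    hpo.desc (g'.appLE U U' hU'U) (f'.appLE W' U' hU'W') compat
  have h1 : CommRingCat.ofHom (Algebra.TensorProduct.includeLeftRingHom) ≫ ψ = g'.appLE U U' hU'U :=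
    hpo.inl_desc _ _ _
  have h2 : CommRingCat.ofHom (Algebra.TensorProduct.includeRight.toRingHom) ≫ ψ =
      f'.appLE W' U' hU'W' := hpo.inr_desc _ _ _
  have hψ : ψ.hom.Flat :=
    Groth.Agent.Lib.H72FibreProdFlat.flat_desc hc hW hU hW' hU' hUW hW'W hU'U hU'W' hpo ψ h1 h2
  have h1' : ∀ b : Γ(X, U), ψ.hom (b ⊗ₜ 1) = (g'.appLE U U' hU'U).hom b := fun b =>
    congrArg (fun φ : Γ(X, U) ⟶ Γ(X', U') => φ.hom b) h1
  have h2' : ∀ a : Γ(S', W'), ψ.hom (1 ⊗ₜ a) = (f'.appLE W' U' hU'W').hom a := fun a =>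
    congrArg (fun φ : Γ(S', W') ⟶ Γ(X', U') => φ.hom a) h2
  -- local rings
  letI algBO : Algebra Γ(X, U) (X.presheaf.stalk (g' x')) :=
    TopCat.Presheaf.algebra_section_stalk X.presheaf (⟨g' x', hxU⟩ : U)
  haveI locB : IsLocalization.AtPrime (X.presheaf.stalk (g' x'))
      (hU.primeIdealOf ⟨g' x', hxU⟩).asIdeal := hU.isLocalization_stalk ⟨g' x', hxU⟩
  letI algB'O' : Algebra Γ(X', U') (X'.presheaf.stalk x') :=
    TopCat.Presheaf.algebra_section_stalk X'.presheaf (⟨x', hxU'⟩ : U')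
  haveI locB' : IsLocalization.AtPrime (X'.presheaf.stalk x')
      (hU'.primeIdealOf ⟨x', hxU'⟩).asIdeal := hU'.isLocalization_stalk ⟨x', hxU'⟩
  letI algOO' : Algebra (X.presheaf.stalk (g' x')) (X'.presheaf.stalk x') :=
    (g'.stalkMap x').hom.toAlgebra
  letI algDO' : Algebra (Γ(X, U) ⊗[Γ(S, W)] Γ(S', W')) (X'.presheaf.stalk x') :=
    ((X'.presheaf.germ U' x' hxU').hom.comp ψ.hom).toAlgebra
  letI algBO' : Algebra Γ(X, U) (X'.presheaf.stalk x') :=
    ((g'.stalkMap x').hom.comp (X.presheaf.germ U (g' x') hxU).hom).toAlgebra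
  letI algA'O' : Algebra Γ(S', W') (X'.presheaf.stalk x') :=
    ((X'.presheaf.germ U' x' hxU').hom.comp (f'.appLE W' U' hU'W').hom).toAlgebra
  haveI : IsScalarTower Γ(X, U) (X.presheaf.stalk (g' x')) (X'.presheaf.stalk x') :=
    IsScalarTower.of_algebraMap_eq' rfl
  haveI : IsScalarTower Γ(X, U) (Γ(X, U) ⊗[Γ(S, W)] Γ(S', W')) (X'.presheaf.stalk x') := by
    refine IsScalarTower.of_algebraMap_eq fun b => ?_
    change (g'.stalkMap x').hom ((X.presheaf.germ U (g' x') hxU).hom b) =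
      (X'.presheaf.germ U' x' hxU').hom (ψ.hom (b ⊗ₜ 1))
    rw [h1' b]
    exact germ_appLE g' hU'U x' hxU' b
  haveI : IsScalarTower Γ(S', W') (Γ(X, U) ⊗[Γ(S, W)] Γ(S', W')) (X'.presheaf.stalk x') := by
    refine IsScalarTower.of_algebraMap_eq fun a => ?_
    change (X'.presheaf.germ U' x' hxU').hom ((f'.appLE W' U' hU'W').hom a) =
      (X'.presheaf.germ U' x' hxU').hom (ψ.hom (1 ⊗ₜ a))
    rw [h2' a]
  haveI : Module.Flat (Γ(X, U) ⊗[Γ(S, W)] Γ(S', W')) (X'.presheaf.stalk x') := by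
    have hgerm : (X'.presheaf.germ U' x' hxU').hom.Flat :=
      IsLocalization.flat (X'.presheaf.stalk x') (hU'.primeIdealOf ⟨x', hxU'⟩).asIdeal.primeCompl
    exact RingHom.Flat.comp hψ hgerm
  -- modules: the stalk of `F`
  letI modBFx : Module Γ(X, U) (F.presheaf.stalk (g' x')) := moduleSectionStalk F (⟨g' x', hxU⟩ : U)
  haveI : IsScalarTower Γ(X, U) (X.presheaf.stalk (g' x')) (F.presheaf.stalk (g' x')) :=
    isScalarTower_sectionStalk F (⟨g' x', hxU⟩ : U)
  letI modAFx : Module Γ(S, W) (F.presheaf.stalk (g' x')) :=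
    Module.compHom _ ((X.presheaf.germ U (g' x') hxU).hom.comp (f.appLE W U hUW).hom)
  haveI : IsScalarTower Γ(S, W) Γ(X, U) (F.presheaf.stalk (g' x')) :=
    .of_algebraMap_smul fun _ _ => rfl
  haveI : Module.Flat Γ(S, W) (F.presheaf.stalk (g' x')) := h
  -- modules: the stalk of `F'`
  letI modON : Module (X.presheaf.stalk (g' x')) (F'.presheaf.stalk x') :=
    Module.compHom _ (g'.stalkMap x').hom
  haveI : IsScalarTower (X.presheaf.stalk (g' x')) (X'.presheaf.stalk x') (F'.presheaf.stalk x') :=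
    .of_algebraMap_smul fun _ _ => rfl
  letI modDN : Module (Γ(X, U) ⊗[Γ(S, W)] Γ(S', W')) (F'.presheaf.stalk x') :=
    Module.compHom _ (algebraMap (Γ(X, U) ⊗[Γ(S, W)] Γ(S', W')) (X'.presheaf.stalk x'))
  haveI : IsScalarTower (Γ(X, U) ⊗[Γ(S, W)] Γ(S', W')) (X'.presheaf.stalk x')
      (F'.presheaf.stalk x') := .of_algebraMap_smul fun _ _ => rfl
  letI modBN : Module Γ(X, U) (F'.presheaf.stalk x') :=
    Module.compHom _ (algebraMap Γ(X, U) (X'.presheaf.stalk x'))
  haveI : IsScalarTower Γ(X, U) (X'.presheaf.stalk x') (F'.presheaf.stalk x') :=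
    .of_algebraMap_smul fun _ _ => rfl
  haveI : IsScalarTower Γ(X, U) (X.presheaf.stalk (g' x')) (F'.presheaf.stalk x') :=
    .of_algebraMap_smul fun _ _ => rfl
  haveI : IsScalarTower Γ(X, U) (Γ(X, U) ⊗[Γ(S, W)] Γ(S', W')) (F'.presheaf.stalk x') := by
    refine .of_algebraMap_smul fun b n => ?_
    exact congrArg (fun t : X'.presheaf.stalk x' => t • n)
      (IsScalarTower.algebraMap_apply Γ(X, U) (Γ(X, U) ⊗[Γ(S, W)] Γ(S', W'))
        (X'.presheaf.stalk x') b).symm
  letI modA'N : Module Γ(S', W') (F'.presheaf.stalk x') :=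
    Module.compHom _ ((X'.presheaf.germ U' x' hxU').hom.comp (f'.appLE W' U' hU'W').hom)
  haveI : IsScalarTower Γ(S', W') (Γ(X, U) ⊗[Γ(S, W)] Γ(S', W')) (F'.presheaf.stalk x') := by
    refine .of_algebraMap_smul fun a n => ?_
    exact congrArg (fun t : X'.presheaf.stalk x' => t • n)
      (IsScalarTower.algebraMap_apply Γ(S', W') (Γ(X, U) ⊗[Γ(S, W)] Γ(S', W'))
        (X'.presheaf.stalk x') a).symm
  obtain ⟨τ, hτ⟩ := exists_isBaseChange_stalk_pullback g' F x'
  exact flat_of_pushout_of_isBaseChange (A := Γ(S, W)) (B := Γ(X, U)) (A' := Γ(S', W'))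
    (D := Γ(X, U) ⊗[Γ(S, W)] Γ(S', W')) (O := X.presheaf.stalk (g' x'))
    (O' := X'.presheaf.stalk x') (hU.primeIdealOf ⟨g' x', hxU⟩).asIdeal.primeCompl τ hτ

end BaseChange

section Trans

open AlgebraicGeometry CategoryTheory

variable {X S T : Scheme.{u}}

/-- Transitivity: `N` flat over `S` at `x` and `S → T` flat at `f x` imply `N` flat over `T` at `x`. -/
theorem isFlatOverAt_comp_of_flat (f : X ⟶ S) (g : S ⟶ T) (N : X.Modules) (x : X)
    (hg : (g.stalkMap (f x)).hom.Flat) (h : FlatMod.IsFlatOverAt f N x) :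
    FlatMod.IsFlatOverAt (f ≫ g) N x := by
  letI algRR' : Algebra (T.presheaf.stalk (g (f x))) (S.presheaf.stalk (f x)) :=
    (g.stalkMap (f x)).hom.toAlgebra
  letI modR'N : Module (S.presheaf.stalk (f x)) (N.presheaf.stalk x) := FlatMod.moduleStalkOver f N x
  letI modRN : Module (T.presheaf.stalk (g (f x))) (N.presheaf.stalk x) :=
    FlatMod.moduleStalkOver (f ≫ g) N x
  have hcomp : ((f ≫ g).stalkMap x).hom = (f.stalkMap x).hom.comp (g.stalkMap (f x)).hom := by
    rw [Scheme.Hom.stalkMap_comp]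
    rfl
  haveI : IsScalarTower (T.presheaf.stalk (g (f x))) (S.presheaf.stalk (f x)) (N.presheaf.stalk x) := by
    refine .of_algebraMap_smul fun r n => ?_
    exact congrArg (fun t : X.presheaf.stalk x => t • n)
      (congrArg (fun φ : _ →+* _ => φ r) hcomp).symm
  haveI : Module.Flat (T.presheaf.stalk (g (f x))) (S.presheaf.stalk (f x)) := hg
  haveI : Module.Flat (S.presheaf.stalk (f x)) (N.presheaf.stalk x) := h
  exact Module.Flat.trans (T.presheaf.stalk (g (f x))) (S.presheaf.stalk (f x)) (N.presheaf.stalk x)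

end Trans

end Groth.Agent.Lib.H72FlatBaseChange
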