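import Groth.Agent.Lib.AssPoints
import Mathlib.AlgebraicGeometry.Morphisms.Affine

set_option autoImplicit false
universe u
open CategoryTheory CategoryTheory.Limits AlgebraicGeometry TopologicalSpace Opposite

namespace Groth.Agent.Lib.AssPush

open Groth.Agent.Lib.QCohStalk Groth.Agent.Lib.AssPoints

variable {X : Scheme.{u}}

/-- The module `G` is localizing on the open `U`: restriction to basic opens of `U` is
localization. -/
structure IsLocalizingOn (G : X.Modules) (U : X.Opens) : Prop where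
  surj : ∀ (f : Γ(X, U)) (t : Γ(G, X.basicOpen f)), ∃ (n : ℕ) (s : Γ(G, U)),
    resO X (X.basicOpen_le f) f ^ n • t = res G (X.basicOpen_le f) s
  inj : ∀ (f : Γ(X, U)) (s : Γ(G, U)), res G (X.basicOpen_le f) s = 0 → ∃ n : ℕ, f ^ n • s = 0

lemma isLocalizingOn_of_isQuasicoherent (F : X.Modules) [F.IsQuasicoherent] {U : X.Opens}
    (hU : IsAffineOpen U) : IsLocalizingOn F U :=
  ⟨fun f t => exists_pow_smul_eq_res F hU f t, fun f s hs => exists_pow_smul_eq_zero F hU f s hs⟩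

theorem IsLocalizingOn.exists_germ_smul_eq_germ {G : X.Modules} {U : X.Opens}
    (h : IsLocalizingOn G U) (hU : IsAffineOpen U) (x : X) (hx : x ∈ U)
    (ξ : G.presheaf.stalk x) :
    ∃ (g : Γ(X, U)) (s : Γ(G, U)), IsUnit (X.presheaf.germ U x hx g) ∧
      X.presheaf.germ U x hx g • ξ = G.presheaf.germ U x hx s := by
  obtain ⟨V, hxV, t, rfl⟩ := TopCat.Presheaf.exists_germ_eq G.presheaf ξ
  obtain ⟨f, hfV, hxf⟩ := hU.exists_basicOpen_le ⟨x, hxV⟩ hx
  obtain ⟨n, s, hs⟩ := h.surj f (res G hfV t)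
  refine ⟨f ^ n, s, ?_, ?_⟩
  · rw [map_pow]
    exact ((X.mem_basicOpen _ _ hx).mp hxf).pow n
  · rw [← germ_res G (X.basicOpen_le f) x hxf s, ← hs, germ_smul, germ_res, ← resO_pow,
      germO_res]

theorem IsLocalizingOn.exists_smul_eq_zero_of_germ_eq_zero {G : X.Modules} {U : X.Opens}
    (h : IsLocalizingOn G U) (hU : IsAffineOpen U) (x : X) (hx : x ∈ U) (s : Γ(G, U))
    (hs : G.presheaf.germ U x hx s = 0) :
    ∃ g : Γ(X, U), IsUnit (X.presheaf.germ U x hx g) ∧ g • s = 0 := by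
  have h0 : G.presheaf.germ U x hx s = G.presheaf.germ U x hx 0 := by rw [hs, map_zero]
  obtain ⟨W, hxW, iU, iV, hW⟩ := TopCat.Presheaf.germ_eq G.presheaf x hx hx s 0 h0
  obtain ⟨f, hfW, hxf⟩ := hU.exists_basicOpen_le ⟨x, hxW⟩ hx
  have h1 : res G (X.basicOpen_le f) s = 0 := by
    have h2 : res G iU.le s = 0 := by
      change G.presheaf.map (homOfLE iU.le).op s = 0
      rw [show (homOfLE iU.le) = iU from rfl, hW, map_zero]
    rw [← res_res G hfW iU.le, h2, res_zero]
  obtain ⟨n, hn⟩ := h.inj f s h1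
  refine ⟨f ^ n, ?_, hn⟩
  rw [map_pow]
  exact ((X.mem_basicOpen _ _ hx).mp hxf).pow n

theorem IsLocalizingOn.isLocAt {G : X.Modules} {U : X.Opens}
    (h : IsLocalizingOn G U) (hU : IsAffineOpen U) (x : U) : IsLocAt G hU x := by
  letI := moduleSectionStalk G x
  have hunit : ∀ g : Γ(X, U), g ∈ (hU.primeIdealOf x).asIdeal.primeCompl ↔
      IsUnit (X.presheaf.germ U x.1 x.2 g) := by
    intro g
    exact (isUnit_germ_iff hU x g).symm
  refine ⟨?_, ?_, ?_⟩
  · intro g
    rw [Module.End.isUnit_iff]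
    have hg := (hunit g.1).mp g.2
    constructor
    · intro a b hab
      have hab' : X.presheaf.germ U x.1 x.2 g.1 • a = X.presheaf.germ U x.1 x.2 g.1 • b := hab
      exact (hg.smul_left_cancel).mp hab'
    · intro b
      obtain ⟨u, hu⟩ := hg
      refine ⟨(↑u⁻¹ : X.presheaf.stalk (x : X)) • b, ?_⟩
      change X.presheaf.germ U x.1 x.2 g.1 • ((↑u⁻¹ : X.presheaf.stalk (x : X)) • b) = b
      rw [← hu, smul_smul, Units.mul_inv, one_smul]
  · intro ξ
    obtain ⟨g, s, hg, hgs⟩ := h.exists_germ_smul_eq_germ hU x.1 x.2 ξ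
    exact ⟨⟨s, ⟨g, (hunit g).mpr hg⟩⟩, hgs⟩
  · intro s t hst
    have h0 : G.presheaf.germ U x.1 x.2 (s - t) = 0 := by
      rw [map_sub, sub_eq_zero]
      exact hst
    obtain ⟨g, hg, hgs⟩ := h.exists_smul_eq_zero_of_germ_eq_zero hU x.1 x.2 (s - t) h0
    refine ⟨⟨g, (hunit g).mpr hg⟩, ?_⟩
    rw [smul_sub, sub_eq_zero] at hgs
    exact hgs

variable {S : Scheme.{u}}

lemma pushforward_smul (f : X ⟶ S) (F : X.Modules) (V : S.Opens) (a : Γ(S, V))
    (t : Γ((Scheme.Modules.pushforward f).obj F, V)) :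
    a • t = (f.app V a) • (show Γ(F, f ⁻¹ᵁ V) from t) := rfl

lemma app_resO (f : X ⟶ S) {V' V : S.Opens} (h : V' ≤ V) (a : Γ(S, V)) :
    f.app V' (resO S h a) = resO X (f.preimage_mono h) (f.app V a) := by
  have := congr($(f.naturality (homOfLE h).op) a)
  exact this

theorem isLocalizingOn_pushforward (f : X ⟶ S) (F : X.Modules) [F.IsQuasicoherent]
    (V : S.Opens) (hW : IsAffineOpen (f ⁻¹ᵁ V)) :
    IsLocalizingOn ((Scheme.Modules.pushforward f).obj F) V := by
  constructor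
  · intro g t
    have hD : f ⁻¹ᵁ (S.basicOpen g) = X.basicOpen (f.app V g) := Scheme.preimage_basicOpen f g
    obtain ⟨n, s, hs⟩ := exists_pow_smul_eq_res F hW (f.app V g) (res F hD.ge t)
    refine ⟨n, s, ?_⟩
    apply res_injective_of_eq F hD.symm
    change res F hD.ge ((f.app (S.basicOpen g) (resO S (S.basicOpen_le g) g ^ n)) •
      (show Γ(F, f ⁻¹ᵁ S.basicOpen g) from t)) =
      res F hD.ge (res F (f.preimage_mono (S.basicOpen_le g)) s)
    rw [res_smul, res_res, map_pow, app_resO, ← resO_pow, resO_resO, resO_pow]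
    exact hs
  · intro g s hs
    have hD : f ⁻¹ᵁ (S.basicOpen g) = X.basicOpen (f.app V g) := Scheme.preimage_basicOpen f g
    have hs' : res F (X.basicOpen_le (f.app V g)) s = 0 := by
      have h1 : res F (f.preimage_mono (S.basicOpen_le g)) s = 0 := hs
      have h2 : res F hD.ge (res F (f.preimage_mono (S.basicOpen_le g)) s) = 0 := by
        rw [h1, res_zero]
      rw [res_res] at h2
      exact h2
    obtain ⟨n, hn⟩ := exists_pow_smul_eq_zero F hW (f.app V g) s hs'
    refine ⟨n, ?_⟩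
    change (f.app V (g ^ n)) • (show Γ(F, f ⁻¹ᵁ V) from s) = 0
    rw [map_pow]
    exact hn

lemma ann_pushforward (f : X ⟶ S) (F : X.Modules) (V : S.Opens)
    (m : Γ((Scheme.Modules.pushforward f).obj F, V)) :
    ann Γ(S, V) m = (ann Γ(X, f ⁻¹ᵁ V) (show Γ(F, f ⁻¹ᵁ V) from m)).comap (f.app V).hom := by
  ext a
  rw [Ideal.mem_comap, mem_ann, mem_ann, pushforward_smul]
  rfl

lemma primeIdealOf_injective {U : X.Opens} (hU : IsAffineOpen U) (x y : U)
    (h : hU.primeIdealOf x = hU.primeIdealOf y) : x = y := by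
  apply Subtype.ext
  rw [← hU.fromSpec_primeIdealOf x, ← hU.fromSpec_primeIdealOf y, h]

/-- For an affine morphism, every weakly associated point of the direct image of a
quasi-coherent module is the image of a weakly associated point. -/
theorem exists_isWeakAssPoint_of_pushforward (f : X ⟶ S) [IsAffineHom f] (F : X.Modules)
    [F.IsQuasicoherent] (s : S)
    (hs : Curv2.IsWeakAssPoint ((Scheme.Modules.pushforward f).obj F) s) :
    ∃ x : X, f x = s ∧ Curv2.IsWeakAssPoint F x := by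
  obtain ⟨_, ⟨V, hV, rfl⟩, hsV, -⟩ :=
    S.isBasis_affineOpens.exists_subset_of_mem_open (Set.mem_univ s) isOpen_univ
  have hW : IsAffineOpen (f ⁻¹ᵁ V) := hV.preimage f
  have hloc := (isLocalizingOn_pushforward f F V hW).isLocAt hV ⟨s, hsV⟩
  obtain ⟨m, hmin⟩ := exists_minimal_of_isWeakAssPoint _ hV ⟨s, hsV⟩ hloc hs
  rw [ann_pushforward] at hmin
  obtain ⟨q, hqmin, hq⟩ := Ideal.exists_minimalPrimes_comap_eq _ _ hmin
  haveI : q.IsPrime := hqmin.1.1
  let x : (f ⁻¹ᵁ V : X.Opens) := ⟨hW.fromSpec ⟨q, inferInstance⟩, fromSpec_mem hW _⟩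
  have hxq : hW.primeIdealOf x = ⟨q, inferInstance⟩ := primeIdealOf_fromSpec hW _
  refine ⟨x.1, ?_, ?_⟩
  · have h1 := IsAffineOpen.comap_primeIdealOf_appLE V hV (f ⁻¹ᵁ V) hW le_rfl x.2
    have h2 : hV.primeIdealOf ⟨f x.1, x.2⟩ = hV.primeIdealOf ⟨s, hsV⟩ := by
      rw [← h1]
      apply PrimeSpectrum.ext
      rw [PrimeSpectrum.comap_asIdeal, hxq, Scheme.Hom.appLE_eq_app]
      exact hq
    exact congrArg Subtype.val (primeIdealOf_injective hV _ _ h2)
  · apply isWeakAssPoint_of_minimal F hW x (isLocAt_of_isQuasicoherent F hW x) m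
    rw [hxq]
    exact hqmin

end Groth.Agent.Lib.AssPush
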