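import Groth.Agent.Lib.H90OXModAffineFT
import Groth.Agent.Lib.AssPush

set_option autoImplicit false
universe u

open CategoryTheory CategoryTheory.Limits AlgebraicGeometry TopologicalSpace Opposite
open AlgebraicGeometry.Scheme AlgebraicGeometry.Scheme.Modules

namespace Groth.Agent.Lib.H90OXModPush

open Groth.Agent.Lib.H90OXModAffine Groth.Agent.Lib.H90RestrictEquiv Groth.Agent.Lib.H90Invertible
  Groth.Agent.Lib.QCohStalk Groth.Agent.Lib.AssPush

variable {S : Scheme.{u}}

set_option backward.isDefEq.respectTransparency false in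
/-- If `G` is localizing on the affine open `V` (restriction to basic opens is localization), then
the restriction of `G` to `Spec Γ(S, V)` is localizing in Mathlib's sense. -/
theorem isLocalizing_restrict_of_isLocalizingOn (G : S.Modules) {V : S.Opens}
    (hV : IsAffineOpen V) (h : IsLocalizingOn G V) :
    IsLocalizing (modulesSpecToSheaf.obj (G.restrict hV.fromSpec)) := by
  intro r
  have e : hV.fromSpec ''ᵁ PrimeSpectrum.basicOpen r = S.basicOpen r :=
    hV.fromSpec_image_basicOpen r
  have e' : hV.fromSpec ''ᵁ ⊤ = V := fromSpec_image_top hV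
  refine IsLocalizedModule.Away.mk_of_addCommGroup
    (Scheme.Modules.isUnit_algebraMap_end_of_le_basicOpen r le_rfl) ?_ ?_
  · intro x
    obtain ⟨n, s, hs⟩ := h.surj r (res G e.ge (show Γ(G, hV.fromSpec ''ᵁ PrimeSpectrum.basicOpen r) from x))
    refine ⟨n, (show Γ(G.restrict hV.fromSpec, ⊤) from res G e'.le s), ?_⟩
    rw [smul_restrict_fromSpec]
    apply res_injective_of_eq G e.symm
    change res G e.ge (resO S _ (r ^ n) • (show Γ(G, hV.fromSpec ''ᵁ PrimeSpectrum.basicOpen r) from x)) =
      res G e.ge (res G (Scheme.Hom.image_mono _ le_top) (res G e'.le s))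
    rw [res_smul, resO_resO, res_res, res_res, resO_pow]
    exact hs
  · intro x hx
    have hx' : res G (Scheme.Hom.image_mono hV.fromSpec le_top)
        (show Γ(G, hV.fromSpec ''ᵁ ⊤) from x) = 0 := hx
    obtain ⟨n, hn⟩ := h.inj r (res G e'.ge (show Γ(G, hV.fromSpec ''ᵁ ⊤) from x)) (by
      rw [res_res]
      have := congrArg (res G e.ge) hx'
      rw [res_res, res_zero] at this
      exact this)
    refine ⟨n, ?_⟩
    rw [smul_restrict_fromSpec]
    apply res_injective_of_eq G e'.symm
    change res G e'.ge (resO S _ (r ^ n) • (show Γ(G, hV.fromSpec ''ᵁ ⊤) from x)) = res G e'.ge 0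
    rw [res_smul, resO_resO, res_zero]
    have h0 : resO S (le_refl V) (r ^ n) = r ^ n := by
      change S.presheaf.map (𝟙 _) (r ^ n) = r ^ n
      rw [S.presheaf.map_id]; rfl
    rw [h0]
    exact hn

set_option backward.isDefEq.respectTransparency false in
/-- A module on `Spec R` isomorphic to the tilde of its global sections has a global presentation. -/
theorem nonempty_presentation_of_isIso_fromTildeΓ {R : CommRingCat.{u}} (N : (Spec R).Modules)
    [IsIso N.fromTildeΓ] : Nonempty N.Presentation :=
  ⟨(presentationTilde.{u} (ΓSpec N) .univ (by simp) _ (Submodule.span_eq _)).ofIsIso N.fromTildeΓ⟩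

set_option backward.isDefEq.respectTransparency false in
/-- If `G` is localizing on the affine open `V`, then `G|_V` has a global presentation. -/
theorem nonempty_presentation_restrict_of_isLocalizingOn (G : S.Modules) {V : S.Opens}
    (hV : IsAffineOpen V) (h : IsLocalizingOn G V) : Nonempty (G.restrict V.ι).Presentation := by
  haveI : IsIso (G.restrict hV.fromSpec).fromTildeΓ :=
    (isIso_fromTildeΓ_iff_isLocalizing _).mpr (isLocalizing_restrict_of_isLocalizingOn G hV h)
  obtain ⟨P⟩ := nonempty_presentation_of_isIso_fromTildeΓ (G.restrict hV.fromSpec)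
  let e : (G.restrict hV.fromSpec).restrict hV.isoSpec.hom ≅ G.restrict V.ι :=
    ((restrictCompIso hV.isoSpec.hom hV.fromSpec V.ι hV.isoSpec_hom_fromSpec).app G).symm
  exact ⟨(Scheme.Modules.presentationRestrict hV.isoSpec.hom P).ofIsIso e.hom⟩

/-- A module which is localizing on the members of an affine open cover is quasi-coherent. -/
theorem isQuasicoherent_of_isLocalizingOn_cover (G : S.Modules) {ι : Type u} (U : ι → S.Opens)
    (hU : ⨆ i, U i = ⊤) (hA : ∀ i, IsAffineOpen (U i)) (h : ∀ i, IsLocalizingOn G (U i)) :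
    G.IsQuasicoherent :=
  isQuasicoherent_of_cover G U hU fun i =>
    (nonempty_presentation_restrict_of_isLocalizingOn G (hA i) (h i)).some

/-- A module is quasi-coherent iff it is localizing on every affine open. -/
theorem isQuasicoherent_iff_forall_isLocalizingOn (G : S.Modules) :
    G.IsQuasicoherent ↔ ∀ U : S.affineOpens, IsLocalizingOn G U.1 :=
  ⟨fun _ U => isLocalizingOn_of_isQuasicoherent G U.2, fun h =>
    isQuasicoherent_of_isLocalizingOn_cover G (fun U : S.affineOpens => U.1)
      (AlgebraicGeometry.iSup_affineOpens_eq_top S) (fun U => U.2) h⟩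

/-- PUSHFORWARD ALONG AN AFFINE MORPHISM PRESERVES QUASI-COHERENCE. -/
theorem isQuasicoherent_pushforward {X : Scheme.{u}} (f : X ⟶ S) [IsAffineHom f] (F : X.Modules)
    [F.IsQuasicoherent] : ((Scheme.Modules.pushforward f).obj F).IsQuasicoherent :=
  (isQuasicoherent_iff_forall_isLocalizingOn _).mpr fun U =>
    isLocalizingOn_pushforward f F U.1 (U.2.preimage f)

end Groth.Agent.Lib.H90OXModPush
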