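import Groth.Agent.Lib.QCohStalk
import Groth.Prelude.Def_FlatMod2
import Mathlib.RingTheory.Flat.Localization
import Mathlib.RingTheory.Flat.Stability

/-!
# Flatness of quasi-coherent modules: stalks vs sections over affine opens (helper81)
-/

set_option autoImplicit false
universe u
open CategoryTheory AlgebraicGeometry TopologicalSpace Opposite

namespace Groth.Agent.Lib.QCohFlat

open Groth.Agent.Lib.QCohStalk

variable {X : Scheme.{u}}

/-- Sections flat over an affine open ⇒ stalks flat. -/
theorem flat_stalk_of_flat_sections (F : X.Modules) [F.IsQuasicoherent] {U : X.Opens}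
    (hU : IsAffineOpen U) (x : U) (h : Module.Flat Γ(X, U) Γ(F, U)) :
    Module.Flat (X.presheaf.stalk (x : X)) (F.presheaf.stalk (x : X)) := by
  letI := moduleSectionStalk F x
  have := isScalarTower_sectionStalk F x
  have := hU.isLocalization_stalk x
  have := isLocalizedModule_germ F hU x
  exact Module.Flat.of_isLocalizedModule (X.presheaf.stalk (x : X))
    (hU.primeIdealOf x).asIdeal.primeCompl (germLinear F x)

/-- Stalks flat at all points of an affine open ⇒ sections flat. -/
theorem flat_sections_of_flat_stalks (F : X.Modules) [F.IsQuasicoherent] {U : X.Opens}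
    (hU : IsAffineOpen U)
    (h : ∀ x : U, Module.Flat (X.presheaf.stalk (x : X)) (F.presheaf.stalk (x : X))) :
    Module.Flat Γ(X, U) Γ(F, U) := by
  apply Module.flat_of_localized_maximal
  intro P hP
  have hPp : P.IsPrime := hP.isPrime
  obtain ⟨x, hx⟩ : ∃ x : U, hU.primeIdealOf x = ⟨P, hPp⟩ := by
    let p' : ↥(Spec Γ(X, U)) := (⟨P, hPp⟩ : PrimeSpectrum Γ(X, U))
    refine ⟨hU.isoSpec.inv p', ?_⟩
    change hU.isoSpec.hom (hU.isoSpec.inv p') = p'
    rw [← Scheme.Hom.comp_apply, Iso.inv_hom_id]
    rfl
  letI := moduleSectionStalk F x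
  have hst := isScalarTower_sectionStalk F x
  have hloc := hU.isLocalization_stalk x
  have hlm := isLocalizedModule_germ F hU x
  rw [hx] at hlm hloc
  have hflat : Module.Flat Γ(X, U) (X.presheaf.stalk (x : X)) :=
    IsLocalization.flat (X.presheaf.stalk (x : X)) P.primeCompl
  have := h x
  have : Module.Flat Γ(X, U) (F.presheaf.stalk (x : X)) :=
    Module.Flat.trans Γ(X, U) (X.presheaf.stalk (x : X)) (F.presheaf.stalk (x : X))
  exact Module.Flat.of_linearEquiv (IsLocalizedModule.iso P.primeCompl (germLinear F x))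

/-- A quasi-coherent module is flat (stalkwise) iff its sections over all affine opens are flat. -/
theorem isFlat_iff_forall_affine (F : X.Modules) [F.IsQuasicoherent] :
    FlatMod.IsFlat F ↔ ∀ U : X.affineOpens, Module.Flat Γ(X, U.1) Γ(F, U.1) := by
  constructor
  · intro h U
    exact flat_sections_of_flat_stalks F U.2 fun x => h x.1
  · intro h x
    obtain ⟨U, hxU⟩ := Opens.mem_iSup.mp ((iSup_affineOpens_eq_top X).ge (Set.mem_univ x))
    exact flat_stalk_of_flat_sections F U.2 ⟨x, hxU⟩ (h U)

end Groth.Agent.Lib.QCohFlat
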