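import Groth.Agent.Lib.FlatOverAlg
import Groth.Agent.Lib.H72FlatBaseChange
import Groth.Agent.Lib.QCohFlat
import Groth.Agent.Lib.H90OXModPush

set_option autoImplicit false
set_option linter.style.haveILetI false
universe u
open CategoryTheory AlgebraicGeometry TopologicalSpace Opposite

namespace Groth.Agent.Lib.FlatOverSections

open Groth.Agent.Lib.QCohStalk Groth.Agent.Lib.H72FlatBaseChange Groth.Agent.Lib.FlatOverAlg

variable {X S : Scheme.{u}}

/-- Flatness over the base at all points of an affine open `U ≤ f⁻¹V` (`V` affine) is flatness of the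
sections over `U` as a `Γ(S, V)`-module. -/
theorem forall_isFlatOverAt_iff_flat_sections (f : X ⟶ S) (F : X.Modules) [F.IsQuasicoherent]
    {U : X.Opens} {V : S.Opens} (hU : IsAffineOpen U) (hV : IsAffineOpen V) (hUV : U ≤ f ⁻¹ᵁ V) :
    (∀ x : X, x ∈ U → FlatMod.IsFlatOverAt f F x) ↔
      @Module.Flat Γ(S, V) Γ(F, U) _ _ (Module.compHom _ (f.appLE V U hUV).hom) := by
  letI algRS : Algebra Γ(S, V) Γ(X, U) := (f.appLE V U hUV).hom.toAlgebra
  letI modRM : Module Γ(S, V) Γ(F, U) := Module.compHom _ (f.appLE V U hUV).hom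
  haveI : IsScalarTower Γ(S, V) Γ(X, U) Γ(F, U) := .of_algebraMap_smul fun _ _ => rfl
  constructor
  · intro h
    refine flat_of_forall_maximal_exists (R := Γ(S, V)) (S := Γ(X, U)) (M := Γ(F, U)) ?_
    intro P hP
    have hPp : P.IsPrime := hP.isPrime
    obtain ⟨x, hx⟩ : ∃ x : U, hU.primeIdealOf x = ⟨P, hPp⟩ := by
      let p' : ↥(Spec Γ(X, U)) := (⟨P, hPp⟩ : PrimeSpectrum Γ(X, U))
      refine ⟨hU.isoSpec.inv p', ?_⟩
      change hU.isoSpec.hom (hU.isoSpec.inv p') = p'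
      rw [← Scheme.Hom.comp_apply, Iso.inv_hom_id]
      rfl
    letI modS := moduleSectionStalk F x
    letI modR : Module Γ(S, V) (F.presheaf.stalk (x : X)) :=
      Module.compHom _ ((X.presheaf.germ U x.1 x.2).hom.comp (f.appLE V U hUV).hom)
    haveI tow : IsScalarTower Γ(S, V) Γ(X, U) (F.presheaf.stalk (x : X)) :=
      .of_algebraMap_smul fun _ _ => rfl
    have hlm := isLocalizedModule_germ F hU x
    rw [hx] at hlm
    have hfl := (isFlatOverAt_iff_flat_sections f F hUV hV x.1 x.2).mp (h x.1 x.2)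
    exact ⟨F.presheaf.stalk (x : X), inferInstance, modR, modS, tow, germLinear F x, hlm, hfl⟩
  · intro h x hx
    rw [isFlatOverAt_iff_flat_sections f F hUV hV x hx]
    letI modS := moduleSectionStalk F (⟨x, hx⟩ : U)
    letI modR : Module Γ(S, V) (F.presheaf.stalk x) :=
      Module.compHom _ ((X.presheaf.germ U x hx).hom.comp (f.appLE V U hUV).hom)
    haveI tow : IsScalarTower Γ(S, V) Γ(X, U) (F.presheaf.stalk x) :=
      .of_algebraMap_smul fun _ _ => rfl
    have hlm := isLocalizedModule_germ F hU (⟨x, hx⟩ : U)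
    exact flat_of_isLocalizedModule_of_flat (R := Γ(S, V)) (S := Γ(X, U))
      (hU.primeIdealOf ⟨x, hx⟩).asIdeal.primeCompl (germLinear F (⟨x, hx⟩ : U))

/-- `IsFlatOver f F` in terms of sections over affine opens. -/
theorem isFlatOver_iff_forall_affine (f : X ⟶ S) (F : X.Modules) [F.IsQuasicoherent] :
    FlatMod.IsFlatOver f F ↔ ∀ (V : S.affineOpens) (U : X.affineOpens) (hUV : U.1 ≤ f ⁻¹ᵁ V.1),
      @Module.Flat Γ(S, V.1) Γ(F, U.1) _ _ (Module.compHom _ (f.appLE V.1 U.1 hUV).hom) := by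
  constructor
  · intro h V U hUV
    exact (forall_isFlatOverAt_iff_flat_sections f F U.2 V.2 hUV).mp fun x _ => h x
  · intro h x
    obtain ⟨_, ⟨V, hV, rfl⟩, hxV, -⟩ :=
      S.isBasis_affineOpens.exists_subset_of_mem_open (Set.mem_univ (f x)) isOpen_univ
    obtain ⟨_, ⟨U, hU, rfl⟩, hxU, hUV⟩ :=
      X.isBasis_affineOpens.exists_subset_of_mem_open (show x ∈ (f ⁻¹ᵁ V : Set X) from hxV)
        (f ⁻¹ᵁ V).isOpen
    exact (forall_isFlatOverAt_iff_flat_sections f F hU hV hUV).mpr (h ⟨V, hV⟩ ⟨U, hU⟩ hUV) x hxU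

/-- For `f` affine: it suffices to test on preimages of affine opens of the target of `f`. -/
theorem isFlatOver_comp_iff_forall_affine {Y : Scheme.{u}} (f : X ⟶ Y) [IsAffineHom f] (q : Y ⟶ S)
    (F : X.Modules) [F.IsQuasicoherent] :
    FlatMod.IsFlatOver (f ≫ q) F ↔ ∀ (V : S.affineOpens) (W : Y.affineOpens) (hWV : W.1 ≤ q ⁻¹ᵁ V.1),
      @Module.Flat Γ(S, V.1) Γ(F, f ⁻¹ᵁ W.1) _ _ (Module.compHom _
        ((f ≫ q).appLE V.1 (f ⁻¹ᵁ W.1) (fun _ hx => hWV hx)).hom) := by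
  constructor
  · intro h V W hWV
    exact (forall_isFlatOverAt_iff_flat_sections (f ≫ q) F (W.2.preimage f) V.2 _).mp fun x _ => h x
  · intro h x
    obtain ⟨_, ⟨V, hV, rfl⟩, hxV, -⟩ :=
      S.isBasis_affineOpens.exists_subset_of_mem_open (Set.mem_univ (q (f x))) isOpen_univ
    obtain ⟨_, ⟨W, hW, rfl⟩, hxW, hWV⟩ :=
      Y.isBasis_affineOpens.exists_subset_of_mem_open (show f x ∈ (q ⁻¹ᵁ V : Set Y) from hxV)
        (q ⁻¹ᵁ V).isOpen
    exact (forall_isFlatOverAt_iff_flat_sections (f ≫ q) F (hW.preimage f) hV _).mpr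
      (h ⟨V, hV⟩ ⟨W, hW⟩ hWV) x hxW

/-- Flatness over the base is insensitive to affine pushforward. -/
theorem isFlatOver_comp_iff_pushforward {Y : Scheme.{u}} (f : X ⟶ Y) [IsAffineHom f] (q : Y ⟶ S)
    (F : X.Modules) [F.IsQuasicoherent] :
    FlatMod.IsFlatOver (f ≫ q) F ↔ FlatMod.IsFlatOver q ((Scheme.Modules.pushforward f).obj F) := by
  haveI : ((Scheme.Modules.pushforward f).obj F).IsQuasicoherent :=
    Groth.Agent.Lib.H90OXModPush.isQuasicoherent_pushforward f F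
  rw [isFlatOver_comp_iff_forall_affine f q F, isFlatOver_iff_forall_affine q]
  refine forall_congr' fun V => forall_congr' fun W => forall_congr' fun hWV => ?_
  have hφ : ((f ≫ q).appLE V.1 (f ⁻¹ᵁ W.1) (fun _ hx => hWV hx)).hom =
      (f.app W.1).hom.comp (q.appLE V.1 W.1 hWV).hom := by
    have h1 := Scheme.Hom.appLE_comp_appLE f q V.1 W.1 (f ⁻¹ᵁ W.1) hWV le_rfl
    rw [Scheme.Hom.appLE_eq_app] at h1
    rw [← CommRingCat.hom_comp, h1]
  have hinst : (Module.compHom Γ(F, f ⁻¹ᵁ W.1)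
      ((f ≫ q).appLE V.1 (f ⁻¹ᵁ W.1) (fun _ hx => hWV hx)).hom : Module Γ(S, V.1) Γ(F, f ⁻¹ᵁ W.1)) =
      (Module.compHom Γ(F, f ⁻¹ᵁ W.1) ((f.app W.1).hom.comp (q.appLE V.1 W.1 hWV).hom)) := by
    rw [hφ]
  rw [hinst]
  exact Iff.rfl

end Groth.Agent.Lib.FlatOverSections
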