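import Groth.Agent.Lib.H72PullbackStalk
import Groth.Agent.Lib.ModStalkLin

/-!
# helper72: naturality of the affine description of pullbacks of quasi-coherent modules, and the
natural stalk base change

* `secModMap ψ U`: the map on sections over `U` as a morphism of `ModuleCat Γ(X, U)`.
* `sectionsIso_naturality`, `pullbackRestrictIso_naturality`, `pullbackSectionsIso_naturality`.
-/

set_option autoImplicit false
set_option linter.style.haveILetI false
universe u

namespace Groth.Agent.Lib.H72PullbackNat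

open AlgebraicGeometry CategoryTheory TopologicalSpace Opposite
open Groth.Agent.Lib.H72PullbackAffine Groth.Agent.Lib.H72PullbackQCoh
  Groth.Agent.Lib.H90OXModAffine

variable {X Y : Scheme.{u}}

/-- The map on sections over `U`, as a morphism of modules over `Γ(X, U)`. -/
noncomputable def secModMap {M M' : X.Modules} (ψ : M ⟶ M') (U : X.Opens) :
    ModuleCat.of Γ(X, U) Γ(M, U) ⟶ ModuleCat.of Γ(X, U) Γ(M', U) :=
  ModuleCat.ofHom
    { toFun := fun m => ψ.app U m
      map_add' := fun a b => map_add (ψ.app U).hom a b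
      map_smul' := fun r m => Scheme.Modules.Hom.app_smul ψ r m }

theorem secModMap_apply {M M' : X.Modules} (ψ : M ⟶ M') (U : X.Opens) (m : Γ(M, U)) :
    (secModMap ψ U).hom m = ψ.app U m := rfl

/-- Naturality of `sectionsIso`. -/
theorem sectionsIso_naturality {M M' : X.Modules} (ψ : M ⟶ M') {U : X.Opens}
    (hU : IsAffineOpen U) :
    secModMap ψ U ≫ (sectionsIso M' hU).hom =
      (sectionsIso M hU).hom ≫
        moduleSpecΓFunctor.map ((Scheme.Modules.restrictFunctor hU.fromSpec).map ψ) := by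
  ext m
  change M'.presheaf.map (eqToHom (fromSpec_image_top hU)).op (ψ.app U m) =
    ψ.app (hU.fromSpec ''ᵁ ⊤) (M.presheaf.map (eqToHom (fromSpec_image_top hU)).op m)
  have := ψ.mapPresheaf.naturality (eqToHom (fromSpec_image_top hU)).op
  exact (congrArg (fun f => f.hom m) this).symm

/-- Pasting of commutative squares. -/
theorem paste {C : Type*} [Category C] {A A' B B' Z Z' : C} {f : A ⟶ A'} {a' : A' ⟶ B'}
    {a : A ⟶ B} {g : B ⟶ B'} {r' : B' ⟶ Z'} {r : B ⟶ Z} {k : Z ⟶ Z'}
    (s : f ≫ a' = a ≫ g) (t : g ≫ r' = r ≫ k) : f ≫ a' ≫ r' = a ≫ r ≫ k := by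
  rw [reassoc_of% s, t]

/-- The image of a commutative square under a functor. -/
theorem mapSq {C D : Type*} [Category C] [Category D] (F : C ⥤ D) {A A' B B' : C} {f : A ⟶ A'}
    {a' : A' ⟶ B'} {a : A ⟶ B} {g : B ⟶ B'} (s : f ≫ a' = a ≫ g) :
    F.map f ≫ F.map a' = F.map a ≫ F.map g := by
  rw [← F.map_comp, s, F.map_comp]

/-- Inverting the vertical isomorphisms of a commutative square. -/
theorem invSq {C : Type*} [Category C] {A A' B B' : C} {f : A ⟶ A'} {g : B ⟶ B'} (a : A ≅ B)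
    (a' : A' ≅ B') (s : f ≫ a'.hom = a.hom ≫ g) : g ≫ a'.inv = a.inv ≫ f := by
  rw [Iso.comp_inv_eq, Category.assoc, Iso.eq_inv_comp, s]

/-- Naturality of `pullbackRestrictIso` (inverse direction). -/
theorem pullbackRestrictIso_inv_naturality (h : X ⟶ Y) {G G' : Y.Modules} [G.IsQuasicoherent]
    [G'.IsQuasicoherent] (ψ : G ⟶ G') {U : X.Opens} {V : Y.Opens} (hU : IsAffineOpen U)
    (hV : IsAffineOpen V) (hUV : U ≤ h ⁻¹ᵁ V) :
    (tilde.functor _).map ((ModuleCat.extendScalars (h.appLE V U hUV).hom).map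
        (moduleSpecΓFunctor.map ((Scheme.Modules.restrictFunctor hV.fromSpec).map ψ))) ≫
      (pullbackRestrictIso h G' hU hV hUV).inv =
    (pullbackRestrictIso h G hU hV hUV).inv ≫
      (Scheme.Modules.restrictFunctor hU.fromSpec).map ((Scheme.Modules.pullback h).map ψ) := by
  have s1 := (Groth.Agent.Lib.TildePullback.tildePullbackIso (h.appLE V U hUV)).hom.naturality
      (moduleSpecΓFunctor.map ((Scheme.Modules.restrictFunctor hV.fromSpec).map ψ))
  have s2 : (tilde.functor _).map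
        (moduleSpecΓFunctor.map ((Scheme.Modules.restrictFunctor hV.fromSpec).map ψ)) ≫
      Scheme.Modules.fromTildeΓ ((Scheme.Modules.restrictFunctor hV.fromSpec).obj G') =
      Scheme.Modules.fromTildeΓ ((Scheme.Modules.restrictFunctor hV.fromSpec).obj G) ≫
        (Scheme.Modules.restrictFunctor hV.fromSpec).map ψ :=
    Scheme.Modules.fromTildeΓNatTrans.naturality
      ((Scheme.Modules.restrictFunctor hV.fromSpec).map ψ)
  have s3 := (Scheme.Modules.restrictFunctorIsoPullback hV.fromSpec).hom.naturality ψ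
  have s4 := (Scheme.Modules.pullbackComp (Spec.map (h.appLE V U hUV)) hV.fromSpec).hom.naturality ψ
  have s5 := (Scheme.Modules.pullbackCongr
    (IsAffineOpen.SpecMap_appLE_fromSpec h hV hU hUV).symm).inv.naturality ψ
  have s6 := (Scheme.Modules.pullbackComp hU.fromSpec h).inv.naturality ψ
  have s7 := (Scheme.Modules.restrictFunctorIsoPullback hU.fromSpec).inv.naturality
    ((Scheme.Modules.pullback h).map ψ)
  simp only [pullbackRestrictIso, restrictIsoTilde, Iso.trans_inv, Iso.symm_inv, Iso.app_inv,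
    Iso.app_hom, Functor.mapIso_inv, asIso_hom, Category.assoc]
  exact paste s1 (paste (mapSq (Scheme.Modules.pullback (Spec.map (h.appLE V U hUV))) s2)
    (paste (mapSq (Scheme.Modules.pullback (Spec.map (h.appLE V U hUV))) s3)
      (paste s4 (paste s5 (paste s6 s7)))))

/-- Naturality of `sectionsIso`, inverse direction. -/
theorem sectionsIso_inv_naturality {M M' : X.Modules} (ψ : M ⟶ M') {U : X.Opens}
    (hU : IsAffineOpen U) :
    moduleSpecΓFunctor.map ((Scheme.Modules.restrictFunctor hU.fromSpec).map ψ) ≫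
        (sectionsIso M' hU).inv =
      (sectionsIso M hU).inv ≫ secModMap ψ U := by
  exact invSq _ _ (sectionsIso_naturality ψ hU)

/-- Naturality of `pullbackSectionsIso` (inverse direction). -/
theorem pullbackSectionsIso_inv_naturality (h : X ⟶ Y) {G G' : Y.Modules} [G.IsQuasicoherent]
    [G'.IsQuasicoherent] (ψ : G ⟶ G') {U : X.Opens} {V : Y.Opens} (hU : IsAffineOpen U)
    (hV : IsAffineOpen V) (hUV : U ≤ h ⁻¹ᵁ V) :
    (ModuleCat.extendScalars (h.appLE V U hUV).hom).map (secModMap ψ V) ≫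
      (pullbackSectionsIso h G' hU hV hUV).inv =
    (pullbackSectionsIso h G hU hV hUV).inv ≫
      secModMap ((Scheme.Modules.pullback h).map ψ) U := by
  have t1 := mapSq (ModuleCat.extendScalars (h.appLE V U hUV).hom) (sectionsIso_naturality ψ hV)
  have t2 := (tilde.toTildeΓNatIso (R := Γ(X, U))).hom.naturality
    ((ModuleCat.extendScalars (h.appLE V U hUV).hom).map
      (moduleSpecΓFunctor.map ((Scheme.Modules.restrictFunctor hV.fromSpec).map ψ)))
  have t3 := mapSq (moduleSpecΓFunctor (R := Γ(X, U)))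
    (pullbackRestrictIso_inv_naturality h ψ hU hV hUV)
  have t4 := sectionsIso_inv_naturality ((Scheme.Modules.pullback h).map ψ) hU
  simp only [pullbackSectionsIso, Iso.trans_inv, Iso.symm_inv,
    Iso.app_hom, Functor.mapIso_inv, Category.assoc]
  exact paste t1 (paste t2 (paste t3 t4))

open TensorProduct in
theorem extendScalars_map_symm_tmul {A' A : Type u} [CommRing A'] [CommRing A] [Algebra A' A]
    {N N' : Type u} [AddCommGroup N] [Module A' N] [AddCommGroup N'] [Module A' N']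
    (g : ModuleCat.of A' N ⟶ ModuleCat.of A' N') (n : N) :
    ((ModuleCat.extendScalars (algebraMap A' A)).map g).hom
      ((Groth.Agent.Lib.TildePullback.extendScalarsEquiv A' A N).symm (1 ⊗ₜ n)) =
    (Groth.Agent.Lib.TildePullback.extendScalarsEquiv A' A N').symm (1 ⊗ₜ g.hom n) := by
  rfl

open TensorProduct in
/-- The base change map on sections `Γ(G, V) → Γ(h^*G, U)`, as a plain function. -/
noncomputable def thetaFun (h : X ⟶ Y) (G : Y.Modules) [G.IsQuasicoherent] {U : X.Opens}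
    {V : Y.Opens} (hU : IsAffineOpen U) (hV : IsAffineOpen V) (hUV : U ≤ h ⁻¹ᵁ V) (m : Γ(G, V)) :
    Γ((Scheme.Modules.pullback h).obj G, U) :=
  letI : Algebra Γ(Y, V) Γ(X, U) := (h.appLE V U hUV).hom.toAlgebra
  (pullbackSectionsIso h G hU hV hUV).inv.hom
    ((Groth.Agent.Lib.TildePullback.extendScalarsEquiv Γ(Y, V) Γ(X, U) Γ(G, V)).symm (1 ⊗ₜ m))

open TensorProduct in
/-- Naturality of `thetaFun`. -/
theorem thetaFun_naturality (h : X ⟶ Y) {G G' : Y.Modules} [G.IsQuasicoherent]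
    [G'.IsQuasicoherent] (ψ : G ⟶ G') {U : X.Opens} {V : Y.Opens} (hU : IsAffineOpen U)
    (hV : IsAffineOpen V) (hUV : U ≤ h ⁻¹ᵁ V) (m : Γ(G, V)) :
    thetaFun h G' hU hV hUV (ψ.app V m) =
      ((Scheme.Modules.pullback h).map ψ).app U (thetaFun h G hU hV hUV m) := by
  letI : Algebra Γ(Y, V) Γ(X, U) := (h.appLE V U hUV).hom.toAlgebra
  have key := pullbackSectionsIso_inv_naturality h ψ hU hV hUV
  have key2 := congrArg (fun f => f.hom
    ((Groth.Agent.Lib.TildePullback.extendScalarsEquiv Γ(Y, V) Γ(X, U) Γ(G, V)).symm (1 ⊗ₜ m))) key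
  rw [ModuleCat.hom_comp, ModuleCat.hom_comp, LinearMap.comp_apply, LinearMap.comp_apply] at key2
  unfold thetaFun
  rw [← secModMap_apply ψ V m, ← secModMap_apply ((Scheme.Modules.pullback h).map ψ) U]
  rw [← key2]
  exact congrArg (pullbackSectionsIso h G' hU hV hUV).inv.hom
    (extendScalars_map_symm_tmul (A' := Γ(Y, V)) (A := Γ(X, U)) (secModMap ψ V) m).symm

set_option maxRecDepth 8000 in
open Groth.Agent.Lib.QCohStalk Groth.Agent.Lib.H72PullbackStalk TensorProduct in
/-- The base change map on sections, with its values. -/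
theorem exists_isBaseChange_sections' (h : X ⟶ Y) (G : Y.Modules) [G.IsQuasicoherent]
    {U : X.Opens} {V : Y.Opens} (hU : IsAffineOpen U) (hV : IsAffineOpen V) (hUV : U ≤ h ⁻¹ᵁ V) :
    letI : Algebra Γ(Y, V) Γ(X, U) := (h.appLE V U hUV).hom.toAlgebra
    letI : Module Γ(Y, V) Γ((Scheme.Modules.pullback h).obj G, U) :=
      Module.compHom _ (h.appLE V U hUV).hom
    haveI : IsScalarTower Γ(Y, V) Γ(X, U) Γ((Scheme.Modules.pullback h).obj G, U) :=
      .of_algebraMap_smul fun _ _ => rfl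
    ∃ θ : Γ(G, V) →ₗ[Γ(Y, V)] Γ((Scheme.Modules.pullback h).obj G, U),
      IsBaseChange Γ(X, U) θ ∧ ∀ m, θ m = thetaFun h G hU hV hUV m := by
  letI : Algebra Γ(Y, V) Γ(X, U) := (h.appLE V U hUV).hom.toAlgebra
  letI : Module Γ(Y, V) Γ((Scheme.Modules.pullback h).obj G, U) :=
    Module.compHom _ (h.appLE V U hUV).hom
  haveI : IsScalarTower Γ(Y, V) Γ(X, U) Γ((Scheme.Modules.pullback h).obj G, U) :=
    .of_algebraMap_smul fun _ _ => rfl
  let e := pullbackSectionsIso h G hU hV hUV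
  let E : Γ(X, U) ⊗[Γ(Y, V)] Γ(G, V) ≃ₗ[Γ(X, U)] Γ((Scheme.Modules.pullback h).obj G, U) :=
    (Groth.Agent.Lib.TildePullback.extendScalarsEquiv Γ(Y, V) Γ(X, U) Γ(G, V)).symm ≪≫ₗ
      e.symm.toLinearEquiv
  refine ⟨(E.toLinearMap.restrictScalars Γ(Y, V)).comp (TensorProduct.mk Γ(Y, V) Γ(X, U) Γ(G, V) 1),
    ?_, fun m => rfl⟩
  refine IsBaseChange.of_equiv E (fun x => ?_)
  rw [LinearMap.comp_apply, LinearMap.restrictScalars_apply, TensorProduct.mk_apply,
    LinearEquiv.coe_coe]

open Groth.Agent.Lib.QCohStalk Groth.Agent.Lib.H72PullbackStalk in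
/-- **Stalk of a pullback, in a chart**: for `G` quasi-coherent on `Y`, `h : X ⟶ Y`, affine opens
`x ∈ U ≤ h ⁻¹ᵁ V`, there is a base change map `τ : G_{h x} → (h^*G)_x` along `h.stalkMap x` with
`τ (germ m) = germ (thetaFun m)`. -/
theorem exists_isBaseChange_stalk_pullback_chart (h : X ⟶ Y) (G : Y.Modules) [G.IsQuasicoherent]
    (x : X) {U : X.Opens} {V : Y.Opens} (hU : IsAffineOpen U) (hV : IsAffineOpen V)
    (hUV : U ≤ h ⁻¹ᵁ V) (hxU : x ∈ U) :
    letI : Algebra (Y.presheaf.stalk (h x)) (X.presheaf.stalk x) := (h.stalkMap x).hom.toAlgebra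
    letI : Module (Y.presheaf.stalk (h x))
        (((Scheme.Modules.pullback h).obj G).presheaf.stalk x) :=
      Module.compHom _ (h.stalkMap x).hom
    haveI : IsScalarTower (Y.presheaf.stalk (h x)) (X.presheaf.stalk x)
        (((Scheme.Modules.pullback h).obj G).presheaf.stalk x) :=
      .of_algebraMap_smul fun _ _ => rfl
    ∃ τ : G.presheaf.stalk (h x) →ₗ[Y.presheaf.stalk (h x)]
        ((Scheme.Modules.pullback h).obj G).presheaf.stalk x,
      IsBaseChange (X.presheaf.stalk x) τ ∧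
      ∀ m : Γ(G, V), τ (G.presheaf.germ V (h x) (hUV hxU) m) =
        ((Scheme.Modules.pullback h).obj G).presheaf.germ U x hxU (thetaFun h G hU hV hUV m) := by
  have hxV : h x ∈ V := hUV hxU
  let F := (Scheme.Modules.pullback h).obj G
  -- rings
  letI algAB : Algebra Γ(Y, V) Γ(X, U) := (h.appLE V U hUV).hom.toAlgebra
  letI algAA' : Algebra Γ(Y, V) (Y.presheaf.stalk (h x)) :=
    TopCat.Presheaf.algebra_section_stalk Y.presheaf (⟨h x, hxV⟩ : V)
  letI algBB' : Algebra Γ(X, U) (X.presheaf.stalk x) :=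
    TopCat.Presheaf.algebra_section_stalk X.presheaf (⟨x, hxU⟩ : U)
  letI algA'B' : Algebra (Y.presheaf.stalk (h x)) (X.presheaf.stalk x) :=
    (h.stalkMap x).hom.toAlgebra
  letI algAB' : Algebra Γ(Y, V) (X.presheaf.stalk x) :=
    ((h.stalkMap x).hom.comp (Y.presheaf.germ V (h x) hxV).hom).toAlgebra
  haveI : IsScalarTower Γ(Y, V) (Y.presheaf.stalk (h x)) (X.presheaf.stalk x) :=
    IsScalarTower.of_algebraMap_eq' rfl
  haveI : IsScalarTower Γ(Y, V) Γ(X, U) (X.presheaf.stalk x) :=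
    IsScalarTower.of_algebraMap_eq fun r => germ_appLE h hUV x hxU r
  haveI locA : IsLocalization.AtPrime (Y.presheaf.stalk (h x))
      (hV.primeIdealOf ⟨h x, hxV⟩).asIdeal := hV.isLocalization_stalk ⟨h x, hxV⟩
  haveI locB : IsLocalization.AtPrime (X.presheaf.stalk x)
      (hU.primeIdealOf ⟨x, hxU⟩).asIdeal := hU.isLocalization_stalk ⟨x, hxU⟩
  -- modules
  letI modAMp : Module Γ(Y, V) (G.presheaf.stalk (h x)) := moduleSectionStalk G (⟨h x, hxV⟩ : V)
  haveI : IsScalarTower Γ(Y, V) (Y.presheaf.stalk (h x)) (G.presheaf.stalk (h x)) :=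
    isScalarTower_sectionStalk G (⟨h x, hxV⟩ : V)
  letI modANU : Module Γ(Y, V) Γ(F, U) := Module.compHom _ (h.appLE V U hUV).hom
  haveI : IsScalarTower Γ(Y, V) Γ(X, U) Γ(F, U) := .of_algebraMap_smul fun _ _ => rfl
  letI modBNP : Module Γ(X, U) (F.presheaf.stalk x) := moduleSectionStalk F (⟨x, hxU⟩ : U)
  haveI : IsScalarTower Γ(X, U) (X.presheaf.stalk x) (F.presheaf.stalk x) :=
    isScalarTower_sectionStalk F (⟨x, hxU⟩ : U)
  letI modA'NP : Module (Y.presheaf.stalk (h x)) (F.presheaf.stalk x) :=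
    Module.compHom _ (h.stalkMap x).hom
  haveI : IsScalarTower (Y.presheaf.stalk (h x)) (X.presheaf.stalk x) (F.presheaf.stalk x) :=
    .of_algebraMap_smul fun _ _ => rfl
  letI modANP : Module Γ(Y, V) (F.presheaf.stalk x) :=
    Module.compHom _ ((h.stalkMap x).hom.comp (Y.presheaf.germ V (h x) hxV).hom)
  haveI : IsScalarTower Γ(Y, V) (X.presheaf.stalk x) (F.presheaf.stalk x) :=
    .of_algebraMap_smul fun _ _ => rfl
  haveI : IsScalarTower Γ(Y, V) (Y.presheaf.stalk (h x)) (F.presheaf.stalk x) :=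
    .of_algebraMap_smul fun _ _ => rfl
  haveI : IsScalarTower Γ(Y, V) Γ(X, U) (F.presheaf.stalk x) := by
    refine .of_algebraMap_smul fun r n => ?_
    exact congrArg (fun t : X.presheaf.stalk x => t • n) (germ_appLE h hUV x hxU r).symm
  -- maps
  haveI hf := isLocalizedModule_germ G hV (⟨h x, hxV⟩ : V)
  haveI hg := isLocalizedModule_germ F hU (⟨x, hxU⟩ : U)
  obtain ⟨θ, hθ, hθm⟩ := exists_isBaseChange_sections' h G hU hV hUV
  obtain ⟨τ, hτ, hτm⟩ := exists_isBaseChange_of_isLocalizedModule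
    (A' := Y.presheaf.stalk (h x)) (B' := X.presheaf.stalk x)
    (hV.primeIdealOf ⟨h x, hxV⟩).asIdeal.primeCompl (hU.primeIdealOf ⟨x, hxU⟩).asIdeal.primeCompl
    (germLinear G (⟨h x, hxV⟩ : V)) θ hθ (germLinear F (⟨x, hxU⟩ : U))
  refine ⟨τ, hτ, fun m => ?_⟩
  have := hτm m
  rw [hθm m] at this
  exact this

open Groth.Agent.Lib.QCohStalk Groth.Agent.Lib.H72PullbackStalk Groth.Agent.Lib.ModStalkLin in
/-- **Natural stalk base change**: for a morphism `ψ : G ⟶ G'` of quasi-coherent modules on `Y`,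
`h : X ⟶ Y` and `x : X`, the stalk map of `h^*ψ` at `x` is the base change of the stalk map of `ψ`
at `h x` along `h.stalkMap x`. -/
theorem exists_isBaseChange_stalk_pullback_pair (h : X ⟶ Y) {G G' : Y.Modules}
    [G.IsQuasicoherent] [G'.IsQuasicoherent] (ψ : G ⟶ G') (x : X) :
    letI : Algebra (Y.presheaf.stalk (h x)) (X.presheaf.stalk x) := (h.stalkMap x).hom.toAlgebra
    letI : Module (Y.presheaf.stalk (h x))
        (((Scheme.Modules.pullback h).obj G).presheaf.stalk x) :=
      Module.compHom _ (h.stalkMap x).hom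
    letI : Module (Y.presheaf.stalk (h x))
        (((Scheme.Modules.pullback h).obj G').presheaf.stalk x) :=
      Module.compHom _ (h.stalkMap x).hom
    haveI : IsScalarTower (Y.presheaf.stalk (h x)) (X.presheaf.stalk x)
        (((Scheme.Modules.pullback h).obj G).presheaf.stalk x) :=
      .of_algebraMap_smul fun _ _ => rfl
    haveI : IsScalarTower (Y.presheaf.stalk (h x)) (X.presheaf.stalk x)
        (((Scheme.Modules.pullback h).obj G').presheaf.stalk x) :=
      .of_algebraMap_smul fun _ _ => rfl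
    ∃ (τ : G.presheaf.stalk (h x) →ₗ[Y.presheaf.stalk (h x)]
        ((Scheme.Modules.pullback h).obj G).presheaf.stalk x)
      (τ' : G'.presheaf.stalk (h x) →ₗ[Y.presheaf.stalk (h x)]
        ((Scheme.Modules.pullback h).obj G').presheaf.stalk x),
      IsBaseChange (X.presheaf.stalk x) τ ∧ IsBaseChange (X.presheaf.stalk x) τ' ∧
      ∀ g, τ' (stalkLin ψ (h x) g) = stalkLin ((Scheme.Modules.pullback h).map ψ) x (τ g) := by
  obtain ⟨V, hV, hxV⟩ : ∃ V : Y.Opens, IsAffineOpen V ∧ h x ∈ V := by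
    obtain ⟨_, ⟨V, hV, rfl⟩, hxV, -⟩ :=
      Y.isBasis_affineOpens.exists_subset_of_mem_open (Set.mem_univ (h x)) isOpen_univ
    exact ⟨V, hV, hxV⟩
  obtain ⟨U, hU, hxU, hUV⟩ : ∃ U : X.Opens, IsAffineOpen U ∧ x ∈ U ∧ U ≤ h ⁻¹ᵁ V := by
    obtain ⟨_, ⟨U, hU, rfl⟩, hxU, hUV⟩ :=
      X.isBasis_affineOpens.exists_subset_of_mem_open (show x ∈ (h ⁻¹ᵁ V : Set X) from hxV)
        (h ⁻¹ᵁ V).isOpen
    exact ⟨U, hU, hxU, hUV⟩
  letI algA'B' : Algebra (Y.presheaf.stalk (h x)) (X.presheaf.stalk x) :=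
    (h.stalkMap x).hom.toAlgebra
  letI modF : Module (Y.presheaf.stalk (h x))
      (((Scheme.Modules.pullback h).obj G).presheaf.stalk x) :=
    Module.compHom _ (h.stalkMap x).hom
  letI modF' : Module (Y.presheaf.stalk (h x))
      (((Scheme.Modules.pullback h).obj G').presheaf.stalk x) :=
    Module.compHom _ (h.stalkMap x).hom
  haveI : IsScalarTower (Y.presheaf.stalk (h x)) (X.presheaf.stalk x)
      (((Scheme.Modules.pullback h).obj G).presheaf.stalk x) :=
    .of_algebraMap_smul fun _ _ => rfl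
  haveI : IsScalarTower (Y.presheaf.stalk (h x)) (X.presheaf.stalk x)
      (((Scheme.Modules.pullback h).obj G').presheaf.stalk x) :=
    .of_algebraMap_smul fun _ _ => rfl
  obtain ⟨τ, hτ, hτm⟩ := exists_isBaseChange_stalk_pullback_chart h G x hU hV hUV hxU
  obtain ⟨τ', hτ', hτm'⟩ := exists_isBaseChange_stalk_pullback_chart h G' x hU hV hUV hxU
  refine ⟨τ, τ', hτ, hτ', ?_⟩
  -- the two composites agree on germs of sections over `V`
  have hgerm : ∀ m : Γ(G, V), τ' (stalkLin ψ (h x) (G.presheaf.germ V (h x) hxV m)) =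
      stalkLin ((Scheme.Modules.pullback h).map ψ) x (τ (G.presheaf.germ V (h x) hxV m)) := by
    intro m
    rw [stalkLin_germ, hτm', hτm, stalkLin_germ, thetaFun_naturality]
  -- extend by localization
  letI algAA' : Algebra Γ(Y, V) (Y.presheaf.stalk (h x)) :=
    TopCat.Presheaf.algebra_section_stalk Y.presheaf (⟨h x, hxV⟩ : V)
  haveI locA : IsLocalization.AtPrime (Y.presheaf.stalk (h x))
      (hV.primeIdealOf ⟨h x, hxV⟩).asIdeal := hV.isLocalization_stalk ⟨h x, hxV⟩
  letI modAMp : Module Γ(Y, V) (G.presheaf.stalk (h x)) := moduleSectionStalk G (⟨h x, hxV⟩ : V)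
  haveI : IsScalarTower Γ(Y, V) (Y.presheaf.stalk (h x)) (G.presheaf.stalk (h x)) :=
    isScalarTower_sectionStalk G (⟨h x, hxV⟩ : V)
  haveI hf := isLocalizedModule_germ G hV (⟨h x, hxV⟩ : V)
  intro g
  obtain ⟨⟨m, s⟩, hms⟩ := IsLocalizedModule.surj (hV.primeIdealOf ⟨h x, hxV⟩).asIdeal.primeCompl
    (germLinear G (⟨h x, hxV⟩ : V)) g
  -- `s` acts invertibly
  have hs : IsUnit ((Y.presheaf.germ V (h x) hxV).hom s.1) := by
    have := IsLocalization.map_units (Y.presheaf.stalk (h x)) s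
    exact this
  obtain ⟨c, hc⟩ := hs
  have hg : g = (↑c⁻¹ : Y.presheaf.stalk (h x)) • G.presheaf.germ V (h x) hxV m := by
    have h1 : (c : Y.presheaf.stalk (h x)) • g = G.presheaf.germ V (h x) hxV m := by
      rw [hc]
      exact hms
    rw [← h1, smul_smul, Units.inv_mul, one_smul]
  rw [hg, map_smul, map_smul, map_smul, hgerm]
  exact (map_smul (stalkLin ((Scheme.Modules.pullback h).map ψ) x)
    ((h.stalkMap x).hom (↑c⁻¹ : Y.presheaf.stalk (h x))) _).symm

end Groth.Agent.Lib.H72PullbackNat
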