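import Groth.Agent.Lib.H90Invertible
import Groth.Prelude.Def_FlatMod2
import Mathlib.AlgebraicGeometry.Modules.Tilde
import Mathlib.Algebra.Category.ModuleCat.Sheaf.LocallyFree

/-!
# OXMod M3 (part A, continued): finite locally free / invertible modules are finitely presented (helper90)

* `freeModOneIso`, `isInvertible_iff_isFinLocFreeOfRank_one`, `isFinLocFree_of_isInvertible`.
* LOCAL-TO-GLOBAL for quasi-coherence (converse of Mathlib's `exists_isOpenCover_presentation`):
  `presentationOver` (a presentation of `M.restrict V.ι` gives one of `M.over V`),
  `quasicoherentDataOfCover`, `isQuasicoherent_of_cover`, `isFinitePresentation_of_cover`: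
  presentations of the restrictions `M.restrict (U i).ι` to an open cover give (finite) quasi-coherent data.
* `freePresentation`, `freeModIso`; `isFinitePresentation_of_isFinLocFree`, `isQuasicoherent_of_isFinLocFree`,
  `isFiniteType_of_isFinLocFree`, `isCoh_of_isFinLocFree`, `isQCoh_of_isInvertible`, `isCoh_of_isInvertible`,
  `isFinitePresentation_of_isInvertible`.
-/

set_option autoImplicit false
universe u

open CategoryTheory AlgebraicGeometry TopologicalSpace Opposite Limits
open AlgebraicGeometry.Scheme AlgebraicGeometry.Scheme.Modules
open Groth.Agent.Lib.StructureModule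

namespace Groth.Agent.Lib.H90Invertible

variable {X : Scheme.{u}} {M N L L' : X.Modules}

/-- The free module of rank one is the structure sheaf. -/
noncomputable def freeModOneIso (X : Scheme.{u}) : FlatMod.freeMod X 1 ≅ Coh.structureModule X :=
  Limits.coproductUniqueIso (fun _ : Fin 1 => Coh.structureModule X)

theorem isInvertible_iff_isFinLocFreeOfRank_one (L : X.Modules) :
    PicF.IsInvertible L ↔ FlatMod.IsFinLocFreeOfRank 1 L := by
  constructor
  · intro h x
    obtain ⟨U, hx, ⟨e⟩⟩ := h x
    exact ⟨U, hx, ⟨e ≪≫ (freeModOneIso _).symm⟩⟩
  · intro h x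
    obtain ⟨U, hx, ⟨e⟩⟩ := h x
    exact ⟨U, hx, ⟨e ≪≫ freeModOneIso _⟩⟩

theorem isFinLocFree_of_isInvertible (hL : PicF.IsInvertible L) : FlatMod.IsFinLocFree L := by
  intro x
  obtain ⟨U, hx, h⟩ := (isInvertible_iff_isFinLocFreeOfRank_one L).mp hL x
  exact ⟨U, 1, hx, h⟩


/-- `M.over V` corresponds to `M.restrict V.ι` under `overEquiv V`. -/
noncomputable def overIso (M : X.Modules) (V : X.Opens) :
    (overEquiv V).inverse.obj (M.restrict V.ι) ≅ SheafOfModules.over M V :=
  (overEquiv V).inverse.mapIso ((overFunctorEquiv V).app M).symm ≪≫
    ((overEquiv V).unitIso.app _).symm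

set_option backward.isDefEq.respectTransparency false in
/-- A presentation of `M|_V` gives a presentation of `M.over V`. -/
noncomputable def presentationOver (M : X.Modules) (V : X.Opens)
    (P : (M.restrict V.ι).Presentation) : (SheafOfModules.over M V).Presentation :=
  haveI : PreservesColimitsOfSize.{u, u} (overEquiv V).inverse :=
    (overEquiv V).symm.toAdjunction.leftAdjoint_preservesColimits
  (P.map (overEquiv V).inverse
    (TopologicalSpace.Opens.sheafOfModulesEquivOverInverseUnit V X.ringCatSheaf).symm).ofIsIso
      (overIso M V).hom

set_option backward.isDefEq.respectTransparency false in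
theorem isFinite_presentationOver (M : X.Modules) (V : X.Opens)
    (P : (M.restrict V.ι).Presentation) [P.IsFinite] :
    (presentationOver M V P).IsFinite := by
  haveI : PreservesColimitsOfSize.{u, u} (overEquiv V).inverse :=
    (overEquiv V).symm.toAdjunction.leftAdjoint_preservesColimits
  haveI : (P.map (overEquiv V).inverse
      (TopologicalSpace.Opens.sheafOfModulesEquivOverInverseUnit V X.ringCatSheaf).symm).IsFinite :=
    { isFiniteType_generators := ⟨inferInstanceAs (Finite P.generators.I)⟩
      isFiniteType_relations := ⟨inferInstanceAs (Finite P.relations.I)⟩ }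
  unfold presentationOver
  infer_instance

/-- Quasi-coherent data from presentations of the restrictions to an open cover. -/
noncomputable def quasicoherentDataOfCover (M : X.Modules) {ι : Type u} (U : ι → X.Opens)
    (hU : ⨆ i, U i = ⊤) (P : ∀ i, (M.restrict (U i).ι).Presentation) :
    SheafOfModules.QuasicoherentData.{u} (R := X.ringCatSheaf) M where
  I := ι
  X := U
  coversTop := (_root_.Opens.coversTop_iff _ U).mpr hU
  presentation i := presentationOver M (U i) (P i)

/-- A module with presentations on an open cover is quasi-coherent. -/
theorem isQuasicoherent_of_cover (M : X.Modules) {ι : Type u} (U : ι → X.Opens)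
    (hU : ⨆ i, U i = ⊤) (P : ∀ i, (M.restrict (U i).ι).Presentation) : M.IsQuasicoherent :=
  (quasicoherentDataOfCover M U hU P).isQuasicoherent

set_option backward.isDefEq.respectTransparency false in
/-- A module with finite presentations on an open cover is finitely presented. -/
theorem isFinitePresentation_of_cover (M : X.Modules) {ι : Type u} (U : ι → X.Opens)
    (hU : ⨆ i, U i = ⊤) (P : ∀ i, (M.restrict (U i).ι).Presentation) [∀ i, (P i).IsFinite] :
    SheafOfModules.IsFinitePresentation (R := X.ringCatSheaf) M := by
  have h : (quasicoherentDataOfCover M U hU P).IsFinitePresentation := by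
    constructor
    intro i
    exact isFinite_presentationOver M (U i) (P i)
  constructor
  exact ⟨quasicoherentDataOfCover M U hU P, h⟩

section Free

variable {C : Type u} [Category.{u} C] {J : GrothendieckTopology C} {R : Sheaf J RingCat.{u}}
  [HasSheafify J AddCommGrpCat.{u}] [J.WEqualsLocallyBijective AddCommGrpCat.{u}]

set_option backward.isDefEq.respectTransparency false in
/-- The presentation of a free sheaf of modules without relations. -/
noncomputable def freePresentation (I : Type u) :
    (SheafOfModules.free (R := R) I).Presentation where
  generators := SheafOfModules.free.generatingSections I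
  relations :=
    { I := ULift Empty
      s := fun j => Empty.rec _ j.down
      epi := IsZero.epi (IsZero.of_iso (isZero_zero _) (Limits.kernel.ofMono _)) _ }

set_option backward.isDefEq.respectTransparency false in
theorem isFinite_freePresentation (I : Type u) [Finite I] :
    (freePresentation (R := R) I).IsFinite where
  isFiniteType_generators := ⟨inferInstanceAs (Finite I)⟩
  isFiniteType_relations := ⟨inferInstanceAs (Finite (ULift Empty))⟩

end Free

/-- The free `O_X`-module of rank `n` in the prelude's form and in Mathlib's form. -/
noncomputable def freeModIso (X : Scheme.{u}) (n : ℕ) :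
    SheafOfModules.free (R := X.ringCatSheaf) (ULift.{u} (Fin n)) ≅ FlatMod.freeMod X n :=
  Sigma.reindex (Equiv.ulift.{u} (α := Fin n)) (fun _ : Fin n => Coh.structureModule X)

set_option backward.isDefEq.respectTransparency false in
/-- A finite locally free module is finitely presented (hence quasi-coherent and of finite type). -/
theorem isFinitePresentation_of_isFinLocFree (h : FlatMod.IsFinLocFree M) :
    SheafOfModules.IsFinitePresentation (R := X.ringCatSheaf) M := by
  choose V n hx e using h
  have hV : ⨆ x, V x = ⊤ := by
    rw [eq_top_iff]
    intro x _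
    exact TopologicalSpace.Opens.mem_iSup.mpr ⟨x, hx x⟩
  let P : ∀ x : X, (M.restrict (V x).ι).Presentation := fun x =>
    (freePresentation (R := (V x).toScheme.ringCatSheaf) (ULift.{u} (Fin (n x)))).ofIsIso
      ((freeModIso _ (n x)).hom ≫ (e x).some.inv)
  haveI : ∀ x, (P x).IsFinite := fun x => by
    haveI := isFinite_freePresentation (R := (V x).toScheme.ringCatSheaf) (ULift.{u} (Fin (n x)))
    dsimp only [P]
    infer_instance
  exact isFinitePresentation_of_cover M V hV P

theorem isFinitePresentation_of_isInvertible (h : PicF.IsInvertible L) :
    SheafOfModules.IsFinitePresentation (R := X.ringCatSheaf) L :=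
  isFinitePresentation_of_isFinLocFree (isFinLocFree_of_isInvertible h)

set_option backward.isDefEq.respectTransparency false in
theorem isQuasicoherent_of_isFinLocFree (h : FlatMod.IsFinLocFree M) : M.IsQuasicoherent :=
  haveI := isFinitePresentation_of_isFinLocFree h
  inferInstance

set_option backward.isDefEq.respectTransparency false in
theorem isFiniteType_of_isFinLocFree (h : FlatMod.IsFinLocFree M) : M.IsFiniteType :=
  haveI := isFinitePresentation_of_isFinLocFree h
  inferInstance

theorem isCoh_of_isFinLocFree (h : FlatMod.IsFinLocFree M) : Coh.IsCoh M :=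
  ⟨isQuasicoherent_of_isFinLocFree h, isFiniteType_of_isFinLocFree h⟩

theorem isQCoh_of_isInvertible (h : PicF.IsInvertible L) : Coh.IsQCoh L :=
  isQuasicoherent_of_isFinLocFree (isFinLocFree_of_isInvertible h)

theorem isCoh_of_isInvertible (h : PicF.IsInvertible L) : Coh.IsCoh L :=
  isCoh_of_isFinLocFree (isFinLocFree_of_isInvertible h)

end Groth.Agent.Lib.H90Invertible
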