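import Groth.Prelude.Def_Coh
import Mathlib.Algebra.Category.ModuleCat.Sheaf.LocallyFree

/-!
# The structure sheaf as a module: quasi-coherence and sections

* `isQuasicoherent_structureModule X : (Coh.structureModule X).IsQuasicoherent`
* `toSec V a`: a function `a : Γ(X, V)` viewed as a section of `Coh.structureModule X` over `V`;
  `toSec_eq_smul_one : toSec V a = a • toSec V 1`.
-/

set_option autoImplicit false
open CategoryTheory AlgebraicGeometry Opposite
universe u

namespace Groth.Agent.Lib.StructureModule

variable {X : Scheme.{u}}

/-- a function on `V` as a section of the structure module -/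
noncomputable def toSec (V : X.Opens) (a : Γ(X, V)) : Γ(Coh.structureModule X, V) := a

theorem toSec_eq_smul_one (V : X.Opens) (a : Γ(X, V)) :
    toSec V a = a • toSec V 1 := by
  change a = a * 1
  rw [mul_one]

theorem toSec_injective (V : X.Opens) : Function.Injective (toSec (X := X) V) := fun _ _ h => h

theorem toSec_smul (V : X.Opens) (a b : Γ(X, V)) : toSec V (a * b) = a • toSec V b := rfl

theorem isQuasicoherent_structureModule (X : Scheme.{u}) :
    (Coh.structureModule X).IsQuasicoherent := by
  have h : (SheafOfModules.free (R := X.ringCatSheaf) PUnit.{u+1}).IsQuasicoherent := inferInstance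
  let e : SheafOfModules.free (R := X.ringCatSheaf) PUnit.{u+1} ≅ SheafOfModules.unit X.ringCatSheaf :=
    Limits.coproductUniqueIso (fun _ : PUnit.{u+1} => SheafOfModules.unit X.ringCatSheaf)
  exact (SheafOfModules.isQuasicoherent X.ringCatSheaf).prop_of_iso e h

theorem isQCoh_structureModule (X : Scheme.{u}) : Coh.IsQCoh (Coh.structureModule X) :=
  isQuasicoherent_structureModule X

end Groth.Agent.Lib.StructureModule
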