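import Groth.Agent.Lib.H90OXModLocal
import Groth.Agent.Lib.StructureModule
import Groth.Prelude.Def_Pic

/-!
# OXMod M3 (part A): invertible modules via local free generators (helper90)

* `IsGen L V s`: the section `s ∈ Γ(L, V)` is a free generator of `L` over `V`, i.e. for all opens `W ⊆ V`
  the map `Γ(X, W) → Γ(L, W)`, `a ↦ a • s|_W` is bijective.  Restriction-free description of a
  trivialisation `L|_V ≅ O_V`: `nonempty_restrict_ι_iso_iff`, `nonempty_restrict_iso_iff`.
* `IsGen.mono`, `IsGen.of_iso`, `IsGen.of_eq`, `isGen_one`, `isGen_restrict_iff`.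
* `ofSection s : O_X ⟶ M` for `s ∈ Γ(M, ⊤)`, `ofSection_app`; `nonempty_iso_structureModule_iff`.
* `isInvertible_iff_exists_isGen`, `isInvertible_of_iso`, `isInvertible_structureModule`,
  `isInvertible_restrict` (along any open immersion), `isInvertible_of_isOpenCover`.
-/

set_option autoImplicit false
universe u

open CategoryTheory AlgebraicGeometry TopologicalSpace Opposite
open AlgebraicGeometry.Scheme AlgebraicGeometry.Scheme.Modules
open Groth.Agent.Lib.StructureModule

namespace Groth.Agent.Lib.H90Invertible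

variable {X : Scheme.{u}} {M N L L' : X.Modules}

/-- `s ∈ Γ(L, V)` is a free generator of `L` over `V`: for every open `W ⊆ V`, `a ↦ a • s|_W` is a
bijection `Γ(X, W) → Γ(L, W)`. -/
def IsGen (L : X.Modules) (V : X.Opens) (s : Γ(L, V)) : Prop :=
  ∀ (W : X.Opens) (h : W ≤ V),
    Function.Bijective (fun a : Γ(X, W) => a • L.presheaf.map (homOfLE h).op s)

theorem IsGen.mono {V : X.Opens} {s : Γ(L, V)} (hs : IsGen L V s) {V' : X.Opens} (h : V' ≤ V) :
    IsGen L V' (L.presheaf.map (homOfLE h).op s) := by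
  intro W hW
  have := hs W (hW.trans h)
  convert this using 3
  rw [← ConcreteCategory.comp_apply, ← Functor.map_comp]
  rfl

theorem isGen_one (V : X.Opens) : IsGen (Coh.structureModule X) V (toSec V 1) := by
  intro W hW
  have : (fun a : Γ(X, W) => a • (Coh.structureModule X).presheaf.map (homOfLE hW).op (toSec V 1)) =
      fun a => toSec W a := by
    funext a
    change a * (X.presheaf.map (homOfLE hW).op).hom 1 = a
    rw [map_one, mul_one]
  rw [this]
  exact Function.bijective_id

theorem IsGen.of_iso {V : X.Opens} {s : Γ(L, V)} (hs : IsGen L V s) (e : L ≅ L') :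
    IsGen L' V (e.hom.app V s) := by
  intro W hW
  have h1 := hs W hW
  have h2 : Function.Bijective (e.hom.app W) :=
    (ConcreteCategory.isIso_iff_bijective (e.hom.app W)).mp inferInstance
  convert h2.comp h1 using 1
  funext a
  simp only [Function.comp_apply]
  rw [Hom.app_smul]
  congr 1
  exact (NatTrans.naturality_apply e.hom.mapPresheaf (homOfLE hW).op s).symm

noncomputable def ofSection (s : Γ(M, ⊤)) : Coh.structureModule X ⟶ M :=
  (SheafOfModules.unitHomEquiv M).symm
    (PresheafOfModules.sectionsMk (fun W => M.presheaf.map (homOfLE le_top).op s) (by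
      intro W W' g
      change M.presheaf.map g (M.presheaf.map _ s) = M.presheaf.map _ s
      rw [← ConcreteCategory.comp_apply, ← Functor.map_comp]
      rfl))

theorem ofSection_app (s : Γ(M, ⊤)) (W : X.Opens) (a : Γ(X, W)) :
    (ofSection s).app W (Groth.Agent.Lib.StructureModule.toSec W a) =
      a • M.presheaf.map (homOfLE le_top).op s := rfl

/-- A module is isomorphic to the structure sheaf iff it has a global free generator. -/
theorem nonempty_iso_structureModule_iff :
    Nonempty (L ≅ Coh.structureModule X) ↔ ∃ s : Γ(L, ⊤), IsGen L ⊤ s := by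
  constructor
  · rintro ⟨e⟩
    exact ⟨_, (isGen_one ⊤).of_iso e.symm⟩
  · rintro ⟨s, hs⟩
    have : IsIso (ofSection s) := by
      rw [Hom.isIso_iff_isIso_app]
      intro W
      rw [ConcreteCategory.isIso_iff_bijective]
      exact hs W le_top
    exact ⟨(asIso (ofSection s)).symm⟩

section Restrict

variable {Y : Scheme.{u}} (j : Y ⟶ X) [IsOpenImmersion j]

theorem restrict_smul (L : X.Modules) (W : Y.Opens) (r : Γ(Y, W)) (x : Γ(L.restrict j, W)) :
    r • x = (show Γ(L, j ''ᵁ W) from ((j.appIso W).inv r : Γ(X, j ''ᵁ W)) • (show Γ(L, j ''ᵁ W) from x)) :=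
  rfl

theorem isGen_restrict_iff (L : X.Modules) (W : Y.Opens) (s : Γ(L, j ''ᵁ W)) :
    IsGen (L.restrict j) W s ↔ IsGen L (j ''ᵁ W) s := by
  constructor
  · intro hs V' hV'
    obtain ⟨W'', hW'', rfl⟩ : ∃ W'' ≤ W, j ''ᵁ W'' = V' := by
      refine ⟨j ⁻¹ᵁ V', ?_, ?_⟩
      · intro y hy
        obtain ⟨y', hy', e⟩ := hV' hy
        rwa [← j.isOpenEmbedding.injective e]
      · rw [Scheme.Hom.image_preimage_eq_opensRange_inf]
        refine inf_eq_right.mpr (hV'.trans ?_)
        rintro _ ⟨y, -, rfl⟩
        exact ⟨y, rfl⟩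
    have h1 := hs W'' hW''
    have h2 : Function.Bijective (j.appIso W'').hom :=
      (ConcreteCategory.isIso_iff_bijective (j.appIso W'').hom).mp inferInstance
    have key : (fun b : Γ(X, j ''ᵁ W'') => b • L.presheaf.map (homOfLE hV').op s) =
        (fun a : Γ(Y, W'') => a • (L.restrict j).presheaf.map (homOfLE hW'').op s) ∘
          (j.appIso W'').hom := by
      funext b
      simp only [Function.comp_apply]
      rw [restrict_smul, Iso.hom_inv_id_apply]
      rfl
    rw [key]
    exact h1.comp h2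
  · intro hs W'' hW''
    have h1 := hs (j ''ᵁ W'') (j.image_mono hW'')
    have h2 : Function.Bijective (j.appIso W'').inv :=
      (ConcreteCategory.isIso_iff_bijective (j.appIso W'').inv).mp inferInstance
    exact h1.comp h2


theorem IsGen.of_eq {V V' : X.Opens} {s : Γ(L, V)} (hs : IsGen L V s) (e : V' = V) :
    IsGen L V' (L.presheaf.map (eqToHom e).op s) :=
  hs.mono e.le

/-- `L|_Y ≅ O_Y` iff `L` has a free generator over the image of the open immersion `j : Y ⟶ X`. -/
theorem nonempty_restrict_iso_iff (L : X.Modules) :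
    Nonempty (L.restrict j ≅ Coh.structureModule Y) ↔
      ∃ s : Γ(L, j.opensRange), IsGen L j.opensRange s := by
  rw [nonempty_iso_structureModule_iff]
  have e : j ''ᵁ ⊤ = j.opensRange := j.image_top_eq_opensRange
  constructor
  · rintro ⟨s, hs⟩
    exact ⟨_, ((isGen_restrict_iff j L ⊤ s).mp hs).of_eq e.symm⟩
  · rintro ⟨s, hs⟩
    exact ⟨_, (isGen_restrict_iff j L ⊤ _).mpr (hs.of_eq e)⟩

/-- `L|_V ≅ O_V` iff `L` has a free generator over `V`. -/
theorem nonempty_restrict_ι_iso_iff (L : X.Modules) (V : X.Opens) :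
    Nonempty (L.restrict V.ι ≅ Coh.structureModule (↑V : Scheme.{u})) ↔
      ∃ s : Γ(L, V), IsGen L V s := by
  rw [nonempty_restrict_iso_iff]
  have e : V.ι.opensRange = V := V.opensRange_ι
  constructor
  · rintro ⟨s, hs⟩
    exact ⟨_, hs.of_eq e.symm⟩
  · rintro ⟨s, hs⟩
    exact ⟨_, hs.of_eq e⟩

end Restrict

/-- Invertibility in terms of local free generators. -/
theorem isInvertible_iff_exists_isGen (L : X.Modules) :
    PicF.IsInvertible L ↔ ∀ x : X, ∃ V : X.Opens, x ∈ V ∧ ∃ s : Γ(L, V), IsGen L V s := by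
  unfold PicF.IsInvertible
  simp only [nonempty_restrict_ι_iso_iff]

theorem isInvertible_of_iso (e : L ≅ L') (hL : PicF.IsInvertible L) : PicF.IsInvertible L' := by
  rw [isInvertible_iff_exists_isGen] at hL ⊢
  intro x
  obtain ⟨V, hx, s, hs⟩ := hL x
  exact ⟨V, hx, _, hs.of_iso e⟩

theorem isInvertible_structureModule (X : Scheme.{u}) : PicF.IsInvertible (Coh.structureModule X) := by
  rw [isInvertible_iff_exists_isGen]
  exact fun x => ⟨⊤, trivial, _, isGen_one ⊤⟩

/-- The restriction of an invertible module along an open immersion is invertible. -/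
theorem isInvertible_restrict {Y : Scheme.{u}} (j : Y ⟶ X) [IsOpenImmersion j]
    (hL : PicF.IsInvertible L) : PicF.IsInvertible (L.restrict j) := by
  rw [isInvertible_iff_exists_isGen] at hL ⊢
  intro y
  obtain ⟨V, hx, s, hs⟩ := hL (j y)
  refine ⟨j ⁻¹ᵁ V, hx, L.presheaf.map (homOfLE (j.image_preimage_le V)).op s, ?_⟩
  exact (isGen_restrict_iff j L _ _).mpr (hs.mono _)

/-- Invertibility is local: it can be checked on an open cover. -/
theorem isInvertible_of_isOpenCover {ι : Type*} (U : ι → X.Opens) (hU : ⨆ i, U i = ⊤)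
    (h : ∀ i, PicF.IsInvertible (L.restrict (U i).ι)) : PicF.IsInvertible L := by
  rw [isInvertible_iff_exists_isGen]
  intro x
  have hx' : x ∈ ⨆ i, U i := by rw [hU]; trivial
  obtain ⟨i, hi⟩ := TopologicalSpace.Opens.mem_iSup.mp hx'
  obtain ⟨W, hxW, s, hs⟩ := (isInvertible_iff_exists_isGen _).mp (h i) ⟨x, hi⟩
  exact ⟨(U i).ι ''ᵁ W, ⟨⟨x, hi⟩, hxW, rfl⟩, s, (isGen_restrict_iff (U i).ι L W s).mp hs⟩

end Groth.Agent.Lib.H90Invertible
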