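import Groth.Agent.Lib.H90EquivOn
import Groth.Agent.Lib.H90Invertible
import Groth.Prelude.Def_ParaF

/-!
# Restriction of invertible modules along open immersions: formal properties (helper90)

* `restrictCompIso`: `restrictFunctor h ≅ restrictFunctor g ⋙ restrictFunctor f` when `f ≫ g = h`.
* `restrictEquivalence e : X.Modules ≌ Y.Modules` for an isomorphism of schemes `e : Y ≅ X`.
* `ParaF.InvRestrictEquiv j` is `EquivOn (restrictFunctor j) IsInvertible IsInvertible`; consequences:
  `invRestrictEquiv_of_iso_square` (transport along a commutative square with isomorphisms),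
  `invRestrictEquiv_of_comp` (2-out-of-3), `invRestrictEquiv_comp`, `invRestrictEquiv_of_isIso`.
-/

set_option autoImplicit false
universe u

open CategoryTheory AlgebraicGeometry TopologicalSpace Opposite
open AlgebraicGeometry.Scheme AlgebraicGeometry.Scheme.Modules
open Groth.Agent.Lib.H90EquivOn Groth.Agent.Lib.H90Invertible

namespace Groth.Agent.Lib.H90RestrictEquiv

/-- Restriction along a composite of open immersions. -/
noncomputable def restrictCompIso {A B C : Scheme.{u}} (f : A ⟶ B) (g : B ⟶ C) (h : A ⟶ C)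
    [IsOpenImmersion f] [IsOpenImmersion g] [IsOpenImmersion h] (w : f ≫ g = h) :
    restrictFunctor h ≅ restrictFunctor g ⋙ restrictFunctor f :=
  restrictFunctorCongr w.symm ≪≫ restrictFunctorComp f g

/-- Restriction along an isomorphism of schemes is an equivalence of categories. -/
noncomputable def restrictEquivalence {X Y : Scheme.{u}} (e : Y ≅ X) : X.Modules ≌ Y.Modules :=
  CategoryTheory.Equivalence.mk (restrictFunctor e.hom) (restrictFunctor e.inv)
    (restrictFunctorId.symm ≪≫ restrictCompIso e.inv e.hom (𝟙 X) e.inv_hom_id)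
    ((restrictCompIso e.hom e.inv (𝟙 Y) e.hom_inv_id).symm ≪≫ restrictFunctorId)

theorem invRestrictEquiv_iff_equivOn {U V : Scheme.{u}} (j : U ⟶ V) [IsOpenImmersion j] :
    ParaF.InvRestrictEquiv j ↔
      EquivOn (restrictFunctor j) (PicF.IsInvertible (Y := V)) (PicF.IsInvertible (Y := U)) :=
  Iff.rfl

theorem equivOn_restrict_iso {X Y : Scheme.{u}} (e : Y ≅ X) :
    EquivOn (restrictFunctor e.hom) (PicF.IsInvertible (Y := X)) (PicF.IsInvertible (Y := Y)) :=
  EquivOn.of_equivalence (P := PicF.IsInvertible (Y := X)) (Q := PicF.IsInvertible (Y := Y))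
    (restrictEquivalence e) (fun _ hK => isInvertible_restrict e.inv hK)

/-- Restriction along an isomorphism is an equivalence on invertible modules. -/
theorem invRestrictEquiv_of_isIso {U V : Scheme.{u}} (j : U ⟶ V) [IsIso j] :
    ParaF.InvRestrictEquiv j :=
  equivOn_restrict_iso (asIso j)

/-- Transport of `InvRestrictEquiv` along a commutative square whose vertical maps are isomorphisms. -/
theorem invRestrictEquiv_of_iso_square {U₁ V₁ U₂ V₂ : Scheme.{u}} (j₁ : U₁ ⟶ V₁) (j₂ : U₂ ⟶ V₂)
    [IsOpenImmersion j₁] [IsOpenImmersion j₂] (a : U₁ ≅ U₂) (b : V₁ ≅ V₂)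
    (w : j₁ ≫ b.hom = a.hom ≫ j₂) (h : ParaF.InvRestrictEquiv j₂) : ParaF.InvRestrictEquiv j₁ := by
  rw [invRestrictEquiv_iff_equivOn] at h ⊢
  have hA := equivOn_restrict_iso a
  have hB := equivOn_restrict_iso b
  have h1 : EquivOn (restrictFunctor j₂ ⋙ restrictFunctor a.hom) (PicF.IsInvertible (Y := V₂))
      (PicF.IsInvertible (Y := U₁)) := h.comp hA (fun _ hL => isInvertible_restrict j₂ hL)
  have θ : restrictFunctor j₂ ⋙ restrictFunctor a.hom ≅ restrictFunctor b.hom ⋙ restrictFunctor j₁ :=
    (restrictCompIso a.hom j₂ (j₁ ≫ b.hom) w.symm).symm ≪≫ restrictFunctorComp j₁ b.hom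
  exact EquivOn.of_comp_left hB (h1.of_natIso θ) (fun _ hK => isInvertible_restrict b.hom hK)

/-- 2-out-of-3 for `InvRestrictEquiv`. -/
theorem invRestrictEquiv_of_comp {A B C : Scheme.{u}} (j : A ⟶ B) (k : B ⟶ C)
    [IsOpenImmersion j] [IsOpenImmersion k] (hjk : ParaF.InvRestrictEquiv (j ≫ k))
    (hj : ParaF.InvRestrictEquiv j) : ParaF.InvRestrictEquiv k := by
  rw [invRestrictEquiv_iff_equivOn] at hjk hj ⊢
  exact EquivOn.of_comp_right (hjk.of_natIso (restrictFunctorComp j k)) hj
    (fun _ hL => isInvertible_restrict k hL) (fun _ hK => isInvertible_restrict j hK)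

theorem invRestrictEquiv_comp {A B C : Scheme.{u}} (j : A ⟶ B) (k : B ⟶ C)
    [IsOpenImmersion j] [IsOpenImmersion k] (hk : ParaF.InvRestrictEquiv k)
    (hj : ParaF.InvRestrictEquiv j) : ParaF.InvRestrictEquiv (j ≫ k) := by
  rw [invRestrictEquiv_iff_equivOn] at hk hj ⊢
  exact (hk.comp hj (fun _ hL => isInvertible_restrict k hL)).of_natIso (restrictFunctorComp j k).symm

theorem invRestrictEquiv_congr {U V : Scheme.{u}} {j j' : U ⟶ V} [IsOpenImmersion j]
    [IsOpenImmersion j'] (e : j = j') (h : ParaF.InvRestrictEquiv j) : ParaF.InvRestrictEquiv j' := by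
  subst e
  exact h

end Groth.Agent.Lib.H90RestrictEquiv
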