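import Groth.Agent.Lib.H90InvertibleFP
import Mathlib.Algebra.Module.FinitePresentation
import Groth.Agent.Lib.H90RestrictEquiv

set_option autoImplicit false
universe u

open CategoryTheory CategoryTheory.Limits AlgebraicGeometry TopologicalSpace Opposite
open AlgebraicGeometry.Scheme AlgebraicGeometry.Scheme.Modules

namespace Groth.Agent.Lib.H90OXModAffine

variable {R : CommRingCat.{u}}

/-- Global sections of an `O_{Spec R}`-module as an `R`-module. -/
noncomputable abbrev ΓSpec (N : (Spec R).Modules) : ModuleCat.{u} R :=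
  (modulesSpecToSheaf.obj N).presheaf.obj (.op ⊤)

set_option backward.isDefEq.respectTransparency false in
/-- A quasi-coherent module on `Spec R` with finitely presented global sections has a finite
presentation. -/
theorem exists_presentation_of_finitePresentation (N : (Spec R).Modules) [N.IsQuasicoherent]
    (h : Module.FinitePresentation R (ΓSpec N)) : ∃ P : N.Presentation, P.IsFinite := by
  obtain ⟨s, hs, hker⟩ := h.out
  obtain ⟨t, ht⟩ := hker
  let S : Set (ΓSpec N) := ↑s
  let T : Set (↥S →₀ R) := show Set (↥S →₀ R) from (↑t : Set (↥s →₀ R))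
  have hT : Submodule.span R T = LinearMap.ker (Finsupp.linearCombination R ((↑) : ↥S → ΓSpec N)) := ht
  let P0 : (tilde (ΓSpec N)).Presentation := presentationTilde.{u} (ΓSpec N) S hs T hT
  have hfin : P0.IsFinite :=
    { isFiniteType_generators := ⟨inferInstanceAs (Finite ↥s)⟩
      isFiniteType_relations := ⟨inferInstanceAs (Finite ↥t)⟩ }
  haveI : IsIso N.fromTildeΓ := Scheme.Modules.isIso_fromTildeΓ_of_isQuasicoherent N
  exact ⟨P0.ofIsIso N.fromTildeΓ, inferInstance⟩

end Groth.Agent.Lib.H90OXModAffine

namespace Groth.Agent.Lib.H90OXModAffine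

variable {X : Scheme.{u}} (M : X.Modules) {U : X.Opens} (hU : IsAffineOpen U)

theorem fromSpec_image_top : hU.fromSpec ''ᵁ ⊤ = U := by
  rw [Scheme.Hom.image_top_eq_opensRange, hU.opensRange_fromSpec]

/-- The key compatibility of scalars. -/
theorem appIso_inv_ΓSpecIso_inv (r : Γ(X, U)) :
    (hU.fromSpec.appIso ⊤).inv ((Scheme.ΓSpecIso Γ(X, U)).inv r) =
      X.presheaf.map (eqToHom (fromSpec_image_top hU)).op r := by
  have key : X.presheaf.map (eqToHom (fromSpec_image_top hU)).op ≫ (hU.fromSpec.appIso ⊤).hom =
      (Scheme.ΓSpecIso Γ(X, U)).inv := by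
    rw [Scheme.Hom.appIso_hom', Scheme.Hom.map_appLE, Scheme.Hom.appLE, hU.fromSpec_app_self,
      Category.assoc, ← Functor.map_comp]
    convert Category.comp_id _
    exact (Spec Γ(X, U)).presheaf.map_id _
  have h2 : (Scheme.ΓSpecIso Γ(X, U)).inv r =
      (hU.fromSpec.appIso ⊤).hom (X.presheaf.map (eqToHom (fromSpec_image_top hU)).op r) := by
    rw [← key]
    rfl
  rw [h2, Iso.hom_inv_id_apply]

end Groth.Agent.Lib.H90OXModAffine

namespace Groth.Agent.Lib.H90OXModAffine

variable {X : Scheme.{u}} (M : X.Modules) {U : X.Opens} (hU : IsAffineOpen U)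

theorem smul_ΓSpec (r : Γ(X, U)) (x : ΓSpec (M.restrict hU.fromSpec)) :
    r • x = (show Γ(M, hU.fromSpec ''ᵁ ⊤) from
      (X.presheaf.map (eqToHom (fromSpec_image_top hU)).op r) • (show Γ(M, hU.fromSpec ''ᵁ ⊤) from x)) := by
  rw [← appIso_inv_ΓSpecIso_inv hU r]
  change ((Spec Γ(X, U)).presheaf.map (⊤ : (Spec Γ(X, U)).Opens).leTop.op
    ((Scheme.ΓSpecIso Γ(X, U)).inv r)) • (show Γ(M.restrict hU.fromSpec, ⊤) from x) = _
  have : (Spec Γ(X, U)).presheaf.map (⊤ : (Spec Γ(X, U)).Opens).leTop.op = 𝟙 _ :=
    (Spec Γ(X, U)).presheaf.map_id _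
  rw [this]
  rfl

/-- Sections of `M` over an affine open `U`, as a `Γ(X, U)`-module, are the global sections of the
restriction of `M` to `Spec Γ(X, U)`. -/
noncomputable def sectionsEquiv : Γ(M, U) ≃ₗ[Γ(X, U)] ΓSpec (M.restrict hU.fromSpec) where
  toFun m := M.presheaf.map (eqToHom (fromSpec_image_top hU)).op m
  map_add' := map_add _
  map_smul' r m := by
    refine Eq.trans ?_ (smul_ΓSpec M hU r _).symm
    exact M.map_smul _ r m
  invFun x := M.presheaf.map (eqToHom (fromSpec_image_top hU).symm).op x
  left_inv m := by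
    change (M.presheaf.map _ ≫ M.presheaf.map _) m = m
    rw [← Functor.map_comp]
    change M.presheaf.map (𝟙 _) m = m
    rw [M.presheaf.map_id]; rfl
  right_inv x := by
    change (M.presheaf.map _ ≫ M.presheaf.map _) x = x
    rw [← Functor.map_comp]
    change M.presheaf.map (𝟙 _) x = x
    rw [M.presheaf.map_id]; rfl

end Groth.Agent.Lib.H90OXModAffine

namespace Groth.Agent.Lib.H90OXModAffine

open Groth.Agent.Lib.H90RestrictEquiv

variable {X : Scheme.{u}} (M : X.Modules) {U : X.Opens} (hU : IsAffineOpen U)

set_option backward.isDefEq.respectTransparency false in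
theorem isFinite_presentationRestrict {X Y : Scheme.{u}} (f : Y ⟶ X) [IsOpenImmersion f]
    {M : X.Modules} (P : M.Presentation) [P.IsFinite] :
    (Scheme.Modules.presentationRestrict f P).IsFinite :=
  { isFiniteType_generators := ⟨inferInstanceAs (Finite P.generators.I)⟩
    isFiniteType_relations := ⟨inferInstanceAs (Finite P.relations.I)⟩ }

set_option backward.isDefEq.respectTransparency false in
/-- AFFINE CRITERION (local form): if `M` is quasi-coherent and `Γ(M, U)` is finitely presented over
`Γ(X, U)` for an affine open `U`, then `M|_U` has a finite presentation. -/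
theorem exists_presentation_restrict_of_finitePresentation (M : X.Modules) [M.IsQuasicoherent]
    {U : X.Opens} (hU : IsAffineOpen U) (h : Module.FinitePresentation Γ(X, U) Γ(M, U)) :
    ∃ P : (M.restrict U.ι).Presentation, P.IsFinite := by
  have h1 : Module.FinitePresentation Γ(X, U) (ΓSpec (M.restrict hU.fromSpec)) :=
    Module.FinitePresentation.of_equiv (sectionsEquiv M hU)
  obtain ⟨P, hP⟩ := exists_presentation_of_finitePresentation (M.restrict hU.fromSpec) h1
  let e : (M.restrict hU.fromSpec).restrict hU.isoSpec.hom ≅ M.restrict U.ι :=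
    ((restrictCompIso hU.isoSpec.hom hU.fromSpec U.ι hU.isoSpec_hom_fromSpec).app M).symm
  haveI := isFinite_presentationRestrict hU.isoSpec.hom P
  exact ⟨(Scheme.Modules.presentationRestrict hU.isoSpec.hom P).ofIsIso e.hom, inferInstance⟩

end Groth.Agent.Lib.H90OXModAffine

namespace Groth.Agent.Lib.H90OXModAffine

open Groth.Agent.Lib.H90Invertible

variable {X : Scheme.{u}}

set_option backward.isDefEq.respectTransparency false in
/-- AFFINE CRITERION for finite presentation: a quasi-coherent module whose sections over the members of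
an affine open cover are finitely presented is finitely presented. -/
theorem isFinitePresentation_of_affine_cover (M : X.Modules) [M.IsQuasicoherent] {ι : Type u}
    (U : ι → X.Opens) (hU : ⨆ i, U i = ⊤) (hA : ∀ i, IsAffineOpen (U i))
    (h : ∀ i, Module.FinitePresentation Γ(X, U i) Γ(M, U i)) :
    SheafOfModules.IsFinitePresentation (R := X.ringCatSheaf) M := by
  choose P hP using fun i => exists_presentation_restrict_of_finitePresentation M (hA i) (h i)
  haveI := hP
  exact isFinitePresentation_of_cover M U hU P

/-- A quasi-coherent module whose sections over all affine opens are finitely presented is finitely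
presented. -/
theorem isFinitePresentation_of_forall_affine (M : X.Modules) [M.IsQuasicoherent]
    (h : ∀ U : X.affineOpens, Module.FinitePresentation Γ(X, U.1) Γ(M, U.1)) :
    SheafOfModules.IsFinitePresentation (R := X.ringCatSheaf) M :=
  isFinitePresentation_of_affine_cover M (fun U : X.affineOpens => U.1) (AlgebraicGeometry.iSup_affineOpens_eq_top X)
    (fun U => U.2) h

end Groth.Agent.Lib.H90OXModAffine
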