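import Groth.Agent.Lib.H72PullbackAffine
import Groth.Agent.Lib.ModPullback
import Groth.Agent.Lib.H90InvertibleFP
import Groth.Agent.Lib.H90OXModAffine

/-!
# helper72: the pullback of a quasi-coherent module is quasi-coherent; sections over affines

* `isQuasicoherent_pullback h G : ((pullback h).obj G).IsQuasicoherent` for `G` quasi-coherent.
* `pullbackSectionsIso h G hU hV hUV : of Γ(X,U) Γ(h^*G, U) ≅ (extendScalars (h.appLE V U hUV).hom).obj (of Γ(Y,V) Γ(G,V))`
  for affine opens `U ≤ h ⁻¹ᵁ V`.
-/

set_option autoImplicit false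
universe u

namespace Groth.Agent.Lib.H72PullbackQCoh

open AlgebraicGeometry CategoryTheory TopologicalSpace Opposite

variable {X Y : Scheme.{u}}

set_option backward.isDefEq.respectTransparency false in
/-- A presentation pulls back to a presentation. -/
noncomputable def pullbackPresentation (g : X ⟶ Y) {N : Y.Modules} (P : N.Presentation) :
    ((Scheme.Modules.pullback g).obj N).Presentation :=
  haveI : Limits.PreservesColimitsOfSize.{u, u} (Scheme.Modules.pullback g) :=
    (Scheme.Modules.pullbackPushforwardAdjunction g).leftAdjoint_preservesColimits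
  P.map (Scheme.Modules.pullback g) (Groth.Agent.Lib.ModPullback.pullbackUnitIso g)

/-- The pullback of a quasi-coherent module is quasi-coherent. -/
instance isQuasicoherent_pullback (h : X ⟶ Y) (G : Y.Modules) [G.IsQuasicoherent] :
    ((Scheme.Modules.pullback h).obj G).IsQuasicoherent := by
  obtain ⟨ι, U, pres, hU, -⟩ := G.exists_isOpenCover_presentation
  refine Groth.Agent.Lib.H90Invertible.isQuasicoherent_of_cover _ (fun i => h ⁻¹ᵁ U i) ?_
    (fun i => ?_)
  · exact (hU.comap h.base.hom).iSup_eq_top
  · exact SheafOfModules.Presentation.ofIsIso.{u, u, u}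
      (Groth.Agent.Lib.ModPullback.restrictPullbackIso h (U i) G).inv
      (pullbackPresentation (h ∣_ U i) (pres i))

open Groth.Agent.Lib.H72PullbackAffine Groth.Agent.Lib.H90OXModAffine in
/-- Sections over an affine open as the global sections of the restriction, as an iso of `ModuleCat`. -/
noncomputable def sectionsIso (M : X.Modules) {U : X.Opens} (hU : IsAffineOpen U) :
    ModuleCat.of Γ(X, U) Γ(M, U) ≅ gammaV M hU :=
  (sectionsEquiv M hU).toModuleIso

open Groth.Agent.Lib.H72PullbackAffine Groth.Agent.Lib.H90OXModAffine in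
/-- Sections of the pullback of a quasi-coherent module over an affine open `U ≤ h ⁻¹ᵁ V`, `V` affine:
`Γ(h^*G, U) ≅ Γ(X, U) ⊗_{Γ(Y, V)} Γ(G, V)`. -/
noncomputable def pullbackSectionsIso (h : X ⟶ Y) (G : Y.Modules) [G.IsQuasicoherent]
    {U : X.Opens} {V : Y.Opens} (hU : IsAffineOpen U) (hV : IsAffineOpen V) (hUV : U ≤ h ⁻¹ᵁ V) :
    ModuleCat.of Γ(X, U) Γ((Scheme.Modules.pullback h).obj G, U) ≅
      (ModuleCat.extendScalars (h.appLE V U hUV).hom).obj (ModuleCat.of Γ(Y, V) Γ(G, V)) :=
  sectionsIso ((Scheme.Modules.pullback h).obj G) hU ≪≫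
    moduleSpecΓFunctor.mapIso (pullbackRestrictIso h G hU hV hUV) ≪≫
    (tilde.toTildeΓNatIso.app _).symm ≪≫
    (ModuleCat.extendScalars (h.appLE V U hUV).hom).mapIso (sectionsIso G hV).symm

end Groth.Agent.Lib.H72PullbackQCoh
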