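import Groth.Agent.Lib.FlatOverSections
import Groth.Agent.Lib.H72PullbackNat
import Groth.Agent.Lib.H72PullbackQCoh

set_option autoImplicit false
set_option linter.style.haveILetI false
universe u

open CategoryTheory AlgebraicGeometry TopologicalSpace Opposite TensorProduct Limits

namespace Groth.Agent.Lib.H72FlatModChart

variable {X Y X' Y' : Scheme.{u}} {f : X ⟶ Y} {f' : X' ⟶ Y'} {p' : X' ⟶ X} {p : Y' ⟶ Y}

/-- The chart of the fibre product over affine opens is affine. -/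
theorem isAffineOpen_chart (H : IsPullback p' f' f p) {V : Y.Opens} {U : X.Opens} {V' : Y'.Opens}
    (hV : IsAffineOpen V) (hU : IsAffineOpen U) (hV' : IsAffineOpen V')
    (hUV : U ≤ f ⁻¹ᵁ V) (hV'V : V' ≤ p ⁻¹ᵁ V) : IsAffineOpen (p' ⁻¹ᵁ U ⊓ f' ⁻¹ᵁ V') := by
  have : IsAffine V := hV
  have : IsAffine U := hU
  have : IsAffine V' := hV'
  exact .of_isIso (Scheme.Hom.isPullback_resLE H hV'V hUV rfl).isoPullback.hom

/-- The ring of the chart is the pushout. -/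
theorem isPushout_chart (H : IsPullback p' f' f p) {V : Y.Opens} {U : X.Opens} {V' : Y'.Opens}
    (hV : IsAffineOpen V) (hU : IsAffineOpen U) (hV' : IsAffineOpen V')
    (hUV : U ≤ f ⁻¹ᵁ V) (hV'V : V' ≤ p ⁻¹ᵁ V) :
    IsPushout (f.appLE V U hUV) (p.appLE V V' hV'V)
      (p'.appLE U (p' ⁻¹ᵁ U ⊓ f' ⁻¹ᵁ V') inf_le_left)
      (f'.appLE V' (p' ⁻¹ᵁ U ⊓ f' ⁻¹ᵁ V') inf_le_right) := by
  have := isIso_pushoutSection_of_isAffineOpen H hV'V hUV rfl hV hV' hU
  exact (isIso_pushoutSection_iff H hV'V hUV rfl).mp this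

/-- Abstract algebra: base change along a pushout square. -/
theorem flat_iff_of_isPushout_of_isBaseChange {R S A B M N : Type u} [CommRing R] [CommRing S]
    [CommRing A] [CommRing B] [Algebra R S] [Algebra R A] [Algebra A B] [Algebra S B] [Algebra R B]
    [IsScalarTower R A B] [IsScalarTower R S B] [Algebra.IsPushout R S A B]
    [AddCommGroup M] [Module R M] [Module A M] [IsScalarTower R A M]
    [AddCommGroup N] [Module A N] [Module B N] [IsScalarTower A B N] [Module S N]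
    [IsScalarTower S B N] (θ : M →ₗ[A] N) (hθ : IsBaseChange B θ) :
    Module.Flat S N ↔ Module.Flat S (S ⊗[R] M) := by
  let e1 : B ⊗[A] M ≃ₗ[S] N := hθ.equiv.restrictScalars S
  let e2 : B ⊗[A] M ≃ₗ[S] S ⊗[R] M := Algebra.IsPushout.cancelBaseChange R S A B M
  exact Module.Flat.equiv_iff (e1.symm ≪≫ₗ e2)

open Groth.Agent.Lib.FlatOverSections Groth.Agent.Lib.H72PullbackNat in
/-- **Flatness on a chart of a fibre product.** In a cartesian square `X' = X ×_Y Y'`, for affine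
opens `U ≤ f⁻¹V`, `V' ≤ p⁻¹V` and `F` quasi-coherent on `X`: `p'^*F` is flat over `Y'` at all points
of the chart `p'⁻¹U ⊓ f'⁻¹V'` iff `Γ(Y',V') ⊗_{Γ(Y,V)} Γ(F,U)` is flat over `Γ(Y',V')`. -/
theorem forall_isFlatOverAt_chart_iff (H : IsPullback p' f' f p) (F : X.Modules) [F.IsQuasicoherent]
    {V : Y.Opens} {U : X.Opens} {V' : Y'.Opens}
    (hV : IsAffineOpen V) (hU : IsAffineOpen U) (hV' : IsAffineOpen V')
    (hUV : U ≤ f ⁻¹ᵁ V) (hV'V : V' ≤ p ⁻¹ᵁ V) :
    letI : Algebra Γ(Y, V) Γ(Y', V') := (p.appLE V V' hV'V).hom.toAlgebra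
    letI : Module Γ(Y, V) Γ(F, U) := Module.compHom _ (f.appLE V U hUV).hom
    (∀ x : X', x ∈ p' ⁻¹ᵁ U ⊓ f' ⁻¹ᵁ V' →
        FlatMod.IsFlatOverAt f' ((Scheme.Modules.pullback p').obj F) x) ↔
      Module.Flat Γ(Y', V') (Γ(Y', V') ⊗[Γ(Y, V)] Γ(F, U)) := by
  letI algRS : Algebra Γ(Y, V) Γ(Y', V') := (p.appLE V V' hV'V).hom.toAlgebra
  letI modRM : Module Γ(Y, V) Γ(F, U) := Module.compHom _ (f.appLE V U hUV).hom
  set U' : X'.Opens := p' ⁻¹ᵁ U ⊓ f' ⁻¹ᵁ V' with hU'def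
  have hU' : IsAffineOpen U' := isAffineOpen_chart H hV hU hV' hUV hV'V
  haveI : ((Scheme.Modules.pullback p').obj F).IsQuasicoherent :=
    Groth.Agent.Lib.H72PullbackQCoh.isQuasicoherent_pullback p' F
  rw [forall_isFlatOverAt_iff_flat_sections f' ((Scheme.Modules.pullback p').obj F) hU' hV'
    (inf_le_right : U' ≤ f' ⁻¹ᵁ V')]
  -- the rings
  letI algRA : Algebra Γ(Y, V) Γ(X, U) := (f.appLE V U hUV).hom.toAlgebra
  letI algAB : Algebra Γ(X, U) Γ(X', U') := (p'.appLE U U' inf_le_left).hom.toAlgebra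
  letI algSB : Algebra Γ(Y', V') Γ(X', U') := (f'.appLE V' U' inf_le_right).hom.toAlgebra
  letI algRB : Algebra Γ(Y, V) Γ(X', U') :=
    ((p'.appLE U U' inf_le_left).hom.comp (f.appLE V U hUV).hom).toAlgebra
  haveI : IsScalarTower Γ(Y, V) Γ(X, U) Γ(X', U') := IsScalarTower.of_algebraMap_eq' rfl
  have hcomm : f.appLE V U hUV ≫ p'.appLE U U' inf_le_left =
      p.appLE V V' hV'V ≫ f'.appLE V' U' inf_le_right :=
    (isPushout_chart H hV hU hV' hUV hV'V).w
  haveI : IsScalarTower Γ(Y, V) Γ(Y', V') Γ(X', U') :=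
    IsScalarTower.of_algebraMap_eq fun r => congr($(hcomm).hom r)
  haveI : IsScalarTower Γ(Y, V) Γ(X, U) Γ(F, U) := .of_algebraMap_smul fun _ _ => rfl
  have hpo : Algebra.IsPushout Γ(Y, V) Γ(X, U) Γ(Y', V') Γ(X', U') :=
    CommRingCat.isPushout_iff_isPushout.mp (isPushout_chart H hV hU hV' hUV hV'V)
  haveI : Algebra.IsPushout Γ(Y, V) Γ(Y', V') Γ(X, U) Γ(X', U') := hpo.symm
  -- the modules
  letI modAN : Module Γ(X, U) Γ((Scheme.Modules.pullback p').obj F, U') :=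
    Module.compHom _ (p'.appLE U U' inf_le_left).hom
  haveI : IsScalarTower Γ(X, U) Γ(X', U') Γ((Scheme.Modules.pullback p').obj F, U') :=
    .of_algebraMap_smul fun _ _ => rfl
  letI modSN : Module Γ(Y', V') Γ((Scheme.Modules.pullback p').obj F, U') :=
    Module.compHom _ (f'.appLE V' U' inf_le_right).hom
  haveI : IsScalarTower Γ(Y', V') Γ(X', U') Γ((Scheme.Modules.pullback p').obj F, U') :=
    .of_algebraMap_smul fun _ _ => rfl
  obtain ⟨θ, hθ, -⟩ := exists_isBaseChange_sections' p' F hU' hU (inf_le_left : U' ≤ p' ⁻¹ᵁ U)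
  exact flat_iff_of_isPushout_of_isBaseChange (R := Γ(Y, V)) (S := Γ(Y', V')) (A := Γ(X, U))
    (B := Γ(X', U')) θ hθ

end Groth.Agent.Lib.H72FlatModChart
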