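import Groth.Agent.Lib.H90OXModQcqs
import Mathlib.RingTheory.LocalProperties.FinitePresentation

set_option autoImplicit false
universe u

open CategoryTheory CategoryTheory.Limits AlgebraicGeometry TopologicalSpace Opposite
open AlgebraicGeometry.Scheme AlgebraicGeometry.Scheme.Modules

namespace Groth.Agent.Lib.H90OXModFP

open Groth.Agent.Lib.H90OXModAffine

variable {R : CommRingCat.{u}}

set_option backward.isDefEq.respectTransparency false in
/-- A module on `Spec R` with a presentation is the tilde of the cokernel of a map of free modules. -/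
theorem exists_iso_tilde_cokernel (N : (Spec R).Modules) (P : N.Presentation) :
    ∃ g : ModuleCat.of R (P.relations.I →₀ R) ⟶ ModuleCat.of R (P.generators.I →₀ R),
      Nonempty (tilde (cokernel g) ≅ N) := by
  let g := (tilde.functor _).preimage <| (tildeFinsupp _).hom ≫ P.relations.π ≫ kernel.ι _ ≫
    (tildeFinsupp _).inv
  let iso : cokernel ((tilde.functor R).map g) ≅ cokernel (P.relations.π ≫ kernel.ι _) := by
    refine cokernel.mapIso _ _ (tildeFinsupp _) (tildeFinsupp _) ?_
    simp only [g, (tilde.functor R).map_preimage]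
    simp
  exact ⟨g, ⟨PreservesCokernel.iso (tilde.functor R) g ≪≫ iso ≪≫
    IsColimit.coconePointUniqueUpToIso (colimit.isColimit _) P.isColimit⟩⟩

/-- The cokernel of a map between finite free modules is finitely presented. -/
theorem finitePresentation_cokernel {I J : Type u} [Finite I] [Finite J]
    (g : ModuleCat.of R (J →₀ R) ⟶ ModuleCat.of R (I →₀ R)) :
    Module.FinitePresentation R (cokernel g : ModuleCat.{u} R) := by
  have e := (ModuleCat.cokernelIsoRangeQuotient g).toLinearEquiv
  have h : Module.FinitePresentation R ((I →₀ R) ⧸ LinearMap.range g.hom) := by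
    refine Module.finitePresentation_of_free_of_surjective (LinearMap.range g.hom).mkQ
      (Submodule.mkQ_surjective _) ?_
    rw [Submodule.ker_mkQ, LinearMap.range_eq_map]
    exact (Module.Finite.fg_top).map _
  exact Module.FinitePresentation.of_equiv e.symm

set_option backward.isDefEq.respectTransparency false in
/-- LEMMA P: a module on `Spec R` with a finite presentation has finitely presented global
sections. -/
theorem finitePresentation_ΓSpec_of_presentation (N : (Spec R).Modules) (P : N.Presentation)
    [P.IsFinite] : Module.FinitePresentation R (ΓSpec N) := by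
  obtain ⟨g, ⟨e⟩⟩ := exists_iso_tilde_cokernel N P
  haveI : Finite P.generators.I := inferInstance
  haveI : Finite P.relations.I := inferInstance
  haveI := finitePresentation_cokernel g
  have e1 : cokernel g ≅ ΓSpec (tilde (cokernel g)) := tilde.isoTop (cokernel g)
  have e2 : ΓSpec (tilde (cokernel g)) ≅ ΓSpec N := moduleSpecΓFunctor.mapIso e
  exact Module.FinitePresentation.of_equiv (e1 ≪≫ e2).toLinearEquiv

variable {X : Scheme.{u}}

set_option backward.isDefEq.respectTransparency false in
/-- A finitely presented module has finite presentations on the members of an affine open cover. -/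
theorem exists_isOpenCover_finite_presentation (M : X.Modules)
    [SheafOfModules.IsFinitePresentation (R := X.ringCatSheaf) M] :
    ∃ (ι : Type u) (U : ι → X.Opens) (P : ∀ i, (M.restrict (U i).ι).Presentation),
      (∀ i, (P i).IsFinite) ∧ IsOpenCover U ∧ (∀ i, IsAffineOpen (U i)) := by
  obtain ⟨⟨I, W, cov, pres⟩, hfin⟩ :=
    SheafOfModules.IsFinitePresentation.exists_quasicoherentData (R := X.ringCatSheaf) M
  choose κ hsub heq using fun i ↦ Opens.isBasis_iff_cover.mp X.isBasis_affineOpens (W i)
  have hle : ∀ i : Σ (i : I), κ i, (i.2 : X.Opens) ≤ W i.1 := fun i => by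
    simp [heq, le_sSup]
  have key : ∀ i : Σ (i : I), κ i,
      ∃ P : (M.restrict (Scheme.Opens.ι i.2.1)).Presentation, P.IsFinite := by
    intro i
    let u := X.homOfLE (hle i)
    have : PreservesColimitsOfSize.{u, u} (restrictFunctor u) := inferInstance
    let F := (overEquiv (W i.1)).functor ⋙ restrictFunctor u
    let iso : SheafOfModules.overFunctor X.ringCatSheaf _ ⋙ F ≅ restrictFunctor
      (Scheme.Opens.ι i.2.1) := (Functor.associator _ _ _).symm ≪≫
        Functor.isoWhiskerRight (Scheme.Modules.overFunctorEquiv _) _ ≪≫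
        (restrictFunctorComp _ _).symm ≪≫ (restrictFunctorCongr (by simp [u]))
    have hf : (pres i.1).IsFinite := hfin.isFinite_presentation i.1
    have hf2 : ((pres i.1).map F (Scheme.Modules.restrictUnitIso _).symm).IsFinite :=
      { isFiniteType_generators := ⟨inferInstanceAs (Finite (pres i.1).generators.I)⟩
        isFiniteType_relations := ⟨inferInstanceAs (Finite (pres i.1).relations.I)⟩ }
    exact ⟨SheafOfModules.Presentation.ofIsIso.{u, u, u} (iso.app M).hom <|
      (pres i.1).map F (Scheme.Modules.restrictUnitIso _).symm, inferInstance⟩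
  choose P hP using key
  refine ⟨Σ (i : I), κ i, fun j ↦ j.2, P, hP, ?_, ?_⟩
  · rw [_root_.Opens.coversTop_iff, IsOpenCover] at cov
    rw [IsOpenCover, iSup_sigma, ← cov]
    refine iSup_congr fun i ↦ ?_
    rw [heq i, sSup_eq_iSup']
  · intro j
    exact hsub _ j.2.2

open Groth.Agent.Lib.QCohStalk Groth.Agent.Lib.AssPush

/-- The `Γ(X, U)`-module structure on `Γ(F, D(f))`, by restriction of scalars. -/
@[reducible] noncomputable def moduleBasicOpen (F : X.Modules) {U : X.Opens} (f : Γ(X, U)) :
    Module Γ(X, U) Γ(F, X.basicOpen f) :=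
  Module.compHom _ (algebraMap Γ(X, U) Γ(X, X.basicOpen f))

theorem isScalarTower_basicOpen (F : X.Modules) {U : X.Opens} (f : Γ(X, U)) :
    letI := moduleBasicOpen F f
    IsScalarTower Γ(X, U) Γ(X, X.basicOpen f) Γ(F, X.basicOpen f) :=
  letI := moduleBasicOpen F f
  ⟨fun a b m => by
    change (algebraMap Γ(X, U) Γ(X, X.basicOpen f) a * b) • m =
      algebraMap Γ(X, U) Γ(X, X.basicOpen f) a • b • m
    rw [mul_smul]⟩

/-- Restriction to a basic open as a linear map. -/
noncomputable def resBasicOpen (F : X.Modules) {U : X.Opens} (f : Γ(X, U)) :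
    letI := moduleBasicOpen F f
    Γ(F, U) →ₗ[Γ(X, U)] Γ(F, X.basicOpen f) :=
  letI := moduleBasicOpen F f
  { toFun := res F (X.basicOpen_le f)
    map_add' := fun a b => map_add (F.presheaf.map (homOfLE (X.basicOpen_le f)).op).hom a b
    map_smul' := fun r s => res_smul F (X.basicOpen_le f) r s }

/-- For a module which is localizing on `U` (e.g. quasi-coherent with `U` affine or qcqs), the
restriction `Γ(F, U) → Γ(F, D(f))` is the localization at `f`. -/
theorem isLocalizedModule_resBasicOpen (F : X.Modules) {U : X.Opens} (h : IsLocalizingOn F U)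
    (f : Γ(X, U)) :
    letI := moduleBasicOpen F f
    IsLocalizedModule (Submonoid.powers f) (resBasicOpen F f) := by
  letI := moduleBasicOpen F f
  have hfunit : IsUnit (algebraMap Γ(X, U) Γ(X, X.basicOpen f) f) :=
    RingedSpace.isUnit_res_basicOpen X.toRingedSpace f
  refine
    { map_units := ?_
      surj := ?_
      exists_of_eq := ?_ }
  · rintro ⟨_, n, rfl⟩
    rw [Module.End.isUnit_iff]
    have hu : IsUnit (algebraMap Γ(X, U) Γ(X, X.basicOpen f) (f ^ n)) := by
      rw [map_pow]; exact hfunit.pow n
    constructor
    · intro a b hab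
      have hab' : algebraMap Γ(X, U) Γ(X, X.basicOpen f) (f ^ n) • a =
          algebraMap Γ(X, U) Γ(X, X.basicOpen f) (f ^ n) • b := hab
      exact hu.smul_left_cancel.mp hab'
    · intro b
      obtain ⟨c, hc⟩ := hu.exists_left_inv
      refine ⟨c • b, ?_⟩
      change algebraMap Γ(X, U) Γ(X, X.basicOpen f) (f ^ n) • c • b = b
      rw [← mul_smul, mul_comm, hc, one_smul]
  · intro t
    obtain ⟨n, s, hs⟩ := h.surj f t
    refine ⟨⟨s, ⟨f ^ n, n, rfl⟩⟩, ?_⟩
    change algebraMap Γ(X, U) Γ(X, X.basicOpen f) (f ^ n) • t = res F (X.basicOpen_le f) s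
    rw [← hs, map_pow]
    rfl
  · intro a b hab
    have hab' : res F (X.basicOpen_le f) a = res F (X.basicOpen_le f) b := hab
    have h0 : res F (X.basicOpen_le f) (a - b) = 0 := by
      rw [Groth.Agent.Lib.H90OXModQcqs.res_sub, hab', sub_self]
    obtain ⟨n, hn⟩ := h.inj f (a - b) h0
    refine ⟨⟨f ^ n, n, rfl⟩, ?_⟩
    change f ^ n • a = f ^ n • b
    rw [smul_sub, sub_eq_zero] at hn
    exact hn

open Groth.Agent.Lib.H90RestrictEquiv

set_option backward.isDefEq.respectTransparency false in
/-- If `M|_D` has a finite presentation for an affine open `D`, then `Γ(M, D)` is finitely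
presented over `Γ(X, D)`. -/
theorem finitePresentation_sections_of_presentation_restrict (M : X.Modules) {D : X.Opens}
    (hD : IsAffineOpen D) (P : (M.restrict D.ι).Presentation) [P.IsFinite] :
    Module.FinitePresentation Γ(X, D) Γ(M, D) := by
  let iso := restrictCompIso hD.isoSpec.inv D.ι hD.fromSpec hD.isoSpec_inv_ι
  haveI := isFinite_presentationRestrict hD.isoSpec.inv P
  let P' : (M.restrict hD.fromSpec).Presentation :=
    (Scheme.Modules.presentationRestrict hD.isoSpec.inv P).ofIsIso (iso.app M).inv
  haveI : P'.IsFinite := inferInstance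
  have h := finitePresentation_ΓSpec_of_presentation (M.restrict hD.fromSpec) P'
  exact Module.FinitePresentation.of_equiv (sectionsEquiv M hD).symm

set_option backward.isDefEq.respectTransparency false in
/-- (T3) The sections of a finitely presented `O_X`-module over an affine open form a finitely
presented module. -/
theorem finitePresentation_sections (M : X.Modules)
    [SheafOfModules.IsFinitePresentation (R := X.ringCatSheaf) M] {U : X.Opens}
    (hU : IsAffineOpen U) : Module.FinitePresentation Γ(X, U) Γ(M, U) := by
  haveI : M.IsQuasicoherent := inferInstance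
  obtain ⟨ι, W, P, hP, hcov, hA⟩ := exists_isOpenCover_finite_presentation M
  let s : Set Γ(X, U) := {g | ∃ j, X.basicOpen g ≤ W j}
  have hs : Ideal.span s = ⊤ := by
    rw [← hU.self_le_iSup_basicOpen_iff]
    intro x hx
    obtain ⟨j, hj⟩ := hcov.exists_mem x
    obtain ⟨g, hg, hxg⟩ := hU.exists_basicOpen_le (V := W j) ⟨x, hj⟩ hx
    exact Opens.mem_iSup.mpr ⟨⟨g, j, hg⟩, hxg⟩
  have key : ∀ g : s,
      Module.FinitePresentation Γ(X, X.basicOpen g.1) Γ(M, X.basicOpen g.1) := by
    rintro ⟨g, j, hg⟩
    let u := X.homOfLE hg
    let iso : restrictFunctor (W j).ι ⋙ restrictFunctor u ≅ restrictFunctor (X.basicOpen g).ι :=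
      (restrictFunctorComp _ _).symm ≪≫ restrictFunctorCongr (by simp [u])
    haveI := hP j
    haveI := isFinite_presentationRestrict u (P j)
    let P' : (M.restrict (X.basicOpen g).ι).Presentation :=
      (Scheme.Modules.presentationRestrict u (P j)).ofIsIso (iso.app M).hom
    haveI : P'.IsFinite := inferInstance
    exact finitePresentation_sections_of_presentation_restrict M (hU.basicOpen g) P'
  letI : ∀ g : s, Module Γ(X, U) Γ(M, X.basicOpen g.1) := fun g => moduleBasicOpen M g.1
  haveI : ∀ g : s, IsScalarTower Γ(X, U) Γ(X, X.basicOpen g.1) Γ(M, X.basicOpen g.1) :=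
    fun g => isScalarTower_basicOpen M g.1
  haveI : ∀ g : s, IsLocalization.Away g.1 Γ(X, X.basicOpen g.1) :=
    fun g => hU.isLocalization_basicOpen g.1
  haveI : ∀ g : s, IsLocalizedModule (Submonoid.powers g.1) (resBasicOpen M g.1) :=
    fun g => isLocalizedModule_resBasicOpen M (isLocalizingOn_of_isQuasicoherent M hU) g.1
  exact Module.FinitePresentation.of_localizationSpan' s hs
    (Rₚ := fun g => Γ(X, X.basicOpen g.1)) (Mₚ := fun g => Γ(M, X.basicOpen g.1))
    (fun g => resBasicOpen M g.1) key

/-- For a quasi-coherent module: finitely presented iff the sections over every affine open form a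
finitely presented module. -/
theorem isFinitePresentation_iff_forall_affine (M : X.Modules) [M.IsQuasicoherent] :
    SheafOfModules.IsFinitePresentation (R := X.ringCatSheaf) M ↔
      ∀ U : X.affineOpens, Module.FinitePresentation Γ(X, U.1) Γ(M, U.1) :=
  ⟨fun h U => haveI := h; finitePresentation_sections M U.2,
    isFinitePresentation_of_forall_affine M⟩

set_option backward.isDefEq.respectTransparency false in
/-- `CohB1.IsFP M` iff `M` is quasi-coherent and its sections over every affine open form a finitely
presented module. -/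
theorem isFP_iff_forall_affine (M : X.Modules) :
    CohB1.IsFP M ↔ M.IsQuasicoherent ∧
      ∀ U : X.affineOpens, Module.FinitePresentation Γ(X, U.1) Γ(M, U.1) := by
  constructor
  · intro h
    haveI : SheafOfModules.IsFinitePresentation (R := X.ringCatSheaf) M := h
    haveI : M.IsQuasicoherent := inferInstance
    exact ⟨inferInstance, (isFinitePresentation_iff_forall_affine M).mp h⟩
  · rintro ⟨h1, h2⟩
    haveI : M.IsQuasicoherent := h1
    exact (isFinitePresentation_iff_forall_affine M).mpr h2

end Groth.Agent.Lib.H90OXModFP
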