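import Groth.Agent.Lib.RelFlatPush64
import Groth.Agent.Lib.H72FlatModChart
import Groth.Agent.Lib.H72FlatBaseChange
import Groth.Agent.Lib.H90OXModFP
import Groth.Agent.Lib.FlatOverSections

/-!
# Relative flatness descends from arbitrary base change: scheme form (helper64)

* `isFlatOverAt_iff_flat_localized`: flatness over the base at a point of an affine chart in terms
  of the localized module of sections.
* `isFlatOverAt_of_baseChange`: EGA IV 11.3.10-type descent: for `X → Y → S` (`X/S` l.f.p., `Y/S`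
  l.f.t.), `F` f.p. quasi-coherent on `X`, flat over `S` at `x = gX x'`, if the base change `F'`
  along an arbitrary `S' → S` is flat over `Y'` at `x'` then `F` is flat over `Y` at `x`.
-/

set_option autoImplicit false
set_option maxHeartbeats 1000000
set_option linter.style.haveILetI false
universe u

open CategoryTheory AlgebraicGeometry TopologicalSpace Opposite TensorProduct Limits

namespace Groth.Agent.Lib.RelFlatSch64

/-- Flatness over the base at a point of an affine chart, in terms of the localized module of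
sections. -/
theorem isFlatOverAt_iff_flat_localized {X Y : Scheme.{u}} (f : X ⟶ Y) (F : X.Modules)
    [F.IsQuasicoherent] {U : X.Opens} {V : Y.Opens} (hU : IsAffineOpen U) (hV : IsAffineOpen V)
    (hUV : U ≤ f ⁻¹ᵁ V) (y : X) (hy : y ∈ U) :
    letI : Algebra Γ(Y, V) Γ(X, U) := (f.appLE V U hUV).hom.toAlgebra
    letI : Module Γ(Y, V) Γ(F, U) := Module.compHom _ (f.appLE V U hUV).hom
    haveI : IsScalarTower Γ(Y, V) Γ(X, U) Γ(F, U) := .of_algebraMap_smul fun _ _ => rfl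
    FlatMod.IsFlatOverAt f F y ↔
      Module.Flat Γ(Y, V)
        (LocalizedModule (hU.primeIdealOf ⟨y, hy⟩).asIdeal.primeCompl Γ(F, U)) := by
  letI algRS : Algebra Γ(Y, V) Γ(X, U) := (f.appLE V U hUV).hom.toAlgebra
  letI modRM : Module Γ(Y, V) Γ(F, U) := Module.compHom _ (f.appLE V U hUV).hom
  haveI : IsScalarTower Γ(Y, V) Γ(X, U) Γ(F, U) := .of_algebraMap_smul fun _ _ => rfl
  rw [Groth.Agent.Lib.H72FlatBaseChange.isFlatOverAt_iff_flat_sections f F hUV hV y hy]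
  letI modS := Groth.Agent.Lib.QCohStalk.moduleSectionStalk F (⟨y, hy⟩ : U)
  letI modR : Module Γ(Y, V) (F.presheaf.stalk y) :=
    Module.compHom _ ((X.presheaf.germ U y hy).hom.comp (f.appLE V U hUV).hom)
  haveI tow : IsScalarTower Γ(Y, V) Γ(X, U) (F.presheaf.stalk y) :=
    .of_algebraMap_smul fun _ _ => rfl
  have hlm := Groth.Agent.Lib.QCohStalk.isLocalizedModule_germ F hU (⟨y, hy⟩ : U)
  let E := IsLocalizedModule.iso (hU.primeIdealOf ⟨y, hy⟩).asIdeal.primeCompl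
    (Groth.Agent.Lib.QCohStalk.germLinear F (⟨y, hy⟩ : U))
  exact (Module.Flat.equiv_iff (E.restrictScalars Γ(Y, V))).symm


theorem appLE_congr_hom {X Y : Scheme.{u}} {φ ψ : X ⟶ Y} (hφψ : φ = ψ) (V : Y.Opens) (U : X.Opens)
    (e : U ≤ φ ⁻¹ᵁ V) (e' : U ≤ ψ ⁻¹ᵁ V) : φ.appLE V U e = ψ.appLE V U e' := by
  subst hφψ
  rfl

set_option synthInstance.maxHeartbeats 400000 in
open Groth.Agent.Lib.H72FlatModChart Groth.Agent.Lib.H72PullbackNat in
/-- **Relative flatness descends from an arbitrary base change** (scheme form): `X → Y → S` with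
`X` locally of finite presentation and `Y` locally of finite type over `S`, `F` finitely presented
quasi-coherent on `X`, flat over `S` at `x = gX x'`. If the base change `F'` is flat over `Y'` at
`x'`, then `F` is flat over `Y` at `x`. -/
theorem isFlatOverAt_of_baseChange {X Y S X' Y' S' : Scheme.{u}} (f : X ⟶ Y) (g : Y ⟶ S)
    [LocallyOfFinitePresentation (f ≫ g)] [LocallyOfFiniteType g]
    (F : X.Modules) [F.IsQuasicoherent]
    [SheafOfModules.IsFinitePresentation (R := X.ringCatSheaf) F]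
    (h : S' ⟶ S) (gY : Y' ⟶ Y) (g' : Y' ⟶ S') (hY : IsPullback gY g' g h)
    (gX : X' ⟶ X) (f' : X' ⟶ Y') (hX : IsPullback gX (f' ≫ g') (f ≫ g) h)
    (w : gX ≫ f = f' ≫ gY)
    (x' : X') (hflS : FlatMod.IsFlatOverAt (f ≫ g) F (gX x'))
    (hfl' : FlatMod.IsFlatOverAt f' ((Scheme.Modules.pullback gX).obj F) x') :
    FlatMod.IsFlatOverAt f F (gX x') := by
  -- charts
  obtain ⟨_, ⟨W, hW, rfl⟩, hxW, -⟩ :=
    S.isBasis_affineOpens.exists_subset_of_mem_open (Set.mem_univ (g (f (gX x')))) isOpen_univ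
  obtain ⟨_, ⟨V, hV, rfl⟩, hxV, hVW⟩ :=
    Y.isBasis_affineOpens.exists_subset_of_mem_open (a := f (gX x')) hxW (W.2.preimage g.continuous)
  obtain ⟨_, ⟨U, hU, rfl⟩, hxU, hUV⟩ :=
    X.isBasis_affineOpens.exists_subset_of_mem_open hxV (V.2.preimage f.continuous)
  have hs' : h (g' (f' x')) = g (f (gX x')) := by
    have := congrArg (fun φ : X' ⟶ S => φ x') hX.w
    simpa [Scheme.Hom.comp_apply] using this.symm
  obtain ⟨_, ⟨W', hW', rfl⟩, hxW', hW'W⟩ :=
    S'.isBasis_affineOpens.exists_subset_of_mem_open (a := g' (f' x'))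
      (show g' (f' x') ∈ h ⁻¹' (W : Set S) by rw [Set.mem_preimage, hs']; exact hxW)
      (W.2.preimage h.continuous)
  have hVW' : V ≤ g ⁻¹ᵁ W := hVW
  have hUV' : U ≤ f ⁻¹ᵁ V := hUV
  have hW'W' : W' ≤ h ⁻¹ᵁ W := hW'W
  have hUW : U ≤ (f ≫ g) ⁻¹ᵁ W := fun z hz => hVW' (hUV' hz)
  set V' : Y'.Opens := gY ⁻¹ᵁ V ⊓ g' ⁻¹ᵁ W' with hV'def
  set U' : X'.Opens := gX ⁻¹ᵁ U ⊓ (f' ≫ g') ⁻¹ᵁ W' with hU'def
  have hV'aff : IsAffineOpen V' := isAffineOpen_chart hY hW hV hW' hVW' hW'W'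
  have hU'aff : IsAffineOpen U' := isAffineOpen_chart hX hW hU hW' hUW hW'W'
  have hwpt : ∀ z : X', gY (f' z) = f (gX z) := fun z => by
    have := congrArg (fun φ : X' ⟶ Y => φ z) w
    simpa [Scheme.Hom.comp_apply] using this.symm
  have hU'V' : U' ≤ f' ⁻¹ᵁ V' := by
    intro z hz
    refine ⟨?_, hz.2⟩
    change gY (f' z) ∈ V
    rw [hwpt]
    exact hUV' hz.1
  have hx'U' : x' ∈ U' := ⟨hxU, hxW'⟩
  have hpoB := isPushout_chart hY hW hV hW' hVW' hW'W'
  have hpoC := isPushout_chart hX hW hU hW' hUW hW'W'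
  -- the rings
  letI algAB : Algebra Γ(S, W) Γ(Y, V) := (g.appLE W V hVW').hom.toAlgebra
  letI algBC : Algebra Γ(Y, V) Γ(X, U) := (f.appLE V U hUV').hom.toAlgebra
  letI algAC : Algebra Γ(S, W) Γ(X, U) := ((f ≫ g).appLE W U hUW).hom.toAlgebra
  haveI towABC : IsScalarTower Γ(S, W) Γ(Y, V) Γ(X, U) :=
    IsScalarTower.of_algebraMap_eq fun a =>
      congr($(Scheme.Hom.appLE_comp_appLE f g W V U hVW' hUV').hom a).symm
  letI algAA' : Algebra Γ(S, W) Γ(S', W') := (h.appLE W W' hW'W').hom.toAlgebra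
  letI algA'B' : Algebra Γ(S', W') Γ(Y', V') := (g'.appLE W' V' inf_le_right).hom.toAlgebra
  letI algBB' : Algebra Γ(Y, V) Γ(Y', V') := (gY.appLE V V' inf_le_left).hom.toAlgebra
  letI algAB' : Algebra Γ(S, W) Γ(Y', V') :=
    ((gY.appLE V V' inf_le_left).hom.comp (g.appLE W V hVW').hom).toAlgebra
  haveI towABB' : IsScalarTower Γ(S, W) Γ(Y, V) Γ(Y', V') := IsScalarTower.of_algebraMap_eq' rfl
  haveI towAA'B' : IsScalarTower Γ(S, W) Γ(S', W') Γ(Y', V') :=
    IsScalarTower.of_algebraMap_eq fun a => congr($(hpoB.w).hom a)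
  letI algA'C' : Algebra Γ(S', W') Γ(X', U') := ((f' ≫ g').appLE W' U' inf_le_right).hom.toAlgebra
  letI algCC' : Algebra Γ(X, U) Γ(X', U') := (gX.appLE U U' inf_le_left).hom.toAlgebra
  letI algAC' : Algebra Γ(S, W) Γ(X', U') :=
    ((gX.appLE U U' inf_le_left).hom.comp ((f ≫ g).appLE W U hUW).hom).toAlgebra
  haveI towACC' : IsScalarTower Γ(S, W) Γ(X, U) Γ(X', U') := IsScalarTower.of_algebraMap_eq' rfl
  haveI towAA'C' : IsScalarTower Γ(S, W) Γ(S', W') Γ(X', U') :=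
    IsScalarTower.of_algebraMap_eq fun a => congr($(hpoC.w).hom a)
  letI algB'C' : Algebra Γ(Y', V') Γ(X', U') := (f'.appLE V' U' hU'V').hom.toAlgebra
  haveI towA'B'C' : IsScalarTower Γ(S', W') Γ(Y', V') Γ(X', U') :=
    IsScalarTower.of_algebraMap_eq fun a =>
      congr($(Scheme.Hom.appLE_comp_appLE f' g' W' V' U' inf_le_right hU'V').hom a).symm
  letI algBC' : Algebra Γ(Y, V) Γ(X', U') :=
    ((gX.appLE U U' inf_le_left).hom.comp (f.appLE V U hUV').hom).toAlgebra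
  haveI towBCC' : IsScalarTower Γ(Y, V) Γ(X, U) Γ(X', U') := IsScalarTower.of_algebraMap_eq' rfl
  have hsq : f.appLE V U hUV' ≫ gX.appLE U U' inf_le_left =
      gY.appLE V V' inf_le_left ≫ f'.appLE V' U' hU'V' := by
    rw [Scheme.Hom.appLE_comp_appLE, Scheme.Hom.appLE_comp_appLE]
    exact appLE_congr_hom w V U' _ _
  haveI towBB'C' : IsScalarTower Γ(Y, V) Γ(Y', V') Γ(X', U') :=
    IsScalarTower.of_algebraMap_eq fun b => congr($(hsq).hom b)
  have hpB : Algebra.IsPushout Γ(S, W) Γ(Y, V) Γ(S', W') Γ(Y', V') :=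
    CommRingCat.isPushout_iff_isPushout.mp hpoB
  haveI hpB' : Algebra.IsPushout Γ(S, W) Γ(S', W') Γ(Y, V) Γ(Y', V') := hpB.symm
  have hpC : Algebra.IsPushout Γ(S, W) Γ(X, U) Γ(S', W') Γ(X', U') :=
    CommRingCat.isPushout_iff_isPushout.mp hpoC
  haveI hpC' : Algebra.IsPushout Γ(S, W) Γ(S', W') Γ(X, U) Γ(X', U') := hpC.symm
  -- the modules
  letI modBM : Module Γ(Y, V) Γ(F, U) := Module.compHom _ (f.appLE V U hUV').hom
  letI modAM : Module Γ(S, W) Γ(F, U) := Module.compHom _ ((f ≫ g).appLE W U hUW).hom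
  haveI towBCM : IsScalarTower Γ(Y, V) Γ(X, U) Γ(F, U) := .of_algebraMap_smul fun _ _ => rfl
  haveI towACM : IsScalarTower Γ(S, W) Γ(X, U) Γ(F, U) := .of_algebraMap_smul fun _ _ => rfl
  haveI towABM : IsScalarTower Γ(S, W) Γ(Y, V) Γ(F, U) :=
    IsScalarTower.to₁₂₄ Γ(S, W) Γ(Y, V) Γ(X, U) Γ(F, U)
  haveI qcF' : ((Scheme.Modules.pullback gX).obj F).IsQuasicoherent :=
    Groth.Agent.Lib.H72PullbackQCoh.isQuasicoherent_pullback gX F
  letI modB'M' : Module Γ(Y', V') Γ((Scheme.Modules.pullback gX).obj F, U') :=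
    Module.compHom _ (f'.appLE V' U' hU'V').hom
  haveI towB'C'M' : IsScalarTower Γ(Y', V') Γ(X', U') Γ((Scheme.Modules.pullback gX).obj F, U') :=
    .of_algebraMap_smul fun _ _ => rfl
  letI modCM' : Module Γ(X, U) Γ((Scheme.Modules.pullback gX).obj F, U') :=
    Module.compHom _ (gX.appLE U U' inf_le_left).hom
  haveI towCC'M' : IsScalarTower Γ(X, U) Γ(X', U') Γ((Scheme.Modules.pullback gX).obj F, U') :=
    .of_algebraMap_smul fun _ _ => rfl
  obtain ⟨θ, hθ, -⟩ := exists_isBaseChange_sections' gX F hU'aff hU (inf_le_left : U' ≤ gX ⁻¹ᵁ U)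
  -- finiteness
  haveI ftAB : Algebra.FiniteType Γ(S, W) Γ(Y, V) := g.finiteType_appLE hW hV hVW'
  haveI fpAC : Algebra.FinitePresentation Γ(S, W) Γ(X, U) :=
    (f ≫ g).finitePresentation_appLE hW hU hUW
  haveI fpM : Module.FinitePresentation Γ(X, U) Γ(F, U) :=
    Groth.Agent.Lib.H90OXModFP.finitePresentation_sections F hU
  -- the primes
  have hQ : (hU'aff.primeIdealOf ⟨x', hx'U'⟩).asIdeal.comap (algebraMap Γ(X, U) Γ(X', U')) =
      (hU.primeIdealOf ⟨gX x', hxU⟩).asIdeal :=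
    congrArg PrimeSpectrum.asIdeal
      (IsAffineOpen.comap_primeIdealOf_appLE (f := gX) U hU U' hU'aff inf_le_left hx'U')
  -- flatness translations
  have h1 : Module.Flat Γ(S, W)
      (LocalizedModule (hU.primeIdealOf ⟨gX x', hxU⟩).asIdeal.primeCompl Γ(F, U)) :=
    (isFlatOverAt_iff_flat_localized (f ≫ g) F hU hW hUW (gX x') hxU).mp hflS
  have h2 : Module.Flat Γ(Y', V')
      (LocalizedModule (hU'aff.primeIdealOf ⟨x', hx'U'⟩).asIdeal.primeCompl
        Γ((Scheme.Modules.pullback gX).obj F, U')) :=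
    (isFlatOverAt_iff_flat_localized f' ((Scheme.Modules.pullback gX).obj F) hU'aff hV'aff hU'V'
      x' hx'U').mp hfl'
  refine (isFlatOverAt_iff_flat_localized f F hU hV hUV' (gX x') hxU).mpr ?_
  exact Groth.Agent.Lib.RelFlatBC64.flatAt_of_isPushout (A := Γ(S, W)) (A' := Γ(S', W'))
    (B' := Γ(Y', V')) (C' := Γ(X', U')) θ hθ
    (hU'aff.primeIdealOf ⟨x', hx'U'⟩).asIdeal (hU.primeIdealOf ⟨gX x', hxU⟩).asIdeal hQ h1 h2

end Groth.Agent.Lib.RelFlatSch64
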