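import Groth.Agent.Lib.ArtinFamD64
import Groth.Agent.Lib.RelFlatSch64
import Groth.Agent.Lib.CohFinite

/-!
# Flatness over an Artinian local base tested on a family of local base changes: scheme level
(helper64)

* `hypAt_of_isPushout`: the pointwise hypothesis `ArtinFamD64.HypAt` in abstract pushout form.
-/

set_option autoImplicit false
set_option maxHeartbeats 400000
set_option linter.style.haveILetI false
set_option linter.unusedSectionVars false
universe u

open TensorProduct Function IsLocalRing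
open Groth.Agent.Lib.FlatLimStage88 Groth.Agent.Lib.RelFlatBC64 Groth.Agent.Lib.ArtinFamD64
open scoped Groth.Agent.Lib.FlatLimStage88

namespace Groth.Agent.Lib.ArtinFamSch64

section Abstract

variable {A C M A' C' M' : Type u} [CommRing A] [CommRing C] [Algebra A C]
  [AddCommGroup M] [Module C M] [Module A M] [IsScalarTower A C M]
  [CommRing A'] [CommRing C'] [Algebra A A'] [Algebra A' C'] [Algebra C C'] [Algebra A C']
  [IsScalarTower A A' C'] [IsScalarTower A C C'] [Algebra.IsPushout A A' C C']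
  [AddCommGroup M'] [Module C' M'] [Module C M'] [IsScalarTower C C' M']
  [Module A' M'] [IsScalarTower A' C' M'] [IsLocalRing A']

set_option synthInstance.maxHeartbeats 400000 in
/-- The pointwise hypothesis `HypAt` in abstract pushout form. -/
theorem hypAt_of_isPushout (p : Ideal C) [p.IsPrime] (ψ : M →ₗ[C] M') (hψ : IsBaseChange C' ψ)
    (H : ∀ (Q' : Ideal C') [Q'.IsPrime], Q'.comap (algebraMap C C') = p →
      Q'.comap (algebraMap A' C') = maximalIdeal A' →
      Module.Flat A' (LocalizedModule Q'.primeCompl M')) :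
    HypAt A M p A' := by
  intro Q _ hQp hQm
  let eC : A' ⊗[A] C ≃ₐ[A'] C' := Algebra.IsPushout.equiv A A' C C'
  let ε : A' ⊗[A] M ≃+ M' := epsEquiv (A := A) ψ hψ
  have hεC : ∀ (c : A' ⊗[A] C) (x : A' ⊗[A] M), ε (c • x) = eC c • ε x :=
    fun c x => epsEquiv_smulC (A := A) ψ hψ c x
  have hεA : ∀ (a : A') (x : A' ⊗[A] M), ε (a • x) = a • ε x := by
    intro a x
    rw [← algebraMap_smul (A' ⊗[A] C) a x, hεC, eC.commutes, algebraMap_smul]
  let ε' : M' ≃ₗ[A'] A' ⊗[A] M :=
    { ε.symm with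
      map_smul' := fun a x => by
        obtain ⟨y, rfl⟩ := ε.surjective x
        change ε.symm (a • ε y) = a • ε.symm (ε y)
        rw [← hεA, AddEquiv.symm_apply_apply, AddEquiv.symm_apply_apply] }
  have hε' : ∀ (c : C') (x : M'), ε' (c • x) = eC.symm.toRingEquiv c • ε' x := by
    intro c x
    obtain ⟨y, rfl⟩ := ε.surjective x
    obtain ⟨d, rfl⟩ := eC.surjective c
    change ε.symm (eC d • ε y) = eC.symm (eC d) • ε.symm (ε y)
    rw [← hεC, AddEquiv.symm_apply_apply, AddEquiv.symm_apply_apply, AlgEquiv.symm_apply_apply]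
  haveI : (Q.comap eC.symm.toRingEquiv).IsPrime := Ideal.comap_isPrime _ Q
  have h1 : (Q.comap eC.symm.toRingEquiv).comap (algebraMap C C') = p := by
    rw [← hQp]
    ext c
    rw [Ideal.mem_comap, Ideal.mem_comap, Ideal.mem_comap,
      Algebra.TensorProduct.includeRight_apply]
    have : eC.symm (algebraMap C C' c) = (1 : A') ⊗ₜ[A] c := by
      rw [AlgEquiv.symm_apply_eq]
      change _ = (Algebra.IsPushout.equiv A A' C C') ((1 : A') ⊗ₜ[A] c)
      rw [Algebra.IsPushout.equiv_tmul, map_one, one_mul]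
    change eC.symm (algebraMap C C' c) ∈ Q ↔ _
    rw [this]
  have h2 : (Q.comap eC.symm.toRingEquiv).comap (algebraMap A' C') = maximalIdeal A' := by
    rw [← hQm]
    ext a
    rw [Ideal.mem_comap, Ideal.mem_comap, Ideal.mem_comap]
    change eC.symm (algebraMap A' C' a) ∈ Q ↔ _
    rw [eC.symm.commutes]
  exact Groth.Agent.Lib.FlatLimOpenBC88.flat_localizedModule_of_semilinearEquiv
    eC.symm.toRingEquiv ε' hε' Q (H _ h1 h2)

end Abstract

section Sch

open CategoryTheory AlgebraicGeometry TopologicalSpace Opposite Limits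
open Groth.Agent.Lib.H72FlatModChart Groth.Agent.Lib.H72PullbackNat Groth.Agent.Lib.RelFlatSch64

/-- The prime of `Γ(Spec R, ⊤)` attached to a point `z` of `Spec R` contracts to `z`. -/
theorem comap_primeIdealOf_top (R : CommRingCat.{u}) (z : Spec R) :
    ((isAffineOpen_top (Spec R)).primeIdealOf ⟨z, trivial⟩).asIdeal.comap
      (Scheme.ΓSpecIso R).inv.hom = z.asIdeal := by
  have h := (isAffineOpen_top (Spec R)).fromSpec_primeIdealOf ⟨z, trivial⟩
  rw [IsAffineOpen.fromSpec_top, Scheme.isoSpec_Spec_inv] at h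
  have h2 := congrArg PrimeSpectrum.asIdeal h
  rw [← h2]
  rfl

/-- A point of the spectrum of a local ring whose prime of global sections is maximal is the
closed point. -/
theorem eq_closedPoint_of_primeIdealOf {R : Type u} [CommRing R] [IsLocalRing R]
    (z : Spec (CommRingCat.of R))
    (hz : ((isAffineOpen_top (Spec (CommRingCat.of R))).primeIdealOf
      ⟨z, trivial⟩).asIdeal.IsMaximal) :
    z = IsLocalRing.closedPoint R := by
  have h1 := comap_primeIdealOf_top (CommRingCat.of R) z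
  let φ : Γ(Spec (CommRingCat.of R), ⊤) ≃+* R :=
    (Scheme.ΓSpecIso (CommRingCat.of R)).commRingCatIsoToRingEquiv
  have h2 : (((isAffineOpen_top (Spec (CommRingCat.of R))).primeIdealOf
      ⟨z, trivial⟩).asIdeal.comap (φ.symm : R →+* Γ(Spec (CommRingCat.of R), ⊤))).IsMaximal :=
    Ideal.comap_isMaximal_of_surjective _ φ.symm.surjective
  have h3 : z.asIdeal.IsMaximal := by
    rw [← h1]
    exact h2
  apply PrimeSpectrum.ext
  exact IsLocalRing.eq_maximalIdeal h3

set_option synthInstance.maxHeartbeats 400000 in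
/-- **EGA IV 11.4-type criterion, scheme level**: flatness over an Artinian local base at a point,
tested on a jointly injective family of local base changes, at the points over `x` and the closed
point. -/
theorem isFlatOverAt_of_family {A : Type u} [CommRing A]
    [IsArtinianRing A] [IsLocalRing A] {X : Scheme.{u}} (f : X ⟶ Spec (CommRingCat.of A))
    [LocallyOfFiniteType f] (F : X.Modules) (hF : Coh.IsCoh F) (x : X)
    {ι : Type u} (A' : ι → Type u) [∀ i, CommRing (A' i)] [∀ i, IsLocalRing (A' i)]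
    (u : ∀ i, A →+* A' i)
    (hu : ∀ a : A, (∀ i, u i a = 0) → a = 0)
    (hflat : ∀ (i : ι) (x' : ↥(pullback f (Spec.map (CommRingCat.ofHom (u i))))),
      pullback.fst f (Spec.map (CommRingCat.ofHom (u i))) x' = x →
      pullback.snd f (Spec.map (CommRingCat.ofHom (u i))) x' = IsLocalRing.closedPoint (A' i) →
      FlatMod.IsFlatOverAt (pullback.snd f (Spec.map (CommRingCat.ofHom (u i))))
        ((Scheme.Modules.pullback (pullback.fst f (Spec.map (CommRingCat.ofHom (u i))))).obj F) x') :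
    FlatMod.IsFlatOverAt f F x := by
  classical
  have hY : IsAffineOpen (⊤ : (Spec (CommRingCat.of A)).Opens) := isAffineOpen_top _
  let φ : Γ(Spec (CommRingCat.of A), ⊤) ≃+* A :=
    (Scheme.ΓSpecIso (CommRingCat.of A)).commRingCatIsoToRingEquiv
  haveI : IsLocalRing Γ(Spec (CommRingCat.of A), ⊤) := φ.symm.isLocalRing
  haveI : IsArtinianRing Γ(Spec (CommRingCat.of A), ⊤) := φ.symm.isArtinianRing
  let φ' : ∀ i, Γ(Spec (CommRingCat.of (A' i)), ⊤) ≃+* A' i := fun i =>
    (Scheme.ΓSpecIso (CommRingCat.of (A' i))).commRingCatIsoToRingEquiv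
  haveI hloc' : ∀ i, IsLocalRing Γ(Spec (CommRingCat.of (A' i)), ⊤) :=
    fun i => (φ' i).symm.isLocalRing
  letI alg' : ∀ i, Algebra Γ(Spec (CommRingCat.of A), ⊤) Γ(Spec (CommRingCat.of (A' i)), ⊤) :=
    fun i => ((Spec.map (CommRingCat.ofHom (u i))).appLE ⊤ ⊤ le_top).hom.toAlgebra
  -- joint injectivity
  have hnat : ∀ (i : ι) (a : Γ(Spec (CommRingCat.of A), ⊤)),
      φ' i (algebraMap Γ(Spec (CommRingCat.of A), ⊤) Γ(Spec (CommRingCat.of (A' i)), ⊤) a) =
        u i (φ a) := by
    intro i a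
    have happ : (Spec.map (CommRingCat.ofHom (u i))).appLE ⊤ ⊤ le_top =
        (Spec.map (CommRingCat.ofHom (u i))).appTop :=
      Scheme.Hom.appLE_eq_app _
    have h1 := Scheme.ΓSpecIso_naturality (CommRingCat.ofHom (u i))
    rw [← happ] at h1
    exact congr($(h1).hom a)
  have hinj : ∀ a : Γ(Spec (CommRingCat.of A), ⊤),
      (∀ i, algebraMap Γ(Spec (CommRingCat.of A), ⊤) Γ(Spec (CommRingCat.of (A' i)), ⊤) a = 0) →
        a = 0 := by
    intro a ha
    have h1 : φ a = 0 := by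
      apply hu
      intro i
      rw [← hnat, ha i, map_zero]
    exact (map_eq_zero_iff φ φ.injective).mp h1
  -- the chart on `X`
  obtain ⟨_, ⟨U, hU, rfl⟩, hxU, -⟩ :=
    X.isBasis_affineOpens.exists_subset_of_mem_open (Set.mem_univ x) isOpen_univ
  haveI qcF : F.IsQuasicoherent := hF.1
  rw [isFlatOverAt_iff_flat_localized f F hU hY le_top x hxU]
  letI algRS : Algebra Γ(Spec (CommRingCat.of A), ⊤) Γ(X, U) := (f.appLE ⊤ U le_top).hom.toAlgebra
  letI modRM : Module Γ(Spec (CommRingCat.of A), ⊤) Γ(F, U) :=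
    Module.compHom _ (f.appLE ⊤ U le_top).hom
  haveI tow : IsScalarTower Γ(Spec (CommRingCat.of A), ⊤) Γ(X, U) Γ(F, U) :=
    .of_algebraMap_smul fun _ _ => rfl
  haveI ft : Algebra.FiniteType Γ(Spec (CommRingCat.of A), ⊤) Γ(X, U) :=
    f.finiteType_appLE hY hU le_top
  haveI noeth : IsNoetherianRing Γ(X, U) :=
    Algebra.FiniteType.isNoetherianRing Γ(Spec (CommRingCat.of A), ⊤) Γ(X, U)
  haveI fin : Module.Finite Γ(X, U) Γ(F, U) :=
    Groth.Agent.Lib.CohFinite.finite_sections_of_isCoh F hF hU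
  refine flat_localized_of_family (A := Γ(Spec (CommRingCat.of A), ⊤)) (B := Γ(X, U))
    (M := Γ(F, U)) (hU.primeIdealOf ⟨x, hxU⟩).asIdeal
    (fun i => Γ(Spec (CommRingCat.of (A' i)), ⊤)) hinj (fun i => ?_)
  -- the pointwise hypothesis for `i`
  have hY' : IsAffineOpen (⊤ : (Spec (CommRingCat.of (A' i))).Opens) := isAffineOpen_top _
  have H : IsPullback (pullback.fst f (Spec.map (CommRingCat.ofHom (u i))))
      (pullback.snd f (Spec.map (CommRingCat.ofHom (u i)))) f
      (Spec.map (CommRingCat.ofHom (u i))) := IsPullback.of_hasPullback _ _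
  set P := pullback f (Spec.map (CommRingCat.ofHom (u i))) with hP
  set p₁ : P ⟶ X := pullback.fst f (Spec.map (CommRingCat.ofHom (u i))) with hp₁
  set p₂ : P ⟶ Spec (CommRingCat.of (A' i)) :=
    pullback.snd f (Spec.map (CommRingCat.ofHom (u i))) with hp₂
  set U' : P.Opens := p₁ ⁻¹ᵁ U ⊓ p₂ ⁻¹ᵁ ⊤ with hU'def
  have hU' : IsAffineOpen U' := isAffineOpen_chart H hY hU hY' le_top le_top
  have hpo := isPushout_chart H hY hU hY' le_top le_top
  -- rings
  letI algAB' : Algebra Γ(X, U) Γ(P, U') := (p₁.appLE U U' inf_le_left).hom.toAlgebra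
  letI algSB' : Algebra Γ(Spec (CommRingCat.of (A' i)), ⊤) Γ(P, U') :=
    (p₂.appLE ⊤ U' inf_le_right).hom.toAlgebra
  letI algRB' : Algebra Γ(Spec (CommRingCat.of A), ⊤) Γ(P, U') :=
    ((p₁.appLE U U' inf_le_left).hom.comp (f.appLE ⊤ U le_top).hom).toAlgebra
  haveI tow1 : IsScalarTower Γ(Spec (CommRingCat.of A), ⊤) Γ(X, U) Γ(P, U') :=
    IsScalarTower.of_algebraMap_eq' rfl
  haveI tow2 : IsScalarTower Γ(Spec (CommRingCat.of A), ⊤) Γ(Spec (CommRingCat.of (A' i)), ⊤)
      Γ(P, U') :=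
    IsScalarTower.of_algebraMap_eq fun r => congr($(hpo.w).hom r)
  have hpo' : Algebra.IsPushout Γ(Spec (CommRingCat.of A), ⊤) Γ(X, U)
      Γ(Spec (CommRingCat.of (A' i)), ⊤) Γ(P, U') :=
    CommRingCat.isPushout_iff_isPushout.mp hpo
  haveI hpo'' : Algebra.IsPushout Γ(Spec (CommRingCat.of A), ⊤) Γ(Spec (CommRingCat.of (A' i)), ⊤)
      Γ(X, U) Γ(P, U') := hpo'.symm
  -- modules
  haveI qcF' : ((Scheme.Modules.pullback p₁).obj F).IsQuasicoherent :=
    Groth.Agent.Lib.H72PullbackQCoh.isQuasicoherent_pullback p₁ F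
  letI modAN : Module Γ(X, U) Γ((Scheme.Modules.pullback p₁).obj F, U') :=
    Module.compHom _ (p₁.appLE U U' inf_le_left).hom
  haveI tow3 : IsScalarTower Γ(X, U) Γ(P, U') Γ((Scheme.Modules.pullback p₁).obj F, U') :=
    .of_algebraMap_smul fun _ _ => rfl
  letI modSN : Module Γ(Spec (CommRingCat.of (A' i)), ⊤)
      Γ((Scheme.Modules.pullback p₁).obj F, U') :=
    Module.compHom _ (p₂.appLE ⊤ U' inf_le_right).hom
  haveI tow4 : IsScalarTower Γ(Spec (CommRingCat.of (A' i)), ⊤) Γ(P, U')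
      Γ((Scheme.Modules.pullback p₁).obj F, U') :=
    .of_algebraMap_smul fun _ _ => rfl
  obtain ⟨θ, hθ, -⟩ := exists_isBaseChange_sections' p₁ F hU' hU (inf_le_left : U' ≤ p₁ ⁻¹ᵁ U)
  refine hypAt_of_isPushout (A := Γ(Spec (CommRingCat.of A), ⊤)) (C := Γ(X, U))
    (A' := Γ(Spec (CommRingCat.of (A' i)), ⊤)) (C' := Γ(P, U'))
    (hU.primeIdealOf ⟨x, hxU⟩).asIdeal θ hθ ?_
  intro Q' _ hQ'p hQ'm
  obtain ⟨⟨x', hx'⟩, hx'Q⟩ : ∃ z, hU'.primeIdealOf z = ⟨Q', inferInstance⟩ :=
    hU'.isoSpec.hom.homeomorph.surjective _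
  -- the first projection of `x'` is `x`
  have h1 := IsAffineOpen.comap_primeIdealOf_appLE (f := p₁) U hU U' hU' inf_le_left hx'
  have hfst : p₁ x' = x := by
    have h2 : hU.primeIdealOf ⟨p₁ x', (inf_le_left : U' ≤ p₁ ⁻¹ᵁ U) hx'⟩ =
        hU.primeIdealOf ⟨x, hxU⟩ := by
      rw [← h1, hx'Q]
      exact PrimeSpectrum.ext hQ'p
    exact congrArg Subtype.val (hU.isoSpec.hom.homeomorph.injective h2)
  -- the second projection of `x'` is the closed point
  have h3 := IsAffineOpen.comap_primeIdealOf_appLE (f := p₂) ⊤ hY' U' hU' inf_le_right hx'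
  have hsnd : p₂ x' = IsLocalRing.closedPoint (A' i) := by
    apply eq_closedPoint_of_primeIdealOf
    have h4 : (isAffineOpen_top (Spec (CommRingCat.of (A' i)))).primeIdealOf ⟨p₂ x', trivial⟩ =
        ⟨maximalIdeal Γ(Spec (CommRingCat.of (A' i)), ⊤), inferInstance⟩ := by
      rw [← h3, hx'Q]
      exact PrimeSpectrum.ext hQ'm
    rw [h4]
    exact maximalIdeal.isMaximal _
  have hfl := hflat i x' hfst hsnd
  rw [isFlatOverAt_iff_flat_localized p₂ ((Scheme.Modules.pullback p₁).obj F) hU' hY'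
    inf_le_right x' hx'] at hfl
  exact flat_localized_congr _ Q' (congrArg PrimeSpectrum.asIdeal hx'Q) hfl

end Sch

end Groth.Agent.Lib.ArtinFamSch64
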