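import Groth.Agent.Lib.AdicFamC64
import Groth.Agent.Lib.ArtinFamSch64

/-!
# Flatness tested on a family of local base changes, Noetherian base: scheme level (helper64)

* `hypAt_chart`: the pointwise hypothesis `ArtinFamD64.HypAt` on an affine chart, from flatness of
  the pulled back module at the points of `X ×_Y Spec A'` over `x` and the closed point.
-/

set_option autoImplicit false
set_option maxHeartbeats 400000
set_option linter.style.haveILetI false
set_option linter.unusedSectionVars false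
universe u

open TensorProduct Function IsLocalRing
open CategoryTheory AlgebraicGeometry TopologicalSpace Opposite Limits
open Groth.Agent.Lib.ArtinFamD64 Groth.Agent.Lib.ArtinFamSch64 Groth.Agent.Lib.RelFlatBC64
open Groth.Agent.Lib.H72FlatModChart Groth.Agent.Lib.H72PullbackNat Groth.Agent.Lib.RelFlatSch64

namespace Groth.Agent.Lib.AdicFamSch64

set_option synthInstance.maxHeartbeats 400000 in
/-- The pointwise hypothesis `HypAt` on an affine chart. -/
theorem hypAt_chart {X Y : Scheme.{u}} (f : X ⟶ Y) (F : X.Modules) [F.IsQuasicoherent]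
    {A' : Type u} [CommRing A'] [IsLocalRing A'] (g : Spec (CommRingCat.of A') ⟶ Y)
    {U : X.Opens} {V : Y.Opens} (hU : IsAffineOpen U) (hV : IsAffineOpen V)
    (hUV : U ≤ f ⁻¹ᵁ V) (hV'V : (⊤ : (Spec (CommRingCat.of A')).Opens) ≤ g ⁻¹ᵁ V)
    (x : X) (hxU : x ∈ U)
    [IsLocalRing Γ(Spec (CommRingCat.of A'), ⊤)]
    (hflat : ∀ x' : ↥(pullback f g), pullback.fst f g x' = x →
      pullback.snd f g x' = IsLocalRing.closedPoint A' →
      FlatMod.IsFlatOverAt (pullback.snd f g)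
        ((Scheme.Modules.pullback (pullback.fst f g)).obj F) x') :
    letI : Algebra Γ(Y, V) Γ(X, U) := (f.appLE V U hUV).hom.toAlgebra
    letI : Module Γ(Y, V) Γ(F, U) := Module.compHom _ (f.appLE V U hUV).hom
    haveI : IsScalarTower Γ(Y, V) Γ(X, U) Γ(F, U) := .of_algebraMap_smul fun _ _ => rfl
    letI : Algebra Γ(Y, V) Γ(Spec (CommRingCat.of A'), ⊤) := (g.appLE V ⊤ hV'V).hom.toAlgebra
    HypAt Γ(Y, V) Γ(F, U) (hU.primeIdealOf ⟨x, hxU⟩).asIdeal Γ(Spec (CommRingCat.of A'), ⊤) := by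
  letI algRS : Algebra Γ(Y, V) Γ(X, U) := (f.appLE V U hUV).hom.toAlgebra
  letI modRM : Module Γ(Y, V) Γ(F, U) := Module.compHom _ (f.appLE V U hUV).hom
  haveI tow : IsScalarTower Γ(Y, V) Γ(X, U) Γ(F, U) := .of_algebraMap_smul fun _ _ => rfl
  letI algRA' : Algebra Γ(Y, V) Γ(Spec (CommRingCat.of A'), ⊤) := (g.appLE V ⊤ hV'V).hom.toAlgebra
  have hY' : IsAffineOpen (⊤ : (Spec (CommRingCat.of A')).Opens) := isAffineOpen_top _
  have H : IsPullback (pullback.fst f g) (pullback.snd f g) f g := IsPullback.of_hasPullback _ _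
  set P := pullback f g with hP
  set p₁ : P ⟶ X := pullback.fst f g with hp₁
  set p₂ : P ⟶ Spec (CommRingCat.of A') := pullback.snd f g with hp₂
  set U' : P.Opens := p₁ ⁻¹ᵁ U ⊓ p₂ ⁻¹ᵁ ⊤ with hU'def
  have hU' : IsAffineOpen U' := isAffineOpen_chart H hV hU hY' hUV hV'V
  have hpo := isPushout_chart H hV hU hY' hUV hV'V
  -- rings
  letI algAB' : Algebra Γ(X, U) Γ(P, U') := (p₁.appLE U U' inf_le_left).hom.toAlgebra
  letI algSB' : Algebra Γ(Spec (CommRingCat.of A'), ⊤) Γ(P, U') :=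
    (p₂.appLE ⊤ U' inf_le_right).hom.toAlgebra
  letI algRB' : Algebra Γ(Y, V) Γ(P, U') :=
    ((p₁.appLE U U' inf_le_left).hom.comp (f.appLE V U hUV).hom).toAlgebra
  haveI tow1 : IsScalarTower Γ(Y, V) Γ(X, U) Γ(P, U') :=
    IsScalarTower.of_algebraMap_eq' rfl
  haveI tow2 : IsScalarTower Γ(Y, V) Γ(Spec (CommRingCat.of A'), ⊤) Γ(P, U') :=
    IsScalarTower.of_algebraMap_eq fun r => congr($(hpo.w).hom r)
  have hpo' : Algebra.IsPushout Γ(Y, V) Γ(X, U) Γ(Spec (CommRingCat.of A'), ⊤) Γ(P, U') :=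
    CommRingCat.isPushout_iff_isPushout.mp hpo
  haveI hpo'' : Algebra.IsPushout Γ(Y, V) Γ(Spec (CommRingCat.of A'), ⊤) Γ(X, U) Γ(P, U') :=
    hpo'.symm
  -- modules
  haveI qcF' : ((Scheme.Modules.pullback p₁).obj F).IsQuasicoherent :=
    Groth.Agent.Lib.H72PullbackQCoh.isQuasicoherent_pullback p₁ F
  letI modAN : Module Γ(X, U) Γ((Scheme.Modules.pullback p₁).obj F, U') :=
    Module.compHom _ (p₁.appLE U U' inf_le_left).hom
  haveI tow3 : IsScalarTower Γ(X, U) Γ(P, U') Γ((Scheme.Modules.pullback p₁).obj F, U') :=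
    .of_algebraMap_smul fun _ _ => rfl
  letI modSN : Module Γ(Spec (CommRingCat.of A'), ⊤)
      Γ((Scheme.Modules.pullback p₁).obj F, U') :=
    Module.compHom _ (p₂.appLE ⊤ U' inf_le_right).hom
  haveI tow4 : IsScalarTower Γ(Spec (CommRingCat.of A'), ⊤) Γ(P, U')
      Γ((Scheme.Modules.pullback p₁).obj F, U') :=
    .of_algebraMap_smul fun _ _ => rfl
  obtain ⟨θ, hθ, -⟩ := exists_isBaseChange_sections' p₁ F hU' hU (inf_le_left : U' ≤ p₁ ⁻¹ᵁ U)
  refine hypAt_of_isPushout (A := Γ(Y, V)) (C := Γ(X, U))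
    (A' := Γ(Spec (CommRingCat.of A'), ⊤)) (C' := Γ(P, U'))
    (hU.primeIdealOf ⟨x, hxU⟩).asIdeal θ hθ ?_
  intro Q' _ hQ'p hQ'm
  obtain ⟨⟨x', hx'⟩, hx'Q⟩ : ∃ z, hU'.primeIdealOf z = ⟨Q', inferInstance⟩ :=
    hU'.isoSpec.hom.homeomorph.surjective _
  -- the first projection of `x'` is `x`
  have h1 := IsAffineOpen.comap_primeIdealOf_appLE (f := p₁) U hU U' hU' inf_le_left hx'
  have hfst : p₁ x' = x := by
    have h2 : hU.primeIdealOf ⟨p₁ x', (inf_le_left : U' ≤ p₁ ⁻¹ᵁ U) hx'⟩ =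
        hU.primeIdealOf ⟨x, hxU⟩ := by
      rw [← h1, hx'Q]
      exact PrimeSpectrum.ext hQ'p
    exact congrArg Subtype.val (hU.isoSpec.hom.homeomorph.injective h2)
  -- the second projection of `x'` is the closed point
  have h3 := IsAffineOpen.comap_primeIdealOf_appLE (f := p₂) ⊤ hY' U' hU' inf_le_right hx'
  have hsnd : p₂ x' = IsLocalRing.closedPoint A' := by
    apply eq_closedPoint_of_primeIdealOf
    have h4 : (isAffineOpen_top (Spec (CommRingCat.of A'))).primeIdealOf ⟨p₂ x', trivial⟩ =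
        ⟨maximalIdeal Γ(Spec (CommRingCat.of A'), ⊤), inferInstance⟩ := by
      rw [← h3, hx'Q]
      exact PrimeSpectrum.ext hQ'm
    rw [h4]
    exact maximalIdeal.isMaximal _
  have hfl := hflat x' hfst hsnd
  rw [isFlatOverAt_iff_flat_localized p₂ ((Scheme.Modules.pullback p₁).obj F) hU' hY'
    inf_le_right x' hx'] at hfl
  exact flat_localized_congr _ Q' (congrArg PrimeSpectrum.asIdeal hx'Q) hfl

theorem fromSpecStalk_mem {Y : Scheme.{u}} (y : Y) {V : Y.Opens} (hV : IsAffineOpen V)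
    (hyV : y ∈ V) (w : Spec (Y.presheaf.stalk y)) : Y.fromSpecStalk y w ∈ V := by
  rw [← hV.fromSpecStalk_eq_fromSpecStalk hyV, IsAffineOpen.fromSpecStalk, Scheme.Hom.comp_apply]
  have := hV.range_fromSpec
  have h2 : hV.fromSpec (Spec.map (Y.presheaf.germ V y hyV) w) ∈ Set.range hV.fromSpec :=
    ⟨_, rfl⟩
  rw [this] at h2
  exact h2

theorem appLE_fromSpecStalk {Y : Scheme.{u}} (y : Y) {V : Y.Opens} (hyV : y ∈ V)
    (e : (⊤ : (Spec (Y.presheaf.stalk y)).Opens) ≤ Y.fromSpecStalk y ⁻¹ᵁ V) :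
    (Y.fromSpecStalk y).appLE V ⊤ e =
      Y.presheaf.germ V y hyV ≫ (Scheme.ΓSpecIso (Y.presheaf.stalk y)).inv := by
  rw [Scheme.Hom.appLE, Scheme.fromSpecStalk_app hyV, Category.assoc, Category.assoc,
    ← Functor.map_comp]
  have : (homOfLE le_top : Y.fromSpecStalk y ⁻¹ᵁ V ⟶ ⊤).op ≫ (homOfLE e).op = 𝟙 _ := rfl
  rw [this, CategoryTheory.Functor.map_id, Category.comp_id]

theorem appLE_fromSpecStalk_comp {Y : Scheme.{u}} (y : Y) {V : Y.Opens} (hyV : y ∈ V)
    (S : CommRingCat.{u}) (ψ : Y.presheaf.stalk y ⟶ S)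
    (e : (⊤ : (Spec S).Opens) ≤ (Spec.map ψ ≫ Y.fromSpecStalk y) ⁻¹ᵁ V)
    (e' : (⊤ : (Spec (Y.presheaf.stalk y)).Opens) ≤ Y.fromSpecStalk y ⁻¹ᵁ V) :
    (Spec.map ψ ≫ Y.fromSpecStalk y).appLE V ⊤ e =
      Y.presheaf.germ V y hyV ≫ ψ ≫ (Scheme.ΓSpecIso S).inv := by
  have h1 : (Spec.map ψ).appLE ⊤ ⊤ le_top = (Spec.map ψ).appTop := Scheme.Hom.appLE_eq_app _
  rw [← Scheme.Hom.appLE_comp_appLE (Spec.map ψ) (Y.fromSpecStalk y) V ⊤ ⊤ e' le_top,
    appLE_fromSpecStalk y hyV e', h1, Category.assoc]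
  congr 1
  exact (Scheme.ΓSpecIso_inv_naturality ψ).symm

theorem comap_maximalIdeal_pow_ringEquiv {A A'' : Type*} [CommRing A] [CommRing A'']
    [IsLocalRing A] [IsLocalRing A''] (e : A ≃+* A'') (k : ℕ) :
    Ideal.comap (e : A →+* A'') (maximalIdeal A'' ^ k) = maximalIdeal A ^ k := by
  have h1 : maximalIdeal A'' = Ideal.map (e : A →+* A'') (maximalIdeal A) := by
    ext x
    rw [mem_maximalIdeal, mem_nonunits_iff]
    constructor
    · intro hx
      have : x = (e : A →+* A'') (e.symm x) := (e.apply_symm_apply x).symm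
      rw [this]
      apply Ideal.mem_map_of_mem
      rw [mem_maximalIdeal, mem_nonunits_iff]
      intro hu
      apply hx
      have h2 := hu.map e
      rwa [e.apply_symm_apply] at h2
    · intro hx hu
      have h2 : Ideal.map (e : A →+* A'') (maximalIdeal A) = ⊤ :=
        Ideal.eq_top_of_isUnit_mem _ hx hu
      have h3 : Ideal.comap (e : A →+* A'') (Ideal.map (e : A →+* A'') (maximalIdeal A)) =
          maximalIdeal A := Ideal.comap_map_of_bijective _ e.bijective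
      rw [h2, Ideal.comap_top] at h3
      exact (maximalIdeal.isMaximal A).ne_top h3.symm
  rw [h1, ← Ideal.map_pow]
  exact Ideal.comap_map_of_bijective (e : A →+* A'') e.bijective

set_option synthInstance.maxHeartbeats 400000 in
/-- **EGA IV 11.6-type criterion, scheme level.** -/
theorem isFlatOverAt_of_adic_family {X Y : Scheme.{u}} [IsLocallyNoetherian Y]
    (f : X ⟶ Y) [LocallyOfFiniteType f] (F : X.Modules) (hF : Coh.IsCoh F) (x : X)
    {ι : Type u} (A : ι → Type u) [∀ i, CommRing (A i)] [∀ i, IsLocalRing (A i)]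
    (φ : ∀ i, (Y.presheaf.stalk (f x) : Type u) →+* A i) [∀ i, IsLocalHom (φ i)]
    (htop : ∀ N : ℕ, ∃ s : Finset (ι × ℕ),
      ⨅ p ∈ s, Ideal.comap (φ p.1) (IsLocalRing.maximalIdeal (A p.1) ^ p.2) ≤
        IsLocalRing.maximalIdeal ↑(Y.presheaf.stalk (f x)) ^ N)
    (hflat : ∀ (i : ι)
      (x' : ↥(pullback f (Spec.map (CommRingCat.ofHom (φ i)) ≫ Y.fromSpecStalk (f x)))),
      pullback.fst f (Spec.map (CommRingCat.ofHom (φ i)) ≫ Y.fromSpecStalk (f x)) x' = x →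
      pullback.snd f (Spec.map (CommRingCat.ofHom (φ i)) ≫ Y.fromSpecStalk (f x)) x' =
        IsLocalRing.closedPoint (A i) →
      FlatMod.IsFlatOverAt
        (pullback.snd f (Spec.map (CommRingCat.ofHom (φ i)) ≫ Y.fromSpecStalk (f x)))
        ((Scheme.Modules.pullback
          (pullback.fst f (Spec.map (CommRingCat.ofHom (φ i)) ≫ Y.fromSpecStalk (f x)))).obj F)
        x') :
    FlatMod.IsFlatOverAt f F x := by
  classical
  haveI qcF : F.IsQuasicoherent := hF.1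
  obtain ⟨_, ⟨V, hV, rfl⟩, hyV, -⟩ :=
    Y.isBasis_affineOpens.exists_subset_of_mem_open (Set.mem_univ (f x)) isOpen_univ
  obtain ⟨_, ⟨U, hU, rfl⟩, hxU, hUV⟩ :=
    X.isBasis_affineOpens.exists_subset_of_mem_open (a := x) hyV (V.2.preimage f.continuous)
  have hUV' : U ≤ f ⁻¹ᵁ V := hUV
  rw [isFlatOverAt_iff_flat_localized f F hU hV hUV' x hxU]
  letI algRS : Algebra Γ(Y, V) Γ(X, U) := (f.appLE V U hUV').hom.toAlgebra
  letI modRM : Module Γ(Y, V) Γ(F, U) := Module.compHom _ (f.appLE V U hUV').hom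
  haveI tow : IsScalarTower Γ(Y, V) Γ(X, U) Γ(F, U) := .of_algebraMap_smul fun _ _ => rfl
  haveI noeth : IsNoetherianRing Γ(Y, V) := IsLocallyNoetherian.component_noetherian ⟨V, hV⟩
  haveI ft : Algebra.FiniteType Γ(Y, V) Γ(X, U) := f.finiteType_appLE hV hU hUV'
  haveI fin : Module.Finite Γ(X, U) Γ(F, U) :=
    Groth.Agent.Lib.CohFinite.finite_sections_of_isCoh F hF hU
  -- the local ring of the base
  letI algRO : Algebra Γ(Y, V) (Y.presheaf.stalk (f x)) :=
    TopCat.Presheaf.algebra_section_stalk Y.presheaf ⟨f x, hyV⟩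
  haveI hlocO : IsLocalization.AtPrime (Y.presheaf.stalk (f x))
      (hV.primeIdealOf ⟨f x, hyV⟩).asIdeal := hV.isLocalization_stalk ⟨f x, hyV⟩
  have hq : (hV.primeIdealOf ⟨f x, hyV⟩).asIdeal =
      (hU.primeIdealOf ⟨x, hxU⟩).asIdeal.comap (algebraMap Γ(Y, V) Γ(X, U)) :=
    (congrArg PrimeSpectrum.asIdeal
      (IsAffineOpen.comap_primeIdealOf_appLE (f := f) V hV U hU hUV' hxU)).symm
  -- the family
  let ψ : ∀ i, Γ(Spec (CommRingCat.of (A i)), ⊤) ≃+* A i := fun i =>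
    (Scheme.ΓSpecIso (CommRingCat.of (A i))).commRingCatIsoToRingEquiv
  haveI hlocfam : ∀ i, IsLocalRing Γ(Spec (CommRingCat.of (A i)), ⊤) :=
    fun i => (ψ i).symm.isLocalRing
  have htopS : (⊤ : (Spec (Y.presheaf.stalk (f x))).Opens) ≤ Y.fromSpecStalk (f x) ⁻¹ᵁ V :=
    fun w _ => fromSpecStalk_mem (f x) hV hyV w
  have htopV : ∀ i, (⊤ : (Spec (CommRingCat.of (A i))).Opens) ≤
      (Spec.map (CommRingCat.ofHom (φ i)) ≫ Y.fromSpecStalk (f x)) ⁻¹ᵁ V := fun i z _ => by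
    change (Spec.map (CommRingCat.ofHom (φ i)) ≫ Y.fromSpecStalk (f x)) z ∈ V
    rw [Scheme.Hom.comp_apply]
    exact fromSpecStalk_mem (f x) hV hyV _
  letI algR : ∀ i, Algebra Γ(Y, V) Γ(Spec (CommRingCat.of (A i)), ⊤) := fun i =>
    ((Spec.map (CommRingCat.ofHom (φ i)) ≫ Y.fromSpecStalk (f x)).appLE V ⊤ (htopV i)).hom.toAlgebra
  letI algO : ∀ i, Algebra (Y.presheaf.stalk (f x)) Γ(Spec (CommRingCat.of (A i)), ⊤) := fun i =>
    (((ψ i).symm : A i →+* Γ(Spec (CommRingCat.of (A i)), ⊤)).comp (φ i)).toAlgebra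
  haveI towfam : ∀ i, IsScalarTower Γ(Y, V) (Y.presheaf.stalk (f x))
      Γ(Spec (CommRingCat.of (A i)), ⊤) := fun i =>
    IsScalarTower.of_algebraMap_eq fun r => by
      have h1 := appLE_fromSpecStalk_comp (f x) hyV (CommRingCat.of (A i))
        (CommRingCat.ofHom (φ i)) (htopV i) htopS
      exact congr($(h1).hom r)
  haveI locfam : ∀ i, IsLocalHom (algebraMap (Y.presheaf.stalk (f x))
      Γ(Spec (CommRingCat.of (A i)), ⊤)) := fun i => by
    haveI : IsLocalHom ((ψ i).symm : A i →+* Γ(Spec (CommRingCat.of (A i)), ⊤)) :=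
      ⟨fun a ha => (isUnit_map_iff (ψ i).symm a).mp ha⟩
    exact RingHom.isLocalHom_comp _ _
  have htop' : ∀ N : ℕ, ∃ s : Finset (ι × ℕ),
      ⨅ j ∈ s, Ideal.comap (algebraMap (Y.presheaf.stalk (f x))
        Γ(Spec (CommRingCat.of (A j.1)), ⊤))
        (maximalIdeal Γ(Spec (CommRingCat.of (A j.1)), ⊤) ^ j.2) ≤
        maximalIdeal (Y.presheaf.stalk (f x)) ^ N := by
    intro N
    obtain ⟨s, hs⟩ := htop N
    refine ⟨s, ?_⟩
    have h1 : ∀ j : ι × ℕ, Ideal.comap (algebraMap (Y.presheaf.stalk (f x))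
        Γ(Spec (CommRingCat.of (A j.1)), ⊤))
        (maximalIdeal Γ(Spec (CommRingCat.of (A j.1)), ⊤) ^ j.2) =
        Ideal.comap (φ j.1) (maximalIdeal (A j.1) ^ j.2) := fun j => by
      change Ideal.comap (((ψ j.1).symm : A j.1 →+* Γ(Spec (CommRingCat.of (A j.1)), ⊤)).comp
        (φ j.1)) _ = _
      rw [← Ideal.comap_comap, comap_maximalIdeal_pow_ringEquiv]
    simp only [h1]
    exact hs
  exact Groth.Agent.Lib.AdicFamB64.flat_localized_of_adic_family (R := Γ(Y, V)) (B := Γ(X, U))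
    (M := Γ(F, U)) (hU.primeIdealOf ⟨x, hxU⟩).asIdeal (hV.primeIdealOf ⟨f x, hyV⟩).asIdeal hq
    (Y.presheaf.stalk (f x)) (fun i => Γ(Spec (CommRingCat.of (A i)), ⊤)) htop'
    (fun i => hypAt_chart f F (Spec.map (CommRingCat.ofHom (φ i)) ≫ Y.fromSpecStalk (f x))
      hU hV hUV' (htopV i) x hxU (hflat i))

end Groth.Agent.Lib.AdicFamSch64
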