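import Groth.Agent.Lib.ArtinFamExC64
import Groth.Agent.Lib.ArtinFamSch64

/-!
# Flatness over an Artinian local base tested at one point of each local base change, for a
primary residue field extension: scheme level (helper64)
-/

set_option autoImplicit false
set_option maxHeartbeats 400000
set_option linter.style.haveILetI false
set_option linter.unusedSectionVars false
universe u

open TensorProduct Function IsLocalRing
open Groth.Agent.Lib.FlatLimStage88 Groth.Agent.Lib.RelFlatBC64 Groth.Agent.Lib.ArtinFamExC64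
open scoped Groth.Agent.Lib.FlatLimStage88

namespace Groth.Agent.Lib.ArtinFamExSch64

section Abstract

variable {A C M A' C' M' : Type u} [CommRing A] [CommRing C] [Algebra A C]
  [AddCommGroup M] [Module C M] [Module A M] [IsScalarTower A C M]
  [CommRing A'] [CommRing C'] [Algebra A A'] [Algebra A' C'] [Algebra C C'] [Algebra A C']
  [IsScalarTower A A' C'] [IsScalarTower A C C'] [Algebra.IsPushout A A' C C']
  [AddCommGroup M'] [Module C' M'] [Module C M'] [IsScalarTower C C' M']
  [Module A' M'] [IsScalarTower A' C' M'] [IsLocalRing A']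

set_option synthInstance.maxHeartbeats 400000 in
/-- The existential pointwise hypothesis `HypEx` in abstract pushout form. -/
theorem hypEx_of_isPushout (p : Ideal C) [p.IsPrime] (ψ : M →ₗ[C] M') (hψ : IsBaseChange C' ψ)
    (Q' : Ideal C') [Q'.IsPrime] (h1 : Q'.comap (algebraMap C C') = p)
    (h2 : Q'.comap (algebraMap A' C') = maximalIdeal A')
    (hfl : Module.Flat A' (LocalizedModule Q'.primeCompl M')) :
    HypEx A M p A' := by
  let eC : A' ⊗[A] C ≃ₐ[A'] C' := Algebra.IsPushout.equiv A A' C C'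
  let ε : A' ⊗[A] M ≃+ M' := epsEquiv (A := A) ψ hψ
  have hεC : ∀ (c : A' ⊗[A] C) (x : A' ⊗[A] M), ε (c • x) = eC c • ε x :=
    fun c x => epsEquiv_smulC (A := A) ψ hψ c x
  have hεA : ∀ (a : A') (x : A' ⊗[A] M), ε (a • x) = a • ε x := by
    intro a x
    rw [← algebraMap_smul (A' ⊗[A] C) a x, hεC, eC.commutes, algebraMap_smul]
  let ε' : M' ≃ₗ[A'] A' ⊗[A] M :=
    { ε.symm with
      map_smul' := fun a x => by
        obtain ⟨y, rfl⟩ := ε.surjective x
        change ε.symm (a • ε y) = a • ε.symm (ε y)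
        rw [← hεA, AddEquiv.symm_apply_apply, AddEquiv.symm_apply_apply] }
  have hε' : ∀ (c : C') (x : M'), ε' (c • x) = eC.symm.toRingEquiv c • ε' x := by
    intro c x
    obtain ⟨y, rfl⟩ := ε.surjective x
    obtain ⟨d, rfl⟩ := eC.surjective c
    change ε.symm (eC d • ε y) = eC.symm (eC d) • ε.symm (ε y)
    rw [← hεC, AddEquiv.symm_apply_apply, AddEquiv.symm_apply_apply, AlgEquiv.symm_apply_apply]
  haveI hQprime : (Q'.comap eC.toRingEquiv).IsPrime := Ideal.comap_isPrime _ Q'
  have hcc : (Q'.comap eC.toRingEquiv).comap eC.symm.toRingEquiv = Q' := by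
    ext c
    rw [Ideal.mem_comap, Ideal.mem_comap]
    change eC (eC.symm c) ∈ Q' ↔ _
    rw [AlgEquiv.apply_symm_apply]
  haveI : ((Q'.comap eC.toRingEquiv).comap eC.symm.toRingEquiv).IsPrime :=
    Ideal.comap_isPrime _ _
  refine ⟨⟨Q'.comap eC.toRingEquiv, hQprime⟩, ?_, ?_, ?_⟩
  · rw [← h1]
    ext c
    rw [Ideal.mem_comap, Ideal.mem_comap, Ideal.mem_comap,
      Algebra.TensorProduct.includeRight_apply]
    have : eC ((1 : A') ⊗ₜ[A] c) = algebraMap C C' c := by
      change (Algebra.IsPushout.equiv A A' C C') ((1 : A') ⊗ₜ[A] c) = _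
      rw [Algebra.IsPushout.equiv_tmul, map_one, one_mul]
    change eC ((1 : A') ⊗ₜ[A] c) ∈ Q' ↔ _
    rw [this]
  · rw [← h2]
    ext a
    rw [Ideal.mem_comap, Ideal.mem_comap, Ideal.mem_comap]
    change eC (algebraMap A' (A' ⊗[A] C) a) ∈ Q' ↔ _
    rw [eC.commutes]
  · exact Groth.Agent.Lib.FlatLimOpenBC88.flat_localizedModule_of_semilinearEquiv
      eC.symm.toRingEquiv ε' hε' (Q'.comap eC.toRingEquiv)
      (flat_localized_congr Q' _ hcc.symm hfl)

end Abstract


section Res

open CategoryTheory AlgebraicGeometry TopologicalSpace Opposite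

/-- Over a local ring, evaluation of global functions at the closed point is surjective. -/
theorem surjective_Γevaluation {A : Type u} [CommRing A] [IsLocalRing A]
    (y : Spec (CommRingCat.of A)) (hy : y = IsLocalRing.closedPoint A) :
    Surjective ((Spec (CommRingCat.of A)).Γevaluation y) := by
  subst hy
  have h1 : (Spec (CommRingCat.of A)).Γevaluation (IsLocalRing.closedPoint A) =
      ((Scheme.ΓSpecIso (CommRingCat.of A)).hom ≫ (stalkClosedPointIso (CommRingCat.of A)).inv) ≫
        (Spec (CommRingCat.of A)).residue (IsLocalRing.closedPoint A) := by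
    rw [ΓSpecIso_hom_stalkClosedPointIso_inv]
    rfl
  rw [h1]
  have h2 : Surjective ((Scheme.ΓSpecIso (CommRingCat.of A)).hom ≫
      (stalkClosedPointIso (CommRingCat.of A)).inv) :=
    (ConcreteCategory.bijective_of_isIso _).2
  intro z
  obtain ⟨σ, rfl⟩ := Scheme.residue_surjective _ _ z
  obtain ⟨a, rfl⟩ := h2 σ
  exact ⟨a, rfl⟩

variable {X : Scheme.{u}} {U : X.Opens} (hU : IsAffineOpen U) (x : X) (hx : x ∈ U)

theorem ker_evaluation :
    RingHom.ker (X.evaluation U x hx).hom = (hU.primeIdealOf ⟨x, hx⟩).asIdeal := by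
  ext b
  rw [RingHom.mem_ker, hU.primeIdealOf_eq_map_closedPoint ⟨x, hx⟩]
  change IsLocalRing.residue _ (X.presheaf.germ U x hx b) = 0 ↔
    X.presheaf.germ U x hx b ∈ maximalIdeal _
  exact IsLocalRing.residue_eq_zero_iff _

theorem frac_evaluation (z : X.residueField x) :
    ∃ b s : Γ(X, U), s ∉ (hU.primeIdealOf ⟨x, hx⟩).asIdeal ∧
      z * X.evaluation U x hx s = X.evaluation U x hx b := by
  obtain ⟨σ, rfl⟩ := Scheme.residue_surjective _ _ z
  letI := TopCat.Presheaf.algebra_section_stalk X.presheaf ⟨x, hx⟩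
  haveI := hU.isLocalization_stalk ⟨x, hx⟩
  obtain ⟨⟨b, s⟩, hbs⟩ := IsLocalization.surj (hU.primeIdealOf ⟨x, hx⟩).asIdeal.primeCompl σ
  refine ⟨b, s.1, s.2, ?_⟩
  have := congrArg (X.residue x) hbs
  rw [map_mul] at this
  exact this

end Res


section Sch

open CategoryTheory AlgebraicGeometry TopologicalSpace Opposite Limits
open Groth.Agent.Lib.H72FlatModChart Groth.Agent.Lib.H72PullbackNat Groth.Agent.Lib.RelFlatSch64
  Groth.Agent.Lib.ArtinFamSch64

/-- Every point of the spectrum of an Artinian local ring is the closed point. -/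
theorem eq_closedPoint_of_isArtinian {A : Type u} [CommRing A] [IsArtinianRing A] [IsLocalRing A]
    (y : Spec (CommRingCat.of A)) : y = IsLocalRing.closedPoint A := by
  apply PrimeSpectrum.ext
  haveI : y.asIdeal.IsMaximal := IsArtinianRing.isMaximal_of_isPrime y.asIdeal
  exact IsLocalRing.eq_maximalIdeal inferInstance

set_option synthInstance.maxHeartbeats 400000 in
/-- **EGA IV 11.4-type criterion (existential version), scheme level**: flatness over an Artinian
local base at a point with primary residue field extension, tested on a jointly injective family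
of local base changes, at ONE point over `x` and the closed point for each member. -/
theorem isFlatOverAt_of_family_ex {A : Type u} [CommRing A]
    [IsArtinianRing A] [IsLocalRing A] {X : Scheme.{u}} (f : X ⟶ Spec (CommRingCat.of A))
    [LocallyOfFiniteType f] (F : X.Modules) (hF : Coh.IsCoh F) (x : X)
    {ι : Type u} (A' : ι → Type u) [∀ i, CommRing (A' i)] [∀ i, IsLocalRing (A' i)]
    (u : ∀ i, A →+* A' i)
    (hu : ∀ a : A, (∀ i, u i a = 0) → a = 0)
    (hprim : letI := (f.residueFieldMap x).hom.toAlgebra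
      ∀ a : ↑(X.residueField x), IsSeparable ↑((Spec (CommRingCat.of A)).residueField (f x)) a →
        a ∈ (f.residueFieldMap x).hom.range)
    (hflat : ∀ i : ι, ∃ x' : ↥(pullback f (Spec.map (CommRingCat.ofHom (u i)))),
      pullback.fst f (Spec.map (CommRingCat.ofHom (u i))) x' = x ∧
      pullback.snd f (Spec.map (CommRingCat.ofHom (u i))) x' = IsLocalRing.closedPoint (A' i) ∧
      FlatMod.IsFlatOverAt (pullback.snd f (Spec.map (CommRingCat.ofHom (u i))))
        ((Scheme.Modules.pullback (pullback.fst f (Spec.map (CommRingCat.ofHom (u i))))).obj F) x') :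
    FlatMod.IsFlatOverAt f F x := by
  classical
  have hY : IsAffineOpen (⊤ : (Spec (CommRingCat.of A)).Opens) := isAffineOpen_top _
  let φ : Γ(Spec (CommRingCat.of A), ⊤) ≃+* A :=
    (Scheme.ΓSpecIso (CommRingCat.of A)).commRingCatIsoToRingEquiv
  haveI : IsLocalRing Γ(Spec (CommRingCat.of A), ⊤) := φ.symm.isLocalRing
  haveI : IsArtinianRing Γ(Spec (CommRingCat.of A), ⊤) := φ.symm.isArtinianRing
  let φ' : ∀ i, Γ(Spec (CommRingCat.of (A' i)), ⊤) ≃+* A' i := fun i =>
    (Scheme.ΓSpecIso (CommRingCat.of (A' i))).commRingCatIsoToRingEquiv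
  haveI hloc' : ∀ i, IsLocalRing Γ(Spec (CommRingCat.of (A' i)), ⊤) :=
    fun i => (φ' i).symm.isLocalRing
  letI alg' : ∀ i, Algebra Γ(Spec (CommRingCat.of A), ⊤) Γ(Spec (CommRingCat.of (A' i)), ⊤) :=
    fun i => ((Spec.map (CommRingCat.ofHom (u i))).appLE ⊤ ⊤ le_top).hom.toAlgebra
  -- joint injectivity
  have hnat : ∀ (i : ι) (a : Γ(Spec (CommRingCat.of A), ⊤)),
      φ' i (algebraMap Γ(Spec (CommRingCat.of A), ⊤) Γ(Spec (CommRingCat.of (A' i)), ⊤) a) =
        u i (φ a) := by
    intro i a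
    have happ : (Spec.map (CommRingCat.ofHom (u i))).appLE ⊤ ⊤ le_top =
        (Spec.map (CommRingCat.ofHom (u i))).appTop :=
      Scheme.Hom.appLE_eq_app _
    have h1 := Scheme.ΓSpecIso_naturality (CommRingCat.ofHom (u i))
    rw [← happ] at h1
    exact congr($(h1).hom a)
  have hinj : ∀ a : Γ(Spec (CommRingCat.of A), ⊤),
      (∀ i, algebraMap Γ(Spec (CommRingCat.of A), ⊤) Γ(Spec (CommRingCat.of (A' i)), ⊤) a = 0) →
        a = 0 := by
    intro a ha
    have h1 : φ a = 0 := by
      apply hu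
      intro i
      rw [← hnat, ha i, map_zero]
    exact (map_eq_zero_iff φ φ.injective).mp h1
  -- the chart on `X`
  obtain ⟨_, ⟨U, hU, rfl⟩, hxU, -⟩ :=
    X.isBasis_affineOpens.exists_subset_of_mem_open (Set.mem_univ x) isOpen_univ
  haveI qcF : F.IsQuasicoherent := hF.1
  rw [isFlatOverAt_iff_flat_localized f F hU hY le_top x hxU]
  letI algRS : Algebra Γ(Spec (CommRingCat.of A), ⊤) Γ(X, U) := (f.appLE ⊤ U le_top).hom.toAlgebra
  letI modRM : Module Γ(Spec (CommRingCat.of A), ⊤) Γ(F, U) :=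
    Module.compHom _ (f.appLE ⊤ U le_top).hom
  haveI tow : IsScalarTower Γ(Spec (CommRingCat.of A), ⊤) Γ(X, U) Γ(F, U) :=
    .of_algebraMap_smul fun _ _ => rfl
  haveI ft : Algebra.FiniteType Γ(Spec (CommRingCat.of A), ⊤) Γ(X, U) :=
    f.finiteType_appLE hY hU le_top
  haveI noeth : IsNoetherianRing Γ(X, U) :=
    Algebra.FiniteType.isNoetherianRing Γ(Spec (CommRingCat.of A), ⊤) Γ(X, U)
  haveI fin : Module.Finite Γ(X, U) Γ(F, U) :=
    Groth.Agent.Lib.CohFinite.finite_sections_of_isCoh F hF hU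
  -- residue fields
  letI algAk : Algebra Γ(Spec (CommRingCat.of A), ⊤)
      ((Spec (CommRingCat.of A)).residueField (f x)) :=
    ((Spec (CommRingCat.of A)).Γevaluation (f x)).hom.toAlgebra
  letI algBκ : Algebra Γ(X, U) (X.residueField x) := (X.evaluation U x hxU).hom.toAlgebra
  letI algkκ : Algebra ((Spec (CommRingCat.of A)).residueField (f x)) (X.residueField x) :=
    (f.residueFieldMap x).hom.toAlgebra
  letI algAκ : Algebra Γ(Spec (CommRingCat.of A), ⊤) (X.residueField x) :=
    ((X.evaluation U x hxU).hom.comp (f.appLE ⊤ U le_top).hom).toAlgebra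
  haveI towκ1 : IsScalarTower Γ(Spec (CommRingCat.of A), ⊤) Γ(X, U) (X.residueField x) :=
    IsScalarTower.of_algebraMap_eq fun _ => rfl
  haveI towκ2 : IsScalarTower Γ(Spec (CommRingCat.of A), ⊤)
      ((Spec (CommRingCat.of A)).residueField (f x)) (X.residueField x) := by
    refine IsScalarTower.of_algebraMap_eq fun a => ?_
    change X.evaluation U x hxU (f.appLE ⊤ U le_top a) =
      f.residueFieldMap x ((Spec (CommRingCat.of A)).Γevaluation (f x) a)
    rw [Scheme.Γevaluation_naturality_apply]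
    change X.residue x (X.presheaf.germ U x hxU (f.appLE ⊤ U le_top a)) =
      X.residue x (X.presheaf.germ ⊤ x trivial (f.appTop a))
    congr 1
    rw [Scheme.Hom.appLE, CommRingCat.comp_apply]
    exact TopCat.Presheaf.germ_res_apply _ _ _ _ _
  have hk : Surjective (algebraMap Γ(Spec (CommRingCat.of A), ⊤)
      ((Spec (CommRingCat.of A)).residueField (f x))) :=
    surjective_Γevaluation (f x) (eq_closedPoint_of_isArtinian (f x))
  have hκ : RingHom.ker (algebraMap Γ(X, U) (X.residueField x)) =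
      (hU.primeIdealOf ⟨x, hxU⟩).asIdeal := ker_evaluation hU x hxU
  have hfrac : ∀ z : X.residueField x, ∃ b s : Γ(X, U),
      s ∉ (hU.primeIdealOf ⟨x, hxU⟩).asIdeal ∧
        z * algebraMap Γ(X, U) (X.residueField x) s = algebraMap Γ(X, U) (X.residueField x) b :=
    frac_evaluation hU x hxU
  have hprim' : ∀ α : X.residueField x,
      IsSeparable ((Spec (CommRingCat.of A)).residueField (f x)) α →
        α ∈ Set.range (algebraMap ((Spec (CommRingCat.of A)).residueField (f x))
          (X.residueField x)) := by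
    intro α hα
    obtain ⟨l, hl⟩ := RingHom.mem_range.mp (hprim α hα)
    exact ⟨l, hl⟩
  refine flat_localized_of_family_ex (A := Γ(Spec (CommRingCat.of A), ⊤)) (B := Γ(X, U))
    (M := Γ(F, U)) (hU.primeIdealOf ⟨x, hxU⟩).asIdeal hk hκ hfrac hprim'
    (fun i => Γ(Spec (CommRingCat.of (A' i)), ⊤)) hinj (fun i => ?_)
  -- the pointwise hypothesis for `i`
  have hY' : IsAffineOpen (⊤ : (Spec (CommRingCat.of (A' i))).Opens) := isAffineOpen_top _
  have H : IsPullback (pullback.fst f (Spec.map (CommRingCat.ofHom (u i))))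
      (pullback.snd f (Spec.map (CommRingCat.ofHom (u i)))) f
      (Spec.map (CommRingCat.ofHom (u i))) := IsPullback.of_hasPullback _ _
  have hflati := hflat i
  set P := pullback f (Spec.map (CommRingCat.ofHom (u i))) with hP
  set p₁ : P ⟶ X := pullback.fst f (Spec.map (CommRingCat.ofHom (u i))) with hp₁
  set p₂ : P ⟶ Spec (CommRingCat.of (A' i)) :=
    pullback.snd f (Spec.map (CommRingCat.ofHom (u i))) with hp₂
  obtain ⟨x', hfst, hsnd, hfl⟩ := hflati
  set U' : P.Opens := p₁ ⁻¹ᵁ U ⊓ p₂ ⁻¹ᵁ ⊤ with hU'def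
  have hU' : IsAffineOpen U' := isAffineOpen_chart H hY hU hY' le_top le_top
  have hpo := isPushout_chart H hY hU hY' le_top le_top
  have hx' : x' ∈ U' := by
    refine ⟨?_, trivial⟩
    change p₁ x' ∈ U
    rw [hfst]
    exact hxU
  -- rings
  letI algAB' : Algebra Γ(X, U) Γ(P, U') := (p₁.appLE U U' inf_le_left).hom.toAlgebra
  letI algSB' : Algebra Γ(Spec (CommRingCat.of (A' i)), ⊤) Γ(P, U') :=
    (p₂.appLE ⊤ U' inf_le_right).hom.toAlgebra
  letI algRB' : Algebra Γ(Spec (CommRingCat.of A), ⊤) Γ(P, U') :=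
    ((p₁.appLE U U' inf_le_left).hom.comp (f.appLE ⊤ U le_top).hom).toAlgebra
  haveI tow1 : IsScalarTower Γ(Spec (CommRingCat.of A), ⊤) Γ(X, U) Γ(P, U') :=
    IsScalarTower.of_algebraMap_eq' rfl
  haveI tow2 : IsScalarTower Γ(Spec (CommRingCat.of A), ⊤) Γ(Spec (CommRingCat.of (A' i)), ⊤)
      Γ(P, U') :=
    IsScalarTower.of_algebraMap_eq fun r => congr($(hpo.w).hom r)
  have hpo' : Algebra.IsPushout Γ(Spec (CommRingCat.of A), ⊤) Γ(X, U)
      Γ(Spec (CommRingCat.of (A' i)), ⊤) Γ(P, U') :=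
    CommRingCat.isPushout_iff_isPushout.mp hpo
  haveI hpo'' : Algebra.IsPushout Γ(Spec (CommRingCat.of A), ⊤) Γ(Spec (CommRingCat.of (A' i)), ⊤)
      Γ(X, U) Γ(P, U') := hpo'.symm
  -- modules
  haveI qcF' : ((Scheme.Modules.pullback p₁).obj F).IsQuasicoherent :=
    Groth.Agent.Lib.H72PullbackQCoh.isQuasicoherent_pullback p₁ F
  letI modAN : Module Γ(X, U) Γ((Scheme.Modules.pullback p₁).obj F, U') :=
    Module.compHom _ (p₁.appLE U U' inf_le_left).hom
  haveI tow3 : IsScalarTower Γ(X, U) Γ(P, U') Γ((Scheme.Modules.pullback p₁).obj F, U') :=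
    .of_algebraMap_smul fun _ _ => rfl
  letI modSN : Module Γ(Spec (CommRingCat.of (A' i)), ⊤)
      Γ((Scheme.Modules.pullback p₁).obj F, U') :=
    Module.compHom _ (p₂.appLE ⊤ U' inf_le_right).hom
  haveI tow4 : IsScalarTower Γ(Spec (CommRingCat.of (A' i)), ⊤) Γ(P, U')
      Γ((Scheme.Modules.pullback p₁).obj F, U') :=
    .of_algebraMap_smul fun _ _ => rfl
  obtain ⟨θ, hθ, -⟩ := exists_isBaseChange_sections' p₁ F hU' hU (inf_le_left : U' ≤ p₁ ⁻¹ᵁ U)
  rw [isFlatOverAt_iff_flat_localized p₂ ((Scheme.Modules.pullback p₁).obj F) hU' hY'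
    inf_le_right x' hx'] at hfl
  refine hypEx_of_isPushout (A := Γ(Spec (CommRingCat.of A), ⊤)) (C := Γ(X, U))
    (A' := Γ(Spec (CommRingCat.of (A' i)), ⊤)) (C' := Γ(P, U'))
    (hU.primeIdealOf ⟨x, hxU⟩).asIdeal θ hθ (hU'.primeIdealOf ⟨x', hx'⟩).asIdeal ?_ ?_ hfl
  · -- lies over `p`
    have h1 := IsAffineOpen.comap_primeIdealOf_appLE (f := p₁) U hU U' hU' inf_le_left hx'
    have h2 : hU.primeIdealOf ⟨p₁ x', (inf_le_left : U' ≤ p₁ ⁻¹ᵁ U) hx'⟩ =
        hU.primeIdealOf ⟨x, hxU⟩ := by
      congr 1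
      exact Subtype.ext hfst
    rw [← h2, ← h1]
    rfl
  · -- lies over the closed point
    have h3 := IsAffineOpen.comap_primeIdealOf_appLE (f := p₂) ⊤ hY' U' hU' inf_le_right hx'
    have h4 : ((hU'.primeIdealOf ⟨x', hx'⟩).comap (p₂.appLE ⊤ U' inf_le_right).hom).asIdeal =
        maximalIdeal Γ(Spec (CommRingCat.of (A' i)), ⊤) := by
      rw [h3]
      have h5 : (isAffineOpen_top (Spec (CommRingCat.of (A' i)))).primeIdealOf
          ⟨p₂ x', trivial⟩ = (isAffineOpen_top (Spec (CommRingCat.of (A' i)))).primeIdealOf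
            ⟨IsLocalRing.closedPoint (A' i), trivial⟩ := by
        congr 1
        exact Subtype.ext hsnd
      rw [h5]
      -- the prime of the closed point is the maximal ideal
      have h6 := comap_primeIdealOf_top (CommRingCat.of (A' i)) (IsLocalRing.closedPoint (A' i))
      have h7 : ((isAffineOpen_top (Spec (CommRingCat.of (A' i)))).primeIdealOf
          ⟨IsLocalRing.closedPoint (A' i), trivial⟩).asIdeal.IsMaximal := by
        have hmax : ((isAffineOpen_top (Spec (CommRingCat.of (A' i)))).primeIdealOf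
            ⟨IsLocalRing.closedPoint (A' i), trivial⟩).asIdeal =
            (maximalIdeal (A' i)).comap ((φ' i) : Γ(Spec (CommRingCat.of (A' i)), ⊤) →+* A' i) := by
          ext b
          rw [Ideal.mem_comap]
          change _ ↔ (φ' i) b ∈ (IsLocalRing.closedPoint (A' i)).asIdeal
          rw [← h6, Ideal.mem_comap]
          have : (Scheme.ΓSpecIso (CommRingCat.of (A' i))).inv.hom ((φ' i) b) = b :=
            (φ' i).symm_apply_apply b
          rw [this]
        rw [hmax]
        exact Ideal.comap_isMaximal_of_surjective _ (φ' i).surjective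
      exact IsLocalRing.eq_maximalIdeal h7
    exact h4

end Sch

end Groth.Agent.Lib.ArtinFamExSch64
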