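import Groth.Agent.Lib.AdicFamEx64
import Groth.Agent.Lib.AdicFamSch64
import Groth.Agent.Lib.ArtinFamExSch64

/-!
# Flatness tested at ONE point of each member of a family of local base changes, Noetherian base,
primary residue field extension: scheme level (helper64)

* `hypEx_chart`: the existential pointwise hypothesis `ArtinFamExC64.HypEx` on an affine chart.
* `isFlatOverAt_of_adic_family_ex`: EGA IV 11.6-type criterion (existential version).
-/

set_option autoImplicit false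
set_option maxHeartbeats 400000
set_option linter.style.haveILetI false
set_option linter.unusedSectionVars false
universe u

open TensorProduct Function IsLocalRing
open CategoryTheory AlgebraicGeometry TopologicalSpace Opposite Limits
open Groth.Agent.Lib.ArtinFamD64 Groth.Agent.Lib.ArtinFamSch64 Groth.Agent.Lib.RelFlatBC64
open Groth.Agent.Lib.H72FlatModChart Groth.Agent.Lib.H72PullbackNat Groth.Agent.Lib.RelFlatSch64
open Groth.Agent.Lib.ArtinFamExC64 Groth.Agent.Lib.ArtinFamExSch64 Groth.Agent.Lib.AdicFamSch64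

namespace Groth.Agent.Lib.AdicFamExSch64

set_option synthInstance.maxHeartbeats 400000 in
/-- The existential pointwise hypothesis `HypEx` on an affine chart. -/
theorem hypEx_chart {X Y : Scheme.{u}} (f : X ⟶ Y) (F : X.Modules) [F.IsQuasicoherent]
    {A' : Type u} [CommRing A'] [IsLocalRing A'] (g : Spec (CommRingCat.of A') ⟶ Y)
    {U : X.Opens} {V : Y.Opens} (hU : IsAffineOpen U) (hV : IsAffineOpen V)
    (hUV : U ≤ f ⁻¹ᵁ V) (hV'V : (⊤ : (Spec (CommRingCat.of A')).Opens) ≤ g ⁻¹ᵁ V)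
    (x : X) (hxU : x ∈ U)
    [IsLocalRing Γ(Spec (CommRingCat.of A'), ⊤)]
    (hflat : ∃ x' : ↥(pullback f g), pullback.fst f g x' = x ∧
      pullback.snd f g x' = IsLocalRing.closedPoint A' ∧
      FlatMod.IsFlatOverAt (pullback.snd f g)
        ((Scheme.Modules.pullback (pullback.fst f g)).obj F) x') :
    letI : Algebra Γ(Y, V) Γ(X, U) := (f.appLE V U hUV).hom.toAlgebra
    letI : Module Γ(Y, V) Γ(F, U) := Module.compHom _ (f.appLE V U hUV).hom
    haveI : IsScalarTower Γ(Y, V) Γ(X, U) Γ(F, U) := .of_algebraMap_smul fun _ _ => rfl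
    letI : Algebra Γ(Y, V) Γ(Spec (CommRingCat.of A'), ⊤) := (g.appLE V ⊤ hV'V).hom.toAlgebra
    HypEx Γ(Y, V) Γ(F, U) (hU.primeIdealOf ⟨x, hxU⟩).asIdeal Γ(Spec (CommRingCat.of A'), ⊤) := by
  letI algRS : Algebra Γ(Y, V) Γ(X, U) := (f.appLE V U hUV).hom.toAlgebra
  letI modRM : Module Γ(Y, V) Γ(F, U) := Module.compHom _ (f.appLE V U hUV).hom
  haveI tow : IsScalarTower Γ(Y, V) Γ(X, U) Γ(F, U) := .of_algebraMap_smul fun _ _ => rfl
  letI algRA' : Algebra Γ(Y, V) Γ(Spec (CommRingCat.of A'), ⊤) := (g.appLE V ⊤ hV'V).hom.toAlgebra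
  have hY' : IsAffineOpen (⊤ : (Spec (CommRingCat.of A')).Opens) := isAffineOpen_top _
  have H : IsPullback (pullback.fst f g) (pullback.snd f g) f g := IsPullback.of_hasPullback _ _
  let φ' : Γ(Spec (CommRingCat.of A'), ⊤) ≃+* A' :=
    (Scheme.ΓSpecIso (CommRingCat.of A')).commRingCatIsoToRingEquiv
  set P := pullback f g with hP
  set p₁ : P ⟶ X := pullback.fst f g with hp₁
  set p₂ : P ⟶ Spec (CommRingCat.of A') := pullback.snd f g with hp₂
  obtain ⟨x', hfst, hsnd, hfl⟩ := hflat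
  set U' : P.Opens := p₁ ⁻¹ᵁ U ⊓ p₂ ⁻¹ᵁ ⊤ with hU'def
  have hU' : IsAffineOpen U' := isAffineOpen_chart H hV hU hY' hUV hV'V
  have hpo := isPushout_chart H hV hU hY' hUV hV'V
  have hx' : x' ∈ U' := by
    refine ⟨?_, trivial⟩
    change p₁ x' ∈ U
    rw [hfst]
    exact hxU
  -- rings
  letI algAB' : Algebra Γ(X, U) Γ(P, U') := (p₁.appLE U U' inf_le_left).hom.toAlgebra
  letI algSB' : Algebra Γ(Spec (CommRingCat.of A'), ⊤) Γ(P, U') :=
    (p₂.appLE ⊤ U' inf_le_right).hom.toAlgebra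
  letI algRB' : Algebra Γ(Y, V) Γ(P, U') :=
    ((p₁.appLE U U' inf_le_left).hom.comp (f.appLE V U hUV).hom).toAlgebra
  haveI tow1 : IsScalarTower Γ(Y, V) Γ(X, U) Γ(P, U') :=
    IsScalarTower.of_algebraMap_eq' rfl
  haveI tow2 : IsScalarTower Γ(Y, V) Γ(Spec (CommRingCat.of A'), ⊤) Γ(P, U') :=
    IsScalarTower.of_algebraMap_eq fun r => congr($(hpo.w).hom r)
  have hpo' : Algebra.IsPushout Γ(Y, V) Γ(X, U) Γ(Spec (CommRingCat.of A'), ⊤) Γ(P, U') :=
    CommRingCat.isPushout_iff_isPushout.mp hpo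
  haveI hpo'' : Algebra.IsPushout Γ(Y, V) Γ(Spec (CommRingCat.of A'), ⊤) Γ(X, U) Γ(P, U') :=
    hpo'.symm
  -- modules
  haveI qcF' : ((Scheme.Modules.pullback p₁).obj F).IsQuasicoherent :=
    Groth.Agent.Lib.H72PullbackQCoh.isQuasicoherent_pullback p₁ F
  letI modAN : Module Γ(X, U) Γ((Scheme.Modules.pullback p₁).obj F, U') :=
    Module.compHom _ (p₁.appLE U U' inf_le_left).hom
  haveI tow3 : IsScalarTower Γ(X, U) Γ(P, U') Γ((Scheme.Modules.pullback p₁).obj F, U') :=
    .of_algebraMap_smul fun _ _ => rfl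
  letI modSN : Module Γ(Spec (CommRingCat.of A'), ⊤)
      Γ((Scheme.Modules.pullback p₁).obj F, U') :=
    Module.compHom _ (p₂.appLE ⊤ U' inf_le_right).hom
  haveI tow4 : IsScalarTower Γ(Spec (CommRingCat.of A'), ⊤) Γ(P, U')
      Γ((Scheme.Modules.pullback p₁).obj F, U') :=
    .of_algebraMap_smul fun _ _ => rfl
  obtain ⟨θ, hθ, -⟩ := exists_isBaseChange_sections' p₁ F hU' hU (inf_le_left : U' ≤ p₁ ⁻¹ᵁ U)
  rw [isFlatOverAt_iff_flat_localized p₂ ((Scheme.Modules.pullback p₁).obj F) hU' hY'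
    inf_le_right x' hx'] at hfl
  refine hypEx_of_isPushout (A := Γ(Y, V)) (C := Γ(X, U))
    (A' := Γ(Spec (CommRingCat.of A'), ⊤)) (C' := Γ(P, U'))
    (hU.primeIdealOf ⟨x, hxU⟩).asIdeal θ hθ (hU'.primeIdealOf ⟨x', hx'⟩).asIdeal ?_ ?_ hfl
  · -- lies over `p`
    have h1 := IsAffineOpen.comap_primeIdealOf_appLE (f := p₁) U hU U' hU' inf_le_left hx'
    have h2 : hU.primeIdealOf ⟨p₁ x', (inf_le_left : U' ≤ p₁ ⁻¹ᵁ U) hx'⟩ =
        hU.primeIdealOf ⟨x, hxU⟩ := by
      congr 1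
      exact Subtype.ext hfst
    rw [← h2, ← h1]
    rfl
  · -- lies over the closed point
    have h3 := IsAffineOpen.comap_primeIdealOf_appLE (f := p₂) ⊤ hY' U' hU' inf_le_right hx'
    have h4 : ((hU'.primeIdealOf ⟨x', hx'⟩).comap (p₂.appLE ⊤ U' inf_le_right).hom).asIdeal =
        maximalIdeal Γ(Spec (CommRingCat.of A'), ⊤) := by
      rw [h3]
      have h5 : (isAffineOpen_top (Spec (CommRingCat.of A'))).primeIdealOf
          ⟨p₂ x', trivial⟩ = (isAffineOpen_top (Spec (CommRingCat.of A'))).primeIdealOf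
            ⟨IsLocalRing.closedPoint A', trivial⟩ := by
        congr 1
        exact Subtype.ext hsnd
      rw [h5]
      -- the prime of the closed point is the maximal ideal
      have h6 := comap_primeIdealOf_top (CommRingCat.of A') (IsLocalRing.closedPoint A')
      have h7 : ((isAffineOpen_top (Spec (CommRingCat.of A'))).primeIdealOf
          ⟨IsLocalRing.closedPoint A', trivial⟩).asIdeal.IsMaximal := by
        have hmax : ((isAffineOpen_top (Spec (CommRingCat.of A'))).primeIdealOf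
            ⟨IsLocalRing.closedPoint A', trivial⟩).asIdeal =
            (maximalIdeal A').comap (φ' : Γ(Spec (CommRingCat.of A'), ⊤) →+* A') := by
          ext b
          rw [Ideal.mem_comap]
          change _ ↔ φ' b ∈ (IsLocalRing.closedPoint A').asIdeal
          rw [← h6, Ideal.mem_comap]
          have : (Scheme.ΓSpecIso (CommRingCat.of A')).inv.hom (φ' b) = b :=
            φ'.symm_apply_apply b
          rw [this]
        rw [hmax]
        exact Ideal.comap_isMaximal_of_surjective _ φ'.surjective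
      exact IsLocalRing.eq_maximalIdeal h7
    exact h4

set_option synthInstance.maxHeartbeats 400000 in
/-- **EGA IV 11.6-type criterion (existential version), scheme level.** -/
theorem isFlatOverAt_of_adic_family_ex {X Y : Scheme.{u}} [IsLocallyNoetherian Y]
    (f : X ⟶ Y) [LocallyOfFiniteType f] (F : X.Modules) (hF : Coh.IsCoh F) (x : X)
    (hprim : letI := (f.residueFieldMap x).hom.toAlgebra
      ∀ a : ↑(X.residueField x), IsSeparable ↑(Y.residueField (f x)) a →
        a ∈ (f.residueFieldMap x).hom.range)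
    {ι : Type u} (A : ι → Type u) [∀ i, CommRing (A i)] [∀ i, IsLocalRing (A i)]
    (φ : ∀ i, (Y.presheaf.stalk (f x) : Type u) →+* A i) [∀ i, IsLocalHom (φ i)]
    (htop : ∀ N : ℕ, ∃ s : Finset (ι × ℕ),
      ⨅ p ∈ s, Ideal.comap (φ p.1) (IsLocalRing.maximalIdeal (A p.1) ^ p.2) ≤
        IsLocalRing.maximalIdeal ↑(Y.presheaf.stalk (f x)) ^ N)
    (hflat : ∀ i : ι,
      ∃ x' : ↥(pullback f (Spec.map (CommRingCat.ofHom (φ i)) ≫ Y.fromSpecStalk (f x))),
      pullback.fst f (Spec.map (CommRingCat.ofHom (φ i)) ≫ Y.fromSpecStalk (f x)) x' = x ∧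
      pullback.snd f (Spec.map (CommRingCat.ofHom (φ i)) ≫ Y.fromSpecStalk (f x)) x' =
        IsLocalRing.closedPoint (A i) ∧
      FlatMod.IsFlatOverAt
        (pullback.snd f (Spec.map (CommRingCat.ofHom (φ i)) ≫ Y.fromSpecStalk (f x)))
        ((Scheme.Modules.pullback
          (pullback.fst f (Spec.map (CommRingCat.ofHom (φ i)) ≫ Y.fromSpecStalk (f x)))).obj F)
        x') :
    FlatMod.IsFlatOverAt f F x := by
  classical
  haveI qcF : F.IsQuasicoherent := hF.1
  obtain ⟨_, ⟨V, hV, rfl⟩, hyV, -⟩ :=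
    Y.isBasis_affineOpens.exists_subset_of_mem_open (Set.mem_univ (f x)) isOpen_univ
  obtain ⟨_, ⟨U, hU, rfl⟩, hxU, hUV⟩ :=
    X.isBasis_affineOpens.exists_subset_of_mem_open (a := x) hyV (V.2.preimage f.continuous)
  have hUV' : U ≤ f ⁻¹ᵁ V := hUV
  rw [isFlatOverAt_iff_flat_localized f F hU hV hUV' x hxU]
  letI algRS : Algebra Γ(Y, V) Γ(X, U) := (f.appLE V U hUV').hom.toAlgebra
  letI modRM : Module Γ(Y, V) Γ(F, U) := Module.compHom _ (f.appLE V U hUV').hom
  haveI tow : IsScalarTower Γ(Y, V) Γ(X, U) Γ(F, U) := .of_algebraMap_smul fun _ _ => rfl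
  haveI noeth : IsNoetherianRing Γ(Y, V) := IsLocallyNoetherian.component_noetherian ⟨V, hV⟩
  haveI ft : Algebra.FiniteType Γ(Y, V) Γ(X, U) := f.finiteType_appLE hV hU hUV'
  haveI fin : Module.Finite Γ(X, U) Γ(F, U) :=
    Groth.Agent.Lib.CohFinite.finite_sections_of_isCoh F hF hU
  -- the local ring of the base
  letI algRO : Algebra Γ(Y, V) (Y.presheaf.stalk (f x)) :=
    TopCat.Presheaf.algebra_section_stalk Y.presheaf ⟨f x, hyV⟩
  haveI hlocO : IsLocalization.AtPrime (Y.presheaf.stalk (f x))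
      (hV.primeIdealOf ⟨f x, hyV⟩).asIdeal := hV.isLocalization_stalk ⟨f x, hyV⟩
  have hq : (hV.primeIdealOf ⟨f x, hyV⟩).asIdeal =
      (hU.primeIdealOf ⟨x, hxU⟩).asIdeal.comap (algebraMap Γ(Y, V) Γ(X, U)) :=
    (congrArg PrimeSpectrum.asIdeal
      (IsAffineOpen.comap_primeIdealOf_appLE (f := f) V hV U hU hUV' hxU)).symm
  -- the family
  let ψ : ∀ i, Γ(Spec (CommRingCat.of (A i)), ⊤) ≃+* A i := fun i =>
    (Scheme.ΓSpecIso (CommRingCat.of (A i))).commRingCatIsoToRingEquiv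
  haveI hlocfam : ∀ i, IsLocalRing Γ(Spec (CommRingCat.of (A i)), ⊤) :=
    fun i => (ψ i).symm.isLocalRing
  have htopS : (⊤ : (Spec (Y.presheaf.stalk (f x))).Opens) ≤ Y.fromSpecStalk (f x) ⁻¹ᵁ V :=
    fun w _ => fromSpecStalk_mem (f x) hV hyV w
  have htopV : ∀ i, (⊤ : (Spec (CommRingCat.of (A i))).Opens) ≤
      (Spec.map (CommRingCat.ofHom (φ i)) ≫ Y.fromSpecStalk (f x)) ⁻¹ᵁ V := fun i z _ => by
    change (Spec.map (CommRingCat.ofHom (φ i)) ≫ Y.fromSpecStalk (f x)) z ∈ V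
    rw [Scheme.Hom.comp_apply]
    exact fromSpecStalk_mem (f x) hV hyV _
  letI algR : ∀ i, Algebra Γ(Y, V) Γ(Spec (CommRingCat.of (A i)), ⊤) := fun i =>
    ((Spec.map (CommRingCat.ofHom (φ i)) ≫ Y.fromSpecStalk (f x)).appLE V ⊤ (htopV i)).hom.toAlgebra
  letI algO : ∀ i, Algebra (Y.presheaf.stalk (f x)) Γ(Spec (CommRingCat.of (A i)), ⊤) := fun i =>
    (((ψ i).symm : A i →+* Γ(Spec (CommRingCat.of (A i)), ⊤)).comp (φ i)).toAlgebra
  haveI towfam : ∀ i, IsScalarTower Γ(Y, V) (Y.presheaf.stalk (f x))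
      Γ(Spec (CommRingCat.of (A i)), ⊤) := fun i =>
    IsScalarTower.of_algebraMap_eq fun r => by
      have h1 := appLE_fromSpecStalk_comp (f x) hyV (CommRingCat.of (A i))
        (CommRingCat.ofHom (φ i)) (htopV i) htopS
      exact congr($(h1).hom r)
  haveI locfam : ∀ i, IsLocalHom (algebraMap (Y.presheaf.stalk (f x))
      Γ(Spec (CommRingCat.of (A i)), ⊤)) := fun i => by
    haveI : IsLocalHom ((ψ i).symm : A i →+* Γ(Spec (CommRingCat.of (A i)), ⊤)) :=
      ⟨fun a ha => (isUnit_map_iff (ψ i).symm a).mp ha⟩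
    exact RingHom.isLocalHom_comp _ _
  have htop' : ∀ N : ℕ, ∃ s : Finset (ι × ℕ),
      ⨅ j ∈ s, Ideal.comap (algebraMap (Y.presheaf.stalk (f x))
        Γ(Spec (CommRingCat.of (A j.1)), ⊤))
        (maximalIdeal Γ(Spec (CommRingCat.of (A j.1)), ⊤) ^ j.2) ≤
        maximalIdeal (Y.presheaf.stalk (f x)) ^ N := by
    intro N
    obtain ⟨s, hs⟩ := htop N
    refine ⟨s, ?_⟩
    have h1 : ∀ j : ι × ℕ, Ideal.comap (algebraMap (Y.presheaf.stalk (f x))
        Γ(Spec (CommRingCat.of (A j.1)), ⊤))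
        (maximalIdeal Γ(Spec (CommRingCat.of (A j.1)), ⊤) ^ j.2) =
        Ideal.comap (φ j.1) (maximalIdeal (A j.1) ^ j.2) := fun j => by
      change Ideal.comap (((ψ j.1).symm : A j.1 →+* Γ(Spec (CommRingCat.of (A j.1)), ⊤)).comp
        (φ j.1)) _ = _
      rw [← Ideal.comap_comap, comap_maximalIdeal_pow_ringEquiv]
    simp only [h1]
    exact hs
  -- residue fields
  letI algOk : Algebra (Y.presheaf.stalk (f x)) (Y.residueField (f x)) :=
    (Y.residue (f x)).hom.toAlgebra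
  letI algBκ : Algebra Γ(X, U) (X.residueField x) := (X.evaluation U x hxU).hom.toAlgebra
  letI algkκ : Algebra (Y.residueField (f x)) (X.residueField x) :=
    (f.residueFieldMap x).hom.toAlgebra
  letI algOκ : Algebra (Y.presheaf.stalk (f x)) (X.residueField x) :=
    ((f.residueFieldMap x).hom.comp (Y.residue (f x)).hom).toAlgebra
  letI algRκ : Algebra Γ(Y, V) (X.residueField x) :=
    ((X.evaluation U x hxU).hom.comp (f.appLE V U hUV').hom).toAlgebra
  haveI towκ1 : IsScalarTower Γ(Y, V) Γ(X, U) (X.residueField x) :=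
    IsScalarTower.of_algebraMap_eq fun _ => rfl
  haveI towκ2 : IsScalarTower (Y.presheaf.stalk (f x)) (Y.residueField (f x))
      (X.residueField x) := IsScalarTower.of_algebraMap_eq fun _ => rfl
  haveI towκ3 : IsScalarTower Γ(Y, V) (Y.presheaf.stalk (f x)) (X.residueField x) := by
    refine IsScalarTower.of_algebraMap_eq fun a => ?_
    change X.evaluation U x hxU (f.appLE V U hUV' a) =
      f.residueFieldMap x (Y.residue (f x) (Y.presheaf.germ V (f x) hyV a))
    have h1 := Scheme.evaluation_naturality_apply f (V := V) x hyV a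
    change f.residueFieldMap x (Y.residue (f x) (Y.presheaf.germ V (f x) hyV a)) = _ at h1
    rw [h1]
    change X.residue x (X.presheaf.germ U x hxU (f.appLE V U hUV' a)) =
      X.residue x (X.presheaf.germ (f ⁻¹ᵁ V) x hyV (f.app V a))
    congr 1
    rw [Scheme.Hom.appLE, CommRingCat.comp_apply]
    exact TopCat.Presheaf.germ_res_apply _ _ _ _ _
  have hk : Surjective (algebraMap (Y.presheaf.stalk (f x)) (Y.residueField (f x))) :=
    Scheme.residue_surjective _ _
  have hκ : RingHom.ker (algebraMap Γ(X, U) (X.residueField x)) =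
      (hU.primeIdealOf ⟨x, hxU⟩).asIdeal := ker_evaluation hU x hxU
  have hfrac : ∀ z : X.residueField x, ∃ b s : Γ(X, U),
      s ∉ (hU.primeIdealOf ⟨x, hxU⟩).asIdeal ∧
        z * algebraMap Γ(X, U) (X.residueField x) s = algebraMap Γ(X, U) (X.residueField x) b :=
    frac_evaluation hU x hxU
  have hprim' : ∀ α : X.residueField x,
      IsSeparable (Y.residueField (f x)) α →
        α ∈ Set.range (algebraMap (Y.residueField (f x)) (X.residueField x)) := by
    intro α hα
    obtain ⟨l, hl⟩ := RingHom.mem_range.mp (hprim α hα)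
    exact ⟨l, hl⟩
  exact Groth.Agent.Lib.AdicFamEx64.flat_localized_of_adic_family_ex (R := Γ(Y, V))
    (B := Γ(X, U)) (M := Γ(F, U)) (hU.primeIdealOf ⟨x, hxU⟩).asIdeal
    (hV.primeIdealOf ⟨f x, hyV⟩).asIdeal hq
    (Y.presheaf.stalk (f x)) (fun i => Γ(Spec (CommRingCat.of (A i)), ⊤)) hk hκ hfrac hprim' htop'
    (fun i => hypEx_chart f F (Spec.map (CommRingCat.ofHom (φ i)) ≫ Y.fromSpecStalk (f x))
      hU hV hUV' (htopV i) x hxU (hflat i))

end Groth.Agent.Lib.AdicFamExSch64
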