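import Groth.Prelude.Def_GrMap
import Groth.Prelude.Def_AssocGrMod
import Mathlib.RingTheory.AdicCompletion.Basic

/-!
# Filtered rings and associated graded rings: successive approximation (helper25)

Bourbaki AC III §2 no.8-9 for the prelude's `AssocGr` framework.
* `decompose_map`: `AssocGr.map h` commutes with homogeneous components.
* `exists_sub_mem_succ`: degreewise lifting from surjectivity of `AssocGr.map h`.
* `exists_forall_sub_mem`: successive approximation in an `I`-precomplete ring.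
* `smodEq_of_succ`: successive differences in `I ^ n` ⇒ adically Cauchy.
* `surjective_of_grMap_surjective`: complete → separated, surjective on gr ⇒ surjective, strict,
  target complete (= S16456).
-/

set_option autoImplicit false
universe u
open DirectSum

namespace Groth.Agent.Lib.AdicGrBasic

open AssocGr

variable {A B : Type u} [CommRing A] [CommRing B] {φ : A →+* B}
  {𝓕 : FiltBl.IdealFiltration A} {𝓖 : FiltBl.IdealFiltration B}

/-- The map of associated graded rings commutes with taking homogeneous components. -/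
theorem decompose_map (h : IsFiltHom φ 𝓕 𝓖) (x : GrRing 𝓕) (n : ℕ) :
    (decompose (gr 𝓖) (AssocGr.map h x) n : GrRing 𝓖) =
      AssocGr.map h (decompose (gr 𝓕) x n : GrRing 𝓕) := by
  classical
  have hx : x = ∑ i ∈ (decompose (gr 𝓕) x).support, (decompose (gr 𝓕) x i : GrRing 𝓕) :=
    (DirectSum.sum_support_decompose (gr 𝓕) x).symm
  conv_lhs => rw [hx]
  rw [map_sum, DirectSum.decompose_sum, DFinsupp.finsetSum_apply,
    AddSubmonoidClass.coe_finsetSum]
  have hterm : ∀ i, (decompose (gr 𝓖) (AssocGr.map h (decompose (gr 𝓕) x i : GrRing 𝓕)) n :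
      GrRing 𝓖) = if i = n then AssocGr.map h (decompose (gr 𝓕) x i : GrRing 𝓕) else 0 := by
    intro i
    have hmem : AssocGr.map h (decompose (gr 𝓕) x i : GrRing 𝓕) ∈ gr 𝓖 i :=
      AssocGr.map_mem_gr h (decompose (gr 𝓕) x i).2
    split_ifs with hin
    · subst hin
      rw [DirectSum.decompose_of_mem_same _ hmem]
    · rw [DirectSum.decompose_of_mem_ne _ hmem hin]
  simp only [hterm]
  rw [Finset.sum_ite_eq']
  split_ifs with hn
  · rfl
  · rw [DFinsupp.notMem_support_iff] at hn
    rw [hn]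
    simp

/-- Degreewise lifting: if the map of associated graded rings is surjective, then every element of
`G n` is, modulo `G (n+1)`, the image of an element of `F n`. -/
theorem exists_sub_mem_succ (h : IsFiltHom φ 𝓕 𝓖) (hsurj : Function.Surjective (AssocGr.map h))
    (n : ℕ) (b : B) (hb : b ∈ 𝓖.F n) : ∃ a ∈ 𝓕.F n, b - φ a ∈ 𝓖.F (n + 1) := by
  obtain ⟨x, hx⟩ := hsurj (inDeg 𝓖 n ⟨b, hb⟩ : GrRing 𝓖)
  obtain ⟨a, ha⟩ := inDeg_surjective 𝓕 n (decompose (gr 𝓕) x n)
  refine ⟨a.1, a.2, ?_⟩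
  have h1 : (inDeg 𝓖 n ⟨b, hb⟩ : GrRing 𝓖) = (inDeg 𝓖 n ⟨φ a, h.apply_mem a.2⟩ : GrRing 𝓖) := by
    rw [← AssocGr.map_inDeg h n a, ha, ← decompose_map h x n, hx,
      DirectSum.decompose_of_mem_same _ (inDeg 𝓖 n ⟨b, hb⟩).2]
  have h2 : inDeg 𝓖 n (⟨b, hb⟩ - ⟨φ a, h.apply_mem a.2⟩) = 0 := by
    rw [map_sub, sub_eq_zero]
    exact Subtype.ext h1
  exact (inDeg_eq_zero_iff 𝓖 n _).mp h2


/-- membership in `I ^ n • ⊤` -/
theorem mem_pow_smul_top {A : Type u} [CommRing A] (I : Ideal A) (n : ℕ) (a : A) :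
    a ∈ (I ^ n • ⊤ : Submodule A A) ↔ a ∈ I ^ n := by
  rw [smul_eq_mul, Ideal.mul_top]

/-- Successive approximation in a precomplete ring: if every element of `J ^ n` is, modulo
`J ^ (n+1)`, the image of an element of `I ^ n`, then every element of `J ^ n₀` is, modulo
`⋂ J ^ N`, the image of an element of `I ^ n₀`. -/
theorem exists_forall_sub_mem {A B : Type u} [CommRing A] [CommRing B] (φ : A →+* B)
    (I : Ideal A) (J : Ideal B) (hIJ : I.map φ ≤ J) [IsPrecomplete I A]
    (hstep : ∀ (n : ℕ) (b : B), b ∈ J ^ n → ∃ a ∈ I ^ n, b - φ a ∈ J ^ (n + 1))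
    (n₀ : ℕ) (b : B) (hb : b ∈ J ^ n₀) : ∃ a ∈ I ^ n₀, ∀ N, b - φ a ∈ J ^ N := by
  choose! step hstep1 hstep2 using hstep
  have hφ : ∀ (n : ℕ) (a : A), a ∈ I ^ n → φ a ∈ J ^ n := fun n a ha =>
    (IsFiltHom.adic hIJ) n ha
  let s : ℕ → A := fun k => Nat.rec 0 (fun k sk => sk + step (n₀ + k) (b - φ sk)) k
  have hs0 : s 0 = 0 := rfl
  have hsS : ∀ k, s (k + 1) = s k + step (n₀ + k) (b - φ (s k)) := fun k => rfl
  have hP : ∀ k, s k ∈ I ^ n₀ ∧ b - φ (s k) ∈ J ^ (n₀ + k) := by
    intro k
    induction k with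
    | zero =>
      refine ⟨by rw [hs0]; exact zero_mem _, ?_⟩
      rw [hs0, map_zero, sub_zero, add_zero]
      exact hb
    | succ k ih =>
      have ht := hstep1 (n₀ + k) _ ih.2
      refine ⟨?_, ?_⟩
      · rw [hsS]
        exact add_mem ih.1 (Ideal.pow_le_pow_right (Nat.le_add_right n₀ k) ht)
      · rw [hsS, map_add, ← sub_sub, ← add_assoc]
        exact hstep2 (n₀ + k) _ ih.2
  have hdiff : ∀ k, s (k + 1) - s k ∈ I ^ k := by
    intro k
    rw [hsS, add_sub_cancel_left]
    exact Ideal.pow_le_pow_right (Nat.le_add_left k n₀) (hstep1 (n₀ + k) _ (hP k).2)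
  have hcauchy : ∀ {m n : ℕ}, m ≤ n → s m ≡ s n [SMOD (I ^ m • ⊤ : Submodule A A)] := by
    intro m n hmn
    rw [SModEq.sub_mem, mem_pow_smul_top]
    induction n, hmn using Nat.le_induction with
    | base => rw [sub_self]; exact zero_mem _
    | succ n hmn ih =>
      have : s m - s (n + 1) = (s m - s n) - (s (n + 1) - s n) := by ring
      rw [this]
      exact sub_mem ih (Ideal.pow_le_pow_right hmn (hdiff n))
  obtain ⟨L, hL⟩ := IsPrecomplete.prec ‹IsPrecomplete I A› hcauchy
  have hL' : ∀ n, s n - L ∈ I ^ n := fun n => by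
    have := hL n
    rwa [SModEq.sub_mem, mem_pow_smul_top] at this
  refine ⟨L, ?_, fun N => ?_⟩
  · have : L = s n₀ - (s n₀ - L) := by ring
    rw [this]
    exact sub_mem (hP n₀).1 (hL' n₀)
  · have : b - φ L = (b - φ (s N)) + φ (s N - L) := by
      rw [map_sub]; ring
    rw [this]
    exact add_mem (Ideal.pow_le_pow_right (Nat.le_add_left N n₀) (hP N).2) (hφ N _ (hL' N))


/-- a sequence with successive differences in `I ^ n` is adically Cauchy -/
theorem smodEq_of_succ {A : Type u} [CommRing A] (I : Ideal A) (s : ℕ → A)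
    (hdiff : ∀ k, s (k + 1) - s k ∈ I ^ k) {m n : ℕ} (hmn : m ≤ n) :
    s m ≡ s n [SMOD (I ^ m • ⊤ : Submodule A A)] := by
  rw [SModEq.sub_mem, mem_pow_smul_top]
  induction n, hmn using Nat.le_induction with
  | base => rw [sub_self]; exact zero_mem _
  | succ n hmn ih =>
    have : s m - s (n + 1) = (s m - s n) - (s (n + 1) - s n) := by ring
    rw [this]
    exact sub_mem ih (Ideal.pow_le_pow_right hmn (hdiff n))

/-- Bourbaki AC III §2 no.8: a filtered ring hom from a complete ring to a separated ring which is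
surjective on associated graded rings is surjective, strict, and the target is complete. -/
theorem surjective_of_grMap_surjective {A B : Type u} [CommRing A] [CommRing B] (φ : A →+* B)
    (I : Ideal A) (J : Ideal B) (hIJ : I.map φ ≤ J) [IsPrecomplete I A] [IsHausdorff J B]
    (h : Function.Surjective (AssocGr.map (AssocGr.IsFiltHom.adic hIJ))) :
    Function.Surjective φ ∧ I.map φ = J ∧ IsAdicComplete J B := by
  have hstep : ∀ (n : ℕ) (b : B), b ∈ J ^ n → ∃ a ∈ I ^ n, b - φ a ∈ J ^ (n + 1) :=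
    fun n b hb => exists_sub_mem_succ (AssocGr.IsFiltHom.adic hIJ) h n b hb
  have hφ : ∀ (n : ℕ) (a : A), a ∈ I ^ n → φ a ∈ J ^ n := fun n a ha =>
    (IsFiltHom.adic hIJ) n ha
  have hzero : ∀ x : B, (∀ N, x ∈ J ^ N) → x = 0 := by
    intro x hx
    refine IsHausdorff.haus ‹IsHausdorff J B› x fun n => ?_
    rw [SModEq.sub_mem, sub_zero, mem_pow_smul_top]
    exact hx n
  -- exact lifting
  have key : ∀ (n₀ : ℕ) (b : B), b ∈ J ^ n₀ → ∃ a ∈ I ^ n₀, φ a = b := by
    intro n₀ b hb
    obtain ⟨a, ha, haN⟩ := exists_forall_sub_mem φ I J hIJ hstep n₀ b hb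
    exact ⟨a, ha, (sub_eq_zero.mp (hzero _ haN)).symm⟩
  have hsurj : Function.Surjective φ := by
    intro b
    obtain ⟨a, -, ha⟩ := key 0 b (by rw [pow_zero, Ideal.one_eq_top]; trivial)
    exact ⟨a, ha⟩
  have hpre : IsPrecomplete J B := by
    -- precompleteness of `B`
    refine ⟨fun f hf => ?_⟩
    have hd : ∀ n, ∃ d ∈ I ^ n, φ d = f (n + 1) - f n := by
      intro n
      refine key n _ ?_
      have := hf (Nat.le_succ n)
      rw [SModEq.sub_mem, mem_pow_smul_top] at this
      have h2 : f (n + 1) - f n = -(f n - f (n + 1)) := by ring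
      rw [h2]
      exact neg_mem this
    choose d hd1 hd2 using hd
    obtain ⟨a₀, ha₀⟩ := hsurj (f 0)
    let g : ℕ → A := fun n => a₀ + ∑ k ∈ Finset.range n, d k
    have hg : ∀ n, φ (g n) = f n := by
      intro n
      induction n with
      | zero => simp [g, ha₀]
      | succ n ih =>
        have : g (n + 1) = g n + d n := by
          simp only [g, Finset.sum_range_succ]; ring
        rw [this, map_add, ih, hd2]; ring
    have hgd : ∀ k, g (k + 1) - g k ∈ I ^ k := by
      intro k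
      have : g (k + 1) - g k = d k := by
        simp only [g, Finset.sum_range_succ]; ring
      rw [this]; exact hd1 k
    obtain ⟨L, hL⟩ := IsPrecomplete.prec ‹IsPrecomplete I A› (fun {m n} hmn => smodEq_of_succ I g hgd hmn)
    refine ⟨φ L, fun n => ?_⟩
    have := hL n
    rw [SModEq.sub_mem, mem_pow_smul_top] at this ⊢
    rw [← hg n, ← map_sub]
    exact hφ n _ this
  refine ⟨hsurj, le_antisymm hIJ ?_, ⟨⟩⟩
  · intro b hb
    obtain ⟨a, ha, rfl⟩ := key 1 b (by rwa [pow_one])
    rw [pow_one] at ha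
    exact Ideal.mem_map_of_mem φ ha

end Groth.Agent.Lib.AdicGrBasic
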