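import Groth.Agent.Lib.AdicGrBasic
import Groth.Prelude.Def_GrMap2

/-!
# Degreewise criteria for injectivity / surjectivity of `AssocGr.map` (helper25)

* `map_injective_of_step`: `F n ∩ φ⁻¹(G (n+1)) ⊆ F (n+1)` for all `n` ⇒ `gr(φ)` injective.
* `map_surjective_of_step`: `G n ⊆ φ(F n) + G (n+1)` for all `n` ⇒ `gr(φ)` surjective.
* `map_completion_kerFilt_bijective`: `gr_I(A) → gr(Â)` (kernel filtration) is bijective.
-/

set_option autoImplicit false
universe u
open DirectSum Polynomial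

namespace Groth.Agent.Lib.AdicGrBij

open AssocGr

variable {A B : Type u} [CommRing A] [CommRing B] {φ : A →+* B}
  {𝓕 : FiltBl.IdealFiltration A} {𝓖 : FiltBl.IdealFiltration B}

theorem map_injective_of_step (h : IsFiltHom φ 𝓕 𝓖)
    (hstep : ∀ (n : ℕ) (a : A), a ∈ 𝓕.F n → φ a ∈ 𝓖.F (n + 1) → a ∈ 𝓕.F (n + 1)) :
    Function.Injective (AssocGr.map h) := by
  rw [injective_iff_map_eq_zero]
  intro x hx
  obtain ⟨f, rfl⟩ := mkG_surjective 𝓕 x
  rw [map_mkG, mkG_eq_zero_iff, mem_succIdeal_iff] at hx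
  rw [mkG_eq_zero_iff, mem_succIdeal_iff]
  intro n
  have := hx n
  rw [coe_reesMap, Polynomial.coeff_map] at this
  exact hstep n _ (f.2 n) this

theorem map_surjective_of_step (h : IsFiltHom φ 𝓕 𝓖)
    (hstep : ∀ (n : ℕ) (b : B), b ∈ 𝓖.F n → ∃ a ∈ 𝓕.F n, b - φ a ∈ 𝓖.F (n + 1)) :
    Function.Surjective (AssocGr.map h) := by
  intro y
  obtain ⟨f, rfl⟩ := mkG_surjective 𝓖 y
  have key : ∀ n, ∃ x, AssocGr.map h x = mkG 𝓖 (term 𝓖 f n) := by
    intro n
    rw [mkG_term]
    obtain ⟨a, ha, hba⟩ := hstep n _ (f.2 n)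
    refine ⟨(inDeg 𝓕 n ⟨a, ha⟩ : GrRing 𝓕), ?_⟩
    rw [map_inDeg]
    have h0 : inDeg 𝓖 n (⟨(f : B[X]).coeff n, f.2 n⟩ - ⟨φ a, h.apply_mem ha⟩) = 0 :=
      (inDeg_eq_zero_iff 𝓖 n _).mpr hba
    rw [map_sub, sub_eq_zero] at h0
    rw [h0]
  choose x hx using key
  refine ⟨∑ n ∈ (f : B[X]).support, x n, ?_⟩
  rw [map_sum]
  conv_rhs => rw [← sum_term 𝓖 f, map_sum]
  exact Finset.sum_congr rfl fun n _ => hx n

/-- Bourbaki AC III §2 no.12: the associated graded ring of the completion (for the kernel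
filtration) is that of the ring. -/
theorem map_completion_kerFilt_bijective (A : Type u) [CommRing A] (I : Ideal A) :
    Function.Bijective (AssocGr.map (AssocGr.isFiltHom_kerFilt I)) := by
  constructor
  · refine map_injective_of_step _ fun n a _ ha => ?_
    rw [mem_kerFilt_iff_val, AdicCompletion.algebraMap_apply, Algebra.algebraMap_self,
      RingHom.id_apply, AdicCompletion.of_apply, Submodule.mkQ_apply,
      Submodule.Quotient.mk_eq_zero] at ha
    change a ∈ I ^ (n + 1)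
    have : a ∈ (I ^ (n + 1) • ⊤ : Ideal A) := ha
    rwa [pow_smul_top] at this
  · refine map_surjective_of_step _ fun n b hb => ?_
    rw [mem_kerFilt_iff_val] at hb
    obtain ⟨a, ha⟩ := Submodule.Quotient.mk_surjective _ (b.val (n + 1))
    have han : a ∈ I ^ n := by
      have h1 := AdicCompletion.transitionMap_comp_eval_apply I A (Nat.le_succ n) b
      rw [← ha, hb] at h1
      change Ideal.Quotient.mk (I ^ n • ⊤ : Ideal A) a = 0 at h1
      rwa [Ideal.Quotient.eq_zero_iff_mem, pow_smul_top] at h1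
    refine ⟨a, han, ?_⟩
    rw [mem_kerFilt_iff_val, AdicCompletion.val_sub_apply, AdicCompletion.algebraMap_apply,
      Algebra.algebraMap_self, RingHom.id_apply, AdicCompletion.of_apply, Submodule.mkQ_apply,
      ← ha, sub_self]

end Groth.Agent.Lib.AdicGrBij
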