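import Groth.Agent.Lib.AdicGrBij
import Mathlib.RingTheory.Etale.Basic
import Mathlib.RingTheory.Ideal.Quotient.PowTransition

/-!
# Formally étale algebras and associated graded rings (helper25)

`R → S` formally étale, `J ⊆ S` with `R → S/J` surjective, `I = J ∩ R`.  Then `R/Iⁿ ≅ S/Jⁿ` for
all `n` and `gr_I(R) → gr_J(S)` is bijective.
-/

set_option autoImplicit false
universe u

namespace Groth.Agent.Lib.AdicGrEtale

open AssocGr

variable (R : Type u) [CommRing R] (S : Type u) [CommRing S] [Algebra R S]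

/-- If `R → S` is formally étale and `R → S/J` is surjective then `R → S/Jⁿ` is surjective with
kernel `(J ∩ R)ⁿ`. -/
theorem surjective_and_comap_pow [Algebra.FormallyEtale R S] (J : Ideal S)
    (hJ : Function.Surjective (algebraMap R (S ⧸ J))) (n : ℕ) :
    Function.Surjective (algebraMap R (S ⧸ J ^ n)) ∧
      (J ^ n).comap (algebraMap R S) = (J.comap (algebraMap R S)) ^ n := by
  rcases Nat.eq_zero_or_pos n with rfl | hn
  · refine ⟨fun x => ?_, ?_⟩
    · have : Subsingleton (S ⧸ J ^ 0) :=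
        Ideal.Quotient.subsingleton_iff.mpr (by rw [pow_zero, Ideal.one_eq_top])
      exact ⟨0, Subsingleton.elim _ _⟩
    · rw [pow_zero, pow_zero, Ideal.one_eq_top, Ideal.one_eq_top, Ideal.comap_top]
  set I : Ideal R := J.comap (algebraMap R S) with hI
  have hIn : I ^ n ≤ I := Ideal.pow_le_self hn.ne'
  have hJn : J ^ n ≤ J := Ideal.pow_le_self hn.ne'
  have hIJn : I ^ n ≤ (J ^ n).comap (algebraMap R S) := Ideal.le_comap_pow _ n
  -- the map `R/Iⁿ → S/J`
  let g : (R ⧸ I ^ n) →ₐ[R] S ⧸ J :=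
    Ideal.Quotient.liftₐ (I ^ n) (Algebra.ofId R (S ⧸ J)) (fun a ha => by
      have h1 : algebraMap R S a ∈ J := hIn ha
      change algebraMap R (S ⧸ J) a = 0
      rw [IsScalarTower.algebraMap_apply R S (S ⧸ J), Ideal.Quotient.algebraMap_eq,
        Ideal.Quotient.eq_zero_iff_mem]
      exact h1)
  have hg_mk : ∀ a : R, g (Ideal.Quotient.mk (I ^ n) a) = algebraMap R (S ⧸ J) a := fun a => rfl
  have hg : Function.Surjective g := by
    intro y
    obtain ⟨a, rfl⟩ := hJ y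
    exact ⟨Ideal.Quotient.mk (I ^ n) a, hg_mk a⟩
  have hker : RingHom.ker (g : (R ⧸ I ^ n) →+* S ⧸ J) ≤ I.map (Ideal.Quotient.mk (I ^ n)) := by
    intro c hc
    obtain ⟨a, rfl⟩ := Ideal.Quotient.mk_surjective c
    rw [RingHom.mem_ker, RingHom.coe_coe, hg_mk, IsScalarTower.algebraMap_apply R S (S ⧸ J),
      Ideal.Quotient.algebraMap_eq, Ideal.Quotient.eq_zero_iff_mem] at hc
    exact Ideal.mem_map_of_mem _ hc
  have hker_pow : (RingHom.ker (g : (R ⧸ I ^ n) →+* S ⧸ J)) ^ n = ⊥ := by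
    rw [eq_bot_iff]
    refine (Ideal.pow_right_mono hker n).trans ?_
    rw [← Ideal.map_pow, Ideal.map_quotient_self]
  have hnil : IsNilpotent (RingHom.ker (g : (R ⧸ I ^ n) →+* S ⧸ J)) := ⟨n, hker_pow⟩
  -- the lift `S → R/Iⁿ`
  let ψ : S →ₐ[R] (R ⧸ I ^ n) :=
    Algebra.FormallySmooth.liftOfSurjective (Ideal.Quotient.mkₐ R J) g hg hnil
  have hψ : ∀ s : S, g (ψ s) = Ideal.Quotient.mk J s := fun s =>
    Algebra.FormallySmooth.liftOfSurjective_apply (Ideal.Quotient.mkₐ R J) g hg hnil s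
  have hψJ : ∀ s ∈ J, ψ s ∈ RingHom.ker (g : (R ⧸ I ^ n) →+* S ⧸ J) := by
    intro s hs
    rw [RingHom.mem_ker, RingHom.coe_coe, hψ, Ideal.Quotient.eq_zero_iff_mem]
    exact hs
  have hψJn : ∀ s ∈ J ^ n, ψ s = 0 := by
    intro s hs
    have h1 : (J ^ n).map (ψ : S →+* (R ⧸ I ^ n)) ≤ ⊥ := by
      rw [Ideal.map_pow, ← hker_pow]
      refine Ideal.pow_right_mono ?_ n
      rw [Ideal.map_le_iff_le_comap]
      exact fun s hs => hψJ s hs
    have := h1 (Ideal.mem_map_of_mem _ hs)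
    simpa using this
  have hcomap : (J ^ n).comap (algebraMap R S) = I ^ n := by
    refine le_antisymm (fun a ha => ?_) hIJn
    have h1 : ψ (algebraMap R S a) = 0 := hψJn _ ha
    rw [ψ.commutes, Ideal.Quotient.algebraMap_eq, Ideal.Quotient.eq_zero_iff_mem] at h1
    exact h1
  refine ⟨?_, hcomap⟩
  -- surjectivity: compare the two maps `S → S/Jⁿ`
  let ι : (R ⧸ I ^ n) →ₐ[R] S ⧸ J ^ n :=
    Ideal.Quotient.liftₐ (I ^ n) (Algebra.ofId R (S ⧸ J ^ n)) (fun a ha => by
      have h1 : algebraMap R S a ∈ J ^ n := hIJn ha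
      change algebraMap R (S ⧸ J ^ n) a = 0
      rw [IsScalarTower.algebraMap_apply R S (S ⧸ J ^ n), Ideal.Quotient.algebraMap_eq,
        Ideal.Quotient.eq_zero_iff_mem]
      exact h1)
  have hι_mk : ∀ a : R, ι (Ideal.Quotient.mk (I ^ n) a) = algebraMap R (S ⧸ J ^ n) a :=
    fun a => rfl
  have hqnil : IsNilpotent (RingHom.ker (Ideal.Quotient.factor hJn)) := by
    refine ⟨n, ?_⟩
    rw [Ideal.Quotient.factor_ker, ← Ideal.map_pow, Ideal.map_quotient_self]
    rfl
  have heq : Ideal.Quotient.mkₐ R (J ^ n) = ι.comp ψ := by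
    refine Algebra.FormallyUnramified.ext' (Ideal.Quotient.factor hJn) hqnil _ _ fun s => ?_
    rw [Ideal.Quotient.mkₐ_eq_mk, Ideal.Quotient.factor_mk, AlgHom.comp_apply, ← hψ s]
    obtain ⟨a, ha⟩ := Ideal.Quotient.mk_surjective (ψ s)
    rw [← ha, hι_mk, hg_mk, IsScalarTower.algebraMap_apply R S (S ⧸ J ^ n),
      IsScalarTower.algebraMap_apply R S (S ⧸ J), Ideal.Quotient.algebraMap_eq,
      Ideal.Quotient.algebraMap_eq, Ideal.Quotient.factor_mk]
  intro y
  obtain ⟨s, rfl⟩ := Ideal.Quotient.mk_surjective y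
  obtain ⟨a, ha⟩ := Ideal.Quotient.mk_surjective (ψ s)
  refine ⟨a, ?_⟩
  have := AlgHom.congr_fun heq s
  rw [Ideal.Quotient.mkₐ_eq_mk, AlgHom.comp_apply, ← ha, hι_mk] at this
  exact this.symm

/-- `R → S` formally étale, `R → S/J` surjective ⇒ `gr_{J ∩ R}(R) → gr_J(S)` bijective. -/
theorem grMap_bijective_of_formallyEtale [Algebra.FormallyEtale R S] (J : Ideal S)
    (hJ : Function.Surjective (algebraMap R (S ⧸ J))) :
    Function.Bijective (AssocGr.map (AssocGr.IsFiltHom.adic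
      (Ideal.map_comap_le : (J.comap (algebraMap R S)).map (algebraMap R S) ≤ J))) := by
  have key := surjective_and_comap_pow R S J hJ
  constructor
  · refine Groth.Agent.Lib.AdicGrBij.map_injective_of_step _ fun n a _ ha => ?_
    change a ∈ (J.comap (algebraMap R S)) ^ (n + 1)
    rw [← (key (n + 1)).2]
    exact ha
  · refine Groth.Agent.Lib.AdicGrBij.map_surjective_of_step _ fun n b hb => ?_
    change b ∈ J ^ n at hb
    obtain ⟨a, ha⟩ := (key (n + 1)).1 (Ideal.Quotient.mk (J ^ (n + 1)) b)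
    rw [IsScalarTower.algebraMap_apply R S (S ⧸ J ^ (n + 1)), Ideal.Quotient.algebraMap_eq,
      eq_comm, Ideal.Quotient.eq] at ha
    have ha' : b - algebraMap R S a ∈ J ^ (n + 1) := ha
    refine ⟨a, ?_, ha'⟩
    change a ∈ (J.comap (algebraMap R S)) ^ n
    rw [← (key n).2, Ideal.mem_comap]
    have : algebraMap R S a = b - (b - algebraMap R S a) := by ring
    rw [this]
    exact sub_mem hb (Ideal.pow_le_pow_right (Nat.le_succ n) ha')

end Groth.Agent.Lib.AdicGrEtale
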