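import Groth.Agent.Lib.AdicGrMod2

/-!
# Filtered modules over a complete ring: finiteness from graded pieces (helper25)

EGA 0_III 7.x-type statement (= S8353) for a `ℤ`-indexed decreasing filtration `F` of a module over a
`J`-adically complete ring: `M` finite and `J F^p = F^{p+1}` for large `p` iff the pieces
`F^p/F^{p+1}` are finite and `F^{p+1} = J F^p + F^{p+2}` for large `p`.
Key lemmas: `le_pow_smul_sup`, `fg_and_eq_of_gr`, `finite_and_good_iff`.
-/
set_option autoImplicit false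
universe u

namespace Groth.Agent.Lib.AdicGrMod2

variable {S : Type u} [CommRing S] (J : Ideal S) {M : Type u} [AddCommGroup M] [Module S M]
  (F : ℤ → Submodule S M)

/-- the `ℕ`-indexed `J`-filtration `k ↦ F (p + k)` -/
def shiftFilt (hF : Antitone F) (hJ : ∀ p : ℤ, J • F p ≤ F (p + 1)) (p : ℤ) : J.Filtration M where
  N k := F (p + k)
  mono k := hF (by push_cast; omega)
  smul_le k := by
    have := hJ (p + k)
    have e : p + ((k + 1 : ℕ) : ℤ) = p + k + 1 := by push_cast; ring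
    rw [e]
    exact this

theorem shiftFilt_N (hF : Antitone F) (hJ : ∀ p : ℤ, J • F p ≤ F (p + 1)) (p : ℤ) (k : ℕ) :
    (shiftFilt J F hF hJ p).N k = F (p + k) := rfl

/-- lifting generators of the image of `F p` in `M / F (p+1)` -/
theorem exists_fin_le_span_sup (p : ℤ)
    (hfg : (Submodule.map (F (p + 1)).mkQ (F p)).FG) :
    ∃ (k : ℕ) (x : Fin k → M), (∀ i, x i ∈ F p) ∧
      F p ≤ Submodule.span S (Set.range x) ⊔ F (p + 1) := by
  obtain ⟨t, ht⟩ := hfg
  have hpre : ∀ y : t, ∃ z ∈ F p, (F (p + 1)).mkQ z = (y : M ⧸ F (p + 1)) := by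
    intro y
    have : (y : M ⧸ F (p + 1)) ∈ Submodule.map (F (p + 1)).mkQ (F p) := by
      rw [← ht]; exact Submodule.subset_span y.2
    obtain ⟨z, hz, hzy⟩ := this
    exact ⟨z, hz, hzy⟩
  choose z hz hzy using hpre
  let e := (Fintype.equivFin t).symm
  refine ⟨Fintype.card t, fun i => z (e i), fun i => hz _, ?_⟩
  intro y hy
  have h1 : (F (p + 1)).mkQ y ∈ Submodule.span S (t : Set (M ⧸ F (p + 1))) := by
    rw [ht]; exact Submodule.mem_map_of_mem hy
  have h2 : Submodule.span S (t : Set (M ⧸ F (p + 1))) ≤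
      Submodule.map (F (p + 1)).mkQ (Submodule.span S (Set.range fun i => z (e i))) := by
    rw [Submodule.span_le]
    intro w hw
    refine ⟨z ⟨w, hw⟩, Submodule.subset_span ⟨e.symm ⟨w, hw⟩, by simp⟩, hzy ⟨w, hw⟩⟩
  obtain ⟨u, hu, huy⟩ := h2 h1
  have h3 : y - u ∈ F (p + 1) := by
    rw [← Submodule.Quotient.mk_eq_zero, Submodule.Quotient.mk_sub]
    rw [Submodule.mkQ_apply, Submodule.mkQ_apply] at huy
    rw [huy, sub_self]
  have : y = u + (y - u) := by abel
  rw [this]
  exact Submodule.add_mem_sup hu h3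

/-- for `p ≥ p₁`: `F (p + k) ≤ J^k F p + F (p + k + 1)` -/
theorem le_pow_smul_sup (hJ : ∀ p : ℤ, J • F p ≤ F (p + 1)) (p₁ p : ℤ) (hp : p₁ ≤ p)
    (h1 : ∀ q : ℤ, p₁ ≤ q → F (q + 1) = J • F q ⊔ F (q + 2)) (k : ℕ) :
    F (p + k) ≤ J ^ k • F p ⊔ F (p + k + 1) := by
  induction k with
  | zero =>
    rw [pow_zero, Ideal.one_eq_top, Submodule.top_smul, Nat.cast_zero, add_zero]
    exact le_sup_left
  | succ k ih =>
    have e1 : p + ((k + 1 : ℕ) : ℤ) = (p + k) + 1 := by push_cast; ring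
    have e2 : p + ((k + 1 : ℕ) : ℤ) + 1 = (p + k) + 2 := by push_cast; ring
    rw [e2, e1, h1 (p + k) (by omega)]
    refine sup_le ?_ le_sup_right
    calc J • F (p + k) ≤ J • (J ^ k • F p ⊔ F (p + k + 1)) := Submodule.smul_mono le_rfl ih
      _ = J • J ^ k • F p ⊔ J • F (p + k + 1) := Submodule.smul_sup _ _ _
      _ ≤ J ^ (k + 1) • F p ⊔ F (p + k + 2) := by
        refine sup_le_sup ?_ ?_
        · rw [← mul_smul, ← pow_succ']
        · have := hJ (p + k + 1)
          rwa [show p + (k : ℤ) + 1 + 1 = p + k + 2 by ring] at this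

/-- the core of (c) ⇒ (a) -/
theorem fg_and_eq_of_gr [IsPrecomplete J S] (hF : Antitone F)
    (hJ : ∀ p : ℤ, J • F p ≤ F (p + 1)) (hsep : ⨅ p : ℤ, F p = ⊥) (p₁ p : ℤ) (hp : p₁ ≤ p)
    (hfg : (Submodule.map (F (p + 1)).mkQ (F p)).FG)
    (h1 : ∀ q : ℤ, p₁ ≤ q → F (q + 1) = J • F q ⊔ F (q + 2)) :
    (F p).FG ∧ F (p + 1) = J • F p := by
  obtain ⟨k, x, hx, hle⟩ := exists_fin_le_span_sup F p hfg
  let G := shiftFilt J F hF hJ p
  have hG : ∀ n : ℕ, G.N n = F (p + n) := fun n => rfl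
  have hsepG : ⨅ n, G.N n = ⊥ := by
    rw [eq_bot_iff]
    intro y hy
    rw [Submodule.mem_iInf] at hy
    rw [← hsep, Submodule.mem_iInf]
    intro q
    rcases le_or_gt q p with hq | hq
    · have := hy 0
      rw [hG, Nat.cast_zero, add_zero] at this
      exact hF hq this
    · have := hy (q - p).toNat
      rw [hG] at this
      rwa [show p + ((q - p).toNat : ℤ) = q by omega] at this
  have hx0 : ∀ i, x i ∈ G.N 0 := fun i => by
    rw [hG, Nat.cast_zero, add_zero]; exact hx i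
  let xs : (i : Fin k) → ↥(G.N ((fun _ => 0 : Fin k → ℕ) i)) := fun i => ⟨x i, hx0 i⟩
  -- the step
  have hstep : ∀ (n : ℕ) (m : M), m ∈ (⊤ : Submodule S M) → m ∈ G.N n →
      ∃ c : Fin k → S, (∀ i, c i ∈ J ^ (n - (fun _ => 0 : Fin k → ℕ) i)) ∧
        m - ∑ i, c i • (xs i : M) ∈ G.N (n + 1) := by
    intro n m _ hm
    have claim : ∀ u ∈ J ^ n • F p, ∃ c : Fin k → S, (∀ i, c i ∈ J ^ n) ∧
        u - ∑ i, c i • x i ∈ F (p + n + 1) := by
      intro u hu
      refine Submodule.smul_induction_on hu (fun a ha y hy => ?_) (fun u1 u2 h1 h2 => ?_)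
      · obtain ⟨z, hz, w, hw, rfl⟩ := Submodule.mem_sup.mp (hle hy)
        obtain ⟨s, rfl⟩ := (Submodule.mem_span_range_iff_exists_fun S).mp hz
        refine ⟨fun i => a * s i, fun i => Ideal.mul_mem_right _ _ ha, ?_⟩
        have e : a • (∑ i, s i • x i + w) - ∑ i, (a * s i) • x i = a • w := by
          rw [smul_add, Finset.smul_sum]
          simp only [mul_smul]
          abel
        rw [e]
        have h3 := G.pow_smul_le n 1 (Submodule.smul_mem_smul ha
          (show w ∈ G.N 1 by rw [hG]; simpa using hw))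
        rw [hG] at h3
        rwa [show p + ((n + 1 : ℕ) : ℤ) = p + n + 1 by push_cast; ring] at h3
      · obtain ⟨c1, hc1, h1⟩ := h1
        obtain ⟨c2, hc2, h2⟩ := h2
        refine ⟨fun i => c1 i + c2 i, fun i => add_mem (hc1 i) (hc2 i), ?_⟩
        have e : u1 + u2 - ∑ i, (c1 i + c2 i) • x i =
            (u1 - ∑ i, c1 i • x i) + (u2 - ∑ i, c2 i • x i) := by
          simp only [add_smul, Finset.sum_add_distrib]
          abel
        rw [e]
        exact add_mem h1 h2
    rw [hG] at hm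
    obtain ⟨u, hu, v, hv, rfl⟩ := Submodule.mem_sup.mp (le_pow_smul_sup J F hJ p₁ p hp h1 n hm)
    obtain ⟨c, hc, hcu⟩ := claim u hu
    refine ⟨c, fun i => by simpa using hc i, ?_⟩
    rw [hG]
    have e : u + v - ∑ i, c i • (xs i : M) = (u - ∑ i, c i • x i) + v := by
      change u + v - ∑ i, c i • x i = _
      abel
    rw [e, show p + ((n + 1 : ℕ) : ℤ) = p + n + 1 by push_cast; ring]
    exact add_mem hcu hv
  have key := exists_eq_sum_of_step G hsepG (fun _ => 0) xs ⊤ (fun _ => trivial) hstep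
  constructor
  · have : F p = Submodule.span S (Set.range x) := by
      refine le_antisymm (fun m hm => ?_) ?_
      · obtain ⟨L, -, rfl⟩ := key 0 m trivial (by rw [hG, Nat.cast_zero, add_zero]; exact hm)
        exact Submodule.sum_mem _ fun i _ =>
          Submodule.smul_mem _ _ (Submodule.subset_span ⟨i, rfl⟩)
      · rw [Submodule.span_le]
        rintro _ ⟨i, rfl⟩
        exact hx i
    rw [this]
    exact Submodule.fg_span (Set.finite_range _)
  · refine le_antisymm (fun m hm => ?_) (hJ p)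
    obtain ⟨L, hL, rfl⟩ := key 1 m trivial (by rw [hG, Nat.cast_one]; exact hm)
    refine Submodule.sum_mem _ fun i _ => Submodule.smul_mem_smul ?_ (hx i)
    have := hL i
    simpa using this

/-- EGA 0_III 7.x-type: finite + eventually `J`-stable iff graded pieces finite + eventually
generated (= S8353). -/
theorem finite_and_good_iff [IsNoetherianRing S] [IsAdicComplete J S]
    (hF : Antitone F) (hcod : ∃ p₀ : ℤ, F p₀ = ⊤)
    (hJ : ∀ p : ℤ, J • F p ≤ F (p + 1)) (hsep : ⨅ p : ℤ, F p = ⊥) :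
    (Module.Finite S M ∧ ∃ p₁ : ℤ, ∀ p : ℤ, p₁ ≤ p → J • F p = F (p + 1)) ↔
      ((∀ p : ℤ, (Submodule.map (F (p + 1)).mkQ (F p)).FG) ∧
        ∃ p₁ : ℤ, ∀ p : ℤ, p₁ ≤ p → F (p + 1) = J • F p ⊔ F (p + 2)) := by
  constructor
  · rintro ⟨hfin, p₁, hp₁⟩
    have : IsNoetherian S M := isNoetherian_of_isNoetherianRing_of_finite S M
    refine ⟨fun p => Submodule.FG.map _ (IsNoetherian.noetherian _), p₁, fun p hp => ?_⟩
    rw [hp₁ p hp, eq_comm, sup_eq_left]
    exact hF (by omega)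
  · rintro ⟨hfg, p₁, hp₁⟩
    obtain ⟨p₀, hp₀⟩ := hcod
    have key : ∀ p : ℤ, p₁ ≤ p → (F p).FG ∧ F (p + 1) = J • F p := fun p hp =>
      fg_and_eq_of_gr J F hF hJ hsep p₁ p hp (hfg p) hp₁
    refine ⟨?_, p₁, fun p hp => ((key p hp).2).symm⟩
    -- descending induction for finiteness
    have hdown : ∀ k : ℕ, (F (max p₀ p₁ - k)).FG := by
      intro k
      induction k with
      | zero =>
        rw [Nat.cast_zero, sub_zero]
        exact (key _ (le_max_right _ _)).1
      | succ k ih =>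
        have e : max p₀ p₁ - ((k + 1 : ℕ) : ℤ) + 1 = max p₀ p₁ - k := by push_cast; ring
        refine Submodule.fg_of_fg_map_of_fg_inf_ker (F (max p₀ p₁ - ((k + 1 : ℕ) : ℤ) + 1)).mkQ
          (hfg _) ?_
        rw [Submodule.ker_mkQ, inf_eq_right.mpr (hF (by omega)), e]
        exact ih
    have htop : (F p₀).FG := by
      have := hdown (max p₀ p₁ - p₀).toNat
      rwa [show max p₀ p₁ - (((max p₀ p₁ - p₀).toNat : ℕ) : ℤ) = p₀ by
        have := le_max_left p₀ p₁
        omega] at this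
    rw [hp₀] at htop
    exact ⟨htop⟩

end Groth.Agent.Lib.AdicGrMod2
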