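import Groth.Agent.Lib.AdicGrMod
import Groth.Prelude.Def_EGA4b
import Mathlib.RingTheory.Flat.Basic

/-!
# The associated graded module as a direct sum of its pieces; normal flatness (helper25)

* `iMap F n : N n / I N n →ₗ[A] gr_F(M)`, `Phi F : ⨁ N n / I N n →ₗ[A] gr_F(M)` (always surjective),
  bijective when `N (n+1) = I N n` (`PhiEquiv`, `PhiEquivQuot` over `A ⧸ I`).
* `flat_grMod_iff`, `isNormallyFlat_iff_flat_grMod` (= S16455).
-/
set_option autoImplicit false
universe u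
open DirectSum

namespace Groth.Agent.Lib.AdicGrFlat

open AssocGr

variable {A : Type u} [CommRing A] {I : Ideal A} {M : Type u} [AddCommGroup M] [Module A M]
  (F : I.Filtration M)

/-- the map `N n → gr_F(M)`, `A`-linear -/
noncomputable def jMap (n : ℕ) : ↥(F.N n) →ₗ[A] GrMod F where
  toFun x := (inDegM F n x : GrMod F)
  map_add' x y := by rw [map_add]; rfl
  map_smul' a x := coe_inDegM_smul F n a x

theorem jMap_apply (n : ℕ) (x : F.N n) : jMap F n x = (inDegM F n x : GrMod F) := rfl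

theorem jMap_eq_zero_iff (n : ℕ) (x : F.N n) : jMap F n x = 0 ↔ (x : M) ∈ F.N (n + 1) := by
  rw [jMap_apply, ZeroMemClass.coe_eq_zero, inDegM_eq_zero_iff]

theorem smul_top_le_ker_jMap (n : ℕ) :
    (I • (⊤ : Submodule A ↥(F.N n))) ≤ LinearMap.ker (jMap F n) := by
  rw [Submodule.smul_le]
  intro a ha x _
  rw [LinearMap.mem_ker, jMap_eq_zero_iff]
  exact F.smul_le n (Submodule.smul_mem_smul ha x.2)

/-- the induced map `N n / I N n → gr_F(M)` -/
noncomputable def iMap (n : ℕ) : (↥(F.N n) ⧸ (I • (⊤ : Submodule A ↥(F.N n)))) →ₗ[A] GrMod F :=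
  Submodule.liftQ _ (jMap F n) (smul_top_le_ker_jMap F n)

theorem iMap_mk (n : ℕ) (x : F.N n) :
    iMap F n (Submodule.Quotient.mk x) = (inDegM F n x : GrMod F) := rfl

theorem iMap_mem (n : ℕ) (q : ↥(F.N n) ⧸ (I • (⊤ : Submodule A ↥(F.N n)))) :
    iMap F n q ∈ grM F n := by
  obtain ⟨x, rfl⟩ := Submodule.Quotient.mk_surjective _ q
  rw [iMap_mk]
  exact (inDegM F n x).2

/-- the comparison map `⨁ N n / I N n → gr_F(M)` -/
noncomputable def Phi : (⨁ n, ↥(F.N n) ⧸ (I • (⊤ : Submodule A ↥(F.N n)))) →ₗ[A] GrMod F :=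
  DirectSum.toModule A ℕ (GrMod F) (iMap F)

theorem Phi_of (n : ℕ) (q : ↥(F.N n) ⧸ (I • (⊤ : Submodule A ↥(F.N n)))) :
    Phi F (DirectSum.of _ n q) = iMap F n q := by
  rw [Phi]
  exact DirectSum.toModule_lof (M := fun n => ↥(F.N n) ⧸ (I • (⊤ : Submodule A ↥(F.N n)))) A n q

theorem Phi_surjective : Function.Surjective (Phi F) := by
  classical
  intro z
  rw [← LinearMap.mem_range, ← DirectSum.sum_support_decompose (grM F) z]
  refine Submodule.sum_mem _ fun n _ => ?_
  obtain ⟨x, hx⟩ := inDegM_surjective F n (decompose (grM F) z n)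
  refine ⟨DirectSum.of _ n (Submodule.Quotient.mk x), ?_⟩
  rw [Phi_of, iMap_mk, hx]

theorem decompose_Phi (w : ⨁ n, ↥(F.N n) ⧸ (I • (⊤ : Submodule A ↥(F.N n)))) (n : ℕ) :
    (decompose (grM F) (Phi F w) n : GrMod F) = iMap F n (w n) := by
  classical
  induction w using DirectSum.induction_on with
  | zero => simp
  | of m q =>
    rw [Phi_of]
    by_cases hmn : m = n
    · subst hmn
      rw [DirectSum.decompose_of_mem_same _ (iMap_mem F m q), DirectSum.of_eq_same]
    · rw [DirectSum.decompose_of_mem_ne _ (iMap_mem F m q) hmn, DirectSum.of_eq_of_ne _ _ _ (Ne.symm hmn),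
        map_zero]
  | add w w' hw hw' =>
    rw [map_add, DirectSum.decompose_add, DirectSum.add_apply, AddSubgroup.coe_add, hw, hw',
      DirectSum.add_apply, map_add]

theorem iMap_injective (hF : ∀ n, F.N (n + 1) = I • F.N n) (n : ℕ) :
    Function.Injective (iMap F n) := by
  rw [← LinearMap.ker_eq_bot, iMap]
  refine Submodule.ker_liftQ_eq_bot _ _ _ fun x hx => ?_
  rw [LinearMap.mem_ker, jMap_eq_zero_iff, hF n] at hx
  exact (Submodule.mem_smul_top_iff I (F.N n) x).mpr hx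

theorem Phi_injective (hF : ∀ n, F.N (n + 1) = I • F.N n) : Function.Injective (Phi F) := by
  rw [injective_iff_map_eq_zero]
  intro w hw
  refine DFinsupp.ext fun n => ?_
  have h1 := decompose_Phi F w n
  rw [hw, DirectSum.decompose_zero] at h1
  have h2 : iMap F n (w n) = 0 := h1.symm
  rw [← map_zero (iMap F n)] at h2
  exact iMap_injective F hF n h2

/-- `gr_F(M) ≅ ⨁ N n / I N n` as `A`-modules, when `N (n+1) = I N n`. -/
noncomputable def PhiEquiv (hF : ∀ n, F.N (n + 1) = I • F.N n) :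
    (⨁ n, ↥(F.N n) ⧸ (I • (⊤ : Submodule A ↥(F.N n)))) ≃ₗ[A] GrMod F :=
  LinearEquiv.ofBijective (Phi F) ⟨Phi_injective F hF, Phi_surjective F⟩

/-- the same over `A ⧸ I` -/
noncomputable def PhiEquivQuot (hF : ∀ n, F.N (n + 1) = I • F.N n) :
    (⨁ n, ↥(F.N n) ⧸ (I • (⊤ : Submodule A ↥(F.N n)))) ≃ₗ[A ⧸ I] GrMod F :=
  (PhiEquiv F hF).extendScalarsOfSurjective Ideal.Quotient.mk_surjective

theorem flat_grMod_iff (hF : ∀ n, F.N (n + 1) = I • F.N n) :
    Module.Flat (A ⧸ I) (GrMod F) ↔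
      ∀ n, Module.Flat (A ⧸ I) (↥(F.N n) ⧸ (I • (⊤ : Submodule A ↥(F.N n)))) := by
  rw [← Module.Flat.equiv_iff (PhiEquivQuot F hF), Module.Flat.directSum_iff]

theorem isNormallyFlat_iff_flat_grMod (A : Type u) [CommRing A] (I : Ideal A) (M : Type u)
    [AddCommGroup M] [Module A M] :
    EGA4.IsNormallyFlat I M ↔ Module.Flat (A ⧸ I) (AssocGr.GrMod (Rees.powFilt I M)) := by
  rw [flat_grMod_iff (Rees.powFilt I M) (fun n => by
    change I ^ (n + 1) • (⊤ : Submodule A M) = I • (I ^ n • (⊤ : Submodule A M))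
    rw [pow_succ', mul_smul])]
  rfl

end Groth.Agent.Lib.AdicGrFlat
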