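import Mathlib.RingTheory.Flat.Tensor
import Mathlib.RingTheory.LocalRing.Module
import Mathlib.RingTheory.Filtration
import Mathlib.Algebra.Module.Torsion.Basic
import Mathlib.RingTheory.Flat.FaithfullyFlat.Basic

/-!
# Flatness criteria without Tor

`Tor1Zero R N M` says that `Tor₁^R(N, M) = 0`, phrased with the canonical free presentation of `M`.
We prove independence of presentations, half exactness, change of rings, and the local criterion
of flatness (nilpotent and ideally separated forms).
-/

set_option autoImplicit false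

namespace Groth.Agent.Lib.FlatCrit

open TensorProduct Function

universe u v w

section Tor1

variable {R : Type u} [CommRing R]

variable (R) in
/-- The canonical free presentation of a module. -/
noncomputable def pres (M : Type v) [AddCommGroup M] [Module R M] : (M →₀ R) →ₗ[R] M :=
  Finsupp.linearCombination R id

variable (R) in
lemma pres_surjective (M : Type v) [AddCommGroup M] [Module R M] : Surjective (pres R M) :=
  Finsupp.linearCombination_id_surjective R M

variable (R) in
lemma pres_exact (M : Type v) [AddCommGroup M] [Module R M] :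
    Exact (LinearMap.ker (pres R M)).subtype (pres R M) :=
  LinearMap.exact_subtype_ker_map _

attribute [irreducible] pres

variable (R) in
/-- `Tor₁^R(N, M) = 0`, via the canonical free presentation of `M`. -/
def Tor1Zero (N : Type v) (M : Type w) [AddCommGroup N] [Module R N] [AddCommGroup M] [Module R M] :
    Prop :=
  Injective ((LinearMap.ker (pres R M)).subtype.lTensor N)

variable {N : Type*} {M : Type*} [AddCommGroup N] [Module R N] [AddCommGroup M] [Module R M]

/-- Symmetry of `Tor₁` vanishing computed from two flat presentations. -/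
theorem lTensor_injective_iff_rTensor_injective_of_exact
    {K F L G : Type*} [AddCommGroup K] [Module R K] [AddCommGroup F] [Module R F]
    [AddCommGroup L] [Module R L] [AddCommGroup G] [Module R G]
    [Module.Flat R F] [Module.Flat R G]
    {j : K →ₗ[R] F} {q : F →ₗ[R] N} (hj : Injective j) (hjq : Exact j q) (hq : Surjective q)
    {i : L →ₗ[R] G} {p : G →ₗ[R] M} (hi : Injective i) (hip : Exact i p) (hp : Surjective p) :
    Injective (i.lTensor N) ↔ Injective (j.rTensor M) := by
  constructor
  · intro h
    rw [← LinearMap.lTensor_inj_iff_rTensor_inj]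
    exact lTensor_injective_of_exact_of_exact_of_rTensor_injective hip hp hjq hq
      ((LinearMap.lTensor_inj_iff_rTensor_inj _ _).mp h)
      (Module.Flat.lTensor_preserves_injective_linearMap _ hj)
  · intro h
    exact lTensor_injective_of_exact_of_exact_of_rTensor_injective hjq hq hip hp h
      (Module.Flat.lTensor_preserves_injective_linearMap _ hi)

/-- `Tor1Zero` can be tested on any flat presentation of the left module. -/
theorem tor1Zero_iff_rTensor_injective
    {K F : Type*} [AddCommGroup K] [Module R K] [AddCommGroup F] [Module R F] [Module.Flat R F]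
    {j : K →ₗ[R] F} {q : F →ₗ[R] N} (hj : Injective j) (hjq : Exact j q) (hq : Surjective q) :
    Tor1Zero R N M ↔ Injective (j.rTensor M) :=
  lTensor_injective_iff_rTensor_injective_of_exact hj hjq hq
    (Submodule.subtype_injective _) (pres_exact R M) (pres_surjective R M)

/-- `Tor1Zero` can be tested on any flat presentation of the right module. -/
theorem tor1Zero_iff_lTensor_injective
    {L G : Type*} [AddCommGroup L] [Module R L] [AddCommGroup G] [Module R G] [Module.Flat R G]
    {i : L →ₗ[R] G} {p : G →ₗ[R] M} (hi : Injective i) (hip : Exact i p) (hp : Surjective p) :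
    Tor1Zero R N M ↔ Injective (i.lTensor N) := by
  rw [tor1Zero_iff_rTensor_injective (M := M) (Submodule.subtype_injective _) (pres_exact R N)
    (pres_surjective R N)]
  exact (lTensor_injective_iff_rTensor_injective_of_exact (Submodule.subtype_injective _)
    (pres_exact R N) (pres_surjective R N) hi hip hp).symm

theorem tor1Zero_quotient_iff (I : Ideal R) :
    Tor1Zero R (R ⧸ I) M ↔ Injective (I.subtype.rTensor M) :=
  tor1Zero_iff_rTensor_injective (Submodule.subtype_injective _)
    (LinearMap.exact_subtype_mkQ I) (Submodule.mkQ_surjective I)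

theorem tor1Zero_of_flat_right [Module.Flat R M] : Tor1Zero R N M := by
  rw [tor1Zero_iff_rTensor_injective (M := M) (Submodule.subtype_injective _) (pres_exact R N)
    (pres_surjective R N)]
  exact Module.Flat.rTensor_preserves_injective_linearMap _ (Submodule.subtype_injective _)

theorem tor1Zero_of_flat_left [Module.Flat R N] : Tor1Zero R N M :=
  Module.Flat.lTensor_preserves_injective_linearMap _ (Submodule.subtype_injective _)

theorem tor1Zero_of_subsingleton [Subsingleton N] : Tor1Zero R N M :=
  Function.injective_of_subsingleton _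

theorem flat_of_forall_tor1Zero (h : ∀ I : Ideal R, I.FG → Tor1Zero R (R ⧸ I) M) :
    Module.Flat R M := by
  rw [Module.Flat.iff_rTensor_injective]
  intro I hI
  exact (tor1Zero_quotient_iff I).mp (h I hI)

/-- If `0 → N' → N → N'' → 0` is exact and `Tor₁(N'', M) = 0` then `N' ⊗ M → N ⊗ M` is
injective. -/
theorem rTensor_injective_of_tor1Zero {N' N'' : Type*} [AddCommGroup N'] [Module R N']
    [AddCommGroup N''] [Module R N''] {f : N' →ₗ[R] N} {g : N →ₗ[R] N''}
    (hf : Injective f) (hfg : Exact f g) (hg : Surjective g) (h : Tor1Zero R N'' M) :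
    Injective (f.rTensor M) := by
  rw [← LinearMap.lTensor_inj_iff_rTensor_inj]
  have h1 : Injective ((LinearMap.ker (pres R M)).subtype.rTensor N'') :=
    (LinearMap.lTensor_inj_iff_rTensor_inj _ _).mp h
  exact lTensor_injective_of_exact_of_exact_of_rTensor_injective
    (M₁ := LinearMap.ker (pres R M)) (M₂ := (M →₀ R))
    (pres_exact R M) (pres_surjective R M)
    hfg hg h1
    (Module.Flat.lTensor_preserves_injective_linearMap _ hf)

/-- Half exactness, general form. -/
theorem lTensor_injective_of_exact_of_flat {N' N'' L G : Type*} [AddCommGroup N'] [Module R N']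
    [AddCommGroup N''] [Module R N''] [AddCommGroup L] [Module R L] [AddCommGroup G] [Module R G]
    [Module.Flat R G] (i : L →ₗ[R] G)
    {f : N' →ₗ[R] N} {g : N →ₗ[R] N''}
    (hf : Injective f) (hfg : Exact f g) (hg : Surjective g)
    (h' : Injective (i.lTensor N')) (h'' : Injective (i.lTensor N'')) :
    Injective (i.lTensor N) := by
  rw [injective_iff_map_eq_zero]
  intro x hx
  have h1 : g.rTensor L x = 0 := by
    apply h''
    rw [map_zero, ← LinearMap.comp_apply, LinearMap.lTensor_comp_rTensor,
      ← LinearMap.rTensor_comp_lTensor, LinearMap.comp_apply, hx, map_zero]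
  obtain ⟨y, rfl⟩ := (rTensor_exact L hfg hg x).mp h1
  have h2 : i.lTensor N' y = 0 := by
    apply Module.Flat.rTensor_preserves_injective_linearMap (M := G) f hf
    rw [map_zero, ← LinearMap.comp_apply, LinearMap.rTensor_comp_lTensor,
      ← LinearMap.lTensor_comp_rTensor, LinearMap.comp_apply, hx]
  rw [(injective_iff_map_eq_zero _).mp h' y h2, map_zero]

/-- Half exactness of `Tor₁` vanishing. -/
theorem tor1Zero_of_exact {N' N'' : Type*} [AddCommGroup N'] [Module R N']
    [AddCommGroup N''] [Module R N''] {f : N' →ₗ[R] N} {g : N →ₗ[R] N''}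
    (hf : Injective f) (hfg : Exact f g) (hg : Surjective g)
    (h' : Tor1Zero R N' M) (h'' : Tor1Zero R N'' M) : Tor1Zero R N M := by
  unfold Tor1Zero at h' h'' ⊢
  have := @lTensor_injective_of_exact_of_flat R _ N _ _ N' N'' (LinearMap.ker (pres R M))
    (M →₀ R) _ _ _ _ _ _ _ _ _
  exact @this (LinearMap.ker (pres R M)).subtype f g hf hfg hg h' h''

end Tor1

section ChangeOfRings

variable {R : Type u} [CommRing R] (A : Type*) [CommRing A] [Algebra R A]
variable {N : Type*} [AddCommGroup N] [Module R N] [Module A N] [IsScalarTower R A N]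
variable {M : Type*} [AddCommGroup M] [Module R M]

/-- naturality of `cancelBaseChange`, elementwise -/
theorem lTensor_cancelBaseChange_apply {L G : Type*} [AddCommGroup L] [Module R L]
    [AddCommGroup G] [Module R G] (i : L →ₗ[R] G) (y : N ⊗[A] (A ⊗[R] L)) :
    i.lTensor N (AlgebraTensorModule.cancelBaseChange R A A N L y) =
      AlgebraTensorModule.cancelBaseChange R A A N G ((i.baseChange A).lTensor N y) := by
  induction y with
  | zero => simp
  | add x y hx hy => simp only [map_add, hx, hy]
  | tmul n z =>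
    induction z with
    | zero => simp
    | add x y hx hy => simp only [map_add, tmul_add, hx, hy]
    | tmul a l => simp

end ChangeOfRings

section ChangeOfRings2

variable {R : Type u} [CommRing R] (A : Type*) [CommRing A] [Algebra R A]
variable {N : Type*} [AddCommGroup N] [Module R N] [Module A N] [IsScalarTower R A N]
variable {M : Type*} [AddCommGroup M] [Module R M]

theorem lTensor_injective_of_baseChange {L G : Type*} [AddCommGroup L] [Module R L]
    [AddCommGroup G] [Module R G] (i : L →ₗ[R] G)
    (h : Injective ((i.baseChange A).lTensor N)) : Injective (i.lTensor N) := by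
  intro x y hxy
  obtain ⟨x, rfl⟩ := (AlgebraTensorModule.cancelBaseChange R A A N L).surjective x
  obtain ⟨y, rfl⟩ := (AlgebraTensorModule.cancelBaseChange R A A N L).surjective y
  rw [lTensor_cancelBaseChange_apply, lTensor_cancelBaseChange_apply] at hxy
  rw [h ((AlgebraTensorModule.cancelBaseChange R A A N G).injective hxy)]

/-- Change of rings: if `Tor₁^R(A, M) = 0` and `A ⊗ M` is flat over `A`, then `Tor₁^R(N, M) = 0`
for every `A`-module `N`. -/
theorem tor1Zero_of_baseChange_flat (h1 : Tor1Zero R A M) [Module.Flat A (A ⊗[R] M)] :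
    Tor1Zero R N M := by
  unfold Tor1Zero at h1 ⊢
  have key := @lTensor_injective_of_baseChange R _ A _ _ N _ _ _ _ (LinearMap.ker (pres R M))
    (M →₀ R) _ _ _ _ (LinearMap.ker (pres R M)).subtype
  apply key
  have hex : Exact ((LinearMap.ker (pres R M)).subtype.baseChange A) ((pres R M).baseChange A) := by
    have := @lTensor_exact R (LinearMap.ker (pres R M)) (M →₀ R) M _ _ _ _ _ _ _
      (LinearMap.ker (pres R M)).subtype (pres R M) A _ _
    exact this (pres_exact R M) (pres_surjective R M)
  have hsurj : Surjective ((pres R M).baseChange A) :=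
    LinearMap.lTensor_surjective A (pres_surjective R M)
  have := @tor1Zero_iff_lTensor_injective A _ N (A ⊗[R] M) _ _ _ _
    (A ⊗[R] (LinearMap.ker (pres R M))) (A ⊗[R] (M →₀ R)) _ _ _ _ _
  exact (@this ((LinearMap.ker (pres R M)).subtype.baseChange A) ((pres R M).baseChange A) h1 hex
    hsurj).mp tor1Zero_of_flat_right

end ChangeOfRings2

section Induction

variable {R : Type u} [CommRing R]

theorem induction_pow_smul (I : Ideal R)
    (P : ∀ (N : Type v) [AddCommGroup N] [Module R N], Prop)
    (h0 : ∀ (N : Type v) [AddCommGroup N] [Module R N], I • (⊤ : Submodule R N) = ⊥ → P N)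
    (hext : ∀ (N : Type v) [AddCommGroup N] [Module R N] (N' : Submodule R N),
      P N' → P (N ⧸ N') → P N) :
    ∀ (n : ℕ) (N : Type v) [AddCommGroup N] [Module R N], I ^ n • (⊤ : Submodule R N) = ⊥ → P N := by
  intro n
  induction n with
  | zero =>
    intro N _ _ h
    apply h0
    rw [pow_zero, Ideal.one_eq_top, Submodule.top_smul] at h
    rw [h, Submodule.smul_bot]
  | succ n ih =>
    intro N _ _ h
    apply hext N (I • ⊤)
    · apply ih
      apply Submodule.map_injective_of_injective (I • (⊤ : Submodule R N)).subtype_injective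
      rw [Submodule.map_smul'', Submodule.map_top, Submodule.range_subtype, Submodule.map_bot,
        ← Submodule.mul_smul, ← pow_succ, h]
    · apply h0
      rw [← Submodule.range_mkQ (I • (⊤ : Submodule R N)), ← Submodule.map_top,
        ← Submodule.map_smul'', Submodule.mkQ_map_self]

end Induction

section L1

variable {R : Type u} [CommRing R] {M : Type*} [AddCommGroup M] [Module R M]

/-- A module killed by `I` has `Tor₁(N, M) = 0` when `Tor₁(R/I, M) = 0` and `M/IM` is flat over
`R/I`. -/
theorem tor1Zero_of_smul_eq_bot (I : Ideal R) (h1 : Tor1Zero R (R ⧸ I) M)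
    [Module.Flat (R ⧸ I) ((R ⧸ I) ⊗[R] M)]
    (N : Type v) [AddCommGroup N] [Module R N] (hN : I • (⊤ : Submodule R N) = ⊥) :
    Tor1Zero R N M := by
  have htors : Module.IsTorsionBySet R N I := by
    intro x a
    have : (a : R) • x ∈ I • (⊤ : Submodule R N) := Submodule.smul_mem_smul a.2 trivial
    rwa [hN, Submodule.mem_bot] at this
  let _ := htors.module
  exact tor1Zero_of_baseChange_flat (R ⧸ I) h1

theorem tor1Zero_of_pow_smul_eq_bot (I : Ideal R) (h1 : Tor1Zero R (R ⧸ I) M)
    [Module.Flat (R ⧸ I) ((R ⧸ I) ⊗[R] M)] (n : ℕ)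
    (N : Type v) [AddCommGroup N] [Module R N] (hN : I ^ n • (⊤ : Submodule R N) = ⊥) :
    Tor1Zero R N M := by
  refine induction_pow_smul I (fun N _ _ => Tor1Zero R N M) ?_ ?_ n N hN
  · intro N _ _ h
    exact tor1Zero_of_smul_eq_bot I h1 N h
  · intro N _ _ N' h' h''
    exact tor1Zero_of_exact N'.subtype_injective (LinearMap.exact_subtype_mkQ N')
      (Submodule.mkQ_surjective N') h' h''

end L1

section P

variable {R : Type u} [CommRing R] {M : Type*} [AddCommGroup M] [Module R M]

/-- naturality of `cancelBaseChange` in the left variable, elementwise -/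
theorem rTensor_cancelBaseChange_apply (A : Type*) [CommRing A] [Algebra R A]
    {N₁ N₂ : Type*} [AddCommGroup N₁] [Module R N₁] [Module A N₁] [IsScalarTower R A N₁]
    [AddCommGroup N₂] [Module R N₂] [Module A N₂] [IsScalarTower R A N₂]
    (f : N₁ →ₗ[A] N₂) (y : N₁ ⊗[A] (A ⊗[R] M)) :
    (f.restrictScalars R).rTensor M (AlgebraTensorModule.cancelBaseChange R A A N₁ M y) =
      AlgebraTensorModule.cancelBaseChange R A A N₂ M (f.rTensor (A ⊗[R] M) y) := by
  induction y with
  | zero => simp
  | add x y hx hy => simp only [map_add, hx, hy]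
  | tmul n z =>
    induction z with
    | zero => simp
    | add x y hx hy => simp only [map_add, tmul_add, hx, hy]
    | tmul a l => simp

theorem rTensor_injective_of_restrictScalars (A : Type*) [CommRing A] [Algebra R A]
    {N₁ N₂ : Type*} [AddCommGroup N₁] [Module R N₁] [Module A N₁] [IsScalarTower R A N₁]
    [AddCommGroup N₂] [Module R N₂] [Module A N₂] [IsScalarTower R A N₂]
    (f : N₁ →ₗ[A] N₂) (h : Injective ((f.restrictScalars R).rTensor M)) :
    Injective (f.rTensor (A ⊗[R] M)) := by
  intro x y hxy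
  apply (AlgebraTensorModule.cancelBaseChange R A A N₁ M).injective
  apply h
  rw [rTensor_cancelBaseChange_apply, rTensor_cancelBaseChange_apply, hxy]

/-- If `Tor₁^R(N, M) = 0` for all modules `N` killed by `J`, then `M/JM` is flat over `R/J`. -/
theorem flat_quotient_of_tor1Zero (J : Ideal R)
    (h : ∀ (N : Type u) [AddCommGroup N] [Module R N], J • (⊤ : Submodule R N) = ⊥ →
      Tor1Zero R N M) :
    Module.Flat (R ⧸ J) ((R ⧸ J) ⊗[R] M) := by
  rw [Module.Flat.iff_rTensor_injective']
  intro 𝔞
  apply rTensor_injective_of_restrictScalars (R ⧸ J)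
  have hT : Tor1Zero R ((R ⧸ J) ⧸ 𝔞) M := by
    apply h
    rw [eq_bot_iff]
    intro x hx
    refine Submodule.smul_induction_on hx ?_ ?_
    · intro r hr n _
      obtain ⟨n, rfl⟩ := Submodule.mkQ_surjective _ n
      rw [Submodule.mem_bot]
      have : r • (𝔞.mkQ n) = (Ideal.Quotient.mk J r) • (𝔞.mkQ n) := rfl
      rw [this, Ideal.Quotient.eq_zero_iff_mem.mpr hr, zero_smul]
    · intro x y hx hy
      exact Submodule.add_mem _ hx hy
  exact rTensor_injective_of_tor1Zero (f := 𝔞.subtype.restrictScalars R)
    (g := 𝔞.mkQ.restrictScalars R) 𝔞.subtype_injective (LinearMap.exact_subtype_mkQ 𝔞)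
    (Submodule.mkQ_surjective 𝔞) hT

end P

section L3

variable {R : Type u} [CommRing R] {M : Type*} [AddCommGroup M] [Module R M]

/-- tensors of elements of `I^n • 𝔞` lie in `I^n • ⊤`. -/
theorem tmul_mem_pow_smul_top (J : Ideal R) (𝔞 : Ideal R) (b : 𝔞) (hb : (b : R) ∈ J • 𝔞) (m : M) :
    b ⊗ₜ[R] m ∈ J • (⊤ : Submodule R (𝔞 ⊗[R] M)) := by
  have h1 : b ∈ J • (⊤ : Submodule R 𝔞) := by
    have : (J • (⊤ : Submodule R 𝔞)).map 𝔞.subtype = J • 𝔞 := by
      rw [Submodule.map_smul'', Submodule.map_top, Submodule.range_subtype]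
    rw [← this] at hb
    obtain ⟨y, hy, hyb⟩ := hb
    have : y = b := Subtype.ext hyb
    rwa [← this]
  have h2 : (J • (⊤ : Submodule R 𝔞)).map ((TensorProduct.mk R 𝔞 M).flip m) ≤
      J • (⊤ : Submodule R (𝔞 ⊗[R] M)) := by
    rw [Submodule.map_smul'']
    exact Submodule.smul_mono le_rfl le_top
  exact h2 ⟨b, h1, rfl⟩

end L3

section L3b

variable {R : Type u} [CommRing R] {M : Type*} [AddCommGroup M] [Module R M]

theorem rTensor_injective_restrictScalars_of (A : Type*) [CommRing A] [Algebra R A]
    {N₁ N₂ : Type*} [AddCommGroup N₁] [Module R N₁] [Module A N₁] [IsScalarTower R A N₁]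
    [AddCommGroup N₂] [Module R N₂] [Module A N₂] [IsScalarTower R A N₂]
    (f : N₁ →ₗ[A] N₂) (h : Injective (f.rTensor (A ⊗[R] M))) :
    Injective ((f.restrictScalars R).rTensor M) := by
  intro x y hxy
  obtain ⟨x, rfl⟩ := (AlgebraTensorModule.cancelBaseChange R A A N₁ M).surjective x
  obtain ⟨y, rfl⟩ := (AlgebraTensorModule.cancelBaseChange R A A N₁ M).surjective y
  rw [rTensor_cancelBaseChange_apply, rTensor_cancelBaseChange_apply] at hxy
  rw [h ((AlgebraTensorModule.cancelBaseChange R A A N₂ M).injective hxy)]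

/-- Local criterion of flatness, ideally separated case: if `M/IⁿM` is flat over `R/Iⁿ` for all
`n ≥ 1`, and `𝔞 ⊗ M` is `I`-adically separated for every ideal `𝔞`, then `M` is flat. -/
theorem flat_of_flat_quotient_pow [IsNoetherianRing R] (I : Ideal R)
    (hsep : ∀ (𝔞 : Ideal R) (x : 𝔞 ⊗[R] M),
      (∀ n : ℕ, x ∈ I ^ n • (⊤ : Submodule R (𝔞 ⊗[R] M))) → x = 0)
    (hflat : ∀ n : ℕ, 0 < n → Module.Flat (R ⧸ I ^ n) ((R ⧸ I ^ n) ⊗[R] M)) :
    Module.Flat R M := by
  rw [Module.Flat.iff_rTensor_injective']
  intro 𝔞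
  rw [injective_iff_map_eq_zero]
  intro x hx
  apply hsep 𝔞 x
  intro n
  obtain ⟨k, hk⟩ := Ideal.exists_pow_inf_eq_pow_smul I (𝔞 : Submodule R R)
  obtain ⟨m, hm⟩ : ∃ m, m = n + k + 1 := ⟨_, rfl⟩
  have hAR : I ^ m ⊓ 𝔞 ≤ I ^ n • 𝔞 := by
    have h1 := hk m (by omega)
    have h2 : I ^ m • (⊤ : Submodule R R) = I ^ m := by
      rw [smul_eq_mul, Ideal.mul_top]
    rw [h2] at h1
    rw [h1]
    have h3 : m - k = n + 1 := by omega
    rw [h3]
    calc I ^ (n + 1) • (I ^ k • ⊤ ⊓ 𝔞) ≤ I ^ (n + 1) • 𝔞 :=
          Submodule.smul_mono le_rfl inf_le_right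
      _ ≤ I ^ n • 𝔞 := Submodule.smul_mono (Ideal.pow_le_pow_right (by omega)) le_rfl
  have := hflat m (by omega)
  let Q : Ideal (R ⧸ I ^ m) := 𝔞.map (Ideal.Quotient.mk (I ^ m))
  let φ : 𝔞 →ₗ[R] Q :=
    { toFun := fun a => ⟨Ideal.Quotient.mk (I ^ m) a.1, Ideal.mem_map_of_mem _ a.2⟩
      map_add' := fun a b => Subtype.ext (by simp)
      map_smul' := fun r a => Subtype.ext (by simp [Algebra.smul_def]) }
  have hφsurj : Surjective φ := by
    rintro ⟨y, hy⟩
    obtain ⟨a, ha, rfl⟩ := (Ideal.mem_map_iff_of_surjective _ Ideal.Quotient.mk_surjective).mp hy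
    exact ⟨⟨a, ha⟩, rfl⟩
  have hφker : ∀ a : 𝔞, a ∈ LinearMap.ker φ → (a : R) ∈ I ^ m := by
    intro a ha
    rw [LinearMap.mem_ker] at ha
    have := congrArg Subtype.val ha
    exact Ideal.Quotient.eq_zero_iff_mem.mp this
  have hcomp : (Q.subtype.restrictScalars R) ∘ₗ φ = (I ^ m).mkQ ∘ₗ 𝔞.subtype := by
    ext a; rfl
  have hinj : Injective ((Q.subtype.restrictScalars R).rTensor M) :=
    rTensor_injective_restrictScalars_of (R ⧸ I ^ m) Q.subtype
      (Module.Flat.rTensor_preserves_injective_linearMap _ Q.subtype_injective)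
  have h0 : φ.rTensor M x = 0 := by
    apply hinj
    rw [map_zero, ← LinearMap.comp_apply, ← LinearMap.rTensor_comp, hcomp, LinearMap.rTensor_comp,
      LinearMap.comp_apply, hx, map_zero]
  have hex := rTensor_exact M (LinearMap.exact_subtype_ker_map φ) hφsurj
  obtain ⟨y, rfl⟩ := (hex x).mp h0
  clear hx h0
  induction y with
  | zero => simp
  | add y z hy hz => rw [map_add]; exact Submodule.add_mem _ hy hz
  | tmul b m' =>
    rw [LinearMap.rTensor_tmul]
    exact tmul_mem_pow_smul_top (I ^ n) 𝔞 b.1 (hAR ⟨hφker b.1 b.2, b.1.2⟩) m'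

end L3b

section Sep

variable {R : Type u} [CommRing R] {S : Type*} [CommRing S] [Algebra R S]
variable {M : Type*} [AddCommGroup M] [Module R M] [Module S M] [IsScalarTower R S M]

/-- `M ⊗[R] P` is a finite `S`-module if `M` is finite over `S` and `P` is finite over `R`. -/
theorem finite_tensorProduct_left {P : Type*} [AddCommGroup P] [Module R P]
    [Module.Finite S M] [Module.Finite R P] : Module.Finite S (M ⊗[R] P) := by
  classical
  obtain ⟨sM, hsM⟩ := (Module.finite_def (R := S) (M := M)).mp inferInstance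
  obtain ⟨sP, hsP⟩ := (Module.finite_def (R := R) (M := P)).mp inferInstance
  refine ⟨⟨Finset.image₂ (fun m p => m ⊗ₜ[R] p) sM sP, ?_⟩⟩
  rw [eq_top_iff]
  set T : Submodule S (M ⊗[R] P) :=
    Submodule.span S ↑(Finset.image₂ (fun m p => m ⊗ₜ[R] p) sM sP) with hT
  -- step 1: for p ∈ sP, all m ⊗ p are in T
  have h1 : ∀ p ∈ sP, ∀ m : M, m ⊗ₜ[R] p ∈ T := by
    intro p hp m
    have hm : m ∈ Submodule.span S (sM : Set M) := by rw [hsM]; trivial
    refine Submodule.span_induction ?_ ?_ ?_ ?_ hm
    · intro m hm
      exact Submodule.subset_span (Finset.mem_coe.mpr (Finset.mem_image₂_of_mem hm hp))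
    · rw [zero_tmul]; exact T.zero_mem
    · intro x y _ _ hx hy
      rw [add_tmul]; exact T.add_mem hx hy
    · intro s x _ hx
      rw [← smul_tmul']; exact T.smul_mem s hx
  -- step 2: all m ⊗ p are in T
  have h2 : ∀ (m : M) (p : P), m ⊗ₜ[R] p ∈ T := by
    intro m p
    have hp : p ∈ Submodule.span R (sP : Set P) := by rw [hsP]; trivial
    refine Submodule.span_induction ?_ ?_ ?_ ?_ hp
    · intro p hp
      exact h1 p hp m
    · rw [tmul_zero]; exact T.zero_mem
    · intro x y _ _ hx hy
      rw [tmul_add]; exact T.add_mem hx hy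
    · intro r x _ hx
      rw [tmul_smul, ← algebraMap_smul S r (m ⊗ₜ[R] x)]; exact T.smul_mem _ hx
  intro x _
  clear_value T
  induction x with
  | zero => exact T.zero_mem
  | add x y hx hy => exact T.add_mem (hx trivial) (hy trivial)
  | tmul m p => exact h2 m p

end Sep

section Sep2

variable {R : Type u} [CommRing R] {S : Type*} [CommRing S] [Algebra R S]
variable {M : Type*} [AddCommGroup M] [Module R M] [Module S M] [IsScalarTower R S M]

/-- `I`-adic separatedness of `P ⊗[R] M` when `M` is finite over a Noetherian `R`-algebra `S`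
with `IS` in the Jacobson radical and `P` is finite over `R`. -/
theorem eq_zero_of_forall_mem_pow_smul_top [IsNoetherianRing S] [Module.Finite S M]
    (I : Ideal R) (hI : I.map (algebraMap R S) ≤ Ideal.jacobson ⊥)
    {P : Type*} [AddCommGroup P] [Module R P] [Module.Finite R P]
    (x : P ⊗[R] M) (hx : ∀ n : ℕ, x ∈ I ^ n • (⊤ : Submodule R (P ⊗[R] M))) : x = 0 := by
  have hfin : Module.Finite S (M ⊗[R] P) := finite_tensorProduct_left
  have hkrull := Ideal.iInf_pow_smul_eq_bot_of_le_jacobson (M := M ⊗[R] P) _ hI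
  suffices h : (TensorProduct.comm R P M) x = 0 by
    simpa using h
  rw [← Submodule.mem_bot S, ← hkrull, Submodule.mem_iInf]
  intro n
  have h1 : (TensorProduct.comm R P M) x ∈ I ^ n • (⊤ : Submodule R (M ⊗[R] P)) := by
    have : (I ^ n • (⊤ : Submodule R (P ⊗[R] M))).map (TensorProduct.comm R P M).toLinearMap ≤
        I ^ n • (⊤ : Submodule R (M ⊗[R] P)) := by
      rw [Submodule.map_smul'']
      exact Submodule.smul_mono le_rfl le_top
    exact this ⟨x, hx n, rfl⟩
  refine Submodule.smul_induction_on h1 ?_ ?_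
  · intro r hr t _
    rw [← algebraMap_smul S r t]
    refine Submodule.smul_mem_smul ?_ trivial
    rw [← Ideal.map_pow]
    exact Ideal.mem_map_of_mem _ hr
  · intro a b ha hb
    exact Submodule.add_mem _ ha hb

end Sep2

section Criteria

variable {R : Type u} [CommRing R] {M : Type*} [AddCommGroup M] [Module R M]

/-- If `Tor₁(R/I, M) = 0` and `M/IM` is flat over `R/I` then `M/IⁿM` is flat over `R/Iⁿ`. -/
theorem flat_quotient_pow_of_tor1Zero (I : Ideal R) (h1 : Tor1Zero R (R ⧸ I) M)
    [Module.Flat (R ⧸ I) ((R ⧸ I) ⊗[R] M)] (n : ℕ) :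
    Module.Flat (R ⧸ I ^ n) ((R ⧸ I ^ n) ⊗[R] M) :=
  flat_quotient_of_tor1Zero (I ^ n) fun N _ _ hN => tor1Zero_of_pow_smul_eq_bot I h1 n N hN

/-- Local criterion of flatness for a nilpotent ideal. -/
theorem flat_of_isNilpotent (I : Ideal R) (hI : IsNilpotent I)
    (h1 : Injective (I.subtype.rTensor M))
    [Module.Flat (R ⧸ I) ((R ⧸ I) ⊗[R] M)] : Module.Flat R M := by
  obtain ⟨n, hn⟩ := hI
  apply flat_of_forall_tor1Zero
  intro 𝔞 _
  apply tor1Zero_of_pow_smul_eq_bot I ((tor1Zero_quotient_iff I).mpr h1) n
  rw [hn, Ideal.zero_eq_bot, Submodule.bot_smul]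

/-- Local criterion of flatness, ideally separated case. -/
theorem flat_of_idealSeparated [IsNoetherianRing R] (I : Ideal R)
    (hsep : ∀ (𝔞 : Ideal R) (x : 𝔞 ⊗[R] M),
      (∀ n : ℕ, x ∈ I ^ n • (⊤ : Submodule R (𝔞 ⊗[R] M))) → x = 0)
    (h1 : Injective (I.subtype.rTensor M))
    [Module.Flat (R ⧸ I) ((R ⧸ I) ⊗[R] M)] : Module.Flat R M :=
  flat_of_flat_quotient_pow I hsep fun n _ =>
    flat_quotient_pow_of_tor1Zero I ((tor1Zero_quotient_iff I).mpr h1) n

end Criteria

section MapIdeal

variable {R : Type u} [CommRing R] {S : Type*} [CommRing S] [Algebra R S]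
variable {M : Type*} [AddCommGroup M] [Module R M] [Module S M] [IsScalarTower R S M]

/-- The comparison map `I ⊗[R] M → IS ⊗[S] M`. -/
noncomputable def mapIdealTensor (I : Ideal R) (M : Type*) [AddCommGroup M] [Module R M] [Module S M]
    [IsScalarTower R S M] :
    I ⊗[R] M →+ (I.map (algebraMap R S) : Ideal S) ⊗[S] M :=
  TensorProduct.liftAddHom
    { toFun := fun a =>
        { toFun := fun m => (⟨algebraMap R S a.1, Ideal.mem_map_of_mem _ a.2⟩ :
            (I.map (algebraMap R S) : Ideal S)) ⊗ₜ[S] m
          map_zero' := by simp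
          map_add' := fun m m' => by simp [tmul_add] }
      map_zero' := by
        ext m
        simp only [ZeroMemClass.coe_zero, map_zero, AddMonoidHom.coe_mk, ZeroHom.coe_mk,
          AddMonoidHom.zero_apply]
        exact zero_tmul _ _
      map_add' := fun a b => by
        ext m
        simp only [Submodule.coe_add, map_add, AddMonoidHom.coe_mk, ZeroHom.coe_mk,
          AddMonoidHom.add_apply]
        rw [← add_tmul]
        rfl }
    (fun r a m => by
      simp only [AddMonoidHom.coe_mk, ZeroHom.coe_mk]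
      rw [← algebraMap_smul S r m, ← smul_tmul]
      congr 1
      ext
      simp [Algebra.smul_def])

end MapIdeal

section MapIdeal2

variable {R : Type u} [CommRing R] {S : Type*} [CommRing S] [Algebra R S]
variable {M : Type*} [AddCommGroup M] [Module R M] [Module S M] [IsScalarTower R S M]

@[simp]
theorem mapIdealTensor_tmul (I : Ideal R) (a : I) (m : M) :
    mapIdealTensor (S := S) I M (a ⊗ₜ[R] m) =
      (⟨algebraMap R S a.1, Ideal.mem_map_of_mem _ a.2⟩ :
        (I.map (algebraMap R S) : Ideal S)) ⊗ₜ[S] m := rfl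

theorem mapIdealTensor_surjective (I : Ideal R) :
    Surjective (mapIdealTensor (S := S) I M) := by
  intro y
  induction y with
  | zero => exact ⟨0, map_zero _⟩
  | add x y hx hy =>
    obtain ⟨x', rfl⟩ := hx
    obtain ⟨y', rfl⟩ := hy
    exact ⟨x' + y', map_add _ _ _⟩
  | tmul j m =>
    obtain ⟨j, hj⟩ := j
    revert m
    refine Submodule.span_induction (p := fun j hj => ∀ m : M,
      ∃ a, (mapIdealTensor (S := S) I M) a = (⟨j, hj⟩ : (I.map (algebraMap R S) : Ideal S)) ⊗ₜ[S] m)
      ?_ ?_ ?_ ?_ hj
    · rintro _ ⟨a, ha, rfl⟩ m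
      exact ⟨(⟨a, ha⟩ : I) ⊗ₜ[R] m, rfl⟩
    · intro m
      refine ⟨0, ?_⟩
      rw [map_zero]
      exact (zero_tmul _ _).symm
    · intro x y hx hy ihx ihy m
      obtain ⟨a, ha⟩ := ihx m
      obtain ⟨b, hb⟩ := ihy m
      refine ⟨a + b, ?_⟩
      rw [map_add, ha, hb, ← add_tmul]
      rfl
    · intro s x hx ihx m
      obtain ⟨a, ha⟩ := ihx (s • m)
      refine ⟨a, ?_⟩
      rw [ha, ← smul_tmul]
      rfl

theorem lid_rTensor_mapIdealTensor (I : Ideal R) (x : I ⊗[R] M) :
    TensorProduct.lid S M ((I.map (algebraMap R S)).subtype.rTensor M (mapIdealTensor (S := S) I M x)) =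
      TensorProduct.lid R M (I.subtype.rTensor M x) := by
  induction x with
  | zero => simp
  | add x y hx hy => simp only [map_add, hx, hy]
  | tmul a m => simp

/-- If `I ⊗[R] M → M` is injective then so is `IS ⊗[S] M → M`. -/
theorem rTensor_map_injective (I : Ideal R) (h : Injective (I.subtype.rTensor M)) :
    Injective ((I.map (algebraMap R S)).subtype.rTensor M) := by
  rw [injective_iff_map_eq_zero]
  intro y hy
  obtain ⟨x, rfl⟩ := mapIdealTensor_surjective (S := S) I y
  have h1 := lid_rTensor_mapIdealTensor (S := S) I x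
  rw [hy, map_zero] at h1
  have h2 : I.subtype.rTensor M x = 0 := (TensorProduct.lid R M).injective (by rw [← h1, map_zero])
  rw [(injective_iff_map_eq_zero _).mp h x h2, map_zero]

end MapIdeal2


section Descent

variable {R : Type u} [CommRing R] (A : Type*) [CommRing A] [Algebra R A]
variable {N : Type*} [AddCommGroup N] [Module R N] [Module A N] [IsScalarTower R A N]

/-- Converse of `lTensor_injective_of_baseChange`. -/
theorem lTensor_baseChange_injective_of {L G : Type*} [AddCommGroup L] [Module R L]
    [AddCommGroup G] [Module R G] (i : L →ₗ[R] G)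
    (h : Injective (i.lTensor N)) : Injective ((i.baseChange A).lTensor N) := by
  intro x y hxy
  apply (AlgebraTensorModule.cancelBaseChange R A A N L).injective
  apply h
  rw [lTensor_cancelBaseChange_apply, lTensor_cancelBaseChange_apply, hxy]

/-- If an `A`-module `N` is faithfully flat over `A` and flat over `R`, then `A` is flat over
`R`. -/
theorem flat_of_faithfullyFlat_of_flat [Module.FaithfullyFlat A N] [Module.Flat R N] :
    Module.Flat R A := by
  rw [Module.Flat.iff_lTensor_injective']
  intro 𝔞
  have h1 : Injective ((𝔞.subtype.baseChange A).lTensor N) :=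
    lTensor_baseChange_injective_of A 𝔞.subtype
      (Module.Flat.lTensor_preserves_injective_linearMap _ 𝔞.subtype_injective)
  exact (Module.FaithfullyFlat.lTensor_injective_iff_injective A N _).mp h1

end Descent

end Groth.Agent.Lib.FlatCrit
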