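import Groth.Agent.Lib.AdicGrMod
import Groth.Agent.Lib.FlatCrit
import Mathlib.LinearAlgebra.TensorProduct.RightExactness
import Mathlib.LinearAlgebra.TensorProduct.Quotient

/-!
# Local criterion of flatness, graded form, nilpotent ideal (helper25)

Bourbaki AC III §5 no.2 Thm 1 (iv) ⇒ (i) for a nilpotent ideal `I`: if `M/IM` is flat over `A/I` and
`(M/IM) ⊗ gr_I(A) → gr_I(M)` is injective degree by degree (`GrTensorInj I M`, the hypothesis of
S16454), then `Iⁱ ⊗ M → M` is injective for all `i` (descending induction,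
`rTensor_injective_of_isNilpotent`) and `M` is flat (`flat_of_grTensorInj`, via helper76's
`FlatCrit.flat_of_isNilpotent`).
-/
set_option autoImplicit false
universe u
open TensorProduct

namespace Groth.Agent.Lib.AdicGrLocalFlat

open AssocGr

variable {A : Type u} [CommRing A] (I : Ideal A) (M : Type u) [AddCommGroup M] [Module A M]

/-- the hypothesis of S16454: degreewise injectivity of `(M/IM) ⊗ gr_I(A) → gr_I(M)` -/
def GrTensorInj : Prop :=
  ∀ (n k : ℕ) (a : Fin k → ↥((FiltBl.IdealFiltration.adic I).F n))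
      (x : Fin k → ↥((Rees.powFilt I M).N 0)),
      (∑ i, (AssocGr.inDeg (FiltBl.IdealFiltration.adic I) n (a i) :
          AssocGr.GrRing (FiltBl.IdealFiltration.adic I)) •
        (AssocGr.inDegM (Rees.powFilt I M) 0 (x i) : AssocGr.GrMod (Rees.powFilt I M))) = 0 →
      (∑ i, (AssocGr.inDeg (FiltBl.IdealFiltration.adic I) n (a i)) ⊗ₜ[A]
          (Submodule.Quotient.mk (x i : M)) :
        ↥(AssocGr.gr (FiltBl.IdealFiltration.adic I) n) ⊗[A] (M ⧸ (I • (⊤ : Submodule A M)))) = 0

theorem mem_N_zero (x : M) : x ∈ (Rees.powFilt I M).N 0 := by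
  change x ∈ I ^ 0 • (⊤ : Submodule A M)
  rw [pow_zero, Ideal.one_eq_top, Submodule.top_smul]
  trivial

/-- `inDeg` with source written `↥(I ^ i)` -/
noncomputable def inDegI (i : ℕ) : ↥(I ^ i) →ₗ[A] ↥(gr (FiltBl.IdealFiltration.adic I) i) :=
  inDeg (FiltBl.IdealFiltration.adic I) i

theorem inDegI_surjective (i : ℕ) : Function.Surjective (inDegI I i) :=
  inDeg_surjective (FiltBl.IdealFiltration.adic I) i

/-- exactness of `Iⁱ⁺¹ → Iⁱ → grᵢ` -/
theorem exact_inclusion_inDeg (i : ℕ) :
    Function.Exact (Submodule.inclusion (Ideal.pow_le_pow_right (Nat.le_succ i)) :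
        ↥(I ^ (i + 1)) →ₗ[A] ↥(I ^ i))
      (inDegI I i) := by
  intro a
  change inDeg (FiltBl.IdealFiltration.adic I) i a = 0 ↔ _
  rw [inDeg_eq_zero_iff]
  constructor
  · intro ha
    exact ⟨⟨a.1, ha⟩, rfl⟩
  · rintro ⟨b, rfl⟩
    exact b.2

/-- the range of `Iⁱ ⊗ IM → Iⁱ ⊗ M` is contained in the range of `Iⁱ⁺¹ ⊗ M → Iⁱ ⊗ M` -/
theorem range_lTensor_le (i : ℕ) :
    LinearMap.range (LinearMap.lTensor ↥(I ^ i) (I • (⊤ : Submodule A M)).subtype) ≤
      LinearMap.range (LinearMap.rTensor M
        (Submodule.inclusion (Ideal.pow_le_pow_right (Nat.le_succ i)) :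
          ↥(I ^ (i + 1)) →ₗ[A] ↥(I ^ i))) := by
  rintro _ ⟨w, rfl⟩
  induction w using TensorProduct.induction_on with
  | zero => rw [map_zero]; exact zero_mem _
  | add w w' hw hw' => rw [map_add]; exact add_mem hw hw'
  | tmul a y =>
    rw [LinearMap.lTensor_tmul, Submodule.subtype_apply]
    obtain ⟨y, hy⟩ := y
    change a ⊗ₜ[A] y ∈ _
    refine Submodule.smul_induction_on hy (fun b hb x _ => ?_) (fun y1 y2 h1 h2 => ?_)
    · have hba : b * (a : A) ∈ I ^ (i + 1) := by
        rw [pow_succ']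
        exact Ideal.mul_mem_mul hb a.2
      refine ⟨(⟨b * (a : A), hba⟩ : ↥(I ^ (i + 1))) ⊗ₜ[A] x, ?_⟩
      rw [LinearMap.rTensor_tmul, ← TensorProduct.smul_tmul]
      congr 1
    · rw [TensorProduct.tmul_add]
      exact add_mem h1 h2

variable {I M}

/-- the inductive step -/
theorem rTensor_injective_step (hinj : GrTensorInj I M) (i : ℕ)
    (h : Function.Injective ((I ^ (i + 1)).subtype.rTensor M)) :
    Function.Injective ((I ^ i).subtype.rTensor M) := by
  rw [injective_iff_map_eq_zero]
  intro t ht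
  obtain ⟨k, a, x, rfl⟩ := TensorProduct.exists_sum_tmul_eq t
  -- the sum `∑ a j • x j` vanishes
  have hsum : ∑ j, (a j : A) • x j = 0 := by
    have := congrArg (TensorProduct.lid A M) ht
    simpa [map_sum] using this
  -- apply the hypothesis
  have hpre : (∑ j, (AssocGr.inDeg (FiltBl.IdealFiltration.adic I) i (a j) :
          AssocGr.GrRing (FiltBl.IdealFiltration.adic I)) •
        (AssocGr.inDegM (Rees.powFilt I M) 0 ⟨x j, mem_N_zero I M (x j)⟩ :
          AssocGr.GrMod (Rees.powFilt I M))) = 0 := by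
    simp only [inDeg_smul_inDegM]
    rw [← AddSubmonoidClass.coe_finsetSum, ← map_sum]
    have : (∑ j, (⟨(a j : A) • x j, (Rees.powFilt I M).pow_smul_le i 0
        (Submodule.smul_mem_smul (a j).2 (mem_N_zero I M (x j)))⟩ :
          ↥((Rees.powFilt I M).N (i + 0)))) = 0 := by
      apply Subtype.ext
      rw [AddSubmonoidClass.coe_finsetSum]
      exact hsum
    rw [this, map_zero]
    rfl
  have hmap := hinj i k a (fun j => ⟨x j, mem_N_zero I M (x j)⟩) hpre
  have hker : (∑ j, a j ⊗ₜ[A] x j) ∈ LinearMap.ker (TensorProduct.map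
      (inDegI I i) (I • (⊤ : Submodule A M)).mkQ) := by
    rw [LinearMap.mem_ker, map_sum]
    simp only [TensorProduct.map_tmul, Submodule.mkQ_apply]
    exact hmap
  rw [TensorProduct.map_ker (exact_inclusion_inDeg I i) (inDegI_surjective I i)
    (LinearMap.exact_subtype_mkQ _) (Submodule.mkQ_surjective _),
    sup_eq_right.mpr (range_lTensor_le I M i)] at hker
  obtain ⟨t', ht'⟩ := hker
  have h0 : (I ^ (i + 1)).subtype.rTensor M t' = 0 := by
    rw [← ht, ← ht', ← LinearMap.comp_apply, ← LinearMap.rTensor_comp]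
    rfl
  have : t' = 0 := by
    rw [← map_zero ((I ^ (i + 1)).subtype.rTensor M)] at h0
    exact h h0
  rw [← ht', this, map_zero]

/-- descending induction: `Iⁱ ⊗ M → M` is injective for all `i` when `I` is nilpotent -/
theorem rTensor_injective_of_isNilpotent (hI : IsNilpotent I) (hinj : GrTensorInj I M) (i : ℕ) :
    Function.Injective ((I ^ i).subtype.rTensor M) := by
  obtain ⟨N, hN⟩ := hI
  have key : ∀ k i, N ≤ i + k → Function.Injective ((I ^ i).subtype.rTensor M) := by
    intro k
    induction k with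
    | zero =>
      intro i hi
      have hbot : I ^ i = ⊥ := by
        rw [eq_bot_iff, ← Ideal.zero_eq_bot, ← hN]
        exact Ideal.pow_le_pow_right hi
      have : Subsingleton ↥(I ^ i) := by
        rw [hbot]; infer_instance
      exact Function.injective_of_subsingleton _
    | succ k ih =>
      intro i hi
      exact rTensor_injective_step hinj i (ih (i + 1) (by omega))
  exact key N i (Nat.le_add_left N i)

/-- Local criterion of flatness for a nilpotent ideal, graded form (Bourbaki AC III §5 no.2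
Thm 1 (iv) ⇒ (i)). -/
theorem flat_of_grTensorInj (hI : IsNilpotent I)
    (hflat : Module.Flat (A ⧸ I) (M ⧸ (I • (⊤ : Submodule A M))))
    (hinj : GrTensorInj I M) : Module.Flat A M := by
  have h1 : Function.Injective (I.subtype.rTensor M) := by
    have := rTensor_injective_of_isNilpotent hI hinj 1
    rwa [pow_one] at this
  have e : ((A ⧸ I) ⊗[A] M) ≃ₗ[A ⧸ I] (M ⧸ (I • (⊤ : Submodule A M))) :=
    (TensorProduct.quotTensorEquivQuotSMul M I).extendScalarsOfSurjective
      Ideal.Quotient.mk_surjective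
  have : Module.Flat (A ⧸ I) ((A ⧸ I) ⊗[A] M) := Module.Flat.of_linearEquiv e
  exact Groth.Agent.Lib.FlatCrit.flat_of_isNilpotent I hI h1

end Groth.Agent.Lib.AdicGrLocalFlat
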