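import Groth.Agent.Lib.AdicGrBasic

/-!
# Filtered modules over a complete adic ring: generation from the associated graded (helper25)

Bourbaki AC III §2 no.9 (Prop. 12, Cor. 1-2) for the prelude's `AssocGr.GrMod`.
* `exists_coeff_of_mem_span`: one approximation step: if the class of `m ∈ N n` is in the
  `gr_I(A)`-span of the classes of the `x i`, then `m ≡ ∑ c i • x i` mod `N (n+1)`, `c i ∈ I^(n - d i)`.
* `mem_span_of_step`: successive approximation inside a submodule `P` of `M`.
* `span_eq_top_of_span_inDegM_eq_top`: if the classes of the `x i` generate `gr_F(M)` then the `x i`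
  generate `M` (A precomplete, filtration separated and exhaustive).
* `moduleFinite_of_grMod_finite`: `gr_F(M)` finite ⇒ `M` finite.
* `fg_and_closed_of_isNoetherian_grMod`, `isNoetherian_and_closed_of_grMod_isNoetherian`:
  `gr_F(M)` noetherian ⇒ `M` noetherian and every submodule is closed.
-/

set_option autoImplicit false
universe u
open DirectSum

namespace Groth.Agent.Lib.AdicGrMod

open AssocGr Groth.Agent.Lib.AdicGrBasic

variable {A : Type u} [CommRing A] {I : Ideal A} {M : Type u} [AddCommGroup M] [Module A M]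
  (F : I.Filtration M)

theorem coeff_sub (y y' : ReesM F) (n : ℕ) :
    ReesM.coeff F (y - y') n = ReesM.coeff F y n - ReesM.coeff F y' n := by
  rw [← ReesM.coeffHom_apply, map_sub]; rfl

theorem coeff_sum {ι : Type*} (s : Finset ι) (y : ι → ReesM F) (n : ℕ) :
    ReesM.coeff F (∑ i ∈ s, y i) n = ∑ i ∈ s, ReesM.coeff F (y i) n := by
  rw [← ReesM.coeffHom_apply, map_sum]; rfl

/-- the `n`-th coefficient of `f • (x Xᵈ)` -/
theorem coeff_smul_monomM (f : ↥(FiltBl.IdealFiltration.adic I).rees) (d : ℕ) (x : F.N d) (n : ℕ) :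
    ReesM.coeff F (f • monomM F d x) n =
      (if d ≤ n then (f : Polynomial A).coeff (n - d) else 0) • (x : M) := by
  rw [ReesM.coeff_smul]
  simp only [ReesM.coeff_monomM, smul_ite, smul_zero]
  split_ifs with hdn
  · rw [Finset.sum_eq_single (n - d, d)]
    · rw [if_pos rfl]
    · rintro ⟨p, q⟩ hpq hne
      rw [Finset.mem_antidiagonal] at hpq
      simp only at hpq
      rw [if_neg]
      rintro rfl
      exact hne (by rw [← hpq, Nat.add_sub_cancel])
    · intro h
      exact (h (Finset.mem_antidiagonal.mpr (Nat.sub_add_cancel hdn))).elim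
  · rw [zero_smul]
    refine Finset.sum_eq_zero fun p hp => ?_
    rw [Finset.mem_antidiagonal] at hp
    rw [if_neg]
    rintro rfl
    omega

/-- One approximation step: if the class of `m ∈ N n` lies in the `gr_I(A)`-span of the classes of the
`x i`, then `m` is, modulo `N (n+1)`, a combination `∑ c i • x i` with `c i ∈ I ^ (n - d i)`. -/
theorem exists_coeff_of_mem_span {ι : Type*} [Fintype ι] (d : ι → ℕ) (x : (i : ι) → ↥(F.N (d i)))
    (n : ℕ) (m : M) (hm : m ∈ F.N n)
    (hy : (inDegM F n ⟨m, hm⟩ : GrMod F) ∈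
      Submodule.span (GrRing (FiltBl.IdealFiltration.adic I))
        (Set.range fun i => (inDegM F (d i) (x i) : GrMod F))) :
    ∃ c : ι → A, (∀ i, c i ∈ I ^ (n - d i)) ∧ m - ∑ i, c i • (x i : M) ∈ F.N (n + 1) := by
  rw [Submodule.mem_span_range_iff_exists_fun] at hy
  obtain ⟨g, hg⟩ := hy
  have hex : ∀ i, ∃ f, mkG (FiltBl.IdealFiltration.adic I) f = g i :=
    fun i => mkG_surjective _ (g i)
  choose f hf using hex
  have h1 : mkGM F (monomM F n ⟨m, hm⟩ - ∑ i, f i • monomM F (d i) (x i)) = 0 := by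
    rw [map_sub, map_sum, sub_eq_zero, ← coe_inDegM, ← hg]
    refine Finset.sum_congr rfl fun i _ => ?_
    rw [← hf i, coe_inDegM, mkG_smul_mkGM]
  rw [mkGM_eq_zero_iff, mem_succMod_iff] at h1
  have h2 := h1 n
  rw [coeff_sub, coeff_sum, ReesM.coeff_monomM, if_pos rfl] at h2
  simp only [coeff_smul_monomM] at h2
  refine ⟨fun i => if d i ≤ n then ((f i : ↥(FiltBl.IdealFiltration.adic I).rees) :
    Polynomial A).coeff (n - d i) else 0, fun i => ?_, h2⟩
  dsimp only
  split_ifs with h
  · exact (f i).2 (n - d i)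
  · exact zero_mem _

/-- Successive approximation inside a submodule `P`: if every element of `P ∩ N n` is, modulo
`N (n+1)`, a combination `∑ c i • x i` with `c i ∈ I ^ (n - d i)` (`x i ∈ P ∩ N (d i)`), `A` is
`I`-adically precomplete and the filtration is separated, then `P ∩ N 0` is contained in the span
of the `x i`. -/
theorem mem_span_of_step [IsPrecomplete I A] (hsep : ⨅ n, F.N n = ⊥)
    {ι : Type*} [Fintype ι] (d : ι → ℕ) (x : (i : ι) → ↥(F.N (d i)))
    (P : Submodule A M) (hxP : ∀ i, (x i : M) ∈ P)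
    (hstep : ∀ (n : ℕ) (m : M), m ∈ P → m ∈ F.N n →
      ∃ c : ι → A, (∀ i, c i ∈ I ^ (n - d i)) ∧ m - ∑ i, c i • (x i : M) ∈ F.N (n + 1))
    (m : M) (hmP : m ∈ P) (hm0 : m ∈ F.N 0) :
    m ∈ Submodule.span A (Set.range fun i => ((x i : ↥(F.N (d i))) : M)) := by
  choose! step hstep1 hstep2 using hstep
  have hanti : ∀ {a b : ℕ}, a ≤ b → F.N b ≤ F.N a := fun hab => F.antitone hab
  -- remainders
  let r : ℕ → M := fun n => Nat.rec m (fun n rn => rn - ∑ i, step n rn i • (x i : M)) n
  have hr0 : r 0 = m := rfl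
  have hrS : ∀ n, r (n + 1) = r n - ∑ i, step n (r n) i • (x i : M) := fun n => rfl
  have hrmem : ∀ n, r n ∈ P ∧ r n ∈ F.N n := by
    intro n
    induction n with
    | zero => exact ⟨hmP, hm0⟩
    | succ n ih =>
      rw [hrS]
      exact ⟨sub_mem ih.1 (Submodule.sum_mem _ fun i _ => Submodule.smul_mem _ _ (hxP i)),
        hstep2 n _ ih.1 ih.2⟩
  -- partial sums of coefficients
  let C : ℕ → ι → A := fun n i => ∑ j ∈ Finset.range n, step j (r j) i
  have hCS : ∀ n i, C (n + 1) i = C n i + step n (r n) i := fun n i =>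
    Finset.sum_range_succ _ _
  have hrC : ∀ n, r n = m - ∑ i, C n i • (x i : M) := by
    intro n
    induction n with
    | zero => simp [C, hr0]
    | succ n ih =>
      rw [hrS]
      have e : ∑ i, C (n + 1) i • (x i : M) =
          ∑ i, C n i • (x i : M) + ∑ i, step n (r n) i • (x i : M) := by
        simp only [hCS, add_smul, Finset.sum_add_distrib]
      rw [e, ← sub_sub, ← ih]
  -- shift
  let D : ℕ := Finset.univ.sup d
  have hD : ∀ i, d i ≤ D := fun i => Finset.le_sup (Finset.mem_univ i)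
  have hdiff : ∀ i n, C (n + D + 1) i - C (n + D) i ∈ I ^ n := by
    intro i n
    rw [hCS, add_sub_cancel_left]
    refine Ideal.pow_le_pow_right ?_ (hstep1 (n + D) _ (hrmem _).1 (hrmem _).2 i)
    have := hD i
    omega
  have hlim : ∀ i, ∃ L : A, ∀ n, C (n + D) i - L ∈ I ^ n := by
    intro i
    obtain ⟨L, hL⟩ := IsPrecomplete.prec ‹IsPrecomplete I A›
      (fun {a b} hab => smodEq_of_succ I (fun n => C (n + D) i)
        (fun n => by
          have := hdiff i n
          rwa [show n + D + 1 = n + 1 + D by omega] at this) hab)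
    refine ⟨L, fun n => ?_⟩
    have := hL n
    rwa [SModEq.sub_mem, mem_pow_smul_top] at this
  choose L hL using hlim
  have hmem : ∀ n, m - ∑ i, L i • (x i : M) ∈ F.N n := by
    intro n
    have e : m - ∑ i, L i • (x i : M) =
        r (n + D) + ∑ i, (C (n + D) i - L i) • (x i : M) := by
      rw [hrC]
      simp only [sub_smul, Finset.sum_sub_distrib]
      abel
    rw [e]
    refine add_mem (hanti (Nat.le_add_right n D) (hrmem _).2) (Submodule.sum_mem _ fun i _ => ?_)
    exact hanti (Nat.le_add_right n (d i))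
      (F.pow_smul_le n (d i) (Submodule.smul_mem_smul (hL i n) (x i).2))
  have hzero : m - ∑ i, L i • (x i : M) = 0 := by
    have : m - ∑ i, L i • (x i : M) ∈ ⨅ n, F.N n := by
      rw [Submodule.mem_iInf]; exact hmem
    rwa [hsep, Submodule.mem_bot] at this
  rw [sub_eq_zero.mp hzero]
  exact Submodule.sum_mem _ fun i _ =>
    Submodule.smul_mem _ _ (Submodule.subset_span ⟨i, rfl⟩)

/-- Bourbaki AC III §2 no.9 Prop. 12: if `A` is `I`-adically precomplete, `M` carries a separated
exhaustive `I`-filtration and the classes of `x i ∈ N (d i)` generate `gr_F(M)` over `gr_I(A)`, then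
the `x i` generate `M`. -/
theorem span_eq_top_of_span_inDegM_eq_top [IsPrecomplete I A]
    (h0 : F.N 0 = ⊤) (hsep : ⨅ n, F.N n = ⊥) {ι : Type*} [Fintype ι] (d : ι → ℕ)
    (x : (i : ι) → ↥(F.N (d i)))
    (hgen : Submodule.span (GrRing (FiltBl.IdealFiltration.adic I))
      (Set.range fun i => (inDegM F (d i) (x i) : GrMod F)) = ⊤) :
    Submodule.span A (Set.range fun i => ((x i : ↥(F.N (d i))) : M)) = ⊤ := by
  rw [eq_top_iff]
  rintro m -
  refine mem_span_of_step F hsep d x ⊤ (fun _ => trivial) (fun n m _ hm => ?_) m trivial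
    (by rw [h0]; trivial)
  exact exists_coeff_of_mem_span F d x n m hm (by rw [hgen]; trivial)

/-- Bourbaki AC III §2 no.9 Cor. 1: if `gr_F(M)` is a finite `gr_I(A)`-module then `M` is a finite
`A`-module (A precomplete, filtration separated and exhaustive). -/
theorem moduleFinite_of_grMod_finite [IsPrecomplete I A]
    (h0 : F.N 0 = ⊤) (hsep : ⨅ n, F.N n = ⊥)
    [Module.Finite (GrRing (FiltBl.IdealFiltration.adic I)) (GrMod F)] :
    Module.Finite A M := by
  classical
  obtain ⟨S, hS⟩ := (Module.Finite.fg_top :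
    (⊤ : Submodule (GrRing (FiltBl.IdealFiltration.adic I)) (GrMod F)).FG)
  let ι := Σ z : S, ((decompose (grM F) (z : GrMod F)).support : Finset ℕ)
  let d : ι → ℕ := fun i => i.2.1
  have hx : ∀ i : ι, ∃ x : F.N (d i),
      inDegM F (d i) x = decompose (grM F) (i.1 : GrMod F) (d i) :=
    fun i => inDegM_surjective F _ _
  choose x hx using hx
  have hgen : Submodule.span (GrRing (FiltBl.IdealFiltration.adic I))
      (Set.range fun i => (inDegM F (d i) (x i) : GrMod F)) = ⊤ := by
    rw [eq_top_iff, ← hS, Submodule.span_le]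
    intro z hz
    rw [← DirectSum.sum_support_decompose (grM F) z]
    refine Submodule.sum_mem _ fun n hn => ?_
    apply Submodule.subset_span
    exact ⟨⟨⟨z, hz⟩, ⟨n, hn⟩⟩, congrArg Subtype.val (hx ⟨⟨z, hz⟩, ⟨n, hn⟩⟩)⟩
  have h := span_eq_top_of_span_inDegM_eq_top F h0 hsep d x hgen
  refine ⟨?_⟩
  rw [← h]
  exact Submodule.fg_span (Set.finite_range _)

/-- Bourbaki AC III §2 no.9 Cor. 2, for one submodule: if `gr_F(M)` is a noetherian `gr_I(A)`-module
then the submodule `M'` is finitely generated and closed for the topology of the filtration. -/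
theorem fg_and_closed_of_isNoetherian_grMod [IsPrecomplete I A]
    (h0 : F.N 0 = ⊤) (hsep : ⨅ n, F.N n = ⊥)
    [IsNoetherian (GrRing (FiltBl.IdealFiltration.adic I)) (GrMod F)] (M' : Submodule A M) :
    M'.FG ∧ ⨅ n, M' ⊔ F.N n = M' := by
  classical
  -- the submodule of `gr_F(M)` generated by the classes of elements of `M'`
  let gens : Set (GrMod F) :=
    {z | ∃ (n : ℕ) (m : M) (hm : m ∈ F.N n), m ∈ M' ∧ z = (inDegM F n ⟨m, hm⟩ : GrMod F)}
  have hfg : (Submodule.span (GrRing (FiltBl.IdealFiltration.adic I)) gens).FG :=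
    IsNoetherian.noetherian _
  obtain ⟨s', hs'sub, hs'⟩ := (Submodule.fg_span_iff_fg_span_finset_subset _).mp hfg
  have hch : ∀ i : s', ∃ (n : ℕ) (m : M) (hm : m ∈ F.N n), m ∈ M' ∧
      (i : GrMod F) = (inDegM F n ⟨m, hm⟩ : GrMod F) := fun i => hs'sub i.2
  choose d m hm hmM' hi using hch
  let x : (i : s') → ↥(F.N (d i)) := fun i => ⟨m i, hm i⟩
  have hrange : (Set.range fun i : s' => (inDegM F (d i) (x i) : GrMod F)) = ↑s' := by
    ext z
    constructor
    · rintro ⟨i, rfl⟩
      change (inDegM F (d i) ⟨m i, hm i⟩ : GrMod F) ∈ _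
      rw [← hi i]
      exact i.2
    · intro hz
      exact ⟨⟨z, hz⟩, (hi ⟨z, hz⟩).symm⟩
  -- closure of `M'`
  let P : Submodule A M := ⨅ n, M' ⊔ F.N n
  have hM'P : M' ≤ P := le_iInf fun n => le_sup_left
  have hPle : P ≤ Submodule.span A (Set.range fun i => ((x i : ↥(F.N (d i))) : M)) := by
    intro p hp
    refine mem_span_of_step F hsep d x P (fun i => hM'P (hmM' i)) (fun n p hp hpn => ?_) p hp
      (by rw [h0]; trivial)
    -- approximate `p` by an element of `M'`
    have hp' : p ∈ M' ⊔ F.N (n + 1) := (Submodule.mem_iInf _).mp hp (n + 1)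
    obtain ⟨p', hp'M, z, hz, rfl⟩ := Submodule.mem_sup.mp hp'
    have hzn : z ∈ F.N n := F.antitone (Nat.le_succ n) hz
    have hp'n : p' ∈ F.N n := by
      have : p' = (p' + z) - z := by abel
      rw [this]
      exact sub_mem hpn hzn
    have hmem : (inDegM F n ⟨p', hp'n⟩ : GrMod F) ∈
        Submodule.span (GrRing (FiltBl.IdealFiltration.adic I))
          (Set.range fun i : s' => (inDegM F (d i) (x i) : GrMod F)) := by
      rw [hrange, ← hs']
      exact Submodule.subset_span ⟨n, p', hp'n, hp'M, rfl⟩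
    obtain ⟨c, hc1, hc2⟩ := exists_coeff_of_mem_span F d x n p' hp'n hmem
    refine ⟨c, hc1, ?_⟩
    have : p' + z - ∑ i, c i • (x i : M) = (p' - ∑ i, c i • (x i : M)) + z := by abel
    rw [this]
    exact add_mem hc2 hz
  have hspanle : Submodule.span A (Set.range fun i => ((x i : ↥(F.N (d i))) : M)) ≤ M' := by
    rw [Submodule.span_le]
    rintro _ ⟨i, rfl⟩
    exact hmM' i
  have hPM' : P = M' := le_antisymm (hPle.trans hspanle) hM'P
  refine ⟨?_, hPM'⟩
  have : M' = Submodule.span A (Set.range fun i => ((x i : ↥(F.N (d i))) : M)) :=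
    le_antisymm (hM'P.trans hPle) hspanle
  rw [this]
  exact Submodule.fg_span (Set.finite_range _)

/-- Bourbaki AC III §2 no.9 Cor. 2: if `gr_F(M)` is a noetherian `gr_I(A)`-module then `M` is a
noetherian `A`-module and every submodule of `M` is closed for the topology of the filtration. -/
theorem isNoetherian_and_closed_of_grMod_isNoetherian [IsPrecomplete I A]
    (h0 : F.N 0 = ⊤) (hsep : ⨅ n, F.N n = ⊥)
    [IsNoetherian (GrRing (FiltBl.IdealFiltration.adic I)) (GrMod F)] :
    IsNoetherian A M ∧ ∀ M' : Submodule A M, ⨅ n, M' ⊔ F.N n = M' :=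
  ⟨⟨fun M' => (fg_and_closed_of_isNoetherian_grMod F h0 hsep M').1⟩,
    fun M' => (fg_and_closed_of_isNoetherian_grMod F h0 hsep M').2⟩

end Groth.Agent.Lib.AdicGrMod
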