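import Groth.Agent.Lib.AdicGrMod

/-!
# Successive approximation with control of the coefficients (helper25)

`exists_eq_sum_of_step`: refinement of `AdicGrMod.mem_span_of_step`: an element of `P ∩ N n₀` is a
combination `∑ L i • x i` with `L i ∈ I ^ (n₀ - d i)`.

`filtration_good_of_gr` : EGA 0_III 7.x-type statement (= S8353, direction (c) ⇒ (a)) for a
`ℤ`-indexed filtration.
-/

set_option autoImplicit false
universe u

namespace Groth.Agent.Lib.AdicGrMod2

open Groth.Agent.Lib.AdicGrBasic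

variable {A : Type u} [CommRing A] {I : Ideal A} {M : Type u} [AddCommGroup M] [Module A M]
  (F : I.Filtration M)

/-- Successive approximation inside a submodule `P`, with control of the coefficients. -/
theorem exists_eq_sum_of_step [IsPrecomplete I A] (hsep : ⨅ n, F.N n = ⊥)
    {ι : Type*} [Fintype ι] (d : ι → ℕ) (x : (i : ι) → ↥(F.N (d i)))
    (P : Submodule A M) (hxP : ∀ i, (x i : M) ∈ P)
    (hstep : ∀ (n : ℕ) (m : M), m ∈ P → m ∈ F.N n →
      ∃ c : ι → A, (∀ i, c i ∈ I ^ (n - d i)) ∧ m - ∑ i, c i • (x i : M) ∈ F.N (n + 1))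
    (n₀ : ℕ) (m : M) (hmP : m ∈ P) (hm0 : m ∈ F.N n₀) :
    ∃ L : ι → A, (∀ i, L i ∈ I ^ (n₀ - d i)) ∧ m = ∑ i, L i • (x i : M) := by
  choose! step hstep1 hstep2 using hstep
  have hanti : ∀ {a b : ℕ}, a ≤ b → F.N b ≤ F.N a := fun hab => F.antitone hab
  -- remainders
  let r : ℕ → M := fun n => Nat.rec m (fun n rn => rn - ∑ i, step (n₀ + n) rn i • (x i : M)) n
  have hr0 : r 0 = m := rfl
  have hrS : ∀ n, r (n + 1) = r n - ∑ i, step (n₀ + n) (r n) i • (x i : M) := fun n => rfl
  have hrmem : ∀ n, r n ∈ P ∧ r n ∈ F.N (n₀ + n) := by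
    intro n
    induction n with
    | zero => exact ⟨hmP, hm0⟩
    | succ n ih =>
      rw [hrS]
      exact ⟨sub_mem ih.1 (Submodule.sum_mem _ fun i _ => Submodule.smul_mem _ _ (hxP i)),
        hstep2 (n₀ + n) _ ih.1 ih.2⟩
  -- partial sums of coefficients
  let C : ℕ → ι → A := fun n i => ∑ j ∈ Finset.range n, step (n₀ + j) (r j) i
  have hCS : ∀ n i, C (n + 1) i = C n i + step (n₀ + n) (r n) i := fun n i =>
    Finset.sum_range_succ _ _
  have hCmem : ∀ n i, C n i ∈ I ^ (n₀ - d i) := by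
    intro n i
    refine Ideal.sum_mem _ fun j _ => ?_
    exact Ideal.pow_le_pow_right (by omega) (hstep1 (n₀ + j) _ (hrmem j).1 (hrmem j).2 i)
  have hrC : ∀ n, r n = m - ∑ i, C n i • (x i : M) := by
    intro n
    induction n with
    | zero => simp [C, hr0]
    | succ n ih =>
      rw [hrS]
      have e : ∑ i, C (n + 1) i • (x i : M) =
          ∑ i, C n i • (x i : M) + ∑ i, step (n₀ + n) (r n) i • (x i : M) := by
        simp only [hCS, add_smul, Finset.sum_add_distrib]
      rw [e, ← sub_sub, ← ih]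
  -- shift
  let D : ℕ := Finset.univ.sup d
  have hD : ∀ i, d i ≤ D := fun i => Finset.le_sup (Finset.mem_univ i)
  have hdiff : ∀ i n, C (n + D + 1) i - C (n + D) i ∈ I ^ n := by
    intro i n
    rw [hCS, add_sub_cancel_left]
    refine Ideal.pow_le_pow_right ?_ (hstep1 (n₀ + (n + D)) _ (hrmem _).1 (hrmem _).2 i)
    have := hD i
    omega
  have hlim : ∀ i, ∃ L : A, ∀ n, C (n + D) i - L ∈ I ^ n := by
    intro i
    obtain ⟨L, hL⟩ := IsPrecomplete.prec ‹IsPrecomplete I A›
      (fun {a b} hab => smodEq_of_succ I (fun n => C (n + D) i)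
        (fun n => by
          have := hdiff i n
          rwa [show n + D + 1 = n + 1 + D by omega] at this) hab)
    refine ⟨L, fun n => ?_⟩
    have := hL n
    rwa [SModEq.sub_mem, mem_pow_smul_top] at this
  choose L hL using hlim
  have hmem : ∀ n, m - ∑ i, L i • (x i : M) ∈ F.N n := by
    intro n
    have e : m - ∑ i, L i • (x i : M) =
        r (n + D) + ∑ i, (C (n + D) i - L i) • (x i : M) := by
      rw [hrC]
      simp only [sub_smul, Finset.sum_sub_distrib]
      abel
    rw [e]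
    refine add_mem (hanti (by omega) (hrmem _).2) (Submodule.sum_mem _ fun i _ => ?_)
    exact hanti (Nat.le_add_right n (d i))
      (F.pow_smul_le n (d i) (Submodule.smul_mem_smul (hL i n) (x i).2))
  have hzero : m - ∑ i, L i • (x i : M) = 0 := by
    have : m - ∑ i, L i • (x i : M) ∈ ⨅ n, F.N n := by
      rw [Submodule.mem_iInf]; exact hmem
    rwa [hsep, Submodule.mem_bot] at this
  refine ⟨L, fun i => ?_, sub_eq_zero.mp hzero⟩
  have e : L i = C ((n₀ - d i) + D) i - (C ((n₀ - d i) + D) i - L i) := by ring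
  rw [e]
  exact sub_mem (hCmem _ i) (hL i (n₀ - d i))

end Groth.Agent.Lib.AdicGrMod2
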