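import Mathlib.RingTheory.RegularLocalRing.Polynomial
import Mathlib.RingTheory.Unramified.LocalStructure
import Mathlib.RingTheory.Unramified.LocalRing
import Mathlib.RingTheory.Ideal.KrullsHeightTheorem
import Mathlib.RingTheory.Ideal.GoingDown
import Mathlib.RingTheory.Smooth.Flat
import Mathlib.RingTheory.Etale.Basic

/-!
# Regularity ascends along flat unramified (in particular etale and smooth) algebras

* `isRegularLocalRing_of_flat_of_isUnramifiedAt`: `A → B` flat, essentially of finite type, `B` Noetherian,
  unramified at the prime `q`, and `A` regular at `q ∩ A`: then `B_q` is a regular local ring.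
* `isRegularLocalRing_of_smooth`: `B` smooth over a regular ring `K`: all `B_q` are regular local rings.
* `isRegularRing_of_smooth`.
-/

set_option autoImplicit false

namespace Groth.Agent.Lib.SmoothRegular

open IsLocalRing

theorem height_under_le_of_hasGoingDown {A B : Type*} [CommRing A] [CommRing B] [Algebra A B]
    [Algebra.HasGoingDown A B] (q : Ideal B) [q.IsPrime] :
    (q.under A).height ≤ q.height := by
  have e1 : (q.under A).height =
      Order.height (⟨q.under A, inferInstance⟩ : PrimeSpectrum A) :=
    PrimeSpectrum.height_eq_orderHeight ⟨q.under A, inferInstance⟩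
  have e2 : q.height = Order.height (⟨q, inferInstance⟩ : PrimeSpectrum B) :=
    PrimeSpectrum.height_eq_orderHeight ⟨q, inferInstance⟩
  rw [e1, e2]
  apply Order.height_le
  intro l hl
  have hlo : q.LiesOver l.last.asIdeal := by
    rw [hl]
    exact ⟨rfl⟩
  obtain ⟨L, hLlen, hLlast, -⟩ := Ideal.exists_ltSeries_of_hasGoingDown l q
  rw [← hLlen, ← hLlast]
  exact Order.length_le_height_last

theorem isRegularLocalRing_of_flat_of_isUnramifiedAt {A B : Type*} [CommRing A] [CommRing B]
    [Algebra A B] [IsNoetherianRing B] [Module.Flat A B] [Algebra.EssFiniteType A B]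
    (q : Ideal B) [q.IsPrime] [Algebra.IsUnramifiedAt A q]
    [IsRegularLocalRing (Localization.AtPrime (q.under A))] :
    IsRegularLocalRing (Localization.AtPrime q) := by
  set p := q.under A with hp
  have hlo : q.LiesOver p := ⟨rfl⟩
  let := Localization.AtPrime.algebraOfLiesOver p q
  have hmap := ((Algebra.isUnramifiedAt_iff_map_eq A p q).mp inferInstance).2
  have hnoeth : IsNoetherianRing (Localization.AtPrime p) := inferInstance
  apply IsRegularLocalRing.of_spanFinrank_maximalIdeal_le
  rw [IsLocalization.AtPrime.ringKrullDim_eq_height q (Localization.AtPrime q)]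
  have h1 : p.height ≤ q.height := height_under_le_of_hasGoingDown q
  have h2 : ((maximalIdeal (Localization.AtPrime p)).spanFinrank : WithBot ℕ∞) = p.height := by
    have := IsRegularLocalRing.spanFinrank_maximalIdeal (R := Localization.AtPrime p)
    rw [IsLocalization.AtPrime.ringKrullDim_eq_height p] at this
    exact this
  have h3 : (maximalIdeal (Localization.AtPrime q)).spanFinrank ≤
      (maximalIdeal (Localization.AtPrime p)).spanFinrank := by
    rw [← hmap, IsScalarTower.algebraMap_eq A (Localization.AtPrime p) (Localization.AtPrime q),
      ← Ideal.map_map, Localization.AtPrime.map_eq_maximalIdeal]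
    exact Ideal.spanFinrank_map_le_of_fg _ (IsNoetherian.noetherian _)
  calc ((maximalIdeal (Localization.AtPrime q)).spanFinrank : WithBot ℕ∞)
      ≤ ((maximalIdeal (Localization.AtPrime p)).spanFinrank : WithBot ℕ∞) := by exact_mod_cast h3
    _ = p.height := h2
    _ ≤ q.height := by exact_mod_cast h1

theorem isRegularLocalRing_of_etale {A B : Type*} [CommRing A] [CommRing B]
    [Algebra A B] [IsRegularRing A] [Algebra.Etale A B]
    (q : Ideal B) [q.IsPrime] :
    IsRegularLocalRing (Localization.AtPrime q) := by
  have : Algebra.FinitePresentation A B := inferInstance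
  have : IsNoetherianRing B := Algebra.FiniteType.isNoetherianRing A B
  have : Algebra.IsUnramifiedAt A q :=
    (Algebra.formallyUnramified_iff_forall (R := A) (A := B)).mp inferInstance ⟨q, inferInstance⟩
  exact isRegularLocalRing_of_flat_of_isUnramifiedAt (A := A) q

theorem isRegularLocalRing_of_smooth {K B : Type*} [CommRing K] [CommRing B]
    [Algebra K B] [IsRegularRing K] [Algebra.Smooth K B]
    (q : Ideal B) [q.IsPrime] :
    IsRegularLocalRing (Localization.AtPrime q) := by
  have : Algebra.FinitePresentation K B := inferInstance
  have hsm : Algebra.IsSmoothAt K q :=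
    Algebra.FormallySmooth.comp K B (Localization.AtPrime q)
  obtain ⟨f, hf, n, alg, tower, hEt⟩ :=
    Algebra.IsSmoothAt.exists_isStandardEtale_mvPolynomial (R := K) (p := q)
  have hdisj : Disjoint (Submonoid.powers f : Set B) (q : Set B) :=
    (Ideal.disjoint_powers_iff_notMem_of_isPrime _).mpr hf
  set q' : Ideal (Localization.Away f) := q.map (algebraMap B (Localization.Away f)) with hq'
  have hq'prime : q'.IsPrime :=
    IsLocalization.isPrime_of_isPrime_disjoint (.powers f) _ _ ‹_› hdisj
  have hreg : IsRegularLocalRing (Localization.AtPrime q') :=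
    isRegularLocalRing_of_etale (A := MvPolynomial (Fin n) K) q'
  have hloc : IsLocalization.AtPrime (Localization.AtPrime q') q := by
    convert IsLocalization.isLocalization_isLocalization_atPrime_isLocalization
      (Submonoid.powers f) (Localization.AtPrime q') q'
    exact (IsLocalization.under_map_of_isPrime_disjoint (.powers f) _ ‹_› hdisj).symm
  exact IsRegularLocalRing.of_ringEquiv (IsLocalization.algEquiv q.primeCompl
    (Localization.AtPrime q') (Localization.AtPrime q)).toRingEquiv

theorem isRegularRing_of_smooth (K B : Type*) [CommRing K] [CommRing B]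
    [Algebra K B] [IsRegularRing K] [Algebra.Smooth K B] : IsRegularRing B := by
  have : Algebra.FinitePresentation K B := inferInstance
  have : IsNoetherianRing B := Algebra.FiniteType.isNoetherianRing K B
  rw [isRegularRing_iff]
  intro q hq
  exact isRegularLocalRing_of_smooth (K := K) q

end Groth.Agent.Lib.SmoothRegular
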