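/-
helper56: regular local ring + separable residue field ⇒ smooth (Stacks 00TV), ring level.

* `mem_mul_of_mem_sq` : `P` regular local, `P/I` regular local, `y ∈ I ∩ 𝔪²` ⇒ `y ∈ 𝔪 I`.
-/
import Mathlib
import Groth.Agent.Lib.RegularLocal
import Groth.Agent.Lib.SmoothRegular
import Groth.Agent.Lib.MacLane4H44

set_option autoImplicit false
universe u

open IsLocalRing TensorProduct KaehlerDifferential

namespace Groth.Agent.Lib.H56RegSmooth

section Regular

variable {P : Type u} [CommRing P] [IsRegularLocalRing P]

/-- A regular system of parameters is linearly independent in the cotangent space. -/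
theorem linearIndependent_toCotangent (d : ℕ) (hd : ringKrullDim P = d) (x : Fin d → P)
    (hx : Ideal.span (Set.range x) = maximalIdeal P)
    (hxm : ∀ i, x i ∈ maximalIdeal P) :
    LinearIndependent (ResidueField P)
      (fun i => (maximalIdeal P).toCotangent ⟨x i, hxm i⟩) := by
  have hfin : Module.finrank (ResidueField P) (CotangentSpace P) = d := by
    have h1 := IsRegularLocalRing.spanFinrank_maximalIdeal (R := P)
    rw [hd] at h1
    rw [← IsLocalRing.spanFinrank_maximalIdeal_eq_finrank_cotangentSpace]
    exact_mod_cast h1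
  apply linearIndependent_of_top_le_span_of_card_eq_finrank
  · rw [top_le_iff]
    have : Set.range (fun i => (maximalIdeal P).toCotangent ⟨x i, hxm i⟩) =
        (maximalIdeal P).toCotangent '' (Set.range fun i => (⟨x i, hxm i⟩ : maximalIdeal P)) := by
      rw [← Set.range_comp]; rfl
    rw [this, CotangentSpace.span_image_eq_top_iff]
    apply (Submodule.map_injective_of_injective (maximalIdeal P).subtype_injective)
    rw [Submodule.map_span, Submodule.map_top, Submodule.range_subtype, ← Set.range_comp]
    exact hx
  · rw [hfin, Fintype.card_fin]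

/-- If `P` and `P/I` are regular local rings, then `I ∩ 𝔪² ⊆ 𝔪 I`. -/
theorem mem_mul_of_mem_sq (I : Ideal P) [IsRegularLocalRing (P ⧸ I)] {y : P} (hyI : y ∈ I)
    (hy2 : y ∈ maximalIdeal P ^ 2) : y ∈ maximalIdeal P * I := by
  obtain ⟨d, hd⟩ : ∃ d : ℕ, ringKrullDim P = d :=
    ⟨(maximalIdeal P).spanFinrank, (IsRegularLocalRing.spanFinrank_maximalIdeal (R := P)).symm⟩
  obtain ⟨x, c, hc, hx, hI⟩ := Groth.Agent.Lib.RegularLocal.exists_generators P d hd I
  have hxm : ∀ i, x i ∈ maximalIdeal P := fun i => hx ▸ Ideal.subset_span ⟨i, rfl⟩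
  have hli := linearIndependent_toCotangent d hd x hx hxm
  have hyI' := hyI
  rw [hI] at hyI'
  obtain ⟨a, ha⟩ := (Ideal.mem_span_range_iff_exists_fun).mp hyI'
  have hym : y ∈ maximalIdeal P := Ideal.pow_le_self two_ne_zero hy2
  have h0 : (maximalIdeal P).toCotangent ⟨y, hym⟩ = 0 := (Ideal.toCotangent_eq_zero _ _).mpr hy2
  have hsum : (⟨y, hym⟩ : maximalIdeal P) =
      ∑ i : Fin c, a i • (⟨x (Fin.castLE hc i), hxm _⟩ : maximalIdeal P) := by
    apply Subtype.ext
    change y = _
    rw [← ha]
    simp [Submodule.coe_sum]
  have h1 : ∑ i : Fin c, (residue P (a i)) •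
      (maximalIdeal P).toCotangent ⟨x (Fin.castLE hc i), hxm _⟩ = 0 := by
    rw [← h0, hsum, map_sum]
    refine Finset.sum_congr rfl fun i _ => ?_
    rw [map_smul]
    rfl
  have hli' := hli.comp (Fin.castLE hc) (Fin.castLE_injective hc)
  have h2 : ∀ i, residue P (a i) = 0 := Fintype.linearIndependent_iff.mp hli' _ h1
  have h3 : ∀ i, a i ∈ maximalIdeal P := fun i => (residue_eq_zero_iff _).mp (h2 i)
  rw [← ha]
  refine Ideal.sum_mem _ fun i _ => ?_
  exact Ideal.mul_mem_mul (h3 i) (hI ▸ Ideal.subset_span ⟨i, rfl⟩)

end Regular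

section Tensor

variable {P : Type u} [CommRing P] (K : Type u) [CommRing K] [Algebra P K]
  (hK : Function.Surjective (algebraMap P K))

include hK in
/-- For a cyclic algebra `K = P/𝔪`, `1 ⊗ y = 0` in `K ⊗ M` iff `y ∈ 𝔪 M`. -/
theorem one_tmul_eq_zero_iff (M : Type u) [AddCommGroup M] [Module P M] (y : M) :
    (1 : K) ⊗ₜ[P] y = 0 ↔ y ∈ (RingHom.ker (algebraMap P K)) • (⊤ : Submodule P M) := by
  let e0 : (P ⧸ RingHom.ker (algebraMap P K)) ≃ₐ[P] K :=
    Ideal.quotientKerAlgEquivOfSurjective (f := Algebra.ofId P K) hK
  let e : K ⊗[P] M ≃ₗ[P] M ⧸ (RingHom.ker (algebraMap P K)) • (⊤ : Submodule P M) :=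
    (TensorProduct.congr e0.symm.toLinearEquiv (LinearEquiv.refl P M)) ≪≫ₗ
      TensorProduct.quotTensorEquivQuotSMul M (RingHom.ker (algebraMap P K))
  have he : e ((1 : K) ⊗ₜ[P] y) = Submodule.Quotient.mk y := by
    change TensorProduct.quotTensorEquivQuotSMul M _ ((e0.symm 1) ⊗ₜ[P] y) = _
    rw [map_one]
    have := TensorProduct.quotTensorEquivQuotSMul_mk_tmul (M := M)
      (RingHom.ker (algebraMap P K)) 1 y
    rw [one_smul] at this
    exact this
  rw [← e.map_eq_zero_iff, he, Submodule.Quotient.mk_eq_zero]

include hK in
/-- If `I ≤ 𝔪 = ker (P → K)` and `I ∩ 𝔪² ⊆ 𝔪 I` then `K ⊗ I → K ⊗ 𝔪` is injective. -/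
theorem lTensor_inclusion_injective (I : Ideal P) (hI : I ≤ RingHom.ker (algebraMap P K))
    (h : ∀ y ∈ I, y ∈ RingHom.ker (algebraMap P K) * RingHom.ker (algebraMap P K) →
      y ∈ RingHom.ker (algebraMap P K) * I) :
    Function.Injective (LinearMap.lTensor K (Submodule.inclusion hI)) := by
  rw [injective_iff_map_eq_zero]
  intro z hz
  obtain ⟨y, rfl⟩ := TensorProduct.mk_surjective P I K hK z
  change (1 : K) ⊗ₜ[P] y = 0
  change (1 : K) ⊗ₜ[P] (Submodule.inclusion hI y) = 0 at hz
  rw [one_tmul_eq_zero_iff K hK] at hz ⊢
  rw [Submodule.mem_smul_top_iff] at hz ⊢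
  exact h y.1 y.2 hz

end Tensor

section Main

/-- **Local form of Stacks 00TV**: a regular local quotient `S` of a regular local, formally smooth
`k`-algebra `P` (with `Ω[P/k]` finite free) whose residue field is formally smooth (i.e. separable)
over `k` is formally smooth over `k`. -/
theorem formallySmooth_of_isRegularLocalRing_of_surjective
    (k : Type u) [Field k] (P S : Type u) [CommRing P] [CommRing S] [Algebra k P] [Algebra k S]
    [Algebra P S] [IsScalarTower k P S] [IsRegularLocalRing P] [IsRegularLocalRing S]
    [Algebra.FormallySmooth k P] [Module.Free P Ω[P⁄k]] [Module.Finite P Ω[P⁄k]]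
    (h₁ : Function.Surjective (algebraMap P S))
    [Algebra.FormallySmooth k (ResidueField S)] :
    Algebra.FormallySmooth k S := by
  have hN : IsNoetherianRing P := inferInstance
  have h₂ : (RingHom.ker (algebraMap P S)).FG := IsNoetherian.noetherian _
  have hPK : Function.Surjective (algebraMap P (ResidueField S)) := by
    rw [IsScalarTower.algebraMap_eq P S (ResidueField S)]
    exact residue_surjective.comp h₁
  have h₂' : (RingHom.ker (algebraMap P (ResidueField S))).FG := IsNoetherian.noetherian _
  have h₃ : maximalIdeal S ≤ RingHom.ker (algebraMap S (ResidueField S)) := by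
    intro x hx
    rw [RingHom.mem_ker]
    exact (residue_eq_zero_iff x).mpr hx
  have h₃' : maximalIdeal (ResidueField S) ≤
      RingHom.ker (algebraMap (ResidueField S) (ResidueField S)) := by
    rw [IsLocalRing.maximalIdeal_eq_bot]
    exact bot_le
  have : IsScalarTower k P (ResidueField S) := .to₁₂₄ k P S (ResidueField S)
  rw [Algebra.FormallySmooth.iff_injective_cotangentComplexBaseChange P (ResidueField S) h₁ h₂ h₃]
  have hK := (Algebra.FormallySmooth.iff_injective_cotangentComplexBaseChange (R := k)
    (S := ResidueField S) P (ResidueField S) hPK h₂' h₃').mp inferInstance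
  have hI : RingHom.ker (algebraMap P S) ≤ RingHom.ker (algebraMap P (ResidueField S)) := by
    intro x hx
    rw [RingHom.mem_ker] at hx ⊢
    rw [IsScalarTower.algebraMap_apply P S (ResidueField S), hx, map_zero]
  have hker : RingHom.ker (algebraMap P (ResidueField S)) = maximalIdeal P := by
    have hmax : (RingHom.ker (algebraMap P (ResidueField S))).IsMaximal :=
      RingHom.ker_isMaximal_of_surjective _ hPK
    exact IsLocalRing.eq_maximalIdeal hmax
  have hreg : IsRegularLocalRing (P ⧸ RingHom.ker (algebraMap P S)) :=
    IsRegularLocalRing.of_ringEquiv (RingHom.quotientKerEquivOfSurjective h₁).symm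
  have hinj := lTensor_inclusion_injective (ResidueField S) hPK _ hI (fun y hy hy2 => by
    rw [hker] at hy2 ⊢
    rw [← pow_two] at hy2
    exact mem_mul_of_mem_sq _ hy hy2)
  have hfac : ∀ z, cotangentComplexBaseChange k S P (ResidueField S) z =
      cotangentComplexBaseChange k (ResidueField S) P (ResidueField S)
        (LinearMap.lTensor (ResidueField S) (Submodule.inclusion hI) z) := by
    intro z
    induction z with
    | zero => simp
    | add a b ha hb => rw [map_add, map_add, map_add, ha, hb]
    | tmul a b =>
      rw [LinearMap.lTensor_tmul, cotangentComplexBaseChange_tmul,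
        cotangentComplexBaseChange_tmul]
      rfl
  intro a b hab
  rw [hfac, hfac] at hab
  exact hinj (hK hab)

/-- **Stacks 00TV**: a finite type algebra `S` over a field `k` is smooth at a prime `q` whose local
ring is regular and whose residue field is formally smooth (equivalently, separable) over `k`. -/
theorem isSmoothAt_of_isRegularLocalRing (k : Type u) [Field k] (S : Type u) [CommRing S]
    [Algebra k S] [Algebra.FiniteType k S] (q : Ideal S) [q.IsPrime]
    [Algebra.FormallySmooth k q.ResidueField] [IsRegularLocalRing (Localization.AtPrime q)] :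
    Algebra.IsSmoothAt k q := by
  obtain ⟨n, f, hf⟩ := Algebra.FiniteType.iff_quotient_mvPolynomial''.mp ‹Algebra.FiniteType k S›
  have hQ : (q.comap (f : MvPolynomial (Fin n) k →+* S)).IsPrime := Ideal.comap_isPrime _ _
  let g : Localization.AtPrime (q.comap (f : MvPolynomial (Fin n) k →+* S)) →+*
      Localization.AtPrime q :=
    Localization.localRingHom _ q (f : MvPolynomial (Fin n) k →+* S) rfl
  have hg : Function.Surjective g :=
    RingHom.surjective_localRingHom_of_surjective (f : MvPolynomial (Fin n) k →+* S) hf q
  let _ : Algebra (Localization.AtPrime (q.comap (f : MvPolynomial (Fin n) k →+* S)))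
      (Localization.AtPrime q) := g.toAlgebra
  have tower : IsScalarTower k (Localization.AtPrime (q.comap (f : MvPolynomial (Fin n) k →+* S)))
      (Localization.AtPrime q) := IsScalarTower.of_algebraMap_eq (fun c => by
    rw [RingHom.algebraMap_toAlgebra,
      IsScalarTower.algebraMap_apply k (MvPolynomial (Fin n) k)
        (Localization.AtPrime (q.comap (f : MvPolynomial (Fin n) k →+* S))),
      Localization.localRingHom_to_map, IsScalarTower.algebraMap_apply k S (Localization.AtPrime q)]
    congr 1
    exact (f.commutes c).symm)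
  have : Algebra.FormallyEtale (MvPolynomial (Fin n) k)
      (Localization.AtPrime (q.comap (f : MvPolynomial (Fin n) k →+* S))) :=
    .of_isLocalization (q.comap (f : MvPolynomial (Fin n) k →+* S)).primeCompl
  have : Algebra.FormallySmooth k
      (Localization.AtPrime (q.comap (f : MvPolynomial (Fin n) k →+* S))) :=
    .comp k (MvPolynomial (Fin n) k) _
  have : Module.Free (Localization.AtPrime (q.comap (f : MvPolynomial (Fin n) k →+* S)))
      Ω[Localization.AtPrime (q.comap (f : MvPolynomial (Fin n) k →+* S))⁄k] :=
    .of_equiv (KaehlerDifferential.tensorKaehlerEquivOfFormallyEtale k (MvPolynomial (Fin n) k) _)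
  have : Module.Finite (Localization.AtPrime (q.comap (f : MvPolynomial (Fin n) k →+* S)))
      Ω[Localization.AtPrime (q.comap (f : MvPolynomial (Fin n) k →+* S))⁄k] :=
    .of_surjective _
      (KaehlerDifferential.tensorKaehlerEquivOfFormallyEtale k (MvPolynomial (Fin n) k) _).surjective
  exact formallySmooth_of_isRegularLocalRing_of_surjective k
    (Localization.AtPrime (q.comap (f : MvPolynomial (Fin n) k →+* S))) (Localization.AtPrime q) hg

/-- A finitely presented algebra over a regular ring has a regular local ring at every prime at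
which it is smooth (pointwise version of helper54's `SmoothRegular.isRegularLocalRing_of_smooth`). -/
theorem isRegularLocalRing_of_isSmoothAt {K B : Type u} [CommRing K] [CommRing B]
    [Algebra K B] [IsRegularRing K] [Algebra.FinitePresentation K B]
    (q : Ideal B) [q.IsPrime] (hsm : Algebra.IsSmoothAt K q) :
    IsRegularLocalRing (Localization.AtPrime q) := by
  obtain ⟨f, hf, n, alg, tower, hEt⟩ :=
    Algebra.IsSmoothAt.exists_isStandardEtale_mvPolynomial (R := K) (p := q)
  have hdisj : Disjoint (Submonoid.powers f : Set B) (q : Set B) :=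
    (Ideal.disjoint_powers_iff_notMem_of_isPrime _).mpr hf
  set q' : Ideal (Localization.Away f) := q.map (algebraMap B (Localization.Away f)) with hq'
  have hq'prime : q'.IsPrime :=
    IsLocalization.isPrime_of_isPrime_disjoint (.powers f) _ _ ‹_› hdisj
  have hreg : IsRegularLocalRing (Localization.AtPrime q') :=
    Groth.Agent.Lib.SmoothRegular.isRegularLocalRing_of_etale (A := MvPolynomial (Fin n) K) q'
  have hloc : IsLocalization.AtPrime (Localization.AtPrime q') q := by
    convert IsLocalization.isLocalization_isLocalization_atPrime_isLocalization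
      (Submonoid.powers f) (Localization.AtPrime q') q'
    exact (IsLocalization.under_map_of_isPrime_disjoint (.powers f) _ ‹_› hdisj).symm
  exact IsRegularLocalRing.of_ringEquiv (IsLocalization.algEquiv q.primeCompl
    (Localization.AtPrime q') (Localization.AtPrime q)).toRingEquiv

/-- Smooth at `q` iff regular at `q`, for a finite type algebra over a field and a prime with
separable residue field. -/
theorem isSmoothAt_iff_isRegularLocalRing (k : Type u) [Field k] (S : Type u) [CommRing S]
    [Algebra k S] [Algebra.FiniteType k S] (q : Ideal S) [q.IsPrime]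
    [Algebra.FormallySmooth k q.ResidueField] :
    Algebra.IsSmoothAt k q ↔ IsRegularLocalRing (Localization.AtPrime q) := by
  have : IsNoetherianRing k := inferInstance
  have hfp : Algebra.FinitePresentation k S :=
    Algebra.FinitePresentation.of_finiteType.mp inferInstance
  exact ⟨fun h => isRegularLocalRing_of_isSmoothAt q h,
    fun h => isSmoothAt_of_isRegularLocalRing k S q⟩

end Main

end Groth.Agent.Lib.H56RegSmooth
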