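/-
helper56: adic formal smoothness implies formal smoothness for local algebras essentially of finite
presentation (EGA 0_IV 22.1-ish / Stacks 07EL-type), via Mathlib's Jacobian criterion.

* `mem_mul_of_tmul_D_eq_zero` : the core lemma.
* `formallySmooth_of_isAdicFormallySmooth`.
-/
import Mathlib
import Groth.Prelude.Def_CAlgX
import Groth.Agent.Lib.H56RegSmooth

set_option autoImplicit false
universe u

open IsLocalRing TensorProduct KaehlerDifferential

namespace Groth.Agent.Lib.H56AdicSmooth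

open Groth.Agent.Lib.H56RegSmooth

variable (R : Type u) [CommRing R] (P S : Type u) [CommRing P] [CommRing S]
  [Algebra R P] [Algebra R S] [Algebra P S] [IsScalarTower R P S]
  [IsLocalRing P] [IsNoetherianRing P] [IsLocalRing S]

/-- Artin–Rees: `I ∩ 𝔪^k ⊆ 𝔪 I` for large `k`. -/
theorem exists_inf_pow_le_mul (I 𝔪 : Ideal P) : ∃ k : ℕ, 0 < k ∧ I ⊓ 𝔪 ^ k ≤ 𝔪 * I := by
  obtain ⟨c, hc⟩ := Ideal.exists_pow_inf_eq_pow_smul 𝔪 (M := P) (I : Submodule P P)
  refine ⟨c + 1, Nat.succ_pos c, ?_⟩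
  have h := hc (c + 1) (Nat.le_succ c)
  rw [Nat.add_sub_cancel_left, pow_one] at h
  intro y hy
  have hy' : y ∈ (𝔪 ^ (c + 1) • ⊤ ⊓ (I : Submodule P P) : Submodule P P) := by
    refine ⟨?_, hy.1⟩
    rw [smul_eq_mul, Ideal.mul_top]
    exact hy.2
  rw [h] at hy'
  have hle : (𝔪 • (𝔪 ^ c • ⊤ ⊓ (I : Submodule P P)) : Submodule P P) ≤ 𝔪 * I := by
    rw [← smul_eq_mul]
    exact Submodule.smul_mono le_rfl inf_le_right
  exact hle hy'

variable {P} in
theorem sup_pow_sq_le (I 𝔪 : Ideal P) (hI : I ≤ 𝔪) (k : ℕ) (hk : 0 < k) :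
    (I ⊔ 𝔪 ^ k) * (I ⊔ 𝔪 ^ k) ≤ 𝔪 * I ⊔ 𝔪 ^ k := by
  rw [Ideal.mul_le]
  intro a ha b hb
  obtain ⟨a1, ha1, a2, ha2, rfl⟩ := Submodule.mem_sup.mp ha
  obtain ⟨b1, hb1, b2, hb2, rfl⟩ := Submodule.mem_sup.mp hb
  have e : (a1 + a2) * (b1 + b2) = a1 * b1 + (a2 * (b1 + b2) + a1 * b2) := by ring
  rw [e]
  refine Submodule.add_mem_sup (Ideal.mul_mem_mul (hI ha1) hb1) ?_
  exact Ideal.add_mem _ (Ideal.mul_mem_right _ _ ha2) (Ideal.mul_mem_left _ _ hb2)

variable {P} in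
theorem smul_sup_pow_le (I 𝔪 : Ideal P) (k : ℕ) :
    𝔪 * (I ⊔ 𝔪 ^ k) ≤ 𝔪 * I ⊔ 𝔪 ^ k := by
  rw [Ideal.mul_sup]
  exact sup_le_sup le_rfl Ideal.mul_le_right

/-- **Core lemma**: if `S = P/I` is adically formally smooth over `R` and `1 ⊗ dy = 0` in
`κ ⊗ Ω[P/R]` for some `y ∈ I`, then `y ∈ 𝔪 I`. -/
theorem mem_mul_of_tmul_D_eq_zero (h₁ : Function.Surjective (algebraMap P S))
    (hadic : CAlgX.IsAdicFormallySmooth R S (maximalIdeal S))
    (y : P) (hy : y ∈ RingHom.ker (algebraMap P S))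
    (hDy : (1 : ResidueField S) ⊗ₜ[P] (D R P y) = 0) :
    y ∈ maximalIdeal P * RingHom.ker (algebraMap P S) := by
  have hI𝔪 : RingHom.ker (algebraMap P S) ≤ maximalIdeal P :=
    le_maximalIdeal (RingHom.ker_ne_top _)
  obtain ⟨k, hk0, hk⟩ := exists_inf_pow_le_mul P (RingHom.ker (algebraMap P S)) (maximalIdeal P)
  obtain ⟨I, hI⟩ : ∃ I : Ideal P, I = RingHom.ker (algebraMap P S) := ⟨_, rfl⟩
  obtain ⟨𝔪, h𝔪⟩ : ∃ 𝔪 : Ideal P, 𝔪 = maximalIdeal P := ⟨_, rfl⟩
  rw [← hI, ← h𝔪] at hk hI𝔪 ⊢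
  rw [← hI] at hy
  obtain ⟨L, hL⟩ : ∃ L : Ideal P, L = 𝔪 * I ⊔ 𝔪 ^ k := ⟨_, rfl⟩
  obtain ⟨J, hJ⟩ : ∃ J : Ideal (P ⧸ L), J = (I ⊔ 𝔪 ^ k).map (Ideal.Quotient.mk L) := ⟨_, rfl⟩
  have hJ2 : J ^ 2 = ⊥ := by
    rw [hJ, ← Ideal.map_pow, eq_bot_iff, Ideal.map_le_iff_le_comap, ← RingHom.ker_eq_comap_bot,
      Ideal.mk_ker, pow_two, hL]
    exact sup_pow_sq_le _ _ hI𝔪 k hk0
  have h𝔪J : ∀ m ∈ 𝔪, ∀ j ∈ J, Ideal.Quotient.mk L m * j = 0 := by
    intro m hm j hj
    rw [hJ] at hj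
    obtain ⟨x, hx, rfl⟩ := (Ideal.mem_map_iff_of_surjective _ Ideal.Quotient.mk_surjective).mp hj
    rw [← map_mul, Ideal.Quotient.eq_zero_iff_mem, hL]
    exact smul_sup_pow_le I 𝔪 k (Ideal.mul_mem_mul hm hx)
  -- the map `ψ`
  let g : P →ₐ[R] (P ⧸ L) ⧸ J := (Ideal.Quotient.mkₐ R J).comp (Ideal.Quotient.mkₐ R L)
  have hgI : ∀ x ∈ I ⊔ 𝔪 ^ k, g x = 0 := by
    intro x hx
    change Ideal.Quotient.mk J (Ideal.Quotient.mk L x) = 0
    rw [Ideal.Quotient.eq_zero_iff_mem, hJ]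
    exact Ideal.mem_map_of_mem _ hx
  let eS : (P ⧸ RingHom.ker (IsScalarTower.toAlgHom R P S)) ≃ₐ[R] S :=
    Ideal.quotientKerAlgEquivOfSurjective (f := IsScalarTower.toAlgHom R P S) h₁
  have hker : RingHom.ker (IsScalarTower.toAlgHom R P S) = I := hI.symm
  let lft : (P ⧸ RingHom.ker (IsScalarTower.toAlgHom R P S)) →ₐ[R] (P ⧸ L) ⧸ J :=
    Ideal.Quotient.liftₐ (RingHom.ker (IsScalarTower.toAlgHom R P S)) g
      (fun x hx => hgI x (Ideal.mem_sup_left (hker ▸ hx)))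
  let ψ : S →ₐ[R] (P ⧸ L) ⧸ J := lft.comp eS.symm.toAlgHom
  have hψ : ∀ x : P, ψ (algebraMap P S x) = g x := by
    intro x
    have : eS.symm (algebraMap P S x) = Ideal.Quotient.mk _ x := by
      rw [AlgEquiv.symm_apply_eq]
      rfl
    change lft (eS.symm (algebraMap P S x)) = g x
    rw [this]
    rfl
  have hψk : ∃ n : ℕ, ∀ x ∈ maximalIdeal S ^ n, ψ x = 0 := by
    refine ⟨k, fun x hx => ?_⟩
    have hmap : maximalIdeal S = (maximalIdeal P).map (algebraMap P S) := by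
      have := IsLocalHom.of_surjective (algebraMap P S) h₁
      exact ((IsLocalRing.local_hom_TFAE (algebraMap P S)).out 0 4 |>.mp this |> fun h => by
        rw [← h, Ideal.map_comap_of_surjective _ h₁])
    rw [hmap, ← Ideal.map_pow] at hx
    obtain ⟨x', hx', rfl⟩ := (Ideal.mem_map_iff_of_surjective _ h₁).mp hx
    rw [hψ]
    exact hgI x' (Ideal.mem_sup_right (h𝔪 ▸ hx'))
  obtain ⟨χ, hχ⟩ := hadic (P ⧸ L) J hJ2 ψ hψk
  let χ' : P →ₐ[R] (P ⧸ L) := χ.comp (IsScalarTower.toAlgHom R P S)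
  have e : (Ideal.Quotient.mkₐ R J).comp χ' = IsScalarTower.toAlgHom R P ((P ⧸ L) ⧸ J) := by
    ext x
    change (Ideal.Quotient.mkₐ R J) (χ (algebraMap P S x)) = _
    have := congrArg (fun f => f (algebraMap P S x)) hχ
    change (Ideal.Quotient.mkₐ R J) (χ (algebraMap P S x)) = ψ (algebraMap P S x) at this
    rw [this, hψ]
    rfl
  let Dv := derivationToSquareZeroOfLift J hJ2 χ' e
  have hDv : ∀ x : P, (Dv x : P ⧸ L) = χ' x - algebraMap P (P ⧸ L) x := fun x => rfl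
  have hPK : Function.Surjective (algebraMap P (ResidueField S)) := by
    rw [IsScalarTower.algebraMap_eq P S (ResidueField S)]
    exact residue_surjective.comp h₁
  have hkerK : RingHom.ker (algebraMap P (ResidueField S)) = 𝔪 := by
    have hmax : (RingHom.ker (algebraMap P (ResidueField S))).IsMaximal :=
      RingHom.ker_isMaximal_of_surjective _ hPK
    rw [h𝔪]
    exact IsLocalRing.eq_maximalIdeal hmax
  have h1 : D R P y ∈ 𝔪 • (⊤ : Submodule P Ω[P⁄R]) := by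
    have := (one_tmul_eq_zero_iff (ResidueField S) hPK _ _).mp hDy
    rwa [hkerK] at this
  have h2 : ∀ ω ∈ 𝔪 • (⊤ : Submodule P Ω[P⁄R]), Dv.liftKaehlerDifferential ω = 0 := by
    intro ω hω
    refine Submodule.smul_induction_on hω ?_ ?_
    · intro m hm ω' _
      rw [map_smul]
      apply Subtype.ext
      change algebraMap P (P ⧸ L) m * ((Dv.liftKaehlerDifferential ω' : J) : P ⧸ L) = 0
      exact h𝔪J m hm _ (Dv.liftKaehlerDifferential ω').2
    · intro a b ha hb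
      rw [map_add, ha, hb, add_zero]
  have h3 : Dv y = 0 := by
    have := h2 _ h1
    rwa [Derivation.liftKaehlerDifferential_comp_D] at this
  have h4 : χ' y = 0 := by
    change χ (algebraMap P S y) = 0
    rw [hI] at hy
    rw [RingHom.mem_ker.mp hy, map_zero]
  have h5 : y ∈ L := by
    have := hDv y
    rw [h3, h4, zero_sub, Submodule.coe_zero, zero_eq_neg] at this
    exact Ideal.Quotient.eq_zero_iff_mem.mp this
  rw [hL] at h5
  obtain ⟨a, ha, b, hb, rfl⟩ := Submodule.mem_sup.mp h5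
  have haI : a ∈ I := Ideal.mul_le_right ha
  have hbI : b ∈ I := by
    have := I.sub_mem hy haI
    rwa [add_sub_cancel_left] at this
  exact Ideal.add_mem _ ha (hk ⟨hbI, hb⟩)

/-- Adic formal smoothness implies formal smoothness for a local quotient `S` of a Noetherian local
formally smooth `R`-algebra `P` with `Ω[P/R]` finite free. -/
theorem formallySmooth_of_isAdicFormallySmooth [Algebra.FormallySmooth R P]
    [Module.Free P Ω[P⁄R]] [Module.Finite P Ω[P⁄R]]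
    (h₁ : Function.Surjective (algebraMap P S))
    (hadic : CAlgX.IsAdicFormallySmooth R S (maximalIdeal S)) : Algebra.FormallySmooth R S := by
  have h₂ : (RingHom.ker (algebraMap P S)).FG := IsNoetherian.noetherian _
  have hPK : Function.Surjective (algebraMap P (ResidueField S)) := by
    rw [IsScalarTower.algebraMap_eq P S (ResidueField S)]
    exact residue_surjective.comp h₁
  have hkerK : RingHom.ker (algebraMap P (ResidueField S)) = maximalIdeal P := by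
    have hmax : (RingHom.ker (algebraMap P (ResidueField S))).IsMaximal :=
      RingHom.ker_isMaximal_of_surjective _ hPK
    exact IsLocalRing.eq_maximalIdeal hmax
  rw [Algebra.FormallySmooth.iff_injective_cotangentComplexBaseChange_residueField P h₁ h₂,
    injective_iff_map_eq_zero]
  intro z hz
  obtain ⟨y, rfl⟩ := TensorProduct.mk_surjective P _ (ResidueField S) hPK z
  rw [TensorProduct.mk_apply] at hz ⊢
  rw [cotangentComplexBaseChange_tmul, one_smul] at hz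
  have hmem := mem_mul_of_tmul_D_eq_zero R P S h₁ hadic y.1 y.2 hz
  rw [one_tmul_eq_zero_iff _ hPK, Submodule.mem_smul_top_iff, hkerK]
  exact hmem

end Groth.Agent.Lib.H56AdicSmooth
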