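/-
helper56: smooth at `q` iff `A_p → B_q` adically formally smooth (Stacks 07EL-type), for `A` Noetherian
and `B` of finite type.
-/
import Mathlib
import Groth.Prelude.Def_CAlgX
import Groth.Agent.Lib.H56AdicSmooth

set_option autoImplicit false
universe u

open IsLocalRing TensorProduct KaehlerDifferential

namespace Groth.Agent.Lib.H56AdicSmooth

/-- The module of differentials does not change when the base is replaced by a formally unramified
(e.g. localized) base. -/
theorem kaehler_map_bijective (R S B : Type u) [CommRing R] [CommRing S] [CommRing B]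
    [Algebra R S] [Algebra S B] [Algebra R B] [IsScalarTower R S B]
    [Algebra.FormallyUnramified R S] :
    Function.Bijective (KaehlerDifferential.map R S B B) := by
  refine ⟨?_, KaehlerDifferential.map_surjective R S B⟩
  rw [injective_iff_map_eq_zero]
  intro x hx
  obtain ⟨z, rfl⟩ := (KaehlerDifferential.exact_mapBaseChange_map R S B x).mp hx
  have hsub : Subsingleton (B ⊗[S] Ω[S⁄R]) := by
    have : Subsingleton Ω[S⁄R] := inferInstance
    infer_instance
  rw [Subsingleton.elim z 0, map_zero]

/-- **Key lemma** (Stacks 07EL-type, EGA 0_IV 22.1.4-type): for `A` Noetherian and `B` a finite type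
`A`-algebra, if `B_q` is formally smooth over `A` for the `𝔪`-adic topology, then it is formally
smooth over `A` for the discrete topology, i.e. `A → B` is smooth at `q`. -/
theorem formallySmooth_localization_of_adic (A B : Type u) [CommRing A] [IsNoetherianRing A]
    [CommRing B] [Algebra A B] [Algebra.FiniteType A B] (q : Ideal B) [q.IsPrime]
    (hadic : CAlgX.IsAdicFormallySmooth A (Localization.AtPrime q)
      (maximalIdeal (Localization.AtPrime q))) :
    Algebra.FormallySmooth A (Localization.AtPrime q) := by
  obtain ⟨n, f, hf⟩ := Algebra.FiniteType.iff_quotient_mvPolynomial''.mp ‹Algebra.FiniteType A B›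
  have hQ : (q.comap (f : MvPolynomial (Fin n) A →+* B)).IsPrime := Ideal.comap_isPrime _ _
  let g : Localization.AtPrime (q.comap (f : MvPolynomial (Fin n) A →+* B)) →+*
      Localization.AtPrime q :=
    Localization.localRingHom _ q (f : MvPolynomial (Fin n) A →+* B) rfl
  have hg : Function.Surjective g :=
    RingHom.surjective_localRingHom_of_surjective (f : MvPolynomial (Fin n) A →+* B) hf q
  let _ : Algebra (Localization.AtPrime (q.comap (f : MvPolynomial (Fin n) A →+* B)))
      (Localization.AtPrime q) := g.toAlgebra
  have tower : IsScalarTower A (Localization.AtPrime (q.comap (f : MvPolynomial (Fin n) A →+* B)))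
      (Localization.AtPrime q) := IsScalarTower.of_algebraMap_eq (fun c => by
    rw [RingHom.algebraMap_toAlgebra,
      IsScalarTower.algebraMap_apply A (MvPolynomial (Fin n) A)
        (Localization.AtPrime (q.comap (f : MvPolynomial (Fin n) A →+* B))),
      Localization.localRingHom_to_map, IsScalarTower.algebraMap_apply A B (Localization.AtPrime q)]
    congr 1
    exact (f.commutes c).symm)
  have : Algebra.FormallyEtale (MvPolynomial (Fin n) A)
      (Localization.AtPrime (q.comap (f : MvPolynomial (Fin n) A →+* B))) :=
    .of_isLocalization (q.comap (f : MvPolynomial (Fin n) A →+* B)).primeCompl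
  have : Algebra.FormallySmooth A
      (Localization.AtPrime (q.comap (f : MvPolynomial (Fin n) A →+* B))) :=
    .comp A (MvPolynomial (Fin n) A) _
  have : Module.Free (Localization.AtPrime (q.comap (f : MvPolynomial (Fin n) A →+* B)))
      Ω[Localization.AtPrime (q.comap (f : MvPolynomial (Fin n) A →+* B))⁄A] :=
    .of_equiv (KaehlerDifferential.tensorKaehlerEquivOfFormallyEtale A (MvPolynomial (Fin n) A) _)
  have : Module.Finite (Localization.AtPrime (q.comap (f : MvPolynomial (Fin n) A →+* B)))
      Ω[Localization.AtPrime (q.comap (f : MvPolynomial (Fin n) A →+* B))⁄A] :=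
    .of_surjective _
      (KaehlerDifferential.tensorKaehlerEquivOfFormallyEtale A (MvPolynomial (Fin n) A) _).surjective
  have : IsNoetherianRing (MvPolynomial (Fin n) A) := inferInstance
  have : IsNoetherianRing (Localization.AtPrime (q.comap (f : MvPolynomial (Fin n) A →+* B))) :=
    IsLocalization.isNoetherianRing (q.comap (f : MvPolynomial (Fin n) A →+* B)).primeCompl _
      inferInstance
  exact formallySmooth_of_isAdicFormallySmooth A
    (Localization.AtPrime (q.comap (f : MvPolynomial (Fin n) A →+* B))) (Localization.AtPrime q)
    hg hadic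

/-- Version of the key lemma producing `Algebra.IsSmoothAt`. -/
theorem isSmoothAt_of_adic {A B : Type u} [CommRing A] [IsNoetherianRing A]
    [CommRing B] [Algebra A B] [Algebra.FiniteType A B] (q : Ideal B) [q.IsPrime]
    (hadic : CAlgX.IsAdicFormallySmooth A (Localization.AtPrime q)
      (maximalIdeal (Localization.AtPrime q))) :
    Algebra.IsSmoothAt A q :=
  formallySmooth_localization_of_adic A B q hadic

/-- Adic formal smoothness over a localization `Aₚ` of `A` implies adic formal smoothness over `A`,
as soon as the topology is given by an ideal `𝔫` such that ... (we only need: every element of `M`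
becomes a unit in any test algebra, which is automatic as `S` is an `Aₚ`-algebra and the test ideal
is nilpotent). -/
theorem isAdicFormallySmooth_of_isLocalization {A : Type u} [CommRing A] (M : Submonoid A)
    (Ap : Type u) [CommRing Ap] [Algebra A Ap] [IsLocalization M Ap]
    (S : Type u) [CommRing S] [Algebra A S] [Algebra Ap S] [IsScalarTower A Ap S] (𝔫 : Ideal S)
    (h : CAlgX.IsAdicFormallySmooth Ap S 𝔫) : CAlgX.IsAdicFormallySmooth A S 𝔫 := by
  intro A' _ _ J hJ ψ hψ
  have hunit : ∀ m : M, IsUnit (algebraMap A A' m) := by
    intro m
    have h1 : IsUnit (algebraMap A (A' ⧸ J) m) := by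
      have : algebraMap A (A' ⧸ J) m = ψ (algebraMap Ap S (algebraMap A Ap m)) := by
        rw [← IsScalarTower.algebraMap_apply, AlgHom.commutes]
      rw [this]
      exact ((IsLocalization.map_units Ap m).map _).map _
    have h2 : IsUnit (Ideal.Quotient.mk J (algebraMap A A' m)) := h1
    have hnil : IsNilpotent J := ⟨2, by rw [hJ]; rfl⟩
    exact (IsNilpotent.isUnit_quotient_mk_iff hnil).mp h2
  let _ : Algebra Ap A' := (IsLocalization.lift hunit).toAlgebra
  have tower : IsScalarTower A Ap A' := IsScalarTower.of_algebraMap_eq (fun a => by
    rw [RingHom.algebraMap_toAlgebra, IsLocalization.lift_eq])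
  let ψ' : S →ₐ[Ap] A' ⧸ J :=
    { ψ.toRingHom with
      commutes' := fun r => by
        have : (ψ.toRingHom.comp (algebraMap Ap S)) = algebraMap Ap (A' ⧸ J) := by
          apply IsLocalization.ringHom_ext M
          ext a
          simp only [RingHom.comp_apply, AlgHom.toRingHom_eq_coe, RingHom.coe_coe]
          rw [← IsScalarTower.algebraMap_apply, AlgHom.commutes,
            ← IsScalarTower.algebraMap_apply]
        exact congrArg (fun φ => φ r) this }
  obtain ⟨χ, hχ⟩ := h A' J hJ ψ' hψ
  refine ⟨χ.restrictScalars A, ?_⟩
  ext x
  have := congrArg (fun φ => φ x) hχ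
  exact this

theorem smooth_iff_adic (A B : Type u) [CommRing A] [IsNoetherianRing A] [CommRing B] [Algebra A B]
    [Algebra.FiniteType A B] (q : Ideal B) [q.IsPrime]
    [Algebra (Localization.AtPrime (q.comap (algebraMap A B))) (Localization.AtPrime q)]
    (halg : algebraMap (Localization.AtPrime (q.comap (algebraMap A B))) (Localization.AtPrime q) =
      Localization.localRingHom _ q (algebraMap A B) rfl) :
    (∃ g : B, g ∉ q ∧ Algebra.Smooth A (Localization.Away g)) ↔
      CAlgX.IsAdicFormallySmooth (Localization.AtPrime (q.comap (algebraMap A B)))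
        (Localization.AtPrime q) (maximalIdeal (Localization.AtPrime q)) := by
  have hfp : Algebra.FinitePresentation A B :=
    Algebra.FinitePresentation.of_finiteType.mp inferInstance
  have tower : IsScalarTower A (Localization.AtPrime (q.comap (algebraMap A B)))
      (Localization.AtPrime q) := IsScalarTower.of_algebraMap_eq (fun a => by
    rw [halg, Localization.localRingHom_to_map, ← IsScalarTower.algebraMap_apply])
  have het : Algebra.FormallyEtale A (Localization.AtPrime (q.comap (algebraMap A B))) :=
    .of_isLocalization (q.comap (algebraMap A B)).primeCompl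
  constructor
  · rintro ⟨g, hg, hsm⟩
    have hq : (⟨q, inferInstance⟩ : PrimeSpectrum B) ∈ Algebra.smoothLocus A B :=
      (Algebra.basicOpen_subset_smoothLocus_iff_smooth.mpr hsm) hg
    have h1 : Algebra.FormallySmooth A (Localization.AtPrime q) := hq
    have h2 : Algebra.FormallySmooth (Localization.AtPrime (q.comap (algebraMap A B)))
        (Localization.AtPrime q) := Algebra.FormallySmooth.iff_restrictScalars.mp h1
    intro A' _ _ J hJ ψ _
    exact Algebra.FormallySmooth.exists_lift J ⟨2, hJ⟩ ψ
  · intro hadic
    have hadic' : CAlgX.IsAdicFormallySmooth A (Localization.AtPrime q)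
        (maximalIdeal (Localization.AtPrime q)) :=
      isAdicFormallySmooth_of_isLocalization (q.comap (algebraMap A B)).primeCompl
        (Localization.AtPrime (q.comap (algebraMap A B))) _ _ hadic
    have hsm : Algebra.IsSmoothAt A q := isSmoothAt_of_adic q hadic'
    obtain ⟨g, hg, hs⟩ := Algebra.IsSmoothAt.exists_notMem_smooth A q
    exact ⟨g, hg, hs⟩

end Groth.Agent.Lib.H56AdicSmooth
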