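import Mathlib
import Groth.Agent.S4576

/-!
# Residually injective maps into projective modules split near the prime (helper44)

`R` a commutative ring, `p` a prime, `M` a finite module, `N` a projective module (no finiteness),
`φ : M → N` with `κ(p) ⊗ φ` injective.  Then there are `f ∉ p` and `l : N → M` with
`l ∘ φ = f • id`  (`exists_retract_up_to_of_injective`).
-/

namespace Groth.Agent.Lib.LocalSplitH44

open TensorProduct IsLocalRing

universe u

variable {R : Type u} [CommRing R] (p : Ideal R) [p.IsPrime]
variable {M N : Type u} [AddCommGroup M] [Module R M] [AddCommGroup N] [Module R N]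

/-- comparison of `κ(p) ⊗_R φ` with `κ(p) ⊗_{R_p} (R_p ⊗_R φ)` -/
theorem injective_lTensor_baseChange (φ : M →ₗ[R] N)
    (h : Function.Injective (φ.lTensor p.ResidueField)) :
    Function.Injective
      ((φ.baseChange (Localization.AtPrime p)).lTensor (ResidueField (Localization.AtPrime p))) := by
  let eM := AlgebraTensorModule.cancelBaseChange R (Localization.AtPrime p)
    (ResidueField (Localization.AtPrime p)) (ResidueField (Localization.AtPrime p)) M
  let eN := AlgebraTensorModule.cancelBaseChange R (Localization.AtPrime p)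
    (ResidueField (Localization.AtPrime p)) (ResidueField (Localization.AtPrime p)) N
  have hcomm : ∀ x, eN (((φ.baseChange (Localization.AtPrime p)).lTensor
      (ResidueField (Localization.AtPrime p))) x) = (φ.lTensor p.ResidueField) (eM x) := by
    intro x
    induction x using TensorProduct.induction_on with
    | zero => simp
    | add x y hx hy => rw [map_add, map_add, map_add, map_add, hx, hy]
    | tmul a y =>
      induction y using TensorProduct.induction_on with
      | zero => simp
      | add y z hy hz => rw [TensorProduct.tmul_add, map_add, map_add, map_add, map_add, hy, hz]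
      | tmul b m =>
        simp only [LinearMap.lTensor_tmul, LinearMap.baseChange_tmul, eN, eM,
          AlgebraTensorModule.cancelBaseChange_tmul]
  intro x y hxy
  apply eM.injective
  apply h
  rw [← hcomm, ← hcomm, hxy]

/-- the finite free case -/
theorem exists_retract_up_to_of_injective_free [Module.Finite R M] [Module.Finite R N]
    [Module.Free R N] (φ : M →ₗ[R] N)
    (h : Function.Injective (φ.lTensor p.ResidueField)) :
    ∃ f ∉ p, ∃ l : N →ₗ[R] M, l ∘ₗ φ = f • LinearMap.id := by
  have h1 := injective_lTensor_baseChange p φ h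
  obtain ⟨r, hr⟩ := (IsLocalRing.split_injective_iff_lTensor_residueField_injective
    (φ.baseChange (Localization.AtPrime p))).2 h1
  let e := LocalizedModule.equivTensorProduct p.primeCompl M
  let lam : N →ₗ[R] LocalizedModule p.primeCompl M :=
    (e.symm.toLinearMap.restrictScalars R) ∘ₗ (r.restrictScalars R) ∘ₗ
      (TensorProduct.mk R (Localization.AtPrime p) N 1)
  have hlam : lam ∘ₗ φ = LocalizedModule.mkLinearMap p.primeCompl M := by
    ext m
    change e.symm (r ((1 : Localization.AtPrime p) ⊗ₜ[R] φ m)) = _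
    have h2 : r ((1 : Localization.AtPrime p) ⊗ₜ[R] φ m) = (1 : Localization.AtPrime p) ⊗ₜ[R] m := by
      have := LinearMap.congr_fun hr ((1 : Localization.AtPrime p) ⊗ₜ[R] m)
      simpa using this
    rw [h2]
    exact LocalizedModule.equivTensorProduct_symm_apply_tmul_one p.primeCompl m
  obtain ⟨f, hf, l, hl⟩ := Groth.Agent.S4576.exists_retract_up_to p.primeCompl φ lam hlam
  exact ⟨f, hf, l, hl⟩

/-- **Local splitting.** `M` finite, `N` projective, `κ(p) ⊗ φ` injective: `φ` has a retraction up
to some `f ∉ p`. -/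
theorem exists_retract_up_to_of_injective [Module.Finite R M] [Module.Projective R N]
    (φ : M →ₗ[R] N) (h : Function.Injective (φ.lTensor p.ResidueField)) :
    ∃ f ∉ p, ∃ l : N →ₗ[R] M, l ∘ₗ φ = f • LinearMap.id := by
  classical
  obtain ⟨ι, hι⟩ := Module.projective_def'.mp (inferInstance : Module.Projective R N)
  set π : (N →₀ R) →ₗ[R] N := Finsupp.linearCombination R id with hπ
  -- finitely many coordinates suffice
  obtain ⟨G, hG⟩ := (Module.finite_def.mp (inferInstance : Module.Finite R M))
  set I₀ : Finset N := G.biUnion (fun m => (ι (φ m)).support) with hI₀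
  have hsupp : ∀ m : M, ι (φ m) ∈ Finsupp.supported R R (I₀ : Set N) := by
    intro m
    have hm : m ∈ Submodule.span R (G : Set M) := by rw [hG]; trivial
    induction hm using Submodule.span_induction with
    | mem x hx =>
      rw [Finsupp.mem_supported]
      intro n hn
      exact Finset.mem_coe.2 (Finset.mem_biUnion.2 ⟨x, hx, hn⟩)
    | zero => rw [map_zero, map_zero]; exact Submodule.zero_mem _
    | add x y _ _ hx hy => rw [map_add, map_add]; exact Submodule.add_mem _ hx hy
    | smul a x _ hx => rw [map_smul, map_smul]; exact Submodule.smul_mem _ a hx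
  let e := Finsupp.supportedEquivFinsupp (M := R) (R := R) (I₀ : Set N)
  -- ψ : M → (I₀ →₀ R)
  let proj : (N →₀ R) →ₗ[R] (↥(I₀ : Set N) →₀ R) :=
    e.toLinearMap ∘ₗ Finsupp.restrictDom R R (I₀ : Set N)
  let incl : (↥(I₀ : Set N) →₀ R) →ₗ[R] (N →₀ R) :=
    (Finsupp.supported R R (I₀ : Set N)).subtype ∘ₗ e.symm.toLinearMap
  have hpi : proj ∘ₗ incl = LinearMap.id := by
    refine LinearMap.ext fun x => ?_
    change e (Finsupp.restrictDom R R (I₀ : Set N) ((e.symm x : Finsupp.supported R R (I₀ : Set N)) : N →₀ R)) = x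
    have := LinearMap.congr_fun (Finsupp.restrictDom_comp_subtype (M := R) (R := R) (I₀ : Set N)) (e.symm x)
    simp only [LinearMap.comp_apply, Submodule.subtype_apply, LinearMap.id_apply] at this
    rw [this, LinearEquiv.apply_symm_apply]
  set ψ : M →ₗ[R] (↥(I₀ : Set N) →₀ R) := proj ∘ₗ ι ∘ₗ φ with hψ
  have hincl : incl ∘ₗ ψ = ι ∘ₗ φ := by
    refine LinearMap.ext fun m => ?_
    change ((e.symm (e (Finsupp.restrictDom R R (I₀ : Set N) (ι (φ m)))) :
      Finsupp.supported R R (I₀ : Set N)) : N →₀ R) = ι (φ m)
    rw [LinearEquiv.symm_apply_apply]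
    have := LinearMap.congr_fun (Finsupp.restrictDom_comp_subtype (M := R) (R := R) (I₀ : Set N))
      ⟨ι (φ m), hsupp m⟩
    simp only [LinearMap.comp_apply, Submodule.subtype_apply, LinearMap.id_apply] at this
    rw [this]
  -- residual injectivity of ψ
  have hψinj : Function.Injective (ψ.lTensor p.ResidueField) := by
    have h1 : (incl.lTensor p.ResidueField) ∘ₗ (ψ.lTensor p.ResidueField) =
        (ι.lTensor p.ResidueField) ∘ₗ (φ.lTensor p.ResidueField) := by
      rw [← LinearMap.lTensor_comp, ← LinearMap.lTensor_comp, hincl]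
    have h2 : Function.Injective (ι.lTensor p.ResidueField) := by
      have h3 : (π.lTensor p.ResidueField) ∘ₗ (ι.lTensor p.ResidueField) = LinearMap.id := by
        rw [← LinearMap.lTensor_comp, hι, LinearMap.lTensor_id]
      exact Function.HasLeftInverse.injective ⟨_, LinearMap.congr_fun h3⟩
    have h4 : Function.Injective
        ((incl.lTensor p.ResidueField) ∘ₗ (ψ.lTensor p.ResidueField)) := by
      rw [h1]
      exact h2.comp h
    exact Function.Injective.of_comp h4
  haveI : Fintype ↥(I₀ : Set N) := Finset.fintypeCoeSort I₀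
  obtain ⟨f, hf, l₀, hl₀⟩ := exists_retract_up_to_of_injective_free p ψ hψinj
  refine ⟨f, hf, l₀ ∘ₗ proj ∘ₗ ι, ?_⟩
  rw [LinearMap.comp_assoc, LinearMap.comp_assoc, ← hψ]
  exact hl₀

section Surjective

variable {B C : Type*} [CommRing B] [CommRing C] [Algebra B C]
  (hsurj : Function.Surjective (algebraMap B C))
  (κ : Type*) [AddCommGroup κ] [Module B κ] [Module C κ] [IsScalarTower B C κ]
  {M N M' N' : Type*} [AddCommGroup M] [AddCommGroup N] [Module B M] [Module B N]
  [AddCommGroup M'] [AddCommGroup N'] [Module B M'] [Module C M'] [IsScalarTower B C M']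
  [Module B N'] [Module C N'] [IsScalarTower B C N']

include hsurj in
/-- for a surjective `B → C`, injectivity of `κ ⊗_B φ` and of `κ ⊗_C φ` agree -/
theorem injective_lTensor_iff_of_surjective
    (φB : M →ₗ[B] N) (φC : M' →ₗ[C] N') (eM : M ≃ₗ[B] M') (eN : N ≃ₗ[B] N')
    (h : ∀ m, eN (φB m) = φC (eM m)) :
    Function.Injective (φB.lTensor κ) ↔ Function.Injective (φC.lTensor κ) := by
  haveI : TensorProduct.CompatibleSMul B C κ M' := ⟨fun c x m => by
    obtain ⟨b, rfl⟩ := hsurj c
    rw [algebraMap_smul, algebraMap_smul, TensorProduct.smul_tmul]⟩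
  haveI : TensorProduct.CompatibleSMul B C κ N' := ⟨fun c x m => by
    obtain ⟨b, rfl⟩ := hsurj c
    rw [algebraMap_smul, algebraMap_smul, TensorProduct.smul_tmul]⟩
  let fM : κ ⊗[B] M ≃ₗ[B] κ ⊗[C] M' :=
    (LinearEquiv.lTensor κ eM).trans (TensorProduct.equivOfCompatibleSMul C B B κ M')
  let fN : κ ⊗[B] N ≃ₗ[B] κ ⊗[C] N' :=
    (LinearEquiv.lTensor κ eN).trans (TensorProduct.equivOfCompatibleSMul C B B κ N')
  have hcomm : ∀ x, fN (φB.lTensor κ x) = φC.lTensor κ (fM x) := by
    intro x
    induction x using TensorProduct.induction_on with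
    | zero => simp
    | add x y hx hy => rw [map_add, map_add, map_add, map_add, hx, hy]
    | tmul a m =>
      change (a ⊗ₜ[C] eN (φB m)) = a ⊗ₜ[C] φC (eM m)
      rw [h]
  constructor
  · intro hB x y hxy
    obtain ⟨x', rfl⟩ := fM.surjective x
    obtain ⟨y', rfl⟩ := fM.surjective y
    rw [← hcomm, ← hcomm] at hxy
    rw [hB (fN.injective hxy)]
  · intro hC x y hxy
    apply fM.injective
    apply hC
    rw [← hcomm, ← hcomm, hxy]

end Surjective

end Groth.Agent.Lib.LocalSplitH44
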