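import Mathlib
import Groth.Agent.Lib.LocalSplitH44
import Groth.Agent.Lib.H56AdicSmooth2

/-!
# Adic formal smoothness implies formal smoothness for local quotients of Noetherian local
formally smooth algebras, without finiteness of `Ω` (helper44)

Generalises helper56's `H56AdicSmooth.formallySmooth_of_isAdicFormallySmooth` (which needs
`Ω[P/R]` finite free) to arbitrary formally smooth `P` (so `Ω[P/R]` only projective), e.g.
`P = k[T_1..T_r]_q` over a subfield `k₀` of `k` with `k/k₀` separable but not finitely generated.

* `exists_retract_of_injective_local` : local ring, `M` finite, `N` projective, residually injective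
  `φ : M → N` has a retraction.
* `formallySmooth_of_isAdicFormallySmooth` (primed namespace `AdicJacobianH44`).
* `formallySmooth_localization_of_adic` : `k₀ → k` formally smooth fields... general: `A → A'`
  formally smooth with `A'` Noetherian, `B` of finite type over `A'`, `B_q` adically f.s. over `A`
  implies `B_q` formally smooth over `A`.
-/

namespace Groth.Agent.Lib.AdicJacobianH44

open TensorProduct IsLocalRing KaehlerDifferential

universe u

section Local

variable {R : Type u} [CommRing R] [IsLocalRing R]
variable {M N : Type u} [AddCommGroup M] [Module R M] [AddCommGroup N] [Module R N]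

/-- local ring, `M` finite, `N` projective, `κ ⊗ φ` injective: `φ` is a split injection. -/
theorem exists_retract_of_injective_local [Module.Finite R M] [Module.Projective R N]
    (φ : M →ₗ[R] N) (h : Function.Injective (φ.lTensor (ResidueField R))) :
    ∃ l : N →ₗ[R] M, l ∘ₗ φ = LinearMap.id := by
  classical
  obtain ⟨ι, hι⟩ := Module.projective_def'.mp (inferInstance : Module.Projective R N)
  set π : (N →₀ R) →ₗ[R] N := Finsupp.linearCombination R id with hπ
  obtain ⟨G, hG⟩ := (Module.finite_def.mp (inferInstance : Module.Finite R M))
  set I₀ : Finset N := G.biUnion (fun m => (ι (φ m)).support) with hI₀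
  have hsupp : ∀ m : M, ι (φ m) ∈ Finsupp.supported R R (I₀ : Set N) := by
    intro m
    have hm : m ∈ Submodule.span R (G : Set M) := by rw [hG]; trivial
    induction hm using Submodule.span_induction with
    | mem x hx =>
      rw [Finsupp.mem_supported]
      intro n hn
      exact Finset.mem_coe.2 (Finset.mem_biUnion.2 ⟨x, hx, hn⟩)
    | zero => rw [map_zero, map_zero]; exact Submodule.zero_mem _
    | add x y _ _ hx hy => rw [map_add, map_add]; exact Submodule.add_mem _ hx hy
    | smul a x _ hx => rw [map_smul, map_smul]; exact Submodule.smul_mem _ a hx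
  let e := Finsupp.supportedEquivFinsupp (M := R) (R := R) (I₀ : Set N)
  let proj : (N →₀ R) →ₗ[R] (↥(I₀ : Set N) →₀ R) :=
    e.toLinearMap ∘ₗ Finsupp.restrictDom R R (I₀ : Set N)
  let incl : (↥(I₀ : Set N) →₀ R) →ₗ[R] (N →₀ R) :=
    (Finsupp.supported R R (I₀ : Set N)).subtype ∘ₗ e.symm.toLinearMap
  set ψ : M →ₗ[R] (↥(I₀ : Set N) →₀ R) := proj ∘ₗ ι ∘ₗ φ with hψ
  have hincl : incl ∘ₗ ψ = ι ∘ₗ φ := by
    refine LinearMap.ext fun m => ?_
    change ((e.symm (e (Finsupp.restrictDom R R (I₀ : Set N) (ι (φ m)))) :
      Finsupp.supported R R (I₀ : Set N)) : N →₀ R) = ι (φ m)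
    rw [LinearEquiv.symm_apply_apply]
    have := LinearMap.congr_fun (Finsupp.restrictDom_comp_subtype (M := R) (R := R) (I₀ : Set N))
      ⟨ι (φ m), hsupp m⟩
    simp only [LinearMap.comp_apply, Submodule.subtype_apply, LinearMap.id_apply] at this
    rw [this]
  have hψinj : Function.Injective (ψ.lTensor (ResidueField R)) := by
    have h1 : (incl.lTensor (ResidueField R)) ∘ₗ (ψ.lTensor (ResidueField R)) =
        (ι.lTensor (ResidueField R)) ∘ₗ (φ.lTensor (ResidueField R)) := by
      rw [← LinearMap.lTensor_comp, ← LinearMap.lTensor_comp, hincl]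
    have h2 : Function.Injective (ι.lTensor (ResidueField R)) := by
      have h3 : (π.lTensor (ResidueField R)) ∘ₗ (ι.lTensor (ResidueField R)) = LinearMap.id := by
        rw [← LinearMap.lTensor_comp, hι, LinearMap.lTensor_id]
      exact Function.HasLeftInverse.injective ⟨_, LinearMap.congr_fun h3⟩
    have h4 : Function.Injective
        ((incl.lTensor (ResidueField R)) ∘ₗ (ψ.lTensor (ResidueField R))) := by
      rw [h1]
      exact h2.comp h
    exact Function.Injective.of_comp h4
  haveI : Fintype ↥(I₀ : Set N) := Finset.fintypeCoeSort I₀
  obtain ⟨l₀, hl₀⟩ := (IsLocalRing.split_injective_iff_lTensor_residueField_injective ψ).2 hψinj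
  refine ⟨l₀ ∘ₗ proj ∘ₗ ι, ?_⟩
  rw [LinearMap.comp_assoc, LinearMap.comp_assoc, ← hψ]
  exact hl₀

end Local

section Adic

variable (R : Type u) [CommRing R] (P S : Type u) [CommRing P] [CommRing S]
  [Algebra R P] [Algebra R S] [Algebra P S] [IsScalarTower R P S]
  [IsLocalRing P] [IsNoetherianRing P] [IsLocalRing S]

open Groth.Agent.Lib.H56AdicSmooth Groth.Agent.Lib.H56RegSmooth in
/-- Adic formal smoothness implies formal smoothness for a local quotient `S` of a Noetherian local
formally smooth `R`-algebra `P` (no finiteness of `Ω[P/R]`). -/
theorem formallySmooth_of_isAdicFormallySmooth [Algebra.FormallySmooth R P]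
    (h₁ : Function.Surjective (algebraMap P S))
    (hadic : CAlgX.IsAdicFormallySmooth R S (maximalIdeal S)) : Algebra.FormallySmooth R S := by
  have h₂ : (RingHom.ker (algebraMap P S)).FG := IsNoetherian.noetherian _
  have hPK : Function.Surjective (algebraMap P (ResidueField S)) := by
    rw [IsScalarTower.algebraMap_eq P S (ResidueField S)]
    exact residue_surjective.comp h₁
  have hkerK : RingHom.ker (algebraMap P (ResidueField S)) = maximalIdeal P := by
    have hmax : (RingHom.ker (algebraMap P (ResidueField S))).IsMaximal :=
      RingHom.ker_isMaximal_of_surjective _ hPK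
    exact IsLocalRing.eq_maximalIdeal hmax
  -- injectivity of the base-changed cotangent complex (helper56's argument)
  have hinj : Function.Injective (cotangentComplexBaseChange R S P (ResidueField S)) := by
    rw [injective_iff_map_eq_zero]
    intro z hz
    obtain ⟨y, rfl⟩ := TensorProduct.mk_surjective P _ (ResidueField S) hPK z
    rw [TensorProduct.mk_apply] at hz ⊢
    rw [cotangentComplexBaseChange_tmul, one_smul] at hz
    have hmem := mem_mul_of_tmul_D_eq_zero R P S h₁ hadic y.1 y.2 hz
    rw [one_tmul_eq_zero_iff _ hPK, Submodule.mem_smul_top_iff, hkerK]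
    exact hmem
  let P' : Algebra.Extension R S :=
    { Ring := P, σ := _, algebraMap_σ := Function.surjInv_eq h₁ }
  haveI : Algebra.FormallySmooth R P'.Ring := ‹_›
  have hinj' : Function.Injective (P'.cotangentComplex.lTensor (ResidueField S)) := by
    have h3 := hinj
    rw [P'.cotangentComplexBaseChange_eq_lTensor_cotangentComplex (ResidueField S)] at h3
    have h4 := (((AlgebraTensorModule.cancelBaseChange P'.Ring S _ _
      Ω[P'.Ring⁄R]).comp_injective _)).1 h3
    exact ((((AlgebraTensorModule.cancelBaseChange P'.Ring S _ _ P'.ker).symm ≪≫ₗ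
      P'.cotangentEquiv.baseChange (A := _)).injective_comp _)).1 h4
  haveI : Module.Finite P P'.Cotangent :=
    have : Module.Finite P P'.ker := .of_fg h₂
    .of_surjective _ Algebra.Extension.Cotangent.mk_surjective
  haveI : Module.Finite S P'.Cotangent := Module.Finite.of_restrictScalars_finite P _ _
  haveI : Module.Projective S P'.CotangentSpace := by
    haveI : Module.Projective P Ω[P⁄R] := inferInstance
    exact inferInstanceAs (Module.Projective S (TensorProduct P S Ω[P⁄R]))
  rw [P'.formallySmooth_iff_split_injection]
  exact exists_retract_of_injective_local P'.cotangentComplex hinj'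

end Adic

/-- **Key lemma**: `A → k` formally smooth with `k` Noetherian (e.g. a separable field extension),
`B` a finite type `k`-algebra, `q` a prime of `B`.  If `B_q` is formally smooth over `A` for the
`𝔪`-adic topology then it is formally smooth over `A` for the discrete topology. -/
theorem formallySmooth_localization_of_adic (A k B : Type u) [CommRing A] [CommRing k]
    [IsNoetherianRing k] [Algebra A k] [Algebra.FormallySmooth A k]
    [CommRing B] [Algebra k B] [Algebra A B] [IsScalarTower A k B] [Algebra.FiniteType k B]
    (q : Ideal B) [q.IsPrime]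
    (hadic : CAlgX.IsAdicFormallySmooth A (Localization.AtPrime q)
      (maximalIdeal (Localization.AtPrime q))) :
    Algebra.FormallySmooth A (Localization.AtPrime q) := by
  obtain ⟨n, f, hf⟩ := Algebra.FiniteType.iff_quotient_mvPolynomial''.mp ‹Algebra.FiniteType k B›
  have hQ : (q.comap (f : MvPolynomial (Fin n) k →+* B)).IsPrime := Ideal.comap_isPrime _ _
  let g : Localization.AtPrime (q.comap (f : MvPolynomial (Fin n) k →+* B)) →+*
      Localization.AtPrime q :=
    Localization.localRingHom _ q (f : MvPolynomial (Fin n) k →+* B) rfl
  have hg : Function.Surjective g :=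
    RingHom.surjective_localRingHom_of_surjective (f : MvPolynomial (Fin n) k →+* B) hf q
  let _ : Algebra (Localization.AtPrime (q.comap (f : MvPolynomial (Fin n) k →+* B)))
      (Localization.AtPrime q) := g.toAlgebra
  have tower : IsScalarTower A (Localization.AtPrime (q.comap (f : MvPolynomial (Fin n) k →+* B)))
      (Localization.AtPrime q) := IsScalarTower.of_algebraMap_eq (fun c => by
    rw [RingHom.algebraMap_toAlgebra,
      IsScalarTower.algebraMap_apply A (MvPolynomial (Fin n) k)
        (Localization.AtPrime (q.comap (f : MvPolynomial (Fin n) k →+* B))),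
      Localization.localRingHom_to_map, IsScalarTower.algebraMap_apply A B (Localization.AtPrime q)]
    congr 1
    rw [IsScalarTower.algebraMap_apply A k (MvPolynomial (Fin n) k),
      IsScalarTower.algebraMap_apply A k B]
    exact (f.commutes _).symm)
  have : Algebra.FormallySmooth A (MvPolynomial (Fin n) k) :=
    .comp A k (MvPolynomial (Fin n) k)
  have : Algebra.FormallyEtale (MvPolynomial (Fin n) k)
      (Localization.AtPrime (q.comap (f : MvPolynomial (Fin n) k →+* B))) :=
    .of_isLocalization (q.comap (f : MvPolynomial (Fin n) k →+* B)).primeCompl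
  have : Algebra.FormallySmooth A
      (Localization.AtPrime (q.comap (f : MvPolynomial (Fin n) k →+* B))) :=
    .comp A (MvPolynomial (Fin n) k) _
  have : IsNoetherianRing (MvPolynomial (Fin n) k) := inferInstance
  have : IsNoetherianRing (Localization.AtPrime (q.comap (f : MvPolynomial (Fin n) k →+* B))) :=
    IsLocalization.isNoetherianRing (q.comap (f : MvPolynomial (Fin n) k →+* B)).primeCompl _
      inferInstance
  exact formallySmooth_of_isAdicFormallySmooth A
    (Localization.AtPrime (q.comap (f : MvPolynomial (Fin n) k →+* B))) (Localization.AtPrime q)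
    hg hadic

end Groth.Agent.Lib.AdicJacobianH44
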