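import Mathlib.RingTheory.AdicCompletion.Basic
import Mathlib.RingTheory.AdicCompletion.Functoriality
import Mathlib.RingTheory.Finiteness.Basic
import Mathlib.LinearAlgebra.Finsupp.LinearCombination

/-!
`I`-adic precompleteness of finite products `ι → R`, and the finiteness criterion
(`R` complete, `M` separated, `M / I M` finite implies `M` finite).
-/

set_option autoImplicit false
universe u v

namespace Groth.Agent.Lib.AdicPi

open Submodule

variable {R : Type u} [CommRing R]

theorem mem_smul_top_pi_iff (J : Ideal R) (ι : Type v) [Finite ι] (g : ι → R) :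
    g ∈ (J • ⊤ : Submodule R (ι → R)) ↔ ∀ i, g i ∈ J := by
  classical
  cases nonempty_fintype ι
  constructor
  · intro hg i
    have hle : (J • ⊤ : Submodule R (ι → R)) ≤
        Submodule.comap (LinearMap.proj i : (ι → R) →ₗ[R] R) J := by
      rw [Submodule.smul_le]
      intro r hr n _
      simp only [Submodule.mem_comap, LinearMap.proj_apply, Pi.smul_apply, smul_eq_mul]
      exact Ideal.mul_mem_right _ _ hr
    exact hle hg
  · intro hg
    have : g = ∑ i, g i • (Pi.single i (1 : R) : ι → R) := by
      ext j
      simp [Finset.sum_apply, Pi.single_apply]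
    rw [this]
    exact Submodule.sum_mem _ fun i _ => Submodule.smul_mem_smul (hg i) mem_top

theorem isPrecomplete_pi (I : Ideal R) [IsPrecomplete I R] (ι : Type v) [Finite ι] :
    IsPrecomplete I (ι → R) := by
  refine ⟨fun f hf => ?_⟩
  have hcomp : ∀ i, ∃ L : R, ∀ n, f n i ≡ L [SMOD (I ^ n • ⊤ : Submodule R R)] := by
    intro i
    apply IsPrecomplete.prec'
    intro m n hmn
    have := hf hmn
    rw [SModEq.sub_mem] at this ⊢
    have h2 := (mem_smul_top_pi_iff (I ^ m) ι _).1 this i
    simpa using h2
  choose L hL using hcomp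
  refine ⟨L, fun n => ?_⟩
  rw [SModEq.sub_mem, mem_smul_top_pi_iff]
  intro i
  have := hL i n
  rw [SModEq.sub_mem] at this
  simpa using this

/-- If `R` is `I`-adically precomplete, `M` is `I`-adically separated and `M / I M` is a finite
module, then `M` is a finite module. -/
theorem finite_of_finite_quotient (I : Ideal R) [IsPrecomplete I R] (M : Type v) [AddCommGroup M]
    [Module R M] [IsHausdorff I M]
    (h : Module.Finite R (M ⧸ (I • ⊤ : Submodule R M))) : Module.Finite R M := by
  obtain ⟨n, s, hs⟩ := Module.Finite.exists_fin (R := R) (M := M ⧸ (I • ⊤ : Submodule R M))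
  have hx : ∀ i, ∃ x : M, mkQ (I • ⊤ : Submodule R M) x = s i :=
    fun i => mkQ_surjective _ (s i)
  choose x hx using hx
  let f : (Fin n → R) →ₗ[R] M := Fintype.linearCombination R x
  have : IsPrecomplete I (Fin n → R) := isPrecomplete_pi I (Fin n)
  have hsurj : Function.Surjective (mkQ (I • ⊤ : Submodule R M) ∘ₗ f) := by
    intro y
    have hy : y ∈ span R (Set.range s) := by rw [hs]; exact mem_top
    obtain ⟨c, hc⟩ := (Submodule.mem_span_range_iff_exists_fun R).1 hy
    refine ⟨c, ?_⟩
    rw [← hc]
    simp only [f, LinearMap.comp_apply, Fintype.linearCombination_apply, map_sum, map_smul, hx]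
  have hf : Function.Surjective f := surjective_of_mkQ_comp_surjective hsurj
  exact Module.Finite.of_surjective f hf

end Groth.Agent.Lib.AdicPi
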