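/-
Adic systems of flat modules: the inverse limit is a module of decaying functions.
Author: helper89
-/
import Groth.Agent.Lib.AdicFree
import Mathlib.RingTheory.Ideal.Quotient.Operations
import Mathlib.RingTheory.Ideal.Maps

set_option autoImplicit false

namespace Groth.Agent.Lib.AdicSys

open W4c5adicflatcompl Groth.Agent.Lib.AdicDecaying Groth.Agent.Lib.AdicFree

section Nilpotent

variable {R : Type*} [CommRing R] (J : Ideal R) {Z : Type*} {P : Type*} [AddCommGroup P]
  [Module R P]

/-- Nakayama for powers: `N + J P = P` implies `N + J ^ k P = P`. -/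
theorem sup_pow_smul_top_eq_top (N : Submodule R P) (h : N ⊔ J • ⊤ = ⊤) (k : ℕ) :
    N ⊔ J ^ k • ⊤ = ⊤ := by
  induction k with
  | zero => simp
  | succ k ih =>
    have h2 : J • (⊤ : Submodule R P) ≤ N ⊔ J ^ (k + 1) • ⊤ := by
      calc J • (⊤ : Submodule R P) = J • (N ⊔ J ^ k • ⊤) := by rw [ih]
        _ = J • N ⊔ J • (J ^ k • ⊤) := Submodule.smul_sup _ _ _
        _ ≤ N ⊔ J ^ (k + 1) • ⊤ := by
          refine sup_le_sup Submodule.smul_le_right ?_
          rw [← mul_smul, ← pow_succ']
    refine eq_top_iff.mpr ?_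
    calc (⊤ : Submodule R P) = N ⊔ J • ⊤ := h.symm
      _ ≤ N ⊔ J ^ (k + 1) • ⊤ := sup_le le_sup_left h2

theorem mem_smul_top_finsupp (c : Z →₀ R) (hc : ∀ z, c z ∈ J) :
    c ∈ (J • ⊤ : Submodule R (Z →₀ R)) := by
  classical
  rw [← c.sum_single]
  refine Submodule.sum_mem _ fun z _ => ?_
  have : Finsupp.single z (c z) = c z • Finsupp.single z (1 : R) := by
    rw [Finsupp.smul_single, smul_eq_mul, mul_one]
  rw [this]
  exact Submodule.smul_mem_smul (hc z) Submodule.mem_top

/-- A family in a flat module over a ring with a nilpotent ideal `J` which is a basis modulo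
`J` is a basis. -/
theorem bijective_linearCombination_of_flat [Module.Flat R P] (N : ℕ) (hJ : J ^ N = ⊥)
    (v : Z → P) (ha : Submodule.span R (Set.range v) ⊔ J • ⊤ = ⊤)
    (hb : ∀ c : Z →₀ R, Finsupp.linearCombination R v c ∈ (J • ⊤ : Submodule R P) →
      ∀ z, c z ∈ J) :
    Function.Bijective (Finsupp.linearCombination R v) := by
  have hsurj : Function.Surjective (Finsupp.linearCombination R v) := by
    rw [← LinearMap.range_eq_top, Finsupp.range_linearCombination]
    have := sup_pow_smul_top_eq_top J _ ha N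
    rwa [hJ, Submodule.bot_smul, sup_bot_eq] at this
  refine ⟨?_, hsurj⟩
  rw [← LinearMap.ker_eq_bot, eq_bot_iff]
  have h1 : LinearMap.ker (Finsupp.linearCombination R v) ≤
      (J • ⊤ : Submodule R (Z →₀ R)) := by
    intro c hc
    refine mem_smul_top_finsupp J c (hb c ?_)
    rw [LinearMap.mem_ker.mp hc]
    exact Submodule.zero_mem _
  have := ker_le_pow_smul_top_of_flat _ hsurj J h1 N
  rwa [hJ, Submodule.bot_smul] at this

end Nilpotent

section Sys

variable {A : Type*} [CommRing A] (I : Ideal A) (M : ℕ → Type*) [∀ n, AddCommGroup (M n)]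
  [∀ n, Module A (M n)] [∀ n, Module (A ⧸ I ^ (n + 1)) (M n)]
  [∀ n, IsScalarTower A (A ⧸ I ^ (n + 1)) (M n)] (ψ : ∀ n, M (n + 1) →ₗ[A] M n)

omit [∀ n, Module (A ⧸ I ^ (n + 1)) (M n)] [∀ n, IsScalarTower A (A ⧸ I ^ (n + 1)) (M n)] in
/-- Lifting an element of `M 0` to the inverse limit. -/
theorem exists_sysLim_of_zero (hψ : ∀ n, Function.Surjective (ψ n)) (y : M 0) :
    ∃ x : sysLim M ψ, (x : ∀ k, M k) 0 = y := by
  let x : ∀ k, M k := fun k => Nat.rec y (fun k xk => (hψ k xk).choose) k
  refine ⟨⟨x, fun n => ?_⟩, rfl⟩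
  exact (hψ n (x n)).choose_spec

/-- The transition map to the bottom of the tower. -/
def toZero : ∀ n, M n →ₗ[A] M 0
  | 0 => LinearMap.id
  | n + 1 => (toZero n).comp (ψ n)

omit [∀ n, Module (A ⧸ I ^ (n + 1)) (M n)] [∀ n, IsScalarTower A (A ⧸ I ^ (n + 1)) (M n)] in
theorem toZero_apply (x : sysLim M ψ) (n : ℕ) :
    toZero M ψ n ((x : ∀ k, M k) n) = (x : ∀ k, M k) 0 := by
  induction n with
  | zero => rfl
  | succ n ih =>
    show toZero M ψ n (ψ n ((x : ∀ k, M k) (n + 1))) = _
    rw [x.2 n, ih]

theorem mk_smul (n : ℕ) (a : A) (y : M n) : Ideal.Quotient.mk (I ^ (n + 1)) a • y = a • y := by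
  rw [← Ideal.Quotient.algebraMap_eq, algebraMap_smul]

theorem smul_eq_zero_of_mem (n : ℕ) {a : A} (ha : a ∈ I ^ (n + 1)) (y : M n) : a • y = 0 := by
  rw [← mk_smul I M n a y, Ideal.Quotient.eq_zero_iff_mem.mpr ha, zero_smul]

theorem pow_smul_top_eq_bot (n : ℕ) : (I ^ (n + 1) • ⊤ : Submodule A (M n)) = ⊥ := by
  rw [eq_bot_iff]
  intro y hy
  refine Submodule.smul_induction_on hy ?_ ?_
  · intro a ha y _
    rw [smul_eq_zero_of_mem I M n ha y]
    exact Submodule.zero_mem _
  · intro x y hx hy
    exact Submodule.add_mem _ hx hy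

theorem ker_toZero (hψ : ∀ n, Function.Surjective (ψ n))
    (hker : ∀ n, LinearMap.ker (ψ n) = (I ^ (n + 1) • ⊤ : Submodule A (M (n + 1)))) (n : ℕ) :
    LinearMap.ker (toZero M ψ n) = (I • ⊤ : Submodule A (M n)) := by
  induction n with
  | zero =>
    have := pow_smul_top_eq_bot I M 0
    rw [zero_add, pow_one] at this
    rw [this]
    exact LinearMap.ker_id
  | succ n ih =>
    apply le_antisymm
    · intro y hy
      have hy' : ψ n y ∈ LinearMap.ker (toZero M ψ n) := hy
      rw [ih] at hy'
      have hmap : (I • ⊤ : Submodule A (M n)) = Submodule.map (ψ n) (I • ⊤) := by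
        rw [Submodule.map_smul'', Submodule.map_top, LinearMap.range_eq_top.mpr (hψ n)]
      rw [hmap] at hy'
      obtain ⟨y', hy'mem, hy'eq⟩ := hy'
      have h3 : y - y' ∈ LinearMap.ker (ψ n) := by
        rw [LinearMap.mem_ker, map_sub, hy'eq, sub_self]
      rw [hker n] at h3
      have h4 : (I ^ (n + 1) • ⊤ : Submodule A (M (n + 1))) ≤ I • ⊤ := by
        rw [pow_succ', mul_smul]
        exact Submodule.smul_mono le_rfl le_top
      have : y = y' + (y - y') := by abel
      rw [this]
      exact Submodule.add_mem _ hy'mem (h4 h3)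
    · intro y hy
      have := map_mem_pow_smul_top I (toZero M ψ (n + 1)) 1 (by simpa using hy)
      have h0 := pow_smul_top_eq_bot I M 0
      rw [zero_add] at h0
      rw [h0] at this
      exact this

theorem toZero_eq_zero_of_mem (n : ℕ) {y : M n}
    (hy : y ∈ ((I.map (Ideal.Quotient.mk (I ^ (n + 1)))) • ⊤ :
      Submodule (A ⧸ I ^ (n + 1)) (M n))) : toZero M ψ n y = 0 := by
  refine Submodule.smul_induction_on hy ?_ ?_
  · intro r hr y' _
    obtain ⟨a, ha, rfl⟩ := (Ideal.mem_map_iff_of_surjective (Ideal.Quotient.mk (I ^ (n + 1)))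
      Ideal.Quotient.mk_surjective).mp hr
    rw [mk_smul, map_smul]
    exact smul_eq_zero_of_mem I M 0 (by simpa using ha) _
  · intro x y hx hy
    rw [map_add, hx, hy, add_zero]

theorem mem_of_toZero_eq_zero (hψ : ∀ n, Function.Surjective (ψ n))
    (hker : ∀ n, LinearMap.ker (ψ n) = (I ^ (n + 1) • ⊤ : Submodule A (M (n + 1)))) (n : ℕ)
    {y : M n} (hy : toZero M ψ n y = 0) :
    y ∈ ((I.map (Ideal.Quotient.mk (I ^ (n + 1)))) • ⊤ :
      Submodule (A ⧸ I ^ (n + 1)) (M n)) := by
  have hy' : y ∈ LinearMap.ker (toZero M ψ n) := hy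
  rw [ker_toZero I M ψ hψ hker n] at hy'
  refine Submodule.smul_induction_on hy' ?_ ?_
  · intro a ha y' _
    rw [← mk_smul I M n a y']
    exact Submodule.smul_mem_smul (Ideal.mem_map_of_mem _ ha) Submodule.mem_top
  · intro x y hx hy
    exact Submodule.add_mem _ hx hy

/-- Each level of a flat adic system is free on the images of a lift of a basis of the bottom
level. -/
theorem bijective_level [∀ n, Module.Flat (A ⧸ I ^ (n + 1)) (M n)]
    (hψ : ∀ n, Function.Surjective (ψ n))
    (hker : ∀ n, LinearMap.ker (ψ n) = (I ^ (n + 1) • ⊤ : Submodule A (M (n + 1))))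
    {Z : Type*} (b : Module.Basis Z (A ⧸ I ^ (0 + 1)) (M 0)) (m : Z → sysLim M ψ)
    (hm : ∀ z, (m z : ∀ k, M k) 0 = b z) (n : ℕ) :
    Function.Bijective
      (Finsupp.linearCombination (A ⧸ I ^ (n + 1)) (fun z => (m z : ∀ k, M k) n)) := by
  classical
  have hJ : (I.map (Ideal.Quotient.mk (I ^ (n + 1)))) ^ (n + 1) = ⊥ := by
    rw [← Ideal.map_pow, Ideal.map_quotient_self]
  refine bijective_linearCombination_of_flat _ (n + 1) hJ _ ?_ ?_
  · -- spanning modulo `J`
    have key : ∀ w : M 0, ∃ y ∈ Submodule.span (A ⧸ I ^ (n + 1))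
        (Set.range (fun z => (m z : ∀ k, M k) n)), toZero M ψ n y = w := by
      intro w
      have hw : w ∈ Submodule.span (A ⧸ I ^ (0 + 1)) (Set.range b) := by rw [b.span_eq]; trivial
      refine Submodule.span_induction ?_ ?_ ?_ ?_ hw
      · rintro _ ⟨z, rfl⟩
        refine ⟨(m z : ∀ k, M k) n, Submodule.subset_span ⟨z, rfl⟩, ?_⟩
        rw [toZero_apply, hm]
      · exact ⟨0, Submodule.zero_mem _, map_zero _⟩
      · rintro _ _ _ _ ⟨x, hx, rfl⟩ ⟨y, hy, rfl⟩
        exact ⟨x + y, Submodule.add_mem _ hx hy, map_add _ _ _⟩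
      · rintro r _ _ ⟨x, hx, rfl⟩
        obtain ⟨a, rfl⟩ := Ideal.Quotient.mk_surjective r
        refine ⟨Ideal.Quotient.mk (I ^ (n + 1)) a • x, Submodule.smul_mem _ _ hx, ?_⟩
        rw [mk_smul, map_smul, mk_smul]
    rw [eq_top_iff]
    intro y _
    obtain ⟨y', hy', hyy'⟩ := key (toZero M ψ n y)
    have h2 : toZero M ψ n (y - y') = 0 := by rw [map_sub, hyy', sub_self]
    have : y = y' + (y - y') := by abel
    rw [this]
    exact Submodule.add_mem_sup hy' (mem_of_toZero_eq_zero I M ψ hψ hker n h2)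
  · -- independence modulo `J`
    intro c hc z
    have h0 := toZero_eq_zero_of_mem I M ψ n hc
    choose a ha using fun z => Ideal.Quotient.mk_surjective (c z)
    have h1 : toZero M ψ n (Finsupp.linearCombination (A ⧸ I ^ (n + 1))
        (fun z => (m z : ∀ k, M k) n) c) =
        ∑ z ∈ c.support, Ideal.Quotient.mk (I ^ (0 + 1)) (a z) • b z := by
      rw [Finsupp.linearCombination_apply, Finsupp.sum, map_sum]
      refine Finset.sum_congr rfl fun z _ => ?_
      rw [← ha z, mk_smul, map_smul, toZero_apply, hm, mk_smul]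
    rw [h1] at h0
    by_cases hz : z ∈ c.support
    · have := linearIndependent_iff'.mp b.linearIndependent c.support _ h0 z hz
      rw [Ideal.Quotient.eq_zero_iff_mem] at this
      rw [← ha z]
      exact Ideal.mem_map_of_mem _ (by simpa using this)
    · rw [Finsupp.notMem_support_iff.mp hz]
      exact Ideal.zero_mem _

variable {Z : Type*}

/-- Reduction of a decaying function modulo `I ^ (n + 1)`; it is finitely supported. -/
noncomputable def red (n : ℕ) : decaying I Z A →ₗ[A] (Z →₀ A ⧸ I ^ (n + 1)) where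
  toFun g := Finsupp.ofSupportFinite
    (fun z => Ideal.Quotient.mk (I ^ (n + 1)) ((g : Z → A) z)) (by
      refine (g.2 (n + 1)).subset fun z hz => ?_
      simp only [Function.mem_support, ne_eq, Ideal.Quotient.eq_zero_iff_mem] at hz
      simpa using hz)
  map_add' g g' := by
    ext z
    simp [Finsupp.ofSupportFinite_coe]
  map_smul' a g := by
    ext z
    simp [Finsupp.ofSupportFinite_coe, Algebra.smul_def]

omit [∀ n, Module (A ⧸ I ^ (n + 1)) (M n)] [∀ n, IsScalarTower A (A ⧸ I ^ (n + 1)) (M n)] in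
@[simp] theorem red_apply (n : ℕ) (g : decaying I Z A) (z : Z) :
    red I n g z = Ideal.Quotient.mk (I ^ (n + 1)) ((g : Z → A) z) := rfl

/-- The `n`-th component of the comparison map. -/
noncomputable def levelMap (m : Z → sysLim M ψ) (n : ℕ) : decaying I Z A →ₗ[A] M n :=
  ((Finsupp.linearCombination (A ⧸ I ^ (n + 1))
    (fun z => (m z : ∀ k, M k) n)).restrictScalars A).comp (red I n)

theorem levelMap_eq_sum (m : Z → sysLim M ψ) (n : ℕ) (g : decaying I Z A) (S : Finset Z)
    (hS : ∀ z, z ∉ S → (g : Z → A) z ∈ I ^ (n + 1)) :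
    levelMap I M ψ m n g = ∑ z ∈ S, (g : Z → A) z • (m z : ∀ k, M k) n := by
  show Finsupp.linearCombination _ _ (red I n g) = _
  have hsub : (red I n g).support ⊆ S := by
    intro z hz
    by_contra h
    rw [Finsupp.mem_support_iff, red_apply] at hz
    exact hz (Ideal.Quotient.eq_zero_iff_mem.mpr (hS z h))
  rw [Finsupp.linearCombination_apply,
    Finsupp.sum_of_support_subset (red I n g) hsub (fun z r => r • (m z : ∀ k, M k) n)
      (fun z _ => zero_smul _ _)]
  refine Finset.sum_congr rfl fun z _ => ?_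
  rw [red_apply, mk_smul]

/-- The comparison map from decaying functions to the inverse limit. -/
noncomputable def limMap (m : Z → sysLim M ψ) : decaying I Z A →ₗ[A] sysLim M ψ :=
  LinearMap.codRestrict (sysLim M ψ) (LinearMap.pi (levelMap I M ψ m)) (fun g n => by
    classical
    have hS : ∀ z, z ∉ (g.2 (n + 2)).toFinset → (g : Z → A) z ∈ I ^ (n + 2) := by
      intro z hz
      rw [Set.Finite.mem_toFinset] at hz
      simpa using hz
    show ψ n (levelMap I M ψ m (n + 1) g) = levelMap I M ψ m n g
    rw [levelMap_eq_sum I M ψ m (n + 1) g _ hS,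
      levelMap_eq_sum I M ψ m n g _ (fun z hz => Ideal.pow_le_pow_right (by omega) (hS z hz)),
      map_sum]
    refine Finset.sum_congr rfl fun z _ => ?_
    rw [map_smul, (m z).2 n])

theorem limMap_apply (m : Z → sysLim M ψ) (g : decaying I Z A) (n : ℕ) :
    (limMap I M ψ m g : ∀ k, M k) n = levelMap I M ψ m n g := rfl

/-- Compatibility of the level-wise linear combinations with the transition maps. -/
theorem psi_linearCombination (m : Z → sysLim M ψ) (n : ℕ) (c : Z →₀ A ⧸ I ^ (n + 1 + 1)) :
    ψ n (Finsupp.linearCombination (A ⧸ I ^ (n + 1 + 1)) (fun z => (m z : ∀ k, M k) (n + 1)) c) =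
      Finsupp.linearCombination (A ⧸ I ^ (n + 1)) (fun z => (m z : ∀ k, M k) n)
        (c.mapRange (Ideal.Quotient.factor (Ideal.pow_le_pow_right (Nat.le_succ (n + 1))))
          (map_zero _)) := by
  induction c using Finsupp.induction_linear with
  | zero => simp
  | add c c' hc hc' =>
    rw [map_add, map_add, hc, hc', Finsupp.mapRange_add (by simp), map_add]
  | single z r =>
    obtain ⟨a, rfl⟩ := Ideal.Quotient.mk_surjective r
    rw [Finsupp.linearCombination_single, Finsupp.mapRange_single,
      Finsupp.linearCombination_single, Ideal.Quotient.factor_mk, mk_smul, mk_smul, map_smul,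
      (m z).2 n]

theorem bijective_limMap [IsAdicComplete I A] [∀ n, Module.Flat (A ⧸ I ^ (n + 1)) (M n)]
    (hψ : ∀ n, Function.Surjective (ψ n))
    (hker : ∀ n, LinearMap.ker (ψ n) = (I ^ (n + 1) • ⊤ : Submodule A (M (n + 1))))
    (b : Module.Basis Z (A ⧸ I ^ (0 + 1)) (M 0)) (m : Z → sysLim M ψ)
    (hm : ∀ z, (m z : ∀ k, M k) 0 = b z) :
    Function.Bijective (limMap I M ψ m) := by
  classical
  have hbij := bijective_level I M ψ hψ hker b m hm
  constructor
  · rw [injective_iff_map_eq_zero]
    intro g hg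
    have h1 : ∀ n z, (g : Z → A) z ∈ I ^ (n + 1) := by
      intro n z
      have h2 : levelMap I M ψ m n g = 0 := by
        rw [← limMap_apply, hg]
        rfl
      have h3 : red I n g = 0 := (hbij n).1 (by rw [map_zero]; exact h2)
      have h4 := DFunLike.congr_fun h3 z
      rwa [red_apply, Finsupp.zero_apply, Ideal.Quotient.eq_zero_iff_mem] at h4
    apply Subtype.ext
    funext z
    apply IsHausdorff.haus' (I := I)
    intro n
    rw [SModEq.zero]
    have := Ideal.pow_le_pow_right (Nat.le_succ n) (h1 n z)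
    simpa using this
  · intro x
    choose c hc using fun n => (hbij n).2 ((x : ∀ k, M k) n)
    choose a ha using fun n z => Ideal.Quotient.mk_surjective (c n z)
    -- compatibility of the coefficients
    have hcc : ∀ n, c n = (c (n + 1)).mapRange
        (Ideal.Quotient.factor (Ideal.pow_le_pow_right (Nat.le_succ (n + 1)))) (map_zero _) := by
      intro n
      apply (hbij n).1
      rw [← psi_linearCombination, hc, hc, x.2 n]
    have haa : ∀ n z, a (n + 1) z - a n z ∈ I ^ (n + 1) := by
      intro n z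
      rw [← Ideal.Quotient.eq, ha, hcc n, Finsupp.mapRange_apply, ← ha (n + 1) z,
        Ideal.Quotient.factor_mk]
    have hcauchy : ∀ z, ∀ {k n : ℕ}, k ≤ n →
        a k z ≡ a n z [SMOD (I ^ k • ⊤ : Submodule A A)] := by
      intro z k n hkn
      induction n, hkn using Nat.le_induction with
      | base => rfl
      | succ n hkn ih =>
        refine ih.trans ?_
        rw [SModEq.sub_mem]
        have h5 := Ideal.pow_le_pow_right (Nat.le_succ_of_le hkn) (haa n z)
        have h6 : a n z - a (n + 1) z = -(a (n + 1) z - a n z) := by ring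
        rw [h6]
        simpa using (Ideal.neg_mem_iff _).mpr h5
    choose g hg using fun z => IsPrecomplete.prec' (I := I) (fun n => a n z) (hcauchy z)
    have hga : ∀ n z, Ideal.Quotient.mk (I ^ (n + 1)) (g z) = c n z := by
      intro n z
      rw [← ha n z, Ideal.Quotient.eq]
      have h7 := hg z (n + 1)
      rw [SModEq.sub_mem] at h7
      have h8 : a (n + 1) z - g z ∈ I ^ (n + 1) := by simpa using h7
      have h9 : g z - a n z = -(a (n + 1) z - g z) + (a (n + 1) z - a n z) := by ring
      rw [h9]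
      exact Ideal.add_mem _ ((Ideal.neg_mem_iff _).mpr h8) (haa n z)
    have hgdec : g ∈ decaying I Z A := by
      intro k
      cases k with
      | zero => simp
      | succ n =>
        refine (c n).support.finite_toSet.subset fun z hz => ?_
        rw [Finset.mem_coe, Finsupp.mem_support_iff, ← hga n z]
        intro h
        apply hz
        rw [Ideal.Quotient.eq_zero_iff_mem] at h
        simpa using h
    refine ⟨⟨g, hgdec⟩, ?_⟩
    apply Subtype.ext
    funext n
    rw [limMap_apply, ← hc n]
    show Finsupp.linearCombination _ _ (red I n ⟨g, hgdec⟩) = _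
    congr 1
    ext z
    rw [red_apply]
    exact hga n z

/-- **Main theorem on flat adic systems**: the inverse limit is a module of decaying
functions, and the projections are surjective with the expected kernels. -/
theorem sysLim_main [IsAdicComplete I A] (hI : I.FG)
    [∀ n, Module.Flat (A ⧸ I ^ (n + 1)) (M n)]
    (hψ : ∀ n, Function.Surjective (ψ n))
    (hker : ∀ n, LinearMap.ker (ψ n) = (I ^ (n + 1) • ⊤ : Submodule A (M (n + 1))))
    (b : Module.Basis Z (A ⧸ I ^ (0 + 1)) (M 0)) :
    Nonempty (sysLim M ψ ≃ₗ[A] decaying I Z A) ∧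
      ∀ n, Function.Surjective (sysProj M ψ n) ∧
        LinearMap.ker (sysProj M ψ n) = (I ^ (n + 1) • ⊤ : Submodule A (sysLim M ψ)) := by
  classical
  choose m hm using fun z => exists_sysLim_of_zero M ψ hψ (b z)
  have hbij := bijective_limMap I M ψ hψ hker b m hm
  have hlev := bijective_level I M ψ hψ hker b m hm
  refine ⟨⟨(LinearEquiv.ofBijective _ hbij).symm⟩, fun n => ⟨?_, ?_⟩⟩
  · intro y
    obtain ⟨c, rfl⟩ := (hlev n).2 y
    choose a ha using fun z => Ideal.Quotient.mk_surjective (c z)
    refine ⟨∑ z ∈ c.support, a z • m z, ?_⟩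
    rw [map_sum, Finsupp.linearCombination_apply, Finsupp.sum]
    refine Finset.sum_congr rfl fun z _ => ?_
    rw [map_smul, sysProj_apply, ← ha z, mk_smul]
  · apply le_antisymm
    · intro x hx
      obtain ⟨g, rfl⟩ := hbij.2 x
      have h2 : levelMap I M ψ m n g = 0 := hx
      have h3 : red I n g = 0 := (hlev n).1 (by rw [map_zero]; exact h2)
      have h4 : ∀ z, (g : Z → A) z ∈ (I ^ (n + 1) • ⊤ : Submodule A A) := by
        intro z
        have := DFunLike.congr_fun h3 z
        rw [red_apply, Finsupp.zero_apply, Ideal.Quotient.eq_zero_iff_mem] at this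
        simpa using this
      exact map_mem_pow_smul_top I (limMap I M ψ m) (n + 1)
        (mem_pow_smul_top_of_forall_mem I Z (n + 1) hI.pow g h4)
    · intro x hx
      have := map_mem_pow_smul_top I (sysProj M ψ n) (n + 1) hx
      rw [pow_smul_top_eq_bot] at this
      exact this

end Sys

end Groth.Agent.Lib.AdicSys
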