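/-
Completion of a flat module whose reduction is projective (Eilenberg swindle + free reduction).
Author: helper89
-/
import Groth.Agent.Lib.AdicSys
import Mathlib.Algebra.Module.Projective
import Mathlib.RingTheory.AdicCompletion.Functoriality
import Mathlib.RingTheory.Flat.EquationalCriterion
import Mathlib.LinearAlgebra.TensorProduct.Prod

set_option autoImplicit false

namespace Groth.Agent.Lib.AdicProj

open Groth.Agent.Lib.AdicDecaying Groth.Agent.Lib.AdicFree Groth.Agent.Lib.AdicSys

section Swindle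

variable {S : Type*} [CommRing S] {P L : Type*} [AddCommGroup P] [Module S P] [AddCommGroup L]
  [Module S L] (i : P →ₗ[S] L) (π : L →ₗ[S] P)

/-- Forward map of the Eilenberg swindle: split off the first copy of `P`. -/
noncomputable def swFwd : (ℕ →₀ L) →ₗ[S] P × (ℕ →₀ L) :=
  LinearMap.prod (π ∘ₗ Finsupp.lapply 0)
    ((Finsupp.lcomapDomain Nat.succ Nat.succ_injective) ∘ₗ Finsupp.mapRange.linearMap (i ∘ₗ π)
      + (LinearMap.id - Finsupp.mapRange.linearMap (i ∘ₗ π)))

/-- Backward map of the Eilenberg swindle. -/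
noncomputable def swBwd : P × (ℕ →₀ L) →ₗ[S] (ℕ →₀ L) :=
  LinearMap.coprod (Finsupp.lsingle 0 ∘ₗ i)
    ((Finsupp.lmapDomain L S Nat.succ) ∘ₗ Finsupp.mapRange.linearMap (i ∘ₗ π)
      + (LinearMap.id - Finsupp.mapRange.linearMap (i ∘ₗ π)))

theorem swFwd_fst (g : ℕ →₀ L) : (swFwd i π g).1 = π (g 0) := rfl

theorem swFwd_snd_apply (g : ℕ →₀ L) (n : ℕ) :
    (swFwd i π g).2 n = i (π (g (n + 1))) + (g n - i (π (g n))) := by
  simp [swFwd, Finsupp.lcomapDomain, Finsupp.comapDomain_apply]

theorem swBwd_apply_zero (p : P) (f : ℕ →₀ L) :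
    swBwd i π (p, f) 0 = i p + (f 0 - i (π (f 0))) := by
  have h0 : (0 : ℕ) ∉ Set.range Nat.succ := by simp
  simp [swBwd, Finsupp.mapDomain_of_notMem_range _ _ h0]

theorem swBwd_apply_succ (p : P) (f : ℕ →₀ L) (n : ℕ) :
    swBwd i π (p, f) (n + 1) = i (π (f n)) + (f (n + 1) - i (π (f (n + 1)))) := by
  have h1 : ∀ x : ℕ →₀ L, Finsupp.mapDomain Nat.succ x (n + 1) = x n := fun x =>
    Finsupp.mapDomain_apply Nat.succ_injective x n
  simp [swBwd, h1]

/-- **Eilenberg swindle**: if `P` is a retract of `L` then `⨁_ℕ L ≃ P × ⨁_ℕ L`. -/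
noncomputable def swindle (h : π ∘ₗ i = LinearMap.id) : (ℕ →₀ L) ≃ₗ[S] P × (ℕ →₀ L) :=
  have hp : ∀ p, π (i p) = p := fun p => LinearMap.congr_fun h p
  LinearEquiv.ofLinearMap (swFwd i π) (swBwd i π)
    (by
      refine LinearMap.ext fun ⟨p, f⟩ => Prod.ext ?_ (Finsupp.ext fun n => ?_)
      · simp [swFwd_fst, swBwd_apply_zero, hp]
      · simp [swFwd_snd_apply, swBwd_apply_succ, hp]
        cases n with
        | zero => simp [swBwd_apply_zero, hp]
        | succ n => simp [swBwd_apply_succ, hp])
    (by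
      refine LinearMap.ext fun g => Finsupp.ext fun n => ?_
      have : swFwd i π g = ((swFwd i π g).1, (swFwd i π g).2) := rfl
      cases n with
      | zero =>
        rw [LinearMap.comp_apply, this, swBwd_apply_zero]
        simp [swFwd_fst, swFwd_snd_apply, hp]
      | succ n =>
        rw [LinearMap.comp_apply, this, swBwd_apply_succ]
        simp [swFwd_snd_apply, hp])

end Swindle

section Level

variable {R : Type*} [CommRing R] [IsNoetherianRing R] (I : Ideal R) {Z : Type*} {N : Type*}
  [AddCommGroup N] [Module R N] [Module.Flat R N] (m : Z → N)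

/-- If a family `m` in a flat module `N` is a basis modulo `I` (spanning: `ha`, independent: `hb`)
then `∑ c z • m z ∈ I ^ n N` forces `c ∈ I ^ n (Z →₀ R)`. -/
theorem mem_pow_smul_top_of_linearCombination_mem
    (ha : ∀ y : N, ∃ c : Z →₀ R, y - Finsupp.linearCombination R m c ∈ (I • ⊤ : Submodule R N))
    (hb : ∀ c : Z →₀ R, Finsupp.linearCombination R m c ∈ (I • ⊤ : Submodule R N) →
      ∀ z, c z ∈ I)
    (n : ℕ) (c : Z →₀ R)
    (hc : Finsupp.linearCombination R m c ∈ (I ^ n • ⊤ : Submodule R N)) :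
    c ∈ (I ^ n • ⊤ : Submodule R (Z →₀ R)) := by
  classical
  induction n generalizing c with
  | zero => simp
  | succ n ih =>
    have hc' : c ∈ (I ^ n • ⊤ : Submodule R (Z →₀ R)) :=
      ih c (pow_smul_top_antitone I (Nat.le_succ n) hc)
    obtain ⟨k, r, hr⟩ := Submodule.fg_iff_exists_fin_generating_family.mp
      (IsNoetherian.noetherian (I ^ n))
    have hr' : Ideal.span (Set.range r) = I ^ n := hr
    rw [← hr'] at hc'
    obtain ⟨d, -, hd⟩ := exists_coeff_of_mem_span_smul r ⊤ hc'
    have hc2 : Finsupp.linearCombination R m c ∈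
        Ideal.span (Set.range r) • (I • ⊤ : Submodule R N) := by
      rw [hr', ← mul_smul, ← pow_succ]
      exact hc
    obtain ⟨y, hy, hy2⟩ := exists_coeff_of_mem_span_smul r _ hc2
    have hrel : ∑ j, r j • (Finsupp.linearCombination R m (d j) - y j) = 0 := by
      simp_rw [smul_sub]
      rw [Finset.sum_sub_distrib, ← hy2, hd, map_sum]
      simp
    obtain ⟨l, b, w, hw, hb0⟩ := Module.Flat.isTrivialRelation_of_sum_smul_eq_zero hrel
    simp only at hw hb0
    choose v hv using fun t => ha (w t)
    have hδ : ∀ j, d j - ∑ t, b j t • v t ∈ (I • ⊤ : Submodule R (Z →₀ R)) := by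
      intro j
      refine mem_smul_top_finsupp I _ (hb _ ?_)
      have : Finsupp.linearCombination R m (d j - ∑ t, b j t • v t) =
          y j + ∑ t, b j t • (w t - Finsupp.linearCombination R m (v t)) := by
        have h1 := hw j
        rw [sub_eq_iff_eq_add] at h1
        rw [map_sub, map_sum, h1]
        simp_rw [map_smul, smul_sub]
        rw [Finset.sum_sub_distrib]
        abel
      rw [this]
      exact add_mem (hy j) (Submodule.sum_mem _ fun t _ => Submodule.smul_mem _ _ (hv t))
    have hcδ : c = ∑ j, r j • (d j - ∑ t, b j t • v t) := by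
      simp_rw [smul_sub, Finset.smul_sum, smul_smul]
      rw [Finset.sum_sub_distrib, ← hd, Finset.sum_comm]
      simp_rw [← Finset.sum_smul, hb0, zero_smul]
      simp
    rw [hcδ, pow_succ, mul_smul]
    refine Submodule.sum_mem _ fun j _ => Submodule.smul_mem_smul ?_ (hδ j)
    rw [← hr']
    exact Submodule.subset_span ⟨j, rfl⟩

/-- If a family `m` in a flat module `N` is a basis modulo `I`, then the induced map on
completions `(Z →₀ R)^ → N^` is bijective. -/
theorem bijective_map_linearCombination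
    (ha : ∀ y : N, ∃ c : Z →₀ R, y - Finsupp.linearCombination R m c ∈ (I • ⊤ : Submodule R N))
    (hb : ∀ c : Z →₀ R, Finsupp.linearCombination R m c ∈ (I • ⊤ : Submodule R N) →
      ∀ z, c z ∈ I) :
    Function.Bijective (AdicCompletion.map I (Finsupp.linearCombination R m)) := by
  refine ⟨?_, ?_⟩
  · rw [injective_iff_map_eq_zero]
    intro x hx
    apply AdicCompletion.ext
    intro n
    obtain ⟨c, hc⟩ := Submodule.Quotient.mk_surjective _ (x.val n)
    have h1 : (AdicCompletion.map I (Finsupp.linearCombination R m) x).val n = 0 := by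
      rw [hx]
      rfl
    rw [AdicCompletion.map_val_apply, ← hc, LinearMap.reduceModIdeal_apply,
      Submodule.Quotient.mk_eq_zero] at h1
    rw [← hc]
    exact (Submodule.Quotient.mk_eq_zero _).mpr
      (mem_pow_smul_top_of_linearCombination_mem I m ha hb n c h1)
  · apply AdicCompletion.map_surjective_of_mkQ_comp_surjective
    intro y
    obtain ⟨y, rfl⟩ := Submodule.Quotient.mk_surjective _ y
    obtain ⟨c, hc⟩ := ha y
    refine ⟨c, ?_⟩
    rw [LinearMap.comp_apply, Submodule.mkQ_apply, eq_comm]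
    exact (Submodule.Quotient.eq _).mpr hc

end Level

section FreeRed

variable {R : Type*} [CommRing R] (I : Ideal R) {M : Type*} [AddCommGroup M] [Module R M]

theorem map_mem_smul_top {A B : Type*} [AddCommGroup A] [Module R A] [AddCommGroup B] [Module R B]
    (φ : A →ₗ[R] B) {x : A} (hx : x ∈ (I • ⊤ : Submodule R A)) :
    φ x ∈ (I • ⊤ : Submodule R B) := by
  have h : Submodule.map φ (I • ⊤) ≤ (I • ⊤ : Submodule R B) := by
    rw [Submodule.map_smul'']
    exact Submodule.smul_mono le_rfl le_top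
  exact h ⟨x, hx, rfl⟩

variable (Z : Type*)

/-- Reduction modulo `I` on `M × (Z →₀ R)`, as a semilinear map. -/
noncomputable def rho : M × (Z →₀ R) →ₛₗ[Ideal.Quotient.mk I]
    (M ⧸ (I • ⊤ : Submodule R M)) × (Z →₀ R ⧸ I) where
  toFun y := (Submodule.Quotient.mk y.1, Finsupp.mapRange (Ideal.Quotient.mk I) (map_zero _) y.2)
  map_add' y y' := by
    refine Prod.ext ?_ ?_
    · simp
    · ext z
      simp
  map_smul' a y := by
    refine Prod.ext ?_ ?_
    · exact (Module.Quotient.mk_smul_mk M I a y.1).symm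
    · ext z
      simp

theorem rho_apply (y : M × (Z →₀ R)) : rho I Z y =
    (Submodule.Quotient.mk y.1, Finsupp.mapRange (Ideal.Quotient.mk I) (map_zero _) y.2) := rfl

theorem rho_surjective : Function.Surjective (rho I Z (M := M)) := by
  rintro ⟨p, f⟩
  obtain ⟨x, rfl⟩ := Submodule.Quotient.mk_surjective _ p
  obtain ⟨c, rfl⟩ := Finsupp.mapRange_surjective (Ideal.Quotient.mk I) (map_zero _)
    Ideal.Quotient.mk_surjective f
  exact ⟨(x, c), rfl⟩

theorem rho_eq_zero_iff (y : M × (Z →₀ R)) :
    rho I Z y = 0 ↔ y ∈ (I • ⊤ : Submodule R (M × (Z →₀ R))) := by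
  constructor
  · intro h
    rw [rho_apply, Prod.mk_eq_zero] at h
    obtain ⟨h1, h2⟩ := h
    rw [Submodule.Quotient.mk_eq_zero] at h1
    have h3 : y.2 ∈ (I • ⊤ : Submodule R (Z →₀ R)) := by
      refine mem_smul_top_finsupp I _ fun z => ?_
      have := DFunLike.congr_fun h2 z
      rwa [Finsupp.mapRange_apply, Finsupp.zero_apply, Ideal.Quotient.eq_zero_iff_mem] at this
    have : y = LinearMap.inl R M (Z →₀ R) y.1 + LinearMap.inr R M (Z →₀ R) y.2 := by
      ext <;> simp
    rw [this]
    exact add_mem (map_mem_smul_top I _ h1) (map_mem_smul_top I _ h3)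
  · intro h
    refine Submodule.smul_induction_on h ?_ ?_
    · intro a ha x _
      rw [map_smulₛₗ, Ideal.Quotient.eq_zero_iff_mem.mpr ha, zero_smul]
    · intro x x' hx hx'
      rw [map_add, hx, hx', add_zero]

variable (M) in
/-- If `M ⧸ I M` is projective over `R ⧸ I`, then `M × (Z →₀ R)` (with `Z = ℕ × M ⧸ I M`) has a
family indexed by `Z` which is a basis modulo `I` (Eilenberg swindle). -/
theorem exists_family_of_projective
    [Module.Projective (R ⧸ I) (M ⧸ (I • ⊤ : Submodule R M))] :
    ∃ m : ℕ × (M ⧸ (I • ⊤ : Submodule R M)) →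
        M × (ℕ × (M ⧸ (I • ⊤ : Submodule R M)) →₀ R),
      (∀ y, ∃ c, y - Finsupp.linearCombination R m c ∈
        (I • ⊤ : Submodule R (M × (ℕ × (M ⧸ (I • ⊤ : Submodule R M)) →₀ R)))) ∧
      (∀ c, Finsupp.linearCombination R m c ∈
        (I • ⊤ : Submodule R (M × (ℕ × (M ⧸ (I • ⊤ : Submodule R M)) →₀ R))) →
          ∀ z, c z ∈ I) := by
  classical
  obtain ⟨s, hs⟩ := Module.projective_def'.mp
    (inferInstance : Module.Projective (R ⧸ I) (M ⧸ (I • ⊤ : Submodule R M)))
  let Θ : (ℕ × (M ⧸ (I • ⊤ : Submodule R M)) →₀ R ⧸ I) ≃ₗ[R ⧸ I]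
      (M ⧸ (I • ⊤ : Submodule R M)) × (ℕ × (M ⧸ (I • ⊤ : Submodule R M)) →₀ R ⧸ I) :=
    (Finsupp.curryLinearEquiv (R ⧸ I)) ≪≫ₗ swindle s (Finsupp.linearCombination (R ⧸ I) id) hs
      ≪≫ₗ LinearEquiv.prodCongr (LinearEquiv.refl (R ⧸ I) _)
        (Finsupp.curryLinearEquiv (R ⧸ I)).symm
  choose m hm using fun z => rho_surjective I (M := M) (ℕ × (M ⧸ (I • ⊤ : Submodule R M)))
    (Θ (Finsupp.single z 1))
  have key : ∀ c : ℕ × (M ⧸ (I • ⊤ : Submodule R M)) →₀ R,
      rho I _ (Finsupp.linearCombination R m c) =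
        Θ (Finsupp.mapRange (Ideal.Quotient.mk I) (map_zero _) c) := by
    intro c
    induction c using Finsupp.induction_linear with
    | zero => simp
    | add c c' hc hc' =>
      rw [map_add, map_add, hc, hc', Finsupp.mapRange_add (by simp), map_add]
    | single z a =>
      rw [Finsupp.linearCombination_single, map_smulₛₗ, hm, Finsupp.mapRange_single, ← map_smul,
        Finsupp.smul_single, smul_eq_mul, mul_one]
  refine ⟨m, ?_, ?_⟩
  · intro y
    obtain ⟨c, hc⟩ := Finsupp.mapRange_surjective (Ideal.Quotient.mk I) (map_zero _)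
      Ideal.Quotient.mk_surjective (Θ.symm (rho I _ y))
    refine ⟨c, ?_⟩
    rw [← rho_eq_zero_iff, map_sub, key, hc, LinearEquiv.apply_symm_apply, sub_self]
  · intro c hc z
    rw [← rho_eq_zero_iff, key, LinearEquiv.map_eq_zero_iff] at hc
    have := DFunLike.congr_fun hc z
    rwa [Finsupp.mapRange_apply, Finsupp.zero_apply, Ideal.Quotient.eq_zero_iff_mem] at this

end FreeRed

section Main

open TensorProduct in
/-- Products of flat modules are flat. -/
theorem flat_prod {R : Type*} [CommRing R] {A B : Type*} [AddCommGroup A] [Module R A]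
    [AddCommGroup B] [Module R B] [Module.Flat R A] [Module.Flat R B] : Module.Flat R (A × B) := by
  rw [Module.Flat.iff_rTensor_injectiveₛ]
  intro P _ _ N
  have hA := Module.Flat.rTensor_preserves_injective_linearMap (M := A) N.subtype
    Subtype.val_injective
  have hB := Module.Flat.rTensor_preserves_injective_linearMap (M := B) N.subtype
    Subtype.val_injective
  have hcomm : (TensorProduct.prodRight R R P A B).toLinearMap ∘ₗ (N.subtype.rTensor (A × B)) =
      (LinearMap.prodMap (N.subtype.rTensor A) (N.subtype.rTensor B)) ∘ₗ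
        (TensorProduct.prodRight R R N A B).toLinearMap := by
    apply TensorProduct.ext'
    rintro x ⟨a, b⟩
    simp
  have hinj : Function.Injective ((LinearMap.prodMap (N.subtype.rTensor A)
      (N.subtype.rTensor B)) ∘ₗ (TensorProduct.prodRight R R N A B).toLinearMap) := by
    rw [LinearMap.coe_comp]
    exact (Function.Injective.prodMap hA hB).comp (LinearEquiv.injective _)
  rw [← hcomm, LinearMap.coe_comp] at hinj
  exact Function.Injective.of_comp hinj

variable {R : Type*} [CommRing R] [IsNoetherianRing R] (I : Ideal R) (M : Type*)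
  [AddCommGroup M] [Module R M]

omit [IsNoetherianRing R] in
theorem map_fst_map_inl (F : Type*) [AddCommGroup F] [Module R F] (x : AdicCompletion I M) :
    AdicCompletion.map I (LinearMap.fst R M F) (AdicCompletion.map I (LinearMap.inl R M F) x)
      = x := by
  rw [AdicCompletion.map_comp_apply, LinearMap.fst_comp_inl, AdicCompletion.map_id]
  rfl

/-- For `M` flat over a Noetherian ring with `M ⧸ I M` projective over `R ⧸ I`, the completion
of `M` is a retract of the completion of a free module. -/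
theorem exists_retract [Module.Flat R M]
    [Module.Projective (R ⧸ I) (M ⧸ (I • ⊤ : Submodule R M))] :
    ∃ (i : AdicCompletion I M →ₗ[R]
        AdicCompletion I (ℕ × (M ⧸ (I • ⊤ : Submodule R M)) →₀ R))
      (r : AdicCompletion I (ℕ × (M ⧸ (I • ⊤ : Submodule R M)) →₀ R) →ₗ[R]
        AdicCompletion I M), r ∘ₗ i = LinearMap.id := by
  classical
  obtain ⟨m, ha, hb⟩ := exists_family_of_projective I M
  have : Module.Flat R (M × (ℕ × (M ⧸ (I • ⊤ : Submodule R M)) →₀ R)) := flat_prod
  have hbij := bijective_map_linearCombination I m ha hb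
  let E : AdicCompletion I (ℕ × (M ⧸ (I • ⊤ : Submodule R M)) →₀ R) ≃ₗ[R]
      AdicCompletion I (M × (ℕ × (M ⧸ (I • ⊤ : Submodule R M)) →₀ R)) :=
    LinearEquiv.ofBijective
      ((AdicCompletion.map I (Finsupp.linearCombination R m)).restrictScalars R) hbij
  refine ⟨E.symm.toLinearMap ∘ₗ (AdicCompletion.map I (LinearMap.inl R M _)).restrictScalars R,
    (AdicCompletion.map I (LinearMap.fst R M _)).restrictScalars R ∘ₗ E.toLinearMap, ?_⟩
  refine LinearMap.ext fun x => ?_
  simp only [LinearMap.comp_apply, LinearEquiv.coe_coe, LinearEquiv.apply_symm_apply,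
    LinearMap.restrictScalars_apply, LinearMap.id_apply]
  exact map_fst_map_inl I M _ x

end Main

end Groth.Agent.Lib.AdicProj
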