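/-
Completion of a short exact sequence `0 → K → P → M → 0` with `M` flat and `M ⧸ I M` projective
over `R ⧸ I`, for an arbitrary ring `R` and ideal `I` (no Noetherian hypotheses):
the completed sequence is split exact.
Author: helper89
-/
import Groth.Agent.Lib.AdicProj

set_option autoImplicit false

namespace Groth.Agent.Lib.AdicSplit89

open Groth.Agent.Lib.AdicDecaying Groth.Agent.Lib.AdicFree Groth.Agent.Lib.AdicSys
  Groth.Agent.Lib.AdicProj

section Fin

variable {R : Type*} [CommRing R] {N : Type*} [AddCommGroup N] [Module R N]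

/-- An element of `J • N'` is a finite sum `∑ r j • y j` with `r j ∈ J`, `y j ∈ N'`. -/
theorem exists_fin_of_mem_smul (J : Ideal R) (N' : Submodule R N) {x : N} (hx : x ∈ J • N') :
    ∃ (k : ℕ) (r : Fin k → R) (y : Fin k → N), (∀ j, r j ∈ J) ∧ (∀ j, y j ∈ N') ∧
      x = ∑ j, r j • y j := by
  refine Submodule.smul_induction_on hx ?_ ?_
  · intro a ha n hn
    exact ⟨1, fun _ => a, fun _ => n, fun _ => ha, fun _ => hn, by simp⟩
  · rintro x y ⟨k1, r1, y1, h1, h1', rfl⟩ ⟨k2, r2, y2, h2, h2', rfl⟩
    refine ⟨k1 + k2, Fin.append r1 r2, Fin.append y1 y2, ?_, ?_, ?_⟩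
    · intro j
      refine Fin.addCases (fun i => ?_) (fun i => ?_) j
      · rw [Fin.append_left]; exact h1 i
      · rw [Fin.append_right]; exact h2 i
    · intro j
      refine Fin.addCases (fun i => ?_) (fun i => ?_) j
      · rw [Fin.append_left]; exact h1' i
      · rw [Fin.append_right]; exact h2' i
    · rw [Fin.sum_univ_add]
      simp

end Fin

section Level

variable {R : Type*} [CommRing R] (I : Ideal R) {Z : Type*} {N : Type*}
  [AddCommGroup N] [Module R N] [Module.Flat R N] (m : Z → N)

/-- Key step (no Noetherian hypothesis): if `m` is a basis modulo `I` of the flat module `N`,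
`c ∈ J (Z →₀ R)` and `∑ c z • m z ∈ J I N`, then `c ∈ J I (Z →₀ R)`. -/
theorem mem_smul_smul_top_of_linearCombination_mem
    (ha : ∀ y : N, ∃ c : Z →₀ R, y - Finsupp.linearCombination R m c ∈ (I • ⊤ : Submodule R N))
    (hb : ∀ c : Z →₀ R, Finsupp.linearCombination R m c ∈ (I • ⊤ : Submodule R N) →
      ∀ z, c z ∈ I)
    (J : Ideal R) (c : Z →₀ R) (hc' : c ∈ (J • ⊤ : Submodule R (Z →₀ R)))
    (hc : Finsupp.linearCombination R m c ∈ J • (I • ⊤ : Submodule R N)) :
    c ∈ J • (I • ⊤ : Submodule R (Z →₀ R)) := by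
  classical
  obtain ⟨k1, r1, d1, hr1, -, hd1⟩ := exists_fin_of_mem_smul J ⊤ hc'
  obtain ⟨k2, r2, y2, hr2, hy2, hy2'⟩ := exists_fin_of_mem_smul J _ hc
  -- combine the two families over `Fin k1 ⊕ Fin k2`
  let r : Fin k1 ⊕ Fin k2 → R := Sum.elim r1 r2
  let d : Fin k1 ⊕ Fin k2 → (Z →₀ R) := Sum.elim d1 (fun _ => 0)
  let y : Fin k1 ⊕ Fin k2 → N := Sum.elim (fun _ => 0) y2
  have hr : ∀ j, r j ∈ J := by
    rintro (j | j)
    · exact hr1 j
    · exact hr2 j
  have hy : ∀ j, y j ∈ (I • ⊤ : Submodule R N) := by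
    rintro (j | j)
    · exact zero_mem _
    · exact hy2 j
  have hd : c = ∑ j, r j • d j := by
    rw [Fintype.sum_sum_type]
    simpa [r, d] using hd1
  have hy2 : Finsupp.linearCombination R m c = ∑ j, r j • y j := by
    rw [Fintype.sum_sum_type]
    simpa [r, y] using hy2'
  have hrel : ∑ j, r j • (Finsupp.linearCombination R m (d j) - y j) = 0 := by
    simp_rw [smul_sub]
    rw [Finset.sum_sub_distrib, ← hy2, hd, map_sum]
    simp
  obtain ⟨l, b, w, hw, hb0⟩ := Module.Flat.isTrivialRelation_of_sum_smul_eq_zero hrel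
  simp only at hw hb0
  choose v hv using fun t => ha (w t)
  have hδ : ∀ j, d j - ∑ t, b j t • v t ∈ (I • ⊤ : Submodule R (Z →₀ R)) := by
    intro j
    refine mem_smul_top_finsupp I _ (hb _ ?_)
    have : Finsupp.linearCombination R m (d j - ∑ t, b j t • v t) =
        y j + ∑ t, b j t • (w t - Finsupp.linearCombination R m (v t)) := by
      have h1 := hw j
      rw [sub_eq_iff_eq_add] at h1
      rw [map_sub, map_sum, h1]
      simp_rw [map_smul, smul_sub]
      rw [Finset.sum_sub_distrib]
      abel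
    rw [this]
    exact add_mem (hy j) (Submodule.sum_mem _ fun t _ => Submodule.smul_mem _ _ (hv t))
  have hcδ : c = ∑ j, r j • (d j - ∑ t, b j t • v t) := by
    simp_rw [smul_sub, Finset.smul_sum, smul_smul]
    rw [Finset.sum_sub_distrib, ← hd, Finset.sum_comm]
    simp_rw [← Finset.sum_smul, hb0, zero_smul]
    simp
  rw [hcδ]
  exact Submodule.sum_mem _ fun j _ => Submodule.smul_mem_smul (hr j) (hδ j)

/-- If a family `m` in a flat module `N` is a basis modulo `I` then
`∑ c z • m z ∈ I ^ n N` forces `c ∈ I ^ n (Z →₀ R)` (no Noetherian hypothesis). -/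
theorem mem_pow_smul_top_of_linearCombination_mem
    (ha : ∀ y : N, ∃ c : Z →₀ R, y - Finsupp.linearCombination R m c ∈ (I • ⊤ : Submodule R N))
    (hb : ∀ c : Z →₀ R, Finsupp.linearCombination R m c ∈ (I • ⊤ : Submodule R N) →
      ∀ z, c z ∈ I)
    (n : ℕ) (c : Z →₀ R)
    (hc : Finsupp.linearCombination R m c ∈ (I ^ n • ⊤ : Submodule R N)) :
    c ∈ (I ^ n • ⊤ : Submodule R (Z →₀ R)) := by
  induction n generalizing c with
  | zero => simp
  | succ n ih =>
    have hc' : c ∈ (I ^ n • ⊤ : Submodule R (Z →₀ R)) :=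
      ih c (pow_smul_top_antitone I (Nat.le_succ n) hc)
    rw [pow_succ, mul_smul] at hc ⊢
    exact mem_smul_smul_top_of_linearCombination_mem I m ha hb (I ^ n) c hc' hc

/-- If a family `m` in a flat module `N` is a basis modulo `I`, then the induced map on
completions `(Z →₀ R)^ → N^` is bijective (no Noetherian hypothesis). -/
theorem bijective_map_linearCombination
    (ha : ∀ y : N, ∃ c : Z →₀ R, y - Finsupp.linearCombination R m c ∈ (I • ⊤ : Submodule R N))
    (hb : ∀ c : Z →₀ R, Finsupp.linearCombination R m c ∈ (I • ⊤ : Submodule R N) →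
      ∀ z, c z ∈ I) :
    Function.Bijective (AdicCompletion.map I (Finsupp.linearCombination R m)) := by
  refine ⟨?_, ?_⟩
  · rw [injective_iff_map_eq_zero]
    intro x hx
    apply AdicCompletion.ext
    intro n
    obtain ⟨c, hc⟩ := Submodule.Quotient.mk_surjective _ (x.val n)
    have h1 : (AdicCompletion.map I (Finsupp.linearCombination R m) x).val n = 0 := by
      rw [hx]
      rfl
    rw [AdicCompletion.map_val_apply, ← hc, LinearMap.reduceModIdeal_apply,
      Submodule.Quotient.mk_eq_zero] at h1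
    rw [← hc]
    exact (Submodule.Quotient.mk_eq_zero _).mpr
      (mem_pow_smul_top_of_linearCombination_mem I m ha hb n c h1)
  · apply AdicCompletion.map_surjective_of_mkQ_comp_surjective
    intro y
    obtain ⟨y, rfl⟩ := Submodule.Quotient.mk_surjective _ y
    obtain ⟨c, hc⟩ := ha y
    refine ⟨c, ?_⟩
    rw [LinearMap.comp_apply, Submodule.mkQ_apply, eq_comm]
    exact (Submodule.Quotient.eq _).mpr hc

end Level

section Exact

variable {R : Type*} [CommRing R] (I : Ideal R) {K P M : Type*} [AddCommGroup K] [Module R K]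
  [AddCommGroup P] [Module R P] [AddCommGroup M] [Module R M] (f : K →ₗ[R] P) (g : P →ₗ[R] M)

/-- For `0 → K → P → M → 0` exact with `M` flat, `f k ∈ J P` implies `k ∈ J K`. -/
theorem mem_smul_top_of_map_mem [Module.Flat R M] (hf : Function.Injective f)
    (hg : Function.Surjective g) (hfg : Function.Exact f g) (J : Ideal R) {k : K}
    (h : f k ∈ (J • ⊤ : Submodule R P)) : k ∈ (J • ⊤ : Submodule R K) := by
  have h1 : f k ∈ J • LinearMap.ker g :=
    mem_smul_ker_of_flat g hg J (hfg.apply_apply_eq_zero k) h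
  rw [(LinearMap.exact_iff.mp hfg), LinearMap.range_eq_map, ← Submodule.map_smul''] at h1
  obtain ⟨k', hk', hkk⟩ := h1
  rwa [← hf hkk]

/-- Completion preserves injectivity of `f` when the cokernel is flat. -/
theorem map_injective [Module.Flat R M] (hf : Function.Injective f)
    (hg : Function.Surjective g) (hfg : Function.Exact f g) :
    Function.Injective (AdicCompletion.map I f) := by
  rw [injective_iff_map_eq_zero]
  intro x hx
  apply AdicCompletion.ext
  intro n
  obtain ⟨k, hk⟩ := Submodule.Quotient.mk_surjective _ (x.val n)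
  have h1 : (AdicCompletion.map I f x).val n = 0 := by
    rw [hx]
    rfl
  rw [AdicCompletion.map_val_apply, ← hk, LinearMap.reduceModIdeal_apply,
    Submodule.Quotient.mk_eq_zero] at h1
  rw [← hk]
  exact (Submodule.Quotient.mk_eq_zero _).mpr (mem_smul_top_of_map_mem f g hf hg hfg _ h1)

/-- Completion preserves exactness of `0 → K → P → M → 0` in the middle when `M` is flat. -/
theorem map_exact [Module.Flat R M] (hf : Function.Injective f)
    (hg : Function.Surjective g) (hfg : Function.Exact f g) :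
    Function.Exact (AdicCompletion.map I f) (AdicCompletion.map I g) := by
  intro y
  constructor
  · intro hy
    obtain ⟨a, rfl⟩ := AdicCompletion.mk_surjective I P y
    have hgp : ∀ n, g (a n) ∈ (I ^ n • ⊤ : Submodule R M) := by
      intro n
      have h1 : (AdicCompletion.map I g (AdicCompletion.mk I P a)).val n = 0 := by
        rw [hy]
        rfl
      rwa [AdicCompletion.map_val_apply, AdicCompletion.mk_apply_coe, Submodule.mkQ_apply,
        LinearMap.reduceModIdeal_apply, Submodule.Quotient.mk_eq_zero] at h1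
    have hq : ∀ n, ∃ q : P, q ∈ (I ^ n • ⊤ : Submodule R P) ∧ g q = g (a n) := by
      intro n
      have h1 := hgp n
      have h2 : (I ^ n • ⊤ : Submodule R M) = Submodule.map g (I ^ n • ⊤) := by
        rw [Submodule.map_smul'', Submodule.map_top, LinearMap.range_eq_top.mpr hg]
      rw [h2] at h1
      obtain ⟨q, hq, hqq⟩ := h1
      exact ⟨q, hq, hqq⟩
    choose q hq1 hq2 using hq
    have hk : ∀ n, ∃ k : K, f k = a n - q n := by
      intro n
      refine (hfg (a n - q n)).mp ?_
      rw [map_sub, hq2, sub_self]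
    choose k hk using hk
    have hcau : ∀ n, k n ≡ k (n + 1) [SMOD (I ^ n • ⊤ : Submodule R K)] := by
      intro n
      rw [SModEq.sub_mem]
      refine mem_smul_top_of_map_mem f g hf hg hfg _ ?_
      rw [map_sub, hk, hk]
      have h1 : a n - a (n + 1) ∈ (I ^ n • ⊤ : Submodule R P) :=
        SModEq.sub_mem.mp (a.property (Nat.le_succ n))
      have h2 : q (n + 1) ∈ (I ^ n • ⊤ : Submodule R P) :=
        pow_smul_top_antitone I (Nat.le_succ n) (hq1 (n + 1))
      have h3 : a n - q n - (a (n + 1) - q (n + 1)) = (a n - a (n + 1)) - q n + q (n + 1) := by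
        abel
      rw [h3]
      exact add_mem (sub_mem h1 (hq1 n)) h2
    refine ⟨AdicCompletion.mk I K (AdicCompletion.AdicCauchySequence.mk I K k hcau), ?_⟩
    apply AdicCompletion.ext
    intro n
    rw [AdicCompletion.map_val_apply, AdicCompletion.mk_apply_coe, AdicCompletion.mk_apply_coe,
      Submodule.mkQ_apply, Submodule.mkQ_apply, LinearMap.reduceModIdeal_apply]
    rw [AdicCompletion.AdicCauchySequence.mk_coe, hk, Submodule.Quotient.mk_sub,
      (Submodule.Quotient.mk_eq_zero _).mpr (hq1 n), sub_zero]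
  · rintro ⟨x, rfl⟩
    rw [AdicCompletion.map_comp_apply]
    have : g ∘ₗ f = 0 := LinearMap.ext fun k => hfg.apply_apply_eq_zero k
    rw [this, AdicCompletion.map_zero]
    rfl

end Exact

section Split

variable {R : Type*} [CommRing R] (I : Ideal R) {P M : Type*}
  [AddCommGroup P] [Module R P] [AddCommGroup M] [Module R M] (g : P →ₗ[R] M)

/-- For `M` flat with `M ⧸ I M` projective over `R ⧸ I` and `g : P → M` surjective, the completed
map `P^ → M^` has a section which is linear over the completion of `R`. -/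
theorem exists_section [Module.Flat R M]
    [Module.Projective (R ⧸ I) (M ⧸ (I • ⊤ : Submodule R M))]
    (hg : Function.Surjective g) :
    ∃ s : AdicCompletion I M →ₗ[AdicCompletion I R] AdicCompletion I P,
      AdicCompletion.map I g ∘ₗ s = LinearMap.id := by
  classical
  obtain ⟨m, ha, hb⟩ := exists_family_of_projective I M
  have : Module.Flat R (M × (ℕ × (M ⧸ (I • ⊤ : Submodule R M)) →₀ R)) := flat_prod
  have hbij := bijective_map_linearCombination I m ha hb
  let E : AdicCompletion I (ℕ × (M ⧸ (I • ⊤ : Submodule R M)) →₀ R) ≃ₗ[AdicCompletion I R]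
      AdicCompletion I (M × (ℕ × (M ⧸ (I • ⊤ : Submodule R M)) →₀ R)) :=
    LinearEquiv.ofBijective (AdicCompletion.map I (Finsupp.linearCombination R m)) hbij
  let g' : P × (ℕ × (M ⧸ (I • ⊤ : Submodule R M)) →₀ R) →ₗ[R]
      M × (ℕ × (M ⧸ (I • ⊤ : Submodule R M)) →₀ R) := g.prodMap LinearMap.id
  have hg' : Function.Surjective g' := by
    rintro ⟨x, c⟩
    obtain ⟨p, rfl⟩ := hg x
    exact ⟨(p, c), rfl⟩
  choose mt hmt using fun z => hg' (m z)
  have hcomp : g' ∘ₗ Finsupp.linearCombination R mt = Finsupp.linearCombination R m := by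
    refine Finsupp.lhom_ext' fun z => LinearMap.ext_ring ?_
    simp [hmt]
  let s' : AdicCompletion I (M × (ℕ × (M ⧸ (I • ⊤ : Submodule R M)) →₀ R)) →ₗ[AdicCompletion I R]
      AdicCompletion I (P × (ℕ × (M ⧸ (I • ⊤ : Submodule R M)) →₀ R)) :=
    AdicCompletion.map I (Finsupp.linearCombination R mt) ∘ₗ E.symm.toLinearMap
  have hs' : ∀ x, AdicCompletion.map I g' (s' x) = x := by
    intro x
    simp only [s', LinearMap.comp_apply, LinearEquiv.coe_coe]
    rw [AdicCompletion.map_comp_apply, hcomp]
    exact E.apply_symm_apply x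
  refine ⟨AdicCompletion.map I (LinearMap.fst R P _) ∘ₗ s' ∘ₗ
    AdicCompletion.map I (LinearMap.inl R M _), ?_⟩
  refine LinearMap.ext fun x => ?_
  simp only [LinearMap.comp_apply, LinearMap.id_apply]
  rw [AdicCompletion.map_comp_apply]
  have h1 : g ∘ₗ LinearMap.fst R P (ℕ × (M ⧸ (I • ⊤ : Submodule R M)) →₀ R) =
      LinearMap.fst R M _ ∘ₗ g' := by
    ext <;> simp [g']
  rw [h1, ← AdicCompletion.map_comp_apply, hs']
  exact map_fst_map_inl I M _ x

end Split

end Groth.Agent.Lib.AdicSplit89
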