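import Groth.Agent.S2799
import Mathlib.RingTheory.Kaehler.Basic
import Mathlib.Tactic.LinearCombination
import Mathlib.Tactic.Ring

/-!
Helper lemmas on `Diff16.IsDiffOpLE` (differential operators defined through iterated commutators):
closure under negation, subtraction, scalar multiplication; the vanishing criterion
"an operator of finite order killing all monomials in coordinates `z i` whose differentials span
the Kaehler differentials is zero".
-/

set_option autoImplicit false
universe u v
open scoped BigOperators

namespace Groth.Agent.Lib.DiffOp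

open Groth.Agent.S2799

section Basic

variable (A B : Type u) [CommRing A] [CommRing B] [Algebra A B]
variable (M N : Type v) [AddCommGroup M] [Module A M] [Module B M] [IsScalarTower A B M]
  [AddCommGroup N] [Module A N] [Module B N] [IsScalarTower A B N]

lemma commutator_neg (D : M →ₗ[A] N) (b : B) :
    Diff16.commutator A B M N (-D) b = -Diff16.commutator A B M N D b := by
  ext m
  simp only [commutator_apply, LinearMap.neg_apply, smul_neg]
  abel

lemma isDiffOpLE_neg (n : ℕ) (D : M →ₗ[A] N) (h : Diff16.IsDiffOpLE A B M N n D) :
    Diff16.IsDiffOpLE A B M N n (-D) := by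
  induction n generalizing D with
  | zero =>
    intro b m
    have e := h b m
    simp only [LinearMap.neg_apply, e, smul_neg]
  | succ n ih =>
    intro b
    rw [commutator_neg]
    exact ih _ (h b)

lemma isDiffOpLE_sub (n : ℕ) (D₁ D₂ : M →ₗ[A] N)
    (h₁ : Diff16.IsDiffOpLE A B M N n D₁) (h₂ : Diff16.IsDiffOpLE A B M N n D₂) :
    Diff16.IsDiffOpLE A B M N n (D₁ - D₂) := by
  rw [sub_eq_add_neg]
  exact isDiffOpLE_add A B M N n _ _ h₁ (isDiffOpLE_neg A B M N n _ h₂)

lemma commutator_smul (c : B) (D : M →ₗ[A] N) (b : B) :
    Diff16.commutator A B M N (c • D) b = c • Diff16.commutator A B M N D b := by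
  ext m
  simp only [commutator_apply, LinearMap.smul_apply, smul_sub]
  rw [smul_comm b c]

lemma isDiffOpLE_smul (n : ℕ) (c : B) (D : M →ₗ[A] N) (h : Diff16.IsDiffOpLE A B M N n D) :
    Diff16.IsDiffOpLE A B M N n (c • D) := by
  induction n generalizing D with
  | zero =>
    intro b m
    have e := h b m
    simp only [LinearMap.smul_apply, e]
    rw [smul_comm b c]
  | succ n ih =>
    intro b
    rw [commutator_smul]
    exact ih _ (h b)

lemma isDiffOpLE_succ (n : ℕ) (D : M →ₗ[A] N) (h : Diff16.IsDiffOpLE A B M N n D) :
    Diff16.IsDiffOpLE A B M N (n + 1) D := by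
  induction n generalizing D with
  | zero =>
    intro b
    rw [commutator_eq_zero_of_isDiffOpLE_zero A B M N D h b]
    exact isDiffOpLE_zero A B M N 0
  | succ n ih =>
    intro b
    exact ih _ (h b)

lemma isDiffOpLE_of_le {n n' : ℕ} (hn : n ≤ n') (D : M →ₗ[A] N)
    (h : Diff16.IsDiffOpLE A B M N n D) : Diff16.IsDiffOpLE A B M N n' D := by
  induction hn with
  | refl => exact h
  | step _ ih => exact isDiffOpLE_succ A B M N _ D ih

/-- Commutators with two scalars commute. -/
lemma commutator_commutator_comm (D : M →ₗ[A] N) (b c : B) :
    Diff16.commutator A B M N (Diff16.commutator A B M N D b) c =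
      Diff16.commutator A B M N (Diff16.commutator A B M N D c) b := by
  ext m
  simp only [commutator_apply, smul_sub]
  rw [smul_comm c b m, smul_comm c b (D m)]
  abel

end Basic

section Coordinates

variable (A B : Type u) [CommRing A] [CommRing B] [Algebra A B]
variable {ι : Type*} (z : ι → B)

/-- An operator `B → B` of order at most one commuting with the `z i`, where the `d (z i)` span the
Kaehler differentials, is `B`-linear. -/
lemma linear_of_order_one (hz : Submodule.span B (Set.range fun i => KaehlerDifferential.D A B (z i)) = ⊤)
    (E : B →ₗ[A] B) (hE : Diff16.IsDiffOpLE A B B B 1 E)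
    (hcomm : ∀ i, Diff16.commutator A B B B E (z i) = 0) :
    Diff16.IsDiffOpLE A B B B 0 E := by
  -- key identity from order one
  have key : ∀ b c : B, E (b * c) = b * E c + c * E b - b * c * E 1 := by
    intro b c
    have h1 := hE b c 1
    simp only [commutator_apply, smul_eq_mul, mul_one] at h1
    linear_combination h1
  -- the associated derivation
  let δ : Derivation A B B := Derivation.mk' (E - (LinearMap.toSpanSingleton B B (E 1)).restrictScalars A)
    (by
      intro b c
      simp only [LinearMap.sub_apply, LinearMap.coe_restrictScalars,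
        LinearMap.toSpanSingleton_apply, smul_eq_mul]
      rw [key b c]
      ring)
  have hδ : ∀ b, δ b = E b - b * E 1 := by
    intro b
    simp [δ, Derivation.mk'] 
  have hδz : ∀ i, δ (z i) = 0 := by
    intro i
    have := LinearMap.congr_fun (hcomm i) 1
    simp only [commutator_apply, smul_eq_mul, mul_one, LinearMap.zero_apply] at this
    rw [hδ]
    exact this
  have hL : δ.liftKaehlerDifferential = 0 := by
    apply LinearMap.ext_on hz
    rintro _ ⟨i, rfl⟩
    simp only [Derivation.liftKaehlerDifferential_comp_D, LinearMap.zero_apply]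
    exact hδz i
  have hδ0 : ∀ b, δ b = 0 := by
    intro b
    rw [← Derivation.liftKaehlerDifferential_comp_D δ b, hL, LinearMap.zero_apply]
  intro b m
  have hb := hδ0 (b * m)
  have hm := hδ0 m
  rw [hδ] at hb hm
  simp only [smul_eq_mul]
  linear_combination hb - b * hm

/-- An operator `B → B` of finite order commuting with the `z i`, where the `d (z i)` span the Kaehler
differentials, is `B`-linear. -/
lemma linear_of_commute (hz : Submodule.span B (Set.range fun i => KaehlerDifferential.D A B (z i)) = ⊤)
    (n : ℕ) (E : B →ₗ[A] B) (hE : Diff16.IsDiffOpLE A B B B n E)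
    (hcomm : ∀ i, Diff16.commutator A B B B E (z i) = 0) :
    Diff16.IsDiffOpLE A B B B 0 E := by
  induction n generalizing E with
  | zero => exact hE
  | succ n ih =>
    apply linear_of_order_one A B z hz E _ hcomm
    intro b
    apply ih _ (hE b)
    intro i
    rw [commutator_commutator_comm, hcomm i, commutator_zero]

end Coordinates

section Monomials

variable (A B : Type u) [CommRing A] [CommRing B] [Algebra A B]
variable {ι : Type*} [Fintype ι] [DecidableEq ι] (z : ι → B)

omit [CommRing A] [Algebra A B] in
lemma mul_monomial (j : ι) (r : ι → ℕ) :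
    z j * ∏ i, z i ^ r i = ∏ i, z i ^ (r + Pi.single j 1 : ι → ℕ) i := by
  have h : ∏ i, z i ^ (Pi.single j 1 : ι → ℕ) i = z j := by
    rw [Fintype.prod_eq_single j, Pi.single_eq_same, pow_one]
    intro i hi
    rw [Pi.single_eq_of_ne hi, pow_zero]
  simp only [Pi.add_apply, pow_add, Finset.prod_mul_distrib]
  rw [h, mul_comm]

/-- An operator `B → B` of finite order which kills all monomials in the `z i`, where the `d (z i)`
span the Kaehler differentials, is zero. -/
lemma eq_zero_of_monomials (hz : Submodule.span B (Set.range fun i => KaehlerDifferential.D A B (z i)) = ⊤)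
    (n : ℕ) (E : B →ₗ[A] B) (hE : Diff16.IsDiffOpLE A B B B n E)
    (hmon : ∀ r : ι → ℕ, E (∏ i, z i ^ r i) = 0) : E = 0 := by
  induction n generalizing E with
  | zero =>
    ext b
    have h1 : E 1 = 0 := by simpa using hmon 0
    have := hE b 1
    simp only [smul_eq_mul, mul_one] at this
    rw [this, h1, mul_zero, LinearMap.zero_apply]
  | succ n ih =>
    have hcomm : ∀ i, Diff16.commutator A B B B E (z i) = 0 := by
      intro j
      apply ih _ (hE (z j))
      intro r
      rw [commutator_apply, hmon r, smul_zero, sub_zero, smul_eq_mul]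
      have : z j * ∏ i, z i ^ r i = ∏ i, z i ^ (r + Pi.single j 1 : ι → ℕ) i := mul_monomial B z j r
      rw [this]
      exact hmon _
    have hlin := linear_of_commute A B z hz (n + 1) E hE hcomm
    ext b
    have h1 : E 1 = 0 := by simpa using hmon 0
    have := hlin b 1
    simp only [smul_eq_mul, mul_one] at this
    rw [this, h1, mul_zero, LinearMap.zero_apply]

end Monomials

end Groth.Agent.Lib.DiffOp
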