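/-
helper83: adic formal smoothness vs. symmetric-graded bijectivity (EGA 0_IV 19.5.4), part 1.
`forward`: `B` is `J`-adically formally smooth over `A` and `B/J` formally smooth over `A`
⟹ `J/J²` projective over `B/J` and `Sym^n(J/J²) → J^n/J^(n+1)` bijective.
Also: `phiJ` (the canonical map, always defined), `phiJ_cl`, `phiJ_surj`, `DD` (derivation from a
section of `B/J² → B/J`), `kap` (comparison `Sym_{B/J} → Sym_B`), truncated polynomial ring `Tn`.
-/
import Mathlib
import Groth.Prelude.Def_CAlgX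
import Groth.Prelude.Def_PP16
import Groth.Agent.S4537
import Groth.Agent.S3820

set_option autoImplicit false
set_option linter.style.haveILetI false
universe u

namespace Groth.Agent.Lib.AdicSym83

noncomputable section

section Deriv
variable {A B : Type u} [CommRing A] [CommRing B] [Algebra A B] (J : Ideal B)

/-- canonical map `B/J² → B/J`. -/
abbrev qq : B ⧸ J ^ 2 →ₐ[A] B ⧸ J := Ideal.Quotient.factorₐ A (Ideal.pow_le_self two_ne_zero)

lemma mem_cotangentIdeal_of_qq (x : B ⧸ J ^ 2) (hx : qq (A := A) J x = 0) : x ∈ J.cotangentIdeal := by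
  obtain ⟨y, rfl⟩ := Ideal.Quotient.mk_surjective x
  rw [Ideal.mk_mem_cotangentIdeal]
  have : qq (A := A) J (Ideal.Quotient.mk _ y) = Ideal.Quotient.mk J y := rfl
  rw [this, Ideal.Quotient.eq_zero_iff_mem] at hx
  exact hx

variable (σ : B ⧸ J →ₐ[A] B ⧸ J ^ 2) (hσ : ∀ c, qq (A := A) J (σ c) = c)

include hσ in
lemma exists_D (b : B) : ∃ p : J.Cotangent, J.cotangentToQuotientSquare p =
    Ideal.Quotient.mk (J ^ 2) b - σ (Ideal.Quotient.mk J b) := by
  have h1 : Ideal.Quotient.mk (J ^ 2) b - σ (Ideal.Quotient.mk J b) ∈ J.cotangentIdeal := by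
    apply mem_cotangentIdeal_of_qq (A := A)
    rw [map_sub, hσ]
    exact sub_self _
  have h2 : Ideal.Quotient.mk (J ^ 2) b - σ (Ideal.Quotient.mk J b) ∈
      LinearMap.range J.cotangentToQuotientSquare := by
    rw [Ideal.range_cotangentToQuotientSquare]
    exact h1
  exact h2

/-- the derivation attached to a section. -/
def Dfun (b : B) : J.Cotangent := (exists_D J σ hσ b).choose

lemma Dfun_spec (b : B) : J.cotangentToQuotientSquare (Dfun J σ hσ b) =
    Ideal.Quotient.mk (J ^ 2) b - σ (Ideal.Quotient.mk J b) := (exists_D J σ hσ b).choose_spec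

lemma iota_smul (b : B) (p : J.Cotangent) :
    J.cotangentToQuotientSquare (b • p) = Ideal.Quotient.mk (J ^ 2) b * J.cotangentToQuotientSquare p := by
  rw [map_smul]
  rfl

lemma iota_mul (p p' : J.Cotangent) :
    J.cotangentToQuotientSquare p * J.cotangentToQuotientSquare p' = 0 := by
  have h1 : J.cotangentToQuotientSquare p ∈ J.cotangentIdeal := by
    have : J.cotangentToQuotientSquare p ∈ LinearMap.range J.cotangentToQuotientSquare := ⟨p, rfl⟩
    rw [Ideal.range_cotangentToQuotientSquare] at this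
    exact this
  have h2 : J.cotangentToQuotientSquare p' ∈ J.cotangentIdeal := by
    have : J.cotangentToQuotientSquare p' ∈ LinearMap.range J.cotangentToQuotientSquare := ⟨p', rfl⟩
    rw [Ideal.range_cotangentToQuotientSquare] at this
    exact this
  have h3 := Ideal.mul_mem_mul h1 h2
  rw [← pow_two, Ideal.cotangentIdeal_square] at h3
  exact h3

/-- the derivation attached to a section. -/
def DD : Derivation A B J.Cotangent :=
  Derivation.mk'
    { toFun := Dfun J σ hσ
      map_add' := fun b c => by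
        apply J.cotangentToQuotientSquare_injective
        rw [map_add, Dfun_spec, Dfun_spec, Dfun_spec, map_add, map_add, map_add]
        ring
      map_smul' := fun a b => by
        apply J.cotangentToQuotientSquare_injective
        have e1 : Ideal.Quotient.mk (J ^ 2) (a • b) = a • Ideal.Quotient.mk (J ^ 2) b := rfl
        have e2 : Ideal.Quotient.mk J (a • b) = a • Ideal.Quotient.mk J b := rfl
        rw [RingHom.id_apply, LinearMap.map_smul_of_tower, Dfun_spec, Dfun_spec, smul_sub, e1, e2,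
          map_smul] }
    (fun b c => by
      apply J.cotangentToQuotientSquare_injective
      change J.cotangentToQuotientSquare (Dfun J σ hσ (b * c)) =
        J.cotangentToQuotientSquare (b • Dfun J σ hσ c + c • Dfun J σ hσ b)
      have h := iota_mul J (Dfun J σ hσ b) (Dfun J σ hσ c)
      rw [Dfun_spec, Dfun_spec] at h
      rw [map_add, iota_smul, iota_smul, Dfun_spec, Dfun_spec, Dfun_spec, map_mul, map_mul, map_mul]
      linear_combination (-1 : B ⧸ J ^ 2) * h)

lemma DD_apply (b : B) : DD J σ hσ b = Dfun J σ hσ b := rfl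

lemma DD_mem (j : B) (hj : j ∈ J) : DD J σ hσ j = J.toCotangent ⟨j, hj⟩ := by
  apply J.cotangentToQuotientSquare_injective
  rw [DD_apply, Dfun_spec, Ideal.toCotangent_to_quotient_square]
  have : Ideal.Quotient.mk J j = 0 := Ideal.Quotient.eq_zero_iff_mem.mpr hj
  rw [this, map_zero, sub_zero]
  rfl

end Deriv

section Proj
open TrivSqZeroExt
variable {A B : Type u} [CommRing A] [CommRing B] [Algebra A B] (J : Ideal B)

lemma mk_smul' {M : Type*} [AddCommGroup M] [Module B M] [Module (B ⧸ J) M]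
    [IsScalarTower B (B ⧸ J) M] (b : B) (x : M) : (Ideal.Quotient.mk J b) • x = b • x :=
  algebraMap_smul (B ⧸ J) b x

/-- the free module on the cotangent module. -/
abbrev FF := J.Cotangent →₀ (B ⧸ J)
/-- the canonical surjection. -/
abbrev uu : FF J →ₗ[B ⧸ J] J.Cotangent := Finsupp.linearCombination (B ⧸ J) id
/-- the test ring. -/
abbrev EE := TrivSqZeroExt (B ⧸ J) (FF J)

lemma snd_mul' (x y : EE J) : (x * y).snd = x.fst • y.snd + y.fst • x.snd := by
  rw [TrivSqZeroExt.snd_mul]
  simp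

/-- the square-zero ideal. -/
def II : Ideal (EE J) where
  carrier := {x | x.fst = 0 ∧ uu J x.snd = 0}
  add_mem' := by
    rintro x y ⟨h1, h2⟩ ⟨h3, h4⟩
    exact ⟨by rw [fst_add, h1, h3, add_zero], by rw [snd_add, map_add, h2, h4, add_zero]⟩
  zero_mem' := ⟨fst_zero, by rw [snd_zero, map_zero]⟩
  smul_mem' := by
    rintro c x ⟨h1, h2⟩
    refine ⟨by rw [smul_eq_mul, fst_mul, h1, mul_zero], ?_⟩
    rw [smul_eq_mul, snd_mul', h1, zero_smul, add_zero, map_smul, h2, smul_zero]

lemma mem_II (x : EE J) : x ∈ II J ↔ x.fst = 0 ∧ uu J x.snd = 0 := Iff.rfl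

lemma II_sq : II J ^ 2 = ⊥ := by
  rw [eq_bot_iff, pow_two, Ideal.mul_le]
  rintro x ⟨h1, _⟩ y ⟨h3, _⟩
  rw [Ideal.mem_bot]
  ext
  · rw [fst_mul, h1, zero_mul, fst_zero]
  · rw [snd_mul', h1, h3, zero_smul, zero_smul, add_zero, snd_zero]

lemma uu_single (p : J.Cotangent) : uu J (Finsupp.single p 1) = p := by
  rw [Finsupp.linearCombination_single, one_smul]
  rfl

variable (D : Derivation A B J.Cotangent)

/-- the first order map. -/
def psi : B →ₐ[A] EE J ⧸ II J where
  toFun b := Ideal.Quotient.mk _ (inl (Ideal.Quotient.mk J b) + inr (Finsupp.single (D b) 1))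
  map_one' := by
    rw [← map_one (Ideal.Quotient.mk (II J)), Ideal.Quotient.eq, mem_II]
    constructor
    · simp
    · simp [uu_single]
  map_mul' b c := by
    rw [← map_mul, Ideal.Quotient.eq, mem_II]
    constructor
    · simp
    · simp only [snd_sub, snd_add, snd_inl, snd_inr, snd_mul', fst_add, fst_inl, fst_inr, add_zero,
        zero_add, map_sub, map_add, map_smul, uu_single, Derivation.leibniz]
      rw [mk_smul', mk_smul']
      abel
  map_zero' := by
    rw [← map_zero (Ideal.Quotient.mk (II J)), Ideal.Quotient.eq, mem_II]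
    constructor
    · simp
    · simp [uu_single]
  map_add' b c := by
    rw [← map_add, Ideal.Quotient.eq, mem_II]
    constructor
    · simp
    · simp only [snd_sub, snd_add, snd_inl, snd_inr, add_zero,
        zero_add, map_sub, map_add, uu_single]
      abel
  commutes' a := by
    change _ = Ideal.Quotient.mk (II J) (algebraMap A (EE J) a)
    rw [Ideal.Quotient.eq, mem_II]
    have : algebraMap A (EE J) a = inl (algebraMap A (B ⧸ J) a) := rfl
    rw [this]
    constructor
    · simp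
    · simp [uu_single]

lemma psi_apply (b : B) : psi J D b =
    Ideal.Quotient.mk _ (inl (Ideal.Quotient.mk J b) + inr (Finsupp.single (D b) 1)) := rfl

variable (χ : B →ₐ[A] EE J) (hχ : (Ideal.Quotient.mkₐ A (II J)).comp χ = psi J D)

include hχ in
lemma chi_spec (b : B) : (χ b).fst = Ideal.Quotient.mk J b ∧ uu J (χ b).snd = D b := by
  have h1 : Ideal.Quotient.mk (II J) (χ b) = psi J D b := by
    rw [← hχ]; rfl
  rw [psi_apply, Ideal.Quotient.eq, mem_II] at h1
  obtain ⟨h2, h3⟩ := h1
  constructor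
  · simpa [sub_eq_zero] using h2
  · simpa [uu_single, sub_eq_zero] using h3

include hχ in
/-- the linear map on `J`. -/
def gammaJ : ↥J →ₗ[B] FF J where
  toFun j := (χ (j : B)).snd
  map_add' j j' := by
    rw [Submodule.coe_add, map_add, snd_add]
  map_smul' b j := by
    rw [RingHom.id_apply, Submodule.coe_smul, smul_eq_mul, map_mul, snd_mul',
      (chi_spec J D χ hχ b).1, (chi_spec J D χ hχ j).1, mk_smul']
    have : Ideal.Quotient.mk J (j : B) = 0 := Ideal.Quotient.eq_zero_iff_mem.mpr j.2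
    rw [this, zero_smul, add_zero]

lemma gammaJ_apply (j : ↥J) : gammaJ J D χ hχ j = (χ (j : B)).snd := rfl

/-- the section on the cotangent module, `B`-linear version. -/
def hh0 : J.Cotangent →ₗ[B] FF J :=
  Submodule.liftQ _ (gammaJ J D χ hχ) (by
    rw [Submodule.smul_le]
    intro r hr n _
    rw [LinearMap.mem_ker, map_smul, ← mk_smul' J]
    have : Ideal.Quotient.mk J r = 0 := Ideal.Quotient.eq_zero_iff_mem.mpr hr
    rw [this, zero_smul])

lemma hh0_toCotangent (j : ↥J) : hh0 J D χ hχ (J.toCotangent j) = (χ (j : B)).snd := rfl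

/-- the section on the cotangent module. -/
def hh : J.Cotangent →ₗ[B ⧸ J] FF J where
  toFun := hh0 J D χ hχ
  map_add' := map_add _
  map_smul' c p := by
    obtain ⟨b, rfl⟩ := Ideal.Quotient.mk_surjective c
    rw [RingHom.id_apply, mk_smul', mk_smul', map_smul]

include hχ in
lemma projective_of_lift (hD : ∀ (j : B) (hj : j ∈ J), D j = J.toCotangent ⟨j, hj⟩) :
    Module.Projective (B ⧸ J) J.Cotangent := by
  rw [Module.projective_def']
  refine ⟨hh J D χ hχ, ?_⟩
  ext p
  obtain ⟨j, rfl⟩ := J.toCotangent_surjective p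
  change uu J (hh0 J D χ hχ (J.toCotangent j)) = _
  rw [hh0_toCotangent, (chi_spec J D χ hχ j).2, hD j j.2]
  rfl

end Proj

section Phi
open Groth.Agent.S3817 Groth.Agent.S3820
open scoped Pointwise
variable {B : Type u} [CommRing B] (J : Ideal B)

/-- products of `n` elements of `J`. -/
def PZ (n : ℕ) : Set B := Set.range (fun x : Fin n → ↥J => ∏ k, (x k : B))

lemma pow_le_span_PZ (n : ℕ) : J ^ n ≤ Ideal.span (PZ J n) := by
  induction n with
  | zero =>
    intro t _
    have : (1 : B) ∈ PZ J 0 := ⟨fun k => k.elim0, by simp⟩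
    have h1 := Ideal.subset_span this
    have := Ideal.mul_mem_left _ t h1
    rwa [mul_one] at this
  | succ n ih =>
    calc J ^ (n + 1) = J ^ n * J := pow_succ _ _
      _ ≤ Ideal.span (PZ J n) * Ideal.span (J : Set B) :=
        Ideal.mul_mono ih (Ideal.span_eq J).ge
      _ = Ideal.span (PZ J n * (J : Set B)) := Ideal.span_mul_span' _ _
      _ ≤ Ideal.span (PZ J (n + 1)) := by
        apply Ideal.span_mono
        rintro _ ⟨_, ⟨b, rfl⟩, c, hc, rfl⟩
        refine ⟨Fin.snoc b ⟨c, hc⟩, ?_⟩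
        simp only
        rw [Fin.prod_univ_castSucc]
        simp

variable (ι : Type u) [Fintype ι]

/-- the class map. -/
def cls (n : ℕ) : ↥(J ^ n) →ₗ[B] PP16.grJ B J n := Submodule.mkQ _

lemma cls_eq_iff (n : ℕ) (y y' : ↥(J ^ n)) :
    cls J n y = cls J n y' ↔ (y : B) - (y' : B) ∈ J ^ (n + 1) := by
  unfold cls
  rw [Submodule.mkQ_apply, Submodule.mkQ_apply, Submodule.Quotient.eq, Submodule.mem_comap]
  rfl

/-- the product multilinear map. -/
def zT : MultilinearMap B (fun _ : ι => ↥J) B :=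
  (MultilinearMap.mkPiAlgebra B ι B).compLinearMap (fun _ => J.subtype)

lemma zT_apply (x : ι → ↥J) : zT J ι x = ∏ i, (x i : B) := by
  unfold zT
  rw [MultilinearMap.compLinearMap_apply, MultilinearMap.mkPiAlgebra_apply]
  rfl

lemma zT_mem (x : ι → ↥J) : zT J ι x ∈ J ^ Fintype.card ι := by
  rw [zT_apply]
  have := PP16.prod_mem_pow J Finset.univ (fun i => (x i : B)) (fun i _ => (x i).2)
  simpa using this

/-- the product multilinear map into the graded piece. -/
def zJ : MultilinearMap B (fun _ : ι => ↥J) (PP16.grJ B J (Fintype.card ι)) :=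
  (cls J (Fintype.card ι)).compMultilinearMap ((zT J ι).codRestrict (J ^ Fintype.card ι) (zT_mem J ι))

lemma zJ_apply (x : ι → ↥J) : zJ J ι x = cls J _ ⟨zT J ι x, zT_mem J ι x⟩ := rfl

lemma zJ_eq (x : ι → ↥J) : zJ J ι x = PP16.zetaJ B J x := by
  rw [zJ_apply]
  unfold PP16.zetaJ cls
  rw [Submodule.mkQ_apply]
  congr 1

lemma zJ_congr (x x' : ι → ↥J) (h : ∀ i, J.toCotangent (x i) = J.toCotangent (x' i)) :
    zJ J ι x = zJ J ι x' := by
  rw [zJ_apply, zJ_apply, cls_eq_iff]
  change zT J ι x - zT J ι x' ∈ _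
  rw [zT_apply, zT_apply]
  have := prod_congr_mod' J Finset.univ (fun i => (x i : B)) (fun i => (x' i : B))
    (fun i _ => (x i).2) (fun i _ => (x' i).2) (fun i _ => (Ideal.toCotangent_eq J).mp (h i))
  simpa using this

lemma zJ_update_congr [DecidableEq ι] (f : ι → ↥J) (i : ι) (a a' : ↥J)
    (h : J.toCotangent a = J.toCotangent a') :
    zJ J ι (Function.update f i a) = zJ J ι (Function.update f i a') := by
  apply zJ_congr
  intro k
  by_cases hk : k = i
  · subst hk
    rw [Function.update_self, Function.update_self, h]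
  · rw [Function.update_of_ne hk, Function.update_of_ne hk]

/-- a set-theoretic section of `J → J/J²`. -/
def sec : J.Cotangent → ↥J := Function.surjInv J.toCotangent_surjective

lemma sec_spec (p : J.Cotangent) : J.toCotangent (sec J p) = p :=
  Function.surjInv_eq J.toCotangent_surjective p

/-- the symmetric multilinear map on the cotangent module. -/
def gmJ : MultilinearMap B (fun _ : ι => J.Cotangent) (PP16.grJ B J (Fintype.card ι)) where
  toFun ω := zJ J ι (sec J ∘ ω)
  map_update_add' := by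
    intro _ m i x y
    rw [Function.comp_update, Function.comp_update, Function.comp_update,
      zJ_update_congr J ι _ i (sec J (x + y)) (sec J x + sec J y)
        (by rw [map_add, sec_spec, sec_spec, sec_spec]),
      MultilinearMap.map_update_add]
  map_update_smul' := by
    intro _ m i c x
    rw [Function.comp_update, Function.comp_update,
      zJ_update_congr J ι _ i (sec J (c • x)) (c • sec J x)
        (by rw [map_smul, sec_spec, sec_spec]),
      MultilinearMap.map_update_smul]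

lemma gmJ_apply (ω : ι → J.Cotangent) : gmJ J ι ω = zJ J ι (sec J ∘ ω) := rfl

lemma gmJ_cl (x : ι → ↥J) : gmJ J ι (fun i => J.toCotangent (x i)) = zJ J ι x := by
  rw [gmJ_apply]
  apply zJ_congr
  intro i
  exact sec_spec J _

lemma zJ_symm (e : Equiv.Perm ι) (x : ι → ↥J) : zJ J ι (fun i => x (e i)) = zJ J ι x := by
  rw [zJ_apply, zJ_apply]
  congr 1
  apply Subtype.ext
  change zT J ι (fun i => x (e i)) = zT J ι x
  rw [zT_apply, zT_apply]
  exact Equiv.prod_comp e (fun j => (x j : B))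

/-- the canonical map `Sym^n (J/J²) → J^n/J^(n+1)`. -/
def phiJ : SymmetricPower B ι J.Cotangent →ₗ[B] PP16.grJ B J (Fintype.card ι) :=
  symLift (gmJ J ι) (fun e ω => by
    rw [gmJ_apply, gmJ_apply]
    exact zJ_symm J ι e (sec J ∘ ω))

lemma phiJ_tprod (ω : ι → J.Cotangent) :
    phiJ J ι (SymmetricPower.tprod B ω) = gmJ J ι ω := symLift_tprod _ _ ω

lemma phiJ_cl (x : ι → ↥J) :
    phiJ J ι (SymmetricPower.tprod B (fun i => J.toCotangent (x i))) = PP16.zetaJ B J x := by
  rw [phiJ_tprod, gmJ_cl, zJ_eq]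

lemma phiJ_surj : Function.Surjective (phiJ J ι) := by
  intro y
  obtain ⟨x, rfl⟩ := Submodule.mkQ_surjective _ y
  let K : Submodule B B :=
    Submodule.map (Submodule.subtype _)
      (Submodule.comap (cls J (Fintype.card ι)) (LinearMap.range (phiJ J ι)))
  have hW : Ideal.span (PZ J (Fintype.card ι)) ≤ K := by
    apply Ideal.span_le.mpr
    rintro _ ⟨b, rfl⟩
    have hprod : ∏ j : ι, (b (Fintype.equivFin ι j) : B) = ∏ k, (b k : B) :=
      Equiv.prod_comp (Fintype.equivFin ι) (fun k => (b k : B))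
    have hz := zT_mem J ι (fun j => b (Fintype.equivFin ι j))
    rw [zT_apply, hprod] at hz
    refine ⟨⟨∏ k, (b k : B), hz⟩, ?_, rfl⟩
    rw [SetLike.mem_coe, Submodule.mem_comap, LinearMap.mem_range]
    refine ⟨SymmetricPower.tprod B (fun j => J.toCotangent (b (Fintype.equivFin ι j))), ?_⟩
    rw [phiJ_tprod, gmJ_cl, zJ_apply]
    congr 1
    apply Subtype.ext
    change zT J ι _ = _
    rw [zT_apply, hprod]
  have hx : (x : B) ∈ K := (le_trans (pow_le_span_PZ J (Fintype.card ι)) hW) x.2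
  obtain ⟨x', hx', hxx⟩ := hx
  rw [SetLike.mem_coe, Submodule.mem_comap, LinearMap.mem_range] at hx'
  obtain ⟨X, hX⟩ := hx'
  refine ⟨X, ?_⟩
  rw [hX]
  change cls J _ x' = cls J _ x
  congr 1
  exact Subtype.ext hxx

end Phi

section Kap
open Groth.Agent.S3817
variable {B : Type u} [CommRing B] (J : Ideal B) (P : Type u) [AddCommGroup P] [Module B P]
  [Module (B ⧸ J) P] [IsScalarTower B (B ⧸ J) P] (ι : Type u) [Fintype ι] [Nonempty ι]

lemma sym_torsion : Module.IsTorsionBySet B (SymmetricPower B ι P) (J : Set B) := by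
  rintro Y ⟨j, hj⟩
  change j • Y = 0
  have hY : Y ∈ Submodule.span B (Set.range (SymmetricPower.tprod B (ι := ι) (M := P))) := by
    rw [SymmetricPower.span_tprod_eq_top]; trivial
  induction hY using Submodule.span_induction with
  | mem Y h =>
    obtain ⟨ω, rfl⟩ := h
    classical
    obtain ⟨i⟩ := ‹Nonempty ι›
    have h1 : j • SymmetricPower.tprod B ω =
        SymmetricPower.tprod B (Function.update ω i (j • ω i)) := by
      rw [MultilinearMap.map_update_smul, Function.update_eq_self]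
    have h2 : j • ω i = 0 := by
      rw [← mk_smul' J, Ideal.Quotient.eq_zero_iff_mem.mpr hj, zero_smul]
    rw [h1, h2]
    exact MultilinearMap.map_update_zero _ _ _
  | zero => exact smul_zero _
  | add x y _ _ hx hy => rw [smul_add, hx, hy, add_zero]
  | smul a x _ hx => rw [smul_comm, hx, smul_zero]

/-- the `B/J`-module structure on the symmetric power. -/
@[instance_reducible]
def modC : Module (B ⧸ J) (SymmetricPower B ι P) := (sym_torsion J P ι).module

attribute [local instance] modC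

instance towerC : IsScalarTower B (B ⧸ J) (SymmetricPower B ι P) :=
  (sym_torsion J P ι).isScalarTower

/-- the symmetric product as a multilinear map over the quotient ring. -/
def tpC : MultilinearMap (B ⧸ J) (fun _ : ι => P) (SymmetricPower B ι P) where
  toFun := SymmetricPower.tprod B
  map_update_add' := by
    intro _ m i x y
    exact (SymmetricPower.tprod B).map_update_add m i x y
  map_update_smul' := by
    intro _ m i c x
    obtain ⟨b, rfl⟩ := Ideal.Quotient.mk_surjective c
    rw [mk_smul', mk_smul']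
    exact (SymmetricPower.tprod B).map_update_smul m i b x

/-- comparison of symmetric powers. -/
def kap : SymmetricPower (B ⧸ J) ι P →ₗ[B ⧸ J] SymmetricPower B ι P :=
  symLift (tpC J P ι) (fun e f => SymmetricPower.tprod_equiv e f)

lemma kap_tprod (ω : ι → P) :
    kap J P ι (SymmetricPower.tprod (B ⧸ J) ω) = SymmetricPower.tprod B ω :=
  symLift_tprod _ _ ω

end Kap

section IdealHelpers
variable {R S : Type*} [CommRing R] [CommRing S]

lemma mul_mem_sq (I : Ideal R) {x y : R} (hx : x ∈ I) (hy : y ∈ I) : x * y ∈ I ^ 2 := by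
  rw [pow_two]
  exact Ideal.mul_mem_mul hx hy

lemma sq_nilpotent_of_pow (I : Ideal R) (n : ℕ) (h : I ^ (n + 1) = ⊥) : IsNilpotent (I ^ 2) := by
  refine ⟨n + 1, ?_⟩
  rw [← pow_mul, mul_comm, pow_mul, h, ← Ideal.zero_eq_bot]
  exact zero_pow (M₀ := Ideal R) two_ne_zero

lemma map_mk_pow_self (I : Ideal R) (n : ℕ) :
    (I.map (Ideal.Quotient.mk (I ^ (n + 1)))) ^ (n + 1) = ⊥ := by
  rw [← Ideal.map_pow, Ideal.map_quotient_self]

lemma map_pow_mem (f : R →+* S) (I : Ideal R) (K : Ideal S) (h : ∀ x ∈ I, f x ∈ K) (k : ℕ)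
    (t : R) (ht : t ∈ I ^ k) : f t ∈ K ^ k := by
  have h1 : I.map f ≤ K := by
    rw [Ideal.map_le_iff_le_comap]
    intro t ht
    exact h t ht
  have h2 := Ideal.pow_right_mono h1 k
  rw [← Ideal.map_pow] at h2
  exact h2 (Ideal.mem_map_of_mem _ ht)

lemma mul_mem_pow_succ (K : Ideal S) (n : ℕ) {x y : S} (hx : x ∈ K) (hy : y ∈ K ^ n) :
    x * y ∈ K ^ (n + 1) := by
  rw [pow_succ']
  exact Ideal.mul_mem_mul hx hy

lemma sq_le_self (K : Ideal S) : K ^ 2 ≤ K := Ideal.pow_le_self two_ne_zero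

end IdealHelpers

section Theta
open Groth.Agent.S3820
variable {A B : Type u} [CommRing A] [CommRing B] [Algebra A B] (J : Ideal B) (n : ℕ)

/-- the truncated polynomial ring. -/
def Tn : Type u :=
  MvPolynomial J.Cotangent (B ⧸ J) ⧸ (MvPolynomial.idealOfVars J.Cotangent (B ⧸ J)) ^ (n + 1)

instance : CommRing (Tn J n) :=
  inferInstanceAs (CommRing (MvPolynomial J.Cotangent (B ⧸ J) ⧸
    (MvPolynomial.idealOfVars J.Cotangent (B ⧸ J)) ^ (n + 1)))
instance : Algebra (B ⧸ J) (Tn J n) :=
  inferInstanceAs (Algebra (B ⧸ J) (MvPolynomial J.Cotangent (B ⧸ J) ⧸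
    (MvPolynomial.idealOfVars J.Cotangent (B ⧸ J)) ^ (n + 1)))
instance : Algebra B (Tn J n) :=
  inferInstanceAs (Algebra B (MvPolynomial J.Cotangent (B ⧸ J) ⧸
    (MvPolynomial.idealOfVars J.Cotangent (B ⧸ J)) ^ (n + 1)))
instance : Algebra A (Tn J n) :=
  inferInstanceAs (Algebra A (MvPolynomial J.Cotangent (B ⧸ J) ⧸
    (MvPolynomial.idealOfVars J.Cotangent (B ⧸ J)) ^ (n + 1)))
instance : IsScalarTower B (B ⧸ J) (Tn J n) :=
  inferInstanceAs (IsScalarTower B (B ⧸ J) (MvPolynomial J.Cotangent (B ⧸ J) ⧸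
    (MvPolynomial.idealOfVars J.Cotangent (B ⧸ J)) ^ (n + 1)))
instance : IsScalarTower A B (Tn J n) :=
  inferInstanceAs (IsScalarTower A B (MvPolynomial J.Cotangent (B ⧸ J) ⧸
    (MvPolynomial.idealOfVars J.Cotangent (B ⧸ J)) ^ (n + 1)))

/-- the quotient map. -/
def mkT : MvPolynomial J.Cotangent (B ⧸ J) →ₐ[B ⧸ J] Tn J n :=
  Ideal.Quotient.mkₐ (B ⧸ J) _

lemma mkT_eq_zero_iff (p : MvPolynomial J.Cotangent (B ⧸ J)) :
    mkT J n p = 0 ↔ p ∈ (MvPolynomial.idealOfVars J.Cotangent (B ⧸ J)) ^ (n + 1) :=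
  Ideal.Quotient.eq_zero_iff_mem

/-- its augmentation ideal. -/
def mm : Ideal (Tn J n) :=
  (MvPolynomial.idealOfVars J.Cotangent (B ⧸ J)).map (mkT J n)

lemma mm_pow : (mm J n) ^ (n + 1) = ⊥ := by
  unfold mm
  rw [← Ideal.map_pow, eq_bot_iff, Ideal.map_le_iff_le_comap]
  intro p hp
  rw [Ideal.mem_comap, Ideal.mem_bot, mkT_eq_zero_iff]
  exact hp

lemma mm_sq_nilpotent : IsNilpotent ((mm J n) ^ 2) :=
  sq_nilpotent_of_pow (mm J n) n (mm_pow J n)

/-- the quotient map as a linear map. -/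
def mkC : MvPolynomial J.Cotangent (B ⧸ J) →ₗ[B ⧸ J] Tn J n :=
  (mkT J n).toLinearMap

lemma mkC_apply (p : MvPolynomial J.Cotangent (B ⧸ J)) :
    mkC J n p = mkT J n p := rfl

variable (σ : J.Cotangent →ₗ[B ⧸ J] (J.Cotangent →₀ (B ⧸ J)))

/-- the linear form into the truncated polynomial ring. -/
def ell' : J.Cotangent →ₗ[B ⧸ J] Tn J n := (mkC J n).comp (ell σ)

lemma ell'_mem (ω : J.Cotangent) : ell' J n σ ω ∈ mm J n :=
  Ideal.mem_map_of_mem (mkT J n) (ell_mem σ ω)

lemma algebraMap_eq (b : B) :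
    algebraMap B (Tn J n) b = algebraMap (B ⧸ J) (Tn J n) (Ideal.Quotient.mk J b) :=
  IsScalarTower.algebraMap_apply B (B ⧸ J) (Tn J n) b

lemma algebraMap_mem (j : B) (hj : j ∈ J) : algebraMap B (Tn J n) j = 0 := by
  rw [algebraMap_eq, Ideal.Quotient.eq_zero_iff_mem.mpr hj, map_zero]

lemma ell'_smul (b : B) (ω : J.Cotangent) :
    ell' J n σ (b • ω) = algebraMap B (Tn J n) b * ell' J n σ ω := by
  rw [← mk_smul' J, map_smul, algebraMap_eq]
  exact Algebra.smul_def (A := Tn J n) _ _

variable (D : Derivation A B J.Cotangent)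

/-- the first-order map `b ↦ b + ℓ(Db)`. -/
def gbar : B →ₐ[A] (Tn J n ⧸ (mm J n) ^ 2) where
  toFun b := Ideal.Quotient.mk _ (algebraMap B (Tn J n) b + ell' J n σ (D b))
  map_one' := by
    rw [Derivation.map_one_eq_zero, map_zero, add_zero, map_one, map_one]
  map_mul' b c := by
    rw [← map_mul, Ideal.Quotient.eq, Derivation.leibniz, map_add, ell'_smul, ell'_smul, map_mul]
    have h : algebraMap B (Tn J n) b * algebraMap B (Tn J n) c +
        (algebraMap B (Tn J n) b * ell' J n σ (D c) +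
          algebraMap B (Tn J n) c * ell' J n σ (D b)) -
        (algebraMap B (Tn J n) b + ell' J n σ (D b)) *
          (algebraMap B (Tn J n) c + ell' J n σ (D c)) =
        - (ell' J n σ (D b) * ell' J n σ (D c)) := by
      ring
    rw [h]
    exact Ideal.neg_mem_iff _ |>.mpr (mul_mem_sq _ (ell'_mem J n σ _) (ell'_mem J n σ _))
  map_zero' := by
    rw [map_zero, map_zero, map_zero, add_zero, map_zero]
  map_add' b c := by
    have h : algebraMap B (Tn J n) (b + c) + ell' J n σ (D (b + c)) =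
        (algebraMap B (Tn J n) b + ell' J n σ (D b)) +
          (algebraMap B (Tn J n) c + ell' J n σ (D c)) := by
      rw [map_add, map_add, map_add]
      ring
    rw [h, map_add]
  commutes' a := by
    rw [Derivation.map_algebraMap, map_zero, add_zero, ← IsScalarTower.algebraMap_apply]
    rfl

lemma gbar_apply (b : B) : gbar J n σ D b =
    Ideal.Quotient.mk _ (algebraMap B (Tn J n) b + ell' J n σ (D b)) := rfl

lemma gbar_kill : ∀ x ∈ J ^ 2, gbar J n σ D x = 0 := by
  have h : J ^ 2 ≤ RingHom.ker (gbar J n σ D).toRingHom := by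
    rw [pow_two, Ideal.mul_le]
    intro r hr s hs
    rw [RingHom.mem_ker, map_mul]
    change gbar J n σ D r * gbar J n σ D s = 0
    rw [gbar_apply, gbar_apply, algebraMap_mem J n r hr, algebraMap_mem J n s hs, zero_add,
      zero_add, ← map_mul, Ideal.Quotient.eq_zero_iff_mem]
    exact mul_mem_sq _ (ell'_mem J n σ _) (ell'_mem J n σ _)
  intro x hx
  exact h hx

variable (hD : ∀ (j : B) (hj : j ∈ J), D j = J.toCotangent ⟨j, hj⟩)
variable (rr : B →ₐ[A] Tn J n)
  (hrr : ∀ b, rr b - (algebraMap B (Tn J n) b + ell' J n σ (D b)) ∈ (mm J n) ^ 2)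

include hD hrr in
lemma rr_congr (j : ↥J) : rr (j : B) - ell' J n σ (J.toCotangent j) ∈ (mm J n) ^ 2 := by
  have h := hrr j
  rw [algebraMap_mem J n j j.2, zero_add, hD j j.2] at h
  exact h

include hD hrr in
lemma rr_mem (j : B) (hj : j ∈ J) : rr j ∈ mm J n := by
  have h1 := rr_congr J n σ D hD rr hrr ⟨j, hj⟩
  have h2 := Ideal.add_mem _ (sq_le_self _ h1)
    (ell'_mem J n σ (J.toCotangent ⟨j, hj⟩))
  simpa using h2

include hrr in
lemma rr_sub_mem (b : B) : rr b - algebraMap B (Tn J n) b ∈ mm J n := by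
  have h1 := Ideal.add_mem _ (sq_le_self _ (hrr b)) (ell'_mem J n σ (D b))
  have e : rr b - (algebraMap B (Tn J n) b + ell' J n σ (D b)) + ell' J n σ (D b) =
      rr b - algebraMap B (Tn J n) b := by ring
  rwa [e] at h1

include hD hrr in
lemma rr_pow_mem (k : ℕ) (t : B) (ht : t ∈ J ^ k) : rr t ∈ (mm J n) ^ k :=
  map_pow_mem rr.toRingHom J (mm J n) (fun x hx => rr_mem J n σ D hD rr hrr x hx) k t ht

include hD hrr in
lemma rr_eq_zero (t : B) (ht : t ∈ J ^ (n + 1)) : rr t = 0 := by
  have := rr_pow_mem J n σ D hD rr hrr (n + 1) t ht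
  rw [mm_pow] at this
  exact this

include hD hrr in
/-- the map induced on `J^n`. -/
def ThetaL : ↥(J ^ n) →ₗ[B] Tn J n where
  toFun t := rr (t : B)
  map_add' t t' := by rw [Submodule.coe_add, map_add]
  map_smul' b t := by
    rw [RingHom.id_apply, Submodule.coe_smul, smul_eq_mul, map_mul]
    change rr b * rr (t : B) = b • rr (t : B)
    rw [Algebra.smul_def, ← sub_eq_zero, ← sub_mul]
    have h1 := mul_mem_pow_succ _ n (rr_sub_mem J n σ D rr hrr b)
      (rr_pow_mem J n σ D hD rr hrr n t t.2)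
    rw [mm_pow] at h1
    exact h1

lemma ThetaL_apply (t : ↥(J ^ n)) : ThetaL J n σ D hD rr hrr t = rr (t : B) := rfl

/-- the map induced on the graded piece. -/
def Theta : PP16.grJ B J n →ₗ[B] Tn J n :=
  Submodule.liftQ _ (ThetaL J n σ D hD rr hrr) (by
    intro y hy
    rw [Submodule.mem_comap] at hy
    rw [LinearMap.mem_ker, ThetaL_apply]
    exact rr_eq_zero J n σ D hD rr hrr _ hy)

lemma Theta_cls (y : ↥(J ^ n)) : Theta J n σ D hD rr hrr (cls J n y) = rr (y : B) := rfl

end Theta

section FinalAB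
open Groth.Agent.S3820 Groth.Agent.S3817
variable {A B : Type u} [CommRing A] [CommRing B] [Algebra A B] (J : Ideal B)
variable (σ : J.Cotangent →ₗ[B ⧸ J] (J.Cotangent →₀ (B ⧸ J)))
  (hσ : ∀ p, Finsupp.linearCombination (B ⧸ J) id (σ p) = p)
variable (D : Derivation A B J.Cotangent)
  (hD : ∀ (j : B) (hj : j ∈ J), D j = J.toCotangent ⟨j, hj⟩)
variable (ι : Type u) [Fintype ι] [Nonempty ι]
variable (rr : B →ₐ[A] Tn J (Fintype.card ι))
  (hrr : ∀ b, rr b - (algebraMap B (Tn J (Fintype.card ι)) b + ell' J (Fintype.card ι) σ (D b)) ∈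
    (mm J (Fintype.card ι)) ^ 2)

include hD hrr in
lemma rr_prod (x : ι → ↥J) :
    rr (∏ i, (x i : B)) = mkC J _ (PsiM ι σ (fun i => J.toCotangent (x i))) := by
  rw [PsiM_apply, map_prod, mkC_apply, map_prod]
  have h := prod_congr_mod' (mm J (Fintype.card ι)) Finset.univ (fun i => rr (x i : B))
    (fun i => ell' J _ σ (J.toCotangent (x i)))
    (fun i _ => rr_mem J _ σ D hD rr hrr _ (x i).2)
    (fun i _ => ell'_mem J _ σ _)
    (fun i _ => rr_congr J _ σ D hD rr hrr (x i))
  rw [Finset.card_univ, mm_pow, Ideal.mem_bot, sub_eq_zero] at h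
  exact h

attribute [local instance] modC

include hσ hD hrr in
lemma phiJ_inj : Function.Injective (phiJ J ι) := by
  rw [injective_iff_map_eq_zero]
  intro Y hY
  have key : ∀ Y : SymmetricPower B ι J.Cotangent, ∃ p : MvPolynomial J.Cotangent (B ⧸ J),
      mkC J _ p = Theta J _ σ D hD rr hrr (phiJ J ι Y) ∧
        kap J J.Cotangent ι (retr ι p) = Y := by
    intro Y
    have hY : Y ∈ Submodule.span B (Set.range (SymmetricPower.tprod B (ι := ι)
        (M := J.Cotangent))) := by
      rw [SymmetricPower.span_tprod_eq_top]; trivial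
    induction hY using Submodule.span_induction with
    | mem Y h =>
      obtain ⟨ω, rfl⟩ := h
      refine ⟨PsiM ι σ ω, ?_, ?_⟩
      · rw [phiJ_tprod, gmJ_apply, zJ_apply, Theta_cls]
        change _ = rr (zT J ι (sec J ∘ ω))
        rw [zT_apply]
        have := rr_prod J σ D hD ι rr hrr (sec J ∘ ω)
        simp only [Function.comp, sec_spec] at this
        exact this.symm
      · rw [retr_PsiM ι σ hσ ω, kap_tprod]
    | zero => exact ⟨0, by simp⟩
    | add x y _ _ hx hy =>
      obtain ⟨p, hp1, hp2⟩ := hx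
      obtain ⟨q, hq1, hq2⟩ := hy
      exact ⟨p + q, by rw [map_add, map_add, map_add, hp1, hq1],
        by rw [map_add, map_add, hp2, hq2]⟩
    | smul a x _ hx =>
      obtain ⟨p, hp1, hp2⟩ := hx
      refine ⟨(Ideal.Quotient.mk J a) • p, ?_, ?_⟩
      · rw [map_smul, map_smul, map_smul, hp1, mk_smul' J]
      · rw [map_smul, map_smul, hp2, mk_smul' J]
  obtain ⟨p, hp1, hp2⟩ := key Y
  rw [hY, map_zero, mkC_apply, mkT_eq_zero_iff] at hp1
  rw [← hp2, retr_eq_zero ι p hp1, map_zero]

end FinalAB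

section Forward
variable {A B : Type u} [CommRing A] [CommRing B] [Algebra A B] (J : Ideal B)

lemma exists_section [Algebra.FormallySmooth A (B ⧸ J)] :
    ∃ σ : B ⧸ J →ₐ[A] B ⧸ J ^ 2, ∀ c, qq (A := A) J (σ c) = c := by
  have hsurj : Function.Surjective (qq (A := A) J) := by
    intro c
    obtain ⟨b, rfl⟩ := Ideal.Quotient.mk_surjective c
    exact ⟨Ideal.Quotient.mk _ b, rfl⟩
  have hnil : IsNilpotent (RingHom.ker (qq (A := A) J : B ⧸ J ^ 2 →+* B ⧸ J)) := by
    refine ⟨2, ?_⟩
    rw [Ideal.zero_eq_bot, eq_bot_iff, ← Ideal.cotangentIdeal_square J]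
    apply Ideal.pow_right_mono
    intro x hx
    exact mem_cotangentIdeal_of_qq (A := A) J x hx
  exact ⟨Algebra.FormallySmooth.liftOfSurjective (AlgHom.id A (B ⧸ J)) (qq J) hsurj hnil,
    fun c => Algebra.FormallySmooth.liftOfSurjective_apply _ _ hsurj hnil c⟩

theorem forward [Algebra.FormallySmooth A (B ⧸ J)] (h : CAlgX.IsAdicFormallySmooth A B J) :
    Module.Projective (B ⧸ J) J.Cotangent ∧ PP16.SymGrBijective B J := by
  obtain ⟨σ0, hσ0⟩ := exists_section (A := A) J
  have hD := DD_mem J σ0 hσ0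
  have hproj : Module.Projective (B ⧸ J) J.Cotangent := by
    have hk : ∀ x ∈ J ^ 2, psi J (DD J σ0 hσ0) x = 0 := by
      intro x hx
      have hxJ : x ∈ J := Ideal.pow_le_self two_ne_zero hx
      rw [psi_apply, Ideal.Quotient.eq_zero_iff_mem, mem_II, hD x hxJ,
        (Ideal.toCotangent_eq_zero J ⟨x, hxJ⟩).mpr hx,
        Ideal.Quotient.eq_zero_iff_mem.mpr hxJ]
      constructor
      · simp
      · simp
    obtain ⟨χ, hχ⟩ := h (EE J) (II J) (II_sq J) (psi J (DD J σ0 hσ0)) ⟨2, hk⟩
    exact projective_of_lift J _ χ hχ hD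
  refine ⟨hproj, ?_⟩
  obtain ⟨σ, hσ⟩ := Module.projective_def'.mp hproj
  intro ι _ _
  obtain ⟨rr, hrr⟩ := Groth.Agent.S4537.lift_of_nilpotent_aux J h (Tn J (Fintype.card ι))
    ((mm J (Fintype.card ι)) ^ 2) (mm_sq_nilpotent J _) (mm_sq_nilpotent J _)
    (gbar J (Fintype.card ι) σ (DD J σ0 hσ0)) ⟨2, gbar_kill J _ σ _⟩
  have hrr' : ∀ b, rr b - (algebraMap B (Tn J (Fintype.card ι)) b +
      ell' J (Fintype.card ι) σ (DD J σ0 hσ0 b)) ∈ (mm J (Fintype.card ι)) ^ 2 := by
    intro b
    rw [← Ideal.Quotient.eq, ← gbar_apply, ← hrr]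
    rfl
  exact ⟨phiJ J ι, phiJ_cl J ι,
    phiJ_inj J σ (fun p => LinearMap.congr_fun hσ p) _ hD ι rr hrr', phiJ_surj J ι⟩

end Forward

end

end Groth.Agent.Lib.AdicSym83
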