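/-
helper83: adic formal smoothness vs. symmetric-graded bijectivity (EGA 0_IV 19.5.4), part 2.
`backward`: `B/J` formally smooth over `A`, `J/J²` projective over `B/J`, `Sym^n(J/J²) → J^n/J^(n+1)`
bijective ⟹ `B` is `J`-adically formally smooth over `A`.
Method: `R = B/J^(2k)` is a quotient of the polynomial ring `(B/J)[X_p, p ∈ J/J²]` (`Phi_surj`) and the
kernel of `Phi` is killed by the idempotent `Pi` modulo `vars^(2k)` (`ker_Phi`).
-/
import Mathlib
import Groth.Agent.Lib.AdicSym83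

set_option autoImplicit false
set_option linter.style.haveILetI false
universe u

namespace Groth.Agent.Lib.AdicSym83b
open Groth.Agent.Lib.AdicSym83

noncomputable section

lemma prod_mem_pow' {S : Type*} [CommRing S] (I : Ideal S) {κ : Type*} [Fintype κ] (x : κ → S)
    (hx : ∀ i, x i ∈ I) : ∏ i, x i ∈ I ^ Fintype.card κ := by
  have := Ideal.prod_mem_prod (s := Finset.univ) (I := fun _ : κ => I) (x := x) (fun i _ => hx i)
  rwa [Finset.prod_const, Finset.card_univ] at this

section Abs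
open Groth.Agent.S3820 Groth.Agent.S3817
variable {B : Type u} [CommRing B] (J : Ideal B)
variable (R : Type u) [CommRing R] [Algebra B R] [Algebra (B ⧸ J) R]
variable (m : ℕ)

/-- the image of `J` in `R`. -/
abbrev JR : Ideal R := J.map (algebraMap B R)

lemma JR_pow (d : ℕ) : (JR J R) ^ d = (J ^ d).map (algebraMap B R) := (Ideal.map_pow _ _ _).symm

lemma mkR_mem_pow (d : ℕ) (y : B) (hy : y ∈ J ^ d) : algebraMap B R y ∈ (JR J R) ^ d := by
  rw [JR_pow]
  exact Ideal.mem_map_of_mem _ hy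

variable (hsurj : Function.Surjective (algebraMap B R))
  (hker : RingHom.ker (algebraMap B R) = J ^ m)

include hsurj hker in
lemma mem_pow_of_mkR_mem (d : ℕ) (hd : d ≤ m) (y : B) (hy : algebraMap B R y ∈ (JR J R) ^ d) :
    y ∈ J ^ d := by
  rw [JR_pow, Ideal.mem_map_iff_of_surjective _ hsurj] at hy
  obtain ⟨y', hy', e⟩ := hy
  have h1 : y - y' ∈ J ^ m := by
    rw [← hker, RingHom.mem_ker, map_sub, e, sub_self]
  have h2 := Ideal.pow_le_pow_right hd h1
  have := Ideal.add_mem _ h2 hy'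
  rwa [sub_add_cancel] at this

include hker in
lemma JR_pow_m : (JR J R) ^ m = ⊥ := by
  rw [JR_pow, Ideal.map_eq_bot_iff_le_ker, hker]

variable (hsec : ∀ b : B, algebraMap (B ⧸ J) R (Ideal.Quotient.mk J b) - algebraMap B R b ∈ JR J R)

/-- chosen lifts. -/
def s0 : J.Cotangent → R := fun q => algebraMap B R (sec J q : B)

lemma s0_mem (q : J.Cotangent) : s0 J R q ∈ JR J R := Ideal.mem_map_of_mem _ (sec J q).2

include hsec in
lemma lc_spec (f : J.Cotangent →₀ (B ⧸ J)) : ∀ j : ↥J,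
    J.toCotangent j = Finsupp.linearCombination (B ⧸ J) id f →
      Finsupp.linearCombination (B ⧸ J) (s0 J R) f - algebraMap B R (j : B) ∈ (JR J R) ^ 2 := by
  induction f using Finsupp.induction_linear with
  | zero =>
    intro j hj
    rw [map_zero, zero_sub, neg_mem_iff]
    rw [map_zero, Ideal.toCotangent_eq_zero] at hj
    exact mkR_mem_pow J R 2 _ hj
  | add f g hf hg =>
    intro j hj
    obtain ⟨jf, hjf⟩ := J.toCotangent_surjective (Finsupp.linearCombination (B ⧸ J) id f)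
    have h1 := hf jf hjf
    have h2 := hg (j - jf) (by rw [map_sub, hj, hjf, map_add, add_sub_cancel_left])
    have := Ideal.add_mem _ h1 h2
    convert this using 1
    rw [map_add, Submodule.coe_sub, map_sub]
    ring
  | single q c =>
    intro j hj
    obtain ⟨b, rfl⟩ := Ideal.Quotient.mk_surjective c
    simp only [Finsupp.linearCombination_single, id] at hj ⊢
    have h1 : (algebraMap (B ⧸ J) R (Ideal.Quotient.mk J b) - algebraMap B R b) * s0 J R q ∈
        (JR J R) ^ 2 := mul_mem_sq _ (hsec b) (s0_mem J R q)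
    have h2 : b * (sec J q : B) - (j : B) ∈ J ^ 2 := by
      have hb : b * (sec J q : B) ∈ J := J.mul_mem_left b (sec J q).2
      have := (Ideal.toCotangent_eq J (x := ⟨b * (sec J q : B), hb⟩) (y := j)).mp (by
        rw [hj, mk_smul' J]
        conv_rhs => rw [← sec_spec J q, ← map_smul]
        rfl)
      exact this
    have h3 := mkR_mem_pow J R 2 _ h2
    have := Ideal.add_mem _ h1 h3
    convert this using 1
    rw [Algebra.smul_def, map_sub, map_mul]
    unfold s0
    ring

variable (σ : J.Cotangent →ₗ[B ⧸ J] (J.Cotangent →₀ (B ⧸ J)))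
  (hσ : ∀ p, Finsupp.linearCombination (B ⧸ J) id (σ p) = p)

/-- the linear section into `R`. -/
def sL : J.Cotangent →ₗ[B ⧸ J] R := (Finsupp.linearCombination (B ⧸ J) (s0 J R)).comp σ

include hsec hσ in
lemma sL_spec (j : ↥J) : sL J R σ (J.toCotangent j) - algebraMap B R (j : B) ∈ (JR J R) ^ 2 :=
  lc_spec J R hsec (σ (J.toCotangent j)) j (hσ _).symm

include hsec hσ in
lemma sL_mem (p : J.Cotangent) : sL J R σ p ∈ JR J R := by
  obtain ⟨j, rfl⟩ := J.toCotangent_surjective p
  have h1 := sq_le_self _ (sL_spec J R hsec σ hσ j)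
  have h2 : algebraMap B R (j : B) ∈ JR J R := Ideal.mem_map_of_mem _ j.2
  have := Ideal.add_mem _ h1 h2
  rwa [sub_add_cancel] at this

/-- the comparison map. -/
def Phi : MvPolynomial J.Cotangent (B ⧸ J) →ₐ[B ⧸ J] R := MvPolynomial.aeval (sL J R σ)

lemma Phi_X (p : J.Cotangent) : Phi J R σ (MvPolynomial.X p) = sL J R σ p := by
  unfold Phi
  rw [MvPolynomial.aeval_X]

lemma Phi_C (c : B ⧸ J) : Phi J R σ (MvPolynomial.C c) = algebraMap (B ⧸ J) R c := by
  unfold Phi
  rw [MvPolynomial.aeval_C]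

include hsec hσ in
lemma Phi_vars_pow (d : ℕ) (g : MvPolynomial J.Cotangent (B ⧸ J))
    (hg : g ∈ (MvPolynomial.idealOfVars J.Cotangent (B ⧸ J)) ^ d) :
    Phi J R σ g ∈ (JR J R) ^ d := by
  refine map_pow_mem (Phi J R σ).toRingHom _ (JR J R) ?_ d g hg
  intro x hx
  have : MvPolynomial.idealOfVars J.Cotangent (B ⧸ J) ≤ (JR J R).comap (Phi J R σ).toRingHom := by
    apply Ideal.span_le.mpr
    rintro _ ⟨p, rfl⟩
    change Phi J R σ (MvPolynomial.X p) ∈ JR J R
    rw [Phi_X]
    exact sL_mem J R hsec σ hσ p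
  exact this hx

include hsec hσ in
lemma Phi_prod {κ : Type*} [Fintype κ] (x : κ → ↥J) :
    Phi J R σ (∏ i, MvPolynomial.X (J.toCotangent (x i))) - algebraMap B R (∏ i, (x i : B)) ∈
      (JR J R) ^ (Fintype.card κ + 1) := by
  rw [map_prod, map_prod]
  have h := prod_congr_mod' (JR J R) Finset.univ (fun i => Phi J R σ (MvPolynomial.X (J.toCotangent (x i))))
    (fun i => algebraMap B R (x i : B))
    (fun i _ => by rw [Phi_X]; exact sL_mem J R hsec σ hσ _)
    (fun i _ => Ideal.mem_map_of_mem _ (x i).2)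
    (fun i _ => by rw [Phi_X]; exact sL_spec J R hsec σ hσ (x i))
  rwa [Finset.card_univ] at h

include hsec hσ in
lemma Phi_step (d : ℕ) (y : B) (hy : y ∈ J ^ d) :
    ∃ f ∈ (MvPolynomial.idealOfVars J.Cotangent (B ⧸ J)) ^ d,
      algebraMap B R y - Phi J R σ f ∈ (JR J R) ^ (d + 1) := by
  have hy' := pow_le_span_PZ J d hy
  clear hy
  induction hy' using Submodule.span_induction with
  | mem y h =>
    obtain ⟨x, rfl⟩ := h
    refine ⟨∏ k, MvPolynomial.X (J.toCotangent (x k)), ?_, ?_⟩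
    · have := prod_mem_pow' (MvPolynomial.idealOfVars J.Cotangent (B ⧸ J))
        (fun k => (MvPolynomial.X (J.toCotangent (x k)) : MvPolynomial J.Cotangent (B ⧸ J)))
        (fun k => Ideal.subset_span ⟨_, rfl⟩)
      rwa [Fintype.card_fin] at this
    · have := Phi_prod J R hsec σ hσ x
      rw [Fintype.card_fin] at this
      rw [← neg_mem_iff, neg_sub]
      exact this
  | zero => exact ⟨0, zero_mem _, by simp⟩
  | add y z _ _ hy hz =>
    obtain ⟨f, hf1, hf2⟩ := hy
    obtain ⟨g, hg1, hg2⟩ := hz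
    refine ⟨f + g, Ideal.add_mem _ hf1 hg1, ?_⟩
    have := Ideal.add_mem _ hf2 hg2
    convert this using 1
    rw [map_add, map_add]
    ring
  | smul b y _ hy =>
    obtain ⟨f, hf1, hf2⟩ := hy
    refine ⟨MvPolynomial.C (Ideal.Quotient.mk J b) * f, Ideal.mul_mem_left _ _ hf1, ?_⟩
    have h1 := Ideal.mul_mem_left _ (algebraMap B R b) hf2
    have h2 := mul_mem_pow_succ (JR J R) d (hsec b) (Phi_vars_pow J R hsec σ hσ d f hf1)
    have := Ideal.sub_mem _ h1 h2
    convert this using 1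
    rw [smul_eq_mul, map_mul, map_mul, Phi_C]
    ring

include hsurj hker hsec hσ in
lemma Phi_surj : Function.Surjective (Phi J R σ) := by
  have key : ∀ d, d ≤ m → ∀ r ∈ (JR J R) ^ (m - d), r ∈ (Phi J R σ).range := by
    intro d
    induction d with
    | zero =>
      intro _ r hr
      rw [Nat.sub_zero, JR_pow_m J R m hker, Ideal.mem_bot] at hr
      rw [hr]
      exact zero_mem _
    | succ d ih =>
      intro hd r hr
      rw [JR_pow, Ideal.mem_map_iff_of_surjective _ hsurj] at hr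
      obtain ⟨y, hy, rfl⟩ := hr
      obtain ⟨f, _, hf2⟩ := Phi_step J R hsec σ hσ (m - (d + 1)) y hy
      have e : m - (d + 1) + 1 = m - d := by omega
      rw [e] at hf2
      obtain ⟨f', hf'⟩ := ih (by omega) _ hf2
      refine ⟨f' + f, ?_⟩
      rw [map_add]
      change Phi J R σ f' + Phi J R σ f = _
      have : Phi J R σ f' = algebraMap B R y - Phi J R σ f := hf'
      rw [this, sub_add_cancel]
  intro r
  have := key m le_rfl r (by rw [Nat.sub_self, pow_zero, Ideal.one_eq_top]; trivial)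
  exact this

end Abs

section PiSec
open Groth.Agent.S3820 Groth.Agent.S3817
variable {B : Type u} [CommRing B] (J : Ideal B)
variable (σ : J.Cotangent →ₗ[B ⧸ J] (J.Cotangent →₀ (B ⧸ J)))
  (hσ : ∀ p, Finsupp.linearCombination (B ⧸ J) id (σ p) = p)

/-- the idempotent endomorphism of the polynomial ring. -/
def Pi : MvPolynomial J.Cotangent (B ⧸ J) →ₐ[B ⧸ J] MvPolynomial J.Cotangent (B ⧸ J) :=
  MvPolynomial.aeval (fun p => ell σ p)

lemma Pi_X (p : J.Cotangent) : Pi J σ (MvPolynomial.X p) = ell σ p := by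
  unfold Pi
  rw [MvPolynomial.aeval_X]

lemma Pi_C (c : B ⧸ J) : Pi J σ (MvPolynomial.C c) = MvPolynomial.C c := by
  unfold Pi
  rw [MvPolynomial.aeval_C]
  rfl

lemma Pi_vars_pow (d : ℕ) (g : MvPolynomial J.Cotangent (B ⧸ J))
    (hg : g ∈ (MvPolynomial.idealOfVars J.Cotangent (B ⧸ J)) ^ d) :
    Pi J σ g ∈ (MvPolynomial.idealOfVars J.Cotangent (B ⧸ J)) ^ d := by
  refine map_pow_mem (Pi J σ).toRingHom _ _ ?_ d g hg
  intro x hx
  have : MvPolynomial.idealOfVars J.Cotangent (B ⧸ J) ≤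
      (MvPolynomial.idealOfVars J.Cotangent (B ⧸ J)).comap (Pi J σ).toRingHom := by
    apply Ideal.span_le.mpr
    rintro _ ⟨p, rfl⟩
    change Pi J σ (MvPolynomial.X p) ∈ MvPolynomial.idealOfVars J.Cotangent (B ⧸ J)
    rw [Pi_X]
    exact ell_mem σ p
  exact this hx

include hσ in
lemma aeval_ell {T : Type*} [CommRing T] [Algebra (B ⧸ J) T] (v : J.Cotangent →ₗ[B ⧸ J] T)
    (p : J.Cotangent) : MvPolynomial.aeval v (ell σ p) = v p := by
  have h1 : (MvPolynomial.aeval (R := B ⧸ J) (fun q => v q)).toLinearMap.comp lamX =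
      Finsupp.linearCombination (B ⧸ J) (fun q => v q) := by
    apply Finsupp.lhom_ext'
    intro q
    apply LinearMap.ext_ring
    rw [LinearMap.comp_apply, LinearMap.comp_apply, Finsupp.lsingle_apply, lamX_single,
      LinearMap.comp_apply, Finsupp.lsingle_apply, Finsupp.linearCombination_single, one_smul]
    exact MvPolynomial.aeval_X _ _
  have h2 := LinearMap.congr_fun h1 (σ p)
  rw [LinearMap.comp_apply] at h2
  change MvPolynomial.aeval (fun q => v q) (lamX (σ p)) = _
  have h3 : MvPolynomial.aeval (fun q => v q) (lamX (σ p)) =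
      Finsupp.linearCombination (B ⧸ J) (fun q => v q) (σ p) := h2
  rw [h3]
  have h4 := Finsupp.apply_linearCombination (B ⧸ J) v id (σ p)
  calc Finsupp.linearCombination (B ⧸ J) (fun q => v q) (σ p)
      = Finsupp.linearCombination (B ⧸ J) (v ∘ id) (σ p) := rfl
    _ = v (Finsupp.linearCombination (B ⧸ J) id (σ p)) := h4.symm
    _ = v p := congrArg v (hσ p)

include hσ in
lemma aeval_comp_Pi {T : Type*} [CommRing T] [Algebra (B ⧸ J) T] (v : J.Cotangent →ₗ[B ⧸ J] T)
    (g : MvPolynomial J.Cotangent (B ⧸ J)) :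
    MvPolynomial.aeval v (Pi J σ g) = MvPolynomial.aeval v g := by
  have : (MvPolynomial.aeval (R := B ⧸ J) v).comp (Pi J σ) = MvPolynomial.aeval v := by
    apply MvPolynomial.algHom_ext
    intro p
    rw [AlgHom.comp_apply, Pi_X, aeval_ell J σ hσ v p, MvPolynomial.aeval_X]
  exact AlgHom.congr_fun this g

include hσ in
lemma Pi_Pi (g : MvPolynomial J.Cotangent (B ⧸ J)) : Pi J σ (Pi J σ g) = Pi J σ g :=
  aeval_comp_Pi J σ hσ (ell σ) g

variable (ι : Type u) [Fintype ι] [Nonempty ι]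

attribute [local instance] modC

/-- the map from the symmetric power over `B` to polynomials. -/
def PsiB : SymmetricPower B ι J.Cotangent →ₗ[B] MvPolynomial J.Cotangent (B ⧸ J) :=
  symLift ((PsiM ι σ).restrictScalars B) (fun e ω => by
    change PsiM ι σ (fun i => ω (e i)) = PsiM ι σ ω
    rw [PsiM_apply, PsiM_apply]
    exact Equiv.prod_comp e (fun j => ell σ (ω j)))

lemma PsiB_tprod (ω : ι → J.Cotangent) :
    PsiB J σ ι (SymmetricPower.tprod B ω) = PsiM ι σ ω := symLift_tprod _ _ ω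

lemma PsiB_smul (c : B ⧸ J) (Y : SymmetricPower B ι J.Cotangent) :
    PsiB J σ ι (c • Y) = c • PsiB J σ ι Y := by
  obtain ⟨b, rfl⟩ := Ideal.Quotient.mk_surjective c
  rw [mk_smul' J, mk_smul' J, map_smul]

end PiSec

section VarsInd
open scoped Pointwise
variable {C : Type u} [CommRing C] {P : Type u}

lemma vars_pow_le_span (d : ℕ) : (MvPolynomial.idealOfVars P C) ^ d ≤
    Ideal.span (Set.range (fun p : Fin d → P => ∏ k, (MvPolynomial.X (p k) : MvPolynomial P C))) := by
  induction d with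
  | zero =>
    intro t _
    have : (1 : MvPolynomial P C) ∈
        Set.range (fun p : Fin 0 → P => ∏ k, (MvPolynomial.X (p k) : MvPolynomial P C)) :=
      ⟨fun k => k.elim0, by simp⟩
    have h1 := Ideal.subset_span this
    have := Ideal.mul_mem_left _ t h1
    rwa [mul_one] at this
  | succ n ih =>
    calc (MvPolynomial.idealOfVars P C) ^ (n + 1)
        = (MvPolynomial.idealOfVars P C) ^ n * MvPolynomial.idealOfVars P C := pow_succ _ _
      _ ≤ Ideal.span (Set.range (fun p : Fin n → P =>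
            ∏ k, (MvPolynomial.X (p k) : MvPolynomial P C))) *
          Ideal.span (Set.range (MvPolynomial.X : P → MvPolynomial P C)) :=
        Ideal.mul_mono ih le_rfl
      _ = Ideal.span (Set.range (fun p : Fin n → P =>
            ∏ k, (MvPolynomial.X (p k) : MvPolynomial P C)) *
          Set.range (MvPolynomial.X : P → MvPolynomial P C)) := Ideal.span_mul_span' _ _
      _ ≤ _ := by
        apply Ideal.span_mono
        rintro _ ⟨_, ⟨b, rfl⟩, _, ⟨c, rfl⟩, rfl⟩
        refine ⟨Fin.snoc b c, ?_⟩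
        simp only
        rw [Fin.prod_univ_castSucc]
        simp

variable (ι : Type u) [Fintype ι]

lemma vars_pow_le_span' : (MvPolynomial.idealOfVars P C) ^ (Fintype.card ι) ≤
    Ideal.span (Set.range (fun p : ι → P => ∏ i, (MvPolynomial.X (p i) : MvPolynomial P C))) := by
  refine le_trans (vars_pow_le_span (Fintype.card ι)) ?_
  apply Ideal.span_mono
  rintro _ ⟨p, rfl⟩
  refine ⟨fun i => p (Fintype.equivFin ι i), ?_⟩
  exact Equiv.prod_comp (Fintype.equivFin ι) (fun k => (MvPolynomial.X (p k) : MvPolynomial P C))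

lemma sub_C_mem_vars (h : MvPolynomial P C) :
    h - MvPolynomial.C (MvPolynomial.constantCoeff h) ∈ MvPolynomial.idealOfVars P C := by
  have := (MvPolynomial.mem_pow_idealOfVars_iff' (σ := P) (R := C) 1
    (h - MvPolynomial.C (MvPolynomial.constantCoeff h))).mpr (by
    intro x hx
    have hx0 : x = 0 := by
      rw [Nat.lt_one_iff, Finsupp.degree_eq_zero_iff] at hx
      exact hx
    subst hx0
    rw [MvPolynomial.coeff_sub, MvPolynomial.coeff_zero_C]
    exact sub_self _)
  rwa [pow_one] at this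

lemma vars_pow_induction (Q : MvPolynomial P C → Prop)
    (hprod : ∀ p : ι → P, Q (∏ i, MvPolynomial.X (p i)))
    (hC : ∀ c g, g ∈ (MvPolynomial.idealOfVars P C) ^ (Fintype.card ι) → Q g →
      Q (MvPolynomial.C c * g))
    (hadd : ∀ f g, Q f → Q g → Q (f + g))
    (hhigh : ∀ g ∈ (MvPolynomial.idealOfVars P C) ^ (Fintype.card ι + 1), Q g) :
    ∀ g ∈ (MvPolynomial.idealOfVars P C) ^ (Fintype.card ι), Q g := by
  intro g hg
  have hg' := vars_pow_le_span' ι hg
  have key : g ∈ (MvPolynomial.idealOfVars P C) ^ (Fintype.card ι) ∧ Q g := by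
    clear hg
    induction hg' using Submodule.span_induction with
    | mem g h =>
      obtain ⟨p, rfl⟩ := h
      refine ⟨?_, hprod p⟩
      exact prod_mem_pow' (MvPolynomial.idealOfVars P C)
        (fun i => (MvPolynomial.X (p i) : MvPolynomial P C)) (fun i => Ideal.subset_span ⟨_, rfl⟩)
    | zero => exact ⟨zero_mem _, hhigh 0 (zero_mem _)⟩
    | add f g _ _ hf hg => exact ⟨add_mem hf.1 hg.1, hadd _ _ hf.2 hg.2⟩
    | smul h g _ hg =>
      refine ⟨Ideal.mul_mem_left _ _ hg.1, ?_⟩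
      have e : h • g = MvPolynomial.C (MvPolynomial.constantCoeff h) * g +
          (h - MvPolynomial.C (MvPolynomial.constantCoeff h)) * g := by
        rw [smul_eq_mul]; ring
      rw [e]
      apply hadd
      · exact hC _ _ hg.1 hg.2
      · apply hhigh
        rw [pow_succ']
        exact Ideal.mul_mem_mul (sub_C_mem_vars h) hg.1
  exact key.2

end VarsInd

section Star
open Groth.Agent.S3820 Groth.Agent.S3817
variable {B : Type u} [CommRing B] (J : Ideal B)
variable (R : Type u) [CommRing R] [Algebra B R] [Algebra (B ⧸ J) R]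
variable (m : ℕ)
variable (hsurj : Function.Surjective (algebraMap B R))
  (hker : RingHom.ker (algebraMap B R) = J ^ m)
variable (hsec : ∀ b : B, algebraMap (B ⧸ J) R (Ideal.Quotient.mk J b) - algebraMap B R b ∈ JR J R)
variable (σ : J.Cotangent →ₗ[B ⧸ J] (J.Cotangent →₀ (B ⧸ J)))
  (hσ : ∀ p, Finsupp.linearCombination (B ⧸ J) id (σ p) = p)
variable (ι : Type u) [Fintype ι] [Nonempty ι]

attribute [local instance] modC

lemma cls_eq_zero_iff (n : ℕ) (y : ↥(J ^ n)) : cls J n y = 0 ↔ (y : B) ∈ J ^ (n + 1) := by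
  have := cls_eq_iff J n y 0
  rw [map_zero] at this
  rw [this]
  simp

include hsec hσ in
lemma lem1 : ∀ g ∈ (MvPolynomial.idealOfVars J.Cotangent (B ⧸ J)) ^ (Fintype.card ι),
    ∃ (y : B) (hy : y ∈ J ^ (Fintype.card ι)),
      phiJ J ι (kap J J.Cotangent ι (retr ι g)) = cls J _ ⟨y, hy⟩ ∧
        Phi J R σ g - algebraMap B R y ∈ (JR J R) ^ (Fintype.card ι + 1) := by
  apply vars_pow_induction ι
  · intro p
    refine ⟨zT J ι (sec J ∘ p), zT_mem J ι _, ?_, ?_⟩
    · rw [retr_prod_X, kap_tprod, phiJ_tprod, gmJ_apply, zJ_apply]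
    · rw [zT_apply]
      have := Phi_prod J R hsec σ hσ (sec J ∘ p)
      simp only [Function.comp, sec_spec] at this
      exact this
  · rintro c g hg ⟨y, hy, e1, e2⟩
    obtain ⟨b, rfl⟩ := Ideal.Quotient.mk_surjective c
    refine ⟨b * y, Ideal.mul_mem_left _ _ hy, ?_, ?_⟩
    · rw [← MvPolynomial.smul_eq_C_mul, map_smul, map_smul, mk_smul' J, map_smul, e1, ← map_smul]
      rfl
    · have h1 := mul_mem_pow_succ (JR J R) _ (hsec b)
        (Phi_vars_pow J R hsec σ hσ _ g hg)
      have h2 := Ideal.mul_mem_left _ (algebraMap B R b) e2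
      have := Ideal.add_mem _ h1 h2
      convert this using 1
      rw [map_mul, map_mul, Phi_C]
      ring
  · rintro f g ⟨y, hy, e1, e2⟩ ⟨z, hz, e3, e4⟩
    refine ⟨y + z, Ideal.add_mem _ hy hz, ?_, ?_⟩
    · rw [map_add, map_add, map_add, e1, e3, ← map_add]
      rfl
    · have := Ideal.add_mem _ e2 e4
      convert this using 1
      rw [map_add, map_add]
      ring
  · intro g hg
    refine ⟨0, zero_mem _, ?_, ?_⟩
    · rw [retr_eq_zero ι g hg, map_zero, map_zero]
      symm
      rw [cls_eq_zero_iff]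
      exact zero_mem _
    · rw [map_zero, sub_zero]
      exact Phi_vars_pow J R hsec σ hσ _ g hg

lemma lem3 : ∀ g ∈ (MvPolynomial.idealOfVars J.Cotangent (B ⧸ J)) ^ (Fintype.card ι),
    Pi J σ g - PsiB J σ ι (kap J J.Cotangent ι (retr ι g)) ∈
      (MvPolynomial.idealOfVars J.Cotangent (B ⧸ J)) ^ (Fintype.card ι + 1) := by
  apply vars_pow_induction ι
  · intro p
    rw [retr_prod_X, kap_tprod, PsiB_tprod, PsiM_apply, map_prod]
    simp only [Pi_X, sub_self]
    exact zero_mem _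
  · intro c g _ hg
    rw [← MvPolynomial.smul_eq_C_mul, map_smul, map_smul, map_smul, PsiB_smul, ← smul_sub,
      MvPolynomial.smul_eq_C_mul]
    exact Ideal.mul_mem_left _ _ hg
  · intro f g hf hg
    have := Ideal.add_mem _ hf hg
    convert this using 1
    rw [map_add, map_add, map_add, map_add]
    ring
  · intro g hg
    rw [retr_eq_zero ι g hg, map_zero, map_zero, sub_zero]
    exact Pi_vars_pow J σ _ g hg

include hsurj hker hsec hσ in
lemma star (hinj : Function.Injective (phiJ J ι)) (hlt : Fintype.card ι < m)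
    (g : MvPolynomial J.Cotangent (B ⧸ J))
    (hg : g ∈ (MvPolynomial.idealOfVars J.Cotangent (B ⧸ J)) ^ (Fintype.card ι))
    (hΦ : Phi J R σ g ∈ (JR J R) ^ (Fintype.card ι + 1)) :
    Pi J σ g ∈ (MvPolynomial.idealOfVars J.Cotangent (B ⧸ J)) ^ (Fintype.card ι + 1) := by
  obtain ⟨y, hy, e1, e2⟩ := lem1 J R hsec σ hσ ι g hg
  have h1 : algebraMap B R y ∈ (JR J R) ^ (Fintype.card ι + 1) := by
    have := Ideal.sub_mem _ hΦ e2
    rwa [sub_sub_cancel] at this
  have h2 := mem_pow_of_mkR_mem J R m hsurj hker _ hlt y h1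
  have h3 : cls J _ ⟨y, hy⟩ = 0 := (cls_eq_zero_iff J _ _).mpr h2
  rw [h3] at e1
  have h4 : kap J J.Cotangent ι (retr ι g) = 0 := hinj (by rw [e1, map_zero])
  have h5 := lem3 J σ ι g hg
  rwa [h4, map_zero, sub_zero] at h5

include hsurj hker hsec hσ in
lemma star0 (hm : 1 ≤ m) (g : MvPolynomial J.Cotangent (B ⧸ J))
    (hΦ : Phi J R σ g ∈ JR J R) :
    Pi J σ g ∈ MvPolynomial.idealOfVars J.Cotangent (B ⧸ J) := by
  have h1 := sub_C_mem_vars g
  have h2 := Phi_vars_pow J R hsec σ hσ 1 _ (by rw [pow_one]; exact h1)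
  rw [pow_one, map_sub, Phi_C] at h2
  have h3 : algebraMap (B ⧸ J) R (MvPolynomial.constantCoeff g) ∈ JR J R := by
    have := Ideal.sub_mem _ hΦ h2
    rwa [sub_sub_cancel] at this
  obtain ⟨b, hb⟩ := Ideal.Quotient.mk_surjective (MvPolynomial.constantCoeff g)
  rw [← hb] at h3
  have h4 : algebraMap B R b ∈ (JR J R) ^ 1 := by
    rw [pow_one]
    have := Ideal.sub_mem _ h3 (hsec b)
    rwa [sub_sub_cancel] at this
  have h5 := mem_pow_of_mkR_mem J R m hsurj hker 1 hm b h4
  rw [pow_one] at h5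
  have h6 : MvPolynomial.constantCoeff g = 0 := by
    rw [← hb]
    exact Ideal.Quotient.eq_zero_iff_mem.mpr h5
  rw [h6, map_zero, sub_zero] at h1
  have := Pi_vars_pow J σ 1 g (by rw [pow_one]; exact h1)
  rwa [pow_one] at this

include hsurj hker hsec hσ in
lemma ker_Phi (hinj : ∀ (ι : Type u) [Fintype ι] [Nonempty ι], Function.Injective (phiJ J ι))
    (f : MvPolynomial J.Cotangent (B ⧸ J)) (hf : Phi J R σ f = 0) :
    Pi J σ f ∈ (MvPolynomial.idealOfVars J.Cotangent (B ⧸ J)) ^ m := by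
  have hPP : Phi J R σ (Pi J σ f) = 0 := by
    unfold Phi at hf ⊢
    rw [aeval_comp_Pi J σ hσ (sL J R σ) f, hf]
  have key : ∀ d, d ≤ m → Pi J σ f ∈ (MvPolynomial.idealOfVars J.Cotangent (B ⧸ J)) ^ d := by
    intro d
    induction d with
    | zero =>
      intro _
      rw [pow_zero, Ideal.one_eq_top]
      trivial
    | succ d ih =>
      intro hd
      have ih' := ih (by omega)
      rcases Nat.eq_zero_or_pos d with h0 | hpos
      · subst h0
        have := star0 J R m hsurj hker hsec σ hσ (by omega) (Pi J σ f) (by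
          rw [hPP]; exact zero_mem _)
        rw [Pi_Pi J σ hσ] at this
        rwa [zero_add, pow_one]
      · haveI : Nonempty (ULift.{u} (Fin d)) := ⟨⟨⟨0, hpos⟩⟩⟩
        have hc : Fintype.card (ULift.{u} (Fin d)) = d := by
          rw [Fintype.card_ulift, Fintype.card_fin]
        have := star J R m hsurj hker hsec σ hσ (ULift.{u} (Fin d)) (hinj _) (by omega)
          (Pi J σ f) (by rw [hc]; exact ih') (by rw [hPP]; exact zero_mem _)
        rw [Pi_Pi J σ hσ, hc] at this
        exact this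
  exact key m le_rfl

end Star

section Backward
open Groth.Agent.S3820 Groth.Agent.S3817
variable {A B : Type u} [CommRing A] [CommRing B] [Algebra A B] (J : Ideal B)

lemma phiJ_inj_of_symGr (h : PP16.SymGrBijective B J) (ι : Type u) [Fintype ι] [Nonempty ι] :
    Function.Injective (phiJ J ι) := by
  obtain ⟨φ, h1, h2⟩ := h ι
  have : φ = phiJ J ι := by
    apply LinearMap.ext_on (SymmetricPower.span_tprod_eq_top B ι J.Cotangent)
    rintro _ ⟨ω, rfl⟩
    have e : ω = fun i => J.toCotangent (sec J (ω i)) := funext fun i => (sec_spec J _).symm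
    rw [e, h1, phiJ_cl]
  rw [← this]
  exact h2.1

lemma exists_section_pow [Algebra.FormallySmooth A (B ⧸ J)] (m : ℕ) (hm : 1 ≤ m) :
    ∃ τ : B ⧸ J →ₐ[A] B ⧸ J ^ m, ∀ b : B,
      τ (Ideal.Quotient.mk J b) - algebraMap B (B ⧸ J ^ m) b ∈ J.map (algebraMap B (B ⧸ J ^ m)) := by
  have hle : J ^ m ≤ J := Ideal.pow_le_self (by omega)
  let q : B ⧸ J ^ m →ₐ[A] B ⧸ J := Ideal.Quotient.factorₐ A hle
  have hq : ∀ b : B, q (Ideal.Quotient.mk _ b) = Ideal.Quotient.mk J b := fun b => rfl
  have hsurj : Function.Surjective q := by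
    intro c
    obtain ⟨b, rfl⟩ := Ideal.Quotient.mk_surjective c
    exact ⟨Ideal.Quotient.mk _ b, rfl⟩
  have hkerle : RingHom.ker (q : B ⧸ J ^ m →+* B ⧸ J) ≤ J.map (algebraMap B (B ⧸ J ^ m)) := by
    intro x hx
    obtain ⟨y, rfl⟩ := Ideal.Quotient.mk_surjective x
    rw [RingHom.mem_ker] at hx
    have hy : y ∈ J := by
      rw [← Ideal.Quotient.eq_zero_iff_mem, ← hq y]
      exact hx
    exact Ideal.mem_map_of_mem _ hy
  have hnil : IsNilpotent (RingHom.ker (q : B ⧸ J ^ m →+* B ⧸ J)) := by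
    refine ⟨m, ?_⟩
    rw [Ideal.zero_eq_bot, eq_bot_iff]
    refine le_trans (Ideal.pow_right_mono hkerle m) ?_
    rw [← Ideal.map_pow, Ideal.map_le_iff_le_comap]
    intro x hx
    rw [Ideal.mem_comap, Ideal.mem_bot]
    exact Ideal.Quotient.eq_zero_iff_mem.mpr hx
  refine ⟨Algebra.FormallySmooth.liftOfSurjective (AlgHom.id A (B ⧸ J)) q hsurj hnil, fun b => ?_⟩
  apply hkerle
  rw [RingHom.mem_ker, map_sub]
  have h1 := Algebra.FormallySmooth.liftOfSurjective_apply (AlgHom.id A (B ⧸ J)) q hsurj hnil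
    (Ideal.Quotient.mk J b)
  change q _ - q _ = 0
  rw [h1]
  exact sub_self _

lemma backward_aux [Algebra.FormallySmooth A (B ⧸ J)] [Module.Projective (B ⧸ J) J.Cotangent]
    (R : Type u) [CommRing R] [Algebra A R] [Algebra B R] [IsScalarTower A B R]
    (k : ℕ) (hk1 : 1 ≤ k)
    (hsurj : Function.Surjective (algebraMap B R))
    (hker : RingHom.ker (algebraMap B R) = J ^ (2 * k))
    (τ : B ⧸ J →ₐ[A] R)
    (hτ : ∀ b : B, τ (Ideal.Quotient.mk J b) - algebraMap B R b ∈ JR J R)
    (σ : J.Cotangent →ₗ[B ⧸ J] (J.Cotangent →₀ (B ⧸ J)))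
    (hσ : ∀ p, Finsupp.linearCombination (B ⧸ J) id (σ p) = p)
    (hinj : ∀ (ι : Type u) [Fintype ι] [Nonempty ι], Function.Injective (phiJ J ι))
    (E : Type u) [CommRing E] [Algebra A E] (I : Ideal E) (hI : I ^ 2 = ⊥)
    (ψ' : R →ₐ[A] E ⧸ I) (hψ : ∀ x ∈ J ^ k, ψ' (algebraMap B R x) = 0) :
    ∃ χR : R →ₐ[A] E, (Ideal.Quotient.mkₐ A I).comp χR = ψ' := by
  letI : Algebra (B ⧸ J) R := τ.toRingHom.toAlgebra
  haveI : IsScalarTower A (B ⧸ J) R := IsScalarTower.of_algebraMap_eq (fun a => (τ.commutes a).symm)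
  have hsec : ∀ b : B, algebraMap (B ⧸ J) R (Ideal.Quotient.mk J b) - algebraMap B R b ∈ JR J R := hτ
  obtain ⟨α, hα⟩ := Algebra.FormallySmooth.exists_lift I ⟨2, hI⟩ (ψ'.comp τ)
  letI : Algebra (B ⧸ J) E := α.toRingHom.toAlgebra
  haveI : IsScalarTower A (B ⧸ J) E := IsScalarTower.of_algebraMap_eq (fun a => (α.commutes a).symm)
  let ψC : R →ₐ[B ⧸ J] E ⧸ I :=
    { ψ'.toRingHom with
      commutes' := fun c => by
        have := AlgHom.congr_fun hα c
        exact this.symm }
  have hψC : ∀ r, ψC r = ψ' r := fun r => rfl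
  obtain ⟨β, hβ⟩ := Module.projective_lifting_property (Ideal.Quotient.mkₐ (B ⧸ J) I).toLinearMap
    (ψC.toLinearMap.comp (sL J R σ)) (Ideal.Quotient.mkₐ_surjective (B ⧸ J) I)
  have hβ' : ∀ p, Ideal.Quotient.mk I (β p) = ψ' (sL J R σ p) := fun p => LinearMap.congr_fun hβ p
  let T : MvPolynomial J.Cotangent (B ⧸ J) →ₐ[B ⧸ J] E := MvPolynomial.aeval β
  have hT : ∀ f, Ideal.Quotient.mk I (T f) = ψ' (Phi J R σ f) := by
    have : (Ideal.Quotient.mkₐ (B ⧸ J) I).comp T = ψC.comp (Phi J R σ) := by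
      apply MvPolynomial.algHom_ext
      intro p
      rw [AlgHom.comp_apply, AlgHom.comp_apply, Phi_X]
      change Ideal.Quotient.mk I (MvPolynomial.aeval β (MvPolynomial.X p)) = ψ' _
      rw [MvPolynomial.aeval_X, hβ']
    intro f
    exact AlgHom.congr_fun this f
  -- `T` kills `vars ^ (2k)`
  let JE : Ideal (E ⧸ I) := (JR J R).map ψ'.toRingHom
  have hJE : JE ^ k = ⊥ := by
    rw [← Ideal.map_pow, JR_pow, Ideal.map_map, eq_bot_iff, Ideal.map_le_iff_le_comap]
    intro x hx
    rw [Ideal.mem_comap, Ideal.mem_bot]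
    exact hψ x hx
  let K : Ideal E := JE.comap (Ideal.Quotient.mk I)
  have hK : K ^ k ≤ I := by
    intro x hx
    have := map_pow_mem (Ideal.Quotient.mk I) K JE (fun x hx => hx) k x hx
    rw [hJE, Ideal.mem_bot] at this
    exact Ideal.Quotient.eq_zero_iff_mem.mp this
  have hK2 : K ^ (2 * k) = ⊥ := by
    rw [eq_bot_iff, mul_comm, pow_mul, ← hI]
    exact Ideal.pow_right_mono hK 2
  have hTX : ∀ x ∈ MvPolynomial.idealOfVars J.Cotangent (B ⧸ J), T.toRingHom x ∈ K := by
    have : MvPolynomial.idealOfVars J.Cotangent (B ⧸ J) ≤ K.comap T.toRingHom := by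
      apply Ideal.span_le.mpr
      rintro _ ⟨p, rfl⟩
      change Ideal.Quotient.mk I (MvPolynomial.aeval β (MvPolynomial.X p)) ∈ JE
      rw [MvPolynomial.aeval_X, hβ']
      exact Ideal.mem_map_of_mem _ (sL_mem J R hsec σ hσ p)
    exact fun x hx => this hx
  have hTvars : ∀ g ∈ (MvPolynomial.idealOfVars J.Cotangent (B ⧸ J)) ^ (2 * k), T g = 0 := by
    intro g hg
    have := map_pow_mem T.toRingHom _ K hTX (2 * k) g hg
    rw [hK2, Ideal.mem_bot] at this
    exact this
  have hkerle : RingHom.ker ((Phi J R σ).restrictScalars A).toRingHom ≤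
      RingHom.ker (T.restrictScalars A).toRingHom := by
    intro f hf
    rw [RingHom.mem_ker] at hf ⊢
    have h1 := ker_Phi J R (2 * k) hsurj hker hsec σ hσ hinj f hf
    have h2 := hTvars _ h1
    have h3 := aeval_comp_Pi J σ hσ β f
    change T f = 0
    rw [← h2]
    exact h3.symm
  have hΦsurj : Function.Surjective ((Phi J R σ).restrictScalars A) :=
    Phi_surj J R (2 * k) hsurj hker hsec σ hσ
  refine ⟨AlgHom.liftOfSurjective _ hΦsurj (T.restrictScalars A) hkerle, ?_⟩
  ext r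
  obtain ⟨f, rfl⟩ := hΦsurj r
  rw [AlgHom.comp_apply, AlgHom.liftOfSurjective_apply]
  exact hT f

theorem backward [Algebra.FormallySmooth A (B ⧸ J)] (hproj : Module.Projective (B ⧸ J) J.Cotangent)
    (hsym : PP16.SymGrBijective B J) : CAlgX.IsAdicFormallySmooth A B J := by
  intro E _ _ I hI ψ hk
  obtain ⟨k, hk⟩ := hk
  obtain ⟨σ, hσ⟩ := Module.projective_def'.mp hproj
  obtain ⟨τ, hτ⟩ := exists_section_pow (A := A) J (2 * (k + 1)) (by omega)
  have hkill : ∀ x ∈ J ^ (2 * (k + 1)), ψ x = 0 := fun x hx =>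
    hk x (Ideal.pow_le_pow_right (by omega) hx)
  obtain ⟨χR, hχR⟩ := backward_aux J (B ⧸ J ^ (2 * (k + 1))) (k + 1) (by omega)
    Ideal.Quotient.mk_surjective (Ideal.mk_ker) τ hτ σ (fun p => LinearMap.congr_fun hσ p)
    (fun ι _ _ => phiJ_inj_of_symGr J hsym ι) E I hI
    (Ideal.Quotient.liftₐ (J ^ (2 * (k + 1))) ψ hkill)
    (fun x hx => hk x (Ideal.pow_le_pow_right (by omega) hx))
  refine ⟨χR.comp (Ideal.Quotient.mkₐ A (J ^ (2 * (k + 1)))), ?_⟩
  rw [← AlgHom.comp_assoc, hχR]
  ext b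
  rfl

end Backward

end

end Groth.Agent.Lib.AdicSym83b
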