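import Mathlib.RingTheory.Ideal.Operations
import Mathlib.RingTheory.Finiteness.Ideal
import Mathlib.Algebra.Module.Submodule.Pointwise

/-!
# Limits of adic towers of modules (helper22)

Let `J` be a finitely generated ideal of `Λ` and `(M_n)` a tower of `Λ`-modules with surjective
transition maps `M_{n+1} → M_n` whose kernel is contained in `J^{n+1} M_{n+1}`, with `J^{n+1} M_n = 0`.
If `L` is the limit of the tower, then `L → M_n` is surjective with kernel `J^{n+1} L`.
-/

set_option autoImplicit false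

namespace Groth.Agent.Lib.AdicTower22

section smul

variable {Λ : Type*} [CommRing Λ] {M : Type*} [AddCommGroup M] [Module Λ M]

/-- Elements of `(g_1, …, g_s) N` are combinations `∑ g_k w_k` with `w_k ∈ N`. -/
theorem exists_sum_of_mem_span_smul {s : ℕ} (g : Fin s → Λ) (N : Submodule Λ M) (y : M)
    (hy : y ∈ Ideal.span (Set.range g) • N) :
    ∃ w : Fin s → M, (∀ k, w k ∈ N) ∧ y = ∑ k, g k • w k := by
  refine Submodule.smul_induction_on hy ?_ ?_
  · intro r hr m hm
    obtain ⟨c, rfl⟩ := (Submodule.mem_span_range_iff_exists_fun Λ).1 hr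
    refine ⟨fun k => c k • m, fun k => N.smul_mem _ hm, ?_⟩
    rw [Finset.sum_smul]
    refine Finset.sum_congr rfl (fun k _ => ?_)
    rw [smul_smul, smul_eq_mul, mul_comm]
  · rintro a b ⟨w, hw, rfl⟩ ⟨w', hw', rfl⟩
    refine ⟨fun k => w k + w' k, fun k => N.add_mem (hw k) (hw' k), ?_⟩
    rw [← Finset.sum_add_distrib]
    exact Finset.sum_congr rfl (fun k _ => (smul_add _ _ _).symm)

end smul

variable {Λ : Type*} [CommRing Λ] (J : Ideal Λ)
  {L : Type*} [AddCommGroup L] [Module Λ L]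
  {M : ℕ → Type*} [∀ n, AddCommGroup (M n)] [∀ n, Module Λ (M n)]
  (π : ∀ n, L →ₗ[Λ] M n) (tr : ∀ (a b : ℕ), a ≤ b → (M b →ₗ[Λ] M a))

/-- The hypotheses on the tower. -/
structure IsAdicLimit : Prop where
  tr_id : ∀ a (x : M a), tr a a le_rfl x = x
  tr_comp : ∀ (a b c : ℕ) (hab : a ≤ b) (hbc : b ≤ c) (x : M c),
    tr a b hab (tr b c hbc x) = tr a c (hab.trans hbc) x
  comp : ∀ (a b : ℕ) (h : a ≤ b) (x : L), tr a b h (π b x) = π a x
  glue : ∀ x : ∀ n, M n, (∀ n, tr n (n + 1) (Nat.le_succ n) (x (n + 1)) = x n) →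
    ∃ y : L, ∀ n, π n y = x n
  sep : ∀ y : L, (∀ n, π n y = 0) → y = 0
  surj : ∀ n, Function.Surjective (tr n (n + 1) (Nat.le_succ n))
  ker : ∀ n, LinearMap.ker (tr n (n + 1) (Nat.le_succ n)) ≤ J ^ (n + 1) • ⊤
  kill : ∀ n (a : Λ), a ∈ J ^ (n + 1) → ∀ m : M n, a • m = 0

variable {J π tr}

namespace IsAdicLimit

variable (h : IsAdicLimit J π tr)

include h

/-- The projections from the limit are surjective. -/
theorem surjective_π (n : ℕ) : Function.Surjective (π n) := by
  intro y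
  have step : ∀ (d : ℕ) (x : M (n + d)), ∃ x' : M (n + (d + 1)),
      tr (n + d) (n + (d + 1)) (Nat.le_succ _) x' = x := fun d x => h.surj (n + d) x
  choose next hnext using step
  let up : ∀ d, M (n + d) := fun d =>
    Nat.rec (motive := fun d => M (n + d)) y (fun d x => next d x) d
  have hup : ∀ d, tr (n + d) (n + (d + 1)) (Nat.le_succ _) (up (d + 1)) = up d :=
    fun d => hnext d _
  have hup0 : ∀ d, tr n (n + d) (Nat.le_add_right n d) (up d) = y := by
    intro d
    induction d with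
    | zero => exact h.tr_id n y
    | succ d ih =>
      rw [← ih, ← hup d, h.tr_comp]
  obtain ⟨z, hz⟩ := h.glue (fun k => tr k (n + k) (Nat.le_add_left k n) (up k)) (fun k => by
    change tr k (k + 1) _ (tr (k + 1) (n + (k + 1)) _ (up (k + 1))) = tr k (n + k) _ (up k)
    rw [h.tr_comp, ← hup k, h.tr_comp])
  refine ⟨z, ?_⟩
  rw [hz n]
  exact hup0 n

/-- `J^{n+1}` kills `M_n`, submodule form. -/
theorem smul_top_eq_bot (n : ℕ) : (J ^ (n + 1) • ⊤ : Submodule Λ (M n)) = ⊥ := by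
  rw [eq_bot_iff, Submodule.smul_le]
  intro a ha m _
  rw [Submodule.mem_bot]
  exact h.kill n a ha m

theorem π_eq_zero_of_mem (n : ℕ) (y : L) (hy : y ∈ (J ^ (n + 1) • ⊤ : Submodule Λ L)) :
    π n y = 0 := by
  have h1 : π n y ∈ (J ^ (n + 1) • ⊤ : Submodule Λ L).map (π n) := Submodule.mem_map_of_mem hy
  rw [Submodule.map_smul''] at h1
  have h2 : J ^ (n + 1) • Submodule.map (π n) ⊤ ≤ (⊥ : Submodule Λ (M n)) :=
    (Submodule.smul_mono le_rfl le_top).trans (h.smul_top_eq_bot n).le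
  exact (Submodule.mem_bot Λ).1 (h2 h1)

/-- The improvement step of the series construction. -/
theorem exists_step {s : ℕ} (g : Fin s → Λ) (n : ℕ)
    (hg : Ideal.span (Set.range g) = J ^ (n + 1)) (x : L) (d : ℕ) (z : Fin s → L)
    (hz : π (n + d) (x - ∑ k, g k • z k) = 0) :
    ∃ u : Fin s → L, (∀ k, u k ∈ (J ^ d • ⊤ : Submodule Λ L)) ∧
      π (n + d + 1) (x - ∑ k, g k • (z k + u k)) = 0 := by
  set e := x - ∑ k, g k • z k with he
  have he' : π (n + d + 1) e ∈ LinearMap.ker (tr (n + d) (n + d + 1) (Nat.le_succ _)) := by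
    rw [LinearMap.mem_ker, h.comp]
    exact hz
  have h1 : π (n + d + 1) e ∈ (J ^ (n + d + 1) • ⊤ : Submodule Λ (M (n + d + 1))) :=
    h.ker (n + d) he'
  have h2 : (J ^ (n + d + 1) • ⊤ : Submodule Λ (M (n + d + 1))) =
      Ideal.span (Set.range g) • (J ^ d • ⊤ : Submodule Λ (M (n + d + 1))) := by
    rw [hg, ← Submodule.mul_smul, ← pow_add]
    congr 2
    omega
  rw [h2] at h1
  obtain ⟨w, hw, hsum⟩ := exists_sum_of_mem_span_smul g _ _ h1
  -- lift the `w k`
  have hlift : ∀ k, ∃ u : L, u ∈ (J ^ d • ⊤ : Submodule Λ L) ∧ π (n + d + 1) u = w k := by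
    intro k
    have h3 : (J ^ d • ⊤ : Submodule Λ (M (n + d + 1))) =
        (J ^ d • ⊤ : Submodule Λ L).map (π (n + d + 1)) := by
      rw [Submodule.map_smul'', Submodule.map_top,
        LinearMap.range_eq_top.2 (h.surjective_π (n + d + 1))]
    have h4 := hw k
    rw [h3] at h4
    obtain ⟨u, hu, huw⟩ := h4
    exact ⟨u, hu, huw⟩
  choose u hu huw using hlift
  refine ⟨u, hu, ?_⟩
  have h5 : x - ∑ k, g k • (z k + u k) = e - ∑ k, g k • u k := by
    rw [he]
    simp only [smul_add, Finset.sum_add_distrib]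
    abel
  rw [h5, map_sub, hsum, map_sum]
  rw [sub_eq_zero]
  refine Finset.sum_congr rfl (fun k _ => ?_)
  rw [map_smul, huw k]

/-- The kernel of `L → M_n` is `J^{n+1} L`. -/
theorem ker_π_le (hJ : J.FG) (n : ℕ) :
    LinearMap.ker (π n) ≤ (J ^ (n + 1) • ⊤ : Submodule Λ L) := by
  intro x hx
  rw [LinearMap.mem_ker] at hx
  obtain ⟨s, g, hg⟩ := Submodule.fg_iff_exists_fin_generating_family.1 (hJ.pow (n := n + 1))
  have hg' : Ideal.span (Set.range g) = J ^ (n + 1) := hg
  have hgmem : ∀ k, g k ∈ J ^ (n + 1) := fun k => hg' ▸ Submodule.subset_span ⟨k, rfl⟩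
  -- the sequence of approximations
  have hstep : ∀ (d : ℕ) (z : {z : Fin s → L // π (n + d) (x - ∑ k, g k • z k) = 0}),
      ∃ z' : {z : Fin s → L // π (n + (d + 1)) (x - ∑ k, g k • z k) = 0},
        ∀ k, z'.1 k - z.1 k ∈ (J ^ d • ⊤ : Submodule Λ L) := by
    intro d z
    obtain ⟨u, hu, hu'⟩ := h.exists_step g n hg' x d z.1 z.2
    refine ⟨⟨fun k => z.1 k + u k, hu'⟩, fun k => ?_⟩
    change z.1 k + u k - z.1 k ∈ _
    rw [add_sub_cancel_left]
    exact hu k
  choose next hnext using hstep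
  let Z : ∀ d, {z : Fin s → L // π (n + d) (x - ∑ k, g k • z k) = 0} := fun d =>
    Nat.rec (motive := fun d => {z : Fin s → L // π (n + d) (x - ∑ k, g k • z k) = 0})
      ⟨0, by simpa using hx⟩ (fun d z => next d z) d
  have hZ : ∀ d k, (Z (d + 1)).1 k - (Z d).1 k ∈ (J ^ d • ⊤ : Submodule Λ L) :=
    fun d k => hnext d (Z d) k
  -- the limits `z k`
  have hglue : ∀ k, ∃ y : L, ∀ m, π m y = π m ((Z (m + 1)).1 k) := by
    intro k
    refine h.glue (fun m => π m ((Z (m + 1)).1 k)) (fun m => ?_)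
    change tr m (m + 1) _ (π (m + 1) ((Z (m + 1 + 1)).1 k)) = π m ((Z (m + 1)).1 k)
    rw [h.comp]
    have h1 := h.π_eq_zero_of_mem m _ (hZ (m + 1) k)
    rw [map_sub, sub_eq_zero] at h1
    exact h1
  choose y hy using hglue
  have hxy : x = ∑ k, g k • y k := by
    rw [← sub_eq_zero]
    apply h.sep
    intro m
    have h1 : π m (x - ∑ k, g k • y k) = π m (x - ∑ k, g k • (Z (m + 1)).1 k) := by
      rw [map_sub, map_sub, map_sum, map_sum]
      congr 1
      refine Finset.sum_congr rfl (fun k _ => ?_)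
      rw [map_smul, map_smul, hy k m]
    rw [h1, ← h.comp m (n + (m + 1)) (by omega), (Z (m + 1)).2, map_zero]
  rw [hxy]
  exact Submodule.sum_mem _ (fun k _ => Submodule.smul_mem_smul (hgmem k) Submodule.mem_top)

/-- The kernel of `L → M_n` is `J^{n+1} L`. -/
theorem ker_π_eq (hJ : J.FG) (n : ℕ) :
    LinearMap.ker (π n) = (J ^ (n + 1) • ⊤ : Submodule Λ L) :=
  le_antisymm (h.ker_π_le hJ n) (fun y hy => h.π_eq_zero_of_mem n y hy)

end IsAdicLimit

end Groth.Agent.Lib.AdicTower22
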