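import Groth.Agent.Lib.AdicClosed
import Mathlib.RingTheory.AdicCompletion.Exactness
import Mathlib.RingTheory.AdicCompletion.AsTensorProduct
import Mathlib.RingTheory.AdicCompletion.Noetherian
import Mathlib.RingTheory.Henselian

/-!
Stacks 0DYC: a Noetherian ring `A` which is `I`-adically complete and such that `A ⧸ I` is
complete with respect to the image of `J` is `J`-adically complete.
-/

set_option autoImplicit false
universe u

namespace Groth.Agent.Lib.AdicTwo

open AdicCompletion

variable {A : Type u} [CommRing A] [IsNoetherianRing A]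

theorem isAdicComplete_sup (I J : Ideal A) [IsAdicComplete I A]
    [IsAdicComplete (Ideal.map (Ideal.Quotient.mk I) J) (A ⧸ I)] : IsAdicComplete (I ⊔ J) A := by
  set K := I ⊔ J with hK
  have hIjac : I ≤ Ideal.jacobson ⊥ := IsAdicComplete.le_jacobson_bot I
  have hJbar : Ideal.map (Ideal.Quotient.mk I) J ≤ Ideal.jacobson ⊥ :=
    IsAdicComplete.le_jacobson_bot _
  -- K is in the Jacobson radical
  have hJjac : J ≤ Ideal.jacobson ⊥ := by
    intro x hx
    rw [Ideal.mem_jacobson_bot]
    intro y
    have h1 : Ideal.Quotient.mk I x ∈ Ideal.jacobson (⊥ : Ideal (A ⧸ I)) :=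
      hJbar (Ideal.mem_map_of_mem _ hx)
    have h2 := (Ideal.mem_jacobson_bot.1 h1) (Ideal.Quotient.mk I y)
    rw [← map_mul, ← map_one (Ideal.Quotient.mk I), ← map_add] at h2
    have := isLocalHom_of_le_jacobson_bot I hIjac
    exact IsUnit.of_map (Ideal.Quotient.mk I) _ h2
  have hKjac : K ≤ Ideal.jacobson ⊥ := sup_le hIjac hJjac
  have hHausK : IsHausdorff K A := IsHausdorff.of_le_jacobson K A hKjac
  -- A ⧸ I is K-adically precomplete as an A-module
  have hKmap : K.map (algebraMap A (A ⧸ I)) = Ideal.map (Ideal.Quotient.mk I) J := by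
    rw [Ideal.Quotient.algebraMap_eq, hK, Ideal.map_sup, Ideal.map_quotient_self, bot_sup_eq]
  have hpreQ : IsPrecomplete K (A ⧸ I) := by
    have h1 : IsPrecomplete (K.map (algebraMap A (A ⧸ I))) (A ⧸ I) := by
      rw [hKmap]; infer_instance
    exact (IsPrecomplete.map_algebraMap_iff (R := A) (S := A ⧸ I) (M := A ⧸ I) (I := K)).1 h1
  -- the completion B
  have hHausB : IsHausdorff I (AdicCompletion K A) := by
    have hB : IsHausdorff K (AdicCompletion K A) := inferInstance
    refine ⟨fun x hx => hB.haus' x fun n => ?_⟩
    have := hx n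
    rw [SModEq.sub_mem] at this ⊢
    exact (Submodule.smul_mono_left (Ideal.pow_right_mono le_sup_left n)) this
  -- range of the completed inclusion is inside I • ⊤
  have hrange : ∀ z : AdicCompletion K I,
      AdicCompletion.map K (Submodule.subtype I) z ∈
        (I • ⊤ : Submodule A (AdicCompletion K A)) := by
    intro z
    obtain ⟨t, rfl⟩ := ofTensorProduct_surjective_of_finite K I z
    induction t using TensorProduct.induction_on with
    | zero => simp
    | tmul b i =>
      rw [ofTensorProduct_tmul, map_smul, map_of]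
      have : b • (AdicCompletion.of K A) ((Submodule.subtype I) i) = (i : A) • b := by
        rw [Submodule.subtype_apply]
        have h1 : AdicCompletion.of K A (i : A) = algebraMap A (AdicCompletion K A) (i : A) := rfl
        rw [h1, smul_eq_mul, Algebra.smul_def (i : A) b, mul_comm]
      rw [this]
      exact Submodule.smul_mem_smul i.2 Submodule.mem_top
    | add x y hx hy =>
      rw [map_add, map_add]
      exact Submodule.add_mem _ hx hy
  have hexact : Function.Exact (AdicCompletion.map K (Submodule.subtype I))
      (AdicCompletion.map K (Submodule.mkQ I)) :=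
    AdicCompletion.map_exact (I := K) (Submodule.subtype_injective I)
      (LinearMap.exact_subtype_mkQ I) (Submodule.mkQ_surjective I)
  have hsurj : Function.Surjective
      ((Submodule.mkQ (I • ⊤ : Submodule A (AdicCompletion K A))) ∘ₗ AdicCompletion.of K A) := by
    intro y
    obtain ⟨b, rfl⟩ := Submodule.mkQ_surjective _ y
    obtain ⟨c, hc⟩ := AdicCompletion.of_surjective K (A ⧸ I)
      (AdicCompletion.map K (Submodule.mkQ I) b)
    obtain ⟨a, rfl⟩ := Submodule.mkQ_surjective I c
    refine ⟨a, ?_⟩
    rw [LinearMap.comp_apply, Submodule.mkQ_apply, Submodule.mkQ_apply, Submodule.Quotient.eq]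
    have h0 : AdicCompletion.map K (Submodule.mkQ I) (AdicCompletion.of K A a - b) = 0 := by
      rw [map_sub, map_of, hc, sub_self]
    obtain ⟨z, hz⟩ := (hexact _).1 h0
    rw [← hz]
    exact hrange z
  have hsurj' : Function.Surjective (AdicCompletion.of K A) :=
    surjective_of_mkQ_comp_surjective (I := I) hsurj
  have hinj : Function.Injective (AdicCompletion.of K A) := AdicCompletion.of_injective K A
  exact (AdicCompletion.of_bijective_iff).1 ⟨hinj, hsurj'⟩

/-- Stacks 0DYC. -/
theorem isAdicComplete_of_isAdicComplete_quotient (I J : Ideal A) [IsAdicComplete I A]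
    [IsAdicComplete (Ideal.map (Ideal.Quotient.mk I) J) (A ⧸ I)] : IsAdicComplete J A := by
  have := isAdicComplete_sup I J
  exact Groth.Agent.Lib.AdicClosed.isAdicComplete_of_le J (I ⊔ J) le_sup_right
    ((isNoetherianRing_iff_ideal_fg A).1 inferInstance J)

end Groth.Agent.Lib.AdicTwo
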