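import Mathlib.CategoryTheory.Adjunction.Basic
import Mathlib.CategoryTheory.Limits.Shapes.Products

/-!
# Coproduct of left adjoints from a product of right adjoints

Let `adj : L ⊣ R`, a family of adjunctions `adjf f : Lf f ⊣ Rf f` and natural transformations
`Φ f : R ⟶ Rf f` exhibiting each `R b` as the product of the `Rf f b`.  Then each `L a` is the
coproduct of the `Lf f a`, the injections being the mates of the `Φ f`.
-/

set_option autoImplicit false
universe v₁ u₁ v₂ u₂ w
open CategoryTheory CategoryTheory.Limits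

namespace Groth.Agent.Lib.AdjCofan

variable {C : Type u₁} [Category.{v₁} C] {D : Type u₂} [Category.{v₂} D] {ι : Type w}
  {L : C ⥤ D} {R : D ⥤ C} (adj : L ⊣ R)
  {Lf : ι → (C ⥤ D)} {Rf : ι → (D ⥤ C)} (adjf : ∀ f, Lf f ⊣ Rf f)
  (Φ : ∀ f, R ⟶ Rf f)

/-- The injection `Lf f a ⟶ L a`, mate of `Φ f`. -/
def inj (a : C) (f : ι) : (Lf f).obj a ⟶ L.obj a :=
  ((adjf f).homEquiv a (L.obj a)).symm (adj.unit.app a ≫ (Φ f).app (L.obj a))

theorem homEquiv_inj_comp (a : C) (f : ι) {b : D} (k : L.obj a ⟶ b) :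
    (adjf f).homEquiv a b (inj adj adjf Φ a f ≫ k) = adj.homEquiv a b k ≫ (Φ f).app b := by
  rw [Adjunction.homEquiv_naturality_right, inj, Equiv.apply_symm_apply, Category.assoc,
    ← (Φ f).naturality, ← Category.assoc, Adjunction.homEquiv_unit]

/-- The cofan on `L a`. -/
def cofan (a : C) : Cofan (fun f => (Lf f).obj a) :=
  Cofan.mk (L.obj a) (inj adj adjf Φ a)

variable (hΦ : ∀ b : D, IsLimit (Fan.mk (R.obj b) (fun f => (Φ f).app b)))

/-- The cofan on `L a` is a coproduct. -/
def cofanIsColimit (a : C) : IsColimit (cofan adj adjf Φ a) :=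
  Cofan.IsColimit.mk _
    (fun s => (adj.homEquiv a s.pt).symm
      (Fan.IsLimit.lift (hΦ s.pt) (fun f => (adjf f).homEquiv _ _ (s.inj f))))
    (fun s f => by
      apply ((adjf f).homEquiv _ _).injective
      change (adjf f).homEquiv _ _ (inj adj adjf Φ a f ≫ _) = _
      rw [homEquiv_inj_comp, Equiv.apply_symm_apply]
      exact Fan.IsLimit.fac (hΦ s.pt) _ f)
    (fun s m hm => by
      apply (adj.homEquiv _ _).injective
      rw [Equiv.apply_symm_apply]
      apply Fan.IsLimit.hom_ext (hΦ s.pt)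
      intro f
      refine Eq.trans ?_ (Fan.IsLimit.fac (hΦ s.pt) _ f).symm
      change adj.homEquiv a s.pt m ≫ (Φ f).app s.pt = _
      rw [← homEquiv_inj_comp adj adjf Φ a f m]
      exact congrArg _ (hm f))

end Groth.Agent.Lib.AdjCofan
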