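import Groth.Agent.Lib.AdjCofan
import Mathlib.CategoryTheory.Extensive

/-!
# The injections of `Lib/AdjCofan` form cartesian natural transformations

In the situation of `Lib/AdjCofan` (`L a = ∐_f Lf f a`), with values in a finitary extensive
category, each injection `Lf f₀ ⟶ L` is a natural transformation all of whose naturality squares
are pullbacks, and is a binary coproduct injection.
-/

set_option autoImplicit false
universe v₁ u₁ v₂ u₂ w
open CategoryTheory CategoryTheory.Limits

namespace Groth.Agent.Lib.AdjCofan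

section General

variable {C : Type u₁} [Category.{v₁} C] {I₀ : Type w} {X : I₀ → C}

open Classical in
/-- Splitting off one summand of a coproduct. -/
noncomputable def isColimitBinaryCofanOfCofan (c : Cofan X) (hc : IsColimit c) (i₀ : I₀)
    [HasCoproduct (fun k : {k // k ≠ i₀} => X k.1)] :
    IsColimit (BinaryCofan.mk (c.inj i₀)
      (Sigma.desc (fun k : {k // k ≠ i₀} => c.inj k.1))) :=
  BinaryCofan.IsColimit.mk _
    (fun {W} f₁ f₂ => Cofan.IsColimit.desc hc (fun k =>
      if h : k = i₀ then eqToHom (by rw [h]) ≫ f₁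
      else Sigma.ι (fun k : {k // k ≠ i₀} => X k.1) ⟨k, h⟩ ≫ f₂))
    (fun f₁ f₂ => by
      change c.inj i₀ ≫ _ = _
      rw [Cofan.IsColimit.fac, dif_pos rfl, eqToHom_refl, Category.id_comp])
    (fun f₁ f₂ => by
      change Sigma.desc (fun k : {k // k ≠ i₀} => c.inj k.1) ≫ _ = _
      apply Sigma.hom_ext
      rintro ⟨k, hk⟩
      rw [Sigma.ι_desc_assoc, Cofan.IsColimit.fac, dif_neg hk])
    (fun {W} f₁ f₂ m h₁ h₂ => by
      let m' : c.pt ⟶ W := m
      have h₁' : c.inj i₀ ≫ m' = f₁ := h₁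
      have h₂' : Sigma.desc (fun k : {k // k ≠ i₀} => c.inj k.1) ≫ m' = f₂ := h₂
      change m' = _
      apply Cofan.IsColimit.hom_ext hc
      intro k
      rw [Cofan.IsColimit.fac]
      by_cases h : k = i₀
      · subst h
        rw [dif_pos rfl, eqToHom_refl, Category.id_comp]
        exact h₁'
      · rw [dif_neg h, ← h₂', Sigma.ι_desc_assoc])

end General

variable {C : Type u₁} [Category.{v₁} C] {D : Type u₂} [Category.{v₂} D] {ι : Type w}
  {L : C ⥤ D} {R : D ⥤ C} (adj : L ⊣ R)
  {Lf : ι → (C ⥤ D)} {Rf : ι → (D ⥤ C)} (adjf : ∀ f, Lf f ⊣ Rf f)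
  (Φ : ∀ f, R ⟶ Rf f)

theorem inj_naturality {a a' : C} (h : a ⟶ a') (f : ι) :
    (Lf f).map h ≫ inj adj adjf Φ a' f = inj adj adjf Φ a f ≫ L.map h := by
  apply ((adjf f).homEquiv _ _).injective
  rw [homEquiv_inj_comp, Adjunction.homEquiv_naturality_left, inj, Equiv.apply_symm_apply,
    Adjunction.homEquiv_unit, ← Category.assoc]
  erw [adj.unit_naturality]

/-- The injection `Lf f ⟶ L` as a natural transformation. -/
def injNat (f : ι) : Lf f ⟶ L where
  app a := inj adj adjf Φ a f
  naturality _ _ h := inj_naturality adj adjf Φ h f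

variable (hΦ : ∀ b : D, IsLimit (Fan.mk (R.obj b) (fun f => (Φ f).app b)))
  [FinitaryExtensive D] (f₀ : ι)
  [∀ a : C, HasCoproduct (fun k : {k // k ≠ f₀} => (Lf k.1).obj a)]

/-- The complementary summand. -/
noncomputable def inrRest (a : C) :
    (∐ fun k : {k // k ≠ f₀} => (Lf k.1).obj a) ⟶ L.obj a :=
  Sigma.desc (fun k : {k // k ≠ f₀} => inj adj adjf Φ a k.1)

/-- `L a` is the binary coproduct of `Lf f₀ a` and the complementary summand. -/
noncomputable def isColimitBinaryCofanInj (a : C) :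
    IsColimit (BinaryCofan.mk (inj adj adjf Φ a f₀) (inrRest adj adjf Φ f₀ a)) :=
  isColimitBinaryCofanOfCofan (cofan adj adjf Φ a) (cofanIsColimit adj adjf Φ hΦ a) f₀

include hΦ in
/-- The naturality squares of the injection `Lf f₀ ⟶ L` are pullbacks. -/
theorem isPullback_inj {a a' : C} (h : a ⟶ a') :
    IsPullback (inj adj adjf Φ a f₀) ((Lf f₀).map h) (L.map h) (inj adj adjf Φ a' f₀) := by
  have hvk := (BinaryCofan.isVanKampen_iff _).1
    (FinitaryExtensive.vanKampen _ (isColimitBinaryCofanInj adj adjf Φ hΦ f₀ a'))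
    (BinaryCofan.mk (inj adj adjf Φ a f₀) (inrRest adj adjf Φ f₀ a)) ((Lf f₀).map h)
    (Limits.Sigma.map (fun k : {k // k ≠ f₀} => (Lf k.1).map h)) (L.map h)
    (inj_naturality adj adjf Φ h f₀)
    (by
      apply Sigma.hom_ext
      rintro ⟨k, hk⟩
      change _ ≫ _ ≫ inrRest adj adjf Φ f₀ a' = _ ≫ inrRest adj adjf Φ f₀ a ≫ _
      simp only [inrRest, Sigma.ι_map_assoc, Sigma.ι_desc, Sigma.ι_desc_assoc]
      exact inj_naturality adj adjf Φ h k)
  exact (hvk.1 ⟨isColimitBinaryCofanInj adj adjf Φ hΦ f₀ a⟩).1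

end Groth.Agent.Lib.AdjCofan
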