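import Groth.Agent.Lib.TrdegTransfer

/-!
# Dimension inequality: reduction from arbitrary finite type algebras to the domain case (helper63)

`DimIneq` is the statement of the dimension inequality (Stacks 02IJ, milestone S0554) for a finite
type extension of domains.  `core` deduces from it the version for an arbitrary finite type algebra
`B` over a Noetherian ring `R` (going through the minimal primes of `B`).
-/

set_option autoImplicit false
universe u

namespace Groth.Agent.Lib.DimIneqCore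

open Cardinal Groth.Agent.Lib.TrdegTransfer

/-- The dimension inequality (statement of S0554) as a proposition. -/
def DimIneq : Prop :=
  ∀ (R : Type u) [CommRing R] [IsDomain R] [IsNoetherianRing R] (S : Type u) [CommRing S]
    [IsDomain S] [Algebra R S] [FaithfulSMul R S] [Algebra.FiniteType R S] (p : Ideal R)
    [p.IsPrime] (q : Ideal S) [q.IsPrime] [q.LiesOver p],
    (q.height : Cardinal.{u}) + Algebra.trdeg (R ⧸ p) (S ⧸ q) ≤
      (p.height : Cardinal.{u}) + Algebra.trdeg R S

section Height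

variable {R : Type*} [CommRing R]

theorem comap_map_mk_eq (I p : Ideal R) (hI : I ≤ p) :
    (p.map (Ideal.Quotient.mk I)).comap (Ideal.Quotient.mk I) = p := by
  rw [Ideal.comap_map_of_surjective' _ Ideal.Quotient.mk_surjective, Ideal.mk_ker]
  exact sup_eq_left.mpr hI

theorem isPrime_map_mk (I p : Ideal R) [hp : p.IsPrime] (hI : I ≤ p) :
    (p.map (Ideal.Quotient.mk I)).IsPrime :=
  Ideal.map_isPrime_of_surjective Ideal.Quotient.mk_surjective (by rw [Ideal.mk_ker]; exact hI)

theorem map_mk_lt_map_mk (I p q : Ideal R) (hI : I ≤ p) (hlt : p < q) :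
    p.map (Ideal.Quotient.mk I) < q.map (Ideal.Quotient.mk I) := by
  refine lt_of_le_of_ne (Ideal.map_mono hlt.le) (fun heq => ?_)
  have := congrArg (Ideal.comap (Ideal.Quotient.mk I)) heq
  rw [comap_map_mk_eq I p hI, comap_map_mk_eq I q (hI.trans hlt.le)] at this
  exact hlt.ne this

theorem height_map_mk_le (I p : Ideal R) [hp : p.IsPrime] (hI : I ≤ p) :
    (p.map (Ideal.Quotient.mk I)).height ≤ p.height := by
  have hp' := isPrime_map_mk I p hI
  let f : PrimeSpectrum (R ⧸ I) → PrimeSpectrum R := PrimeSpectrum.comap (Ideal.Quotient.mk I)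
  have hf : StrictMono f := by
    apply Monotone.strictMono_of_injective
    · intro a b hab
      exact Ideal.comap_mono hab
    · exact PrimeSpectrum.comap_injective_of_surjective _ Ideal.Quotient.mk_surjective
  have h1 := Order.height_le_height_apply_of_strictMono f hf ⟨_, hp'⟩
  have h2 : f ⟨_, hp'⟩ = ⟨p, hp⟩ := PrimeSpectrum.ext (comap_map_mk_eq I p hI)
  rw [h2, ← PrimeSpectrum.height_eq_orderHeight, ← PrimeSpectrum.height_eq_orderHeight] at h1
  exact h1

theorem height_le_of_forall_minimalPrimes (h : ℕ) :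
    ∀ (q : Ideal R) [q.IsPrime],
      (∀ Q₀ ∈ minimalPrimes R, Q₀ ≤ q → (q.map (Ideal.Quotient.mk Q₀)).height ≤ h) →
        q.height ≤ h := by
  induction h with
  | zero =>
    intro q _ H
    rw [Ideal.height_le_iff]
    intro q' hq' hlt
    exfalso
    obtain ⟨Q₀, hQ₀, hle⟩ := Ideal.exists_minimalPrimes_le (bot_le : (⊥ : Ideal R) ≤ q')
    have H1 := H Q₀ hQ₀ (hle.trans hlt.le)
    haveI : Q₀.IsPrime := hQ₀.1.1
    have H2 : (q.map (Ideal.Quotient.mk Q₀)).height = 0 := by
      simpa using H1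
    rw [Ideal.height_eq_zero_iff_eq_bot, Ideal.map_eq_bot_iff_le_ker, Ideal.mk_ker] at H2
    exact absurd (H2.trans hle) (not_le_of_gt hlt)
  | succ h ih =>
    intro q _ H
    rw [Ideal.height_le_iff]
    intro q' hq' hlt
    have h1 : q'.height ≤ h := by
      refine ih q' (fun Q₀ hQ₀ hle => ?_)
      have H1 := H Q₀ hQ₀ (hle.trans hlt.le)
      haveI := isPrime_map_mk Q₀ q' hle
      haveI := isPrime_map_mk Q₀ q (hle.trans hlt.le)
      have H2 := Ideal.height_add_one_le_of_lt_of_isPrime (map_mk_lt_map_mk Q₀ q' q hle hlt)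
      have H3 := H2.trans H1
      rw [Nat.cast_succ] at H3
      exact (WithTop.add_le_add_iff_right (by simp : (1 : ℕ∞) ≠ ⊤)).mp H3
    refine lt_of_le_of_lt h1 ?_
    exact_mod_cast Nat.lt_succ_self h

theorem exists_minimalPrimes_height_le [IsNoetherianRing R] (q : Ideal R) [q.IsPrime] :
    ∃ Q₀ ∈ minimalPrimes R, Q₀ ≤ q ∧ q.height ≤ (q.map (Ideal.Quotient.mk Q₀)).height := by
  by_contra hcon
  push Not at hcon
  have hfin : q.height ≠ ⊤ := Ideal.height_ne_top_of_isPrime
  obtain ⟨n, hn⟩ := ENat.ne_top_iff_exists.mp hfin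
  cases n with
  | zero =>
    obtain ⟨Q₀, hQ₀, hle⟩ := Ideal.exists_minimalPrimes_le (bot_le : (⊥ : Ideal R) ≤ q)
    have := hcon Q₀ hQ₀ hle
    rw [← hn] at this
    exact absurd this (by simp)
  | succ m =>
    have h1 : q.height ≤ m := by
      refine height_le_of_forall_minimalPrimes m q (fun Q₀ hQ₀ hle => ?_)
      have := hcon Q₀ hQ₀ hle
      rw [← hn, Nat.cast_succ] at this
      exact (ENat.lt_add_one_iff (ENat.natCast_ne_top m)).mp this
    rw [← hn] at h1
    have : (m + 1 : ℕ) ≤ m := by exact_mod_cast h1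
    omega

end Height

section Core

variable {R B : Type u} [CommRing R] [CommRing B] [Algebra R B]

/-- The inequality for the quotient by a prime `Q₀ ≤ q` of `B`, with the transcendence degree of the
residue extension at `q` computed on `B` itself. -/
theorem ineq_of_prime_le (H : DimIneq.{u}) [IsNoetherianRing R] [Algebra.FiniteType R B]
    (q : Ideal B) [q.IsPrime] (Q₀ : Ideal B) [Q₀.IsPrime] (hle : Q₀ ≤ q) :
    ((q.map (Ideal.Quotient.mk Q₀)).height : Cardinal.{u}) +
        Algebra.trdeg (R ⧸ q.under R) (B ⧸ q) ≤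
      ((q.under R).height : Cardinal.{u}) + Algebra.trdeg (R ⧸ Q₀.under R) (B ⧸ Q₀) := by
  have hPle : Q₀.under R ≤ q.under R := Ideal.comap_mono hle
  haveI hp' : ((q.under R).map (Ideal.Quotient.mk (Q₀.under R))).IsPrime :=
    isPrime_map_mk (Q₀.under R) (q.under R) hPle
  haveI hq' : (q.map (Ideal.Quotient.mk Q₀)).IsPrime := isPrime_map_mk Q₀ q hle
  haveI : (q.map (Ideal.Quotient.mk Q₀)).LiesOver
      ((q.under R).map (Ideal.Quotient.mk (Q₀.under R))) := by
    constructor
    ext x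
    obtain ⟨r, rfl⟩ := Ideal.Quotient.mk_surjective x
    have h1 : Ideal.Quotient.mk (Q₀.under R) r ∈
        (q.under R).map (Ideal.Quotient.mk (Q₀.under R)) ↔ r ∈ q.under R :=
      Ideal.mem_quotient_iff_mem hPle
    have h2 : Ideal.Quotient.mk (Q₀.under R) r ∈
        (q.map (Ideal.Quotient.mk Q₀)).under (R ⧸ Q₀.under R) ↔ algebraMap R B r ∈ q := by
      change Ideal.Quotient.mk Q₀ (algebraMap R B r) ∈ q.map (Ideal.Quotient.mk Q₀) ↔ _
      exact Ideal.mem_quotient_iff_mem hle
    rw [h1, h2]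
    rfl
  haveI : Algebra.FiniteType R (B ⧸ Q₀) :=
    Algebra.FiniteType.of_surjective (Ideal.Quotient.mkₐ R Q₀) Ideal.Quotient.mk_surjective
  haveI : Algebra.FiniteType (R ⧸ Q₀.under R) (B ⧸ Q₀) :=
    Algebra.FiniteType.of_restrictScalars_finiteType R (R ⧸ Q₀.under R) (B ⧸ Q₀)
  have h1 := H (R ⧸ Q₀.under R) (B ⧸ Q₀) ((q.under R).map (Ideal.Quotient.mk (Q₀.under R)))
    (q.map (Ideal.Quotient.mk Q₀))
  have h2 : ((q.under R).map (Ideal.Quotient.mk (Q₀.under R))).height ≤ (q.under R).height :=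
    height_map_mk_le (Q₀.under R) (q.under R) hPle
  have h3 : Algebra.trdeg ((R ⧸ Q₀.under R) ⧸ (q.under R).map (Ideal.Quotient.mk (Q₀.under R)))
      ((B ⧸ Q₀) ⧸ q.map (Ideal.Quotient.mk Q₀)) = Algebra.trdeg (R ⧸ q.under R) (B ⧸ q) := by
    refine trdeg_eq_of_ringEquiv (DoubleQuot.quotQuotEquivQuotOfLE hPle)
      (DoubleQuot.quotQuotEquivQuotOfLE hle) (fun a => ?_)
    obtain ⟨a', rfl⟩ := Ideal.Quotient.mk_surjective a
    obtain ⟨r, rfl⟩ := Ideal.Quotient.mk_surjective a'
    rfl
  rw [h3] at h1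
  refine h1.trans ?_
  gcongr

/-- **Dimension inequality for an arbitrary finite type algebra over a Noetherian ring**, assuming
the inequality `DimIneq` for finite type extensions of domains. -/
theorem core (H : DimIneq.{u}) [IsNoetherianRing R] [Algebra.FiniteType R B]
    (q : Ideal B) [q.IsPrime] (E : Cardinal.{u})
    (hE : ∀ Q₀ ∈ minimalPrimes B, Q₀ ≤ q → Algebra.trdeg (R ⧸ Q₀.under R) (B ⧸ Q₀) ≤ E) :
    (q.height : Cardinal.{u}) + Algebra.trdeg (R ⧸ q.under R) (B ⧸ q) ≤
      ((q.under R).height : Cardinal.{u}) + E := by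
  haveI : IsNoetherianRing B := Algebra.FiniteType.isNoetherianRing R B
  obtain ⟨Q₀, hQ₀, hle, hht⟩ := exists_minimalPrimes_height_le q
  haveI : Q₀.IsPrime := hQ₀.1.1
  calc (q.height : Cardinal.{u}) + Algebra.trdeg (R ⧸ q.under R) (B ⧸ q)
      ≤ ((q.map (Ideal.Quotient.mk Q₀)).height : Cardinal.{u}) +
        Algebra.trdeg (R ⧸ q.under R) (B ⧸ q) := by
        gcongr
    _ ≤ ((q.under R).height : Cardinal.{u}) + Algebra.trdeg (R ⧸ Q₀.under R) (B ⧸ Q₀) :=
        ineq_of_prime_le H q Q₀ hle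
    _ ≤ ((q.under R).height : Cardinal.{u}) + E := by
        gcongr
        exact hE Q₀ hQ₀ hle

end Core

end Groth.Agent.Lib.DimIneqCore
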