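import Groth.Agent.S11650
import Groth.Agent.Lib.DimIneqCore

/-!
# Heights in quotients and adjusted depths (Brodmann–Sharp 9.3.4) (helper53)
-/

set_option maxHeartbeats 400000
universe u

namespace Groth.Agent.Lib.AdjDepth53
open Groth.Agent.Lib.DimIneqCore

section height
variable {R : Type u} [CommRing R]

theorem le_comap_mk (c : Ideal R) (Q : Ideal (R ⧸ c)) : c ≤ Q.comap (Ideal.Quotient.mk c) := by
  intro x hx
  rw [Ideal.mem_comap, Ideal.Quotient.eq_zero_iff_mem.2 hx]
  exact Q.zero_mem

theorem comap_mk_lt_comap_mk (c : Ideal R) {Q Q' : Ideal (R ⧸ c)} (h : Q < Q') :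
    Q.comap (Ideal.Quotient.mk c) < Q'.comap (Ideal.Quotient.mk c) := by
  refine lt_of_le_of_ne (Ideal.comap_mono h.le) fun heq => h.ne ?_
  rw [← Ideal.map_comap_of_surjective _ Ideal.Quotient.mk_surjective Q, heq,
    Ideal.map_comap_of_surjective _ Ideal.Quotient.mk_surjective Q']

/-- chains of primes of `R/t` below `Q'` lift to chains of `R/p` above `t/p`. -/
theorem height_add_le_aux (p t : Ideal R) [p.IsPrime] [t.IsPrime] (hpt : p ≤ t) :
    ∀ (n : ℕ) (Q' : Ideal (R ⧸ t)) [Q'.IsPrime], (n : ℕ∞) ≤ Q'.height →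
      (t.map (Ideal.Quotient.mk p)).height + n ≤
        ((Q'.comap (Ideal.Quotient.mk t)).map (Ideal.Quotient.mk p)).height := by
  intro n
  induction n with
  | zero =>
    intro Q' _ _
    rw [Nat.cast_zero, add_zero]
    exact Ideal.height_mono (Ideal.map_mono (le_comap_mk t Q'))
  | succ n ih =>
    intro Q' hQ' hn
    have hnot : ¬ Q'.height ≤ (n : ℕ∞) := by
      rw [not_le]
      refine lt_of_lt_of_le ?_ hn
      exact_mod_cast Nat.lt_succ_self n
    rw [Ideal.height_le_iff] at hnot
    push Not at hnot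
    obtain ⟨Q'', hQ'', hlt, hle⟩ := hnot
    have h1 := ih Q'' hle
    have hlt' := comap_mk_lt_comap_mk t hlt
    have hp1 : p ≤ Q''.comap (Ideal.Quotient.mk t) := hpt.trans (le_comap_mk t Q'')
    have hp2 : p ≤ Q'.comap (Ideal.Quotient.mk t) := hpt.trans (le_comap_mk t Q')
    haveI := isPrime_map_mk p (Q''.comap (Ideal.Quotient.mk t)) hp1
    haveI := isPrime_map_mk p (Q'.comap (Ideal.Quotient.mk t)) hp2
    have h2 := Ideal.height_add_one_le_of_lt_of_isPrime
      (map_mk_lt_map_mk p _ _ hp1 hlt')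
    calc (t.map (Ideal.Quotient.mk p)).height + ((n + 1 : ℕ) : ℕ∞)
        = ((t.map (Ideal.Quotient.mk p)).height + n) + 1 := by
          rw [Nat.cast_succ, add_assoc]
      _ ≤ ((Q''.comap (Ideal.Quotient.mk t)).map (Ideal.Quotient.mk p)).height + 1 := by
          gcongr
      _ ≤ _ := h2

/-- `ht(t/p) + ht(q/t) ≤ ht(q/p)` for primes `p ≤ t ≤ q`. -/
theorem height_add_le (p t q : Ideal R) [p.IsPrime] [t.IsPrime] [q.IsPrime] (hpt : p ≤ t)
    (htq : t ≤ q) :
    (t.map (Ideal.Quotient.mk p)).height + (q.map (Ideal.Quotient.mk t)).height ≤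
      (q.map (Ideal.Quotient.mk p)).height := by
  haveI := isPrime_map_mk t q htq
  have key := fun n hn => height_add_le_aux p t hpt n (q.map (Ideal.Quotient.mk t)) hn
  rw [comap_map_mk_eq t q htq] at key
  rcases h : (q.map (Ideal.Quotient.mk t)).height with _ | n
  · have htop : (q.map (Ideal.Quotient.mk p)).height = ⊤ := by
      rw [ENat.eq_top_iff_forall_ge]
      intro n
      refine le_trans ?_ (key n (by rw [h]; exact le_top))
      exact le_add_self
    rw [htop]
    exact le_top
  · exact key n (by rw [h]; exact le_refl _)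

end height

section adj
variable {R : Type u} [CommRing R] [IsNoetherianRing R]

/-- Brodmann–Sharp 9.3.4. -/
theorem adjDepth_le (a : Ideal R) (M : Type u) [AddCommGroup M] [Module R M] [Module.Finite R M]
    (p q : PrimeSpectrum R) (hq : q.asIdeal ∈ (a ⊔ p.asIdeal).minimalPrimes)
    (hht : (q.asIdeal.map (Ideal.Quotient.mk p.asIdeal)).height =
      ((a ⊔ p.asIdeal).map (Ideal.Quotient.mk p.asIdeal)).height)
    (s : PrimeSpectrum R) (hps : p ≤ s) (hsq : s ≤ q) :
    LocCoh.adjDepth a M s ≤ LocCoh.adjDepth a M p := by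
  unfold LocCoh.adjDepth
  have h1 := Groth.Agent.S11650.result R M p.asIdeal s.asIdeal hps
  have h2 : ((a ⊔ s.asIdeal).map (Ideal.Quotient.mk s.asIdeal)).height ≤
      (q.asIdeal.map (Ideal.Quotient.mk s.asIdeal)).height :=
    Ideal.height_mono (Ideal.map_mono (sup_le (le_sup_left.trans hq.1.2) hsq))
  have h3 := height_add_le p.asIdeal s.asIdeal q.asIdeal hps hsq
  calc _ ≤ (LocCoh.depth (Localization.AtPrime p.asIdeal)
          (LocalizedModule p.asIdeal.primeCompl M) +
          (s.asIdeal.map (Ideal.Quotient.mk p.asIdeal)).height) +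
          (q.asIdeal.map (Ideal.Quotient.mk s.asIdeal)).height := add_le_add h1 h2
    _ = LocCoh.depth (Localization.AtPrime p.asIdeal)
          (LocalizedModule p.asIdeal.primeCompl M) +
          ((s.asIdeal.map (Ideal.Quotient.mk p.asIdeal)).height +
          (q.asIdeal.map (Ideal.Quotient.mk s.asIdeal)).height) := add_assoc _ _ _
    _ ≤ _ := by
      rw [← hht]
      gcongr

end adj

end Groth.Agent.Lib.AdjDepth53
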