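import Mathlib.Algebra.Homology.ShortComplex.ExactFunctor
import Mathlib.Algebra.Homology.ShortComplex.ShortExact
import Mathlib.CategoryTheory.Adjunction.FullyFaithful
import Mathlib.CategoryTheory.Adjunction.Limits
import Mathlib.CategoryTheory.Adjunction.Additive
import Mathlib.CategoryTheory.Abelian.Subcategory
import Groth.Prelude.Def_WeakSerre

/-!
# Essential images of exact fully faithful left adjoints and weak Serre subcategories (helper22)

Let `L ⊣ R` be an adjunction between abelian categories with `L` exact and fully faithful.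

* `isIso_counit_of_shortExact`: if `T` is a short exact sequence in the target such that the counit
  is an isomorphism at `T.X₁` and `T.X₃` and `R.map T.g` is an epimorphism, the counit is an
  isomorphism at `T.X₂`.
* `isWeakSerre_essImage`: if moreover extensions of objects in the image of a weak Serre class `S`
  are in the essential image of `L`, the essential image of `S` is a weak Serre class.
-/

set_option autoImplicit false
set_option linter.style.haveILetI false
universe v₁ v₂ u₁ u₂

open CategoryTheory CategoryTheory.Limits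

namespace Groth.Agent.Lib.AdjExt22

variable {C : Type u₁} [Category.{v₁} C] [Abelian C] {D : Type u₂} [Category.{v₂} D] [Abelian D]

section counit

variable {L : C ⥤ D} {R : D ⥤ C} (adj : L ⊣ R)

include adj in
theorem isIso_counit_of_shortExact [PreservesFiniteLimits L] (T : ShortComplex D)
    (hT : T.ShortExact) (h₁ : IsIso (adj.counit.app T.X₁)) (h₃ : IsIso (adj.counit.app T.X₃))
    (hepi : Epi (R.map T.g)) : IsIso (adj.counit.app T.X₂) := by
  haveI : L.Additive := Functor.additive_of_preserves_binary_products _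
  haveI : R.Additive := adj.right_adjoint_additive
  haveI : PreservesFiniteColimits L := by
    haveI : PreservesColimitsOfSize.{0, 0} L := adj.leftAdjoint_preservesColimits
    exact PreservesColimitsOfSize.preservesFiniteColimits L
  haveI : PreservesFiniteLimits R := by
    haveI : PreservesLimitsOfSize.{0, 0} R := adj.rightAdjoint_preservesLimits
    exact PreservesLimitsOfSize.preservesFiniteLimits R
  have hm : Mono T.f := hT.mono_f
  have hR : (T.map R).ShortExact := by
    haveI : Mono (T.map R).f := inferInstanceAs (Mono (R.map T.f))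
    haveI : Epi (T.map R).g := hepi
    exact ShortComplex.ShortExact.mk (hT.exact.map_of_mono_of_preservesKernel R hm inferInstance)
  have hLR : ((T.map R).map L).ShortExact := hR.map_of_exact L
  let φ : (T.map R).map L ⟶ T := ShortComplex.homMk (adj.counit.app T.X₁) (adj.counit.app T.X₂)
    (adj.counit.app T.X₃) (adj.counit.naturality T.f).symm (adj.counit.naturality T.g).symm
  haveI : IsIso φ.τ₁ := h₁
  haveI : IsIso φ.τ₃ := h₃
  exact ShortComplex.isIso₂_of_shortExact_of_isIso₁₃ φ hLR hT

end counit

section serre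

variable (L : C ⥤ D) [L.Full] [L.Faithful] [PreservesFiniteLimits L] [PreservesFiniteColimits L]
  [L.Additive]

/-- The essential image under `L` of a class of objects `S`. -/
def essImageOf (S : ObjectProperty C) : ObjectProperty D :=
  fun F => ∃ G : C, S G ∧ Nonempty (L.obj G ≅ F)

theorem isWeakSerre_essImage (S : ObjectProperty C) [WSerre.IsWeakSerre S]
    (hext : ∀ (T : ShortComplex D), T.ShortExact → ∀ A B : C, S A → S B →
      (L.obj A ≅ T.X₁) → (L.obj B ≅ T.X₃) → ∃ E : C, Nonempty (L.obj E ≅ T.X₂)) :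
    WSerre.IsWeakSerre (fun F : D => ∃ G : C, S G ∧ Nonempty (L.obj G ≅ F)) where
  exists_zero := by
    obtain ⟨Z, hZ, hSZ⟩ := S.exists_prop_of_containsZero
    exact ⟨L.obj Z, L.map_isZero hZ, Z, hSZ, ⟨Iso.refl _⟩⟩
  kernels_le := by
    rintro _ ⟨f, k, hk, ⟨A, hA, ⟨eA⟩⟩, ⟨B, hB, ⟨eB⟩⟩⟩
    let g : A ⟶ B := L.preimage (eA.hom ≫ f ≫ eB.inv)
    have hg : L.map g = eA.hom ≫ f ≫ eB.inv := L.map_preimage _
    refine ⟨kernel g, S.prop_kernel g hA hB, ⟨?_⟩⟩
    have hk' : IsLimit (KernelFork.ofι (L.map (kernel.ι g) ≫ eA.hom) (by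
        have h0 : L.map (kernel.ι g) ≫ L.map g = 0 := by
          rw [← L.map_comp, kernel.condition, L.map_zero]
        rw [hg] at h0
        have h1 := h0 =≫ eB.hom
        simpa using h1) : KernelFork f) := by
      have hL : IsLimit (KernelFork.ofι (L.map (kernel.ι g)) (by
          rw [← L.map_comp, kernel.condition, L.map_zero]) : KernelFork (L.map g)) :=
        KernelFork.mapIsLimit _ (kernelIsKernel g) L
      refine KernelFork.IsLimit.ofι' _ _ (fun {W} t ht => ?_)
      have ht' : (t ≫ eA.inv) ≫ L.map g = 0 := by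
        rw [hg]
        simp [reassoc_of% ht]
      refine ⟨hL.lift (KernelFork.ofι _ ht'), ?_⟩
      have := hL.fac (KernelFork.ofι _ ht') WalkingParallelPair.zero
      have h2 : hL.lift (KernelFork.ofι _ ht') ≫ L.map (kernel.ι g) = t ≫ eA.inv := this
      rw [reassoc_of% h2]
      simp
    exact IsLimit.conePointUniqueUpToIso hk' hk
  cokernels_le := by
    rintro _ ⟨f, k, hk, ⟨A, hA, ⟨eA⟩⟩, ⟨B, hB, ⟨eB⟩⟩⟩
    let g : A ⟶ B := L.preimage (eA.hom ≫ f ≫ eB.inv)
    have hg : L.map g = eA.hom ≫ f ≫ eB.inv := L.map_preimage _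
    refine ⟨cokernel g, S.prop_cokernel g hA hB, ⟨?_⟩⟩
    have hk' : IsColimit (CokernelCofork.ofπ (eB.inv ≫ L.map (cokernel.π g)) (by
        have h0 : L.map g ≫ L.map (cokernel.π g) = 0 := by
          rw [← L.map_comp, cokernel.condition, L.map_zero]
        rw [hg] at h0
        have h1 := eA.inv ≫= h0
        simpa using h1) : CokernelCofork f) := by
      have hL : IsColimit (CokernelCofork.ofπ (L.map (cokernel.π g)) (by
          rw [← L.map_comp, cokernel.condition, L.map_zero]) : CokernelCofork (L.map g)) :=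
        CokernelCofork.mapIsColimit _ (cokernelIsCokernel g) L
      refine CokernelCofork.IsColimit.ofπ' _ _ (fun {W} t ht => ?_)
      have ht' : L.map g ≫ (eB.hom ≫ t) = 0 := by
        rw [hg]
        simp [ht]
      refine ⟨hL.desc (CokernelCofork.ofπ _ ht'), ?_⟩
      have := hL.fac (CokernelCofork.ofπ _ ht') WalkingParallelPair.one
      have h2 : L.map (cokernel.π g) ≫ hL.desc (CokernelCofork.ofπ _ ht') = eB.hom ≫ t := this
      rw [Category.assoc, h2]
      simp
    exact IsColimit.coconePointUniqueUpToIso hk' hk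
  prop_X₂_of_shortExact := by
    rintro T hT ⟨A, hA, ⟨eA⟩⟩ ⟨B, hB, ⟨eB⟩⟩
    obtain ⟨E, ⟨eE⟩⟩ := hext T hT A B hA hB eA eB
    refine ⟨E, ?_, ⟨eE⟩⟩
    let g₁ : A ⟶ E := L.preimage (eA.hom ≫ T.f ≫ eE.inv)
    let g₂ : E ⟶ B := L.preimage (eE.hom ≫ T.g ≫ eB.inv)
    have hg₁ : L.map g₁ = eA.hom ≫ T.f ≫ eE.inv := L.map_preimage _
    have hg₂ : L.map g₂ = eE.hom ≫ T.g ≫ eB.inv := L.map_preimage _
    have hz : g₁ ≫ g₂ = 0 := by
      apply L.map_injective
      rw [L.map_comp, hg₁, hg₂, L.map_zero]
      simp
    let T' : ShortComplex C := ShortComplex.mk g₁ g₂ hz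
    have e : T'.map L ≅ T := ShortComplex.isoMk eA eE eB (by
      change eA.hom ≫ T.f = L.map g₁ ≫ eE.hom
      rw [hg₁]; simp) (by
      change eE.hom ≫ T.g = L.map g₂ ≫ eB.hom
      rw [hg₂]; simp)
    have h' : (T'.map L).ShortExact := ShortComplex.shortExact_of_iso e.symm hT
    have hT' : T'.ShortExact := by
      haveI : Mono (L.map g₁) := h'.mono_f
      haveI : Epi (L.map g₂) := h'.epi_g
      haveI : Mono T'.f := L.mono_of_mono_map (inferInstanceAs (Mono (L.map g₁)))
      haveI : Epi T'.g := L.epi_of_epi_map (inferInstanceAs (Epi (L.map g₂)))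
      exact ShortComplex.ShortExact.mk ((ShortComplex.exact_map_iff_of_faithful T' L).1 h'.exact)
    exact S.prop_X₂_of_shortExact hT' hA hB

end serre

end Groth.Agent.Lib.AdjExt22
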