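/-
helper20: **a left adjoint preserves the kernel of a morphism between objects on which the unit is an isomorphism**.

`Φ ⊣ Ψ` between abelian categories, `Ψ` reflecting isomorphisms.  If the unit is an isomorphism at `M`, `N` and at
`kernel f` (`f : M ⟶ N`), then `kernelComparison f Φ : Φ (kernel f) ⟶ kernel (Φ f)` is an isomorphism.
(Example: `Φ = i^*`, `Ψ = i_*` for a closed immersion `i`, objects killed by the ideal of `i`.)
-/
import Mathlib

set_option autoImplicit false
set_option linter.style.haveILetI false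

open CategoryTheory CategoryTheory.Limits

namespace Groth.Agent.Lib.AdjKer20

universe v u v' u'

variable {C : Type u} [Category.{v} C] {D : Type u'} [Category.{v'} D] [Abelian C] [Abelian D]

theorem isIso_kernelComparison {Φ : D ⥤ C} {Ψ : C ⥤ D} (adj : Φ ⊣ Ψ) [Φ.PreservesZeroMorphisms]
    [Ψ.PreservesZeroMorphisms] [Ψ.ReflectsIsomorphisms] {M N : D} (f : M ⟶ N)
    [IsIso (adj.unit.app M)] [IsIso (adj.unit.app N)] [IsIso (adj.unit.app (kernel f))] :
    IsIso (kernelComparison f Φ) := by
  haveI : PreservesLimitsOfSize.{0, 0} Ψ := adj.rightAdjoint_preservesLimits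
  have w : f ≫ (asIso (adj.unit.app N)).hom = (asIso (adj.unit.app M)).hom ≫ Ψ.map (Φ.map f) := by
    simp only [asIso_hom]
    exact adj.unit.naturality f
  have key : adj.unit.app (kernel f) ≫ Ψ.map (kernelComparison f Φ) ≫
      kernelComparison (Φ.map f) Ψ =
      (kernel.mapIso f (Ψ.map (Φ.map f)) (asIso (adj.unit.app M)) (asIso (adj.unit.app N)) w).hom := by
    rw [← cancel_mono (kernel.ι (Ψ.map (Φ.map f)))]
    simp only [Category.assoc, kernelComparison_comp_ι, kernel.mapIso_hom, kernel.lift_ι, asIso_hom]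
    rw [← Ψ.map_comp, kernelComparison_comp_ι]
    exact (adj.unit.naturality (kernel.ι f)).symm
  haveI : IsIso (kernelComparison (Φ.map f) Ψ) := by
    rw [← PreservesKernel.iso_hom]
    infer_instance
  have h2 : IsIso (Ψ.map (kernelComparison f Φ) ≫ kernelComparison (Φ.map f) Ψ) := by
    have : Ψ.map (kernelComparison f Φ) ≫ kernelComparison (Φ.map f) Ψ =
        inv (adj.unit.app (kernel f)) ≫ (kernel.mapIso f (Ψ.map (Φ.map f)) (asIso (adj.unit.app M))
          (asIso (adj.unit.app N)) w).hom := by
      rw [← key, IsIso.inv_hom_id_assoc]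
    rw [this]
    infer_instance
  haveI : IsIso (Ψ.map (kernelComparison f Φ)) :=
    IsIso.of_isIso_comp_right _ (kernelComparison (Φ.map f) Ψ)
  exact isIso_of_reflects_iso _ Ψ

end Groth.Agent.Lib.AdjKer20
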