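import Mathlib.CategoryTheory.Abelian.Basic
import Mathlib.CategoryTheory.Preadditive.Injective.Basic
import Mathlib.CategoryTheory.Adjunction.Basic

/-!
# Adjoint triples `L ⊣ R ⊣ T` with monomorphic counits `L R G ⟶ G` and injective objects (helper65)

Mathlib-only copy (light imports) of `Lib/LocCohShift65.exists_section_unit`:
for `I` injective the unit `I ⟶ T R I` is a split epimorphism; hence `ker (I ⟶ T R I)` is a direct
summand of `I`, in particular injective.
-/

set_option autoImplicit false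
universe v₁ v₂ u₁ u₂
open CategoryTheory CategoryTheory.Limits

namespace Groth.Agent.Lib.AdjTripleInj65

variable {𝒜 : Type u₁} [Category.{v₁} 𝒜] [Abelian 𝒜] {ℬ : Type u₂} [Category.{v₂} ℬ] [Abelian ℬ]
  {L : ℬ ⥤ 𝒜} {R : 𝒜 ⥤ ℬ} {T : ℬ ⥤ 𝒜} (adj₁ : L ⊣ R) (adj₂ : R ⊣ T)

include adj₁ adj₂ in
theorem exists_section_unit (I : 𝒜) [Injective I] (hε : Mono (adj₁.counit.app (T.obj (R.obj I)))) :
    ∃ s : T.obj (R.obj I) ⟶ I, s ≫ adj₂.unit.app I = 𝟙 _ := by
  let t : L.obj (R.obj (T.obj (R.obj I))) ⟶ I :=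
    (adj₁.homEquiv _ _).symm (adj₂.counit.app (R.obj I))
  let s : T.obj (R.obj I) ⟶ I := Injective.factorThru t (adj₁.counit.app (T.obj (R.obj I)))
  have hs : adj₁.counit.app (T.obj (R.obj I)) ≫ s = t := Injective.comp_factorThru _ _
  have hRs : R.map s = adj₂.counit.app (R.obj I) := by
    have h1 := congrArg (adj₁.homEquiv _ _) hs
    rw [Equiv.apply_symm_apply, Adjunction.homEquiv_unit, R.map_comp, ← Category.assoc,
      adj₁.right_triangle_components, Category.id_comp] at h1
    exact h1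
  refine ⟨s, ?_⟩
  apply (adj₂.homEquiv _ _).symm.injective
  rw [Adjunction.homEquiv_counit, Adjunction.homEquiv_counit, R.map_comp, Category.assoc,
    adj₂.left_triangle_components, Category.comp_id, hRs, CategoryTheory.Functor.map_id,
    Category.id_comp]

include adj₁ adj₂ in
theorem epi_unit (I : 𝒜) [Injective I] (hε : Mono (adj₁.counit.app (T.obj (R.obj I)))) :
    Epi (adj₂.unit.app I) := by
  obtain ⟨s, hs⟩ := exists_section_unit adj₁ adj₂ I hε
  exact (IsSplitEpi.mk' ⟨s, hs⟩ : IsSplitEpi _).epi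

end Groth.Agent.Lib.AdjTripleInj65
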