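import Mathlib.CategoryTheory.Adjunction.Unique

/-!
# A coherence lemma for `Adjunction.leftAdjointUniq` (helper39)

Abstract form of "pullback of the constant sheaf is compatible with composition of pullbacks".
-/

universe v₁ v₂ v₃ v₄ u₁ u₂ u₃ u₄

namespace Groth.Agent.Lib.AdjUniqComp

open CategoryTheory

variable {𝒜 : Type u₁} [Category.{v₁} 𝒜] {𝒳 : Type u₂} [Category.{v₂} 𝒳]
  {𝒰 : Type u₃} [Category.{v₃} 𝒰] {𝒲 : Type u₄} [Category.{v₄} 𝒲]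
  {cX : 𝒜 ⥤ 𝒳} {gX : 𝒳 ⥤ 𝒜} (CX : cX ⊣ gX)
  {cU : 𝒜 ⥤ 𝒰} {gU : 𝒰 ⥤ 𝒜} (CU : cU ⊣ gU)
  {cW : 𝒜 ⥤ 𝒲} {gW : 𝒲 ⥤ 𝒜} (CW : cW ⊣ gW)
  {pt : 𝒳 ⥤ 𝒰} {qt : 𝒰 ⥤ 𝒳} (Pt : pt ⊣ qt)
  {pa : 𝒰 ⥤ 𝒲} {qa : 𝒲 ⥤ 𝒰} (Pa : pa ⊣ qa)
  {pf : 𝒳 ⥤ 𝒲} {qf : 𝒲 ⥤ 𝒳} (Pf : pf ⊣ qf)
  (Gt : qt ⋙ gX ≅ gU) (Ga : qa ⋙ gU ≅ gW) (Gf : qf ⋙ gX ≅ gW) (K : qa ⋙ qt ≅ qf)

/-- the isomorphism `cX ⋙ pt ≅ cU` from uniqueness of left adjoints -/
noncomputable abbrev constIso : cX ⋙ pt ≅ cU :=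
  Adjunction.leftAdjointUniq ((CX.comp Pt).ofNatIsoRight Gt) CU

/-- the isomorphism `pf ≅ pt ⋙ pa` from uniqueness of left adjoints -/
noncomputable abbrev compIso : pf ≅ pt ⋙ pa :=
  Adjunction.leftAdjointUniq Pf ((Pt.comp Pa).ofNatIsoRight K)

lemma homEquiv_constIso (M : 𝒜) :
    CX.unit.app M ≫ gX.map (Pt.unit.app (cX.obj M) ≫ qt.map ((constIso CX CU Pt Gt).hom.app M)) ≫
      Gt.hom.app (cU.obj M) = CU.unit.app M := by
  have h := Adjunction.homEquiv_leftAdjointUniq_hom_app ((CX.comp Pt).ofNatIsoRight Gt) CU M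
  rw [Adjunction.homEquiv_ofNatIsoRight_apply, Adjunction.comp_homEquiv] at h
  simpa only [Equiv.trans_apply, Adjunction.homEquiv_unit, Functor.comp_obj, Category.assoc,
    Functor.map_comp] using h

lemma unit_compIso (A : 𝒳) :
    Pf.unit.app A ≫ qf.map ((compIso Pt Pa Pf K).hom.app A) =
      Pt.unit.app A ≫ qt.map (Pa.unit.app (pt.obj A)) ≫ K.hom.app _ := by
  have := Adjunction.unit_leftAdjointUniq_hom_app Pf ((Pt.comp Pa).ofNatIsoRight K) A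
  refine this.trans ?_
  simp only [Adjunction.ofNatIsoRight_unit, NatTrans.comp_app, Functor.whiskerLeft_app,
    Adjunction.comp_unit_app, Functor.comp_obj, Category.assoc]

theorem constIso_comp
    (hK : ∀ B : 𝒲, gX.map (K.hom.app B) ≫ Gf.hom.app B = Gt.hom.app (qa.obj B) ≫ Ga.hom.app B)
    (M : 𝒜) :
    (constIso CX CW Pf Gf).hom.app M =
      (compIso Pt Pa Pf K).hom.app (cX.obj M) ≫ pa.map ((constIso CX CU Pt Gt).hom.app M) ≫
        (constIso CU CW Pa Ga).hom.app M := by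
  apply (((CX.comp Pf).ofNatIsoRight Gf).homEquiv M _).injective
  rw [Adjunction.homEquiv_leftAdjointUniq_hom_app, Adjunction.homEquiv_ofNatIsoRight_apply,
    Adjunction.comp_homEquiv]
  simp only [Equiv.trans_apply, Adjunction.homEquiv_unit, Functor.comp_obj, Category.assoc]
  set ct := (constIso CX CU Pt Gt).hom.app M
  set ca := (constIso CU CW Pa Ga).hom.app M
  have hu : Pa.unit.app (pt.obj (cX.obj M)) ≫ qa.map (pa.map ct) = ct ≫ Pa.unit.app (cU.obj M) :=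
    (Pa.unit.naturality ct).symm
  have hn : K.hom.app (pa.obj (pt.obj (cX.obj M))) ≫ qf.map (pa.map ct ≫ ca) =
      qt.map (qa.map (pa.map ct ≫ ca)) ≫ K.hom.app (cW.obj M) := (K.hom.naturality _).symm
  have h1 : Pf.unit.app (cX.obj M) ≫
      qf.map ((compIso Pt Pa Pf K).hom.app (cX.obj M) ≫ pa.map ct ≫ ca) =
      (Pt.unit.app (cX.obj M) ≫ qt.map ct) ≫
        qt.map (Pa.unit.app (cU.obj M) ≫ qa.map ca) ≫ K.hom.app (cW.obj M) := by
    calc _ = (Pf.unit.app (cX.obj M) ≫ qf.map ((compIso Pt Pa Pf K).hom.app (cX.obj M))) ≫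
          qf.map (pa.map ct ≫ ca) := by rw [Functor.map_comp, Category.assoc]
      _ = Pt.unit.app (cX.obj M) ≫ qt.map (Pa.unit.app (pt.obj (cX.obj M))) ≫
          K.hom.app (pa.obj (pt.obj (cX.obj M))) ≫ qf.map (pa.map ct ≫ ca) := by
        rw [unit_compIso]; simp only [Category.assoc]
      _ = Pt.unit.app (cX.obj M) ≫ qt.map (Pa.unit.app (pt.obj (cX.obj M))) ≫
          qt.map (qa.map (pa.map ct ≫ ca)) ≫ K.hom.app (cW.obj M) := by rw [hn]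
      _ = Pt.unit.app (cX.obj M) ≫
          qt.map ((Pa.unit.app (pt.obj (cX.obj M)) ≫ qa.map (pa.map ct)) ≫ qa.map ca) ≫
            K.hom.app (cW.obj M) := by simp only [Functor.map_comp, Category.assoc]
      _ = Pt.unit.app (cX.obj M) ≫ qt.map ((ct ≫ Pa.unit.app (cU.obj M)) ≫ qa.map ca) ≫
            K.hom.app (cW.obj M) := by rw [hu]
      _ = _ := by simp only [Functor.map_comp, Category.assoc]
  have h3 : gX.map (qt.map (Pa.unit.app (cU.obj M) ≫ qa.map ca)) ≫ Gt.hom.app (qa.obj (cW.obj M)) =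
      Gt.hom.app (cU.obj M) ≫ gU.map (Pa.unit.app (cU.obj M) ≫ qa.map ca) :=
    Gt.hom.naturality (Pa.unit.app (cU.obj M) ≫ qa.map ca)
  have h4 := homEquiv_constIso CX CU Pt Gt M
  have h5 := homEquiv_constIso CU CW Pa Ga M
  rw [h1]
  calc CW.unit.app M = CU.unit.app M ≫ gU.map (Pa.unit.app (cU.obj M) ≫ qa.map ca) ≫
        Ga.hom.app (cW.obj M) := h5.symm
    _ = (CX.unit.app M ≫ gX.map (Pt.unit.app (cX.obj M) ≫ qt.map ct) ≫ Gt.hom.app (cU.obj M)) ≫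
        gU.map (Pa.unit.app (cU.obj M) ≫ qa.map ca) ≫ Ga.hom.app (cW.obj M) := by rw [h4]
    _ = CX.unit.app M ≫ gX.map (Pt.unit.app (cX.obj M) ≫ qt.map ct) ≫
        (Gt.hom.app (cU.obj M) ≫ gU.map (Pa.unit.app (cU.obj M) ≫ qa.map ca)) ≫
          Ga.hom.app (cW.obj M) := by simp only [Category.assoc]
    _ = CX.unit.app M ≫ gX.map (Pt.unit.app (cX.obj M) ≫ qt.map ct) ≫
        gX.map (qt.map (Pa.unit.app (cU.obj M) ≫ qa.map ca)) ≫
          (Gt.hom.app (qa.obj (cW.obj M)) ≫ Ga.hom.app (cW.obj M)) := by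
      rw [← h3]; simp only [Category.assoc]
    _ = CX.unit.app M ≫ gX.map (Pt.unit.app (cX.obj M) ≫ qt.map ct) ≫
        gX.map (qt.map (Pa.unit.app (cU.obj M) ≫ qa.map ca)) ≫
          (gX.map (K.hom.app (cW.obj M)) ≫ Gf.hom.app (cW.obj M)) := by rw [hK]
    _ = _ := by simp only [Functor.map_comp, Category.assoc]

end Groth.Agent.Lib.AdjUniqComp
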