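import Mathlib.LinearAlgebra.TensorProduct.Basis
import Mathlib.LinearAlgebra.FiniteDimensional.Lemmas
import Mathlib.LinearAlgebra.Dimension.Constructions
import Mathlib.RingTheory.TensorProduct.Basic
import Mathlib.Order.Directed

/-!
# helper44: linear algebra for admissible subfields (EGA 0_IV 21.8)

* `tensor_forall_ker`: if a family of `K`-linear maps `g i : M → M' i` is jointly injective, so is
  the family of base changes `L ⊗ M → L ⊗ M' i` (`K` a field).
* `exists_inf_eq_bot`: a finite-dimensional subspace meets some member of a decreasing filtered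
  family of subspaces with zero intersection trivially.
* `mem_of_forall_mem_sup`: `⋂ (U + N i) = U` for `U` finite-dimensional and `N` as above.
-/

set_option autoImplicit false

open TensorProduct

namespace Groth.Agent.Lib.AdmissibleH44

section Tensor

variable {K : Type*} [Field K] {L : Type*} [Field L] [Algebra K L]
  {M : Type*} [AddCommGroup M] [Module K M]

theorem baseChange_sum_basis {J : Type*} (ℬ : Module.Basis J K L) {M' : Type*} [AddCommGroup M']
    [Module K M'] (g : M →ₗ[K] M') (b : J →₀ M) :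
    g.baseChange L (b.sum fun i n => ℬ i ⊗ₜ[K] n) =
      (b.mapRange g (map_zero g)).sum fun i n => ℬ i ⊗ₜ[K] n := by
  rw [Finsupp.sum, map_sum, Finsupp.sum_mapRange_index (by intro i; simp)]
  rfl

theorem tensor_forall_ker {ι : Type*} {M' : ι → Type*} [∀ i, AddCommGroup (M' i)]
    [∀ i, Module K (M' i)] (g : ∀ i, M →ₗ[K] M' i)
    (hg : ∀ m : M, (∀ i, g i m = 0) → m = 0) (v : L ⊗[K] M)
    (hv : ∀ i, (g i).baseChange L v = 0) : v = 0 := by
  classical
  let ℬ := Module.Basis.ofVectorSpace K L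
  obtain ⟨b, rfl⟩ := TensorProduct.eq_repr_basis_left ℬ v
  have hb : b = 0 := by
    ext j
    apply hg
    intro i
    have h1 := hv i
    rw [baseChange_sum_basis] at h1
    have h2 := TensorProduct.sum_tmul_basis_left_eq_zero ℬ _ h1
    have h3 := DFunLike.congr_fun h2 j
    simpa using h3
  rw [hb]
  simp

/-- kernels of base changes are monotone in the kernel -/
theorem ker_baseChange_mono {M' M'' : Type*} [AddCommGroup M'] [Module K M'] [AddCommGroup M'']
    [Module K M''] (g : M →ₗ[K] M') (g' : M →ₗ[K] M'')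
    (h : LinearMap.ker g ≤ LinearMap.ker g') :
    LinearMap.ker (g.baseChange L) ≤ LinearMap.ker (g'.baseChange L) := by
  classical
  let ℬ := Module.Basis.ofVectorSpace K L
  intro v hv
  obtain ⟨b, rfl⟩ := TensorProduct.eq_repr_basis_left ℬ v
  rw [LinearMap.mem_ker, baseChange_sum_basis] at hv ⊢
  have h2 := TensorProduct.sum_tmul_basis_left_eq_zero ℬ _ hv
  have h3 : b.mapRange g' (map_zero g') = 0 := by
    ext j
    have := DFunLike.congr_fun h2 j
    simp only [Finsupp.mapRange_apply, Finsupp.coe_zero, Pi.zero_apply] at this ⊢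
    exact h this
  rw [h3]
  simp

end Tensor

section FD

variable {L : Type*} [Field L] {V : Type*} [AddCommGroup V] [Module L V]
  {ι : Type*} [Preorder ι] [IsDirected ι (· ≤ ·)] [Nonempty ι]

theorem exists_inf_eq_bot (U : Submodule L V) [Module.Finite L U] (N : ι → Submodule L V)
    (hN : Antitone N) (h0 : ⨅ i, N i = ⊥) : ∃ i, U ⊓ N i = ⊥ := by
  obtain ⟨_, ⟨i, rfl⟩, hmin⟩ := (wellFounded_lt (α := ℕ)).has_min
    (Set.range fun i => Module.finrank L ↥(U ⊓ N i)) (Set.range_nonempty _)
  refine ⟨i, ?_⟩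
  rw [eq_bot_iff, ← h0]
  apply le_iInf
  intro j
  obtain ⟨l, hjl, hil⟩ := exists_ge_ge j i
  have hle : U ⊓ N l ≤ U ⊓ N i := inf_le_inf_left U (hN hil)
  have hfin : Module.Finite L ↥(U ⊓ N i) := Module.Finite.of_injective
    (Submodule.inclusion (inf_le_left : U ⊓ N i ≤ U)) (Submodule.inclusion_injective _)
  have hrank : Module.finrank L ↥(U ⊓ N i) ≤ Module.finrank L ↥(U ⊓ N l) :=
    not_lt.1 (hmin _ ⟨l, rfl⟩)
  have heq : U ⊓ N l = U ⊓ N i := Submodule.eq_of_le_of_finrank_le hle hrank
  calc U ⊓ N i = U ⊓ N l := heq.symm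
    _ ≤ N l := inf_le_right
    _ ≤ N j := hN hjl

theorem mem_of_forall_mem_sup (U : Submodule L V) [Module.Finite L U] (N : ι → Submodule L V)
    (hN : Antitone N) (h0 : ⨅ i, N i = ⊥) (η : V) (hη : ∀ i, η ∈ U ⊔ N i) : η ∈ U := by
  obtain ⟨i₁, hi₁⟩ := exists_inf_eq_bot U N hN h0
  obtain ⟨u, hu, n, hn, hsum⟩ := Submodule.mem_sup.1 (hη i₁)
  have key : ∀ j, i₁ ≤ j → η - u ∈ N j := by
    intro j hj
    obtain ⟨u', hu', n', hn', hsum'⟩ := Submodule.mem_sup.1 (hη j)
    have hmem : u - u' ∈ U ⊓ N i₁ := by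
      refine ⟨U.sub_mem hu hu', ?_⟩
      have : u - u' = n' - n := by
        have h := hsum.trans hsum'.symm
        rw [sub_eq_sub_iff_add_eq_add, h, add_comm]
      rw [this]
      exact (N i₁).sub_mem (hN hj hn') hn
    rw [hi₁, Submodule.mem_bot, sub_eq_zero] at hmem
    rw [hmem, ← hsum']
    simpa using hn'
  have hall : η - u ∈ ⨅ i, N i := by
    rw [Submodule.mem_iInf]
    intro j
    obtain ⟨l, hjl, hil⟩ := exists_ge_ge j i₁
    exact hN hjl (key l hil)
  rw [h0, Submodule.mem_bot, sub_eq_zero] at hall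
  rw [hall]
  exact hu

end FD

end Groth.Agent.Lib.AdmissibleH44
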