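import Groth.Prelude.Def_LinTop
import Mathlib.Topology.Algebra.InfiniteSum.Nonarchimedean
import Mathlib.Topology.Algebra.LinearTopology
import Mathlib.RingTheory.Jacobson.Ideal

/-!
Basic facts on admissible linearly topologized rings: elements of an ideal of definition are
topologically nilpotent, `1 - x` is invertible for them, ideals of definition lie in the
Jacobson radical.
-/

set_option autoImplicit false
universe u

namespace Groth.Agent.Lib.AdmissibleUnits

open Filter Topology

/-- A linearly topologized commutative topological ring is a nonarchimedean additive group. -/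
theorem nonarchimedeanAddGroup (A : Type u) [CommRing A] [TopologicalSpace A]
    [IsTopologicalRing A] [IsLinearTopology A A] : NonarchimedeanAddGroup A where
  is_nonarchimedean U hU := by
    obtain ⟨I, hI, hIU⟩ := (IsLinearTopology.hasBasis_open_ideal (R := A)).mem_iff.mp hU
    exact ⟨⟨I.toAddSubgroup, hI⟩, hIU⟩

/-- Powers of an element of an ideal of definition tend to zero. -/
theorem tendsto_pow_zero (A : Type u) [CommRing A] [TopologicalSpace A] (J : Ideal A)
    (hJ : LinTop.IsIdealOfDefinition A J) {x : A} (hx : x ∈ J) :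
    Tendsto (fun n : ℕ => x ^ n) atTop (𝓝 0) := by
  rw [tendsto_def]
  intro U hU
  obtain ⟨n, -, hn⟩ := hJ.2 U hU
  rw [mem_atTop_sets]
  refine ⟨n, fun m hm => ?_⟩
  apply hn
  exact Ideal.pow_le_pow_right hm (Ideal.pow_mem_pow hx m)

/-- In an admissible ring, `1 - x` is a unit for `x` in an ideal of definition. -/
theorem isUnit_one_sub (A : Type u) [CommRing A] [UniformSpace A] [IsUniformAddGroup A]
    [IsTopologicalRing A] (hA : LinTop.IsAdmissible A) (J : Ideal A)
    (hJ : LinTop.IsIdealOfDefinition A J) {x : A} (hx : x ∈ J) : IsUnit (1 - x) := by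
  obtain ⟨⟨hlin, -⟩, hT2, hcomp⟩ := hA
  have := nonarchimedeanAddGroup A
  have hsum : Summable (fun n : ℕ => x ^ n) := by
    apply NonarchimedeanAddGroup.summable_of_tendsto_cofinite_zero
    rw [Nat.cofinite_eq_atTop]
    exact tendsto_pow_zero A J hJ hx
  exact IsUnit.of_mul_eq_one _ hsum.one_sub_mul_tsum_pow

/-- In an admissible ring, every ideal of definition lies in the Jacobson radical. -/
theorem le_jacobson_bot (A : Type u) [CommRing A] [UniformSpace A] [IsUniformAddGroup A]
    [IsTopologicalRing A] (hA : LinTop.IsAdmissible A) (J : Ideal A)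
    (hJ : LinTop.IsIdealOfDefinition A J) : J ≤ Ideal.jacobson (⊥ : Ideal A) := by
  intro x hx
  rw [Ideal.mem_jacobson_bot]
  intro y
  have h : -(x * y) ∈ J := J.neg_mem (J.mul_mem_right y hx)
  have := isUnit_one_sub A hA J hJ h
  simpa [sub_neg_eq_add, add_comm] using this

end Groth.Agent.Lib.AdmissibleUnits
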