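import Mathlib.AlgebraicGeometry.Gluing
import Mathlib.AlgebraicGeometry.Restrict
import Mathlib.AlgebraicGeometry.Cover.Open

/-!
# Gluing morphisms of schemes along a family of open subschemes

`existsUnique_glue`: given opens `U i` covering `X` and morphisms `g i : U i ⟶ Z` that agree
locally on the overlaps (every point of `U i ⊓ U j` has an open neighbourhood `W ≤ U i ⊓ U j` on
which `g i` and `g j` restrict to the same morphism), there is a unique `h : X ⟶ Z` with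
`(U i).ι ≫ h = g i`.
-/

set_option autoImplicit false

universe u

open CategoryTheory CategoryTheory.Limits AlgebraicGeometry TopologicalSpace

namespace Groth.Agent.Lib.OpensGlue

variable {X Z : Scheme.{u}} {ι : Type u} (U : ι → X.Opens)

/-- Two morphisms agreeing on a family of opens covering `X` are equal. -/
theorem hom_ext_of_iSup_eq_top (hU : ⨆ i, U i = ⊤) (f g : X ⟶ Z)
    (h : ∀ i, (U i).ι ≫ f = (U i).ι ≫ g) : f = g := by
  refine Scheme.hom_ext_of_forall _ _ fun x => ?_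
  have hx : x ∈ (⊤ : X.Opens) := trivial
  rw [← hU, Opens.mem_iSup] at hx
  obtain ⟨i, hi⟩ := hx
  exact ⟨U i, hi, h i⟩

/-- Local agreement on overlaps gives agreement on the fibre product. -/
theorem fst_comp_eq_snd_comp (g : ∀ i, ((U i : X.Opens) : Scheme.{u}) ⟶ Z)
    (hg : ∀ (i j : ι) (x : X), x ∈ U i → x ∈ U j →
      ∃ (W : X.Opens) (hi : W ≤ U i) (hj : W ≤ U j), x ∈ W ∧
        X.homOfLE hi ≫ g i = X.homOfLE hj ≫ g j) (i j : ι) :
    pullback.fst (U i).ι (U j).ι ≫ g i = pullback.snd (U i).ι (U j).ι ≫ g j := by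
  refine Scheme.hom_ext_of_forall _ _ fun x => ?_
  let q : pullback (U i).ι (U j).ι ⟶ X := pullback.fst (U i).ι (U j).ι ≫ (U i).ι
  have hq : q = pullback.snd (U i).ι (U j).ι ≫ (U j).ι := pullback.condition
  have hxi : q x ∈ U i := by
    change (pullback.fst (U i).ι (U j).ι ≫ (U i).ι) x ∈ U i
    rw [Scheme.Hom.comp_apply]
    exact (pullback.fst (U i).ι (U j).ι x).2
  have hxj : q x ∈ U j := by
    rw [hq, Scheme.Hom.comp_apply]
    exact (pullback.snd (U i).ι (U j).ι x).2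
  obtain ⟨W, hi, hj, hxW, hW⟩ := hg i j (q x) hxi hxj
  refine ⟨q ⁻¹ᵁ W, hxW, ?_⟩
  have hle : ((q ⁻¹ᵁ W).ι ≫ q).opensRange ≤ W.ι.opensRange := by
    rw [Scheme.Opens.opensRange_ι]
    rintro _ ⟨y, rfl⟩
    rw [Scheme.Hom.comp_apply]
    exact y.2
  let l : ((q ⁻¹ᵁ W : (pullback (U i).ι (U j).ι).Opens) : Scheme.{u}) ⟶ W :=
    IsOpenImmersion.lift W.ι ((q ⁻¹ᵁ W).ι ≫ q) hle
  have hl : l ≫ W.ι = (q ⁻¹ᵁ W).ι ≫ q := IsOpenImmersion.lift_fac _ _ _
  have h1 : (q ⁻¹ᵁ W).ι ≫ pullback.fst (U i).ι (U j).ι = l ≫ X.homOfLE hi := by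
    rw [← cancel_mono (U i).ι]
    simp only [Category.assoc, Scheme.homOfLE_ι, hl]
    rfl
  have h2 : (q ⁻¹ᵁ W).ι ≫ pullback.snd (U i).ι (U j).ι = l ≫ X.homOfLE hj := by
    rw [← cancel_mono (U j).ι]
    simp only [Category.assoc, Scheme.homOfLE_ι, hl]
    rw [hq]
  rw [reassoc_of% h1, reassoc_of% h2, hW]

/-- Gluing morphisms along a family of opens covering `X`. -/
theorem existsUnique_glue (hU : ⨆ i, U i = ⊤) (g : ∀ i, ((U i : X.Opens) : Scheme.{u}) ⟶ Z)
    (hg : ∀ (i j : ι) (x : X), x ∈ U i → x ∈ U j →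
      ∃ (W : X.Opens) (hi : W ≤ U i) (hj : W ≤ U j), x ∈ W ∧
        X.homOfLE hi ≫ g i = X.homOfLE hj ≫ g j) :
    ∃! h : X ⟶ Z, ∀ i, (U i).ι ≫ h = g i := by
  have compat := fst_comp_eq_snd_comp U g hg
  refine ⟨(X.openCoverOfIsOpenCover U hU).glueMorphisms g compat,
    fun i => (X.openCoverOfIsOpenCover U hU).ι_glueMorphisms g compat i, ?_⟩
  intro h' hh'
  refine hom_ext_of_iSup_eq_top U hU _ _ fun i => ?_
  rw [hh' i]
  exact ((X.openCoverOfIsOpenCover U hU).ι_glueMorphisms g compat i).symm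

end Groth.Agent.Lib.OpensGlue
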