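import Groth.Prelude.Def_AffAlg
import Groth.Agent.Lib.OpensGlue

/-!
# Morphisms into a scheme affine over the base and algebra homomorphisms (helper3)

* `ι_comp_eq`: for `k : T ⟶ X`, `W` an affine open of `X` and `V ≤ k⁻¹W`,
  `V.ι ≫ k = V.toSpecΓ ≫ Spec.map (k.appLE W V e) ≫ hW.fromSpec`.
* `algHom_app`: the sections of `AffAlg.algHom` are `appLE`.
* `algOf_injective`, `algOf_surjective`, `algOf_bijective` for `f` affine.
-/

set_option autoImplicit false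

universe u

open CategoryTheory CategoryTheory.Limits AlgebraicGeometry TopologicalSpace Opposite

namespace Groth.Agent.Lib.AffAlgH3

section key

variable {T X : Scheme.{u}}

/-- A morphism restricted to an open mapping into an affine open is determined by `appLE`. -/
theorem ι_comp_eq (k : T ⟶ X) {W : X.Opens} (hW : IsAffineOpen W) (V : T.Opens) (e : V ≤ k ⁻¹ᵁ W) :
    V.ι ≫ k = V.toSpecΓ ≫ Spec.map (k.appLE W V e) ≫ hW.fromSpec := by
  rw [Scheme.Opens.toSpecΓ_SpecMap_appLE_assoc, hW.toSpecΓ_fromSpec, Scheme.Hom.resLE_comp_ι]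

/-- `toSpecΓ ≫ Spec.map a ≫ fromSpec` determines `a`. -/
theorem eq_of_toSpecΓ_comp_eq {W : X.Opens} (hW : IsAffineOpen W) (V : T.Opens)
    (a b : Γ(X, W) ⟶ Γ(T, V))
    (h : V.toSpecΓ ≫ Spec.map a ≫ hW.fromSpec = V.toSpecΓ ≫ Spec.map b ≫ hW.fromSpec) : a = b := by
  have h1 : V.toSpecΓ ≫ Spec.map a = V.toSpecΓ ≫ Spec.map b := by
    have := hW.isOpenImmersion_fromSpec
    rw [← cancel_mono hW.fromSpec]
    simpa only [Category.assoc] using h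
  have h2 := congrArg Scheme.Hom.appTop h1
  rw [Scheme.Hom.comp_appTop, Scheme.Hom.comp_appTop, Scheme.Opens.toSpecΓ_appTop] at h2
  have h3 : ∀ c : Γ(X, W) ⟶ Γ(T, V), (Spec.map c).appTop =
      (Scheme.ΓSpecIso _).hom ≫ c ≫ (Scheme.ΓSpecIso _).inv := by
    intro c
    rw [← Scheme.ΓSpecIso_naturality_assoc, Iso.hom_inv_id, Category.comp_id]
  rw [h3, h3] at h2
  simp only [Category.assoc, Iso.inv_hom_id_assoc] at h2
  rw [cancel_epi] at h2
  exact (cancel_mono _).mp h2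

end key

section alg

variable {X Y S : Scheme.{u}} (f : X ⟶ S) (g : Y ⟶ S)

theorem preimage_le (h : Y ⟶ X) (w : h ≫ f = g) (U : S.Opens) : g ⁻¹ᵁ U ≤ h ⁻¹ᵁ (f ⁻¹ᵁ U) := by
  subst w; exact le_rfl

/-- The sections of `AffAlg.algHom` over `U` are `h.appLE (f⁻¹U) (g⁻¹U)`. -/
theorem algHom_app (h : Y ⟶ X) (w : h ≫ f = g) (U : S.Opens) :
    (AffAlg.algHom f g h w).app (op U) = h.appLE (f ⁻¹ᵁ U) (g ⁻¹ᵁ U) (preimage_le f g h w U) := by
  subst w
  simp only [AffAlg.algHom]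
  rw [Scheme.Hom.appLE]
  erw [CategoryTheory.Functor.map_id, Category.comp_id]
  rfl

theorem iSup_preimage_affineOpens : ⨆ U : S.affineOpens, g ⁻¹ᵁ U.1 = ⊤ := by
  rw [← Scheme.Hom.preimage_iSup, iSup_affineOpens_eq_top, Scheme.Hom.preimage_top]

theorem algOf_injective [IsAffineHom f] : Function.Injective (AffAlg.algOf f g) := by
  rintro ⟨h₁, w₁⟩ ⟨h₂, w₂⟩ e
  have e' : AffAlg.algHom f g h₁ w₁ = AffAlg.algHom f g h₂ w₂ := congrArg Subtype.val e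
  apply Subtype.ext
  show h₁ = h₂
  refine OpensGlue.hom_ext_of_iSup_eq_top (fun U : S.affineOpens => g ⁻¹ᵁ U.1)
    (iSup_preimage_affineOpens g) _ _ fun U => ?_
  have hW : IsAffineOpen (f ⁻¹ᵁ U.1) := U.2.preimage f
  rw [ι_comp_eq h₁ hW _ (preimage_le f g h₁ w₁ U.1), ι_comp_eq h₂ hW _ (preimage_le f g h₂ w₂ U.1),
    ← algHom_app f g h₁ w₁ U.1, ← algHom_app f g h₂ w₂ U.1, e']

/-- The local piece of the morphism attached to an algebra homomorphism. -/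
noncomputable def piece [IsAffineHom f] (ω : AffAlg.alg f ⟶ AffAlg.alg g) (U : S.affineOpens) :
    ((g ⁻¹ᵁ U.1 : Y.Opens) : Scheme.{u}) ⟶ X :=
  (g ⁻¹ᵁ U.1).toSpecΓ ≫ Spec.map (ω.app (op U.1)) ≫ (U.2.preimage f).fromSpec

theorem piece_res [IsAffineHom f] (ω : AffAlg.alg f ⟶ AffAlg.alg g) (U U' : S.affineOpens)
    (hUU' : U'.1 ≤ U.1) :
    Y.homOfLE (show g ⁻¹ᵁ U'.1 ≤ g ⁻¹ᵁ U.1 from Scheme.Hom.preimage_mono g hUU') ≫ piece f g ω U =
      piece f g ω U' := by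
  unfold piece
  have hnat := ω.naturality (homOfLE hUU').op
  have e1 : (AffAlg.alg g).map (homOfLE hUU').op =
      Y.presheaf.map (homOfLE (show g ⁻¹ᵁ U'.1 ≤ g ⁻¹ᵁ U.1 from
        Scheme.Hom.preimage_mono g hUU')).op := rfl
  have e2 : (AffAlg.alg f).map (homOfLE hUU').op =
      X.presheaf.map (homOfLE (show f ⁻¹ᵁ U'.1 ≤ f ⁻¹ᵁ U.1 from
        Scheme.Hom.preimage_mono f hUU')).op := rfl
  rw [← Scheme.Opens.toSpecΓ_SpecMap_presheaf_map_assoc, ← Spec.map_comp_assoc]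
  rw [← e1, ← hnat, e2, Spec.map_comp_assoc, IsAffineOpen.map_fromSpec]

theorem comp_eq_of_pieces [IsAffineHom f] (ω : AffAlg.alg f ⟶ AffAlg.alg g) (hω : f.c ≫ ω = g.c)
    (h : Y ⟶ X) (hh : ∀ U : S.affineOpens, (g ⁻¹ᵁ U.1).ι ≫ h = piece f g ω U) : h ≫ f = g := by
  refine OpensGlue.hom_ext_of_iSup_eq_top (fun U : S.affineOpens => g ⁻¹ᵁ U.1)
    (iSup_preimage_affineOpens g) _ _ fun U => ?_
  have hW : IsAffineOpen (f ⁻¹ᵁ U.1) := U.2.preimage f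
  rw [reassoc_of% (hh U), piece, Category.assoc, Category.assoc,
    ← IsAffineOpen.SpecMap_appLE_fromSpec f U.2 hW le_rfl, ← Spec.map_comp_assoc,
    ι_comp_eq g U.2 _ le_rfl]
  congr 3
  rw [← Scheme.Hom.app_eq_appLE, ← Scheme.Hom.app_eq_appLE]
  exact NatTrans.congr_app hω (op U.1)

theorem appLE_eq_of_pieces [IsAffineHom f] (ω : AffAlg.alg f ⟶ AffAlg.alg g)
    (h : Y ⟶ X) (w : h ≫ f = g) (hh : ∀ U : S.affineOpens, (g ⁻¹ᵁ U.1).ι ≫ h = piece f g ω U)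
    (U : S.affineOpens) :
    h.appLE (f ⁻¹ᵁ U.1) (g ⁻¹ᵁ U.1) (preimage_le f g h w U.1) = ω.app (op U.1) := by
  have hW : IsAffineOpen (f ⁻¹ᵁ U.1) := U.2.preimage f
  refine eq_of_toSpecΓ_comp_eq hW (g ⁻¹ᵁ U.1) _ _ ?_
  rw [← ι_comp_eq h hW _ (preimage_le f g h w U.1), hh U]
  rfl

theorem algHom_eq_of_pieces [IsAffineHom f] (ω : AffAlg.alg f ⟶ AffAlg.alg g)
    (h : Y ⟶ X) (w : h ≫ f = g) (hh : ∀ U : S.affineOpens, (g ⁻¹ᵁ U.1).ι ≫ h = piece f g ω U) :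
    AffAlg.algHom f g h w = ω := by
  refine NatTrans.ext (funext fun V => ?_)
  induction V using Opposite.rec with | _ V => ?_
  rw [algHom_app]
  refine CommRingCat.hom_ext (RingHom.ext fun s => ?_)
  refine Y.sheaf.eq_of_locally_eq' (fun U : {U : S.affineOpens // U.1 ≤ V} => g ⁻¹ᵁ U.1.1)
    (g ⁻¹ᵁ V) (fun U => homOfLE (Scheme.Hom.preimage_mono g U.2)) ?_ _ _ fun U => ?_
  · intro y hy
    obtain ⟨U, hU, hyU, hUV⟩ := (Opens.isBasis_iff_nbhd.mp S.isBasis_affineOpens)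
      (show g.base y ∈ V from hy)
    exact Opens.mem_iSup.mpr ⟨⟨⟨U, hU⟩, hUV⟩, hyU⟩
  · have hnat := ω.naturality (homOfLE U.2).op
    have e1 : (AffAlg.alg g).map (homOfLE U.2).op =
        Y.presheaf.map (homOfLE (show g ⁻¹ᵁ U.1.1 ≤ g ⁻¹ᵁ V from
          Scheme.Hom.preimage_mono g U.2)).op := rfl
    have e2 : (AffAlg.alg f).map (homOfLE U.2).op =
        X.presheaf.map (homOfLE (show f ⁻¹ᵁ U.1.1 ≤ f ⁻¹ᵁ V from
          Scheme.Hom.preimage_mono f U.2)).op := rfl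
    have hl : h.appLE (f ⁻¹ᵁ V) (g ⁻¹ᵁ V) (preimage_le f g h w V) ≫
        Y.presheaf.map (homOfLE (show g ⁻¹ᵁ U.1.1 ≤ g ⁻¹ᵁ V from
          Scheme.Hom.preimage_mono g U.2)).op =
        ω.app (op V) ≫ Y.presheaf.map (homOfLE (show g ⁻¹ᵁ U.1.1 ≤ g ⁻¹ᵁ V from
          Scheme.Hom.preimage_mono g U.2)).op := by
      have h1 : ω.app (op V) ≫ Y.presheaf.map (homOfLE (show g ⁻¹ᵁ U.1.1 ≤ g ⁻¹ᵁ V from
          Scheme.Hom.preimage_mono g U.2)).op =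
          X.presheaf.map (homOfLE (show f ⁻¹ᵁ U.1.1 ≤ f ⁻¹ᵁ V from
            Scheme.Hom.preimage_mono f U.2)).op ≫ ω.app (op U.1.1) := by
        rw [← e1, ← hnat, e2]
      rw [h1, ← appLE_eq_of_pieces f g ω h w hh U.1, Scheme.Hom.appLE_map,
        Scheme.Hom.map_appLE]
    exact congrArg (fun φ => φ.hom s) hl

theorem algOf_surjective [IsAffineHom f] : Function.Surjective (AffAlg.algOf f g) := by
  rintro ⟨ω, hω⟩
  obtain ⟨h, hh, -⟩ := OpensGlue.existsUnique_glue (fun U : S.affineOpens => g ⁻¹ᵁ U.1)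
    (iSup_preimage_affineOpens g) (piece f g ω) (by
      intro U U' x hxU hxU'
      obtain ⟨U'', hU'', hxU'', hle⟩ := (Opens.isBasis_iff_nbhd.mp S.isBasis_affineOpens)
        (show g.base x ∈ U.1 ⊓ U'.1 from ⟨hxU, hxU'⟩)
      refine ⟨g ⁻¹ᵁ U'', Scheme.Hom.preimage_mono g (hle.trans inf_le_left),
        Scheme.Hom.preimage_mono g (hle.trans inf_le_right), hxU'', ?_⟩
      rw [piece_res f g ω U ⟨U'', hU''⟩ (hle.trans inf_le_left),
        piece_res f g ω U' ⟨U'', hU''⟩ (hle.trans inf_le_right)])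
  have w : h ≫ f = g := comp_eq_of_pieces f g ω hω h hh
  exact ⟨⟨h, w⟩, Subtype.ext (algHom_eq_of_pieces f g ω h w hh)⟩

theorem algOf_bijective [IsAffineHom f] : Function.Bijective (AffAlg.algOf f g) :=
  ⟨algOf_injective f g, algOf_surjective f g⟩

end alg

end Groth.Agent.Lib.AffAlgH3
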