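import Mathlib

/-!
# A scheme with an affine "thin" closed subscheme is affine (helper24)

`isAffine_of_isClosedImmersion_of_surjective` : if `t : Z ⟶ X` is a closed immersion which is
surjective on points and `Z` is affine, then `X` is affine (no Noetherian hypothesis, the ideal
is only locally nil).  The proof is elementary: the set of `g ∈ Γ(Z, ⊤)` such that the open of `X`
corresponding to `D(g)` is affine is an ideal; the key point is additivity, which is the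
two-open gluing lemma `isAffineOpen_sup_of_basicOpen`.
-/

set_option autoImplicit false
universe u

open CategoryTheory AlgebraicGeometry TopologicalSpace Opposite

namespace Groth.Agent.Lib.ThickAffine

/-- Key ring computation: if `ν` is nilpotent and `φ γ ^ d * ν` comes from `B₂`, then a power of
`φ γ - ν` is the image of a multiple of `γ`. -/
theorem ring_key {B₂ B : Type*} [CommRing B₂] [CommRing B] (φ : B₂ →+* B) (γ ι : B₂) (ν : B)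
    (d R : ℕ) (hν : ν ^ R = 0) (hι : φ ι = φ γ ^ d * ν) :
    ∃ r : B₂, (φ γ - ν) ^ (d * R + R + 1) = φ (γ * r) := by
  classical
  generalize hN : d * R + R + 1 = N
  refine ⟨∑ p ∈ Finset.HasAntidiagonal.antidiagonal N,
    if p.2 < R then (N.choose p.1) • (γ ^ (p.1 - d * p.2 - 1) * (-ι) ^ p.2) else 0, ?_⟩
  rw [sub_eq_add_neg, (Commute.all (φ γ) (-ν)).add_pow', Finset.mul_sum, map_sum]
  refine Finset.sum_congr rfl fun p hp => ?_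
  rw [Finset.HasAntidiagonal.mem_antidiagonal] at hp
  split_ifs with hlt
  · have h1 : d * p.2 ≤ d * R := Nat.mul_le_mul_left d hlt.le
    obtain ⟨e, he⟩ : ∃ e, p.1 = d * p.2 + 1 + e := ⟨p.1 - (d * p.2 + 1), by omega⟩
    have h2 : p.1 - d * p.2 - 1 = e := by omega
    rw [h2, mul_smul_comm, map_nsmul, map_mul, map_mul, map_pow, map_pow, map_neg, hι, he]
    congr 1
    rw [← mul_neg, mul_pow, ← pow_mul]
    generalize (-ν) = μ
    ring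
  · have hle : R ≤ p.2 := not_lt.mp hlt
    have hz : (-ν) ^ p.2 = 0 := by
      rw [neg_pow, ← Nat.sub_add_cancel hle, pow_add ν, hν, mul_zero, mul_zero]
    rw [hz, mul_zero, smul_zero, mul_zero, map_zero]

section Res

variable {X : Scheme.{u}}

theorem res_res {U V W : X.Opens} (h₁ : V ≤ U) (h₂ : W ≤ V) (s : Γ(X, U)) :
    X.presheaf.map (homOfLE h₂).op (X.presheaf.map (homOfLE h₁).op s) =
      X.presheaf.map (homOfLE (h₂.trans h₁)).op s := by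
  rw [← CommRingCat.comp_apply, ← Functor.map_comp]
  rfl

theorem res_self {U : X.Opens} (h : U ≤ U) (s : Γ(X, U)) :
    X.presheaf.map (homOfLE h).op s = s := by
  have h0 : (homOfLE h).op = 𝟙 (op U) := rfl
  rw [h0, X.presheaf.map_id]
  rfl

/-- Restriction from the whole scheme. -/
noncomputable def resTop (X : Scheme.{u}) (V : X.Opens) : Γ(X, ⊤) →+* Γ(X, V) :=
  (X.presheaf.map (homOfLE (le_top : V ≤ ⊤)).op).hom

theorem res_resTop {V V' : X.Opens} (h : V' ≤ V) (g : Γ(X, ⊤)) :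
    X.presheaf.map (homOfLE h).op (resTop X V g) = resTop X V' g :=
  res_res _ _ _

theorem basicOpen_resTop (V : X.Opens) (g : Γ(X, ⊤)) :
    X.basicOpen (resTop X V g) = V ⊓ X.basicOpen g :=
  Scheme.basicOpen_res _ _ _

theorem exists_inv_resTop (g : Γ(X, ⊤)) (V : X.Opens) (hV : V ≤ X.basicOpen g) :
    ∃ v : Γ(X, V), resTop X V g * v = 1 := by
  have hu : IsUnit (X.presheaf.map (homOfLE (X.basicOpen_le g)).op g) :=
    X.toRingedSpace.isUnit_res_basicOpen g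
  have hu' : IsUnit (X.presheaf.map (homOfLE hV).op
      (X.presheaf.map (homOfLE (X.basicOpen_le g)).op g)) :=
    hu.map (X.presheaf.map (homOfLE hV).op).hom
  rw [res_res] at hu'
  obtain ⟨v, hv⟩ := isUnit_iff_exists_inv.mp hu'
  exact ⟨v, hv⟩

theorem app_res {Z : Scheme.{u}} (t : Z ⟶ X) {U U' : X.Opens} (h : U' ≤ U) (s : Γ(X, U)) :
    t.app U' (X.presheaf.map (homOfLE h).op s) =
      Z.presheaf.map (homOfLE (show t ⁻¹ᵁ U' ≤ t ⁻¹ᵁ U from fun _ hx => h hx)).op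
        (t.app U s) := by
  have h1 := ConcreteCategory.congr_hom (t.naturality (homOfLE h).op) s
  rw [CommRingCat.comp_apply, CommRingCat.comp_apply] at h1
  exact h1

end Res

/-- **Two-open gluing lemma.**  If `U₁`, `U₂` are affine opens of `X` whose intersection is a
basic open `D(γ₁)` of `U₁` and `D(γ₂)` of `U₂`, and `γ₁ + γ₂ - 1` is nilpotent on the
intersection, then `U₁ ∪ U₂` is affine. -/
theorem isAffineOpen_sup_of_basicOpen {X : Scheme.{u}} {U₁ U₂ : X.Opens}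
    (h₁ : IsAffineOpen U₁) (h₂ : IsAffineOpen U₂)
    (γ₁ : Γ(X, U₁)) (γ₂ : Γ(X, U₂))
    (e₁ : X.basicOpen γ₁ = U₁ ⊓ U₂) (e₂ : X.basicOpen γ₂ = U₁ ⊓ U₂)
    (hν : IsNilpotent (X.presheaf.map (homOfLE (inf_le_left : U₁ ⊓ U₂ ≤ U₁)).op γ₁ +
        X.presheaf.map (homOfLE (inf_le_right : U₁ ⊓ U₂ ≤ U₂)).op γ₂ - 1)) :
    IsAffineOpen (U₁ ⊔ U₂) := by
  classical
  obtain ⟨R, hR⟩ := hν
  let ρ₁ : Γ(X, U₁) →+* Γ(X, U₁ ⊓ U₂) :=
    (X.presheaf.map (homOfLE (inf_le_left : U₁ ⊓ U₂ ≤ U₁)).op).hom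
  let ρ₂ : Γ(X, U₂) →+* Γ(X, U₁ ⊓ U₂) :=
    (X.presheaf.map (homOfLE (inf_le_right : U₁ ⊓ U₂ ≤ U₂)).op).hom
  let ν : Γ(X, U₁ ⊓ U₂) := ρ₁ γ₁ + ρ₂ γ₂ - 1
  have hR' : ν ^ R = 0 := hR
  have hW₂ : U₁ ⊓ U₂ ≤ X.basicOpen γ₂ := e₂.ge
  have hW₂' : X.basicOpen γ₂ ≤ U₁ ⊓ U₂ := e₂.le
  obtain ⟨d, ι₂, hι⟩ := exists_eq_pow_mul_of_isAffineOpen X U₂ h₂ γ₂
    (X.presheaf.map (homOfLE hW₂').op ν)
  have hι' : ρ₂ ι₂ = ρ₂ γ₂ ^ d * ν := by
    have h : X.presheaf.map (homOfLE (X.basicOpen_le γ₂)).op ι₂ =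
        (X.presheaf.map (homOfLE (X.basicOpen_le γ₂)).op γ₂) ^ d *
          X.presheaf.map (homOfLE hW₂').op ν := hι
    have h' : X.presheaf.map (homOfLE hW₂).op
        (X.presheaf.map (homOfLE (X.basicOpen_le γ₂)).op ι₂) =
        X.presheaf.map (homOfLE hW₂).op
          ((X.presheaf.map (homOfLE (X.basicOpen_le γ₂)).op γ₂) ^ d *
            X.presheaf.map (homOfLE hW₂').op ν) := by rw [h]
    rw [map_mul, map_pow, res_res, res_res, res_res, res_self] at h'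
    exact h'
  obtain ⟨r, hr⟩ := ring_key ρ₂ γ₂ ι₂ ν d R hR' hι'
  have hs : ρ₁ ((1 - γ₁) ^ (d * R + R + 1)) = ρ₂ (γ₂ * r) := by
    rw [← hr, map_pow, map_sub, map_one]
    congr 1
    change 1 - ρ₁ γ₁ = ρ₂ γ₂ - (ρ₁ γ₁ + ρ₂ γ₂ - 1)
    ring
  generalize d * R + R + 1 = N at hs
  let x : ↥(RingHom.eqLocus
      (RingHom.comp (X.sheaf.obj.map (homOfLE inf_le_left : U₁ ⊓ U₂ ⟶ U₁).op).hom
        (RingHom.fst (X.sheaf.obj.obj <| op U₁) (X.sheaf.obj.obj <| op U₂)))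
      (RingHom.comp (X.sheaf.obj.map (homOfLE inf_le_right : U₁ ⊓ U₂ ⟶ U₂).op).hom
        (RingHom.snd (X.sheaf.obj.obj <| op U₁) (X.sheaf.obj.obj <| op U₂)))) :=
    ⟨(((1 - γ₁) ^ N : Γ(X, U₁)), (γ₂ * r : Γ(X, U₂))), hs⟩
  let f₂ : Γ(X, U₁ ⊔ U₂) := (X.sheaf.objSupIsoProdEqLocus U₁ U₂).inv x
  have hf₂₁ : X.presheaf.map (homOfLE (le_sup_left : U₁ ≤ U₁ ⊔ U₂)).op f₂ = (1 - γ₁) ^ N :=
    X.sheaf.objSupIsoProdEqLocus_inv_fst U₁ U₂ x
  have hf₂₂ : X.presheaf.map (homOfLE (le_sup_right : U₂ ≤ U₁ ⊔ U₂)).op f₂ = γ₂ * r :=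
    X.sheaf.objSupIsoProdEqLocus_inv_snd U₁ U₂ x
  have hf₁₁ : X.presheaf.map (homOfLE (le_sup_left : U₁ ≤ U₁ ⊔ U₂)).op (1 - f₂) =
      γ₁ * ∑ i ∈ Finset.range N, (1 - γ₁) ^ i := by
    rw [map_sub, map_one, hf₂₁, ← mul_neg_geom_sum, sub_sub_cancel]
  -- the two basic opens
  have hb₂ : X.basicOpen f₂ ≤ U₁ := by
    intro y hy
    rcases Opens.mem_sup.mp (X.basicOpen_le f₂ hy) with hy1 | hy2
    · exact hy1
    · have hy' : y ∈ X.basicOpen (X.presheaf.map (homOfLE (le_sup_right : U₂ ≤ U₁ ⊔ U₂)).op f₂) := by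
        rw [Scheme.basicOpen_res]; exact ⟨hy2, hy⟩
      rw [hf₂₂, Scheme.basicOpen_mul, e₂] at hy'
      exact hy'.1.1
  have hb₁ : X.basicOpen (1 - f₂) ≤ U₂ := by
    intro y hy
    rcases Opens.mem_sup.mp (X.basicOpen_le (1 - f₂) hy) with hy1 | hy2
    · have hy' : y ∈ X.basicOpen
          (X.presheaf.map (homOfLE (le_sup_left : U₁ ≤ U₁ ⊔ U₂)).op (1 - f₂)) := by
        rw [Scheme.basicOpen_res]; exact ⟨hy1, hy⟩
      rw [hf₁₁, Scheme.basicOpen_mul, e₁] at hy'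
      exact hy'.1.2
    · exact hy2
  have ha₂ : IsAffineOpen (X.basicOpen f₂) := by
    have := h₁.basicOpen (X.presheaf.map (homOfLE (le_sup_left : U₁ ≤ U₁ ⊔ U₂)).op f₂)
    rwa [Scheme.basicOpen_res, inf_eq_right.mpr hb₂] at this
  have ha₁ : IsAffineOpen (X.basicOpen (1 - f₂)) := by
    have := h₂.basicOpen (X.presheaf.map (homOfLE (le_sup_right : U₂ ≤ U₁ ⊔ U₂)).op (1 - f₂))
    rwa [Scheme.basicOpen_res, inf_eq_right.mpr hb₁] at this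
  refine isAffineOpen_of_isAffineOpen_basicOpen (U₁ ⊔ U₂) {1 - f₂, f₂} ?_ ?_
  · rw [Ideal.eq_top_iff_one]
    have h1 : (1 : Γ(X, U₁ ⊔ U₂)) = (1 - f₂) + f₂ := by ring
    rw [h1]
    exact Ideal.add_mem _ (Ideal.subset_span (by simp)) (Ideal.subset_span (by simp))
  · intro i hi
    rcases hi with rfl | rfl
    · exact ha₁
    · exact ha₂

/-- **Main theorem.** A scheme which receives a closed immersion, surjective on points, from an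
affine scheme is affine. -/
theorem isAffine_of_isClosedImmersion_of_surjective {Z X : Scheme.{u}} (t : Z ⟶ X)
    [IsClosedImmersion t] (ht : Function.Surjective t) [IsAffine Z] : IsAffine X := by
  classical
  have hinj : ∀ {U U' : X.Opens}, t ⁻¹ᵁ U ≤ t ⁻¹ᵁ U' → U ≤ U' := by
    intro U U' h x hx
    obtain ⟨z, rfl⟩ := ht x
    exact h hx
  have hinj' : ∀ {U U' : X.Opens}, t ⁻¹ᵁ U = t ⁻¹ᵁ U' → U = U' :=
    fun h => le_antisymm (hinj h.le) (hinj h.ge)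
  have hnil : ∀ (U : X.Opens), IsAffineOpen U → ∀ s : Γ(X, U), t.app U s = 0 →
      IsNilpotent s := by
    intro U hU s hs
    rw [Scheme.isNilpotent_iff_basicOpen_eq_bot_of_isCompact hU.isCompact, eq_bot_iff]
    apply hinj
    rw [Scheme.preimage_basicOpen, hs, Scheme.basicOpen_zero]
    exact bot_le
  have hinter : ∀ (g' : Γ(Z, ⊤)) (W : X.Opens), IsAffineOpen W →
      ∃ U : X.Opens, IsAffineOpen U ∧ t ⁻¹ᵁ U = t ⁻¹ᵁ W ⊓ Z.basicOpen g' := by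
    intro g' W hW
    obtain ⟨β, hβ⟩ := t.app_surjective W hW (resTop Z (t ⁻¹ᵁ W) g')
    refine ⟨X.basicOpen β, hW.basicOpen β, ?_⟩
    rw [Scheme.preimage_basicOpen, hβ, basicOpen_resTop]
  have hsmul : ∀ (h g : Γ(Z, ⊤)), (∃ W : X.Opens, IsAffineOpen W ∧ t ⁻¹ᵁ W = Z.basicOpen g) →
      ∃ W : X.Opens, IsAffineOpen W ∧ t ⁻¹ᵁ W = Z.basicOpen (h * g) := by
    rintro h g ⟨W, hW, eW⟩
    obtain ⟨U, hU, eU⟩ := hinter h W hW
    refine ⟨U, hU, ?_⟩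
    rw [eU, eW, Scheme.basicOpen_mul, inf_comm]
  have hadd : ∀ (g₁ g₂ : Γ(Z, ⊤)),
      (∃ W : X.Opens, IsAffineOpen W ∧ t ⁻¹ᵁ W = Z.basicOpen g₁) →
      (∃ W : X.Opens, IsAffineOpen W ∧ t ⁻¹ᵁ W = Z.basicOpen g₂) →
      ∃ W : X.Opens, IsAffineOpen W ∧ t ⁻¹ᵁ W = Z.basicOpen (g₁ + g₂) := by
    rintro g₁ g₂ ⟨W₁, hW₁, eW₁⟩ ⟨W₂, hW₂, eW₂⟩
    obtain ⟨U₁, hU₁, pre₁⟩ := hinter (g₁ + g₂) W₁ hW₁
    obtain ⟨U₂, hU₂, pre₂⟩ := hinter (g₁ + g₂) W₂ hW₂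
    rw [eW₁] at pre₁
    rw [eW₂] at pre₂
    have hV₁ : t ⁻¹ᵁ U₁ ≤ Z.basicOpen (g₁ + g₂) := by rw [pre₁]; exact inf_le_right
    have hV₂ : t ⁻¹ᵁ U₂ ≤ Z.basicOpen (g₁ + g₂) := by rw [pre₂]; exact inf_le_right
    obtain ⟨v₁, hv₁⟩ := exists_inv_resTop (g₁ + g₂) _ hV₁
    obtain ⟨v₂, hv₂⟩ := exists_inv_resTop (g₁ + g₂) _ hV₂
    obtain ⟨γ₁, hγ₁⟩ := t.app_surjective U₁ hU₁ (resTop Z (t ⁻¹ᵁ U₁) g₂ * v₁)
    obtain ⟨γ₂, hγ₂⟩ := t.app_surjective U₂ hU₂ (resTop Z (t ⁻¹ᵁ U₂) g₁ * v₂)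
    have hvu₁ : IsUnit v₁ := IsUnit.of_mul_eq_one_right _ hv₁
    have hvu₂ : IsUnit v₂ := IsUnit.of_mul_eq_one_right _ hv₂
    have hb₁ : t ⁻¹ᵁ (X.basicOpen γ₁) = t ⁻¹ᵁ (U₁ ⊓ U₂) := by
      rw [Scheme.preimage_basicOpen, hγ₁, Scheme.basicOpen_mul, basicOpen_resTop,
        Z.basicOpen_of_isUnit hvu₁]
      change _ = t ⁻¹ᵁ U₁ ⊓ t ⁻¹ᵁ U₂
      rw [pre₁, pre₂]
      refine SetLike.ext fun z => ?_
      simp only [Opens.mem_inf]
      tauto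
    have hb₂ : t ⁻¹ᵁ (X.basicOpen γ₂) = t ⁻¹ᵁ (U₁ ⊓ U₂) := by
      rw [Scheme.preimage_basicOpen, hγ₂, Scheme.basicOpen_mul, basicOpen_resTop,
        Z.basicOpen_of_isUnit hvu₂]
      change _ = t ⁻¹ᵁ U₁ ⊓ t ⁻¹ᵁ U₂
      rw [pre₁, pre₂]
      refine SetLike.ext fun z => ?_
      simp only [Opens.mem_inf]
      tauto
    have e₁ : X.basicOpen γ₁ = U₁ ⊓ U₂ := hinj' hb₁
    have e₂ : X.basicOpen γ₂ = U₁ ⊓ U₂ := hinj' hb₂
    have hU₁₂ : IsAffineOpen (U₁ ⊓ U₂) := by rw [← e₁]; exact hU₁.basicOpen γ₁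
    have hν : IsNilpotent (X.presheaf.map (homOfLE (inf_le_left : U₁ ⊓ U₂ ≤ U₁)).op γ₁ +
        X.presheaf.map (homOfLE (inf_le_right : U₁ ⊓ U₂ ≤ U₂)).op γ₂ - 1) := by
      apply hnil _ hU₁₂
      have h12₁ : t ⁻¹ᵁ (U₁ ⊓ U₂) ≤ t ⁻¹ᵁ U₁ := fun _ hz => hz.1
      have h12₂ : t ⁻¹ᵁ (U₁ ⊓ U₂) ≤ t ⁻¹ᵁ U₂ := fun _ hz => hz.2
      have ha₁ : Z.presheaf.map (homOfLE h12₁).op (resTop Z _ (g₁ + g₂) * v₁) =
          Z.presheaf.map (homOfLE h12₁).op 1 := by rw [hv₁]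
      have ha₂ : Z.presheaf.map (homOfLE h12₂).op (resTop Z _ (g₁ + g₂) * v₂) =
          Z.presheaf.map (homOfLE h12₂).op 1 := by rw [hv₂]
      rw [map_mul, map_one, res_resTop, map_add] at ha₁ ha₂
      rw [map_sub, map_add, map_one, app_res t inf_le_left γ₁, app_res t inf_le_right γ₂, hγ₁, hγ₂,
        map_mul, map_mul, res_resTop, res_resTop]
      linear_combination (1 - resTop Z _ g₁ * Z.presheaf.map (homOfLE h12₂).op v₂) * ha₁ +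
        resTop Z _ g₁ * Z.presheaf.map (homOfLE h12₁).op v₁ * ha₂
    refine ⟨U₁ ⊔ U₂, isAffineOpen_sup_of_basicOpen hU₁ hU₂ γ₁ γ₂ e₁ e₂ hν, ?_⟩
    change t ⁻¹ᵁ U₁ ⊔ t ⁻¹ᵁ U₂ = _
    rw [pre₁, pre₂]
    apply le_antisymm
    · exact sup_le inf_le_right inf_le_right
    · intro z hz
      rcases Opens.mem_sup.mp (Z.basicOpen_add_le g₁ g₂ hz) with h | h
      · exact Opens.mem_sup.mpr (Or.inl ⟨h, hz⟩)
      · exact Opens.mem_sup.mpr (Or.inr ⟨h, hz⟩)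
  have hcov : ∀ z : Z, ∃ g : Γ(Z, ⊤),
      (∃ W : X.Opens, IsAffineOpen W ∧ t ⁻¹ᵁ W = Z.basicOpen g) ∧ z ∈ Z.basicOpen g := by
    intro z
    obtain ⟨W, hW, hzW, -⟩ := Opens.isBasis_iff_nbhd.1 X.isBasis_affineOpens
      (show t z ∈ (⊤ : X.Opens) from trivial)
    obtain ⟨_, ⟨g, rfl⟩, hzg, hgW⟩ := Opens.isBasis_iff_nbhd.1 (isBasis_basicOpen Z)
      (show z ∈ t ⁻¹ᵁ W from hzW)
    obtain ⟨U, hU, eU⟩ := hinter g W hW
    exact ⟨g, ⟨U, hU, by rw [eU, inf_eq_right.mpr hgW]⟩, hzg⟩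
  let G : Ideal Γ(Z, ⊤) :=
    { carrier := {g | ∃ W : X.Opens, IsAffineOpen W ∧ t ⁻¹ᵁ W = Z.basicOpen g}
      add_mem' := fun {a b} ha hb => hadd a b ha hb
      zero_mem' := ⟨⊥, isAffineOpen_bot X, by rw [Scheme.basicOpen_zero]; rfl⟩
      smul_mem' := fun c {g} hg => hsmul c g hg }
  have hG : G = ⊤ := by
    have hspan : Ideal.span (G : Set Γ(Z, ⊤)) = ⊤ := by
      rw [← (isAffineOpen_top Z).self_le_iSup_basicOpen_iff]
      intro z _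
      obtain ⟨g, hg, hz⟩ := hcov z
      exact Opens.mem_iSup.mpr ⟨⟨g, hg⟩, hz⟩
    rwa [Ideal.span_eq] at hspan
  have h1 : (1 : Γ(Z, ⊤)) ∈ G := by rw [hG]; trivial
  obtain ⟨W, hW, eW⟩ := h1
  rw [Scheme.basicOpen_one] at eW
  have hWtop : W = ⊤ := hinj' (eW.trans rfl)
  subst hWtop
  haveI : IsAffine ↑(⊤ : X.Opens) := hW
  exact .of_isIso X.topIso.inv

end Groth.Agent.Lib.ThickAffine
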