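import Groth.Agent.Lib.ClosedCover13
import Groth.Agent.Lib.ThickAffine

/-!
# Finite closed covers by affines (helper13)

* `isAffine_of_ker_inf_ker_eq_bot`: two closed immersions from affines whose kernels intersect in
  zero have affine target.
* `isAffine_of_isReduced_of_range_union`: reduced target, jointly surjective.
* `isAffine_subscheme_inf`, `isAffine_subscheme_finset_inf`: `V(I₁ ⊓ I₂)` is affine if `V(I₁)`,
  `V(I₂)` are.
* `isAffine_of_finite_closed_cover`: a scheme covered by finitely many affine closed subschemes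
  is affine.
-/

set_option autoImplicit false
universe u v

namespace Groth.Agent.Lib.ClosedCover13

open AlgebraicGeometry CategoryTheory TopologicalSpace Opposite

theorem isAffine_of_ker_inf_ker_eq_bot {Z₁ Z₂ S : Scheme.{u}} (f₁ : Z₁ ⟶ S) (f₂ : Z₂ ⟶ S)
    [IsClosedImmersion f₁] [IsClosedImmersion f₂] [IsAffine Z₁] [IsAffine Z₂]
    (h : f₁.ker ⊓ f₂.ker = ⊥) : IsAffine S := by
  have : IsAffine f₁.ker.subscheme := .of_isIso (inv f₁.toImage)
  have : IsAffine f₂.ker.subscheme := .of_isIso (inv f₂.toImage)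
  exact isAffine_of_inf_eq_bot h

theorem isAffine_of_isReduced_of_range_union {Z₁ Z₂ S : Scheme.{u}} [IsReduced S]
    (f₁ : Z₁ ⟶ S) (f₂ : Z₂ ⟶ S)
    [IsClosedImmersion f₁] [IsClosedImmersion f₂] [IsAffine Z₁] [IsAffine Z₂]
    (h : ∀ s : S, s ∈ Set.range f₁ ∨ s ∈ Set.range f₂) : IsAffine S := by
  apply isAffine_of_ker_inf_ker_eq_bot f₁ f₂
  rw [← Scheme.IdealSheafData.support_eq_top_iff]
  refine top_le_iff.mp fun s _ => ?_
  rcases h s with hs | hs
  · exact Scheme.IdealSheafData.support_antitone (inf_le_left : f₁.ker ⊓ f₂.ker ≤ f₁.ker)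
      (f₁.range_subset_ker_support hs)
  · exact Scheme.IdealSheafData.support_antitone (inf_le_right : f₁.ker ⊓ f₂.ker ≤ f₂.ker)
      (f₂.range_subset_ker_support hs)

theorem comp_app_eq_zero_iff {Z Y S : Scheme.{u}} (j : Z ⟶ Y) (ι : Y ⟶ S) (g : Z ⟶ S)
    (hg : j ≫ ι = g) (W : S.Opens) (r : Γ(S, W)) :
    j.app (ι ⁻¹ᵁ W) (ι.app W r) = 0 ↔ g.app W r = 0 := by
  subst hg
  rfl

variable {X : Scheme.{u}}

/-- The ideals of `V(I₁)` and `V(I₂)` inside `V(I₁ ⊓ I₂)` intersect in zero. -/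
theorem ker_inclusion_inf_ker_inclusion (I₁ I₂ : X.IdealSheafData) :
    (Scheme.IdealSheafData.inclusion (inf_le_left : I₁ ⊓ I₂ ≤ I₁)).ker ⊓
      (Scheme.IdealSheafData.inclusion (inf_le_right : I₁ ⊓ I₂ ≤ I₂)).ker = ⊥ := by
  set f₁ := Scheme.IdealSheafData.inclusion (inf_le_left : I₁ ⊓ I₂ ≤ I₁) with hf₁
  set f₂ := Scheme.IdealSheafData.inclusion (inf_le_right : I₁ ⊓ I₂ ≤ I₂) with hf₂
  have e₁ : f₁ ≫ (I₁ ⊓ I₂).subschemeι = I₁.subschemeι :=
    Scheme.IdealSheafData.inclusion_subschemeι _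
  have e₂ : f₂ ≫ (I₁ ⊓ I₂).subschemeι = I₂.subschemeι :=
    Scheme.IdealSheafData.inclusion_subschemeι _
  refine le_bot_iff.mp fun U => ?_
  intro r hr
  change r ∈ f₁.ker.ideal U ⊓ f₂.ker.ideal U at hr
  rw [Scheme.Hom.ker_apply, Scheme.Hom.ker_apply] at hr
  obtain ⟨hr1, hr2⟩ := hr
  replace hr1 : f₁.app U r = 0 := hr1
  replace hr2 : f₂.app U r = 0 := hr2
  change r = 0
  refine TopCat.Presheaf.section_ext (I₁ ⊓ I₂).subscheme.sheaf _ _ _ fun x hx => ?_
  -- find a small affine neighbourhood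
  obtain ⟨O, hO, hUO⟩ := (I₁ ⊓ I₂).subschemeι.isClosedEmbedding.isInducing.isOpen_iff.mp U.1.2
  have hxO : (I₁ ⊓ I₂).subschemeι x ∈ O := by
    have : x ∈ (I₁ ⊓ I₂).subschemeι ⁻¹' O := by rw [hUO]; exact hx
    exact this
  obtain ⟨_, ⟨W, hW, rfl⟩, hxW, hWO⟩ :=
    X.isBasis_affineOpens.exists_subset_of_mem_open hxO hO
  have hle : (I₁ ⊓ I₂).subschemeι ⁻¹ᵁ W ≤ U.1 := by
    intro y hy
    have : y ∈ (I₁ ⊓ I₂).subschemeι ⁻¹' O := hWO hy
    rw [hUO] at this
    exact this
  have hx' : x ∈ (I₁ ⊓ I₂).subschemeι ⁻¹ᵁ W := hxW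
  have g1 := TopCat.Presheaf.germ_res_apply (I₁ ⊓ I₂).subscheme.presheaf (homOfLE hle) x hx' r
  have g2 := TopCat.Presheaf.germ_res_apply (I₁ ⊓ I₂).subscheme.presheaf (homOfLE hle) x hx' 0
  refine (g1.symm.trans ?_).trans g2
  congr 1
  rw [map_zero]
  obtain ⟨r', hr'⟩ := (I₁ ⊓ I₂).subschemeι_app_surjective ⟨W, hW⟩
    ((I₁ ⊓ I₂).subscheme.presheaf.map (homOfLE hle).op r)
  rw [← hr']
  have k1 : f₁.app _ ((I₁ ⊓ I₂).subscheme.presheaf.map (homOfLE hle).op r) = 0 := by
    have := Scheme.Hom.naturality f₁ (homOfLE hle).op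
    have h2 := congrArg (fun φ => φ.hom r) this
    simp only [CommRingCat.hom_comp, RingHom.coe_comp, Function.comp_apply] at h2
    rw [h2, hr1, map_zero]
  have k2 : f₂.app _ ((I₁ ⊓ I₂).subscheme.presheaf.map (homOfLE hle).op r) = 0 := by
    have := Scheme.Hom.naturality f₂ (homOfLE hle).op
    have h2 := congrArg (fun φ => φ.hom r) this
    simp only [CommRingCat.hom_comp, RingHom.coe_comp, Function.comp_apply] at h2
    rw [h2, hr2, map_zero]
  rw [← hr'] at k1 k2
  have m1 : r' ∈ I₁.ideal ⟨W, hW⟩ := by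
    have := (comp_app_eq_zero_iff f₁ _ _ e₁ W r').mp k1
    have : r' ∈ RingHom.ker (I₁.subschemeι.app W).hom := this
    exact (I₁.ker_subschemeι_app ⟨W, hW⟩).le this
  have m2 : r' ∈ I₂.ideal ⟨W, hW⟩ := by
    have := (comp_app_eq_zero_iff f₂ _ _ e₂ W r').mp k2
    have : r' ∈ RingHom.ker (I₂.subschemeι.app W).hom := this
    exact (I₂.ker_subschemeι_app ⟨W, hW⟩).le this
  have m : r' ∈ RingHom.ker ((I₁ ⊓ I₂).subschemeι.app W).hom := by
    refine ((I₁ ⊓ I₂).ker_subschemeι_app ⟨W, hW⟩).ge ?_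
    exact ⟨m1, m2⟩
  exact m

theorem isAffine_subscheme_inf (I₁ I₂ : X.IdealSheafData) [IsAffine I₁.subscheme]
    [IsAffine I₂.subscheme] : IsAffine (I₁ ⊓ I₂).subscheme :=
  isAffine_of_ker_inf_ker_eq_bot _ _ (ker_inclusion_inf_ker_inclusion I₁ I₂)

theorem isEmpty_subscheme_top : IsEmpty (⊤ : X.IdealSheafData).subscheme := by
  rw [← Set.range_eq_empty_iff (f := (⊤ : X.IdealSheafData).subschemeι),
    Scheme.IdealSheafData.range_subschemeι, Scheme.IdealSheafData.support_top]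
  rfl

theorem isAffine_subscheme_finset_inf {κ : Type v} (s : Finset κ) (I : κ → X.IdealSheafData)
    (h : ∀ k ∈ s, IsAffine (I k).subscheme) : IsAffine (s.inf I).subscheme := by
  classical
  induction s using Finset.induction_on with
  | empty =>
    rw [Finset.inf_empty]
    have := isEmpty_subscheme_top (X := X)
    infer_instance
  | insert k s hk ih =>
    rw [Finset.inf_insert]
    have := h k (Finset.mem_insert_self k s)
    have := ih fun k' hk' => h k' (Finset.mem_insert_of_mem hk')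
    exact isAffine_subscheme_inf _ _

/-- **A scheme covered by finitely many affine closed subschemes is affine.** -/
theorem isAffine_of_finite_closed_cover (X : Scheme.{u}) {κ : Type v} [Finite κ]
    (Z : κ → Scheme.{u}) (ι : ∀ k, Z k ⟶ X) [∀ k, IsClosedImmersion (ι k)] [∀ k, IsAffine (Z k)]
    (hcov : ∀ x : X, ∃ k, x ∈ Set.range (ι k)) : IsAffine X := by
  classical
  have := Fintype.ofFinite κ
  let I : κ → X.IdealSheafData := fun k => (ι k).ker
  have hI : ∀ k, IsAffine (I k).subscheme := fun k => .of_isIso (inv (ι k).toImage)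
  have hJ : IsAffine (Finset.univ.inf I).subscheme :=
    isAffine_subscheme_finset_inf _ _ (fun k _ => hI k)
  have hsurj : Function.Surjective (Finset.univ.inf I).subschemeι := by
    intro x
    obtain ⟨k, hk⟩ := hcov x
    have : x ∈ ((Finset.univ.inf I).support : Set X) :=
      Scheme.IdealSheafData.support_antitone (Finset.inf_le (Finset.mem_univ k))
        ((ι k).range_subset_ker_support hk)
    rw [← Scheme.IdealSheafData.range_subschemeι] at this
    exact this
  exact Groth.Agent.Lib.ThickAffine.isAffine_of_isClosedImmersion_of_surjective _ hsurj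

end Groth.Agent.Lib.ClosedCover13
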