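import Mathlib.AlgebraicGeometry.IdealSheaf.Subscheme
import Mathlib.AlgebraicGeometry.Properties
import Mathlib.AlgebraicGeometry.Morphisms.ClosedImmersion
import Mathlib.RingTheory.Ideal.Quotient.Nilpotent

set_option autoImplicit false
universe u

namespace Groth.Agent.Lib.ReducedSubscheme

open AlgebraicGeometry CategoryTheory

variable {X : Scheme.{u}}

/-- The closed subscheme of an ideal sheaf that contains its radical is reduced. -/
theorem isReduced_subscheme_of_radical_le (I : X.IdealSheafData) (h : I.radical ≤ I) :
    IsReduced I.subscheme := by
  have hrad : ∀ U : X.affineOpens, (I.ideal U).IsRadical := by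
    intro U
    have := h U
    simp only [Scheme.IdealSheafData.radical_ideal] at this
    exact Ideal.radical_eq_iff.mp (le_antisymm this Ideal.le_radical)
  have : ∀ U, IsReduced (I.subschemeCover.openCover.X U) := by
    intro (U : X.affineOpens)
    have : _root_.IsReduced (Γ(X, U) ⧸ I.ideal U) :=
      (Ideal.isRadical_iff_quotient_reduced _).mp (hrad U)
    change IsReduced (Spec (.of (Γ(X, U) ⧸ I.ideal U)))
    infer_instance
  exact IsReduced.of_openCover _ I.subschemeCover.openCover

/-- The reduced induced closed subscheme structure on a closed subset is reduced. -/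
theorem isReduced_subscheme_vanishingIdeal (Z : TopologicalSpace.Closeds X) :
    IsReduced (Scheme.IdealSheafData.vanishingIdeal Z).subscheme := by
  apply isReduced_subscheme_of_radical_le
  rw [← Scheme.IdealSheafData.vanishingIdeal_support]
  refine Scheme.IdealSheafData.vanishingIdeal_antimono ?_
  exact Scheme.IdealSheafData.le_support_iff_le_vanishingIdeal.mpr le_rfl

end Groth.Agent.Lib.ReducedSubscheme
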