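import Groth.Agent.Lib.AffComp13a
import Groth.Agent.Lib.ClosedCover13b
import Groth.Agent.Lib.ReducedSubscheme

/-!
# Affine opens containing finitely many points, via closed pieces (helper13)

For a closed subset `C` of a scheme `X` write `RS C` for `C` with its reduced induced structure
and `rι C : RS C ⟶ X`.  The main results:

* `exists_shrink`: two opens `U₁, U₂` of `X` with `U_i ∩ C_i` affine in `RS C_i` can be shrunk
  (keeping finitely many given points) so that they agree on `C₁ ∩ C₂`.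
* `exists_glue_opens`: if they agree on `C₁ ∩ C₂`, there is an open `U` with
  `U ∩ (C₁ ∪ C₂)` affine in `RS (C₁ ∪ C₂)`.
* `exists_of_finset`: finite induction.
-/

set_option autoImplicit false
universe u

namespace Groth.Agent.Lib.AffComp13

open AlgebraicGeometry CategoryTheory TopologicalSpace Opposite
open Groth.Agent.Lib.AffComp13a

variable {X : Scheme.{u}}

/-- The reduced induced closed subscheme on a closed subset. -/
noncomputable abbrev RS (C : Closeds X) : Scheme.{u} :=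
  (Scheme.IdealSheafData.vanishingIdeal C).subscheme

/-- The inclusion of the reduced induced closed subscheme. -/
noncomputable abbrev rι (C : Closeds X) : RS C ⟶ X :=
  (Scheme.IdealSheafData.vanishingIdeal C).subschemeι

/-- The inclusion between reduced induced closed subschemes. -/
noncomputable def inc {C' C : Closeds X} (h : C' ≤ C) : RS C' ⟶ RS C :=
  Scheme.IdealSheafData.inclusion (Scheme.IdealSheafData.vanishingIdeal_antimono h)

instance {C' C : Closeds X} (h : C' ≤ C) : IsClosedImmersion (inc h) := by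
  unfold inc; infer_instance

@[reassoc]
theorem inc_rι {C' C : Closeds X} (h : C' ≤ C) : inc h ≫ rι C = rι C' :=
  Scheme.IdealSheafData.inclusion_subschemeι _

theorem rι_inc_apply {C' C : Closeds X} (h : C' ≤ C) (z : RS C') : rι C (inc h z) = rι C' z := by
  rw [← Scheme.Hom.comp_apply, inc_rι]

theorem range_rι (C : Closeds X) : Set.range (rι C) = (C : Set X) := by
  rw [Scheme.IdealSheafData.range_subschemeι, Scheme.IdealSheafData.coe_support_vanishingIdeal]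

theorem rι_mem (C : Closeds X) (y : RS C) : rι C y ∈ C := by
  have : rι C y ∈ Set.range (rι C) := ⟨y, rfl⟩
  rw [range_rι] at this
  exact this

theorem exists_rι_eq (C : Closeds X) {x : X} (hx : x ∈ C) : ∃ y : RS C, rι C y = x := by
  have : x ∈ Set.range (rι C) := by rw [range_rι]; exact hx
  exact this

theorem rι_injective (C : Closeds X) : Function.Injective (rι C) :=
  (rι C).isClosedEmbedding.injective

instance (C : Closeds X) : IsReduced (RS C) :=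
  Groth.Agent.Lib.ReducedSubscheme.isReduced_subscheme_vanishingIdeal C

/-- One-sided lifting step. -/
theorem exists_step (T : Set X) (hT : T.Finite) {C D : Closeds X} (h : D ≤ C) (U : X.Opens)
    (hV : IsAffineOpen (rι C ⁻¹ᵁ U)) (hTU : T ∩ C ⊆ U)
    (c : Γ(RS D, inc h ⁻¹ᵁ (rι C ⁻¹ᵁ U)))
    (hc : ∀ z : RS D, rι D z ∈ T → z ∈ (RS D).basicOpen c) :
    ∃ U' : X.Opens, IsAffineOpen (rι C ⁻¹ᵁ U') ∧ T ∩ C ⊆ U' ∧
      ∀ z : RS D, (rι D z ∈ U' ↔ z ∈ (RS D).basicOpen c) := by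
  let F : Set (RS C) := rι C ⁻¹' T ∩ (rι C ⁻¹ᵁ U : (RS C).Opens)
  have hF : F.Finite := (hT.preimage (rι_injective C).injOn).subset Set.inter_subset_left
  obtain ⟨a, ha, hFa⟩ := exists_lift_of_isClosedImmersion (inc h) hV c F hF Set.inter_subset_right
    (fun z hz => hc z (by rw [← rι_inc_apply h]; exact hz.1))
  obtain ⟨O, hO, hOa⟩ := (rι C).isClosedEmbedding.isInducing.isOpen_iff.mp
    ((RS C).basicOpen a).2
  have hmemO : ∀ y : RS C, rι C y ∈ O ↔ y ∈ (RS C).basicOpen a := fun y => by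
    have : y ∈ rι C ⁻¹' O ↔ y ∈ ((RS C).basicOpen a : Set (RS C)) := by rw [hOa]; rfl
    exact this
  refine ⟨⟨O, hO⟩, ?_, ?_, ?_⟩
  · have : rι C ⁻¹ᵁ ⟨O, hO⟩ = (RS C).basicOpen a := Opens.ext hOa
    rw [this]
    exact hV.basicOpen a
  · rintro x ⟨hxT, hxC⟩
    obtain ⟨y, rfl⟩ := exists_rι_eq C hxC
    exact (hmemO y).mpr (hFa ⟨hxT, hTU ⟨hxT, hxC⟩⟩)
  · intro z
    change rι D z ∈ O ↔ _
    rw [← rι_inc_apply h, hmemO]
    have : inc h ⁻¹ᵁ (RS C).basicOpen a = (RS D).basicOpen c := by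
      rw [Scheme.preimage_basicOpen, ha]
    rw [← this]
    rfl

theorem exists_shrink (T : Set X) (hT : T.Finite) (C₁ C₂ : Closeds X) (U₁ U₂ : X.Opens)
    (h₁ : IsAffineOpen (rι C₁ ⁻¹ᵁ U₁)) (h₂ : IsAffineOpen (rι C₂ ⁻¹ᵁ U₂))
    (hT₁ : T ∩ C₁ ⊆ U₁) (hT₂ : T ∩ C₂ ⊆ U₂) :
    ∃ U₁' U₂' : X.Opens, IsAffineOpen (rι C₁ ⁻¹ᵁ U₁') ∧ IsAffineOpen (rι C₂ ⁻¹ᵁ U₂') ∧
      T ∩ C₁ ⊆ U₁' ∧ T ∩ C₂ ⊆ U₂' ∧
      ∀ x : X, x ∈ C₁ → x ∈ C₂ → (x ∈ U₁' ↔ x ∈ U₂') := by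
  let D : Closeds X := C₁ ⊓ C₂
  have hD₁ : D ≤ C₁ := inf_le_left
  have hD₂ : D ≤ C₂ := inf_le_right
  set E₁ : (RS D).Opens := inc hD₁ ⁻¹ᵁ (rι C₁ ⁻¹ᵁ U₁) with hE₁def
  set E₂ : (RS D).Opens := inc hD₂ ⁻¹ᵁ (rι C₂ ⁻¹ᵁ U₂) with hE₂def
  have hE₁ : IsAffineOpen E₁ := h₁.preimage (inc hD₁)
  have hE₂ : IsAffineOpen E₂ := h₂.preimage (inc hD₂)
  have memE₁ : ∀ z : RS D, z ∈ E₁ ↔ rι D z ∈ U₁ := fun z => by
    rw [← rι_inc_apply hD₁]; rfl
  have memE₂ : ∀ z : RS D, z ∈ E₂ ↔ rι D z ∈ U₂ := fun z => by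
    rw [← rι_inc_apply hD₂]; rfl
  let TD : Set (RS D) := rι D ⁻¹' T
  have hTD : TD.Finite := hT.preimage (rι_injective D).injOn
  have hTD₁ : TD ⊆ E₁ := fun z hz => (memE₁ z).mpr (hT₁ ⟨hz, hD₁ (rι_mem D z)⟩)
  have hTD₂ : TD ⊆ E₂ := fun z hz => (memE₂ z).mpr (hT₂ ⟨hz, hD₂ (rι_mem D z)⟩)
  obtain ⟨c₁', hc₁', hc₁'E⟩ := exists_basicOpen_of_finite_of_isAffineOpen hE₁ E₂ TD hTD hTD₁ hTD₂
  have hG : IsAffineOpen ((RS D).basicOpen c₁') := hE₁.basicOpen c₁'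
  obtain ⟨c₂, hc₂, hc₂G⟩ := exists_basicOpen_of_finite_of_isAffineOpen hE₂
    ((RS D).basicOpen c₁') TD hTD hTD₂ hc₁'
  let g : Γ(RS D, (RS D).basicOpen c₁') := (RS D).presheaf.map (homOfLE hc₁'E).op c₂
  have hg : (RS D).basicOpen g = (RS D).basicOpen c₂ := by
    rw [Scheme.basicOpen_res]
    exact inf_eq_right.mpr hc₂G
  obtain ⟨c₁, hc₁⟩ := hE₁.basicOpen_basicOpen_is_basicOpen c₁' g
  rw [hg] at hc₁
  obtain ⟨U₁', hU₁', hTU₁', hm₁⟩ := exists_step T hT hD₁ U₁ h₁ hT₁ c₁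
    (fun z hz => by rw [hc₁]; exact hc₂ hz)
  obtain ⟨U₂', hU₂', hTU₂', hm₂⟩ := exists_step T hT hD₂ U₂ h₂ hT₂ c₂
    (fun z hz => hc₂ hz)
  refine ⟨U₁', U₂', hU₁', hU₂', hTU₁', hTU₂', ?_⟩
  intro x hx₁ hx₂
  obtain ⟨z, rfl⟩ := exists_rι_eq D (show x ∈ D from ⟨hx₁, hx₂⟩)
  rw [hm₁ z, hm₂ z, hc₁]

end Groth.Agent.Lib.AffComp13
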