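import Groth.Agent.Lib.AffComp13b

/-!
# Affine opens containing finitely many points, via closed pieces, part 2 (helper13)

* `exists_glue_opens`, `exists_two_pieces`, `exists_of_finset`,
* `exists_isAffineOpen_of_cover`: if `X` is the union of finitely many closed subsets `C` such
  that the points of `T` on `C` lie in an affine open of `C_red`, then `T` lies in an affine open
  of `X`.
-/

set_option autoImplicit false
universe u

namespace Groth.Agent.Lib.AffComp13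

open AlgebraicGeometry CategoryTheory TopologicalSpace Opposite
open Groth.Agent.Lib.AffComp13a Groth.Agent.Lib.ClosedCover13

variable {X : Scheme.{u}}

theorem exists_glue_opens (T : Set X) (C₁ C₂ : Closeds X) (U₁ U₂ : X.Opens)
    (h₁ : IsAffineOpen (rι C₁ ⁻¹ᵁ U₁)) (h₂ : IsAffineOpen (rι C₂ ⁻¹ᵁ U₂))
    (hT₁ : T ∩ C₁ ⊆ U₁) (hT₂ : T ∩ C₂ ⊆ U₂)
    (hm : ∀ x : X, x ∈ C₁ → x ∈ C₂ → (x ∈ U₁ ↔ x ∈ U₂)) :
    ∃ U : X.Opens, IsAffineOpen (rι (C₁ ⊔ C₂) ⁻¹ᵁ U) ∧ T ∩ (C₁ ⊔ C₂ : Closeds X) ⊆ U := by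
  let U : X.Opens := (C₁.compl ⊔ U₁) ⊓ (C₂.compl ⊔ U₂)
  have memU : ∀ x : X, x ∈ U ↔ (x ∉ C₁ ∨ x ∈ U₁) ∧ (x ∉ C₂ ∨ x ∈ U₂) := fun x => Iff.rfl
  have key₁ : ∀ x : X, x ∈ C₁ → (x ∈ U ↔ x ∈ U₁) := by
    intro x hx
    rw [memU]
    constructor
    · rintro ⟨h | h, -⟩
      · exact absurd hx h
      · exact h
    · intro h
      refine ⟨Or.inr h, ?_⟩
      by_cases hx₂ : x ∈ C₂
      · exact Or.inr ((hm x hx hx₂).mp h)
      · exact Or.inl hx₂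
  have key₂ : ∀ x : X, x ∈ C₂ → (x ∈ U ↔ x ∈ U₂) := by
    intro x hx
    rw [memU]
    constructor
    · rintro ⟨-, h | h⟩
      · exact absurd hx h
      · exact h
    · intro h
      refine ⟨?_, Or.inr h⟩
      by_cases hx₁ : x ∈ C₁
      · exact Or.inr ((hm x hx₁ hx).mpr h)
      · exact Or.inl hx₁
  refine ⟨U, ?_, ?_⟩
  · set C : Closeds X := C₁ ⊔ C₂ with hC
    have le₁ : C₁ ≤ C := le_sup_left
    have le₂ : C₂ ≤ C := le_sup_right
    let W : (RS C).Opens := rι C ⁻¹ᵁ U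
    have e₁ : inc le₁ ⁻¹ᵁ W = rι C₁ ⁻¹ᵁ U₁ := by
      ext y
      change rι C (inc le₁ y) ∈ U ↔ rι C₁ y ∈ U₁
      rw [rι_inc_apply]
      exact key₁ _ (rι_mem C₁ y)
    have e₂ : inc le₂ ⁻¹ᵁ W = rι C₂ ⁻¹ᵁ U₂ := by
      ext y
      change rι C (inc le₂ y) ∈ U ↔ rι C₂ y ∈ U₂
      rw [rι_inc_apply]
      exact key₂ _ (rι_mem C₂ y)
    have a₁ : IsAffine ↑(inc le₁ ⁻¹ᵁ W) := by
      have : IsAffineOpen (inc le₁ ⁻¹ᵁ W) := e₁ ▸ h₁
      exact this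
    have a₂ : IsAffine ↑(inc le₂ ⁻¹ᵁ W) := by
      have : IsAffineOpen (inc le₂ ⁻¹ᵁ W) := e₂ ▸ h₂
      exact this
    have hsurj : ∀ w : ↑W, w ∈ Set.range (inc le₁ ∣_ W) ∨ w ∈ Set.range (inc le₂ ∣_ W) := by
      intro w
      have hw : rι C w.1 ∈ C := rι_mem C w.1
      rcases hw with hw | hw
      · left
        obtain ⟨y, hy⟩ := exists_rι_eq C₁ hw
        have hyw : inc le₁ y = w.1 := by
          apply rι_injective C
          rw [rι_inc_apply, hy]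
        have hyW : y ∈ inc le₁ ⁻¹ᵁ W := by
          change inc le₁ y ∈ W
          rw [hyw]; exact w.2
        refine ⟨⟨y, hyW⟩, Subtype.ext ?_⟩
        rw [morphismRestrict_base_coe]
        exact hyw
      · right
        obtain ⟨y, hy⟩ := exists_rι_eq C₂ hw
        have hyw : inc le₂ y = w.1 := by
          apply rι_injective C
          rw [rι_inc_apply, hy]
        have hyW : y ∈ inc le₂ ⁻¹ᵁ W := by
          change inc le₂ y ∈ W
          rw [hyw]; exact w.2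
        refine ⟨⟨y, hyW⟩, Subtype.ext ?_⟩
        rw [morphismRestrict_base_coe]
        exact hyw
    have : IsAffine ↑W := isAffine_of_isReduced_of_range_union (inc le₁ ∣_ W) (inc le₂ ∣_ W) hsurj
    exact this
  · rintro x ⟨hxT, hx | hx⟩
    · exact (key₁ x hx).mpr (hT₁ ⟨hxT, hx⟩)
    · exact (key₂ x hx).mpr (hT₂ ⟨hxT, hx⟩)

theorem exists_two_pieces (T : Set X) (hT : T.Finite) (C₁ C₂ : Closeds X) (U₁ U₂ : X.Opens)
    (h₁ : IsAffineOpen (rι C₁ ⁻¹ᵁ U₁)) (h₂ : IsAffineOpen (rι C₂ ⁻¹ᵁ U₂))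
    (hT₁ : T ∩ C₁ ⊆ U₁) (hT₂ : T ∩ C₂ ⊆ U₂) :
    ∃ U : X.Opens, IsAffineOpen (rι (C₁ ⊔ C₂) ⁻¹ᵁ U) ∧ T ∩ (C₁ ⊔ C₂ : Closeds X) ⊆ U := by
  obtain ⟨U₁', U₂', h₁', h₂', hT₁', hT₂', hm⟩ := exists_shrink T hT C₁ C₂ U₁ U₂ h₁ h₂ hT₁ hT₂
  exact exists_glue_opens T C₁ C₂ U₁' U₂' h₁' h₂' hT₁' hT₂' hm

theorem isEmpty_RS_bot : IsEmpty (RS (⊥ : Closeds X)) := by
  rw [← Set.range_eq_empty_iff (f := rι (⊥ : Closeds X)), range_rι]
  rfl

theorem exists_of_finset (T : Set X) (hT : T.Finite) (s : Finset (Closeds X))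
    (h : ∀ C ∈ s, ∃ U : X.Opens, IsAffineOpen (rι C ⁻¹ᵁ U) ∧ T ∩ C ⊆ U) :
    ∃ U : X.Opens, IsAffineOpen (rι (s.sup id) ⁻¹ᵁ U) ∧ T ∩ (s.sup id : Closeds X) ⊆ U := by
  classical
  induction s using Finset.induction_on with
  | empty =>
    rw [Finset.sup_empty]
    refine ⟨⊥, ?_, ?_⟩
    · have := isEmpty_RS_bot (X := X)
      have : IsEmpty ↑(rι (⊥ : Closeds X) ⁻¹ᵁ (⊥ : X.Opens)) := ⟨fun x => IsEmpty.false x.1⟩
      have : IsAffine ↑(rι (⊥ : Closeds X) ⁻¹ᵁ (⊥ : X.Opens)) := inferInstance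
      exact this
    · rintro x ⟨-, hx⟩
      exact absurd hx (Set.notMem_empty x)
  | insert C s hC ih =>
    rw [Finset.sup_insert]
    obtain ⟨U₁, h₁, hT₁⟩ := h C (Finset.mem_insert_self C s)
    obtain ⟨U₂, h₂, hT₂⟩ := ih fun C' hC' => h C' (Finset.mem_insert_of_mem hC')
    exact exists_two_pieces T hT (id C) (s.sup id) U₁ U₂ h₁ h₂ hT₁ hT₂

/-- If `X` is covered by finitely many closed subsets `C`, and for each of them the points of the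
finite set `T` on `C` lie in an open `U_C` with `U_C ∩ C` affine in `C_red`, then `T` is contained
in an affine open of `X`. -/
theorem exists_isAffineOpen_of_cover (T : Set X) (hT : T.Finite) (s : Finset (Closeds X))
    (hs : ∀ x : X, ∃ C ∈ s, x ∈ C)
    (h : ∀ C ∈ s, ∃ U : X.Opens, IsAffineOpen (rι C ⁻¹ᵁ U) ∧ T ∩ C ⊆ U) :
    ∃ U : X.Opens, IsAffineOpen U ∧ T ⊆ U := by
  obtain ⟨U, hU, hTU⟩ := exists_of_finset T hT s h
  have htop : ∀ x : X, x ∈ (s.sup id : Closeds X) := by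
    intro x
    obtain ⟨C, hC, hx⟩ := hs x
    exact (Finset.le_sup (f := id) hC : C ≤ s.sup id) hx
  refine ⟨U, ?_, fun x hx => hTU ⟨hx, htop x⟩⟩
  have a : IsAffine ↑(rι (s.sup id) ⁻¹ᵁ U) := hU
  have hsurj : Function.Surjective (rι (s.sup id) ∣_ U) := by
    intro u
    obtain ⟨y, hy⟩ := exists_rι_eq (s.sup id) (htop u.1)
    have hyU : y ∈ rι (s.sup id) ⁻¹ᵁ U := by
      change rι (s.sup id) y ∈ U
      rw [hy]; exact u.2
    refine ⟨⟨y, hyU⟩, Subtype.ext ?_⟩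
    rw [morphismRestrict_base_coe]
    exact hy
  have : IsAffine ↑U :=
    Groth.Agent.Lib.ThickAffine.isAffine_of_isClosedImmersion_of_surjective
      (rι (s.sup id) ∣_ U) hsurj
  exact this

end Groth.Agent.Lib.AffComp13
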