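import Mathlib.AlgebraicGeometry.Pullbacks
import Mathlib.AlgebraicGeometry.PullbackCarrier
import Mathlib.AlgebraicGeometry.Morphisms.QuasiCompact
import Mathlib.AlgebraicGeometry.Morphisms.Affine

/-!
# Uniform affine covers of base changes of a quasi-compact morphism (helper45)

`exists_affine_cover_pullback`: for `j : W ⟶ Y` quasi-compact with `Y` quasi-compact there is `m`
such that `W ×_Y Spec B` is a union of `m` affine opens, for every `Spec B ⟶ Y`.
The trick: if `Y = V_1 ∪ … ∪ V_r` (affine opens) then `Spec B` is covered by `r` basic opens `D(a_i)`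
with `D(a_i)` mapping into `V_i` (partition of unity for the ideals of the closed sets `g⁻¹(V_i)ᶜ`).
-/

universe u

open AlgebraicGeometry CategoryTheory Limits

namespace Groth.Agent.Lib.AffCoverPB45

/-- An "affine box" in a fibre product: if `W' ⊆ j⁻¹ V`, `D ⊆ g⁻¹ V` with `W'`, `D`, `V` affine, then
`pr₁⁻¹ W' ∩ pr₂⁻¹ D` is an affine open of `W ×_Y T`. -/
theorem exists_isAffineOpen_box {W Y T : Scheme.{u}} (j : W ⟶ Y) (g : T ⟶ Y)
    (V : Y.Opens) (hV : IsAffineOpen V) (W' : W.Opens) (hW' : IsAffineOpen W')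
    (hW'V : W' ≤ j ⁻¹ᵁ V) (D : T.Opens) (hD : IsAffineOpen D) (hDV : D ≤ g ⁻¹ᵁ V) :
    ∃ U : (pullback j g).Opens, IsAffineOpen U ∧
      (U : Set ↥(pullback j g)) = pullback.fst j g ⁻¹' W' ∩ pullback.snd j g ⁻¹' D := by
  have : IsAffine V.toScheme := hV
  have : IsAffine W'.toScheme := hW'
  have : IsAffine D.toScheme := hD
  let φ := pullback.map (j.resLE V W' hW'V) (g.resLE V D hDV) j g W'.ι D.ι V.ι
    (Scheme.Hom.resLE_comp_ι _ _) (Scheme.Hom.resLE_comp_ι _ _)
  refine ⟨φ.opensRange, isAffineOpen_opensRange φ, ?_⟩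
  rw [Scheme.Hom.coe_opensRange, Scheme.Pullback.range_map, Scheme.Opens.range_ι,
    Scheme.Opens.range_ι]

/-- Partition of unity: finitely many opens covering `Spec B` are refined by basic opens with the
same index set. -/
theorem exists_basicOpen_cover {B : Type u} [CommRing B] {ι : Type*}
    (T : ι → Set (PrimeSpectrum B)) (hT : ∀ i, IsOpen (T i)) (hcov : ⋃ i, T i = Set.univ) :
    ∃ a : ι → B, (∀ i, (PrimeSpectrum.basicOpen (a i) : Set (PrimeSpectrum B)) ⊆ T i) ∧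
      ∀ p : PrimeSpectrum B, ∃ i, a i ∉ p.asIdeal := by
  classical
  let I : ι → Ideal B := fun i => PrimeSpectrum.vanishingIdeal (T i)ᶜ
  have hzero : ∀ i, PrimeSpectrum.zeroLocus (I i : Set B) = (T i)ᶜ := fun i => by
    rw [PrimeSpectrum.zeroLocus_vanishingIdeal_eq_closure, (hT i).isClosed_compl.closure_eq]
  have htop : ⨆ i, I i = ⊤ := by
    rw [← PrimeSpectrum.zeroLocus_empty_iff_eq_top, PrimeSpectrum.zeroLocus_iSup]
    simp_rw [hzero]
    rw [← Set.compl_iUnion, hcov, Set.compl_univ]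
  have h1 : (1 : B) ∈ ⨆ i, I i := htop ▸ Submodule.mem_top
  obtain ⟨f, hf, hsum⟩ := (Submodule.mem_iSup_iff_exists_finsupp I 1).mp h1
  refine ⟨fun i => f i, fun i p hp => ?_, fun p => ?_⟩
  · by_contra hpT
    apply hp
    exact (PrimeSpectrum.mem_vanishingIdeal _ _).mp (hf i) p hpT
  · by_contra hcon
    push Not at hcon
    have : (1 : B) ∈ p.asIdeal := by
      rw [← hsum]
      exact Submodule.sum_mem _ fun i _ => hcon i
    exact p.2.ne_top ((Ideal.eq_top_iff_one _).mpr this)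

theorem exists_affine_cover_pullback {W Y : Scheme.{u}} (j : W ⟶ Y) [QuasiCompact j]
    [CompactSpace Y] :
    ∃ m : ℕ, ∀ (B : CommRingCat.{u}) (g : Spec B ⟶ Y),
      ∃ U : Fin m → (pullback j g).Opens, (∀ k, IsAffineOpen (U k)) ∧ ⨆ k, U k = ⊤ := by
  classical
  obtain ⟨s, hs, hsU⟩ := (isCompact_and_isOpen_iff_finite_and_eq_biUnion_affineOpens
    (U := (Set.univ : Set Y))).mp ⟨isCompact_univ, isOpen_univ⟩
  have hpre : ∀ V : s, ∃ t : Set W.affineOpens, t.Finite ∧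
      ((j ⁻¹ᵁ (V.1 : Y.Opens) : W.Opens) : Set W) = ⋃ i ∈ t, ((i : W.Opens) : Set W) := fun V =>
    (isCompact_and_isOpen_iff_finite_and_eq_biUnion_affineOpens).mp
      ⟨QuasiCompact.isCompact_preimage (f := j) _ (V.1 : Y.Opens).2 V.1.2.isCompact,
        (j ⁻¹ᵁ (V.1 : Y.Opens)).2⟩
  choose t htfin ht using hpre
  have : Finite s := hs.to_subtype
  have : ∀ V : s, Finite (t V) := fun V => (htfin V).to_subtype
  let K := Σ V : s, t V
  let e : K ≃ Fin (Nat.card K) := Finite.equivFin K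
  refine ⟨Nat.card K, fun B g => ?_⟩
  -- the basic opens on `Spec B`
  obtain ⟨a, haT, hacov⟩ := exists_basicOpen_cover (B := B)
    (fun V : s => ((g ⁻¹ᵁ (V.1 : Y.Opens) : (Spec B).Opens) : Set (Spec B)))
    (fun V => (g ⁻¹ᵁ (V.1 : Y.Opens)).2)
    (by
      rw [Set.eq_univ_iff_forall]
      intro p
      have : g p ∈ ⋃ i ∈ s, ((i : Y.Opens) : Set Y) := hsU ▸ Set.mem_univ _
      obtain ⟨V, hVs, hpV⟩ := Set.mem_iUnion₂.mp this
      exact Set.mem_iUnion.mpr ⟨⟨V, hVs⟩, hpV⟩)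
  have hbox : ∀ k : K, ∃ U : (pullback j g).Opens, IsAffineOpen U ∧
      (U : Set ↥(pullback j g)) = pullback.fst j g ⁻¹' ((k.2.1 : W.Opens) : Set W) ∩
        pullback.snd j g ⁻¹' (PrimeSpectrum.basicOpen (a k.1) : Set (PrimeSpectrum B)) := by
    intro k
    refine exists_isAffineOpen_box j g (k.1.1 : Y.Opens) k.1.1.2 (k.2.1 : W.Opens) k.2.1.2 ?_
      (PrimeSpectrum.basicOpen (a k.1)) (IsAffineOpen.Spec_basicOpen _) ?_
    · intro w hw
      have : w ∈ ⋃ i ∈ t k.1, ((i : W.Opens) : Set W) := Set.mem_biUnion k.2.2 hw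
      rw [← ht k.1] at this
      exact this
    · exact haT k.1
  choose U hUaff hUeq using hbox
  refine ⟨fun i => U (e.symm i), fun i => hUaff _, ?_⟩
  rw [eq_top_iff]
  intro z _
  obtain ⟨V, hV⟩ := hacov (pullback.snd j g z)
  have hzT : pullback.snd j g z ∈ (g ⁻¹ᵁ (V.1 : Y.Opens) : (Spec B).Opens) := haT V hV
  have hcond : j (pullback.fst j g z) = g (pullback.snd j g z) := by
    rw [← Scheme.Hom.comp_apply, ← Scheme.Hom.comp_apply, pullback.condition]
  have hw : pullback.fst j g z ∈ ((j ⁻¹ᵁ (V.1 : Y.Opens) : W.Opens) : Set W) := by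
    show j (pullback.fst j g z) ∈ (V.1 : Y.Opens)
    rw [hcond]; exact hzT
  rw [ht V] at hw
  obtain ⟨W', hW't, hzW'⟩ := Set.mem_iUnion₂.mp hw
  let k : K := ⟨V, ⟨W', hW't⟩⟩
  have hzU : z ∈ (U k : Set ↥(pullback j g)) := by
    rw [hUeq k]; exact ⟨hzW', hV⟩
  rw [TopologicalSpace.Opens.mem_iSup]
  exact ⟨e k, by show z ∈ U (e.symm (e k)); rw [e.symm_apply_apply]; exact hzU⟩

end Groth.Agent.Lib.AffCoverPB45
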