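import Groth.Prelude.Def_AlgSp4

/-!
# Fibre products of algebraic spaces (owner: helper91)

Namespace `Groth.Agent.Lib.AlgSpFibre`.  Append-only please.
-/

set_option autoImplicit false

universe u

open CategoryTheory CategoryTheory.Limits AlgebraicGeometry Opposite

namespace Groth.Agent.Lib.AlgSpFibre

open AlgSp

variable {S : Scheme.{u}}

/-- In a pullback square of sheaves whose two lower corners have representable diagonals, every map from a
representable sheaf to the upper corner is representable. -/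
theorem representable_from_yon_of_isPullback {H X Y P : Sp S}
    (hX : Representable (Limits.diag X)) (hY : Representable (Limits.diag Y))
    {f : X ⟶ H} {g : Y ⟶ H} {fst : P ⟶ X} {snd : P ⟶ Y} (h : IsPullback fst snd f g)
    {T : Over S} (a : (yon S).obj T ⟶ P) : Representable a := by
  intro T' a'
  have hXa : Representable (a ≫ fst) := Functor.relativelyRepresentable.of_diag hX (a ≫ fst)
  have sA := hXa.isPullback (a' ≫ fst)
  -- the locus in `A` where the two maps to `Y` agree
  let d : (yon S).obj (hXa.pullback (a' ≫ fst)) ⟶ Y ⨯ Y :=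
    prod.lift (hXa.fst (a' ≫ fst) ≫ a ≫ snd) ((yon S).map (hXa.snd (a' ≫ fst)) ≫ a' ≫ snd)
  have sC := hY.isPullback d
  have e1 : (yon S).map (hY.snd d) ≫ hXa.fst (a' ≫ fst) ≫ a ≫ snd = hY.fst d := by
    have := congrArg (· ≫ prod.fst) sC.w
    simp only [Category.assoc, Limits.diag, prod.lift_fst, Category.comp_id, d] at this
    exact this.symm
  have e2 : (yon S).map (hY.snd d) ≫ (yon S).map (hXa.snd (a' ≫ fst)) ≫ a' ≫ snd = hY.fst d := by
    have := congrArg (· ≫ prod.snd) sC.w
    simp only [Category.assoc, Limits.diag, prod.lift_snd, Category.comp_id, d] at this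
    exact this.symm
  have w : ((yon S).map (hY.snd d) ≫ hXa.fst (a' ≫ fst)) ≫ a =
      (yon S).map (hY.snd d ≫ hXa.snd (a' ≫ fst)) ≫ a' := by
    apply h.hom_ext
    · simp only [Category.assoc, Functor.map_comp]
      rw [sA.w]
    · simp only [Category.assoc, Functor.map_comp]
      rw [e1, e2]
  have hmono : ∀ {W : Sp S} (m m' : W ⟶ (yon S).obj (hY.pullback d)),
      m ≫ ((yon S).map (hY.snd d) ≫ hXa.fst (a' ≫ fst)) =
        m' ≫ ((yon S).map (hY.snd d) ≫ hXa.fst (a' ≫ fst)) →
      m ≫ (yon S).map (hY.snd d ≫ hXa.snd (a' ≫ fst)) =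
        m' ≫ (yon S).map (hY.snd d ≫ hXa.snd (a' ≫ fst)) → m = m' := by
    intro W m m' h1 h2
    have h3 : m ≫ (yon S).map (hY.snd d) = m' ≫ (yon S).map (hY.snd d) := by
      apply sA.hom_ext
      · simpa only [Category.assoc] using h1
      · simpa only [Category.assoc, Functor.map_comp] using h2
    apply sC.hom_ext
    · rw [← e1, ← Category.assoc, h3, Category.assoc]
    · exact h3
  have hex : ∀ (s : PullbackCone a a'), ∃ l : s.pt ⟶ (yon S).obj (hY.pullback d),
      l ≫ ((yon S).map (hY.snd d) ≫ hXa.fst (a' ≫ fst)) = s.fst ∧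
      l ≫ (yon S).map (hY.snd d ≫ hXa.snd (a' ≫ fst)) = s.snd := by
    intro s
    have c1 : s.fst ≫ a ≫ fst = s.snd ≫ a' ≫ fst := by
      rw [← Category.assoc, s.condition, Category.assoc]
    have c2 : s.fst ≫ a ≫ snd = s.snd ≫ a' ≫ snd := by
      rw [← Category.assoc, s.condition, Category.assoc]
    have hu : (s.fst ≫ a ≫ snd) ≫ Limits.diag Y = sA.lift s.fst s.snd c1 ≫ d := by
      apply Limits.prod.hom_ext
      · simp only [Category.assoc, Limits.diag, prod.lift_fst, Category.comp_id, d]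
        rw [← Category.assoc (sA.lift s.fst s.snd c1), sA.lift_fst]
      · simp only [Category.assoc, Limits.diag, prod.lift_snd, Category.comp_id, d]
        rw [← Category.assoc (sA.lift s.fst s.snd c1), sA.lift_snd, c2]
    refine ⟨sC.lift _ _ hu, ?_, ?_⟩
    · rw [← Category.assoc, sC.lift_snd, sA.lift_fst]
    · rw [Functor.map_comp, ← Category.assoc, sC.lift_snd, sA.lift_snd]
  refine ⟨hY.pullback d, hY.snd d ≫ hXa.snd (a' ≫ fst), (yon S).map (hY.snd d) ≫ hXa.fst (a' ≫ fst), ?_⟩
  refine IsPullback.of_isLimit' ⟨w⟩ (PullbackCone.IsLimit.mk _ (fun s => (hex s).choose)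
    (fun s => (hex s).choose_spec.1) (fun s => (hex s).choose_spec.2) (fun s m hm1 hm2 => ?_))
  exact hmono _ _ (hm1.trans (hex s).choose_spec.1.symm) (hm2.trans (hex s).choose_spec.2.symm)

/-- Charts of a fibre product: if `h_U ⟶ X` and `h_V ⟶ Y` are representable with `Q` (stable under base change and
composition) and the diagonal of `H` is representable, then `X ×_H Y` receives a map representable with `Q` from a
scheme `W` with `h_W = h_U ×_H h_V`. -/
theorem exists_chart_of_isPullback (Q : MorphismProperty Scheme.{u}) [Q.IsStableUnderBaseChange]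
    [Q.IsMultiplicative] {H X Y P : Sp S} (hH : Representable (Limits.diag H))
    {f : X ⟶ H} {g : Y ⟶ H} {fst : P ⟶ X} {snd : P ⟶ Y} (h : IsPullback fst snd f g)
    {U V : Over S} (qU : (yon S).obj U ⟶ X) (qV : (yon S).obj V ⟶ Y)
    (hU : RepWith Q qU) (hV : RepWith Q qV) :
    ∃ (W : Over S) (q : (yon S).obj W ⟶ P) (wU : W ⟶ U) (wV : W ⟶ V), RepWith Q q ∧
      q ≫ fst = (yon S).map wU ≫ qU ∧ q ≫ snd = (yon S).map wV ≫ qV ∧
      IsPullback ((yon S).map wU) ((yon S).map wV) (qU ≫ f) (qV ≫ g) := by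
  have s1 := IsPullback.of_hasPullback snd qV
  have s2 := IsPullback.of_hasPullback (pullback.fst snd qV ≫ fst) qU
  have big : IsPullback (pullback.snd (pullback.fst snd qV ≫ fst) qU)
      (pullback.fst (pullback.fst snd qV ≫ fst) qU ≫ pullback.snd snd qV) (qU ≫ f) (qV ≫ g) :=
    s2.flip.paste_vert (s1.paste_horiz h)
  have hrep : Representable (qU ≫ f) := Functor.relativelyRepresentable.of_diag hH (qU ≫ f)
  have sW := hrep.isPullback (qV ≫ g)
  let e := sW.isoIsPullback _ _ big
  have he1 : e.hom ≫ pullback.snd (pullback.fst snd qV ≫ fst) qU = hrep.fst (qV ≫ g) :=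
    sW.isoIsPullback_hom_fst _ _ big
  have he2 : e.hom ≫ pullback.fst (pullback.fst snd qV ≫ fst) qU ≫ pullback.snd snd qV =
      (yon S).map (hrep.snd (qV ≫ g)) := sW.isoIsPullback_hom_snd _ _ big
  have h1 : RepWith Q (pullback.fst snd qV) := (RepWith Q).of_isPullback s1.flip hV
  have h2 : RepWith Q (pullback.fst (pullback.fst snd qV ≫ fst) qU) :=
    (RepWith Q).of_isPullback s2.flip hU
  have h3 : RepWith Q (pullback.fst (pullback.fst snd qV ≫ fst) qU ≫ pullback.fst snd qV) :=
    (RepWith Q).comp_mem _ _ h2 h1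
  obtain ⟨wU, hwU⟩ := (yon S).map_surjective (hrep.fst (qV ≫ g))
  refine ⟨hrep.pullback (qV ≫ g),
    e.hom ≫ pullback.fst (pullback.fst snd qV ≫ fst) qU ≫ pullback.fst snd qV, wU, hrep.snd (qV ≫ g),
    MorphismProperty.RespectsIso.precomp _ e.hom _ h3, ?_, ?_, ?_⟩
  · rw [hwU, ← he1]
    simp only [Category.assoc]
    rw [pullback.condition]
  · rw [← he2]
    simp only [Category.assoc]
    rw [pullback.condition]
  · rw [hwU]
    exact sW

theorem repWith_inf {Q₁ Q₂ : MorphismProperty Scheme.{u}} {F G : Sp S} {f : F ⟶ G}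
    (h₁ : RepWith Q₁ f) (h₂ : RepWith Q₂ f) : RepWith (Q₁ ⊓ Q₂) f :=
  ⟨h₁.rep, fun _ _ g fst snd sq => ⟨h₁.property g fst snd sq, h₂.property g fst snd sq⟩⟩

theorem repWith_of_inf_left {Q₁ Q₂ : MorphismProperty Scheme.{u}} {F G : Sp S} {f : F ⟶ G}
    (h : RepWith (Q₁ ⊓ Q₂) f) : RepWith Q₁ f :=
  ⟨h.rep, fun _ _ g fst snd sq => (h.property g fst snd sq).1⟩

theorem repWith_of_inf_right {Q₁ Q₂ : MorphismProperty Scheme.{u}} {F G : Sp S} {f : F ⟶ G}
    (h : RepWith (Q₁ ⊓ Q₂) f) : RepWith Q₂ f :=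
  ⟨h.rep, fun _ _ g fst snd sq => (h.property g fst snd sq).2⟩

/-- Etale surjective charts of a fibre product from etale surjective charts of the factors. -/
theorem exists_atlas_of_isPullback {H X Y P : Sp S} (hH : Representable (Limits.diag H))
    {f : X ⟶ H} {g : Y ⟶ H} {fst : P ⟶ X} {snd : P ⟶ Y} (h : IsPullback fst snd f g)
    {U V : Over S} (qU : (yon S).obj U ⟶ X) (qV : (yon S).obj V ⟶ Y)
    (hUe : RepWith @Etale qU) (hUs : RepWith @Surjective qU)
    (hVe : RepWith @Etale qV) (hVs : RepWith @Surjective qV) :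
    ∃ (W : Over S) (q : (yon S).obj W ⟶ P) (wU : W ⟶ U) (wV : W ⟶ V), RepWith @Etale q ∧
      RepWith @Surjective q ∧
      q ≫ fst = (yon S).map wU ≫ qU ∧ q ≫ snd = (yon S).map wV ≫ qV ∧
      IsPullback ((yon S).map wU) ((yon S).map wV) (qU ≫ f) (qV ≫ g) := by
  obtain ⟨W, q, wU, wV, hq, e1, e2, sq⟩ := exists_chart_of_isPullback (@Etale ⊓ @Surjective) hH h qU qV
    (repWith_inf hUe hUs) (repWith_inf hVe hVs)
  exact ⟨W, q, wU, wV, repWith_of_inf_left hq, repWith_of_inf_right hq, e1, e2, sq⟩

/-- A fibre product of algebraic spaces over a sheaf with representable diagonal is an algebraic space. -/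
theorem isAlgSpace_of_isPullback {H X Y P : Sp S} (hH : Representable (Limits.diag H))
    (hX : IsAlgSpace X) (hY : IsAlgSpace Y) {f : X ⟶ H} {g : Y ⟶ H} {fst : P ⟶ X} {snd : P ⟶ Y}
    (h : IsPullback fst snd f g) : IsAlgSpace P where
  diag := Functor.relativelyRepresentable.diag_of_map_from_obj
    (fun _ a => representable_from_yon_of_isPullback hX.diag hY.diag h a)
  atlas := by
    obtain ⟨U, qU, hUe, hUs⟩ := hX.atlas
    obtain ⟨V, qV, hVe, hVs⟩ := hY.atlas
    obtain ⟨W, q, -, -, hqe, hqs, -⟩ := exists_atlas_of_isPullback hH h qU qV hUe hUs hVe hVs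
    exact ⟨W, q, hqe, hqs⟩

/-- A limit cone over a functor from the walking cospan is a pullback square. -/
theorem isPullback_of_isLimit_cone {C : Type*} [Category C] {F : WalkingCospan ⥤ C} (t : Cone F)
    (ht : IsLimit t) :
    IsPullback (t.π.app WalkingCospan.left) (t.π.app WalkingCospan.right)
      (F.map WalkingCospan.Hom.inl) (F.map WalkingCospan.Hom.inr) := by
  have h1 : IsLimit ((Cone.postcompose (diagramIsoCospan F).hom).obj t) :=
    (IsLimit.postcomposeHomEquiv (diagramIsoCospan F) t).symm ht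
  exact IsPullback.of_isLimit (IsLimit.ofIsoLimit h1 (PullbackCone.isoMk t))

instance isAlgSpace_isClosedUnderLimitsOfShape_walkingCospan :
    ObjectProperty.IsClosedUnderLimitsOfShape (IsAlgSpace (S := S)) WalkingCospan where
  limitsOfShape_le := by
    rintro X ⟨p⟩
    have sq := isPullback_of_isLimit_cone (Cone.mk X p.π) p.isLimit
    exact isAlgSpace_of_isPullback (p.prop_diag_obj WalkingCospan.one).diag
      (p.prop_diag_obj WalkingCospan.left) (p.prop_diag_obj WalkingCospan.right) sq

instance hasPullbacks_space : HasPullbacks (Space S) :=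
  inferInstanceAs (HasLimitsOfShape WalkingCospan (ObjectProperty.FullSubcategory (IsAlgSpace (S := S))))

instance preservesPullbacks_ι :
    PreservesLimitsOfShape WalkingCospan (ObjectProperty.ι (IsAlgSpace (S := S))) :=
  inferInstance

/-- A pullback square of algebraic spaces is a pullback square of sheaves. -/
theorem isPullback_hom_of_isPullback {X Y Z P : Space S} {fst : P ⟶ X} {snd : P ⟶ Y} {f : X ⟶ Z}
    {g : Y ⟶ Z} (sq : IsPullback fst snd f g) : IsPullback fst.hom snd.hom f.hom g.hom :=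
  sq.map (ObjectProperty.ι (IsAlgSpace (S := S)))

/-- A square of algebraic spaces that is a pullback square of sheaves is a pullback square. -/
theorem isPullback_of_isPullback_hom {X Y Z P : Space S} {fst : P ⟶ X} {snd : P ⟶ Y} {f : X ⟶ Z}
    {g : Y ⟶ Z} (sq : IsPullback fst.hom snd.hom f.hom g.hom) : IsPullback fst snd f g :=
  IsPullback.of_map_of_faithful (ObjectProperty.ι (IsAlgSpace (S := S))) sq

end Groth.Agent.Lib.AlgSpFibre
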