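import Mathlib

set_option autoImplicit false
universe u
open TensorProduct CategoryTheory CategoryTheory.Limits AlgebraicGeometry

namespace Groth.Agent.Lib.SrcLocalRing

/-- A pair of primes over the same prime of `R` comes from a prime of the tensor product. -/
theorem exists_prime_tensorProduct {R S T : Type u} [CommRing R] [CommRing S] [CommRing T]
    [Algebra R S] [Algebra R T] (p : PrimeSpectrum S) (q : PrimeSpectrum T)
    (h : PrimeSpectrum.comap (algebraMap R S) p = PrimeSpectrum.comap (algebraMap R T) q) :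
    ∃ z : PrimeSpectrum (S ⊗[R] T),
      PrimeSpectrum.comap (Algebra.TensorProduct.includeLeftRingHom (R := R) (A := S) (B := T)) z = p ∧
      PrimeSpectrum.comap (Algebra.TensorProduct.includeRight (R := R) (A := S) (B := T)).toRingHom z = q := by
  let f : Spec (CommRingCat.of S) ⟶ Spec (CommRingCat.of R) :=
    Spec.map (CommRingCat.ofHom (algebraMap R S))
  let g : Spec (CommRingCat.of T) ⟶ Spec (CommRingCat.of R) :=
    Spec.map (CommRingCat.ofHom (algebraMap R T))
  obtain ⟨z, hz1, hz2⟩ := Scheme.Pullback.exists_preimage_pullback (f := f) (g := g) p q h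
  refine ⟨(pullbackSpecIso R S T).hom z, ?_, ?_⟩
  · have h1 := pullbackSpecIso_hom_fst R S T
    have h2 := congrArg (fun φ : pullback f g ⟶ Spec (CommRingCat.of S) => φ z) h1
    simp only [Scheme.Hom.comp_apply] at h2
    exact h2.trans hz1
  · have h1 := pullbackSpecIso_hom_snd R S T
    have h2 := congrArg (fun φ : pullback f g ⟶ Spec (CommRingCat.of T) => φ z) h1
    simp only [Scheme.Hom.comp_apply] at h2
    exact h2.trans hz2

/-- Surjectivity descends: core lemma. -/
theorem surjective_of_tensor_surjective {R C B R' : Type u} [CommRing R] [CommRing C] [CommRing B]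
    [CommRing R'] [Algebra R C] [Algebra C B] [Algebra R B] [IsScalarTower R C B] [Algebra R R']
    [Module.Flat R R']
    (hs : Function.Surjective (PrimeSpectrum.comap (algebraMap C (C ⊗[R] R'))))
    (hφ : Function.Surjective
      (Algebra.TensorProduct.map (IsScalarTower.toAlgHom R C B) (AlgHom.id R R'))) :
    Function.Surjective (algebraMap C B) := by
  have hff : Module.FaithfullyFlat C (C ⊗[R] R') := Module.FaithfullyFlat.of_comap_surjective hs
  apply Module.FaithfullyFlat.surjective_of_tensorProduct (S := C ⊗[R] R')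
  -- the iso (C ⊗ R') ⊗[C] B ≃ B ⊗[R] R'
  let Ξ : (C ⊗[R] R') ⊗[C] B ≃ₐ[C] B ⊗[R] R' :=
    (Algebra.TensorProduct.comm C (C ⊗[R] R') B).trans
      (Algebra.TensorProduct.cancelBaseChange R C C B R')
  have hcomp : ∀ x : C ⊗[R] R', Ξ (algebraMap (C ⊗[R] R') ((C ⊗[R] R') ⊗[C] B) x) =
      Algebra.TensorProduct.map (IsScalarTower.toAlgHom R C B) (AlgHom.id R R') x := by
    intro x
    induction x with
    | zero => simp
    | add x y hx hy => simp only [map_add, hx, hy]
    | tmul c y =>
      simp [Ξ, Algebra.TensorProduct.algebraMap_apply, Algebra.smul_def]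
  intro z
  obtain ⟨x, hx⟩ := hφ (Ξ z)
  refine ⟨x, ?_⟩
  apply Ξ.injective
  rw [hcomp, hx]

/-- The core step with a chosen intermediate subalgebra. -/
theorem eq_top_of_model {A B : Type u} [CommRing A] [CommRing B] [Algebra A B]
    (B₀ C : Subalgebra A B) (hle : B₀ ≤ C) (B₀' : Type u) [CommRing B₀'] [Algebra B₀ B₀']
    [Module.Flat B₀ B₀']
    (I₀ : Ideal B₀)
    (hI₀ : PrimeSpectrum.zeroLocus (I₀ : Set B₀) = (Set.range (PrimeSpectrum.comap (algebraMap B₀ B₀')))ᶜ)
    (l : B₀ →₀ B) (hl : l ∈ Finsupp.supported B B (I₀ : Set B₀))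
    (hl1 : Finsupp.linearCombination B (algebraMap B₀ B) l = 1)
    (hlC : ∀ i ∈ l.support, l i ∈ C)
    (s : Finset (B ⊗[B₀] B₀')) (k : s → ℕ) (β : ∀ x : s, Fin (k x) → B)
    (y : ∀ x : s, Fin (k x) → B₀') (hx : ∀ x : s, (x : B ⊗[B₀] B₀') = ∑ j, β x j ⊗ₜ[B₀] y x j)
    (hβC : ∀ x j, β x j ∈ C)
    (hgen : ∀ w : B ⊗[B₀] B₀', w ∈ Subring.closure
      ((s : Set (B ⊗[B₀] B₀')) ∪ Set.range (fun a : A => (algebraMap A B a) ⊗ₜ[B₀] (1 : B₀')))) :
    C = ⊤ := by
  let _ : Algebra B₀ C := (Subalgebra.inclusion hle).toAlgebra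
  have : IsScalarTower B₀ C B := IsScalarTower.of_algebraMap_eq (fun x => rfl)
  have hsurj : Function.Surjective (algebraMap C B) := by
    apply surjective_of_tensor_surjective (R := B₀) (C := C) (B := B) (R' := B₀')
    · intro q
      have hq : PrimeSpectrum.comap (algebraMap B₀ C) q ∈
          Set.range (PrimeSpectrum.comap (algebraMap B₀ B₀')) := by
        by_contra hcon
        have h1 : PrimeSpectrum.comap (algebraMap B₀ C) q ∈ PrimeSpectrum.zeroLocus (I₀ : Set B₀) := by
          rw [hI₀]; exact hcon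
        have hmem : ∀ i ∈ l.support, algebraMap B₀ C i ∈ q.asIdeal := fun i hi => by
          have h2 : i ∈ (I₀ : Set B₀) := (Finsupp.mem_supported _ _).1 hl hi
          exact ((PrimeSpectrum.mem_zeroLocus _ _).1 h1) h2
        classical
        let c' : B₀ → C := fun i => if h : l i ∈ C then ⟨l i, h⟩ else 0
        have hu : (∑ i ∈ l.support, c' i * algebraMap B₀ C i) ∈ q.asIdeal :=
          Ideal.sum_mem _ (fun i hi => Ideal.mul_mem_left _ _ (hmem i hi))
        have hu1 : (∑ i ∈ l.support, c' i * algebraMap B₀ C i) = 1 := by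
          apply Subtype.ext
          rw [OneMemClass.coe_one, ← hl1, Finsupp.linearCombination_apply, Finsupp.sum]
          simp only [AddSubmonoidClass.coe_finsetSum, MulMemClass.coe_mul]
          refine Finset.sum_congr rfl (fun i hi => ?_)
          simp only [c', dif_pos (hlC i hi), smul_eq_mul]
          rfl
        rw [hu1] at hu
        exact q.isPrime.ne_top ((Ideal.eq_top_iff_one _).2 hu)
      obtain ⟨q₀', hq₀'⟩ := hq
      obtain ⟨z, hz, -⟩ := exists_prime_tensorProduct (R := B₀) q q₀' hq₀'.symm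
      exact ⟨z, hz⟩
    · intro w
      let φ := Algebra.TensorProduct.map (IsScalarTower.toAlgHom B₀ C B) (AlgHom.id B₀ B₀')
      have hsub : ((s : Set (B ⊗[B₀] B₀')) ∪
          Set.range (fun a : A => (algebraMap A B a) ⊗ₜ[B₀] (1 : B₀'))) ⊆
          ((φ : (C ⊗[B₀] B₀') →+* (B ⊗[B₀] B₀')).range : Set (B ⊗[B₀] B₀')) := by
        rintro w (hw | ⟨a, rfl⟩)
        · refine ⟨∑ j, (⟨β ⟨w, hw⟩ j, hβC _ j⟩ : C) ⊗ₜ[B₀] y ⟨w, hw⟩ j, ?_⟩
          have h3 := hx ⟨w, hw⟩
          simp only at h3
          refine Eq.trans ?_ h3.symm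
          rw [map_sum]
          rfl
        · exact ⟨(algebraMap A C a) ⊗ₜ[B₀] (1 : B₀'), rfl⟩
      exact (Subring.closure_le.mpr hsub) (hgen w)
  rw [eq_top_iff]
  intro b _
  obtain ⟨c, rfl⟩ := hsurj b
  exact c.2

/-- Finite type descends along an etale cover of the source: ring version. -/
theorem finiteType_of_etale_of_comap_surjective {A B B' : Type u} [CommRing A] [CommRing B]
    [CommRing B'] [Algebra A B] [Algebra B B'] [Algebra A B'] [IsScalarTower A B B']
    [Algebra.Etale B B']
    (hs : Function.Surjective (PrimeSpectrum.comap (algebraMap B B')))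
    [Algebra.FiniteType A B'] : Algebra.FiniteType A B := by
  obtain ⟨B₀, B₀', _, _, hfg, het, ⟨e⟩⟩ := Algebra.Etale.exists_subalgebra_fg A B B'
  let j : B₀' →+* B' := e.symm.toAlgHom.toRingHom.comp
    (Algebra.TensorProduct.includeRight (R := B₀) (A := B) (B := B₀')).toRingHom
  have hj : ∀ b₀ : B₀, j (algebraMap B₀ B₀' b₀) = algebraMap B B' (b₀ : B) := by
    intro b₀
    have h1 : (1 : B) ⊗ₜ[B₀] (algebraMap B₀ B₀' b₀) = algebraMap B (B ⊗[B₀] B₀') (b₀ : B) := by
      rw [Algebra.TensorProduct.algebraMap_apply, Algebra.algebraMap_eq_smul_one,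
        ← TensorProduct.smul_tmul]
      congr 1
      simp [Algebra.smul_def]
    change e.symm ((1 : B) ⊗ₜ[B₀] (algebraMap B₀ B₀' b₀)) = _
    rw [h1, AlgEquiv.commutes]
  have hopen : IsOpenMap (PrimeSpectrum.comap (algebraMap B₀ B₀')) :=
    PrimeSpectrum.isOpenMap_comap_of_hasGoingDown_of_finitePresentation
  set W₀ := Set.range (PrimeSpectrum.comap (algebraMap B₀ B₀')) with hW₀def
  have hW₀ : IsOpen W₀ := hopen.isOpen_range
  let I₀ : Ideal B₀ := PrimeSpectrum.vanishingIdeal W₀ᶜ
  have hI₀ : PrimeSpectrum.zeroLocus (I₀ : Set B₀) = W₀ᶜ := by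
    rw [PrimeSpectrum.zeroLocus_vanishingIdeal_eq_closure, hW₀.isClosed_compl.closure_eq]
  have hrange : ∀ q : PrimeSpectrum B, PrimeSpectrum.comap (algebraMap B₀ B) q ∈ W₀ := by
    intro q
    obtain ⟨q', rfl⟩ := hs q
    refine ⟨PrimeSpectrum.comap j q', ?_⟩
    rw [← PrimeSpectrum.comap_comp_apply, ← PrimeSpectrum.comap_comp_apply]
    congr 1
    ext b₀
    exact hj b₀
  have htop : I₀.map (algebraMap B₀ B) = ⊤ := by
    rw [← PrimeSpectrum.zeroLocus_empty_iff_eq_top, Ideal.map, PrimeSpectrum.zeroLocus_span,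
      ← PrimeSpectrum.preimage_comap_zeroLocus, hI₀]
    ext q
    simp [hrange q]
  have h1mem : (1 : B) ∈ Submodule.span B ((algebraMap B₀ B) '' (I₀ : Set B₀)) := by
    have h2 : (1 : B) ∈ I₀.map (algebraMap B₀ B) := by rw [htop]; trivial
    exact h2
  obtain ⟨l, hl, hl1⟩ := (Finsupp.mem_span_image_iff_linearCombination B).1 h1mem
  obtain ⟨s', hs'⟩ := (Algebra.FiniteType.out : (⊤ : Subalgebra A B').FG)
  classical
  let s : Finset (B ⊗[B₀] B₀') := s'.image e
  choose k β y hx using fun x : s => TensorProduct.exists_sum_tmul_eq (x : B ⊗[B₀] B₀')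
  let F : Set B := (l '' (l.support : Set B₀)) ∪ ⋃ (x : s), Set.range (β x)
  have hF : F.Finite :=
    (l.support.finite_toSet.image _).union (Set.finite_iUnion (fun x => Set.finite_range _))
  let C : Subalgebra A B := B₀ ⊔ Algebra.adjoin A F
  have hCfg : C.FG := hfg.sup (by rw [← hF.coe_toFinset]; exact Subalgebra.fg_adjoin_finset _)
  have hFC : F ⊆ C := fun b hb => (le_sup_right : Algebra.adjoin A F ≤ C) (Algebra.subset_adjoin hb)
  have hgen' : ∀ x' : B', e x' ∈ Subring.closure
      ((s : Set (B ⊗[B₀] B₀')) ∪ Set.range (fun a : A => (algebraMap A B a) ⊗ₜ[B₀] (1 : B₀'))) := by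
    intro x'
    have hx' : x' ∈ Algebra.adjoin A (s' : Set B') := by rw [hs']; trivial
    induction hx' using Algebra.adjoin_induction with
    | mem x hxs =>
      exact Subring.subset_closure (Or.inl (Finset.mem_coe.2 (Finset.mem_image_of_mem e hxs)))
    | algebraMap a =>
      apply Subring.subset_closure
      right
      refine ⟨a, ?_⟩
      rw [IsScalarTower.algebraMap_apply A B B', AlgEquiv.commutes,
        Algebra.TensorProduct.algebraMap_apply]
      rfl
    | add x y _ _ hx hy => rw [map_add]; exact Subring.add_mem _ hx hy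
    | mul x y _ _ hx hy => rw [map_mul]; exact Subring.mul_mem _ hx hy
  have hgen : ∀ w : B ⊗[B₀] B₀', w ∈ Subring.closure
      ((s : Set (B ⊗[B₀] B₀')) ∪ Set.range (fun a : A => (algebraMap A B a) ⊗ₜ[B₀] (1 : B₀'))) := by
    intro w
    have := hgen' (e.symm w)
    rwa [AlgEquiv.apply_symm_apply] at this
  have hCtop : C = ⊤ := eq_top_of_model B₀ C le_sup_left B₀' I₀ hI₀ l hl hl1
    (fun i hi => hFC (Or.inl ⟨i, hi, rfl⟩)) s k β y hx
    (fun x j => hFC (Or.inr (Set.mem_iUnion.2 ⟨x, ⟨j, rfl⟩⟩))) hgen
  exact ⟨hCtop ▸ hCfg⟩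

theorem finiteType_of_comp_etale {A B B' : Type u} [CommRing A] [CommRing B] [CommRing B']
    (f : A →+* B) (g : B →+* B') (hg : g.Etale)
    (hgs : Function.Surjective (PrimeSpectrum.comap g)) (hgf : (g.comp f).FiniteType) :
    f.FiniteType := by
  algebraize [f, g, g.comp f]
  exact finiteType_of_etale_of_comap_surjective (A := A) (B := B) (B' := B') hgs

/-- Flatness descends along a faithfully flat extension of the source. -/
theorem flat_of_flat_comp_faithfullyFlat {A B B' : Type u} [CommRing A] [CommRing B]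
    [CommRing B'] [Algebra A B] [Algebra B B'] [Algebra A B'] [IsScalarTower A B B']
    [Module.FaithfullyFlat B B'] [Module.Flat A B'] : Module.Flat A B := by
  rw [Module.Flat.iff_lTensor_preserves_injective_linearMap]
  intro N N' _ _ _ _ L hL
  have h1 : Function.Injective (L.baseChange B) := by
    rw [← Module.FaithfullyFlat.lTensor_injective_iff_injective B B']
    let e1 := TensorProduct.AlgebraTensorModule.cancelBaseChange A B B' B' N
    let e2 := TensorProduct.AlgebraTensorModule.cancelBaseChange A B B' B' N'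
    have hcomm : ∀ x, e2 ((L.baseChange B).lTensor B' x) = (L.baseChange B') (e1 x) := by
      intro x
      induction x with
      | zero => simp
      | add x y hx hy => simp only [map_add, hx, hy]
      | tmul b' z =>
        induction z with
        | zero => simp
        | add x y hx hy => simp only [TensorProduct.tmul_add, map_add, hx, hy]
        | tmul b n => simp [e1, e2]
    have h2 : Function.Injective (L.baseChange B') :=
      Module.Flat.lTensor_preserves_injective_linearMap L hL
    intro x y hxy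
    apply e1.injective
    apply h2
    rw [← hcomm, ← hcomm, hxy]
  exact h1

theorem flat_of_comp_faithfullyFlat {A B B' : Type u} [CommRing A] [CommRing B] [CommRing B']
    (f : A →+* B) (g : B →+* B') (hg : g.FaithfullyFlat) (hgf : (g.comp f).Flat) : f.Flat := by
  algebraize [f, g, g.comp f]
  exact flat_of_flat_comp_faithfullyFlat (A := A) (B := B) (B' := B')

/-- Formally unramified descends along a faithfully flat formally etale extension of the source. -/
theorem formallyUnramified_of_formallyEtale_faithfullyFlat {A B B' : Type u} [CommRing A]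
    [CommRing B] [CommRing B'] [Algebra A B] [Algebra B B'] [Algebra A B'] [IsScalarTower A B B']
    [Algebra.FormallyEtale B B'] [Module.FaithfullyFlat B B'] [Algebra.FormallyUnramified A B'] :
    Algebra.FormallyUnramified A B := by
  constructor
  have e := KaehlerDifferential.tensorKaehlerEquivOfFormallyEtale A B B'
  have h1 : Subsingleton (B' ⊗[B] Ω[B⁄A]) := e.toEquiv.subsingleton
  exact (Module.FaithfullyFlat.subsingleton_tensorProduct_iff_right B B').1 h1

theorem formallyUnramified_of_comp_etale {A B B' : Type u} [CommRing A] [CommRing B]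
    [CommRing B'] (f : A →+* B) (g : B →+* B') (hg : g.Etale) (hgf : g.FaithfullyFlat)
    (h : (g.comp f).FormallyUnramified) : f.FormallyUnramified := by
  algebraize [f, g, g.comp f]
  exact formallyUnramified_of_formallyEtale_faithfullyFlat (A := A) (B := B) (B' := B')

end Groth.Agent.Lib.SrcLocalRing
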