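import Mathlib
import Groth.Agent.Lib.SrcLocalRing

set_option autoImplicit false
universe u
open CategoryTheory CategoryTheory.Limits AlgebraicGeometry

namespace Groth.Agent.Lib.SrcLocal

/-- `P` is etale-local on the source: it can be checked after precomposing with an etale
surjective morphism. -/
def SourceEtLocal (P : MorphismProperty Scheme.{u}) : Prop :=
  ∀ ⦃X' X Y : Scheme.{u}⦄ (p : X' ⟶ X) (h : X ⟶ Y), Etale p → Surjective p → P (p ≫ h) → P h

/-- An etale surjective morphism to a quasi-compact scheme is refined by one from an affine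
scheme. -/
theorem exists_affine_refinement {X' X : Scheme.{u}} [CompactSpace X] (p : X' ⟶ X) [Etale p]
    [Surjective p] :
    ∃ (X'' : Scheme.{u}) (_ : IsAffine X'') (q : X'' ⟶ X'), Etale q ∧ Surjective (q ≫ p) ∧
      ∀ (P : MorphismProperty Scheme.{u}) [IsZariskiLocalAtSource P] ⦃Z : Scheme.{u}⦄ (w : X' ⟶ Z),
        P w → P (q ≫ w) := by
  have hopen : IsOpenMap p := p.isOpenMap
  let W : X' → X'.Opens := fun x' => (X'.affineCover.f (X'.affineCover.idx x')).opensRange
  have hW : ∀ x', x' ∈ W x' := fun x' => X'.affineCover.covers x'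
  have hWaff : ∀ x', IsAffineOpen (W x') := fun x' => isAffineOpen_opensRange _
  obtain ⟨t, ht⟩ := isCompact_univ.elim_finite_subcover (fun x' : X' => p '' (W x' : Set X'))
    (fun x' => hopen _ (W x').2) (by
      intro x _
      obtain ⟨x', rfl⟩ := p.surjective x
      exact Set.mem_iUnion.2 ⟨x', ⟨x', hW x', rfl⟩⟩)
  let g : t → Scheme.{u} := fun k => (W k.1 : Scheme.{u})
  have : ∀ k, IsAffine (g k) := fun k => hWaff k.1
  refine ⟨∐ g, inferInstance, Sigma.desc (fun k => (W k.1).ι), ?_, ?_, ?_⟩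
  · exact IsZariskiLocalAtSource.sigmaDesc (fun k => inferInstance)
  · refine ⟨fun x => ?_⟩
    obtain ⟨k, hk⟩ := Set.mem_iUnion.1 (ht (Set.mem_univ x))
    obtain ⟨hk1, x', hx', rfl⟩ := Set.mem_iUnion.1 hk
    refine ⟨(Sigma.ι g ⟨k, hk1⟩) ⟨x', hx'⟩, ?_⟩
    rw [← Scheme.Hom.comp_apply, Sigma.ι_desc_assoc]
    rfl
  · intro P _ Z w hw
    have e1 : Sigma.desc (fun k : t => (W k.1).ι) ≫ w = Sigma.desc (fun k : t => (W k.1).ι ≫ w) := by
      apply Sigma.hom_ext
      intro k
      rw [Sigma.ι_desc_assoc, Sigma.ι_desc]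
    rw [e1]
    exact IsZariskiLocalAtSource.sigmaDesc (fun k => IsZariskiLocalAtSource.comp hw _)

/-- Reduction of etale-locality on the source to the affine case. -/
theorem sourceEtLocal_of_affine {P : MorphismProperty Scheme.{u}} [IsZariskiLocalAtSource P]
    [IsZariskiLocalAtTarget P] [P.RespectsRight @IsOpenImmersion]
    (haff : ∀ ⦃X' X Y : Scheme.{u}⦄ [IsAffine X'] [IsAffine X] [IsAffine Y] (p : X' ⟶ X)
      (h : X ⟶ Y), Etale p → Surjective p → P (p ≫ h) → P h) : SourceEtLocal P := by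
  intro X' X Y p h hp hps hph
  rw [IsZariskiLocalAtSource.iff_exists_resLE (P := P)]
  intro x
  obtain ⟨U, hU, hxU⟩ : ∃ U : Y.Opens, IsAffineOpen U ∧ h x ∈ U := by
    obtain ⟨_, ⟨U, hU, rfl⟩, hx, -⟩ :=
      (Y.isBasis_affineOpens).exists_subset_of_mem_open (Set.mem_univ (h x)) isOpen_univ
    exact ⟨U, hU, hx⟩
  obtain ⟨V, hV, hxV, hVU⟩ : ∃ V : X.Opens, IsAffineOpen V ∧ x ∈ V ∧ V ≤ h ⁻¹ᵁ U := by
    obtain ⟨_, ⟨V, hV, rfl⟩, hx, hle⟩ :=
      (X.isBasis_affineOpens).exists_subset_of_mem_open (show x ∈ ((h ⁻¹ᵁ U : X.Opens) : Set X) from hxU)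
        (h ⁻¹ᵁ U).2
    exact ⟨V, hV, hx, hle⟩
  refine ⟨U, V, hxV, hVU, ?_⟩
  -- the restricted cover
  let pV : (p ⁻¹ᵁ V : X'.Opens).toScheme ⟶ V.toScheme := p ∣_ V
  have hpV : Etale pV := inferInstance
  have hpVs : Surjective pV :=
    MorphismProperty.of_isPullback (P := @Surjective) (isPullback_morphismRestrict p V).flip hps
  have hle : p ⁻¹ᵁ V ≤ (p ≫ h) ⁻¹ᵁ U := by
    rw [Scheme.Hom.comp_preimage]
    exact Scheme.Hom.preimage_mono p hVU
  have hcomp : P (pV ≫ h.resLE U V hVU) := by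
    have e1 : pV ≫ h.resLE U V hVU = (p ≫ h).resLE U (p ⁻¹ᵁ V) hle := by
      change (p ∣_ V) ≫ h.resLE U V hVU = _
      rw [← Scheme.Hom.resLE_eq_morphismRestrict, Scheme.Hom.resLE_comp_resLE]
    rw [e1]
    exact IsZariskiLocalAtSource.resLE _ hph
  have : IsAffine V.toScheme := hV
  have : IsAffine U.toScheme := hU
  have : CompactSpace V.toScheme := inferInstance
  obtain ⟨X'', hX'', q, hq, hqs, hqP⟩ := exists_affine_refinement pV
  refine haff (q ≫ pV) (h.resLE U V hVU) inferInstance hqs ?_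
  rw [Category.assoc]
  exact hqP P _ hcomp

/-- Ring data of an etale surjective morphism of affine schemes. -/
theorem etale_faithfullyFlat_appTop {X' X : Scheme.{u}} [IsAffine X'] [IsAffine X] (p : X' ⟶ X)
    (hp : Etale p) (hps : Surjective p) :
    p.appTop.hom.Etale ∧ p.appTop.hom.FaithfullyFlat ∧
      Function.Surjective (PrimeSpectrum.comap p.appTop.hom) := by
  have h1 : p.appTop.hom.Etale := (HasRingHomProperty.iff_of_isAffine (P := @Etale)).1 hp
  have h2 : p.appTop.hom.FaithfullyFlat :=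
    (Flat.flat_and_surjective_iff_faithfullyFlat_of_isAffine (f := p)).1 ⟨inferInstance, hps⟩
  exact ⟨h1, h2, (RingHom.FaithfullyFlat.iff_flat_and_comap_surjective.1 h2).2⟩

theorem sourceEtLocal_locallyOfFiniteType : SourceEtLocal @LocallyOfFiniteType.{u} := by
  have : MorphismProperty.RespectsRight @LocallyOfFiniteType.{u} @IsOpenImmersion :=
    ⟨fun i hi f hf => by
      have : IsOpenImmersion i := hi
      have : LocallyOfFiniteType f := hf
      exact (inferInstance : LocallyOfFiniteType (f ≫ i))⟩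
  apply sourceEtLocal_of_affine
  intro X' X Y _ _ _ p h hp hps hph
  obtain ⟨h1, h2, h3⟩ := etale_faithfullyFlat_appTop p hp hps
  rw [HasRingHomProperty.iff_of_isAffine (P := @LocallyOfFiniteType)] at hph ⊢
  rw [Scheme.Hom.comp_appTop, CommRingCat.hom_comp] at hph
  exact Groth.Agent.Lib.SrcLocalRing.finiteType_of_comp_etale _ _ h1 h3 hph

theorem sourceEtLocal_flat : SourceEtLocal @Flat.{u} := by
  apply sourceEtLocal_of_affine
  intro X' X Y _ _ _ p h hp hps hph
  obtain ⟨h1, h2, h3⟩ := etale_faithfullyFlat_appTop p hp hps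
  rw [HasRingHomProperty.iff_of_isAffine (P := @Flat)] at hph ⊢
  rw [Scheme.Hom.comp_appTop, CommRingCat.hom_comp] at hph
  exact Groth.Agent.Lib.SrcLocalRing.flat_of_comp_faithfullyFlat _ _ h2 hph

theorem sourceEtLocal_formallyUnramified : SourceEtLocal @FormallyUnramified.{u} := by
  have : MorphismProperty.RespectsRight @FormallyUnramified.{u} @IsOpenImmersion :=
    ⟨fun i hi f hf => by
      have : IsOpenImmersion i := hi
      have h2 : FormallyUnramified i := inferInstance
      exact MorphismProperty.comp_mem @FormallyUnramified f i hf h2⟩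
  apply sourceEtLocal_of_affine
  intro X' X Y _ _ _ p h hp hps hph
  obtain ⟨h1, h2, h3⟩ := etale_faithfullyFlat_appTop p hp hps
  rw [HasRingHomProperty.iff_of_isAffine (P := @FormallyUnramified)] at hph ⊢
  rw [Scheme.Hom.comp_appTop, CommRingCat.hom_comp] at hph
  exact Groth.Agent.Lib.SrcLocalRing.formallyUnramified_of_comp_etale _ _ h1 h2 hph

theorem SourceEtLocal.inf {P Q : MorphismProperty Scheme.{u}} (hP : SourceEtLocal P)
    (hQ : SourceEtLocal Q) : SourceEtLocal (P ⊓ Q) :=
  fun _ _ _ p h hp hps hph => ⟨hP p h hp hps hph.1, hQ p h hp hps hph.2⟩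

/-- A topological lemma: if `φ` is open and surjective and `φ ⁻¹' F` is discrete then `F` is. -/
theorem isDiscrete_of_preimage' {A B : Type*} [TopologicalSpace A] [TopologicalSpace B] {φ : A → B}
    (hφo : IsOpenMap φ) (hφs : Function.Surjective φ) {F : Set B} (h : IsDiscrete (φ ⁻¹' F)) :
    IsDiscrete F := by
  rw [isDiscrete_iff_forall_mem_exists_isOpen] at h ⊢
  intro y hy
  obtain ⟨x, rfl⟩ := hφs y
  obtain ⟨O, hO, hOx⟩ := h x hy
  refine ⟨φ '' O, hφo O hO, ?_⟩
  rw [← Set.image_inter_preimage, hOx, Set.image_singleton]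

theorem sourceEtLocal_lqf_lft :
    SourceEtLocal (@LocallyQuasiFinite.{u} ⊓ @LocallyOfFiniteType.{u}) := by
  intro X' X Y p h hp hps hph
  have hlft : LocallyOfFiniteType h := sourceEtLocal_locallyOfFiniteType p h hp hps hph.2
  refine ⟨?_, hlft⟩
  rw [locallyQuasiFinite_iff_isDiscrete_preimage_singleton]
  intro y
  have : LocallyQuasiFinite (p ≫ h) := hph.1
  have h1 := (p ≫ h).isDiscrete_preimage_singleton y
  refine isDiscrete_of_preimage' p.isOpenMap p.surjective ?_
  convert h1 using 1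
  ext t
  simp only [Set.mem_preimage, Set.mem_singleton_iff, Scheme.Hom.comp_apply]

theorem sourceEtLocal_lft_unramified :
    SourceEtLocal (@LocallyOfFiniteType.{u} ⊓ @FormallyUnramified.{u}) :=
  sourceEtLocal_locallyOfFiniteType.inf sourceEtLocal_formallyUnramified

/-! ### Flatness descends along fpqc coverings of the target -/

theorem flat_codescendsAlong_faithfullyFlat :
    RingHom.CodescendsAlong RingHom.Flat RingHom.FaithfullyFlat := by
  refine .mk _ RingHom.Flat.respectsIso fun R S T _ _ _ _ _ h h' ↦ ?_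
  rw [RingHom.flat_algebraMap_iff] at h' ⊢
  rw [RingHom.faithfullyFlat_algebraMap_iff] at h
  exact Module.Flat.of_flat_tensorProduct R T S

instance flat_descendsAlong_fpqc :
    MorphismProperty.DescendsAlong @Flat.{u} (@Surjective ⊓ @Flat ⊓ @QuasiCompact) :=
  HasRingHomProperty.descendsAlong_flat flat_codescendsAlong_faithfullyFlat

end Groth.Agent.Lib.SrcLocal
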