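import Mathlib

set_option autoImplicit false
universe u
open TensorProduct MvPolynomial

namespace Groth.Agent.Lib.EtaleLiftSurj

open Algebra

/-- Localising a finite pre-submersive presentation at its jacobian gives a standard smooth
algebra of the same relative dimension. -/
theorem isStandardSmooth_localizationAway_jacobian {R M : Type u} [CommRing R] [CommRing M]
    [Algebra R M] {ι σ : Type} [Finite ι] [Finite σ] (N : PreSubmersivePresentation R M ι σ)
    (R' : Type u) [CommRing R'] [Algebra M R'] [Algebra R R'] [IsScalarTower R M R']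
    [IsLocalization.Away N.jacobian R'] :
    IsStandardSmoothOfRelativeDimension N.dimension R R' := by
  let Q := PreSubmersivePresentation.localizationAway R' N.jacobian
  let C := Q.comp N
  have hjac : IsUnit C.jacobian := by
    rw [PreSubmersivePresentation.comp_jacobian_eq_jacobian_smul_jacobian,
      PreSubmersivePresentation.localizationAway_jacobian, Algebra.smul_def]
    have h1 : IsUnit (algebraMap M R' N.jacobian) :=
      IsLocalization.map_units _ (⟨N.jacobian, 1, by simp⟩ : Submonoid.powers N.jacobian)
    exact h1.mul h1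
  let C' : SubmersivePresentation R R' (Unit ⊕ ι) (Unit ⊕ σ) := { C with jacobian_isUnit := hjac }
  refine C'.isStandardSmoothOfRelativeDimension ?_
  change C.dimension = _
  rw [PreSubmersivePresentation.dimension_comp_eq_dimension_add_dimension]
  simp [Presentation.dimension]

/-- Etale algebras lift along surjections of rings. -/
theorem exists_etale_lift {R B B' : Type u} [CommRing R] [CommRing B] [CommRing B']
    [Algebra R B] [Algebra B B'] [Algebra R B'] [IsScalarTower R B B']
    (hsurj : Function.Surjective (algebraMap R B)) [Algebra.Etale B B'] :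
    ∃ (R' : Type u) (_ : CommRing R') (_ : Algebra R R') (ψ : R' →ₐ[R] B'),
      Algebra.Etale R R' ∧ Function.Surjective ψ ∧
      RingHom.ker ψ = (RingHom.ker (algebraMap R B)).map (algebraMap R R') := by
  obtain ⟨ι, σ, _, _, Q, hQ⟩ :=
    (Algebra.Etale.iff_isStandardSmoothOfRelativeDimension_zero.1 ‹Algebra.Etale B B'›).out
  have hmap : Function.Surjective
      (MvPolynomial.map (algebraMap R B) : MvPolynomial ι R → MvPolynomial ι B) :=
    MvPolynomial.map_surjective _ hsurj
  choose v hv using fun s => hmap (Q.relation s)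
  let I : Ideal (MvPolynomial ι R) := Ideal.span (Set.range v)
  let N : PreSubmersivePresentation R (MvPolynomial ι R ⧸ Ideal.span (Set.range v)) ι σ :=
    PreSubmersivePresentation.naive Q.map Q.map_inj
  let φ₀ : MvPolynomial ι R →ₐ[R] B' := MvPolynomial.aeval Q.val
  have hφ₀ : ∀ p, φ₀ p = MvPolynomial.aeval Q.val (MvPolynomial.map (algebraMap R B) p) := by
    intro p
    rw [MvPolynomial.aeval_map_algebraMap]
  have hφ₀I : ∀ a ∈ I, φ₀ a = 0 := by
    intro a ha
    refine Submodule.span_induction (p := fun a _ => φ₀ a = 0) ?_ ?_ ?_ ?_ ha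
    · rintro _ ⟨s, rfl⟩
      rw [hφ₀, hv, Q.aeval_val_relation]
    · simp
    · intro x y _ _ hx hy; rw [map_add, hx, hy, add_zero]
    · intro a x _ hx; rw [smul_eq_mul, map_mul, hx, mul_zero]
  let φ₁ : (MvPolynomial ι R ⧸ Ideal.span (Set.range v)) →ₐ[R] B' :=
    Ideal.Quotient.liftₐ I φ₀ hφ₀I
  have hφ₁ : ∀ p, φ₁ (Ideal.Quotient.mk I p) = φ₀ p := fun p => rfl
  classical
  cases nonempty_fintype σ
  have hjm : (MvPolynomial.map (algebraMap R B)).mapMatrix N.jacobiMatrix = Q.jacobiMatrix := by
    ext i j : 1
    rw [RingHom.mapMatrix_apply, Matrix.map_apply, PreSubmersivePresentation.jacobiMatrix_apply,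
      PreSubmersivePresentation.jacobiMatrix_apply]
    change MvPolynomial.map (algebraMap R B) (MvPolynomial.pderiv (Q.map i) (v j)) = _
    rw [← MvPolynomial.pderiv_map, hv]
  have key : φ₁ N.jacobian = Q.jacobian := by
    rw [PreSubmersivePresentation.jacobian_eq_jacobiMatrix_det,
      PreSubmersivePresentation.jacobian_eq_jacobiMatrix_det]
    change φ₁ (Ideal.Quotient.mk I N.jacobiMatrix.det) = _
    rw [hφ₁, hφ₀, RingHom.map_det, hjm, Algebra.Generators.algebraMap_apply]
  have hunit : ∀ y : Submonoid.powers N.jacobian, IsUnit (φ₁ y) := by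
    rintro ⟨_, n, rfl⟩
    rw [map_pow, key]
    exact Q.jacobian_isUnit.pow n
  let ψ : Localization.Away N.jacobian →ₐ[R] B' := IsLocalization.liftAlgHom hunit
  have hψ : ∀ m, ψ (algebraMap _ _ m) = φ₁ m := fun m => by
    simp [ψ]
  have hdim : N.dimension = 0 := by
    have : N.dimension = Q.dimension := rfl
    rw [this, hQ]
  have het : Algebra.Etale R (Localization.Away N.jacobian) := by
    rw [Algebra.Etale.iff_isStandardSmoothOfRelativeDimension_zero, ← hdim]
    exact isStandardSmooth_localizationAway_jacobian N _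
  refine ⟨Localization.Away N.jacobian, inferInstance, inferInstance, ψ, het, ?_, ?_⟩
  · intro b'
    obtain ⟨q, rfl⟩ := Q.aeval_val_surjective b'
    obtain ⟨p, rfl⟩ := hmap q
    exact ⟨algebraMap _ _ (Ideal.Quotient.mk I p), by rw [hψ, hφ₁, hφ₀]⟩
  · apply le_antisymm
    · intro x hx
      rw [RingHom.mem_ker] at hx
      obtain ⟨⟨m, ⟨_, n, rfl⟩⟩, hx'⟩ := IsLocalization.surj (Submonoid.powers N.jacobian) x
      have hm : φ₁ m = 0 := by
        rw [← hψ, ← hx', map_mul, hx, zero_mul]
      have hmJ : m ∈ (RingHom.ker (algebraMap R B)).map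
          (algebraMap R (MvPolynomial ι R ⧸ Ideal.span (Set.range v))) := by
        obtain ⟨p, rfl⟩ := Ideal.Quotient.mk_surjective m
        rw [hφ₁, hφ₀] at hm
        have h1 : MvPolynomial.map (algebraMap R B) p ∈ Q.ker := by
          rw [Q.ker_eq_ker_aeval_val]; exact hm
        rw [← Q.span_range_relation_eq_ker] at h1
        have h2 : Ideal.span (Set.range Q.relation) =
            Ideal.map (MvPolynomial.map (algebraMap R B)) I := by
          rw [Ideal.map_span, ← Set.range_comp]
          congr 1
          ext s
          simp [hv]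
        rw [h2, Ideal.mem_map_iff_of_surjective _ hmap] at h1
        obtain ⟨p₀, hp₀, hp₀'⟩ := h1
        have h3 : p - p₀ ∈ RingHom.ker (MvPolynomial.map (algebraMap R B) :
            MvPolynomial ι R →+* MvPolynomial ι B) := by
          rw [RingHom.mem_ker, map_sub, hp₀', sub_self]
        rw [MvPolynomial.ker_map] at h3
        have h4 : Ideal.Quotient.mk I p = Ideal.Quotient.mk I (p - p₀) := by
          rw [map_sub, Ideal.Quotient.eq_zero_iff_mem.2 hp₀, sub_zero]
        rw [h4]
        have h5 := Ideal.mem_map_of_mem (Ideal.Quotient.mk I) h3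
        rwa [Ideal.map_map] at h5
      have h6 : algebraMap _ (Localization.Away N.jacobian) m ∈
          (RingHom.ker (algebraMap R B)).map (algebraMap R (Localization.Away N.jacobian)) := by
        have := Ideal.mem_map_of_mem (algebraMap _ (Localization.Away N.jacobian)) hmJ
        rwa [Ideal.map_map, ← IsScalarTower.algebraMap_eq] at this
      have hu : IsUnit (algebraMap _ (Localization.Away N.jacobian) (N.jacobian ^ n)) :=
        IsLocalization.map_units _ (⟨_, n, rfl⟩ : Submonoid.powers N.jacobian)
      rw [← hx'] at h6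
      exact (Ideal.mul_unit_mem_iff_mem _ hu).1 h6
    · rw [Ideal.map_le_iff_le_comap]
      intro j hj
      rw [Ideal.mem_comap, RingHom.mem_ker, AlgHom.commutes, IsScalarTower.algebraMap_apply R B B',
        (RingHom.mem_ker).1 hj, map_zero]

end Groth.Agent.Lib.EtaleLiftSurj
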