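import Mathlib
import Groth.Agent.Lib.SrcLocalRing
import Groth.Agent.Lib.EtaleLiftSurj
set_option autoImplicit false
universe u
open TensorProduct

namespace Groth.Agent.Lib.SrcLocalFP

/-- The extension of an ideal to a product of two algebras is finitely generated if both
extensions are. -/
theorem fg_map_prod {R S₁ S₂ : Type u} [CommRing R] [CommRing S₁] [CommRing S₂] [Algebra R S₁]
    [Algebra R S₂] (J : Ideal R) (h1 : (J.map (algebraMap R S₁)).FG)
    (h2 : (J.map (algebraMap R S₂)).FG) : (J.map (algebraMap R (S₁ × S₂))).FG := by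
  have key : J.map (algebraMap R (S₁ × S₂)) =
      Ideal.prod (J.map (algebraMap R S₁)) (J.map (algebraMap R S₂)) := by
    apply le_antisymm
    · rw [Ideal.map_le_iff_le_comap]
      intro x hx
      exact ⟨Ideal.mem_map_of_mem _ hx, Ideal.mem_map_of_mem _ hx⟩
    · rintro ⟨a, b⟩ ⟨ha, hb⟩
      have e : ((a, b) : S₁ × S₂) = (a, 0) + (0, b) := by simp
      rw [e]
      refine Ideal.add_mem _ ?_ ?_
      · refine Submodule.span_induction (p := fun a _ => ((a, 0) : S₁ × S₂) ∈
          J.map (algebraMap R (S₁ × S₂))) ?_ ?_ ?_ ?_ ha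
        · rintro _ ⟨x, hx, rfl⟩
          have : ((algebraMap R S₁ x, 0) : S₁ × S₂) = (1, 0) * algebraMap R (S₁ × S₂) x := by
            ext <;> simp
          rw [this]
          exact Ideal.mul_mem_left _ _ (Ideal.mem_map_of_mem _ hx)
        · exact Ideal.zero_mem _
        · intro x y _ _ hx hy
          have : ((x + y, 0) : S₁ × S₂) = (x, 0) + (y, 0) := by simp
          rw [this]; exact Ideal.add_mem _ hx hy
        · intro c x _ hx
          have : ((c • x, 0) : S₁ × S₂) = (c, 0) * (x, 0) := by simp
          rw [this]; exact Ideal.mul_mem_left _ _ hx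
      · refine Submodule.span_induction (p := fun b _ => ((0, b) : S₁ × S₂) ∈
          J.map (algebraMap R (S₁ × S₂))) ?_ ?_ ?_ ?_ hb
        · rintro _ ⟨x, hx, rfl⟩
          have : ((0, algebraMap R S₂ x) : S₁ × S₂) = (0, 1) * algebraMap R (S₁ × S₂) x := by
            ext <;> simp
          rw [this]
          exact Ideal.mul_mem_left _ _ (Ideal.mem_map_of_mem _ hx)
        · exact Ideal.zero_mem _
        · intro x y _ _ hx hy
          have : ((0, x + y) : S₁ × S₂) = (0, x) + (0, y) := by simp
          rw [this]; exact Ideal.add_mem _ hx hy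
        · intro c x _ hx
          have : ((0, c • x) : S₁ × S₂) = (0, c) * (0, x) := by simp
          rw [this]; exact Ideal.mul_mem_left _ _ hx
  rw [key]
  obtain ⟨s, hs⟩ := h1
  obtain ⟨t, ht⟩ := h2
  classical
  refine ⟨s.image (fun a => (a, 0)) ∪ t.image (fun b => (0, b)), ?_⟩
  apply le_antisymm
  · rw [Ideal.span_le]
    intro x hx
    simp only [Finset.coe_union, Finset.coe_image, Set.mem_union, Set.mem_image] at hx
    rcases hx with ⟨a, ha, rfl⟩ | ⟨b, hb, rfl⟩
    · refine (Ideal.mem_prod _ _).2 ⟨?_, ?_⟩
      · rw [← hs]; exact Ideal.subset_span ha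
      · exact Ideal.zero_mem _
    · refine (Ideal.mem_prod _ _).2 ⟨?_, ?_⟩
      · exact Ideal.zero_mem _
      · rw [← ht]; exact Ideal.subset_span hb
  · rintro ⟨a, b⟩ ⟨ha, hb⟩
    have e : ((a, b) : S₁ × S₂) = (a, 0) + (0, b) := by simp
    rw [e]
    refine Ideal.add_mem _ ?_ ?_
    · rw [← hs] at ha
      refine Submodule.span_induction (p := fun a _ => ((a, 0) : S₁ × S₂) ∈ Ideal.span _) ?_ ?_ ?_ ?_ ha
      · intro x hx
        exact Ideal.subset_span (by simp; left; exact hx)
      · exact Ideal.zero_mem _
      · intro x y _ _ hx hy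
        have : ((x + y, 0) : S₁ × S₂) = (x, 0) + (y, 0) := by simp
        rw [this]; exact Ideal.add_mem _ hx hy
      · intro c x _ hx
        have : ((c • x, 0) : S₁ × S₂) = (c, 0) * (x, 0) := by simp
        rw [this]; exact Ideal.mul_mem_left _ _ hx
    · rw [← ht] at hb
      refine Submodule.span_induction (p := fun b _ => ((0, b) : S₁ × S₂) ∈ Ideal.span _) ?_ ?_ ?_ ?_ hb
      · intro x hx
        exact Ideal.subset_span (by simp; right; exact hx)
      · exact Ideal.zero_mem _
      · intro x y _ _ hx hy
        have : ((0, x + y) : S₁ × S₂) = (0, x) + (0, y) := by simp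
        rw [this]; exact Ideal.add_mem _ hx hy
      · intro c x _ hx
        have : ((0, c • x) : S₁ × S₂) = (0, c) * (0, x) := by simp
        rw [this]; exact Ideal.mul_mem_left _ _ hx

/-- A product of two flat modules is flat. -/
theorem flat_prod {R M N : Type u} [CommRing R] [AddCommGroup M] [AddCommGroup N] [Module R M]
    [Module R N] [Module.Flat R M] [Module.Flat R N] : Module.Flat R (M × N) := by
  rw [Module.Flat.iff_lTensor_preserves_injective_linearMap]
  intro A B _ _ _ _ L hL
  have h1 : Function.Injective (L.lTensor M) :=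
    Module.Flat.lTensor_preserves_injective_linearMap L hL
  have h2 : Function.Injective (L.lTensor N) :=
    Module.Flat.lTensor_preserves_injective_linearMap L hL
  have hcomm : ∀ x, TensorProduct.prodLeft R R M N B (L.lTensor (M × N) x) =
      (LinearMap.prodMap (L.lTensor M) (L.lTensor N)) (TensorProduct.prodLeft R R M N A x) := by
    intro x
    induction x with
    | zero => simp only [map_zero]
    | add x y hx hy => simp only [map_add, hx, hy]
    | tmul mn a =>
      obtain ⟨m, n⟩ := mn
      simp
  intro x y hxy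
  apply (TensorProduct.prodLeft R R M N A).injective
  have h3 : Function.Injective (LinearMap.prodMap (L.lTensor M) (L.lTensor N)) := by
    rw [LinearMap.coe_prodMap]
    exact Function.Injective.prodMap h1 h2
  apply h3
  rw [← hcomm, ← hcomm, hxy]

/-- Key step: an ideal `J` of `P` is finitely generated if its extension to a flat algebra `P'`
is, and the image of `Spec P'` contains `V(J)` and is open. -/
theorem fg_of_fg_map_of_flat {P P' : Type u} [CommRing P] [CommRing P'] [Algebra P P']
    [Module.Flat P P'] (J : Ideal P)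
    (hopen : IsOpen (Set.range (PrimeSpectrum.comap (algebraMap P P'))))
    (hV : PrimeSpectrum.zeroLocus (J : Set P) ⊆ Set.range (PrimeSpectrum.comap (algebraMap P P')))
    (hfg : (J.map (algebraMap P P')).FG) : J.FG := by
  set W := Set.range (PrimeSpectrum.comap (algebraMap P P')) with hW
  let K : Ideal P := PrimeSpectrum.vanishingIdeal Wᶜ
  have hK : PrimeSpectrum.zeroLocus (K : Set P) = Wᶜ := by
    rw [PrimeSpectrum.zeroLocus_vanishingIdeal_eq_closure, hopen.isClosed_compl.closure_eq]
  have hKJ : K ⊔ J = ⊤ := by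
    rw [← PrimeSpectrum.zeroLocus_empty_iff_eq_top, PrimeSpectrum.zeroLocus_sup, hK]
    ext q
    simp only [Set.mem_inter_iff, Set.mem_compl_iff, Set.mem_empty_iff_false, iff_false, not_and]
    intro h1 h2
    exact h1 (hV h2)
  obtain ⟨κ, hκ, j, hj, hκj⟩ := Submodule.mem_sup.1 (by rw [hKJ]; trivial : (1 : P) ∈ K ⊔ J)
  -- the faithfully flat algebra
  have hff : Module.FaithfullyFlat P (P' × Localization.Away j) := by
    have : Module.Flat P (P' × Localization.Away j) := flat_prod
    apply Module.FaithfullyFlat.of_comap_surjective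
    intro q
    by_cases hq : q ∈ W
    · obtain ⟨q', rfl⟩ := hq
      have := q'.isPrime
      refine ⟨⟨Ideal.prod q'.asIdeal ⊤, Ideal.isPrime_ideal_prod_top⟩, ?_⟩
      ext x
      simp [Ideal.mem_prod]
    · have hjq : j ∉ q.asIdeal := by
        intro hjq
        have h1 : q ∈ PrimeSpectrum.zeroLocus (K : Set P) := by rw [hK]; exact hq
        have h2 : κ ∈ q.asIdeal := h1 hκ
        have h3 : (1 : P) ∈ q.asIdeal := by rw [← hκj]; exact Ideal.add_mem _ h2 hjq
        exact q.isPrime.ne_top ((Ideal.eq_top_iff_one _).2 h3)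
      have hq' : q ∈ Set.range (PrimeSpectrum.comap (algebraMap P (Localization.Away j))) := by
        rw [PrimeSpectrum.localization_away_comap_range (Localization.Away j) j]
        exact hjq
      obtain ⟨q', rfl⟩ := hq'
      have := q'.isPrime
      refine ⟨⟨Ideal.prod ⊤ q'.asIdeal, Ideal.isPrime_ideal_prod_top'⟩, ?_⟩
      ext x
      simp [Ideal.mem_prod]
  refine Ideal.FG.of_FG_map_of_faithfullyFlat (S := P' × Localization.Away j) ?_
  refine fg_map_prod J hfg ?_
  have : J.map (algebraMap P (Localization.Away j)) = ⊤ := by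
    rw [Ideal.eq_top_iff_one]
    have hu : IsUnit (algebraMap P (Localization.Away j) j) :=
      IsLocalization.map_units _ (⟨j, 1, by simp⟩ : Submonoid.powers j)
    obtain ⟨u, hu'⟩ := hu
    have h1 : algebraMap P (Localization.Away j) j ∈ J.map (algebraMap P (Localization.Away j)) :=
      Ideal.mem_map_of_mem _ hj
    have h2 := Ideal.mul_mem_left _ (↑u⁻¹ : Localization.Away j) h1
    rwa [← hu', Units.inv_mul] at h2
  rw [this]
  exact ⟨{1}, by simp⟩

/-- Finite presentation descends along an etale cover of the source: ring version. -/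
theorem finitePresentation_of_etale_of_comap_surjective {A B B' : Type u} [CommRing A]
    [CommRing B] [CommRing B'] [Algebra A B] [Algebra B B'] [Algebra A B'] [IsScalarTower A B B']
    [Algebra.Etale B B']
    (hs : Function.Surjective (PrimeSpectrum.comap (algebraMap B B')))
    [Algebra.FinitePresentation A B'] : Algebra.FinitePresentation A B := by
  have hft : Algebra.FiniteType A B :=
    Groth.Agent.Lib.SrcLocalRing.finiteType_of_etale_of_comap_surjective hs
  obtain ⟨n, f, hf⟩ := Algebra.FiniteType.iff_quotient_mvPolynomial''.1 hft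
  refine Algebra.FinitePresentation.of_surjective hf ?_
  let _ : Algebra (MvPolynomial (Fin n) A) B := f.toRingHom.toAlgebra
  have : IsScalarTower A (MvPolynomial (Fin n) A) B :=
    IsScalarTower.of_algebraMap_eq (fun a => (f.commutes a).symm)
  let _ : Algebra (MvPolynomial (Fin n) A) B' :=
    ((algebraMap B B').comp (algebraMap (MvPolynomial (Fin n) A) B)).toAlgebra
  have : IsScalarTower (MvPolynomial (Fin n) A) B B' :=
    IsScalarTower.of_algebraMap_eq (fun _ => rfl)
  have : IsScalarTower A (MvPolynomial (Fin n) A) B' := IsScalarTower.of_algebraMap_eq (fun a => by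
    rw [IsScalarTower.algebraMap_apply A B B', IsScalarTower.algebraMap_apply A (MvPolynomial (Fin n) A) B,
      IsScalarTower.algebraMap_apply (MvPolynomial (Fin n) A) B B'])
  obtain ⟨P', _, _, ψ, het, hψs, hker⟩ := Groth.Agent.Lib.EtaleLiftSurj.exists_etale_lift
    (R := MvPolynomial (Fin n) A) (B := B) (B' := B') hf
  let _ : Algebra A P' :=
    ((algebraMap (MvPolynomial (Fin n) A) P').comp (algebraMap A (MvPolynomial (Fin n) A))).toAlgebra
  have : IsScalarTower A (MvPolynomial (Fin n) A) P' :=
    IsScalarTower.of_algebraMap_eq (fun _ => rfl)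
  have hfpP' : Algebra.FinitePresentation A P' :=
    Algebra.FinitePresentation.trans A (MvPolynomial (Fin n) A) P'
  have hkerfg : (RingHom.ker (ψ.restrictScalars A).toRingHom).FG :=
    Algebra.FinitePresentation.ker_fG_of_surjective (ψ.restrictScalars A) hψs
  have hkerfg' : ((RingHom.ker (algebraMap (MvPolynomial (Fin n) A) B)).map
      (algebraMap (MvPolynomial (Fin n) A) P')).FG := by
    rw [← hker]; exact hkerfg
  have hflat : Module.Flat (MvPolynomial (Fin n) A) P' := inferInstance
  have hopen : IsOpen (Set.range (PrimeSpectrum.comap (algebraMap (MvPolynomial (Fin n) A) P'))) :=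
    (PrimeSpectrum.isOpenMap_comap_of_hasGoingDown_of_finitePresentation).isOpen_range
  refine fg_of_fg_map_of_flat (P' := P') (RingHom.ker f.toRingHom) hopen ?_ hkerfg'
  intro q hq
  have hq' : q ∈ Set.range (PrimeSpectrum.comap (algebraMap (MvPolynomial (Fin n) A) B)) := by
    have h1 := _root_.range_comap_of_surjective B (algebraMap (MvPolynomial (Fin n) A) B) hf
    rw [h1]
    exact hq
  obtain ⟨qB, rfl⟩ := hq'
  obtain ⟨qB', rfl⟩ := hs qB
  refine ⟨PrimeSpectrum.comap ψ.toRingHom qB', ?_⟩
  rw [← PrimeSpectrum.comap_comp_apply, ← PrimeSpectrum.comap_comp_apply]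
  congr 1
  apply RingHom.ext
  intro x
  exact ψ.commutes x

theorem finitePresentation_of_comp_etale {A B B' : Type u} [CommRing A] [CommRing B]
    [CommRing B'] (f : A →+* B) (g : B →+* B') (hg : g.Etale)
    (hgs : Function.Surjective (PrimeSpectrum.comap g)) (hgf : (g.comp f).FinitePresentation) :
    f.FinitePresentation := by
  algebraize [f, g, g.comp f]
  exact finitePresentation_of_etale_of_comap_surjective (A := A) (B := B) (B' := B') hgs

end Groth.Agent.Lib.SrcLocalFP
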