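import Groth.Agent.Lib.AlgSpBasic
import Groth.Agent.Lib.SrcLocal
import Groth.Agent.Lib.SrcLocal2
import Groth.Agent.Lib.AlgSpFibre

set_option autoImplicit false
universe u
open CategoryTheory CategoryTheory.Limits AlgebraicGeometry
open AlgSp

namespace Groth.Agent.Lib.AlgSpLocP

open Groth.Agent.Lib.AlgSpBasic Groth.Agent.Lib.SrcLocal

variable {S : Scheme.{u}}

/-- A class of morphisms of schemes that is etale local on the source and the target, in the
form needed for `AlgSp.LocP`. -/
structure EtLocalClass (P : MorphismProperty Scheme.{u}) : Prop where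
  baseChange : P.IsStableUnderBaseChange
  pre : ∀ ⦃A B C : Scheme.{u}⦄ (l : A ⟶ B) (w : B ⟶ C), Etale l → P w → P (l ≫ w)
  post : ∀ ⦃A B C : Scheme.{u}⦄ (l : A ⟶ B) (w : B ⟶ C), P l → Etale w → P (l ≫ w)
  src : SourceEtLocal P

/-- Cancellation of an etale morphism on the right. -/
theorem EtLocalClass.cancel {P : MorphismProperty Scheme.{u}} (hP : EtLocalClass P)
    ⦃A B C : Scheme.{u}⦄ (l : A ⟶ B) (w : B ⟶ C) (hw : Etale w) (h : P (l ≫ w)) : P l := by
  have := hP.baseChange
  let Γ : A ⟶ pullback (l ≫ w) w := pullback.lift (𝟙 A) l (by simp)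
  have h1 : Etale (pullback.fst (l ≫ w) w) := inferInstance
  have h2 : Etale (Γ ≫ pullback.fst (l ≫ w) w) := by
    rw [pullback.lift_fst]; infer_instance
  have hΓ : Etale Γ := Etale.of_comp Γ (pullback.fst (l ≫ w) w)
  have hsnd : P (pullback.snd (l ≫ w) w) := P.pullback_snd _ _ h
  have e : Γ ≫ pullback.snd (l ≫ w) w = l := pullback.lift_snd _ _ _
  rw [← e]
  exact hP.pre _ _ hΓ hsnd

theorem EtLocalClass.inf {P Q : MorphismProperty Scheme.{u}} (hP : EtLocalClass P)
    (hQ : EtLocalClass Q) : EtLocalClass (P ⊓ Q) where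
  baseChange := by
    have := hP.baseChange
    have := hQ.baseChange
    infer_instance
  pre _ _ _ l w hl hw := ⟨hP.pre l w hl hw.1, hQ.pre l w hl hw.2⟩
  post _ _ _ l w hl hw := ⟨hP.post l w hl.1 hw, hQ.post l w hl.2 hw⟩
  src := hP.src.inf hQ.src

/-- **One chart suffices**: if one chart diagram of `f : X ⟶ Y` with surjective etale source chart
has top arrow in `P`, then `LocP P f`. -/
theorem locP_of_chart {P : MorphismProperty Scheme.{u}} (hP : EtLocalClass P) {X Y : Sp S}
    (f : X ⟶ Y) {U V : Over S} (a : (yon S).obj U ⟶ X) (b : (yon S).obj V ⟶ Y) (h : U ⟶ V)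
    (ha : RepWith @Etale a) (has : RepWith @Surjective a) (hb : RepWith @Etale b)
    (comm : a ≫ f = (yon S).map h ≫ b) (hh : P h.left) : LocP P f := by
  intro U' V' a' b' h' ha' hb' comm'
  have sqW := ha.rep.isPullback' a'
  have hw₂e : Etale (ha.rep.snd a').left := ha.property_snd a'
  have hw₂s : Surjective (ha.rep.snd a').left := has.property _ _ _ (ha.rep.isPullback a')
  have hw₁e : Etale (ha.rep.fst' a').left :=
    (repWith_yon_map_iff _ _).1 (repWith_fst_of_isPullback _ sqW ha')
  have sqV := hb.rep.isPullback' b'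
  have hv₂e : Etale (hb.rep.snd b').left := hb.property_snd b'
  have hv₁e : Etale (hb.rep.fst' b').left :=
    (repWith_yon_map_iff _ _).1 (repWith_fst_of_isPullback _ sqV hb')
  have hcomm : (yon S).map (ha.rep.fst' a' ≫ h) ≫ b = (yon S).map (ha.rep.snd a' ≫ h') ≫ b' := by
    rw [Functor.map_comp, Functor.map_comp, Category.assoc, Category.assoc, ← comm, ← comm',
      ← Category.assoc, ← Category.assoc, sqW.w]
  let g := hb.rep.lift' (ha.rep.fst' a' ≫ h) (ha.rep.snd a' ≫ h') hcomm
  have hg1 : g ≫ hb.rep.fst' b' = ha.rep.fst' a' ≫ h := hb.rep.lift'_fst _ _ _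
  have hg2 : g ≫ hb.rep.snd b' = ha.rep.snd a' ≫ h' := hb.rep.lift'_snd _ _ _
  have s1 : P ((ha.rep.fst' a').left ≫ h.left) := hP.pre _ _ hw₁e hh
  have s2 : P (g.left ≫ (hb.rep.fst' b').left) := by
    rw [← Over.comp_left, hg1, Over.comp_left]; exact s1
  have s3 : P g.left := hP.cancel _ _ hv₁e s2
  have s4 : P (g.left ≫ (hb.rep.snd b').left) := hP.post _ _ s3 hv₂e
  have s5 : P ((ha.rep.snd a').left ≫ h'.left) := by
    rw [← Over.comp_left, ← hg2, Over.comp_left]; exact s4
  exact hP.src _ _ hw₂e hw₂s s5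

/-! ### The basic classes -/

theorem etLocalClass_lft : EtLocalClass @LocallyOfFiniteType.{u} where
  baseChange := inferInstance
  pre _ _ _ l w hl hw := by
    have : Etale l := hl
    have : LocallyOfFiniteType w := hw
    exact (inferInstance : LocallyOfFiniteType (l ≫ w))
  post _ _ _ l w hl hw := by
    have : Etale w := hw
    have : LocallyOfFiniteType l := hl
    exact (inferInstance : LocallyOfFiniteType (l ≫ w))
  src := sourceEtLocal_locallyOfFiniteType

theorem etLocalClass_flat : EtLocalClass @Flat.{u} where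
  baseChange := inferInstance
  pre _ _ _ l w hl hw := by
    have : Etale l := hl
    have : Flat w := hw
    exact (inferInstance : Flat (l ≫ w))
  post _ _ _ l w hl hw := by
    have : Etale w := hw
    have : Flat l := hl
    exact (inferInstance : Flat (l ≫ w))
  src := sourceEtLocal_flat

theorem etLocalClass_lqf_lft :
    EtLocalClass (@LocallyQuasiFinite.{u} ⊓ @LocallyOfFiniteType.{u}) where
  baseChange := inferInstance
  pre _ _ _ l w hl hw := by
    have : Etale l := hl
    have : LocallyQuasiFinite l := locallyQuasiFinite_of_etale l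
    have : LocallyQuasiFinite w := hw.1
    have : LocallyOfFiniteType w := hw.2
    exact ⟨(inferInstance : LocallyQuasiFinite (l ≫ w)),
      (inferInstance : LocallyOfFiniteType (l ≫ w))⟩
  post _ _ _ l w hl hw := by
    have : Etale w := hw
    have : LocallyQuasiFinite w := locallyQuasiFinite_of_etale w
    have : LocallyQuasiFinite l := hl.1
    have : LocallyOfFiniteType l := hl.2
    exact ⟨(inferInstance : LocallyQuasiFinite (l ≫ w)),
      (inferInstance : LocallyOfFiniteType (l ≫ w))⟩
  src := sourceEtLocal_lqf_lft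

theorem etLocalClass_formallyUnramified : EtLocalClass @FormallyUnramified.{u} where
  baseChange := inferInstance
  pre _ _ _ l w hl hw := by
    have : Etale l := hl
    have h1 : FormallyUnramified l := inferInstance
    exact MorphismProperty.comp_mem @FormallyUnramified l w h1 hw
  post _ _ _ l w hl hw := by
    have : Etale w := hw
    have h1 : FormallyUnramified w := inferInstance
    exact MorphismProperty.comp_mem @FormallyUnramified l w hl h1
  src := sourceEtLocal_formallyUnramified

theorem etLocalClass_lft_unramified :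
    EtLocalClass (@LocallyOfFiniteType.{u} ⊓ @FormallyUnramified.{u}) :=
  etLocalClass_lft.inf etLocalClass_formallyUnramified

/-! ### Precomposition with an etale chart of the source -/

/-- `LocP P f` implies `LocP P (φ ≫ f)` for `φ` representable etale. -/
theorem locP_comp_of_etale (P : MorphismProperty Scheme.{u}) {X' X Y : Sp S} (φ : X' ⟶ X)
    (hφ : RepWith @Etale φ) (f : X ⟶ Y) (h : LocP P f) : LocP P (φ ≫ f) := by
  intro U V a b h' ha hb comm
  exact h (a ≫ φ) b h' (MorphismProperty.comp_mem _ _ _ ha hφ) hb (by rw [Category.assoc]; exact comm)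

/-- If `φ : h_U ⟶ X` is a surjective etale chart and `LocP P (φ ≫ f)`, then `LocP P f`
(the target is assumed to have an atlas). -/
theorem locP_of_comp_chart {P : MorphismProperty Scheme.{u}} (hP : EtLocalClass P) {X Y : Sp S}
    (hY : IsAlgSpace Y) (f : X ⟶ Y) {U : Over S} (φ : (yon S).obj U ⟶ X)
    (hφ : RepWith @Etale φ) (hφs : RepWith @Surjective φ) (h : LocP P (φ ≫ f)) : LocP P f := by
  obtain ⟨V, b, hb, hbs⟩ := hY.atlas
  have sq := hb.rep.isPullback' (φ ≫ f)
  have hπe : RepWith @Etale ((yon S).map (hb.rep.snd (φ ≫ f))) :=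
    (repWith_yon_map_iff _ _).2 (hb.property_snd _)
  have hπs : RepWith @Surjective ((yon S).map (hb.rep.snd (φ ≫ f))) :=
    (repWith_yon_map_iff _ _).2 (hbs.property _ _ _ (hb.rep.isPullback (φ ≫ f)))
  have hh : P (hb.rep.fst' (φ ≫ f)).left :=
    h ((yon S).map (hb.rep.snd (φ ≫ f))) b (hb.rep.fst' (φ ≫ f)) hπe hb sq.w.symm
  refine locP_of_chart hP f ((yon S).map (hb.rep.snd (φ ≫ f)) ≫ φ) b (hb.rep.fst' (φ ≫ f))
    (MorphismProperty.comp_mem _ _ _ hπe hφ) (MorphismProperty.comp_mem _ _ _ hπs hφs) hb ?_ hh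
  rw [Category.assoc]
  exact sq.w.symm

/-! ### `LocP` versus `RepWith` for representable morphisms -/

/-- Descent of `RepWith P` along a representable covering `c : h_V ⟶ G` with property `Q`, when `P`
descends along `Q` (generalisation of `AlgSpBasic.repWith_of_fppfCov`). -/
theorem repWith_of_cover (P Q : MorphismProperty Scheme.{u}) [P.RespectsIso]
    [P.DescendsAlong Q] {F G R : Sp S} {f : F ⟶ G} (hf : Representable f)
    {V : Over S} {c : (yon S).obj V ⟶ G} (hc : RepWith Q c)
    {fst : R ⟶ F} {snd : R ⟶ (yon S).obj V} (sq : IsPullback fst snd f c)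
    (hs : RepWith P snd) : RepWith P f := by
  have : (P.inverseImage (Over.forget S)).RespectsIso :=
    MorphismProperty.RespectsIso.inverseImage P _
  refine MorphismProperty.relative_of_snd hf (fun T g => ?_)
  set w := hf.snd g with hw
  set wf := hf.fst g with hwf
  have sqW : IsPullback wf ((yon S).map w) f g := hf.isPullback g
  set π := hc.rep.snd g with hπ
  set g' := hc.rep.fst g with hg'
  have sqT : IsPullback g' ((yon S).map π) c g := hc.rep.isPullback g
  have hπc : Q π.left := hc.property_snd g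
  have sqA : IsPullback (pullback.fst w π) (pullback.snd w π) w π := IsPullback.of_hasPullback w π
  have sqA' := sqA.map (yon S)
  have sqAl := sqA.map (Over.forget S)
  have sqC : IsPullback ((yon S).map (pullback.snd w π)) ((yon S).map (pullback.fst w π) ≫ wf)
      (g' ≫ c) f := by
    have := sqA'.flip.paste_vert sqW.flip
    rwa [← sqT.w] at this
  have hcomm : ((yon S).map (pullback.fst w π) ≫ wf) ≫ f =
      ((yon S).map (pullback.snd w π) ≫ g') ≫ c := by
    rw [Category.assoc, Category.assoc]; exact sqC.w.symm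
  set l := sq.lift ((yon S).map (pullback.fst w π) ≫ wf) ((yon S).map (pullback.snd w π) ≫ g') hcomm
    with hl
  have hl1 : l ≫ fst = (yon S).map (pullback.fst w π) ≫ wf := sq.lift_fst _ _ _
  have hl2 : l ≫ snd = (yon S).map (pullback.snd w π) ≫ g' := sq.lift_snd _ _ _
  have sqD : IsPullback ((yon S).map (pullback.snd w π)) l g' snd := by
    refine IsPullback.of_bot ?_ hl2.symm sq.flip
    rw [hl1]; exact sqC
  have hP : P (pullback.snd w π).left := hs.property g' l _ sqD.flip
  exact MorphismProperty.DescendsAlong.of_isPullback (Q := Q) sqAl.flip hπc hP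

/-- For a representable morphism to an algebraic space, `LocP P` implies `RepWith P`. -/
theorem repWith_of_locP {P : MorphismProperty Scheme.{u}} (hP : EtLocalClass P)
    [P.DescendsAlong etCov] {X Y : Sp S} (hY : IsAlgSpace Y) {f : X ⟶ Y}
    (hf : Representable f) (h : LocP P f) : RepWith P f := by
  have := hP.baseChange
  have : P.RespectsIso := MorphismProperty.IsStableUnderBaseChange.respectsIso
  obtain ⟨V, b, hb, hbs⟩ := hY.atlas
  have sq := hf.isPullback b
  have hfe : RepWith @Etale (hf.fst b) := repWith_fst_of_isPullback _ sq hb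
  have hh : P (hf.snd b).left := h (hf.fst b) b (hf.snd b) hfe hb sq.w
  have hbc : RepWith etCov b := (repWith_inf_iff _ _ b).2 ⟨hbs, hb⟩
  exact repWith_of_cover P etCov hf hbc sq ((repWith_yon_map_iff _ _).2 hh)

/-- For a representable morphism between algebraic spaces, `LocP P` is `RepWith P`. -/
theorem locP_iff_repWith {P : MorphismProperty Scheme.{u}} (hP : EtLocalClass P)
    [P.DescendsAlong etCov] {X Y : Sp S} (hX : IsAlgSpace X) (hY : IsAlgSpace Y) {f : X ⟶ Y}
    (hf : Representable f) : LocP P f ↔ RepWith P f :=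
  ⟨repWith_of_locP hP hY hf, locP_of_repWith P hP.pre (fun _ c => hX.representable_from_yon c)⟩

/-! ### Base change and composition -/

/-- `LocP P` is stable under base change (between algebraic spaces). -/
theorem locP_of_isPullback {P : MorphismProperty Scheme.{u}} (hP : EtLocalClass P)
    [P.DescendsAlong etCov] {X Y X' Y' : Sp S} (hX : IsAlgSpace X) (hY : IsAlgSpace Y)
    (hY' : IsAlgSpace Y') {f : X ⟶ Y} {g : Y' ⟶ Y} {fst : X' ⟶ X} {snd : X' ⟶ Y'}
    (sq : IsPullback fst snd f g) (h : LocP P f) : LocP P snd := by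
  obtain ⟨U, qU, hUe, hUs⟩ := hX.atlas
  obtain ⟨V, qV, hVe, hVs⟩ := hY'.atlas
  obtain ⟨W, q, wU, wV, hqe, hqs, e1, e2, sqW⟩ :=
    Groth.Agent.Lib.AlgSpFibre.exists_atlas_of_isPullback hY.diag sq qU qV hUe hUs hVe hVs
  have h1 : LocP P (qU ≫ f) := locP_comp_of_etale P qU hUe f h
  have h2 : RepWith P (qU ≫ f) :=
    repWith_of_locP hP hY (hY.representable_from_yon (qU ≫ f)) h1
  have h3 : P wV.left := h2.property (qV ≫ g) ((yon S).map wU) wV sqW
  exact locP_of_chart hP snd q qV wV hqe hqs hVe e2 h3

/-- `LocP P` is stable under composition (between algebraic spaces). -/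
theorem locP_comp {P : MorphismProperty Scheme.{u}} (hP : EtLocalClass P)
    [P.IsStableUnderComposition] {X Y Z : Sp S} (hX : IsAlgSpace X) (hY : IsAlgSpace Y)
    (hZ : IsAlgSpace Z) {f : X ⟶ Y} {g : Y ⟶ Z} (hf : LocP P f) (hg : LocP P g) :
    LocP P (f ≫ g) := by
  obtain ⟨W, c, hce, hcs⟩ := hZ.atlas
  obtain ⟨V₀, b₀, hb₀e, hb₀s⟩ := hY.atlas
  obtain ⟨U₀, a₀, ha₀e, ha₀s⟩ := hX.atlas
  -- chart of `g`
  have sq1 := hce.rep.isPullback' (b₀ ≫ g)
  have hπ1e : RepWith @Etale ((yon S).map (hce.rep.snd (b₀ ≫ g))) :=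
    (repWith_yon_map_iff _ _).2 (hce.property_snd _)
  have hπ1s : RepWith @Surjective ((yon S).map (hce.rep.snd (b₀ ≫ g))) :=
    (repWith_yon_map_iff _ _).2 (hcs.property _ _ _ (hce.rep.isPullback (b₀ ≫ g)))
  set b := (yon S).map (hce.rep.snd (b₀ ≫ g)) ≫ b₀ with hb
  have hbe : RepWith @Etale b := MorphismProperty.comp_mem _ _ _ hπ1e hb₀e
  have hbs : RepWith @Surjective b := MorphismProperty.comp_mem _ _ _ hπ1s hb₀s
  have hbg : b ≫ g = (yon S).map (hce.rep.fst' (b₀ ≫ g)) ≫ c := by
    rw [hb, Category.assoc]; exact sq1.w.symm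
  have hk : P (hce.rep.fst' (b₀ ≫ g)).left := hg b c _ hbe hce hbg
  -- chart of `f`
  have sq2 := hbe.rep.isPullback' (a₀ ≫ f)
  have hπ2e : RepWith @Etale ((yon S).map (hbe.rep.snd (a₀ ≫ f))) :=
    (repWith_yon_map_iff _ _).2 (hbe.property_snd _)
  have hπ2s : RepWith @Surjective ((yon S).map (hbe.rep.snd (a₀ ≫ f))) :=
    (repWith_yon_map_iff _ _).2 (hbs.property _ _ _ (hbe.rep.isPullback (a₀ ≫ f)))
  set a := (yon S).map (hbe.rep.snd (a₀ ≫ f)) ≫ a₀ with ha
  have hae : RepWith @Etale a := MorphismProperty.comp_mem _ _ _ hπ2e ha₀e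
  have has : RepWith @Surjective a := MorphismProperty.comp_mem _ _ _ hπ2s ha₀s
  have haf : a ≫ f = (yon S).map (hbe.rep.fst' (a₀ ≫ f)) ≫ b := by
    rw [ha, Category.assoc]; exact sq2.w.symm
  have hh : P (hbe.rep.fst' (a₀ ≫ f)).left := hf a b _ hae hbe haf
  refine locP_of_chart hP (f ≫ g) a c (hbe.rep.fst' (a₀ ≫ f) ≫ hce.rep.fst' (b₀ ≫ g)) hae has hce
    ?_ ?_
  · rw [← Category.assoc, haf, Category.assoc, hbg, Functor.map_comp, Category.assoc]
  · rw [Over.comp_left]
    exact P.comp_mem _ _ hh hk

/-! ### Locally of finite presentation and etale -/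

theorem etLocalClass_lfp : EtLocalClass @LocallyOfFinitePresentation.{u} where
  baseChange := inferInstance
  pre _ _ _ l w hl hw := by
    have : Etale l := hl
    have : LocallyOfFinitePresentation w := hw
    exact (inferInstance : LocallyOfFinitePresentation (l ≫ w))
  post _ _ _ l w hl hw := by
    have : Etale w := hw
    have : LocallyOfFinitePresentation l := hl
    exact (inferInstance : LocallyOfFinitePresentation (l ≫ w))
  src := sourceEtLocal_locallyOfFinitePresentation

theorem etLocalClass_etale : EtLocalClass @Etale.{u} where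
  baseChange := inferInstance
  pre _ _ _ l w hl hw := by
    have : Etale l := hl
    have : Etale w := hw
    exact (inferInstance : Etale (l ≫ w))
  post _ _ _ l w hl hw := by
    have : Etale w := hw
    have : Etale l := hl
    exact (inferInstance : Etale (l ≫ w))
  src := sourceEtLocal_etale

/-- For a morphism to an algebraic space, `IsEtaleMor` is `LocP @Etale`. -/
theorem isEtaleMor_iff_locP {X Y : Sp S} (hY : IsAlgSpace Y) (f : X ⟶ Y) :
    IsEtaleMor f ↔ LocP @Etale f := by
  constructor
  · intro h U V a b k ha hb comm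
    have h1 : RepWith @Etale ((yon S).map k ≫ b) := by rw [← comm]; exact h a ha
    exact etale_of_comp_chart (fun _ c => hY.representable_from_yon c) _ b h1 hb k rfl
  · intro h U φ hφ
    exact repWith_of_locP etLocalClass_etale hY (hY.representable_from_yon (φ ≫ f))
      (locP_comp_of_etale _ φ hφ f h)

end Groth.Agent.Lib.AlgSpLocP
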