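import Groth.Agent.Lib.AlgStAtlas

/-!
# Atlases of 2-fibre products, continued (helper64)

* `AtlasClass P` : the closure properties of `P` needed to build atlases of fibre products;
  instances for `LocP @Smooth`, `IsSurjectiveMor`, `LocP @Etale`.
* `hasAtlas_fp` : `𝒳 ×_𝒵 𝒴` has a `P`-atlas if `𝒳`, `𝒴` have and all maps from schemes to `𝒵` are
  representable by algebraic spaces.
-/

set_option autoImplicit false
set_option linter.style.haveILetI false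
set_option backward.isDefEq.respectTransparency false
set_option backward.isDefEq.respectTransparency.types false

namespace Groth.Agent.Lib.AlgStAtlas

open CategoryTheory Functor Opposite Limits AlgebraicGeometry Groth.Agent.Lib.FibGrpd
  Groth.Agent.Lib.FpEquiv Groth.Agent.Lib.EquivOver Groth.Agent.Lib.AlgStFp
  Groth.Agent.Lib.AlgStRep Groth.Agent.Lib.PshFp Groth.Agent.Lib.AlgStSpTest
  Groth.Agent.Lib.FpBaseChange Groth.Agent.Lib.AlgStRepC Groth.Agent.Lib.AlgStDiag2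
  Groth.Agent.Lib.AlgStBoot Groth.Agent.Lib.AlgStEquiv

universe u

variable {S : Scheme.{u}}

/-- The closure properties of a property `P` of morphisms of algebraic spaces used to build atlases. -/
structure AtlasClass (P : MorphismProperty (AlgSp.Sp S)) : Prop where
  isoInv : IsoInv P
  atlasLocal : AtlasLocal P
  comp : ∀ ⦃X Y Z : AlgSp.Sp S⦄, AlgSp.IsAlgSpace X → AlgSp.IsAlgSpace Y → AlgSp.IsAlgSpace Z →
    ∀ (a : X ⟶ Y) (b : Y ⟶ Z), P a → P b → P (a ≫ b)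
  baseChange : ∀ ⦃X₁ Y₁ X₂ Y₂ : AlgSp.Sp S⦄, AlgSp.IsAlgSpace X₁ → AlgSp.IsAlgSpace Y₁ →
    AlgSp.IsAlgSpace X₂ → AlgSp.IsAlgSpace Y₂ → ∀ (a : X₁ ⟶ Y₁) (b : Y₂ ⟶ Y₁) (a' : X₂ ⟶ Y₂)
    (b' : X₂ ⟶ X₁), IsPullback b' a' a b → P a → P a'
  ofChart : ∀ ⦃W : Over S⦄ ⦃F : AlgSp.Sp S⦄, AlgSp.IsAlgSpace F →
    ∀ (c : (AlgSp.yon S).obj W ⟶ F), AlgSp.RepWith @Etale c → AlgSp.RepWith @Surjective c → P c

theorem atlasClass_isSurjectiveMor : AtlasClass (AlgSp.IsSurjectiveMor (S := S)) where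
  isoInv := isoInv_isSurjectiveMor
  atlasLocal := atlasLocal_isSurjectiveMor
  comp _ _ _ _ _ _ a b ha hb := isSurjectiveMor_comp a b ha hb
  baseChange X₁ Y₁ X₂ Y₂ _ _ _ _ a b a' b' sq ha := by
    intro y
    obtain ⟨x, hx⟩ := ha (AlgSp.Points.map b y)
    obtain ⟨z, -, hz⟩ := Groth.Agent.Lib.H86AlgSpPoints.exists_of_isPullback sq x y hx
    exact ⟨z, hz⟩
  ofChart _ _ _ c _ hcs := Groth.Agent.Lib.H86AlgSpPoints.map_surjective_of_repWith hcs

open Groth.Agent.Lib.AlgSpLocP Groth.Agent.Lib.AlgSpBasic in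
theorem atlasClass_locP {Q : MorphismProperty Scheme.{u}} (hQ : EtLocalClass Q)
    [Q.DescendsAlong etCov] [Q.IsStableUnderComposition] (hE : @Etale ≤ Q) :
    AtlasClass (AlgSp.LocP (S := S) Q) where
  isoInv := isoInv_locP Q
  atlasLocal := atlasLocal_locP Q
  comp _ _ _ hX hY hZ _ _ ha hb := locP_comp hQ hX hY hZ ha hb
  baseChange _ _ _ _ h1 h2 _ h4 _ _ _ _ sq ha := locP_of_isPullback hQ h1 h2 h4 sq ha
  ofChart W _ _ _ hce _ := locP_of_repWith Q hQ.pre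
    (fun _ d => (AlgSp.IsAlgSpace.yon_obj W).representable_from_yon d) (repWith_mono hE hce)

theorem atlasClass_locP_smooth : AtlasClass (AlgSp.LocP (S := S) @Smooth) :=
  atlasClass_locP Groth.Agent.Lib.AlgSpLocP.etLocalClass_smooth (fun _ _ g hg => by
    have : Etale g := hg
    exact (inferInstance : Smooth g))

theorem atlasClass_locP_etale : AtlasClass (AlgSp.LocP (S := S) @Etale) :=
  atlasClass_locP Groth.Agent.Lib.AlgSpLocP.etLocalClass_etale le_rfl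

section Fp

variable {𝒳 𝒴 𝒵 : AlgSt.Cat S}

/-- `RepByAlgSpWith P` for a composite `(Sch/W') ⟶ ofSp W ≃ 𝒲 ⟶ 𝒫` where `W' ⟶ W` is an etale
surjective chart. -/
theorem repByAlgSpWith_chart_comp {𝒲 𝒬 : AlgSt.Cat S} [FibCat.IsFibGrpd 𝒲.p]
    (P : MorphismProperty (AlgSp.Sp S)) (hP : AtlasClass P) (W : AlgSp.Space S)
    (eW : AlgSt.ofSp W.obj ⥤ᵇ 𝒲) (heW : FibCat.IsEquivOver eW) {W' : Over S}
    (c : (AlgSp.yon S).obj W' ⟶ W.obj) (hce : AlgSp.RepWith @Etale c)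
    (hcs : AlgSp.RepWith @Surjective c) (ω : 𝒲 ⥤ᵇ 𝒬) (hω : AlgSt.RepByAlgSpWith P ω) :
    AlgSt.RepByAlgSpWith P (BasedFunctor.comp
      (BasedFunctor.comp (BasedFunctor.comp (AlgSt.ofOverCat W') (AlgSt.ofSpMap c)) eW) ω) := by
  have hc : AlgSt.RepByAlgSpWith P (AlgSt.ofSpMap c) :=
    repByAlgSpWith_ofSpMap P hP.baseChange (AlgSp.IsAlgSpace.yon_obj W') W.property c
      (hP.ofChart W.property c hce hcs)
  have h1 : AlgSt.RepByAlgSpWith P (BasedFunctor.comp (AlgSt.ofOverCat W') (AlgSt.ofSpMap c)) :=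
    (repByAlgSpWith_equiv_comp_iff P (AlgSt.ofOverCat W') (ofOverCat_isEquivOver W')
      (AlgSt.ofSpMap c)).1 hc
  have h2 : AlgSt.RepByAlgSpWith P (BasedFunctor.comp
      (BasedFunctor.comp (AlgSt.ofOverCat W') (AlgSt.ofSpMap c)) eW) :=
    (repByAlgSpWith_comp_equiv_iff P _ eW heW).2 h1
  exact repByAlgSpWith_comp P hP.isoInv hP.atlasLocal hP.comp _ ω h2 hω

/-- `𝒳 ×_𝒵 𝒴` has a `P`-atlas if `𝒳` and `𝒴` have and every map from a scheme to `𝒵` is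
representable by algebraic spaces. -/
theorem hasAtlas_fp [FibCat.IsFibGrpd 𝒳.p] [FibCat.IsFibGrpd 𝒴.p] [FibCat.IsFibGrpd 𝒵.p]
    (P : MorphismProperty (AlgSp.Sp S)) (hP : AtlasClass P)
    (hΔ : ∀ (U : Over S) (x : FibCat.overCat U ⥤ᵇ 𝒵), AlgSt.RepByAlgSp1 x)
    (f : 𝒳 ⥤ᵇ 𝒵) (g : 𝒴 ⥤ᵇ 𝒵) (h𝒳 : AlgSt.HasAtlas P 𝒳) (h𝒴 : AlgSt.HasAtlas P 𝒴) :
    AlgSt.HasAtlas P (FibCat.fp f g) := by
  obtain ⟨U, x, hx, hxs⟩ := h𝒳
  obtain ⟨V, y, hy, hys⟩ := h𝒴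
  obtain ⟨W, eW, heW⟩ := hΔ V (BasedFunctor.comp y g) U (BasedFunctor.comp x f)
  obtain ⟨W', c, hce, hcs⟩ := W.property.atlas
  haveI : FibCat.IsFibGrpd (FibCat.fp (BasedFunctor.comp x f) (BasedFunctor.comp y g)).p :=
    fp_isFibGrpd _ _
  haveI : FibCat.IsFibGrpd (FibCat.fp (BasedFunctor.comp x f) g).p := fp_isFibGrpd _ _
  have key : ∀ (Q : MorphismProperty (AlgSp.Sp S)), AtlasClass Q → AlgSt.RepByAlgSpWith Q x →
      AlgSt.RepByAlgSpWith Q y → AlgSt.RepByAlgSpWith Q (BasedFunctor.comp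
        (BasedFunctor.comp (BasedFunctor.comp (AlgSt.ofOverCat W') (AlgSt.ofSpMap c)) eW)
        (BasedFunctor.comp (fpMapRight (BasedFunctor.comp x f) g y) (fpMapLeft x f g))) := by
    intro Q hQ hxQ hyQ
    have h1 : AlgSt.RepByAlgSpWith Q (fpMapRight (BasedFunctor.comp x f) g y) :=
      repByAlgSpWith_fpMapRight Q _ g y hyQ
    have h2 : AlgSt.RepByAlgSpWith Q (fpMapLeft x f g) := repByAlgSpWith_fpMapLeft Q x f g hxQ
    have h3 : AlgSt.RepByAlgSpWith Q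
        (BasedFunctor.comp (fpMapRight (BasedFunctor.comp x f) g y) (fpMapLeft x f g)) :=
      repByAlgSpWith_comp Q hQ.isoInv hQ.atlasLocal hQ.comp _ _ h1 h2
    exact repByAlgSpWith_chart_comp Q hQ W eW heW c hce hcs _ h3
  exact ⟨W', _, key P hP hx hy, key _ atlasClass_isSurjectiveMor hxs hys⟩

end Fp

end Groth.Agent.Lib.AlgStAtlas
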