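import Groth.Agent.Lib.AlgStNoeth
import Groth.Agent.Lib.AlgStAtlas2

/-!
# Properties of morphisms of algebraic stacks read on smooth chart squares (helper64)

* `locP_yon_map_iff` : for an etale-local class, `LocP P (h_g) ↔ P g`.
* `smoothLocally_isLocallyNoetherian_of_locQ_lft` (= S12998), `locQ_lfp_of_locQ_lft` (= S12999).
-/

set_option autoImplicit false
set_option linter.style.haveILetI false
set_option backward.isDefEq.respectTransparency false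
set_option backward.isDefEq.respectTransparency.types false

namespace Groth.Agent.Lib.AlgStLocQ

open CategoryTheory Functor Opposite Limits AlgebraicGeometry Groth.Agent.Lib.FibGrpd
  Groth.Agent.Lib.FpEquiv Groth.Agent.Lib.EquivOver Groth.Agent.Lib.AlgStFp
  Groth.Agent.Lib.AlgStRep Groth.Agent.Lib.AlgStSpTest Groth.Agent.Lib.AlgStEquiv
  Groth.Agent.Lib.AlgStAtlas Groth.Agent.Lib.AlgStRepStack Groth.Agent.Lib.AlgSpLocP
  Groth.Agent.Lib.AlgStSrcLocal Groth.Agent.Lib.AlgStSmoothLocal Groth.Agent.Lib.AlgStNoeth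

universe u

variable {S : Scheme.{u}}

/-- For an etale-local class `P`, the map `h_g` has `LocP P` iff `g` has `P`. -/
theorem locP_yon_map_iff {P : MorphismProperty Scheme.{u}} (hP : EtLocalClass P) {U V : Over S}
    (g : U ⟶ V) : AlgSp.LocP P ((AlgSp.yon S).map g) ↔ P g.left := by
  refine ⟨AlgSp.locP_yon_map, fun hg => ?_⟩
  have := hP.baseChange
  exact Groth.Agent.Lib.AlgSpBasic.locP_of_repWith P hP.pre
    (fun _ c => (AlgSp.IsAlgSpace.yon_obj U).representable_from_yon c)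
    ((AlgSp.repWith_yon_map_iff P g).2 hg)

variable {𝒳 𝒴 : AlgSt.Cat S}

/-- = S12998. -/
theorem smoothLocally_isLocallyNoetherian_of_locQ_lft (f : 𝒳 ⥤ᵇ 𝒴)
    (hf : AlgSt.LocQ (AlgSp.LocP @LocallyOfFiniteType) f)
    (hN : AlgSt.SmoothLocally (fun T ↦ IsLocallyNoetherian T) 𝒴) :
    AlgSt.SmoothLocally (fun T ↦ IsLocallyNoetherian T) 𝒳 := by
  obtain ⟨U, V, x, y, h, α, hx, hxs, hy, hh⟩ := hf
  have hV : IsLocallyNoetherian V.left := hN V y hy
  have : LocallyOfFiniteType h.left := AlgSp.locP_yon_map hh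
  have hU : IsLocallyNoetherian U.left := LocallyOfFiniteType.isLocallyNoetherian h.left
  exact smoothLocally_of_chart smLocal_isLocallyNoetherian x hx hxs hU

/-- = S12999. -/
theorem locQ_lfp_of_locQ_lft (f : 𝒳 ⥤ᵇ 𝒴)
    (hN : AlgSt.SmoothLocally (fun T ↦ IsLocallyNoetherian T) 𝒴)
    (hf : AlgSt.LocQ (AlgSp.LocP @LocallyOfFiniteType) f) :
    AlgSt.LocQ (AlgSp.LocP @LocallyOfFinitePresentation) f := by
  obtain ⟨U, V, x, y, h, α, hx, hxs, hy, hh⟩ := hf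
  have hV : IsLocallyNoetherian V.left := hN V y hy
  have : LocallyOfFiniteType h.left := AlgSp.locP_yon_map hh
  refine ⟨U, V, x, y, h, α, hx, hxs, hy, (locP_yon_map_iff etLocalClass_lfp h).2 ?_⟩
  exact (inferInstance : LocallyOfFinitePresentation h.left)

/-- A chart square for `f` from a representing algebraic space of `(Sch/V) ×_𝒴 𝒳` over an atlas
`y` of `𝒴` and an etale surjective chart `c` of that space. -/
theorem locQ_of_chart [FibCat.IsFibGrpd 𝒳.p] [FibCat.IsFibGrpd 𝒴.p]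
    (P : MorphismProperty (AlgSp.Sp S)) (f : 𝒳 ⥤ᵇ 𝒴)
    {V : Over S} (y : FibCat.overCat V ⥤ᵇ 𝒴)
    (hy : AlgSt.RepByAlgSpWith (AlgSp.LocP @Smooth) y)
    (hys : AlgSt.RepByAlgSpWith AlgSp.IsSurjectiveMor y)
    (F : AlgSp.Space S) (e : AlgSt.ofSp F.obj ⥤ᵇ FibCat.fp y f) (he : FibCat.IsEquivOver e)
    {W : Over S} (c : (AlgSp.yon S).obj W ⟶ F.obj) (hce : AlgSp.RepWith @Etale c)
    (hcs : AlgSp.RepWith @Surjective c) (h : W ⟶ V)
    (hh : c ≫ AlgSt.spMapOfOver (BasedFunctor.comp e (FibCat.fpFst y f)) = (AlgSp.yon S).map h)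
    (hP : P ((AlgSp.yon S).map h)) : AlgSt.LocQ P f := by
  haveI : FibCat.IsFibGrpd (FibCat.fp y f).p := fp_isFibGrpd _ _
  let x : FibCat.overCat W ⥤ᵇ 𝒳 := BasedFunctor.comp
    (BasedFunctor.comp (BasedFunctor.comp (AlgSt.ofOverCat W) (AlgSt.ofSpMap c)) e)
    (FibCat.fpSnd y f)
  have hx : AlgSt.RepByAlgSpWith (AlgSp.LocP @Smooth) x :=
    repByAlgSpWith_chart_comp _ atlasClass_locP_smooth F e he c hce hcs _
      (Groth.Agent.Lib.AlgStRepC.repByAlgSpWith_fpSnd _ y f hy)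
  have hxs : AlgSt.RepByAlgSpWith AlgSp.IsSurjectiveMor x :=
    repByAlgSpWith_chart_comp _ atlasClass_isSurjectiveMor F e he c hce hcs _
      (Groth.Agent.Lib.AlgStRepC.repByAlgSpWith_fpSnd _ y f hys)
  obtain ⟨γ⟩ := exists_iso_ofSpMap_toOverCat (BasedFunctor.comp e (FibCat.fpFst y f))
  let pre : FibCat.overCat W ⥤ᵇ AlgSt.ofSp F.obj :=
    BasedFunctor.comp (AlgSt.ofOverCat W) (AlgSt.ofSpMap c)
  have e1 : BasedFunctor.comp pre (BasedFunctor.comp
      (AlgSt.ofSpMap (AlgSt.spMapOfOver (BasedFunctor.comp e (FibCat.fpFst y f))))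
      (AlgSt.toOverCat V)) = AlgSt.overMap h := by
    show BasedFunctor.comp (AlgSt.ofOverCat W) (BasedFunctor.comp (AlgSt.ofSpMap (c ≫
      AlgSt.spMapOfOver (BasedFunctor.comp e (FibCat.fpFst y f)))) (AlgSt.toOverCat V)) = _
    rw [hh]
    rfl
  let α : BasedFunctor.comp x f ≅ BasedFunctor.comp (AlgSt.overMap h) y :=
    whiskerLeftIso (BasedFunctor.comp pre e) (FibCat.fpIso y f).symm ≪≫
      whiskerRightIso (whiskerLeftIso pre γ) y ≪≫ eqToIso (by rw [← e1])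
  exact ⟨W, V, x, y, h, α, hx, hxs, hy, hP⟩

/-- A morphism representable by schemes with `Q' ≤ Q` has `Q` on chart squares. -/
theorem locQ_of_repByAlgSpWith_repWith {Q Q' : MorphismProperty Scheme.{u}} (hQ : EtLocalClass Q)
    (hle : Q' ≤ Q)
    (h𝒳 : AlgSt.IsAlgStack Scheme.fppfPrecoverage 𝒳)
    (h𝒴 : AlgSt.IsAlgStack Scheme.fppfPrecoverage 𝒴) (f : 𝒳 ⥤ᵇ 𝒴)
    (hf : AlgSt.RepByAlgSpWith (AlgSp.RepWith Q') f) : AlgSt.LocQ (AlgSp.LocP Q) f := by
  haveI : FibCat.IsFibGrpd 𝒳.p := h𝒳.isStack.1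
  haveI : FibCat.IsFibGrpd 𝒴.p := h𝒴.isStack.1
  obtain ⟨V, y, hy, hys⟩ := h𝒴.atlas
  obtain ⟨F, e, he, ha⟩ := hf V y
  obtain ⟨W, i, w, hw, hwi⟩ := exists_iso_yon_of_repWith _ _ ha
  exact locQ_of_chart _ f y hy hys F e he i.hom
    (MorphismProperty.of_isIso (AlgSp.RepWith @Etale) i.hom)
    (MorphismProperty.of_isIso (AlgSp.RepWith @Surjective) i.hom) w hw
    ((locP_yon_map_iff hQ w).2 (hle _ hwi))

/-- = S12996. -/
theorem locQ_lft_of_isImm (h𝒳 : AlgSt.IsAlgStack Scheme.fppfPrecoverage 𝒳)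
    (h𝒴 : AlgSt.IsAlgStack Scheme.fppfPrecoverage 𝒴) (f : 𝒳 ⥤ᵇ 𝒴) (hf : AlgSt.IsImm f) :
    AlgSt.LocQ (AlgSp.LocP @LocallyOfFiniteType) f :=
  locQ_of_repByAlgSpWith_repWith etLocalClass_lft (fun _ _ l hl => by
    have : IsImmersion l := hl
    exact (inferInstance : LocallyOfFiniteType l)) h𝒳 h𝒴 f hf

/-- = S12997. -/
theorem locQ_lfp_of_isOpenImm (h𝒳 : AlgSt.IsAlgStack Scheme.fppfPrecoverage 𝒳)
    (h𝒴 : AlgSt.IsAlgStack Scheme.fppfPrecoverage 𝒴) (f : 𝒳 ⥤ᵇ 𝒴) (hf : AlgSt.IsOpenImm f) :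
    AlgSt.LocQ (AlgSp.LocP @LocallyOfFinitePresentation) f :=
  locQ_of_repByAlgSpWith_repWith etLocalClass_lfp (fun _ _ l hl => by
    have : IsOpenImmersion l := hl
    exact (inferInstance : LocallyOfFinitePresentation l)) h𝒳 h𝒴 f hf

end Groth.Agent.Lib.AlgStLocQ
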