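import Mathlib.CategoryTheory.Limits.Types.Pullbacks
import Mathlib.CategoryTheory.Limits.Shapes.Pullback.IsPullback.Basic
import Mathlib.CategoryTheory.Sites.SheafOfTypes
import Mathlib.CategoryTheory.Sites.Sheaf

/-!
# A map of presheaves of sets all of whose base changes to representables are sheaves (helper64)

`isSheaf_of_pullbacks_isSheaf` : if `G` is a sheaf and for every section `ξ : h_T ⟶ G` some pullback
`h_T ×_G F` is a sheaf, then `F` is a sheaf.
-/

set_option autoImplicit false

namespace Groth.Agent.Lib.RepBySpA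

open CategoryTheory Opposite Limits Presieve

universe w v u

variable {C : Type u} [Category.{v} C] (J : GrothendieckTopology C)

theorem isSheaf_of_pullbacks_isSheaf {F G : Cᵒᵖ ⥤ Type (max w v)} (a : F ⟶ G)
    (hG : Presieve.IsSheaf J G)
    (h : ∀ (T : C) (ξ : uliftYoneda.{w}.obj T ⟶ G),
      ∃ (F' : Cᵒᵖ ⥤ Type (max w v)) (fst : F' ⟶ F) (snd : F' ⟶ uliftYoneda.{w}.obj T),
        IsPullback fst snd a ξ ∧ Presieve.IsSheaf J F') :
    Presieve.IsSheaf J F := by
  intro T R hR x hx
  have hy : (FamilyOfElements.map x a).Compatible := FamilyOfElements.Compatible.map a hx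
  obtain ⟨y, hy1, hy2⟩ := hG R hR (FamilyOfElements.map x a) hy
  obtain ⟨F', fst, snd, sq, hF'⟩ := h T (uliftYonedaEquiv.{w}.symm y)
  have key : ∀ (Y : C) (f : Y ⟶ T) (hf : R f),
      ∃ z : F'.obj (op Y), fst.app _ z = x f hf ∧ snd.app _ z = ULift.up f := by
    intro Y f hf
    apply Types.exists_of_isPullback (sq.app (op Y))
    show a.app _ (x f hf) = G.map f.op y
    exact (hy1 f hf).symm
  choose z hz1 hz2 using key
  let zfam : FamilyOfElements F' (R : Presieve T) := fun Y f hf => z Y f hf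
  have hz : zfam.Compatible := by
    intro Y₁ Y₂ Z g₁ g₂ f₁ f₂ h₁ h₂ e
    apply Types.ext_of_isPullback (sq.app (op Z))
    · rw [NatTrans.naturality_apply, NatTrans.naturality_apply]
      show F.map g₁.op (fst.app _ (z Y₁ f₁ h₁)) = F.map g₂.op (fst.app _ (z Y₂ f₂ h₂))
      rw [hz1, hz1]
      exact hx g₁ g₂ h₁ h₂ e
    · rw [NatTrans.naturality_apply, NatTrans.naturality_apply]
      show (uliftYoneda.{w}.obj T).map g₁.op (snd.app _ (z Y₁ f₁ h₁)) =
        (uliftYoneda.{w}.obj T).map g₂.op (snd.app _ (z Y₂ f₂ h₂))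
      rw [hz2, hz2]
      show ULift.up (g₁ ≫ f₁) = ULift.up (g₂ ≫ f₂)
      rw [e]
  obtain ⟨w', hw1, hw2⟩ := hF' R hR zfam hz
  refine ⟨fst.app _ w', ?_, ?_⟩
  · intro Y f hf
    show F.map f.op (fst.app _ w') = x f hf
    rw [← NatTrans.naturality_apply, hw1 f hf]
    exact hz1 Y f hf
  · intro t ht
    have hat : a.app _ t = y := hy2 _ (fun Y f hf => by
      show G.map f.op (a.app _ t) = a.app _ (x f hf)
      rw [← NatTrans.naturality_apply, ht f hf])
    obtain ⟨zt, hzt1, hzt2⟩ := Types.exists_of_isPullback (sq.app (op T)) t (ULift.up (𝟙 T)) (by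
      show a.app _ t = G.map (𝟙 T).op y
      rw [hat]
      simp)
    have hzt : zt = w' := hw2 zt (fun Y f hf => by
      apply Types.ext_of_isPullback (sq.app (op Y))
      · rw [NatTrans.naturality_apply, hzt1, ht f hf]
        exact (hz1 Y f hf).symm
      · rw [NatTrans.naturality_apply, hzt2]
        show ULift.up (f ≫ 𝟙 T) = snd.app _ (z Y f hf)
        rw [hz2, Category.comp_id])
    rw [← hzt, hzt1]

end Groth.Agent.Lib.RepBySpA
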