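import Groth.Prelude.Def_AlgSpRep
import Groth.Agent.Lib.RepBySpA

/-!
# Maps of fppf sheaves representable by algebraic spaces: the elementary bootstrap (helper64)

* `RepBySpS f` : sheaf-level form of `AlgSp.RepBySp f.hom` (all base changes to schemes are algebraic
  spaces), `repBySpS_iff`.
* `isSheaf_of_repBySp` : the source of a map representable by algebraic spaces to a sheaf is a sheaf.
* `representable_from_yon_of_repBySpS`, `isAlgSpace_of_repBySpS` : if `f : F ⟶ G` is representable by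
  algebraic spaces and `G` is an algebraic space then so is `F`.
* `isAlgSpaceP_of_repBySp` : the same for presheaves.
-/

set_option autoImplicit false

namespace Groth.Agent.Lib.RepBySpB

open CategoryTheory Opposite Limits AlgebraicGeometry AlgSp

universe u

variable {S : Scheme.{u}}

/-- Sheaf-level form of "representable by algebraic spaces". -/
def RepBySpS {F G : Sp S} (f : F ⟶ G) : Prop :=
  ∀ ⦃U : Over S⦄ (ξ : (yon S).obj U ⟶ G) ⦃F' : Sp S⦄ (fst : F' ⟶ F) (snd : F' ⟶ (yon S).obj U),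
    IsPullback fst snd f ξ → IsAlgSpace F'

theorem repBySpS_iff {F G : Sp S} (f : F ⟶ G) : RepBySpS f ↔ RepBySp f.hom :=
  (repBySp_hom_iff f).symm

theorem isSheaf_of_repBySp {F G : PSp S} (a : F ⟶ G) (ha : RepBySp a)
    (hG : Presheaf.IsSheaf (J S) G) : Presheaf.IsSheaf (J S) F := by
  rw [isSheaf_iff_isSheaf_of_type] at hG ⊢
  apply Groth.Agent.Lib.RepBySpA.isSheaf_of_pullbacks_isSheaf.{u + 1} (J S) a hG
  intro T ξ
  refine ⟨pullback a ξ, pullback.fst a ξ, pullback.snd a ξ, IsPullback.of_hasPullback a ξ, ?_⟩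
  obtain ⟨h, -⟩ := ha ξ _ _ (IsPullback.of_hasPullback a ξ)
  exact (isSheaf_iff_isSheaf_of_type _ _).1 h

/-- If `f : F ⟶ G` is representable by algebraic spaces and `G` has representable diagonal, then every
map from a scheme to `F` is representable. -/
theorem representable_from_yon_of_repBySpS {F G : Sp S} (f : F ⟶ G) (hf : RepBySpS f)
    (hG : Representable (Limits.diag G)) {T : Over S} (ξ : (yon S).obj T ⟶ F) :
    Representable ξ := by
  intro U η
  -- `F' = h_T ×_G F`
  have sqF : IsPullback (pullback.fst (ξ ≫ f) f) (pullback.snd (ξ ≫ f) f) (ξ ≫ f) f :=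
    IsPullback.of_hasPullback _ _
  have hF' : IsAlgSpace (pullback (ξ ≫ f) f) := hf (ξ ≫ f) _ _ sqF.flip
  -- `h_{W₀} = h_T ×_G h_U`
  have hξf : Representable (ξ ≫ f) := Functor.relativelyRepresentable.of_diag hG (ξ ≫ f)
  have sqW := hξf.isPullback (η ≫ f)
  -- `τ : h_{W₀} ⟶ F'`
  let τ : (yon S).obj (hξf.pullback (η ≫ f)) ⟶ pullback (ξ ≫ f) f :=
    sqF.lift (hξf.fst (η ≫ f)) ((yon S).map (hξf.snd (η ≫ f)) ≫ η) (by
      rw [Category.assoc]; exact sqW.w)
  have hτ1 : τ ≫ pullback.fst (ξ ≫ f) f = hξf.fst (η ≫ f) := sqF.lift_fst _ _ _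
  have hτ2 : τ ≫ pullback.snd (ξ ≫ f) f = (yon S).map (hξf.snd (η ≫ f)) ≫ η :=
    sqF.lift_snd _ _ _
  have sqTop : IsPullback ((yon S).map (hξf.snd (η ≫ f))) τ η (pullback.snd (ξ ≫ f) f) := by
    apply IsPullback.of_bot (v₂₁ := pullback.fst (ξ ≫ f) f) (v₂₂ := f) (h₃₁ := ξ ≫ f) ?_ hτ2.symm
      sqF.flip
    rw [hτ1]
    exact sqW.flip
  -- the section `σ : h_T ⟶ F'`
  let σ : (yon S).obj T ⟶ pullback (ξ ≫ f) f := sqF.lift (𝟙 _) ξ (by rw [Category.id_comp])
  have hσ2 : σ ≫ pullback.snd (ξ ≫ f) f = ξ := sqF.lift_snd _ _ _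
  have hσ : Representable σ := hF'.representable_from_yon σ
  have sqL := hσ.isPullback τ
  have sqP := sqL.flip.paste_horiz sqTop
  rw [hσ2, ← Functor.map_comp] at sqP
  exact ⟨_, _, _, sqP.flip⟩

/-- If `f : F ⟶ G` is representable by algebraic spaces and `G` is an algebraic space then so is `F`. -/
theorem isAlgSpace_of_repBySpS {F G : Sp S} (f : F ⟶ G) (hf : RepBySpS f) (hG : IsAlgSpace G) :
    IsAlgSpace F where
  diag := Functor.relativelyRepresentable.diag_of_map_from_obj
    (fun _ ξ => representable_from_yon_of_repBySpS f hf hG.diag ξ)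
  atlas := by
    obtain ⟨U, p, hp1, hp2⟩ := hG.atlas
    have sqA : IsPullback (pullback.fst f p) (pullback.snd f p) f p := IsPullback.of_hasPullback _ _
    have hF' : IsAlgSpace (pullback f p) := hf p _ _ sqA
    obtain ⟨V, q, hq1, hq2⟩ := hF'.atlas
    refine ⟨V, q ≫ pullback.fst f p, ?_, ?_⟩
    · exact (RepWith @Etale).comp_mem _ _ hq1 (MorphismProperty.of_isPullback sqA.flip hp1)
    · exact (RepWith @Surjective).comp_mem _ _ hq2 (MorphismProperty.of_isPullback sqA.flip hp2)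

/-- If `a : F ⟶ G` is a map of presheaves representable by algebraic spaces and `G` is an algebraic space
then so is `F`. -/
theorem isAlgSpaceP_of_repBySp {F G : PSp S} (a : F ⟶ G) (ha : RepBySp a) (hG : IsAlgSpaceP G) :
    IsAlgSpaceP F := by
  obtain ⟨hGs, hG'⟩ := hG
  have hFs : Presheaf.IsSheaf (J S) F := isSheaf_of_repBySp a ha hGs
  refine ⟨hFs, ?_⟩
  let f : (⟨F, hFs⟩ : Sp S) ⟶ ⟨G, hGs⟩ := ObjectProperty.homMk a
  exact isAlgSpace_of_repBySpS f ((repBySpS_iff f).2 ha) hG'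

end Groth.Agent.Lib.RepBySpB
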