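import Groth.Agent.Lib.H86ZarGlue
import Mathlib.CategoryTheory.Sites.LeftExact
import Groth.Agent.Lib.RepBySpB

/-!
# helper86: coproducts of fppf sheaves on `Sch/S`

* `existsUnique_glue`: gluing morphisms `h_{V k} ⟶ F` along a jointly surjective family of open
  immersions `V k ⟶ T` to a morphism `h_T ⟶ F`.
* `two S = S ⊔ S` over `S`, and `isColimit_two`: `h_{S ⊔ S} = h_S ⨿ h_S` in sheaves.
* `repWith_inl_of_isColimit`: the coprojections of a binary coproduct of sheaves are representable,
  open and closed immersions.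
-/

set_option autoImplicit false
set_option linter.style.haveILetI false
universe u
open CategoryTheory CategoryTheory.Limits AlgebraicGeometry Opposite

namespace Groth.Agent.Lib.H86Coprod

open AlgSp Groth.Agent.Lib.H86AlgSpPoints Groth.Agent.Lib.H86ZarGlue

variable {S : Scheme.{u}}

/-- Gluing morphisms to a sheaf along a jointly surjective family of open immersions of schemes. -/
theorem existsUnique_glue {T : Over S} {κ : Type*} (V : κ → Over S) (g : ∀ k, V k ⟶ T)
    (hopen : ∀ k, IsOpenImmersion (g k).left)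
    (hsurj : ∀ t : ↥T.left, ∃ k, t ∈ Set.range (g k).left) (F : Sp S)
    (x : ∀ k, (yon S).obj (V k) ⟶ F)
    (hx : ∀ (i k : κ) (Z : Over S) (a : Z ⟶ V i) (b : Z ⟶ V k), a ≫ g i = b ≫ g k →
      (yon S).map a ≫ x i = (yon S).map b ≫ x k) :
    ∃! e : (yon S).obj T ⟶ F, ∀ k, (yon S).map (g k) ≫ e = x k := by
  have hF : Presieve.IsSheaf (J S) F.obj := (isSheaf_iff_isSheaf_of_type _ _).1 F.property
  have h1 := hF _ (generate_ofArrows_mem_J V g hopen hsurj)
  rw [← Presieve.isSheafFor_iff_generate, Presieve.isSheafFor_arrows_iff] at h1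
  obtain ⟨t, ht, htu⟩ := h1 (fun i => yE (x i)) (by
    intro i k Z gi gk hgk
    rw [yE_map, yE_map, hx i k Z gi gk hgk])
  refine ⟨yE.symm t, fun k => ?_, fun e he => ?_⟩
  · apply yE.injective
    rw [← yE_map, Equiv.apply_symm_apply]
    exact ht k
  · apply yE.injective
    rw [Equiv.apply_symm_apply]
    apply htu
    intro k
    rw [yE_map, he k]

/-- Two morphisms from `h_Z` with `Z` empty agree. -/
theorem hom_ext_of_isEmpty {Z : Over S} [IsEmpty ↥Z.left] {F : Sp S}
    (a b : (yon S).obj Z ⟶ F) : a = b := by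
  have hbot : (⊥ : Sieve Z) ∈ J S Z := by
    rw [GrothendieckTopology.mem_over_iff]
    have h1 : (⊥ : Presieve Z.left) ∈ Scheme.fppfPrecoverage Z.left :=
      Scheme.bot_mem_precoverage _ Z.left
    refine GrothendieckTopology.superset_covering _ ?_ (Precoverage.generate_mem_toGrothendieck h1)
    rw [Sieve.generate_le_iff]
    rintro _ _ ⟨⟩
  have ht := Sheaf.isTerminalOfBotCover F Z hbot
  apply yE.injective
  have h := ht.hom_ext (Y := PUnit.{u + 2}) (TypeCat.ofHom (fun _ => yE a))
    (TypeCat.ofHom fun _ => yE b)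
  exact congrArg (fun f => f PUnit.unit) h

variable (S)

/-- The terminal object of `Over S`. -/
abbrev one : Over S := Over.mk (𝟙 S)

/-- `S ⊔ S` over `S`. -/
noncomputable abbrev two : Over S := Over.mk (coprod.desc (𝟙 S) (𝟙 S))

/-- The first inclusion `S ⟶ S ⊔ S` over `S`. -/
noncomputable def ι₁ : one S ⟶ two S := Over.homMk coprod.inl (coprod.inl_desc _ _)

/-- The second inclusion `S ⟶ S ⊔ S` over `S`. -/
noncomputable def ι₂ : one S ⟶ two S := Over.homMk coprod.inr (coprod.inr_desc _ _)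

instance : IsOpenImmersion (ι₁ S).left := inferInstanceAs (IsOpenImmersion (coprod.inl : S ⟶ S ⨿ S))
instance : IsOpenImmersion (ι₂ S).left := inferInstanceAs (IsOpenImmersion (coprod.inr : S ⟶ S ⨿ S))

instance : Mono (ι₁ S) := Over.mono_of_mono_left _
instance : Mono (ι₂ S) := Over.mono_of_mono_left _

theorem isClosedImmersion_ι₁ : IsClosedImmersion (ι₁ S).left := by
  apply IsClosedImmersion.of_isPreimmersion
  have h := isCompl_range_inl_inr S S
  have : Set.range (coprod.inl : S ⟶ S ⨿ S) = (Set.range (coprod.inr : S ⟶ S ⨿ S))ᶜ :=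
    h.eq_compl
  show IsClosed (Set.range (coprod.inl : S ⟶ S ⨿ S))
  rw [this, isClosed_compl_iff]
  exact (coprod.inr : S ⟶ S ⨿ S).isOpenEmbedding.isOpen_range

theorem isEmpty_of_comp_eq {Z : Over S} (a b : Z ⟶ one S) (h : a ≫ ι₁ S = b ≫ ι₂ S) :
    IsEmpty ↥Z.left := by
  constructor
  intro z
  have h' : a.left ≫ (coprod.inl : S ⟶ S ⨿ S) = b.left ≫ coprod.inr := congrArg (·.left) h
  have h2 := congrArg (fun m => m z) h'
  simp only [Scheme.Hom.comp_apply] at h2
  exact Set.disjoint_iff_forall_ne.mp (isCompl_range_inl_inr S S).disjoint ⟨_, rfl⟩ ⟨_, rfl⟩ h2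

/-- Gluing along `S ⊔ S = S ∪ S`. -/
theorem existsUnique_desc_two {F : Sp S} (a b : (yon S).obj (one S) ⟶ F) :
    ∃! e : (yon S).obj (two S) ⟶ F, (yon S).map (ι₁ S) ≫ e = a ∧ (yon S).map (ι₂ S) ≫ e = b := by
  let V : Bool → Over S := fun _ => one S
  let g : ∀ k : Bool, V k ⟶ two S := fun k => bif k then ι₁ S else ι₂ S
  let x : ∀ k : Bool, (yon S).obj (V k) ⟶ F := fun k => bif k then a else b
  have hopen : ∀ k, IsOpenImmersion (g k).left := by
    rintro (_ | _)
    · exact inferInstanceAs (IsOpenImmersion (ι₂ S).left)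
    · exact inferInstanceAs (IsOpenImmersion (ι₁ S).left)
  have hsurj : ∀ t : ↥(two S).left, ∃ k, t ∈ Set.range (g k).left := by
    intro t
    have h := (isCompl_range_inl_inr S S).sup_eq_top
    have ht : t ∈ Set.range (coprod.inl : S ⟶ S ⨿ S) ∪ Set.range (coprod.inr : S ⟶ S ⨿ S) := by
      change t ∈ Set.range (coprod.inl : S ⟶ S ⨿ S) ⊔ Set.range (coprod.inr : S ⟶ S ⨿ S)
      rw [h]; trivial
    rcases ht with ht | ht
    · exact ⟨true, ht⟩
    · exact ⟨false, ht⟩
  have hx : ∀ (i k : Bool) (Z : Over S) (p : Z ⟶ V i) (q : Z ⟶ V k), p ≫ g i = q ≫ g k →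
      (yon S).map p ≫ x i = (yon S).map q ≫ x k := by
    rintro (_ | _) (_ | _) Z p q h
    · have : p = q := (cancel_mono (ι₂ S)).1 h
      rw [this]
    · have := isEmpty_of_comp_eq S q p h.symm
      exact hom_ext_of_isEmpty _ _
    · have := isEmpty_of_comp_eq S p q h
      exact hom_ext_of_isEmpty _ _
    · have : p = q := (cancel_mono (ι₁ S)).1 h
      rw [this]
  obtain ⟨e, he, heu⟩ := existsUnique_glue V g hopen hsurj F x hx
  refine ⟨e, ⟨he true, he false⟩, fun e' he' => heu e' ?_⟩
  rintro (_ | _)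
  · exact he'.2
  · exact he'.1

/-- `h_{S ⊔ S}` is the coproduct of two copies of `h_S` in fppf sheaves. -/
theorem nonempty_isColimit_two :
    Nonempty (IsColimit (BinaryCofan.mk ((yon S).map (ι₁ S)) ((yon S).map (ι₂ S)))) := by
  refine ⟨BinaryCofan.IsColimit.mk _ (fun a b => (existsUnique_desc_two S a b).choose)
    (fun a b => (existsUnique_desc_two S a b).choose_spec.1.1)
    (fun a b => (existsUnique_desc_two S a b).choose_spec.1.2)
    (fun a b m h1 h2 => (existsUnique_desc_two S a b).choose_spec.2 m ⟨h1, h2⟩)⟩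

/-- `h_S` is the terminal sheaf. -/
noncomputable def isTerminalYonOne : IsTerminal ((yon S).obj (one S)) :=
  IsTerminal.isTerminalObj (yon S) _ Over.mkIdTerminal

variable {S}

/-- The coprojections of a binary coproduct of fppf sheaves are pullbacks of `h_S ⟶ h_{S ⊔ S}`. -/
theorem exists_isPullback_inl {F G : Sp S} (c : BinaryCofan F G) (hc : IsColimit c) :
    ∃ χ : c.pt ⟶ (yon S).obj (two S),
      IsPullback c.inl ((isTerminalYonOne S).from F) χ ((yon S).map (ι₁ S)) ∧
      IsPullback c.inr ((isTerminalYonOne S).from G) χ ((yon S).map (ι₂ S)) := by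
  obtain ⟨hc₀⟩ := nonempty_isColimit_two S
  set c₀ := BinaryCofan.mk ((yon S).map (ι₁ S)) ((yon S).map (ι₂ S)) with hc₀def
  let tF := (isTerminalYonOne S).from F
  let tG := (isTerminalYonOne S).from G
  let χ : c.pt ⟶ (yon S).obj (two S) :=
    hc.desc (BinaryCofan.mk (tF ≫ (yon S).map (ι₁ S)) (tG ≫ (yon S).map (ι₂ S)))
  have h1 : tF ≫ c₀.inl = c.inl ≫ χ :=
    (hc.fac (BinaryCofan.mk (tF ≫ (yon S).map (ι₁ S)) (tG ≫ (yon S).map (ι₂ S)))
      ⟨WalkingPair.left⟩).symm
  have h2 : tG ≫ c₀.inr = c.inr ≫ χ :=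
    (hc.fac (BinaryCofan.mk (tF ≫ (yon S).map (ι₁ S)) (tG ≫ (yon S).map (ι₂ S)))
      ⟨WalkingPair.right⟩).symm
  have vk := (BinaryCofan.isVanKampen_iff c₀).1 (FinitaryExtensive.vanKampen c₀ hc₀) c tF tG χ h1 h2
  exact ⟨χ, vk.1 ⟨hc⟩⟩

set_option backward.isDefEq.respectTransparency false in
theorem isStableUnderBaseChange_open_inf_closed :
    (@IsOpenImmersion ⊓ @IsClosedImmersion : MorphismProperty Scheme.{u}).IsStableUnderBaseChange :=
  inferInstance

/-- The coprojections of a binary coproduct of fppf sheaves are representable open and closed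
immersions. -/
theorem repWith_inl_of_isColimit {F G : Sp S} (c : BinaryCofan F G) (hc : IsColimit c) :
    RepWith (@IsOpenImmersion ⊓ @IsClosedImmersion) c.inl := by
  obtain ⟨χ, sq, -⟩ := exists_isPullback_inl c hc
  have := isStableUnderBaseChange_open_inf_closed.{u}
  have h : RepWith (@IsOpenImmersion ⊓ @IsClosedImmersion) ((yon S).map (ι₁ S)) :=
    (repWith_yon_map_iff _ _).2 ⟨inferInstanceAs (IsOpenImmersion (ι₁ S).left), isClosedImmersion_ι₁ S⟩
  exact (RepWith (S := S) (@IsOpenImmersion ⊓ @IsClosedImmersion)).of_isPullback sq.flip h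

section Split

variable {C : Type*} [Category C] {ι : Type*} {F : ι → C} (i₀ : ι)

open Classical in
/-- A family of maps out of `F j` given by `a` at `i₀` and by `r` elsewhere. -/
noncomputable def pick {T : C} (a : F i₀ ⟶ T) (r : ∀ j : {j // j ≠ i₀}, F j.1 ⟶ T) (j : ι) : F j ⟶ T :=
  if h : j = i₀ then eqToHom (congrArg F h) ≫ a else r ⟨j, h⟩

theorem pick_self {T : C} (a : F i₀ ⟶ T) (r : ∀ j : {j // j ≠ i₀}, F j.1 ⟶ T) :
    pick i₀ a r i₀ = a := by
  simp [pick]

theorem pick_ne {T : C} (a : F i₀ ⟶ T) (r : ∀ j : {j // j ≠ i₀}, F j.1 ⟶ T) (j : ι) (h : j ≠ i₀) :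
    pick i₀ a r j = r ⟨j, h⟩ := by
  simp [pick, h]

/-- Splitting off one summand of a coproduct. -/
theorem nonempty_isColimit_split (c : Cofan F) (hc : IsColimit c)
    (c' : Cofan (fun j : {j // j ≠ i₀} => F j.1)) (hc' : IsColimit c') :
    Nonempty (IsColimit (BinaryCofan.mk (c.inj i₀)
      (Cofan.IsColimit.desc hc' (fun j => c.inj j.1)))) := by
  refine ⟨BinaryCofan.IsColimit.mk _
    (fun a b => Cofan.IsColimit.desc hc (pick i₀ a (fun j => c'.inj j ≫ b))) ?_ ?_ ?_⟩
  · intro T a b
    show c.inj i₀ ≫ _ = a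
    rw [Cofan.IsColimit.fac, pick_self]
  · intro T a b
    show Cofan.IsColimit.desc hc' (fun j => c.inj j.1) ≫ _ = b
    apply Cofan.IsColimit.hom_ext hc'
    intro j
    rw [← Category.assoc, Cofan.IsColimit.fac, Cofan.IsColimit.fac, pick_ne _ _ _ _ j.2]
  · intro T a b m h1 h2
    change c.pt ⟶ T at m
    change c.inj i₀ ≫ m = a at h1
    change Cofan.IsColimit.desc hc' (fun j => c.inj j.1) ≫ m = b at h2
    apply Cofan.IsColimit.hom_ext hc
    intro j
    rw [Cofan.IsColimit.fac]
    by_cases h : j = i₀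
    · subst h
      rw [pick_self]
      exact h1
    · rw [pick_ne _ _ _ _ h, ← h2, ← Category.assoc, Cofan.IsColimit.fac]

end Split

/-- The coprojections of a coproduct of fppf sheaves are representable open and closed immersions. -/
theorem repWith_inj_of_isColimit {ι : Type u} {F : ι → Sp S} (c : Cofan F) (hc : IsColimit c) (i : ι) :
    RepWith (@IsOpenImmersion ⊓ @IsClosedImmersion) (c.inj i) := by
  obtain ⟨hb⟩ := nonempty_isColimit_split i c hc _
    (coproductIsCoproduct (fun j : {j // j ≠ i} => F j.1))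
  exact repWith_inl_of_isColimit _ hb

/-- The coprojections of a coproduct of fppf sheaves are monomorphisms. -/
theorem mono_inj_of_isColimit {ι : Type u} {F : ι → Sp S} (c : Cofan F) (hc : IsColimit c) (i : ι) :
    Mono (c.inj i) := by
  obtain ⟨hb⟩ := nonempty_isColimit_split i c hc _
    (coproductIsCoproduct (fun j : {j // j ≠ i} => F j.1))
  exact FinitaryExtensive.mono_inl_of_isColimit hb

/-- A sheaf with a representable morphism to an algebraic space is an algebraic space. -/
theorem isAlgSpace_of_representable {F G : Sp S} (f : F ⟶ G) (hf : Representable f)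
    (hG : IsAlgSpace G) : IsAlgSpace F := by
  refine RepBySpB.isAlgSpace_of_repBySpS f ?_ hG
  intro U ξ F' fst snd sq
  exact (IsAlgSpace.yon_obj (hf.pullback ξ)).of_iso
    ((hf.isPullback ξ).isoIsPullback _ _ sq)

/-- A summand of a coproduct of sheaves which is an algebraic space is an algebraic space. -/
theorem isAlgSpace_of_cofan_summand {ι : Type u} {F : ι → Sp S} (c : Cofan F) (hc : IsColimit c)
    (h : IsAlgSpace c.pt) (i : ι) : IsAlgSpace (F i) :=
  isAlgSpace_of_representable (c.inj i) (repWith_inj_of_isColimit c hc i).1 h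

end Groth.Agent.Lib.H86Coprod
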