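import Groth.Prelude.Def_AlgSp
import Mathlib.CategoryTheory.Limits.Types.Pullbacks
import Mathlib.CategoryTheory.Sites.LocallySurjective

/-!
# Foundations for representable morphisms of fppf sheaves over a scheme (helper69)

Toolkit for `AlgSp.Representable` / `AlgSp.RepWith` (Mathlib's `relativelyRepresentable` / `relative`
for `AlgSp.yon S`): sectionwise and "`h_T`-pointwise" criteria for pullback squares, hom-extensionality and
mono criteria through maps from representables, fppf covers and local surjectivity, locality on the base.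
-/

set_option autoImplicit false
universe w v₁ u₁ u

open CategoryTheory CategoryTheory.Limits AlgebraicGeometry Opposite

namespace Groth.Agent.Lib.H69AlgSp

section Generic

variable {C : Type u₁} [Category.{v₁} C]

/-- A commutative square of type-valued functors which is sectionwise a pullback (uniqueness + existence of
elements) is a pullback square. -/
theorem psh_isPullback_of_sections {P X Y Z : C ⥤ Type w} {fst : P ⟶ X} {snd : P ⟶ Y} {f : X ⟶ Z}
    {g : Y ⟶ Z} (hw : fst ≫ f = snd ≫ g)
    (hinj : ∀ (T : C) (p p' : P.obj T), fst.app T p = fst.app T p' → snd.app T p = snd.app T p' → p = p')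
    (hsurj : ∀ (T : C) (x : X.obj T) (y : Y.obj T), f.app T x = g.app T y →
      ∃ p : P.obj T, fst.app T p = x ∧ snd.app T p = y) :
    IsPullback fst snd f g := by
  refine IsPullback.of_forall_isPullback_app fun T => ?_
  rw [Types.isPullback_iff]
  refine ⟨?_, fun p p' h => hinj T p p' h.1 h.2, fun x y h => hsurj T x y h⟩
  rw [← NatTrans.comp_app, ← NatTrans.comp_app, hw]

variable (J : GrothendieckTopology C)

/-- A commutative square of sheaves of types which is sectionwise a pullback is a pullback square. -/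
theorem sheaf_isPullback_of_sections {P X Y Z : Sheaf J (Type w)} {fst : P ⟶ X} {snd : P ⟶ Y}
    {f : X ⟶ Z} {g : Y ⟶ Z} (hw : fst ≫ f = snd ≫ g)
    (hinj : ∀ (T : Cᵒᵖ) (p p' : P.obj.obj T), fst.hom.app T p = fst.hom.app T p' →
      snd.hom.app T p = snd.hom.app T p' → p = p')
    (hsurj : ∀ (T : Cᵒᵖ) (x : X.obj.obj T) (y : Y.obj.obj T), f.hom.app T x = g.hom.app T y →
      ∃ p : P.obj.obj T, fst.hom.app T p = x ∧ snd.hom.app T p = y) :
    IsPullback fst snd f g := by
  apply IsPullback.of_map_of_faithful (sheafToPresheaf J (Type w))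
  exact psh_isPullback_of_sections (by
    change (fst ≫ f).hom = (snd ≫ g).hom
    rw [hw]) hinj hsurj

end Generic

section Yon

open AlgSp

variable {S : Scheme.{u}}

/-- Sections of `F` over `U` are maps `h_U ⟶ F` (Mathlib's `uliftYonedaEquiv` at the right universe). -/
noncomputable abbrev yEquiv {U : Over S} {F : Sp S} : ((yon S).obj U ⟶ F) ≃ F.obj.obj (op U) :=
  GrothendieckTopology.uliftYonedaEquiv.{u + 1} (J S)

theorem yEquiv_comp {U : Over S} {F G : Sp S} (a : (yon S).obj U ⟶ F) (f : F ⟶ G) :
    yEquiv (a ≫ f) = f.hom.app _ (yEquiv a) :=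
  GrothendieckTopology.uliftYonedaEquiv_comp.{u + 1} (J S) a f

theorem yEquiv_map_comp {U V : Over S} {F : Sp S} (a : (yon S).obj U ⟶ F) (g : V ⟶ U) :
    yEquiv ((yon S).map g ≫ a) = F.obj.map g.op (yEquiv a) :=
  (GrothendieckTopology.uliftYonedaEquiv_naturality.{u + 1} (J S) a g).symm

theorem yEquiv_yon_map {U V : Over S} (g : U ⟶ V) : yEquiv ((yon S).map g) = ⟨g⟩ :=
  GrothendieckTopology.uliftYonedaEquiv_uliftYoneda_map.{u + 1} (J S) g

/-- Two maps of fppf sheaves agree as soon as they agree on all `h_U`-points. -/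
theorem hom_ext_yon {F G : Sp S} {f g : F ⟶ G}
    (h : ∀ (U : Over S) (a : (yon S).obj U ⟶ F), a ≫ f = a ≫ g) : f = g := by
  apply Sheaf.hom_ext
  ext T x
  obtain ⟨U⟩ := T
  obtain ⟨a, rfl⟩ := (yEquiv (U := U) (F := F)).surjective x
  change f.hom.app (op U) (yEquiv a) = g.hom.app (op U) (yEquiv a)
  rw [← yEquiv_comp, ← yEquiv_comp, h]

/-- A map of fppf sheaves which is injective on `h_U`-points is a monomorphism. -/
theorem mono_of_yon {F G : Sp S} (f : F ⟶ G)
    (h : ∀ (U : Over S) (a b : (yon S).obj U ⟶ F), a ≫ f = b ≫ f → a = b) : Mono f :=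
  ⟨fun u v huv => hom_ext_yon fun U a => h U (a ≫ u) (a ≫ v) (by
    rw [Category.assoc, Category.assoc, huv])⟩

/-- Pullback squares of fppf sheaves can be checked on `h_T`-points. -/
theorem isPullback_of_yon {P X Y Z : Sp S} {fst : P ⟶ X} {snd : P ⟶ Y} {f : X ⟶ Z} {g : Y ⟶ Z}
    (hw : fst ≫ f = snd ≫ g)
    (hinj : ∀ (T : Over S) (p p' : (yon S).obj T ⟶ P), p ≫ fst = p' ≫ fst → p ≫ snd = p' ≫ snd → p = p')
    (hsurj : ∀ (T : Over S) (x : (yon S).obj T ⟶ X) (y : (yon S).obj T ⟶ Y), x ≫ f = y ≫ g →
      ∃ p : (yon S).obj T ⟶ P, p ≫ fst = x ∧ p ≫ snd = y) :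
    IsPullback fst snd f g := by
  refine sheaf_isPullback_of_sections (J S) hw ?_ ?_
  · rintro ⟨T⟩ p p' h1 h2
    obtain ⟨a, rfl⟩ := (yEquiv (U := T) (F := P)).surjective p
    obtain ⟨b, rfl⟩ := (yEquiv (U := T) (F := P)).surjective p'
    rw [← yEquiv_comp, ← yEquiv_comp] at h1 h2
    rw [hinj T a b (yEquiv.injective h1) (yEquiv.injective h2)]
  · rintro ⟨T⟩ x y h
    obtain ⟨a, rfl⟩ := (yEquiv (U := T) (F := X)).surjective x
    obtain ⟨b, rfl⟩ := (yEquiv (U := T) (F := Y)).surjective y
    rw [← yEquiv_comp, ← yEquiv_comp] at h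
    obtain ⟨p, hp1, hp2⟩ := hsurj T a b (yEquiv.injective h)
    exact ⟨yEquiv p, by rw [← yEquiv_comp, hp1], by rw [← yEquiv_comp, hp2]⟩

/-- Existence part of the universal property of a pullback square, for `h_T`-points (any test object works, this
is just `IsPullback.lift`). -/
theorem exists_lift_of_isPullback {P X Y Z W : Sp S} {fst : P ⟶ X} {snd : P ⟶ Y} {f : X ⟶ Z} {g : Y ⟶ Z}
    (sq : IsPullback fst snd f g) (x : W ⟶ X) (y : W ⟶ Y) (h : x ≫ f = y ≫ g) :
    ∃ p : W ⟶ P, p ≫ fst = x ∧ p ≫ snd = y :=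
  ⟨sq.lift x y h, sq.lift_fst x y h, sq.lift_snd x y h⟩

end Yon

section Rep

open AlgSp

variable {S : Scheme.{u}}

/-- A morphism of `S`-schemes whose underlying morphism of schemes is a monomorphism is a monomorphism. -/
theorem mono_over_of_mono_left {U V : Over S} (g : U ⟶ V) [Mono g.left] : Mono g :=
  (Over.forget S).mono_of_mono_map (by assumption)

/-- If `P` implies "monomorphism", a map of sheaves representable with `P` is a monomorphism of sheaves. -/
theorem mono_of_repWith {P : MorphismProperty Scheme.{u}}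
    (hP : P ≤ MorphismProperty.monomorphisms Scheme.{u}) {F G : Sp S} {f : F ⟶ G} (hf : RepWith P f) :
    Mono f := by
  apply mono_of_yon
  intro U a b hab
  have hrep : Representable f := hf.rep
  have hsnd : P (hrep.snd (a ≫ f)).left := hf.property_snd (a ≫ f)
  have : Mono (hrep.snd (a ≫ f)).left := hP _ hsnd
  have : Mono (hrep.snd (a ≫ f)) := mono_over_of_mono_left _
  have ha : a ≫ f = (yon S).map (𝟙 U) ≫ a ≫ f := by rw [(yon S).map_id, Category.id_comp]
  have hb : b ≫ f = (yon S).map (𝟙 U) ≫ a ≫ f := by rw [(yon S).map_id, Category.id_comp, hab]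
  have h1 : hrep.lift a (𝟙 U) ha = hrep.lift b (𝟙 U) hb := by
    rw [← cancel_mono (hrep.snd (a ≫ f)), hrep.lift_snd, hrep.lift_snd]
  calc a = (yon S).map (hrep.lift a (𝟙 U) ha) ≫ hrep.fst (a ≫ f) := (hrep.lift_fst a (𝟙 U) ha).symm
    _ = (yon S).map (hrep.lift b (𝟙 U) hb) ≫ hrep.fst (a ≫ f) := by rw [h1]
    _ = b := hrep.lift_fst b (𝟙 U) hb

theorem mono_of_repWith_isImmersion {F G : Sp S} {f : F ⟶ G} (hf : RepWith @IsImmersion f) : Mono f :=
  mono_of_repWith (fun _ _ g (_ : IsImmersion g) => (inferInstance : Mono g)) hf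

theorem mono_of_repWith_isClosedImmersion {F G : Sp S} {f : F ⟶ G} (hf : RepWith @IsClosedImmersion f) :
    Mono f :=
  mono_of_repWith (fun _ _ g (_ : IsClosedImmersion g) => (inferInstance : Mono g)) hf

theorem mono_of_repWith_isOpenImmersion {F G : Sp S} {f : F ⟶ G} (hf : RepWith @IsOpenImmersion f) :
    Mono f :=
  mono_of_repWith (fun _ _ g (_ : IsOpenImmersion g) => (inferInstance : Mono g)) hf

/-- In any category: if `f₂` is a monomorphism and `g ≫ f₂ = f₁`, then `g` is the base change of `f₁` along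
`f₂`. -/
theorem isPullback_id_of_mono {D : Type*} [Category D] {F₁ F₂ F : D} (f₁ : F₁ ⟶ F) (f₂ : F₂ ⟶ F) [Mono f₂]
    (g : F₁ ⟶ F₂) (w : g ≫ f₂ = f₁) : IsPullback (𝟙 F₁) g f₁ f₂ := by
  have A : IsPullback (𝟙 F₁) g g (𝟙 F₂) := IsPullback.of_horiz_isIso ⟨by simp⟩
  have B : IsPullback (𝟙 F₂) (𝟙 F₂) f₂ f₂ := IsKernelPair.id_of_mono f₂
  have := A.paste_vert B
  simpa [w] using this

/-- If `f₂` is a monomorphism of sheaves and `g ≫ f₂ = f₁` with `f₁` representable with `P`, so is `g`. -/
theorem repWith_of_comp_mono {P : MorphismProperty Scheme.{u}} {F F₁ F₂ : Sp S} (f₁ : F₁ ⟶ F) (f₂ : F₂ ⟶ F)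
    [Mono f₂] (h₁ : RepWith P f₁) (g : F₁ ⟶ F₂) (w : g ≫ f₂ = f₁) : RepWith P g :=
  (RepWith (S := S) P).of_isPullback (isPullback_id_of_mono f₁ f₂ g w) h₁

end Rep

section Covers

open AlgSp

variable {S : Scheme.{u}}

/-- A sieve on `U` over `S` containing a morphism `V ⟶ U` whose underlying morphism of schemes is flat, locally
of finite presentation and surjective is a covering sieve for the fppf topology over `S`. -/
theorem mem_J_of_fppf {U V : Over S} (g : V ⟶ U) [Flat g.left] [LocallyOfFinitePresentation g.left]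
    [Surjective g.left] (R : Sieve U) (hR : R g) : R ∈ J S U := by
  rw [GrothendieckTopology.mem_over_iff]
  refine GrothendieckTopology.superset_covering _ ?_
    (Precoverage.generate_mem_toGrothendieck (Scheme.Hom.singleton_mem_fppfPrecoverage g.left))
  rw [Sieve.generate_le_iff]
  rintro _ _ ⟨⟩
  exact ⟨V, g, 𝟙 _, hR, by simp⟩

/-- A map of fppf sheaves which is representable, flat, locally of finite presentation and surjective is
surjective as a map of sheaves. -/
theorem isLocallySurjective_of_repWith {F G : Sp S} (a : F ⟶ G) (h₁ : RepWith @Flat a)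
    (h₂ : RepWith @LocallyOfFinitePresentation a) (h₃ : RepWith @Surjective a) :
    Sheaf.IsLocallySurjective a := by
  constructor
  intro U s
  have hrep : Representable a := h₁.rep
  obtain ⟨z, rfl⟩ := (yEquiv (U := U) (F := G)).surjective s
  have : Flat (hrep.snd z).left := h₁.property_snd z
  have : LocallyOfFinitePresentation (hrep.snd z).left := h₂.property_snd z
  have : Surjective (hrep.snd z).left := h₃.property_snd z
  refine mem_J_of_fppf (hrep.snd z) _ ?_
  refine ⟨yEquiv (hrep.fst z), ?_⟩
  rw [← yEquiv_comp, hrep.w z, yEquiv_map_comp]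

end Covers

section LocalBase

open AlgSp

variable {S : Scheme.{u}}

instance fppfPrecoverage_hasIsos : Scheme.fppfPrecoverage.{u}.HasIsos where
  mem_coverings_of_isIso f _ := Scheme.Hom.singleton_mem_fppfPrecoverage f

instance fppfPrecoverage_hasPullbacks : Scheme.fppfPrecoverage.{u}.HasPullbacks := by
  unfold Scheme.fppfPrecoverage
  infer_instance

/-- For a locally surjective map of fppf sheaves `b : H ⟶ G` and a point `z : h_U ⟶ G`, there is an fppf covering
family of the scheme `U` along whose members `z` lifts to `H`. -/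
theorem exists_cover_lift {G H : Sp S} (b : H ⟶ G) [Sheaf.IsLocallySurjective b] {U : Over S}
    (z : (yon S).obj U ⟶ G) :
    ∃ R ∈ Scheme.fppfPrecoverage U.left, ∀ ⦃T : Scheme.{u}⦄ (g : T ⟶ U.left), R g →
      ∃ y : (yon S).obj (Over.mk (g ≫ U.hom)) ⟶ H,
        y ≫ b = (yon S).map (Over.homMk g : Over.mk (g ≫ U.hom) ⟶ U) ≫ z := by
  have hmem : Presheaf.imageSieve b.hom (yEquiv z) ∈ J S U := Presheaf.imageSieve_mem (J S) b.hom (yEquiv z)
  rw [GrothendieckTopology.mem_over_iff,
    Precoverage.mem_toGrothendieck_iff_of_isStableUnderComposition] at hmem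
  obtain ⟨R, hR, hle⟩ := hmem
  refine ⟨R, hR, fun T g hg => ?_⟩
  have h1 := hle _ _ hg
  rw [Sieve.overEquiv_iff] at h1
  obtain ⟨t, ht⟩ := h1
  refine ⟨yEquiv.symm t, ?_⟩
  apply yEquiv.injective
  rw [yEquiv_comp, Equiv.apply_symm_apply, yEquiv_map_comp]
  exact ht

/-- **Locality on the base.** Let `a : F ⟶ G` be representable, `b : H ⟶ G` a surjective map of fppf sheaves and
`a'` the base change of `a` along `b`.  For `P` stable under base change and fppf local on the base, if `a'` has
`P` then so has `a`. -/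
theorem repWith_of_isLocallySurjective_base {F G H Q : Sp S} (a : F ⟶ G) (ha : Representable a) (b : H ⟶ G)
    [Sheaf.IsLocallySurjective b] (b' : Q ⟶ F) (a' : Q ⟶ H) (sq : IsPullback b' a' a b)
    (P : MorphismProperty Scheme.{u}) [P.IsStableUnderBaseChange]
    [P.IsLocalAtTarget Scheme.fppfPrecoverage] (h : RepWith P a') : RepWith P a := by
  apply MorphismProperty.relative_of_snd ha
  intro U z
  change P (ha.snd z).left
  obtain ⟨R, hR, hlift⟩ := exists_cover_lift b z
  refine MorphismProperty.IsLocalAtTarget.of_forall_pullbackSnd (P := P) hR ?_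
  intro T g _ hg
  obtain ⟨y, hy⟩ := hlift g hg
  let T' : Over S := Over.mk (g ≫ U.hom)
  let g' : T' ⟶ U := Over.homMk g
  let p := ha.snd z
  have sqO : IsPullback (pullback.fst p g') (pullback.snd p g') p g' := IsPullback.of_hasPullback p g'
  have sqY := sqO.map (yon S)
  have big : IsPullback ((yon S).map (pullback.fst p g') ≫ ha.fst z) ((yon S).map (pullback.snd p g')) a
      ((yon S).map g' ≫ z) := sqY.paste_horiz (ha.isPullback z)
  rw [← hy] at big
  have hw : ((yon S).map (pullback.fst p g') ≫ ha.fst z) ≫ a =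
      ((yon S).map (pullback.snd p g') ≫ y) ≫ b := by
    rw [big.w, Category.assoc]
  have small : IsPullback (sq.lift _ _ hw) ((yon S).map (pullback.snd p g')) a' y :=
    IsPullback.of_right (by rw [sq.lift_fst]; exact big) (sq.lift_snd _ _ hw) sq
  have hP : P (pullback.snd p g').left := h.property y _ _ small
  have sqS : IsPullback (pullback.fst p g').left (pullback.snd p g').left p.left g :=
    sqO.map (Over.forget S)
  have : P.RespectsIso := MorphismProperty.IsStableUnderBaseChange.respectsIso
  rw [← sqS.isoPullback_hom_snd] at hP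
  exact (P.cancel_left_of_respectsIso _ _).mp hP

/-- `RepWith` is monotone in the property. -/
theorem repWith_mono {P P' : MorphismProperty Scheme.{u}} (hPP' : P ≤ P') {F G : Sp S} {f : F ⟶ G}
    (hf : RepWith P f) : RepWith P' f :=
  MorphismProperty.relative_monotone (fun (A B : Over S) (g : A ⟶ B) hg => hPP' g.left hg) _ hf

theorem repWith_flat_of_etale {F G : Sp S} {f : F ⟶ G} (hf : RepWith @Etale f) : RepWith @Flat f :=
  repWith_mono (fun _ _ g (_ : Etale g) => (inferInstance : Flat g)) hf

theorem repWith_lfp_of_etale {F G : Sp S} {f : F ⟶ G} (hf : RepWith @Etale f) :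
    RepWith @LocallyOfFinitePresentation f :=
  repWith_mono (fun _ _ g (_ : Etale g) => (inferInstance : LocallyOfFinitePresentation g)) hf

/-- A representable etale surjective map of fppf sheaves is surjective as a map of sheaves. -/
theorem isLocallySurjective_of_etale_surjective {F G : Sp S} (a : F ⟶ G) (h₁ : RepWith @Etale a)
    (h₃ : RepWith @Surjective a) : Sheaf.IsLocallySurjective a :=
  isLocallySurjective_of_repWith a (repWith_flat_of_etale h₁) (repWith_lfp_of_etale h₁) h₃

/-- **Checking on a chart.** Let `f : Y ⟶ X` be representable, `q : h_U ⟶ X` representable etale surjective and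
`g : V ⟶ U` the base change of `f` along `q`.  For `P` stable under base change and fppf local on the base,
`f` has `P` iff `g` has. -/
theorem repWith_iff_of_chart {X Y : Sp S} (f : Y ⟶ X) (hf : Representable f) {U V : Over S}
    (q : (yon S).obj U ⟶ X) (hqe : RepWith @Etale q) (hqs : RepWith @Surjective q)
    (fst : (yon S).obj V ⟶ Y) (g : V ⟶ U) (sq : IsPullback fst ((yon S).map g) f q)
    (P : MorphismProperty Scheme.{u}) [P.IsStableUnderBaseChange]
    [P.IsLocalAtTarget Scheme.fppfPrecoverage] : RepWith P f ↔ P g.left := by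
  constructor
  · intro h
    exact h.property q fst g sq
  · intro h
    have := isLocallySurjective_of_etale_surjective q hqe hqs
    exact repWith_of_isLocallySurjective_base f hf q fst ((yon S).map g) sq P
      ((repWith_yon_map_iff P g).2 h)

end LocalBase

section PullbackTools

/-- A commutative square is a pullback as soon as lifts exist and are unique (elementwise universal property). -/
theorem isPullback_of_lift {D : Type*} [Category D] {P X Y Z : D} {fst : P ⟶ X} {snd : P ⟶ Y} {f : X ⟶ Z}
    {g : Y ⟶ Z} (w : fst ≫ f = snd ≫ g)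
    (hex : ∀ {W : D} (x : W ⟶ X) (y : W ⟶ Y), x ≫ f = y ≫ g → ∃ l : W ⟶ P, l ≫ fst = x ∧ l ≫ snd = y)
    (huniq : ∀ {W : D} (l l' : W ⟶ P), l ≫ fst = l' ≫ fst → l ≫ snd = l' ≫ snd → l = l') :
    IsPullback fst snd f g := by
  refine ⟨⟨w⟩, ⟨PullbackCone.IsLimit.mk w (fun s => (hex s.fst s.snd s.condition).choose)
    (fun s => (hex s.fst s.snd s.condition).choose_spec.1)
    (fun s => (hex s.fst s.snd s.condition).choose_spec.2) ?_⟩⟩
  intro s m h1 h2
  exact huniq _ _ (h1.trans (hex s.fst s.snd s.condition).choose_spec.1.symm)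
    (h2.trans (hex s.fst s.snd s.condition).choose_spec.2.symm)

open AlgSp

variable {S : Scheme.{u}}

/-- Lifting `h_R`-points into a pullback square of sheaves whose corner is representable. -/
theorem exists_lift_yon {V : Over S} {X Y Z : Sp S} {fst : (yon S).obj V ⟶ X} {snd : (yon S).obj V ⟶ Y}
    {f : X ⟶ Z} {g : Y ⟶ Z} (sq : IsPullback fst snd f g) {R : Over S} (x : (yon S).obj R ⟶ X)
    (y : (yon S).obj R ⟶ Y) (h : x ≫ f = y ≫ g) :
    ∃ l : R ⟶ V, (yon S).map l ≫ fst = x ∧ (yon S).map l ≫ snd = y :=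
  ⟨(yon S).preimage (sq.lift x y h), by rw [(yon S).map_preimage, sq.lift_fst],
    by rw [(yon S).map_preimage, sq.lift_snd]⟩

/-- Uniqueness of lifts into a pullback square of sheaves whose corner is representable. -/
theorem hom_ext_yon_pullback {V : Over S} {X Y Z : Sp S} {fst : (yon S).obj V ⟶ X}
    {snd : (yon S).obj V ⟶ Y} {f : X ⟶ Z} {g : Y ⟶ Z} (sq : IsPullback fst snd f g) {R : Over S}
    (l l' : R ⟶ V) (h1 : (yon S).map l ≫ fst = (yon S).map l' ≫ fst)
    (h2 : (yon S).map l ≫ snd = (yon S).map l' ≫ snd) : l = l' :=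
  (yon S).map_injective (sq.hom_ext h1 h2)

end PullbackTools

section Diagonal

open AlgSp

variable {S : Scheme.{u}}

attribute [local simp] prod.lift_fst prod.lift_snd prod.lift_fst_assoc prod.lift_snd_assoc

/-- The base change of the diagonal of `F` along `g = (a, b) : h_T ⟶ F ⨯ F` is the base change of
`h_T ×_F h_T ⟶ h_T × h_T` along the diagonal of `T`: if `W` represents `h_T ×_{a,F,b} h_T` and `V'` represents the
pullback of the diagonal, then `V' = W ×_{T × T} T`. -/
theorem exists_isPullback_diag {F : Sp S} {T V' W : Over S} (g : (yon S).obj T ⟶ F ⨯ F)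
    (fst' : (yon S).obj V' ⟶ F) (snd' : V' ⟶ T) (sqV : IsPullback fst' ((yon S).map snd') (Limits.diag F) g)
    (p q : W ⟶ T)
    (sqW : IsPullback ((yon S).map p) ((yon S).map q) (g ≫ prod.fst) (g ≫ prod.snd)) :
    ∃ k : V' ⟶ W, IsPullback k snd' (prod.lift p q) (Limits.diag T) := by
  have hfa : fst' = (yon S).map snd' ≫ g ≫ prod.fst := by
    have := congrArg (fun m => m ≫ (prod.fst : F ⨯ F ⟶ F)) sqV.w
    simpa using this
  have hfb : fst' = (yon S).map snd' ≫ g ≫ prod.snd := by
    have := congrArg (fun m => m ≫ (prod.snd : F ⨯ F ⟶ F)) sqV.w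
    simpa using this
  obtain ⟨k, hk1, hk2⟩ := exists_lift_yon sqW ((yon S).map snd') ((yon S).map snd') (by rw [← hfa, ← hfb])
  rw [← Functor.map_comp] at hk1 hk2
  have hkp : k ≫ p = snd' := (yon S).map_injective hk1
  have hkq : k ≫ q = snd' := (yon S).map_injective hk2
  refine ⟨k, isPullback_of_lift ?_ ?_ ?_⟩
  · apply Limits.prod.hom_ext <;> simp [hkp, hkq]
  · intro R x₀ y₀ hxy
    have hxp : x₀ ≫ p = y₀ := by
      have := congrArg (fun m => m ≫ (prod.fst : T ⨯ T ⟶ T)) hxy
      simpa using this
    have hxq : x₀ ≫ q = y₀ := by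
      have := congrArg (fun m => m ≫ (prod.snd : T ⨯ T ⟶ T)) hxy
      simpa using this
    have hab : (yon S).map y₀ ≫ g ≫ prod.fst = (yon S).map y₀ ≫ g ≫ prod.snd := by
      have h1 : (yon S).map y₀ ≫ g ≫ prod.fst = (yon S).map x₀ ≫ (yon S).map p ≫ g ≫ prod.fst := by
        rw [← Functor.map_comp_assoc, hxp]
      have h2 : (yon S).map y₀ ≫ g ≫ prod.snd = (yon S).map x₀ ≫ (yon S).map q ≫ g ≫ prod.snd := by
        rw [← Functor.map_comp_assoc, hxq]
      rw [h1, h2, sqW.w]
    obtain ⟨l, hl1, hl2⟩ := exists_lift_yon sqV ((yon S).map y₀ ≫ g ≫ prod.fst) ((yon S).map y₀) (by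
      apply Limits.prod.hom_ext
      · simp
      · simp [hab])
    rw [← Functor.map_comp] at hl2
    have hls : l ≫ snd' = y₀ := (yon S).map_injective hl2
    refine ⟨l, ?_, hls⟩
    apply hom_ext_yon_pullback sqW
    · rw [← Functor.map_comp, ← Functor.map_comp, Category.assoc, hkp, hls, hxp]
    · rw [← Functor.map_comp, ← Functor.map_comp, Category.assoc, hkq, hls, hxq]
  · intro R l l' h1 h2
    apply hom_ext_yon_pullback sqV
    · rw [hfa, ← Functor.map_comp_assoc, ← Functor.map_comp_assoc, h2]
    · rw [← Functor.map_comp, ← Functor.map_comp, h2]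

/-- If all fibre products `h_U ×_F h_V` are representable and the maps `W ⟶ U × V` have `P` (stable under base
change), then the diagonal of `F` is representable with `P`. -/
theorem repWith_diag_of_pairwise (F : Sp S) (P : MorphismProperty Scheme.{u}) [P.IsStableUnderBaseChange]
    (h₁ : ∀ ⦃U V : Over S⦄ (a : (yon S).obj U ⟶ F) (b : (yon S).obj V ⟶ F),
      ∃ (W : Over S) (fst : W ⟶ U) (snd : W ⟶ V), IsPullback ((yon S).map fst) ((yon S).map snd) a b)
    (h₂ : ∀ ⦃U W : Over S⦄ (a : (yon S).obj U ⟶ F) (b : (yon S).obj U ⟶ F) (fst : W ⟶ U)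
      (snd : W ⟶ U), IsPullback ((yon S).map fst) ((yon S).map snd) a b → P (prod.lift fst snd).left) :
    RepWith P (Limits.diag F) := by
  have hrep : Representable (Limits.diag F) :=
    Functor.relativelyRepresentable.diag_of_map_from_obj (fun U a V b => by
      obtain ⟨W, fst, snd, sq⟩ := h₁ a b
      exact ⟨W, snd, (yon S).map fst, sq⟩)
  refine ⟨hrep, fun T V' g fst' snd' sqV => ?_⟩
  obtain ⟨W, p, q, sqW⟩ := h₁ (g ≫ prod.fst) (g ≫ prod.snd)
  have hP := h₂ _ _ p q sqW
  obtain ⟨k, sqk⟩ := exists_isPullback_diag g fst' snd' sqV p q sqW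
  exact P.of_isPullback (sqk.map (Over.forget S)) hP

end Diagonal

section DiagAtlas

open AlgSp

variable {S : Scheme.{u}}

attribute [local simp] prod.lift_fst prod.lift_snd prod.lift_fst_assoc prod.lift_snd_assoc

/-- In a category with binary products: `A ×_X B ⟶ A × B` is the base change of the diagonal of `X` along
`f × g`. -/
theorem isPullback_diag_prod_map {D : Type*} [Category D] [HasBinaryProducts D] {A B X P : D} {f : A ⟶ X}
    {g : B ⟶ X} {fst : P ⟶ A} {snd : P ⟶ B} (sq : IsPullback fst snd f g) :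
    IsPullback (fst ≫ f) (prod.lift fst snd) (Limits.diag X) (prod.map f g) := by
  refine isPullback_of_lift ?_ ?_ ?_
  · apply Limits.prod.hom_ext
    · simp
    · simp [sq.w]
  · intro W x y hxy
    have h1 : x = y ≫ prod.fst ≫ f := by
      have := hxy =≫ (prod.fst : X ⨯ X ⟶ X)
      simpa using this
    have h2 : x = y ≫ prod.snd ≫ g := by
      have := hxy =≫ (prod.snd : X ⨯ X ⟶ X)
      simpa using this
    refine ⟨sq.lift (y ≫ prod.fst) (y ≫ prod.snd) (by rw [Category.assoc, Category.assoc, ← h1, ← h2]),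
      ?_, ?_⟩
    · rw [sq.lift_fst_assoc, Category.assoc, ← h1]
    · apply Limits.prod.hom_ext <;> simp
  · intro W l l' h1 h2
    apply sq.hom_ext
    · have := h2 =≫ (prod.fst : A ⨯ B ⟶ A)
      simpa using this
    · have := h2 =≫ (prod.snd : A ⨯ B ⟶ B)
      simpa using this

/-- A product of two surjective maps of fppf sheaves is surjective. -/
theorem isLocallySurjective_prod_map {A B X Y : Sp S} (p : A ⟶ X) (q : B ⟶ Y)
    [Sheaf.IsLocallySurjective p] [Sheaf.IsLocallySurjective q] :
    Sheaf.IsLocallySurjective (prod.map p q) := by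
  constructor
  intro T s
  obtain ⟨z, rfl⟩ := (yEquiv (U := T) (F := X ⨯ Y)).surjective s
  refine GrothendieckTopology.superset_covering _ ?_
    ((J S).intersection_covering (Presheaf.imageSieve_mem (J S) p.hom (yEquiv (z ≫ prod.fst)))
      (Presheaf.imageSieve_mem (J S) q.hom (yEquiv (z ≫ prod.snd))))
  rintro T' g ⟨⟨a, ha⟩, ⟨b, hb⟩⟩
  have ha' : yEquiv.symm a ≫ p = (yon S).map g ≫ z ≫ prod.fst := by
    apply yEquiv.injective
    rw [yEquiv_comp, Equiv.apply_symm_apply, yEquiv_map_comp]
    exact ha
  have hb' : yEquiv.symm b ≫ q = (yon S).map g ≫ z ≫ prod.snd := by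
    apply yEquiv.injective
    rw [yEquiv_comp, Equiv.apply_symm_apply, yEquiv_map_comp]
    exact hb
  refine ⟨yEquiv (prod.lift (yEquiv.symm a) (yEquiv.symm b)), ?_⟩
  rw [← yEquiv_comp, ← yEquiv_map_comp]
  congr 1
  apply Limits.prod.hom_ext
  · simp [ha']
  · simp [hb']

/-- `prod.lift h_a h_b` is `h_(a, b)` followed by the comparison isomorphism, so it has `P` in the representable
sense exactly when `(a, b) : R ⟶ U × V` has `P`. -/
theorem repWith_prod_lift_yon_map_iff (P : MorphismProperty Scheme.{u}) [P.IsStableUnderBaseChange]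
    {R U V : Over S} (a : R ⟶ U) (b : R ⟶ V) :
    RepWith P (prod.lift ((yon S).map a) ((yon S).map b)) ↔ P (prod.lift a b).left := by
  have : prod.lift ((yon S).map a) ((yon S).map b) =
      (yon S).map (prod.lift a b) ≫ prodComparison (yon S) U V := by
    apply Limits.prod.hom_ext
    · simp [← Functor.map_comp]
    · simp [← Functor.map_comp]
  rw [this]
  exact (MorphismProperty.cancel_right_of_respectsIso (RepWith P) _ _).trans (repWith_yon_map_iff P _)

/-- **Diagonal through an atlas.** Let `X` have representable diagonal, `p : h_U ⟶ X` be representable etale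
surjective and `R = U ×_X U` with projections `s, t`.  For `P` stable under base change and fppf local on the
base, the diagonal of `X` has `P` iff `(s, t) : R ⟶ U × U` has `P`. -/
theorem repWith_diag_iff_of_atlas {X : Sp S} (hdiag : Representable (Limits.diag X)) {U R : Over S}
    (p : (yon S).obj U ⟶ X) (hpe : RepWith @Etale p) (hps : RepWith @Surjective p) (s t : R ⟶ U)
    (sq : IsPullback ((yon S).map s) ((yon S).map t) p p) (P : MorphismProperty Scheme.{u})
    [P.IsStableUnderBaseChange] [P.IsLocalAtTarget Scheme.fppfPrecoverage] :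
    RepWith P (Limits.diag X) ↔ P (prod.lift s t).left := by
  have big := isPullback_diag_prod_map sq
  refine Iff.trans ?_ (repWith_prod_lift_yon_map_iff P s t)
  constructor
  · intro h
    exact (RepWith (S := S) P).of_isPullback big h
  · intro h
    have := isLocallySurjective_of_etale_surjective p hpe hps
    have := isLocallySurjective_prod_map p p
    exact repWith_of_isLocallySurjective_base _ hdiag (prod.map p p) _ _ big P h

end DiagAtlas

section LocalBase2

open AlgSp

variable {S : Scheme.{u}}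

/-- **Locality on the base, general form.** Let `a : F ⟶ G` be representable and `Q` be stable under base change
and local on the target for a precoverage `K` of schemes.  Suppose every point `z : h_U ⟶ G` admits a `K`-covering
family of `U` such that over each member `T ⟶ U` the point factors through some `b : H ⟶ G` whose base change
`a'` of `a` has `Q`.  Then `a` has `Q`. -/
theorem repWith_of_forall_cover {F G : Sp S} (a : F ⟶ G) (ha : Representable a)
    (K : Precoverage Scheme.{u}) (Q : MorphismProperty Scheme.{u}) [Q.IsStableUnderBaseChange]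
    [Q.IsLocalAtTarget K]
    (h : ∀ ⦃U : Over S⦄ (z : (yon S).obj U ⟶ G), ∃ R ∈ K U.left, ∀ ⦃T : Scheme.{u}⦄ (g : T ⟶ U.left),
      R g → ∃ (H Q' : Sp S) (b : H ⟶ G) (b' : Q' ⟶ F) (a' : Q' ⟶ H) (_ : IsPullback b' a' a b)
        (y : (yon S).obj (Over.mk (g ≫ U.hom)) ⟶ H),
        y ≫ b = (yon S).map (Over.homMk g : Over.mk (g ≫ U.hom) ⟶ U) ≫ z ∧ RepWith Q a') :
    RepWith Q a := by
  apply MorphismProperty.relative_of_snd ha
  intro U z
  change Q (ha.snd z).left
  obtain ⟨R, hR, hlift⟩ := h z
  refine MorphismProperty.IsLocalAtTarget.of_forall_pullbackSnd (P := Q) hR ?_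
  intro T g _ hg
  obtain ⟨H, Q', b, b', a', sq, y, hy, hQ⟩ := hlift g hg
  let T' : Over S := Over.mk (g ≫ U.hom)
  let g' : T' ⟶ U := Over.homMk g
  let p := ha.snd z
  have sqO : IsPullback (pullback.fst p g') (pullback.snd p g') p g' := IsPullback.of_hasPullback p g'
  have sqY := sqO.map (yon S)
  have big : IsPullback ((yon S).map (pullback.fst p g') ≫ ha.fst z) ((yon S).map (pullback.snd p g')) a
      ((yon S).map g' ≫ z) := sqY.paste_horiz (ha.isPullback z)
  rw [← hy] at big
  have hw : ((yon S).map (pullback.fst p g') ≫ ha.fst z) ≫ a =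
      ((yon S).map (pullback.snd p g') ≫ y) ≫ b := by
    rw [big.w, Category.assoc]
  have small : IsPullback (sq.lift _ _ hw) ((yon S).map (pullback.snd p g')) a' y :=
    IsPullback.of_right (by rw [sq.lift_fst]; exact big) (sq.lift_snd _ _ hw) sq
  have hP : Q (pullback.snd p g').left := hQ.property y _ _ small
  have sqS : IsPullback (pullback.fst p g').left (pullback.snd p g').left p.left g :=
    sqO.map (Over.forget S)
  have : Q.RespectsIso := MorphismProperty.IsStableUnderBaseChange.respectsIso
  rw [← sqS.isoPullback_hom_snd] at hP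
  exact (Q.cancel_left_of_respectsIso _ _).mp hP

/-- **Checking on affine test schemes.** For `Q` stable under base change and Zariski local on the target, a
representable `a : F ⟶ G` has `Q` as soon as every point `z : h_T ⟶ G` from an affine `T` factors through some
`b : H ⟶ G` along which the base change of `a` has `Q`. -/
theorem repWith_of_forall_affine {F G : Sp S} (a : F ⟶ G) (ha : Representable a)
    (Q : MorphismProperty Scheme.{u}) [Q.IsStableUnderBaseChange] [IsZariskiLocalAtTarget Q]
    (h : ∀ ⦃T : Over S⦄ (_ : IsAffine T.left) (z : (yon S).obj T ⟶ G),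
      ∃ (H Q' : Sp S) (b : H ⟶ G) (b' : Q' ⟶ F) (a' : Q' ⟶ H) (_ : IsPullback b' a' a b)
        (y : (yon S).obj T ⟶ H), y ≫ b = z ∧ RepWith Q a') :
    RepWith Q a := by
  refine repWith_of_forall_cover a ha Scheme.zariskiPrecoverage Q ?_
  intro U z
  refine ⟨U.left.affineCover.presieve₀, U.left.affineCover.mem₀, ?_⟩
  rintro T g ⟨i⟩
  exact h (T := Over.mk (U.left.affineCover.f i ≫ U.hom))
    (inferInstanceAs (IsAffine (U.left.affineCover.X i))) _

end LocalBase2

section Factor

open AlgSp

variable {S : Scheme.{u}}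

/-- A representable `a : F ⟶ G` has `Q` (respecting isomorphisms) as soon as every point `z : h_U ⟶ G` factors
through some `b : H ⟶ G` along which the base change of `a` has `Q`. -/
theorem repWith_of_forall_factor {F G : Sp S} (a : F ⟶ G) (ha : Representable a)
    (Q : MorphismProperty Scheme.{u}) [Q.IsStableUnderBaseChange]
    (h : ∀ ⦃U : Over S⦄ (z : (yon S).obj U ⟶ G),
      ∃ (H Q' : Sp S) (b : H ⟶ G) (b' : Q' ⟶ F) (a' : Q' ⟶ H) (_ : IsPullback b' a' a b)
        (y : (yon S).obj U ⟶ H), y ≫ b = z ∧ RepWith Q a') :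
    RepWith Q a := by
  apply MorphismProperty.relative_of_snd ha
  intro U z
  change Q (ha.snd z).left
  obtain ⟨H, Q', b, b', a', sq, y, hy, hQ⟩ := h z
  subst hy
  have big := ha.isPullback (y ≫ b)
  have hw : ha.fst (y ≫ b) ≫ a = ((yon S).map (ha.snd (y ≫ b)) ≫ y) ≫ b := by rw [big.w, Category.assoc]
  have small : IsPullback (sq.lift _ _ hw) ((yon S).map (ha.snd (y ≫ b))) a' y :=
    IsPullback.of_right (by rw [sq.lift_fst]; exact big) (sq.lift_snd _ _ hw) sq
  exact hQ.property y _ _ small

end Factor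

end Groth.Agent.Lib.H69AlgSp
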