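import Groth.Agent.Lib.H86ZarGlue
import Groth.Agent.Lib.H69AlgSp

/-!
# helper86: representability from affine test schemes (via Zariski gluing)

* `representable_of_forall_affine`: a morphism of sheaves `f : X ⟶ Y` whose base change to every affine
  scheme over `Y` is (representable by) a scheme is representable.
* `repWith_of_forall_affine_isPullback`: if moreover the base changes to affine schemes have `Q`
  (stable under base change, Zariski local on the target), then `RepWith Q f`.
-/

set_option autoImplicit false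
set_option linter.style.haveILetI false
universe u
open CategoryTheory CategoryTheory.Limits AlgebraicGeometry Opposite

namespace Groth.Agent.Lib.H86ZarGlue

open AlgSp Groth.Agent.Lib.H86AlgSpPoints Groth.Agent.Lib.H86AlgSpSub Groth.Agent.Lib.H86AlgSpOpen

variable {S : Scheme.{u}} {X Y : Sp S}

/-- A morphism of sheaves whose base change to every affine scheme is a scheme is representable. -/
theorem representable_of_forall_affine (f : X ⟶ Y)
    (h : ∀ ⦃Z : Over S⦄, IsAffine Z.left → ∀ (g : (yon S).obj Z ⟶ Y),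
      ∃ (W : Over S) (i : W ⟶ Z) (fst : (yon S).obj W ⟶ X), IsPullback fst ((yon S).map i) f g) :
    Representable f := by
  intro T g
  -- the affine cover of `T`
  let 𝒰 := T.left.affineCover
  let Z : 𝒰.I₀ → Over S := fun x => Over.mk (𝒰.f x ≫ T.hom)
  let ιZ : ∀ x, Z x ⟶ T := fun x => Over.homMk (𝒰.f x) rfl
  have hZ : ∀ x, IsAffine (Z x).left := fun x => inferInstanceAs (IsAffine (𝒰.X x))
  choose W i fst hpb using fun x => h (hZ x) ((yon S).map (ιZ x) ≫ g)
  let P : Sp S := pullback f g
  have hw : ∀ x, fst x ≫ f = (yon S).map (i x ≫ ιZ x) ≫ g := fun x => by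
    rw [(hpb x).w, Functor.map_comp, Category.assoc]
  let φ : ∀ x, (yon S).obj (W x) ⟶ P := fun x =>
    pullback.lift (fst x) ((yon S).map (i x ≫ ιZ x)) (hw x)
  have sqφ : ∀ x, IsPullback (φ x) ((yon S).map (i x)) (pullback.snd f g) ((yon S).map (ιZ x)) := by
    intro x
    refine IsPullback.of_right ?_ ?_ (IsPullback.of_hasPullback f g)
    · have : φ x ≫ pullback.fst f g = fst x := pullback.lift_fst _ _ _
      rw [this]
      exact hpb x
    · have : φ x ≫ pullback.snd f g = (yon S).map (i x ≫ ιZ x) := pullback.lift_snd _ _ _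
      rw [this, Functor.map_comp]
  have hφ : ∀ x, RepWith @IsOpenImmersion (φ x) := fun x =>
    AlgSpBasic.repWith_fst_of_isPullback _ (sqφ x)
      ((repWith_yon_map_iff @IsOpenImmersion (ιZ x)).2
        (show IsOpenImmersion (𝒰.f x) from inferInstance))
  have hsurj : ∀ y : Points P, ∃ x, y ∈ Set.range (Points.map (φ x)) := by
    intro y
    let t : ↥T.left := Points.toScheme T (Points.map (pullback.snd f g) y)
    obtain ⟨z, hz⟩ := 𝒰.covers t
    let x := 𝒰.idx t
    obtain ⟨w, hw1, -⟩ := exists_of_isPullback (sqφ x) y (Points.ofScheme (Z x) z) (by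
      rw [← Points.ofPt_eq_map_ofScheme, ofPt_yon_map]
      have : (ιZ x).left z = t := hz
      rw [this]
      exact (Points.ofScheme_toScheme T _).symm)
    exact ⟨x, w, hw1⟩
  obtain ⟨X₀, e, -⟩ := exists_iso_yon_of_openCover φ hφ hsurj
  obtain ⟨snd₀, hsnd₀⟩ := (yon S).map_surjective (e.hom ≫ pullback.snd f g)
  refine ⟨X₀, snd₀, e.hom ≫ pullback.fst f g, ?_⟩
  rw [hsnd₀]
  exact IsPullback.of_iso_pullback ⟨by rw [Category.assoc, Category.assoc, pullback.condition]⟩ e
    rfl rfl

/-- If the base changes of `f` to affine schemes are schemes with `Q`, then `f` is representable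
with `Q`. -/
theorem repWith_of_forall_affine_isPullback (f : X ⟶ Y)
    (Q : MorphismProperty Scheme.{u}) [Q.IsStableUnderBaseChange] [IsZariskiLocalAtTarget Q]
    (h : ∀ ⦃Z : Over S⦄, IsAffine Z.left → ∀ (g : (yon S).obj Z ⟶ Y),
      ∃ (W : Over S) (i : W ⟶ Z) (fst : (yon S).obj W ⟶ X),
        IsPullback fst ((yon S).map i) f g ∧ Q i.left) :
    RepWith Q f := by
  have hrep : Representable f := representable_of_forall_affine f fun Z hZ g => by
    obtain ⟨W, i, fst, hpb, -⟩ := h hZ g
    exact ⟨W, i, fst, hpb⟩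
  refine H69AlgSp.repWith_of_forall_affine f hrep Q fun T hT z => ?_
  obtain ⟨W, i, fst, hpb, hQ⟩ := h hT z
  exact ⟨(yon S).obj T, (yon S).obj W, z, fst, (yon S).map i, hpb, 𝟙 _, Category.id_comp _,
    (repWith_yon_map_iff Q i).2 hQ⟩

end Groth.Agent.Lib.H86ZarGlue
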