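import Groth.Agent.S10533
import Groth.Agent.Lib.H86Coprod
import Groth.Agent.Lib.AlgStLocQ
import Groth.Agent.Lib.AlgSpLocP
import Groth.Agent.Lib.H86ZarGlueRep

/-!
# Affineness of an algebraic space descends along a flat surjective affine base extension (helper91)

Over an affine base `S`, if `X × h_K ≅ h_T` with `K`, `T` affine and `K ⟶ S` flat and surjective, then
`X ≅ h_U` for an affine `U`.  This is fpqc descent of affine morphisms (`S10533`) applied to `X ⟶ h_S`.
-/

set_option autoImplicit false
set_option maxHeartbeats 400000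
universe u

open CategoryTheory CategoryTheory.Limits AlgebraicGeometry Opposite

namespace Groth.Agent.Lib.AffDescField91

open AlgSp Groth.Agent.Lib.H86Coprod

variable {S : Scheme.{u}}

theorem exists_affine_of_prod_affine [IsAffine S] {X : Sp S} (hX : IsAlgSpace X)
    (K : Over S) (hK : IsAffine K.left) (hflat : Flat K.hom) (hsurj : Surjective K.hom)
    (T : Over S) (hT : IsAffine T.left) (e : X ⨯ (yon S).obj K ≅ (yon S).obj T) :
    ∃ U : Over S, IsAffine U.left ∧ Nonempty (X ≅ (yon S).obj U) := by
  classical
  have t := isTerminalYonOne S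
  have hY : IsAlgSpace ((yon S).obj (one S)) := IsAlgSpace.yon_obj _
  have hKs : IsAlgSpace ((yon S).obj K) := IsAlgSpace.yon_obj _
  have hg : t.from ((yon S).obj K) = (yon S).map (Over.homMk K.hom (by simp) : K ⟶ one S) :=
    t.hom_ext _ _
  -- the covering
  have hcov : IsFpqcCover (fun _ : PUnit.{u + 1} => (yon S).obj K)
      (fun _ => t.from ((yon S).obj K)) := by
    refine ⟨fun _ => ?_, fun Z hZ h => ?_⟩
    · rw [hg, Groth.Agent.Lib.AlgStLocQ.locP_yon_map_iff Groth.Agent.Lib.AlgSpLocP.etLocalClass_flat]
      exact hflat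
    · haveI : IsAffine Z.left := hZ
      haveI : IsAffine K.left := hK
      haveI : Flat K.hom := hflat
      haveI : Surjective K.hom := hsurj
      refine ⟨1, fun _ => Over.mk (pullback.fst Z.hom K.hom ≫ Z.hom),
        fun _ => Over.homMk (pullback.fst Z.hom K.hom) rfl, fun _ => ?_, fun _ => ?_, fun z => ?_,
        fun j => ⟨PUnit.unit, (yon S).map (Over.homMk (pullback.snd Z.hom K.hom)
          (by simp [pullback.condition])), t.hom_ext _ _⟩⟩
      · change IsAffine (pullback Z.hom K.hom)
        infer_instance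
      · change Flat (pullback.fst Z.hom K.hom)
        infer_instance
      · refine ⟨0, ?_⟩
        change z ∈ Set.range (pullback.fst Z.hom K.hom)
        exact (inferInstance : Surjective (pullback.fst Z.hom K.hom)).surj z
  -- the pullback square
  have sq : IsPullback (prod.fst : X ⨯ (yon S).obj K ⟶ X) prod.snd (t.from X)
      (t.from ((yon S).obj K)) :=
    IsPullback.of_is_product (limit.isLimit _) t
  have hXi : IsAlgSpace (X ⨯ (yon S).obj K) := (IsAlgSpace.yon_obj T).of_iso e.symm
  -- the base change is affine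
  have hp : IsAffineMor (prod.snd : X ⨯ (yon S).obj K ⟶ (yon S).obj K) := by
    rw [Groth.Agent.Lib.H86ZarGlue.isAffineMor_iff_repWith]
    obtain ⟨m, hm⟩ := (yon S).map_surjective (e.inv ≫ prod.snd)
    have h1 : (prod.snd : X ⨯ (yon S).obj K ⟶ (yon S).obj K) = e.hom ≫ (yon S).map m := by
      rw [hm, Iso.hom_inv_id_assoc]
    rw [h1]
    refine (MorphismProperty.cancel_left_of_respectsIso
      (RepWith (S := S) @IsAffineHom) e.hom ((yon S).map m)).2 ?_
    rw [repWith_yon_map_iff]
    haveI : IsAffine K.left := hK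
    haveI : IsAffine T.left := hT
    infer_instance
  have hf : IsAffineMor (t.from X) :=
    ((Groth.Agent.S10533.result S (fun _ : PUnit.{u + 1} => (yon S).obj K)
      (fun _ => t.from ((yon S).obj K)) hY (fun _ => hKs) hcov (t.from X) hX
      (fun _ => X ⨯ (yon S).obj K) (fun _ => prod.snd) (fun _ => prod.fst) (fun _ => hXi)
      (fun _ => sq)).2 (fun _ => hp))
  have hone : IsAffine (one S).left := by
    change IsAffine S
    infer_instance
  obtain ⟨W, i, fst, hpb, hW⟩ := hf hone (𝟙 _)
  haveI : IsIso fst := hpb.isIso_fst_of_isIso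
  exact ⟨W, hW, ⟨(asIso fst).symm⟩⟩

end Groth.Agent.Lib.AffDescField91
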