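import Groth.Agent.Lib.AlgSpPoints

/-!
# Quasi-compactness for fppf sheaves / algebraic spaces (owner: helper91)

Namespace `Groth.Agent.Lib.AlgSpQC`.  Append-only please.
-/

set_option autoImplicit false

universe u

open CategoryTheory CategoryTheory.Limits AlgebraicGeometry Opposite Topology

namespace Groth.Agent.Lib.AlgSpQC

open AlgSp Groth.Agent.Lib.AlgSpPoints

variable {S : Scheme.{u}}

theorem repWith_id (P : MorphismProperty Scheme.{u}) [P.IsStableUnderBaseChange] [P.ContainsIdentities]
    (F : Over S) : RepWith P (𝟙 ((yon S).obj F)) := by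
  rw [← (yon S).map_id]
  exact (repWith_yon_map_iff _ _).2 (P.id_mem _)

/-- Explicit form of `isPullback_yon_of_isPullback_left`. -/
theorem isPullback_yon_overMk {U V : Over S} (snd : V ⟶ U) {X' Y' : Scheme.{u}}
    (i₁ : X' ⟶ V.left) (i₂ : Y' ⟶ U.left) (f' : X' ⟶ Y') (H : IsPullback f' i₁ i₂ snd.left)
    (hw : f' ≫ i₂ ≫ U.hom = i₁ ≫ V.hom) :
    IsPullback ((yon S).map (Over.homMk i₁ rfl : Over.mk (i₁ ≫ V.hom) ⟶ V))
      ((yon S).map (Over.homMk f' hw : Over.mk (i₁ ≫ V.hom) ⟶ Over.mk (i₂ ≫ U.hom)))
      ((yon S).map snd) ((yon S).map (Over.homMk i₂ rfl : Over.mk (i₂ ≫ U.hom) ⟶ U)) := by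
  have H' : IsPullback (Over.homMk i₁ rfl : Over.mk (i₁ ≫ V.hom) ⟶ V)
      (Over.homMk f' hw : Over.mk (i₁ ≫ V.hom) ⟶ Over.mk (i₂ ≫ U.hom)) snd
      (Over.homMk i₂ rfl : Over.mk (i₂ ≫ U.hom) ⟶ U) := by
    apply IsPullback.of_map_of_faithful (Over.forget S)
    exact H.flip
  exact H'.map (yon S)

theorem isPullback_w_over {U V : Over S} (snd : V ⟶ U) {X' Y' : Scheme.{u}}
    (i₁ : X' ⟶ V.left) (i₂ : Y' ⟶ U.left) (f' : X' ⟶ Y') (H : IsPullback f' i₁ i₂ snd.left) :
    f' ≫ i₂ ≫ U.hom = i₁ ≫ V.hom := by
  rw [← Category.assoc, H.w, Category.assoc, Over.w snd]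

/-- `h_T` is quasi-compact as a sheaf iff `T` is a quasi-compact scheme. -/
theorem isQuasiCompactSp_yon_iff (T : Over S) :
    IsQuasiCompactSp ((yon S).obj T) ↔ CompactSpace ↥T.left := by
  constructor
  · rintro ⟨U, p, -, hs, hU⟩
    obtain ⟨π, rfl⟩ := (yon S).map_surjective p
    have h1 : Surjective π.left := (repWith_yon_map_iff @Surjective π).1 hs
    have : CompactSpace ↥U.left := hU
    exact Function.Surjective.compactSpace π.left.continuous π.left.surjective
  · intro h
    exact ⟨T, 𝟙 _, repWith_id _ T, repWith_id _ T, h⟩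

/-- The base change of a quasi-compact sheaf along a morphism representable and quasi-compact is quasi-compact. -/
theorem isQuasiCompactSp_of_isPullback {F G Z Z' : Sp S} {f : F ⟶ G} {g : Z ⟶ G} {fst : Z' ⟶ F}
    {snd : Z' ⟶ Z} (sq : IsPullback fst snd f g) (hf : RepWith @QuasiCompact f)
    (hZ : IsQuasiCompactSp Z) : IsQuasiCompactSp Z' := by
  obtain ⟨U, p, hpe, hps, hU⟩ := hZ
  have big := hf.rep.isPullback (p ≫ g)
  let q : (yon S).obj (hf.rep.pullback (p ≫ g)) ⟶ Z' :=
    sq.lift (hf.rep.fst (p ≫ g)) ((yon S).map (hf.rep.snd (p ≫ g)) ≫ p) (by rw [big.w, Category.assoc])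
  have hq : IsPullback q ((yon S).map (hf.rep.snd (p ≫ g))) snd p := by
    apply IsPullback.of_right (h₁₂ := fst) (v₁₃ := f) (h₂₂ := g) ?_ (sq.lift_snd _ _ _) sq
    rw [sq.lift_fst]
    exact big
  refine ⟨hf.rep.pullback (p ≫ g), q, (RepWith @Etale).of_isPullback hq.flip hpe,
    (RepWith @Surjective).of_isPullback hq.flip hps, ?_⟩
  have h1 : QuasiCompact (hf.rep.snd (p ≫ g)).left := hf.property_snd _
  have h2 : CompactSpace ↥U.left := hU
  exact QuasiCompact.compactSpace_of_compactSpace (hf.rep.snd (p ≫ g)).left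

theorem isQuasiCompactMor_of_repWith {F G : Sp S} {f : F ⟶ G} (hf : RepWith @QuasiCompact f) :
    IsQuasiCompactMor f :=
  fun _ _ _ hZ _ _ _ sq => isQuasiCompactSp_of_isPullback sq hf hZ

theorem repWith_quasiCompact_of_isQuasiCompactMor {F G : Sp S} {f : F ⟶ G} (hf : Representable f)
    (h : IsQuasiCompactMor f) : RepWith @QuasiCompact f := by
  refine ⟨hf, fun U V g fst snd sq => ?_⟩
  change QuasiCompact snd.left
  rw [quasiCompact_iff_forall_isAffineOpen]
  intro W hW
  have H := isPullback_morphismRestrict snd.left W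
  have hw := isPullback_w_over snd _ _ _ H
  have H' := isPullback_yon_overMk snd _ _ _ H hw
  have hT : IsQuasiCompactSp ((yon S).obj (Over.mk (W.ι ≫ U.hom))) := by
    rw [isQuasiCompactSp_yon_iff]
    exact isCompact_iff_compactSpace.1 hW.isCompact
  have hqc := h (IsAlgSpace.yon_obj _) hT _ _ _ (H'.paste_horiz sq)
  rw [isQuasiCompactSp_yon_iff] at hqc
  exact isCompact_iff_compactSpace.2 hqc

/-- A morphism representable and etale is open on points. -/
theorem isOpenMap_map_of_repWith_etale {F G : Sp S} {f : F ⟶ G} (hf : RepWith @Etale f) :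
    IsOpenMap (Points.map f) := by
  refine isOpenMap_map_of_representable hf.rep fun T g => ?_
  have : Etale (hf.rep.snd g).left := hf.property_snd g
  exact (hf.rep.snd g).left.isOpenMap

/-- A morphism representable and surjective is surjective on points. -/
theorem surjective_map_of_repWith_surjective {F G : Sp S} {f : F ⟶ G} (hf : RepWith @Surjective f) :
    Function.Surjective (Points.map f) := by
  refine surjective_map_of_representable hf.rep fun T g => ?_
  have : Surjective (hf.rep.snd g).left := hf.property_snd g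
  exact (hf.rep.snd g).left.surjective

/-- A representable morphism that is surjective on points is representable and surjective. -/
theorem repWith_surjective_of_isSurjectiveMor {F G : Sp S} {f : F ⟶ G} (hf : Representable f)
    (h : IsSurjectiveMor f) : RepWith @Surjective f := by
  refine ⟨hf, fun U V g fst snd sq => ?_⟩
  change Surjective snd.left
  exact ⟨(surjective_map_yon_map_iff snd).1 (isSurjectiveMor_of_isPullback sq h)⟩

theorem isOpenMap_ofPt_of_repWith_etale {F : Sp S} {T : Over S} {g : (yon S).obj T ⟶ F}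
    (hg : RepWith @Etale g) : IsOpenMap (Points.ofPt g) := by
  have : Points.ofPt g = Points.map g ∘ Points.schemeHomeo T := by
    funext t; exact Points.ofPt_eq_map_ofScheme g t
  rw [this]
  exact (isOpenMap_map_of_repWith_etale hg).comp (Points.schemeHomeo T).isOpenMap

theorem surjective_ofPt_of_repWith_surjective {F : Sp S} {T : Over S} {g : (yon S).obj T ⟶ F}
    (hg : RepWith @Surjective g) : Function.Surjective (Points.ofPt g) := by
  have : Points.ofPt g = Points.map g ∘ Points.schemeHomeo T := by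
    funext t; exact Points.ofPt_eq_map_ofScheme g t
  rw [this]
  exact (surjective_map_of_repWith_surjective hg).comp (Points.schemeHomeo T).surjective

/-- A quasi-compact sheaf has a quasi-compact space of points. -/
theorem compactSpace_points_of_isQuasiCompactSp {F : Sp S} (hF : IsQuasiCompactSp F) :
    CompactSpace (Points F) := by
  obtain ⟨U, p, -, hps, hU⟩ := hF
  have : CompactSpace ↥U.left := hU
  exact Function.Surjective.compactSpace (Points.continuous_ofPt p)
    (surjective_ofPt_of_repWith_surjective hps)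

/-- An algebraic space whose space of points is quasi-compact is quasi-compact (has a quasi-compact chart). -/
theorem isQuasiCompactSp_of_compactSpace_points {Y : Sp S} (hY : IsAlgSpace Y)
    [CompactSpace (Points Y)] : IsQuasiCompactSp Y := by
  obtain ⟨V, q, hqe, hqs⟩ := hY.atlas
  have hopen := isOpenMap_ofPt_of_repWith_etale hqe
  have hsurj := surjective_ofPt_of_repWith_surjective hqs
  -- finitely many affine opens of `V` cover `|Y|`
  obtain ⟨t, ht⟩ := isCompact_univ.elim_finite_subcover
    (fun W : V.left.affineOpens => Points.ofPt q '' (W.1 : Set ↥V.left))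
    (fun W => hopen _ W.1.isOpen) (by
      intro y _
      obtain ⟨v, rfl⟩ := hsurj y
      obtain ⟨_, ⟨W, hW, rfl⟩, hvW, -⟩ := (V.left.isBasis_affineOpens).exists_subset_of_mem_open
        (Set.mem_univ v) isOpen_univ
      exact Set.mem_iUnion.2 ⟨⟨W, hW⟩, v, hvW, rfl⟩)
  -- the union of these affine opens
  let V' : V.left.Opens := ⨆ W ∈ t, (W : V.left.affineOpens).1
  have hV'c : IsCompact (V' : Set ↥V.left) := by
    have : (V' : Set ↥V.left) = ⋃ W ∈ t, ((W : V.left.affineOpens).1 : Set ↥V.left) := by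
      simp [V']
    rw [this]
    exact t.finite_toSet.isCompact_biUnion fun W _ => W.2.isCompact
  let T : Over S := Over.mk (V'.ι ≫ V.hom)
  let j : T ⟶ V := Over.homMk V'.ι rfl
  have hje : RepWith @Etale ((yon S).map j) := (repWith_yon_map_iff @Etale j).2 (by
    change Etale V'.ι; infer_instance)
  have hq'e : RepWith @Etale ((yon S).map j ≫ q) := (RepWith @Etale).comp_mem _ _ hje hqe
  have hq's : IsSurjectiveMor ((yon S).map j ≫ q) := by
    intro y
    obtain ⟨W, hW, v, hv, rfl⟩ : ∃ W ∈ t, ∃ v ∈ ((W : V.left.affineOpens).1 : Set ↥V.left),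
        Points.ofPt q v = y := by
      have := ht (Set.mem_univ y)
      simp only [Set.mem_iUnion, Set.mem_image] at this
      obtain ⟨W, hW, v, hv, rfl⟩ := this
      exact ⟨W, hW, v, hv, rfl⟩
    have hvV' : v ∈ V' := by
      simp only [V', TopologicalSpace.Opens.mem_iSup]
      exact ⟨W, hW, hv⟩
    refine ⟨Points.ofScheme T ⟨v, hvV'⟩, ?_⟩
    rw [← Points.ofPt_eq_map_ofScheme, ofPt_yon_map_comp]
    rfl
  refine ⟨T, (yon S).map j ≫ q, hq'e, repWith_surjective_of_isSurjectiveMor hq'e.rep hq's, ?_⟩
  exact isCompact_iff_compactSpace.1 hV'c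

/-- Let `T` be a quasi-compact sheaf and `snd : T' ⟶ T` a morphism from an algebraic space.  If the base change of
`T'` to every affine scheme over `T` has a quasi-compact space of points, then `T'` is quasi-compact. -/
theorem isQuasiCompactSp_of_affine_base_change {T T' : Sp S} (hT' : IsAlgSpace T')
    (hT : IsQuasiCompactSp T) (snd : T' ⟶ T)
    (H : ∀ (Z : Over S), IsAffine Z.left → ∀ (g : (yon S).obj Z ⟶ T) (P : Sp S) (a : P ⟶ T')
      (b : P ⟶ (yon S).obj Z), IsPullback a b snd g → CompactSpace (Points P)) :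
    IsQuasiCompactSp T' := by
  obtain ⟨U, p, -, hps, hU⟩ := hT
  have hUc : CompactSpace ↥U.left := hU
  have hsurj := surjective_ofPt_of_repWith_surjective hps
  obtain ⟨t, ht⟩ := isCompact_univ.elim_finite_subcover
    (fun W : U.left.affineOpens => (W.1 : Set ↥U.left)) (fun W => W.1.isOpen) (by
      intro u _
      obtain ⟨_, ⟨W, hW, rfl⟩, huW, -⟩ := (U.left.isBasis_affineOpens).exists_subset_of_mem_open
        (Set.mem_univ u) isOpen_univ
      exact Set.mem_iUnion.2 ⟨⟨W, hW⟩, huW⟩)
  -- the compact pieces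
  let j : ∀ W : U.left.affineOpens, Over.mk (W.1.ι ≫ U.hom) ⟶ U := fun W => Over.homMk W.1.ι rfl
  let K : U.left.affineOpens → Set (Points T') := fun W =>
    Set.range (Points.map (pullback.fst snd ((yon S).map (j W) ≫ p)))
  have hK : ∀ W, IsCompact (K W) := by
    intro W
    have : CompactSpace (Points (pullback snd ((yon S).map (j W) ≫ p))) :=
      H (Over.mk (W.1.ι ≫ U.hom)) W.2 _ _ _ _ (IsPullback.of_hasPullback _ _)
    exact isCompact_range (Points.continuous_map _)
  have hcover : (Set.univ : Set (Points T')) ⊆ ⋃ W ∈ t, K W := by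
    intro t' _
    obtain ⟨u, hu⟩ := hsurj (Points.map snd t')
    have := ht (Set.mem_univ u)
    simp only [Set.mem_iUnion] at this
    obtain ⟨W, hW, huW⟩ := this
    have e : Points.map snd t' = Points.map ((yon S).map (j W) ≫ p)
        (Points.ofScheme (Over.mk (W.1.ι ≫ U.hom)) ⟨u, huW⟩) := by
      rw [← Points.ofPt_eq_map_ofScheme, ofPt_yon_map_comp, ← hu]
      rfl
    obtain ⟨x, hx, -⟩ := exists_point_of_isPullback
      (IsPullback.of_hasPullback snd ((yon S).map (j W) ≫ p)) t' _ e
    exact Set.mem_iUnion₂.2 ⟨W, hW, x, hx⟩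
  have : CompactSpace (Points T') :=
    ⟨(t.finite_toSet.isCompact_biUnion fun W _ => hK W).of_isClosed_subset isClosed_univ hcover⟩
  exact isQuasiCompactSp_of_compactSpace_points hT'

end Groth.Agent.Lib.AlgSpQC
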