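import Mathlib
import Groth.Agent.Lib.EtaleLiftSurj
import Groth.Agent.Lib.SrcLocalFP

/-!
# Smoothness descends along étale covers of the source (ring level)

`A → B → B'` with `B → B'` étale and `Spec B' → Spec B` surjective, `A → B'` smooth
⟹ `A → B` smooth.

Main steps:
* `tensorH1Cotangent_of_etale`: `B' ⊗[B] H¹(L_{B/A}) ≃ H¹(L_{B'/A})` for `B → B'` étale
  (via `exists_etale_lift` and Mathlib's `Extension.tensorH1CotangentOfFormallyEtale`).
* `formallySmooth_of_comp_etale_faithfullyFlat`, `smooth_of_etale_of_comap_surjective`,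
  `smooth_of_comp_etale` (RingHom version).
-/

set_option autoImplicit false
set_option linter.style.haveILetI false
universe u
open TensorProduct

namespace Groth.Agent.Lib.SrcLocalSmooth

/-- For a morphism of extensions `P → Q` over `B → B'` with `P.Ring → Q.Ring` flat and
`Q.ker = P.ker · Q.Ring`, the canonical map `Q.Ring ⊗ P.ker → Q.ker` is bijective. -/
theorem bijective_mapKer_liftBaseChange {A B B' : Type u} [CommRing A] [CommRing B]
    [CommRing B'] [Algebra A B] [Algebra B B'] [Algebra A B'] [IsScalarTower A B B']
    {P : Algebra.Extension.{u} A B} {Q : Algebra.Extension.{u} A B'} (f : P.Hom Q)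
    [alg : Algebra P.Ring Q.Ring] (halg : algebraMap P.Ring Q.Ring = f.toRingHom)
    [Module.Flat P.Ring Q.Ring]
    (hker : Q.ker = P.ker.map (algebraMap P.Ring Q.Ring)) :
    Function.Bijective ((f.mapKer halg).liftBaseChange Q.Ring) := by
  set g : Q.Ring ⊗[P.Ring] P.ker →ₗ[Q.Ring] Q.Ring :=
    (Submodule.subtype Q.ker) ∘ₗ ((f.mapKer halg).liftBaseChange Q.Ring) with hg
  have hg_tmul : ∀ (r : Q.Ring) (p : P.ker), g (r ⊗ₜ p) = r * algebraMap P.Ring Q.Ring p.1 := by
    intro r p
    simp [hg, halg]
  constructor
  · -- injective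
    have h1 : Function.Injective ((Submodule.subtype P.ker).lTensor Q.Ring) :=
      Module.Flat.lTensor_preserves_injective_linearMap _ (Submodule.subtype_injective _)
    have h2 : ∀ x, g x = TensorProduct.rid P.Ring Q.Ring
        (((Submodule.subtype P.ker).lTensor Q.Ring) x) := by
      intro x
      induction x with
      | zero => simp
      | add x y hx hy => simp only [map_add, hx, hy]
      | tmul r p =>
        rw [hg_tmul]
        simp [Algebra.smul_def, mul_comm]
    have h3 : Function.Injective g := by
      intro x y hxy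
      rw [h2, h2] at hxy
      exact h1 ((TensorProduct.rid P.Ring Q.Ring).injective hxy)
    exact Function.Injective.of_comp (f := Submodule.subtype Q.ker) h3
  · -- surjective
    intro x
    have hx : x.1 ∈ LinearMap.range g := by
      have hle : P.ker.map (algebraMap P.Ring Q.Ring) ≤ LinearMap.range g := by
        rw [Ideal.map_le_iff_le_comap]
        intro p hp
        refine ⟨1 ⊗ₜ ⟨p, hp⟩, ?_⟩
        rw [hg_tmul, one_mul]
      exact hle (hker ▸ x.2)
    obtain ⟨y, hy⟩ := hx
    exact ⟨y, Subtype.ext hy⟩

/-- General form: a morphism of extensions `P → Q` over `B → B'` with `P.Ring`, `Q.Ring` formally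
smooth over `A`, `P.Ring → Q.Ring` étale, `B → B'` flat and `Q.ker = P.ker · Q.Ring` induces
`B' ⊗ H¹(L_{B/A}) ≃ H¹(L_{B'/A})`. -/
theorem tensorH1Cotangent_of_hom {A B B' : Type u} [CommRing A] [CommRing B]
    [CommRing B'] [Algebra A B] [Algebra B B'] [Algebra A B'] [IsScalarTower A B B']
    (P : Algebra.Extension.{u} A B) (Q : Algebra.Extension.{u} A B') (f : P.Hom Q)
    [hP : Algebra.FormallySmooth A P.Ring] [hQ : Algebra.FormallySmooth A Q.Ring]
    [alg : Algebra P.Ring Q.Ring] (halg : algebraMap P.Ring Q.Ring = f.toRingHom)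
    [hPQ : Algebra.Etale P.Ring Q.Ring] [Module.Flat B B']
    (hker : Q.ker = P.ker.map (algebraMap P.Ring Q.Ring)) :
    Nonempty (B' ⊗[B] Algebra.H1Cotangent A B ≃ₗ[B'] Algebra.H1Cotangent A B') := by
  have H₁ : f.toRingHom.FormallyEtale := by
    rw [← halg]
    exact RingHom.formallyEtale_algebraMap.mpr inferInstance
  have H₂ := bijective_mapKer_liftBaseChange f halg hker
  exact ⟨(AlgebraTensorModule.congr (LinearEquiv.refl B' B')
      (Algebra.Extension.equivH1CotangentOfFormallySmooth P).symm) ≪≫ₗ
    Algebra.Extension.tensorH1CotangentOfFormallyEtale f halg H₁ H₂ ≪≫ₗ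
      Algebra.Extension.equivH1CotangentOfFormallySmooth Q⟩

/-- Variant with an arbitrary presentation `R ↠ B` by a formally smooth `A`-algebra. -/
theorem tensorH1Cotangent_of_etale_aux {A R B B' : Type u} [CommRing A] [CommRing R] [CommRing B]
    [CommRing B'] [Algebra A R] [Algebra A B] [Algebra R B] [IsScalarTower A R B]
    [Algebra B B'] [Algebra A B'] [IsScalarTower A B B'] [hAR : Algebra.FormallySmooth A R]
    (hsurj : Function.Surjective (algebraMap R B)) [Algebra.Etale B B'] :
    Nonempty (B' ⊗[B] Algebra.H1Cotangent A B ≃ₗ[B'] Algebra.H1Cotangent A B') := by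
  classical
  letI algRB' : Algebra R B' := ((algebraMap B B').comp (algebraMap R B)).toAlgebra
  haveI : IsScalarTower R B B' := .of_algebraMap_eq' rfl
  obtain ⟨R', instR', algRR', ψ, hR', hψ, hker⟩ :=
    Groth.Agent.Lib.EtaleLiftSurj.exists_etale_lift (R := R) (B := B) (B' := B') hsurj
  letI algAR' : Algebra A R' := ((algebraMap R R').comp (algebraMap A R)).toAlgebra
  haveI : IsScalarTower A R R' := .of_algebraMap_eq' rfl
  haveI : IsScalarTower A R B' := .of_algebraMap_eq fun a => by
    rw [IsScalarTower.algebraMap_apply A B B', IsScalarTower.algebraMap_apply A R B]; rfl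
  have hAR' : Algebra.FormallySmooth A R' := Algebra.FormallySmooth.comp A R R'
  have hfl : Module.Flat B B' := inferInstance
  exact @tensorH1Cotangent_of_hom A B B' _ _ _ _ _ _ _
    (Algebra.Extension.ofSurjective (IsScalarTower.toAlgHom A R B) hsurj)
    (Algebra.Extension.ofSurjective (ψ.restrictScalars A) hψ)
    { toRingHom := algebraMap R R'
      toRingHom_algebraMap := fun x => rfl
      algebraMap_toRingHom := fun x => ψ.commutes x }
    hAR hAR' algRR' rfl hR' hfl hker

/-- `H¹(L_{B/A})` commutes with étale base change `B → B'`. -/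
theorem tensorH1Cotangent_of_etale (A B B' : Type u) [CommRing A] [CommRing B] [CommRing B']
    [Algebra A B] [Algebra B B'] [Algebra A B'] [IsScalarTower A B B'] [Algebra.Etale B B'] :
    Nonempty (B' ⊗[B] Algebra.H1Cotangent A B ≃ₗ[B'] Algebra.H1Cotangent A B') :=
  haveI : Algebra.FormallySmooth A (Algebra.Generators.self A B).toExtension.Ring :=
    inferInstanceAs (Algebra.FormallySmooth A (MvPolynomial B A))
  tensorH1Cotangent_of_etale_aux (R := (Algebra.Generators.self A B).toExtension.Ring)
    (Algebra.Generators.self A B).toExtension.algebraMap_surjective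

/-- Formal smoothness descends along a faithfully flat étale map on the source (given finite
presentation of `A → B`). -/
theorem formallySmooth_of_comp_etale_faithfullyFlat {A B B' : Type u} [CommRing A] [CommRing B]
    [CommRing B'] [Algebra A B] [Algebra B B'] [Algebra A B'] [IsScalarTower A B B']
    [Algebra.Etale B B'] [Module.FaithfullyFlat B B'] [Algebra.FinitePresentation A B]
    [Algebra.FormallySmooth A B'] : Algebra.FormallySmooth A B := by
  rw [Algebra.formallySmooth_iff]
  constructor
  · have e' : B' ⊗[B] Ω[B⁄A] ≃ₗ[B'] Ω[B'⁄A] :=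
      KaehlerDifferential.tensorKaehlerEquivOfFormallyEtale A B B'
    have : Module.Projective B' Ω[B'⁄A] := inferInstance
    have : Module.Flat B' (B' ⊗[B] Ω[B⁄A]) := .of_linearEquiv e'
    have : Module.Flat B Ω[B⁄A] := Module.Flat.of_flat_tensorProduct _ _ B'
    exact Module.Flat.projective_of_finitePresentation
  · obtain ⟨e⟩ := tensorH1Cotangent_of_etale A B B'
    have : Subsingleton (Algebra.H1Cotangent A B') := inferInstance
    have : Subsingleton (B' ⊗[B] Algebra.H1Cotangent A B) := e.subsingleton
    exact Module.FaithfullyFlat.lTensor_reflects_triviality B B' _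

/-- Smoothness descends along a surjective étale map on the source. -/
theorem smooth_of_etale_of_comap_surjective {A B B' : Type u} [CommRing A]
    [CommRing B] [CommRing B'] [Algebra A B] [Algebra B B'] [Algebra A B'] [IsScalarTower A B B']
    [Algebra.Etale B B']
    (hs : Function.Surjective (PrimeSpectrum.comap (algebraMap B B')))
    [Algebra.Smooth A B'] : Algebra.Smooth A B := by
  have hfp : Algebra.FinitePresentation A B :=
    Groth.Agent.Lib.SrcLocalFP.finitePresentation_of_etale_of_comap_surjective hs
  have hff : Module.FaithfullyFlat B B' := Module.FaithfullyFlat.of_comap_surjective hs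
  exact ⟨formallySmooth_of_comp_etale_faithfullyFlat (B' := B'), hfp⟩

theorem smooth_of_comp_etale {A B B' : Type u} [CommRing A] [CommRing B]
    [CommRing B'] (f : A →+* B) (g : B →+* B') (hg : g.Etale)
    (hgs : Function.Surjective (PrimeSpectrum.comap g)) (hgf : (g.comp f).Smooth) :
    f.Smooth := by
  algebraize [f, g, g.comp f]
  exact smooth_of_etale_of_comap_surjective (A := A) (B := B) (B' := B') hgs

end Groth.Agent.Lib.SrcLocalSmooth
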