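import Mathlib
import Groth.Agent.Lib.SrcLocal
import Groth.Agent.Lib.SrcLocalSmooth

/-!
# Smoothness is étale-local on the source (schemes)
-/

set_option autoImplicit false
universe u
open CategoryTheory CategoryTheory.Limits AlgebraicGeometry

namespace Groth.Agent.Lib.SrcLocal

theorem sourceEtLocal_smooth : SourceEtLocal @Smooth.{u} := by
  have : MorphismProperty.RespectsRight @Smooth.{u} @IsOpenImmersion :=
    ⟨fun i hi f hf => by
      have : IsOpenImmersion i := hi
      have : Smooth f := hf
      exact (inferInstance : Smooth (f ≫ i))⟩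
  apply sourceEtLocal_of_affine
  intro X' X Y _ _ _ p h hp hps hph
  obtain ⟨h1, h2, h3⟩ := etale_faithfullyFlat_appTop p hp hps
  rw [HasRingHomProperty.iff_of_isAffine (P := @Smooth)] at hph ⊢
  rw [Scheme.Hom.comp_appTop, CommRingCat.hom_comp] at hph
  exact Groth.Agent.Lib.SrcLocalSmooth.smooth_of_comp_etale _ _ h1 h3 hph

end Groth.Agent.Lib.SrcLocal
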