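import Mathlib
import Groth.Agent.Lib.AlgSpLocP
import Groth.Agent.Lib.SrcLocal3

/-!
# The smooth class, and the seven standard étale-local classes

* `etLocalClass_smooth`
* `SevenClass P` : the 7-way disjunction used in the AlgSp statements; `SevenClass.etLocalClass`,
  `SevenClass.descendsAlong`, `SevenClass.isStableUnderComposition`.
-/

set_option autoImplicit false
universe u
open CategoryTheory CategoryTheory.Limits AlgebraicGeometry
open AlgSp Groth.Agent.Lib.AlgSpBasic Groth.Agent.Lib.SrcLocal

namespace Groth.Agent.Lib.AlgSpLocP

theorem etLocalClass_smooth : EtLocalClass @Smooth.{u} where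
  baseChange := inferInstance
  pre _ _ _ l w hl hw := by
    have : Etale l := hl
    have : Smooth w := hw
    exact (inferInstance : Smooth (l ≫ w))
  post _ _ _ l w hl hw := by
    have : Etale w := hw
    have : Smooth l := hl
    exact (inferInstance : Smooth (l ≫ w))
  src := sourceEtLocal_smooth

/-- The 7-way disjunction of the AlgSp statements. -/
def SevenClass (P : MorphismProperty Scheme.{u}) : Prop :=
  P = @LocallyOfFiniteType ∨ P = @LocallyOfFinitePresentation ∨ P = @Flat ∨ P = @Smooth ∨
    P = @Etale ∨
    (∀ ⦃A B : Scheme.{u}⦄ (g : A ⟶ B), P g ↔ (LocallyQuasiFinite g ∧ LocallyOfFiniteType g)) ∨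
    (∀ ⦃A B : Scheme.{u}⦄ (g : A ⟶ B), P g ↔ (LocallyOfFiniteType g ∧ FormallyUnramified g))

theorem SevenClass.cases {P : MorphismProperty Scheme.{u}} (hP : SevenClass P) :
    P = @LocallyOfFiniteType ∨ P = @LocallyOfFinitePresentation ∨ P = @Flat ∨ P = @Smooth ∨
      P = @Etale ∨ P = (@LocallyQuasiFinite ⊓ @LocallyOfFiniteType : MorphismProperty Scheme.{u}) ∨
      P = (@LocallyOfFiniteType ⊓ @FormallyUnramified : MorphismProperty Scheme.{u}) := by
  rcases hP with h | h | h | h | h | h | h
  · exact Or.inl h
  · exact Or.inr (Or.inl h)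
  · exact Or.inr (Or.inr (Or.inl h))
  · exact Or.inr (Or.inr (Or.inr (Or.inl h)))
  · exact Or.inr (Or.inr (Or.inr (Or.inr (Or.inl h))))
  · refine Or.inr (Or.inr (Or.inr (Or.inr (Or.inr (Or.inl ?_)))))
    ext A B g
    exact h g
  · refine Or.inr (Or.inr (Or.inr (Or.inr (Or.inr (Or.inr ?_)))))
    ext A B g
    exact h g

theorem SevenClass.etLocalClass {P : MorphismProperty Scheme.{u}} (hP : SevenClass P) :
    EtLocalClass P := by
  rcases hP.cases with h | h | h | h | h | h | h <;> subst h
  · exact etLocalClass_lft
  · exact etLocalClass_lfp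
  · exact etLocalClass_flat
  · exact etLocalClass_smooth
  · exact etLocalClass_etale
  · exact etLocalClass_lqf_lft
  · exact etLocalClass_lft_unramified

theorem SevenClass.descendsAlong {P : MorphismProperty Scheme.{u}} (hP : SevenClass P) :
    P.DescendsAlong etCov := by
  rcases hP.cases with h | h | h | h | h | h | h <;> subst h
  · infer_instance
  · infer_instance
  · infer_instance
  · infer_instance
  · infer_instance
  · infer_instance
  · infer_instance

theorem SevenClass.isStableUnderComposition {P : MorphismProperty Scheme.{u}}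
    (hP : SevenClass P) : P.IsStableUnderComposition := by
  rcases hP.cases with h | h | h | h | h | h | h <;> subst h
  · infer_instance
  · infer_instance
  · infer_instance
  · infer_instance
  · infer_instance
  · infer_instance
  · infer_instance

end Groth.Agent.Lib.AlgSpLocP
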