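import Mathlib.CategoryTheory.Sites.RegularEpi
import Mathlib.CategoryTheory.Sites.LocallySurjective
import Mathlib.CategoryTheory.Sites.Limits
import Mathlib.CategoryTheory.Limits.Types.Pullbacks
import Mathlib.CategoryTheory.MorphismProperty.Limits

set_option autoImplicit false
open CategoryTheory CategoryTheory.Limits Opposite
universe w v₁ u₁

namespace Groth.Agent.Lib.SheafEpi

variable {C : Type u₁} [Category.{v₁} C] (J : GrothendieckTopology C)

/-- Sectionwise description of a pullback square of sheaves of sets. -/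
theorem exists_of_isPullback {X' Y' X Y : Sheaf J (Type w)} {f' : X' ⟶ Y'} {i₁ : X' ⟶ X}
    {i₂ : Y' ⟶ Y} {f : X ⟶ Y} (H : IsPullback f' i₁ i₂ f) (V : Cᵒᵖ) (y : Y'.obj.obj V)
    (x : X.obj.obj V) (h : i₂.hom.app V y = f.hom.app V x) :
    ∃ z : X'.obj.obj V, f'.hom.app V z = y ∧ i₁.hom.app V z = x := by
  let F : Sheaf J (Type w) ⥤ Type w := sheafToPresheaf J (Type w) ⋙ (evaluation _ _).obj V
  have HV : IsPullback (F.map f') (F.map i₁) (F.map i₂) (F.map f) := H.map F
  exact Types.exists_of_isPullback HV y x h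

theorem ext_of_isPullback {X' Y' X Y : Sheaf J (Type w)} {f' : X' ⟶ Y'} {i₁ : X' ⟶ X}
    {i₂ : Y' ⟶ Y} {f : X ⟶ Y} (H : IsPullback f' i₁ i₂ f) (V : Cᵒᵖ) (z z' : X'.obj.obj V)
    (h1 : f'.hom.app V z = f'.hom.app V z') (h2 : i₁.hom.app V z = i₁.hom.app V z') : z = z' := by
  let F : Sheaf J (Type w) ⥤ Type w := sheafToPresheaf J (Type w) ⋙ (evaluation _ _).obj V
  have HV : IsPullback (F.map f') (F.map i₁) (F.map i₂) (F.map f) := H.map F
  exact Types.ext_of_isPullback HV h1 h2

/-- Locally surjective morphisms of sheaves of sets are stable under base change. -/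
theorem isLocallySurjective_of_isPullback {X' Y' X Y : Sheaf J (Type w)} {f' : X' ⟶ Y'}
    {i₁ : X' ⟶ X} {i₂ : Y' ⟶ Y} {f : X ⟶ Y} (H : IsPullback f' i₁ i₂ f)
    [hf : Sheaf.IsLocallySurjective f] : Sheaf.IsLocallySurjective f' := by
  constructor
  intro U s
  refine J.superset_covering ?_ (Presheaf.imageSieve_mem J f.hom (i₂.hom.app _ s))
  rintro V g ⟨t, ht⟩
  have hn : i₂.hom.app (op V) (Y'.obj.map g.op s) = Y.obj.map g.op (i₂.hom.app (op U) s) :=
    ConcreteCategory.congr_hom (i₂.hom.naturality g.op) s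
  obtain ⟨z, hz1, -⟩ := exists_of_isPullback J H (op V) (Y'.obj.map g.op s) t (by rw [hn, ht])
  exact ⟨z, hz1⟩

/-- Epimorphisms of sheaves of sets are stable under base change. -/
theorem epi_of_isPullback [HasSheafify J (Type w)] {X' Y' X Y : Sheaf J (Type w)} {f' : X' ⟶ Y'}
    {i₁ : X' ⟶ X} {i₂ : Y' ⟶ Y} {f : X ⟶ Y} (H : IsPullback f' i₁ i₂ f) [Epi f] : Epi f' := by
  have : Sheaf.IsLocallySurjective f := (Sheaf.isLocallySurjective_iff_epi f).2 inferInstance
  have : Sheaf.IsLocallySurjective f' := isLocallySurjective_of_isPullback J H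
  infer_instance

/-- Every epimorphism of sheaves of sets is a universally effective epimorphism. -/
theorem uee_of_epi [HasSheafify J (Type w)] {X Y : Sheaf J (Type w)} (f : X ⟶ Y) [Epi f] :
    (MorphismProperty.universally
      (fun (A B : Sheaf J (Type w)) (p : A ⟶ B) => EffectiveEpi p)) f := by
  intro X' Y' i₁ i₂ f' H
  have : Epi f' := epi_of_isPullback J H
  have : IsRegularEpi f' := IsRegularEpiCategory.regularEpiOfEpi f'
  infer_instance

end Groth.Agent.Lib.SheafEpi
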