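import Groth.Prelude.Def_AlgSp4
import Groth.Agent.Lib.SheafEpi

/-!
# Points of fppf sheaves: fibre products, charts, transfer of topological properties

Shared helper library for the `AlgSp.*` milestones (owner: helper91).
-/

set_option autoImplicit false

universe u

open CategoryTheory CategoryTheory.Limits AlgebraicGeometry Opposite Topology

namespace Groth.Agent.Lib.AlgSpPoints

open AlgSp

variable {S : Scheme.{u}}

/-- Restricting a field-valued point along a morphism of spectra of fields over `S` does not change its class. -/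
theorem mk_restrict_eq {F : Sp S} (p : FieldPt F) {Ω : Type u} [Field Ω]
    (w : Spec (CommRingCat.of Ω) ⟶ S) (a : Over.mk w ⟶ p.pt) :
    Points.mk (⟨Ω, w, F.obj.map a.op p.val⟩ : FieldPt F) = Points.mk p := by
  refine Points.sound ⟨Ω, inferInstance, w, 𝟙 _, a, ?_⟩
  change F.obj.map (𝟙 _) (F.obj.map a.op p.val) = F.obj.map a.op p.val
  simp

/-- Points of a fibre product of sheaves surject onto the fibre product of the sets of points. -/
theorem exists_point_of_isPullback {P F G Z : Sp S} {fst : P ⟶ F} {snd : P ⟶ Z} {f : F ⟶ G}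
    {g : Z ⟶ G} (sq : IsPullback fst snd f g) (x : Points F) (z : Points Z)
    (h : Points.map f x = Points.map g z) :
    ∃ p : Points P, Points.map fst p = x ∧ Points.map snd p = z := by
  induction x using Points.ind with
  | h p =>
  induction z using Points.ind with
  | h q =>
  obtain ⟨Ω, _, w, a, b, hab⟩ := Points.mk_eq_mk_iff.1 h
  change G.obj.map a.op (f.hom.app _ p.val) = G.obj.map b.op (g.hom.app _ q.val) at hab
  rw [← NatTrans.naturality_apply, ← NatTrans.naturality_apply] at hab
  obtain ⟨s, hs1, hs2⟩ := Groth.Agent.Lib.SheafEpi.exists_of_isPullback _ sq (op (Over.mk w))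
    (F.obj.map a.op p.val) (Z.obj.map b.op q.val) hab
  refine ⟨Points.mk ⟨Ω, w, s⟩, ?_, ?_⟩
  · rw [Points.map_mk, ← mk_restrict_eq p w a]
    congr 1
    change (⟨Ω, w, fst.hom.app _ s⟩ : FieldPt F) = _
    rw [hs1]; rfl
  · rw [Points.map_mk, ← mk_restrict_eq q w b]
    congr 1
    change (⟨Ω, w, snd.hom.app _ s⟩ : FieldPt Z) = _
    rw [hs2]; rfl

/-- Same as `exists_point_of_isPullback` (name used by helper78's version of this file). -/
theorem exists_of_isPullback {F G Z Z' : Sp S} {f : F ⟶ G} {g : Z ⟶ G} {fst : Z' ⟶ F} {snd : Z' ⟶ Z}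
    (sq : IsPullback fst snd f g) (x : Points F) (z : Points Z)
    (h : Points.map f x = Points.map g z) :
    ∃ w : Points Z', Points.map fst w = x ∧ Points.map snd w = z :=
  exists_point_of_isPullback sq x z h

/-- The base change of a morphism of sheaves that is surjective on points is surjective on points. -/
theorem isSurjectiveMor_of_isPullback {P F G Z : Sp S} {fst : P ⟶ F} {snd : P ⟶ Z} {f : F ⟶ G}
    {g : Z ⟶ G} (sq : IsPullback fst snd f g) (hf : IsSurjectiveMor f) : IsSurjectiveMor snd := by
  intro z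
  obtain ⟨x, hx⟩ := hf (Points.map g z)
  obtain ⟨p, -, hp⟩ := exists_point_of_isPullback sq x z hx
  exact ⟨p, hp⟩

/-- The point defined by `t : T` and `h_φ ≫ g` is the point defined by `φ t` and `g`. -/
theorem ofPt_yon_map_comp {T T' : Over S} {F : Sp S} (φ : T ⟶ T') (g : (yon S).obj T' ⟶ F)
    (t : ↥T.left) : Points.ofPt ((yon S).map φ ≫ g) t = Points.ofPt g (φ.left t) := by
  rw [Points.ofPt_eq_map_ofScheme, Points.map_comp, Points.ofPt_eq_map_ofScheme g]
  congr 1
  exact Points.map_yon_map_apply φ t

/-- The morphism `h_{Spec K} ⟶ F` defined by a field-valued point. -/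
noncomputable def fieldPtHom {F : Sp S} (p : FieldPt F) : (yon S).obj p.pt ⟶ F :=
  (J S).uliftYonedaEquiv.symm p.val

theorem ofPt_fieldPtHom {F : Sp S} (p : FieldPt F) (t : ↥p.pt.left) :
    Points.ofPt (fieldPtHom p) t = Points.mk p :=
  mk_restrict_eq p _ (Over.homMk (p.pt.left.fromSpecResidueField t) rfl)

/-- Every point of a sheaf is the image of a point of a scheme under a chart. -/
theorem exists_ofPt_eq {F : Sp S} (x : Points F) :
    ∃ (T : Over S) (g : (yon S).obj T ⟶ F) (t : ↥T.left), Points.ofPt g t = x := by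
  induction x using Points.ind with
  | h p => exact ⟨p.pt, fieldPtHom p, IsLocalRing.closedPoint p.K, ofPt_fieldPtHom p _⟩

/-- Chart form of `exists_point_of_isPullback`: in a pullback square with corner `h_{T'}` over `h_T`, a point of `Z'`
and a point of `T` with the same image in `Z` come from a point of `T'`. -/
theorem exists_of_isPullback_yon {Z' Z : Sp S} {snd : Z' ⟶ Z} {T T' : Over S}
    {g : (yon S).obj T ⟶ Z} {g' : (yon S).obj T' ⟶ Z'} {ψ : T' ⟶ T}
    (sq : IsPullback g' ((yon S).map ψ) snd g) (x' : Points Z') (t : ↥T.left)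
    (h : Points.map snd x' = Points.ofPt g t) :
    ∃ t' : ↥T'.left, ψ.left t' = t ∧ Points.ofPt g' t' = x' := by
  obtain ⟨p, hp1, hp2⟩ := exists_point_of_isPullback sq x' (Points.ofScheme T t)
    (h.trans (Points.ofPt_eq_map_ofScheme g t))
  refine ⟨Points.toScheme T' p, ?_, ?_⟩
  · apply (Points.schemeEquiv T).injective
    change Points.ofScheme T _ = Points.ofScheme T t
    rw [← hp2]
    conv_rhs => rw [← Points.ofScheme_toScheme T' p]
    exact (Points.map_yon_map_apply ψ _).symm
  · rw [Points.ofPt_eq_map_ofScheme, Points.ofScheme_toScheme, hp1]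

section Transfer

variable {Z' Z : Sp S} {snd : Z' ⟶ Z} (hs : Representable snd)

include hs

/-- The preimage under a chart `T ⟶ Z` of the image of a set of points of `Z'` is the image of its preimage in the
represented fibre product. -/
theorem preimage_image_eq {T : Over S} (g : (yon S).obj T ⟶ Z) (W : Set (Points Z')) :
    Points.ofPt g ⁻¹' (Points.map snd '' W) = (hs.snd g).left '' (Points.ofPt (hs.fst g) ⁻¹' W) := by
  ext t
  constructor
  · rintro ⟨x', hx'W, hx'⟩
    obtain ⟨t', ht', hx⟩ := exists_of_isPullback_yon (hs.isPullback g) x' t hx'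
    exact ⟨t', by rw [Set.mem_preimage, hx]; exact hx'W, ht'⟩
  · rintro ⟨t', ht'W, rfl⟩
    refine ⟨Points.ofPt (hs.fst g) t', ht'W, ?_⟩
    rw [Points.map_ofPt, hs.w g, ofPt_yon_map_comp]

/-- The preimage under a chart of the fibre product of the preimage of a set of points of `Z`. -/
theorem preimage_preimage_eq {T : Over S} (g : (yon S).obj T ⟶ Z) (V : Set (Points Z)) :
    Points.ofPt (hs.fst g) ⁻¹' (Points.map snd ⁻¹' V) = (hs.snd g).left ⁻¹' (Points.ofPt g ⁻¹' V) := by
  ext t'
  simp only [Set.mem_preimage]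
  rw [Points.map_ofPt, hs.w g, ofPt_yon_map_comp]

theorem isOpenMap_map_of_representable
    (h : ∀ ⦃T : Over S⦄ (g : (yon S).obj T ⟶ Z), IsOpenMap (hs.snd g).left) :
    IsOpenMap (Points.map snd) := by
  intro W hW
  rw [Points.isOpen_iff]
  intro T g
  rw [preimage_image_eq hs g W]
  exact h g _ ((Points.continuous_ofPt _).isOpen_preimage _ hW)

theorem isClosedMap_map_of_representable
    (h : ∀ ⦃T : Over S⦄ (g : (yon S).obj T ⟶ Z), IsClosedMap (hs.snd g).left) :
    IsClosedMap (Points.map snd) := by
  intro W hW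
  rw [← isOpen_compl_iff, Points.isOpen_iff]
  intro T g
  rw [Set.preimage_compl, isOpen_compl_iff, preimage_image_eq hs g W]
  exact h g _ (hW.preimage (Points.continuous_ofPt _))

theorem surjective_map_of_representable
    (h : ∀ ⦃T : Over S⦄ (g : (yon S).obj T ⟶ Z), Function.Surjective (hs.snd g).left) :
    Function.Surjective (Points.map snd) := by
  intro z
  obtain ⟨T, g, t, rfl⟩ := exists_ofPt_eq z
  obtain ⟨t', rfl⟩ := h g t
  refine ⟨Points.ofPt (hs.fst g) t', ?_⟩
  rw [Points.map_ofPt, hs.w g, ofPt_yon_map_comp]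

theorem isQuotientMap_map_of_representable
    (h : ∀ ⦃T : Over S⦄ (g : (yon S).obj T ⟶ Z), IsQuotientMap (hs.snd g).left) :
    IsQuotientMap (Points.map snd) := by
  refine ⟨.of_isOpen_preimage_iff_isOpen fun V => ⟨fun hV => ?_, fun hV => hV.preimage (Points.continuous_map snd)⟩,
    surjective_map_of_representable hs fun T g => (h g).surjective⟩
  rw [Points.isOpen_iff]
  intro T g
  rw [← (h g).isOpen_preimage, ← preimage_preimage_eq hs g V]
  exact (Points.continuous_ofPt _).isOpen_preimage _ hV

end Transfer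

section Universally

/-- A pullback square of schemes over a morphism of `Over S`, lifted to `Over S` and sent to sheaves. -/
theorem isPullback_yon_of_isPullback_left {U V : Over S} (snd : V ⟶ U) {X' Y' : Scheme.{u}}
    (i₁ : X' ⟶ V.left) (i₂ : Y' ⟶ U.left) (f' : X' ⟶ Y') (H : IsPullback f' i₁ i₂ snd.left) :
    ∃ (T T' : Over S) (ψ : T' ⟶ T) (a : T ⟶ U) (b : T' ⟶ V), T.left = Y' ∧ T'.left = X' ∧
      HEq ψ.left f' ∧ IsPullback ((yon S).map b) ((yon S).map ψ) ((yon S).map snd) ((yon S).map a) := by
  have hw : f' ≫ i₂ ≫ U.hom = i₁ ≫ V.hom := by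
    rw [← Category.assoc, H.w, Category.assoc, Over.w snd]
  let T : Over S := Over.mk (i₂ ≫ U.hom)
  let T' : Over S := Over.mk (i₁ ≫ V.hom)
  let ψ : T' ⟶ T := Over.homMk f' hw
  let a : T ⟶ U := Over.homMk i₂ rfl
  let b : T' ⟶ V := Over.homMk i₁ rfl
  refine ⟨T, T', ψ, a, b, rfl, rfl, HEq.rfl, ?_⟩
  have H' : IsPullback b ψ snd a := by
    apply IsPullback.of_map_of_faithful (Over.forget S)
    exact H.flip
  exact H'.map (yon S)

/-- If `Q` on `h_φ` implies `Qs` on `φ`, a representable morphism with `Q` universally over algebraic spaces is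
representable with `Qs` universally. -/
theorem repWith_universally_of_univSp {Q : MorphismProperty (Sp S)} {Qs : MorphismProperty Scheme.{u}}
    (hQ : ∀ ⦃T T' : Over S⦄ (φ : T ⟶ T'), Q ((yon S).map φ) → Qs φ.left)
    {F G : Sp S} {f : F ⟶ G} (hf : Representable f) (h : UnivSp Q f) : RepWith Qs.universally f := by
  refine ⟨hf, fun U V g fst snd sq => ?_⟩
  intro X' Y' i₁ i₂ f' H
  obtain ⟨T, T', ψ, a, b, rfl, rfl, hψ, H'⟩ := isPullback_yon_of_isPullback_left snd i₁ i₂ f' H
  obtain rfl := eq_of_heq hψ
  exact hQ ψ (h (IsAlgSpace.yon_obj T) _ _ _ (H'.paste_horiz sq))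

/-- If `RepWith P` implies `Q`, it implies `Q` universally over algebraic spaces (indeed over all sheaves). -/
theorem univSp_of_repWith {Q : MorphismProperty (Sp S)} {P : MorphismProperty Scheme.{u}}
    (h : ∀ ⦃F G : Sp S⦄ (f : F ⟶ G), RepWith P f → Q f) {F G : Sp S} {f : F ⟶ G}
    (hf : RepWith P f) : UnivSp Q f :=
  fun _ _ _ _ _ _ sq => h _ ((RepWith P).of_isPullback sq hf)

end Universally

section Scheme

variable {T T' : Over S} (φ : T ⟶ T')

theorem isOpenMap_map_yon_map_iff : IsOpenMap (Points.map ((yon S).map φ)) ↔ IsOpenMap φ.left := by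
  rw [Points.map_yon_map_eq, Homeomorph.comp_isOpenMap_iff, Homeomorph.comp_isOpenMap_iff']

theorem isClosedMap_map_yon_map_iff : IsClosedMap (Points.map ((yon S).map φ)) ↔ IsClosedMap φ.left := by
  rw [Points.map_yon_map_eq]
  constructor
  · intro h
    have h1 := ((Points.schemeHomeo T').symm.isClosedMap.comp h).comp (Points.schemeHomeo T).isClosedMap
    convert h1 using 1
    funext t
    simp
  · intro h
    exact (Points.schemeHomeo T').isClosedMap.comp (h.comp (Points.schemeHomeo T).symm.isClosedMap)

theorem surjective_map_yon_map_iff :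
    Function.Surjective (Points.map ((yon S).map φ)) ↔ Function.Surjective φ.left := by
  rw [Points.map_yon_map_eq, Function.Surjective.of_comp_iff' (Points.schemeHomeo T').bijective,
    Function.Surjective.of_comp_iff _ (Points.schemeHomeo T).symm.surjective]

theorem injective_map_yon_map_iff :
    Function.Injective (Points.map ((yon S).map φ)) ↔ Function.Injective φ.left := by
  rw [Points.map_yon_map_eq, Function.Injective.of_comp_iff (Points.schemeHomeo T').injective,
    Function.Injective.of_comp_iff' _ (Points.schemeHomeo T).symm.bijective]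

theorem isQuotientMap_map_yon_map_iff :
    IsQuotientMap (Points.map ((yon S).map φ)) ↔ IsQuotientMap φ.left := by
  rw [Points.map_yon_map_eq]
  constructor
  · intro h
    have h1 := (Points.schemeHomeo T').symm.isQuotientMap.comp (h.comp (Points.schemeHomeo T).isQuotientMap)
    convert h1 using 1
    funext t
    simp
  · intro h
    exact (Points.schemeHomeo T').isQuotientMap.comp (h.comp (Points.schemeHomeo T).symm.isQuotientMap)

end Scheme

section AffineLocal

/-- For a pullback square with lower left corner `h_T`: the preimage in `T` of the image of a set of points of `Z'`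
is the image of its preimage in the corner. -/
theorem preimage_image_eq_of_isPullback {Z Z' P : Sp S} {snd : Z' ⟶ Z} {T : Over S}
    {g : (yon S).obj T ⟶ Z} {a : P ⟶ Z'} {b : P ⟶ (yon S).obj T} (sq : IsPullback a b snd g)
    (W : Set (Points Z')) :
    Points.ofPt g ⁻¹' (Points.map snd '' W) =
      Points.schemeHomeo T ⁻¹' (Points.map b '' (Points.map a ⁻¹' W)) := by
  ext t
  constructor
  · rintro ⟨w, hw, hwt⟩
    obtain ⟨x, hx1, hx2⟩ := exists_point_of_isPullback sq w (Points.ofScheme T t)
      (hwt.trans (Points.ofPt_eq_map_ofScheme g t))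
    exact ⟨x, by rw [Set.mem_preimage, hx1]; exact hw, hx2⟩
  · rintro ⟨x, hx, hxt⟩
    refine ⟨Points.map a x, hx, ?_⟩
    rw [← Points.map_comp, sq.w, Points.map_comp, hxt]
    exact (Points.ofPt_eq_map_ofScheme g t).symm

/-- The chart of `Z` obtained by restricting a chart `g : h_T ⟶ Z` to an open subscheme `V` of `T`. -/
noncomputable abbrev restrictChart {Z : Sp S} {T : Over S} (g : (yon S).obj T ⟶ Z) (V : T.left.Opens) :
    (yon S).obj (Over.mk (V.ι ≫ T.hom)) ⟶ Z :=
  (yon S).map (Over.homMk V.ι rfl : Over.mk (V.ι ≫ T.hom) ⟶ T) ≫ g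

theorem ofPt_restrictChart {Z : Sp S} {T : Over S} (g : (yon S).obj T ⟶ Z) (V : T.left.Opens)
    (v : ↥V) : Points.ofPt (restrictChart g V) v = Points.ofPt g v.1 := by
  rw [ofPt_yon_map_comp]
  rfl

/-- Openness on points can be checked after base change to affine schemes. -/
theorem isOpenMap_map_of_affine_base_change {Z Z' : Sp S} (snd : Z' ⟶ Z)
    (H : ∀ (T : Over S), IsAffine T.left → ∀ (g : (yon S).obj T ⟶ Z) (P : Sp S) (a : P ⟶ Z')
      (b : P ⟶ (yon S).obj T), IsPullback a b snd g → IsOpenMap (Points.map b)) :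
    IsOpenMap (Points.map snd) := by
  intro W hW
  rw [Points.isOpen_iff]
  intro T g
  have hcov : TopologicalSpace.IsOpenCover (fun V : T.left.affineOpens => (V : T.left.Opens)) :=
    iSup_affineOpens_eq_top T.left
  rw [hcov.isOpen_iff_coe_preimage]
  intro V
  have e : ((↑) ⁻¹' (Points.ofPt g ⁻¹' (Points.map snd '' W)) : Set ↥(V : T.left.Opens)) =
      Points.ofPt (restrictChart g V.1) ⁻¹' (Points.map snd '' W) := by
    ext v
    change Points.ofPt g v.1 ∈ Points.map snd '' W ↔ Points.ofPt (restrictChart g V.1) v ∈ Points.map snd '' W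
    rw [ofPt_restrictChart]
  rw [e, preimage_image_eq_of_isPullback (IsPullback.of_hasPullback snd (restrictChart g V.1))]
  refine (Points.schemeHomeo _).continuous.isOpen_preimage _ ?_
  exact H _ (show IsAffine (V.1 : Scheme) from V.2) _ _ _ _
    (IsPullback.of_hasPullback snd (restrictChart g V.1)) _
    ((Points.continuous_map _).isOpen_preimage _ hW)

/-- Closedness on points can be checked after base change to affine schemes. -/
theorem isClosedMap_map_of_affine_base_change {Z Z' : Sp S} (snd : Z' ⟶ Z)
    (H : ∀ (T : Over S), IsAffine T.left → ∀ (g : (yon S).obj T ⟶ Z) (P : Sp S) (a : P ⟶ Z')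
      (b : P ⟶ (yon S).obj T), IsPullback a b snd g → IsClosedMap (Points.map b)) :
    IsClosedMap (Points.map snd) := by
  intro W hW
  rw [← isOpen_compl_iff, Points.isOpen_iff]
  intro T g
  rw [Set.preimage_compl, isOpen_compl_iff]
  have hcov : TopologicalSpace.IsOpenCover (fun V : T.left.affineOpens => (V : T.left.Opens)) :=
    iSup_affineOpens_eq_top T.left
  rw [hcov.isClosed_iff_coe_preimage]
  intro V
  have e : ((↑) ⁻¹' (Points.ofPt g ⁻¹' (Points.map snd '' W)) : Set ↥(V : T.left.Opens)) =
      Points.ofPt (restrictChart g V.1) ⁻¹' (Points.map snd '' W) := by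
    ext v
    change Points.ofPt g v.1 ∈ Points.map snd '' W ↔ Points.ofPt (restrictChart g V.1) v ∈ Points.map snd '' W
    rw [ofPt_restrictChart]
  rw [e, preimage_image_eq_of_isPullback (IsPullback.of_hasPullback snd (restrictChart g V.1))]
  refine IsClosed.preimage (Points.schemeHomeo _).continuous ?_
  exact H _ (show IsAffine (V.1 : Scheme) from V.2) _ _ _ _
    (IsPullback.of_hasPullback snd (restrictChart g V.1)) _
    (hW.preimage (Points.continuous_map _))

end AffineLocal

section QuotientDescent

/-- For any pullback square of sheaves: the preimage of the image is the image of the preimage. -/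
theorem preimage_image_eq_of_isPullback' {Z Z' ZV Z'V : Sp S} {snd' : Z' ⟶ Z} {π : ZV ⟶ Z}
    {a : Z'V ⟶ Z'} {b : Z'V ⟶ ZV} (sq : IsPullback a b snd' π) (W : Set (Points Z')) :
    Points.map π ⁻¹' (Points.map snd' '' W) = Points.map b '' (Points.map a ⁻¹' W) := by
  ext t
  constructor
  · rintro ⟨w, hw, hwt⟩
    obtain ⟨x, hx1, hx2⟩ := exists_point_of_isPullback sq w t hwt
    exact ⟨x, by rw [Set.mem_preimage, hx1]; exact hw, hx2⟩
  · rintro ⟨x, hx, rfl⟩
    refine ⟨Points.map a x, hx, ?_⟩
    rw [← Points.map_comp, sq.w, Points.map_comp]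

/-- Openness on points descends along a base change that is a quotient map on points. -/
theorem isOpenMap_of_isPullback_of_isQuotientMap {Z Z' ZV Z'V : Sp S} {snd' : Z' ⟶ Z} {π : ZV ⟶ Z}
    {a : Z'V ⟶ Z'} {b : Z'V ⟶ ZV} (sq : IsPullback a b snd' π)
    (hπ : IsQuotientMap (Points.map π)) (hb : IsOpenMap (Points.map b)) :
    IsOpenMap (Points.map snd') := by
  intro W hW
  rw [← hπ.isOpen_preimage, preimage_image_eq_of_isPullback' sq]
  exact hb _ ((Points.continuous_map a).isOpen_preimage _ hW)

/-- Closedness on points descends along a base change that is a quotient map on points. -/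
theorem isClosedMap_of_isPullback_of_isQuotientMap {Z Z' ZV Z'V : Sp S} {snd' : Z' ⟶ Z} {π : ZV ⟶ Z}
    {a : Z'V ⟶ Z'} {b : Z'V ⟶ ZV} (sq : IsPullback a b snd' π)
    (hπ : IsQuotientMap (Points.map π)) (hb : IsClosedMap (Points.map b)) :
    IsClosedMap (Points.map snd') := by
  intro W hW
  rw [← hπ.isClosed_preimage, preimage_image_eq_of_isPullback' sq]
  exact hb _ (hW.preimage (Points.continuous_map a))

end QuotientDescent

section Homeo

variable {Z' Z : Sp S} {snd : Z' ⟶ Z} (hs : Representable snd)

include hs in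
theorem injective_map_of_representable
    (h : ∀ ⦃T : Over S⦄ (g : (yon S).obj T ⟶ Z), Function.Injective (hs.snd g).left) :
    Function.Injective (Points.map snd) := by
  intro x x' hxx'
  obtain ⟨T, g, t, ht⟩ := exists_ofPt_eq (Points.map snd x)
  obtain ⟨t₁, h1, rfl⟩ := exists_of_isPullback_yon (hs.isPullback g) x t ht.symm
  obtain ⟨t₂, h2, rfl⟩ := exists_of_isPullback_yon (hs.isPullback g) x' t (hxx'.symm.trans ht.symm)
  rw [h g (h1.trans h2.symm)]

include hs in
theorem isHomeomorph_map_of_representable
    (h : ∀ ⦃T : Over S⦄ (g : (yon S).obj T ⟶ Z), IsHomeomorph (hs.snd g).left) :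
    IsHomeomorph (Points.map snd) :=
  ⟨Points.continuous_map snd, isOpenMap_map_of_representable hs fun _ g => (h g).isOpenMap,
    injective_map_of_representable hs fun _ g => (h g).injective,
    surjective_map_of_representable hs fun _ g => (h g).surjective⟩

theorem isHomeomorph_map_yon_map_iff {T T' : Over S} (φ : T ⟶ T') :
    IsHomeomorph (Points.map ((yon S).map φ)) ↔ IsHomeomorph φ.left := by
  rw [Points.map_yon_map_eq]
  constructor
  · intro h
    have h1 := ((Points.schemeHomeo T').symm.isHomeomorph.comp h).comp (Points.schemeHomeo T).isHomeomorph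
    convert h1 using 1
    funext t
    simp
  · intro h
    exact (Points.schemeHomeo T').isHomeomorph.comp (h.comp (Points.schemeHomeo T).symm.isHomeomorph)

end Homeo

end Groth.Agent.Lib.AlgSpPoints
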