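import Mathlib
import Groth.Agent.Lib.AlgSpLocP2
import Groth.Agent.Lib.AlgSpPoints
import Groth.Prelude.Def_AlgSpCov

/-!
# Properties local on the source for coverings of algebraic spaces

For a class `Q` of "covering morphisms" of schemes (étale, smooth, flat+lfp) and a property `P` of
morphisms of schemes that is local at the source for `Scheme.precoverage Q`, the chart-wise
property `LocP P` is local on the source for `IsCover (LocP Q)`.
-/

set_option autoImplicit false
universe u
open CategoryTheory CategoryTheory.Limits AlgebraicGeometry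
open AlgSp Groth.Agent.Lib.AlgSpBasic Groth.Agent.Lib.SrcLocal Groth.Agent.Lib.AlgSpLocP

namespace Groth.Agent.Lib.AlgSpSrcCover

variable {S : Scheme.{u}}

/-- A class of covering morphisms of schemes containing the étale morphisms. -/
structure CovClass (Q : MorphismProperty Scheme.{u}) : Prop where
  et : EtLocalClass Q
  desc : Q.DescendsAlong etCov
  etale_le : ∀ ⦃A B : Scheme.{u}⦄ (g : A ⟶ B), Etale g → Q g

/-! ### Scheme-level consequences of `IsLocalAtSource` -/

theorem comp_of_mem {P Q : MorphismProperty Scheme.{u}}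
    [P.IsLocalAtSource (Scheme.precoverage Q)] (hid : ∀ B : Scheme.{u}, Q (𝟙 B))
    {A B C : Scheme.{u}} (l : A ⟶ B) (w : B ⟶ C) (hl : Q l) (hw : P w) : P (l ≫ w) := by
  let 𝒰 : B.Cover (Scheme.precoverage Q) :=
    Scheme.Cover.mkOfCovers (Option PUnit.{1}) (fun o => o.elim B (fun _ => A))
      (fun o => match o with
        | none => 𝟙 B
        | some _ => l)
      (fun x => ⟨none, x, rfl⟩)
      (fun o => match o with
        | none => hid B
        | some _ => hl)
  exact (MorphismProperty.IsLocalAtSource.iff_of_zeroHypercover (P := P) 𝒰).1 hw (some ⟨⟩)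

theorem of_family {P Q : MorphismProperty Scheme.{u}}
    [P.IsLocalAtSource (Scheme.precoverage Q)] {ι : Type u} {B C : Scheme.{u}}
    (W : ι → Scheme.{u}) (p : ∀ i, W i ⟶ B) (hp : ∀ i, Q (p i))
    (hsurj : ∀ x : B, ∃ i, ∃ y : W i, p i y = x) (w : B ⟶ C) (h : ∀ i, P (p i ≫ w)) : P w := by
  let 𝒰 : B.Cover (Scheme.precoverage Q) := Scheme.Cover.mkOfCovers ι W p hsurj hp
  exact (MorphismProperty.IsLocalAtSource.iff_of_zeroHypercover (P := P) 𝒰).2 h

theorem of_single {P Q : MorphismProperty Scheme.{u}}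
    [P.IsLocalAtSource (Scheme.precoverage Q)] {A B C : Scheme.{u}}
    (p : A ⟶ B) (hp : Q p) (hs : Surjective p) (w : B ⟶ C) (h : P (p ≫ w)) : P w :=
  of_family (ι := PUnit.{u+1}) (fun _ => A) (fun _ => p) (fun _ => hp)
    (fun x => ⟨⟨⟩, hs.surj x⟩) w (fun _ => h)

/-! ### Algebraic spaces -/

/-- A morphism from a scheme to an algebraic space which is `LocP Q` is `RepWith Q`. -/
theorem repWith_of_locP_yon {Q : MorphismProperty Scheme.{u}} (hQ : CovClass Q) {X : Sp S}
    (hX : IsAlgSpace X) {U : Over S} (c : (yon S).obj U ⟶ X) (hc : LocP Q c) : RepWith Q c := by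
  have := hQ.desc
  exact repWith_of_locP hQ.et hX (hX.representable_from_yon c) hc

/-- (⇐): `LocP P` can be checked on a `Q`-covering of the source. -/
theorem locP_of_cover {P Q : MorphismProperty Scheme.{u}} (hQ : CovClass Q)
    [P.IsLocalAtSource (Scheme.precoverage Q)] {ι : Type u} {X Y : Sp S} (Xi : ι → Sp S)
    (g : ∀ i, Xi i ⟶ X) (hX : IsAlgSpace X) (hXi : ∀ i, IsAlgSpace (Xi i))
    (hg : ∀ i, LocP Q (g i)) (hsurj : ∀ x : Points X, ∃ i, x ∈ Set.range (Points.map (g i)))
    (f : X ⟶ Y) (h : ∀ i, LocP P (g i ≫ f)) : LocP P f := by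
  have := hQ.et.baseChange
  intro U' V' a' b' h' ha' hb' comm'
  choose U q hqe hqs using fun i => (hXi i).atlas
  have hc : ∀ i, RepWith Q (q i ≫ g i) := fun i =>
    repWith_of_locP_yon hQ hX _ (locP_comp_of_etale Q (q i) (hqe i) (g i) (hg i))
  have sqW := fun i => (hc i).rep.isPullback' a'
  have hsndQ : ∀ i, Q ((hc i).rep.snd a').left := fun i => (hc i).property_snd a'
  have hfstE : ∀ i, Etale ((hc i).rep.fst' a').left := fun i =>
    (repWith_yon_map_iff _ _).1 (repWith_fst_of_isPullback _ (sqW i) ha')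
  refine of_family (P := P) (Q := Q) (fun i => ((hc i).rep.pullback a').left)
    (fun i => ((hc i).rep.snd a').left) hsndQ ?_ h'.left ?_
  · -- jointly surjective
    intro u'
    obtain ⟨i, xi, hxi⟩ := hsurj (Points.ofPt a' u')
    have hqsurj : Function.Surjective (Points.map (q i)) :=
      Groth.Agent.Lib.AlgSpPoints.surjective_map_of_representable (hqe i).rep
        (fun T t => ((hqs i).property _ _ _ ((hqe i).rep.isPullback t)).surj)
    obtain ⟨y, hy⟩ := hqsurj xi
    have hmap : Points.map (q i ≫ g i) y = Points.ofPt a' u' := by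
      rw [Points.map_comp]
      simp only [hy, hxi]
    obtain ⟨t', ht', -⟩ := Groth.Agent.Lib.AlgSpPoints.exists_of_isPullback_yon (sqW i) y u' hmap
    exact ⟨i, t', ht'⟩
  · intro i
    have hα : RepWith @Etale ((yon S).map ((hc i).rep.fst' a') ≫ q i) :=
      MorphismProperty.comp_mem _ _ _ ((repWith_yon_map_iff _ _).2 (hfstE i)) (hqe i)
    have hcomm : ((yon S).map ((hc i).rep.fst' a') ≫ q i) ≫ g i ≫ f =
        (yon S).map ((hc i).rep.snd a' ≫ h') ≫ b' := by
      have e := (sqW i).w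
      rw [Functor.map_comp, Category.assoc, Category.assoc, ← comm', ← Category.assoc (q i),
        ← Category.assoc, e, Category.assoc]
    exact h i _ b' ((hc i).rep.snd a' ≫ h') hα hb' hcomm

/-- (⇒): `LocP P` is preserved by precomposition with a `LocP Q` morphism. -/
theorem locP_comp_cover {P Q : MorphismProperty Scheme.{u}} (hQ : CovClass Q)
    [P.IsLocalAtSource (Scheme.precoverage Q)] {X' X Y : Sp S} (hX : IsAlgSpace X)
    (g : X' ⟶ X) (hg : LocP Q g) (f : X ⟶ Y) (h : LocP P f) : LocP P (g ≫ f) := by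
  have := hQ.et.baseChange
  intro A V' α b' k hα hb' comm
  obtain ⟨U, a, hae, has⟩ := hX.atlas
  have hc : RepWith Q (α ≫ g) := repWith_of_locP_yon hQ hX _ (locP_comp_of_etale Q α hα g hg)
  -- T = U ×_X A
  have sqT := hae.rep.isPullback' (α ≫ g)
  have hsndE : Etale (hae.rep.snd (α ≫ g)).left := hae.property_snd _
  have hsndS : Surjective (hae.rep.snd (α ≫ g)).left :=
    has.property _ _ _ (hae.rep.isPullback (α ≫ g))
  have hfstQ : Q (hae.rep.fst' (α ≫ g)).left :=
    (repWith_yon_map_iff _ _).1 (repWith_fst_of_isPullback _ sqT hc)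
  -- N = V' ×_Y U
  have sqN := hb'.rep.isPullback' (a ≫ f)
  have hNsndE : Etale (hb'.rep.snd (a ≫ f)).left := hb'.property_snd _
  have hchart : RepWith @Etale ((yon S).map (hb'.rep.snd (a ≫ f)) ≫ a) :=
    MorphismProperty.comp_mem _ _ _ ((repWith_yon_map_iff _ _).2 hNsndE) hae
  have hPN : P (hb'.rep.fst' (a ≫ f)).left :=
    h _ b' (hb'.rep.fst' (a ≫ f)) hchart hb' (by rw [Category.assoc]; exact sqN.w.symm)
  -- ℓ : T ⟶ N
  have hl : (yon S).map (hae.rep.snd (α ≫ g) ≫ k) ≫ b' =
      (yon S).map (hae.rep.fst' (α ≫ g)) ≫ a ≫ f := by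
    have e := sqT.w
    calc (yon S).map (hae.rep.snd (α ≫ g) ≫ k) ≫ b'
        = (yon S).map (hae.rep.snd (α ≫ g)) ≫ (yon S).map k ≫ b' := by
          rw [Functor.map_comp, Category.assoc]
      _ = (yon S).map (hae.rep.snd (α ≫ g)) ≫ α ≫ g ≫ f := by rw [comm]
      _ = ((yon S).map (hae.rep.snd (α ≫ g)) ≫ α ≫ g) ≫ f := by simp only [Category.assoc]
      _ = ((yon S).map (hae.rep.fst' (α ≫ g)) ≫ a) ≫ f := by rw [e]
      _ = _ := by rw [Category.assoc]
  let l := hb'.rep.lift' (hae.rep.snd (α ≫ g) ≫ k) (hae.rep.fst' (α ≫ g)) hl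
  have hl1 : l ≫ hb'.rep.fst' (a ≫ f) = hae.rep.snd (α ≫ g) ≫ k := hb'.rep.lift'_fst _ _ _
  have hl2 : l ≫ hb'.rep.snd (a ≫ f) = hae.rep.fst' (α ≫ g) := hb'.rep.lift'_snd _ _ _
  have hlQ : Q l.left := by
    apply hQ.et.cancel l.left (hb'.rep.snd (a ≫ f)).left hNsndE
    rw [← Over.comp_left, hl2]
    exact hfstQ
  have h1 : P (l.left ≫ (hb'.rep.fst' (a ≫ f)).left) :=
    comp_of_mem (P := P) (Q := Q) (fun B => hQ.etale_le _ inferInstance) _ _ hlQ hPN
  rw [← Over.comp_left, hl1, Over.comp_left] at h1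
  exact of_single (P := P) (Q := Q) _ (hQ.etale_le _ hsndE) hsndS _ h1


/-! ### Locality on the source for `IsCover (LocP Q)` -/

theorem isLocalOnSource_locP {P Q : MorphismProperty Scheme.{u}} (hQ : CovClass Q)
    [P.IsLocalAtSource (Scheme.precoverage Q)] :
    IsLocalOnSource (S := S) (fun _ _ Y g => IsCover (LocP Q) Y g) (LocP P) := by
  intro ι X Xi g hX hXi hcov Y f _
  exact ⟨fun h i => locP_comp_cover hQ hX (g i) (hcov.1 i) f h,
    fun h => locP_of_cover hQ Xi g hX hXi hcov.1 hcov.2 f h⟩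

/-! ### The three covering classes -/

theorem covClass_etale : CovClass @Etale.{u} where
  et := etLocalClass_etale
  desc := inferInstance
  etale_le _ _ _ h := h

theorem covClass_smooth : CovClass @Smooth.{u} where
  et := etLocalClass_smooth
  desc := inferInstance
  etale_le _ _ g h := by
    have : Etale g := h
    exact (inferInstance : Smooth g)

theorem covClass_fppf :
    CovClass (@Flat ⊓ @LocallyOfFinitePresentation : MorphismProperty Scheme.{u}) where
  et := etLocalClass_flat.inf etLocalClass_lfp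
  desc := inferInstance
  etale_le _ _ g h := by
    have : Etale g := h
    exact ⟨(inferInstance : Flat g), (inferInstance : LocallyOfFinitePresentation g)⟩

theorem locP_inf_iff (P Q : MorphismProperty Scheme.{u}) {X Y : Sp S} (f : X ⟶ Y) :
    LocP (P ⊓ Q) f ↔ LocP P f ∧ LocP Q f :=
  ⟨fun h => ⟨fun _ _ a b k ha hb c => (h a b k ha hb c).1,
      fun _ _ a b k ha hb c => (h a b k ha hb c).2⟩,
    fun h _ _ a b k ha hb c => ⟨h.1 a b k ha hb c, h.2 a b k ha hb c⟩⟩

/-- Étale coverings. -/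
theorem isLocalOnSource_etCover {P : MorphismProperty Scheme.{u}}
    [P.IsLocalAtSource (Scheme.precoverage @Etale)] :
    IsLocalOnSource (IsEtCover (S := S)) (LocP P) := by
  intro ι X Xi g hX hXi hcov Y f hY
  exact isLocalOnSource_locP (P := P) covClass_etale Xi g hX hXi
    ⟨fun i => (isEtaleMor_iff_locP hX (g i)).1 (hcov.1 i), hcov.2⟩ f hY

/-- Smooth coverings. -/
theorem isLocalOnSource_smCover {P : MorphismProperty Scheme.{u}}
    [P.IsLocalAtSource (Scheme.precoverage @Smooth)] :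
    IsLocalOnSource (IsSmCover (S := S)) (LocP P) := by
  intro ι X Xi g hX hXi hcov Y f hY
  exact isLocalOnSource_locP (P := P) covClass_smooth Xi g hX hXi hcov f hY

/-- Fppf coverings. -/
theorem isLocalOnSource_fppfCover {P : MorphismProperty Scheme.{u}}
    [P.IsLocalAtSource (Scheme.precoverage (@Flat ⊓ @LocallyOfFinitePresentation))] :
    IsLocalOnSource (IsFppfCover (S := S)) (LocP P) := by
  intro ι X Xi g hX hXi hcov Y f hY
  exact isLocalOnSource_locP (P := P) covClass_fppf Xi g hX hXi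
    ⟨fun i => (locP_inf_iff _ _ _).2 (hcov.1 i), hcov.2⟩ f hY

/-! ### Étale-locality at the source from `EtLocalClass` -/

theorem isLocalAtSource_etale {P : MorphismProperty Scheme.{u}} (hP : EtLocalClass P)
    [IsZariskiLocalAtSource P] : P.IsLocalAtSource (Scheme.precoverage @Etale) := by
  apply MorphismProperty.IsLocalAtSource.mk_of_small.{u}
  · intro X Y f 𝒰 hf i
    exact hP.pre _ _ (Scheme.Cover.map_prop 𝒰 i) hf
  · intro X Y f 𝒰 h
    have h1 : Etale (Sigma.desc 𝒰.f) :=
      IsZariskiLocalAtSource.sigmaDesc (fun i => Scheme.Cover.map_prop 𝒰 i)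
    have h2 : Surjective (Sigma.desc 𝒰.f) := by
      refine ⟨fun x => ?_⟩
      obtain ⟨i, y, hy⟩ := Scheme.Cover.exists_eq 𝒰 x
      refine ⟨(Sigma.ι 𝒰.X i) y, ?_⟩
      rw [← Scheme.Hom.comp_apply, Sigma.ι_desc]
      exact hy
    apply hP.src (Sigma.desc 𝒰.f) f h1 h2
    have e1 : Sigma.desc 𝒰.f ≫ f = Sigma.desc (fun i => 𝒰.f i ≫ f) := by
      apply Sigma.hom_ext
      intro k
      rw [Sigma.ι_desc_assoc, Sigma.ι_desc]
    rw [e1]
    exact IsZariskiLocalAtSource.sigmaDesc (fun i => h i)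

end Groth.Agent.Lib.AlgSpSrcCover
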