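import Groth.Agent.Lib.H86AlgSpSub

/-!
# helper86: the open subsheaf of a sheaf cut out by a set of points
-/

set_option autoImplicit false
set_option linter.style.haveILetI false
universe u
open CategoryTheory CategoryTheory.Limits AlgebraicGeometry Opposite

namespace Groth.Agent.Lib.H86AlgSpOpen

open AlgSp Groth.Agent.Lib.H86AlgSpPoints Groth.Agent.Lib.H86AlgSpSub

variable {S : Scheme.{u}}

set_option backward.isDefEq.respectTransparency.types false in
theorem fppfPrecoverage_hasIsos : (Scheme.fppfPrecoverage.{u}).HasIsos := by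
  unfold Scheme.fppfPrecoverage
  haveI : (@Flat ⊓ @LocallyOfFinitePresentation : MorphismProperty Scheme.{u}).ContainsIdentities :=
    ⟨fun X => ⟨inferInstance, inferInstance⟩⟩
  infer_instance

/-- Covering sieves for the fppf topology over `S` are jointly surjective. -/
theorem exists_of_mem_J {T : Over S} {R : Sieve T} (hR : R ∈ J S T) (t : ↥T.left) :
    ∃ (T' : Over S) (φ : T' ⟶ T) (t' : ↥T'.left), R φ ∧ φ.left t' = t := by
  have h1 : Sieve.overEquiv T R ∈ Scheme.fppfTopology T.left := hR
  haveI : Scheme.fppfPrecoverage.{u}.HasIsos := fppfPrecoverage_hasIsos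
  rw [Precoverage.mem_toGrothendieck_iff_of_isStableUnderComposition] at h1
  obtain ⟨R', hR', hle⟩ := h1
  have h2 : R' ∈ Scheme.jointlySurjectivePrecoverage T.left := hR'.1
  rw [Presieve.mem_comap_jointlySurjectivePrecoverage_iff] at h2
  obtain ⟨Y, g, hg, t', ht'⟩ := h2 t
  have h3 := hle Y g hg
  rw [Sieve.overEquiv_iff] at h3
  exact ⟨Over.mk (g ≫ T.hom), Over.homMk g, t', h3, ht'⟩

/-- The subfunctor of sections of `F` all of whose points lie in `W`. -/
def subW (F : Sp S) (W : Set (Points F)) : Subfunctor F.obj where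
  obj T := {s | ∀ t : ↥T.unop.left, Points.ofPt (yE.symm s) t ∈ W}
  map {T T'} φ s hs t := by
    rw [show φ = φ.unop.op from rfl, ← yon_map_comp_yE_symm, ofPt_map_comp]
    exact hs _

theorem mem_subW_iff {F : Sp S} {W : Set (Points F)} {T : (Over S)ᵒᵖ} (s : F.obj.obj T) :
    s ∈ (subW F W).obj T ↔ ∀ t : ↥T.unop.left, Points.ofPt (yE.symm s) t ∈ W := Iff.rfl

theorem subW_isSheaf (F : Sp S) (W : Set (Points F)) :
    Presieve.IsSheaf (J S) (subW F W).toFunctor := by
  rw [Subfunctor.isSheaf_iff _ ((isSheaf_iff_isSheaf_of_type _ _).1 F.property)]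
  intro T s hs t
  obtain ⟨T', φ, t', hφ, rfl⟩ := exists_of_mem_J hs t
  have h1 : Points.ofPt (yE.symm (F.obj.map φ.op s)) t' ∈ W := hφ t'
  rwa [← yon_map_comp_yE_symm, ofPt_map_comp] at h1

/-- The subsheaf of `F` of sections all of whose points lie in `W`. -/
def openSub (F : Sp S) (W : Set (Points F)) : Sp S :=
  ⟨(subW F W).toFunctor, (isSheaf_iff_isSheaf_of_type _ _).2 (subW_isSheaf F W)⟩

/-- The inclusion of `openSub F W` into `F`. -/
def openSubι (F : Sp S) (W : Set (Points F)) : openSub F W ⟶ F :=
  ObjectProperty.homMk (subW F W).ι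

theorem app_eq_map_yE {F : Sp S} {T T' : Over S} (f : (yon S).obj T ⟶ F) (g : T' ⟶ T) :
    f.hom.app (op T') ⟨g⟩ = F.obj.map g.op (yE f) :=
  (GrothendieckTopology.map_uliftYonedaEquiv.{u + 1} (J S) f g).symm

/-- A commutative square of sheaves which is a pullback on sections is a pullback. -/
theorem isPullback_of_sections {W F G H : Sp S} {fst : W ⟶ F} {snd : W ⟶ G} {f : F ⟶ H}
    {g : G ⟶ H} (w : fst ≫ f = snd ≫ g)
    (hinj : ∀ (T : (Over S)ᵒᵖ) (c c' : W.obj.obj T), fst.hom.app T c = fst.hom.app T c' →
      snd.hom.app T c = snd.hom.app T c' → c = c')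
    (hsurj : ∀ (T : (Over S)ᵒᵖ) (a : F.obj.obj T) (b : G.obj.obj T),
      f.hom.app T a = g.hom.app T b → ∃ c, fst.hom.app T c = a ∧ snd.hom.app T c = b) :
    IsPullback fst snd f g := by
  apply IsPullback.of_map (sheafToPresheaf (J S) (Type (u + 1))) w
  apply IsPullback.of_forall_isPullback_app
  intro T
  rw [Types.isPullback_iff]
  refine ⟨?_, fun c c' ⟨h1, h2⟩ => hinj T c c' h1 h2, hsurj T⟩
  have := congrArg (fun k => k.hom.app T) w
  exact this

section pullback

variable {F : Sp S} {W : Set (Points F)} (hW : IsOpen W) {T : Over S} (g : (yon S).obj T ⟶ F)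

/-- The open subscheme of `T` of points mapping into `W`. -/
def preimageOpens : T.left.Opens := ⟨Points.ofPt g ⁻¹' W, (Points.continuous_ofPt g).isOpen_preimage _ hW⟩

/-- The open subscheme of `T` of points mapping into `W`, as a scheme over `S`. -/
def preimageOver : Over S := Over.mk ((preimageOpens hW g).ι ≫ T.hom)

/-- The open immersion of `preimageOver` into `T`. -/
def preimageι : preimageOver hW g ⟶ T := Over.homMk (preimageOpens hW g).ι rfl

instance : IsOpenImmersion (preimageι hW g).left := by
  change IsOpenImmersion (preimageOpens hW g).ι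
  infer_instance

theorem range_preimageι : Set.range (preimageι hW g).left = Points.ofPt g ⁻¹' W := by
  change Set.range (preimageOpens hW g).ι = _
  rw [Scheme.Opens.range_ι]
  rfl

theorem restrict_mem_subW :
    F.obj.map (preimageι hW g).op (yE g) ∈ (subW F W).obj (op (preimageOver hW g)) := by
  intro v
  rw [← yon_map_comp_yE_symm, Equiv.symm_apply_apply, ofPt_map_comp]
  have : (preimageι hW g).left v ∈ Set.range (preimageι hW g).left := ⟨v, rfl⟩
  rw [range_preimageι] at this
  exact this

/-- The map `h_V ⟶ openSub F W` from the open subscheme `V` of `T`. -/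
noncomputable def preimageFst : (yon S).obj (preimageOver hW g) ⟶ openSub F W :=
  yE.symm ⟨F.obj.map (preimageι hW g).op (yE g), restrict_mem_subW hW g⟩

theorem preimage_w :
    preimageFst hW g ≫ openSubι F W = (yon S).map (preimageι hW g) ≫ g := by
  apply yE.injective
  rw [yE_comp, ← yE_map]
  change (openSubι F W).hom.app _ (yE (yE.symm _)) = _
  rw [Equiv.apply_symm_apply]
  rfl

theorem preimage_isPullback :
    IsPullback (preimageFst hW g) ((yon S).map (preimageι hW g)) (openSubι F W) g := by
  refine isPullback_of_sections (preimage_w hW g) ?_ ?_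
  · rintro T' ⟨c⟩ ⟨c'⟩ - h2
    have h3 : c ≫ preimageι hW g = c' ≫ preimageι hW g := congrArg ULift.down h2
    have h4 : c.left ≫ (preimageι hW g).left = c'.left ≫ (preimageι hW g).left :=
      congrArg (fun k => k.left) h3
    have h5 : c.left = c'.left := (cancel_mono _).1 h4
    exact congrArg ULift.up (Over.OverMorphism.ext h5)
  · rintro ⟨T'⟩ ⟨a, ha⟩ ⟨b⟩ hab
    -- `a = g ∘ b`
    have hab' : a = F.obj.map b.op (yE g) := by
      rw [← app_eq_map_yE]
      exact hab
    -- `b` lands in the open subscheme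
    have hrange : Set.range b.left ⊆ Set.range (preimageι hW g).left := by
      rintro _ ⟨t', rfl⟩
      rw [range_preimageι]
      change Points.ofPt g (b.left t') ∈ W
      rw [← ofPt_map_comp]
      have h1 := ha t'
      rwa [hab', ← yon_map_comp_yE_symm, Equiv.symm_apply_apply] at h1
    let c₀ : T'.left ⟶ (preimageOver hW g).left :=
      IsOpenImmersion.lift (preimageι hW g).left b.left hrange
    have hc₀ : c₀ ≫ (preimageι hW g).left = b.left := IsOpenImmersion.lift_fac _ _ _
    let c : T' ⟶ preimageOver hW g := Over.homMk c₀ (by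
      change c₀ ≫ (preimageι hW g).left ≫ T.hom = T'.hom
      rw [← Category.assoc, hc₀]
      exact Over.w b)
    have hc : c ≫ preimageι hW g = b := Over.OverMorphism.ext hc₀
    refine ⟨⟨c⟩, ?_, ?_⟩
    · apply Subtype.ext
      change ((preimageFst hW g).hom.app (op T') ⟨c⟩).1 = a
      rw [app_eq_map_yE]
      have e1 : yE (preimageFst hW g) =
          ⟨F.obj.map (preimageι hW g).op (yE g), restrict_mem_subW hW g⟩ :=
        Equiv.apply_symm_apply _ _
      rw [e1]
      change F.obj.map c.op (F.obj.map (preimageι hW g).op (yE g)) = a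
      rw [hab', ← hc]
      simp
    · change ULift.up (c ≫ preimageι hW g) = ULift.up b
      rw [hc]

end pullback

/-- `openSubι` is representable by open immersions (for `W` open). -/
theorem openSubι_repWith {F : Sp S} {W : Set (Points F)} (hW : IsOpen W) :
    RepWith @IsOpenImmersion (openSubι F W) :=
  MorphismProperty.relative.of_exists fun _ g =>
    ⟨preimageOver hW g, preimageFst hW g, preimageι hW g, preimage_isPullback hW g,
      (inferInstance : IsOpenImmersion (preimageι hW g).left)⟩

instance openSubι_mono {F : Sp S} {W : Set (Points F)} : Mono (openSubι F W) := by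
  constructor
  intro Z a b h
  apply ObjectProperty.hom_ext
  ext T z
  have h1 := congrArg (fun k => k.hom.app T z) h
  exact Subtype.ext h1

/-- The image of `|openSub F W|` in `|F|` is `W`. -/
theorem range_map_openSubι {F : Sp S} {W : Set (Points F)} :
    Set.range (Points.map (openSubι F W)) = W := by
  ext x
  constructor
  · rintro ⟨y, rfl⟩
    induction y using Points.ind with | h q => ?_
    rw [Points.map_mk, mk_eq_ofPt_toHom]
    exact q.val.2 (IsLocalRing.closedPoint q.K)
  · intro hx
    induction x using Points.ind with | h q => ?_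
    refine ⟨Points.mk ⟨q.K, q.str, ⟨q.val, ?_⟩⟩, rfl⟩
    intro t
    have ht : t = IsLocalRing.closedPoint q.K :=
      Subsingleton.elim (α := PrimeSpectrum q.K) _ _
    rw [ht]
    have := mk_eq_ofPt_toHom q
    rw [this] at hx
    exact hx

theorem isPullback_of_comp_mono {C : Type*} [Category C] {P X Y Z Z' : C} {fst : P ⟶ X}
    {snd : P ⟶ Y} {f : X ⟶ Z} {g : Y ⟶ Z} (i : Z ⟶ Z') [Mono i]
    (h : IsPullback fst snd (f ≫ i) (g ≫ i)) : IsPullback fst snd f g :=
  ⟨⟨(cancel_mono i).1 (by simpa using h.w)⟩,
    ⟨PullbackCone.IsLimit.mk _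
      (fun s => h.lift s.fst s.snd (by rw [← Category.assoc, s.condition, Category.assoc]))
      (fun s => h.lift_fst _ _ _) (fun s => h.lift_snd _ _ _)
      (fun s m h1 h2 => h.hom_ext (by simpa using h1) (by simpa using h2))⟩⟩

/-- An open subsheaf of an algebraic space is an algebraic space. -/
theorem isAlgSpace_openSub {F : Sp S} (hF : IsAlgSpace F) {W : Set (Points F)} (hW : IsOpen W) :
    IsAlgSpace (openSub F W) where
  diag := by
    apply Functor.relativelyRepresentable.diag_of_map_from_obj
    intro T g' T' b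
    obtain ⟨V, snd, fst, hpb⟩ := hF.representable_from_yon (g' ≫ openSubι F W) (b ≫ openSubι F W)
    exact ⟨V, snd, fst, isPullback_of_comp_mono (openSubι F W) hpb⟩
  atlas := by
    obtain ⟨U, p, hpe, hps⟩ := hF.atlas
    have sq := preimage_isPullback hW p
    exact ⟨preimageOver hW p, preimageFst hW p, AlgSpBasic.repWith_fst_of_isPullback _ sq hpe,
      AlgSpBasic.repWith_fst_of_isPullback _ sq hps⟩

theorem isPullback_comp_mono {C : Type*} [Category C] {P X Y Z Z' : C} {fst : P ⟶ X}
    {snd : P ⟶ Y} {f : X ⟶ Z} {g : Y ⟶ Z} (i : Z ⟶ Z') [Mono i]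
    (h : IsPullback fst snd f g) : IsPullback fst snd (f ≫ i) (g ≫ i) :=
  ⟨⟨by rw [← Category.assoc, h.w, Category.assoc]⟩,
    ⟨PullbackCone.IsLimit.mk _
      (fun s => h.lift s.fst s.snd ((cancel_mono i).1 (by simpa using s.condition)))
      (fun s => h.lift_fst _ _ _) (fun s => h.lift_snd _ _ _)
      (fun s m h1 h2 => h.hom_ext (by simpa using h1) (by simpa using h2))⟩⟩

/-- `RepWith P` cancels a monomorphism on the right. -/
theorem repWith_of_comp_mono {P : MorphismProperty Scheme.{u}} {F G H : Sp S} {f : F ⟶ G}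
    (i : G ⟶ H) [Mono i] (h : RepWith P (f ≫ i)) : RepWith P f :=
  ⟨fun T g => by
      obtain ⟨V, snd, fst, hpb⟩ := h.1 (g ≫ i)
      exact ⟨V, snd, fst, isPullback_of_comp_mono i hpb⟩,
    fun T V g fst snd hpb => h.2 (g ≫ i) fst snd (isPullback_comp_mono i hpb)⟩

/-- A monomorphism of sheaves is injective on points. -/
theorem map_injective_of_mono {F G : Sp S} (i : F ⟶ G) [Mono i] :
    Function.Injective (Points.map i) := by
  intro x1 x2 h
  have sq : IsPullback (𝟙 F) (𝟙 F) i i := IsKernelPair.id_of_mono i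
  obtain ⟨w, h1, h2⟩ := exists_of_isPullback sq x1 x2 h
  rw [Points.map_id] at h1 h2
  exact h1.symm.trans h2

theorem range_map_eq_range_ofPt {F : Sp S} {U : Over S} (a : (yon S).obj U ⟶ F) :
    Set.range (Points.map a) = Set.range (Points.ofPt a) := by
  ext x
  constructor
  · rintro ⟨y, rfl⟩
    exact ⟨Points.toScheme U y, by rw [Points.ofPt_eq_map_ofScheme, Points.ofScheme_toScheme]⟩
  · rintro ⟨u, rfl⟩
    exact ⟨Points.ofScheme U u, (Points.ofPt_eq_map_ofScheme a u).symm⟩

/-- A representable morphism which is surjective on points is representable surjective. -/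
theorem repWith_surjective_of_surjective {F G : Sp S} {f : F ⟶ G} (hf : Representable f)
    (hs : Function.Surjective (Points.map f)) : RepWith @Surjective f :=
  ⟨hf, fun T V g fst snd hpb => ⟨fun t => by
    have := range_left_eq_preimage hpb
    rw [hs.range_eq, Set.preimage_univ] at this
    exact Set.range_eq_univ.1 this t⟩⟩

/-- Lifting points to a represented pullback `h_V = F ×_G h_T`. -/
theorem exists_of_isPullback_rep {F G : Sp S} {T V : Over S} {f : F ⟶ G} {g : (yon S).obj T ⟶ G}
    {fst : (yon S).obj V ⟶ F} {snd : V ⟶ T} (hpb : IsPullback fst ((yon S).map snd) f g)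
    (z : Points F) (t : ↥T.left) (h : Points.map f z = Points.ofPt g t) :
    ∃ v : ↥V.left, Points.ofPt fst v = z ∧ snd.left v = t := by
  obtain ⟨w, hw1, hw2⟩ := exists_of_isPullback hpb z (Points.ofScheme T t)
    (by rw [h, Points.ofPt_eq_map_ofScheme])
  refine ⟨Points.toScheme V w, ?_, ?_⟩
  · rw [Points.ofPt_eq_map_ofScheme, Points.ofScheme_toScheme, hw1]
  · rw [← Points.ofScheme_toScheme V w, ← Points.ofPt_eq_map_ofScheme, ofPt_yon_map] at hw2
    exact (Points.schemeEquiv T).injective hw2

/-- Compatibility of points in a represented commutative square. -/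
theorem map_ofPt_fst {F G : Sp S} {T V : Over S} {f : F ⟶ G} {g : (yon S).obj T ⟶ G}
    {fst : (yon S).obj V ⟶ F} {snd : V ⟶ T} (w : fst ≫ f = (yon S).map snd ≫ g) (v : ↥V.left) :
    Points.map f (Points.ofPt fst v) = Points.ofPt g (snd.left v) := by
  rw [Points.map_ofPt, w, ofPt_map_comp]

end Groth.Agent.Lib.H86AlgSpOpen
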