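import Groth.Prelude.Def_AlgSp4
import Mathlib.AlgebraicGeometry.Morphisms.LocalFlatDescent
import Mathlib.AlgebraicGeometry.Morphisms.QuasiFinite
import Mathlib.RingTheory.Unramified.LocalStructure

/-!
# Basic toolkit for algebraic spaces (`AlgSp`) — helper46

Shared lemmas about `AlgSp.RepWith`, `AlgSp.Representable`, charts and fibre products of charts.
-/

universe u

open CategoryTheory CategoryTheory.Limits AlgebraicGeometry Opposite

namespace Groth.Agent.Lib.AlgSpBasic

open AlgSp

variable {S : Scheme.{u}}

/-- A morphism of sheaves which is representable by monomorphisms of schemes is a monomorphism. -/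
theorem mono_of_repWith {P : MorphismProperty Scheme.{u}}
    (hP : P ≤ MorphismProperty.monomorphisms Scheme.{u}) {F G : Sp S} {f : F ⟶ G}
    (hf : RepWith P f) : Mono f := by
  suffices ∀ {X : Over S} {a b : (yon S).obj X ⟶ F}, a ≫ f = b ≫ f → a = b from
    ⟨fun _ _ h => (J S).hom_ext_uliftYoneda (fun _ _ => this (by simp only [Category.assoc, h]))⟩
  intro X a b h
  suffices hf.rep.lift (g := a ≫ f) a (𝟙 X) (by simp) = hf.rep.lift b (𝟙 X) (by simp [← h]) by
    simpa using (yon S).congr_map this =≫ (hf.rep.fst (a ≫ f))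
  have h1 : Mono (hf.rep.snd (a ≫ f)).left := hP _ (hf.property_snd (a ≫ f))
  have h2 : Mono (hf.rep.snd (a ≫ f)) := Over.mono_of_mono_left _
  simp only [← cancel_mono (hf.rep.snd (a ≫ f)), Functor.relativelyRepresentable.lift_snd]

/-- Base change of `RepWith P` along a pullback square (`snd` is the base change of `f`). -/
theorem repWith_snd_of_isPullback (P : MorphismProperty Scheme.{u}) {F G Z Z' : Sp S} {f : F ⟶ G}
    {g : Z ⟶ G} {fst : Z' ⟶ F} {snd : Z' ⟶ Z} (sq : IsPullback fst snd f g) (hf : RepWith P f) :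
    RepWith P snd :=
  MorphismProperty.of_isPullback sq hf

/-- Base change of `RepWith P` along a pullback square (`fst` is the base change of `g`). -/
theorem repWith_fst_of_isPullback (P : MorphismProperty Scheme.{u}) {F G Z Z' : Sp S} {f : F ⟶ G}
    {g : Z ⟶ G} {fst : Z' ⟶ F} {snd : Z' ⟶ Z} (sq : IsPullback fst snd f g) (hg : RepWith P g) :
    RepWith P fst :=
  MorphismProperty.of_isPullback sq.flip hg

/-- A morphism representable by quasi-compact morphisms of schemes is a quasi-compact morphism of
sheaves in the sense of `AlgSp.IsQuasiCompactMor`. -/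
theorem isQuasiCompactMor_of_repWith {P : MorphismProperty Scheme.{u}}
    (hP : P ≤ @QuasiCompact) {F G : Sp S} {f : F ⟶ G} (hf : RepWith P f) :
    IsQuasiCompactMor f := by
  intro Z Z' _ hZ g fst snd sq
  obtain ⟨W, p, hpe, hps, hW⟩ := hZ
  have hsnd : RepWith P snd := repWith_snd_of_isPullback P sq hf
  have sq' := hsnd.rep.isPullback p
  refine ⟨hsnd.rep.pullback p, hsnd.rep.fst p, repWith_fst_of_isPullback _ sq' hpe,
    repWith_fst_of_isPullback _ sq' hps, ?_⟩
  have h1 : QuasiCompact (hsnd.rep.snd p).left := hP _ (hsnd.property_snd p)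
  exact QuasiCompact.compactSpace_of_compactSpace (hsnd.rep.snd p).left

/-- `RepWith` of an intersection of properties. -/
theorem repWith_inf_iff (P Q : MorphismProperty Scheme.{u}) {F G : Sp S} (f : F ⟶ G) :
    RepWith (P ⊓ Q) f ↔ RepWith P f ∧ RepWith Q f :=
  ⟨fun h => ⟨⟨h.1, fun _ _ g fst snd sq => (h.2 g fst snd sq).1⟩,
    ⟨h.1, fun _ _ g fst snd sq => (h.2 g fst snd sq).2⟩⟩,
   fun h => ⟨h.1.1, fun _ _ g fst snd sq => ⟨h.1.2 g fst snd sq, h.2.2 g fst snd sq⟩⟩⟩

/-- Monotonicity of `RepWith`. -/
theorem repWith_mono {P Q : MorphismProperty Scheme.{u}} (h : P ≤ Q) {F G : Sp S} {f : F ⟶ G}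
    (hf : RepWith P f) : RepWith Q f :=
  ⟨hf.1, fun _ _ g fst snd sq => h _ (hf.2 g fst snd sq)⟩

/-- The fppf covering property of morphisms of schemes. -/
abbrev fppfCov : MorphismProperty Scheme.{u} :=
  @Surjective ⊓ @Flat ⊓ @LocallyOfFinitePresentation

/-- A representable etale surjective morphism is representable fppf-covering. -/
theorem repWith_fppfCov_of_etale_surjective {F G : Sp S} {c : F ⟶ G} (hc : RepWith @Etale c)
    (hcs : RepWith @Surjective c) : RepWith fppfCov c := by
  refine ⟨hc.1, fun _ _ g fst snd sq => ?_⟩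
  have h1 : Etale snd.left := hc.2 g fst snd sq
  have h2 : Surjective snd.left := hcs.2 g fst snd sq
  exact ⟨⟨h2, (inferInstance : Flat snd.left)⟩,
    (inferInstance : LocallyOfFinitePresentation snd.left)⟩

/-- **Descent of `RepWith P` along a representable fppf covering from a scheme**: if `f` is
representable, `c : h_V ⟶ G` is representable fppf-covering (e.g. etale surjective), and the base
change of `f` along `c` is representable with `P`, where `P` descends along fppf coverings, then
`f` is representable with `P`. -/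
theorem repWith_of_fppfCov (P : MorphismProperty Scheme.{u}) [P.RespectsIso]
    [P.DescendsAlong fppfCov] {F G Q : Sp S} {f : F ⟶ G} (hf : Representable f)
    {V : Over S} {c : (yon S).obj V ⟶ G} (hc : RepWith fppfCov c)
    {fst : Q ⟶ F} {snd : Q ⟶ (yon S).obj V} (sq : IsPullback fst snd f c)
    (hs : RepWith P snd) : RepWith P f := by
  have : (P.inverseImage (Over.forget S)).RespectsIso :=
    MorphismProperty.RespectsIso.inverseImage P _
  refine MorphismProperty.relative_of_snd hf (fun T g => ?_)
  -- the represented pullback of `f` along `g`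
  set w := hf.snd g with hw
  set wf := hf.fst g with hwf
  have sqW : IsPullback wf ((yon S).map w) f g := hf.isPullback g
  -- the covering `T' ⟶ T`
  set π := hc.rep.snd g with hπ
  set g' := hc.rep.fst g with hg'
  have sqT : IsPullback g' ((yon S).map π) c g := hc.rep.isPullback g
  have hπc : fppfCov π.left := hc.property_snd g
  -- the pullback of schemes
  have sqA : IsPullback (pullback.fst w π) (pullback.snd w π) w π := IsPullback.of_hasPullback w π
  have sqA' := sqA.map (yon S)
  have sqAl := sqA.map (Over.forget S)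
  -- the big square
  have sqC : IsPullback ((yon S).map (pullback.snd w π)) ((yon S).map (pullback.fst w π) ≫ wf)
      (g' ≫ c) f := by
    have := sqA'.flip.paste_vert sqW.flip
    rwa [← sqT.w] at this
  -- the lift to `Q`
  have hcomm : ((yon S).map (pullback.fst w π) ≫ wf) ≫ f =
      ((yon S).map (pullback.snd w π) ≫ g') ≫ c := by
    rw [Category.assoc, Category.assoc]; exact sqC.w.symm
  set l := sq.lift ((yon S).map (pullback.fst w π) ≫ wf) ((yon S).map (pullback.snd w π) ≫ g') hcomm
    with hl
  have hl1 : l ≫ fst = (yon S).map (pullback.fst w π) ≫ wf := sq.lift_fst _ _ _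
  have hl2 : l ≫ snd = (yon S).map (pullback.snd w π) ≫ g' := sq.lift_snd _ _ _
  have sqD : IsPullback ((yon S).map (pullback.snd w π)) l g' snd := by
    refine IsPullback.of_bot ?_ hl2.symm sq.flip
    rw [hl1]; exact sqC
  have hP : P (pullback.snd w π).left := hs.property g' l _ sqD.flip
  exact MorphismProperty.DescendsAlong.of_isPullback (Q := fppfCov) sqAl.flip hπc hP

/-! ### Etale coverings and descent of properties of morphisms of schemes -/

/-- The etale covering property of morphisms of schemes. -/
abbrev etCov : MorphismProperty Scheme.{u} := @Surjective ⊓ @Etale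

theorem etCov_le_fppfCov : (etCov : MorphismProperty Scheme.{u}) ≤ fppfCov := by
  rintro A B g ⟨h1, h2⟩
  have : Etale g := h2
  exact ⟨⟨h1, inferInstance⟩, inferInstance⟩

instance descendsAlong_etCov_of_fppfCov (P : MorphismProperty Scheme.{u})
    [P.DescendsAlong fppfCov] : P.DescendsAlong etCov :=
  MorphismProperty.DescendsAlong.of_le etCov_le_fppfCov

/-- Etale morphisms are locally quasi-finite. -/
theorem locallyQuasiFinite_of_etale {X Y : Scheme.{u}} (f : X ⟶ Y) [Etale f] :
    LocallyQuasiFinite f where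
  quasiFinite_appLE {U} hU {V} hV e := by
    have h := f.etale_appLE hU hV e
    algebraize [(f.appLE U V e).hom]
    rw [RingHom.QuasiFinite]
    infer_instance

/-- A topological lemma: if `φ` is open and surjective and `φ ⁻¹' F` is discrete then `F` is. -/
theorem isDiscrete_of_preimage {A B : Type*} [TopologicalSpace A] [TopologicalSpace B] {φ : A → B}
    (hφo : IsOpenMap φ) (hφs : Function.Surjective φ) {F : Set B} (h : IsDiscrete (φ ⁻¹' F)) :
    IsDiscrete F := by
  rw [isDiscrete_iff_forall_mem_exists_isOpen] at h ⊢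
  intro y hy
  obtain ⟨x, rfl⟩ := hφs y
  obtain ⟨O, hO, hOx⟩ := h x hy
  refine ⟨φ '' O, hφo O hO, ?_⟩
  rw [← Set.image_inter_preimage, hOx, Set.image_singleton]

/-- Locally quasi-finite (for morphisms locally of finite type) descends along etale coverings. -/
theorem locallyQuasiFinite_of_isPullback {U' U V' V : Scheme.{u}} {ψ : U' ⟶ V'} {φ : U' ⟶ U}
    {π : V' ⟶ V} {h : U ⟶ V} (sq : IsPullback ψ φ π h) [Etale π] [Surjective π]
    [LocallyOfFiniteType h] [LocallyQuasiFinite ψ] : LocallyQuasiFinite h := by
  rw [locallyQuasiFinite_iff_isDiscrete_preimage_singleton]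
  intro x
  have hφe : Etale φ := MorphismProperty.of_isPullback (P := @Etale) sq ‹Etale π›
  have hφs : Surjective φ := MorphismProperty.of_isPullback (P := @Surjective) sq ‹Surjective π›
  refine isDiscrete_of_preimage φ.isOpenMap φ.surjective ?_
  have h1 : (φ : U' → U) ⁻¹' ((h : U → V) ⁻¹' {x}) = (ψ : U' → V') ⁻¹' ((π : V' → V) ⁻¹' {x}) := by
    ext t
    simp only [Set.mem_preimage, Set.mem_singleton_iff, ← Scheme.Hom.comp_apply, sq.w]
  rw [h1]
  have : LocallyQuasiFinite π := locallyQuasiFinite_of_etale π
  exact ψ.isDiscrete_preimage (π.isDiscrete_preimage_singleton x)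

instance descendsAlong_lqf_lft_etCov :
    (@LocallyQuasiFinite ⊓ @LocallyOfFiniteType : MorphismProperty Scheme.{u}).DescendsAlong
      etCov where
  of_isPullback {A X Y Z fst snd f g} sq hf hfst := by
    have : Surjective f := hf.1
    have : Etale f := hf.2
    have : LocallyQuasiFinite fst := hfst.1
    have h2 : LocallyOfFiniteType g :=
      MorphismProperty.DescendsAlong.of_isPullback (P := @LocallyOfFiniteType) (Q := etCov) sq hf
        hfst.2
    exact ⟨locallyQuasiFinite_of_isPullback sq, h2⟩

/-- Descent of a property of a morphism `h` of schemes over `S` along a covering `π` of its target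
(computed via the pullback in `Over S`). -/
theorem of_pullback_snd_over (P Q : MorphismProperty Scheme.{u}) [P.DescendsAlong Q]
    {U V V' : Over S} (h : U ⟶ V) (π : V' ⟶ V) (hπ : Q π.left)
    (hP : P (pullback.snd h π).left) : P h.left := by
  have sqA := (IsPullback.of_hasPullback h π).map (Over.forget S)
  exact MorphismProperty.DescendsAlong.of_isPullback (P := P) (Q := Q) sqA.flip hπ hP

/-- Base change of a property of a covering `π` along `h` (computed via the pullback in `Over S`). -/
theorem pullback_fst_over (Q : MorphismProperty Scheme.{u}) [Q.IsStableUnderBaseChange]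
    {U V V' : Over S} (h : U ⟶ V) (π : V' ⟶ V) (hπ : Q π.left) :
    Q (pullback.fst h π).left := by
  have sqA := (IsPullback.of_hasPullback h π).map (Over.forget S)
  exact MorphismProperty.of_isPullback (P := Q) sqA.flip hπ

/-! ### Diagonals -/

/-- Cancellation of a monomorphism on the right for `RepWith P`. -/
theorem repWith_of_comp_mono (P : MorphismProperty Scheme.{u}) {F G H : Sp S} (f : F ⟶ G)
    (m : G ⟶ H) [Mono m] (h : RepWith P (f ≫ m)) : RepWith P f :=
  MorphismProperty.of_postcomp (W := RepWith (S := S) P)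
    (W' := MorphismProperty.monomorphisms (Sp S)) f m ‹Mono m› h

/-- Cancellation of a monomorphism on the right for `Representable`. -/
theorem representable_of_comp_mono {F G H : Sp S} (f : F ⟶ G)
    (m : G ⟶ H) [Mono m] (h : Representable (f ≫ m)) : Representable f :=
  MorphismProperty.of_postcomp (W := Representable (S := S))
    (W' := MorphismProperty.monomorphisms (Sp S)) f m ‹Mono m› h

/-- Cancellation: if `f ≫ g` is `RepWith P` and the diagonal of `g` is `RepWith P`, so is `f`. -/
theorem repWith_of_comp (P : MorphismProperty Scheme.{u}) [P.IsStableUnderBaseChange]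
    [P.IsMultiplicative] {F G H : Sp S} (f : F ⟶ G) (g : G ⟶ H)
    (hg : RepWith P (pullback.diagonal g)) (h : RepWith P (f ≫ g)) : RepWith P f := by
  have : (RepWith (S := S) P).HasOfPostcompProperty (RepWith (S := S) P).diagonal :=
    MorphismProperty.hasOfPostcompProperty_iff_le_diagonal.mpr le_rfl
  exact MorphismProperty.of_postcomp (W := RepWith (S := S) P)
    (W' := (RepWith (S := S) P).diagonal) f g hg h

/-- Cancellation for `Representable`. -/
theorem representable_of_comp {F G H : Sp S} (f : F ⟶ G) (g : G ⟶ H)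
    (hg : Representable (pullback.diagonal g)) (h : Representable (f ≫ g)) : Representable f := by
  have : (Representable (S := S)).HasOfPostcompProperty (Representable (S := S)).diagonal :=
    MorphismProperty.hasOfPostcompProperty_iff_le_diagonal.mpr le_rfl
  exact MorphismProperty.of_postcomp (W := Representable (S := S))
    (W' := (Representable (S := S)).diagonal) f g hg h

instance mono_prod_lift_pullback {Y X : Sp S} (b : Y ⟶ X) :
    Mono (prod.lift (pullback.fst b b) (pullback.snd b b)) :=
  ⟨fun a c h => pullback.hom_ext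
    (by
      have := h =≫ prod.fst
      rwa [Category.assoc, Category.assoc, prod.lift_fst] at this)
    (by
      have := h =≫ prod.snd
      rwa [Category.assoc, Category.assoc, prod.lift_snd] at this)⟩

/-- The relative diagonal of a morphism out of a sheaf with representable (absolute) diagonal is
representable. -/
theorem representable_diagonal {Y X : Sp S} (hY : Representable (Limits.diag Y)) (b : Y ⟶ X) :
    Representable (pullback.diagonal b) := by
  refine representable_of_comp_mono (pullback.diagonal b)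
    (prod.lift (pullback.fst b b) (pullback.snd b b)) ?_
  have : pullback.diagonal b ≫ prod.lift (pullback.fst b b) (pullback.snd b b) = Limits.diag Y := by
    ext <;> simp
  rwa [this]

/-- A representable split monomorphism is representable by monomorphisms. -/
theorem repWith_mono_of_mono {F G : Sp S} {f : F ⟶ G} (hf : Representable f) [Mono f] :
    RepWith (MorphismProperty.monomorphisms Scheme.{u}) f := by
  refine ⟨hf, fun U V g fst snd sq => ?_⟩
  have h1 : Mono ((yon S).map snd) := by
    have := sq.flip
    exact MorphismProperty.of_isPullback (P := MorphismProperty.monomorphisms (Sp S)) sq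
      (inferInstance : Mono f)
  have h2 : Mono snd := (yon S).mono_of_mono_map h1
  change Mono snd.left
  infer_instance

/-- **Diagonal via an atlas.**  Let `b : Y ⟶ X` have representable diagonal, `p : h_U ⟶ Y` be an etale
surjective atlas with `p ≫ b` representable.  With `R = U ×_Y U` and `U₂ = U ×_X U`, if every
morphism `ρ : R ⟶ U₂` over `U` (second projections) has `P`, and `P` descends along fppf coverings,
then the diagonal of `b` is representable with `P`. -/
theorem repWith_diagonal_of_atlas (P : MorphismProperty Scheme.{u}) [P.IsStableUnderBaseChange]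
    [P.DescendsAlong fppfCov] {Y X : Sp S} (b : Y ⟶ X)
    (hΔ : Representable (pullback.diagonal b)) {U : Over S} (p : (yon S).obj U ⟶ Y)
    (hp : RepWith @Etale p) (hps : RepWith @Surjective p) (hpb : Representable (p ≫ b))
    (hρ : ∀ (ρ : hp.rep.pullback p ⟶ hpb.pullback (p ≫ b)),
      ρ ≫ hpb.snd (p ≫ b) = hp.rep.snd p → P ρ.left) :
    RepWith P (pullback.diagonal b) := by
  have : P.RespectsIso := MorphismProperty.IsStableUnderBaseChange.respectsIso
  have sqR := hp.rep.isPullback p
  have sqU2 := hpb.isPullback (p ≫ b)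
  set eR := sqR.isoPullback with heR
  set e2 := sqU2.isoPullback with he2
  set M := pullback.map (p ≫ b) (p ≫ b) b b p p (𝟙 X) (Category.comp_id _) (Category.comp_id _)
    with hM
  set N := pullback.map p p (p ≫ b) (p ≫ b) (𝟙 _) (𝟙 _) b (Category.id_comp _).symm
    (Category.id_comp _).symm with hN
  have hMe : RepWith @Etale M :=
    MorphismProperty.pullbackMap (P := RepWith (S := S) @Etale) hp hp rfl rfl
  have hMs : RepWith @Surjective M :=
    MorphismProperty.pullbackMap (P := RepWith (S := S) @Surjective) hps hps rfl rfl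
  have hc : RepWith fppfCov (e2.hom ≫ M) :=
    repWith_fppfCov_of_etale_surjective
      (MorphismProperty.RespectsIso.precomp _ e2.hom M hMe)
      (MorphismProperty.RespectsIso.precomp _ e2.hom M hMs)
  have sq0 : IsPullback (pullback.fst p p ≫ p) N (pullback.diagonal b) M :=
    pullback_map_diagonal_isPullback p p b
  have sq1 : IsPullback (pullback.fst p p ≫ p) (N ≫ e2.inv) (pullback.diagonal b) (e2.hom ≫ M) :=
    sq0.of_iso (Iso.refl _) (Iso.refl _) e2.symm (Iso.refl _) (by simp) (by simp) (by simp)
      (by simp)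
  refine repWith_of_fppfCov P hΔ hc sq1 ?_
  -- `N ≫ e2.inv` is, up to the isomorphism `eR`, `yon.map ρ`
  obtain ⟨ρ, hρ'⟩ := (yon S).map_surjective (eR.hom ≫ N ≫ e2.inv)
  have h1 : N ≫ e2.inv = eR.inv ≫ (yon S).map ρ := by
    rw [hρ', Iso.inv_hom_id_assoc]
  rw [h1]
  refine MorphismProperty.RespectsIso.precomp _ eR.inv _ ((repWith_yon_map_iff P ρ).2 (hρ ρ ?_))
  apply (yon S).map_injective
  rw [Functor.map_comp, hρ', Category.assoc, Category.assoc]
  have h2 : e2.inv ≫ (yon S).map (hpb.snd (p ≫ b)) = pullback.snd _ _ :=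
    sqU2.isoPullback_inv_snd
  have h3 : eR.hom ≫ pullback.snd _ _ = (yon S).map (hp.rep.snd p) := sqR.isoPullback_hom_snd
  rw [h2, hN, pullback.lift_snd, Category.comp_id, h3]

/-- Stacks 02X4 (relative form): for an algebraic space `Y` and `b : Y ⟶ X` with `X` having all maps
from schemes representable (e.g. `X` an algebraic space), the diagonal of `b` is representable, a
monomorphism and locally of finite type. -/
theorem repWith_mono_lft_diagonal {Y X : Sp S} (hY : IsAlgSpace Y) (b : Y ⟶ X)
    (hX : ∀ ⦃U : Over S⦄ (a : (yon S).obj U ⟶ X), Representable a) :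
    RepWith (MorphismProperty.monomorphisms Scheme.{u} ⊓ @LocallyOfFiniteType)
      (pullback.diagonal b) := by
  obtain ⟨U, p, hp, hps⟩ := hY.atlas
  have hΔ := representable_diagonal hY.diag b
  refine (repWith_inf_iff _ _ _).2 ⟨repWith_mono_of_mono hΔ, ?_⟩
  refine repWith_diagonal_of_atlas @LocallyOfFiniteType b hΔ p hp hps (hX (p ≫ b)) (fun ρ h => ?_)
  have h1 : Etale (hp.rep.snd p).left := hp.property_snd p
  have h2 : ρ.left ≫ ((hX (p ≫ b)).snd (p ≫ b)).left = (hp.rep.snd p).left := by
    rw [← Over.comp_left, h]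
  have h3 : LocallyOfFiniteType (ρ.left ≫ ((hX (p ≫ b)).snd (p ≫ b)).left) := by
    rw [h2]; infer_instance
  exact locallyOfFiniteType_of_comp ρ.left ((hX (p ≫ b)).snd (p ≫ b)).left

/-! ### Maps between etale charts are etale -/

/-- The diagonal of a representable etale morphism from a scheme is representable etale (in fact an
open immersion). -/
theorem repWith_etale_diagonal {X : Sp S}
    (hX : ∀ ⦃U : Over S⦄ (a : (yon S).obj U ⟶ X), Representable a) {W : Over S}
    (c : (yon S).obj W ⟶ X) (hc : RepWith @Etale c) : RepWith @Etale (pullback.diagonal c) := by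
  have hΔ := representable_diagonal (IsAlgSpace.yon_obj W).diag c
  have hid : RepWith @Etale (𝟙 ((yon S).obj W)) := repWith_id _ W
  have hids : RepWith @Surjective (𝟙 ((yon S).obj W)) := repWith_id _ W
  have hc' : RepWith @Etale (𝟙 ((yon S).obj W) ≫ c) := by rwa [Category.id_comp]
  refine repWith_diagonal_of_atlas @Etale c hΔ (𝟙 _) hid hids (hX _) (fun ρ h => ?_)
  have h1 : Etale (hid.rep.snd (𝟙 _)).left := hid.property_snd _
  have h2 : Etale ((hX (𝟙 ((yon S).obj W) ≫ c)).snd (𝟙 ((yon S).obj W) ≫ c)).left :=
    hc'.property _ _ _ ((hX (𝟙 ((yon S).obj W) ≫ c)).isPullback _)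
  have h3 : ρ.left ≫ ((hX (𝟙 ((yon S).obj W) ≫ c)).snd (𝟙 ((yon S).obj W) ≫ c)).left =
      (hid.rep.snd (𝟙 _)).left := by
    rw [← Over.comp_left, h]
  have h4 : Etale (ρ.left ≫ ((hX (𝟙 ((yon S).obj W) ≫ c)).snd (𝟙 ((yon S).obj W) ≫ c)).left) := by
    rw [h3]; exact h1
  exact Etale.of_comp ρ.left ((hX (𝟙 ((yon S).obj W) ≫ c)).snd (𝟙 ((yon S).obj W) ≫ c)).left

/-- **Maps between etale charts are etale**: if `a : h_U ⟶ X` and `c : h_W ⟶ X` are representable
etale and `l : U ⟶ W` satisfies `h_l ≫ c = a`, then `l` is etale. -/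
theorem etale_of_comp_chart {X : Sp S}
    (hX : ∀ ⦃U : Over S⦄ (a : (yon S).obj U ⟶ X), Representable a) {U W : Over S}
    (a : (yon S).obj U ⟶ X) (c : (yon S).obj W ⟶ X) (ha : RepWith @Etale a)
    (hc : RepWith @Etale c) (l : U ⟶ W) (h : (yon S).map l ≫ c = a) : Etale l.left := by
  refine (repWith_yon_map_iff @Etale l).1 ?_
  exact repWith_of_comp @Etale _ c (repWith_etale_diagonal hX c hc) (by rw [h]; exact ha)

/-- For a morphism `f : X ⟶ Y` with `X` an algebraic space (or any sheaf all of whose maps from
schemes are representable), `RepWith P f` implies `LocP P f` as soon as `P` is stable under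
precomposition with etale morphisms. -/
theorem locP_of_repWith (P : MorphismProperty Scheme.{u})
    (hP : ∀ ⦃A B C : Scheme.{u}⦄ (l : A ⟶ B) (w : B ⟶ C), Etale l → P w → P (l ≫ w))
    {X Y : Sp S} (hX : ∀ ⦃U : Over S⦄ (a : (yon S).obj U ⟶ X), Representable a) {f : X ⟶ Y}
    (hf : RepWith P f) : LocP P f := by
  intro U V a b h ha hb comm
  have sqW := hf.rep.isPullback b
  have hw : P (hf.rep.snd b).left := hf.property_snd b
  have hfstb : RepWith @Etale (hf.rep.fst b) := repWith_fst_of_isPullback _ sqW hb
  have e1 : hf.rep.lift a h comm ≫ hf.rep.snd b = h := hf.rep.lift_snd _ _ _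
  have e2 : (yon S).map (hf.rep.lift a h comm) ≫ hf.rep.fst b = a := hf.rep.lift_fst _ _ _
  have hl : Etale (hf.rep.lift a h comm).left :=
    etale_of_comp_chart hX a (hf.rep.fst b) ha hfstb _ e2
  have e3 : h.left = (hf.rep.lift a h comm).left ≫ (hf.rep.snd b).left := by
    rw [← Over.comp_left, e1]
  rw [e3]
  exact hP _ _ hl hw

/-- If `f ≫ g` is locally of finite presentation and `g` is locally of finite type then `f` is
locally of finite presentation. -/
theorem locallyOfFinitePresentation_of_comp {X Y Z : Scheme.{u}} (f : X ⟶ Y) (g : Y ⟶ Z)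
    (h : LocallyOfFinitePresentation (f ≫ g)) (hg : LocallyOfFiniteType g) :
    LocallyOfFinitePresentation f := by
  wlog hZ : IsAffine Z generalizing X Y Z
  · rw [IsZariskiLocalAtTarget.iff_of_iSup_eq_top (P := @LocallyOfFinitePresentation) _
      (g.iSup_preimage_eq_top (iSup_affineOpens_eq_top Z))]
    intro U
    have H := IsZariskiLocalAtTarget.restrict h U.1
    rw [morphismRestrict_comp] at H
    exact this _ _ H (IsZariskiLocalAtTarget.restrict hg U.1) inferInstance
  wlog hY : IsAffine Y generalizing X Y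
  · rw [IsZariskiLocalAtTarget.iff_of_iSup_eq_top (P := @LocallyOfFinitePresentation) _
      (iSup_affineOpens_eq_top Y)]
    intro U
    have H := HasRingHomProperty.comp_of_isOpenImmersion @LocallyOfFinitePresentation
      (f ⁻¹ᵁ U.1).ι (f ≫ g) h
    rw [← morphismRestrict_ι_assoc] at H
    exact this _ _ H (inferInstance : LocallyOfFiniteType (U.1.ι ≫ g)) inferInstance
  wlog hX : IsAffine X generalizing X
  · rw [IsZariskiLocalAtSource.iff_of_iSup_eq_top (P := @LocallyOfFinitePresentation) _
      (iSup_affineOpens_eq_top X)]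
    intro U
    have H := HasRingHomProperty.comp_of_isOpenImmersion @LocallyOfFinitePresentation U.1.ι
      (f ≫ g) h
    rw [← Category.assoc] at H
    exact this _ H inferInstance
  rw [HasRingHomProperty.iff_of_isAffine (P := @LocallyOfFinitePresentation)] at h ⊢
  rw [HasRingHomProperty.iff_of_isAffine (P := @LocallyOfFiniteType)] at hg
  exact RingHom.FinitePresentation.of_comp_finiteType _ (by simpa using h) hg

/-! ### Fibre products of algebraic spaces -/

/-- Stacks 02X2: a fibre product `T ×_Y Z` of algebraic spaces `T`, `Z` over a sheaf `Y` all of whose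
maps from schemes are representable (e.g. an algebraic space) is an algebraic space. -/
theorem isAlgSpace_of_isPullback {T Y Z Q : Sp S} (hT : IsAlgSpace T) (hZ : IsAlgSpace Z)
    (hY : ∀ ⦃U : Over S⦄ (a : (yon S).obj U ⟶ Y), Representable a)
    {k : T ⟶ Y} {g : Z ⟶ Y} {fst : Q ⟶ T} {snd : Q ⟶ Z} (sq : IsPullback fst snd k g) :
    IsAlgSpace Q where
  diag := by
    refine Functor.relativelyRepresentable.diag_of_map_from_obj (fun A t => ?_)
    have hΔ : Representable (pullback.diagonal fst) :=
      MorphismProperty.of_isPullback (P := (Representable (S := S)).diagonal) sq.flip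
        (representable_diagonal hZ.diag g)
    exact representable_of_comp t fst hΔ (hT.representable_from_yon (t ≫ fst))
  atlas := by
    obtain ⟨U, p, hpe, hps⟩ := hT.atlas
    obtain ⟨W, q, hqe, hqs⟩ := hZ.atlas
    have hpk := hY (p ≫ k)
    have sqV := hpk.isPullback (q ≫ g)
    set M := pullback.map (p ≫ k) (q ≫ g) k g p q (𝟙 Y) (Category.comp_id _) (Category.comp_id _)
      with hM
    have hMe : RepWith @Etale M := MorphismProperty.pullbackMap (P := RepWith (S := S) @Etale)
      hpe hqe (rfl : p ≫ k = p ≫ k) (rfl : q ≫ g = q ≫ g)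
    have hMs : RepWith @Surjective M :=
      MorphismProperty.pullbackMap (P := RepWith (S := S) @Surjective) hps hqs
        (rfl : p ≫ k = p ≫ k) (rfl : q ≫ g = q ≫ g)
    refine ⟨hpk.pullback (q ≫ g), sqV.isoPullback.hom ≫ M ≫ sq.isoPullback.inv, ?_, ?_⟩
    · exact MorphismProperty.RespectsIso.precomp _ _ _
        (MorphismProperty.RespectsIso.postcomp _ _ _ hMe)
    · exact MorphismProperty.RespectsIso.precomp _ _ _
        (MorphismProperty.RespectsIso.postcomp _ _ _ hMs)

/-! ### `LocP`: properties etale local on source and target -/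

/-- Cancellation for `LocP P`: if `f ≫ g` has `P` etale locally (and the target `Z` of `g` is an
algebraic space) then so does `f`, provided `P` has the cancellation property for schemes and
descends along etale coverings. -/
theorem locP_of_comp (P : MorphismProperty Scheme.{u}) [P.DescendsAlong etCov]
    (hP : ∀ ⦃A B C : Scheme.{u}⦄ (f : A ⟶ B) (g : B ⟶ C), P (f ≫ g) → P f)
    {X Y Z : Sp S} (hZ : IsAlgSpace Z) (f : X ⟶ Y) (g : Y ⟶ Z) (h : LocP P (f ≫ g)) :
    LocP P f := by
  intro U V a b h' ha hb comm
  obtain ⟨W, c, hce, hcs⟩ := hZ.atlas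
  have sq := hce.rep.isPullback' (b ≫ g)
  have hπe : Etale (hce.rep.snd (b ≫ g)).left := hce.property_snd (b ≫ g)
  have hπs : Surjective (hce.rep.snd (b ≫ g)).left :=
    hcs.property _ _ _ (hce.rep.isPullback (b ≫ g))
  have hφe : Etale (pullback.fst h' (hce.rep.snd (b ≫ g))).left :=
    pullback_fst_over @Etale h' _ hπe
  have hφ : RepWith @Etale ((yon S).map (pullback.fst h' (hce.rep.snd (b ≫ g)))) :=
    (repWith_yon_map_iff _ _).2 hφe
  have ha' : RepWith @Etale ((yon S).map (pullback.fst h' (hce.rep.snd (b ≫ g))) ≫ a) :=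
    MorphismProperty.comp_mem _ _ _ hφ ha
  have hcomm : ((yon S).map (pullback.fst h' (hce.rep.snd (b ≫ g))) ≫ a) ≫ (f ≫ g) =
      (yon S).map (pullback.snd h' (hce.rep.snd (b ≫ g)) ≫ hce.rep.fst' (b ≫ g)) ≫ c := by
    rw [Category.assoc, ← Category.assoc a, comm, Category.assoc, ← Functor.map_comp_assoc,
      pullback.condition, Functor.map_comp_assoc, Functor.map_comp_assoc]
    congr 1
    exact sq.w.symm
  have h1 : P (pullback.snd h' (hce.rep.snd (b ≫ g)) ≫ hce.rep.fst' (b ≫ g)).left :=
    h _ c _ ha' hce hcomm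
  have h2 : P (pullback.snd h' (hce.rep.snd (b ≫ g))).left := hP _ (hce.rep.fst' (b ≫ g)).left h1
  exact of_pullback_snd_over P etCov h' _ ⟨hπs, hπe⟩ h2

/-- Cancellation for `LocP P` with a hypothesis `LocP Q g` on the second morphism. -/
theorem locP_of_comp' (P Q : MorphismProperty Scheme.{u}) [P.DescendsAlong etCov]
    (hP : ∀ ⦃A B C : Scheme.{u}⦄ (f : A ⟶ B) (g : B ⟶ C), P (f ≫ g) → Q g → P f)
    {X Y Z : Sp S} (hZ : IsAlgSpace Z) (f : X ⟶ Y) (g : Y ⟶ Z) (h : LocP P (f ≫ g))
    (hg : LocP Q g) : LocP P f := by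
  intro U V a b h' ha hb comm
  obtain ⟨W, c, hce, hcs⟩ := hZ.atlas
  have sq := hce.rep.isPullback' (b ≫ g)
  have hπe : Etale (hce.rep.snd (b ≫ g)).left := hce.property_snd (b ≫ g)
  have hπs : Surjective (hce.rep.snd (b ≫ g)).left :=
    hcs.property _ _ _ (hce.rep.isPullback (b ≫ g))
  have hφe : Etale (pullback.fst h' (hce.rep.snd (b ≫ g))).left :=
    pullback_fst_over @Etale h' _ hπe
  have hφ : RepWith @Etale ((yon S).map (pullback.fst h' (hce.rep.snd (b ≫ g)))) :=
    (repWith_yon_map_iff _ _).2 hφe
  have ha' : RepWith @Etale ((yon S).map (pullback.fst h' (hce.rep.snd (b ≫ g))) ≫ a) :=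
    MorphismProperty.comp_mem _ _ _ hφ ha
  have hπ' : RepWith @Etale ((yon S).map (hce.rep.snd (b ≫ g))) :=
    (repWith_yon_map_iff _ _).2 hπe
  have hb' : RepWith @Etale ((yon S).map (hce.rep.snd (b ≫ g)) ≫ b) :=
    MorphismProperty.comp_mem _ _ _ hπ' hb
  have hcomm : ((yon S).map (pullback.fst h' (hce.rep.snd (b ≫ g))) ≫ a) ≫ (f ≫ g) =
      (yon S).map (pullback.snd h' (hce.rep.snd (b ≫ g)) ≫ hce.rep.fst' (b ≫ g)) ≫ c := by
    rw [Category.assoc, ← Category.assoc a, comm, Category.assoc, ← Functor.map_comp_assoc,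
      pullback.condition, Functor.map_comp_assoc, Functor.map_comp_assoc]
    congr 1
    exact sq.w.symm
  have h1 : P (pullback.snd h' (hce.rep.snd (b ≫ g)) ≫ hce.rep.fst' (b ≫ g)).left :=
    h _ c _ ha' hce hcomm
  have hγ : Q (hce.rep.fst' (b ≫ g)).left :=
    hg _ c _ hb' hce (by rw [Category.assoc]; exact sq.w.symm)
  have h2 : P (pullback.snd h' (hce.rep.snd (b ≫ g))).left :=
    hP _ (hce.rep.fst' (b ≫ g)).left h1 hγ
  exact of_pullback_snd_over P etCov h' _ ⟨hπs, hπe⟩ h2

/-- `LocP P` descends along an etale surjective base change from a scheme. -/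
theorem locP_of_isPullback_cover (P : MorphismProperty Scheme.{u}) [P.DescendsAlong etCov]
    {X Y Q : Sp S} (f : X ⟶ Y) {V : Over S} (p : (yon S).obj V ⟶ Y) (hp : RepWith @Etale p)
    (hps : RepWith @Surjective p) {fst : Q ⟶ X} {snd : Q ⟶ (yon S).obj V}
    (sq : IsPullback fst snd f p) (h : LocP P snd) : LocP P f := by
  intro U V1 a b h' ha hb comm
  have sq1 := hp.rep.isPullback' b
  have hπe : Etale (hp.rep.snd b).left := hp.property_snd b
  have hπs : Surjective (hp.rep.snd b).left := hps.property _ _ _ (hp.rep.isPullback b)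
  have hγ : RepWith @Etale ((yon S).map (hp.rep.fst' b)) := repWith_fst_of_isPullback _ sq1 hb
  have sqA := (IsPullback.of_hasPullback h' (hp.rep.snd b)).map (yon S)
  -- the big square `h_{U'} ⟶ h_V` over `h_U ⟶ Y`
  have big : IsPullback ((yon S).map (pullback.snd h' (hp.rep.snd b)) ≫ (yon S).map (hp.rep.fst' b))
      ((yon S).map (pullback.fst h' (hp.rep.snd b))) p ((yon S).map h' ≫ b) :=
    sqA.flip.paste_horiz sq1
  have hcomm : ((yon S).map (pullback.fst h' (hp.rep.snd b)) ≫ a) ≫ f =
      ((yon S).map (pullback.snd h' (hp.rep.snd b)) ≫ (yon S).map (hp.rep.fst' b)) ≫ p := by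
    rw [Category.assoc, comm]; exact big.w.symm
  set a' := sq.lift _ _ hcomm with ha'
  have e1 : a' ≫ fst = (yon S).map (pullback.fst h' (hp.rep.snd b)) ≫ a := sq.lift_fst _ _ _
  have e2 : a' ≫ snd =
      (yon S).map (pullback.snd h' (hp.rep.snd b)) ≫ (yon S).map (hp.rep.fst' b) :=
    sq.lift_snd _ _ _
  have sqC : IsPullback a' ((yon S).map (pullback.fst h' (hp.rep.snd b))) fst a := by
    refine IsPullback.of_right ?_ e1 sq.flip
    rw [e2, comm]; exact big
  have hae : RepWith @Etale a' := repWith_fst_of_isPullback _ sqC ha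
  have h2 : P (pullback.snd h' (hp.rep.snd b)).left := h a' _ _ hae hγ e2
  exact of_pullback_snd_over P etCov h' _ ⟨hπs, hπe⟩ h2

/-! ### Universally injective representable morphisms -/

/-- For a representable morphism of sheaves, representable universal injectivity is equivalent to
injectivity on `K`-valued points for every field `K` over `S` (Stacks 01S4 transported). -/
theorem repWith_universallyInjective_iff {F G : Sp S} {f : F ⟶ G} (hf : Representable f) :
    RepWith @UniversallyInjective f ↔
      ∀ (K : Type u) [Field K] (str : Spec (CommRingCat.of K) ⟶ S),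
        Function.Injective (fun a : (yon S).obj (Over.mk str) ⟶ F => a ≫ f) := by
  constructor
  · intro h K _ str a1 a2 (h12 : a1 ≫ f = a2 ≫ f)
    have hw : UniversallyInjective (hf.snd (a1 ≫ f)).left := h.property _ _ _ (hf.isPullback _)
    have hiff : UniversallyInjective (hf.snd (a1 ≫ f)).left ↔
        ∀ (K : Type u) [Field K], Function.Injective
          (fun g : Spec (.of K) ⟶ (hf.pullback (a1 ≫ f)).left ↦ g ≫ (hf.snd (a1 ≫ f)).left) :=
      (tfae_universallyInjective (hf.snd (a1 ≫ f)).left).out 0 1
    have hinj := hiff.1 hw K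
    set l1 := hf.lift (g := a1 ≫ f) a1 (𝟙 (Over.mk str)) (by simp)
    set l2 := hf.lift (g := a1 ≫ f) a2 (𝟙 (Over.mk str)) (by simp [h12])
    have e1 : l1 ≫ hf.snd (a1 ≫ f) = 𝟙 (Over.mk str) := hf.lift_snd _ _ _
    have e2 : l2 ≫ hf.snd (a1 ≫ f) = 𝟙 (Over.mk str) := hf.lift_snd _ _ _
    have e3 : l1.left = l2.left := by
      apply hinj
      change l1.left ≫ (hf.snd (a1 ≫ f)).left = l2.left ≫ (hf.snd (a1 ≫ f)).left
      rw [← Over.comp_left, ← Over.comp_left, e1, e2]
    have e4 : l1 = l2 := Over.OverMorphism.ext e3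
    have f1 : (yon S).map l1 ≫ hf.fst (a1 ≫ f) = a1 := hf.lift_fst _ _ _
    have f2 : (yon S).map l2 ≫ hf.fst (a1 ≫ f) = a2 := hf.lift_fst _ _ _
    rw [← f1, ← f2, e4]
  · intro h
    have : MorphismProperty.RespectsIso @UniversallyInjective.{u} :=
      UniversallyInjective.respectsIso
    have : (MorphismProperty.inverseImage @UniversallyInjective.{u} (Over.forget S)).RespectsIso :=
      MorphismProperty.RespectsIso.inverseImage _ _
    refine MorphismProperty.relative_of_snd hf (fun T g => ?_)
    change UniversallyInjective (hf.snd g).left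
    have hiff : UniversallyInjective (hf.snd g).left ↔
        ∀ (K : Type u) [Field K], Function.Injective
          (fun k : Spec (.of K) ⟶ (hf.pullback g).left ↦ k ≫ (hf.snd g).left) :=
      (tfae_universallyInjective (hf.snd g).left).out 0 1
    refine hiff.2 (fun K _ k1 k2 hk => ?_)
    change k1 ≫ (hf.snd g).left = k2 ≫ (hf.snd g).left at hk
    set str : Spec (CommRingCat.of K) ⟶ S := (k1 ≫ (hf.snd g).left) ≫ T.hom with hstr
    have hW : (hf.snd g).left ≫ T.hom = (hf.pullback g).hom := Over.w (hf.snd g)
    set k1' : Over.mk str ⟶ hf.pullback g := Over.homMk k1 (by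
      change k1 ≫ (hf.pullback g).hom = str
      rw [hstr, Category.assoc, hW])
    set k2' : Over.mk str ⟶ hf.pullback g := Over.homMk k2 (by
      change k2 ≫ (hf.pullback g).hom = str
      rw [hstr, hk, Category.assoc, hW])
    have e1 : k1' ≫ hf.snd g = k2' ≫ hf.snd g := Over.OverMorphism.ext hk
    have e2 : (yon S).map k1' ≫ hf.fst g = (yon S).map k2' ≫ hf.fst g := by
      apply h K str
      change ((yon S).map k1' ≫ hf.fst g) ≫ f = ((yon S).map k2' ≫ hf.fst g) ≫ f
      rw [Category.assoc, Category.assoc, hf.w g, ← Functor.map_comp_assoc,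
        ← Functor.map_comp_assoc, e1]
    have e3 : k1' = k2' := hf.hom_ext e2 e1
    exact congrArg (fun k => k.left) e3

/-! ### Affine morphisms -/

/-- A morphism representable by affine morphisms of schemes is affine. -/
theorem isAffineMor_of_repWith {P : MorphismProperty Scheme.{u}}
    (hP : P ≤ @IsAffineHom) {F G : Sp S} {f : F ⟶ G} (hf : RepWith P f) : IsAffineMor f := by
  intro Z hZ k
  refine ⟨hf.rep.pullback k, hf.rep.snd k, hf.rep.fst k, hf.rep.isPullback k, ?_⟩
  have h1 : IsAffineHom (hf.rep.snd k).left := hP _ (hf.property_snd k)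
  exact isAffine_of_isAffineHom (hf.rep.snd k).left

/-- Affine morphisms are stable under base change. -/
theorem isAffineMor_snd_of_isPullback {F G F' G' : Sp S} {f : F ⟶ G} {g : G' ⟶ G}
    {fst : F' ⟶ F} {snd : F' ⟶ G'} (sq : IsPullback fst snd f g) (hf : IsAffineMor f) :
    IsAffineMor snd := by
  intro Z hZ k
  obtain ⟨W, i, fst1, sq1, hW⟩ := hf hZ (k ≫ g)
  refine ⟨W, i, sq.lift fst1 ((yon S).map i ≫ k) (by simpa using sq1.w), ?_, hW⟩
  refine IsPullback.of_right ?_ (by simp) sq
  simpa using sq1

instance isAffineMor_isStableUnderBaseChange :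
    (IsAffineMor (S := S)).IsStableUnderBaseChange where
  of_isPullback sq hg := isAffineMor_snd_of_isPullback sq hg

/-- Affine morphisms are stable under composition. -/
theorem isAffineMor_comp {F G H : Sp S} {f : F ⟶ G} {g : G ⟶ H} (hf : IsAffineMor f)
    (hg : IsAffineMor g) : IsAffineMor (f ≫ g) := by
  intro Z hZ k
  obtain ⟨W, i, fst1, sq1, hW⟩ := hg hZ k
  obtain ⟨W', i', fst2, sq2, hW'⟩ := hf hW fst1
  refine ⟨W', i' ≫ i, fst2, ?_, hW'⟩
  rw [Functor.map_comp]
  exact sq2.paste_vert sq1

/-- The identity is affine. -/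
theorem isAffineMor_id (F : Sp S) : IsAffineMor (𝟙 F) := by
  intro Z hZ k
  exact ⟨Z, 𝟙 Z, k, by simpa using IsPullback.of_id_snd (f := k), hZ⟩

instance isAffineMor_isMultiplicative : (IsAffineMor (S := S)).IsMultiplicative where
  id_mem F := isAffineMor_id F
  comp_mem _ _ hf hg := isAffineMor_comp hf hg

/-- Cancellation: if `g ≫ q` is affine and the diagonal of `q` is affine, then `g` is affine. -/
theorem isAffineMor_of_comp {F G H : Sp S} (g : F ⟶ G) (q : G ⟶ H)
    (hq : IsAffineMor (pullback.diagonal q)) (hgq : IsAffineMor (g ≫ q)) : IsAffineMor g := by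
  have : (IsAffineMor (S := S)).HasOfPostcompProperty (IsAffineMor (S := S)).diagonal :=
    MorphismProperty.hasOfPostcompProperty_iff_le_diagonal.mpr le_rfl
  exact MorphismProperty.of_postcomp (W := IsAffineMor (S := S))
    (W' := (IsAffineMor (S := S)).diagonal) g q hq hgq

end Groth.Agent.Lib.AlgSpBasic
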