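import Groth.Agent.Lib.H86AlgSpPoints
import Groth.Agent.Lib.AlgSpBasic
import Mathlib.AlgebraicGeometry.Morphisms.IsIso

/-!
# helper86: open subspaces of sheaves / algebraic spaces

* `isIso_of_repWith_iso`: a morphism of sheaves representable by isomorphisms is an isomorphism.
* `surjective_of_isPullback_of_range_subset`: surjectivity of a represented base change from
  surjectivity on points.
* `exists_factor_of_range_subset`: factoring through a monomorphism representable by open immersions.
-/

set_option autoImplicit false
set_option linter.style.haveILetI false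
universe u
open CategoryTheory CategoryTheory.Limits AlgebraicGeometry Opposite

namespace Groth.Agent.Lib.H86AlgSpSub

open AlgSp Groth.Agent.Lib.H86AlgSpPoints

variable {S : Scheme.{u}} {F G H : Sp S}

/-- A monomorphism of sheaves is injective on sections. -/
theorem app_injective_of_mono (f : F ⟶ G) [Mono f] (T : Over S) :
    Function.Injective (f.hom.app (op T)) := by
  intro s1 s2 h
  have h1 : yE.symm s1 ≫ f = yE.symm s2 ≫ f := by
    rw [yE_symm_comp, yE_symm_comp, h]
  exact yE.symm.injective ((cancel_mono f).1 h1)

/-- A morphism of sheaves representable by isomorphisms of schemes is an isomorphism. -/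
theorem isIso_of_repWith_iso {f : F ⟶ G}
    (hf : RepWith (MorphismProperty.isomorphisms Scheme.{u}) f) : IsIso f := by
  haveI : Mono f := AlgSpBasic.mono_of_repWith
    (fun _ _ g (hg : IsIso g) => (inferInstance : Mono g)) hf
  have hbij : ∀ T : (Over S)ᵒᵖ, IsIso (f.hom.app T) := by
    intro T
    rw [isIso_iff_bijective]
    refine ⟨app_injective_of_mono f T.unop, ?_⟩
    intro s
    obtain ⟨V, snd, fst, hpb⟩ := hf.1 (yE.symm s)
    have h2 : IsIso snd.left := hf.2 _ fst snd hpb
    haveI : IsIso ((Over.forget S).map snd) := h2
    haveI : IsIso snd := isIso_of_reflects_iso snd (Over.forget S)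
    refine ⟨yE ((yon S).map (inv snd) ≫ fst), ?_⟩
    rw [← yE_comp, Category.assoc, hpb.w, ← Category.assoc, ← Functor.map_comp, IsIso.inv_hom_id]
    erw [(yon S).map_id]
    rw [Category.id_comp, Equiv.apply_symm_apply]
  haveI : IsIso f.hom := NatIso.isIso_of_isIso_app _
  haveI : IsIso ((sheafToPresheaf (J S) (Type (u + 1))).map f) := ‹IsIso f.hom›
  exact isIso_of_reflects_iso f (sheafToPresheaf (J S) (Type (u + 1)))

/-- For a represented pullback `h_V = h_T ×_G F`, the image of `V → T` is the set of points of `T`
whose image in `|G|` lies in the image of `|F|`. -/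
theorem range_left_eq_preimage {T V : Over S} {f : F ⟶ G} {g : (yon S).obj T ⟶ G}
    {fst : (yon S).obj V ⟶ F} {snd : V ⟶ T} (hpb : IsPullback fst ((yon S).map snd) f g) :
    Set.range snd.left = Points.ofPt g ⁻¹' Set.range (Points.map f) := by
  ext t
  constructor
  · rintro ⟨v, rfl⟩
    refine ⟨Points.ofPt fst v, ?_⟩
    rw [Points.map_ofPt, hpb.w, ofPt_map_comp]
  · rintro ⟨y, hy⟩
    obtain ⟨w, -, hw2⟩ := exists_of_isPullback hpb y (Points.ofScheme T t)
      (by rw [hy, Points.ofPt_eq_map_ofScheme])
    refine ⟨Points.toScheme V w, ?_⟩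
    rw [← Points.ofScheme_toScheme V w, ← Points.ofPt_eq_map_ofScheme, ofPt_yon_map] at hw2
    exact (Points.schemeEquiv T).injective hw2

/-- The image on points of a base change is the preimage of the image. -/
theorem range_map_fst_of_isPullback {W : Sp S} {fst : W ⟶ F} {snd : W ⟶ G} {f : F ⟶ H} {g : G ⟶ H}
    (h : IsPullback fst snd f g) :
    Set.range (Points.map fst) = Points.map f ⁻¹' Set.range (Points.map g) := by
  ext x
  constructor
  · rintro ⟨w, rfl⟩
    exact ⟨Points.map snd w, by rw [← Points.map_comp, ← h.w, Points.map_comp]⟩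
  · rintro ⟨y, hy⟩
    obtain ⟨w, hw, -⟩ := exists_of_isPullback h x y hy.symm
    exact ⟨w, hw⟩

/-- A morphism of sheaves representable by open immersions which is surjective on points is an
isomorphism. -/
theorem isIso_of_repWith_isOpenImmersion_of_surjective {f : F ⟶ G}
    (hf : RepWith @IsOpenImmersion f) (hs : Function.Surjective (Points.map f)) : IsIso f := by
  apply isIso_of_repWith_iso
  refine ⟨hf.1, fun T V g fst snd hpb => ?_⟩
  change IsIso snd.left
  rw [isIso_iff_isOpenImmersion_and_surjective]
  refine ⟨hf.2 g fst snd hpb, ⟨fun t => ?_⟩⟩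
  have := range_left_eq_preimage hpb
  rw [hs.range_eq, Set.preimage_univ] at this
  exact Set.range_eq_univ.1 this t

/-- A morphism `f : Y ⟶ X` of sheaves whose image on points lies in the image of `j : X' ⟶ X`,
representable by open immersions, factors through `j`. -/
theorem exists_factor_of_range_subset {X X' Y : Sp S} {j : X' ⟶ X}
    (hj : RepWith @IsOpenImmersion j) (f : Y ⟶ X)
    (h : Set.range (Points.map f) ⊆ Set.range (Points.map j)) : ∃ g : Y ⟶ X', g ≫ j = f := by
  have sq := IsPullback.of_hasPullback f j
  have hfst : RepWith @IsOpenImmersion (pullback.fst f j) :=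
    AlgSpBasic.repWith_fst_of_isPullback _ sq hj
  have hsurj : Function.Surjective (Points.map (pullback.fst f j)) := by
    rw [← Set.range_eq_univ, range_map_fst_of_isPullback sq, Set.eq_univ_iff_forall]
    intro y
    exact h ⟨y, rfl⟩
  haveI := isIso_of_repWith_isOpenImmersion_of_surjective hfst hsurj
  exact ⟨inv (pullback.fst f j) ≫ pullback.snd f j, by
    rw [Category.assoc, ← pullback.condition, IsIso.inv_hom_id_assoc]⟩

end Groth.Agent.Lib.H86AlgSpSub
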