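import Groth.Prelude
import Groth.Agent.Lib.AlgSpSrcCover
import Groth.Agent.Lib.AlgSpQC
import Groth.Agent.Lib.H86AlgSpOpen
import Groth.Agent.Lib.H86AlgSpSub

set_option autoImplicit false
universe u
open CategoryTheory CategoryTheory.Limits AlgebraicGeometry Opposite
open AlgSp

namespace Groth.Agent.Lib.AlgSpAtPt
open Groth.Agent.Lib.AlgSpLocP Groth.Agent.Lib.AlgSpBasic Groth.Agent.Lib.AlgSpSrcCover
  Groth.Agent.Lib.AlgSpQC

variable {S : Scheme.{u}}

theorem SevenClass.etale_le {P : MorphismProperty Scheme.{u}} (hP : SevenClass P)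
    ⦃A B : Scheme.{u}⦄ (g : A ⟶ B) (hg : Etale g) : P g := by
  rcases hP.cases with h | h | h | h | h | h | h <;> subst h
  · exact (inferInstance : LocallyOfFiniteType g)
  · exact (inferInstance : LocallyOfFinitePresentation g)
  · exact (inferInstance : Flat g)
  · exact (inferInstance : Smooth g)
  · exact hg
  · exact ⟨Groth.Agent.Lib.AlgSpBasic.locallyQuasiFinite_of_etale g, (inferInstance : LocallyOfFiniteType g)⟩
  · exact ⟨(inferInstance : LocallyOfFiniteType g), (inferInstance : FormallyUnramified g)⟩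

theorem SevenClass.isLocalAtSource_etale {P : MorphismProperty Scheme.{u}} (hP : SevenClass P) :
    P.IsLocalAtSource (Scheme.precoverage @Etale) := by
  have h1 := hP.etLocalClass
  rcases hP.cases with h | h | h | h | h | h | h <;> subst h
  · exact Groth.Agent.Lib.AlgSpSrcCover.isLocalAtSource_etale h1
  · exact Groth.Agent.Lib.AlgSpSrcCover.isLocalAtSource_etale h1
  · exact Groth.Agent.Lib.AlgSpSrcCover.isLocalAtSource_etale h1
  · exact Groth.Agent.Lib.AlgSpSrcCover.isLocalAtSource_etale h1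
  · exact Groth.Agent.Lib.AlgSpSrcCover.isLocalAtSource_etale h1
  · exact Groth.Agent.Lib.AlgSpSrcCover.isLocalAtSource_etale h1
  · exact Groth.Agent.Lib.AlgSpSrcCover.isLocalAtSource_etale h1


/-- An open subscheme of a scheme over `S`, as a scheme over `S`. -/
noncomputable def opensOver (U : Over S) (W : U.left.Opens) : Over S := Over.mk (W.ι ≫ U.hom)

/-- The open immersion over `S`. -/
noncomputable def opensOverι (U : Over S) (W : U.left.Opens) : opensOver U W ⟶ U :=
  Over.homMk W.ι rfl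

theorem repWith_etale_opensOverι (U : Over S) (W : U.left.Opens) :
    RepWith @Etale ((yon S).map (opensOverι U W)) :=
  (repWith_yon_map_iff _ _).2 (inferInstanceAs (Etale W.ι))

/-- `LocP P` for a scheme morphism and then composed with an etale chart of the target. -/
theorem locP_yon_map_comp_etale {P : MorphismProperty Scheme.{u}} (hP : SevenClass P) {Y : Sp S}
    (hY : IsAlgSpace Y) {U V : Over S} (k : U ⟶ V) (hk : P k.left) (b : (yon S).obj V ⟶ Y)
    (hb : RepWith @Etale b) : LocP P ((yon S).map k ≫ b) := by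
  have hE := hP.etLocalClass
  have := hE.baseChange
  have := hP.isStableUnderComposition
  have h1 : LocP P ((yon S).map k) :=
    locP_of_repWith P hE.pre (fun _ c => (IsAlgSpace.yon_obj U).representable_from_yon c)
      ((repWith_yon_map_iff _ _).2 hk)
  have h2 : LocP P b :=
    locP_of_repWith P hE.pre (fun _ c => (IsAlgSpace.yon_obj V).representable_from_yon c)
      (repWith_mono (fun _ _ g hg => SevenClass.etale_le hP g hg) hb)
  exact locP_comp hE (IsAlgSpace.yon_obj U) (IsAlgSpace.yon_obj V) hY h1 h2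

/-- A chart diagram whose top arrow has `P` on an open `W`: the restriction of `f` to `W` has `LocP P`. -/
theorem locP_of_chart_open {P : MorphismProperty Scheme.{u}} (hP : SevenClass P) {X Y : Sp S}
    (hY : IsAlgSpace Y) (f : X ⟶ Y) {U V : Over S} (a : (yon S).obj U ⟶ X)
    (b : (yon S).obj V ⟶ Y) (h : U ⟶ V) (hb : RepWith @Etale b)
    (comm : a ≫ f = (yon S).map h ≫ b) (W : U.left.Opens) (hW : P (W.ι ≫ h.left)) :
    LocP P (((yon S).map (opensOverι U W) ≫ a) ≫ f) := by
  have e : ((yon S).map (opensOverι U W) ≫ a) ≫ f = (yon S).map (opensOverι U W ≫ h) ≫ b := by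
    rw [Category.assoc, comm, Functor.map_comp, Category.assoc]
  rw [e]
  exact locP_yon_map_comp_etale hP hY _ hW b hb


/-- The neighbourhood form of "`f` has `P` at `x`". -/
abbrev NbhdQ (P : MorphismProperty Scheme.{u}) : ∀ (U V : Scheme.{u}), (U ⟶ V) → ↥U → Prop :=
  fun U _ h u => ∃ W : U.Opens, u ∈ W ∧ P (W.ι ≫ h)

theorem locP_of_forall_hasAtMor {P : MorphismProperty Scheme.{u}} (hP : SevenClass P) {X Y : Sp S}
    (hX : IsAlgSpace X) (hY : IsAlgSpace Y) (f : X ⟶ Y)
    (h : ∀ x : Points X, HasAtMor (NbhdQ P) f x) : LocP P f := by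
  obtain ⟨U₀, a₀, ha₀e, ha₀s⟩ := hX.atlas
  have h' : ∀ i : ↥U₀.left, ∃ (U V : Over S) (a : (yon S).obj U ⟶ X) (b : (yon S).obj V ⟶ Y)
      (k : U ⟶ V) (u : ↥U.left) (W : U.left.Opens), RepWith @Etale a ∧ RepWith @Etale b ∧
      a ≫ f = (yon S).map k ≫ b ∧ Points.ofPt a u = Points.ofPt a₀ i ∧ u ∈ W ∧
      P (W.ι ≫ k.left) := by
    intro i
    obtain ⟨U, V, a, b, k, u, h1, h2, h3, h4, W, h5, h6⟩ := h (Points.ofPt a₀ i)
    exact ⟨U, V, a, b, k, u, W, h1, h2, h3, h4, h5, h6⟩
  choose U V a b k u W hae hbe comm hux huW hPW using h'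
  have := SevenClass.isLocalAtSource_etale hP
  refine locP_of_cover covClass_etale (fun i => (yon S).obj (opensOver (U i) (W i)))
    (fun i => (yon S).map (opensOverι (U i) (W i)) ≫ a i) hX (fun i => IsAlgSpace.yon_obj _)
    ?_ ?_ f ?_
  · intro i
    have hg : RepWith @Etale ((yon S).map (opensOverι (U i) (W i)) ≫ a i) :=
      MorphismProperty.comp_mem _ _ _ (repWith_etale_opensOverι _ _) (hae i)
    exact locP_of_repWith @Etale etLocalClass_etale.pre
      (fun _ c => (IsAlgSpace.yon_obj _).representable_from_yon c) hg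
  · intro x
    obtain ⟨i, rfl⟩ := surjective_ofPt_of_repWith_surjective ha₀s x
    refine ⟨i, Points.ofScheme _ (⟨u i, huW i⟩ : ↥(W i)), ?_⟩
    rw [← Points.ofPt_eq_map_ofScheme, Groth.Agent.Lib.AlgSpPoints.ofPt_yon_map_comp, ← hux i]
    rfl
  · intro i
    exact locP_of_chart_open hP hY f (a i) (b i) (k i) (hbe i) (comm i) (W i) (hPW i)


theorem hasAtMor_of_locP {P : MorphismProperty Scheme.{u}} (hP : SevenClass P) {X Y : Sp S}
    (hX : IsAlgSpace X) (hY : IsAlgSpace Y) (f : X ⟶ Y) (h : LocP P f) (x : Points X) :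
    HasAtMor (NbhdQ P) f x := by
  have hE := hP.etLocalClass
  obtain ⟨U₀, a₀, ha₀e, ha₀s⟩ := hX.atlas
  obtain ⟨V, b, hbe, hbs⟩ := hY.atlas
  have sq := hbe.rep.isPullback' (a₀ ≫ f)
  have hae : RepWith @Etale ((yon S).map (hbe.rep.snd (a₀ ≫ f)) ≫ a₀) :=
    MorphismProperty.comp_mem _ _ _ ((repWith_yon_map_iff _ _).2 (hbe.property_snd _)) ha₀e
  have has : RepWith @Surjective ((yon S).map (hbe.rep.snd (a₀ ≫ f)) ≫ a₀) :=
    MorphismProperty.comp_mem _ _ _
      ((repWith_yon_map_iff _ _).2 (hbs.property _ _ _ (hbe.rep.isPullback (a₀ ≫ f)))) ha₀s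
  have comm : ((yon S).map (hbe.rep.snd (a₀ ≫ f)) ≫ a₀) ≫ f =
      (yon S).map (hbe.rep.fst' (a₀ ≫ f)) ≫ b := by
    rw [Category.assoc]; exact sq.w.symm
  obtain ⟨w, hw⟩ := surjective_ofPt_of_repWith_surjective has x
  have hPk : P (hbe.rep.fst' (a₀ ≫ f)).left := h _ b _ hae hbe comm
  exact ⟨_, V, _, b, _, w, hae, hbe, comm, hw, ⊤, trivial,
    hE.pre _ _ (inferInstanceAs (Etale (⊤ : Scheme.Opens _).ι)) hPk⟩


theorem injective_map_of_repWith_isOpenImmersion {F G : Sp S} {j : F ⟶ G}
    (hj : RepWith @IsOpenImmersion j) : Function.Injective (Points.map j) := by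
  refine Groth.Agent.Lib.AlgSpPoints.injective_map_of_representable hj.rep fun T g => ?_
  have : IsOpenImmersion (hj.rep.snd g).left := hj.property_snd g
  exact (hj.rep.snd g).left.injective

open Groth.Agent.Lib.H86AlgSpOpen Groth.Agent.Lib.H86AlgSpSub in
theorem exists_open_of_hasAtMor {P : MorphismProperty Scheme.{u}} (hP : SevenClass P) {X Y : Sp S}
    (hX : IsAlgSpace X) (hY : IsAlgSpace Y) (f : X ⟶ Y) (x : Points X)
    (h : HasAtMor (NbhdQ P) f x) :
    ∃ (X' : Sp S) (j : X' ⟶ X), IsAlgSpace X' ∧ RepWith @IsOpenImmersion j ∧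
      x ∈ Set.range (Points.map j) ∧ LocP P (j ≫ f) := by
  have hE := hP.etLocalClass
  obtain ⟨U, V, a, b, k, u, hae, hbe, comm, hux, W, huW, hPW⟩ := h
  set g := (yon S).map (opensOverι U W) ≫ a with hg_def
  have hg : RepWith @Etale g :=
    MorphismProperty.comp_mem _ _ _ (repWith_etale_opensOverι _ _) hae
  have hopen : IsOpen (Set.range (Points.map g)) := (isOpenMap_map_of_repWith_etale hg).isOpen_range
  have hj := openSubι_repWith (F := X) hopen
  have hX' := isAlgSpace_openSub hX hopen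
  have hrange : Set.range (Points.map (openSubι X (Set.range (Points.map g)))) =
      Set.range (Points.map g) := range_map_openSubι
  have hx : x ∈ Set.range (Points.map g) := by
    refine ⟨Points.ofScheme _ (⟨u, huW⟩ : ↥W), ?_⟩
    rw [← Points.ofPt_eq_map_ofScheme, hg_def, Groth.Agent.Lib.AlgSpPoints.ofPt_yon_map_comp, ← hux]
    rfl
  obtain ⟨φ, hφ⟩ := exists_factor_of_range_subset hj g (by rw [hrange])
  have hφe : RepWith @Etale φ :=
    Groth.Agent.Lib.H86AlgSpOpen.repWith_of_comp_mono (openSubι X _) (by rw [hφ]; exact hg)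
  have hφsurj : Function.Surjective (Points.map φ) := by
    intro y
    have hy : Points.map (openSubι X (Set.range (Points.map g))) y ∈ Set.range (Points.map g) := by
      have h0 : Points.map (openSubι X (Set.range (Points.map g))) y ∈
        Set.range (Points.map (openSubι X (Set.range (Points.map g)))) := ⟨y, rfl⟩
      exact hrange.le h0
    obtain ⟨z, hz⟩ := hy
    refine ⟨z, injective_map_of_repWith_isOpenImmersion hj ?_⟩
    rw [← Points.map_comp, hφ, hz]
  have hφs : RepWith @Surjective φ := repWith_surjective_of_isSurjectiveMor hφe.rep hφsurj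
  refine ⟨_, openSubι X (Set.range (Points.map g)), hX', hj, by rw [hrange]; exact hx, ?_⟩
  refine locP_of_comp_chart hE hY _ φ hφe hφs ?_
  rw [← Category.assoc, hφ]
  exact locP_of_chart_open hP hY f a b k hbe comm W hPW

theorem hasAtMor_of_open {P : MorphismProperty Scheme.{u}} (hP : SevenClass P) {X Y : Sp S}
    (hY : IsAlgSpace Y) (f : X ⟶ Y) (x : Points X) {X' : Sp S} (j : X' ⟶ X)
    (hX' : IsAlgSpace X') (hj : RepWith @IsOpenImmersion j) (hx : x ∈ Set.range (Points.map j))
    (h : LocP P (j ≫ f)) : HasAtMor (NbhdQ P) f x := by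
  obtain ⟨x', rfl⟩ := hx
  obtain ⟨U, V, a, b, k, u, hae, hbe, comm, hux, W, huW, hPW⟩ :=
    hasAtMor_of_locP hP hX' hY (j ≫ f) h x'
  have hje : RepWith @Etale j := repWith_mono (fun _ _ g hg => by
    have : IsOpenImmersion g := hg
    exact (inferInstance : Etale g)) hj
  refine ⟨U, V, a ≫ j, b, k, u, MorphismProperty.comp_mem _ _ _ hae hje, hbe, ?_, ?_, W, huW, hPW⟩
  · rw [Category.assoc]; exact comm
  · rw [← Points.map_ofPt, hux]

end Groth.Agent.Lib.AlgSpAtPt
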