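import Mathlib
import Groth.Prelude.Def_AlgSpDec

universe u

open CategoryTheory CategoryTheory.Limits AlgebraicGeometry Opposite

namespace Groth.Agent.Lib.H80DecentPt

/-- An epimorphism of algebras from a field to a nontrivial ring is bijective. -/
theorem bijective_algebraMap_of_isEpi (K A : Type*) [Field K] [CommRing A] [Nontrivial A]
    [Algebra K A] [Algebra.IsEpi K A] : Function.Bijective (algebraMap K A) := by
  refine ⟨(algebraMap K A).injective, fun a => ?_⟩
  obtain ⟨φ, hφ⟩ := LinearMap.exists_leftInverse_of_injective (Algebra.linearMap K A)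
    (LinearMap.ker_eq_bot.2 (algebraMap K A).injective)
  have h1 : φ 1 = 1 := by
    have := LinearMap.congr_fun hφ 1
    simpa using this
  have key := (Algebra.isEpi_iff_forall_one_tmul_eq K A).1 inferInstance a
  -- apply φ ⊗ id followed by lid
  have := congrArg (fun t => TensorProduct.lid K A (LinearMap.rTensor A φ t)) key
  simp only [LinearMap.rTensor_tmul, TensorProduct.lid_tmul, h1, one_smul] at this
  refine ⟨φ a, ?_⟩
  rw [Algebra.algebraMap_eq_smul_one, ← this]

/-- A nonempty scheme with at most one point is affine. -/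
theorem isAffine_of_subsingleton (Z : Scheme.{u}) [Subsingleton Z] [Nonempty Z] : IsAffine Z := by
  obtain ⟨z⟩ := ‹Nonempty Z›
  obtain ⟨U, hU, hzU, -⟩ := exists_isAffineOpen_mem_and_subset (x := z) (U := ⊤) trivial
  have : U = ⊤ := by
    ext y
    simp only [SetLike.mem_coe, TopologicalSpace.Opens.coe_top, Set.mem_univ, iff_true]
    rwa [Subsingleton.elim y z]
  subst this
  have : IsAffine ↑(⊤ : Z.Opens) := hU
  exact IsAffine.of_isIso (Scheme.topIso Z).inv

/-- A monomorphism from a nonempty scheme to the spectrum of a field is an isomorphism. -/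
theorem isIso_of_mono_of_field {K : Type u} [Field K] {Z : Scheme.{u}} (f : Z ⟶ Spec (.of K))
    [Mono f] [Nonempty Z] : IsIso f := by
  have : Subsingleton Z := f.injective.subsingleton
  have : IsAffine Z := isAffine_of_subsingleton Z
  let g : Spec Γ(Z, ⊤) ⟶ Spec (.of K) := Z.isoSpec.inv ≫ f
  have hg : Mono g := mono_comp _ _
  obtain ⟨ψ, hψ⟩ : ∃ ψ : CommRingCat.of K ⟶ Γ(Z, ⊤), Spec.map ψ = g := ⟨Spec.preimage g, Spec.map_preimage g⟩
  have hψm : Mono (Spec.map ψ) := hψ ▸ hg
  have hψe : Epi ψ := by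
    have : Mono ψ.op := Scheme.Spec.mono_of_mono_map hψm
    exact unop_epi_of_mono ψ.op
  algebraize [ψ.hom]
  have hepi : Algebra.IsEpi K Γ(Z, ⊤) := CommRingCat.epi_iff_epi.1 hψe
  have : Nontrivial Γ(Z, ⊤) := by
    have : Nonempty (Spec Γ(Z, ⊤)) := ‹Nonempty Z›.map Z.isoSpec.hom
    exact (PrimeSpectrum.nonempty_iff_nontrivial).1 this
  have hbij := bijective_algebraMap_of_isEpi K Γ(Z, ⊤)
  have : IsIso ψ := (ConcreteCategory.isIso_iff_bijective ψ).2 hbij
  have : IsIso g := hψ ▸ inferInstance
  have : f = Z.isoSpec.hom ≫ g := by simp [g]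
  rw [this]
  infer_instance

section AlgSpPart

open AlgSp

variable {S : Scheme.{u}} {F G : Sp S}

/-- Precomposing `p.toHom` with `h_a` corresponds to restricting the section along `a`. -/
theorem yon_map_comp_toHom (p : FieldPt F) {T : Over S} (a : T ⟶ p.pt) :
    (yon S).map a ≫ p.toHom = (J S).uliftYonedaEquiv.symm (F.obj.map a.op p.val) :=
  GrothendieckTopology.uliftYonedaEquiv_symm_naturality_left _ _ _ _

/-- The field-valued point defined by a morphism `h_{Spec K} ⟶ F`. -/
noncomputable def ofHom {K : Type u} [Field K] (str : Spec (CommRingCat.of K) ⟶ S)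
    (g : (yon S).obj (Over.mk str) ⟶ F) : FieldPt F :=
  ⟨K, str, (J S).uliftYonedaEquiv g⟩

@[simp] theorem toHom_ofHom {K : Type u} [Field K] (str : Spec (CommRingCat.of K) ⟶ S)
    (g : (yon S).obj (Over.mk str) ⟶ F) : (ofHom str g).toHom = g :=
  Equiv.symm_apply_apply _ _

theorem ofHom_toHom (p : FieldPt F) : ofHom p.str p.toHom = p := by
  obtain ⟨K, str, v⟩ := p
  change (⟨K, str, (J S).uliftYonedaEquiv (FieldPt.toHom ⟨K, str, v⟩)⟩ : FieldPt F) = ⟨K, str, v⟩
  have := FieldPt.uliftYonedaEquiv_toHom (⟨K, str, v⟩ : FieldPt F)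
  exact congrArg (fun t => (⟨K, str, t⟩ : FieldPt F)) this

/-- Two field-valued points are related iff their morphisms agree after restriction to a common
field. -/
theorem rel_iff_toHom (p q : FieldPt F) : FieldPt.Rel p q ↔
    ∃ (Ω : Type u) (_ : Field Ω) (w : Spec (CommRingCat.of Ω) ⟶ S) (a : Over.mk w ⟶ p.pt)
      (b : Over.mk w ⟶ q.pt), (yon S).map a ≫ p.toHom = (yon S).map b ≫ q.toHom := by
  constructor
  · rintro ⟨Ω, _, w, a, b, h⟩
    refine ⟨Ω, inferInstance, w, a, b, ?_⟩
    rw [yon_map_comp_toHom, yon_map_comp_toHom, h]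
  · rintro ⟨Ω, _, w, a, b, h⟩
    refine ⟨Ω, inferInstance, w, a, b, ?_⟩
    rw [yon_map_comp_toHom, yon_map_comp_toHom] at h
    exact (J S).uliftYonedaEquiv.symm.injective h

/-- If `q.toHom` factors through `p.toHom` then `p` and `q` define the same point. -/
theorem mk_eq_of_toHom_eq (p q : FieldPt F) (m : q.pt ⟶ p.pt)
    (h : q.toHom = (yon S).map m ≫ p.toHom) : Points.mk q = Points.mk p := by
  refine Points.sound ((rel_iff_toHom q p).2 ⟨q.K, inferInstance, q.str, 𝟙 _, m, ?_⟩)
  rw [h]
  erw [(yon S).map_id]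
  rw [Category.id_comp]

/-- **Factoring through a monomorphic point.** If `p.toHom` is a representable monomorphism and
`q` lies in the class of `p`, then `q.toHom` factors through `p.toHom`. -/
theorem exists_factor_of_mk_eq (p q : FieldPt F) (hm : Mono p.toHom) (hr : Representable p.toHom)
    (h : Points.mk q = Points.mk p) : ∃ m : q.pt ⟶ p.pt, q.toHom = (yon S).map m ≫ p.toHom := by
  obtain ⟨Ω, _, w, a, b, hab⟩ := (rel_iff_toHom q p).1 (Points.mk_eq_mk_iff.1 h)
  have hpb := hr.isPullback' q.toHom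
  have hmono : Mono ((yon S).map (hr.snd q.toHom)) := hpb.mono_snd_of_mono
  have hmono' : Mono (hr.snd q.toHom) := (yon S).mono_of_mono_map hmono
  have hmono'' : Mono (hr.snd q.toHom).left := inferInstance
  -- the pullback is nonempty
  let c : Over.mk w ⟶ hr.pullback q.toHom := hr.lift' b a hab.symm
  have hne : Nonempty ↥(hr.pullback q.toHom).left := ⟨c.left (IsLocalRing.closedPoint Ω)⟩
  have hiso : IsIso (hr.snd q.toHom).left := isIso_of_mono_of_field (K := q.K) (hr.snd q.toHom).left
  have hiso' : IsIso (hr.snd q.toHom) := by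
    have : IsIso ((Over.forget S).map (hr.snd q.toHom)) := hiso
    exact isIso_of_reflects_iso (hr.snd q.toHom) (Over.forget S)
  refine ⟨inv (hr.snd q.toHom) ≫ hr.fst' q.toHom, ?_⟩
  rw [Functor.map_comp, Category.assoc, hpb.w, ← Category.assoc, ← Functor.map_comp,
    IsIso.inv_hom_id]
  erw [(yon S).map_id]
  rw [Category.id_comp]

end AlgSpPart

section AlgSpPart2

open AlgSp

variable {S : Scheme.{u}} {F G : Sp S}

/-- Two field-valued points with the same field and structure morphism and the same morphism are equal. -/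
theorem fieldPt_ext_of_toHom {K : Type u} [Field K] (str : Spec (CommRingCat.of K) ⟶ S)
    (v v' : F.obj.obj (op (Over.mk str)))
    (h : (⟨K, str, v⟩ : FieldPt F).toHom = (⟨K, str, v'⟩ : FieldPt F).toHom) : v = v' :=
  (J S).uliftYonedaEquiv.symm.injective h

theorem map_ofHom (f : F ⟶ G) {K : Type u} [Field K] (str : Spec (CommRingCat.of K) ⟶ S)
    (g : (yon S).obj (Over.mk str) ⟶ F) : (ofHom str g).map f = ofHom str (g ≫ f) := rfl

/-- `p.map f = ofHom p.str (p.toHom ≫ f)`. -/
theorem map_eq_ofHom (f : F ⟶ G) (p : FieldPt F) : p.map f = ofHom p.str (p.toHom ≫ f) := by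
  have h : (p.map f).toHom = p.toHom ≫ f := FieldPt.toHom_map f p
  rw [← h]
  exact (ofHom_toHom (p.map f)).symm

/-- If `h_c ≫ j = r.toHom` then the image of the point of `Spec K` under `c` defines the class of `r`. -/
theorem ofPt_eq_mk_of_comp_eq {W : Over S} (j : (yon S).obj W ⟶ F) (r : FieldPt F) (c : r.pt ⟶ W)
    (h : (yon S).map c ≫ j = r.toHom) :
    Points.ofPt j (c.left (IsLocalRing.closedPoint r.K)) = Points.mk r := by
  rw [Points.ofPt_eq_map_ofScheme, Points.ofScheme_apply_eq_mk W c.left (Over.w c), Points.map_mk]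
  congr 1
  obtain ⟨K, str, v⟩ := r
  change (⟨K, str, _⟩ : FieldPt F) = ⟨K, str, v⟩
  refine congrArg (fun t => (⟨K, str, t⟩ : FieldPt F)) ?_
  have h2 := congrArg (J S).uliftYonedaEquiv h
  rw [FieldPt.uliftYonedaEquiv_toHom, GrothendieckTopology.uliftYonedaEquiv_comp,
    GrothendieckTopology.uliftYonedaEquiv_uliftYoneda_map] at h2
  exact h2

instance quasiCompact_of_finite_source {X Y : Scheme.{u}} (f : X ⟶ Y) [Finite ↥X] : QuasiCompact f where
  isCompact_preimage _ _ _ := (Set.toFinite _).isCompact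

theorem mono_yon_map_fromSpecResidueField (W : Over S) (w : ↥W.left) :
    Mono ((yon S).map (Over.homMk (U := Over.mk (W.left.fromSpecResidueField w ≫ W.hom))
      (W.left.fromSpecResidueField w) rfl)) := by
  have : Mono (Over.homMk (U := Over.mk (W.left.fromSpecResidueField w ≫ W.hom)) (V := W)
      (W.left.fromSpecResidueField w) rfl) := by
    have h0 : Mono (W.left.fromSpecResidueField w) := inferInstance
    exact @Over.mono_of_mono_left _ _ _ _ _ _ h0
  infer_instance

theorem repWith_quasiCompact_yon_map_fromSpecResidueField (W : Over S) (w : ↥W.left) :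
    RepWith @QuasiCompact ((yon S).map (Over.homMk (U := Over.mk (W.left.fromSpecResidueField w ≫ W.hom))
      (W.left.fromSpecResidueField w) rfl)) := by
  rw [repWith_yon_map_iff]
  change QuasiCompact (W.left.fromSpecResidueField w)
  infer_instance

/-- A point of a scheme `W`, pushed along a monomorphic representable quasi-compact `j : h_W ⟶ F`,
is a monomorphic representable quasi-compact field-valued point of `F`. -/
theorem mono_and_repWith_ofPt {W : Over S} (j : (yon S).obj W ⟶ F) (hjm : Mono j)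
    (hjq : RepWith @QuasiCompact j) (w : ↥W.left) :
    Mono (FieldPt.ofPt j w).toHom ∧ RepWith @QuasiCompact (FieldPt.ofPt j w).toHom := by
  rw [FieldPt.toHom_ofPt]
  have := mono_yon_map_fromSpecResidueField W w
  exact ⟨@mono_comp _ _ _ _ _ _ this _ hjm, (RepWith @QuasiCompact).comp_mem _ _
    (repWith_quasiCompact_yon_map_fromSpecResidueField W w) hjq⟩

end AlgSpPart2

section AlgSpPart3

open AlgSp

variable {S : Scheme.{u}}

/-- Base change of a decent sheaf `X` along `h_T ⟶ Y` is decent, provided every morphism from a scheme to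
`Y` is representable (e.g. `Y` an algebraic space). -/
theorem isDecent_of_isPullback_of_isDecent {X Y F' : Sp S}
    (hY : ∀ ⦃U : Over S⦄ (g : (yon S).obj U ⟶ Y), Representable g) (f : X ⟶ Y) (hX : IsDecent X)
    {T : Over S} (g : (yon S).obj T ⟶ Y) (fst : F' ⟶ X) (snd : F' ⟶ (yon S).obj T)
    (hpb : IsPullback fst snd f g) : IsDecent F' := by
  intro x'
  obtain ⟨r, rfl⟩ := Points.mk_surjective x'
  obtain ⟨p, hp, hm, hq⟩ := hX (Points.mk (r.map fst))
  obtain ⟨m, hmr⟩ := exists_factor_of_mk_eq p (r.map fst) hm hq.1 hp.symm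
  rw [FieldPt.toHom_map] at hmr
  -- the scheme `W = Spec k ×_Y T`
  have hrep := hY (p.toHom ≫ f)
  have hbig := hrep.isPullback g
  -- the morphism `j : h_W ⟶ F'`
  let j : (yon S).obj (hrep.pullback g) ⟶ F' :=
    hpb.lift (hrep.fst g ≫ p.toHom) ((yon S).map (hrep.snd g)) (by rw [Category.assoc]; exact hbig.w)
  have hj1 : j ≫ fst = hrep.fst g ≫ p.toHom := hpb.lift_fst _ _ _
  have hj2 : j ≫ snd = (yon S).map (hrep.snd g) := hpb.lift_snd _ _ _
  have hleft : IsPullback j (hrep.fst g) fst p.toHom := by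
    refine IsPullback.of_right ?_ hj1 hpb.flip
    rw [hj2]
    exact hbig.flip
  have hjm : Mono j := hleft.mono_fst_of_mono
  have hjq : RepWith @QuasiCompact j :=
    (RepWith @QuasiCompact).of_isPullback hleft.flip hq
  -- lift `r` to `W`
  let l : (yon S).obj r.pt ⟶ (yon S).obj (hrep.pullback g) :=
    hleft.lift r.toHom ((yon S).map m) hmr
  have hl : l ≫ j = r.toHom := hleft.lift_fst _ _ _
  obtain ⟨c, hc⟩ := (yon S).map_surjective l
  rw [← hc] at hl
  refine ⟨FieldPt.ofPt j (c.left (IsLocalRing.closedPoint r.K)), ?_, ?_⟩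
  · exact ofPt_eq_mk_of_comp_eq j r c hl
  · exact mono_and_repWith_ofPt j hjm hjq _

/-- If `f : X ⟶ Y` is a decent morphism and `Y` is decent then `X` is decent. -/
theorem isDecent_of_isDecentMor {X Y : Sp S} (f : X ⟶ Y) (hf : IsDecentMor f) (hY : IsDecent Y) :
    IsDecent X := by
  intro x
  obtain ⟨r, rfl⟩ := Points.mk_surjective x
  obtain ⟨q, hq, hqm, hqq⟩ := hY (Points.mk (r.map f))
  obtain ⟨m, hmr⟩ := exists_factor_of_mk_eq q (r.map f) hqm hqq.1 hq.symm
  rw [FieldPt.toHom_map] at hmr
  have hpb := IsPullback.of_hasPullback f q.toHom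
  have hF' : IsDecent (pullback f q.toHom) := hf q.toHom _ _ hpb
  let l : (yon S).obj r.pt ⟶ pullback f q.toHom := hpb.lift r.toHom ((yon S).map m) hmr
  have hl : l ≫ pullback.fst f q.toHom = r.toHom := hpb.lift_fst _ _ _
  obtain ⟨p', hp', hpm, hpq⟩ := hF' (Points.mk (ofHom r.str l))
  have hfm : Mono (pullback.fst f q.toHom) := hpb.mono_fst_of_mono
  have hfq : RepWith @QuasiCompact (pullback.fst f q.toHom) :=
    (RepWith @QuasiCompact).of_isPullback hpb.flip hqq
  refine ⟨p'.map (pullback.fst f q.toHom), ?_, ?_, ?_⟩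
  · rw [← Points.map_mk, hp', Points.map_mk, map_ofHom, hl, ofHom_toHom]
  · rw [FieldPt.toHom_map]
    exact @mono_comp _ _ _ _ _ _ hpm _ hfm
  · rw [FieldPt.toHom_map]
    exact (RepWith @QuasiCompact).comp_mem _ _ hpq hfq

end AlgSpPart3

end Groth.Agent.Lib.H80DecentPt
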