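import Groth.Prelude
import Groth.Agent.Lib.AlgSpLocP
import Groth.Agent.Lib.AlgSpPoints
import Groth.Agent.Lib.H80DecentPt
import Mathlib.AlgebraicGeometry.AlgClosed.Basic

set_option autoImplicit false
universe u
open CategoryTheory CategoryTheory.Limits AlgebraicGeometry Opposite
open AlgSp

namespace Groth.Agent.Lib.AlgSpGeomPt

variable {S : Scheme.{u}}

/-- A nonempty scheme locally of finite type over an algebraically closed field has a rational point. -/
theorem exists_section_of_isAlgClosed {W : Scheme.{u}} {K : Type u} [Field K] [IsAlgClosed K]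
    (φ : W ⟶ Spec (CommRingCat.of K)) [LocallyOfFiniteType φ] [Nonempty W] :
    ∃ s : Spec (CommRingCat.of K) ⟶ W, s ≫ φ = 𝟙 _ := by
  have : JacobsonSpace ↥W := LocallyOfFiniteType.jacobsonSpace φ
  have h : closure (closedPoints W) = Set.univ := by
    have := JacobsonSpace.closure_inter_closedPoints (X := W) isClosed_univ
    simpa using this
  have hne : (closedPoints W).Nonempty := by
    by_contra hc
    rw [Set.not_nonempty_iff_eq_empty] at hc
    rw [hc, closure_empty] at h
    exact Set.empty_ne_univ h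
  obtain ⟨x, hx⟩ := hne
  exact ⟨pointOfClosedPoint φ x hx, pointOfClosedPoint_comp φ x hx⟩

open Groth.Agent.Lib.AlgSpLocP Groth.Agent.Lib.AlgSpPoints Groth.Agent.Lib.H80DecentPt

/-- Geometric points lift along a surjective morphism locally of finite type of algebraic spaces. -/
theorem exists_lift_of_isSurjectiveMor {X Y : Sp S} (hX : IsAlgSpace X) (hY : IsAlgSpace Y)
    (f : X ⟶ Y) (hf : LocP @LocallyOfFiniteType f) (hs : IsSurjectiveMor f)
    (k : Type u) [Field k] [IsAlgClosed k] (str : Spec (CommRingCat.of k) ⟶ S)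
    (y : (yon S).obj (Over.mk str) ⟶ Y) :
    ∃ x : (yon S).obj (Over.mk str) ⟶ X, x ≫ f = y := by
  obtain ⟨U, a, hae, has⟩ := hX.atlas
  have h1 : LocP @LocallyOfFiniteType (a ≫ f) := locP_comp_of_etale _ a hae f hf
  have h2 : RepWith @LocallyOfFiniteType (a ≫ f) :=
    repWith_of_locP etLocalClass_lft hY (hY.representable_from_yon (a ≫ f)) h1
  have sq := h2.rep.isPullback y
  have hφ : LocallyOfFiniteType (h2.rep.snd y).left := h2.property_snd y
  -- the fibre is nonempty
  have hne : Nonempty ↥(h2.rep.pullback y).left := by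
    obtain ⟨x, hx⟩ := hs (Points.ofPt y (IsLocalRing.closedPoint k))
    have hsa : Function.Surjective (Points.map a) :=
      surjective_map_of_representable has.rep fun T g => (has.property_snd g : Surjective _).surj
    obtain ⟨u, rfl⟩ := hsa x
    rw [← Points.map_comp, Points.ofPt_eq_map_ofScheme] at hx
    obtain ⟨p, -, -⟩ := exists_point_of_isPullback sq u _ hx
    exact ⟨Points.toScheme _ p⟩
  obtain ⟨s, hs⟩ := exists_section_of_isAlgClosed (h2.rep.snd y).left
  let s' : Over.mk str ⟶ h2.rep.pullback y := Over.homMk s (by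
    have hw := Over.w (h2.rep.snd y)
    rw [← hw, ← Category.assoc, hs]
    exact Category.id_comp _)
  have hs' : s' ≫ h2.rep.snd y = 𝟙 _ := Over.OverMorphism.ext (by simpa [s'] using hs)
  refine ⟨(yon S).map s' ≫ h2.rep.fst y ≫ a, ?_⟩
  rw [Category.assoc, Category.assoc, sq.w, ← Category.assoc, ← Functor.map_comp, hs',
    CategoryTheory.Functor.map_id, Category.id_comp]

/-- If geometric points lift along `f`, then `f` is surjective on points. -/
theorem isSurjectiveMor_of_exists_lift {X Y : Sp S} (f : X ⟶ Y)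
    (h : ∀ (k : Type u) [Field k] [IsAlgClosed k] (str : Spec (CommRingCat.of k) ⟶ S)
      (y : (yon S).obj (Over.mk str) ⟶ Y), ∃ x : (yon S).obj (Over.mk str) ⟶ X, x ≫ f = y) :
    IsSurjectiveMor f := by
  intro z
  induction z using Points.ind with
  | h p =>
  let Ω := AlgebraicClosure p.K
  let i : Spec (CommRingCat.of Ω) ⟶ Spec (CommRingCat.of p.K) :=
    Spec.map (CommRingCat.ofHom (algebraMap p.K Ω))
  let w : Spec (CommRingCat.of Ω) ⟶ S := i ≫ p.str
  let a : Over.mk w ⟶ p.pt := Over.homMk i rfl
  obtain ⟨x, hx⟩ := h Ω w ((yon S).map a ≫ p.toHom)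
  refine ⟨Points.mk (ofHom w x), ?_⟩
  rw [Points.map_mk, map_ofHom, hx]
  exact mk_eq_of_toHom_eq p _ a (toHom_ofHom _ _)

end Groth.Agent.Lib.AlgSpGeomPt
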