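import Groth.Prelude
import Groth.Agent.Lib.AlgSpAtPt
import Groth.Agent.Lib.AlgSpGeomPt

set_option autoImplicit false
universe u
open CategoryTheory CategoryTheory.Limits AlgebraicGeometry Opposite
open AlgSp

namespace Groth.Agent.Lib.AlgSpFtPt
open Groth.Agent.Lib.AlgSpLocP Groth.Agent.Lib.AlgSpBasic Groth.Agent.Lib.AlgSpAtPt
  Groth.Agent.Lib.AlgSpQC Groth.Agent.Lib.AlgSpPoints

variable {S : Scheme.{u}}

/-- `x` is a finite type point of the sheaf `X`. -/
def IsFtPt (X : Sp S) (x : Points X) : Prop :=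
  ∃ (k : Type u) (_ : Field k) (str : Spec (CommRingCat.of k) ⟶ S)
    (ξ : (yon S).obj (Over.mk str) ⟶ X),
    LocP @LocallyOfFiniteType ξ ∧ Points.ofPt ξ (IsLocalRing.closedPoint k) = x

theorem sevenClass_lft : SevenClass @LocallyOfFiniteType.{u} := Or.inl rfl

/-- The spectrum of the residue field at a point, over `S`. -/
noncomputable def resOver (U : Over S) (t : ↥U.left) : Over S :=
  Over.mk (U.left.fromSpecResidueField t ≫ U.hom)

noncomputable def resOverι (U : Over S) (t : ↥U.left) : resOver U t ⟶ U :=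
  Over.homMk (U.left.fromSpecResidueField t) rfl

/-- A morphism from a scheme `U` to an algebraic space, composed of a locally finite type morphism of schemes
followed by an etale chart, sends closed points of `U`-charts to finite type points. -/
theorem isFtPt_of_closed {X : Sp S} (hX : IsAlgSpace X) {U V : Over S} (k : U ⟶ V)
    (hk : LocallyOfFiniteType k.left) (b : (yon S).obj V ⟶ X) (hb : RepWith @Etale b) (t : ↥U.left)
    (ht : IsClosed ({t} : Set ↥U.left)) : IsFtPt X (Points.ofPt ((yon S).map k ≫ b) t) := by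
  have hci : IsClosedImmersion (U.left.fromSpecResidueField t) :=
    isClosed_singleton_iff_isClosedImmersion.1 ht
  have h1 : LocallyOfFiniteType (resOverι U t ≫ k).left := by
    change LocallyOfFiniteType (U.left.fromSpecResidueField t ≫ k.left)
    infer_instance
  refine ⟨↥(U.left.residueField t), inferInstance, U.left.fromSpecResidueField t ≫ U.hom,
    (yon S).map (resOverι U t ≫ k) ≫ b,
    locP_yon_map_comp_etale sevenClass_lft hX (resOverι U t ≫ k) h1 b hb, ?_⟩
  rw [Functor.map_comp, Category.assoc, ofPt_yon_map_comp]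
  congr 1
  exact Scheme.fromSpecResidueField_apply _ _


theorem exists_isFtPt_of_isLocallyClosed {X : Sp S} (hX : IsAlgSpace X) (T : Set (Points X))
    (hT : IsLocallyClosed T) (hne : T.Nonempty) : ∃ x ∈ T, IsFtPt X x := by
  obtain ⟨U₀, a₀, hae, has⟩ := hX.atlas
  obtain ⟨x₀, hx₀⟩ := hne
  obtain ⟨u₀, rfl⟩ := surjective_ofPt_of_repWith_surjective has x₀
  have hcont : Continuous (Points.ofPt a₀) := Points.continuous_ofPt a₀
  obtain ⟨O, Z, hO, hZ, hOZ⟩ := hT.preimage hcont
  have hu₀ : u₀ ∈ O ∩ Z := by rw [← hOZ]; exact hx₀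
  obtain ⟨_, ⟨(O' : U₀.left.Opens), hO'aff, rfl⟩, hu₀O', hO'O⟩ :=
    U₀.left.isBasis_affineOpens.exists_subset_of_mem_open hu₀.1 hO
  have : CompactSpace ↥O' := isCompact_iff_compactSpace.mp hO'aff.isCompact
  obtain ⟨w, hwZ, hwc⟩ := IsClosed.exists_closed_singleton
    (hZ.preimage (continuous_subtype_val (p := fun t => t ∈ O'))) ⟨⟨u₀, hu₀O'⟩, hu₀.2⟩
  have hlft : LocallyOfFiniteType (opensOverι U₀ O').left := by
    change LocallyOfFiniteType O'.ι
    infer_instance
  refine ⟨_, ?_, isFtPt_of_closed hX (opensOverι U₀ O') hlft a₀ hae w hwc⟩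
  rw [ofPt_yon_map_comp]
  have hw : (opensOverι U₀ O').left w ∈ O ∩ Z := ⟨hO'O w.2, hwZ⟩
  rw [← hOZ] at hw
  exact hw


theorem subset_closure_isFtPt {X : Sp S} (hX : IsAlgSpace X) (T : Set (Points X)) (hT : IsClosed T) :
    T ⊆ closure {x | x ∈ T ∧ IsFtPt X x} := by
  intro x hx
  rw [mem_closure_iff]
  intro O hO hxO
  obtain ⟨z, hz, hzft⟩ := exists_isFtPt_of_isLocallyClosed hX (O ∩ T)
    (hO.isLocallyClosed.inter hT.isLocallyClosed) ⟨x, hxO, hx⟩
  exact ⟨z, hz.1, hz.2, hzft⟩

/-- Finite type points lift along surjective morphisms locally of finite type. -/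
theorem exists_isFtPt_lift {X Y : Sp S} (hX : IsAlgSpace X) (hY : IsAlgSpace Y) (f : X ⟶ Y)
    (hf : LocP @LocallyOfFiniteType f) (hs : IsSurjectiveMor f) (y : Points Y) (hy : IsFtPt Y y) :
    ∃ x : Points X, Points.map f x = y ∧ IsFtPt X x := by
  obtain ⟨k, _, str, ξ, hξ, rfl⟩ := hy
  obtain ⟨U, a, hae, has⟩ := hX.atlas
  have h1 : LocP @LocallyOfFiniteType (a ≫ f) := locP_comp_of_etale _ a hae f hf
  have h2 : RepWith @LocallyOfFiniteType (a ≫ f) :=
    repWith_of_locP etLocalClass_lft hY (hY.representable_from_yon (a ≫ f)) h1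
  have hξr : RepWith @LocallyOfFiniteType ξ :=
    repWith_of_locP etLocalClass_lft hY (hY.representable_from_yon ξ) hξ
  have sq := h2.rep.isPullback' ξ
  have hφ : LocallyOfFiniteType (h2.rep.snd ξ).left := h2.property_snd ξ
  have hfst : LocallyOfFiniteType (h2.rep.fst' ξ).left := hξr.property _ _ _ sq.flip
  -- the fibre is nonempty
  have hne : Nonempty ↥(h2.rep.pullback ξ).left := by
    obtain ⟨x, hx⟩ := hs (Points.ofPt ξ (IsLocalRing.closedPoint k))
    obtain ⟨u, rfl⟩ := surjective_map_of_repWith_surjective has x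
    rw [← Points.map_comp, Points.ofPt_eq_map_ofScheme] at hx
    obtain ⟨p, -, -⟩ := exists_point_of_isPullback (h2.rep.isPullback ξ) u _ hx
    exact ⟨Points.toScheme _ p⟩
  -- a closed point of the fibre
  have : JacobsonSpace ↥(h2.rep.pullback ξ).left := by
    have : JacobsonSpace ↥(Over.mk str).left :=
      inferInstanceAs (JacobsonSpace ↥(Spec (CommRingCat.of k)))
    exact LocallyOfFiniteType.jacobsonSpace (h2.rep.snd ξ).left
  have hcl : closure (closedPoints ↥(h2.rep.pullback ξ).left) = Set.univ := by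
    have := JacobsonSpace.closure_inter_closedPoints (X := ↥(h2.rep.pullback ξ).left) isClosed_univ
    simpa using this
  have hne' : (closedPoints ↥(h2.rep.pullback ξ).left).Nonempty := by
    by_contra hc
    rw [Set.not_nonempty_iff_eq_empty] at hc
    rw [hc, closure_empty] at hcl
    exact Set.empty_ne_univ hcl
  obtain ⟨w, hw⟩ := hne'
  refine ⟨Points.ofPt ((yon S).map (h2.rep.fst' ξ) ≫ a) w, ?_,
    isFtPt_of_closed hX (h2.rep.fst' ξ) hfst a hae w hw⟩
  rw [Points.map_ofPt, Category.assoc, sq.w, ofPt_yon_map_comp]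
  congr 1
  have : Subsingleton ↥(Over.mk str).left :=
    inferInstanceAs (Subsingleton ↥(Spec (CommRingCat.of k)))
  exact Subsingleton.elim _ _

end Groth.Agent.Lib.AlgSpFtPt
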