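import Mathlib

set_option autoImplicit false
universe u

open CategoryTheory AlgebraicGeometry

namespace Groth.Agent.Lib.FtPtScheme

/-- Artin–Tate type lemma: if a field `K` is a finitely generated algebra over a domain `D ⊆ K`, then some
localization `D[1/f]` is a field; here in the form: every prime of `D` not containing `f` is zero. -/
theorem exists_ne_zero_forall_prime_eq_bot (D K : Type u) [CommRing D] [IsDomain D] [Field K]
    [Algebra D K] [FaithfulSMul D K] [Algebra.FiniteType D K] :
    ∃ f : D, f ≠ 0 ∧ ∀ q : Ideal D, q.IsPrime → f ∉ q → q = ⊥ := by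
  classical
  let _ : Algebra (FractionRing D) K := FractionRing.liftAlgebra D K
  have : IsScalarTower D (FractionRing D) K := FractionRing.isScalarTower_liftAlgebra D K
  have : Algebra.FiniteType (FractionRing D) K :=
    Algebra.FiniteType.of_restrictScalars_finiteType D _ _
  have : Module.Finite (FractionRing D) K := finite_of_finite_type_of_isJacobsonRing _ _
  have : Algebra.IsAlgebraic (FractionRing D) K := Algebra.IsAlgebraic.of_finite _ _
  have : Algebra.IsAlgebraic D K :=
    (IsFractionRing.comap_isAlgebraic_iff (K := FractionRing D)).2 inferInstance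
  obtain ⟨s, hs⟩ := (‹Algebra.FiniteType D K›).out
  obtain ⟨f, hf0, hf⟩ := Algebra.IsAlgebraic.exists_integral_multiples D s
  refine ⟨f, hf0, ?_⟩
  have hinjDK : Function.Injective (algebraMap D K) := FaithfulSMul.algebraMap_injective D K
  have hfK0 : algebraMap D K f ≠ 0 := fun h => hf0 (hinjDK (by rw [h, map_zero]))
  have hfK : IsUnit (algebraMap D K f) := IsUnit.mk0 _ hfK0
  let _ : Algebra (Localization.Away f) K := (IsLocalization.Away.lift f hfK).toAlgebra
  have : IsScalarTower D (Localization.Away f) K :=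
    IsScalarTower.of_algebraMap_eq (fun x => (IsLocalization.Away.lift_eq f hfK x).symm)
  have hint : Algebra.IsIntegral (Localization.Away f) K := by
    have h1 : ∀ z ∈ s, IsIntegral (Localization.Away f) z := by
      intro z hz
      have h2 : IsIntegral (Localization.Away f) (f • z) := (hf z hz).tower_top
      have h3 : z = algebraMap (Localization.Away f) K (IsLocalization.Away.invSelf f) * (f • z) := by
        rw [Algebra.smul_def, ← mul_assoc, IsScalarTower.algebraMap_apply D (Localization.Away f) K,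
          ← map_mul, mul_comm (IsLocalization.Away.invSelf f), IsLocalization.Away.mul_invSelf,
          map_one, one_mul]
      rw [h3]
      exact isIntegral_algebraMap.mul h2
    have h4 : (Algebra.adjoin D (s : Set K)) ≤
        (integralClosure (Localization.Away f) K).restrictScalars D :=
      Algebra.adjoin_le (fun z hz => h1 z hz)
    refine ⟨fun z => ?_⟩
    have : z ∈ Algebra.adjoin D (s : Set K) := by rw [hs]; trivial
    exact h4 this
  have hinjDf : Function.Injective (algebraMap D (Localization.Away f)) :=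
    IsLocalization.injective (Localization.Away f)
      (powers_le_nonZeroDivisors_of_noZeroDivisors hf0)
  have hinj : Function.Injective (algebraMap (Localization.Away f) K) := by
    change Function.Injective (IsLocalization.Away.lift f hfK)
    unfold IsLocalization.Away.lift
    rw [IsLocalization.lift_injective_iff]
    intro x y
    rw [hinjDf.eq_iff, hinjDK.eq_iff]
  have hfield : IsField (Localization.Away f) :=
    isField_of_isIntegral_of_isField hinj (Field.toIsField K)
  intro q hq hfq
  have hdisj : Disjoint (Submonoid.powers f : Set D) (q : Set D) := by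
    rw [Set.disjoint_left]
    rintro x ⟨n, rfl⟩ hx
    exact hfq (hq.mem_of_pow_mem n hx)
  have h5 := IsLocalization.under_map_of_isPrime_disjoint (Submonoid.powers f) (Localization.Away f) hq hdisj
  have h6 := IsLocalization.isPrime_of_isPrime_disjoint (Submonoid.powers f) (Localization.Away f) q hq hdisj
  let _ := hfield.toField
  have h7 : Ideal.map (algebraMap D (Localization.Away f)) q = ⊥ :=
    (Ideal.eq_bot_or_top _).resolve_right h6.ne_top
  rw [h7] at h5
  rw [← h5]
  ext x
  simp only [Ideal.under, Ideal.mem_comap, Ideal.mem_bot]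
  rw [map_eq_zero_iff _ hinjDf]

/-- Ring-level lemma: a finite type ring map `A → K` to a field: the kernel is the only prime containing it
and avoiding some `f ∉ ker`. -/
theorem exists_notMem_ker_forall_prime_eq {A K : Type u} [CommRing A] [Field K] (φ : A →+* K)
    (hφ : φ.FiniteType) :
    ∃ f : A, f ∉ RingHom.ker φ ∧ ∀ q : Ideal A, q.IsPrime → RingHom.ker φ ≤ q → f ∉ q →
      q = RingHom.ker φ := by
  classical
  have hprime : (RingHom.ker φ).IsPrime := RingHom.ker_isPrime φ
  let D := A ⧸ RingHom.ker φ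
  let ψ : D →+* K := RingHom.kerLift φ
  have hψinj : Function.Injective ψ := RingHom.kerLift_injective φ
  let _ : Algebra D K := ψ.toAlgebra
  have : FaithfulSMul D K := (faithfulSMul_iff_algebraMap_injective D K).2 hψinj
  have hcomp : ψ.comp (Ideal.Quotient.mk (RingHom.ker φ)) = φ := by
    ext x; rfl
  have hψft : ψ.FiniteType := by
    apply RingHom.FiniteType.of_comp_finiteType (f := Ideal.Quotient.mk (RingHom.ker φ))
    rw [hcomp]; exact hφ
  have : Algebra.FiniteType D K := hψft
  obtain ⟨fbar, hf0, hf⟩ := exists_ne_zero_forall_prime_eq_bot D K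
  obtain ⟨f, rfl⟩ := Ideal.Quotient.mk_surjective fbar
  refine ⟨f, fun h => hf0 (Ideal.Quotient.eq_zero_iff_mem.2 h), ?_⟩
  intro q hq hle hfq
  have hker : RingHom.ker (Ideal.Quotient.mk (RingHom.ker φ)) ≤ q := by
    rw [Ideal.mk_ker]; exact hle
  have hqbar : (q.map (Ideal.Quotient.mk (RingHom.ker φ))).IsPrime :=
    Ideal.map_isPrime_of_surjective Ideal.Quotient.mk_surjective hker
  have hfq' : Ideal.Quotient.mk (RingHom.ker φ) f ∉ q.map (Ideal.Quotient.mk (RingHom.ker φ)) := by
    intro hmem
    rw [Ideal.mem_map_iff_of_surjective _ Ideal.Quotient.mk_surjective] at hmem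
    obtain ⟨y, hy, hyf⟩ := hmem
    have : f - y ∈ RingHom.ker φ := by
      rw [← Ideal.Quotient.eq_zero_iff_mem, map_sub, hyf, sub_self]
    have h2 : f - y ∈ q := hle this
    have : f = (f - y) + y := by ring
    rw [this] at hfq
    exact hfq (q.add_mem h2 hy)
  have hbot := hf _ hqbar hfq'
  refine le_antisymm ?_ hle
  intro x hx
  have : Ideal.Quotient.mk (RingHom.ker φ) x ∈ q.map (Ideal.Quotient.mk (RingHom.ker φ)) :=
    Ideal.mem_map_of_mem _ hx
  rw [hbot, Ideal.mem_bot] at this
  exact Ideal.Quotient.eq_zero_iff_mem.1 this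

/-- Affine version. -/
theorem exists_basicOpen_closedPt {A : CommRingCat.{u}} {K : Type u} [Field K]
    (φ : A ⟶ CommRingCat.of K) (hφ : φ.hom.FiniteType) :
    ∃ f : A, PrimeSpectrum.comap φ.hom (IsLocalRing.closedPoint K) ∈ PrimeSpectrum.basicOpen f ∧
      ∀ q ∈ PrimeSpectrum.basicOpen f, PrimeSpectrum.comap φ.hom (IsLocalRing.closedPoint K) ⤳ q →
        q = PrimeSpectrum.comap φ.hom (IsLocalRing.closedPoint K) := by
  obtain ⟨f, hf, h⟩ := exists_notMem_ker_forall_prime_eq φ.hom hφ
  have hp : (PrimeSpectrum.comap φ.hom (IsLocalRing.closedPoint K)).asIdeal = RingHom.ker φ.hom := by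
    change Ideal.comap φ.hom (IsLocalRing.maximalIdeal K) = _
    rw [IsLocalRing.maximalIdeal_eq_bot]; rfl
  refine ⟨f, ?_, ?_⟩
  · rw [PrimeSpectrum.mem_basicOpen, hp]; exact hf
  · intro q hq hsp
    rw [← PrimeSpectrum.le_iff_specializes, ← PrimeSpectrum.asIdeal_le_asIdeal, hp] at hsp
    rw [PrimeSpectrum.mem_basicOpen] at hq
    apply PrimeSpectrum.ext
    rw [hp]
    exact h q.asIdeal q.2 hsp hq

/-- A locally finite type morphism from the spectrum of a field has its image point closed in some open
neighbourhood. -/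
theorem exists_opens_closedPt {U : Scheme.{u}} {K : Type u} [Field K]
    (g : Spec (CommRingCat.of K) ⟶ U) [LocallyOfFiniteType g] :
    ∃ O : U.Opens, g (IsLocalRing.closedPoint K) ∈ O ∧
      ∀ v ∈ O, g (IsLocalRing.closedPoint K) ⤳ v → v = g (IsLocalRing.closedPoint K) := by
  obtain ⟨_, ⟨(O₁ : U.Opens), hO₁, rfl⟩, hu, -⟩ :=
    U.isBasis_affineOpens.exists_subset_of_mem_open (Set.mem_univ (g (IsLocalRing.closedPoint K)))
      isOpen_univ
  have hrange : Set.range g ⊆ Set.range O₁.ι := by
    rintro _ ⟨t, rfl⟩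
    have : t = IsLocalRing.closedPoint K := Subsingleton.elim _ _
    rw [this, Scheme.Opens.range_ι]
    exact hu
  let g' : Spec (CommRingCat.of K) ⟶ O₁.toScheme := IsOpenImmersion.lift O₁.ι g hrange
  have hg' : g' ≫ O₁.ι = g := IsOpenImmersion.lift_fac _ _ _
  have : LocallyOfFiniteType (g' ≫ O₁.ι) := by rw [hg']; infer_instance
  have : LocallyOfFiniteType g' := locallyOfFiniteType_of_comp g' O₁.ι
  let g'' : Spec (CommRingCat.of K) ⟶ Spec Γ(U, O₁) := g' ≫ hO₁.isoSpec.hom
  have : LocallyOfFiniteType g'' := inferInstanceAs (LocallyOfFiniteType (g' ≫ hO₁.isoSpec.hom))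
  have hg'' : g'' ≫ hO₁.fromSpec = g := by
    simp only [g'', Category.assoc, IsAffineOpen.isoSpec_hom_fromSpec, hg']
  obtain ⟨φ, hφ⟩ : ∃ φ : Γ(U, O₁) ⟶ CommRingCat.of K, Spec.map φ = g'' :=
    ⟨Spec.preimage g'', Spec.map_preimage g''⟩
  have hφft : φ.hom.FiniteType := by
    rw [← HasRingHomProperty.Spec_iff (P := @LocallyOfFiniteType), hφ]; infer_instance
  obtain ⟨f, hpf, hcl⟩ := exists_basicOpen_closedPt φ hφft
  have hpt : PrimeSpectrum.comap φ.hom (IsLocalRing.closedPoint K) =
      g'' (IsLocalRing.closedPoint K) := by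
    rw [← hφ]; rfl
  rw [hpt] at hpf hcl
  have hemb := hO₁.fromSpec.isOpenEmbedding
  have hu' : g (IsLocalRing.closedPoint K) = hO₁.fromSpec (g'' (IsLocalRing.closedPoint K)) := by
    rw [← hg'']; rfl
  refine ⟨⟨hO₁.fromSpec '' (PrimeSpectrum.basicOpen f : Set (PrimeSpectrum Γ(U, O₁))),
    hemb.isOpenMap _ (PrimeSpectrum.basicOpen f).2⟩, ?_, ?_⟩
  · rw [hu']
    exact ⟨_, hpf, rfl⟩
  · rintro _ ⟨q, hq, rfl⟩ hsp
    rw [hu', hemb.isInducing.specializes_iff] at hsp
    rw [hu', hcl q hq hsp]

end Groth.Agent.Lib.FtPtScheme
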