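import Groth.Prelude
import Groth.Agent.Lib.AlgSpFtPt
import Groth.Agent.Lib.FtPtScheme

set_option autoImplicit false
universe u
open CategoryTheory CategoryTheory.Limits AlgebraicGeometry Opposite
open AlgSp

namespace Groth.Agent.Lib.AlgSpFtPt
open Groth.Agent.Lib.AlgSpLocP Groth.Agent.Lib.AlgSpBasic Groth.Agent.Lib.AlgSpAtPt
  Groth.Agent.Lib.AlgSpQC Groth.Agent.Lib.AlgSpPoints

variable {S : Scheme.{u}}

theorem isClosed_singleton_opens {U : Scheme.{u}} (O : U.Opens) (t : ↥O.toScheme)
    (h : ∀ v ∈ O, O.ι t ⤳ v → v = O.ι t) : IsClosed ({t} : Set ↥(O.toScheme)) := by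
  rw [← closure_subset_iff_isClosed]
  intro v hv
  rw [← specializes_iff_mem_closure, ← O.ι.isOpenEmbedding.isInducing.specializes_iff] at hv
  have hv2 : O.ι v ∈ O := by
    have : O.ι v ∈ Set.range O.ι := ⟨v, rfl⟩
    rwa [Scheme.Opens.range_ι] at this
  exact O.ι.isOpenEmbedding.injective (h _ hv2 hv)

theorem exists_chart_of_isFtPt {X : Sp S} (hX : IsAlgSpace X) (x : Points X) (hx : IsFtPt X x) :
    ∃ (U : Over S) (φ : (yon S).obj U ⟶ X) (u : ↥U.left), RepWith @Etale φ ∧
      IsClosed ({u} : Set ↥U.left) ∧ Points.ofPt φ u = x := by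
  obtain ⟨k, _, str, ξ, hξ, rfl⟩ := hx
  obtain ⟨U₀, a₀, hae, has⟩ := hX.atlas
  have hξr : RepWith @LocallyOfFiniteType ξ :=
    repWith_of_locP etLocalClass_lft hX (hX.representable_from_yon ξ) hξ
  have sq := hae.rep.isPullback' ξ
  have hsnd : Etale (hae.rep.snd ξ).left := hae.property_snd ξ
  have hsndS : Surjective (hae.rep.snd ξ).left := has.property _ _ _ sq
  have hfst : LocallyOfFiniteType (hae.rep.fst' ξ).left := hξr.property _ _ _ sq.flip
  have hne : Nonempty ↥(hae.rep.pullback ξ).left := by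
    obtain ⟨w, -⟩ := hsndS.surj (IsLocalRing.closedPoint k)
    exact ⟨w⟩
  have : JacobsonSpace ↥(hae.rep.pullback ξ).left := by
    have : JacobsonSpace ↥(Over.mk str).left :=
      inferInstanceAs (JacobsonSpace ↥(Spec (CommRingCat.of k)))
    exact LocallyOfFiniteType.jacobsonSpace (hae.rep.snd ξ).left
  have hcl : closure (closedPoints ↥(hae.rep.pullback ξ).left) = Set.univ := by
    have := JacobsonSpace.closure_inter_closedPoints (X := ↥(hae.rep.pullback ξ).left) isClosed_univ
    simpa using this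
  have hne' : (closedPoints ↥(hae.rep.pullback ξ).left).Nonempty := by
    by_contra hc
    rw [Set.not_nonempty_iff_eq_empty] at hc
    rw [hc, closure_empty] at hcl
    exact Set.empty_ne_univ hcl
  obtain ⟨w, hw⟩ := hne'
  have hci : IsClosedImmersion ((hae.rep.pullback ξ).left.fromSpecResidueField w) :=
    isClosed_singleton_iff_isClosedImmersion.1 hw
  let g : Spec (CommRingCat.of ↥((hae.rep.pullback ξ).left.residueField w)) ⟶ U₀.left :=
    (hae.rep.pullback ξ).left.fromSpecResidueField w ≫ (hae.rep.fst' ξ).left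
  have hg : LocallyOfFiniteType g := by
    change LocallyOfFiniteType
      ((hae.rep.pullback ξ).left.fromSpecResidueField w ≫ (hae.rep.fst' ξ).left)
    infer_instance
  have hgpt : g (IsLocalRing.closedPoint _) = (hae.rep.fst' ξ).left w := by
    change (hae.rep.fst' ξ).left (((hae.rep.pullback ξ).left.fromSpecResidueField w) _) = _
    congr 1
    exact Scheme.fromSpecResidueField_apply _ _
  obtain ⟨O, huO, hO⟩ := Groth.Agent.Lib.FtPtScheme.exists_opens_closedPt g
  rw [hgpt] at huO hO
  refine ⟨opensOver U₀ O, (yon S).map (opensOverι U₀ O) ≫ a₀, ⟨(hae.rep.fst' ξ).left w, huO⟩,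
    (RepWith @Etale).comp_mem _ _ (repWith_etale_opensOverι U₀ O) hae, ?_, ?_⟩
  · exact isClosed_singleton_opens O ⟨(hae.rep.fst' ξ).left w, huO⟩ hO
  · rw [ofPt_yon_map_comp]
    change Points.ofPt a₀ ((hae.rep.fst' ξ).left w) = _
    rw [← ofPt_yon_map_comp, sq.w, ofPt_yon_map_comp]
    congr 1
    have : Subsingleton ↥(Over.mk str).left :=
      inferInstanceAs (Subsingleton ↥(Spec (CommRingCat.of k)))
    exact Subsingleton.elim _ _

end Groth.Agent.Lib.AlgSpFtPt
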