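import Mathlib
import Groth.Agent.Lib.FtPtScheme
import Groth.Agent.Lib.AlgSpBasic

set_option autoImplicit false

universe u

open CategoryTheory AlgebraicGeometry

namespace Groth.Agent.Lib.JacobsonDescent

/-- The image of a closed point under a morphism locally of finite type is a locally closed point. -/
theorem isLocallyClosed_singleton_of_lft {S' S : Scheme.{u}} (f : S' ⟶ S) [LocallyOfFiniteType f]
    (s' : S') (hs' : IsClosed ({s'} : Set S')) : IsLocallyClosed ({f s'} : Set S) := by
  have hci : IsClosedImmersion (S'.fromSpecResidueField s') :=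
    isClosed_singleton_iff_isClosedImmersion.1 hs'
  let g : Spec (CommRingCat.of ↥(S'.residueField s')) ⟶ S := S'.fromSpecResidueField s' ≫ f
  have hg : LocallyOfFiniteType g := by
    change LocallyOfFiniteType (S'.fromSpecResidueField s' ≫ f)
    infer_instance
  have hgpt : g (IsLocalRing.closedPoint _) = f s' := by
    change f ((S'.fromSpecResidueField s') _) = _
    congr 1
    exact Scheme.fromSpecResidueField_apply _ _
  obtain ⟨O, huO, hO⟩ := Groth.Agent.Lib.FtPtScheme.exists_opens_closedPt g
  rw [hgpt] at huO hO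
  refine ⟨O, closure {f s'}, O.2, isClosed_closure, ?_⟩
  ext v
  constructor
  · rintro rfl
    exact ⟨huO, subset_closure rfl⟩
  · rintro ⟨hvO, hv⟩
    rw [← specializes_iff_mem_closure] at hv
    exact hO v hvO hv

/-- The Jacobson property descends along etale surjective morphisms. -/
theorem jacobsonSpace_of_etale_surjective {S' S : Scheme.{u}} (f : S' ⟶ S) [Etale f] [Surjective f]
    [JacobsonSpace S'] : JacobsonSpace S := by
  rw [jacobsonSpace_iff_locallyClosed]
  intro Z hne hZ
  have hne' : (f ⁻¹' Z).Nonempty := by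
    obtain ⟨z, hz⟩ := hne
    obtain ⟨z', rfl⟩ := f.surjective z
    exact ⟨z', hz⟩
  obtain ⟨s', hs'Z, hs'c⟩ := nonempty_inter_closedPoints hne' (hZ.preimage f.continuous)
  refine ⟨f s', hs'Z, ?_⟩
  have hlc : IsLocallyClosed ({f s'} : Set S) := isLocallyClosed_singleton_of_lft f s' hs'c
  rw [mem_closedPoints_iff, ← closure_subset_iff_isClosed]
  intro s₁ hs₁
  rw [← specializes_iff_mem_closure] at hs₁
  obtain ⟨s₁', rfl⟩ := f.surjective s₁
  obtain ⟨s'', hs''sp, hs''f⟩ := (Flat.generalizingMap f) hs₁
  have hlqf : LocallyQuasiFinite f := Groth.Agent.Lib.AlgSpBasic.locallyQuasiFinite_of_etale f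
  have hdisc : _root_.IsDiscrete (f ⁻¹' {f s'}) := f.isDiscrete_preimage_singleton _
  rw [isDiscrete_iff_forall_mem_exists_isOpen] at hdisc
  obtain ⟨V, hV, hVs⟩ := hdisc s'' hs''f
  have hlc'' : IsLocallyClosed ({s''} : Set S') := by
    rw [← hVs]
    exact hV.isLocallyClosed.inter (hlc.preimage f.continuous)
  have hc'' := isClosed_singleton_of_isLocallyClosed_singleton hlc''
  have h1 : s₁' ∈ closure {s''} := hs''sp.mem_closure
  rw [hc''.closure_eq] at h1
  rw [Set.mem_singleton_iff] at h1 ⊢
  rw [h1, hs''f]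

end Groth.Agent.Lib.JacobsonDescent
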