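import Groth.Prelude
import Groth.Agent.Lib.AlgSpFtPt2
import Groth.Agent.Lib.JacobsonDescent

set_option autoImplicit false

universe u
open CategoryTheory CategoryTheory.Limits AlgebraicGeometry Opposite
open AlgSp

namespace Groth.Agent.Lib.AlgSpJacobson
open Groth.Agent.Lib.AlgSpLocP Groth.Agent.Lib.AlgSpBasic Groth.Agent.Lib.AlgSpAtPt
  Groth.Agent.Lib.AlgSpQC Groth.Agent.Lib.AlgSpPoints Groth.Agent.Lib.AlgSpFtPt
  Groth.Agent.Lib.JacobsonDescent

variable {S : Scheme.{u}}

/-- A scheme locally of finite type over a Jacobson algebraic space is Jacobson. -/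
theorem jacobsonSpace_of_locP_lft {X : Sp S} (hX : IsAlgSpace X)
    (hJ : EtaleLocally (fun U => JacobsonSpace ↥U) X) {W : Over S} (g : (yon S).obj W ⟶ X)
    (hg : LocP @LocallyOfFiniteType g) : JacobsonSpace ↥W.left := by
  obtain ⟨U, p, hpe, hps, hU⟩ := hJ
  have h2 : RepWith @LocallyOfFiniteType g :=
    repWith_of_locP etLocalClass_lft hX (hX.representable_from_yon g) hg
  have sq := h2.rep.isPullback' p
  have hsnd : LocallyOfFiniteType (h2.rep.snd p).left := h2.property_snd p
  have hfe : Etale (h2.rep.fst' p).left := hpe.property _ _ _ sq.flip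
  have hfs : Surjective (h2.rep.fst' p).left := hps.property _ _ _ sq.flip
  have : JacobsonSpace ↥U.left := hU
  have hW : JacobsonSpace ↥(h2.rep.pullback p).left :=
    LocallyOfFiniteType.jacobsonSpace (h2.rep.snd p).left
  exact jacobsonSpace_of_etale_surjective (h2.rep.fst' p).left

/-- Stacks 0BA5-like: over a Jacobson algebraic space, a finite type point in the image of a scheme locally of finite
type is the image of a closed point. -/
theorem exists_closed_over_ftPt {X : Sp S} (hX : IsAlgSpace X)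
    (hJ : EtaleLocally (fun U => JacobsonSpace ↥U) X) (x : Points X)
    (hx : HasAt (fun U u => IsClosed ({u} : Set ↥U)) X x) {W : Over S} (g : (yon S).obj W ⟶ X)
    (hg : LocP @LocallyOfFiniteType g) (hxW : x ∈ Set.range (Points.ofPt g)) :
    ∃ w : ↥W.left, IsClosed ({w} : Set ↥W.left) ∧ Points.ofPt g w = x := by
  obtain ⟨U₁, a₁, u₁, ha₁, rfl, hu₁⟩ := hx
  obtain ⟨w₀, hw₀⟩ := hxW
  have hWJ : JacobsonSpace ↥W.left := jacobsonSpace_of_locP_lft hX hJ g hg
  have h2 : RepWith @LocallyOfFiniteType g :=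
    repWith_of_locP etLocalClass_lft hX (hX.representable_from_yon g) hg
  have sq := h2.rep.isPullback' a₁
  have hsnd : LocallyOfFiniteType (h2.rep.snd a₁).left := h2.property_snd a₁
  have hfe : Etale (h2.rep.fst' a₁).left := ha₁.property _ _ _ sq.flip
  have hTJ : JacobsonSpace ↥(h2.rep.pullback a₁).left :=
    LocallyOfFiniteType.jacobsonSpace (h2.rep.fst' a₁).left
  obtain ⟨t₀, ht₀, -⟩ := exists_of_isPullback_yon sq (Points.ofScheme W w₀) u₁
    (by rw [← Points.ofPt_eq_map_ofScheme, hw₀])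
  have hZc : IsClosed ((h2.rep.snd a₁).left ⁻¹' {u₁}) := hu₁.preimage (h2.rep.snd a₁).left.continuous
  obtain ⟨t, htZ, htc⟩ := nonempty_inter_closedPoints ⟨t₀, ht₀⟩ hZc.isLocallyClosed
  refine ⟨(h2.rep.fst' a₁).left t, ?_, ?_⟩
  · exact isClosed_singleton_of_isLocallyClosed_singleton
      (isLocallyClosed_singleton_of_lft (h2.rep.fst' a₁).left t htc)
  · rw [← ofPt_yon_map_comp, sq.w, ofPt_yon_map_comp]
    congr 1

/-- In a Jacobson chart of an algebraic space, every point over a finite type point is a closed point. -/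
theorem isClosed_singleton_of_ofPt_eq {X : Sp S} {U : Over S}
    (p : (yon S).obj U ⟶ X) (hpe : RepWith @Etale p) [JacobsonSpace ↥U.left] {U₁ : Over S}
    (a₁ : (yon S).obj U₁ ⟶ X) (ha₁ : RepWith @Etale a₁) (u₁ : ↥U₁.left)
    (hu₁ : IsClosed ({u₁} : Set ↥U₁.left)) (v : ↥U.left) (hv : Points.ofPt p v = Points.ofPt a₁ u₁) :
    IsClosed ({v} : Set ↥U.left) := by
  have sq := hpe.rep.isPullback' a₁
  have hsnd : Etale (hpe.rep.snd a₁).left := hpe.property_snd a₁
  have hfe : Etale (hpe.rep.fst' a₁).left := ha₁.property _ _ _ sq.flip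
  have hTJ : JacobsonSpace ↥(hpe.rep.pullback a₁).left :=
    LocallyOfFiniteType.jacobsonSpace (hpe.rep.fst' a₁).left
  obtain ⟨t, ht, ht2⟩ := exists_of_isPullback_yon sq (Points.ofScheme U v) u₁
    (by rw [← Points.ofPt_eq_map_ofScheme, hv])
  have ht3 : (hpe.rep.fst' a₁).left t = v := by
    rw [← Points.toScheme_ofPt, ht2, Points.toScheme_ofScheme]
  have hlqf : LocallyQuasiFinite (hpe.rep.snd a₁).left := locallyQuasiFinite_of_etale _
  have hdisc : _root_.IsDiscrete ((hpe.rep.snd a₁).left ⁻¹' {u₁}) :=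
    (hpe.rep.snd a₁).left.isDiscrete_preimage_singleton _
  rw [isDiscrete_iff_forall_mem_exists_isOpen] at hdisc
  obtain ⟨V, hV, hVs⟩ := hdisc t ht
  have hlc : IsLocallyClosed ({t} : Set ↥(hpe.rep.pullback a₁).left) := by
    rw [← hVs]
    exact hV.isLocallyClosed.inter
      (hu₁.preimage (hpe.rep.snd a₁).left.continuous).isLocallyClosed
  have htc := isClosed_singleton_of_isLocallyClosed_singleton hlc
  rw [← ht3]
  exact isClosed_singleton_of_isLocallyClosed_singleton
    (isLocallyClosed_singleton_of_lft (hpe.rep.fst' a₁).left t htc)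

/-- The fibre of a chart over a point represented by a quasi-compact field point is locally finite. -/
theorem exists_open_finite_fibre {X : Sp S} {U : Over S}
    (p : (yon S).obj U ⟶ X) (hpe : RepWith @Etale p) (pt : FieldPt X)
    (hq : RepWith @QuasiCompact pt.toHom) (v : ↥U.left) :
    ∃ O : Set ↥U.left, IsOpen O ∧ v ∈ O ∧ (O ∩ Points.ofPt p ⁻¹' {Points.mk pt}).Finite := by
  have sq := hq.rep.isPullback' p
  have hsnd : QuasiCompact (hq.rep.snd p).left := hq.property_snd p
  have hfe : Etale (hq.rep.fst' p).left := hpe.property _ _ _ sq.flip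
  have hlqf : LocallyQuasiFinite (hq.rep.fst' p).left := locallyQuasiFinite_of_etale _
  have hdisc : _root_.IsDiscrete ((hq.rep.fst' p).left ⁻¹' {IsLocalRing.closedPoint pt.K}) :=
    (hq.rep.fst' p).left.isDiscrete_preimage_singleton _
  have huniv : (hq.rep.fst' p).left ⁻¹' {IsLocalRing.closedPoint pt.K} = Set.univ := by
    ext z
    simp only [Set.mem_preimage, Set.mem_univ, iff_true]
    have : Subsingleton ↥pt.pt.left := inferInstanceAs (Subsingleton ↥(Spec (CommRingCat.of pt.K)))
    exact Subsingleton.elim _ _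
  rw [huniv, isDiscrete_univ_iff] at hdisc
  obtain ⟨_, ⟨(O : U.left.Opens), hOaff, rfl⟩, hvO, -⟩ :=
    U.left.isBasis_affineOpens.exists_subset_of_mem_open (Set.mem_univ v) isOpen_univ
  refine ⟨O, O.2, hvO, ?_⟩
  have hcomp : IsCompact ((hq.rep.snd p).left ⁻¹' (O : Set ↥U.left)) :=
    QuasiCompact.isCompact_preimage (f := (hq.rep.snd p).left) _ O.2 hOaff.isCompact
  have hfin : ((hq.rep.snd p).left ⁻¹' (O : Set ↥U.left)).Finite := hcomp.finite_of_discrete
  refine (hfin.image (hq.rep.snd p).left).subset ?_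
  rintro u ⟨huO, hu⟩
  rw [Set.mem_preimage, Set.mem_singleton_iff] at hu
  obtain ⟨z, hz, -⟩ := exists_of_isPullback_yon sq (Points.ofScheme pt.pt (IsLocalRing.closedPoint pt.K)) u
    (by rw [← Points.ofPt_eq_map_ofScheme, hu, Points.ofPt_toHom])
  exact ⟨z, by rw [Set.mem_preimage, hz]; exact huO, hz⟩

/-- Stacks 0ED2-like: on a decent Jacobson algebraic space, the finite type points are the closed points. -/
theorem hasAt_closed_iff_isClosed {X : Sp S} (hd : IsDecent X)
    (hJ : EtaleLocally (fun U => JacobsonSpace ↥U) X) (x : Points X) :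
    HasAt (fun U u => IsClosed ({u} : Set ↥U)) X x ↔ IsClosed ({x} : Set (Points X)) := by
  obtain ⟨U, p, hpe, hps, hU⟩ := hJ
  have : JacobsonSpace ↥U.left := hU
  have hquot : Topology.IsQuotientMap (Points.ofPt p) :=
    (isOpenMap_ofPt_of_repWith_etale hpe).isQuotientMap (Points.continuous_ofPt p)
      (surjective_ofPt_of_repWith_surjective hps)
  constructor
  · rintro ⟨U₁, a₁, u₁, ha₁, rfl, hu₁⟩
    rw [← hquot.isClosed_preimage]
    obtain ⟨pt, hpt, -, hq⟩ := hd (Points.ofPt a₁ u₁)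
    rw [← closure_subset_iff_isClosed]
    intro v hv
    obtain ⟨O, hO, hvO, hfin⟩ := exists_open_finite_fibre p hpe pt hq v
    rw [hpt] at hfin
    have hcl : IsClosed (O ∩ Points.ofPt p ⁻¹' {Points.ofPt a₁ u₁}) := by
      have : O ∩ Points.ofPt p ⁻¹' {Points.ofPt a₁ u₁} =
          ⋃ w ∈ O ∩ Points.ofPt p ⁻¹' {Points.ofPt a₁ u₁}, {w} := by
        ext w; simp
      rw [this]
      refine hfin.isClosed_biUnion (fun w hw => ?_)
      exact isClosed_singleton_of_ofPt_eq p hpe a₁ ha₁ u₁ hu₁ w hw.2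
    have h1 : v ∈ closure (O ∩ Points.ofPt p ⁻¹' {Points.ofPt a₁ u₁}) :=
      hO.inter_closure ⟨hvO, hv⟩
    rw [hcl.closure_eq] at h1
    exact h1.2
  · intro hx
    have hZc : IsClosed (Points.ofPt p ⁻¹' {x}) := hx.preimage (Points.continuous_ofPt p)
    obtain ⟨u₀, hu₀⟩ := surjective_ofPt_of_repWith_surjective hps x
    obtain ⟨u, huZ, huc⟩ := nonempty_inter_closedPoints ⟨u₀, hu₀⟩ hZc.isLocallyClosed
    exact ⟨U, p, u, hpe, huZ, huc⟩

end Groth.Agent.Lib.AlgSpJacobson
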