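import Groth.Prelude
import Groth.Agent.Lib.AlgSpJacobson

set_option autoImplicit false

universe u
open CategoryTheory CategoryTheory.Limits AlgebraicGeometry Opposite
open AlgSp

namespace Groth.Agent.Lib.AlgSpDecentFibre
open Groth.Agent.Lib.AlgSpLocP Groth.Agent.Lib.AlgSpBasic Groth.Agent.Lib.AlgSpAtPt
  Groth.Agent.Lib.AlgSpQC Groth.Agent.Lib.AlgSpPoints Groth.Agent.Lib.AlgSpFtPt
  Groth.Agent.Lib.JacobsonDescent Groth.Agent.Lib.AlgSpJacobson

variable {S : Scheme.{u}}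

/-- No specializations inside a fibre of a locally quasi-finite morphism. -/
theorem eq_of_specializes_of_lqf {A B : Scheme.{u}} (f : A ⟶ B) [LocallyQuasiFinite f] (r r' : A)
    (hsp : r' ⤳ r) (hf : f r' = f r) : r' = r := by
  have hdisc : _root_.IsDiscrete (f ⁻¹' {f r}) := f.isDiscrete_preimage_singleton _
  rw [isDiscrete_iff_forall_mem_exists_isOpen] at hdisc
  obtain ⟨V, hV, hVs⟩ := hdisc r rfl
  have h1 : r' ∈ V ∩ f ⁻¹' {f r} := ⟨hsp.mem_open hV (by
    have : r ∈ V ∩ f ⁻¹' {f r} := by rw [hVs]; rfl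
    exact this.1), hf⟩
  rw [hVs] at h1
  exact h1

/-- One generization step inside a fibre of an etale chart. -/
theorem exists_strict_generization {X : Sp S} {U : Over S} (a : (yon S).obj U ⟶ X)
    (ha : RepWith @Etale a) (v w : ↥U.left) (he : Points.ofPt a v = Points.ofPt a w) (hsp : v ⤳ w)
    (hne : v ≠ w) : ∃ v'' : ↥U.left, v'' ⤳ v ∧ v'' ≠ v ∧ Points.ofPt a v'' = Points.ofPt a v := by
  have sq := ha.rep.isPullback' a
  have hsnd : Etale (ha.rep.snd a).left := ha.property_snd a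
  have hfe : Etale (ha.rep.fst' a).left := ha.property _ _ _ sq.flip
  obtain ⟨r, hr, hr2⟩ := exists_of_isPullback_yon sq (Points.ofScheme U w) v
    (by rw [← Points.ofPt_eq_map_ofScheme, he])
  have hr3 : (ha.rep.fst' a).left r = w := by
    rw [← Points.toScheme_ofPt, hr2, Points.toScheme_ofScheme]
  have hsp' : v ⤳ (ha.rep.fst' a).left r := by rw [hr3]; exact hsp
  obtain ⟨r', hr'sp, hr'f⟩ := (Flat.generalizingMap (ha.rep.fst' a).left) hsp'
  refine ⟨(ha.rep.snd a).left r', ?_, ?_, ?_⟩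
  · rw [← hr]
    exact hr'sp.map (ha.rep.snd a).left.continuous
  · intro hc
    have hlqf : LocallyQuasiFinite (ha.rep.snd a).left := locallyQuasiFinite_of_etale _
    have := eq_of_specializes_of_lqf (ha.rep.snd a).left r r' hr'sp (by rw [hc, hr])
    rw [this, hr3] at hr'f
    exact hne hr'f.symm
  · rw [← ofPt_yon_map_comp, ← sq.w, ofPt_yon_map_comp, hr'f]

/-- Stacks 03K4-like: in an etale chart of a decent space, there are no specializations inside fibres. -/
theorem eq_of_specializes_of_ofPt_eq {X : Sp S} (hX : IsDecent X) {U : Over S}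
    (a : (yon S).obj U ⟶ X) (ha : RepWith @Etale a) (u u' : ↥U.left)
    (he : Points.ofPt a u = Points.ofPt a u') (hs : u' ⤳ u) : u = u' := by
  by_contra hne
  obtain ⟨pt, hpt, -, hq⟩ := hX (Points.ofPt a u)
  obtain ⟨O, hO, huO, hfin⟩ := exists_open_finite_fibre a ha pt hq u
  rw [hpt] at hfin
  set T := O ∩ Points.ofPt a ⁻¹' {Points.ofPt a u} with hT
  let T' : Set ↥U.left := {v | v ∈ T ∧ ∃ w ∈ T, v ⤳ w ∧ v ≠ w}
  have hT'fin : T'.Finite := hfin.subset (fun v hv => hv.1)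
  have hT'ne : T'.Nonempty :=
    ⟨u', ⟨hs.mem_open hO huO, he.symm⟩, u, ⟨huO, rfl⟩, hs, fun h => hne h.symm⟩
  letI : Preorder ↥U.left := specializationPreorder ↥U.left
  obtain ⟨v, hvT', hvmax⟩ := hT'fin.exists_maximal hT'ne
  obtain ⟨hvT, w, hwT, hvw, hvne⟩ := hvT'
  obtain ⟨v'', hv''sp, hv''ne, hv''a⟩ := exists_strict_generization a ha v w
    (by rw [hvT.2, hwT.2]) hvw hvne
  have hv''T : v'' ∈ T := ⟨hv''sp.mem_open hO hvT.1, by
    change Points.ofPt a v'' = _
    rw [hv''a]; exact hvT.2⟩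
  have hv''T' : v'' ∈ T' := ⟨hv''T, v, hvT, hv''sp, hv''ne⟩
  have h2 : v ⤳ v'' := hvmax hv''T' hv''sp
  exact hv''ne (hv''sp.antisymm h2).eq

end Groth.Agent.Lib.AlgSpDecentFibre
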