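import Groth.Prelude
import Groth.Agent.Lib.AlgSpDecentFibre

set_option autoImplicit false

universe u
open CategoryTheory CategoryTheory.Limits AlgebraicGeometry Opposite
open AlgSp

namespace Groth.Agent.Lib.AlgSpDecentFibre
open Groth.Agent.Lib.AlgSpLocP Groth.Agent.Lib.AlgSpBasic Groth.Agent.Lib.AlgSpAtPt
  Groth.Agent.Lib.AlgSpQC Groth.Agent.Lib.AlgSpPoints Groth.Agent.Lib.AlgSpFtPt
  Groth.Agent.Lib.JacobsonDescent Groth.Agent.Lib.AlgSpJacobson

variable {S : Scheme.{u}}

/-- On a decent Jacobson algebraic space the space of points is Jacobson. -/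
theorem jacobsonSpace_points_of_jacobson {X : Sp S} (hX : IsAlgSpace X) (hd : IsDecent X)
    (hJ : EtaleLocally (fun U => JacobsonSpace ↥U) X) : JacobsonSpace (Points X) := by
  rw [jacobsonSpace_iff_locallyClosed]
  intro Z hne hZ
  obtain ⟨x, hxZ, hx⟩ := exists_isFtPt_of_isLocallyClosed hX Z hZ hne
  obtain ⟨U, φ, u, hφ, hu, hxu⟩ := exists_chart_of_isFtPt hX x hx
  exact ⟨x, hxZ, (hasAt_closed_iff_isClosed hd hJ x).1 ⟨U, φ, u, hφ, hxu, hu⟩⟩

/-- In an etale chart of a decent space with Jacobson space of points, a point closed in an open subset is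
closed. -/
theorem isClosed_singleton_of_jacobsonSpace_points {X : Sp S} (hd : IsDecent X)
    [JacobsonSpace (Points X)] {U : Over S} (a : (yon S).obj U ⟶ X) (ha : RepWith @Etale a)
    (O : Set ↥U.left) (hO : IsOpen O) (u : ↥U.left) (huO : u ∈ O)
    (hu : ∀ v ∈ O, u ⤳ v → v = u) : IsClosed ({u} : Set ↥U.left) := by
  classical
  obtain ⟨pt, hpt, -, hq⟩ := hd (Points.ofPt a u)
  obtain ⟨O₂, hO₂, huO₂, hfin⟩ := exists_open_finite_fibre a ha pt hq u
  rw [hpt] at hfin
  set F := O₂ ∩ Points.ofPt a ⁻¹' {Points.ofPt a u} with hF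
  -- the open neighbourhood where the fibre is `{u}`
  let C : Set ↥U.left := ⋃ v ∈ F \ {u}, closure {v}
  have hC : IsClosed C := (hfin.subset Set.sdiff_subset).isClosed_biUnion (fun v _ => isClosed_closure)
  have huC : u ∉ C := by
    intro h
    simp only [C, Set.mem_iUnion] at h
    obtain ⟨v, hv, huv⟩ := h
    rw [← specializes_iff_mem_closure] at huv
    exact hv.2 (eq_of_specializes_of_ofPt_eq hd a ha u v hv.1.2.symm huv).symm
  let O' : Set ↥U.left := (O ∩ O₂) ∩ Cᶜ
  have hO' : IsOpen O' := (hO.inter hO₂).inter hC.isOpen_compl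
  have huO' : u ∈ O' := ⟨⟨huO, huO₂⟩, huC⟩
  have hfib : ∀ v ∈ O', Points.ofPt a v = Points.ofPt a u → v = u := by
    intro v hv hav
    by_contra hne
    apply hv.2
    simp only [C, Set.mem_iUnion]
    exact ⟨v, ⟨⟨hv.1.2, hav⟩, hne⟩, subset_closure rfl⟩
  have hopen : IsOpenMap (Points.ofPt a) := isOpenMap_ofPt_of_repWith_etale ha
  -- `{x}` is locally closed
  have hlc : IsLocallyClosed ({Points.ofPt a u} : Set (Points X)) := by
    refine ⟨Points.ofPt a '' O', closure {Points.ofPt a u}, hopen _ hO', isClosed_closure, ?_⟩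
    ext y
    constructor
    · rintro rfl
      exact ⟨⟨u, huO', rfl⟩, subset_closure rfl⟩
    · rintro ⟨⟨v, hvO', rfl⟩, hy⟩
      by_contra hne
      have hvu : v ≠ u := fun h => hne (by rw [h]; rfl)
      have hO'' : IsOpen (O' ∩ (closure {u})ᶜ) := hO'.inter isClosed_closure.isOpen_compl
      have hv'' : v ∈ O' ∩ (closure {u})ᶜ := by
        refine ⟨hvO', fun hcl => hvu ?_⟩
        rw [← specializes_iff_mem_closure] at hcl
        exact hu v hvO'.1.1 hcl
      rw [← specializes_iff_mem_closure] at hy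
      obtain ⟨v', hv', hv'a⟩ := hy.mem_open (hopen _ hO'') ⟨v, hv'', rfl⟩
      have := hfib v' hv'.1 hv'a
      rw [this] at hv'
      exact hv'.2 (subset_closure rfl)
  have hxc : IsClosed ({Points.ofPt a u} : Set (Points X)) :=
    isClosed_singleton_of_isLocallyClosed_singleton hlc
  rw [← closure_subset_iff_isClosed]
  intro y hy
  rw [← specializes_iff_mem_closure] at hy
  have h1 : Points.ofPt a y ∈ closure {Points.ofPt a u} :=
    (hy.map (Points.continuous_ofPt a)).mem_closure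
  rw [hxc.closure_eq, Set.mem_singleton_iff] at h1
  exact eq_of_specializes_of_ofPt_eq hd a ha y u h1 hy

/-- A decent algebraic space whose space of points is Jacobson is Jacobson. -/
theorem jacobson_of_jacobsonSpace_points {X : Sp S} (hX : IsAlgSpace X) (hd : IsDecent X)
    [JacobsonSpace (Points X)] : EtaleLocally (fun U => JacobsonSpace ↥U) X := by
  obtain ⟨U, a, hae, has⟩ := hX.atlas
  refine ⟨U, a, hae, has, ?_⟩
  change JacobsonSpace ↥U.left
  rw [jacobsonSpace_iff_locallyClosed]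
  intro Z hne hZ
  obtain ⟨O₁, C, hO₁, hC, rfl⟩ := hZ
  obtain ⟨z, hz⟩ := hne
  obtain ⟨_, ⟨(O : U.left.Opens), hOaff, rfl⟩, hzO, hOO₁⟩ :=
    U.left.isBasis_affineOpens.exists_subset_of_mem_open hz.1 hO₁
  have : CompactSpace ↥O := isCompact_iff_compactSpace.mp hOaff.isCompact
  obtain ⟨w, hwC, hwc⟩ := IsClosed.exists_closed_singleton
    (hC.preimage (continuous_subtype_val (p := fun t => t ∈ O))) ⟨⟨z, hzO⟩, hz.2⟩
  refine ⟨w.1, ⟨hOO₁ w.2, hwC⟩, ?_⟩
  refine isClosed_singleton_of_jacobsonSpace_points hd a hae O O.2 w.1 w.2 ?_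
  intro v hv hsp
  have h1 : (⟨v, hv⟩ : ↥O) ∈ closure {w} := by
    rw [← specializes_iff_mem_closure, subtype_specializes_iff]
    exact hsp
  rw [hwc.closure_eq, Set.mem_singleton_iff] at h1
  rw [← h1]

end Groth.Agent.Lib.AlgSpDecentFibre
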