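import Groth.Prelude
import Groth.Agent.Lib.AlgSpDecentFibre2

set_option autoImplicit false

universe u
open CategoryTheory CategoryTheory.Limits AlgebraicGeometry Opposite
open AlgSp

namespace Groth.Agent.Lib.AlgSpDecentFibre
open Groth.Agent.Lib.AlgSpLocP Groth.Agent.Lib.AlgSpBasic Groth.Agent.Lib.AlgSpAtPt
  Groth.Agent.Lib.AlgSpQC Groth.Agent.Lib.AlgSpPoints Groth.Agent.Lib.AlgSpFtPt
  Groth.Agent.Lib.JacobsonDescent Groth.Agent.Lib.AlgSpJacobson

variable {S : Scheme.{u}}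

/-- Generalizations lift along an etale chart to a point whose fibre is locally finite. -/
theorem exists_generization_of_finite {X : Sp S} {U : Over S} (a : (yon S).obj U ⟶ X)
    (ha : RepWith @Etale a) (u : ↥U.left) (x' : Points X) (h : x' ⤳ Points.ofPt a u)
    (O : Set ↥U.left) (hO : IsOpen O) (huO : u ∈ O) (hfin : (O ∩ Points.ofPt a ⁻¹' {x'}).Finite) :
    ∃ u' : ↥U.left, u' ⤳ u ∧ Points.ofPt a u' = x' := by
  classical
  by_contra hcon
  push Not at hcon
  have hV : ∀ t : ↥U.left, t ∈ O ∩ Points.ofPt a ⁻¹' {x'} →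
      ∃ V : Set ↥U.left, IsOpen V ∧ u ∈ V ∧ t ∉ V := by
    intro t ht
    have h1 : ¬ t ⤳ u := fun hsp => hcon t hsp ht.2
    rw [specializes_iff_forall_open] at h1
    push Not at h1
    obtain ⟨V, hVo, huV, htV⟩ := h1
    exact ⟨V, hVo, huV, htV⟩
  choose! V hVo huV htV using hV
  let W : Set ↥U.left := O ∩ ⋂ t ∈ O ∩ Points.ofPt a ⁻¹' {x'}, V t
  have hW : IsOpen W := hO.inter (hfin.isOpen_biInter (fun t ht => hVo t ht))
  have huW : u ∈ W := ⟨huO, Set.mem_iInter₂.2 (fun t ht => huV t ht)⟩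
  have hopen : IsOpenMap (Points.ofPt a) := isOpenMap_ofPt_of_repWith_etale ha
  obtain ⟨v, hvW, hva⟩ := h.mem_open (hopen _ hW) ⟨u, huW, rfl⟩
  have hvT : v ∈ O ∩ Points.ofPt a ⁻¹' {x'} := ⟨hvW.1, hva⟩
  exact htV v hvT (Set.mem_iInter₂.1 hvW.2 v hvT)

/-- Stacks 0ABV-like: generalizations lift along etale charts to points with a quasi-compact representative. -/
theorem exists_generization_of_quasiCompact {X : Sp S} (x x' : Points X) (h : x' ⤳ x)
    (pt : FieldPt X) (hpt : Points.mk pt = x') (hq : RepWith @QuasiCompact pt.toHom)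
    {U : Over S} (a : (yon S).obj U ⟶ X) (ha : RepWith @Etale a) (u : ↥U.left)
    (hu : Points.ofPt a u = x) : ∃ u' : ↥U.left, u' ⤳ u ∧ Points.ofPt a u' = x' := by
  obtain ⟨O, hO, huO, hfin⟩ := exists_open_finite_fibre a ha pt hq u
  rw [hpt] at hfin
  subst hu
  exact exists_generization_of_finite a ha u x' h O hO huO hfin

/-- No specializations in a fibre of an etale chart which is locally finite near the special point. -/
theorem eq_of_specializes_of_finite {X : Sp S} {U : Over S}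
    (a : (yon S).obj U ⟶ X) (ha : RepWith @Etale a) (u u' : ↥U.left)
    (he : Points.ofPt a u = Points.ofPt a u') (hs : u' ⤳ u) (O : Set ↥U.left) (hO : IsOpen O)
    (huO : u ∈ O) (hfin : (O ∩ Points.ofPt a ⁻¹' {Points.ofPt a u}).Finite) : u = u' := by
  by_contra hne
  set T := O ∩ Points.ofPt a ⁻¹' {Points.ofPt a u} with hT
  let T' : Set ↥U.left := {v | v ∈ T ∧ ∃ w ∈ T, v ⤳ w ∧ v ≠ w}
  have hT'fin : T'.Finite := hfin.subset (fun v hv => hv.1)
  have hT'ne : T'.Nonempty :=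
    ⟨u', ⟨hs.mem_open hO huO, he.symm⟩, u, ⟨huO, rfl⟩, hs, fun h => hne h.symm⟩
  letI : Preorder ↥U.left := specializationPreorder ↥U.left
  obtain ⟨v, hvT', hvmax⟩ := hT'fin.exists_maximal hT'ne
  obtain ⟨hvT, w, hwT, hvw, hvne⟩ := hvT'
  obtain ⟨v'', hv''sp, hv''ne, hv''a⟩ := exists_strict_generization a ha v w
    (by rw [hvT.2, hwT.2]) hvw hvne
  have hv''T : v'' ∈ T := ⟨hv''sp.mem_open hO hvT.1, by
    change Points.ofPt a v'' = _
    rw [hv''a]; exact hvT.2⟩
  have hv''T' : v'' ∈ T' := ⟨hv''T, v, hvT, hv''sp, hv''ne⟩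
  have h2 : v ⤳ v'' := hvmax hv''T' hv''sp
  exact hv''ne (hv''sp.antisymm h2).eq

/-- Stacks 03K4 (pointwise form): finite fibres over affine etale charts. -/
theorem eq_of_specializes_of_finite_affine {X : Sp S} (x : Points X)
    (hx : ∀ (V : Over S) (b : (yon S).obj V ⟶ X), IsAffine V.left → RepWith @Etale b →
      (Points.ofPt b ⁻¹' {x}).Finite)
    {U : Over S} (a : (yon S).obj U ⟶ X) (ha : RepWith @Etale a) (u u' : ↥U.left)
    (hu : Points.ofPt a u = x) (hu' : Points.ofPt a u' = x) (hs : u' ⤳ u) : u = u' := by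
  obtain ⟨_, ⟨(O : U.left.Opens), hOaff, rfl⟩, huO, -⟩ :=
    U.left.isBasis_affineOpens.exists_subset_of_mem_open (Set.mem_univ u) isOpen_univ
  have hfin := hx (opensOver U O) ((yon S).map (opensOverι U O) ≫ a) hOaff
    ((RepWith @Etale).comp_mem _ _ (repWith_etale_opensOverι U O) ha)
  refine eq_of_specializes_of_finite a ha u u' (by rw [hu, hu']) hs O O.2 huO ?_
  rw [hu]
  refine (hfin.image (opensOverι U O).left).subset ?_
  rintro v ⟨hvO, hv⟩
  refine ⟨⟨v, hvO⟩, ?_, rfl⟩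
  rw [Set.mem_preimage, ofPt_yon_map_comp]
  exact hv

/-- The space of points of a decent algebraic space is T0. -/
theorem t0Space_points_of_isDecent {X : Sp S} (hX : IsAlgSpace X) (hd : IsDecent X) :
    T0Space (Points X) := by
  refine ⟨fun x x' hxx' => ?_⟩
  obtain ⟨U, a, hae, has⟩ := hX.atlas
  obtain ⟨u', rfl⟩ := surjective_ofPt_of_repWith_surjective has x'
  obtain ⟨pt, hpt, -, hq⟩ := hd x
  obtain ⟨u, husp, rfl⟩ := exists_generization_of_quasiCompact _ x hxx'.specializes pt hpt hq a hae u' rfl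
  obtain ⟨pt', hpt', -, hq'⟩ := hd (Points.ofPt a u')
  obtain ⟨u'', hu''sp, hu''⟩ := exists_generization_of_quasiCompact _ _ hxx'.specializes' pt' hpt' hq'
    a hae u rfl
  have h1 : u' = u'' := eq_of_specializes_of_ofPt_eq hd a hae u' u'' hu''.symm (hu''sp.trans husp)
  rw [← h1] at hu''sp
  rw [(husp.antisymm hu''sp).eq]

/-- Stacks 0ABW-like: generalizations lift along flat morphisms to points with a quasi-compact representative. -/
theorem exists_generization_of_flat {X Y : Sp S} (hX : IsAlgSpace X) (hY : IsAlgSpace Y) (f : Y ⟶ X)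
    (hf : LocP @Flat f) (x x' : Points X) (h : x' ⤳ x)
    (pt : FieldPt X) (hpt : Points.mk pt = x') (hq : RepWith @QuasiCompact pt.toHom)
    (y : Points Y) (hy : Points.map f y = x) :
    ∃ y' : Points Y, y' ⤳ y ∧ Points.map f y' = x' := by
  obtain ⟨U₀, a₀, hae, has⟩ := hX.atlas
  obtain ⟨V₀, b₀, hbe, hbs⟩ := hY.atlas
  have sq := hae.rep.isPullback' (b₀ ≫ f)
  have hsnd : Etale (hae.rep.snd (b₀ ≫ f)).left := hae.property_snd _
  have hsndS : Surjective (hae.rep.snd (b₀ ≫ f)).left := has.property _ _ _ sq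
  have hbe' : RepWith @Etale ((yon S).map (hae.rep.snd (b₀ ≫ f)) ≫ b₀) :=
    (RepWith @Etale).comp_mem _ _ ((repWith_yon_map_iff _ _).2 hsnd) hbe
  have hflat : Flat (hae.rep.fst' (b₀ ≫ f)).left :=
    hf ((yon S).map (hae.rep.snd (b₀ ≫ f)) ≫ b₀) a₀ (hae.rep.fst' (b₀ ≫ f)) hbe' hae
      (by rw [Category.assoc, sq.w])
  obtain ⟨v₀, rfl⟩ := surjective_ofPt_of_repWith_surjective hbs y
  obtain ⟨w, rfl⟩ := hsndS.surj v₀
  have hu : Points.ofPt a₀ ((hae.rep.fst' (b₀ ≫ f)).left w) = x := by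
    rw [← ofPt_yon_map_comp, sq.w, ofPt_yon_map_comp, ← hy, Points.map_ofPt]
  obtain ⟨u', hu'sp, hu'⟩ := exists_generization_of_quasiCompact x x' h pt hpt hq a₀ hae _ hu
  obtain ⟨w', hw'sp, hw'⟩ := (Flat.generalizingMap (hae.rep.fst' (b₀ ≫ f)).left) hu'sp
  refine ⟨Points.ofPt b₀ ((hae.rep.snd (b₀ ≫ f)).left w'), ?_, ?_⟩
  · exact (hw'sp.map (hae.rep.snd (b₀ ≫ f)).left.continuous).map (Points.continuous_ofPt b₀)
  · rw [Points.map_ofPt, ← ofPt_yon_map_comp, ← sq.w, ofPt_yon_map_comp, hw', hu']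

end Groth.Agent.Lib.AlgSpDecentFibre
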