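import Groth.Agent.Lib.AlgSpBasic
import Groth.Prelude.Def_AlgSp3

/-!
# helper72: etale morphisms of algebraic spaces (`AlgSp.IsEtaleMor`)
-/

set_option autoImplicit false
universe u

open CategoryTheory CategoryTheory.Limits AlgebraicGeometry Opposite

namespace Groth.Agent.Lib.H72AlgSpEtale

open AlgSp Groth.Agent.Lib.AlgSpBasic

variable {S : Scheme.{u}}

/-- A morphism of schemes over `S` between two schemes that are representable etale over a sheaf `Z`
is etale. -/
theorem etale_of_comp_repWith {Z : Sp S} {R V : Over S} (ρ : (yon S).obj R ⟶ Z)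
    (ν : (yon S).obj V ⟶ Z) (hρ : RepWith @Etale ρ) (hν : RepWith @Etale ν) (r : R ⟶ V)
    (w : (yon S).map r ≫ ν = ρ) : Etale r.left := by
  have sq := hν.rep.isPullback' ρ
  have h1 : Etale (hν.rep.snd ρ).left := hν.property_snd ρ
  have h2 : Etale (hν.rep.fst' ρ).left := hρ.property ν ((yon S).map (hν.rep.snd ρ)) _ sq.flip
  have hi : (yon S).map r ≫ ν = (yon S).map (𝟙 R) ≫ ρ := by
    rw [w]
    erw [(yon S).map_id]
    rw [Category.id_comp]
  let s : R ⟶ hν.rep.pullback ρ := hν.rep.lift' r (𝟙 R) hi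
  have hs1 : s ≫ hν.rep.fst' ρ = r := hν.rep.lift'_fst r (𝟙 R) hi
  have hs2 : s ≫ hν.rep.snd ρ = 𝟙 R := hν.rep.lift'_snd r (𝟙 R) hi
  have hs2' : s.left ≫ (hν.rep.snd ρ).left = 𝟙 R.left := by
    rw [← Over.comp_left, hs2, Over.id_left]
  have h3 : Etale (s.left ≫ (hν.rep.snd ρ).left) := by
    rw [hs2']; infer_instance
  have h4 : Etale s.left :=
    MorphismProperty.of_postcomp (W := @Etale) (W' := @Etale) s.left (hν.rep.snd ρ).left h1 h3
  have hr : r.left = s.left ≫ (hν.rep.fst' ρ).left := by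
    rw [← Over.comp_left, hs1]
  rw [hr]
  infer_instance

/-- If `f ≫ h` and `h` are etale morphisms of sheaves, with `Y` and `Z`... `Y` an algebraic space,
then `f` is etale. -/
theorem isEtaleMor_of_comp {X Y Z : Sp S} (hY : IsAlgSpace Y) (f : X ⟶ Y) (h : Y ⟶ Z)
    (hg : IsEtaleMor (f ≫ h)) (hh : IsEtaleMor h) : IsEtaleMor f := by
  intro U φ hφ
  have hrep : Representable (φ ≫ f) := hY.representable_from_yon _
  obtain ⟨V, c, hce, hcs⟩ := hY.atlas
  -- the represented pullback of `φ ≫ f` along the atlas `c`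
  have sq := hrep.isPullback c
  have hcov : RepWith fppfCov c := repWith_fppfCov_of_etale_surjective hce hcs
  refine repWith_of_fppfCov @Etale hrep hcov sq ?_
  rw [repWith_yon_map_iff]
  -- `R ⟶ U` is etale
  have hRU : RepWith @Etale (hrep.fst c) := repWith_fst_of_isPullback _ sq hce
  have hRX : RepWith @Etale (hrep.fst c ≫ φ) := (RepWith @Etale).comp_mem _ _ hRU hφ
  have hρ : RepWith @Etale ((hrep.fst c ≫ φ) ≫ (f ≫ h)) := hg _ hRX
  have hν : RepWith @Etale (c ≫ h) := hh _ hce
  refine etale_of_comp_repWith _ _ hρ hν (hrep.snd c) ?_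
  rw [← Category.assoc, ← sq.w]
  simp only [Category.assoc]

end Groth.Agent.Lib.H72AlgSpEtale
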