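import Groth.Agent.Lib.H69AlgSpLocST
import Groth.Agent.Lib.H72AlgSpEtale
import Groth.Agent.Lib.AlgSpFibre

/-!
# Etale morphisms of algebraic spaces: base change, graphs (helper69)
-/

set_option autoImplicit false
universe u
open CategoryTheory CategoryTheory.Limits AlgebraicGeometry Opposite

namespace Groth.Agent.Lib.H69AlgSpLocST2

open AlgSp Groth.Agent.Lib.AlgSpLocP Groth.Agent.Lib.AlgSpBasic

variable {S : Scheme.{u}}

theorem locP_mono {P Q : MorphismProperty Scheme.{u}}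
    (h : ∀ ⦃A B : Scheme.{u}⦄ (l : A ⟶ B), P l → Q l) {X Y : Sp S} {f : X ⟶ Y}
    (hf : LocP P f) : LocP Q f :=
  fun _ _ a b k ha hb comm => h _ (hf a b k ha hb comm)

theorem locP_smooth_of_isEtaleMor {X Y : Sp S} (hY : IsAlgSpace Y) {f : X ⟶ Y}
    (hf : IsEtaleMor f) : LocP @Smooth f :=
  locP_mono (fun _ _ l hl => by have : Etale l := hl; infer_instance)
    ((isEtaleMor_iff_locP hY f).1 hf)

/-- Base change of an etale morphism of algebraic spaces (second projection). -/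
theorem isEtaleMor_snd {X Y X' Y' : Sp S} (hX : IsAlgSpace X) (hY : IsAlgSpace Y)
    (hY' : IsAlgSpace Y') {f : X ⟶ Y} {g : Y' ⟶ Y} {fst : X' ⟶ X} {snd : X' ⟶ Y'}
    (sq : IsPullback fst snd f g) (h : IsEtaleMor f) : IsEtaleMor snd :=
  (isEtaleMor_iff_locP hY' snd).2
    (locP_of_isPullback etLocalClass_etale hX hY hY' sq ((isEtaleMor_iff_locP hY f).1 h))

theorem isEtaleMor_fst {X Y X' Y' : Sp S} (hX : IsAlgSpace X) (hY : IsAlgSpace Y)
    (hY' : IsAlgSpace Y') {f : X ⟶ Y} {g : Y' ⟶ Y} {fst : X' ⟶ X} {snd : X' ⟶ Y'}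
    (sq : IsPullback fst snd f g) (h : IsEtaleMor g) : IsEtaleMor fst :=
  isEtaleMor_snd hY' hY hX sq.flip h

/-- The graph of `f : X ⟶ Y` relative to an etale `g : Y ⟶ Z` is etale: any section `e` of the
projection `p : X ×_Z Y ⟶ X`. -/
theorem isEtaleMor_section {X Y Z W : Sp S} (hX : IsAlgSpace X) (hY : IsAlgSpace Y)
    (hZ : IsAlgSpace Z) {k : X ⟶ Z} {g : Y ⟶ Z} {p : W ⟶ X} {q : W ⟶ Y}
    (sq : IsPullback p q k g) (hg : IsEtaleMor g) (e : X ⟶ W) (he : e ≫ p = 𝟙 X) :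
    IsEtaleMor e := by
  have hW : IsAlgSpace W := Groth.Agent.Lib.AlgSpFibre.isAlgSpace_of_isPullback hZ.diag hX hY sq
  have hp : IsEtaleMor p := isEtaleMor_fst hX hZ hY sq hg
  refine Groth.Agent.Lib.H72AlgSpEtale.isEtaleMor_of_comp hW e p ?_ hp
  rw [he]
  exact Groth.Agent.Lib.H69AlgSpLocST.isEtaleMor_id X

end Groth.Agent.Lib.H69AlgSpLocST2
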