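import Mathlib
import Groth.Agent.S9407

/-!
# Reducedness along smooth / flat surjective morphisms of schemes (helper69)
-/

set_option autoImplicit false
universe u
open CategoryTheory CategoryTheory.Limits AlgebraicGeometry

namespace Groth.Agent.Lib.H69SchReduced

/-- A scheme smooth over a reduced scheme is reduced. -/
theorem isReduced_of_smooth {X Y : Scheme.{u}} (f : X ⟶ Y) [Smooth f] [IsReduced Y] :
    IsReduced X := by
  apply +allowSynthFailures isReduced_of_isReduced_stalk
  intro x
  obtain ⟨V, hV, hxV, -⟩ :=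
    (TopologicalSpace.Opens.isBasis_iff_nbhd.mp Y.isBasis_affineOpens)
      (TopologicalSpace.Opens.mem_top (f x))
  obtain ⟨U, hU, hxU, hUV⟩ :=
    (TopologicalSpace.Opens.isBasis_iff_nbhd.mp X.isBasis_affineOpens)
      (show x ∈ f ⁻¹ᵁ V from hxV)
  have hsm := f.smooth_appLE hV hU hUV
  let := (f.appLE V U hUV).hom.toAlgebra
  have : Algebra.Smooth Γ(Y, V) Γ(X, U) := hsm
  have hred : _root_.IsReduced Γ(X, U) := Groth.Agent.S9407.result Γ(Y, V) Γ(X, U)
  let := X.presheaf.algebra_section_stalk ⟨x, hxU⟩
  have hloc := IsAffineOpen.isLocalization_stalk hU ⟨x, hxU⟩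
  exact isReduced_localizationPreserves (hU.primeIdealOf ⟨x, hxU⟩).asIdeal.primeCompl
    (X.presheaf.stalk x) hred

/-- The target of a flat surjective morphism from a reduced scheme is reduced. -/
theorem isReduced_of_flat_of_surjective {X Y : Scheme.{u}} (f : X ⟶ Y) [Flat f] [Surjective f]
    [IsReduced X] : IsReduced Y := by
  apply +allowSynthFailures isReduced_of_isReduced_stalk
  intro y
  obtain ⟨x, rfl⟩ := f.surjective y
  have hinj : Function.Injective (f.stalkMap x).hom := by
    algebraize [(f.stalkMap x).hom]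
    have : Module.FaithfullyFlat (Y.presheaf.stalk (f x)) (X.presheaf.stalk x) :=
      @Module.FaithfullyFlat.of_flat_of_isLocalHom _ _ _ _ _ _ _
        (Flat.stalkMap f x) (f.toLRSHom.prop x)
    exact ‹RingHom.FaithfullyFlat _›.injective
  exact isReduced_of_injective _ hinj

end Groth.Agent.Lib.H69SchReduced
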