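import Groth.Prelude.Def_AlgSpSub
import Groth.Agent.Lib.H69SchReduced
import Groth.Agent.Lib.H69AlgSpLocST2
import Groth.Agent.Lib.AlgSpPoints

/-!
# Reducedness of algebraic spaces along flat surjective / smooth morphisms (helper69)
-/

set_option autoImplicit false
universe u
open CategoryTheory CategoryTheory.Limits AlgebraicGeometry Opposite

namespace Groth.Agent.Lib.H69AlgSpReduced

open AlgSp

variable {S : Scheme.{u}}

/-- Chart of a morphism `f : X ⟶ Y` dominating given etale surjective charts of `X` and `Y`. -/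
theorem exists_chart {X Y : Sp S} (f : X ⟶ Y) {U V : Over S} (p : (yon S).obj U ⟶ X)
    (b : (yon S).obj V ⟶ Y) (hbe : RepWith @Etale b) (hbs : RepWith @Surjective b) :
    ∃ (W : Over S) (s : W ⟶ U) (t : W ⟶ V), Etale s.left ∧ Surjective s.left ∧
      IsPullback ((yon S).map t) ((yon S).map s) b (p ≫ f) :=
  ⟨hbe.rep.pullback (p ≫ f), hbe.rep.snd (p ≫ f), hbe.rep.fst' (p ≫ f),
    hbe.property_snd (p ≫ f), hbs.property _ _ _ (hbe.rep.isPullback (p ≫ f)),
    hbe.rep.isPullback' (p ≫ f)⟩

/-- Flat surjective morphisms descend reducedness. -/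
theorem isReducedSp_of_flat_surjective {X Y : Sp S} (hY : IsAlgSpace Y) (f : X ⟶ Y)
    (hfl : LocP @Flat f) (hs : IsSurjectiveMor f) (hX : IsReducedSp X) : IsReducedSp Y := by
  obtain ⟨U, p, hpe, hps, hU⟩ := hX
  obtain ⟨V, b, hbe, hbs⟩ := hY.atlas
  obtain ⟨W, s, t, hse, hss, sq⟩ := exists_chart f p b hbe hbs
  have hWred : IsReduced W.left := by
    have : IsReduced U.left := hU
    have : Etale s.left := hse
    exact Groth.Agent.Lib.H69SchReduced.isReduced_of_smooth s.left
  have hse' : RepWith @Etale ((yon S).map s) := (repWith_yon_map_iff _ _).2 hse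
  have hflat : Flat t.left := by
    refine hfl ((yon S).map s ≫ p) b t (MorphismProperty.comp_mem _ _ _ hse' hpe) hbe ?_
    rw [Category.assoc]
    exact sq.w.symm
  have hsurj : Surjective t.left := by
    have h1 : IsSurjectiveMor (p ≫ f) := by
      intro y
      obtain ⟨x, hx⟩ := hs y
      obtain ⟨u, hu⟩ := Groth.Agent.Lib.H86AlgSpPoints.map_surjective_of_repWith hps x
      exact ⟨u, by rw [Points.map_comp, hu, hx]⟩
    have h2 : IsSurjectiveMor ((yon S).map t) :=
      Groth.Agent.Lib.AlgSpPoints.isSurjectiveMor_of_isPullback sq.flip h1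
    exact ⟨(Groth.Agent.Lib.AlgSpPoints.surjective_map_yon_map_iff (φ := t)).1 h2⟩
  refine ⟨V, b, hbe, hbs, ?_⟩
  exact Groth.Agent.Lib.H69SchReduced.isReduced_of_flat_of_surjective t.left

/-- The source of a smooth morphism to a reduced algebraic space is reduced. -/
theorem isReducedSp_of_smooth {X Y : Sp S} (hX : IsAlgSpace X) (f : X ⟶ Y)
    (hf : LocP @Smooth f) (hY : IsReducedSp Y) : IsReducedSp X := by
  obtain ⟨V, b, hbe, hbs, hV⟩ := hY
  obtain ⟨U, p, hpe, hps⟩ := hX.atlas
  obtain ⟨W, s, t, hse, hss, sq⟩ := exists_chart f p b hbe hbs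
  have hse' : RepWith @Etale ((yon S).map s) := (repWith_yon_map_iff _ _).2 hse
  have hss' : RepWith @Surjective ((yon S).map s) := (repWith_yon_map_iff _ _).2 hss
  have hsm : Smooth t.left := by
    refine hf ((yon S).map s ≫ p) b t (MorphismProperty.comp_mem _ _ _ hse' hpe) hbe ?_
    rw [Category.assoc]
    exact sq.w.symm
  refine ⟨W, (yon S).map s ≫ p, MorphismProperty.comp_mem _ _ _ hse' hpe,
    MorphismProperty.comp_mem _ _ _ hss' hps, ?_⟩
  have : IsReduced V.left := hV
  exact Groth.Agent.Lib.H69SchReduced.isReduced_of_smooth t.left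

end Groth.Agent.Lib.H69AlgSpReduced
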