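import Mathlib.AlgebraicGeometry.Morphisms.Flat
import Mathlib.AlgebraicGeometry.Morphisms.FinitePresentation
import Mathlib.AlgebraicGeometry.Morphisms.UnderlyingMap
import Mathlib.AlgebraicGeometry.Morphisms.UniversallyOpen
import Mathlib.AlgebraicGeometry.Morphisms.Descent
import Mathlib.AlgebraicGeometry.Morphisms.LocalIso
import Mathlib.AlgebraicGeometry.Noetherian
import Mathlib.AlgebraicGeometry.Fiber
import Mathlib.RingTheory.RingHom.FaithfullyFlat
import Mathlib.Topology.Sets.CompactOpenCovered

set_option autoImplicit false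
universe u

namespace Groth.Agent.Lib.NoethDescent

open AlgebraicGeometry CategoryTheory Limits TopologicalSpace

/-- A ring over which a Noetherian ring is faithfully flat is Noetherian. -/
theorem isNoetherianRing_of_faithfullyFlat {R S : Type*} [CommRing R] [CommRing S] (f : R →+* S)
    (hf : f.FaithfullyFlat) [IsNoetherianRing S] : IsNoetherianRing R := by
  algebraize [f]
  have : IsNoetherian S (TensorProduct R S R) :=
    isNoetherian_of_linearEquiv (TensorProduct.AlgebraTensorModule.rid R S S).symm
  exact Submodule.IsNoetherian.of_isNoetherian_tensorProduct_of_faithfullyFlat (A := S) this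

/-- Descent of local Noetherianity along a flat morphism such that every affine open of the target
is the image of a compact open of the source. -/
theorem isLocallyNoetherian_of_flat_of_cover {X' X : Scheme.{u}} (a : X' ⟶ X) [Flat a]
    [IsLocallyNoetherian X']
    (hcov : ∀ U : X.Opens, IsAffineOpen U →
      ∃ V : X'.Opens, IsCompact (V : Set X') ∧ a '' (V : Set X') = U) :
    IsLocallyNoetherian X := by
  refine ⟨fun U => ?_⟩
  obtain ⟨V, hVc, hVU⟩ := hcov U.1 U.2
  have : CompactSpace (V : Scheme.{u}) := isCompact_iff_compactSpace.mp hVc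
  obtain ⟨T, p, hps, hpl, hT⟩ :=
    Scheme.exists_hom_isAffine_of_isZariskiLocalAtSource @IsLocalIso (V : Scheme.{u})
  have hle : V ≤ a ⁻¹ᵁ U.1 := fun x hx => by
    change a x ∈ (U.1 : Set X)
    rw [← hVU]
    exact ⟨x, hx, rfl⟩
  have : IsAffine (U.1 : Scheme.{u}) := U.2
  have hpflat : Flat p := IsLocalIso.le_of_isZariskiLocalAtSource @Flat _ _ _ hpl
  have hplft : LocallyOfFiniteType p :=
    IsLocalIso.le_of_isZariskiLocalAtSource @LocallyOfFiniteType _ _ _ hpl
  have hflat : Flat (p ≫ a.resLE U.1 V hle) := inferInstance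
  have hsurj : Surjective (p ≫ a.resLE U.1 V hle) := by
    refine ⟨fun y => ?_⟩
    have hy : (y.1 : X) ∈ (U.1 : Set X) := y.2
    rw [← hVU] at hy
    obtain ⟨x, hx, hxy⟩ := hy
    obtain ⟨t, ht⟩ := hps.surj ⟨x, hx⟩
    refine ⟨t, ?_⟩
    apply U.1.ι.isOpenEmbedding.injective
    rw [← Scheme.Hom.comp_apply, Category.assoc, Scheme.Hom.resLE_comp_ι, ← Category.assoc,
      Scheme.Hom.comp_apply, Scheme.Hom.comp_apply, ht]
    exact hxy
  have hff : (p ≫ a.resLE U.1 V hle).appTop.hom.FaithfullyFlat :=
    (Flat.flat_and_surjective_iff_faithfullyFlat_of_isAffine _).mp ⟨hflat, hsurj⟩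
  have : IsLocallyNoetherian T := LocallyOfFiniteType.isLocallyNoetherian p
  have : IsNoetherianRing Γ(T, ⊤) :=
    IsLocallyNoetherian.component_noetherian ⟨⊤, isAffineOpen_top T⟩
  have h1 : IsNoetherianRing Γ((U.1 : Scheme.{u}), ⊤) :=
    isNoetherianRing_of_faithfullyFlat _ hff
  exact isNoetherianRing_of_ringEquiv _ (U.1.topIso.commRingCatIsoToRingEquiv)

/-- Local Noetherianity descends along flat, surjective morphisms which are open maps,
in particular along fppf covers. -/
theorem isLocallyNoetherian_of_flat_of_isOpenMap {X' X : Scheme.{u}} (a : X' ⟶ X) [Flat a]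
    [Surjective a] (ho : IsOpenMap a) [IsLocallyNoetherian X'] : IsLocallyNoetherian X :=
  isLocallyNoetherian_of_flat_of_cover a fun U hU =>
    ho.exists_opens_image_eq_of_prespectralSpace a.continuous
      (fun x _ => a.surjective x) U.2 hU.isCompact

/-- Local Noetherianity descends along fppf covers. -/
theorem isLocallyNoetherian_of_fppf {X' X : Scheme.{u}} (a : X' ⟶ X) [Flat a]
    [Surjective a] [LocallyOfFinitePresentation a] [IsLocallyNoetherian X'] :
    IsLocallyNoetherian X :=
  isLocallyNoetherian_of_flat_of_isOpenMap a a.isOpenMap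

/-- Local Noetherianity descends along flat, surjective, quasi-compact morphisms. -/
theorem isLocallyNoetherian_of_fpqc {X' X : Scheme.{u}} (a : X' ⟶ X) [Flat a]
    [Surjective a] [QuasiCompact a] [IsLocallyNoetherian X'] : IsLocallyNoetherian X :=
  isLocallyNoetherian_of_flat_of_cover a fun U hU =>
    ⟨a ⁻¹ᵁ U, QuasiCompact.isCompact_preimage (f := a) _ U.2 hU.isCompact,
      Set.image_preimage_eq _ a.surjective⟩

/-- `Spec A ×_{Spec K} Spec K'` is locally Noetherian when `A` is Noetherian and `K'` is
essentially of finite type over `K`. -/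
theorem isLocallyNoetherian_pullback_SpecMap_algebraMap (K A K' : Type u) [CommRing K] [CommRing A]
    [CommRing K'] [Algebra K A] [Algebra K K'] [Algebra.EssFiniteType K K'] [IsNoetherianRing A] :
    IsLocallyNoetherian (pullback (Spec.map (CommRingCat.ofHom (algebraMap K A)))
      (Spec.map (CommRingCat.ofHom (algebraMap K K')))) := by
  have : IsNoetherianRing (TensorProduct K A K') :=
    Algebra.EssFiniteType.isNoetherianRing A (TensorProduct K A K')
  have : IsLocallyNoetherian (Spec (.of <| TensorProduct K A K')) := inferInstance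
  exact isLocallyNoetherian_of_isOpenImmersion (pullbackSpecIso K A K').hom

/-- Base change of a locally Noetherian affine scheme over `Spec K` along `Spec K' ⟶ Spec K`
essentially of finite type. -/
theorem isLocallyNoetherian_pullback_of_isAffine {Q : Scheme.{u}} [IsAffine Q]
    [IsLocallyNoetherian Q] {K K' : CommRingCat.{u}} (φ : K ⟶ K') (hφ : φ.hom.EssFiniteType)
    (q : Q ⟶ Spec K) : IsLocallyNoetherian (pullback q (Spec.map φ)) := by
  have hA : IsNoetherianRing Γ(Q, ⊤) :=
    IsLocallyNoetherian.component_noetherian ⟨⊤, isAffineOpen_top Q⟩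
  obtain ⟨ψ, hψ⟩ := Spec.map_surjective (Q.isoSpec.inv ≫ q)
  algebraize [ψ.hom, φ.hom]
  have := isLocallyNoetherian_pullback_SpecMap_algebraMap K Γ(Q, ⊤) K'
  have e : q ≫ 𝟙 (Spec K) = Q.isoSpec.hom ≫ Spec.map ψ := by
    rw [hψ, Iso.hom_inv_id_assoc, Category.comp_id]
  exact isLocallyNoetherian_of_isOpenImmersion
    (pullback.map q (Spec.map φ) (Spec.map ψ) (Spec.map φ) Q.isoSpec.hom (𝟙 _) (𝟙 _) e (by simp))

/-- Base change of a locally Noetherian scheme over `Spec K` along `Spec K' ⟶ Spec K`
essentially of finite type. -/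
theorem isLocallyNoetherian_of_isPullback_SpecMap {P Q : Scheme.{u}} {K K' : CommRingCat.{u}}
    (φ : K ⟶ K') (hφ : φ.hom.EssFiniteType) (h : P ⟶ Q) (p : P ⟶ Spec K') (q : Q ⟶ Spec K)
    (sq : IsPullback h p q (Spec.map φ)) [IsLocallyNoetherian Q] : IsLocallyNoetherian P := by
  refine (isLocallyNoetherian_iff_openCover (Q.affineCover.pullback₁ h)).mpr fun i => ?_
  have sqv := (IsPullback.of_hasPullback h (Q.affineCover.f i)).flip.paste_vert sq
  have := isLocallyNoetherian_pullback_of_isAffine φ hφ (Q.affineCover.f i ≫ q)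
  exact isLocallyNoetherian_of_isOpenImmersion sqv.isoPullback.hom

end Groth.Agent.Lib.NoethDescent
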