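import Groth.Agent.Lib.AlgSpValuativeDecent
import Groth.Agent.Lib.H69AlgSpReduced
import Groth.Agent.Lib.NoethDescent

/-!
# Specializations on (decent) algebraic spaces and etale charts (owner: helper91)

Namespace `Groth.Agent.Lib.AlgSpDecentSpec`.  Append-only please.

* `finite_fibre_of_repWith_quasiCompact`: fibre of an etale chart from a quasi-compact scheme over a point with
  quasi-compact representative is finite.
* `exists_specializes_lift_of_qc_point`: generizations to a point with quasi-compact representative lift to etale charts.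
-/

set_option autoImplicit false
universe u
open CategoryTheory CategoryTheory.Limits AlgebraicGeometry Opposite Topology

namespace Groth.Agent.Lib.AlgSpDecentSpec

open AlgSp Groth.Agent.Lib.AlgSpPoints Groth.Agent.Lib.AlgSpQC Groth.Agent.Lib.AlgSpFibre
  Groth.Agent.Lib.AlgSpDescent Groth.Agent.Lib.H69AlgSp Groth.Agent.Lib.H69AlgSpMor
  Groth.Agent.Lib.AlgSpLocP Groth.Agent.Lib.AlgSpBasic Groth.Agent.Lib.AlgSpFpqc
  Groth.Agent.Lib.AlgSpProper Groth.Agent.Lib.AlgSpValuative

variable {S : Scheme.{u}}

/-- The fibre of an etale chart from a quasi-compact scheme over a point which has a representable quasi-compact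
representative is finite. -/
theorem finite_fibre_of_repWith_quasiCompact {P : Sp S} (pd : FieldPt P)
    (hqc : RepWith @QuasiCompact pd.toHom) {U : Over S} [CompactSpace ↥U.left]
    (p : (yon S).obj U ⟶ P) (hpe : RepWith @Etale p) :
    (Points.ofPt p ⁻¹' {Points.mk pd}).Finite := by
  have : IsAffine pd.pt.left := (inferInstance : IsAffine (Spec (.of pd.K)))
  have : Subsingleton ↥pd.pt.left := (inferInstance : Subsingleton (PrimeSpectrum pd.K))
  have h := (finite_fibre_of_isQuasiCompactMor p hpe pd.toHom (isQuasiCompactMor_of_repWith hqc)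
    (IsLocalRing.closedPoint pd.K)).1
  have e : Points.ofPt pd.toHom (IsLocalRing.closedPoint pd.K : ↥pd.pt.left) = Points.mk pd :=
    ofPt_fieldPtHom pd _
  rwa [e] at h

/-- The restriction of a chart to an open subscheme. -/
abbrev restrictOver (U : Over S) (V : U.left.Opens) : Over S := Over.mk (V.ι ≫ U.hom)

/-- The inclusion of an open subscheme of a chart. -/
abbrev restrictOverι (U : Over S) (V : U.left.Opens) : restrictOver U V ⟶ U := Over.homMk V.ι rfl

theorem repWith_etale_restrict {P : Sp S} {U : Over S} (a : (yon S).obj U ⟶ P) (ha : RepWith @Etale a)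
    (V : U.left.Opens) : RepWith @Etale ((yon S).map (restrictOverι U V) ≫ a) := by
  have hj : RepWith @Etale ((yon S).map (restrictOverι U V)) :=
    (repWith_yon_map_iff _ _).2 (inferInstance : Etale V.ι)
  exact MorphismProperty.comp_mem _ _ _ hj ha

/-- Let `x' ⤳ x` be a specialization of points of a sheaf `P`, where `x'` has a representable quasi-compact
representative.  Then for every etale chart `a : h_U ⟶ P` and every `u` over `x` there is a generization `u'` of `u` over `x'`. -/
theorem exists_specializes_lift_of_qc_point {P : Sp S} (x x' : Points P) (h : x' ⤳ x)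
    (pd : FieldPt P) (hpd : Points.mk pd = x') (hqc : RepWith @QuasiCompact pd.toHom)
    {U : Over S} (a : (yon S).obj U ⟶ P) (ha : RepWith @Etale a) (u : ↥U.left)
    (hu : Points.ofPt a u = x) :
    ∃ u' : ↥U.left, u' ⤳ u ∧ Points.ofPt a u' = x' := by
  obtain ⟨V, hV, huV⟩ : ∃ V : U.left.Opens, IsAffineOpen V ∧ u ∈ V := by
    obtain ⟨_, ⟨V, hV, rfl⟩, huV, -⟩ :=
      (U.left.isBasis_affineOpens).exists_subset_of_mem_open (Set.mem_univ u) isOpen_univ
    exact ⟨V, hV, huV⟩
  set a₀ := (yon S).map (restrictOverι U V) ≫ a with ha₀_def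
  have ha₀ : RepWith @Etale a₀ := repWith_etale_restrict a ha V
  have : IsAffine (restrictOver U V).left := hV
  have : CompactSpace ↥(restrictOver U V).left := inferInstance
  have hfin := finite_fibre_of_repWith_quasiCompact pd hqc a₀ ha₀
  rw [hpd] at hfin
  have hopen := isOpenMap_ofPt_of_repWith_etale ha₀
  have hcont := Points.continuous_ofPt a₀
  let u₀ : ↥(restrictOver U V).left := (⟨u, huV⟩ : ↥V)
  have hu₀ : (restrictOverι U V).left u₀ = u := rfl
  have h1 : Points.ofPt a₀ u₀ = x := by
    rw [ha₀_def, ofPt_yon_map_comp, hu₀]; exact hu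
  have h2 : u₀ ∈ Points.ofPt a₀ ⁻¹' closure {x'} := by
    rw [Set.mem_preimage, h1]; exact h.mem_closure
  rw [hopen.preimage_closure_eq_closure_preimage hcont] at h2
  rw [← Set.biUnion_of_singleton (Points.ofPt a₀ ⁻¹' {x'}), hfin.closure_biUnion] at h2
  obtain ⟨u', hu'mem, hu'⟩ := Set.mem_iUnion₂.1 h2
  refine ⟨(restrictOverι U V).left u', ?_, ?_⟩
  · rw [← hu₀]
    exact (specializes_iff_mem_closure.2 hu').map (restrictOverι U V).left.continuous
  · have := ofPt_yon_map_comp (restrictOverι U V) a u'
    rw [← this]; exact hu'mem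

/-- Generalizations lift along flat morphisms of algebraic spaces, to points with a representable quasi-compact
representative. -/
theorem exists_specializes_lift_of_locP_flat {X Y : Sp S} (hX : IsAlgSpace X) (hY : IsAlgSpace Y)
    (f : Y ⟶ X) (hf : LocP @Flat f) (x x' : Points X) (h : x' ⤳ x)
    (pd : FieldPt X) (hpd : Points.mk pd = x') (hqc : RepWith @QuasiCompact pd.toHom)
    (y : Points Y) (hy : Points.map f y = x) :
    ∃ y' : Points Y, y' ⤳ y ∧ Points.map f y' = x' := by
  obtain ⟨U, p, hpe, hps⟩ := hY.atlas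
  obtain ⟨V, b, hbe, hbs⟩ := hX.atlas
  obtain ⟨u₀, hu₀⟩ := surjective_ofPt_of_repWith_surjective hps y
  obtain ⟨W, s, t, hse, hss, sq⟩ := Groth.Agent.Lib.H69AlgSpReduced.exists_chart f p b hbe hbs
  have hse' : RepWith @Etale ((yon S).map s) := (repWith_yon_map_iff _ _).2 hse
  have hae : RepWith @Etale ((yon S).map s ≫ p) := MorphismProperty.comp_mem _ _ _ hse' hpe
  have hw : ((yon S).map s ≫ p) ≫ f = (yon S).map t ≫ b := by
    rw [Category.assoc]; exact sq.w.symm
  have hflat : Flat t.left := hf ((yon S).map s ≫ p) b t hae hbe hw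
  obtain ⟨w, hw₀⟩ := hss.surj u₀
  have hyw : Points.ofPt ((yon S).map s ≫ p) w = y := by
    rw [ofPt_yon_map_comp, hw₀, hu₀]
  have hv : Points.ofPt b (t.left w) = x := by
    rw [← ofPt_yon_map_comp, ← hw, ← Points.map_ofPt, hyw, hy]
  obtain ⟨v', hv's, hv'⟩ := exists_specializes_lift_of_qc_point x x' h pd hpd hqc b hbe (t.left w) hv
  obtain ⟨w', hw's, hw'⟩ := (Flat.generalizingMap t.left) hv's
  refine ⟨Points.ofPt ((yon S).map s ≫ p) w', ?_, ?_⟩
  · rw [← hyw]
    exact hw's.map (Points.continuous_ofPt _)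
  · rw [Points.map_ofPt, hw, ofPt_yon_map_comp, hw', hv']

/-- Points of a fibre product of schemes over a sheaf: two points of the factors with the same image come from a point of
the fibre product. -/
theorem exists_point_of_ofPt_eq {P : Sp S} {U T W : Over S} {p : (yon S).obj U ⟶ P}
    {s : (yon S).obj T ⟶ P} {fst : W ⟶ U} {snd : W ⟶ T}
    (sq : IsPullback ((yon S).map fst) ((yon S).map snd) p s) (u : ↥U.left) (k : ↥T.left)
    (h : Points.ofPt p u = Points.ofPt s k) :
    ∃ w : ↥W.left, fst.left w = u ∧ snd.left w = k := by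
  obtain ⟨x, hx1, hx2⟩ := exists_point_of_isPullback sq (Points.schemeHomeo U u)
    (Points.schemeHomeo T k) (by
      rw [← ofPt_eq_map_schemeHomeo', ← ofPt_eq_map_schemeHomeo']; exact h)
  obtain ⟨w, rfl⟩ := (Points.schemeHomeo _).surjective x
  refine ⟨w, ?_, ?_⟩
  · apply (Points.schemeHomeo U).injective
    rw [← hx1]
    exact (Points.map_yon_map_apply _ w).symm
  · apply (Points.schemeHomeo T).injective
    rw [← hx2]
    exact (Points.map_yon_map_apply _ w).symm

/-- There are no nontrivial specializations in the fibres of a locally quasi-finite morphism of schemes. -/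
theorem eq_of_specializes_of_locallyQuasiFinite {X Y : Scheme.{u}} (f : X ⟶ Y) [LocallyQuasiFinite f]
    {r r' : ↥X} (h : r' ⤳ r) (he : f r' = f r) : r' = r := by
  have hd := f.isDiscrete_preimage_singleton (f r)
  have : DiscreteTopology ↥(f ⁻¹' {f r}) := hd.to_subtype
  let a : ↥(f ⁻¹' {f r}) := ⟨r, rfl⟩
  let b : ↥(f ⁻¹' {f r}) := ⟨r', he⟩
  have hs : b ⤳ a := (subtype_specializes_iff b a).2 h
  exact congrArg Subtype.val hs.eq

/-- One step of the tower argument: given a specialization `u₁ ⤳ u₀` in a fibre of an etale chart, there is a generization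
`u₂` of `u₁` in the same fibre, which is equal to `u₁` only if `u₁ = u₀`. -/
theorem exists_generization_step {P : Sp S} {U : Over S} (a : (yon S).obj U ⟶ P)
    (ha : RepWith @Etale a) (u₀ u₁ : ↥U.left) (he : Points.ofPt a u₀ = Points.ofPt a u₁) (hs : u₁ ⤳ u₀) :
    ∃ u₂ : ↥U.left, u₂ ⤳ u₁ ∧ Points.ofPt a u₂ = Points.ofPt a u₁ ∧ (u₂ = u₁ → u₁ = u₀) := by
  have sqR := ha.rep.isPullback' a
  have het : Etale (ha.rep.fst' a).left := ha.property a _ _ sqR.flip
  have hes : Etale (ha.rep.snd a).left := ha.property_snd a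
  have hlqf : LocallyQuasiFinite (ha.rep.snd a).left := locallyQuasiFinite_of_etale _
  obtain ⟨r₀, hr₀t, hr₀s⟩ := exists_point_of_ofPt_eq sqR u₀ u₁ he
  obtain ⟨r₁, hr₁s, hr₁⟩ := (Flat.generalizingMap (ha.rep.fst' a).left) (hr₀t ▸ hs)
  refine ⟨(ha.rep.snd a).left r₁, ?_, ?_, ?_⟩
  · rw [← hr₀s]
    exact hr₁s.map (ha.rep.snd a).left.continuous
  · rw [← ofPt_yon_map_comp, ← sqR.w, ofPt_yon_map_comp, hr₁]
  · intro h
    have : r₁ = r₀ := eq_of_specializes_of_locallyQuasiFinite (ha.rep.snd a).left hr₁s (by rw [h, hr₀s])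
    rw [← hr₁, this, hr₀t]

/-- If the fibre of an etale chart `a : h_U ⟶ P` over `x` is finite, then there are no nontrivial specializations among the points
of that fibre. -/
theorem eq_of_specializes_of_finite_fibre {P : Sp S} {U : Over S} (a : (yon S).obj U ⟶ P)
    (ha : RepWith @Etale a) (x : Points P) (hfin : (Points.ofPt a ⁻¹' {x}).Finite)
    (u u' : ↥U.left) (hu : Points.ofPt a u = x) (hu' : Points.ofPt a u' = x) (hs : u' ⤳ u) : u = u' := by
  have : Finite ↥(Points.ofPt a ⁻¹' {x}) := hfin
  let r : ↥(Points.ofPt a ⁻¹' {x}) → ↥(Points.ofPt a ⁻¹' {x}) → Prop := fun v w => v.1 ⤳ w.1 ∧ v.1 ≠ w.1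
  have htrans : IsTrans _ r := ⟨fun v w z h1 h2 => ⟨h1.1.trans h2.1, fun h => by
    apply h1.2
    exact (h1.1.antisymm (h ▸ h2.1)).eq⟩⟩
  have hirr : Std.Irrefl r := ⟨fun v h => h.2 rfl⟩
  have hwf : WellFounded r := Finite.wellFounded_of_trans_of_irrefl r
  have key : ∀ v : ↥(Points.ofPt a ⁻¹' {x}), ∀ w : ↥(Points.ofPt a ⁻¹' {x}), v.1 ⤳ w.1 → v.1 = w.1 := by
    intro v
    induction v using hwf.induction with
    | _ v ih =>
      intro w hvw
      obtain ⟨u₂, hu₂s, hu₂e, hu₂⟩ := exists_generization_step a ha w.1 v.1 (w.2.trans v.2.symm) hvw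
      by_cases h : u₂ = v.1
      · exact hu₂ h
      · exfalso
        have hu₂x : u₂ ∈ Points.ofPt a ⁻¹' {x} := hu₂e.trans v.2
        exact h (ih ⟨u₂, hu₂x⟩ ⟨hu₂s, h⟩ v hu₂s)
  exact (key ⟨u', hu'⟩ ⟨u, hu⟩ hs).symm

/-- If all etale charts from affine schemes have finite fibres over `x`, then there are no nontrivial specializations among the
points over `x` of any etale chart. -/
theorem eq_of_specializes_of_finite_fibres_affine {P : Sp S} (x : Points P)
    (hx : ∀ (V : Over S) (b : (yon S).obj V ⟶ P), IsAffine V.left → RepWith @Etale b →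
      (Points.ofPt b ⁻¹' {x}).Finite)
    {U : Over S} (a : (yon S).obj U ⟶ P) (ha : RepWith @Etale a) (u u' : ↥U.left)
    (hu : Points.ofPt a u = x) (hu' : Points.ofPt a u' = x) (hs : u' ⤳ u) : u = u' := by
  obtain ⟨V, hV, huV⟩ : ∃ V : U.left.Opens, IsAffineOpen V ∧ u ∈ V := by
    obtain ⟨_, ⟨V, hV, rfl⟩, huV, -⟩ :=
      (U.left.isBasis_affineOpens).exists_subset_of_mem_open (Set.mem_univ u) isOpen_univ
    exact ⟨V, hV, huV⟩
  have hu'V : u' ∈ V := hs.mem_open V.isOpen huV
  have ha₀ : RepWith @Etale ((yon S).map (restrictOverι U V) ≫ a) := repWith_etale_restrict a ha V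
  have hfin := hx (restrictOver U V) _ hV ha₀
  let v : ↥(restrictOver U V).left := (⟨u, huV⟩ : ↥V)
  let v' : ↥(restrictOver U V).left := (⟨u', hu'V⟩ : ↥V)
  have hv : Points.ofPt ((yon S).map (restrictOverι U V) ≫ a) v = x := by
    rw [ofPt_yon_map_comp]; exact hu
  have hv' : Points.ofPt ((yon S).map (restrictOverι U V) ≫ a) v' = x := by
    rw [ofPt_yon_map_comp]; exact hu'
  have hsv : v' ⤳ v := (subtype_specializes_iff (⟨u', hu'V⟩ : ↥V) ⟨u, huV⟩).2 hs
  have := eq_of_specializes_of_finite_fibre _ ha₀ x hfin v v' hv hv' hsv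
  exact congrArg (restrictOverι U V).left this

/-- In a decent sheaf there are no nontrivial specializations among the points of an etale chart lying over one point. -/
theorem eq_of_specializes_of_isDecent {P : Sp S} (hP : IsDecent P) {U : Over S} (a : (yon S).obj U ⟶ P)
    (ha : RepWith @Etale a) (u u' : ↥U.left) (he : Points.ofPt a u = Points.ofPt a u') (hs : u' ⤳ u) :
    u = u' := by
  refine eq_of_specializes_of_finite_fibres_affine (Points.ofPt a u) (fun V b hV hb => ?_) a ha u u' rfl
    he.symm hs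
  have : IsAffine V.left := hV
  have : CompactSpace ↥V.left := inferInstance
  exact finite_fibre_of_isDecent hP b hb _

/-- The space of points of a decent algebraic space is Kolmogorov. -/
theorem t0Space_points_of_isDecent {X : Sp S} (hX : IsAlgSpace X) (hd : IsDecent X) : T0Space (Points X) := by
  refine ⟨fun x x' hxx' => ?_⟩
  obtain ⟨V, b, hbe, hbs⟩ := hX.atlas
  obtain ⟨v, hv⟩ := surjective_ofPt_of_repWith_surjective hbs x
  obtain ⟨p', hp', -, hq'⟩ := hd x'
  obtain ⟨p, hp, -, hq⟩ := hd x
  obtain ⟨v', hv's, hv'⟩ := exists_specializes_lift_of_qc_point x x' hxx'.specializes' p' hp' hq' b hbe v hv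
  obtain ⟨v'', hv''s, hv''⟩ := exists_specializes_lift_of_qc_point x' x hxx'.specializes p hp hq b hbe v' hv'
  have h1 : v = v'' := eq_of_specializes_of_isDecent hd b hbe v v'' (hv.trans hv''.symm) (hv''s.trans hv's)
  have h2 : v' = v := (hv's.antisymm (h1 ▸ hv''s)).eq
  rw [← hv, ← hv', h2]

/-- Points of a locally Noetherian scheme have finite codimension (finite-dimensional local rings). -/
theorem coheight_lt_top_of_isLocallyNoetherian (X : Scheme.{u}) [IsLocallyNoetherian X] (x : ↥X) :
    Order.coheight x < ⊤ := by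
  have h1 := ringKrullDim_stalk_eq_coheight x
  have h2 : ringKrullDim (X.presheaf.stalk x) < ⊤ := ringKrullDim_lt_top
  rw [h1, ← WithBot.coe_top, WithBot.coe_lt_coe] at h2
  exact h2

/-- Every scheme etale over a locally Noetherian sheaf is locally Noetherian. -/
theorem isLocallyNoetherian_of_repWith_etale {P : Sp S} (hP : IsLocNoethSp P) {U : Over S}
    (a : (yon S).obj U ⟶ P) (ha : RepWith @Etale a) : IsLocallyNoetherian U.left := by
  obtain ⟨V, b, hbe, hbs, hV⟩ := hP
  have sq := ha.rep.isPullback' b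
  have h1 : Etale (ha.rep.snd b).left := ha.property_snd b
  have h2 : Etale (ha.rep.fst' b).left := hbe.property a _ _ sq.flip
  have h3 : Surjective (ha.rep.fst' b).left := hbs.property a _ _ sq.flip
  have : IsLocallyNoetherian V.left := hV
  have hW : IsLocallyNoetherian (ha.rep.pullback b).left :=
    LocallyOfFiniteType.isLocallyNoetherian (ha.rep.snd b).left
  exact Groth.Agent.Lib.NoethDescent.isLocallyNoetherian_of_fppf (ha.rep.fst' b).left

/-- For an etale chart from a locally Noetherian scheme there are no nontrivial specializations among the points lying over one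
point. -/
theorem eq_of_specializes_of_isLocallyNoetherian {P : Sp S} {U : Over S} [IsLocallyNoetherian U.left]
    (a : (yon S).obj U ⟶ P) (ha : RepWith @Etale a) (u u' : ↥U.left)
    (he : Points.ofPt a u = Points.ofPt a u') (hs : u' ⤳ u) : u = u' := by
  have key : ∀ v : ↥U.left, ∀ w : ↥U.left, Points.ofPt a w = Points.ofPt a v → v ⤳ w → v = w := by
    intro v
    induction v using (InvImage.wf (fun v : ↥U.left => Order.coheight v) wellFounded_lt).induction with
    | _ v ih =>
      intro w hwv hvw
      obtain ⟨u₂, hu₂s, hu₂e, hu₂⟩ := exists_generization_step a ha w v hwv hvw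
      by_cases h : u₂ = v
      · exact hu₂ h
      · exfalso
        have hlt : v < u₂ := by
          refine lt_of_le_not_ge hu₂s fun hle => h ?_
          exact (Specializes.antisymm hu₂s hle).eq
        have hc : Order.coheight u₂ < Order.coheight v :=
          Order.coheight_strictAnti hlt (coheight_lt_top_of_isLocallyNoetherian _ u₂)
        exact h (ih u₂ hc v hu₂e.symm hu₂s)
  exact (key u' u he hs).symm

end Groth.Agent.Lib.AlgSpDecentSpec
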