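import Groth.Agent.Lib.AlgSpValuative
import Groth.Agent.S10380

/-!
# Valuative criterion for universally closed decent morphisms (owner: helper91)

Namespace `Groth.Agent.Lib.AlgSpValuative` (continues `Lib/AlgSpValuative.lean`).  Append-only please.
-/

set_option autoImplicit false
universe u
open CategoryTheory CategoryTheory.Limits AlgebraicGeometry Opposite Topology

namespace Groth.Agent.Lib.AlgSpValuative

open AlgSp Groth.Agent.Lib.AlgSpPoints Groth.Agent.Lib.AlgSpQC Groth.Agent.Lib.AlgSpFibre
  Groth.Agent.Lib.AlgSpDescent Groth.Agent.Lib.H69AlgSp Groth.Agent.Lib.H69AlgSpMor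
  Groth.Agent.Lib.AlgSpLocP Groth.Agent.Lib.AlgSpBasic Groth.Agent.Lib.AlgSpFpqc
  Groth.Agent.Lib.AlgSpProper

variable {S : Scheme.{u}}

/-- In a decent sheaf, the fibre of an etale chart from a quasi-compact scheme over any point is finite. -/
theorem finite_fibre_of_isDecent {P : Sp S} (hP : IsDecent P) {U : Over S} [CompactSpace ↥U.left]
    (p : (yon S).obj U ⟶ P) (hpe : RepWith @Etale p) (x : Points P) :
    (Points.ofPt p ⁻¹' {x}).Finite := by
  obtain ⟨pd, rfl, -, hqc⟩ := hP x
  have : IsAffine pd.pt.left := (inferInstance : IsAffine (Spec (.of pd.K)))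
  have : Subsingleton ↥pd.pt.left := (inferInstance : Subsingleton (PrimeSpectrum pd.K))
  have h := (finite_fibre_of_isQuasiCompactMor p hpe pd.toHom (isQuasiCompactMor_of_repWith hqc)
    (IsLocalRing.closedPoint pd.K)).1
  have e : Points.ofPt pd.toHom (IsLocalRing.closedPoint pd.K : ↥pd.pt.left) = Points.mk pd :=
    ofPt_fieldPtHom pd _
  rwa [e] at h

/-- A universally closed decent morphism of algebraic spaces satisfies the existence part of the valuative
criterion. -/
theorem existVC_of_isDecentMor_univClosed {X Y : Sp S} (hX : IsAlgSpace X) (hY : IsAlgSpace Y)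
    {f : X ⟶ Y} (hd : IsDecentMor f) (hc : IsUnivClosedMor f) : ExistVC f := by
  refine existVC_of_univClosed_of_finite_fibres hX hY hc fun sq U hUc p hpe => ?_
  have hP : IsDecent (pullback f sq.bot) := hd sq.bot _ _ (IsPullback.of_hasPullback f sq.bot)
  have : CompactSpace ↥U.left := hUc
  exact finite_fibre_of_isDecent hP p hpe _

end Groth.Agent.Lib.AlgSpValuative
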