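import Mathlib

/-!
# helper46: compactness of the constructible topology, in usable form, and a Baire-type lemma
(Mathlib only)
-/

set_option autoImplicit false
universe u
open Topology TopologicalSpace

namespace Groth.Agent.Lib.SpectralBaire

variable {X : Type u} [TopologicalSpace X]

theorem compactSpace_constructible [CompactSpace X] [QuasiSober X] [PrespectralSpace X]
    [QuasiSeparatedSpace X] : @CompactSpace X (constructibleTopology X) :=
  @Function.Surjective.compactSpace (WithConstructibleTopology X) X _ (constructibleTopology X)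
    (WithTopology.ofTopology) (WithTopology.continuous_ofTopology _) inferInstance
    (WithTopology.ofTopology_surjective _)

theorem isClosed_constructible_of_isCompact_isOpen {t : Set X} (ho : IsOpen t) (hc : IsCompact t) :
    IsClosed[constructibleTopology X] t := by
  rw [← @isOpen_compl_iff X t (constructibleTopology X)]
  exact IsCompact.isOpen_constructibleTopology_of_isClosed (by rwa [compl_compl]) ho.isClosed_compl

/-- In a spectral space, a family of compact open subsets with the finite intersection property has
nonempty intersection. -/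
theorem nonempty_sInter_of_isCompact_isOpen [CompactSpace X] [QuasiSober X] [PrespectralSpace X]
    [QuasiSeparatedSpace X] (F : Set (Set X)) (hF : ∀ t ∈ F, IsOpen t ∧ IsCompact t)
    (hfip : ∀ G ⊆ F, G.Finite → (⋂₀ G).Nonempty) : (⋂₀ F).Nonempty := by
  have hc : @CompactSpace X (constructibleTopology X) := compactSpace_constructible
  exact @CompactSpace.nonempty_sInter X (constructibleTopology X) hc F
    (fun t ht => isClosed_constructible_of_isCompact_isOpen (hF t ht).1 (hF t ht).2) hfip

/-- Baire-type lemma for spectral spaces: a sequence of open sets starting with the whole space and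
with empty intersection has a member which is not dense in the previous one. -/
theorem exists_isCompact_isOpen_disjoint_succ [CompactSpace X] [QuasiSober X] [PrespectralSpace X]
    [QuasiSeparatedSpace X] [Nonempty X] (U : ℕ → Set X) (hU : ∀ k, IsOpen (U k))
    (h0 : U 0 = Set.univ) (hempty : ⋂ k, U k = ∅) :
    ∃ m, ∃ D : Set X, D.Nonempty ∧ IsOpen D ∧ IsCompact D ∧ D ⊆ U m ∧ Disjoint D (U (m + 1)) := by
  by_contra hcon
  push Not at hcon
  let P : ℕ → Set X → Prop := fun m D => D.Nonempty ∧ IsOpen D ∧ IsCompact D ∧ D ⊆ U m
  have step : ∀ m (D : {D : Set X // P m D}), ∃ D' : {D' : Set X // P (m + 1) D'}, D'.1 ⊆ D.1 := by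
    rintro m ⟨D, hDn, hDo, hDc, hDU⟩
    have h1 := hcon m D hDn hDo hDc hDU
    rw [Set.not_disjoint_iff] at h1
    obtain ⟨x, hxD, hxU⟩ := h1
    obtain ⟨D', ⟨hD'o, hD'c⟩, hxD', hD'sub⟩ :=
      (PrespectralSpace.isTopologicalBasis (X := X)).exists_subset_of_mem_open
        (show x ∈ D ∩ U (m + 1) from ⟨hxD, hxU⟩) (hDo.inter (hU (m + 1)))
    exact ⟨⟨D', ⟨x, hxD'⟩, hD'o, hD'c, hD'sub.trans Set.inter_subset_right⟩,
      hD'sub.trans Set.inter_subset_left⟩
  choose f hf using step
  let seq : ∀ m, {D : Set X // P m D} := fun m =>
    Nat.rec ⟨Set.univ, Set.univ_nonempty, isOpen_univ, isCompact_univ, by rw [h0]⟩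
      (fun m D => f m D) m
  have hc : @CompactSpace X (constructibleTopology X) := compactSpace_constructible
  have hne : (⋂ m, (seq m).1).Nonempty :=
    @IsCompact.nonempty_iInter_of_sequence_nonempty_isCompact_isClosed X (constructibleTopology X)
      (fun m => (seq m).1) (fun m => hf m (seq m)) (fun m => (seq m).2.1)
      (@isCompact_univ X (constructibleTopology X) hc)
      (fun m => isClosed_constructible_of_isCompact_isOpen (seq m).2.2.1 (seq m).2.2.2.1)
  obtain ⟨x, hx⟩ := hne
  have : x ∈ ⋂ k, U k := by
    rw [Set.mem_iInter] at hx ⊢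
    exact fun k => (seq k).2.2.2.2 (hx k)
  rw [hempty] at this
  exact this

end Groth.Agent.Lib.SpectralBaire
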