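import Mathlib
import Groth.Agent.Lib.SpectralBaire

/-!
# helper46: the degree stratification of a separated etale morphism (Mathlib only)

For `g : Y ⟶ B` we define `offDiag g : OffDiag g ⟶ Y`, the first projection from the complement of the
diagonal in `Y ×_B Y`, and recursively `degGE k g ⊆ B`, the set of points over which the geometric
fibre has at least `k` points.
-/

set_option autoImplicit false
universe u
open CategoryTheory CategoryTheory.Limits AlgebraicGeometry Topology TopologicalSpace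

namespace Groth.Agent.Lib.EtaleDegStrat

variable {Y B : Scheme.{u}}

/-- The open complement of the diagonal (as the interior of the complement of its range). -/
noncomputable def offDiagOpens (g : Y ⟶ B) : (pullback g g).Opens :=
  ⟨interior (Set.range (pullback.diagonal g))ᶜ, isOpen_interior⟩

theorem mem_offDiagOpens_iff (g : Y ⟶ B) [IsSeparated g] (z : ↥(pullback g g)) :
    z ∈ offDiagOpens g ↔ z ∉ Set.range (pullback.diagonal g) := by
  have hcl : IsClosed (Set.range (pullback.diagonal g)) :=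
    (pullback.diagonal g).isClosedEmbedding.isClosed_range
  change z ∈ interior (Set.range (pullback.diagonal g))ᶜ ↔ _
  rw [hcl.isOpen_compl.interior_eq]
  rfl

theorem not_mem_range_of_mem_offDiagOpens (g : Y ⟶ B) (z : ↥(pullback g g))
    (hz : z ∈ offDiagOpens g) : z ∉ Set.range (pullback.diagonal g) :=
  fun h => (interior_subset hz : z ∈ (Set.range (pullback.diagonal g))ᶜ) h

/-- First projection from the complement of the diagonal. -/
noncomputable def offDiag (g : Y ⟶ B) : (offDiagOpens g).toScheme ⟶ Y :=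
  (offDiagOpens g).ι ≫ pullback.fst g g

/-- Second projection from the complement of the diagonal. -/
noncomputable def offDiag₂ (g : Y ⟶ B) : (offDiagOpens g).toScheme ⟶ Y :=
  (offDiagOpens g).ι ≫ pullback.snd g g

theorem offDiag_comp (g : Y ⟶ B) : offDiag g ≫ g = offDiag₂ g ≫ g := by
  simp only [offDiag, offDiag₂, Category.assoc, pullback.condition]

instance (g : Y ⟶ B) [Etale g] : Etale (offDiag g) := by
  delta offDiag; infer_instance

instance (g : Y ⟶ B) [IsSeparated g] : IsSeparated (offDiag g) := by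
  delta offDiag; infer_instance

/-- The set of points of `B` over which the geometric fibre of `g` has at least `k` points. -/
noncomputable def degGE : ℕ → ∀ {Y B : Scheme.{u}}, (Y ⟶ B) → Set ↥B
  | 0, _, _, _ => Set.univ
  | k + 1, _, _, g => g '' (degGE k (offDiag g))

theorem degGE_zero (g : Y ⟶ B) : degGE 0 g = Set.univ := rfl

theorem degGE_succ (k : ℕ) (g : Y ⟶ B) : degGE (k + 1) g = g '' (degGE k (offDiag g)) := rfl

theorem degGE_one (g : Y ⟶ B) : degGE 1 g = Set.range g := by
  rw [degGE_succ, degGE_zero, Set.image_univ]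

theorem isOpen_degGE (k : ℕ) : ∀ {Y B : Scheme.{u}} (g : Y ⟶ B) [Etale g], IsOpen (degGE k g) := by
  induction k with
  | zero => intro Y B g _; exact isOpen_univ
  | succ k ih =>
    intro Y B g _
    rw [degGE_succ]
    exact g.isOpenMap _ (ih (offDiag g))

/-- Every point of `Y ×_B Y` over `(y₀, y)` with `y₀ ≠ y`... more precisely: given `y₀, y` in the same
fibre, either `y = y₀` or `y` is the second projection of a point of the off-diagonal over `y₀`. -/
theorem eq_or_exists_offDiag (g : Y ⟶ B) [IsSeparated g] (y₀ y : ↥Y) (h : g y₀ = g y) :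
    y = y₀ ∨ ∃ z : ↥(offDiagOpens g).toScheme, offDiag g z = y₀ ∧ offDiag₂ g z = y := by
  obtain ⟨z, hz1, hz2⟩ := Scheme.Pullback.exists_preimage_pullback (f := g) (g := g) y₀ y h
  by_cases hz : z ∈ Set.range (pullback.diagonal g)
  · left
    obtain ⟨w, rfl⟩ := hz
    rw [← hz1, ← hz2, ← Scheme.Hom.comp_apply, ← Scheme.Hom.comp_apply]
    simp
  · right
    have hz' : z ∈ offDiagOpens g := (mem_offDiagOpens_iff g z).2 hz
    refine ⟨⟨z, hz'⟩, ?_, ?_⟩
    · change pullback.fst g g ((offDiagOpens g).ι ⟨z, hz'⟩) = y₀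
      exact hz1
    · change pullback.snd g g ((offDiagOpens g).ι ⟨z, hz'⟩) = y
      exact hz2

/-- A topological lemma: an open continuous map from a space with a basis of compact opens: every
compact subset of the image of an open set is the image of a compact open subset. -/
theorem exists_isCompact_isOpen_image_eq {A C : Type*} [TopologicalSpace A] [TopologicalSpace C]
    [PrespectralSpace A] (f : A → C) (hf : IsOpenMap f) (O : Set A) (hO : IsOpen O) (D : Set C)
    (hD : IsCompact D) (hDO : D ⊆ f '' O) :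
    ∃ G : Set A, IsOpen G ∧ IsCompact G ∧ G ⊆ O ∧ D ⊆ f '' G := by
  let ι := {G : Set A // IsOpen G ∧ IsCompact G ∧ G ⊆ O}
  have hcov : D ⊆ ⋃ G : ι, f '' G.1 := by
    intro d hd
    obtain ⟨a, haO, rfl⟩ := hDO hd
    obtain ⟨G, ⟨hGo, hGc⟩, haG, hGO⟩ :=
      (PrespectralSpace.isTopologicalBasis (X := A)).exists_subset_of_mem_open haO hO
    exact Set.mem_iUnion.2 ⟨⟨G, hGo, hGc, hGO⟩, a, haG, rfl⟩
  obtain ⟨t, ht⟩ := hD.elim_finite_subcover (fun G : ι => f '' G.1) (fun G => hf _ G.2.1) hcov
  refine ⟨⋃ G ∈ t, G.1, isOpen_biUnion fun G _ => G.2.1,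
    t.isCompact_biUnion fun G _ => G.2.2.1, Set.iUnion₂_subset fun G _ => G.2.2.2, ?_⟩
  intro d hd
  obtain ⟨G, hG, a, haG, rfl⟩ := Set.mem_iUnion₂.1 (ht hd)
  exact ⟨a, Set.mem_iUnion₂.2 ⟨G, hG, haG⟩, rfl⟩

/-- If the geometric fibres of `g` have exactly `m` points over the compact open `D`, then `g ⁻¹' D`
is compact. -/
theorem isCompact_preimage (m : ℕ) : ∀ {Y B : Scheme.{u}} (g : Y ⟶ B) [Etale g] [IsSeparated g]
    (D : Set ↥B), IsCompact D → IsOpen D → D ⊆ degGE m g → Disjoint D (degGE (m + 1) g) →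
    IsCompact (g ⁻¹' D) := by
  induction m with
  | zero =>
    intro Y B g _ _ D _ _ _ h2
    rw [zero_add, degGE_one] at h2
    have : g ⁻¹' D = ∅ := by
      ext y
      simp only [Set.mem_preimage, Set.mem_empty_iff_false, iff_false]
      exact fun hy => Set.disjoint_left.1 h2 hy ⟨y, rfl⟩
    rw [this]
    exact isCompact_empty
  | succ m ih =>
    intro Y B g _ _ D hDc hDo h1 h2
    have hO : IsOpen (g ⁻¹' D ∩ degGE m (offDiag g)) :=
      (hDo.preimage g.continuous).inter (isOpen_degGE m (offDiag g))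
    have hDO : D ⊆ g '' (g ⁻¹' D ∩ degGE m (offDiag g)) := by
      intro d hd
      obtain ⟨y, hy, rfl⟩ := (degGE_succ m g ▸ h1) hd
      exact ⟨y, ⟨hd, hy⟩, rfl⟩
    obtain ⟨G, hGo, hGc, hGO, hDG⟩ :=
      exists_isCompact_isOpen_image_eq g g.isOpenMap _ hO D hDc hDO
    have hG1 : G ⊆ degGE m (offDiag g) := fun y hy => (hGO hy).2
    have hG2 : Disjoint G (degGE (m + 1) (offDiag g)) := by
      rw [Set.disjoint_left]
      intro y hyG hy
      exact Set.disjoint_left.1 h2 (hGO hyG).1 (by rw [degGE_succ (m + 1) g]; exact ⟨y, hy, rfl⟩)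
    have hc := ih (offDiag g) G hGc hGo hG1 hG2
    have heq : g ⁻¹' D = G ∪ offDiag₂ g '' (offDiag g ⁻¹' G) := by
      ext y
      constructor
      · intro hy
        obtain ⟨y₀, hy₀G, hy₀⟩ := hDG hy
        rcases eq_or_exists_offDiag g y₀ y hy₀ with rfl | ⟨z, hz1, hz2⟩
        · exact Or.inl hy₀G
        · exact Or.inr ⟨z, by rw [Set.mem_preimage, hz1]; exact hy₀G, hz2⟩
      · rintro (hy | ⟨z, hz, rfl⟩)
        · exact (hGO hy).1
        · rw [Set.mem_preimage] at hz ⊢
          have := (hGO hz).1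
          rw [Set.mem_preimage, ← Scheme.Hom.comp_apply, offDiag_comp] at this
          exact this
    rw [heq]
    exact hGc.union (hc.image (offDiag₂ g).continuous)


/-! ### Geometric points and the bound on the degree -/

/-- A morphism from the spectrum of a field is `Spec` of a map from the residue field of its image point. -/
theorem exists_residue_hom {Ω : Type u} [Field Ω] (β : Spec (CommRingCat.of Ω) ⟶ B)
    (pt : ↥(Spec (CommRingCat.of Ω))) (c : ↥B) (hc : β pt = c) :
    ∃ ψ : B.residueField c ⟶ CommRingCat.of Ω, β = Spec.map ψ ≫ B.fromSpecResidueField c := by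
  have h1 : (Scheme.SpecToEquivOfField Ω B β).1 = c := by
    rw [← hc]
    exact congrArg β (Subsingleton.elim _ _)
  subst h1
  exact ⟨(Scheme.SpecToEquivOfField Ω B β).2, ((Scheme.SpecToEquivOfField Ω B).symm_apply_apply β).symm⟩

/-- Extensions of a fixed embedding along a finite field extension are finite in number. -/
theorem finite_extensions {K L Ω : Type u} [Field K] [Field L] [Field Ω] (i : K →+* L) (hi : i.Finite)
    (ψ : K →+* Ω) : {φ : L →+* Ω | φ.comp i = ψ}.Finite := by
  algebraize [i, ψ]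
  have : FiniteDimensional K L := hi
  have hfin : Finite (L →ₐ[K] Ω) := inferInstance
  let F : {φ : L →+* Ω | φ.comp i = ψ} → (L →ₐ[K] Ω) := fun φ =>
    { φ.1 with
      commutes' := fun k => by
        have := congrArg (fun f : K →+* Ω => f k) φ.2
        simpa [RingHom.algebraMap_toAlgebra] using this }
  have hF : Function.Injective F := by
    intro φ φ' h
    apply Subtype.ext
    ext x
    exact congrArg (fun f : L →ₐ[K] Ω => f x) h
  exact Set.finite_coe_iff.1 (Finite.of_injective F hF)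

theorem locallyQuasiFinite_of_etale (f : Y ⟶ B) [Etale f] :
    LocallyQuasiFinite f where
  quasiFinite_appLE {U} hU {V} hV e := by
    have h := f.etale_appLE hU hV e
    algebraize [(f.appLE U V e).hom]
    rw [RingHom.QuasiFinite]
    infer_instance

/-- Residue field extensions of a locally quasi-finite morphism are finite. -/
theorem finite_residueFieldMap_of_lqf (g : Y ⟶ B) [LocallyOfFiniteType g] [LocallyQuasiFinite g]
    (y : ↥Y) : (g.residueFieldMap y).hom.Finite := by
  have hd : _root_.IsDiscrete (g ⁻¹' {g y}) := g.isDiscrete_preimage_singleton (g y)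
  have : DiscreteTopology ↥(g ⁻¹' {g y}) := hd.to_subtype
  have : DiscreteTopology ↥(g.fiber (g y)) := (g.fiberHomeo (g y)).symm.discreteTopology
  have hw : IsClosed ({g.asFiber y} : Set (g.fiber (g y))) := isClosed_discrete _
  have h1 : IsClosedImmersion (g.asFiberHom y) :=
    .of_isPreimmersion _ (by rw [g.range_asFiberHom]; exact hw)
  have h2 : LocallyOfFiniteType (g.fiberToSpecResidueField (g y)) :=
    show LocallyOfFiniteType (pullback.snd _ _) from inferInstance
  have h3 : LocallyOfFiniteType (Spec.map (g.residueFieldMap y)) := by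
    rw [← g.asFiberHom_fiberToSpecResidueField]; infer_instance
  have h4 : IsFinite (Spec.map (g.residueFieldMap y)) :=
    isFinite_iff_locallyOfFiniteType_of_jacobsonSpace.mpr h3
  exact (IsFinite.SpecMap_iff _).mp h4

/-- Lifting a geometric point with algebraically closed field through a point with finite residue
field extension. -/
theorem exists_lift_of_isAlgClosed (g : Y ⟶ B) (y : ↥Y) (hy : (g.residueFieldMap y).hom.Finite)
    {Ω : Type u} [Field Ω] [IsAlgClosed Ω] (β : Spec (CommRingCat.of Ω) ⟶ B)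
    (pt : ↥(Spec (CommRingCat.of Ω))) (hβ : β pt = g y) :
    ∃ σ : Spec (CommRingCat.of Ω) ⟶ Y, σ ≫ g = β ∧ σ pt = y := by
  obtain ⟨ψ, rfl⟩ := exists_residue_hom β pt (g y) hβ
  algebraize [(g.residueFieldMap y).hom, ψ.hom]
  have : FiniteDimensional ↑(B.residueField (g y)) ↑(Y.residueField y) := hy
  let φ : ↑(Y.residueField y) →ₐ[↑(B.residueField (g y))] Ω := IsAlgClosed.lift
  refine ⟨Spec.map (CommRingCat.ofHom φ.toRingHom) ≫ Y.fromSpecResidueField y, ?_, ?_⟩
  · rw [Category.assoc, ← Scheme.Hom.SpecMap_residueFieldMap_fromSpecResidueField, ← Category.assoc,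
      ← Spec.map_comp]
    congr 2
    ext k
    exact φ.commutes k
  · rw [Scheme.Hom.comp_apply, Scheme.fromSpecResidueField_apply]

/-- Over a point of `degGE k g`, every geometric point with algebraically closed field has `k`
pairwise distinct lifts. -/
theorem exists_lifts_of_mem_degGE (k : ℕ) : ∀ {Y B : Scheme.{u}} (g : Y ⟶ B) [Etale g] (b : ↥B),
    b ∈ degGE k g → ∀ (Ω : Type u) [Field Ω] [IsAlgClosed Ω] (β : Spec (CommRingCat.of Ω) ⟶ B)
    (pt : ↥(Spec (CommRingCat.of Ω))), β pt = b →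
    ∃ σ : Fin k → (Spec (CommRingCat.of Ω) ⟶ Y), (∀ i, σ i ≫ g = β) ∧ Function.Injective σ := by
  induction k with
  | zero =>
    intro Y B g _ b _ Ω _ _ β _ _
    exact ⟨Fin.elim0, fun i => i.elim0, fun i => i.elim0⟩
  | succ k ih =>
    intro Y B g _ b hb Ω _ _ β pt hβ
    rw [degGE_succ] at hb
    obtain ⟨y, hy, rfl⟩ := hb
    have : LocallyQuasiFinite g := locallyQuasiFinite_of_etale g
    obtain ⟨ybar, hyg, hypt⟩ :=
      exists_lift_of_isAlgClosed g y (finite_residueFieldMap_of_lqf g y) β pt hβ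
    obtain ⟨σ', hσ', hinj⟩ := ih (offDiag g) y hy Ω ybar pt hypt
    refine ⟨Fin.cons ybar (fun i => σ' i ≫ offDiag₂ g), ?_, ?_⟩
    · intro i
      refine Fin.cases ?_ (fun i => ?_) i
      · simpa using hyg
      · simp only [Fin.cons_succ, Category.assoc]
        rw [← offDiag_comp, ← Category.assoc, hσ', hyg]
    · have key : ∀ i, σ' i ≫ offDiag₂ g ≠ ybar := by
        intro i h
        have h1 : (σ' i ≫ (offDiagOpens g).ι) = ybar ≫ pullback.diagonal g := by
          apply pullback.hom_ext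
          · simpa [offDiag] using hσ' i
          · simpa [offDiag₂] using h
        have h2 : (σ' i ≫ (offDiagOpens g).ι) pt ∈ Set.range (pullback.diagonal g) := by
          rw [h1, Scheme.Hom.comp_apply]
          exact ⟨_, rfl⟩
        refine not_mem_range_of_mem_offDiagOpens g _ ?_ h2
        rw [Scheme.Hom.comp_apply]
        exact (σ' i pt).2
      intro i j
      refine Fin.cases ?_ (fun i => ?_) i <;> refine Fin.cases ?_ (fun j => ?_) j
      · intro _; rfl
      · intro h
        simp only [Fin.cons_zero, Fin.cons_succ] at h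
        exact absurd h.symm (key j)
      · intro h
        simp only [Fin.cons_zero, Fin.cons_succ] at h
        exact absurd h (key i)
      · intro h
        simp only [Fin.cons_succ] at h
        have h1 : σ' i ≫ (offDiagOpens g).ι = σ' j ≫ (offDiagOpens g).ι := by
          apply pullback.hom_ext
          · have := (hσ' i).trans (hσ' j).symm
            simpa [offDiag] using this
          · simpa [offDiag₂] using h
        have h2 : σ' i = σ' j := (cancel_mono _).1 h1
        rw [hinj h2]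


/-- The lifts of a geometric point lying over a point with finite fibre are finite in number. -/
theorem finite_lifts (g : Y ⟶ B) [Etale g] (b : ↥B) (hfin : (g ⁻¹' {b}).Finite) {Ω : Type u}
    [Field Ω] (β : Spec (CommRingCat.of Ω) ⟶ B) (pt : ↥(Spec (CommRingCat.of Ω))) (hβ : β pt = b) :
    {σ : Spec (CommRingCat.of Ω) ⟶ Y | σ ≫ g = β}.Finite := by
  have hsub : {σ : Spec (CommRingCat.of Ω) ⟶ Y | σ ≫ g = β} ⊆
      ⋃ y ∈ g ⁻¹' {b}, {σ | σ ≫ g = β ∧ σ pt = y} := by
    intro σ hσ
    refine Set.mem_iUnion₂.2 ⟨σ pt, ?_, hσ, rfl⟩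
    rw [Set.mem_preimage, Set.mem_singleton_iff, ← Scheme.Hom.comp_apply, hσ, hβ]
  refine (hfin.biUnion fun y hy => ?_).subset hsub
  have : LocallyQuasiFinite g := locallyQuasiFinite_of_etale g
  have hy' : β pt = g y := hβ.trans (Set.mem_singleton_iff.1 hy).symm
  obtain ⟨ψ, hψ⟩ := exists_residue_hom β pt (g y) hy'
  have hE := finite_extensions (g.residueFieldMap y).hom (finite_residueFieldMap_of_lqf g y) ψ.hom
  refine (hE.image (fun φ => Spec.map (CommRingCat.ofHom φ) ≫ Y.fromSpecResidueField y)).subset ?_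
  rintro σ ⟨hσ, hσy⟩
  obtain ⟨φ, hφ⟩ := exists_residue_hom σ pt y hσy
  refine ⟨φ.hom, ?_, hφ.symm⟩
  have h1 : Spec.map (g.residueFieldMap y ≫ φ) ≫ B.fromSpecResidueField (g y) =
      Spec.map ψ ≫ B.fromSpecResidueField (g y) := by
    rw [Spec.map_comp, Category.assoc, Scheme.Hom.SpecMap_residueFieldMap_fromSpecResidueField,
      ← Category.assoc, ← hφ, hσ, hψ]
  have h2 : Spec.map (g.residueFieldMap y ≫ φ) = Spec.map ψ := (cancel_mono _).1 h1
  have h3 : g.residueFieldMap y ≫ φ = ψ := Spec.map_injective h2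
  exact congrArg CommRingCat.Hom.hom h3

/-- Over a point with finite fibre, the degree is bounded. -/
theorem exists_not_mem_degGE (g : Y ⟶ B) [Etale g] (b : ↥B) (hfin : (g ⁻¹' {b}).Finite) :
    ∃ k, b ∉ degGE k g := by
  let Ω := AlgebraicClosure ↑(B.residueField b)
  let β : Spec (CommRingCat.of Ω) ⟶ B :=
    Spec.map (CommRingCat.ofHom (algebraMap ↑(B.residueField b) Ω)) ≫ B.fromSpecResidueField b
  let pt : ↥(Spec (CommRingCat.of Ω)) := default
  have hβ : β pt = b := by
    rw [Scheme.Hom.comp_apply, Scheme.fromSpecResidueField_apply]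
  have F := finite_lifts g b hfin β pt hβ
  refine ⟨F.toFinset.card + 1, fun hb => ?_⟩
  obtain ⟨σ, hσ, hinj⟩ := exists_lifts_of_mem_degGE _ g b hb Ω β pt hβ
  have := Finset.card_le_card_of_injOn (s := Finset.univ) (t := F.toFinset) σ
    (fun i _ => F.mem_toFinset.2 (hσ i)) hinj.injOn
  simp at this

/-- The core statement: for an etale equivalence relation with finite fibres on an affine scheme whose
quotient is irreducible, some point lies in every nonempty saturated open. -/
theorem exists_point_in_all_opens {U R : Scheme.{u}} [IsAffine U] [Nonempty ↥U] (s t : R ⟶ U)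
    [Etale s] [IsSeparated s] (ht : IsOpenMap t) (hfin : ∀ u : ↥U, (s ⁻¹' {u}).Finite)
    {Q : Type*} [TopologicalSpace Q] (a : ↥U → Q) (ha : Continuous a) (hao : IsOpenMap a)
    (hrel : ∀ u u' : ↥U, a u = a u' ↔ ∃ r : ↥R, s r = u ∧ t r = u')
    (hirr : IsIrreducible (Set.range a)) :
    ∃ η : ↥U, ∀ O : Set Q, IsOpen O → (Set.range a ∩ O).Nonempty → a η ∈ O := by
  -- Baire
  have hempty : ⋂ k, degGE k s = ∅ := by
    rw [Set.eq_empty_iff_forall_notMem]
    intro u hu
    obtain ⟨k, hk⟩ := exists_not_mem_degGE s u (hfin u)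
    exact hk (Set.mem_iInter.1 hu k)
  obtain ⟨m, D₀, hD₀n, hD₀o, hD₀c, hD₀m, hD₀d⟩ :=
    Groth.Agent.Lib.SpectralBaire.exists_isCompact_isOpen_disjoint_succ (fun k => degGE k s)
      (fun k => isOpen_degGE k s) rfl hempty
  -- saturation
  have hsat : ∀ D : Set ↥U, t '' (s ⁻¹' D) = a ⁻¹' (a '' D) := by
    intro D
    ext u'
    constructor
    · rintro ⟨r, hr, rfl⟩
      exact ⟨s r, hr, (hrel _ _).2 ⟨r, rfl, rfl⟩⟩
    · rintro ⟨u, hu, hau⟩
      obtain ⟨r, rfl, rfl⟩ := (hrel _ _).1 hau
      exact ⟨r, hu, rfl⟩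
  have hcpt : ∀ D : Set ↥U, IsCompact D → IsOpen D → D ⊆ D₀ → IsCompact (a ⁻¹' (a '' D)) ∧
      IsOpen (a ⁻¹' (a '' D)) := by
    intro D hDc hDo hDD
    rw [← hsat]
    exact ⟨(isCompact_preimage m s D hDc hDo (hDD.trans hD₀m)
      (Set.disjoint_of_subset_left hDD hD₀d)).image t.continuous,
      ht _ (hDo.preimage s.continuous)⟩
  let 𝓕 : Set (Set ↥U) := {A | ∃ D : Set ↥U, D.Nonempty ∧ IsCompact D ∧ IsOpen D ∧ D ⊆ D₀ ∧
    A = a ⁻¹' (a '' D)}
  have hne : (⋂₀ 𝓕).Nonempty := by
    refine Groth.Agent.Lib.SpectralBaire.nonempty_sInter_of_isCompact_isOpen 𝓕 ?_ ?_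
    · rintro A ⟨D, -, hDc, hDo, hDD, rfl⟩
      exact ⟨(hcpt D hDc hDo hDD).2, (hcpt D hDc hDo hDD).1⟩
    · intro G hGF hGfin
      choose! Dg hDg using fun A (hA : A ∈ G) => hGF hA
      have h := (isIrreducible_iff_sInter.1 hirr) (hGfin.toFinset.image fun A => a '' Dg A) ?_ ?_
      · obtain ⟨q, ⟨u, rfl⟩, hq⟩ := h
        refine ⟨u, ?_⟩
        rw [Set.mem_sInter]
        intro A hA
        rw [(hDg A hA).2.2.2.2]
        rw [Set.mem_sInter] at hq
        exact hq _ (by
          rw [Finset.coe_image, Set.mem_image]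
          exact ⟨A, by simpa using hA, rfl⟩)
      · intro O hO
        rw [Finset.mem_image] at hO
        obtain ⟨A, hA, rfl⟩ := hO
        exact hao _ (hDg A (by simpa using hA)).2.2.1
      · intro O hO
        rw [Finset.mem_image] at hO
        obtain ⟨A, hA, rfl⟩ := hO
        obtain ⟨d, hd⟩ := (hDg A (by simpa using hA)).1
        exact ⟨a d, ⟨d, rfl⟩, d, hd, rfl⟩
  obtain ⟨η, hη⟩ := hne
  refine ⟨η, fun O hO hOne => ?_⟩
  obtain ⟨d₀, hd₀⟩ := hD₀n
  have h1 : (Set.range a ∩ (a '' D₀)).Nonempty := ⟨a d₀, ⟨d₀, rfl⟩, d₀, hd₀, rfl⟩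
  obtain ⟨q, -, hqO, d, hd, rfl⟩ := hirr.2 O (a '' D₀) hO (hao _ hD₀o) hOne h1
  obtain ⟨D, ⟨hDo, hDc⟩, hdD, hDsub⟩ :=
    (PrespectralSpace.isTopologicalBasis (X := ↥U)).exists_subset_of_mem_open
      (show d ∈ a ⁻¹' O ∩ D₀ from ⟨hqO, hd⟩) ((hO.preimage ha).inter hD₀o)
  have hmem : a ⁻¹' (a '' D) ∈ 𝓕 :=
    ⟨D, ⟨d, hdD⟩, hDc, hDo, hDsub.trans Set.inter_subset_right, rfl⟩
  obtain ⟨d', hd', hd'η⟩ := Set.mem_sInter.1 hη _ hmem
  rw [← hd'η]
  exact (hDsub hd').1

end Groth.Agent.Lib.EtaleDegStrat
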