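import Mathlib.AlgebraicGeometry.Morphisms.FlatDescent
import Mathlib.AlgebraicGeometry.Morphisms.LocalFlatDescent
import Mathlib.AlgebraicGeometry.Morphisms.Finite
import Mathlib.AlgebraicGeometry.Morphisms.Proper
import Mathlib.AlgebraicGeometry.Morphisms.ClosedImmersion
import Mathlib.AlgebraicGeometry.Morphisms.Separated
import Mathlib.AlgebraicGeometry.Morphisms.Integral
import Mathlib.AlgebraicGeometry.Morphisms.QuasiFinite
import Mathlib.AlgebraicGeometry.Morphisms.Immersion

set_option autoImplicit false
open CategoryTheory CategoryTheory.Limits AlgebraicGeometry Opposite MorphismProperty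
universe u

namespace Groth.Agent.Lib.FpqcDescent

/-- Quasi-compactness descends along surjective morphisms (in particular fpqc ones). -/
theorem quasiCompact_of_isPullback_of_surjective {A X Y Z : Scheme.{u}} {fst : A ⟶ X} {snd : A ⟶ Y}
    {f : X ⟶ Z} {g : Y ⟶ Z} (h : IsPullback fst snd f g) [Surjective f] [QuasiCompact f]
    [QuasiCompact fst] : QuasiCompact g := by
  have hsnd : Surjective snd := MorphismProperty.of_isPullback (P := @Surjective) h inferInstance
  refine ⟨fun U hU hUc ↦ ?_⟩
  have h1 : IsCompact (fst ⁻¹' (f ⁻¹' U)) :=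
    QuasiCompact.isCompact_preimage _ (hU.preimage f.continuous)
      (QuasiCompact.isCompact_preimage _ hU hUc)
  have h2 : g ⁻¹' U = snd '' (fst ⁻¹' (f ⁻¹' U)) := by
    have : fst ⁻¹' (f ⁻¹' U) = snd ⁻¹' (g ⁻¹' U) := by
      rw [← Set.preimage_comp, ← Set.preimage_comp]
      congr 1
      have := congr($(h.w).base)
      ext x
      simpa using congr($this x)
    rw [this, Set.image_preimage_eq _ snd.surjective]
  rw [h2]
  exact h1.image snd.continuous

/-- Quasi-compactness satisfies fpqc descent. -/
instance descendsAlong_quasiCompact :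
    DescendsAlong @QuasiCompact (@Surjective ⊓ @Flat ⊓ @QuasiCompact : MorphismProperty Scheme.{u}) where
  of_isPullback {A X Y Z fst snd f g} h hf hfst := by
    have : Surjective f := hf.1.1
    have : QuasiCompact f := hf.2
    have : QuasiCompact fst := hfst
    exact quasiCompact_of_isPullback_of_surjective h

/-- Quasi-separatedness satisfies fpqc descent. -/
instance descendsAlong_quasiSeparated :
    DescendsAlong @QuasiSeparated (@Surjective ⊓ @Flat ⊓ @QuasiCompact : MorphismProperty Scheme.{u}) := by
  rw [quasiSeparated_eq_diagonal_is_quasiCompact]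
  infer_instance

theorem appLE_top_top {X Y : Scheme.{u}} (f : X ⟶ Y) (e : (⊤ : X.Opens) ≤ f ⁻¹ᵁ ⊤) : f.appLE ⊤ ⊤ e = f.appTop := by
  simp [Scheme.Hom.appLE, Scheme.Hom.appTop]

theorem isAffine_of_isPullback_of_flat {A Y : Scheme.{u}} {R S : CommRingCat.{u}} {fst : A ⟶ Spec S} {snd : A ⟶ Y}
    {φ : R ⟶ S} {g : Y ⟶ Spec R} (h : IsPullback fst snd (Spec.map φ) g) [Surjective (Spec.map φ)] [Flat (Spec.map φ)]
    [IsAffine A] : IsAffine Y := by
  have hQ : (@Surjective ⊓ @Flat ⊓ @QuasiCompact : MorphismProperty Scheme.{u}) (Spec.map φ) :=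
    ⟨⟨inferInstance, inferInstance⟩, inferInstance⟩
  have hqc : QuasiCompact g :=
    of_isPullback_of_descendsAlong (P := @QuasiCompact) h hQ (inferInstance : QuasiCompact fst)
  have hqs : QuasiSeparated g :=
    of_isPullback_of_descendsAlong (P := @QuasiSeparated) h hQ (inferInstance : QuasiSeparated fst)
  have : CompactSpace Y := by
    rwa [← quasiCompact_iff_compactSpace g]
  have : QuasiSeparatedSpace Y := by
    rwa [← quasiSeparated_iff_quasiSeparatedSpace g]
  set f := Spec.map φ with hf
  -- flat base change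
  have hiso := isIso_pushoutSection_of_isQuasiSeparated_of_flat_right (f := f) (g := snd) (iX := g) (iY := fst)
    h.flip (US := ⊤) (UT := ⊤) (UX := ⊤) (UY := ⊤) le_top le_top (by simp)
    (isAffineOpen_top _) (isAffineOpen_top _) (CompactSpace.isCompact_univ) (isQuasiSeparated_univ)
  rw [isIso_pushoutSection_iff] at hiso
  simp only [appLE_top_top] at hiso
  -- the pullback square of spectra
  have hR : IsPullback (Spec.map snd.appTop) (Spec.map fst.appTop) (Spec.map g.appTop) (Spec.map f.appTop) := by
    have := (hiso.op.map Scheme.Spec).flip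
    simpa using this
  -- the outer rectangle is a pullback
  have hO : IsPullback snd (fst ≫ (Spec S).toSpecΓ) (g ≫ (Spec R).toSpecΓ) (Spec.map f.appTop) := by
    refine IsPullback.of_iso h.flip (Iso.refl _) (Iso.refl _) (asIso (Spec S).toSpecΓ) (asIso (Spec R).toSpecΓ)
      (by simp) (by simp) (by simp) ?_
    simpa using (Scheme.toSpecΓ_naturality f)
  have hL : IsPullback snd A.toSpecΓ Y.toSpecΓ (Spec.map snd.appTop) := by
    refine IsPullback.of_bot ?_ (Scheme.toSpecΓ_naturality snd) hR
    rw [← Scheme.toSpecΓ_naturality, ← Scheme.toSpecΓ_naturality]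
    exact hO
  have hQ' : (@Surjective ⊓ @Flat ⊓ @QuasiCompact : MorphismProperty Scheme.{u}) (Spec.map f.appTop) := by
    have h1 := (cancel_right_of_respectsIso (@Surjective ⊓ @Flat ⊓ @QuasiCompact : MorphismProperty Scheme.{u})
      f (Spec R).toSpecΓ).mpr hQ
    rw [Scheme.toSpecΓ_naturality f] at h1
    exact (cancel_left_of_respectsIso (@Surjective ⊓ @Flat ⊓ @QuasiCompact : MorphismProperty Scheme.{u})
      (Spec S).toSpecΓ _).mp h1
  have hQ'' : (@Surjective ⊓ @Flat ⊓ @QuasiCompact : MorphismProperty Scheme.{u}) (Spec.map snd.appTop) :=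
    MorphismProperty.of_isPullback hR.flip hQ'
  have : IsIso Y.toSpecΓ :=
    of_isPullback_of_descendsAlong (P := isomorphisms Scheme) hL.flip hQ'' (inferInstance : IsIso A.toSpecΓ)
  exact ⟨this⟩

/-- Being an affine morphism satisfies fpqc descent. -/
instance descendsAlong_isAffineHom :
    DescendsAlong @IsAffineHom (@Surjective ⊓ @Flat ⊓ @QuasiCompact : MorphismProperty Scheme.{u}) := by
  apply IsZariskiLocalAtTarget.descendsAlong_inf_quasiCompact
  · rw [inf_comm]
    exact inf_le_inf le_rfl (IsLocalIso.le_of_isZariskiLocalAtSource _)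
  intro R S Y φ g h hfst
  have : Surjective (Spec.map φ) := h.1
  have : Flat (Spec.map φ) := h.2
  have : IsAffineHom (pullback.fst (Spec.map φ) g) := hfst
  have : IsAffine (pullback (Spec.map φ) g) := isAffine_of_isAffineHom (pullback.fst (Spec.map φ) g)
  have : IsAffine Y := isAffine_of_isPullback_of_flat (IsPullback.of_hasPullback (Spec.map φ) g)
  exact isAffineHom_of_isAffine g

/-- A variant of `HasAffineProperty.descendsAlong_of_affineAnd` for fpqc descent. -/
lemma descendsAlong_of_affineAnd_flat {P : MorphismProperty Scheme.{u}} [P.IsStableUnderBaseChange]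
    {Q : ∀ {R S : Type u} [CommRing R] [CommRing S], (R →+* S) → Prop}
    (hP : HasAffineProperty P (affineAnd Q))
    (hQ : RingHom.RespectsIso Q) (hQQ' : RingHom.CodescendsAlong Q RingHom.FaithfullyFlat) :
    P.DescendsAlong (@Surjective ⊓ @Flat ⊓ @QuasiCompact : MorphismProperty Scheme.{u}) := by
  apply IsZariskiLocalAtTarget.descendsAlong_inf_quasiCompact
  · rw [inf_comm]
    exact inf_le_inf le_rfl (IsLocalIso.le_of_isZariskiLocalAtSource _)
  intro R S Y φ g h hf
  have hφ : (@Surjective ⊓ @Flat ⊓ @QuasiCompact : MorphismProperty Scheme.{u}) (Spec.map φ) :=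
    ⟨h, inferInstance⟩
  have : IsAffine Y := by
    have : IsAffineHom g := MorphismProperty.of_pullback_fst_of_descendsAlong hφ <|
      AlgebraicGeometry.HasAffineProperty.affineAnd_le_isAffineHom P inferInstance _ hf
    exact isAffine_of_isAffineHom g
  wlog hY : ∃ S, Y = Spec S generalizing Y
  · rw [← P.cancel_left_of_respectsIso Y.isoSpec.inv]
    have heq : pullback.fst (Spec.map φ) (Y.isoSpec.inv ≫ g) =
        pullback.map _ _ _ _ (𝟙 _) (Y.isoSpec.inv) (𝟙 _) (by simp) (by simp) ≫
          pullback.fst (Spec.map φ) g := (pullback.lift_fst _ _ _).symm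
    refine this _ ?_ inferInstance ⟨_, rfl⟩
    rwa [heq, P.cancel_left_of_respectsIso]
  obtain ⟨Y, rfl⟩ := hY
  refine of_pullback_fst_Spec_of_codescendsAlong (P := P) (P' := @Surjective ⊓ @Flat)
    (Q' := RingHom.FaithfullyFlat) (Q := Q) hQQ' ?_ ?_ h hf
  · intro _ _ f hf
    rwa [← flat_and_surjective_SpecMap_iff, and_comm]
  · simp [HasAffineProperty.SpecMap_iff_of_affineAnd hP hQ]

/-- Being a closed immersion satisfies fpqc descent. -/
instance descendsAlong_isClosedImmersion :
    DescendsAlong @IsClosedImmersion (@Surjective ⊓ @Flat ⊓ @QuasiCompact : MorphismProperty Scheme.{u}) :=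
  descendsAlong_of_affineAnd_flat (Q := fun f ↦ Function.Surjective f) IsClosedImmersion.hasAffineProperty
    RingHom.surjective_respectsIso RingHom.FaithfullyFlat.codescendsAlong_surjective

/-- Being separated satisfies fpqc descent. -/
instance descendsAlong_isSeparated :
    DescendsAlong @IsSeparated (@Surjective ⊓ @Flat ⊓ @QuasiCompact : MorphismProperty Scheme.{u}) := by
  rw [IsSeparated.isSeparated_eq_diagonal_isClosedImmersion]
  infer_instance

/-- Being finite satisfies fpqc descent. -/
instance descendsAlong_isFinite :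
    DescendsAlong @IsFinite (@Surjective ⊓ @Flat ⊓ @QuasiCompact : MorphismProperty Scheme.{u}) :=
  descendsAlong_of_affineAnd_flat (Q := RingHom.Finite) inferInstance
    RingHom.finite_respectsIso RingHom.Finite.codescendsAlong_faithfullyFlat

/-- Being proper satisfies fpqc descent. -/
instance descendsAlong_isProper :
    DescendsAlong @IsProper (@Surjective ⊓ @Flat ⊓ @QuasiCompact : MorphismProperty Scheme.{u}) := by
  rw [isProper_eq]
  infer_instance

end Groth.Agent.Lib.FpqcDescent
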