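import Groth.Agent.Lib.FpqcDescent
import Mathlib.RingTheory.Finiteness.Descent
import Mathlib.RingTheory.RingHom.Integral
import Mathlib.RingTheory.RingHom.QuasiFinite
import Mathlib.AlgebraicGeometry.Morphisms.QuasiFinite

set_option autoImplicit false
open CategoryTheory CategoryTheory.Limits AlgebraicGeometry Opposite MorphismProperty TensorProduct
universe u

namespace Groth.Agent.Lib.FpqcDescentMore

open Groth.Agent.Lib.FpqcDescent


theorem isIntegral_of_isIntegral_tensorProduct_of_faithfullyFlat {R S T : Type*} [CommRing R] [CommRing S] [CommRing T]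
    [Algebra R S] [Algebra R T] [Module.FaithfullyFlat R S] [Algebra.IsIntegral S (S ⊗[R] T)] :
    Algebra.IsIntegral R T := by
  refine ⟨fun t ↦ ?_⟩
  let A := Algebra.adjoin R {t}
  have hft : Algebra.FiniteType R A := Algebra.FiniteType.adjoin_of_finite (Set.finite_singleton t)
  have hinj : Function.Injective (Algebra.TensorProduct.map (AlgHom.id S S) A.val) :=
    Module.Flat.lTensor_preserves_injective_linearMap _ Subtype.val_injective
  have : Algebra.IsIntegral S (S ⊗[R] A) :=
    Algebra.IsIntegral.of_injective (Algebra.TensorProduct.map (AlgHom.id S S) A.val) hinj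
  have : Module.Finite S (S ⊗[R] A) := Algebra.IsIntegral.finite
  have : Module.Finite R A := Module.Finite.of_finite_tensorProduct_of_faithfullyFlat S
  have h1 : IsIntegral R (⟨t, Algebra.subset_adjoin rfl⟩ : A) := IsIntegral.of_finite R _
  exact h1.map A.val

theorem isIntegral_codescendsAlong_faithfullyFlat :
    RingHom.CodescendsAlong RingHom.IsIntegral RingHom.FaithfullyFlat := by
  refine .mk _ RingHom.isIntegral_respectsIso fun R S T _ _ _ _ _ h h' ↦ ?_
  rw [RingHom.faithfullyFlat_algebraMap_iff] at h
  have : Algebra.IsIntegral S (S ⊗[R] T) := ⟨h'⟩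
  exact (isIntegral_of_isIntegral_tensorProduct_of_faithfullyFlat (R := R) (S := S) (T := T)).isIntegral

/-- Being integral satisfies fpqc descent. -/
instance descendsAlong_isIntegralHom :
    DescendsAlong @IsIntegralHom (@Surjective ⊓ @Flat ⊓ @QuasiCompact : MorphismProperty Scheme.{u}) :=
  descendsAlong_of_affineAnd_flat (Q := RingHom.IsIntegral) IsIntegralHom.hasAffineProperty
    RingHom.isIntegral_respectsIso isIntegral_codescendsAlong_faithfullyFlat

theorem quasiFinite_of_quasiFinite_tensorProduct_of_faithfullyFlat {R A S : Type*} [CommRing R] [CommRing A] [CommRing S]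
    [Algebra R A] [Algebra R S] [Module.FaithfullyFlat R A] [Algebra.QuasiFinite A (A ⊗[R] S)] :
    Algebra.QuasiFinite R S := by
  refine ⟨fun p hp ↦ ?_⟩
  obtain ⟨⟨P, hP⟩, hPp⟩ := PrimeSpectrum.comap_surjective_of_faithfullyFlat (A := R) (B := A) ⟨p, hp⟩
  have hPp' : P.under R = p := congr($(hPp).asIdeal)
  subst hPp'
  let p := P.under R
  let := Localization.AtPrime.algebraOfLiesOver p P
  let e : P.Fiber (A ⊗[R] S) ≃ₐ[P.ResidueField] P.ResidueField ⊗[p.ResidueField] (p.Fiber S) :=
    (Algebra.TensorProduct.cancelBaseChange _ _ _ _ _).trans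
      (Algebra.TensorProduct.cancelBaseChange _ _ _ _ _).symm
  have : Module.Finite P.ResidueField (P.ResidueField ⊗[p.ResidueField] (p.Fiber S)) :=
    .of_surjective e.toLinearMap e.surjective
  exact Module.Finite.of_finite_tensorProduct_of_faithfullyFlat P.ResidueField

theorem quasiFinite_codescendsAlong_faithfullyFlat :
    RingHom.CodescendsAlong RingHom.QuasiFinite RingHom.FaithfullyFlat := by
  refine .mk _ RingHom.QuasiFinite.respectsIso fun R S T _ _ _ _ _ h h' ↦ ?_
  rw [RingHom.faithfullyFlat_algebraMap_iff] at h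
  rw [RingHom.quasiFinite_algebraMap] at h' ⊢
  exact quasiFinite_of_quasiFinite_tensorProduct_of_faithfullyFlat (R := R) (A := S) (S := T)

/-- Being locally quasi-finite satisfies fpqc descent. -/
instance descendsAlong_locallyQuasiFinite :
    DescendsAlong @LocallyQuasiFinite (@Surjective ⊓ @Flat ⊓ @QuasiCompact : MorphismProperty Scheme.{u}) :=
  HasRingHomProperty.descendsAlong_flat quasiFinite_codescendsAlong_faithfullyFlat

end Groth.Agent.Lib.FpqcDescentMore
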