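import Mathlib.AlgebraicGeometry.Sites.Fpqc
import Mathlib.AlgebraicGeometry.Morphisms.FlatDescent
import Mathlib.AlgebraicGeometry.Morphisms.LocalFlatDescent
import Mathlib.AlgebraicGeometry.Cover.Sigma
import Mathlib.CategoryTheory.MorphismProperty.Local
import Groth.Agent.Lib.FpqcDescent
import Groth.Agent.Lib.FpqcDescentMore

/-!
# Properties of morphisms of schemes that are fppf local on the base (helper69)

`IsLocalAtTarget P Scheme.fppfPrecoverage` from Zariski locality on the target plus descent along a single
surjective flat morphism locally of finite presentation (Mathlib's `DescendsAlong`): an fppf covering family is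
replaced by the disjoint union of one member through each point.
-/

set_option autoImplicit false
universe u

open CategoryTheory CategoryTheory.Limits AlgebraicGeometry MorphismProperty

namespace Groth.Agent.Lib.H69FppfLocal

/-- Surjective, flat, locally of finite presentation. -/
abbrev fppfMor : MorphismProperty Scheme.{u} := @Surjective ⊓ @Flat ⊓ @LocallyOfFinitePresentation

theorem snd_of_eq (P : MorphismProperty Scheme.{u}) {X Y U : Scheme.{u}} (f : Y ⟶ X) {g g' : U ⟶ X}
    (e : g = g') (h : P (pullback.snd f g)) : P (pullback.snd f g') := by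
  subst e
  exact h

/-- The key step: a property which is Zariski local on the target and descends along single fppf covers can be
checked after base change to the members of an fppf covering family. -/
theorem of_forall_pullbackSnd_fppf (P : MorphismProperty Scheme.{u}) [IsZariskiLocalAtTarget P]
    [P.DescendsAlong fppfMor.{u}] {X Y : Scheme.{u}} (f : Y ⟶ X) (R : Presieve X)
    (hR : R ∈ Scheme.fppfPrecoverage X)
    (h : ∀ {U : Scheme.{u}} (g : U ⟶ X), R g → P (pullback.snd f g)) : P f := by
  have hR' : R ∈ Scheme.precoverage (@Flat ⊓ @LocallyOfFinitePresentation) X := hR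
  obtain ⟨hsurj, hprop⟩ := hR'
  rw [Presieve.mem_comap_jointlySurjectivePrecoverage_iff] at hsurj
  choose U g hg hx using hsurj
  let π : ∐ U ⟶ X := Sigma.desc g
  have hπι : ∀ x, Sigma.ι U x ≫ π = g x := fun x => Sigma.ι_desc _ _
  have hπ : fppfMor π := by
    refine ⟨⟨⟨fun x => ?_⟩, ?_⟩, ?_⟩
    · obtain ⟨y, hy⟩ := hx x
      refine ⟨Sigma.ι U x y, ?_⟩
      rw [← Scheme.Hom.comp_apply, hπι]
      exact hy
    · exact IsZariskiLocalAtSource.sigmaDesc (P := @Flat) fun x => (hprop (hg x)).1
    · exact IsZariskiLocalAtSource.sigmaDesc (P := @LocallyOfFinitePresentation) fun x => (hprop (hg x)).2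
  refine MorphismProperty.of_pullback_snd_of_descendsAlong (P := P) (Q := fppfMor) (f := f) (g := π) hπ ?_
  rw [IsZariskiLocalAtTarget.iff_of_openCover (P := P) (sigmaOpenCover U)]
  intro x
  change P (pullback.snd (pullback.snd f π) (Sigma.ι U x))
  have h1 : P (pullback.snd f (Sigma.ι U x ≫ π)) := snd_of_eq P f (hπι x).symm (h (g x) (hg x))
  rw [← pullbackLeftPullbackSndIso_hom_snd f π (Sigma.ι U x)]
  exact (P.cancel_left_of_respectsIso _ _).mpr h1

/-- Zariski local on the target + stable under base change + descent along single fppf covers gives fppf local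
on the base. -/
theorem isLocalAtTarget_fppf (P : MorphismProperty Scheme.{u}) [IsZariskiLocalAtTarget P]
    [P.IsStableUnderBaseChange] [P.DescendsAlong fppfMor.{u}] :
    P.IsLocalAtTarget Scheme.fppfPrecoverage where
  pullbackSnd _ _ hf := P.pullback_snd _ _ hf
  of_forall_pullbackSnd hR h := of_forall_pullbackSnd_fppf P _ _ hR (fun _ hg => h hg)

section Instances

instance locallyOfFiniteType : MorphismProperty.IsLocalAtTarget (@LocallyOfFiniteType) Scheme.fppfPrecoverage.{u} :=
  isLocalAtTarget_fppf _
instance locallyOfFinitePresentation :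
    MorphismProperty.IsLocalAtTarget (@LocallyOfFinitePresentation) Scheme.fppfPrecoverage.{u} := isLocalAtTarget_fppf _
instance smooth : MorphismProperty.IsLocalAtTarget (@Smooth) Scheme.fppfPrecoverage.{u} := isLocalAtTarget_fppf _
instance etale : MorphismProperty.IsLocalAtTarget (@Etale) Scheme.fppfPrecoverage.{u} := isLocalAtTarget_fppf _
instance formallyUnramified : MorphismProperty.IsLocalAtTarget (@FormallyUnramified) Scheme.fppfPrecoverage.{u} :=
  isLocalAtTarget_fppf _
instance quasiCompact : MorphismProperty.IsLocalAtTarget (@QuasiCompact) Scheme.fppfPrecoverage.{u} := isLocalAtTarget_fppf _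
instance quasiSeparated : MorphismProperty.IsLocalAtTarget (@QuasiSeparated) Scheme.fppfPrecoverage.{u} :=
  isLocalAtTarget_fppf _
instance isAffineHom : MorphismProperty.IsLocalAtTarget (@IsAffineHom) Scheme.fppfPrecoverage.{u} := isLocalAtTarget_fppf _
instance isClosedImmersion : MorphismProperty.IsLocalAtTarget (@IsClosedImmersion) Scheme.fppfPrecoverage.{u} :=
  isLocalAtTarget_fppf _
instance isSeparated : MorphismProperty.IsLocalAtTarget (@IsSeparated) Scheme.fppfPrecoverage.{u} := isLocalAtTarget_fppf _
instance isFinite : MorphismProperty.IsLocalAtTarget (@IsFinite) Scheme.fppfPrecoverage.{u} := isLocalAtTarget_fppf _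
instance isProper : MorphismProperty.IsLocalAtTarget (@IsProper) Scheme.fppfPrecoverage.{u} := isLocalAtTarget_fppf _
instance isIntegralHom : MorphismProperty.IsLocalAtTarget (@IsIntegralHom) Scheme.fppfPrecoverage.{u} :=
  isLocalAtTarget_fppf _
instance locallyQuasiFinite : MorphismProperty.IsLocalAtTarget (@LocallyQuasiFinite) Scheme.fppfPrecoverage.{u} :=
  isLocalAtTarget_fppf _
instance surjective : MorphismProperty.IsLocalAtTarget (@Surjective) Scheme.fppfPrecoverage.{u} := isLocalAtTarget_fppf _
instance universallyClosed : MorphismProperty.IsLocalAtTarget (@UniversallyClosed) Scheme.fppfPrecoverage.{u} :=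
  isLocalAtTarget_fppf _
instance universallyOpen : MorphismProperty.IsLocalAtTarget (@UniversallyOpen) Scheme.fppfPrecoverage.{u} :=
  isLocalAtTarget_fppf _
instance universallyInjective : MorphismProperty.IsLocalAtTarget (@UniversallyInjective) Scheme.fppfPrecoverage.{u} :=
  isLocalAtTarget_fppf _
instance isOpenImmersion : MorphismProperty.IsLocalAtTarget (@IsOpenImmersion) Scheme.fppfPrecoverage.{u} :=
  isLocalAtTarget_fppf _
instance isomorphisms : (MorphismProperty.isomorphisms Scheme.{u}).IsLocalAtTarget Scheme.fppfPrecoverage.{u} :=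
  isLocalAtTarget_fppf _

instance monomorphisms_descendsAlong :
    (MorphismProperty.monomorphisms Scheme.{u}).DescendsAlong fppfMor.{u} := by
  rw [← MorphismProperty.diagonal_isomorphisms]
  infer_instance

instance monomorphisms :
    (MorphismProperty.monomorphisms Scheme.{u}).IsLocalAtTarget Scheme.fppfPrecoverage.{u} :=
  isLocalAtTarget_fppf _

/-- The conjunction of two properties that are fppf local on the base is fppf local on the base. -/
instance inf (P Q : MorphismProperty Scheme.{u}) [P.IsLocalAtTarget Scheme.fppfPrecoverage.{u}]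
    [Q.IsLocalAtTarget Scheme.fppfPrecoverage.{u}] :
    (P ⊓ Q).IsLocalAtTarget Scheme.fppfPrecoverage.{u} where
  pullbackSnd hR hg hf :=
    ⟨MorphismProperty.IsLocalAtTarget.pullbackSnd hR hg hf.1,
      MorphismProperty.IsLocalAtTarget.pullbackSnd hR hg hf.2⟩
  of_forall_pullbackSnd hR h :=
    ⟨MorphismProperty.IsLocalAtTarget.of_forall_pullbackSnd hR (fun hg => (h hg).1),
      MorphismProperty.IsLocalAtTarget.of_forall_pullbackSnd hR (fun hg => (h hg).2)⟩

end Instances

end Groth.Agent.Lib.H69FppfLocal
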