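import Groth.Agent.Lib.H86ZarGlueRep
import Groth.Prelude.Def_AlgSpCov
import Groth.Prelude.Def_AlgSpMor5

/-!
# helper86: representability and `RepWith Q` are Zariski local on the base

Let `f : X ⟶ Y` be a morphism of sheaves on `Sch/S`, `j i : Y i ⟶ Y` a jointly surjective family of
representable open immersions, and `q i : X i ⟶ Y i` the base changes of `f`.

* `representable_of_zarCover`: if every `q i` is representable, so is `f`.
* `repWith_of_zarCover`: if every `q i` is `RepWith Q` (with `Q` stable under base change and Zariski local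
  on the target), so is `f`.
* `isIntegralMor_iff_repWith`, `isFiniteMor_iff_repWith`, `isAffineMor_iff_repWith`: the affine-test-scheme definitions of the Prelude
  are `RepWith` of the corresponding Mathlib property.
-/

set_option autoImplicit false
set_option linter.style.haveILetI false
universe u
open CategoryTheory CategoryTheory.Limits AlgebraicGeometry Opposite

namespace Groth.Agent.Lib.H86ZarGlue

open AlgSp Groth.Agent.Lib.H86AlgSpPoints Groth.Agent.Lib.H86AlgSpSub Groth.Agent.Lib.H86AlgSpOpen

variable {S : Scheme.{u}} {X Y : Sp S}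

section ZarCover

variable (f : X ⟶ Y) {ι : Type u} (Yi : ι → Sp S) (j : ∀ i, Yi i ⟶ Y)
  (hj : IsZarCover Yi j) (Xi : ι → Sp S) (p : ∀ i, Xi i ⟶ X) (q : ∀ i, Xi i ⟶ Yi i)
  (sq : ∀ i, IsPullback (p i) (q i) f (j i))

include hj sq in
/-- Representability is Zariski local on the base. -/
theorem representable_of_zarCover (hq : ∀ i, Representable (q i)) : Representable f := by
  intro T g
  choose U u gi hU using fun i => (hj.1 i).1 g
  choose W w fst hW using fun i => hq i (gi i)
  let P : Sp S := pullback f g
  have hbig : ∀ i, IsPullback (fst i ≫ p i) ((yon S).map (w i)) f ((yon S).map (u i) ≫ g) := by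
    intro i
    have := (hW i).paste_horiz (sq i)
    rwa [(hU i).w] at this
  have hw : ∀ i, (fst i ≫ p i) ≫ f = (yon S).map (w i ≫ u i) ≫ g := fun i => by
    rw [(hbig i).w, Functor.map_comp, Category.assoc]
  let φ : ∀ i, (yon S).obj (W i) ⟶ P := fun i =>
    pullback.lift (fst i ≫ p i) ((yon S).map (w i ≫ u i)) (hw i)
  have sqφ : ∀ i, IsPullback (φ i) ((yon S).map (w i)) (pullback.snd f g) ((yon S).map (u i)) := by
    intro i
    refine IsPullback.of_right ?_ ?_ (IsPullback.of_hasPullback f g)
    · have : φ i ≫ pullback.fst f g = fst i ≫ p i := pullback.lift_fst _ _ _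
      rw [this]
      exact hbig i
    · have : φ i ≫ pullback.snd f g = (yon S).map (w i ≫ u i) := pullback.lift_snd _ _ _
      rw [this, Functor.map_comp]
  have hu : ∀ i, IsOpenImmersion (u i).left := fun i => (hj.1 i).2 g _ _ (hU i)
  have hφ : ∀ i, RepWith @IsOpenImmersion (φ i) := fun i =>
    AlgSpBasic.repWith_fst_of_isPullback _ (sqφ i)
      ((repWith_yon_map_iff @IsOpenImmersion (u i)).2 (hu i))
  have hsurj : ∀ y : Points P, ∃ i, y ∈ Set.range (Points.map (φ i)) := by
    intro y
    let t : Points ((yon S).obj T) := Points.map (pullback.snd f g) y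
    obtain ⟨i, yi, hyi⟩ := hj.2 (Points.map g t)
    obtain ⟨ui, hui1, hui2⟩ := exists_of_isPullback (hU i) yi t hyi
    obtain ⟨w', hw1, -⟩ := exists_of_isPullback (sqφ i) y ui hui2.symm
    exact ⟨i, w', hw1⟩
  obtain ⟨X₀, e, -⟩ := exists_iso_yon_of_openCover φ hφ hsurj
  obtain ⟨snd₀, hsnd₀⟩ := (yon S).map_surjective (e.hom ≫ pullback.snd f g)
  refine ⟨X₀, snd₀, e.hom ≫ pullback.fst f g, ?_⟩
  rw [hsnd₀]
  exact IsPullback.of_iso_pullback ⟨by rw [Category.assoc, Category.assoc, pullback.condition]⟩ e
    rfl rfl

include hj sq in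
/-- `RepWith Q` is Zariski local on the base, for `Q` stable under base change and Zariski local on the
target. -/
theorem repWith_of_zarCover (Q : MorphismProperty Scheme.{u}) [Q.IsStableUnderBaseChange]
    [IsZariskiLocalAtTarget Q] (hq : ∀ i, RepWith Q (q i)) : RepWith Q f := by
  have hrep : Representable f :=
    representable_of_zarCover f Yi j hj Xi p q sq fun i => (hq i).1
  refine H69AlgSp.repWith_of_forall_cover f hrep Scheme.zariskiPrecoverage Q ?_
  intro T g
  choose U u gi hU using fun i => (hj.1 i).1 g
  have hu : ∀ i, IsOpenImmersion (u i).left := fun i => (hj.1 i).2 g _ _ (hU i)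
  refine ⟨Presieve.ofArrows (fun i => (U i).left) (fun i => (u i).left), ?_, ?_⟩
  · rw [Scheme.zariskiPrecoverage, Scheme.ofArrows_mem_precoverage_iff]
    refine ⟨fun t => ?_, hu⟩
    obtain ⟨i, yi, hyi⟩ := hj.2 (Points.map g (Points.ofScheme T t))
    obtain ⟨ui, hui1, hui2⟩ := exists_of_isPullback (hU i) yi (Points.ofScheme T t) hyi
    refine ⟨i, Points.toScheme (U i) ui, ?_⟩
    have h1 : Points.map ((yon S).map (u i)) (Points.ofScheme (U i) (Points.toScheme (U i) ui)) =
        Points.ofScheme T t := by
      rw [Points.ofScheme_toScheme]; exact hui2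
    rw [← Points.ofPt_eq_map_ofScheme, ofPt_yon_map] at h1
    have h2 := congrArg (Points.toScheme T) h1
    rwa [Points.toScheme_ofScheme, Points.toScheme_ofScheme] at h2
  · rintro T' g' ⟨i⟩
    let T'' : Over S := Over.mk ((u i).left ≫ T.hom)
    let c : T'' ⟶ U i := Over.homMk (𝟙 _) (by simp [T''])
    refine ⟨Yi i, Xi i, j i, p i, q i, sq i, (yon S).map c ≫ gi i, ?_, hq i⟩
    rw [Category.assoc, (hU i).w, ← Category.assoc, ← Functor.map_comp]
    congr 2

end ZarCover

section Instances

set_option backward.isDefEq.respectTransparency false in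
/-- `IsAffineHom` is Zariski local on the target (instance search needs help with binder kinds). -/
theorem isZariskiLocalAtTarget_isAffineHom : IsZariskiLocalAtTarget @IsAffineHom.{u} := inferInstance

set_option backward.isDefEq.respectTransparency false in
/-- `IsIntegralHom` is Zariski local on the target. -/
theorem isZariskiLocalAtTarget_isIntegralHom : IsZariskiLocalAtTarget @IsIntegralHom.{u} := inferInstance

set_option backward.isDefEq.respectTransparency false in
/-- `IsFinite` is Zariski local on the target. -/
theorem isZariskiLocalAtTarget_isFinite : IsZariskiLocalAtTarget @IsFinite.{u} := inferInstance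

set_option backward.isDefEq.respectTransparency false in
/-- `Flat` is Zariski local on the target. -/
theorem isZariskiLocalAtTarget_flat : IsZariskiLocalAtTarget @Flat.{u} := inferInstance

set_option backward.isDefEq.respectTransparency false in
/-- `LocallyOfFinitePresentation` is Zariski local on the target. -/
theorem isZariskiLocalAtTarget_lfp : IsZariskiLocalAtTarget @LocallyOfFinitePresentation.{u} :=
  inferInstance

/-- The Prelude's `finLocFree` is Zariski local on the target. -/
theorem isZariskiLocalAtTarget_finLocFree : IsZariskiLocalAtTarget AlgSp.finLocFree.{u} := by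
  have h1 := isZariskiLocalAtTarget_isFinite.{u}
  have h2 := isZariskiLocalAtTarget_flat.{u}
  have h3 := isZariskiLocalAtTarget_lfp.{u}
  have : AlgSp.finLocFree.{u} = Min.min (α := MorphismProperty Scheme.{u}) @IsFinite.{u}
      (Min.min (α := MorphismProperty Scheme.{u}) @Flat.{u} @LocallyOfFinitePresentation.{u}) := rfl
  rw [this]
  have h23 := MorphismProperty.IsLocalAtTarget.inf (K := Scheme.zariskiPrecoverage)
    (@Flat.{u} : MorphismProperty Scheme.{u}) (@LocallyOfFinitePresentation.{u} : MorphismProperty Scheme.{u})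
  exact MorphismProperty.IsLocalAtTarget.inf (K := Scheme.zariskiPrecoverage)
    (@IsFinite.{u} : MorphismProperty Scheme.{u}) _

end Instances

section AffineTest

variable (f : X ⟶ Y)

/-- The Prelude's `IsAffineMor` is `RepWith @IsAffineHom`. -/
theorem isAffineMor_iff_repWith : IsAffineMor f ↔ RepWith @IsAffineHom f := by
  constructor
  · intro h
    have := isZariskiLocalAtTarget_isAffineHom.{u}
    refine repWith_of_forall_affine_isPullback f @IsAffineHom fun Z hZ g => ?_
    obtain ⟨W, i, fst, hpb, hW⟩ := h hZ g
    exact ⟨W, i, fst, hpb, by have := hZ; have := hW; infer_instance⟩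
  · intro h Z hZ g
    obtain ⟨W, i, fst, hpb⟩ := h.1 g
    have hi : IsAffineHom i.left := h.2 g _ _ hpb
    exact ⟨W, i, fst, hpb, by have := hZ; exact isAffine_of_isAffineHom i.left⟩

/-- The Prelude's `IsIntegralMor` is `RepWith @IsIntegralHom`. -/
theorem isIntegralMor_iff_repWith : IsIntegralMor f ↔ RepWith @IsIntegralHom f := by
  constructor
  · intro h
    have := isZariskiLocalAtTarget_isIntegralHom.{u}
    refine repWith_of_forall_affine_isPullback f @IsIntegralHom fun Z hZ g => ?_
    obtain ⟨W, i, fst, hpb, -, hi⟩ := h hZ g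
    exact ⟨W, i, fst, hpb, hi⟩
  · intro h Z hZ g
    obtain ⟨W, i, fst, hpb⟩ := h.1 g
    have hi : IsIntegralHom i.left := h.2 g _ _ hpb
    exact ⟨W, i, fst, hpb, by have := hZ; exact isAffine_of_isAffineHom i.left, hi⟩

/-- The Prelude's `IsFiniteMor` is `RepWith @IsFinite`. -/
theorem isFiniteMor_iff_repWith : IsFiniteMor f ↔ RepWith @IsFinite f := by
  constructor
  · intro h
    have := isZariskiLocalAtTarget_isFinite.{u}
    refine repWith_of_forall_affine_isPullback f @IsFinite fun Z hZ g => ?_
    obtain ⟨W, i, fst, hpb, -, hi⟩ := h hZ g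
    exact ⟨W, i, fst, hpb, hi⟩
  · intro h Z hZ g
    obtain ⟨W, i, fst, hpb⟩ := h.1 g
    have hi : IsFinite i.left := h.2 g _ _ hpb
    exact ⟨W, i, fst, hpb, by have := hZ; exact isAffine_of_isAffineHom i.left, hi⟩

end AffineTest

end Groth.Agent.Lib.H86ZarGlue
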