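import Groth.Agent.Lib.H69DescentAffine3
import Groth.Agent.Lib.H69FppfLocal
import Groth.Agent.Lib.H86ZarLocBase

/-!
# Descent of `RepWith Q` along fppf covers for `Q ≤ IsAffineHom` (helper69)

With effective descent for affine morphisms (`isAffineMor_of_fppf_cover`) representability need not be assumed.
-/

set_option autoImplicit false
universe u

open CategoryTheory CategoryTheory.Limits AlgebraicGeometry Opposite

namespace Groth.Agent.Lib.H69DescentAffine

open AlgSp Groth.Agent.Lib.H69AlgSp

variable {S : Scheme.{u}}

/-- `RepWith @IsAffineHom` descends along fppf covers (no representability assumption on `f`). -/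
theorem repWith_isAffineHom_of_fppf_cover {F G : Sp S} (f : F ⟶ G) {V : Over S}
    (c : (yon S).obj V ⟶ G) (hc1 : RepWith @Flat c) (hc2 : RepWith @LocallyOfFinitePresentation c)
    (hc3 : RepWith @Surjective c) {P : Sp S} (fst : P ⟶ F) (snd : P ⟶ (yon S).obj V)
    (sq : IsPullback fst snd f c) (h : RepWith @IsAffineHom snd) : RepWith @IsAffineHom f :=
  (Groth.Agent.Lib.H86ZarGlue.isAffineMor_iff_repWith f).1
    (isAffineMor_of_fppf_cover f c hc1 hc2 hc3 fst snd sq
      ((Groth.Agent.Lib.H86ZarGlue.isAffineMor_iff_repWith snd).2 h))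

/-- For `Q` stable under base change, fppf local on the base and implying affineness, `RepWith Q` descends
along fppf covers `c : h_V ⟶ G` (no representability assumption on `f`). -/
theorem repWith_of_fppf_cover_of_le_isAffineHom (Q : MorphismProperty Scheme.{u})
    [Q.IsStableUnderBaseChange] [Q.IsLocalAtTarget Scheme.fppfPrecoverage] (hQ : Q ≤ @IsAffineHom)
    {F G : Sp S} (f : F ⟶ G) {V : Over S}
    (c : (yon S).obj V ⟶ G) (hc1 : RepWith @Flat c) (hc2 : RepWith @LocallyOfFinitePresentation c)
    (hc3 : RepWith @Surjective c) {P : Sp S} (fst : P ⟶ F) (snd : P ⟶ (yon S).obj V)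
    (sq : IsPullback fst snd f c) (h : RepWith Q snd) : RepWith Q f := by
  have haff : RepWith @IsAffineHom f :=
    repWith_isAffineHom_of_fppf_cover f c hc1 hc2 hc3 fst snd sq (repWith_mono hQ h)
  have := isLocallySurjective_of_repWith c hc1 hc2 hc3
  exact repWith_of_isLocallySurjective_base f haff.rep c fst snd sq Q h

end Groth.Agent.Lib.H69DescentAffine
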