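import Groth.Agent.Lib.H69AlgSp
import Groth.Agent.Lib.SheafEpi
import Mathlib.CategoryTheory.Sites.Subsheaf

/-!
# helper69: descent of invariant subobjects along an effective epimorphism of fppf sheaves

* `exists_sieve_lift` : local lifting through a locally surjective map, sieve form.
* `isPullback_of_locally` : a commutative square of sheaves which is jointly injective on sections and in which
  compatible pairs lift locally is a pullback square.
* `isPullback_toImage_of_invariant` : if `p : h_U ⟶ F` has kernel pair `h_R ⇉ h_U` and `i' : Z' ⟶ U` is a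
  monomorphism of schemes which is `R`-invariant, then `h_{Z'}` is the pullback to `h_U` of the image sheaf of
  `h_{Z'} ⟶ F`.
-/

set_option autoImplicit false
universe u
open CategoryTheory CategoryTheory.Limits AlgebraicGeometry Opposite

namespace Groth.Agent.Lib.H69InvSub

open AlgSp Groth.Agent.Lib.H69AlgSp

variable {S : Scheme.{u}}

/-- Local lifting through a locally surjective map of sheaves, in sieve form. -/
theorem exists_sieve_lift {G H : Sp S} (b : H ⟶ G) [Sheaf.IsLocallySurjective b] {T : Over S}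
    (z : (yon S).obj T ⟶ G) :
    ∃ R ∈ J S T, ∀ ⦃T₁ : Over S⦄ (φ : T₁ ⟶ T), R φ →
      ∃ y : (yon S).obj T₁ ⟶ H, y ≫ b = (yon S).map φ ≫ z := by
  refine ⟨Presheaf.imageSieve b.hom (yEquiv z), Presheaf.imageSieve_mem (J S) b.hom (yEquiv z), ?_⟩
  intro T₁ φ hφ
  obtain ⟨t, ht⟩ := hφ
  refine ⟨yEquiv.symm t, ?_⟩
  apply yEquiv.injective
  rw [yEquiv_comp, Equiv.apply_symm_apply, yEquiv_map_comp]
  exact ht

/-- A map of sheaves through which every point lifts locally is locally surjective. -/
theorem isLocallySurjective_of_sieve_lift {G H : Sp S} (b : H ⟶ G)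
    (h : ∀ (T : Over S) (z : (yon S).obj T ⟶ G), ∃ R ∈ J S T, ∀ ⦃T₁ : Over S⦄ (φ : T₁ ⟶ T), R φ →
      ∃ y : (yon S).obj T₁ ⟶ H, y ≫ b = (yon S).map φ ≫ z) : Sheaf.IsLocallySurjective b := by
  constructor
  intro T x
  obtain ⟨z, rfl⟩ := (yEquiv (U := T) (F := G)).surjective x
  obtain ⟨R, hR, hlift⟩ := h T z
  refine (J S).superset_covering ?_ hR
  intro T₁ φ hφ
  obtain ⟨y, hy⟩ := hlift φ hφ
  refine ⟨yEquiv y, ?_⟩
  rw [← yEquiv_comp, hy, yEquiv_map_comp]

/-- A commutative square of sheaves, jointly injective on points and in which compatible pairs of points lift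
locally, is a pullback square. -/
theorem isPullback_of_locally {W F G H : Sp S} {fst : W ⟶ F} {snd : W ⟶ G} {f : F ⟶ H} {g : G ⟶ H}
    (w : fst ≫ f = snd ≫ g)
    (hinj : ∀ (T : Over S) (c c' : (yon S).obj T ⟶ W), c ≫ fst = c' ≫ fst → c ≫ snd = c' ≫ snd → c = c')
    (hsurj : ∀ (T : Over S) (a : (yon S).obj T ⟶ F) (b : (yon S).obj T ⟶ G), a ≫ f = b ≫ g →
      ∃ R ∈ J S T, ∀ ⦃T₁ : Over S⦄ (φ : T₁ ⟶ T), R φ →
        ∃ c : (yon S).obj T₁ ⟶ W, c ≫ fst = (yon S).map φ ≫ a ∧ c ≫ snd = (yon S).map φ ≫ b) :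
    IsPullback fst snd f g := by
  let l : W ⟶ pullback f g := pullback.lift fst snd w
  have hl1 : l ≫ pullback.fst f g = fst := pullback.lift_fst _ _ _
  have hl2 : l ≫ pullback.snd f g = snd := pullback.lift_snd _ _ _
  have hmono : Mono l := by
    apply mono_of_yon
    intro T c c' hc
    apply hinj T c c'
    · rw [← hl1, ← Category.assoc, hc, Category.assoc]
    · rw [← hl2, ← Category.assoc, hc, Category.assoc]
  have hsur : Sheaf.IsLocallySurjective l := by
    apply isLocallySurjective_of_sieve_lift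
    intro T z
    obtain ⟨R, hR, hlift⟩ := hsurj T (z ≫ pullback.fst f g) (z ≫ pullback.snd f g) (by
      rw [Category.assoc, Category.assoc, pullback.condition])
    refine ⟨R, hR, fun T₁ φ hφ => ?_⟩
    obtain ⟨c, hc1, hc2⟩ := hlift φ hφ
    refine ⟨c, ?_⟩
    apply pullback.hom_ext
    · rw [Category.assoc, hl1, hc1, Category.assoc]
    · rw [Category.assoc, hl2, hc2, Category.assoc]
  have hepi : Epi l := inferInstance
  have hiso : IsIso l := isIso_of_mono_of_epi l
  exact IsPullback.of_iso_pullback ⟨w⟩ (asIso l) hl1 hl2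

/-- Descent of an invariant sub-object: let `p : h_U ⟶ F` have kernel pair `h_R ⇉ h_U` (given by `t, s`), and let
`i' : Z' ⟶ U` be a monomorphism whose inverse image under `s` is `R'`, with `t` mapping `R'` into `Z'`. Then
`h_{Z'}` is the inverse image in `h_U` of the image sheaf of `h_{Z'} ⟶ F`. -/
theorem isPullback_toImage_of_invariant {F : Sp S} {U R Z' R' : Over S} (s t : R ⟶ U)
    (p : (yon S).obj U ⟶ F) (hker : IsPullback ((yon S).map t) ((yon S).map s) p p)
    (i' : Z' ⟶ U) [Mono i'] (k : R' ⟶ R) (s' t' : R' ⟶ Z')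
    (hs : IsPullback k s' s i') (ht : k ≫ t = t' ≫ i') :
    IsPullback (Sheaf.toImage ((yon S).map i' ≫ p)) ((yon S).map i')
      (Sheaf.imageι ((yon S).map i' ≫ p)) p := by
  have w : Sheaf.toImage ((yon S).map i' ≫ p) ≫ Sheaf.imageι ((yon S).map i' ≫ p) =
      (yon S).map i' ≫ p := Sheaf.toImage_ι _
  have hq : Sheaf.IsLocallySurjective (Sheaf.toImage ((yon S).map i' ≫ p)) :=
    (Sheaf.isLocallySurjective_iff_epi _).2 inferInstance
  refine isPullback_of_locally w ?_ ?_
  · intro T c c' _ h2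
    have e1 : (yon S).map ((yon S).preimage c ≫ i') = (yon S).map ((yon S).preimage c' ≫ i') := by
      rw [Functor.map_comp, Functor.map_comp, Functor.map_preimage, Functor.map_preimage, h2]
    have e2 : (yon S).preimage c = (yon S).preimage c' :=
      (cancel_mono i').1 ((yon S).map_injective e1)
    rw [← (yon S).map_preimage c, ← (yon S).map_preimage c', e2]
  · intro T a b hab
    obtain ⟨R₀, hR₀, hlift⟩ := exists_sieve_lift (Sheaf.toImage ((yon S).map i' ≫ p)) a
    refine ⟨R₀, hR₀, fun T₁ φ hφ => ?_⟩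
    obtain ⟨z, hz⟩ := hlift φ hφ
    -- the two points `b ∘ φ` and `i' ∘ z` of `U` have the same image in `F`
    have e : ((yon S).map φ ≫ b) ≫ p = (z ≫ (yon S).map i') ≫ p := by
      rw [Category.assoc, ← hab, ← Category.assoc, ← hz, Category.assoc, w, Category.assoc]
    let r : (yon S).obj T₁ ⟶ (yon S).obj R := hker.lift _ _ e
    have hr1 : r ≫ (yon S).map t = (yon S).map φ ≫ b := hker.lift_fst _ _ e
    have hr2 : r ≫ (yon S).map s = z ≫ (yon S).map i' := hker.lift_snd _ _ e
    let r₀ : T₁ ⟶ R := (yon S).preimage r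
    let z₀ : T₁ ⟶ Z' := (yon S).preimage z
    have hr₀ : (yon S).map r₀ = r := Functor.map_preimage _ _
    have hz₀ : (yon S).map z₀ = z := Functor.map_preimage _ _
    have e2 : r₀ ≫ s = z₀ ≫ i' := by
      apply (yon S).map_injective
      rw [Functor.map_comp, Functor.map_comp, hr₀, hz₀, hr2]
    let r' : T₁ ⟶ R' := hs.lift r₀ z₀ e2
    have hr'1 : r' ≫ k = r₀ := hs.lift_fst _ _ e2
    have key : (yon S).map (r' ≫ t') ≫ (yon S).map i' = (yon S).map φ ≫ b := by
      rw [← Functor.map_comp, Category.assoc, ← ht, ← Category.assoc, hr'1, Functor.map_comp, hr₀, hr1]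
    refine ⟨(yon S).map (r' ≫ t'), ?_, key⟩
    -- uses that the inclusion of the image is a monomorphism
    rw [← cancel_mono (Sheaf.imageι ((yon S).map i' ≫ p)), Category.assoc, w, Category.assoc, hab,
      ← Category.assoc, key, Category.assoc]

end Groth.Agent.Lib.H69InvSub
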