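import Groth.Agent.Lib.H80DecentPt

universe u

open CategoryTheory CategoryTheory.Limits AlgebraicGeometry Opposite

namespace Groth.Agent.Lib.H80DecentPt

open AlgSp

variable {S : Scheme.{u}}

/-- Every scheme over `S`, viewed as a sheaf, is decent. -/
theorem isDecent_yon (T : Over S) : IsDecent ((yon S).obj T) := by
  intro x
  obtain ⟨t, rfl⟩ := (Points.schemeEquiv T).surjective x
  refine ⟨FieldPt.ofPt (𝟙 _) t, rfl, ?_⟩
  have hid : RepWith @QuasiCompact (𝟙 ((yon S).obj T)) := by
    rw [← (yon S).map_id]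
    exact (repWith_yon_map_iff _ _).2 (by dsimp; infer_instance)
  exact mono_and_repWith_ofPt (𝟙 _) inferInstance hid t

/-- A representable morphism of sheaves is a decent morphism. -/
theorem isDecentMor_of_representable {X Y : Sp S} (f : X ⟶ Y) (hf : Representable f) :
    IsDecentMor f := by
  intro T F' g fst snd hpb
  have h2 := hf.isPullback g
  exact (isDecent_yon (hf.pullback g)).of_iso (h2.isoIsPullback _ _ hpb)

/-- Decent morphisms are stable under base change. -/
theorem isDecentMor_of_isPullback {X Y X' Y' : Sp S} {f : X ⟶ Y} (hf : IsDecentMor f)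
    {f' : X' ⟶ Y'} {a' : X' ⟶ X} {a : Y' ⟶ Y} (h : IsPullback a' f' f a) : IsDecentMor f' := by
  intro T F' g fst snd hpb
  exact hf (g ≫ a) (fst ≫ a') snd (hpb.paste_horiz h)

/-- A morphism with decent source, to a sheaf all of whose maps from schemes are representable, is
decent. -/
theorem isDecentMor_of_isDecent_source {X Y : Sp S}
    (hY : ∀ ⦃U : Over S⦄ (g : (yon S).obj U ⟶ Y), Representable g) (f : X ⟶ Y) (hX : IsDecent X) :
    IsDecentMor f := by
  intro T F' g fst snd hpb
  exact isDecent_of_isPullback_of_isDecent hY f hX g fst snd hpb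

/-- The composition of decent morphisms is decent. -/
theorem isDecentMor_comp {X Y Z : Sp S} (f : X ⟶ Y) (g : Y ⟶ Z) (hf : IsDecentMor f)
    (hg : IsDecentMor g) : IsDecentMor (f ≫ g) := by
  intro T F' gT fst snd hpb
  have hR := IsPullback.of_hasPullback g gT
  have hYT : IsDecent (pullback g gT) := hg gT _ _ hR
  let k : F' ⟶ pullback g gT := hR.lift (fst ≫ f) snd (by rw [Category.assoc]; exact hpb.w)
  have hk1 : k ≫ pullback.fst g gT = fst ≫ f := hR.lift_fst _ _ _
  have hk2 : k ≫ pullback.snd g gT = snd := hR.lift_snd _ _ _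
  have hleft : IsPullback k fst (pullback.fst g gT) f := by
    refine IsPullback.of_right ?_ hk1 hR.flip
    rw [hk2]
    exact hpb.flip
  exact isDecent_of_isDecentMor k (isDecentMor_of_isPullback hf hleft.flip) hYT

/-- A fibre product of decent sheaves over a sheaf all of whose maps from schemes are representable is
decent. -/
theorem isDecent_of_isPullback_of_isDecent' {X Y Z P : Sp S}
    (hY : ∀ ⦃U : Over S⦄ (g : (yon S).obj U ⟶ Y), Representable g) (f : X ⟶ Y) (g : Z ⟶ Y)
    (fst : P ⟶ X) (snd : P ⟶ Z) (h : IsPullback fst snd f g) (hX : IsDecent X) (hZ : IsDecent Z) :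
    IsDecent P :=
  isDecent_of_isDecentMor snd (isDecentMor_of_isPullback (isDecentMor_of_isDecent_source hY f hX) h) hZ

/-- If `f : X ⟶ Y` is representable and every point of `Y` is represented by a monomorphism from the
spectrum of a field (all such morphisms to `Y` being representable), the same holds for `X`. -/
theorem exists_mono_point_of_representable {X Y : Sp S}
    (hY' : ∀ ⦃U : Over S⦄ (g : (yon S).obj U ⟶ Y), Representable g) (f : X ⟶ Y)
    (hf : Representable f)
    (hY : ∀ y : Points Y, ∃ q : FieldPt Y, Points.mk q = y ∧ Mono q.toHom) (x : Points X) :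
    ∃ p : FieldPt X, Points.mk p = x ∧ Mono p.toHom := by
  obtain ⟨r, rfl⟩ := Points.mk_surjective x
  obtain ⟨q, hq, hqm⟩ := hY (Points.mk (r.map f))
  obtain ⟨m, hmr⟩ := exists_factor_of_mk_eq q (r.map f) hqm (hY' _) hq.symm
  rw [FieldPt.toHom_map] at hmr
  have hpb := hf.isPullback q.toHom
  have hjm : Mono (hf.fst q.toHom) := hpb.mono_fst_of_mono
  let l : (yon S).obj r.pt ⟶ (yon S).obj (hf.pullback q.toHom) := hpb.lift r.toHom ((yon S).map m) hmr
  have hl : l ≫ hf.fst q.toHom = r.toHom := hpb.lift_fst _ _ _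
  obtain ⟨c, hc⟩ := (yon S).map_surjective l
  rw [← hc] at hl
  refine ⟨FieldPt.ofPt (hf.fst q.toHom) (c.left (IsLocalRing.closedPoint r.K)), ?_, ?_⟩
  · exact ofPt_eq_mk_of_comp_eq _ r c hl
  · rw [FieldPt.toHom_ofPt]
    have := mono_yon_map_fromSpecResidueField (hf.pullback q.toHom)
      (c.left (IsLocalRing.closedPoint r.K))
    exact @mono_comp _ _ _ _ _ _ this _ hjm

end Groth.Agent.Lib.H80DecentPt
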