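import Groth.Prelude
import Groth.Agent.Lib.AlgSpBasic

set_option autoImplicit false

universe u
open CategoryTheory CategoryTheory.Limits AlgebraicGeometry Opposite

namespace Groth.Agent.Lib.FiniteEtaleField
open Groth.Agent.Lib.AlgSpBasic

/-- A scheme etale and quasi-compact over the spectrum of a field is finite. -/
theorem finite_of_etale_field {K : Type u} [Field K] {G : Scheme.{u}} (g : G ⟶ Spec (CommRingCat.of K))
    [Etale g] [QuasiCompact g] : Finite ↥G := by
  have : LocallyQuasiFinite g := locallyQuasiFinite_of_etale g
  have h := g.finite_preimage_singleton (IsLocalRing.closedPoint K)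
  exact Set.finite_univ_iff.1 (h.subset fun x _ => Subsingleton.elim (α := ↥(Spec (CommRingCat.of K))) _ _)

/-- A morphism of schemes sending `a` to `b` induces a compatible morphism of the spectra of the residue
fields. -/
theorem exists_residue_lift {A B : Scheme.{u}} (f : A ⟶ B) (a : A) (b : B) (h : f a = b) :
    ∃ c : Spec (A.residueField a) ⟶ Spec (B.residueField b),
      c ≫ B.fromSpecResidueField b = A.fromSpecResidueField a ≫ f := by
  subst h
  exact ⟨Spec.map (f.residueFieldMap a), Scheme.Hom.SpecMap_residueFieldMap_fromSpecResidueField _ _⟩

end Groth.Agent.Lib.FiniteEtaleField
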