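import Groth.Prelude
import Groth.Agent.S10192
import Groth.Agent.S10351
import Groth.Agent.S10408
import Groth.Agent.Lib.EtaleDegStrat
import Groth.Agent.Lib.AlgSpDecentSpec
import Groth.Agent.Lib.AlgSpValuativeDecent
import Groth.Agent.Lib.AlgSpPoints
import Groth.Agent.Lib.AlgSpQC

/-!
# helper46: the space of points of a decent algebraic space is quasi-sober

* `exists_generic_point`: a decent algebraic space with irreducible space of points has a generic point.
* `quasiSober_of_isDecent`.

The proof: on an affine etale chart `U` the equivalence relation `R = U ×_X U` has finite fibres over `U`;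
the degree stratification of `s : R ⟶ U` (`Lib/EtaleDegStrat`) and a Baire-type argument give a nonempty
open of `U` over which `s` is quasi-compact, and compactness of the constructible topology produces a point
lying in all nonempty saturated opens.
-/

set_option autoImplicit false
universe u
open CategoryTheory CategoryTheory.Limits AlgebraicGeometry Topology TopologicalSpace Opposite
open AlgSp Groth.Agent.Lib.AlgSpBasic Groth.Agent.Lib.AlgSpPoints

namespace Groth.Agent.Lib.AlgSpSober

variable {S : Scheme.{u}}

/-- The projection `U ×_X U ⟶ U` from the self fibre product of a chart with affine source is separated. -/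
theorem isSeparated_of_isPullback {X : Sp S} {U R : Over S} [IsAffine U.left] (a : (yon S).obj U ⟶ X)
    (s t : R ⟶ U) (sq : IsPullback ((yon S).map t) ((yon S).map s) a a) : IsSeparated s.left := by
  let m : R.left ⟶ pullback U.hom U.hom :=
    pullback.lift s.left t.left (by rw [Over.w s, Over.w t])
  have hm1 : m ≫ pullback.fst U.hom U.hom = s.left := pullback.lift_fst _ _ _
  have hm2 : m ≫ pullback.snd U.hom U.hom = t.left := pullback.lift_snd _ _ _
  have hm : Mono m := by
    constructor
    intro T f g hfg
    have h1 : f ≫ s.left = g ≫ s.left := by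
      rw [← hm1, ← Category.assoc, hfg, Category.assoc]
    have h2 : f ≫ t.left = g ≫ t.left := by
      rw [← hm2, ← Category.assoc, hfg, Category.assoc]
    have hg : g ≫ R.hom = f ≫ R.hom := by
      rw [← Over.w s, ← Category.assoc, ← Category.assoc, h1]
    let f' : Over.mk (f ≫ R.hom) ⟶ R := Over.homMk f rfl
    let g' : Over.mk (f ≫ R.hom) ⟶ R := Over.homMk g hg
    have e1 : f' ≫ s = g' ≫ s := Over.OverMorphism.ext h1
    have e2 : f' ≫ t = g' ≫ t := Over.OverMorphism.ext h2
    have e3 : (yon S).map f' = (yon S).map g' := by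
      apply sq.hom_ext
      · rw [← Functor.map_comp, ← Functor.map_comp, e2]
      · rw [← Functor.map_comp, ← Functor.map_comp, e1]
    have e4 : f' = g' := (yon S).map_injective e3
    exact congrArg (fun k => k.left) e4
  rw [← hm1]
  infer_instance

/-- A decent algebraic space with irreducible space of points has a generic point. -/
theorem exists_generic_point (X : AlgSp.Space S) (hX : IsDecent X.obj)
    [IrreducibleSpace (Points X.obj)] : ∃ x : Points X.obj, closure {x} = Set.univ := by
  obtain ⟨U₀, a₀, hae, has⟩ := X.2.atlas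
  obtain ⟨x₀⟩ : Nonempty (Points X.obj) := inferInstance
  obtain ⟨u₀, -⟩ := Groth.Agent.Lib.AlgSpQC.surjective_ofPt_of_repWith_surjective has x₀
  obtain ⟨V, hVaff, hu₀V, -⟩ := (Opens.isBasis_iff_nbhd.1 U₀.left.isBasis_affineOpens)
    (show u₀ ∈ (⊤ : U₀.left.Opens) from trivial)
  let U : Over S := Groth.Agent.Lib.AlgSpDecentSpec.restrictOver U₀ V
  let a : (yon S).obj U ⟶ X.obj :=
    (yon S).map (Groth.Agent.Lib.AlgSpDecentSpec.restrictOverι U₀ V) ≫ a₀
  have ha : RepWith @Etale a := Groth.Agent.Lib.AlgSpDecentSpec.repWith_etale_restrict a₀ hae V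
  have hUaff : IsAffine U.left := hVaff
  have hUne : Nonempty ↥U.left := ⟨⟨u₀, hu₀V⟩⟩
  -- the equivalence relation
  let R : Over S := ha.1.pullback a
  let s : R ⟶ U := ha.1.snd a
  let t : R ⟶ U := (yon S).preimage (ha.1.fst a)
  have sq : IsPullback ((yon S).map t) ((yon S).map s) a a := by
    rw [(yon S).map_preimage]
    exact ha.1.isPullback a
  have hs_et : Etale s.left := ha.2 a _ _ sq
  have ht_et : Etale t.left := ha.2 a _ _ sq.flip
  have hs_sep : IsSeparated s.left := isSeparated_of_isPullback a s t sq
  have hcomm : ∀ r : ↥R.left, Points.ofPt a (t.left r) = Points.ofPt a (s.left r) := by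
    intro r
    rw [← ofPt_yon_map_comp, ← ofPt_yon_map_comp, sq.w]
  have hrel : ∀ u u' : ↥U.left, Points.ofPt a u = Points.ofPt a u' ↔
      ∃ r : ↥R.left, s.left r = u ∧ t.left r = u' := by
    intro u u'
    constructor
    · intro h
      obtain ⟨w, hw1, hw2⟩ := Groth.Agent.Lib.AlgSpDecentSpec.exists_point_of_ofPt_eq sq u' u h.symm
      exact ⟨w, hw2, hw1⟩
    · rintro ⟨r, rfl, rfl⟩
      exact (hcomm r).symm
  have hfin : ∀ u : ↥U.left, (s.left ⁻¹' {u}).Finite := by
    intro u
    have hfa : (Points.ofPt a ⁻¹' {Points.ofPt a u}).Finite :=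
      Groth.Agent.Lib.AlgSpValuative.finite_fibre_of_isDecent hX a ha _
    have hsub : s.left ⁻¹' {u} ⊆ ⋃ u' ∈ Points.ofPt a ⁻¹' {Points.ofPt a u},
        {r : ↥R.left | s.left r = u ∧ t.left r = u'} := by
      intro r hr
      have hr' : s.left r = u := hr
      refine Set.mem_iUnion₂.2 ⟨t.left r, ?_, hr', rfl⟩
      rw [Set.mem_preimage, Set.mem_singleton_iff, hcomm, hr']
    refine (hfa.biUnion fun u' hu' => ?_).subset hsub
    obtain ⟨p, hp, hm, -⟩ := hX (Points.ofPt a u)
    exact Groth.Agent.S10408.result X (Points.ofPt a u) ⟨p, hp, hm⟩ a ha u u' rfl hu' R s t sq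
  have hopen : IsOpenMap (Points.ofPt a) :=
    Groth.Agent.Lib.AlgSpQC.isOpenMap_ofPt_of_repWith_etale ha
  have hirr : IsIrreducible (Set.range (Points.ofPt a)) :=
    ⟨Set.range_nonempty _, (IrreducibleSpace.isIrreducible_univ _).2.open_subset
      hopen.isOpen_range (Set.subset_univ _)⟩
  obtain ⟨η, hη⟩ := Groth.Agent.Lib.EtaleDegStrat.exists_point_in_all_opens s.left t.left
    t.left.isOpenMap hfin (Points.ofPt a) (Points.continuous_ofPt a) hopen hrel hirr
  refine ⟨Points.ofPt a η, ?_⟩
  rw [Set.eq_univ_iff_forall]
  intro y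
  rw [mem_closure_iff]
  intro O hO hyO
  have h1 : (Set.range (Points.ofPt a) ∩ O).Nonempty :=
    nonempty_preirreducible_inter hopen.isOpen_range hO (Set.range_nonempty _) ⟨y, hyO⟩
  exact ⟨Points.ofPt a η, hη O hO h1, rfl⟩

/-- The space of points of a decent algebraic space is quasi-sober. -/
theorem quasiSober_of_isDecent (X : AlgSp.Space S) (hX : IsDecent X.obj) :
    QuasiSober (Points X.obj) := by
  constructor
  intro T hTirr hTcl
  obtain ⟨Z, i, hi, hrange, -⟩ := Groth.Agent.S10192.result X T hTcl
  have hZ : IsDecent Z.obj := Groth.Agent.S10351.result i hi.1 hX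
  have hinj : Function.Injective (Points.map i.hom) :=
    injective_map_of_representable hi.1 fun W g => by
      have : IsClosedImmersion (hi.1.snd g).left := hi.2 g _ _ (hi.1.isPullback g)
      exact (hi.1.snd g).left.isClosedEmbedding.injective
  have hcl : IsClosedMap (Points.map i.hom) :=
    isClosedMap_map_of_representable hi.1 fun W g => by
      have : IsClosedImmersion (hi.1.snd g).left := hi.2 g _ _ (hi.1.isPullback g)
      exact (hi.1.snd g).left.isClosedEmbedding.isClosedMap
  have hemb : IsEmbedding (Points.map i.hom) :=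
    (IsClosedEmbedding.of_continuous_injective_isClosedMap (Points.continuous_map i.hom) hinj
      hcl).isEmbedding
  have hirr : IrreducibleSpace ↥(Set.range (Points.map i.hom)) :=
    Subtype.irreducibleSpace (hrange ▸ hTirr)
  have : IrreducibleSpace (Points Z.obj) := hemb.toHomeomorph.irreducibleSpace_iff.2 hirr
  obtain ⟨z, hz⟩ := exists_generic_point Z hZ
  refine ⟨Points.map i.hom z, ?_⟩
  change closure {Points.map i.hom z} = T
  apply subset_antisymm
  · refine closure_minimal ?_ hTcl
    rw [Set.singleton_subset_iff, ← hrange]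
    exact ⟨z, rfl⟩
  · rw [← hrange, ← Set.image_univ, ← hz]
    have := image_closure_subset_closure_image (s := {z}) (Points.continuous_map i.hom)
    rwa [Set.image_singleton] at this

end Groth.Agent.Lib.AlgSpSober
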