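import Groth.Prelude
import Groth.Agent.S10338
import Groth.Agent.S10339
import Groth.Agent.S10340
import Groth.Agent.Lib.AlgSpDecentFibre3
import Groth.Agent.Lib.AlgSpQC

/-!
# helper46: generic points of irreducible components of decent algebraic spaces

* `exists_component_generic_iff`: in a sober space, `x` is the generic point of an irreducible component iff it
  has no proper generization.
* `ringKrullDim_stalk_eq_zero_iff`: the local ring of a scheme at `u` has dimension `0` iff `u` has no proper
  generization.
* `forall_generization_eq_iff_chart`: for a decent space, `a u` has no proper generization iff `u` has none.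
* `exists_component_generic_iff_chart`, `exists_component_generic_iff_hasAt`.
-/

set_option autoImplicit false
universe u
open CategoryTheory CategoryTheory.Limits AlgebraicGeometry Topology TopologicalSpace Opposite
open AlgSp

namespace Groth.Agent.Lib.AlgSpGenericPt

theorem exists_component_generic_iff {α : Type*} [TopologicalSpace α] [T0Space α] [QuasiSober α]
    (x : α) :
    (∃ T ∈ irreducibleComponents α, IsGenericPoint x T) ↔ ∀ x' : α, x' ⤳ x → x' = x := by
  constructor
  · rintro ⟨T, hT, hx⟩ x' hx'
    have h1 : T ⊆ closure {x'} := by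
      rw [← hx.def]; exact specializes_iff_closure_subset.1 hx'
    have h2 : closure {x'} ⊆ T := hT.le_of_ge isIrreducible_singleton.closure h1
    have h3 : closure {x'} = closure {x} := (subset_antisymm h2 h1).trans hx.def.symm
    exact (inseparable_iff_closure_eq.2 h3).eq
  · intro h
    obtain ⟨T, hT, hsub⟩ := exists_mem_irreducibleComponents_subset_of_isIrreducible (closure {x})
      isIrreducible_singleton.closure
    refine ⟨T, hT, ?_⟩
    have hTirr : IsIrreducible T := hT.prop
    have hTcl : IsClosed T := isClosed_of_mem_irreducibleComponents T hT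
    obtain ⟨η, hη⟩ := QuasiSober.sober hTirr hTcl
    have hηx : η ⤳ x := by
      rw [specializes_iff_mem_closure, hη.def]; exact hsub (subset_closure rfl)
    rw [← h η hηx]; exact hη

theorem ringKrullDim_stalk_eq_zero_iff {U : Scheme.{u}} (u : ↥U) :
    ringKrullDim ↥(U.presheaf.stalk u) = 0 ↔ ∀ u' : ↥U, u' ⤳ u → u' = u := by
  rw [ringKrullDim_stalk_eq_coheight]
  have : ((Order.coheight u : ℕ∞) : WithBot ℕ∞) = 0 ↔ Order.coheight u = 0 := by
    exact_mod_cast Iff.rfl
  rw [this, Order.coheight_eq_zero]
  constructor
  · intro h u' hu'
    have h1 : u ≤ u' := hu'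
    have h2 : u' ≤ u := h h1
    have h3 : u ⤳ u' := h2
    exact (hu'.antisymm h3).eq
  · intro h u' hu'
    have : u' = u := h u' hu'
    rw [this]

variable {S : Scheme.{u}}

/-- For a decent algebraic space and an etale chart, `a u` has no proper generization iff `u` has none. -/
theorem forall_generization_eq_iff_chart (X : AlgSp.Space S) (hX : IsDecent X.obj) {U : Over S}
    (a : (yon S).obj U ⟶ X.obj) (ha : RepWith @Etale a) (u : ↥U.left) :
    (∀ x' : Points X.obj, x' ⤳ Points.ofPt a u → x' = Points.ofPt a u) ↔
      ∀ u' : ↥U.left, u' ⤳ u → u' = u := by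
  constructor
  · intro h u' hu'
    have h1 : Points.ofPt a u' ⤳ Points.ofPt a u := hu'.map (Points.continuous_ofPt a)
    exact (Groth.Agent.S10340.result X hX a ha u u' (h _ h1).symm hu').symm
  · intro h x' hx'
    obtain ⟨pt, hpt, -, hq⟩ := hX x'
    obtain ⟨u', hu's, hu'⟩ := Groth.Agent.Lib.AlgSpDecentFibre.exists_generization_of_quasiCompact
      (Points.ofPt a u) x' hx' pt hpt hq a ha u rfl
    rw [← hu', h u' hu's]

/-- For a decent algebraic space, the image of `u` under an etale chart is the generic point of an irreducible
component iff `u` has no proper generization. -/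
theorem exists_component_generic_iff_chart (X : AlgSp.Space S) (hX : IsDecent X.obj) {U : Over S}
    (a : (yon S).obj U ⟶ X.obj) (ha : RepWith @Etale a) (u : ↥U.left) :
    (∃ T ∈ irreducibleComponents (Points X.obj), IsGenericPoint (Points.ofPt a u) T) ↔
      ∀ u' : ↥U.left, u' ⤳ u → u' = u := by
  have : T0Space (Points X.obj) := Groth.Agent.S10338.result X hX
  have : QuasiSober (Points X.obj) := Groth.Agent.S10339.result X hX
  rw [exists_component_generic_iff, forall_generization_eq_iff_chart X hX a ha u]

/-- Every point of an algebraic space lies on an etale chart. -/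
theorem exists_chart (X : AlgSp.Space S) (x : Points X.obj) :
    ∃ (U : Over S) (a : (yon S).obj U ⟶ X.obj) (u : ↥U.left), RepWith @Etale a ∧ Points.ofPt a u = x := by
  obtain ⟨U, a, hae, has⟩ := X.2.atlas
  obtain ⟨u, hu⟩ := Groth.Agent.Lib.AlgSpQC.surjective_ofPt_of_repWith_surjective has x
  exact ⟨U, a, u, hae, hu⟩

/-- For a decent algebraic space, `x` is the generic point of an irreducible component iff the local ring at `x`
has dimension zero. -/
theorem exists_component_generic_iff_hasAt (X : AlgSp.Space S) (hX : IsDecent X.obj)
    (x : Points X.obj) :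
    (∃ T ∈ irreducibleComponents (Points X.obj), IsGenericPoint x T) ↔
      HasAt (fun U u => ringKrullDim ↥(U.presheaf.stalk u) = 0) X.obj x := by
  constructor
  · intro h
    obtain ⟨U, a, u, ha, rfl⟩ := exists_chart X x
    exact ⟨U, a, u, ha, rfl, (ringKrullDim_stalk_eq_zero_iff u).2
      ((exists_component_generic_iff_chart X hX a ha u).1 h)⟩
  · rintro ⟨U, a, u, ha, rfl, hd⟩
    exact (exists_component_generic_iff_chart X hX a ha u).2
      ((ringKrullDim_stalk_eq_zero_iff u).1 hd)

end Groth.Agent.Lib.AlgSpGenericPt
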