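import Mathlib
import Groth.Agent.Lib.AlgSpGenericPt

/-!
# Finitely many maximal points of a quasi-separated scheme lie in an affine open (helper46)

Stacks 28.29.1 (in the weaker form: a common affine open neighbourhood).
-/

set_option autoImplicit false
universe u
open CategoryTheory AlgebraicGeometry TopologicalSpace

namespace Groth.Agent.Lib.AffGenericPts46

variable {X : Scheme.{u}}

/-- A section which vanishes at a maximal point `η` (a point without proper generizations) is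
nilpotent near `η`: some open neighbourhood of `η` misses its basic open. -/
theorem exists_open_inf_basicOpen_eq_bot (η : ↥X) (hη : ∀ x' : ↥X, x' ⤳ η → x' = η)
    {U : X.Opens} (hU : η ∈ U) (g : Γ(X, U)) (hg : η ∉ X.basicOpen g) :
    ∃ O : X.Opens, η ∈ O ∧ O ⊓ X.basicOpen g = ⊥ := by
  have hdim : ringKrullDim ↥(X.presheaf.stalk η) = 0 :=
    (Groth.Agent.Lib.AlgSpGenericPt.ringKrullDim_stalk_eq_zero_iff η).2 hη
  have hK : Ring.KrullDimLE 0 ↥(X.presheaf.stalk η) := by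
    rw [Ring.krullDimLE_iff]
    exact hdim.le
  have hnu : ¬ IsUnit (X.presheaf.germ U η hU g) := by
    intro h
    exact hg ((X.mem_basicOpen g η hU).2 h)
  have hmem : X.presheaf.germ U η hU g ∈ IsLocalRing.maximalIdeal ↥(X.presheaf.stalk η) :=
    (IsLocalRing.mem_maximalIdeal _).2 hnu
  obtain ⟨N, hN⟩ := Ring.KrullDimLE.isNilpotent_iff_mem_maximalIdeal.2 hmem
  have h0 : X.presheaf.germ U η hU (g ^ N) = X.presheaf.germ U η hU 0 := by
    rw [map_pow, hN, map_zero]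
  obtain ⟨O, hηO, i, i', hres⟩ := X.presheaf.germ_eq η hU hU _ _ h0
  refine ⟨O, hηO, ?_⟩
  rw [eq_bot_iff]
  rintro y ⟨hyO, hyg⟩
  exfalso
  have hyU : y ∈ U := X.basicOpen_le g hyg
  have hunit : IsUnit (X.presheaf.germ U y hyU g) := (X.mem_basicOpen g y hyU).1 hyg
  have hz : X.presheaf.germ U y hyU (g ^ N) = 0 := by
    have h1 := X.presheaf.germ_res_apply i y hyO (g ^ N)
    rw [← h1, hres, map_zero, map_zero]
  rw [map_pow] at hz
  exact (hunit.pow N).ne_zero hz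

/-- In a quasi-separated scheme, a maximal point outside an affine open `V'` has an affine open
neighbourhood disjoint from `V'`. -/
theorem exists_isAffineOpen_disjoint [QuasiSeparatedSpace ↥X] (η : ↥X)
    (hη : ∀ x' : ↥X, x' ⤳ η → x' = η) (V' : X.Opens) (hV' : IsAffineOpen V') (hηV' : η ∉ V') :
    ∃ V₁ : X.Opens, IsAffineOpen V₁ ∧ η ∈ V₁ ∧ Disjoint V₁ V' := by
  obtain ⟨V₁, hV₁, hηV₁, -⟩ :=
    (TopologicalSpace.Opens.isBasis_iff_nbhd.1 X.isBasis_affineOpens)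
      (show η ∈ (⊤ : X.Opens) from trivial)
  -- `V₁ ∩ V'` is quasi-compact
  have hW : IsCompact ((V₁ ⊓ V' : X.Opens) : Set ↥X) :=
    QuasiSeparatedSpace.inter_isCompact _ _ V₁.2 hV₁.isCompact V'.2 hV'.isCompact
  let ι := {g : Γ(X, V₁) // X.basicOpen g ≤ V₁ ⊓ V'}
  have hcov : ((V₁ ⊓ V' : X.Opens) : Set ↥X) ⊆ ⋃ g : ι, (X.basicOpen g.1 : Set ↥X) := by
    intro y hy
    obtain ⟨g, hg1, hg2⟩ := hV₁.exists_basicOpen_le (V := V₁ ⊓ V') ⟨y, hy⟩ hy.1
    exact Set.mem_iUnion.2 ⟨⟨g, hg1⟩, hg2⟩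
  obtain ⟨T, hT⟩ := hW.elim_finite_subcover (fun g : ι => (X.basicOpen g.1 : Set ↥X))
    (fun g => (X.basicOpen g.1).2) hcov
  have key : ∀ g : ι, ∃ O : X.Opens, η ∈ O ∧ O ⊓ X.basicOpen g.1 = ⊥ := by
    intro g
    apply exists_open_inf_basicOpen_eq_bot η hη hηV₁
    intro h
    exact hηV' (g.2 h).2
  choose O hηO hO using key
  let O' : X.Opens := ⟨⋂ g ∈ T, (O g : Set ↥X), isOpen_biInter_finset fun g _ => (O g).2⟩
  have hηO' : η ∈ V₁ ⊓ O' := ⟨hηV₁, Set.mem_iInter₂.2 fun g _ => hηO g⟩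
  obtain ⟨V₂, hV₂, hηV₂, hV₂le⟩ :=
    (TopologicalSpace.Opens.isBasis_iff_nbhd.1 X.isBasis_affineOpens) hηO'
  refine ⟨V₂, hV₂, hηV₂, ?_⟩
  rw [disjoint_iff, eq_bot_iff]
  rintro y ⟨hy2, hyV'⟩
  exfalso
  have hy := hV₂le hy2
  obtain ⟨g, hgT, hyg⟩ := Set.mem_iUnion₂.1 (hT ⟨hy.1, hyV'⟩)
  have hyO : y ∈ O g := Set.mem_iInter₂.1 hy.2 g hgT
  have : y ∈ O g ⊓ X.basicOpen g.1 := ⟨hyO, hyg⟩
  rw [hO g] at this
  exact this

/-- **Stacks 28.29.1** (weak form).  A finite set of maximal points of a quasi-separated scheme is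
contained in an affine open. -/
theorem exists_isAffineOpen_of_finite_of_maximal [QuasiSeparatedSpace ↥X] (E : Set ↥X)
    (hE : E.Finite) (hmax : ∀ η ∈ E, ∀ x' : ↥X, x' ⤳ η → x' = η) :
    ∃ V : X.Opens, IsAffineOpen V ∧ E ⊆ V := by
  induction E, hE using Set.Finite.induction_on with
  | empty => exact ⟨⊥, isAffineOpen_bot X, Set.empty_subset _⟩
  | @insert η E' _ _ ih =>
    obtain ⟨V', hV', hE'⟩ := ih (fun x hx => hmax x (Set.mem_insert_of_mem _ hx))
    by_cases hηV' : η ∈ V'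
    · exact ⟨V', hV', Set.insert_subset hηV' hE'⟩
    · obtain ⟨V₁, hV₁, hηV₁, hdisj⟩ :=
        exists_isAffineOpen_disjoint η (hmax η (Set.mem_insert _ _)) V' hV' hηV'
      refine ⟨V₁ ⊔ V', hV₁.sup_of_disjoint hV' hdisj, Set.insert_subset (Or.inl hηV₁) ?_⟩
      exact fun x hx => Or.inr (hE' hx)

end Groth.Agent.Lib.AffGenericPts46
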