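import Mathlib.LinearAlgebra.Charpoly.BaseChange
import Mathlib.LinearAlgebra.Charpoly.ToMatrix
import Mathlib.LinearAlgebra.Matrix.Charpoly.Basic
import Mathlib.LinearAlgebra.TensorProduct.Pi
import Mathlib.RingTheory.IsTensorProduct
import Mathlib.RingTheory.TensorProduct.Basic
import Mathlib.Algebra.Category.Ring.Constructions

/-!
# Characteristic polynomials through retractions (helper13)

For a finite projective `A`-algebra `B`, presented as a retract `σ ∘ i = id` of a finite free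
module `F`, and `b : B`, the characteristic polynomial of `i ∘ (b·) ∘ σ : F → F`
* kills `b` (`aeval_eq_zero_of_retract`, Cayley–Hamilton),
* does not depend on the retraction (`charpoly_retract_indep`),
* commutes with base change (`exists_retract_charpoly_of_isPushout`).
-/

set_option autoImplicit false
universe u

namespace Groth.Agent.Lib.CharpolyRetract13

open TensorProduct Polynomial

section indep

variable {B : Type*} [CommRing B] {P F₁ F₂ : Type*} [AddCommGroup P] [Module B P]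
  [AddCommGroup F₁] [Module B F₁] [AddCommGroup F₂] [Module B F₂]
  [Module.Free B F₁] [Module.Finite B F₁] [Module.Free B F₂] [Module.Finite B F₂]

theorem charpoly_retract_indep {ι : Type*} [Fintype ι] [DecidableEq ι]
    (b₁ : Module.Basis ι B F₁) (b₂ : Module.Basis ι B F₂)
    (i₁ : P →ₗ[B] F₁) (σ₁ : F₁ →ₗ[B] P) (i₂ : P →ₗ[B] F₂) (σ₂ : F₂ →ₗ[B] P)
    (h₁ : σ₁ ∘ₗ i₁ = LinearMap.id) (h₂ : σ₂ ∘ₗ i₂ = LinearMap.id) (L : P →ₗ[B] P) :
    (i₁ ∘ₗ L ∘ₗ σ₁).charpoly = (i₂ ∘ₗ L ∘ₗ σ₂).charpoly := by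
  let X : F₂ →ₗ[B] F₁ := i₁ ∘ₗ σ₂
  let Y : F₁ →ₗ[B] F₂ := i₂ ∘ₗ L ∘ₗ σ₁
  have hXY : X ∘ₗ Y = i₁ ∘ₗ L ∘ₗ σ₁ := by
    ext v
    have : σ₂ (i₂ (L (σ₁ v))) = L (σ₁ v) := LinearMap.congr_fun h₂ _
    simp [X, Y, this]
  have hYX : Y ∘ₗ X = i₂ ∘ₗ L ∘ₗ σ₂ := by
    ext v
    have : σ₁ (i₁ (σ₂ v)) = σ₂ v := LinearMap.congr_fun h₁ _
    simp [X, Y, this]
  rw [← hXY, ← hYX, ← LinearMap.charpoly_toMatrix _ b₁, ← LinearMap.charpoly_toMatrix _ b₂,
    LinearMap.toMatrix_comp b₁ b₂ b₁, LinearMap.toMatrix_comp b₂ b₁ b₂, Matrix.charpoly_mul_comm]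

end indep

section CH

variable {A B : Type*} [CommRing A] [CommRing B] [Algebra A B] {F : Type*} [AddCommGroup F]
  [Module A F] [Module.Free A F] [Module.Finite A F]

theorem aeval_eq_zero_of_retract (i : B →ₗ[A] F) (σ : F →ₗ[A] B) (h : σ ∘ₗ i = LinearMap.id)
    (b : B) : aeval b (i ∘ₗ Algebra.lmul A B b ∘ₗ σ).charpoly = 0 := by
  set Ψ : Module.End A F := i ∘ₗ Algebra.lmul A B b ∘ₗ σ with hΨ
  set L : Module.End A B := Algebra.lmul A B b with hL
  have h0 : L.comp σ = σ.comp Ψ := by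
    ext v
    have : σ (i (L (σ v))) = L (σ v) := LinearMap.congr_fun h _
    simp [hΨ, this]
  have hint : ∀ q : A[X], (aeval L q).comp σ = σ.comp (aeval Ψ q) := by
    intro q
    induction q using Polynomial.induction_on' with
    | add p q hp hq => rw [map_add, map_add, LinearMap.add_comp, LinearMap.comp_add, hp, hq]
    | monomial n a =>
      rw [aeval_monomial, aeval_monomial, Algebra.algebraMap_eq_smul_one,
        Algebra.algebraMap_eq_smul_one, smul_mul_assoc, smul_mul_assoc, one_mul, one_mul,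
        LinearMap.smul_comp, LinearMap.comp_smul, Module.End.commute_pow_left_of_commute h0]
  have h1 := hint Ψ.charpoly
  rw [LinearMap.aeval_self_charpoly, LinearMap.comp_zero] at h1
  have h2 : aeval L Ψ.charpoly = 0 := by
    have h3 := congrArg (fun φ => φ.comp i) h1
    simp only [LinearMap.zero_comp, LinearMap.comp_assoc, h, LinearMap.comp_id] at h3
    exact h3
  rw [hL, Polynomial.aeval_algHom_apply] at h2
  exact Algebra.lmul_injective (by rw [h2, map_zero])

end CH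

section BC

theorem exists_retract_charpoly_of_isPushout (R S T P : Type u) [CommRing R] [CommRing S]
    [CommRing T] [CommRing P] [Algebra R S] [Algebra R T] [Algebra S P] [Algebra T P]
    [Algebra R P] [IsScalarTower R S P] [IsScalarTower R T P] [Algebra.IsPushout R S T P]
    (n : ℕ) (i : S →ₗ[R] (Fin n → R)) (σ : (Fin n → R) →ₗ[R] S)
    (hσi : σ ∘ₗ i = LinearMap.id) (x : S) :
    ∃ (i' : P →ₗ[T] (Fin n → T)) (σ' : (Fin n → T) →ₗ[T] P), σ' ∘ₗ i' = LinearMap.id ∧
      (i' ∘ₗ Algebra.lmul T P (algebraMap S P x) ∘ₗ σ').charpoly =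
        ((i ∘ₗ Algebra.lmul R S x ∘ₗ σ).charpoly).map (algebraMap R T) := by
  have : Algebra.IsPushout R T S P := Algebra.IsPushout.symm inferInstance
  let e : T ⊗[R] S ≃ₐ[T] P := Algebra.IsPushout.equiv R T S P
  let ρ : T ⊗[R] (Fin n → R) ≃ₗ[T] (Fin n → T) := TensorProduct.piScalarRight R T T (Fin n)
  have hk : (σ.baseChange T) ∘ₗ (i.baseChange T) = LinearMap.id := by
    rw [← LinearMap.baseChange_comp, hσi, LinearMap.baseChange_id]
  refine ⟨ρ.toLinearMap ∘ₗ i.baseChange T ∘ₗ e.symm.toLinearMap,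
    e.toLinearMap ∘ₗ σ.baseChange T ∘ₗ ρ.symm.toLinearMap, ?_, ?_⟩
  · ext p
    have := LinearMap.congr_fun hk (e.symm p)
    simp only [LinearMap.comp_apply] at this
    simp [this]
  · have hconj : (ρ.toLinearMap ∘ₗ i.baseChange T ∘ₗ e.symm.toLinearMap) ∘ₗ
        Algebra.lmul T P (algebraMap S P x) ∘ₗ
        (e.toLinearMap ∘ₗ σ.baseChange T ∘ₗ ρ.symm.toLinearMap) =
        ρ.conj ((i ∘ₗ Algebra.lmul R S x ∘ₗ σ).baseChange T) := by
      apply LinearMap.ext
      intro v
      rw [LinearEquiv.conj_apply_apply, LinearMap.baseChange_comp, LinearMap.baseChange_comp,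
        Algebra.baseChange_lmul]
      simp only [LinearMap.comp_apply, LinearEquiv.coe_coe, AlgEquiv.toLinearMap_apply,
        Algebra.coe_lmul_eq_mul, LinearMap.mul_apply']
      congr 2
      rw [map_mul, AlgEquiv.symm_apply_apply]
      congr 1
      exact Algebra.IsPushout.equiv_symm_algebraMap_right R T S P x
    rw [hconj, LinearEquiv.charpoly_conj, LinearMap.charpoly_baseChange]

theorem exists_retract_charpoly_commRingCat {R S T P : CommRingCat.{u}} {f : R ⟶ S} {g : R ⟶ T}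
    {inl : S ⟶ P} {inr : T ⟶ P} (h : CategoryTheory.IsPushout f g inl inr) :
    letI := f.hom.toAlgebra
    letI := inr.hom.toAlgebra
    ∀ (n : ℕ) (i : S →ₗ[R] (Fin n → R)) (σ : (Fin n → R) →ₗ[R] S)
      (_ : σ ∘ₗ i = LinearMap.id) (x : S),
    ∃ (i' : P →ₗ[T] (Fin n → T)) (σ' : (Fin n → T) →ₗ[T] P), σ' ∘ₗ i' = LinearMap.id ∧
      (i' ∘ₗ Algebra.lmul T P (inl.hom x) ∘ₗ σ').charpoly =
        ((i ∘ₗ Algebra.lmul R S x ∘ₗ σ).charpoly).map g.hom := by
  algebraize [f.hom, g.hom, inl.hom, inr.hom, inl.hom.comp f.hom]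
  have : IsScalarTower R T P := .of_algebraMap_eq' <| congr($(h.1.1).hom)
  have : Algebra.IsPushout R S T P := CommRingCat.isPushout_iff_isPushout.mp h
  intro n i σ hσi x
  exact exists_retract_charpoly_of_isPushout R S T P n i σ hσi x

end BC

end Groth.Agent.Lib.CharpolyRetract13
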