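import Mathlib.LinearAlgebra.TensorProduct.Basis
import Mathlib.RingTheory.IsTensorProduct
import Mathlib.RingTheory.TensorProduct.Free
import Mathlib.Algebra.Category.Ring.Constructions

/-!
# Bases and invariants for affine groupoids (helper13)

Abstract ring-level form of Stacks 03BH: for an "affine groupoid" `s t : A ⟶ B`, `e : B ⟶ A`,
`p0 p1 cc : B ⟶ P` (coidentity, coprojections, cocomposition) with the two pushout squares, if `B` is
free over `A` (through `s`) on `t(x_i)` then `A` is free over the invariants `C` on the `x_i` and
`A ⊗_C A ≅ B`.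
-/

set_option autoImplicit false
universe u

namespace Groth.Agent.Lib.GrpdBasis13

open CategoryTheory TensorProduct

/-- Base change of a basis along a pushout square of commutative rings. -/
theorem exists_basis_of_isPushout_commRingCat {R S T P : CommRingCat.{u}} {f : R ⟶ S} {g : R ⟶ T}
    {inl : S ⟶ P} {inr : T ⟶ P} (h : IsPushout f g inl inr) :
    letI := f.hom.toAlgebra
    letI := inr.hom.toAlgebra
    ∀ {I : Type u} (b : Module.Basis I R S), ∃ b' : Module.Basis I T P, ∀ i, b' i = inl.hom (b i) := by
  algebraize [f.hom, g.hom, inl.hom, inr.hom, inl.hom.comp f.hom]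
  have : IsScalarTower R T P := .of_algebraMap_eq' <| congr($(h.1.1).hom)
  have : Algebra.IsPushout R S T P := CommRingCat.isPushout_iff_isPushout.mp h
  have : Algebra.IsPushout R T S P := Algebra.IsPushout.symm inferInstance
  intro I b
  let e : T ⊗[R] S ≃ₐ[T] P := Algebra.IsPushout.equiv R T S P
  refine ⟨(b.baseChange T).map e.toLinearEquiv, fun i => ?_⟩
  rw [Module.Basis.map_apply, Module.Basis.baseChange_apply]
  change e (1 ⊗ₜ b i) = _
  simp only [e, Algebra.IsPushout.equiv_tmul, map_one, one_mul]
  rfl

section main

variable {A B P : CommRingCat.{u}} (s t : A ⟶ B) (e : B ⟶ A) (p0 p1 cc : B ⟶ P)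

theorem main (het : t ≫ e = 𝟙 A) (hes : s ≫ e = 𝟙 A) (h1 : s ≫ p0 = t ≫ p1)
    (h2 : s ≫ cc = s ≫ p1)
    (h3 : t ≫ cc = t ≫ p0) (sq1 : IsPushout s t p0 p1) (sq2 : IsPushout s s cc p1)
    (I : Type u) (x : I → A)
    (hB : letI := s.hom.toAlgebra; ∃ b : Module.Basis I A B, ∀ i, b i = t.hom (x i)) :
    (∃ b : Module.Basis I (RingHom.eqLocus s.hom t.hom) A, ∀ i, b i = x i) ∧
    (letI := (s.hom.comp (RingHom.eqLocus s.hom t.hom).subtype).toAlgebra;
      ∀ φ : TensorProduct (RingHom.eqLocus s.hom t.hom) A A →ₗ[RingHom.eqLocus s.hom t.hom] B,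
        (∀ a a' : A, φ (a ⊗ₜ[RingHom.eqLocus s.hom t.hom] a') = t.hom a * s.hom a') →
          Function.Bijective φ) := by
  classical
  let algAB : Algebra A B := s.hom.toAlgebra
  let algBP : Algebra B P := p1.hom.toAlgebra
  obtain ⟨bB, hbB⟩ := hB
  -- pointwise forms of the identities
  have het' : ∀ a : A, e.hom (t.hom a) = a := fun a => by
    have := congrArg (fun φ => φ.hom a) het; simpa using this
  have hes' : ∀ a : A, e.hom (s.hom a) = a := fun a => by
    have := congrArg (fun φ => φ.hom a) hes; simpa using this
  have h1' : ∀ a : A, p0.hom (s.hom a) = p1.hom (t.hom a) := fun a => by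
    have := congrArg (fun φ => φ.hom a) h1; simpa using this
  have h2' : ∀ a : A, cc.hom (s.hom a) = p1.hom (s.hom a) := fun a => by
    have := congrArg (fun φ => φ.hom a) h2; simpa using this
  have h3' : ∀ a : A, cc.hom (t.hom a) = p0.hom (t.hom a) := fun a => by
    have := congrArg (fun φ => φ.hom a) h3; simpa using this
  have smul_def : ∀ (a : A) (y : B), a • y = s.hom a * y := fun a y => rfl
  have smul_defP : ∀ (y : B) (z : P), y • z = p1.hom y * z := fun y z => rfl
  -- the two base-changed bases
  obtain ⟨β1, hβ1⟩ := exists_basis_of_isPushout_commRingCat sq1 bB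
  obtain ⟨β2, hβ2⟩ := exists_basis_of_isPushout_commRingCat sq2 bB
  have hβ : ∀ i, β1 i = β2 i := fun i => by rw [hβ1, hβ2, hbB, h3']
  -- coefficients are invariant
  have hinv : ∀ (a : A) (i : I), s.hom (bB.repr (t.hom a) i) = t.hom (bB.repr (t.hom a) i) := by
    intro a i
    set l := bB.repr (t.hom a) with hl
    have hta : t.hom a = l.sum fun i c => c • bB i := by
      rw [← Finsupp.linearCombination_apply, hl, bB.linearCombination_repr]
    have e1 : p0.hom (t.hom a) = Finsupp.linearCombination B β2 (l.mapRange t.hom (map_zero _)) := by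
      rw [hta, Finsupp.linearCombination_apply, Finsupp.sum_mapRange_index (by simp),
        Finsupp.sum, map_sum, Finsupp.sum]
      refine Finset.sum_congr rfl fun i _ => ?_
      rw [smul_def, map_mul, h1', smul_defP, ← hβ, hβ1]
    have e2 : cc.hom (t.hom a) = Finsupp.linearCombination B β2 (l.mapRange s.hom (map_zero _)) := by
      rw [hta, Finsupp.linearCombination_apply, Finsupp.sum_mapRange_index (by simp),
        Finsupp.sum, map_sum, Finsupp.sum]
      refine Finset.sum_congr rfl fun i _ => ?_
      rw [smul_def, map_mul, h2', smul_defP, hβ2]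
    rw [h3', e1] at e2
    have e3 := congrArg β2.repr e2
    rw [β2.repr_linearCombination, β2.repr_linearCombination] at e3
    have := DFunLike.congr_fun e3 i
    simpa using this.symm
  -- expansion of a
  have hexp : ∀ a : A, a = (bB.repr (t.hom a)).sum fun i c => c * x i := by
    intro a
    set l := bB.repr (t.hom a) with hl
    have hta : t.hom a = l.sum fun i c => c • bB i := by
      rw [← Finsupp.linearCombination_apply, hl, bB.linearCombination_repr]
    have := congrArg e.hom hta
    rw [het', Finsupp.sum, map_sum] at this
    rw [this, Finsupp.sum]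
    refine Finset.sum_congr rfl fun i _ => ?_
    rw [smul_def, map_mul, hes', hbB, het']
  set C := RingHom.eqLocus s.hom t.hom with hC
  -- linear independence
  have hli : LinearIndependent C x := by
    rw [linearIndependent_iff]
    intro l hl
    have h0 : Finsupp.linearCombination A bB (l.mapRange C.subtype (map_zero _)) = 0 := by
      rw [Finsupp.linearCombination_apply, Finsupp.sum_mapRange_index (by simp)]
      have := congrArg t.hom hl
      rw [Finsupp.linearCombination_apply, Finsupp.sum, map_sum, map_zero] at this
      rw [Finsupp.sum, ← this]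
      refine Finset.sum_congr rfl fun i _ => ?_
      rw [smul_def, hbB]
      change s.hom (l i : A) * t.hom (x i) = t.hom ((l i : A) * x i)
      rw [map_mul, (l i).2]
    have h00 := congrArg bB.repr h0
    rw [bB.repr_linearCombination, map_zero] at h00
    ext i
    have := DFunLike.congr_fun h00 i
    simpa using this
  have hsp : ⊤ ≤ Submodule.span C (Set.range x) := by
    intro a _
    rw [Finsupp.mem_span_range_iff_exists_finsupp]
    let l := bB.repr (t.hom a)
    refine ⟨Finsupp.onFinset l.support (fun i => ⟨l i, hinv a i⟩) (fun i hi => ?_), ?_⟩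
    · simp only [Finsupp.mem_support_iff]
      intro h0
      apply hi
      exact Subtype.ext h0
    · conv_rhs => rw [hexp a]
      rw [Finsupp.sum, Finsupp.sum]
      have hsupp : (Finsupp.onFinset l.support (fun i => (⟨l i, hinv a i⟩ : C))
          (fun i hi => by
            simp only [Finsupp.mem_support_iff]
            intro h0
            apply hi
            exact Subtype.ext h0)).support = l.support := by
        ext i
        simp only [Finsupp.mem_support_iff, Finsupp.onFinset_apply, ne_eq]
        constructor
        · intro h h0; exact h (Subtype.ext h0)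
        · intro h h0; exact h (congrArg Subtype.val h0)
      rw [hsupp]
      refine Finset.sum_congr rfl fun i _ => ?_
      rfl
  let bC : Module.Basis I C A := Module.Basis.mk hli hsp
  have hbC : ∀ i, bC i = x i := fun i => Module.Basis.mk_apply hli hsp i
  refine ⟨⟨bC, hbC⟩, ?_⟩
  intro φ hφ
  -- φ ∘ (equivFinsuppOfBasisLeft bC).symm = bB.repr.symm
  let E := TensorProduct.equivFinsuppOfBasisLeft (N := A) bC
  have key : ∀ m : I →₀ A, φ (E.symm m) = bB.repr.symm m := by
    intro m
    induction m using Finsupp.induction_linear with
    | zero => simp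
    | add f g hf hg => rw [map_add, map_add, map_add, hf, hg]
    | single i a' =>
      have : E.symm (Finsupp.single i a') = bC i ⊗ₜ a' := by
        apply E.injective
        rw [LinearEquiv.apply_symm_apply, TensorProduct.equivFinsuppOfBasisLeft_apply_tmul]
        ext j
        simp [Finsupp.single_apply]
      rw [this, hbC, hφ, Module.Basis.repr_symm_single, smul_def, hbB, mul_comm]
  have : (φ : _ → B) = (bB.repr.symm : _ → B) ∘ (E : _ → _) := by
    funext z
    have := key (E z)
    rw [LinearEquiv.symm_apply_apply] at this
    exact this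
  rw [this]
  exact bB.repr.symm.bijective.comp E.bijective

end main

end Groth.Agent.Lib.GrpdBasis13
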