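import Groth.Agent.Lib.DetRetract13
import Groth.Agent.Lib.CharpolyRetract13
import Groth.Agent.Lib.GrpdBasis13
import Mathlib.RingTheory.Polynomial.Basic

/-!
# Abstract affine groupoids: invariants, integrality, norms (helper13)

`AffGrpd A B P` packages the ring-level data of an affine groupoid scheme:
`s t : A ⟶ B`, `e : B ⟶ A`, `p0 p1 cc : B ⟶ P` (coprojections and cocomposition of
`P = B ⊗_{s,A,t} B`) with the two pushout squares.  For `B` finite projective over `A` (through `s`):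
* `coeff_charpoly_mem_inv`, `isIntegral`: Stacks 03BJ;
* `det_ext_mem_inv`: the generalized norm of `t f` is invariant (Stacks 03BH without freeness).
-/

set_option autoImplicit false
universe u

namespace Groth.Agent.Lib.AffGrpd13

open CategoryTheory Groth.Agent.Lib.NormLocus13

/-- Ring-level data of an affine groupoid. -/
structure AffGrpd (A B P : CommRingCat.{u}) where
  s : A ⟶ B
  t : A ⟶ B
  e : B ⟶ A
  p0 : B ⟶ P
  p1 : B ⟶ P
  cc : B ⟶ P
  het : t ≫ e = 𝟙 A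
  hes : s ≫ e = 𝟙 A
  h1 : s ≫ p0 = t ≫ p1
  h2 : s ≫ cc = s ≫ p1
  h3 : t ≫ cc = t ≫ p0
  sq1 : IsPushout s t p0 p1
  sq2 : IsPushout s s cc p1

namespace AffGrpd

variable {A B P : CommRingCat.{u}} (𝒢 : AffGrpd A B P)

/-- The subring of invariants. -/
def inv : Subring A := RingHom.eqLocus 𝒢.s.hom 𝒢.t.hom

theorem mem_inv {a : A} : a ∈ 𝒢.inv ↔ 𝒢.s.hom a = 𝒢.t.hom a := Iff.rfl

theorem het' (a : A) : 𝒢.e.hom (𝒢.t.hom a) = a := by
  have := congrArg (fun φ => φ.hom a) 𝒢.het; simpa using this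

theorem hes' (a : A) : 𝒢.e.hom (𝒢.s.hom a) = a := by
  have := congrArg (fun φ => φ.hom a) 𝒢.hes; simpa using this

theorem h1' (a : A) : 𝒢.p0.hom (𝒢.s.hom a) = 𝒢.p1.hom (𝒢.t.hom a) := by
  have := congrArg (fun φ => φ.hom a) 𝒢.h1; simpa using this

theorem h2' (a : A) : 𝒢.cc.hom (𝒢.s.hom a) = 𝒢.p1.hom (𝒢.s.hom a) := by
  have := congrArg (fun φ => φ.hom a) 𝒢.h2; simpa using this

theorem h3' (a : A) : 𝒢.cc.hom (𝒢.t.hom a) = 𝒢.p0.hom (𝒢.t.hom a) := by
  have := congrArg (fun φ => φ.hom a) 𝒢.h3; simpa using this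

theorem t_injective : Function.Injective 𝒢.t.hom := fun a a' h => by
  have := congrArg 𝒢.e.hom h
  rwa [het', het'] at this

theorem s_injective : Function.Injective 𝒢.s.hom := fun a a' h => by
  have := congrArg 𝒢.e.hom h
  rwa [hes', hes'] at this

section retract

variable {n : ℕ}
  (i : letI := 𝒢.s.hom.toAlgebra; B →ₗ[A] (Fin n → A))
  (σ : letI := 𝒢.s.hom.toAlgebra; (Fin n → A) →ₗ[A] B)
  (hσi : letI := 𝒢.s.hom.toAlgebra; σ ∘ₗ i = LinearMap.id)
include i σ hσi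

/-- Stacks 03BJ: the characteristic polynomial of `t f` (through a retraction) has invariant
coefficients. -/
theorem charpoly_map_eq (f : A) :
    letI := 𝒢.s.hom.toAlgebra
    ((i ∘ₗ Algebra.lmul A B (𝒢.t.hom f) ∘ₗ σ).charpoly).map 𝒢.s.hom =
      ((i ∘ₗ Algebra.lmul A B (𝒢.t.hom f) ∘ₗ σ).charpoly).map 𝒢.t.hom := by
  classical
  let alg : Algebra A B := 𝒢.s.hom.toAlgebra
  let algP : Algebra B P := 𝒢.p1.hom.toAlgebra
  obtain ⟨j1, τ1, h11, h12⟩ :=
    Lib.CharpolyRetract13.exists_retract_charpoly_commRingCat 𝒢.sq1 n i σ hσi (𝒢.t.hom f)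
  obtain ⟨j2, τ2, h21, h22⟩ :=
    Lib.CharpolyRetract13.exists_retract_charpoly_commRingCat 𝒢.sq2 n i σ hσi (𝒢.t.hom f)
  have hindep := Lib.CharpolyRetract13.charpoly_retract_indep
    (Pi.basisFun B (Fin n)) (Pi.basisFun B (Fin n)) j1 τ1 j2 τ2 h11 h21
    (Algebra.lmul B P (𝒢.p0.hom (𝒢.t.hom f)))
  rw [← h22, ← h12, 𝒢.h3']
  exact hindep.symm

theorem coeff_charpoly_mem_inv (f : A) (k : ℕ) :
    letI := 𝒢.s.hom.toAlgebra
    ((i ∘ₗ Algebra.lmul A B (𝒢.t.hom f) ∘ₗ σ).charpoly).coeff k ∈ 𝒢.inv := by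
  have := congrArg (fun p => p.coeff k) (𝒢.charpoly_map_eq i σ hσi f)
  simp only [Polynomial.coeff_map] at this
  exact this

/-- Every element of `A` is integral over the invariants. -/
theorem isIntegral_of_retract (f : A) : IsIntegral 𝒢.inv f := by
  classical
  let alg : Algebra A B := 𝒢.s.hom.toAlgebra
  set χ := (i ∘ₗ Algebra.lmul A B (𝒢.t.hom f) ∘ₗ σ).charpoly with hχdef
  have hmonic : χ.Monic := LinearMap.charpoly_monic _
  have h1 : Polynomial.aeval (𝒢.t.hom f) χ = 0 :=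
    Lib.CharpolyRetract13.aeval_eq_zero_of_retract i σ hσi (𝒢.t.hom f)
  have hχ := 𝒢.charpoly_map_eq i σ hσi f
  have hlift : χ ∈ Polynomial.lifts 𝒢.inv.subtype :=
    (Polynomial.lifts_iff_coeff_lifts _).mpr
      (fun k => ⟨⟨χ.coeff k, 𝒢.coeff_charpoly_mem_inv i σ hσi f k⟩, rfl⟩)
  obtain ⟨q, hq, -, hqm⟩ := Polynomial.lifts_and_natDegree_eq_and_monic hlift hmonic
  refine ⟨q, hqm, ?_⟩
  have h2 : Polynomial.eval₂ (algebraMap 𝒢.inv A) f q = Polynomial.eval f χ := by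
    rw [← hq, Polynomial.eval_map]; rfl
  rw [h2]
  apply 𝒢.t_injective
  rw [map_zero, ← Polynomial.eval₂_at_apply, ← Polynomial.eval_map, ← hχ, Polynomial.eval_map]
  exact h1

/-- The generalized norm of `t f` is invariant. -/
theorem det_ext_mem_inv (f : A) :
    letI := 𝒢.s.hom.toAlgebra
    LinearMap.det (ext i σ (Algebra.lmul A B (𝒢.t.hom f))) ∈ 𝒢.inv := by
  classical
  let alg : Algebra A B := 𝒢.s.hom.toAlgebra
  let algP : Algebra B P := 𝒢.p1.hom.toAlgebra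
  obtain ⟨j1, τ1, h11, h12⟩ :=
    Lib.DetRetract13.exists_retract_det_commRingCat 𝒢.sq1 n i σ hσi
  obtain ⟨j2, τ2, h21, h22⟩ :=
    Lib.DetRetract13.exists_retract_det_commRingCat 𝒢.sq2 n i σ hσi
  have hindep := Lib.DetRetract13.det_ext_indep
    (Pi.basisFun B (Fin n)) (Pi.basisFun B (Fin n)) j1 τ1 j2 τ2 h11 h21
    (Algebra.lmul B P (𝒢.p0.hom (𝒢.t.hom f)))
  rw [mem_inv, ← h22, ← h12, 𝒢.h3']
  exact hindep.symm

end retract

end AffGrpd

end Groth.Agent.Lib.AffGrpd13
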