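import Groth.Agent.Lib.AffGrpd13a
import Mathlib.RingTheory.QuasiFinite.Basic
import Mathlib.RingTheory.Ideal.Operations

/-!
# Abstract affine groupoids: separating invariant closed sets by invariant functions (helper13)
-/

set_option autoImplicit false
universe u

namespace Groth.Agent.Lib.AffGrpd13

open CategoryTheory Groth.Agent.Lib.NormLocus13

namespace AffGrpd

variable {A B P : CommRingCat.{u}} (𝒢 : AffGrpd A B P)

/-- The prime `e⁻¹ p` of `B` (the identity arrow at `p`). -/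
def idPrime (p : PrimeSpectrum A) : PrimeSpectrum B := p.comap 𝒢.e.hom

theorem idPrime_comap_s (p : PrimeSpectrum A) : (𝒢.idPrime p).comap 𝒢.s.hom = p := by
  apply PrimeSpectrum.ext
  ext a
  simp only [idPrime, PrimeSpectrum.comap_asIdeal, Ideal.mem_comap, hes']

theorem idPrime_comap_t (p : PrimeSpectrum A) : (𝒢.idPrime p).comap 𝒢.t.hom = p := by
  apply PrimeSpectrum.ext
  ext a
  simp only [idPrime, PrimeSpectrum.comap_asIdeal, Ideal.mem_comap, het']

/-- Separation: an invariant closed set `V(I)` and a prime `p ∉ V(I)` are separated by an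
invariant function. -/
theorem exists_inv_separating
    (hfin : letI := 𝒢.s.hom.toAlgebra; Module.Finite A B)
    (hproj : letI := 𝒢.s.hom.toAlgebra; Module.Projective A B)
    (I : Ideal A)
    (hI : ∀ q : PrimeSpectrum B, I ≤ (q.comap 𝒢.t.hom).asIdeal → I ≤ (q.comap 𝒢.s.hom).asIdeal)
    (p : PrimeSpectrum A) (hp : ¬ I ≤ p.asIdeal) :
    ∃ c ∈ 𝒢.inv, c ∉ p.asIdeal ∧ ∀ p' : PrimeSpectrum A, I ≤ p'.asIdeal → c ∈ p'.asIdeal := by
  classical
  let alg : Algebra A B := 𝒢.s.hom.toAlgebra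
  obtain ⟨n, σ, i, -, -, hσi⟩ := Module.Finite.exists_comp_eq_id_of_projective A B
  have hQfin : (PrimeSpectrum.comap (algebraMap A B) ⁻¹' {p}).Finite :=
    Algebra.QuasiFinite.finite_comap_preimage_singleton p
  let Q : Finset (PrimeSpectrum B) := hQfin.toFinset
  have hQ : ∀ q, q ∈ Q ↔ q.comap 𝒢.s.hom = p := fun q => by
    simp only [Q, Set.Finite.mem_toFinset, Set.mem_preimage, Set.mem_singleton_iff]
    rfl
  have hnot : ¬ ((I : Set A) ⊆ ⋃ q ∈ (Q : Set (PrimeSpectrum B)), ((q.comap 𝒢.t.hom).asIdeal : Set A)) := by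
    rw [Ideal.subset_union_prime (𝒢.idPrime p) (𝒢.idPrime p)
      (fun q _ _ _ => (q.comap 𝒢.t.hom).isPrime)]
    rintro ⟨q, hq, hle⟩
    have := hI q hle
    rw [(hQ q).mp hq] at this
    exact hp this
  rw [Set.not_subset] at hnot
  obtain ⟨f, hfI, hf⟩ := hnot
  have hf' : ∀ q : PrimeSpectrum B, q.comap 𝒢.s.hom = p → 𝒢.t.hom f ∉ q.asIdeal := by
    intro q hq hmem
    apply hf
    simp only [Set.mem_iUnion, Finset.mem_coe]
    exact ⟨q, (hQ q).mpr hq, hmem⟩
  refine ⟨LinearMap.det (ext i σ (Algebra.lmul A B (𝒢.t.hom f))),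
    𝒢.det_ext_mem_inv i σ hσi f, ?_, ?_⟩
  · rw [Lib.DetRetract13.det_ext_notMem_iff i σ hσi]
    intro q hq
    exact hf' q hq
  · intro p' hp'
    by_contra hc
    rw [Lib.DetRetract13.det_ext_notMem_iff i σ hσi] at hc
    apply hc (𝒢.idPrime p') (𝒢.idPrime_comap_s p')
    change 𝒢.e.hom (𝒢.t.hom f) ∈ p'.asIdeal
    rw [het']
    exact hp' hfI

end AffGrpd

end Groth.Agent.Lib.AffGrpd13
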