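import Mathlib.RingTheory.LocalRing.Module
import Mathlib.RingTheory.LocalProperties.Exactness
import Mathlib.RingTheory.Localization.BaseChange
import Mathlib.RingTheory.Flat.FaithfullyFlat.Basic
import Mathlib.RingTheory.LocalRing.ResidueField.Ideal
import Mathlib.Algebra.Module.FinitePresentation
import Mathlib.RingTheory.TensorProduct.Free
import Mathlib.RingTheory.Flat.Stability
import Mathlib.RingTheory.IsTensorProduct
import Mathlib.Algebra.Category.Ring.Constructions

/-!
# The locus where a finite family is a basis after base change (helper13)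

For an `R`-module `N`, a family `v : ι → N` and an `R`-algebra `T`, `Bas T v` says that the
`1 ⊗ v i` form a `T`-basis of `T ⊗[R] N`.  We prove: stability under base change, descent along
field extensions, Nakayama (residue field ⇒ local ring), spreading out (local ring ⇒ basic open),
and a local-global principle.
-/

set_option autoImplicit false
universe u

namespace Groth.Agent.Lib.BasisLocus13

open TensorProduct

section defs

variable (R : Type u) [CommRing R] {N : Type u} [AddCommGroup N] [Module R N] {ι : Type u}

/-- The `1 ⊗ v i` form a `T`-basis of `T ⊗[R] N`. -/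
def Bas (T : Type u) [CommRing T] [Algebra R T] (v : ι → N) : Prop :=
  Function.Bijective (Finsupp.linearCombination T (fun i => (1 : T) ⊗ₜ[R] v i))

theorem bas_iff_exists_basis (T : Type u) [CommRing T] [Algebra R T] (v : ι → N) :
    Bas R T v ↔ ∃ b : Module.Basis ι T (T ⊗[R] N), ∀ i, b i = (1 : T) ⊗ₜ[R] v i := by
  constructor
  · intro h
    have hli : LinearIndependent T (fun i => (1 : T) ⊗ₜ[R] v i) := h.1
    have hsp : ⊤ ≤ Submodule.span T (Set.range (fun i => (1 : T) ⊗ₜ[R] v i)) := by
      rw [← Finsupp.range_linearCombination, LinearMap.range_eq_top.mpr h.2]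
    exact ⟨Module.Basis.mk hli hsp, fun i => Module.Basis.mk_apply hli hsp i⟩
  · rintro ⟨b, hb⟩
    have : (fun i => (1 : T) ⊗ₜ[R] v i) = b := funext fun i => (hb i).symm
    unfold Bas
    rw [this, ← Module.Basis.coe_repr_symm]
    exact b.repr.symm.bijective

/-- Transport along a linear equivalence of the module. -/
theorem bas_congr {N' : Type u} [AddCommGroup N'] [Module R N'] (e : N ≃ₗ[R] N')
    (T : Type u) [CommRing T] [Algebra R T] (v : ι → N) :
    Bas R T (fun i => e (v i)) ↔ Bas R T v := by
  let E : T ⊗[R] N ≃ₗ[T] T ⊗[R] N' := TensorProduct.AlgebraTensorModule.congr (LinearEquiv.refl T T) e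
  have hE : ∀ i, E ((1 : T) ⊗ₜ[R] v i) = (1 : T) ⊗ₜ[R] e (v i) := fun i => by
    simp [E]
  have key : (Finsupp.linearCombination T (fun i => (1 : T) ⊗ₜ[R] e (v i)) : _ → _) =
      E ∘ (Finsupp.linearCombination T (fun i => (1 : T) ⊗ₜ[R] v i)) := by
    funext l
    rw [Function.comp_apply]
    change _ = E.toLinearMap _
    rw [Finsupp.apply_linearCombination]
    congr 2
  unfold Bas
  rw [key]
  exact ⟨fun h => (E.bijective.of_comp_iff' _).mp h |> fun h' => h', fun h => E.bijective.comp h⟩

/-- Transitivity of base change. -/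
theorem bas_tmul_iff (T T' : Type u) [CommRing T] [Algebra R T] [CommRing T'] [Algebra R T']
    [Algebra T T'] [IsScalarTower R T T'] (v : ι → N) :
    Bas T T' (fun i => (1 : T) ⊗ₜ[R] v i) ↔ Bas R T' v := by
  let E : T' ⊗[T] (T ⊗[R] N) ≃ₗ[T'] T' ⊗[R] N :=
    TensorProduct.AlgebraTensorModule.cancelBaseChange R T T' T' N
  have key : (Finsupp.linearCombination T' (fun i => (1 : T') ⊗ₜ[R] v i) : _ → _) =
      E ∘ (Finsupp.linearCombination T' (fun i => (1 : T') ⊗ₜ[T] ((1 : T) ⊗ₜ[R] v i))) := by
    funext l
    rw [Function.comp_apply]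
    change _ = E.toLinearMap _
    rw [Finsupp.apply_linearCombination]
    congr 2
    funext i
    simp [E]
  unfold Bas
  rw [key]
  exact ⟨fun h => E.bijective.comp h, fun h => (E.bijective.of_comp_iff' _).mp h⟩

/-- Stability under base change. -/
theorem Bas.baseChange {T T' : Type u} [CommRing T] [Algebra R T] [CommRing T'] [Algebra R T']
    [Algebra T T'] [IsScalarTower R T T'] {v : ι → N} (h : Bas R T v) : Bas R T' v := by
  rw [← bas_tmul_iff R T T']
  obtain ⟨b, hb⟩ := (bas_iff_exists_basis R T v).mp h
  rw [bas_iff_exists_basis]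
  refine ⟨b.baseChange T', fun i => ?_⟩
  rw [Module.Basis.baseChange_apply, hb]

/-- Descent along a field extension. -/
theorem Bas.of_fieldExt {K L : Type u} [Field K] [Algebra R K] [Field L] [Algebra R L]
    [Algebra K L] [IsScalarTower R K L] {v : ι → N} (h : Bas R L v) : Bas R K v := by
  classical
  rw [← bas_tmul_iff R K L] at h
  -- `F = linearCombination K w`, and `F.baseChange L` is conjugate to `linearCombination L (1 ⊗ w)`
  set w : ι → K ⊗[R] N := fun i => (1 : K) ⊗ₜ[R] v i with hw
  let F : (ι →₀ K) →ₗ[K] K ⊗[R] N := Finsupp.linearCombination K w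
  let E : L ⊗[K] (ι →₀ K) ≃ₗ[L] (ι →₀ L) := TensorProduct.finsuppScalarRight K L L ι
  have key : (Finsupp.linearCombination L (fun i => (1 : L) ⊗ₜ[K] w i)).comp E.toLinearMap =
      F.baseChange L := by
    ext i
    simp [E, F, TensorProduct.finsuppScalarRight_apply_tmul]
  have h2 : Function.Bijective (F.baseChange L) := by
    rw [← key]
    exact h.comp E.bijective
  have h3 : Function.Bijective (F.lTensor L) := h2
  exact (Module.FaithfullyFlat.lTensor_bijective_iff_bijective (R := K) (M := L) F).mp h3

theorem bas_self_iff (v : ι → N) :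
    Bas R R v ↔ Function.Bijective (Finsupp.linearCombination R v) := by
  let E : R ⊗[R] N ≃ₗ[R] N := TensorProduct.lid R N
  have key : (Finsupp.linearCombination R v : _ → _) =
      E ∘ (Finsupp.linearCombination R (fun i => (1 : R) ⊗ₜ[R] v i)) := by
    funext l
    rw [Function.comp_apply]
    change _ = E.toLinearMap _
    rw [Finsupp.apply_linearCombination]
    congr 2
    funext i
    simp [E]
  unfold Bas
  rw [key]
  exact ⟨fun h => E.bijective.comp h, fun h => (E.bijective.of_comp_iff' _).mp h⟩

/-- Nakayama: a basis over the residue field is a basis over the local ring. -/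
theorem Bas.atPrime_of_residueField [Module.Finite R N] [Module.Flat R N] (P : Ideal R) [P.IsPrime]
    {v : ι → N} (h : Bas R P.ResidueField v) : Bas R (Localization.AtPrime P) v := by
  rw [← bas_tmul_iff R (Localization.AtPrime P) P.ResidueField] at h
  exact Module.IsLocalRing.linearCombination_bijective_of_flat (R := Localization.AtPrime P)
    (M := Localization.AtPrime P ⊗[R] N) (fun i => (1 : Localization.AtPrime P) ⊗ₜ[R] v i) h

/-- Spreading out: a basis over the local ring is a basis over a basic open neighbourhood. -/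
theorem Bas.exists_away [Finite ι] [Module.FinitePresentation R N] (P : Ideal R) [P.IsPrime]
    {v : ι → N} (h : Bas R (Localization.AtPrime P) v) :
    ∃ g, g ∉ P ∧ Bas R (Localization.Away g) v := by
  let RP := Localization.AtPrime P
  let l : (ι →₀ R) →ₗ[R] N := Finsupp.linearCombination R v
  let fM : (ι →₀ R) →ₗ[R] (ι →₀ RP) := Finsupp.mapRange.linearMap (Algebra.linearMap R RP)
  let fN : N →ₗ[R] RP ⊗[R] N := TensorProduct.mk R RP N 1
  have hmap := IsLocalizedModule.map_linearCombination (S := P.primeCompl) (A := RP) (f := fN)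
    (v := v)
  have hf : Function.Bijective (IsLocalizedModule.map P.primeCompl fM fN l) := by
    rw [hmap]; exact h
  obtain ⟨g, hg, hbij⟩ := Module.FinitePresentation.exists_notMem_bijective l P fM fN hf
  refine ⟨g, hg, ?_⟩
  let Rg := Localization.Away g
  let fM' : (ι →₀ R) →ₗ[R] (ι →₀ Rg) := Finsupp.mapRange.linearMap (Algebra.linearMap R Rg)
  let fN' : N →ₗ[R] Rg ⊗[R] N := TensorProduct.mk R Rg N 1
  have e := LocalizedModule.restrictScalars_map_eq (Submonoid.powers g) fM' fN' l
  have hmap' := IsLocalizedModule.map_linearCombination (S := Submonoid.powers g) (A := Rg)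
    (f := fN') (v := v)
  have h1 : Function.Bijective (IsLocalizedModule.map (Submonoid.powers g) fM' fN' l) := by
    have h0 : Function.Bijective ((LocalizedModule.map (Submonoid.powers g) l).restrictScalars R) :=
      hbij
    rw [e] at h0
    have h2 := (IsLocalizedModule.iso (Submonoid.powers g) fN').bijective.comp
      (h0.comp (IsLocalizedModule.iso (Submonoid.powers g) fM').symm.bijective)
    convert h2 using 1
    funext z
    simp
  rw [hmap'] at h1
  exact h1

/-- Local-global principle. -/
theorem Bas.of_forall_maximal {v : ι → N}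
    (h : ∀ (P : Ideal R) [P.IsMaximal], Bas R (Localization.AtPrime P) v) :
    Function.Bijective (Finsupp.linearCombination R v) := by
  refine bijective_of_isLocalized_maximal (fun P _ => (ι →₀ Localization.AtPrime P))
    (fun P _ => Finsupp.mapRange.linearMap (Algebra.linearMap R (Localization.AtPrime P)))
    (fun P _ => Localization.AtPrime P ⊗[R] N) (fun P _ => TensorProduct.mk R _ N 1)
    (Finsupp.linearCombination R v) ?_
  intro P _
  rw [IsLocalizedModule.map_linearCombination]
  exact h P

end defs

section homs

variable {R S : Type u} [CommRing R] [CommRing S] {ι : Type u}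

/-- Ring-hom form: `S` is an `R`-module through `f` and `K` an `R`-algebra through `g`. -/
def BasH (f : R →+* S) {K : Type u} [CommRing K] (g : R →+* K) (v : ι → S) : Prop :=
  @Bas R _ S _ f.toAlgebra.toModule ι K _ g.toAlgebra v

theorem BasH.comp {f : R →+* S} {K K' : Type u} [CommRing K] [CommRing K'] {g : R →+* K}
    {v : ι → S} (h : BasH f g v) (φ : K →+* K') : BasH f (φ.comp g) v := by
  let _ : Algebra R S := f.toAlgebra
  let _ : Algebra R K := g.toAlgebra
  let _ : Algebra R K' := (φ.comp g).toAlgebra
  let _ : Algebra K K' := φ.toAlgebra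
  have : IsScalarTower R K K' := .of_algebraMap_eq' rfl
  exact Bas.baseChange R (T := K) (T' := K') h

theorem BasH.of_comp_field {f : R →+* S} {K L : Type u} [Field K] [Field L] {g : R →+* K}
    {v : ι → S} (φ : K →+* L) (h : BasH f (φ.comp g) v) : BasH f g v := by
  let _ : Algebra R S := f.toAlgebra
  let _ : Algebra R K := g.toAlgebra
  let _ : Algebra R L := (φ.comp g).toAlgebra
  let _ : Algebra K L := φ.toAlgebra
  have : IsScalarTower R K L := .of_algebraMap_eq' rfl
  exact Bas.of_fieldExt R (K := K) (L := L) h

open CategoryTheory in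
/-- Transfer along a pushout square of commutative rings. -/
theorem basH_pushout {R S T P : CommRingCat.{u}} {f : R ⟶ S} {g : R ⟶ T}
    {inl : S ⟶ P} {inr : T ⟶ P} (h : IsPushout f g inl inr) (v : ι → S)
    {K : Type u} [CommRing K] (ρ : T →+* K) :
    BasH f.hom (ρ.comp g.hom) v ↔ BasH inr.hom ρ (fun i => inl.hom (v i)) := by
  algebraize [f.hom, g.hom, inl.hom, inr.hom, inl.hom.comp f.hom]
  have : IsScalarTower R T P := .of_algebraMap_eq' <| congr($(h.1.1).hom)
  have : Algebra.IsPushout R S T P := CommRingCat.isPushout_iff_isPushout.mp h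
  have : Algebra.IsPushout R T S P := Algebra.IsPushout.symm inferInstance
  let e : T ⊗[R] S ≃ₐ[T] P := Algebra.IsPushout.equiv R T S P
  let _ : Algebra T K := ρ.toAlgebra
  let _ : Algebra R K := (ρ.comp g.hom).toAlgebra
  have : IsScalarTower R T K := .of_algebraMap_eq' rfl
  have he : ∀ i, inl.hom (v i) = e.toLinearEquiv ((1 : T) ⊗ₜ[R] v i) := fun i => by
    change _ = e (1 ⊗ₜ v i)
    simp only [e, Algebra.IsPushout.equiv_tmul, map_one, one_mul]
    rfl
  unfold BasH
  change Bas R K v ↔ Bas T K (fun i => inl.hom (v i))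
  rw [← bas_tmul_iff R T K]
  simp only [he]
  exact (bas_congr T e.toLinearEquiv K (fun i => (1 : T) ⊗ₜ[R] v i)).symm

end homs

end Groth.Agent.Lib.BasisLocus13
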