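import Groth.Agent.Lib.AffGrpd13b
import Groth.Agent.Lib.BasisLocus13
import Mathlib.RingTheory.Localization.Away.Basic

/-!
# Abstract affine groupoids: invariant basic opens over which `t(x_i)` is a basis (helper13)
-/

set_option autoImplicit false
universe u

namespace Groth.Agent.Lib.AffGrpd13

open CategoryTheory TensorProduct Groth.Agent.Lib.BasisLocus13

theorem basH_algebraMap_iff {R S : Type u} [CommRing R] [CommRing S] {ι : Type u} (f : R →+* S)
    (K : Type u) [CommRing K] [inst : Algebra R K] (v : ι → S) :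
    BasH f (algebraMap R K) v ↔ @Bas R _ S _ f.toAlgebra.toModule ι K _ inst v := by
  have : (algebraMap R K).toAlgebra = inst := Algebra.algebra_ext _ _ fun _ => rfl
  unfold BasH
  rw [this]

namespace AffGrpd

variable {A B P : CommRingCat.{u}} (𝒢 : AffGrpd A B P) {ι : Type u}

/-- The `1 ⊗ t(x_i)` form a basis of `K ⊗_{g,A,s} B`. -/
def BasAt (x : ι → A) {K : Type u} [CommRing K] (g : A →+* K) : Prop :=
  BasH 𝒢.s.hom g (fun i => 𝒢.t.hom (x i))

/-- Invariance of the basis locus. -/
theorem basAt_s_iff_t (x : ι → A) {K : Type u} [CommRing K] (ρ : B →+* K) :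
    𝒢.BasAt x (ρ.comp 𝒢.s.hom) ↔ 𝒢.BasAt x (ρ.comp 𝒢.t.hom) := by
  unfold BasAt
  rw [basH_pushout 𝒢.sq2 _ ρ, basH_pushout 𝒢.sq1 _ ρ]
  simp only [𝒢.h3']

/-- Existence of a basis of the form `t(x_i)` at a residue field. -/
theorem exists_basAt_residueField
    (hfin : letI := 𝒢.s.hom.toAlgebra; Module.Finite A B)
    (hsurj : letI := 𝒢.s.hom.toAlgebra; Submodule.span A (Set.range 𝒢.t.hom) = ⊤)
    (p : PrimeSpectrum A) :
    ∃ (ι : Type u) (_ : Finite ι) (x : ι → A),
      𝒢.BasAt x (algebraMap A p.asIdeal.ResidueField) := by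
  classical
  let alg : Algebra A B := 𝒢.s.hom.toAlgebra
  let K := p.asIdeal.ResidueField
  let T : Set (K ⊗[A] B) := Set.range (fun a : A => (1 : K) ⊗ₜ[A] 𝒢.t.hom a)
  have hspan : Submodule.span K T = ⊤ := by
    rw [eq_top_iff]
    rintro z -
    induction z using TensorProduct.induction_on with
    | zero => exact zero_mem _
    | add z w hz hw => exact add_mem hz hw
    | tmul k b =>
      have h1 : k ⊗ₜ[A] b = k • ((1 : K) ⊗ₜ[A] b) := by
        rw [TensorProduct.smul_tmul', smul_eq_mul, mul_one]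
      rw [h1]
      refine Submodule.smul_mem _ _ ?_
      have hb : b ∈ Submodule.span A (Set.range 𝒢.t.hom) := by rw [hsurj]; trivial
      let φ : B →ₗ[A] K ⊗[A] B := TensorProduct.mk A K B 1
      have hle : Submodule.span A (Set.range 𝒢.t.hom) ≤
          ((Submodule.span K T).restrictScalars A).comap φ := by
        rw [Submodule.span_le]
        rintro _ ⟨a, rfl⟩
        exact Submodule.subset_span ⟨a, rfl⟩
      exact hle hb
  obtain ⟨b, hbT, hbspan, hbli⟩ := exists_linearIndependent K T
  have hfinb : Finite b := hbli.finite_of_isNoetherian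
  choose x hx using fun i : b => hbT i.2
  refine ⟨b, hfinb, x, ?_⟩
  unfold BasAt
  rw [basH_algebraMap_iff]
  have hfam : (fun i : b => (1 : K) ⊗ₜ[A] 𝒢.t.hom (x i)) = ((↑) : b → K ⊗[A] B) := funext hx
  unfold Bas
  rw [hfam]
  refine ⟨hbli, ?_⟩
  rw [← LinearMap.range_eq_top, Finsupp.range_linearCombination, Subtype.range_coe, hbspan, hspan]

/-- Around every prime there is an invariant basic open over which some `t(x_i)` is a basis. -/
theorem exists_inv_basis
    (hfin : letI := 𝒢.s.hom.toAlgebra; Module.Finite A B)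
    (hproj : letI := 𝒢.s.hom.toAlgebra; Module.Projective A B)
    (hsurj : letI := 𝒢.s.hom.toAlgebra; Submodule.span A (Set.range 𝒢.t.hom) = ⊤)
    (p : PrimeSpectrum A) :
    ∃ (ι : Type u) (_ : Finite ι) (x : ι → A) (c : A), c ∈ 𝒢.inv ∧ c ∉ p.asIdeal ∧
      𝒢.BasAt x (algebraMap A (Localization.Away c)) := by
  classical
  let alg : Algebra A B := 𝒢.s.hom.toAlgebra
  obtain ⟨ι, hι, x, hx⟩ := 𝒢.exists_basAt_residueField hfin hsurj p
  let v : ι → B := fun i => 𝒢.t.hom (x i)
  let G : Set A := {g | 𝒢.BasAt x (algebraMap A (Localization.Away g))}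
  let I : Ideal A := Ideal.span G
  have hflat : Module.Flat A B := inferInstance
  have hfp : Module.FinitePresentation A B := Module.finitePresentation_of_projective A B
  -- Claim A
  have claimA1 : ∀ p' : PrimeSpectrum A, ¬ I ≤ p'.asIdeal →
      𝒢.BasAt x (algebraMap A p'.asIdeal.ResidueField) := by
    intro p' hp'
    have : ∃ g ∈ G, g ∉ p'.asIdeal := by
      by_contra hcon
      push Not at hcon
      exact hp' (Ideal.span_le.mpr hcon)
    obtain ⟨g, hgG, hgp⟩ := this
    have hu : IsUnit (algebraMap A p'.asIdeal.ResidueField g) := by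
      rw [isUnit_iff_ne_zero, ne_eq, Ideal.algebraMap_residueField_eq_zero]
      exact hgp
    have hgG' : BasH 𝒢.s.hom (algebraMap A (Localization.Away g)) v := hgG
    have := BasH.comp hgG' (IsLocalization.Away.lift g hu)
    rw [IsLocalization.Away.lift_comp] at this
    exact this
  have claimA2 : ∀ p' : PrimeSpectrum A, 𝒢.BasAt x (algebraMap A p'.asIdeal.ResidueField) →
      ¬ I ≤ p'.asIdeal := by
    intro p' h hle
    unfold BasAt at h
    rw [basH_algebraMap_iff] at h
    have h1 := Bas.atPrime_of_residueField A p'.asIdeal h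
    obtain ⟨g, hg, h2⟩ := Bas.exists_away A p'.asIdeal h1
    apply hg
    apply hle
    apply Ideal.subset_span
    change BasH 𝒢.s.hom (algebraMap A (Localization.Away g)) v
    rw [basH_algebraMap_iff]
    exact h2
  -- Claim B: invariance
  have claimB : ∀ q : PrimeSpectrum B, I ≤ (q.comap 𝒢.t.hom).asIdeal →
      I ≤ (q.comap 𝒢.s.hom).asIdeal := by
    intro q hqt
    by_contra hqs
    have h1 : BasH 𝒢.s.hom (algebraMap A (q.comap 𝒢.s.hom).asIdeal.ResidueField) v :=
      claimA1 _ hqs
    let φs := Ideal.ResidueField.map (q.comap 𝒢.s.hom).asIdeal q.asIdeal 𝒢.s.hom rfl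
    let φt := Ideal.ResidueField.map (q.comap 𝒢.t.hom).asIdeal q.asIdeal 𝒢.t.hom rfl
    have hs : φs.comp (algebraMap A _) =
        (algebraMap B q.asIdeal.ResidueField).comp 𝒢.s.hom := by
      ext a; exact Ideal.ResidueField.map_algebraMap _ _ _ _ a
    have ht : φt.comp (algebraMap A _) =
        (algebraMap B q.asIdeal.ResidueField).comp 𝒢.t.hom := by
      ext a; exact Ideal.ResidueField.map_algebraMap _ _ _ _ a
    have h2 := BasH.comp h1 φs
    rw [hs] at h2
    have h3 := (𝒢.basAt_s_iff_t x _).mp h2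
    unfold BasAt at h3
    rw [← ht] at h3
    have h4 := BasH.of_comp_field φt h3
    exact claimA2 _ h4 hqt
  obtain ⟨c, hcinv, hcp, hc⟩ := 𝒢.exists_inv_separating hfin hproj I claimB p (claimA2 p hx)
  refine ⟨ι, hι, x, c, hcinv, hcp, ?_⟩
  unfold BasAt
  rw [basH_algebraMap_iff]
  let Ac := Localization.Away c
  change Function.Bijective (Finsupp.linearCombination Ac (fun i => (1 : Ac) ⊗ₜ[A] v i))
  apply Bas.of_forall_maximal Ac (N := Ac ⊗[A] B)
  intro Pm hPm
  apply Bas.atPrime_of_residueField Ac Pm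
  rw [bas_tmul_iff A Ac Pm.ResidueField]
  let p' : PrimeSpectrum A := ⟨Pm.comap (algebraMap A Ac), inferInstance⟩
  have hcp' : c ∉ p'.asIdeal := by
    intro hmem
    have hmem' : algebraMap A Ac c ∈ Pm := hmem
    exact hPm.ne_top (Ideal.eq_top_of_isUnit_mem _ hmem' (IsLocalization.Away.algebraMap_isUnit c))
  have h1 : BasH 𝒢.s.hom (algebraMap A p'.asIdeal.ResidueField) v :=
    claimA1 p' (fun hle => hcp' (hc p' hle))
  let φ := Ideal.ResidueField.map p'.asIdeal Pm (algebraMap A Ac) rfl
  have h2 := BasH.comp h1 φ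
  have hφ : φ.comp (algebraMap A p'.asIdeal.ResidueField) = algebraMap A Pm.ResidueField := by
    ext a
    rw [RingHom.comp_apply, Ideal.ResidueField.map_algebraMap]
    exact (IsScalarTower.algebraMap_apply A Ac Pm.ResidueField a).symm
  rw [hφ, basH_algebraMap_iff] at h2
  exact h2

end AffGrpd

end Groth.Agent.Lib.AffGrpd13
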