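import Groth.Agent.Lib.AffGrpd13c
import Mathlib.RingTheory.Localization.Away.Basic
import Mathlib.Algebra.Category.Ring.Constructions

/-!
# Abstract affine groupoids: localization at an invariant function (helper13)
-/

set_option autoImplicit false
universe u

namespace Groth.Agent.Lib.AffGrpd13

open CategoryTheory TensorProduct Groth.Agent.Lib.BasisLocus13

section awayMap

variable {R S : Type u} [CommRing R] [CommRing S]

/-- The map `R_r → S_{r'}` induced by `f : R → S` with `f r = r'`. -/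
noncomputable def awayMap (f : R →+* S) (r : R) (r' : S) (h : f r = r') :
    Localization.Away r →+* Localization.Away r' :=
  IsLocalization.Away.lift r (g := (algebraMap S (Localization.Away r')).comp f)
    (by rw [RingHom.comp_apply, h]; exact IsLocalization.Away.algebraMap_isUnit r')

@[simp]
theorem awayMap_algebraMap (f : R →+* S) (r : R) (r' : S) (h : f r = r') (a : R) :
    awayMap f r r' h (algebraMap R _ a) = algebraMap S _ (f a) :=
  IsLocalization.Away.lift_eq _ _ _

theorem awayMap_comp_algebraMap (f : R →+* S) (r : R) (r' : S) (h : f r = r') :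
    (awayMap f r r' h).comp (algebraMap R _) = (algebraMap S _).comp f :=
  IsLocalization.Away.lift_comp _ _

theorem away_ringHom_ext {T : Type u} [CommRing T] (r : R) {φ ψ : Localization.Away r →+* T}
    (h : ∀ a, φ (algebraMap R _ a) = ψ (algebraMap R _ a)) : φ = ψ :=
  IsLocalization.ringHom_ext (Submonoid.powers r) (RingHom.ext h)

/-- The localization square is a pushout. -/
theorem isPushout_awayMap (f : R →+* S) (r : R) (r' : S) (h : f r = r') :
    IsPushout (CommRingCat.ofHom (algebraMap R (Localization.Away r))) (CommRingCat.ofHom f)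
      (CommRingCat.ofHom (awayMap f r r' h))
      (CommRingCat.ofHom (algebraMap S (Localization.Away r'))) := by
  have : IsLocalization ((Submonoid.powers r).map f) (Localization.Away r') := by
    rw [Submonoid.map_powers, h]; infer_instance
  exact (CommRingCat.isPushout_of_isLocalization f (awayMap f r r' h)
    (awayMap_comp_algebraMap f r r' h) (Submonoid.powers r)).flip

end awayMap

namespace AffGrpd

variable {A B P : CommRingCat.{u}} (𝒢 : AffGrpd A B P) (c : A) (hc : c ∈ 𝒢.inv)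

/-- The groupoid localized at an invariant function. -/
noncomputable def localize : AffGrpd (CommRingCat.of (Localization.Away c))
    (CommRingCat.of (Localization.Away (𝒢.s.hom c)))
    (CommRingCat.of (Localization.Away (𝒢.p1.hom (𝒢.s.hom c)))) where
  s := CommRingCat.ofHom (awayMap 𝒢.s.hom c _ rfl)
  t := CommRingCat.ofHom (awayMap 𝒢.t.hom c _ (𝒢.mem_inv.mp hc).symm)
  e := CommRingCat.ofHom (awayMap 𝒢.e.hom (𝒢.s.hom c) c (𝒢.hes' c))
  p0 := CommRingCat.ofHom (awayMap 𝒢.p0.hom (𝒢.s.hom c) _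
    ((𝒢.h1' c).trans (congrArg 𝒢.p1.hom (𝒢.mem_inv.mp hc).symm)))
  p1 := CommRingCat.ofHom (awayMap 𝒢.p1.hom (𝒢.s.hom c) _ rfl)
  cc := CommRingCat.ofHom (awayMap 𝒢.cc.hom (𝒢.s.hom c) _ (𝒢.h2' c))
  het := by
    apply CommRingCat.hom_ext
    apply away_ringHom_ext c
    intro a
    simp [𝒢.het']
  hes := by
    apply CommRingCat.hom_ext
    apply away_ringHom_ext c
    intro a
    simp [𝒢.hes']
  h1 := by
    apply CommRingCat.hom_ext
    apply away_ringHom_ext c
    intro a
    simp [𝒢.h1']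
  h2 := by
    apply CommRingCat.hom_ext
    apply away_ringHom_ext c
    intro a
    simp [𝒢.h2']
  h3 := by
    apply CommRingCat.hom_ext
    apply away_ringHom_ext c
    intro a
    simp [𝒢.h3']
  sq1 := by
    have Sq_s : IsPushout (CommRingCat.ofHom (algebraMap A (Localization.Away c))) 𝒢.s
        (CommRingCat.ofHom (awayMap 𝒢.s.hom c _ rfl))
        (CommRingCat.ofHom (algebraMap B (Localization.Away (𝒢.s.hom c)))) :=
      isPushout_awayMap 𝒢.s.hom c _ rfl
    have Sq_p1 : IsPushout (CommRingCat.ofHom (algebraMap B (Localization.Away (𝒢.s.hom c)))) 𝒢.p1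
        (CommRingCat.ofHom (awayMap 𝒢.p1.hom (𝒢.s.hom c) _ rfl))
        (CommRingCat.ofHom (algebraMap P (Localization.Away (𝒢.p1.hom (𝒢.s.hom c))))) :=
      isPushout_awayMap 𝒢.p1.hom (𝒢.s.hom c) _ rfl
    have big := 𝒢.sq1.flip.paste_horiz Sq_p1
    have e1 : 𝒢.t ≫ CommRingCat.ofHom (algebraMap B (Localization.Away (𝒢.s.hom c))) =
        CommRingCat.ofHom (algebraMap A (Localization.Away c)) ≫
          CommRingCat.ofHom (awayMap 𝒢.t.hom c _ (𝒢.mem_inv.mp hc).symm) := by
      apply CommRingCat.hom_ext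
      ext a
      simp
    have e2 : 𝒢.p0 ≫ CommRingCat.ofHom (algebraMap P (Localization.Away (𝒢.p1.hom (𝒢.s.hom c)))) =
        CommRingCat.ofHom (algebraMap B (Localization.Away (𝒢.s.hom c))) ≫
          CommRingCat.ofHom (awayMap 𝒢.p0.hom (𝒢.s.hom c) _
            ((𝒢.h1' c).trans (congrArg 𝒢.p1.hom (𝒢.mem_inv.mp hc).symm))) := by
      apply CommRingCat.hom_ext
      ext a
      simp
    rw [e1, e2] at big
    refine (IsPushout.of_left big ?_ Sq_s).flip
    apply CommRingCat.hom_ext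
    apply away_ringHom_ext c
    intro a
    simp [𝒢.h1']
  sq2 := by
    have Sq_s : IsPushout (CommRingCat.ofHom (algebraMap A (Localization.Away c))) 𝒢.s
        (CommRingCat.ofHom (awayMap 𝒢.s.hom c _ rfl))
        (CommRingCat.ofHom (algebraMap B (Localization.Away (𝒢.s.hom c)))) :=
      isPushout_awayMap 𝒢.s.hom c _ rfl
    have Sq_p1 : IsPushout (CommRingCat.ofHom (algebraMap B (Localization.Away (𝒢.s.hom c)))) 𝒢.p1
        (CommRingCat.ofHom (awayMap 𝒢.p1.hom (𝒢.s.hom c) _ rfl))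
        (CommRingCat.ofHom (algebraMap P (Localization.Away (𝒢.p1.hom (𝒢.s.hom c))))) :=
      isPushout_awayMap 𝒢.p1.hom (𝒢.s.hom c) _ rfl
    have big := 𝒢.sq2.flip.paste_horiz Sq_p1
    have e1 : 𝒢.s ≫ CommRingCat.ofHom (algebraMap B (Localization.Away (𝒢.s.hom c))) =
        CommRingCat.ofHom (algebraMap A (Localization.Away c)) ≫
          CommRingCat.ofHom (awayMap 𝒢.s.hom c _ rfl) := by
      apply CommRingCat.hom_ext
      ext a
      simp
    have e2 : 𝒢.cc ≫ CommRingCat.ofHom (algebraMap P (Localization.Away (𝒢.p1.hom (𝒢.s.hom c)))) =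
        CommRingCat.ofHom (algebraMap B (Localization.Away (𝒢.s.hom c))) ≫
          CommRingCat.ofHom (awayMap 𝒢.cc.hom (𝒢.s.hom c) _ (𝒢.h2' c)) := by
      apply CommRingCat.hom_ext
      ext a
      simp
    rw [e1, e2] at big
    refine (IsPushout.of_left big ?_ Sq_s).flip
    apply CommRingCat.hom_ext
    apply away_ringHom_ext c
    intro a
    simp [𝒢.h2']

theorem mem_inv_localize_iff (z : Localization.Away c) :
    z ∈ (𝒢.localize c hc).inv ↔
      ∃ (a : A) (n : ℕ), a ∈ 𝒢.inv ∧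
        z * algebraMap A (Localization.Away c) c ^ n = algebraMap A (Localization.Away c) a := by
  have hc' : 𝒢.s.hom c = 𝒢.t.hom c := 𝒢.mem_inv.mp hc
  have hu : IsUnit (algebraMap B (Localization.Away (𝒢.s.hom c)) (𝒢.s.hom c)) :=
    IsLocalization.Away.algebraMap_isUnit _
  constructor
  · intro hz
    have hz' : (𝒢.localize c hc).s.hom z = (𝒢.localize c hc).t.hom z := hz
    obtain ⟨n, a₀, h0⟩ := IsLocalization.Away.surj c z
    have h1 := congrArg (𝒢.localize c hc).s.hom h0
    have h2 := congrArg (𝒢.localize c hc).t.hom h0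
    simp only [localize, CommRingCat.hom_ofHom, map_mul, map_pow, awayMap_algebraMap] at h1 h2 hz'
    rw [← hz', ← hc'] at h2
    have h3 := h1.symm.trans h2
    obtain ⟨m, hm⟩ := IsLocalization.Away.exists_of_eq (𝒢.s.hom c) h3
    refine ⟨c ^ m * a₀, n + m, ?_, ?_⟩
    · rw [mem_inv, map_mul, map_mul, map_pow, map_pow, ← hc']
      exact hm
    · rw [pow_add, ← mul_assoc, h0, map_mul, map_pow, mul_comm]
  · rintro ⟨a, n, ha, h0⟩
    have ha' : 𝒢.s.hom a = 𝒢.t.hom a := 𝒢.mem_inv.mp ha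
    change (𝒢.localize c hc).s.hom z = (𝒢.localize c hc).t.hom z
    have h1 := congrArg (𝒢.localize c hc).s.hom h0
    have h2 := congrArg (𝒢.localize c hc).t.hom h0
    simp only [localize, CommRingCat.hom_ofHom, map_mul, map_pow, awayMap_algebraMap] at h1 h2 ⊢
    rw [← hc', ← ha', ← h1] at h2
    exact ((hu.pow n).mul_left_injective h2).symm

/-- The comparison map from the localized invariants to the localized ring. -/
noncomputable def invAwayMap : Localization.Away (⟨c, hc⟩ : 𝒢.inv) →+* Localization.Away c :=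
  awayMap 𝒢.inv.subtype ⟨c, hc⟩ c rfl

theorem invAwayMap_injective : Function.Injective (𝒢.invAwayMap c hc) := by
  rw [injective_iff_map_eq_zero]
  intro γ hγ
  have hu : IsUnit (algebraMap 𝒢.inv (Localization.Away (⟨c, hc⟩ : 𝒢.inv)) ⟨c, hc⟩) :=
    IsLocalization.Away.algebraMap_isUnit _
  obtain ⟨n, a, h⟩ := IsLocalization.Away.surj (⟨c, hc⟩ : 𝒢.inv) γ
  have h1 := congrArg (𝒢.invAwayMap c hc) h
  simp only [invAwayMap, map_mul, map_pow, awayMap_algebraMap] at h1
  rw [show awayMap 𝒢.inv.subtype ⟨c, hc⟩ c rfl γ = 0 from hγ, zero_mul] at h1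
  have h2 : algebraMap A (Localization.Away c) (𝒢.inv.subtype a) = algebraMap A _ 0 := by
    rw [← h1, map_zero]
  obtain ⟨m, hm⟩ := IsLocalization.Away.exists_of_eq c h2
  have h3 : (⟨c, hc⟩ : 𝒢.inv) ^ m * a = 0 := by
    apply Subtype.ext
    simpa using hm
  have h4 := congrArg (algebraMap 𝒢.inv (Localization.Away (⟨c, hc⟩ : 𝒢.inv))) h3
  rw [map_mul, map_pow, map_zero] at h4
  have h5 : algebraMap 𝒢.inv (Localization.Away (⟨c, hc⟩ : 𝒢.inv)) a = 0 :=
    (hu.pow m).mul_right_eq_zero.mp h4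
  rw [h5] at h
  exact (hu.pow n).mul_left_eq_zero.mp h

theorem invAwayMap_mem (γ : Localization.Away (⟨c, hc⟩ : 𝒢.inv)) :
    𝒢.invAwayMap c hc γ ∈ (𝒢.localize c hc).inv := by
  rw [mem_inv_localize_iff]
  obtain ⟨n, a, h⟩ := IsLocalization.Away.surj (⟨c, hc⟩ : 𝒢.inv) γ
  refine ⟨a.1, n, a.2, ?_⟩
  have h1 := congrArg (𝒢.invAwayMap c hc) h
  simp only [invAwayMap, map_mul, map_pow, awayMap_algebraMap] at h1
  exact h1

theorem exists_invAwayMap_eq (z : Localization.Away c) (hz : z ∈ (𝒢.localize c hc).inv) :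
    ∃ γ, 𝒢.invAwayMap c hc γ = z := by
  obtain ⟨a, n, ha, h0⟩ := (𝒢.mem_inv_localize_iff c hc z).mp hz
  have hu : IsUnit (algebraMap A (Localization.Away c) c) :=
    IsLocalization.Away.algebraMap_isUnit _
  let y : Submonoid.powers (⟨c, hc⟩ : 𝒢.inv) := ⟨⟨c, hc⟩ ^ n, n, rfl⟩
  refine ⟨IsLocalization.mk' (Localization.Away (⟨c, hc⟩ : 𝒢.inv)) (⟨a, ha⟩ : 𝒢.inv) y, ?_⟩
  have h1 := IsLocalization.mk'_spec (Localization.Away (⟨c, hc⟩ : 𝒢.inv)) (⟨a, ha⟩ : 𝒢.inv) y
  have h2 := congrArg (𝒢.invAwayMap c hc) h1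
  simp only [invAwayMap, map_mul, awayMap_algebraMap, y, map_pow] at h2
  have h3 : 𝒢.inv.subtype (⟨a, ha⟩ : 𝒢.inv) = a := rfl
  have h4 : 𝒢.inv.subtype (⟨c, hc⟩ : 𝒢.inv) = c := rfl
  rw [h3, h4, ← h0] at h2
  exact (hu.pow n).mul_left_injective h2

/-- Key lemma: if `t(x_i)` is a basis of `B_c` over `A_c`, then `x_i` is a basis of
`C_c ⊗_C A` over `C_c`, where `C` is the ring of invariants. -/
theorem bas_inv_of_basAt {ι : Type u} (x : ι → A)
    (hx : 𝒢.BasAt x (algebraMap A (Localization.Away c))) :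
    BasH 𝒢.inv.subtype (algebraMap 𝒢.inv (Localization.Away (⟨c, hc⟩ : 𝒢.inv))) x := by
  classical
  let 𝒢' := 𝒢.localize c hc
  let Ac := Localization.Away c
  let Bc := Localization.Away (𝒢.s.hom c)
  let Cc := Localization.Away (⟨c, hc⟩ : 𝒢.inv)
  let ιA : A →+* Ac := algebraMap A Ac
  -- Step 1: the basis hypothesis for the localized groupoid
  have hB : letI := 𝒢'.s.hom.toAlgebra
      ∃ b : Module.Basis ι Ac Bc, ∀ i, b i = 𝒢'.t.hom (ιA (x i)) := by
    have sq := (isPushout_awayMap 𝒢.s.hom c _ rfl).flip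
    have hx' : BasH 𝒢.s.hom ((RingHom.id Ac).comp (algebraMap A Ac)) (fun i => 𝒢.t.hom (x i)) := by
      rw [RingHom.id_comp]; exact hx
    have h1 := (basH_pushout sq (fun i => 𝒢.t.hom (x i)) (RingHom.id Ac)).mp hx'
    have hid : RingHom.id Ac = algebraMap Ac Ac := rfl
    rw [hid, basH_algebraMap_iff] at h1
    let _ : Algebra Ac Bc := 𝒢'.s.hom.toAlgebra
    have h2 := (bas_self_iff Ac _).mp h1
    have hli : LinearIndependent Ac
        (fun i => algebraMap B Bc (𝒢.t.hom (x i))) := h2.1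
    have hsp : ⊤ ≤ Submodule.span Ac (Set.range (fun i => algebraMap B Bc (𝒢.t.hom (x i)))) := by
      rw [← Finsupp.range_linearCombination]
      exact (LinearMap.range_eq_top.mpr h2.2).ge
    refine ⟨Module.Basis.mk hli hsp, fun i => ?_⟩
    rw [Module.Basis.mk_apply]
    exact (awayMap_algebraMap 𝒢.t.hom c _ (𝒢.mem_inv.mp hc).symm (x i)).symm
  -- Step 2: Stacks 03BH for the localized groupoid
  obtain ⟨⟨b', hb'⟩, -⟩ := Lib.GrpdBasis13.main 𝒢'.s 𝒢'.t 𝒢'.e 𝒢'.p0 𝒢'.p1 𝒢'.cc 𝒢'.het 𝒢'.hes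
    𝒢'.h1 𝒢'.h2 𝒢'.h3 𝒢'.sq1 𝒢'.sq2 ι (fun i => ιA (x i)) hB
  -- Step 3: transfer along the pushout square `C → A`, `C → C_c`
  have sqC := (isPushout_awayMap 𝒢.inv.subtype ⟨c, hc⟩ c rfl).flip
  rw [← RingHom.id_comp (algebraMap 𝒢.inv Cc)]
  refine (basH_pushout sqC x (RingHom.id Cc)).mpr ?_
  have hid : RingHom.id Cc = algebraMap Cc Cc := rfl
  rw [hid, basH_algebraMap_iff]
  let φ : Cc →+* Ac := 𝒢.invAwayMap c hc
  let _ : Algebra Cc Ac := φ.toAlgebra
  refine (bas_self_iff Cc _).mpr ?_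
  -- Step 4: compare coefficients along `C_c ≃ C'`
  let C' := RingHom.eqLocus 𝒢'.s.hom 𝒢'.t.hom
  let ψ : Cc →+* C' := φ.codRestrict C' (fun γ => 𝒢.invAwayMap_mem c hc γ)
  have hψ : Function.Bijective ψ := by
    constructor
    · intro γ γ' h
      apply 𝒢.invAwayMap_injective c hc
      exact congrArg Subtype.val h
    · rintro ⟨z, hz⟩
      obtain ⟨γ, hγ⟩ := 𝒢.exists_invAwayMap_eq c hc z hz
      exact ⟨γ, Subtype.ext hγ⟩
  let Ψ : Cc ≃+* C' := RingEquiv.ofBijective ψ hψ
  have key : (Finsupp.linearCombination Cc (fun i => ιA (x i)) : (ι →₀ Cc) → Ac) =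
      (Finsupp.linearCombination C' (fun i => ιA (x i))) ∘
        (Finsupp.mapRange.addEquiv (Ψ : Cc ≃+ C')) := by
    funext l
    rw [Function.comp_apply, Finsupp.linearCombination_apply, Finsupp.linearCombination_apply]
    change _ = (Finsupp.mapRange Ψ (map_zero _) l).sum _
    rw [Finsupp.sum_mapRange_index (by simp)]
    rfl
  have hfam : (fun i => ιA (x i)) = b' := funext fun i => (hb' i).symm
  change Function.Bijective (Finsupp.linearCombination Cc (fun i => ιA (x i)))
  rw [key, hfam, ← Module.Basis.coe_repr_symm]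
  exact b'.repr.symm.bijective.comp (Finsupp.mapRange.addEquiv (Ψ : Cc ≃+ C')).bijective

end AffGrpd

end Groth.Agent.Lib.AffGrpd13
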