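import Groth.Agent.Lib.AffGrpd13d
import Mathlib.RingTheory.Flat.Localization
import Mathlib.RingTheory.LocalProperties.FinitePresentation
import Mathlib.RingTheory.Localization.Finiteness
import Mathlib.RingTheory.Ideal.GoingUp

/-!
# Abstract affine groupoids: the quotient by a finite locally free equivalence relation (helper13)

Ring-level form of Stacks 03BM: `A` is finite locally free over the invariants `C`, and
`A ⊗_C A ≅ B`.
-/

set_option autoImplicit false
universe u

namespace Groth.Agent.Lib.AffGrpd13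

open CategoryTheory TensorProduct Groth.Agent.Lib.BasisLocus13

theorem basH_algebraMap_algebraMap_iff {R S : Type u} [CommRing R] [CommRing S]
    [instS : Algebra R S] {ι : Type u} (K : Type u) [CommRing K] [inst : Algebra R K] (v : ι → S) :
    BasH (algebraMap R S) (algebraMap R K) v ↔ Bas R K v := by
  have h1 : (algebraMap R K).toAlgebra = inst := Algebra.algebra_ext _ _ fun _ => rfl
  have h2 : (algebraMap R S).toAlgebra = instS := Algebra.algebra_ext _ _ fun _ => rfl
  unfold BasH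
  rw [h1, h2]

namespace AffGrpd

variable {A B P : CommRingCat.{u}} (𝒢 : AffGrpd A B P)

/-- Good invariant functions: `t(x_i)` is a basis of `B_c` over `A_c` for some finite family `x`. -/
def Good (c : A) : Prop :=
  c ∈ 𝒢.inv ∧ ∃ (ι : Type u) (_ : Finite ι) (x : ι → A),
    𝒢.BasAt x (algebraMap A (Localization.Away c))

section

variable (hfin : letI := 𝒢.s.hom.toAlgebra; Module.Finite A B)
  (hproj : letI := 𝒢.s.hom.toAlgebra; Module.Projective A B)
  (hsurj : letI := 𝒢.s.hom.toAlgebra; Submodule.span A (Set.range 𝒢.t.hom) = ⊤)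
include hfin hproj hsurj

theorem span_good_eq_top : Ideal.span {c : A | 𝒢.Good c} = ⊤ := by
  by_contra h
  obtain ⟨m, hm, hle⟩ := Ideal.exists_le_maximal _ h
  obtain ⟨ι, hι, x, c, hc, hcm, hb⟩ := 𝒢.exists_inv_basis hfin hproj hsurj ⟨m, hm.isPrime⟩
  exact hcm (hle (Ideal.subset_span ⟨hc, ι, hι, x, hb⟩))

omit hsurj in
theorem isIntegral : Algebra.IsIntegral 𝒢.inv A := by
  let alg : Algebra A B := 𝒢.s.hom.toAlgebra
  obtain ⟨n, σ, i, -, -, hσi⟩ := Module.Finite.exists_comp_eq_id_of_projective A B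
  exact ⟨fun f => 𝒢.isIntegral_of_retract i σ hσi f⟩

theorem span_good_inv_eq_top : Ideal.span {γ : 𝒢.inv | 𝒢.Good γ.1} = ⊤ := by
  by_contra h
  obtain ⟨m, hm, hle⟩ := Ideal.exists_le_maximal _ h
  have := 𝒢.isIntegral hfin hproj
  have hbot : Ideal.comap (algebraMap 𝒢.inv A) ⊥ ≤ m := by
    intro γ hγ
    have h0 : γ = 0 := Subtype.ext (by simpa using hγ)
    rw [h0]; exact zero_mem _
  obtain ⟨Q, -, hQ, hQm⟩ := Ideal.exists_ideal_over_prime_of_isIntegral m (⊥ : Ideal A) hbot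
  obtain ⟨ι, hι, x, c, hc, hcQ, hb⟩ := 𝒢.exists_inv_basis hfin hproj hsurj ⟨Q, hQ⟩
  apply hcQ
  have hmem : (⟨c, hc⟩ : 𝒢.inv) ∈ m := hle (Ideal.subset_span ⟨hc, ι, hι, x, hb⟩)
  rw [← hQm] at hmem
  exact hmem

/-- `A` is finite locally free over the invariants. -/
theorem finite_flat_fp :
    Module.Finite 𝒢.inv A ∧ Module.Flat 𝒢.inv A ∧ Module.FinitePresentation 𝒢.inv A := by
  let T : Set 𝒢.inv := {γ | 𝒢.Good γ.1}
  have hT : Ideal.span T = ⊤ := 𝒢.span_good_inv_eq_top hfin hproj hsurj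
  have key : ∀ γ : T, Module.Finite (Localization.Away γ.1) (Localization.Away γ.1 ⊗[𝒢.inv] A) ∧
      Module.Free (Localization.Away γ.1) (Localization.Away γ.1 ⊗[𝒢.inv] A) := by
    rintro ⟨γ, hγ, ι, hι, x, hx⟩
    have h1 := 𝒢.bas_inv_of_basAt γ.1 γ.2 x hx
    rw [show 𝒢.inv.subtype = algebraMap 𝒢.inv A from rfl, basH_algebraMap_algebraMap_iff] at h1
    obtain ⟨b, -⟩ := (bas_iff_exists_basis 𝒢.inv (Localization.Away γ) x).mp h1
    have := Fintype.ofFinite ι
    exact ⟨Module.Finite.of_basis b, Module.Free.of_basis b⟩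
  refine ⟨?_, ?_, ?_⟩
  · exact Module.Finite.of_localizationSpan' (Rₚ := fun γ : T => Localization.Away γ.1) T hT
      (fun γ => TensorProduct.mk 𝒢.inv (Localization.Away γ.1) A 1) (fun γ => (key γ).1)
  · refine Module.flat_of_isLocalized_span 𝒢.inv A T hT
      (fun γ => Localization.Away γ.1 ⊗[𝒢.inv] A)
      (fun γ => TensorProduct.mk 𝒢.inv (Localization.Away γ.1) A 1) (fun γ => ?_)
    have := (key γ).2
    exact Module.Flat.trans 𝒢.inv (Localization.Away γ.1) _
  · refine Module.FinitePresentation.of_localizationSpan'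
      (Rₚ := fun γ : T => Localization.Away γ.1) T hT
      (fun γ => TensorProduct.mk 𝒢.inv (Localization.Away γ.1) A 1) (fun γ => ?_)
    have := (key γ).1
    have := (key γ).2
    exact Module.finitePresentation_of_projective _ _

/-- `A ⊗_C A → B`, `a ⊗ a' ↦ t(a) s(a')`, is bijective. -/
theorem tensor_bijective (Ψ : A ⊗[𝒢.inv] A →+ B)
    (hΨ : ∀ a a' : A, Ψ (a ⊗ₜ a') = 𝒢.t.hom a * 𝒢.s.hom a') : Function.Bijective Ψ := by
  classical
  let algAB : Algebra A B := 𝒢.s.hom.toAlgebra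
  let algCB : Algebra 𝒢.inv B := (𝒢.s.hom.comp 𝒢.inv.subtype).toAlgebra
  have tower : IsScalarTower 𝒢.inv A B := .of_algebraMap_eq' rfl
  let l : A →ₗ[𝒢.inv] B :=
    { toFun := fun a => 𝒢.t.hom a
      map_add' := map_add _
      map_smul' := fun γ a => by
        change 𝒢.t.hom (γ.1 * a) = 𝒢.s.hom γ.1 * 𝒢.t.hom a
        rw [map_mul, ← 𝒢.mem_inv.mp γ.2] }
  let Φ : A ⊗[𝒢.inv] A →ₗ[A] B := LinearMap.liftBaseChange A l
  have hΦ : ∀ a a' : A, Φ (a ⊗ₜ a') = 𝒢.s.hom a * 𝒢.t.hom a' := fun a a' =>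
    LinearMap.liftBaseChange_tmul A l a a'
  have hΦbij : Function.Bijective Φ := by
    let T : Set A := {c | 𝒢.Good c}
    have hT : Ideal.span T = ⊤ := 𝒢.span_good_eq_top hfin hproj hsurj
    refine bijective_of_isLocalized_span T hT
      (fun c => Localization.Away c.1 ⊗[A] (A ⊗[𝒢.inv] A))
      (fun c => TensorProduct.mk A (Localization.Away c.1) _ 1)
      (fun c => Localization.Away c.1 ⊗[A] B)
      (fun c => TensorProduct.mk A (Localization.Away c.1) B 1) Φ ?_
    rintro ⟨c, hc, ι, hι, x, hx⟩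
    let Ac := Localization.Away c
    have hmap : IsLocalizedModule.map (Submonoid.powers c)
        (TensorProduct.mk A Ac (A ⊗[𝒢.inv] A) 1) (TensorProduct.mk A Ac B 1) Φ =
        (Φ.baseChange Ac).restrictScalars A := by
      apply IsLocalizedModule.linearMap_ext (Submonoid.powers c)
        (TensorProduct.mk A Ac (A ⊗[𝒢.inv] A) 1) (TensorProduct.mk A Ac B 1)
      rw [IsLocalizedModule.map_comp]
      ext z
      simp
    change Function.Bijective (IsLocalizedModule.map (Submonoid.powers c)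
        (TensorProduct.mk A Ac (A ⊗[𝒢.inv] A) 1) (TensorProduct.mk A Ac B 1) Φ)
    rw [hmap]
    change Function.Bijective (Φ.baseChange Ac)
    have h2 : Bas A Ac (fun i => 𝒢.t.hom (x i)) := (basH_algebraMap_iff 𝒢.s.hom Ac _).mp hx
    have h1 : Bas 𝒢.inv Ac x := by
      have h0 := 𝒢.bas_inv_of_basAt c hc x hx
      have h0' := BasH.comp h0 (𝒢.invAwayMap c hc)
      have hcomp : (𝒢.invAwayMap c hc).comp (algebraMap 𝒢.inv _) = algebraMap 𝒢.inv Ac := by
        rw [invAwayMap, awayMap_comp_algebraMap]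
        exact (IsScalarTower.algebraMap_eq 𝒢.inv A Ac).symm
      rw [hcomp, show 𝒢.inv.subtype = algebraMap 𝒢.inv A from rfl,
        basH_algebraMap_algebraMap_iff] at h0'
      exact h0'
    let E : Ac ⊗[A] (A ⊗[𝒢.inv] A) ≃ₗ[Ac] Ac ⊗[𝒢.inv] A :=
      TensorProduct.AlgebraTensorModule.cancelBaseChange 𝒢.inv A Ac Ac A
    let L1 : (ι →₀ Ac) →ₗ[Ac] Ac ⊗[𝒢.inv] A :=
      Finsupp.linearCombination Ac (fun i => (1 : Ac) ⊗ₜ[𝒢.inv] x i)
    let L2 : (ι →₀ Ac) →ₗ[Ac] Ac ⊗[A] B :=
      Finsupp.linearCombination Ac (fun i => (1 : Ac) ⊗ₜ[A] 𝒢.t.hom (x i))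
    have hcomp : (Φ.baseChange Ac).comp (E.symm.toLinearMap.comp L1) = L2 := by
      ext i
      simp [L1, L2, E, hΦ]
    have hL1 : Function.Bijective L1 := h1
    have hL2 : Function.Bijective L2 := h2
    have h3 : Function.Bijective ((Φ.baseChange Ac) ∘ (E.symm ∘ L1)) := by
      have : ((Φ.baseChange Ac) ∘ (E.symm ∘ L1) : _ → _) = L2 := by
        funext z
        exact LinearMap.congr_fun hcomp z
      rw [this]; exact hL2
    exact (Function.Bijective.of_comp_iff _ (E.symm.bijective.comp hL1)).mp h3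
  have hΨΦ : ∀ z, Ψ z = Φ (TensorProduct.comm 𝒢.inv A A z) := by
    intro z
    induction z using TensorProduct.induction_on with
    | zero => simp
    | tmul a a' => rw [hΨ, TensorProduct.comm_tmul, hΦ, mul_comm]
    | add z w hz hw => rw [map_add, map_add, map_add, hz, hw]
  have : (Ψ : _ → _) = Φ ∘ (TensorProduct.comm 𝒢.inv A A) := funext hΨΦ
  rw [this]
  exact hΦbij.comp (TensorProduct.comm 𝒢.inv A A).bijective

end

end AffGrpd

end Groth.Agent.Lib.AffGrpd13
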