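import Groth.Prelude.Def_Grpd

/-!
# T-point calculus for groupoid schemes (`Grpd.GroupoidScheme`)

`cmp G α β` is the composite `α ∘ β` of two `T`-valued points of `R` (a total function: it
returns `α` when `s ∘ α ≠ t ∘ β`), so that one can rewrite inside it freely.  All lemmas carry the
composability hypotheses explicitly.

Main results:
* `cmp_eq`, `precomp_cmp`, `cmp_s`, `cmp_t`, `cmp_assoc`, `cmp_e`, `e_cmp`, `cmp_i`, `i_cmp`,
  `lift_c` : the groupoid axioms in this calculus;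
* `isPullback_c_snd : IsPullback G.c (pullback.snd G.s G.t) G.s G.s`;
* `isPullback_c_fst : IsPullback G.c (pullback.fst G.s G.t) G.t G.t`.
-/

set_option autoImplicit false
universe u

open CategoryTheory CategoryTheory.Limits AlgebraicGeometry

namespace Groth.Agent.Lib.GrpdPts

variable {S : Scheme.{u}} (G : Grpd.GroupoidScheme S)

open Classical in
/-- Composition `α ∘ β` on `T`-valued points of `R` (junk value `α` if not composable). -/
noncomputable def cmp {T : Scheme.{u}} (α β : T ⟶ G.R) : T ⟶ G.R :=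
  if h : α ≫ G.s = β ≫ G.t then pullback.lift α β h ≫ G.c else α

variable {G}
variable {T T' : Scheme.{u}}

theorem cmp_eq {α β : T ⟶ G.R} (h : α ≫ G.s = β ≫ G.t) :
    cmp G α β = pullback.lift α β h ≫ G.c := dif_pos h

theorem lift_c {α β : T ⟶ G.R} (h : α ≫ G.s = β ≫ G.t) :
    pullback.lift α β h ≫ G.c = cmp G α β := (cmp_eq h).symm

theorem precomp_cmp (f : T' ⟶ T) {α β : T ⟶ G.R} (h : α ≫ G.s = β ≫ G.t) :
    f ≫ cmp G α β = cmp G (f ≫ α) (f ≫ β) := by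
  have h' : (f ≫ α) ≫ G.s = (f ≫ β) ≫ G.t := by
    rw [Category.assoc, Category.assoc, h]
  rw [cmp_eq h, cmp_eq h', ← Category.assoc]
  congr 1
  apply pullback.hom_ext
  · rw [Category.assoc, pullback.lift_fst, pullback.lift_fst]
  · rw [Category.assoc, pullback.lift_snd, pullback.lift_snd]

theorem cmp_s {α β : T ⟶ G.R} (h : α ≫ G.s = β ≫ G.t) : cmp G α β ≫ G.s = β ≫ G.s := by
  rw [cmp_eq h]; exact G.comp_s α β h

theorem cmp_t {α β : T ⟶ G.R} (h : α ≫ G.s = β ≫ G.t) : cmp G α β ≫ G.t = α ≫ G.t := by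
  rw [cmp_eq h]; exact G.comp_t α β h

theorem cmp_assoc {α β γ : T ⟶ G.R} (h₁ : α ≫ G.s = β ≫ G.t) (h₂ : β ≫ G.s = γ ≫ G.t) :
    cmp G (cmp G α β) γ = cmp G α (cmp G β γ) := by
  have h3 : cmp G α β ≫ G.s = γ ≫ G.t := (cmp_s h₁).trans h₂
  have h4 : α ≫ G.s = cmp G β γ ≫ G.t := h₁.trans (cmp_t h₂).symm
  rw [cmp_eq h3, cmp_eq h4]
  have := G.assoc α β γ h₁ h₂
  simp only [lift_c] at this
  simpa [lift_c] using this

/-- Right identity. -/
theorem cmp_e (α : T ⟶ G.R) : cmp G α (α ≫ G.s ≫ G.e) = α := by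
  have h : α ≫ G.s = (α ≫ G.s ≫ G.e) ≫ G.t := by
    rw [Category.assoc, Category.assoc, G.e_t, Category.comp_id]
  rw [cmp_eq h]; exact G.comp_e α

/-- Right identity, flexible form. -/
theorem cmp_e' (α : T ⟶ G.R) {ε : T ⟶ G.R} (hε : ε = α ≫ G.s ≫ G.e) : cmp G α ε = α := by
  rw [hε]; exact cmp_e α

/-- Left identity. -/
theorem e_cmp (α : T ⟶ G.R) : cmp G (α ≫ G.t ≫ G.e) α = α := by
  have h : (α ≫ G.t ≫ G.e) ≫ G.s = α ≫ G.t := by
    rw [Category.assoc, Category.assoc, G.e_s, Category.comp_id]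
  rw [cmp_eq h]; exact G.e_comp α

/-- Left identity, flexible form. -/
theorem e_cmp' (α : T ⟶ G.R) {ε : T ⟶ G.R} (hε : ε = α ≫ G.t ≫ G.e) : cmp G ε α = α := by
  rw [hε]; exact e_cmp α

theorem cmp_i (α : T ⟶ G.R) : cmp G α (α ≫ G.i) = α ≫ G.t ≫ G.e := by
  have h : α ≫ G.s = (α ≫ G.i) ≫ G.t := by rw [Category.assoc, G.i_t]
  rw [cmp_eq h]; exact G.comp_i α

theorem i_cmp (α : T ⟶ G.R) : cmp G (α ≫ G.i) α = α ≫ G.s ≫ G.e := by
  have h : (α ≫ G.i) ≫ G.s = α ≫ G.t := by rw [Category.assoc, G.i_s]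
  rw [cmp_eq h]; exact G.i_comp α

/-- `(α ∘ β) ∘ β⁻¹ = α`. -/
theorem cmp_cmp_i {α β : T ⟶ G.R} (h : α ≫ G.s = β ≫ G.t) :
    cmp G (cmp G α β) (β ≫ G.i) = α := by
  have h2 : β ≫ G.s = (β ≫ G.i) ≫ G.t := by rw [Category.assoc, G.i_t]
  rw [cmp_assoc h h2, cmp_i]
  apply cmp_e'
  rw [← Category.assoc, ← Category.assoc, h]

/-- `(γ ∘ β⁻¹) ∘ β = γ` when `s γ = s β`. -/
theorem cmp_i_cmp {γ β : T ⟶ G.R} (h : γ ≫ G.s = β ≫ G.s) :
    cmp G (cmp G γ (β ≫ G.i)) β = γ := by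
  have h1 : γ ≫ G.s = (β ≫ G.i) ≫ G.t := by rw [Category.assoc, G.i_t, h]
  have h2 : (β ≫ G.i) ≫ G.s = β ≫ G.t := by rw [Category.assoc, G.i_s]
  rw [cmp_assoc h1 h2, i_cmp]
  apply cmp_e'
  rw [← Category.assoc, ← Category.assoc, h]

/-- `α⁻¹ ∘ (α ∘ β) = β`. -/
theorem i_cmp_cmp {α β : T ⟶ G.R} (h : α ≫ G.s = β ≫ G.t) :
    cmp G (α ≫ G.i) (cmp G α β) = β := by
  have h2 : (α ≫ G.i) ≫ G.s = α ≫ G.t := by rw [Category.assoc, G.i_s]
  rw [← cmp_assoc h2 h, i_cmp]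
  apply e_cmp'
  rw [← Category.assoc, ← Category.assoc, h]

/-- `α ∘ (α⁻¹ ∘ γ) = γ` when `t α = t γ`. -/
theorem cmp_i_cmp' {α γ : T ⟶ G.R} (h : α ≫ G.t = γ ≫ G.t) :
    cmp G α (cmp G (α ≫ G.i) γ) = γ := by
  have h1 : α ≫ G.s = (α ≫ G.i) ≫ G.t := by rw [Category.assoc, G.i_t]
  have h2 : (α ≫ G.i) ≫ G.s = γ ≫ G.t := by rw [Category.assoc, G.i_s, h]
  rw [← cmp_assoc h1 h2, cmp_i]
  apply e_cmp'
  rw [← Category.assoc, ← Category.assoc, h]

/-- The composition morphism is `cmp` of the two projections. -/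
theorem c_eq_cmp : G.c = cmp G (pullback.fst G.s G.t) (pullback.snd G.s G.t) := by
  rw [cmp_eq pullback.condition]
  have : pullback.lift (pullback.fst G.s G.t) (pullback.snd G.s G.t) pullback.condition = 𝟙 _ := by
    apply pullback.hom_ext <;> simp
  rw [this, Category.id_comp]

theorem comp_c (m : T ⟶ pullback G.s G.t) :
    m ≫ G.c = cmp G (m ≫ pullback.fst _ _) (m ≫ pullback.snd _ _) := by
  rw [c_eq_cmp, precomp_cmp m pullback.condition]

variable (G)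

/-- The square `(c, pr₁; s, s)` is cartesian: `(α, β) ↦ (α ∘ β, β)` identifies `R ×_{s,U,t} R` with
`R ×_{s,U,s} R`. -/
theorem isPullback_c_snd : IsPullback G.c (pullback.snd G.s G.t) G.s G.s := by
  refine ⟨⟨?_⟩, ⟨PullbackCone.IsLimit.mk _
    (fun s => pullback.lift (cmp G s.fst (s.snd ≫ G.i)) s.snd ?_) ?_ ?_ ?_⟩⟩
  · rw [c_eq_cmp, cmp_s pullback.condition]
  · have h1 : s.fst ≫ G.s = (s.snd ≫ G.i) ≫ G.t := by
      rw [Category.assoc, G.i_t, s.condition]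
    rw [cmp_s h1, Category.assoc, G.i_s]
  · intro s
    rw [comp_c]
    simp only [pullback.lift_fst, pullback.lift_snd]
    exact cmp_i_cmp s.condition
  · intro s
    exact pullback.lift_snd _ _ _
  · intro s m hm₁ hm₂
    apply pullback.hom_ext
    · simp only [pullback.lift_fst]
      rw [← hm₁, ← hm₂, comp_c]
      have h : (m ≫ pullback.fst G.s G.t) ≫ G.s = (m ≫ pullback.snd G.s G.t) ≫ G.t := by
        rw [Category.assoc, Category.assoc, pullback.condition]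
      exact (cmp_cmp_i h).symm
    · simp only [pullback.lift_snd]
      exact hm₂

/-- The square `(c, pr₀; t, t)` is cartesian: `(α, β) ↦ (α ∘ β, α)` identifies `R ×_{s,U,t} R` with
`R ×_{t,U,t} R`. -/
theorem isPullback_c_fst : IsPullback G.c (pullback.fst G.s G.t) G.t G.t := by
  refine ⟨⟨?_⟩, ⟨PullbackCone.IsLimit.mk _
    (fun s => pullback.lift s.snd (cmp G (s.snd ≫ G.i) s.fst) ?_) ?_ ?_ ?_⟩⟩
  · rw [c_eq_cmp, cmp_t pullback.condition]
  · have h1 : (s.snd ≫ G.i) ≫ G.s = s.fst ≫ G.t := by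
      rw [Category.assoc, G.i_s, s.condition]
    rw [cmp_t h1, Category.assoc, G.i_t]
  · intro s
    rw [comp_c]
    simp only [pullback.lift_fst, pullback.lift_snd]
    exact cmp_i_cmp' s.condition.symm
  · intro s
    exact pullback.lift_fst _ _ _
  · intro s m hm₁ hm₂
    apply pullback.hom_ext
    · simp only [pullback.lift_fst]
      exact hm₂
    · simp only [pullback.lift_snd]
      rw [← hm₁, ← hm₂, comp_c]
      have h : (m ≫ pullback.fst G.s G.t) ≫ G.s = (m ≫ pullback.snd G.s G.t) ≫ G.t := by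
        rw [Category.assoc, Category.assoc, pullback.condition]
      exact (i_cmp_cmp h).symm

end Groth.Agent.Lib.GrpdPts
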