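import Groth.Agent.Lib.AffGrpd13e
import Groth.Agent.Lib.GrpdPts
import Groth.Prelude.Def_Grpd
import Mathlib.AlgebraicGeometry.Morphisms.Affine
import Mathlib.AlgebraicGeometry.Morphisms.Finite
import Mathlib.AlgebraicGeometry.Morphisms.Flat
import Mathlib.AlgebraicGeometry.Morphisms.FinitePresentation
import Mathlib.AlgebraicGeometry.Morphisms.ClosedImmersion
import Mathlib.RingTheory.Finiteness.ModuleFinitePresentation
import Mathlib.RingTheory.Flat.EquationalCriterion

/-!
# From affine groupoid schemes to abstract affine groupoids (helper13)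
-/

set_option autoImplicit false
universe u

namespace Groth.Agent.Lib.AffGrpd13

open CategoryTheory CategoryTheory.Limits AlgebraicGeometry Grpd

variable {S : Scheme.{u}} (G : GroupoidScheme S) [IsAffine G.U] [IsAffine G.R]

/-- The ring-level data of an affine groupoid scheme. -/
noncomputable def ofGroupoid : AffGrpd Γ(G.U, ⊤) Γ(G.R, ⊤) Γ(pullback G.s G.t, ⊤) where
  s := G.s.appTop
  t := G.t.appTop
  e := G.e.appTop
  p0 := (pullback.fst G.s G.t).appTop
  p1 := (pullback.snd G.s G.t).appTop
  cc := G.c.appTop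
  het := by rw [← Scheme.Hom.comp_appTop, G.e_t]; rfl
  hes := by rw [← Scheme.Hom.comp_appTop, G.e_s]; rfl
  h1 := by rw [← Scheme.Hom.comp_appTop, ← Scheme.Hom.comp_appTop, pullback.condition]
  h2 := by
    have hcs : G.c ≫ G.s = pullback.snd G.s G.t ≫ G.s := by
      rw [Lib.GrpdPts.c_eq_cmp, Lib.GrpdPts.cmp_s pullback.condition]
    rw [← Scheme.Hom.comp_appTop, ← Scheme.Hom.comp_appTop, hcs]
  h3 := by
    have hct : G.c ≫ G.t = pullback.fst G.s G.t ≫ G.t := by
      rw [Lib.GrpdPts.c_eq_cmp, Lib.GrpdPts.cmp_t pullback.condition]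
    rw [← Scheme.Hom.comp_appTop, ← Scheme.Hom.comp_appTop, hct]
  sq1 := isPushout_appTop_of_isPullback (IsPullback.of_hasPullback G.s G.t)
  sq2 := isPushout_appTop_of_isPullback (Lib.GrpdPts.isPullback_c_snd G)

theorem ofGroupoid_inv : (ofGroupoid G).inv = G.invariants := rfl

omit [IsAffine G.U] [IsAffine G.R] in
theorem toQuot_comm : G.t ≫ G.toQuot = G.s ≫ G.toQuot := by
  unfold GroupoidScheme.toQuot
  rw [← Category.assoc, ← Category.assoc, Scheme.toSpecΓ_naturality, Scheme.toSpecΓ_naturality,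
    Category.assoc, Category.assoc, ← Spec.map_comp, ← Spec.map_comp]
  congr 2
  apply CommRingCat.hom_ext
  ext γ
  exact γ.2.symm

section hyps

variable [IsFinite G.s] [Flat G.s] [LocallyOfFinitePresentation G.s]

omit [Flat G.s] [LocallyOfFinitePresentation G.s] in
theorem ofGroupoid_finite :
    letI := (ofGroupoid G).s.hom.toAlgebra
    Module.Finite Γ(G.U, ⊤) Γ(G.R, ⊤) :=
  G.s.finite_appTop

theorem ofGroupoid_projective :
    letI := (ofGroupoid G).s.hom.toAlgebra
    Module.Projective Γ(G.U, ⊤) Γ(G.R, ⊤) := by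
  let alg : Algebra Γ(G.U, ⊤) Γ(G.R, ⊤) := G.s.appTop.hom.toAlgebra
  have h1 : Module.Finite Γ(G.U, ⊤) Γ(G.R, ⊤) := G.s.finite_appTop
  have h2 : Module.Flat Γ(G.U, ⊤) Γ(G.R, ⊤) := G.s.flat_appTop
  have h3 : Algebra.FinitePresentation Γ(G.U, ⊤) Γ(G.R, ⊤) := G.s.finitePresentation_appTop
  have h4 : Module.FinitePresentation Γ(G.U, ⊤) Γ(G.R, ⊤) :=
    Module.FinitePresentation.of_finite_of_finitePresentation ..
  change Module.Projective Γ(G.U, ⊤) Γ(G.R, ⊤)
  exact Module.Flat.projective_of_finitePresentation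

omit [Flat G.s] [LocallyOfFinitePresentation G.s] in
theorem ofGroupoid_span [Mono G.j] :
    letI := (ofGroupoid G).s.hom.toAlgebra
    Submodule.span Γ(G.U, ⊤) (Set.range (ofGroupoid G).t.hom) = ⊤ := by
  let alg : Algebra Γ(G.U, ⊤) Γ(G.R, ⊤) := G.s.appTop.hom.toAlgebra
  let ψ : G.R ⟶ pullback G.toQuot G.toQuot := pullback.lift G.t G.s (toQuot_comm G)
  have hmono : Mono ψ := by
    constructor
    intro T a b hab
    have h1 : a ≫ G.t = b ≫ G.t := by
      have := congrArg (· ≫ pullback.fst _ _) hab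
      simpa only [Category.assoc, ψ, pullback.lift_fst] using this
    have h2 : a ≫ G.s = b ≫ G.s := by
      have := congrArg (· ≫ pullback.snd _ _) hab
      simpa only [Category.assoc, ψ, pullback.lift_snd] using this
    rw [← cancel_mono G.j]
    apply pullback.hom_ext
    · simpa only [Category.assoc, GroupoidScheme.j, pullback.lift_fst] using h1
    · simpa only [Category.assoc, GroupoidScheme.j, pullback.lift_snd] using h2
  have hfin : IsFinite ψ := by
    have : IsFinite (ψ ≫ pullback.snd G.toQuot G.toQuot) := by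
      rw [pullback.lift_snd]; infer_instance
    exact IsFinite.of_comp ψ (pullback.snd G.toQuot G.toQuot)
  have hcl : IsClosedImmersion ψ := (IsClosedImmersion.iff_isFinite_and_mono ψ).mpr ⟨hfin, hmono⟩
  have hψ : Function.Surjective ψ.appTop := (IsClosedImmersion.isAffine_surjective_of_isAffine ψ).2
  have hpo := isPushout_appTop_of_isPullback (IsPullback.of_hasPullback G.toQuot G.toQuot)
  have hcl2 := CommRingCat.closure_range_union_range_eq_top_of_isPushout hpo
  -- push forward along `ψ.appTop`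
  have h3 : Subring.closure (Set.range G.t.appTop.hom ∪ Set.range G.s.appTop.hom) = ⊤ := by
    have := congrArg (Subring.map ψ.appTop.hom) hcl2
    rw [RingHom.map_closure, Set.image_union, ← Set.range_comp, ← Set.range_comp,
      ← RingHom.range_eq_map, RingHom.range_eq_top.mpr hψ] at this
    have e1 : (ψ.appTop.hom : _ → _) ∘ (pullback.fst G.toQuot G.toQuot).appTop.hom =
        G.t.appTop.hom := by
      funext a
      have : (pullback.fst G.toQuot G.toQuot).appTop ≫ ψ.appTop = G.t.appTop := by
        rw [← Scheme.Hom.comp_appTop, pullback.lift_fst]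
      exact congrArg (fun φ => φ.hom a) this
    have e2 : (ψ.appTop.hom : _ → _) ∘ (pullback.snd G.toQuot G.toQuot).appTop.hom =
        G.s.appTop.hom := by
      funext a
      have : (pullback.snd G.toQuot G.toQuot).appTop ≫ ψ.appTop = G.s.appTop := by
        rw [← Scheme.Hom.comp_appTop, pullback.lift_snd]
      exact congrArg (fun φ => φ.hom a) this
    rw [e1, e2] at this
    exact this
  change Submodule.span Γ(G.U, ⊤) (Set.range G.t.appTop.hom) = ⊤
  have h4 : Algebra.adjoin Γ(G.U, ⊤) (Set.range G.t.appTop.hom) = ⊤ := by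
    apply Subalgebra.toSubring_injective
    rw [Algebra.adjoin_eq_ring_closure, Algebra.top_toSubring, Set.union_comm]
    exact h3
  have h5 := congrArg Subalgebra.toSubmodule h4
  rw [Algebra.adjoin_eq_span, Algebra.top_toSubmodule] at h5
  have h6 : (Submonoid.closure (Set.range G.t.appTop.hom) : Set Γ(G.R, ⊤)) =
      Set.range G.t.appTop.hom := by
    have : Set.range G.t.appTop.hom =
        ((MonoidHom.mrange (G.t.appTop.hom : Γ(G.U, ⊤) →* Γ(G.R, ⊤)) : Submonoid Γ(G.R, ⊤)) :
          Set Γ(G.R, ⊤)) := rfl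
    rw [this, Submonoid.closure_eq]
  rw [h6] at h5
  exact h5

variable [Mono G.j]

theorem toQuot_finite_flat_fp :
    IsFinite G.toQuot ∧ Flat G.toQuot ∧ LocallyOfFinitePresentation G.toQuot := by
  obtain ⟨h1, h2, h3⟩ := (ofGroupoid G).finite_flat_fp (ofGroupoid_finite G)
    (ofGroupoid_projective G) (ofGroupoid_span G)
  have halg : G.invariants.subtype.toAlgebra =
      (inferInstance : Algebra G.invariants Γ(G.U, ⊤)) := Algebra.algebra_ext _ _ (fun _ => rfl)
  have e1 : IsFinite (Spec.map (CommRingCat.ofHom G.invariants.subtype)) := by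
    rw [IsFinite.SpecMap_iff]
    unfold RingHom.Finite
    rw [CommRingCat.hom_ofHom, halg]
    exact h1
  have e2 : Flat (Spec.map (CommRingCat.ofHom G.invariants.subtype)) := by
    rw [Flat.SpecMap_iff]
    unfold RingHom.Flat
    rw [CommRingCat.hom_ofHom, halg]
    exact h2
  have e3 : LocallyOfFinitePresentation (Spec.map (CommRingCat.ofHom G.invariants.subtype)) := by
    rw [LocallyOfFinitePresentation.SpecMap_iff]
    unfold RingHom.FinitePresentation
    rw [CommRingCat.hom_ofHom, halg]
    have : Module.FinitePresentation G.invariants Γ(G.U, ⊤) := h3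
    infer_instance
  unfold GroupoidScheme.toQuot
  exact ⟨inferInstance, inferInstance, inferInstance⟩

theorem isPullback_toQuot : IsPullback G.t G.s G.toQuot G.toQuot := by
  -- the ring-level pushout square
  let C := G.invariants
  let A := Γ(G.U, ⊤)
  have hT := CommRingCat.isPushout_tensorProduct C A A
  have w : CommRingCat.ofHom (algebraMap C A) ≫ G.t.appTop =
      CommRingCat.ofHom (algebraMap C A) ≫ G.s.appTop := by
    apply CommRingCat.hom_ext
    ext γ
    exact γ.2.symm
  let d := hT.desc G.t.appTop G.s.appTop w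
  have hl : ∀ a : A, d.hom (a ⊗ₜ[C] (1 : A)) = G.t.appTop.hom a := fun a =>
    congrArg (fun φ => φ.hom a) (hT.inl_desc G.t.appTop G.s.appTop w)
  have hr : ∀ a : A, d.hom ((1 : A) ⊗ₜ[C] a) = G.s.appTop.hom a := fun a =>
    congrArg (fun φ => φ.hom a) (hT.inr_desc G.t.appTop G.s.appTop w)
  have hd : ∀ a a' : A, d.hom (a ⊗ₜ[C] a') = G.t.appTop.hom a * G.s.appTop.hom a' := by
    intro a a'
    have : a ⊗ₜ[C] a' = (a ⊗ₜ[C] (1 : A)) * ((1 : A) ⊗ₜ[C] a') := by
      rw [Algebra.TensorProduct.tmul_mul_tmul, mul_one, one_mul]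
    rw [this, map_mul, hl, hr]
  have hbij : Function.Bijective d.hom :=
    (ofGroupoid G).tensor_bijective (ofGroupoid_finite G) (ofGroupoid_projective G)
      (ofGroupoid_span G) d.hom.toAddMonoidHom hd
  have hiso : IsIso d := (ConcreteCategory.isIso_iff_bijective d).mpr hbij
  have hpo : IsPushout (CommRingCat.ofHom (algebraMap C A)) (CommRingCat.ofHom (algebraMap C A))
      G.t.appTop G.s.appTop :=
    hT.of_iso (Iso.refl _) (Iso.refl _) (Iso.refl _) (asIso d) (by simp) (by simp)
      (by simp [d]) (by simp [d])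
  have hpb := isPullback_SpecMap_of_isPushout _ _ _ _ hpo
  refine hpb.of_iso G.R.isoSpec.symm G.U.isoSpec.symm G.U.isoSpec.symm (Iso.refl _) ?_ ?_ ?_ ?_
  · exact Scheme.isoSpec_inv_naturality G.t
  · exact Scheme.isoSpec_inv_naturality G.s
  · simp [GroupoidScheme.toQuot]; rfl
  · simp [GroupoidScheme.toQuot]; rfl

theorem exists_iso_pullback_toQuot :
    ∃ φ : G.R ≅ pullback G.toQuot G.toQuot, φ.hom ≫ pullback.fst G.toQuot G.toQuot = G.t ∧
      φ.hom ≫ pullback.snd G.toQuot G.toQuot = G.s :=
  ⟨(isPullback_toQuot G).isoPullback, (isPullback_toQuot G).isoPullback_hom_fst,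
    (isPullback_toQuot G).isoPullback_hom_snd⟩

end hyps

end Groth.Agent.Lib.AffGrpd13
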