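import Mathlib.AlgebraicGeometry.AffineScheme
import Mathlib.AlgebraicGeometry.Properties
import Mathlib.RingTheory.Ideal.MinimalPrime.Basic
import Mathlib.RingTheory.Ideal.Maps

/-!
# Maximal points of affine opens are separated from basic opens (helper45)

* `exists_notMem_mul_pow_eq_zero`: for a minimal prime `p` and `x ∈ p` there are `y ∉ p`, `n`
  with `y * x ^ n = 0`.
* `exists_basicOpen_disjoint`: in an affine open `U` of a scheme, a point `x ∈ U` without proper
  generalizations not lying in `D(a)` has a basic open neighbourhood `D(s)` disjoint from `D(a)`.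
* `exists_basicOpen_mem_notMem`: for `x, y ∈ U` with `y` not specializing to `x`, some `D(a)`
  contains `x` but not `y`.
-/

set_option autoImplicit false
universe u
open AlgebraicGeometry

namespace Groth.Agent.Lib.AffMinPt45

lemma exists_notMem_mul_pow_eq_zero {R : Type*} [CommRing R] {p : Ideal R}
    (hp : p ∈ minimalPrimes R) {x : R} (hx : x ∈ p) : ∃ y ∉ p, ∃ n : ℕ, y * x ^ n = 0 := by
  have hpr : p.IsPrime := hp.1.1
  by_cases h0 : (0 : R) ∈ (p.primeCompl ⊔ Submonoid.powers x : Submonoid R)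
  · obtain ⟨y, hy, z, ⟨n, rfl⟩, hyz⟩ := Submonoid.mem_sup.mp h0
    exact ⟨y, hy, n, hyz⟩
  · exfalso
    have hdisj : Disjoint ((⊥ : Ideal R) : Set R)
        (p.primeCompl ⊔ Submonoid.powers x : Submonoid R) := by
      rw [Set.disjoint_left]
      intro r hr hrS
      rw [SetLike.mem_coe, Ideal.mem_bot] at hr
      exact h0 (hr ▸ hrS)
    obtain ⟨q, hq, -, hqS⟩ := Ideal.exists_le_prime_disjoint _ _ hdisj
    have hqp : q ≤ p := by
      intro r hr
      by_contra hrp
      exact Set.disjoint_left.mp hqS hr (SetLike.mem_coe.mpr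
        ((le_sup_left : p.primeCompl ≤ _) hrp))
    have hpq : p ≤ q := hp.2 ⟨hq, bot_le⟩ hqp
    exact Set.disjoint_left.mp hqS (hpq hx) (SetLike.mem_coe.mpr
      ((le_sup_right : Submonoid.powers x ≤ _) (Submonoid.mem_powers x)))

variable {X : Scheme.{u}}

lemma mem_basicOpen_iff_notMem {U : X.Opens} (hU : IsAffineOpen U) (p : Spec Γ(X, U))
    (a : Γ(X, U)) : hU.fromSpec p ∈ X.basicOpen a ↔ a ∉ p.asIdeal := by
  have h := hU.fromSpec_preimage_basicOpen a
  have : hU.fromSpec p ∈ X.basicOpen a ↔ p ∈ hU.fromSpec ⁻¹ᵁ X.basicOpen a := Iff.rfl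
  rw [this, h]
  exact PrimeSpectrum.mem_basicOpen a p

theorem exists_basicOpen_disjoint {U : X.Opens} (hU : IsAffineOpen U) {x : X} (hxU : x ∈ U)
    (hx : ∀ w : X, w ⤳ x → x ⤳ w) (a : Γ(X, U)) (hxa : x ∉ X.basicOpen a) :
    ∃ s : Γ(X, U), x ∈ X.basicOpen s ∧ X.basicOpen s ⊓ X.basicOpen a = ⊥ := by
  obtain ⟨p, rfl⟩ : ∃ p : Spec Γ(X, U), hU.fromSpec p = x := by
    have : x ∈ Set.range hU.fromSpec := by rw [hU.range_fromSpec]; exact hxU
    exact this
  have hind := hU.fromSpec.isOpenEmbedding.isInducing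
  have hmin : p.asIdeal ∈ minimalPrimes Γ(X, U) := by
    refine ⟨⟨p.isPrime, bot_le⟩, fun q hq hqp => ?_⟩
    let q' : Spec Γ(X, U) := (⟨q, hq.1⟩ : PrimeSpectrum Γ(X, U))
    have h1 : q' ⤳ p := (PrimeSpectrum.le_iff_specializes (R := Γ(X, U)) q' p).mp hqp
    have h2 : p ⤳ q' := hind.specializes_iff.mp (hx _ (h1.map hU.fromSpec.continuous))
    exact (PrimeSpectrum.le_iff_specializes (R := Γ(X, U)) p q').mpr h2
  have ha : a ∈ p.asIdeal := by
    by_contra h
    exact hxa ((mem_basicOpen_iff_notMem hU p a).mpr h)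
  obtain ⟨s, hs, n, hsn⟩ := exists_notMem_mul_pow_eq_zero hmin ha
  refine ⟨s, (mem_basicOpen_iff_notMem hU p s).mpr hs, ?_⟩
  have hn : 0 < n := by
    rcases Nat.eq_zero_or_pos n with rfl | h
    · exfalso
      rw [pow_zero, mul_one] at hsn
      exact hs (hsn ▸ p.asIdeal.zero_mem)
    · exact h
  rw [← X.basicOpen_pow a hn, ← X.basicOpen_mul, hsn, X.basicOpen_zero]

theorem exists_basicOpen_mem_notMem {U : X.Opens} (hU : IsAffineOpen U) {x y : X} (hxU : x ∈ U)
    (hyx : ¬ y ⤳ x) : ∃ a : Γ(X, U), x ∈ X.basicOpen a ∧ y ∉ X.basicOpen a := by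
  let V : X.Opens := ⟨(closure {y})ᶜ, isClosed_closure.isOpen_compl⟩
  have hxV : x ∈ V := fun h => hyx (specializes_iff_mem_closure.mpr h)
  obtain ⟨a, haV, hxa⟩ := hU.exists_basicOpen_le (V := V) ⟨x, hxV⟩ hxU
  exact ⟨a, hxa, fun hya => haV hya (subset_closure rfl)⟩

end Groth.Agent.Lib.AffMinPt45
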