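import Groth.Agent.Lib.AffVanTop

/-!
# AffVan: bridge from `H'^n(⊤, A)` to `Sheaf.H A n`
-/

set_option autoImplicit false
universe u
open CategoryTheory TopologicalSpace Opposite Limits Abelian

namespace Groth.Agent.Lib.AffVanTop

open Groth.Agent.Lib.FlasqueAcyclic

variable {X : TopCat.{u}}

/-- The constant sheaf `ℤ` is a retract of the free sheaf on the open `⊤`
(in fact they are isomorphic). -/
theorem exists_retract_const (X : TopCat.{u}) :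
    ∃ (ψ : CohTop.const X (ULift.{u} ℤ) ⟶ freeSh (⊤ : Opens X))
      (φ : freeSh (⊤ : Opens X) ⟶ CohTop.const X (ULift.{u} ℤ)), ψ ≫ φ = 𝟙 _ := by
  have hT : IsTerminal (⊤ : Opens X) := isTerminalTop
  -- `E' G φ = Sheaf.H.equiv₀ G hT (Ext.mk₀ φ)` is natural in `G`
  have hnat : ∀ {G G' : CohTop.Ab X} (f : CohTop.const X (ULift.{u} ℤ) ⟶ G) (g : G ⟶ G'),
      Sheaf.H.equiv₀ G' hT (Ext.mk₀ (f ≫ g)) = g.hom.app (op ⊤) (Sheaf.H.equiv₀ G hT (Ext.mk₀ f)) := by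
    intro G G' f g
    rw [Sheaf.H.equiv₀_naturality, Sheaf.H.map_apply, Ext.mk₀_comp_mk₀]
  let φ : freeSh (⊤ : Opens X) ⟶ CohTop.const X (ULift.{u} ℤ) :=
    (homEquiv ⊤ _).symm (Sheaf.H.equiv₀ _ hT (Ext.mk₀ (𝟙 (CohTop.const X (ULift.{u} ℤ)))))
  obtain ⟨ψ, hψ⟩ := (Ext.mk₀_bijective _ _).2
    ((Sheaf.H.equiv₀ (freeSh (⊤ : Opens X)) hT).symm (homEquiv ⊤ _ (𝟙 (freeSh (⊤ : Opens X)))))
  refine ⟨ψ, φ, ?_⟩
  apply (Ext.mk₀_bijective _ _).1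
  apply (Sheaf.H.equiv₀ _ hT).injective
  rw [hnat ψ φ, hψ, AddEquiv.apply_symm_apply, ← homEquiv_comp, Category.id_comp,
    Equiv.apply_symm_apply]

/-- If `H'^n(⊤, A) = 0` then `H^n(X, A) = 0`. -/
theorem subsingleton_H_of_HU_top (A : CohTop.Ab X) (n : ℕ)
    (h : ∀ α : CohTop.HU A n (⊤ : Opens X), α = 0) : Subsingleton (CohTop.H A n) := by
  obtain ⟨ψ, φ, hψφ⟩ := exists_retract_const X
  refine subsingleton_of_forall_eq 0 fun y => ?_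
  have h1 : (Ext.mk₀ (𝟙 _)).comp y (zero_add n) = y := Ext.mk₀_id_comp y
  rw [← h1, ← hψφ, ← Ext.mk₀_comp_mk₀, Ext.comp_assoc_of_second_deg_zero]
  have h2 : (Ext.mk₀ φ).comp y (zero_add n) = 0 := h ((Ext.mk₀ φ).comp y (zero_add n))
  rw [h2, Ext.comp_zero]

end Groth.Agent.Lib.AffVanTop
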