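import Groth.Agent.Lib.AffVanTop

/-!
# AffVan: vanishing on the empty open and locality of cohomology classes
-/

set_option autoImplicit false
universe u
open CategoryTheory TopologicalSpace Opposite Limits Abelian

namespace Groth.Agent.Lib.AffVanTop

open Groth.Agent.Lib.FlasqueAcyclic

variable {X : TopCat.{u}}

/-- `H'^n(⊥, A) = 0` for every `n`. -/
theorem HU_bot_eq_zero (A : CohTop.Ab X) (n : ℕ) (α : CohTop.HU A n (⊥ : Opens X)) : α = 0 := by
  have h0 : (𝟙 (freeSh (⊥ : Opens X))) = 0 := by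
    apply (homEquiv ⊥ (freeSh (⊥ : Opens X))).injective
    have := subsingleton_obj_bot (freeSh (⊥ : Opens X))
    exact Subsingleton.elim _ _
  have h1 : (Ext.mk₀ (𝟙 (freeSh (⊥ : Opens X)))).comp α (zero_add n) = α := Ext.mk₀_id_comp α
  rw [← h1, h0, Ext.mk₀_zero, Ext.zero_comp]
  rfl

/-- If `V = ⊥` then `H'^n(V, A) = 0`. -/
theorem HU_eq_zero_of_eq_bot (A : CohTop.Ab X) (n : ℕ) {V : Opens X} (hV : V = ⊥)
    (α : CohTop.HU A n V) : α = 0 := by
  subst hV
  exact HU_bot_eq_zero A n α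

/-- **Locality.** A cohomology class of positive degree on an open `U` vanishes on a neighbourhood
of every point of `U`. -/
theorem exists_res_eq_zero (A : CohTop.Ab X) (n : ℕ) (U : Opens X) (α : CohTop.HU A (n + 1) U)
    (x : X) (hx : x ∈ U) :
    ∃ (V : Opens X) (hV : V ≤ U), x ∈ V ∧ CohTop.res A (n + 1) hV α = 0 := by
  obtain ⟨G, π, hπ, hz⟩ := Groth.Agent.Lib.ExtEfface.exists_epi_mk₀_comp_eq_zero
    (show Ext (freeSh U) A (n + 1) from α)
  have hls : Sheaf.IsLocallySurjective π := (Sheaf.isLocallySurjective_iff_epi' AddCommGrpCat.{u} π).mpr hπ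
  have hmem := Presheaf.imageSieve_mem (Opens.grothendieckTopology X) π.hom
    (U := op U) (homEquiv U (freeSh U) (𝟙 _))
  obtain ⟨V, i, ⟨t, ht⟩, hxV⟩ := hmem x hx
  refine ⟨V, leOfHom i, hxV, ?_⟩
  -- `t : G(V)` lifts the restriction of the universal section
  let σ : freeSh V ⟶ G := (homEquiv V G).symm t
  have hσ : σ ≫ π = freeShMap (homOfLE (leOfHom i)) := by
    apply (homEquiv V (freeSh U)).injective
    rw [homEquiv_comp, Equiv.apply_symm_apply]
    have := homEquiv_map (homOfLE (leOfHom i)) (𝟙 (freeSh U))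
    rw [Category.comp_id] at this
    rw [this]
    exact ht
  rw [res_eq, ← hσ, ← Ext.mk₀_comp_mk₀, Ext.comp_assoc_of_second_deg_zero]
  change (Ext.mk₀ σ).comp ((Ext.mk₀ π).comp (show Ext (freeSh U) A (n + 1) from α) (zero_add _)) _ = 0
  rw [hz, Ext.comp_zero]

end Groth.Agent.Lib.AffVanTop
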