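import Groth.Agent.Lib.AffVanTop

/-!
# AffVan: degree zero classes are sections; two-open glueing via Mayer–Vietoris
-/

set_option autoImplicit false
universe u
open CategoryTheory TopologicalSpace Opposite Limits Abelian

namespace Groth.Agent.Lib.AffVanTop

open Groth.Agent.Lib.FlasqueAcyclic

variable {X : TopCat.{u}}

lemma mk₀_sub' {C : Type*} [Category C] [Abelian C] [HasExt C] {Y Z : C} (f g : Y ⟶ Z) :
    Ext.mk₀ (f - g) = Ext.mk₀ f - Ext.mk₀ g := by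
  rw [sub_eq_add_neg, Ext.mk₀_add, Ext.mk₀_neg, sub_eq_add_neg]

/-- Surjectivity of the difference map on sections gives surjectivity of the difference map
`H'^0(V₁) × H'^0(V₂) → H'^0(V₁ ⊓ V₂)`. -/
theorem exists_res_sub_res_eq_zero_deg (A : CohTop.Ab X) {V₁ V₂ : Opens X}
    (hsurj : ∀ t : A.obj.obj (op (V₁ ⊓ V₂)), ∃ (a : A.obj.obj (op V₁)) (b : A.obj.obj (op V₂)),
      A.obj.map (homOfLE (inf_le_left : V₁ ⊓ V₂ ≤ V₁)).op a -
        A.obj.map (homOfLE (inf_le_right : V₁ ⊓ V₂ ≤ V₂)).op b = t)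
    (β : CohTop.HU A 0 (V₁ ⊓ V₂)) :
    ∃ (a : CohTop.HU A 0 V₁) (b : CohTop.HU A 0 V₂),
      CohTop.res A 0 inf_le_left a - CohTop.res A 0 inf_le_right b = β := by
  obtain ⟨φ, rfl⟩ := (Ext.mk₀_bijective (freeSh (V₁ ⊓ V₂)) A).2 β
  obtain ⟨a, b, hab⟩ := hsurj (homEquiv _ A φ)
  refine ⟨Ext.mk₀ ((homEquiv V₁ A).symm a), Ext.mk₀ ((homEquiv V₂ A).symm b), ?_⟩
  have key : freeShMap (homOfLE (inf_le_left : V₁ ⊓ V₂ ≤ V₁)) ≫ (homEquiv V₁ A).symm a -
      freeShMap (homOfLE (inf_le_right : V₁ ⊓ V₂ ≤ V₂)) ≫ (homEquiv V₂ A).symm b = φ := by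
    apply (homEquiv _ A).injective
    rw [homEquiv_sub, homEquiv_map, homEquiv_map, Equiv.apply_symm_apply,
      Equiv.apply_symm_apply]
    exact hab
  rw [← key, mk₀_sub', ← Ext.mk₀_comp_mk₀, ← Ext.mk₀_comp_mk₀]
  rfl

/-- Abstract two-object glueing on a site, from the Mayer–Vietoris sequence. -/
theorem eq_zero_of_mvSquare {C : Type u} [Category.{u} C] {J : GrothendieckTopology C}
    [HasWeakSheafify J (Type u)] [HasSheafify J AddCommGrpCat.{u}]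
    [HasExt.{u} (Sheaf J AddCommGrpCat.{u})]
    (S : J.MayerVietorisSquare) (A : Sheaf J AddCommGrpCat.{u}) (n : ℕ)
    (hsurj : ∀ β : A.H' n S.X₁, ∃ (a : A.H' n S.X₂) (b : A.H' n S.X₃),
      (A.cohomologyPresheaf n).map S.f₁₂.op a - (A.cohomologyPresheaf n).map S.f₁₃.op b = β)
    (α : A.H' (n + 1) S.X₄) (hα1 : (A.cohomologyPresheaf (n + 1)).map S.f₂₄.op α = 0)
    (hα2 : (A.cohomologyPresheaf (n + 1)).map S.f₃₄.op α = 0) : α = 0 := by
  have hex := (S.sequence_exact A n (n + 1) rfl).exact 2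
  rw [ShortComplex.ab_exact_iff] at hex
  have hα : S.toBiprod A (n + 1) α = 0 := by
    rw [GrothendieckTopology.MayerVietorisSquare.toBiprod_apply, hα1, hα2]
    exact map_zero (AddCommGrpCat.biprodIsoProd _ _).inv.hom
  obtain ⟨β, hβ⟩ := hex α hα
  obtain ⟨a, b, hab⟩ := hsurj β
  have h3 := GrothendieckTopology.MayerVietorisSquare.fromBiprod_biprodIsoProd_inv_apply S A
    (n := n) a b
  have h4 : S.fromBiprod A n ((AddCommGrpCat.biprodIsoProd _ _).inv ⟨a, b⟩) = β := by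
    rw [h3]; exact hab
  have h5 := congr($(GrothendieckTopology.MayerVietorisSquare.fromBiprod_δ S A n (n + 1) rfl)
    ((AddCommGrpCat.biprodIsoProd _ _).inv ⟨a, b⟩))
  rw [← hβ, ← h4]
  exact h5

/-- The Mayer–Vietoris square of two opens `V₁`, `V₂` with union `W`. -/
noncomputable def mvSquare {W V₁ V₂ : Opens X} (h1 : V₁ ≤ W) (h2 : V₂ ≤ W) (hW : W ≤ V₁ ⊔ V₂) :
    (Opens.grothendieckTopology X).MayerVietorisSquare :=
  Opens.mayerVietorisSquare'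
    { X₁ := V₁ ⊓ V₂
      X₂ := V₁
      X₃ := V₂
      X₄ := W
      f₁₂ := homOfLE inf_le_left
      f₁₃ := homOfLE inf_le_right
      f₂₄ := homOfLE h1
      f₃₄ := homOfLE h2
      fac := Subsingleton.elim _ _ } (le_antisymm hW (sup_le h1 h2)) rfl

/-- **Two-open glueing.** If `W = V₁ ∪ V₂`, the difference map
`H'^n(V₁) × H'^n(V₂) → H'^n(V₁ ⊓ V₂)` is surjective, and `α ∈ H'^(n+1)(W)` restricts to zero on `V₁` and
on `V₂`, then `α = 0`. -/
theorem eq_zero_of_mv (A : CohTop.Ab X) (n : ℕ) {W V₁ V₂ : Opens X} (h1 : V₁ ≤ W) (h2 : V₂ ≤ W)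
    (hW : W ≤ V₁ ⊔ V₂)
    (hsurj : ∀ β : CohTop.HU A n (V₁ ⊓ V₂), ∃ (a : CohTop.HU A n V₁) (b : CohTop.HU A n V₂),
      CohTop.res A n inf_le_left a - CohTop.res A n inf_le_right b = β)
    (α : CohTop.HU A (n + 1) W) (hα1 : CohTop.res A (n + 1) h1 α = 0)
    (hα2 : CohTop.res A (n + 1) h2 α = 0) : α = 0 :=
  eq_zero_of_mvSquare (mvSquare h1 h2 hW) A n hsurj α hα1 hα2

end Groth.Agent.Lib.AffVanTop
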