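import Groth.Agent.Lib.AffVanSections
import Groth.Agent.Lib.AffVanLoc
import Groth.Agent.Lib.AffVanMV
import Groth.Agent.Lib.AffVanBridge

/-!
# AffVan: vanishing of higher cohomology of quasi-coherent modules on affine opens

* `HU_eq_zero_of_isAffineOpen`: for a quasi-coherent module `F` on a scheme `X` and an affine open `U`,
  `H'^(n+1)(U, F) = 0` (Mathlib's `Sheaf.H'`, as `CohTop.HU (Coh.toAb F) (n+1) U`).
* `subsingleton_HH_of_isAffine`: on an affine scheme, `Coh.HH X F (n+1)` is trivial.
-/

set_option autoImplicit false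
universe u
open CategoryTheory CategoryTheory.Limits AlgebraicGeometry TopologicalSpace Opposite

namespace Groth.Agent.Lib.AffVan

open Groth.Agent.Lib.AffVanSections Groth.Agent.Lib.AffVanTop

variable {X : Scheme.{u}}

/-- The inductive step: surjectivity of the difference maps in degree `n` on affine opens gives
vanishing in degree `n + 1` on affine opens. -/
theorem eq_zero_of_surj (A : CohTop.Ab X.toTopCat) (n : ℕ)
    (hsurj : ∀ (W : X.Opens), IsAffineOpen W → ∀ g h : Γ(X, W), g + h = 1 →
      ∀ β : CohTop.HU A n (X.basicOpen g ⊓ X.basicOpen h),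
        ∃ (a : CohTop.HU A n (X.basicOpen g)) (b : CohTop.HU A n (X.basicOpen h)),
          CohTop.res A n inf_le_left a - CohTop.res A n inf_le_right b = β)
    {U : X.Opens} (hU : IsAffineOpen U) (α : CohTop.HU A (n + 1) U) : α = 0 := by
  -- `P V`: `V` is contained in an open of `U` on which `α` vanishes
  let P : X.Opens → Prop := fun V =>
    ∃ (V' : X.Opens) (hV' : V' ≤ U), V ≤ V' ∧ CohTop.res A (n + 1) hV' α = 0
  have hP : ∀ {V : X.Opens}, P V → ∀ hV : V ≤ U, CohTop.res A (n + 1) hV α = 0 := by
    rintro V ⟨V', hV', hVV', h0⟩ hV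
    rw [← res_res A (n + 1) hV' hVV' α, h0, map_zero]
  have key : P U := by
    apply affine_induction (X := X) P
    · rintro V W hWV ⟨V', hV', hVV', h0⟩
      exact ⟨V', hV', hWV.trans hVV', h0⟩
    · exact ⟨⊥, bot_le, le_rfl, HU_bot_eq_zero A (n + 1) _⟩
    · intro W hW g h hgh hPg hPh
      have hgU : X.basicOpen g ≤ U := by
        obtain ⟨V', hV', hVV', -⟩ := hPg
        exact hVV'.trans hV'
      have hhU : X.basicOpen h ≤ U := by
        obtain ⟨V', hV', hVV', -⟩ := hPh
        exact hVV'.trans hV'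
      have hWeq := basicOpen_sup_basicOpen_of_add_eq_one g h hgh
      have hWU : W ≤ U := by rw [← hWeq]; exact sup_le hgU hhU
      refine ⟨W, hWU, le_rfl, ?_⟩
      apply eq_zero_of_mv A n (X.basicOpen_le g) (X.basicOpen_le h) hWeq.ge
        (hsurj W hW g h hgh)
      · rw [res_res]; exact hP hPg _
      · rw [res_res]; exact hP hPh _
    · exact hU
    · intro x hx
      obtain ⟨V, hV, hxV, h0⟩ := exists_res_eq_zero A n U α x hx
      exact ⟨V, hxV, V, hV, le_rfl, h0⟩
  have := hP key le_rfl
  rwa [res_self] at this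

/-- **Affine vanishing** (Theorem T): for a quasi-coherent module `F` on a scheme `X` and an affine open
`U ⊆ X`, the cohomology `H'^(n+1)(U, F)` vanishes. -/
theorem HU_eq_zero_of_isAffineOpen (F : X.Modules) (hF : Coh.IsQCoh F) (n : ℕ) :
    ∀ {U : X.Opens}, IsAffineOpen U → ∀ α : CohTop.HU (Coh.toAb F) (n + 1) U, α = 0 := by
  induction n with
  | zero =>
    intro U hU α
    apply eq_zero_of_surj (Coh.toAb F) 0 _ hU α
    intro W hW g h hgh β
    exact exists_res_sub_res_eq_zero_deg (Coh.toAb F)
      (toAb_exists_sub_eq_of_add_eq_one F hF hW g h hgh) β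
  | succ n ih =>
    intro U hU α
    apply eq_zero_of_surj (Coh.toAb F) (n + 1) _ hU α
    intro W hW g h hgh β
    refine ⟨0, 0, ?_⟩
    rw [map_zero, map_zero, sub_zero]
    exact (ih (isAffineOpen_basicOpen_inf hW g h) β).symm

/-- On an affine scheme, quasi-coherent modules have no higher cohomology. -/
theorem subsingleton_HH_of_isAffine [IsAffine X] (F : X.Modules) (hF : Coh.IsQCoh F) (n : ℕ) :
    Subsingleton (Coh.HH X F (n + 1)) :=
  subsingleton_H_of_HU_top (Coh.toAb F) (n + 1)
    (HU_eq_zero_of_isAffineOpen F hF n (isAffineOpen_top X))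

end Groth.Agent.Lib.AffVan
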