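import Groth.Prelude.Def_CohTop

/-!
Flasque abelian sheaves on a topological space are acyclic.
Provides: injective abelian sheaves are flasque; `Ext A F (n+1) = 0` for flasque `F` when `A` has the
lifting property against surjections with flasque kernel; this holds for the free sheaf on an open
and for the constant sheaf with value the integers.
-/

set_option autoImplicit false
universe u
open CategoryTheory TopologicalSpace Opposite Limits Abelian

namespace Groth.Agent.Lib.FlasqueAcyclic

variable {X : TopCat.{u}}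

/-- the free abelian sheaf on an open -/
noncomputable abbrev freeSh (U : Opens X) : CohTop.Ab X :=
  (presheafToSheaf _ _).obj
    (((Functor.whiskeringRight _ _ _).obj AddCommGrpCat.free).obj (yoneda.obj U))

/-- functoriality of the free abelian sheaf on an open -/
noncomputable abbrev freeShMap {U V : Opens X} (i : V ⟶ U) : freeSh V ⟶ freeSh U :=
  (presheafToSheaf _ _).map
    (((Functor.whiskeringRight _ _ _).obj AddCommGrpCat.free).map (yoneda.map i))

instance mono_freeShMap {U V : Opens X} (i : V ⟶ U) : Mono (freeShMap i) := by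
  have : Mono (((Functor.whiskeringRight (Opens X)ᵒᵖ _ _).obj AddCommGrpCat.free).map
      (yoneda.map i)) := by
    have : ∀ W, Mono ((((Functor.whiskeringRight (Opens X)ᵒᵖ _ _).obj AddCommGrpCat.free).map
        (yoneda.map i)).app W) := by
      intro W
      have : Mono ((yoneda.map i).app W) := by
        rw [mono_iff_injective]
        intro a b _
        exact Subsingleton.elim (α := (unop W ⟶ V)) _ _
      exact inferInstanceAs (Mono (AddCommGrpCat.free.map ((yoneda.map i).app W)))
    exact NatTrans.mono_of_mono_app _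
  infer_instance

/-- sections as morphisms out of the free sheaf -/
noncomputable def homEquiv (U : Opens X) (G : CohTop.Ab X) :
    (freeSh U ⟶ G) ≃ G.obj.obj (op U) :=
  ((sheafificationAdjunction _ _).homEquiv _ _).trans
    (((AddCommGrpCat.adj.whiskerRight _).homEquiv _ _).trans yonedaEquiv)

lemma homEquiv_comp (U : Opens X) {G G' : CohTop.Ab X} (φ : freeSh U ⟶ G) (g : G ⟶ G') :
    homEquiv U G' (φ ≫ g) = g.hom.app (op U) (homEquiv U G φ) := by
  simp only [homEquiv, Equiv.trans_apply]
  rw [Adjunction.homEquiv_naturality_right, Adjunction.homEquiv_naturality_right,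
    yonedaEquiv_comp]
  rfl

lemma homEquiv_map {U V : Opens X} (i : V ⟶ U) {G : CohTop.Ab X} (φ : freeSh U ⟶ G) :
    homEquiv V G (freeShMap i ≫ φ) = G.obj.map i.op (homEquiv U G φ) := by
  simp only [homEquiv, Equiv.trans_apply]
  rw [Adjunction.homEquiv_naturality_left, Adjunction.homEquiv_naturality_left]
  exact (yonedaEquiv_naturality _ i).symm

/-- injective sheaves are flasque -/
lemma isFlasque_of_injective (I : CohTop.Ab X) [Injective I] : TopCat.Sheaf.IsFlasque I where
  epi {U V} i := by
    rw [AddCommGrpCat.epi_iff_surjective]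
    intro s
    obtain ⟨U⟩ := U
    obtain ⟨V⟩ := V
    let φ : freeSh V ⟶ I := (homEquiv V I).symm s
    let ψ : freeSh U ⟶ I := Injective.factorThru φ (freeShMap i.unop)
    refine ⟨homEquiv U I ψ, ?_⟩
    have := homEquiv_map i.unop ψ
    rw [Injective.comp_factorThru] at this
    simpa [φ] using this.symm

/-- The lifting property of an object against epimorphisms with flasque kernel. -/
def HasFlasqueLifting (A : CohTop.Ab X) : Prop :=
  ∀ (S : ShortComplex (CohTop.Ab X)), S.ShortExact → TopCat.Sheaf.IsFlasque S.X₁ →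
      ∀ φ : A ⟶ S.X₃, ∃ ψ : A ⟶ S.X₂, ψ ≫ S.g = φ

/-- the main vanishing statement, for an object with the lifting property. -/
lemma ext_eq_zero (A : CohTop.Ab X) (hA : HasFlasqueLifting A)
    (n : ℕ) : ∀ (F : CohTop.Ab X) [TopCat.Sheaf.IsFlasque F] (x : Ext A F (n + 1)), x = 0 := by
  induction n with
  | zero =>
    intro F _ x
    let S : ShortComplex (CohTop.Ab X) :=
      ShortComplex.mk (Injective.ι F) (cokernel.π (Injective.ι F)) (by simp)
    have hS : S.ShortExact := { exact := ShortComplex.exact_cokernel _ }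
    obtain ⟨y, hy⟩ :=
      Ext.covariant_sequence_exact₁ A hS x (Ext.eq_zero_of_injective _) (zero_add 1)
    obtain ⟨φ, rfl⟩ := (Ext.mk₀_bijective _ _).2 y
    obtain ⟨ψ, rfl⟩ := hA S hS ‹_› φ
    rw [← hy, ← Ext.mk₀_comp_mk₀, Ext.comp_assoc_of_second_deg_zero, hS.comp_extClass,
      Ext.comp_zero]
  | succ n ih =>
    intro F _ x
    let S : ShortComplex (CohTop.Ab X) :=
      ShortComplex.mk (Injective.ι F) (cokernel.π (Injective.ι F)) (by simp)
    have hS : S.ShortExact := { exact := ShortComplex.exact_cokernel _ }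
    have : TopCat.Sheaf.IsFlasque S.X₂ := isFlasque_of_injective _
    have : TopCat.Sheaf.IsFlasque S.X₃ := TopCat.Sheaf.IsFlasque.of_shortExact_of_isFlasque₁₂ hS
    obtain ⟨y, hy⟩ := Ext.covariant_sequence_exact₁ A hS x (Ext.eq_zero_of_injective _) rfl
    rw [← hy, ih S.X₃ y, Ext.zero_comp]

lemma hasFlasqueLifting_freeSh (U : Opens X) : HasFlasqueLifting (freeSh U) := by
  intro S hS h1 φ
  have := TopCat.Sheaf.IsFlasque.epi_of_shortExact (U := U) hS
  rw [AddCommGrpCat.epi_iff_surjective] at this
  obtain ⟨t, ht⟩ := this (homEquiv U S.X₃ φ)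
  refine ⟨(homEquiv U S.X₂).symm t, ?_⟩
  apply (homEquiv U S.X₃).injective
  rw [homEquiv_comp, Equiv.apply_symm_apply]
  exact ht

/-- Flasque sheaves have vanishing higher cohomology on every open. -/
theorem subsingleton_HU (F : CohTop.Ab X) [TopCat.Sheaf.IsFlasque F]
    (U : Opens X) (n : ℕ) : Subsingleton (CohTop.HU F (n + 1) U) :=
  subsingleton_of_forall_eq 0 fun x ↦ ext_eq_zero (freeSh U) (hasFlasqueLifting_freeSh U) n F x

lemma hasFlasqueLifting_const :
    HasFlasqueLifting ((constantSheaf (Opens.grothendieckTopology X) AddCommGrpCat.{u}).obj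
      (AddCommGrpCat.of (ULift ℤ))) := by
  intro S hS h1 φ
  have := TopCat.Sheaf.IsFlasque.epi_of_shortExact (U := (⊤ : Opens X)) hS
  rw [AddCommGrpCat.epi_iff_surjective] at this
  have hT : IsTerminal (⊤ : Opens X) := isTerminalTop
  obtain ⟨t, ht⟩ := this (Sheaf.H.equiv₀ S.X₃ hT (Ext.mk₀ φ))
  obtain ⟨ψ, hψ⟩ := (Ext.mk₀_bijective _ _).2 ((Sheaf.H.equiv₀ S.X₂ hT).symm t)
  refine ⟨ψ, ?_⟩
  apply (Ext.mk₀_bijective _ _).1
  apply (Sheaf.H.equiv₀ S.X₃ hT).injective
  rw [← ht, ← Ext.mk₀_comp_mk₀, hψ, ← Sheaf.H.map_apply, ← Sheaf.H.equiv₀_naturality,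
    AddEquiv.apply_symm_apply]

/-- Flasque sheaves have vanishing higher cohomology. -/
theorem subsingleton_H (F : CohTop.Ab X) [TopCat.Sheaf.IsFlasque F] (n : ℕ) :
    Subsingleton (CohTop.H F (n + 1)) :=
  subsingleton_of_forall_eq 0 fun x ↦ ext_eq_zero _ hasFlasqueLifting_const n F x

end Groth.Agent.Lib.FlasqueAcyclic
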