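import Groth.Prelude.Def_Coh
import Groth.Prelude.Def_CohTop
import Groth.Agent.Lib.AcyclicClass
import Groth.Agent.Lib.FlasqueAcyclic
import Groth.Agent.Lib.AffVan
import Mathlib.Algebra.Homology.DerivedCategory.Ext.ExactSequences
import Mathlib.Topology.Sheaves.LocallySurjective
import Mathlib.AlgebraicGeometry.Morphisms.Affine

/-!
# Sheaves that are acyclic on the preimages of affine opens

For a morphism of schemes `f : X ⟶ S`, the class `IsAcyclicOver f` of abelian sheaves `A` on `X` with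
`H'^(n+1)(f⁻¹V, A) = 0` for every affine open `V ⊆ S`:
* contains the injectives, is closed under isomorphisms and under cokernels of monomorphisms;
* `f_*` sends epimorphisms with kernel in the class to epimorphisms;
* hence `R^(q+1) f_* A = 0` for `A` in the class (`isZero_RpushAb_succ`);
* for `f` affine, it contains the underlying abelian sheaf of every quasi-coherent module.
-/

set_option autoImplicit false
universe u
open CategoryTheory CategoryTheory.Limits AlgebraicGeometry TopologicalSpace Opposite Abelian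

namespace Groth.Agent.Lib.AffMorAcyclic

open Groth.Agent.Lib.FlasqueAcyclic

variable {X S : Scheme.{u}} (f : X ⟶ S)

/-- The class of abelian sheaves on `X` with no higher cohomology on the preimages of the affine
opens of `S`. -/
def IsAcyclicOver (A : CohTop.Ab X.toTopCat) : Prop :=
  ∀ (V : S.Opens), IsAffineOpen V → ∀ (n : ℕ)
    (α : Ext (freeSh (X := X.toTopCat) (f ⁻¹ᵁ V)) A (n + 1)), α = 0

variable {f}

lemma isAcyclicOver_of_iso {A B : CohTop.Ab X.toTopCat} (e : A ≅ B) (hA : IsAcyclicOver f A) :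
    IsAcyclicOver f B := by
  intro V hV n α
  have h1 : (α.comp (Ext.mk₀ e.inv) (add_zero _)).comp (Ext.mk₀ e.hom) (add_zero _) = α := by
    rw [Ext.comp_assoc_of_second_deg_zero, Ext.mk₀_comp_mk₀, e.inv_hom_id, Ext.comp_mk₀_id]
  have h2 := hA V hV n (α.comp (Ext.mk₀ e.inv) (add_zero _))
  rw [← h1, h2, Ext.zero_comp]

lemma isAcyclicOver_of_injective (I : CohTop.Ab X.toTopCat) [Injective I] :
    IsAcyclicOver f I :=
  fun _ _ _ α => Ext.eq_zero_of_injective α

lemma isAcyclicOver_X₃ {T : ShortComplex (CohTop.Ab X.toTopCat)} (hT : T.ShortExact)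
    (h1 : IsAcyclicOver f T.X₁) (h2 : IsAcyclicOver f T.X₂) : IsAcyclicOver f T.X₃ := by
  intro V hV n α
  obtain ⟨β, rfl⟩ := Ext.covariant_sequence_exact₃ _ hT α (rfl : n + 1 + 1 = n + 2)
    (h1 V hV (n + 1) _)
  rw [h2 V hV n β, Ext.zero_comp]

/-- Sections over the preimage of an affine open lift along an epimorphism whose kernel is in the
class. -/
lemma surjective_app {T : ShortComplex (CohTop.Ab X.toTopCat)} (hT : T.ShortExact)
    (h1 : IsAcyclicOver f T.X₁) (V : S.Opens) (hV : IsAffineOpen V) :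
    Function.Surjective (T.g.hom.app (op (f ⁻¹ᵁ V))) := by
  intro s
  obtain ⟨x₂, hx₂⟩ := Ext.covariant_sequence_exact₃ _ hT
    (Ext.mk₀ ((homEquiv (f ⁻¹ᵁ V) T.X₃).symm s)) (rfl : 0 + 1 = 1) (h1 V hV 0 _)
  obtain ⟨ψ, rfl⟩ := (Ext.mk₀_bijective _ _).2 x₂
  rw [Ext.mk₀_comp_mk₀] at hx₂
  have hψ := (Ext.mk₀_bijective _ _).1 hx₂
  refine ⟨homEquiv _ _ ψ, ?_⟩
  rw [← homEquiv_comp, hψ, Equiv.apply_symm_apply]

lemma epi_pushAb_map_g {T : ShortComplex (CohTop.Ab X.toTopCat)} (hT : T.ShortExact)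
    (h1 : IsAcyclicOver f T.X₁) : Epi ((Coh.pushAb f).map T.g) := by
  refine (TopCat.Sheaf.isLocallySurjective_iff_epi (X := S.toTopCat)
    ((Coh.pushAb f).map T.g)).1 ?_
  rw [TopCat.Presheaf.isLocallySurjective_iff]
  intro U t x hx
  obtain ⟨W, hW, hxW, hWU'⟩ := Opens.isBasis_iff_nbhd.1 S.isBasis_affineOpens hx
  refine ⟨W, hWU', ?_, hxW⟩
  obtain ⟨s, hs⟩ := surjective_app hT h1 W hW
    (((Coh.pushAb f).obj T.X₃).obj.map (homOfLE hWU').op t)
  exact ⟨s, hs⟩

/-- `f_*` on abelian sheaves preserves finite limits. -/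
instance preservesFiniteLimits_pushAb : PreservesFiniteLimits (Coh.pushAb f) := by
  have : (Coh.pushAb f).IsRightAdjoint :=
    (TopCat.Sheaf.pullbackPushforwardAdjunction AddCommGrpCat.{u} f.base).isRightAdjoint
  infer_instance

/-- The higher direct images of a sheaf in the class vanish. -/
theorem isZero_RpushAb_succ (A : CohTop.Ab X.toTopCat) (hA : IsAcyclicOver f A) (q : ℕ) :
    IsZero ((Coh.RpushAb f (q + 1)).obj A) :=
  Groth.Agent.Lib.AcyclicClass.isZero_rightDerived_succ (Coh.pushAb f)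
    (fun A : CohTop.Ab X.toTopCat => IsAcyclicOver f A)
    (fun _ _ e h => isAcyclicOver_of_iso e h)
    (fun I _ => isAcyclicOver_of_injective I)
    (fun _ hT h1 h2 => isAcyclicOver_X₃ hT h1 h2)
    (fun _ hT h1 => epi_pushAb_map_g hT h1)
    A hA q

/-- For an affine morphism, quasi-coherent modules are in the class. -/
theorem isAcyclicOver_toAb [IsAffineHom f] (M : X.Modules) (hM : Coh.IsQCoh M) :
    IsAcyclicOver f (Coh.toAb M) :=
  fun _ hV n α =>
    Groth.Agent.Lib.AffVan.HU_eq_zero_of_isAffineOpen M hM n (hV.preimage f) α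

end Groth.Agent.Lib.AffMorAcyclic
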