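import Mathlib.Algebra.Homology.DerivedCategory.Ext.ExactSequences
import Mathlib.GroupTheory.QuotientGroup.Basic

/-!
# Dimension shifting for `Ext` in the second variable, as additive equivalences

For a short exact sequence `T : 0 → X₁ → X₂ → X₃ → 0` in an abelian category with `Ext`, and an
object `Z`:
* `δ hT Z n : Ext Z X₃ n →+ Ext Z X₁ (n+1)` (postcomposition with the extension class);
* `shiftEquiv`: if `Ext Z X₂ (n+1) = 0 = Ext Z X₂ (n+2)` then `Ext Z X₃ (n+1) ≃+ Ext Z X₁ (n+2)`;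
* `oneEquiv`: if `Ext Z X₂ 1 = 0` then `Ext Z X₃ 0 ⧸ range (g ∘ -) ≃+ Ext Z X₁ 1`;
* `quotientCongr`: transport of such a quotient along compatible additive equivalences.
-/

set_option autoImplicit false
universe w v u

open CategoryTheory Abelian

namespace Groth.Agent.Lib.ExtDimShift

variable {C : Type u} [Category.{v} C] [Abelian C] [HasExt.{w} C]
  {T : ShortComplex C} (hT : T.ShortExact) (Z : C)

/-- The connecting homomorphism `Ext^n(Z, X₃) → Ext^{n+1}(Z, X₁)`. -/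
noncomputable def δ (n : ℕ) : Ext.{w} Z T.X₃ n →+ Ext.{w} Z T.X₁ (n + 1) :=
  hT.extClass.postcomp Z rfl

lemma δ_apply (n : ℕ) (x : Ext.{w} Z T.X₃ n) : δ hT Z n x = x.comp hT.extClass rfl := rfl

/-- postcomposition with `g` -/
noncomputable abbrev gMap (T : ShortComplex C) (Z : C) (n : ℕ) :
    Ext.{w} Z T.X₂ n →+ Ext.{w} Z T.X₃ n :=
  (Ext.mk₀ T.g).postcomp Z (add_zero n)

lemma δ_bijective (n : ℕ) (h1 : ∀ x : Ext.{w} Z T.X₂ (n + 1), x = 0)
    (h2 : ∀ x : Ext.{w} Z T.X₂ (n + 2), x = 0) : Function.Bijective (δ hT Z (n + 1)) := by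
  constructor
  · rw [injective_iff_map_eq_zero]
    intro x hx
    obtain ⟨y, rfl⟩ := Ext.covariant_sequence_exact₃ Z hT x rfl hx
    rw [h1 y, Ext.zero_comp]
  · intro x
    exact Ext.covariant_sequence_exact₁ Z hT x (h2 _) rfl

/-- Dimension shifting in degrees `≥ 1`. -/
noncomputable def shiftEquiv (n : ℕ) (h1 : ∀ x : Ext.{w} Z T.X₂ (n + 1), x = 0)
    (h2 : ∀ x : Ext.{w} Z T.X₂ (n + 2), x = 0) :
    Ext.{w} Z T.X₃ (n + 1) ≃+ Ext.{w} Z T.X₁ (n + 2) :=
  AddEquiv.ofBijective (δ hT Z (n + 1)) (δ_bijective hT Z n h1 h2)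

lemma δ_zero_surjective (h1 : ∀ x : Ext.{w} Z T.X₂ 1, x = 0) :
    Function.Surjective (δ hT Z 0) := fun x =>
  Ext.covariant_sequence_exact₁ Z hT x (h1 _) rfl

lemma ker_δ_zero : (δ hT Z 0).ker = (gMap T Z 0).range := by
  ext x
  rw [AddMonoidHom.mem_ker, AddMonoidHom.mem_range]
  constructor
  · intro hx
    exact Ext.covariant_sequence_exact₃ Z hT x rfl hx
  · rintro ⟨y, rfl⟩
    change (y.comp (Ext.mk₀ T.g) (add_zero 0)).comp hT.extClass rfl = 0
    rw [Ext.comp_assoc_of_second_deg_zero, hT.comp_extClass, Ext.comp_zero]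

/-- Dimension shifting from degree `0` to degree `1`. -/
noncomputable def oneEquiv (h1 : ∀ x : Ext.{w} Z T.X₂ 1, x = 0) :
    (Ext.{w} Z T.X₃ 0 ⧸ (gMap T Z 0).range) ≃+ Ext.{w} Z T.X₁ 1 :=
  (QuotientAddGroup.quotientAddEquivOfEq (ker_δ_zero hT Z).symm).trans
    (QuotientAddGroup.quotientKerEquivOfSurjective (δ hT Z 0) (δ_zero_surjective hT Z h1))

/-- Transport of a quotient by a range along compatible additive equivalences. -/
noncomputable def quotientCongr {G₀ G₁ G₀' G₁' : Type*} [AddCommGroup G₀] [AddCommGroup G₁]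
    [AddCommGroup G₀'] [AddCommGroup G₁'] (a : G₀ →+ G₁) (a' : G₀' →+ G₁')
    (e₀ : G₀ ≃+ G₀') (e₁ : G₁ ≃+ G₁') (h : ∀ x, e₁ (a x) = a' (e₀ x)) :
    (G₁ ⧸ a.range) ≃+ (G₁' ⧸ a'.range) :=
  QuotientAddGroup.congr a.range a'.range e₁ (by
    ext y
    simp only [AddSubgroup.mem_map, AddMonoidHom.mem_range]
    constructor
    · rintro ⟨_, ⟨x, rfl⟩, rfl⟩
      exact ⟨e₀ x, (h x).symm⟩
    · rintro ⟨x', rfl⟩
      refine ⟨a (e₀.symm x'), ⟨_, rfl⟩, ?_⟩
      change e₁ (a (e₀.symm x')) = _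
      rw [h, AddEquiv.apply_symm_apply])

end Groth.Agent.Lib.ExtDimShift
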