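import Groth.Agent.Lib.AffMorAcyclic
import Groth.Agent.Lib.ExtDimShift

/-!
# Cohomology along a morphism for sheaves acyclic on preimages of affines

For `f : X ⟶ S` and an abelian sheaf `A` on `X` in the class `IsAcyclicOver f` (no higher cohomology on
the preimages of the affine opens of `S`), `H^n(X, A) ≃+ H^n(S, f_* A)` for every `n`
(`nonempty_H_addEquiv`); no spectral sequence is used, only dimension shifting on both sides along
`0 → A → I → I/A → 0` with `I` injective.
-/

set_option autoImplicit false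
universe u
open CategoryTheory CategoryTheory.Limits AlgebraicGeometry TopologicalSpace Opposite Abelian

namespace Groth.Agent.Lib.AffMorAcyclic

open Groth.Agent.Lib.FlasqueAcyclic Groth.Agent.Lib.ExtDimShift

variable {X S : Scheme.{u}} {f : X ⟶ S}

/-- the short complex `A ⟶ I(A) ⟶ I(A)/A` -/
noncomputable def injSC (A : CohTop.Ab X.toTopCat) : ShortComplex (CohTop.Ab X.toTopCat) :=
  ShortComplex.mk (Injective.ι A) (cokernel.π (Injective.ι A)) (cokernel.condition _)

lemma injSC_shortExact (A : CohTop.Ab X.toTopCat) : (injSC A).ShortExact where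
  exact := ShortComplex.exact_cokernel _
  mono_f := by dsimp [injSC]; infer_instance
  epi_g := by dsimp [injSC]; infer_instance

instance (A : CohTop.Ab X.toTopCat) : Injective (injSC A).X₂ := by
  dsimp [injSC]; infer_instance

/-- The direct image of a short exact sequence whose first term is in the class is short exact. -/
lemma shortExact_map_pushAb {T : ShortComplex (CohTop.Ab X.toTopCat)} (hT : T.ShortExact)
    (h1 : IsAcyclicOver f T.X₁) : (T.map (Coh.pushAb f)).ShortExact := by
  have := hT.mono_f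
  have hp : PreservesLimitsOfShape WalkingParallelPair (Coh.pushAb f) := inferInstance
  exact
    { exact := hT.exact.map_of_mono_of_preservesKernel (Coh.pushAb f) hT.mono_f
        hp.preservesLimit
      mono_f := inferInstanceAs (Mono ((Coh.pushAb f).map T.f))
      epi_g := epi_pushAb_map_g hT h1 }

/-- `f⁻¹(⊤)` is terminal among the opens of `X` -/
def isTerminalPreimageTop (f : X ⟶ S) : IsTerminal (f ⁻¹ᵁ (⊤ : S.Opens)) :=
  IsTerminal.ofUniqueHom (fun _ => homOfLE (fun _ _ => trivial))
    (fun _ _ => Subsingleton.elim _ _)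

/-- `H^0(X, A) ≃+ H^0(S, f_* A)`: both are the global sections of `A`. -/
noncomputable def equivZero (f : X ⟶ S) (A : CohTop.Ab X.toTopCat) :
    Sheaf.H A 0 ≃+ Sheaf.H ((Coh.pushAb f).obj A) 0 :=
  (Sheaf.H.equiv₀ A (isTerminalPreimageTop f)).trans
    (Sheaf.H.equiv₀ ((Coh.pushAb f).obj A) (isTerminalTop (α := S.Opens))).symm

lemma equiv₀_equivZero (f : X ⟶ S) (A : CohTop.Ab X.toTopCat) (x : Sheaf.H A 0) :
    Sheaf.H.equiv₀ ((Coh.pushAb f).obj A) (isTerminalTop (α := S.Opens)) (equivZero f A x) =
      Sheaf.H.equiv₀ A (isTerminalPreimageTop f) x :=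
  AddEquiv.apply_symm_apply _ _

lemma equivZero_naturality (f : X ⟶ S) {A B : CohTop.Ab X.toTopCat} (g : A ⟶ B)
    (x : Sheaf.H A 0) :
    equivZero f B (Sheaf.H.map g 0 x) = Sheaf.H.map ((Coh.pushAb f).map g) 0 (equivZero f A x) := by
  apply (Sheaf.H.equiv₀ ((Coh.pushAb f).obj B) (isTerminalTop (α := S.Opens))).injective
  rw [← Sheaf.H.equiv₀_naturality, equiv₀_equivZero, equiv₀_equivZero,
    ← Sheaf.H.equiv₀_naturality]
  rfl

variable (f) in
/-- degree one -/
theorem nonempty_H_addEquiv_one (A : CohTop.Ab X.toTopCat) (hA : IsAcyclicOver f A) :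
    Nonempty (Sheaf.H A 1 ≃+ Sheaf.H ((Coh.pushAb f).obj A) 1) := by
  have hT := injSC_shortExact A
  have hT' := shortExact_map_pushAb (f := f) hT hA
  have : TopCat.Sheaf.IsFlasque (injSC A).X₂ := isFlasque_of_injective _
  have hfl : TopCat.Sheaf.IsFlasque ((injSC A).map (Coh.pushAb f)).X₂ :=
    TopCat.Sheaf.IsFlasque.pushforward_isFlasque (injSC A).X₂ f.base
  have e1 := oneEquiv hT
    ((constantSheaf (Opens.grothendieckTopology X.toTopCat) AddCommGrpCat.{u}).obj
      (AddCommGrpCat.of (ULift ℤ))) (fun x => Ext.eq_zero_of_injective x)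
  have e2 := oneEquiv hT'
    ((constantSheaf (Opens.grothendieckTopology S.toTopCat) AddCommGrpCat.{u}).obj
      (AddCommGrpCat.of (ULift ℤ)))
    (fun x => (subsingleton_H ((injSC A).map (Coh.pushAb f)).X₂ 0).elim x 0)
  refine ⟨e1.symm.trans ((quotientCongr _ _ (equivZero f (injSC A).X₂) (equivZero f (injSC A).X₃)
    (fun x => ?_)).trans e2)⟩
  exact equivZero_naturality f (injSC A).g x

variable (f) in
/-- **Cohomology along a morphism**, for sheaves acyclic on the preimages of affine opens. -/
theorem nonempty_H_addEquiv (n : ℕ) : ∀ (A : CohTop.Ab X.toTopCat), IsAcyclicOver f A →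
    Nonempty (Sheaf.H A n ≃+ Sheaf.H ((Coh.pushAb f).obj A) n) := by
  match n with
  | 0 => exact fun A _ => ⟨equivZero f A⟩
  | 1 => exact fun A hA => nonempty_H_addEquiv_one f A hA
  | (n + 2) =>
    intro A hA
    have hT := injSC_shortExact A
    have hT' := shortExact_map_pushAb (f := f) hT hA
    have : TopCat.Sheaf.IsFlasque (injSC A).X₂ := isFlasque_of_injective _
    have hfl : TopCat.Sheaf.IsFlasque ((injSC A).map (Coh.pushAb f)).X₂ :=
      TopCat.Sheaf.IsFlasque.pushforward_isFlasque (injSC A).X₂ f.base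
    have hQ : IsAcyclicOver f (injSC A).X₃ :=
      isAcyclicOver_X₃ hT hA (isAcyclicOver_of_injective _)
    obtain ⟨e⟩ := nonempty_H_addEquiv (n + 1) (injSC A).X₃ hQ
    have e1 := shiftEquiv hT
      ((constantSheaf (Opens.grothendieckTopology X.toTopCat) AddCommGrpCat.{u}).obj
        (AddCommGrpCat.of (ULift ℤ))) n (fun x => Ext.eq_zero_of_injective x)
      (fun x => Ext.eq_zero_of_injective x)
    have e2 := shiftEquiv hT'
      ((constantSheaf (Opens.grothendieckTopology S.toTopCat) AddCommGrpCat.{u}).obj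
        (AddCommGrpCat.of (ULift ℤ))) n
      (fun x => (subsingleton_H ((injSC A).map (Coh.pushAb f)).X₂ n).elim x 0)
      (fun x => (subsingleton_H ((injSC A).map (Coh.pushAb f)).X₂ (n + 1)).elim x 0)
    exact ⟨e1.symm.trans (e.trans e2)⟩

end Groth.Agent.Lib.AffMorAcyclic
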