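import Mathlib.AlgebraicGeometry.AffineScheme
import Mathlib.AlgebraicGeometry.Stalk
import Mathlib.AlgebraicGeometry.Morphisms.Preimmersion

/-!
# Stalk isomorphisms generize (helper13)

* `localRingHom_bijective_of_le`: if `C_q → B_p` is bijective and `p' ≤ p` then `C_q' → B_p'` is
  bijective.
* `isIso_stalkMap_of_specializes`: if the stalk map of `f` at `t` is an isomorphism, so is the
  stalk map at any generization `t'` of `t`.
* `exists_specializes_of_specializes_map`, `specializes_of_map_specializes`: if the stalk map at `t`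
  is an isomorphism then `f` maps the generizations of `t` bijectively onto those of `f t`,
  reflecting specialization.
-/

set_option autoImplicit false
universe u

namespace Groth.Agent.Lib.AffNbhd13a

open AlgebraicGeometry CategoryTheory TopologicalSpace

theorem localRingHom_bijective_of_le {C B : Type*} [CommRing C] [CommRing B] (φ : C →+* B)
    (p p' : Ideal B) [p.IsPrime] [p'.IsPrime] (hle : p' ≤ p)
    (q q' : Ideal C) [q.IsPrime] [q'.IsPrime] (hq : q = p.comap φ) (hq' : q' = p'.comap φ)
    (H : Function.Bijective (Localization.localRingHom q p φ hq)) :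
    Function.Bijective (Localization.localRingHom q' p' φ hq') := by
  have hqq : q' ≤ q := by
    rw [hq, hq']; exact Ideal.comap_mono hle
  -- every element of `B` outside `p'` is, up to a unit at `p`, the image of an element outside `q'`
  have key : ∀ s : B, s ∉ p' → ∃ c d : C, c ∉ q' ∧ d ∉ q ∧ ∃ u : B, u ∉ p ∧ u * (φ c) = u * (s * φ d) := by
    intro s hs
    obtain ⟨z, hz⟩ := H.2 (algebraMap B (Localization.AtPrime p) s)
    obtain ⟨⟨c, d⟩, hcd⟩ := IsLocalization.surj q.primeCompl z
    have h1 : algebraMap B (Localization.AtPrime p) (s * φ d) =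
        algebraMap B (Localization.AtPrime p) (φ c) := by
      have := congrArg (Localization.localRingHom q p φ hq) hcd
      rw [map_mul, hz, Localization.localRingHom_to_map, Localization.localRingHom_to_map] at this
      rw [map_mul]; exact this
    obtain ⟨⟨u, hu⟩, hu'⟩ := (IsLocalization.eq_iff_exists p.primeCompl _).mp h1
    refine ⟨c, d, ?_, d.2, u, hu, hu'.symm⟩
    intro hc
    have hc' : φ c ∈ p' := by rw [hq'] at hc; exact hc
    have : u * (s * φ d) ∈ p' := by
      have h2 : u * φ c ∈ p' := Ideal.mul_mem_left _ _ hc'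
      have h3 : u * (s * φ d) = u * φ c := hu'
      rw [h3]; exact h2
    rcases Ideal.IsPrime.mem_or_mem ‹p'.IsPrime› this with h | h
    · exact hu (hle h)
    · rcases Ideal.IsPrime.mem_or_mem ‹p'.IsPrime› h with h | h
      · exact hs h
      · have : (d : C) ∈ q' := by rw [hq']; exact h
        exact d.2 (hqq this)
  constructor
  · -- injective
    rw [injective_iff_map_eq_zero]
    intro z hz
    obtain ⟨⟨c, d⟩, hcd⟩ := IsLocalization.surj q'.primeCompl z
    have hc0 : algebraMap B (Localization.AtPrime p') (φ c) = 0 := by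
      have := congrArg (Localization.localRingHom q' p' φ hq') hcd
      rw [map_mul, hz, zero_mul, Localization.localRingHom_to_map] at this
      exact this.symm
    obtain ⟨⟨s, hs⟩, hs'⟩ := (IsLocalization.map_eq_zero_iff p'.primeCompl _ _).mp hc0
    obtain ⟨c₂, d₂, hc₂, hd₂, u, hu, hu'⟩ := key s hs
    -- `φ (c₂ * c)` vanishes in `B_p`
    have h0 : algebraMap B (Localization.AtPrime p) (φ (c₂ * c)) = 0 := by
      rw [IsLocalization.map_eq_zero_iff p.primeCompl]
      refine ⟨⟨u, hu⟩, ?_⟩
      change u * φ (c₂ * c) = 0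
      rw [map_mul, ← mul_assoc, hu']
      have : s * φ c = 0 := hs'
      calc u * (s * φ d₂) * φ c = u * φ d₂ * (s * φ c) := by ring
        _ = 0 := by rw [this, mul_zero]
    have h1 : algebraMap C (Localization.AtPrime q) (c₂ * c) = 0 := by
      apply H.1
      rw [Localization.localRingHom_to_map, map_zero]; exact h0
    obtain ⟨⟨e, he⟩, he'⟩ := (IsLocalization.map_eq_zero_iff q.primeCompl _ _).mp h1
    have hz0 : algebraMap C (Localization.AtPrime q') c = 0 := by
      rw [IsLocalization.map_eq_zero_iff q'.primeCompl]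
      refine ⟨⟨e * c₂, ?_⟩, ?_⟩
      · intro h
        rcases Ideal.IsPrime.mem_or_mem ‹q'.IsPrime› h with h | h
        · exact he (hqq h)
        · exact hc₂ h
      · change e * c₂ * c = 0
        rw [mul_assoc]; exact he'
    have hunit : IsUnit (algebraMap C (Localization.AtPrime q') d) :=
      IsLocalization.map_units _ d
    rw [hz0] at hcd
    exact (hunit.mul_left_eq_zero).mp hcd
  · -- surjective
    intro w
    obtain ⟨⟨b, s⟩, hbs⟩ := IsLocalization.surj p'.primeCompl w
    obtain ⟨c₂, d₂, hc₂, hd₂, u, hu, hu'⟩ := key s s.2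
    -- `b` is in the image up to units
    obtain ⟨z, hz⟩ := H.2 (algebraMap B (Localization.AtPrime p) b)
    obtain ⟨⟨c₁, d₁⟩, hcd⟩ := IsLocalization.surj q.primeCompl z
    have h1 : algebraMap B (Localization.AtPrime p) (b * φ d₁) =
        algebraMap B (Localization.AtPrime p) (φ c₁) := by
      have := congrArg (Localization.localRingHom q p φ hq) hcd
      rw [map_mul, hz, Localization.localRingHom_to_map, Localization.localRingHom_to_map] at this
      rw [map_mul]; exact this
    obtain ⟨⟨v, hv⟩, hv'⟩ := (IsLocalization.eq_iff_exists p.primeCompl _).mp h1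
    have hv'' : v * (b * φ d₁) = v * φ c₁ := hv'
    -- units in `B_p'`
    have hU : ∀ x : B, x ∉ p' → IsUnit (algebraMap B (Localization.AtPrime p') x) :=
      fun x hx => IsLocalization.map_units _ (⟨x, hx⟩ : p'.primeCompl)
    have hUC : ∀ x : C, x ∉ q' → IsUnit (algebraMap C (Localization.AtPrime q') x) :=
      fun x hx => IsLocalization.map_units _ (⟨x, hx⟩ : q'.primeCompl)
    have hd₁ : (d₁ : C) ∉ q' := fun h => d₁.2 (hqq h)
    have hd₂' : d₂ ∉ q' := fun h => hd₂ (hqq h)
    have hu0 : u ∉ p' := fun h => hu (hle h)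
    have hv0 : v ∉ p' := fun h => hv (hle h)
    refine ⟨algebraMap C _ (c₁ * d₂) * ((hUC _ hd₁).unit⁻¹ : (Localization.AtPrime q')ˣ) *
      ((hUC _ hc₂).unit⁻¹ : (Localization.AtPrime q')ˣ), ?_⟩
    set L := Localization.localRingHom q' p' φ hq' with hL
    have e1 : L (algebraMap C _ (c₁ * d₂)) = algebraMap B _ (φ c₁) * algebraMap B _ (φ d₂) := by
      rw [hL, Localization.localRingHom_to_map, map_mul, map_mul]
    have e2 : ∀ (x : C) (hx : x ∉ q'),
        L (((hUC x hx).unit⁻¹ : (Localization.AtPrime q')ˣ)) * algebraMap B _ (φ x) = 1 := by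
      intro x hx
      rw [← Localization.localRingHom_to_map q' p' φ hq' x, ← hL, ← map_mul]
      rw [IsUnit.val_inv_mul, map_one]
    -- relations in `B_p'`
    have r1 : algebraMap B (Localization.AtPrime p') b * algebraMap B _ (φ d₁) =
        algebraMap B _ (φ c₁) := by
      have := congrArg (algebraMap B (Localization.AtPrime p')) hv''
      rw [map_mul, map_mul, map_mul] at this
      exact (hU v hv0).mul_left_cancel this
    have r2 : algebraMap B (Localization.AtPrime p') (φ c₂) =
        algebraMap B _ (s : B) * algebraMap B _ (φ d₂) := by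
      have := congrArg (algebraMap B (Localization.AtPrime p')) hu'
      rw [map_mul, map_mul, map_mul] at this
      exact (hU u hu0).mul_left_cancel this
    have hsU : IsUnit (algebraMap B (Localization.AtPrime p') (s : B)) := hU _ s.2
    have hd₂U : IsUnit (algebraMap B (Localization.AtPrime p') (φ d₂)) := by
      apply hU; intro h; apply hd₂'; rw [hq']; exact h
    have hd₁U : IsUnit (algebraMap B (Localization.AtPrime p') (φ d₁)) := by
      apply hU; intro h; apply hd₁; rw [hq']; exact h
    have hc₂U : IsUnit (algebraMap B (Localization.AtPrime p') (φ c₂)) := by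
      rw [r2]; exact hsU.mul hd₂U
    rw [map_mul, map_mul, e1]
    -- goal: φc₁ * φd₂ * L(d₁⁻¹) * L(c₂⁻¹) = w
    apply hsU.mul_right_cancel
    rw [hbs]
    apply hd₁U.mul_right_cancel
    apply hc₂U.mul_right_cancel
    have e2a := e2 _ hd₁
    have e2b := e2 _ hc₂
    calc algebraMap B _ (φ c₁) * algebraMap B _ (φ d₂) *
          L (((hUC _ hd₁).unit⁻¹ : (Localization.AtPrime q')ˣ)) *
          L (((hUC _ hc₂).unit⁻¹ : (Localization.AtPrime q')ˣ)) * algebraMap B _ (s : B) *
          algebraMap B _ (φ (d₁ : C)) * algebraMap B _ (φ c₂)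
        = algebraMap B _ (φ c₁) * algebraMap B _ (φ d₂) * algebraMap B _ (s : B) *
          (L (((hUC _ hd₁).unit⁻¹ : (Localization.AtPrime q')ˣ)) * algebraMap B _ (φ (d₁ : C))) *
          (L (((hUC _ hc₂).unit⁻¹ : (Localization.AtPrime q')ˣ)) * algebraMap B _ (φ c₂)) := by
          ring
      _ = algebraMap B _ (φ c₁) * algebraMap B _ (φ d₂) * algebraMap B _ (s : B) := by
          rw [e2a, e2b, mul_one, mul_one]
      _ = algebraMap B _ b * algebraMap B _ (φ (d₁ : C)) * algebraMap B _ (φ c₂) := by
          rw [r1, r2]; ring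

/-- If the stalk map of `f` at `t` is an isomorphism, so is the stalk map at any generization. -/
theorem isIso_stalkMap_of_specializes {T X : Scheme.{u}} (f : T ⟶ X) {t t' : T} (h : t' ⤳ t)
    (ht : IsIso (f.stalkMap t)) : IsIso (f.stalkMap t') := by
  obtain ⟨_, ⟨U, hU : IsAffineOpen U, rfl⟩, hxU, -⟩ :=
    X.isBasis_affineOpens.exists_subset_of_mem_open (Set.mem_univ (f t)) isOpen_univ
  obtain ⟨_, ⟨V, hV : IsAffineOpen V, rfl⟩, htV, hVU⟩ :=
    T.isBasis_affineOpens.exists_subset_of_mem_open (show t ∈ (f ⁻¹ᵁ U : Set T) from hxU)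
      (f ⁻¹ᵁ U).2
  have ht'V : t' ∈ V := h.mem_open V.2 htV
  have e := IsAffineOpen.arrowStalkMapIso f U hU V hV hVU htV
  have e' := IsAffineOpen.arrowStalkMapIso f U hU V hV hVU ht'V
  have H : Function.Bijective (Localization.localRingHom _ _ (f.appLE U V hVU).hom
      congr($(IsAffineOpen.comap_primeIdealOf_appLE U hU V hV hVU htV).1).symm) := by
    have := ((MorphismProperty.isomorphisms CommRingCat).arrow_mk_iso_iff e).mp ht
    exact (ConcreteCategory.isIso_iff_bijective _).mp this
  have hle : (hV.primeIdealOf ⟨t', ht'V⟩).asIdeal ≤ (hV.primeIdealOf ⟨t, htV⟩).asIdeal := by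
    rw [PrimeSpectrum.asIdeal_le_asIdeal, PrimeSpectrum.le_iff_specializes]
    have : (⟨t', ht'V⟩ : V) ⤳ ⟨t, htV⟩ := (subtype_specializes_iff _ _).mpr h
    exact this.map hV.isoSpec.hom.continuous
  have H' := localRingHom_bijective_of_le (f.appLE U V hVU).hom _ _ hle _ _
    congr($(IsAffineOpen.comap_primeIdealOf_appLE U hU V hV hVU htV).1).symm
    congr($(IsAffineOpen.comap_primeIdealOf_appLE U hU V hV hVU ht'V).1).symm H
  refine ((MorphismProperty.isomorphisms CommRingCat).arrow_mk_iso_iff e').mpr ?_
  exact (ConcreteCategory.isIso_iff_bijective _).mpr H'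

/-- If the stalk map at `t` is an isomorphism, every generization of `f t` is the image of a
generization of `t`. -/
theorem exists_specializes_of_specializes_map {T X : Scheme.{u}} (f : T ⟶ X) (t : T)
    (ht : IsIso (f.stalkMap t)) (y : X) (hy : y ⤳ f t) : ∃ t' : T, t' ⤳ t ∧ f t' = y := by
  have hy' : y ∈ Set.range (X.fromSpecStalk (f t)) := by
    rw [Scheme.range_fromSpecStalk]; exact hy
  obtain ⟨p, rfl⟩ := hy'
  have hg : IsIso (Spec.map (f.stalkMap t)) := inferInstance
  refine ⟨T.fromSpecStalk t (inv (Spec.map (f.stalkMap t)) p), ?_, ?_⟩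
  · have : T.fromSpecStalk t (inv (Spec.map (f.stalkMap t)) p) ∈
        Set.range (T.fromSpecStalk t) := ⟨_, rfl⟩
    rw [Scheme.range_fromSpecStalk] at this; exact this
  · rw [← Scheme.Hom.comp_apply, ← Scheme.SpecMap_stalkMap_fromSpecStalk, Scheme.Hom.comp_apply,
      ← Scheme.Hom.comp_apply (inv _), IsIso.inv_hom_id]
    rfl

/-- If the stalk map at `t` is an isomorphism, `f` reflects specializations among the
generizations of `t`. -/
theorem specializes_of_map_specializes {T X : Scheme.{u}} (f : T ⟶ X) (t : T)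
    (ht : IsIso (f.stalkMap t)) {t' t'' : T} (h' : t' ⤳ t) (h'' : t'' ⤳ t)
    (h : f t' ⤳ f t'') : t' ⤳ t'' := by
  have h1 : t' ∈ Set.range (T.fromSpecStalk t) := by
    rw [Scheme.range_fromSpecStalk]; exact h'
  have h2 : t'' ∈ Set.range (T.fromSpecStalk t) := by
    rw [Scheme.range_fromSpecStalk]; exact h''
  obtain ⟨p', rfl⟩ := h1
  obtain ⟨p'', rfl⟩ := h2
  have hg : IsIso (Spec.map (f.stalkMap t)) := inferInstance
  have e : ∀ p, f (T.fromSpecStalk t p) = X.fromSpecStalk (f t) (Spec.map (f.stalkMap t) p) := by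
    intro p
    rw [← Scheme.Hom.comp_apply, ← Scheme.SpecMap_stalkMap_fromSpecStalk, Scheme.Hom.comp_apply]
  rw [e, e] at h
  have h3 : Spec.map (f.stalkMap t) p' ⤳ Spec.map (f.stalkMap t) p'' :=
    (X.fromSpecStalk (f t)).isEmbedding.isInducing.specializes_iff.mp h
  have h4 := h3.map (inv (Spec.map (f.stalkMap t))).continuous
  rw [← Scheme.Hom.comp_apply, ← Scheme.Hom.comp_apply, IsIso.hom_inv_id] at h4
  exact Specializes.map h4 (T.fromSpecStalk t).continuous

end Groth.Agent.Lib.AffNbhd13a
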