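import Mathlib.AlgebraicGeometry.AffineScheme
import Mathlib.AlgebraicGeometry.Morphisms.Immersion
import Mathlib.AlgebraicGeometry.Morphisms.ClosedImmersion
import Mathlib.AlgebraicGeometry.Morphisms.Affine

/-!
Finite sets of points in open subsets of affine schemes lie in a basic open (prime avoidance),
and consequences for schemes immersed in an affine scheme.
-/

set_option autoImplicit false
universe u

namespace Groth.Agent.Lib.H60FinitePointsAffine

open AlgebraicGeometry CategoryTheory TopologicalSpace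

/-- Prime avoidance in `Spec R`: a finite set of points of an open subset lies in a basic open
contained in it. -/
theorem exists_basicOpen_of_finite (R : Type u) [CommRing R]
    (U : Opens (PrimeSpectrum R)) (F : Set (PrimeSpectrum R)) (hF : F.Finite)
    (hFU : F ⊆ U) : ∃ f : R, F ⊆ PrimeSpectrum.basicOpen f ∧ PrimeSpectrum.basicOpen f ≤ U := by
  classical
  let I : Ideal R := PrimeSpectrum.vanishingIdeal ((U : Set (PrimeSpectrum R))ᶜ)
  have hI : PrimeSpectrum.zeroLocus (I : Set R) = (U : Set (PrimeSpectrum R))ᶜ := by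
    rw [PrimeSpectrum.zeroLocus_vanishingIdeal_eq_closure]
    exact (U.isOpen.isClosed_compl).closure_eq
  have hnot : ¬ ((I : Set R) ⊆ ⋃ p ∈ (hF.toFinset : Set (PrimeSpectrum R)), (p.asIdeal : Set R)) := by
    intro h
    by_cases hne : hF.toFinset.Nonempty
    · obtain ⟨a, ha⟩ := hne
      have := (Ideal.subset_union_prime (s := hF.toFinset) (f := fun p => p.asIdeal) a a
        (fun i _ _ _ => i.isPrime) (I := I)).mp h
      obtain ⟨p, hp, hIp⟩ := this
      have hpU : p ∈ (U : Set (PrimeSpectrum R)) := hFU (hF.mem_toFinset.mp hp)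
      have : p ∈ PrimeSpectrum.zeroLocus (I : Set R) := hIp
      rw [hI] at this
      exact this hpU
    · rw [Finset.not_nonempty_iff_eq_empty] at hne
      rw [hne] at h
      simp only [Finset.coe_empty, Set.mem_empty_iff_false, Set.iUnion_of_empty,
        Set.iUnion_empty, Set.subset_empty_iff] at h
      have : (0 : R) ∈ (I : Set R) := I.zero_mem
      rw [h] at this
      exact this
  rw [Set.not_subset] at hnot
  obtain ⟨f, hfI, hf⟩ := hnot
  refine ⟨f, fun p hp => ?_, fun q hq => ?_⟩
  · simp only [Set.mem_iUnion, not_exists] at hf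
    exact hf p (by simpa using hp)
  · by_contra hqU
    have : q ∈ PrimeSpectrum.zeroLocus (I : Set R) := by
      rw [hI]; exact hqU
    exact hq (this hfI)

/-- In an affine scheme, a finite set of points of an open subset lies in a basic open contained
in it. -/
theorem exists_basicOpen_of_finite_of_isAffine (Y : Scheme.{u}) [IsAffine Y] (U : Y.Opens)
    (F : Set Y) (hF : F.Finite) (hFU : F ⊆ U) :
    ∃ f : Γ(Y, ⊤), F ⊆ Y.basicOpen f ∧ Y.basicOpen f ≤ U := by
  let e := Y.isoSpec
  obtain ⟨f, hf1, hf2⟩ := exists_basicOpen_of_finite Γ(Y, ⊤) (e.inv ⁻¹ᵁ U) (e.hom '' F)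
    (hF.image _) (by
      rintro _ ⟨y, hy, rfl⟩
      change e.inv (e.hom y) ∈ U
      rw [← Scheme.Hom.comp_apply, e.hom_inv_id]
      exact hFU hy)
  have hb : Y.basicOpen f = Y.toSpecΓ ⁻¹ᵁ (PrimeSpectrum.basicOpen f) :=
    (Scheme.toSpecΓ_preimage_basicOpen Y f).symm
  refine ⟨f, fun y hy => ?_, fun y hy => ?_⟩
  · rw [hb]
    exact hf1 ⟨y, hy, rfl⟩
  · rw [hb] at hy
    have h1 : e.hom y ∈ e.inv ⁻¹ᵁ U := hf2 hy
    change e.inv (e.hom y) ∈ U at h1
    rwa [← Scheme.Hom.comp_apply, e.hom_inv_id] at h1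

/-- A finite set of points of a scheme immersed in an affine scheme lies in an affine open. -/
theorem exists_isAffineOpen_of_finite_of_isImmersion {X Y : Scheme.{u}} [IsAffine Y] (ι : X ⟶ Y)
    [IsImmersion ι] (E : Set X) (hE : E.Finite) :
    ∃ U : X.Opens, IsAffineOpen U ∧ E ⊆ U := by
  obtain ⟨f, hf1, hf2⟩ := exists_basicOpen_of_finite_of_isAffine Y ι.coborderRange (ι '' E)
    (hE.image _) (by
      rintro _ ⟨x, -, rfl⟩
      exact subset_coborder ⟨x, rfl⟩)
  have hV : IsAffineOpen (Y.basicOpen f) := (isAffineOpen_top Y).basicOpen f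
  let V' : ι.coborderRange.toScheme.Opens := ι.coborderRange.ι ⁻¹ᵁ (Y.basicOpen f)
  have himg : ι.coborderRange.ι ''ᵁ V' = Y.basicOpen f := by
    rw [Scheme.Hom.image_preimage_eq_opensRange_inf, Scheme.Opens.opensRange_ι]
    exact inf_eq_right.mpr hf2
  have hV' : IsAffineOpen V' := by
    rw [← Scheme.Hom.isAffineOpen_iff_of_isOpenImmersion ι.coborderRange.ι, himg]
    exact hV
  refine ⟨ι.liftCoborder ⁻¹ᵁ V', hV'.preimage ι.liftCoborder, fun x hx => ?_⟩
  rw [Scheme.Hom.liftCoborder_preimage, himg]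
  exact hf1 ⟨x, hx, rfl⟩

end Groth.Agent.Lib.H60FinitePointsAffine
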