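import Mathlib.AlgebraicGeometry.QuasiAffine
import Mathlib.AlgebraicGeometry.Morphisms.QuasiSeparated
import Groth.Agent.Lib.H60FinitePointsAffine

/-!
# Finding affine opens via basic opens of sections over a neighbourhood (helper13)

`exists_isAffineOpen_of_forall_exists_basicOpen_le`: Let `X` be a quasi-separated scheme and `P` a
finite set of points. Suppose that for every `p ∈ P` there are an open `U ⊇ P`, a section `σ` over
`U` and an affine open `W` with `p ∈ D(σ) ⊆ W`. Then `P` is contained in an affine open of `X`.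
-/

set_option autoImplicit false
universe u

namespace Groth.Agent.Lib.AffNbhd13b

open AlgebraicGeometry CategoryTheory TopologicalSpace Opposite

/-- On a qcqs open `V`, a basic open `D(τ)` contained in an affine open `W` can be shrunk around a
point to an affine basic open `D(ρ)`, `ρ ∈ Γ(V)`. -/
theorem exists_isAffineOpen_basicOpen {X : Scheme.{u}} {V : X.Opens} (hV : IsCompact V.1)
    (hV' : IsQuasiSeparated V.1) (τ : Γ(X, V)) {W : X.Opens} (hW : IsAffineOpen W)
    (hτW : X.basicOpen τ ≤ W) (p : X) (hp : p ∈ X.basicOpen τ) :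
    ∃ ρ : Γ(X, V), IsAffineOpen (X.basicOpen ρ) ∧ p ∈ X.basicOpen ρ := by
  obtain ⟨b, hb1, hb2⟩ := hW.exists_basicOpen_le ⟨p, hp⟩ (hτW hp)
  obtain ⟨n, ν, hν⟩ := exists_eq_pow_mul_of_isCompact_of_isQuasiSeparated X V hV hV' τ
    (X.presheaf.map (homOfLE hτW).op b)
  replace hν : X.presheaf.map (homOfLE (X.basicOpen_le τ)).op ν =
      (X.presheaf.map (homOfLE (X.basicOpen_le τ)).op τ) ^ n *
        X.presheaf.map (homOfLE hτW).op b := hν
  have key : X.basicOpen (τ * ν) = X.basicOpen b := by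
    rw [Scheme.basicOpen_mul]
    have h1 := congrArg X.basicOpen hν
    have hu : IsUnit (X.presheaf.map (homOfLE (X.basicOpen_le τ)).op τ) :=
      RingedSpace.isUnit_res_basicOpen _ τ
    rw [Scheme.basicOpen_res, Scheme.basicOpen_mul, Scheme.basicOpen_res,
      X.basicOpen_of_isUnit (hu.pow n)] at h1
    rw [h1]
    apply le_antisymm
    · exact inf_le_right.trans inf_le_right
    · exact le_inf hb1 (le_inf hb1 le_rfl)
  exact ⟨τ * ν, key ▸ hW.basicOpen b, key ▸ hb2⟩

/-- Let `X` be a quasi-separated scheme and `P` a finite set of points. Suppose that for every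
`p ∈ P` there are an open `U ⊇ P`, a section `σ` over `U` and an affine open `W` with
`p ∈ D(σ) ⊆ W`. Then `P` is contained in an affine open of `X`. -/
theorem exists_isAffineOpen_of_forall_exists_basicOpen_le {X : Scheme.{u}} [QuasiSeparatedSpace X]
    (P : Set X) (hP : P.Finite)
    (H : ∀ p ∈ P, ∃ (U : X.Opens) (σ : Γ(X, U)) (W : X.Opens), P ⊆ U ∧ IsAffineOpen W ∧
      p ∈ X.basicOpen σ ∧ X.basicOpen σ ≤ W) :
    ∃ U : X.Opens, IsAffineOpen U ∧ P ⊆ U := by
  classical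
  have hfin : Finite P := hP.to_subtype
  have H' : ∀ p : P, ∃ (U : X.Opens) (σ : Γ(X, U)) (W : X.Opens), P ⊆ U ∧ IsAffineOpen W ∧
      p.1 ∈ X.basicOpen σ ∧ X.basicOpen σ ≤ W := fun p => H p.1 p.2
  choose U σ W hPU hW hpσ hσW using H'
  let U₀ : X.Opens := ⨅ p : P, U p
  have hPU₀ : P ⊆ U₀ := by
    intro x hx
    rw [Opens.coe_iInf]
    exact Set.mem_iInter.mpr fun p => hPU p hx
  have HA : ∀ p : P, ∃ A : X.Opens, IsAffineOpen A ∧ p.1 ∈ A ∧ A ≤ U₀ := by
    intro p
    obtain ⟨_, ⟨A, hA, rfl⟩, hpA, hAU⟩ :=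
      X.isBasis_affineOpens.exists_subset_of_mem_open (hPU₀ p.2) U₀.2
    exact ⟨A, hA, hpA, hAU⟩
  choose A hA hpA hAU using HA
  let V : X.Opens := ⨆ p : P, A p
  have hVU : ∀ p, V ≤ U p := fun p => (iSup_le hAU).trans (iInf_le _ p)
  have hPV : P ⊆ V := fun x hx => Opens.mem_iSup.mpr ⟨⟨x, hx⟩, hpA ⟨x, hx⟩⟩
  have hVc : IsCompact V.1 := by
    have : V.1 = ⋃ p : P, (A p : Set X) := by
      change ((⨆ p : P, A p : X.Opens) : Set X) = _
      rw [Opens.coe_iSup]
    rw [this]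
    exact isCompact_iUnion fun p => (hA p).isCompact
  have hVq : IsQuasiSeparated V.1 := isQuasiSeparated_univ.of_subset (Set.subset_univ _)
  have Hρ : ∀ p : P, ∃ ρ : Γ(X, V), IsAffineOpen (X.basicOpen ρ) ∧ p.1 ∈ X.basicOpen ρ := by
    intro p
    have hτ : X.basicOpen (X.presheaf.map (homOfLE (hVU p)).op (σ p)) =
        V ⊓ X.basicOpen (σ p) := X.basicOpen_res _ _
    exact exists_isAffineOpen_basicOpen hVc hVq _ (hW p)
      (hτ ▸ inf_le_right.trans (hσW p)) p.1 (hτ ▸ ⟨hPV p.2, hpσ p⟩)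
  choose ρ hρA hpρ using Hρ
  let U' : X.Opens := ⨆ p : P, X.basicOpen (ρ p)
  have hPU' : P ⊆ U' := fun x hx => Opens.mem_iSup.mpr ⟨⟨x, hx⟩, hpρ ⟨x, hx⟩⟩
  have hU'V : U' ≤ V := iSup_le fun p => X.basicOpen_le _
  have hU'c : CompactSpace U' := by
    have h0 : IsCompact (U' : Set X) := by
      have : (U' : Set X) = ⋃ p : P, (X.basicOpen (ρ p) : Set X) := by
        change ((⨆ p : P, X.basicOpen (ρ p) : X.Opens) : Set X) = _
        rw [Opens.coe_iSup]
      rw [this]
      exact isCompact_iUnion fun p => (hρA p).isCompact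
    exact isCompact_iff_compactSpace.mp h0
  have hQA : U'.toScheme.IsQuasiAffine := by
    refine @Scheme.IsQuasiAffine.of_forall_exists_mem_basicOpen _ hU'c fun x => ?_
    obtain ⟨p, hp⟩ := Opens.mem_iSup.mp x.2
    have hle : X.basicOpen (ρ p) ≤ U' := le_iSup (fun p => X.basicOpen (ρ p)) p
    have himg : U'.ι ''ᵁ (U'.toScheme.basicOpen
        (U'.topIso.inv (X.presheaf.map (homOfLE hU'V).op (ρ p)))) = X.basicOpen (ρ p) := by
      rw [Scheme.Opens.ι_image_basicOpen_topIso_inv, Scheme.basicOpen_res, inf_eq_right.mpr hle]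
    refine ⟨U'.topIso.inv (X.presheaf.map (homOfLE hU'V).op (ρ p)), ?_, ?_⟩
    · rw [← Scheme.Hom.isAffineOpen_iff_of_isOpenImmersion U'.ι, himg]
      exact hρA p
    · have h1 : x.1 ∈ U'.ι ''ᵁ (U'.toScheme.basicOpen
          (U'.topIso.inv (X.presheaf.map (homOfLE hU'V).op (ρ p)))) := by
        rw [himg]; exact hp
      obtain ⟨y, hy, hyx⟩ := h1
      have : y = x := Subtype.ext hyx
      exact this ▸ hy
  obtain ⟨B, hB, hEB⟩ := H60FinitePointsAffine.exists_isAffineOpen_of_finite_of_isImmersion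
    U'.toScheme.toSpecΓ (U'.ι ⁻¹' P) (hP.preimage U'.ι.isOpenEmbedding.injective.injOn)
  refine ⟨U'.ι ''ᵁ B, hB.image_of_isOpenImmersion U'.ι, fun x hx => ?_⟩
  exact ⟨⟨x, hPU' hx⟩, hEB (show U'.ι ⟨x, hPU' hx⟩ ∈ P from hx), rfl⟩

end Groth.Agent.Lib.AffNbhd13b
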