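import Groth.Agent.Lib.AffNbhd13a
import Groth.Agent.Lib.AffNbhd13b

/-!
# Affine opens containing the images of points with isomorphic stalks (helper13)

Stacks 09NQ-type statement, proved directly (no reduction to the reduced case, no limits):
`exists_isAffineOpen_of_isIso_stalkMap`.
-/

set_option autoImplicit false
universe u

namespace Groth.Agent.Lib.AffNbhd13c

open AlgebraicGeometry CategoryTheory TopologicalSpace Opposite
open Groth.Agent.Lib.AffNbhd13a Groth.Agent.Lib.AffNbhd13b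

variable {T X : Scheme.{u}} (f : T ⟶ X)

/-- The section `σ` of `X` over `U` matches the global function `r` of `T` at the point `t`:
`f^♯ σ` and `r` have the same germ at `t`. -/
def Matches {U : X.Opens} (σ : Γ(X, U)) (r : Γ(T, ⊤)) (t : T) : Prop :=
  ∃ h : f t ∈ U, f.stalkMap t (X.presheaf.germ U (f t) h σ) = T.presheaf.germ ⊤ t trivial r

variable {f}

theorem Matches.res {U U' : X.Opens} {σ : Γ(X, U)} {r : Γ(T, ⊤)} {t : T} (hm : Matches f σ r t)
    (hle : U' ≤ U) (ht : f t ∈ U') : Matches f (X.presheaf.map (homOfLE hle).op σ) r t := by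
  obtain ⟨h, e⟩ := hm
  refine ⟨ht, ?_⟩
  rw [TopCat.Presheaf.germ_res_apply]
  exact e

theorem Matches.of_res {U U' : X.Opens} {σ : Γ(X, U)} {r : Γ(T, ⊤)} {t : T} (hle : U' ≤ U)
    (hm : Matches f (X.presheaf.map (homOfLE hle).op σ) r t) : Matches f σ r t := by
  obtain ⟨h, e⟩ := hm
  refine ⟨hle h, ?_⟩
  rw [TopCat.Presheaf.germ_res_apply] at e
  exact e

theorem Matches.of_specializes {U : X.Opens} {σ : Γ(X, U)} {r : Γ(T, ⊤)} {t t' : T}
    (hm : Matches f σ r t) (h : t' ⤳ t) : Matches f σ r t' := by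
  obtain ⟨hU, e⟩ := hm
  have hU' : f t' ∈ U := (h.map f.continuous).mem_open U.2 hU
  refine ⟨hU', ?_⟩
  have h1 : X.presheaf.germ U (f t') hU' σ =
      X.presheaf.stalkSpecializes (f.base.hom.map_specializes h)
        (X.presheaf.germ U (f t) hU σ) := by
    rw [TopCat.Presheaf.germ_stalkSpecializes_apply]
  rw [h1, Scheme.Hom.stalkSpecializes_stalkMap_apply f t' t h, e,
    TopCat.Presheaf.germ_stalkSpecializes_apply]

theorem exists_matches (t : T) (ht : IsIso (f.stalkMap t)) (r : Γ(T, ⊤)) :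
    ∃ (U : X.Opens) (σ : Γ(X, U)), Matches f σ r t := by
  obtain ⟨U, hU, σ, hσ⟩ := X.presheaf.exists_germ_eq (x := f t)
    (inv (f.stalkMap t) (T.presheaf.germ ⊤ t trivial r))
  refine ⟨U, σ, hU, ?_⟩
  rw [hσ, ← CommRingCat.comp_apply, IsIso.inv_hom_id]
  rfl

theorem Matches.mem_basicOpen_iff {U : X.Opens} {σ : Γ(X, U)} {r : Γ(T, ⊤)} {t : T}
    (hm : Matches f σ r t) : f t ∈ X.basicOpen σ ↔ t ∈ T.basicOpen r := by
  obtain ⟨hU, e⟩ := hm
  rw [Scheme.mem_basicOpen _ _ _ hU, Scheme.mem_basicOpen_top, ← e]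
  exact (isUnit_map_iff (f.stalkMap t).hom _).symm

theorem exists_generic_specializes (y : X) :
    ∃ η : X, η ⤳ y ∧ closure ({η} : Set X) ∈ irreducibleComponents X := by
  have hg := (isIrreducible_irreducibleComponent (x := y)).isGenericPoint_genericPoint
    isClosed_irreducibleComponent
  refine ⟨(isIrreducible_irreducibleComponent (x := y)).genericPoint, ?_, ?_⟩
  · rw [specializes_iff_mem_closure, hg.def]
    exact mem_irreducibleComponent
  · rw [hg.def]
    exact irreducibleComponent_mem_irreducibleComponents y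

theorem closure_mem_irreducibleComponents (t : T) (ht : IsIso (f.stalkMap t)) {ξ : T}
    (hξ : ξ ⤳ t) (h : closure ({f ξ} : Set X) ∈ irreducibleComponents X) :
    closure ({ξ} : Set T) ∈ irreducibleComponents T := by
  refine ⟨isIrreducible_singleton.closure, fun Z hZ hle => ?_⟩
  have hζ := hZ.isGenericPoint_genericPoint_closure
  set ζ := hZ.genericPoint
  have h1 : ζ ⤳ ξ := by
    rw [specializes_iff_mem_closure, hζ.def]
    exact subset_closure (hle (subset_closure rfl))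
  have h2 : f ζ ⤳ f ξ := h1.map f.continuous
  have h3 : closure ({f ζ} : Set X) ≤ closure ({f ξ} : Set X) :=
    h.2 isIrreducible_singleton.closure
      (closure_minimal (Set.singleton_subset_iff.mpr (specializes_iff_mem_closure.mp h2))
        isClosed_closure)
  have h4 : f ξ ⤳ f ζ := specializes_iff_mem_closure.mpr (h3 (subset_closure rfl))
  have h5 : ξ ⤳ ζ := specializes_of_map_specializes f t ht hξ (h1.trans hξ) h4
  calc Z ≤ closure Z := subset_closure
    _ = closure {ζ} := hζ.def.symm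
    _ ≤ closure {ξ} := closure_minimal
        (Set.singleton_subset_iff.mpr (specializes_iff_mem_closure.mp h5)) isClosed_closure

/-- If `σ` matches `r` at `t` and `D(r) ⊆ f⁻¹ W`, then near `f t` the basic open `D(σ)` is
contained in `W`. -/
theorem exists_nhd_inf_basicOpen_le (t : T) (ht : IsIso (f.stalkMap t)) {r : Γ(T, ⊤)}
    {U : X.Opens} {σ : Γ(X, U)} (hm : Matches f σ r t) {W : X.Opens}
    (hW : T.basicOpen r ≤ f ⁻¹ᵁ W) :
    ∃ N : X.Opens, f t ∈ N ∧ N ≤ U ∧ N ⊓ X.basicOpen σ ≤ W := by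
  classical
  obtain ⟨_, ⟨V, hV : IsAffineOpen V, rfl⟩, htV, hVU⟩ :=
    X.isBasis_affineOpens.exists_subset_of_mem_open hm.1 U.2
  have hVU' : V ≤ U := hVU
  set σV : Γ(X, V) := X.presheaf.map (homOfLE hVU').op σ with hσV
  have hmV : Matches f σV r t := hm.res hVU' htV
  let J : Ideal Γ(X, V) :=
    { carrier := {c | X.basicOpen c ≤ W}
      add_mem' := by
        intro a b ha hb
        exact (X.basicOpen_add_le a b).trans (sup_le ha hb)
      zero_mem' := by
        change X.basicOpen (0 : Γ(X, V)) ≤ W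
        rw [Scheme.basicOpen_zero]; exact bot_le
      smul_mem' := by
        intro a b hb
        change X.basicOpen (a * b) ≤ W
        rw [Scheme.basicOpen_mul]; exact inf_le_right.trans hb }
  let S : Submonoid Γ(X, V) :=
    { carrier := {c | f t ∈ X.basicOpen c}
      one_mem' := by
        change f t ∈ X.basicOpen (1 : Γ(X, V))
        rw [Scheme.basicOpen_one]; exact htV
      mul_mem' := by
        intro a b ha hb
        change f t ∈ X.basicOpen (a * b)
        rw [Scheme.basicOpen_mul]; exact ⟨ha, hb⟩ }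
  let M : Submonoid Γ(X, V) := S ⊔ Submonoid.powers σV
  have hnd : ¬ Disjoint (J : Set Γ(X, V)) (M : Set Γ(X, V)) := by
    intro hdis
    obtain ⟨p, hp, hJp, hpM⟩ := Ideal.exists_le_prime_disjoint J M hdis
    let y : X := hV.fromSpec (⟨p, hp⟩ : PrimeSpectrum Γ(X, V))
    have hyV : y ∈ V := by
      have : y ∈ Set.range hV.fromSpec := ⟨_, rfl⟩
      rw [hV.range_fromSpec] at this; exact this
    have hyb : ∀ a : Γ(X, V), y ∈ X.basicOpen a ↔ a ∉ p := by
      intro a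
      have := hV.fromSpec_preimage_basicOpen a
      have h1 : y ∈ X.basicOpen a ↔
          (⟨p, hp⟩ : PrimeSpectrum Γ(X, V)) ∈ (hV.fromSpec ⁻¹ᵁ X.basicOpen a) := Iff.rfl
      rw [h1, this]
      rfl
    have hyt : y ⤳ f t := by
      rw [specializes_iff_forall_open]
      intro O hO htO
      obtain ⟨c, hcO, htc⟩ := hV.exists_basicOpen_le (V := ⟨O, hO⟩) ⟨f t, htO⟩ htV
      have hcM : c ∈ M := Submonoid.mem_sup_left (show c ∈ S from htc)
      have hcp : c ∉ p := fun h => Set.disjoint_left.mp hpM h hcM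
      exact hcO ((hyb _).mpr hcp)
    have hyσ : y ∈ X.basicOpen σV := by
      rw [hyb]
      exact fun h => Set.disjoint_left.mp hpM h
        (Submonoid.mem_sup_right (Submonoid.mem_powers σV))
    obtain ⟨τ, hτ, hτy⟩ := exists_specializes_of_specializes_map f t ht y hyt
    have hmτ := hmV.of_specializes hτ
    have hτr : τ ∈ T.basicOpen r := hmτ.mem_basicOpen_iff.mp (hτy ▸ hyσ)
    have hyW : y ∈ W := hτy ▸ hW hτr
    obtain ⟨c, hcW, hyc⟩ := hV.exists_basicOpen_le (V := W) ⟨y, hyW⟩ hyV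
    exact (hyb c).mp hyc (hJp (show c ∈ J from hcW))
  obtain ⟨m, hmJ, hmM⟩ := Set.not_disjoint_iff.mp hnd
  obtain ⟨c, hc, _, ⟨n, rfl⟩, rfl⟩ := Submonoid.mem_sup.mp hmM
  refine ⟨X.basicOpen c, hc, (X.basicOpen_le c).trans hVU', fun y hy => ?_⟩
  have hyV : y ∈ V := X.basicOpen_le c hy.1
  have h1 : y ∈ X.basicOpen σV := by
    rw [hσV, Scheme.basicOpen_res]; exact ⟨hyV, hy.2⟩
  have h2 : y ∈ X.basicOpen (σV ^ n) := by
    rcases Nat.eq_zero_or_pos n with rfl | hn
    · rw [pow_zero, Scheme.basicOpen_one]; exact hyV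
    · rw [X.basicOpen_pow σV hn]; exact h1
  have h3 : y ∈ X.basicOpen (c * σV ^ n) := by
    rw [Scheme.basicOpen_mul]; exact ⟨hy.1, h2⟩
  exact (show X.basicOpen (c * σV ^ n) ≤ W from hmJ) h3

section Inj

variable (hinj : ∀ ξ ξ' : T, closure ({ξ} : Set T) ∈ irreducibleComponents T →
    closure ({ξ'} : Set T) ∈ irreducibleComponents T → f ξ = f ξ' → ξ = ξ')

include hinj in
theorem mem_basicOpen_of_map_eq {t t' τ τ' : T} (ht : IsIso (f.stalkMap t))
    (ht' : IsIso (f.stalkMap t')) (hτ : τ ⤳ t) (hτ' : τ' ⤳ t') (h : f τ = f τ') (r : Γ(T, ⊤))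
    (hr : τ ∈ T.basicOpen r) : τ' ∈ T.basicOpen r := by
  by_contra hr'
  obtain ⟨V, σ, hm⟩ := exists_matches t ht r
  obtain ⟨V', σ', hm'⟩ := exists_matches t' ht' r
  have hmτ := hm.of_specializes hτ
  have hmτ' := hm'.of_specializes hτ'
  have hτi := isIso_stalkMap_of_specializes f hτ ht
  have hτ'i := isIso_stalkMap_of_specializes f hτ' ht'
  have h1 : f τ ∈ X.basicOpen σ := hmτ.mem_basicOpen_iff.mpr hr
  have h2 : f τ ∉ X.basicOpen σ' := fun h' => hr' (hmτ'.mem_basicOpen_iff.mp (h ▸ h'))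
  have hyV : f τ ∈ V := hmτ.1
  have hyV' : f τ ∈ V' := h ▸ hmτ'.1
  obtain ⟨η, hη, hηc⟩ := exists_generic_specializes (f τ)
  obtain ⟨ξ, hξ, rfl⟩ := exists_specializes_of_specializes_map f τ hτi η hη
  obtain ⟨ξ', hξ', hξξ'⟩ := exists_specializes_of_specializes_map f τ' hτ'i (f ξ) (h ▸ hη)
  have hc : closure ({ξ} : Set T) ∈ irreducibleComponents T :=
    closure_mem_irreducibleComponents τ hτi hξ hηc
  have hc' : closure ({ξ'} : Set T) ∈ irreducibleComponents T :=
    closure_mem_irreducibleComponents τ' hτ'i hξ' (hξξ'.symm ▸ hηc)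
  obtain rfl : ξ = ξ' := hinj ξ ξ' hc hc' hξξ'.symm
  obtain ⟨hξV, eξ⟩ := hmτ.of_specializes hξ
  obtain ⟨hξV', eξ'⟩ := hmτ'.of_specializes hξ'
  -- the difference section
  set d : Γ(X, V ⊓ V') := X.presheaf.map (homOfLE inf_le_left).op σ -
    X.presheaf.map (homOfLE inf_le_right).op σ' with hd
  have hyd : f τ ∈ X.basicOpen d := by
    rw [Scheme.mem_basicOpen _ _ _ (show f τ ∈ V ⊓ V' from ⟨hyV, hyV'⟩), hd, map_sub,
      TopCat.Presheaf.germ_res_apply, TopCat.Presheaf.germ_res_apply]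
    have hu : IsUnit (X.presheaf.germ V (f τ) hyV σ) := (Scheme.mem_basicOpen _ _ _ hyV).mp h1
    have hnu : ¬ IsUnit (X.presheaf.germ V' (f τ) hyV' σ') := fun h' =>
      h2 ((Scheme.mem_basicOpen _ _ _ hyV').mpr h')
    have := IsLocalRing.isUnit_or_isUnit_of_isUnit_add
      (a := X.presheaf.germ V (f τ) hyV σ - X.presheaf.germ V' (f τ) hyV' σ')
      (b := X.presheaf.germ V' (f τ) hyV' σ') (by rw [sub_add_cancel]; exact hu)
    exact this.resolve_right hnu
  have hξd : f ξ ∈ X.basicOpen d := hη.mem_open (X.basicOpen d).2 hyd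
  have hu := (Scheme.mem_basicOpen _ _ _ (show f ξ ∈ V ⊓ V' from ⟨hξV, hξV'⟩)).mp hξd
  have hu' := hu.map (f.stalkMap ξ).hom
  rw [hd, map_sub, TopCat.Presheaf.germ_res_apply, TopCat.Presheaf.germ_res_apply] at hu'
  change IsUnit (f.stalkMap ξ (X.presheaf.germ V (f ξ) hξV σ - X.presheaf.germ V' (f ξ) hξV' σ'))
    at hu'
  rw [map_sub, eξ, eξ', sub_self] at hu'
  exact not_isUnit_zero hu'

include hinj in
theorem eq_of_map_eq [IsAffine T] {t t' τ τ' : T} (ht : IsIso (f.stalkMap t))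
    (ht' : IsIso (f.stalkMap t')) (hτ : τ ⤳ t) (hτ' : τ' ⤳ t') (h : f τ = f τ') : τ = τ' := by
  have key : ∀ {t t' τ τ' : T}, IsIso (f.stalkMap t) → IsIso (f.stalkMap t') → τ ⤳ t →
      τ' ⤳ t' → f τ = f τ' → τ' ⤳ τ := by
    intro t t' τ τ' ht ht' hτ hτ' h
    rw [specializes_iff_forall_open]
    intro O hO hτO
    obtain ⟨_, ⟨_, ⟨r, rfl⟩, rfl⟩, hr, hrO⟩ :=
      (isBasis_basicOpen T).exists_subset_of_mem_open hτO hO
    exact hrO (mem_basicOpen_of_map_eq hinj ht ht' hτ hτ' h r hr)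
  exact ((key ht' ht hτ' hτ h.symm).antisymm (key ht ht' hτ hτ' h)).eq

include hinj in
theorem germ_eq_of_specializes [IsAffine T] {t t' : T} (ht : IsIso (f.stalkMap t))
    (ht' : IsIso (f.stalkMap t')) {r : Γ(T, ⊤)} {V V' : X.Opens} {σ : Γ(X, V)} {σ' : Γ(X, V')}
    (hm : Matches f σ r t) (hm' : Matches f σ' r t') (y : X) (hy : y ⤳ f t) (hy' : y ⤳ f t')
    (hyV : y ∈ V) (hyV' : y ∈ V') :
    X.presheaf.germ V y hyV σ = X.presheaf.germ V' y hyV' σ' := by
  obtain ⟨τ, hτ, rfl⟩ := exists_specializes_of_specializes_map f t ht y hy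
  obtain ⟨τ', hτ', e⟩ := exists_specializes_of_specializes_map f t' ht' (f τ) hy'
  obtain rfl : τ = τ' := eq_of_map_eq hinj ht ht' hτ hτ' e.symm
  have hτi := isIso_stalkMap_of_specializes f hτ ht
  obtain ⟨_, e1⟩ := hm.of_specializes hτ
  obtain ⟨_, e2⟩ := hm'.of_specializes hτ'
  exact (ConcreteCategory.bijective_of_isIso (f.stalkMap τ)).1 (e1.trans e2.symm)

include hinj in
theorem exists_basicOpen_germ_eq [IsAffine T] {t t' : T} (ht : IsIso (f.stalkMap t))
    (ht' : IsIso (f.stalkMap t')) {r : Γ(T, ⊤)} {V V' : X.Opens} (hV : IsAffineOpen V)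
    (hV' : IsAffineOpen V') {σ : Γ(X, V)} {σ' : Γ(X, V')}
    (hm : Matches f σ r t) (hm' : Matches f σ' r t') {E : X.Opens} (hE : IsAffineOpen E)
    (hEV : E ≤ V) (hEV' : E ≤ V') :
    ∃ (c : Γ(X, V)) (c' : Γ(X, V')), f t ∈ X.basicOpen c ∧ f t' ∈ X.basicOpen c' ∧
      ∀ (y : X) (hyE : y ∈ E), y ∈ X.basicOpen c → y ∈ X.basicOpen c' →
        X.presheaf.germ V y (hEV hyE) σ = X.presheaf.germ V' y (hEV' hyE) σ' := by
  classical
  let ρ := X.presheaf.map (homOfLE hEV).op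
  let ρ' := X.presheaf.map (homOfLE hEV').op
  set d : Γ(X, E) := ρ σ - ρ' σ' with hd
  let S : Submonoid Γ(X, V) :=
    { carrier := {c | f t ∈ X.basicOpen c}
      one_mem' := by
        change f t ∈ X.basicOpen (1 : Γ(X, V))
        rw [Scheme.basicOpen_one]; exact hm.1
      mul_mem' := by
        intro a b ha hb
        change f t ∈ X.basicOpen (a * b)
        rw [Scheme.basicOpen_mul]; exact ⟨ha, hb⟩ }
  let S' : Submonoid Γ(X, V') :=
    { carrier := {c | f t' ∈ X.basicOpen c}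
      one_mem' := by
        change f t' ∈ X.basicOpen (1 : Γ(X, V'))
        rw [Scheme.basicOpen_one]; exact hm'.1
      mul_mem' := by
        intro a b ha hb
        change f t' ∈ X.basicOpen (a * b)
        rw [Scheme.basicOpen_mul]; exact ⟨ha, hb⟩ }
  let M : Submonoid Γ(X, E) := S.map ρ.hom ⊔ S'.map ρ'.hom
  let I : Ideal Γ(X, E) := LinearMap.ker (LinearMap.toSpanSingleton Γ(X, E) Γ(X, E) d)
  have hI : ∀ a : Γ(X, E), a ∈ I ↔ a * d = 0 := fun a => by
    rw [LinearMap.mem_ker, LinearMap.toSpanSingleton_apply, smul_eq_mul]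
  have hnd : ¬ Disjoint (I : Set Γ(X, E)) (M : Set Γ(X, E)) := by
    intro hdis
    obtain ⟨p, hp, hIp, hpM⟩ := Ideal.exists_le_prime_disjoint I M hdis
    let y : X := hE.fromSpec (⟨p, hp⟩ : PrimeSpectrum Γ(X, E))
    have hyE : y ∈ E := by
      have : y ∈ Set.range hE.fromSpec := ⟨_, rfl⟩
      rw [hE.range_fromSpec] at this; exact this
    have hyb : ∀ a : Γ(X, E), y ∈ X.basicOpen a ↔ a ∉ p := by
      intro a
      have := hE.fromSpec_preimage_basicOpen a
      have h1 : y ∈ X.basicOpen a ↔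
          (⟨p, hp⟩ : PrimeSpectrum Γ(X, E)) ∈ (hE.fromSpec ⁻¹ᵁ X.basicOpen a) := Iff.rfl
      rw [h1, this]
      rfl
    have hyt : y ⤳ f t := by
      rw [specializes_iff_forall_open]
      intro O hO htO
      obtain ⟨c, hcO, htc⟩ := hV.exists_basicOpen_le (V := ⟨O, hO⟩) ⟨f t, htO⟩ hm.1
      have hcM : ρ c ∈ M := Submonoid.mem_sup_left (Submonoid.mem_map_of_mem _ (show c ∈ S from htc))
      have hcp : ρ c ∉ p := fun h => Set.disjoint_left.mp hpM h hcM
      have h2 := (hyb _).mpr hcp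
      rw [Scheme.basicOpen_res] at h2
      exact hcO h2.2
    have hyt' : y ⤳ f t' := by
      rw [specializes_iff_forall_open]
      intro O hO htO
      obtain ⟨c, hcO, htc⟩ := hV'.exists_basicOpen_le (V := ⟨O, hO⟩) ⟨f t', htO⟩ hm'.1
      have hcM : ρ' c ∈ M :=
        Submonoid.mem_sup_right (Submonoid.mem_map_of_mem _ (show c ∈ S' from htc))
      have hcp : ρ' c ∉ p := fun h => Set.disjoint_left.mp hpM h hcM
      have h2 := (hyb _).mpr hcp
      rw [Scheme.basicOpen_res] at h2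
      exact hcO h2.2
    have hg := germ_eq_of_specializes hinj ht ht' hm hm' y hyt hyt' (hEV hyE) (hEV' hyE)
    have hgd : X.presheaf.germ E y hyE d = X.presheaf.germ E y hyE 0 := by
      rw [hd, map_sub, map_zero]
      change X.presheaf.germ E y hyE (X.presheaf.map (homOfLE hEV).op σ) -
        X.presheaf.germ E y hyE (X.presheaf.map (homOfLE hEV').op σ') = 0
      rw [TopCat.Presheaf.germ_res_apply, TopCat.Presheaf.germ_res_apply, hg, sub_self]
    obtain ⟨W, hyW, iU, iV, hW⟩ := X.presheaf.germ_eq y hyE hyE d 0 hgd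
    obtain ⟨a, haW, hya⟩ := hE.exists_basicOpen_le ⟨y, hyW⟩ hyE
    have hres : X.presheaf.map (homOfLE (X.basicOpen_le a)).op d = 0 := by
      have h3 : (homOfLE (X.basicOpen_le a)).op =
          iU.op ≫ (homOfLE haW).op := rfl
      rw [h3, X.presheaf.map_comp, CommRingCat.comp_apply, hW]
      have h4 : (iV.op ≫ (homOfLE haW).op) = (homOfLE (X.basicOpen_le a)).op := rfl
      rw [← CommRingCat.comp_apply, ← X.presheaf.map_comp, map_zero]
    obtain ⟨n, hn⟩ := exists_pow_mul_eq_zero_of_res_basicOpen_eq_zero_of_isAffineOpen X hE d a hres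
    have hap : a ^ n ∈ p := hIp ((hI _).mpr hn)
    exact (hyb a).mp hya (hp.mem_of_pow_mem n hap)
  obtain ⟨m, hmI, hmM⟩ := Set.not_disjoint_iff.mp hnd
  obtain ⟨_, ⟨c, hc, rfl⟩, _, ⟨c', hc', rfl⟩, rfl⟩ := Submonoid.mem_sup.mp hmM
  refine ⟨c, c', hc, hc', fun y hyE hyc hyc' => ?_⟩
  have h0 := (hI _).mp hmI
  have h1 := congrArg (X.presheaf.germ E y hyE) h0
  rw [map_mul, map_mul, map_zero] at h1
  change X.presheaf.germ E y hyE (X.presheaf.map (homOfLE hEV).op c) *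
    X.presheaf.germ E y hyE (X.presheaf.map (homOfLE hEV').op c') * _ = 0 at h1
  rw [TopCat.Presheaf.germ_res_apply, TopCat.Presheaf.germ_res_apply] at h1
  have u1 : IsUnit (X.presheaf.germ V y (hEV hyE) c) := (Scheme.mem_basicOpen _ _ _ _).mp hyc
  have u2 : IsUnit (X.presheaf.germ V' y (hEV' hyE) c') := (Scheme.mem_basicOpen _ _ _ _).mp hyc'
  have h2 := (u1.mul u2).mul_right_eq_zero.mp h1
  rw [hd, map_sub] at h2
  change X.presheaf.germ E y hyE (X.presheaf.map (homOfLE hEV).op σ) -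
    X.presheaf.germ E y hyE (X.presheaf.map (homOfLE hEV').op σ') = 0 at h2
  rw [TopCat.Presheaf.germ_res_apply, TopCat.Presheaf.germ_res_apply] at h2
  exact sub_eq_zero.mp h2

include hinj in
theorem exists_nhds_germ_eq [IsAffine T] [QuasiSeparatedSpace X] {t t' : T}
    (ht : IsIso (f.stalkMap t)) (ht' : IsIso (f.stalkMap t')) {r : Γ(T, ⊤)} {V V' : X.Opens}
    (hV : IsAffineOpen V) (hV' : IsAffineOpen V') {σ : Γ(X, V)} {σ' : Γ(X, V')}
    (hm : Matches f σ r t) (hm' : Matches f σ' r t') :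
    ∃ N N' : X.Opens, f t ∈ N ∧ f t' ∈ N' ∧
      ∀ (y : X) (hyV : y ∈ V) (hyV' : y ∈ V'), y ∈ N → y ∈ N' →
        X.presheaf.germ V y hyV σ = X.presheaf.germ V' y hyV' σ' := by
  classical
  have hcomp : IsCompact (X := X) (V ⊓ V' : X.Opens) :=
    QuasiSeparatedSpace.inter_isCompact _ _ V.2 hV.isCompact V'.2 hV'.isCompact
  obtain ⟨𝒮, h𝒮, e⟩ := isCompact_iff_finite_and_eq_biUnion_affineOpens.mp hcomp
  have hfin : Finite 𝒮 := h𝒮.to_subtype
  have hle : ∀ E : 𝒮, (E.1 : X.Opens) ≤ V ⊓ V' := by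
    intro E
    rw [e]
    exact le_iSup₂ (f := fun (i : X.affineOpens) (_ : i ∈ 𝒮) => (i : X.Opens)) E.1 E.2
  have H : ∀ E : 𝒮, ∃ (c : Γ(X, V)) (c' : Γ(X, V')), f t ∈ X.basicOpen c ∧
      f t' ∈ X.basicOpen c' ∧ ∀ (y : X) (hyE : y ∈ (E.1 : X.Opens)), y ∈ X.basicOpen c →
        y ∈ X.basicOpen c' → X.presheaf.germ V y ((hle E).trans inf_le_left hyE) σ =
          X.presheaf.germ V' y ((hle E).trans inf_le_right hyE) σ' := fun E =>
    exists_basicOpen_germ_eq hinj ht ht' hV hV' hm hm' E.1.2 _ _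
  choose c c' hc hc' hcc using H
  refine ⟨⨅ E : 𝒮, X.basicOpen (c E), ⨅ E : 𝒮, X.basicOpen (c' E), ?_, ?_, ?_⟩
  · rw [← SetLike.mem_coe, Opens.coe_iInf]
    exact Set.mem_iInter.mpr hc
  · rw [← SetLike.mem_coe, Opens.coe_iInf]
    exact Set.mem_iInter.mpr hc'
  · intro y hyV hyV' hyN hyN'
    rw [← SetLike.mem_coe, Opens.coe_iInf, Set.mem_iInter] at hyN hyN'
    have hy : y ∈ (V ⊓ V' : X.Opens) := ⟨hyV, hyV'⟩
    rw [e] at hy
    obtain ⟨E, hE⟩ := Opens.mem_iSup.mp hy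
    obtain ⟨hE𝒮, hyE⟩ := Opens.mem_iSup.mp hE
    exact hcc ⟨E, hE𝒮⟩ y hyE (hyN ⟨E, hE𝒮⟩) (hyN' ⟨E, hE𝒮⟩)

/-- Gluing two sections of the structure sheaf which agree on the intersection. -/
theorem exists_glue₂ {U₁ U₂ : X.Opens} (σ₁ : Γ(X, U₁)) (σ₂ : Γ(X, U₂))
    (h : ∀ (y : X) (h₁ : y ∈ U₁) (h₂ : y ∈ U₂),
      X.presheaf.germ U₁ y h₁ σ₁ = X.presheaf.germ U₂ y h₂ σ₂) :
    ∃ σ : Γ(X, U₁ ⊔ U₂), X.presheaf.map (homOfLE le_sup_left).op σ = σ₁ ∧
      X.presheaf.map (homOfLE le_sup_right).op σ = σ₂ := by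
  let Uι : Bool → X.Opens := fun b => cond b U₁ U₂
  let sf : ∀ b : Bool, Γ(X, Uι b) := fun b => match b with
    | true => σ₁
    | false => σ₂
  have hcompat : TopCat.Presheaf.IsCompatible X.sheaf.1 Uι sf := by
    intro i j
    refine TopCat.Presheaf.section_ext X.sheaf _ _ _ fun y hy => ?_
    rw [TopCat.Presheaf.germ_res_apply, TopCat.Presheaf.germ_res_apply]
    cases i <;> cases j
    · rfl
    · exact (h y hy.2 hy.1).symm
    · exact h y hy.1 hy.2
    · rfl
  have hcover : U₁ ⊔ U₂ ≤ iSup Uι := by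
    intro y hy
    rcases hy with hy | hy
    · exact Opens.mem_iSup.mpr ⟨true, hy⟩
    · exact Opens.mem_iSup.mpr ⟨false, hy⟩
  obtain ⟨σ, hσ, -⟩ := X.sheaf.existsUnique_gluing' Uι (U₁ ⊔ U₂)
    (fun b => match b with
      | true => homOfLE le_sup_left
      | false => homOfLE le_sup_right) hcover sf hcompat
  exact ⟨σ, hσ true, hσ false⟩

include hinj in
theorem exists_section [IsAffine T] [QuasiSeparatedSpace X] (s : Finset T)
    (hs : ∀ t ∈ s, IsIso (f.stalkMap t)) (r : Γ(T, ⊤)) :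
    ∃ (U : X.Opens) (σ : Γ(X, U)), ∀ t ∈ s, Matches f σ r t := by
  classical
  induction s using Finset.induction_on with
  | empty => exact ⟨⊥, 0, by simp⟩
  | insert t0 s hts ih =>
    obtain ⟨U, σ, hσ⟩ := ih (fun t ht => hs t (Finset.mem_insert_of_mem ht))
    have ht0 : IsIso (f.stalkMap t0) := hs t0 (Finset.mem_insert_self _ _)
    obtain ⟨V0, σ0, hm0⟩ := exists_matches t0 ht0 r
    obtain ⟨_, ⟨V0', hV0', rfl⟩, h0V0', hV0'le⟩ :=
      X.isBasis_affineOpens.exists_subset_of_mem_open hm0.1 V0.2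
    have hm0' := hm0.res (U' := V0') hV0'le h0V0'
    have H : ∀ t : s, ∃ (N N' : X.Opens) (hNU : N ≤ U), f t.1 ∈ N ∧ f t0 ∈ N' ∧
        ∀ (y : X) (hyN : y ∈ N) (hyV : y ∈ V0'), y ∈ N' →
          X.presheaf.germ U y (hNU hyN) σ =
            X.presheaf.germ V0' y hyV (X.presheaf.map (homOfLE hV0'le).op σ0) := by
      intro t
      have htiso : IsIso (f.stalkMap t.1) := hs t.1 (Finset.mem_insert_of_mem t.2)
      obtain ⟨_, ⟨Vt, hVt, rfl⟩, htVt, hVtle⟩ :=
        X.isBasis_affineOpens.exists_subset_of_mem_open (hσ t.1 t.2).1 U.2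
      have hmt := (hσ t.1 t.2).res (U' := Vt) hVtle htVt
      obtain ⟨N, N', hN, hN', hNN⟩ := exists_nhds_germ_eq hinj htiso ht0 hVt hV0' hmt hm0'
      refine ⟨Vt ⊓ N, N', inf_le_left.trans hVtle, ⟨htVt, hN⟩, hN', fun y hyN hyV hyN' => ?_⟩
      have := hNN y hyN.1 hyV hyN.2 hyN'
      rw [TopCat.Presheaf.germ_res_apply] at this
      exact this
    choose N N' hNU hN hN' hNN using H
    have hU₁ : (⨆ t : s, N t) ≤ U := iSup_le hNU
    obtain ⟨σn, hσn1, hσn2⟩ := exists_glue₂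
      (X.presheaf.map (homOfLE hU₁).op σ)
      (X.presheaf.map (homOfLE (inf_le_left : V0' ⊓ ⨅ t : s, N' t ≤ V0')).op
        (X.presheaf.map (homOfLE hV0'le).op σ0)) (by
      intro y h₁ h₂
      rw [TopCat.Presheaf.germ_res_apply, TopCat.Presheaf.germ_res_apply]
      obtain ⟨t, hyt⟩ := Opens.mem_iSup.mp h₁
      have h3 : y ∈ ⨅ t : s, N' t := h₂.2
      rw [← SetLike.mem_coe, Opens.coe_iInf, Set.mem_iInter] at h3
      exact hNN t y hyt h₂.1 (h3 t))
    refine ⟨_, σn, fun t ht => ?_⟩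
    rcases Finset.mem_insert.mp ht with rfl | ht
    · apply Matches.of_res le_sup_right
      rw [hσn2]
      refine (hm0'.res _ ?_)
      refine ⟨h0V0', ?_⟩
      rw [Opens.coe_iInf, Set.mem_iInter]
      exact hN'
    · apply Matches.of_res le_sup_left
      rw [hσn1]
      exact (hσ t ht).res _ (Opens.mem_iSup.mpr ⟨⟨t, ht⟩, hN ⟨t, ht⟩⟩)

include hinj in
/-- **Stacks 09NQ** (without the finiteness and generic-point-to-generic-point hypotheses): let
`f : T ⟶ X` with `T` affine and `X` quasi-separated be injective on generic points of irreducible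
components, and let `s` be a finite set of points of `T` at which the stalk map is an isomorphism.
Then `f '' s` is contained in an affine open of `X`. -/
theorem exists_isAffineOpen_of_isIso_stalkMap [IsAffine T] [QuasiSeparatedSpace X] (s : Finset T)
    (hs : ∀ t ∈ s, IsIso (f.stalkMap t)) :
    ∃ U : X.Opens, IsAffineOpen U ∧ ∀ t ∈ s, f t ∈ U := by
  classical
  have key : ∀ p ∈ f '' (s : Set T), ∃ (U : X.Opens) (σ : Γ(X, U)) (W : X.Opens),
      f '' (s : Set T) ⊆ U ∧ IsAffineOpen W ∧ p ∈ X.basicOpen σ ∧ X.basicOpen σ ≤ W := by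
    rintro _ ⟨t0, ht0, rfl⟩
    obtain ⟨_, ⟨W, hW : IsAffineOpen W, rfl⟩, ht0W, -⟩ :=
      X.isBasis_affineOpens.exists_subset_of_mem_open (Set.mem_univ (f t0)) isOpen_univ
    obtain ⟨_, ⟨_, ⟨r, rfl⟩, rfl⟩, hr, hrW⟩ :=
      (isBasis_basicOpen T).exists_subset_of_mem_open (show t0 ∈ (f ⁻¹ᵁ W : Set T) from ht0W)
        (f ⁻¹ᵁ W).2
    obtain ⟨U, σ, hσ⟩ := exists_section hinj s hs r
    have H : ∀ t : s, ∃ N : X.Opens, f t.1 ∈ N ∧ N ≤ U ∧ N ⊓ X.basicOpen σ ≤ W := fun t =>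
      exists_nhd_inf_basicOpen_le t.1 (hs t.1 t.2) (hσ t.1 t.2) hrW
    choose N hN hNU hNW using H
    have hU'U : (⨆ t : s, N t) ≤ U := iSup_le hNU
    refine ⟨⨆ t : s, N t, X.presheaf.map (homOfLE hU'U).op σ, W, ?_, hW, ?_, ?_⟩
    · rintro _ ⟨t, ht, rfl⟩
      exact Opens.mem_iSup.mpr ⟨⟨t, ht⟩, hN ⟨t, ht⟩⟩
    · rw [Scheme.basicOpen_res]
      exact ⟨Opens.mem_iSup.mpr ⟨⟨t0, ht0⟩, hN _⟩, (hσ t0 ht0).mem_basicOpen_iff.mpr hr⟩
    · rw [Scheme.basicOpen_res]
      rintro y ⟨hyU', hyσ⟩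
      obtain ⟨t, hyt⟩ := Opens.mem_iSup.mp hyU'
      exact hNW t ⟨hyt, hyσ⟩
  obtain ⟨U, hU, hPU⟩ := exists_isAffineOpen_of_forall_exists_basicOpen_le (X := X)
    (f '' (s : Set T)) (s.finite_toSet.image _) key
  exact ⟨U, hU, fun t ht => hPU ⟨t, ht, rfl⟩⟩

end Inj

end Groth.Agent.Lib.AffNbhd13c
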