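import Groth.Prelude.Def_QuadGrp2
import Mathlib.AlgebraicGeometry.Morphisms.IsIso
import Mathlib.AlgebraicGeometry.Morphisms.Smooth

/-!
# Schemes over `Spec R` with a universal affine-valued point are affine (helper16)

`IsUniv G B₀ ξ` : `ξ : specOver R B₀ ⟶ G` is a point through which every point `specOver R A ⟶ G` (A an `R`-algebra in
the universe of `R`) factors uniquely via an `R`-algebra map `B₀ → A`.  Then `ξ` is an isomorphism (`isIso`, `isIso_left`;
"Yoneda on affine test schemes": `ξ.left` is a monomorphism because maps from affine schemes into `Spec B₀` are detected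
after `ξ`, and over every affine open of `G` it has a section).  Consequences used to turn the pinned binders of
`Def_QuadGrp2` (`LinRep`, `CliffRep`) into ring statements: `smooth_iff`, `flat_iff`, `isReduced_iff`, `isAffineHom`,
`prop_iff` (any iso-invariant property of `G.hom` vs. `Spec.map (algebraMap R B₀)`).
-/

set_option autoImplicit false
set_option linter.style.haveILetI false
set_option linter.unusedSectionVars false
set_option linter.unusedSimpArgs false
set_option linter.unusedVariables false

namespace Groth.Agent.Lib.AffRep16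
open CategoryTheory AlgebraicGeometry Limits QuadGrp

universe u
variable {R : Type u} [CommRing R]

/-- `ξ` is a universal point of `G` with values in affine `R`-schemes. -/
def IsUniv (G : Over (Spec (CommRingCat.of R))) (B₀ : Type u) [CommRing B₀] [Algebra R B₀]
    (ξ : specOver R B₀ ⟶ G) : Prop :=
  ∀ (A : Type u) [CommRing A] [Algebra R A] (y : specOver R A ⟶ G),
    ∃! φ : B₀ →ₐ[R] A, specOverMap R φ ≫ ξ = y

variable {G : Over (Spec (CommRingCat.of R))} {B₀ : Type u} [CommRing B₀] [Algebra R B₀]
  {ξ : specOver R B₀ ⟶ G}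

theorem specOver_left (A : Type u) [CommRing A] [Algebra R A] :
    (specOver R A).left = Spec (CommRingCat.of A) := rfl

theorem specOver_hom (A : Type u) [CommRing A] [Algebra R A] :
    (specOver R A).hom = Spec.map (CommRingCat.ofHom (algebraMap R A)) := rfl

theorem specOverMap_left {A B : Type u} [CommRing A] [Algebra R A] [CommRing B] [Algebra R B]
    (φ : A →ₐ[R] B) : (specOverMap R φ).left = Spec.map (CommRingCat.ofHom φ.toRingHom) := rfl

/-- Affine-valued points: two maps from an affine scheme into `Spec B₀` that agree after `ξ` are equal. -/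
theorem eq_of_comp_eq_affine (hξ : IsUniv G B₀ ξ) (A : CommRingCat.{u})
    (a b : Spec A ⟶ Spec (CommRingCat.of B₀)) (h : a ≫ ξ.left = b ≫ ξ.left) : a = b := by
  obtain ⟨α, rfl⟩ := Spec.map_surjective a
  obtain ⟨β, rfl⟩ := Spec.map_surjective b
  let _ : Algebra R A := (α.hom.comp (algebraMap R B₀)).toAlgebra
  have hw : ξ.left ≫ G.hom = Spec.map (CommRingCat.ofHom (algebraMap R B₀)) := Over.w ξ
  have hβ : β.hom.comp (algebraMap R B₀) = α.hom.comp (algebraMap R B₀) := by
    have h0 : (Spec.map α ≫ ξ.left) ≫ G.hom = (Spec.map β ≫ ξ.left) ≫ G.hom := by rw [h]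
    have h1 : Spec.map α ≫ Spec.map (CommRingCat.ofHom (algebraMap R B₀)) =
        Spec.map β ≫ Spec.map (CommRingCat.ofHom (algebraMap R B₀)) := by
      rw [← hw]
      exact (Category.assoc _ _ _).symm.trans (h0.trans (Category.assoc _ _ _))
    rw [← Spec.map_comp, ← Spec.map_comp] at h1
    have h2 := Spec.map_injective h1
    have h3 := congrArg CommRingCat.Hom.hom h2
    simpa using h3.symm
  let αa : B₀ →ₐ[R] A := AlgHom.mk α.hom (fun r => rfl)
  let βa : B₀ →ₐ[R] A := AlgHom.mk β.hom (fun r => congrArg (fun f => f r) hβ)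
  have hαβ : specOverMap R αa ≫ ξ = specOverMap R βa ≫ ξ := by
    apply Over.OverMorphism.ext
    exact h
  obtain ⟨φ, -, huniq⟩ := hξ A (specOverMap R αa ≫ ξ)
  have e1 : αa = φ := huniq αa rfl
  have e2 : βa = φ := huniq βa hαβ.symm
  have e3 : αa = βa := e1.trans e2.symm
  have e4 : α.hom = β.hom := by
    ext x
    exact congrArg (fun f : B₀ →ₐ[R] A => f x) e3
  have e5 : α = β := CommRingCat.hom_ext e4
  rw [e5]

end Groth.Agent.Lib.AffRep16

namespace Groth.Agent.Lib.AffRep16
open CategoryTheory AlgebraicGeometry Limits QuadGrp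

universe u
variable {R : Type u} [CommRing R]
variable {G : Over (Spec (CommRingCat.of R))} {B₀ : Type u} [CommRing B₀] [Algebra R B₀]
  {ξ : specOver R B₀ ⟶ G}

theorem mono_left (hξ : IsUniv G B₀ ξ) : Mono ξ.left := by
  constructor
  intro T a b h
  apply Scheme.Cover.hom_ext T.affineCover
  intro i
  apply eq_of_comp_eq_affine hξ
  exact (Category.assoc _ _ _).trans ((congrArg (_ ≫ ·) h).trans (Category.assoc _ _ _).symm)

/-- Every affine-valued point of `G` lifts through `ξ`. -/
theorem exists_lift_affine (hξ : IsUniv G B₀ ξ) (A : CommRingCat.{u}) (y : Spec A ⟶ G.left) :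
    ∃ s : Spec A ⟶ (specOver R B₀).left, s ≫ ξ.left = y := by
  obtain ⟨ρ, hρ⟩ := Spec.map_surjective (y ≫ G.hom)
  let _ : Algebra R A := ρ.hom.toAlgebra
  let y' : specOver R A ⟶ G := Over.homMk y hρ.symm
  obtain ⟨φ, hφ, -⟩ := hξ A y'
  exact ⟨(specOverMap R φ).left, congrArg (fun f => f.left) hφ⟩

theorem isIso_left (hξ : IsUniv G B₀ ξ) : IsIso ξ.left := by
  have hm := mono_left hξ
  change MorphismProperty.isomorphisms Scheme ξ.left
  apply IsZariskiLocalAtTarget.of_openCover (P := MorphismProperty.isomorphisms Scheme) G.left.affineCover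
  intro i
  change IsIso (pullback.snd ξ.left (G.left.affineCover.f i))
  obtain ⟨s, hs⟩ := exists_lift_affine hξ _ (G.left.affineCover.f i)
  have : IsSplitEpi (pullback.snd ξ.left (G.left.affineCover.f i)) :=
    IsSplitEpi.mk' ⟨pullback.lift s (𝟙 _) (hs.trans (Category.id_comp _).symm), pullback.lift_snd _ _ _⟩
  exact isIso_of_mono_of_isSplitEpi _

theorem isIso (hξ : IsUniv G B₀ ξ) : IsIso ξ := by
  have : IsIso ((Over.forget _).map ξ) := isIso_left hξ
  exact isIso_of_reflects_iso ξ (Over.forget _)

end Groth.Agent.Lib.AffRep16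

namespace Groth.Agent.Lib.AffRep16
open CategoryTheory AlgebraicGeometry Limits QuadGrp

universe u
variable {R : Type u} [CommRing R]
variable {G : Over (Spec (CommRingCat.of R))} {B₀ : Type u} [CommRing B₀] [Algebra R B₀]
  {ξ : specOver R B₀ ⟶ G}

theorem left_comp_hom (ξ : specOver R B₀ ⟶ G) :
    ξ.left ≫ G.hom = Spec.map (CommRingCat.ofHom (algebraMap R B₀)) := Over.w ξ

set_option backward.isDefEq.respectTransparency false in
theorem prop_iff {P : MorphismProperty Scheme.{u}} [P.RespectsIso] (hξ : IsUniv G B₀ ξ) :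
    P G.hom ↔ P (Spec.map (CommRingCat.ofHom (algebraMap R B₀))) := by
  have := isIso_left hξ
  rw [← left_comp_hom ξ]
  exact (P.cancel_left_of_respectsIso ξ.left G.hom).symm

set_option backward.isDefEq.respectTransparency false in
theorem smooth_iff (hξ : IsUniv G B₀ ξ) : Smooth G.hom ↔ Algebra.Smooth R B₀ := by
  rw [prop_iff (P := @Smooth) hξ, HasRingHomProperty.Spec_iff (P := @Smooth), CommRingCat.hom_ofHom,
    RingHom.smooth_algebraMap]

set_option backward.isDefEq.respectTransparency false in
theorem flat_iff (hξ : IsUniv G B₀ ξ) : Flat G.hom ↔ Module.Flat R B₀ := by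
  rw [prop_iff (P := @Flat) hξ, HasRingHomProperty.Spec_iff (P := @Flat), CommRingCat.hom_ofHom,
    RingHom.flat_algebraMap_iff]

set_option backward.isDefEq.respectTransparency false in
theorem isAffineHom (hξ : IsUniv G B₀ ξ) : IsAffineHom G.hom := by
  rw [prop_iff (P := @IsAffineHom) hξ]
  infer_instance

set_option backward.isDefEq.respectTransparency false in
theorem isReduced_iff (hξ : IsUniv G B₀ ξ) : IsReduced G.left ↔ _root_.IsReduced B₀ := by
  have := isIso_left hξ
  rw [← affine_isReduced_iff (CommRingCat.of B₀)]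
  constructor
  · intro h
    exact isReduced_of_isOpenImmersion ξ.left
  · intro h
    have h' : IsReduced (specOver R B₀).left := h
    exact isReduced_of_isOpenImmersion (inv ξ.left)

end Groth.Agent.Lib.AffRep16
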