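import Groth.Agent.Lib.AffVan
import Mathlib.AlgebraicGeometry.Morphisms.QuasiSeparated

/-!
# AffVan: vanishing above the number of affines, and on quasi-compact quasi-separated schemes

* `HU_finsetSup_eq_zero`: if `P` is a class of affine opens stable under pairwise intersection and
  `V i`, `i ∈ s`, belong to `P`, then `H'^n(⋃_{i ∈ s} V i, F) = 0` for `n ≥ #s` and `F` quasi-coherent.
* `HasVanishingBound W`: there is `d` with `H'^n(W, F) = 0` for all quasi-coherent `F` and `n ≥ d`.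
* `hasVanishingBound_of_isCompact`: every quasi-compact open of a quasi-separated scheme has a
  vanishing bound.
-/

set_option autoImplicit false
universe u
open CategoryTheory CategoryTheory.Limits AlgebraicGeometry TopologicalSpace Opposite

namespace Groth.Agent.Lib.AffVan

open Groth.Agent.Lib.AffVanSections Groth.Agent.Lib.AffVanTop

variable {X : Scheme.{u}}

lemma HU_eq_zero_of_eq (A : CohTop.Ab X.toTopCat) (n : ℕ) {V V' : X.Opens} (h : V = V')
    (h0 : ∀ α : CohTop.HU A n V', α = 0) (α : CohTop.HU A n V) : α = 0 := by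
  subst h
  exact h0 α

/-- Two-open glueing when all the neighbouring groups vanish. -/
lemma HU_sup_eq_zero (A : CohTop.Ab X.toTopCat) (n : ℕ) {V₁ V₂ : X.Opens}
    (h1 : ∀ α : CohTop.HU A (n + 1) V₁, α = 0) (h2 : ∀ α : CohTop.HU A (n + 1) V₂, α = 0)
    (h12 : ∀ β : CohTop.HU A n (V₁ ⊓ V₂), β = 0) (α : CohTop.HU A (n + 1) (V₁ ⊔ V₂)) : α = 0 := by
  apply eq_zero_of_mv A n (le_sup_left : V₁ ≤ V₁ ⊔ V₂) (le_sup_right : V₂ ≤ V₁ ⊔ V₂) le_rfl _ α
    (h1 _) (h2 _)
  intro β
  refine ⟨0, 0, ?_⟩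
  rw [map_zero, map_zero, sub_zero]
  exact (h12 β).symm

/-- **Vanishing above the number of affines.** -/
theorem HU_finsetSup_eq_zero (F : X.Modules) (hF : Coh.IsQCoh F) (P : X.Opens → Prop)
    (hP : ∀ V, P V → IsAffineOpen V) (hPinf : ∀ V W, P V → P W → P (V ⊓ W))
    {ι : Type*} (s : Finset ι) (V : ι → X.Opens) (hV : ∀ i ∈ s, P (V i)) (n : ℕ)
    (hn : s.card ≤ n) (α : CohTop.HU (Coh.toAb F) n (s.sup V)) : α = 0 := by
  classical
  induction s using Finset.induction_on generalizing V n with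
  | empty =>
    exact HU_eq_zero_of_eq_bot (Coh.toAb F) n Finset.sup_empty α
  | insert a s ha ih =>
    rw [Finset.card_insert_of_notMem ha] at hn
    obtain ⟨m, rfl⟩ := Nat.exists_eq_succ_of_ne_zero (by omega : n ≠ 0)
    have hPa : P (V a) := hV a (Finset.mem_insert_self a s)
    have hPs : ∀ i ∈ s, P (V i) := fun i hi => hV i (Finset.mem_insert_of_mem hi)
    refine HU_eq_zero_of_eq (Coh.toAb F) (m + 1) (Finset.sup_insert) ?_ α
    apply HU_sup_eq_zero
    · exact HU_eq_zero_of_isAffineOpen F hF m (hP _ hPa)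
    · exact ih V hPs (m + 1) (by omega)
    · refine HU_eq_zero_of_eq (Coh.toAb F) m (Finset.sup_inf_distrib_left s V (V a)) ?_
      exact ih (fun i => V a ⊓ V i) (fun i hi => hPinf _ _ hPa (hPs i hi)) m (by omega)

/-- `W` has a vanishing bound: quasi-coherent cohomology of `W` vanishes in large degrees,
uniformly in the module. -/
def HasVanishingBound (W : X.Opens) : Prop :=
  ∃ d : ℕ, ∀ (F : X.Modules), Coh.IsQCoh F → ∀ n : ℕ, d ≤ n →
    ∀ α : CohTop.HU (Coh.toAb F) n W, α = 0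

lemma hasVanishingBound_bot : HasVanishingBound (⊥ : X.Opens) :=
  ⟨0, fun F _ n _ α => HU_bot_eq_zero (Coh.toAb F) n α⟩

lemma hasVanishingBound_of_isAffineOpen {U : X.Opens} (hU : IsAffineOpen U) :
    HasVanishingBound U :=
  ⟨1, fun F hF n hn α => by
    obtain ⟨m, rfl⟩ := Nat.exists_eq_succ_of_ne_zero (by omega : n ≠ 0)
    exact HU_eq_zero_of_isAffineOpen F hF m hU α⟩

lemma HasVanishingBound.sup {V₁ V₂ : X.Opens} (h1 : HasVanishingBound V₁)
    (h2 : HasVanishingBound V₂) (h12 : HasVanishingBound (V₁ ⊓ V₂)) :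
    HasVanishingBound (V₁ ⊔ V₂) := by
  obtain ⟨d1, hd1⟩ := h1
  obtain ⟨d2, hd2⟩ := h2
  obtain ⟨d12, hd12⟩ := h12
  refine ⟨max (max d1 d2) (d12 + 1), fun F hF n hn α => ?_⟩
  obtain ⟨m, rfl⟩ := Nat.exists_eq_succ_of_ne_zero (by omega : n ≠ 0)
  exact HU_sup_eq_zero (Coh.toAb F) m (hd1 F hF _ (by omega)) (hd2 F hF _ (by omega))
    (hd12 F hF _ (by omega)) α

/-- A quasi-compact open contained in an affine open is a finite union of basic opens. -/
lemma exists_finset_basicOpen_eq {V : X.Opens} (hV : IsAffineOpen V) {W : X.Opens} (hWV : W ≤ V)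
    (hW : IsCompact (W : Set X)) :
    ∃ s : Finset Γ(X, V), W = s.sup (fun f => X.basicOpen f) := by
  let ι := {f : Γ(X, V) // X.basicOpen f ≤ W}
  obtain ⟨t, ht⟩ := hW.elim_finite_subcover (fun f : ι => (X.basicOpen f.1 : Set X))
    (fun f => (X.basicOpen f.1).2) (by
      intro x hx
      obtain ⟨f, hfW, hxf⟩ := hV.exists_basicOpen_le ⟨x, hx⟩ (hWV hx)
      exact Set.mem_iUnion.mpr ⟨⟨f, hfW⟩, hxf⟩)
  classical
  refine ⟨t.image Subtype.val, le_antisymm ?_ ?_⟩
  · intro x hx
    obtain ⟨f, hf⟩ := Set.mem_iUnion.mp (ht hx)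
    obtain ⟨hft, hxf⟩ := Set.mem_iUnion.mp hf
    exact (Finset.le_sup (f := fun f => X.basicOpen f) (Finset.mem_image_of_mem _ hft)) hxf
  · apply Finset.sup_le
    intro f hf
    obtain ⟨f', _, rfl⟩ := Finset.mem_image.mp hf
    exact f'.2

/-- Quasi-compact opens inside an affine open have a vanishing bound. -/
lemma hasVanishingBound_of_le_affine {V : X.Opens} (hV : IsAffineOpen V) {W : X.Opens}
    (hWV : W ≤ V) (hW : IsCompact (W : Set X)) : HasVanishingBound W := by
  obtain ⟨s, rfl⟩ := exists_finset_basicOpen_eq hV hWV hW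
  refine ⟨s.card, fun F hF n hn α => ?_⟩
  refine HU_finsetSup_eq_zero F hF (fun W => ∃ f : Γ(X, V), W = X.basicOpen f) ?_ ?_ s _ ?_ n hn α
  · rintro _ ⟨f, rfl⟩
    exact hV.basicOpen f
  · rintro _ _ ⟨f, rfl⟩ ⟨g, rfl⟩
    exact ⟨f * g, (X.basicOpen_mul f g).symm⟩
  · intro f _
    exact ⟨f, rfl⟩

/-- Every quasi-compact open of a quasi-separated scheme has a vanishing bound. -/
theorem hasVanishingBound_of_isCompact [QuasiSeparatedSpace X] (W : X.Opens)
    (hW : IsCompact (W : Set X)) : HasVanishingBound W := by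
  refine compact_open_induction_on (P := fun W => HasVanishingBound W) W hW
    hasVanishingBound_bot ?_
  intro S hS U hSb
  refine hSb.sup (hasVanishingBound_of_isAffineOpen U.2) ?_
  exact hasVanishingBound_of_le_affine U.2 inf_le_right
    (QuasiSeparatedSpace.inter_isCompact _ _ S.2 hS U.1.2 U.2.isCompact)

end Groth.Agent.Lib.AffVan
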