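import Groth.Agent.Lib.QCohStalk
import Groth.Prelude.Def_Coh

/-!
# AffVan P3: sections algebra for affine Serre vanishing

* `basicOpen_sup_basicOpen_of_add_eq_one`, `isAffineOpen_basicOpen_inf`: geometry of `D(g)`, `D(h)` when `g + h = 1`.
* (C) `exists_finset_basicOpen_le_of_le_iSup`: any open cover of an affine open `U` is refined by finitely
  many basic opens `D(f)`, `f ∈ s`, with `Ideal.span s = ⊤`.
* (N) `affine_induction_finset` / `affine_induction`: a property `P` of opens which is inherited by smaller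
  opens, holds for `⊥`, and satisfies the two-open glueing `g + h = 1 → P D(g) → P D(h) → P W` on affine
  opens `W`, holds for an affine open `U` as soon as it holds locally on `U`.
* (S) `exists_sub_eq_of_add_eq_one`: for quasi-coherent `F`, affine `U`, `g + h = 1`, the difference map
  `F(D(g)) × F(D(h)) → F(D(g) ⊓ D(h))` is surjective (also `toAb` form `toAb_exists_sub_eq_of_add_eq_one`).
-/

set_option autoImplicit false
universe u
open CategoryTheory CategoryTheory.Limits AlgebraicGeometry TopologicalSpace Opposite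

namespace Groth.Agent.Lib.AffVanSections

open Groth.Agent.Lib.QCohStalk

variable {X : Scheme.{u}}

/-! ### Geometry of two basic opens with `g + h = 1` -/

theorem basicOpen_sup_basicOpen_of_add_eq_one {U : X.Opens} (g h : Γ(X, U)) (hgh : g + h = 1) :
    X.basicOpen g ⊔ X.basicOpen h = U := by
  apply le_antisymm
  · exact sup_le (X.basicOpen_le g) (X.basicOpen_le h)
  · have := X.basicOpen_add_le g h
    rwa [hgh, X.basicOpen_one] at this

theorem isAffineOpen_basicOpen_inf {U : X.Opens} (hU : IsAffineOpen U) (g h : Γ(X, U)) :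
    IsAffineOpen (X.basicOpen g ⊓ X.basicOpen h) := by
  rw [← X.basicOpen_mul]
  exact hU.basicOpen (g * h)

theorem eq_bot_of_one_eq_zero {U : X.Opens} (h : (1 : Γ(X, U)) = 0) : U = ⊥ := by
  rw [← X.basicOpen_one (U := U), h, X.basicOpen_zero]

theorem eq_bot_of_span_empty_eq_top {U : X.Opens}
    (h : Ideal.span ((∅ : Finset Γ(X, U)) : Set Γ(X, U)) = ⊤) : U = ⊥ := by
  rw [Finset.coe_empty, Ideal.span_empty] at h
  have h1 : (1 : Γ(X, U)) ∈ (⊥ : Ideal Γ(X, U)) := h ▸ Submodule.mem_top
  exact eq_bot_of_one_eq_zero (Ideal.mem_bot.mp h1)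

/-! ### (C) compactness -/

/-- Any open cover of an affine open `U` can be refined by finitely many basic opens `D(f)`, `f ∈ s`,
whose defining functions generate the unit ideal of `Γ(X, U)`. -/
theorem exists_finset_basicOpen_le_of_le_iSup {U : X.Opens} (hU : IsAffineOpen U)
    {ι : Type*} (V : ι → X.Opens) (hV : U ≤ ⨆ i, V i) :
    ∃ s : Finset Γ(X, U), Ideal.span (s : Set Γ(X, U)) = ⊤ ∧
      ∀ f ∈ s, ∃ i, X.basicOpen f ≤ V i := by
  let S : Set Γ(X, U) := {f | ∃ i, X.basicOpen f ≤ V i}
  have hS : Ideal.span S = ⊤ := by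
    rw [← hU.self_le_iSup_basicOpen_iff]
    intro x hx
    obtain ⟨i, hi⟩ := Opens.mem_iSup.mp (hV hx)
    obtain ⟨f, hfV, hxf⟩ := hU.exists_basicOpen_le ⟨x, hi⟩ hx
    exact Opens.mem_iSup.mpr ⟨⟨f, i, hfV⟩, hxf⟩
  obtain ⟨s, hsS, hs⟩ := (Ideal.span_eq_top_iff_finite S).mp hS
  exact ⟨s, hs, fun f hf => hsS hf⟩

/-- Predicate form of (C): if `P` holds on a neighbourhood of every point of the affine open `U`
and is inherited by smaller opens, then `P` holds on finitely many `D(f)` covering `U`. -/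
theorem exists_finset_basicOpen_of_local {U : X.Opens} (hU : IsAffineOpen U)
    (P : X.Opens → Prop) (hmono : ∀ {V W : X.Opens}, W ≤ V → P V → P W)
    (hloc : ∀ x ∈ U, ∃ V : X.Opens, x ∈ V ∧ P V) :
    ∃ s : Finset Γ(X, U), Ideal.span (s : Set Γ(X, U)) = ⊤ ∧ ∀ f ∈ s, P (X.basicOpen f) := by
  obtain ⟨s, hs, hsP⟩ := exists_finset_basicOpen_le_of_le_iSup hU
    (fun V : {V : X.Opens // P V} => V.1) (by
      intro x hx
      obtain ⟨V, hxV, hPV⟩ := hloc x hx
      exact Opens.mem_iSup.mpr ⟨⟨V, hPV⟩, hxV⟩)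
  exact ⟨s, hs, fun f hf => by
    obtain ⟨V, hV⟩ := hsP f hf
    exact hmono hV V.2⟩

/-! ### (N) induction on the number of basic opens -/

theorem affine_induction_finset (P : X.Opens → Prop)
    (hmono : ∀ {V W : X.Opens}, W ≤ V → P V → P W) (hbot : P ⊥)
    (htwo : ∀ (W : X.Opens), IsAffineOpen W → ∀ g h : Γ(X, W), g + h = 1 →
      P (X.basicOpen g) → P (X.basicOpen h) → P W) :
    ∀ (n : ℕ) (U : X.Opens), IsAffineOpen U → ∀ s : Finset Γ(X, U), s.card ≤ n →
      Ideal.span (s : Set Γ(X, U)) = ⊤ → (∀ f ∈ s, P (X.basicOpen f)) → P U := by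
  intro n
  induction n with
  | zero =>
    intro U hU s hcard hspan hP
    have hs : s = ∅ := Finset.card_eq_zero.mp (Nat.le_zero.mp hcard)
    subst hs
    rw [eq_bot_of_span_empty_eq_top hspan]
    exact hbot
  | succ n ih =>
    intro U hU s hcard hspan hP
    classical
    rcases s.eq_empty_or_nonempty with hs | ⟨f₀, hf₀⟩
    · subst hs
      rw [eq_bot_of_span_empty_eq_top hspan]
      exact hbot
    · -- `s = insert f₀ s'`
      set s' := s.erase f₀ with hs'
      have hins : (s : Set Γ(X, U)) = insert f₀ (s' : Set Γ(X, U)) := by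
        rw [hs', Finset.coe_erase, Set.insert_sdiff_singleton, Set.insert_eq_of_mem]
        exact hf₀
      have h1 : (1 : Γ(X, U)) ∈ Ideal.span (insert f₀ (s' : Set Γ(X, U))) := by
        rw [← hins, hspan]; trivial
      obtain ⟨a, g, hg, h1g⟩ := Ideal.mem_span_insert.mp h1
      -- `1 = a * f₀ + g`
      refine htwo U hU g (a * f₀) (by rw [h1g, add_comm]) ?_ ?_
      · -- `P (D g)` by the induction hypothesis on the affine open `D g`
        have hle : X.basicOpen g ≤ U := X.basicOpen_le g
        let ρ : Γ(X, U) →+* Γ(X, X.basicOpen g) := (X.presheaf.map (homOfLE hle).op).hom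
        refine ih (X.basicOpen g) (hU.basicOpen g) (s'.image ρ) ?_ ?_ ?_
        · calc (s'.image ρ).card ≤ s'.card := Finset.card_image_le
            _ = s.card - 1 := Finset.card_erase_of_mem hf₀
            _ ≤ n := by omega
        · rw [Finset.coe_image, ← Ideal.map_span]
          apply Ideal.eq_top_of_isUnit_mem _ (Ideal.mem_map_of_mem ρ hg)
          exact RingedSpace.isUnit_res_basicOpen _ g
        · intro f' hf'
          obtain ⟨f, hf, rfl⟩ := Finset.mem_image.mp hf'
          have hfs : f ∈ s := Finset.mem_of_mem_erase hf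
          refine hmono ?_ (hP f hfs)
          change X.basicOpen (X.presheaf.map (homOfLE hle).op f) ≤ _
          rw [X.basicOpen_res]
          exact inf_le_right
      · -- `P (D (a f₀))` since `D (a f₀) ≤ D f₀`
        refine hmono ?_ (hP f₀ hf₀)
        rw [X.basicOpen_mul]
        exact inf_le_right

/-- **Affine induction principle.**  Let `P` be a property of opens of a scheme which is inherited
by smaller opens, holds for `⊥`, and glues along `W = D(g) ∪ D(h)`, `g + h = 1`, on affine opens `W`.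
Then `P` holds for every affine open on which it holds locally. -/
theorem affine_induction (P : X.Opens → Prop)
    (hmono : ∀ {V W : X.Opens}, W ≤ V → P V → P W) (hbot : P ⊥)
    (htwo : ∀ (W : X.Opens), IsAffineOpen W → ∀ g h : Γ(X, W), g + h = 1 →
      P (X.basicOpen g) → P (X.basicOpen h) → P W)
    {U : X.Opens} (hU : IsAffineOpen U) (hloc : ∀ x ∈ U, ∃ V : X.Opens, x ∈ V ∧ P V) : P U := by
  obtain ⟨s, hs, hsP⟩ := exists_finset_basicOpen_of_local hU P hmono hloc
  exact affine_induction_finset P hmono hbot htwo s.card U hU s le_rfl hs hsP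

/-! ### (S) surjectivity of the difference map -/

lemma resO_mul (X : Scheme.{u}) {V U : X.Opens} (h : V ≤ U) (a b : Γ(X, U)) :
    resO X h (a * b) = resO X h a * resO X h b :=
  map_mul (X.presheaf.map (homOfLE h).op).hom a b

lemma resO_add (X : Scheme.{u}) {V U : X.Opens} (h : V ≤ U) (a b : Γ(X, U)) :
    resO X h (a + b) = resO X h a + resO X h b :=
  map_add (X.presheaf.map (homOfLE h).op).hom a b

lemma resO_one (X : Scheme.{u}) {V U : X.Opens} (h : V ≤ U) :
    resO X h (1 : Γ(X, U)) = 1 :=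
  map_one (X.presheaf.map (homOfLE h).op).hom

lemma res_neg (F : X.Modules) {V U : X.Opens} (h : V ≤ U) (s : Γ(F, U)) :
    res F h (-s) = -res F h s :=
  map_neg (F.presheaf.map (homOfLE h).op).hom s

lemma res_add (F : X.Modules) {V U : X.Opens} (h : V ≤ U) (s t : Γ(F, U)) :
    res F h (s + t) = res F h s + res F h t :=
  map_add (F.presheaf.map (homOfLE h).op).hom s t

lemma res_sub (F : X.Modules) {V U : X.Opens} (h : V ≤ U) (s t : Γ(F, U)) :
    res F h (s - t) = res F h s - res F h t :=
  map_sub (F.presheaf.map (homOfLE h).op).hom s t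

lemma isUnit_resO_basicOpen {U : X.Opens} (g : Γ(X, U)) :
    IsUnit (resO X (X.basicOpen_le g) g) :=
  RingedSpace.isUnit_res_basicOpen _ g

/-- Variant of `QCohStalk.exists_pow_smul_eq_res` for an open `W` which is (propositionally) `D(f)`. -/
theorem exists_pow_smul_eq_res' (F : X.Modules) [F.IsQuasicoherent] {U : X.Opens}
    (hU : IsAffineOpen U) (f : Γ(X, U)) {W : X.Opens} (hW : W = X.basicOpen f) (hWU : W ≤ U)
    (t : Γ(F, W)) :
    ∃ (n : ℕ) (s : Γ(F, U)), (resO X hWU f) ^ n • t = res F hWU s := by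
  subst hW
  exact exists_pow_smul_eq_res F hU f t

/-- **(S)** For a quasi-coherent module `F`, an affine open `U` and `g + h = 1` in `Γ(X, U)`, every section
of `F` over `D(g) ⊓ D(h)` is a difference `a|_{D(g) ⊓ D(h)} - b|_{D(g) ⊓ D(h)}` with `a ∈ F(D(g))`,
`b ∈ F(D(h))`. -/
theorem exists_sub_eq_of_add_eq_one (F : X.Modules) [F.IsQuasicoherent] {U : X.Opens}
    (hU : IsAffineOpen U) (g h : Γ(X, U)) (hgh : g + h = 1)
    (t : Γ(F, X.basicOpen g ⊓ X.basicOpen h)) :
    ∃ (a : Γ(F, X.basicOpen g)) (b : Γ(F, X.basicOpen h)),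
      res F inf_le_left a - res F inf_le_right b = t := by
  have hW : X.basicOpen g ⊓ X.basicOpen h = X.basicOpen (g * h) := (X.basicOpen_mul g h).symm
  have hWU : X.basicOpen g ⊓ X.basicOpen h ≤ U := inf_le_left.trans (X.basicOpen_le g)
  obtain ⟨n, s, hs⟩ := exists_pow_smul_eq_res' F hU (g * h) hW hWU t
  have hcop : IsCoprime (g ^ n) (h ^ n) :=
    IsCoprime.pow ⟨1, 1, by rw [one_mul, one_mul, hgh]⟩
  obtain ⟨a, b, hab⟩ := hcop
  obtain ⟨ug, hug⟩ : ∃ ug : Γ(X, X.basicOpen g), ug * resO X (X.basicOpen_le g) g = 1 :=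
    (isUnit_resO_basicOpen g).exists_left_inv
  obtain ⟨uh, huh⟩ : ∃ uh : Γ(X, X.basicOpen h), uh * resO X (X.basicOpen_le h) h = 1 :=
    (isUnit_resO_basicOpen h).exists_left_inv
  refine ⟨ug ^ n • res F (X.basicOpen_le g) (b • s),
    -(uh ^ n • res F (X.basicOpen_le h) (a • s)), ?_⟩
  -- everything restricted to `W = D(g) ⊓ D(h)`
  have hvg : resO X (inf_le_left : X.basicOpen g ⊓ X.basicOpen h ≤ _) ug * resO X hWU g = 1 := by
    have := congrArg (resO X (inf_le_left : X.basicOpen g ⊓ X.basicOpen h ≤ _)) hug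
    rw [resO_mul, resO_one] at this
    rw [← this]
    congr 1
    exact (resO_resO X _ _ g).symm
  have hvh : resO X (inf_le_right : X.basicOpen g ⊓ X.basicOpen h ≤ _) uh * resO X hWU h = 1 := by
    have := congrArg (resO X (inf_le_right : X.basicOpen g ⊓ X.basicOpen h ≤ _)) huh
    rw [resO_mul, resO_one] at this
    rw [← this]
    congr 1
    exact (resO_resO X _ _ h).symm
  have hab' : resO X hWU a * resO X hWU g ^ n + resO X hWU b * resO X hWU h ^ n = 1 := by
    have := congrArg (resO X hWU) hab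
    rwa [resO_add, resO_mul, resO_mul, resO_pow, resO_pow, resO_one] at this
  rw [res_neg, sub_neg_eq_add]
  simp only [res_smul, res_res, resO_pow, resO_resO]
  rw [← hs, resO_mul]
  simp only [smul_smul]
  rw [← add_smul]
  have e1 : resO X (inf_le_left : X.basicOpen g ⊓ X.basicOpen h ≤ _) ug ^ n * resO X hWU g ^ n = 1 := by
    rw [← mul_pow, hvg, one_pow]
  have e2 : resO X (inf_le_right : X.basicOpen g ⊓ X.basicOpen h ≤ _) uh ^ n * resO X hWU h ^ n = 1 := by
    rw [← mul_pow, hvh, one_pow]
  have key : resO X (inf_le_left : X.basicOpen g ⊓ X.basicOpen h ≤ _) ug ^ n *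
        (resO X hWU b * (resO X hWU g * resO X hWU h) ^ n) +
      resO X (inf_le_right : X.basicOpen g ⊓ X.basicOpen h ≤ _) uh ^ n *
        (resO X hWU a * (resO X hWU g * resO X hWU h) ^ n) = 1 := by
    calc _ = (resO X (inf_le_left : X.basicOpen g ⊓ X.basicOpen h ≤ _) ug ^ n * resO X hWU g ^ n) *
          (resO X hWU b * resO X hWU h ^ n) +
        (resO X (inf_le_right : X.basicOpen g ⊓ X.basicOpen h ≤ _) uh ^ n * resO X hWU h ^ n) *
          (resO X hWU a * resO X hWU g ^ n) := by ring
      _ = 1 := by rw [e1, e2, one_mul, one_mul, add_comm]; exact hab'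
  rw [key, one_smul]

/-! ### `Coh.toAb` forms -/

/-- sections of the underlying abelian sheaf are sections of the module (definitionally) -/
theorem toAb_obj (F : X.Modules) (V : X.Opens) :
    ((Coh.toAb F).obj.obj (op V) : Type u) = Γ(F, V) := rfl

theorem toAb_map (F : X.Modules) {V W : X.Opens} (i : W ⟶ V) (s : (Coh.toAb F).obj.obj (op V)) :
    (Coh.toAb F).obj.map i.op s = F.presheaf.map i.op s := rfl

/-- **(S)**, stated for the underlying abelian sheaf `Coh.toAb F` and the maps of
`Opens.mayerVietorisSquare (D g) (D h)`. -/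
theorem toAb_exists_sub_eq_of_add_eq_one (F : X.Modules) (hF : Coh.IsQCoh F) {U : X.Opens}
    (hU : IsAffineOpen U) (g h : Γ(X, U)) (hgh : g + h = 1)
    (t : (Coh.toAb F).obj.obj (op (X.basicOpen g ⊓ X.basicOpen h))) :
    ∃ (a : (Coh.toAb F).obj.obj (op (X.basicOpen g)))
      (b : (Coh.toAb F).obj.obj (op (X.basicOpen h))),
      (Coh.toAb F).obj.map (homOfLE (inf_le_left : X.basicOpen g ⊓ X.basicOpen h ≤ _)).op a -
        (Coh.toAb F).obj.map (homOfLE (inf_le_right : X.basicOpen g ⊓ X.basicOpen h ≤ _)).op b = t := by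
  have : F.IsQuasicoherent := hF
  exact exists_sub_eq_of_add_eq_one F hU g h hgh t

end Groth.Agent.Lib.AffVanSections
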