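import Mathlib.Algebra.Homology.DerivedCategory.Ext.ExactSequences
import Mathlib.Algebra.Homology.DerivedCategory.Ext.EnoughProjectives

/-!
Effaceability of higher Ext classes in an arbitrary abelian category:
every class in `Ext X Y (n+1)` is killed by precomposition with some epimorphism `X' ⟶ X`.
Consequence: if `Ext^p` vanishes identically then so does `Ext^i` for all `i ≥ p`.
-/

universe w w' v u

namespace Groth.Agent.Lib.ExtEfface

open CategoryTheory Category Limits Abelian DerivedCategory HomologicalComplex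

variable {C : Type u} [Category.{v} C] [Abelian C]

set_option backward.defeqAttrib.useBackward true in
set_option backward.isDefEq.respectTransparency false in
lemma epi_f_of_quasiIsoAt {X : C} {K : CochainComplex C ℤ} {i : ℤ}
    (π : K ⟶ (CochainComplex.singleFunctor C i).obj X) [K.IsStrictlyLE i] [QuasiIsoAt π i] :
    Epi (π.f i) := by
  let e := K.iCyclesIso i (i + 1) (by simp)
    ((K.isZero_of_isStrictlyLE i (i + 1) (by simp)).eq_of_tgt _ _)
  let α := e.inv ≫ K.homologyπ i ≫ homologyMap π i ≫ (singleObjHomologySelfIso _ _ _).hom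
  have : π.f i = α ≫ (singleObjXSelf (ComplexShape.up ℤ) i X).inv := by
    rw [← cancel_epi e.hom]
    dsimp [α, e]
    rw [assoc, assoc, assoc, iCyclesIso_hom_inv_id_assoc,
      homologyπ_naturality_assoc]
    dsimp [CochainComplex.singleFunctor, CochainComplex.singleFunctors]
    rw [homologyπ_singleObjHomologySelfIso_hom_assoc,
      ← singleObjCyclesSelfIso_inv_iCycles, Iso.hom_inv_id_assoc, ← cyclesMap_i]
  rw [this]
  dsimp only [α]
  infer_instance

set_option backward.defeqAttrib.useBackward true in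
set_option backward.isDefEq.respectTransparency false in
lemma exists_epi_comp_eq_zero_derived [HasDerivedCategory.{w} C] {X : C}
    {L : CochainComplex C ℤ} (n : ℤ) (hn : n < 0) [L.IsStrictlyLE n]
    (φ : Q.obj ((CochainComplex.singleFunctor C 0).obj X) ⟶ Q.obj L) :
    ∃ (X' : C) (π : X' ⟶ X) (_ : Epi π),
      Q.map ((CochainComplex.singleFunctor C 0).map π) ≫ φ = 0 := by
  obtain ⟨K, _, s, hs, g, rfl⟩ := right_fac_of_isStrictlyLE φ 0
  rw [isIso_Q_map_iff_quasiIso] at hs
  have : Epi (s.f 0) := epi_f_of_quasiIsoAt s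
  let ι : (CochainComplex.singleFunctor C 0).obj (K.X 0) ⟶ K :=
    mkHomFromSingle (𝟙 _) (by
      rintro _ rfl
      apply (K.isZero_of_isStrictlyLE 0 (0 + 1) (by simp)).eq_of_tgt)
  let π : K.X 0 ⟶ X := s.f 0 ≫ (singleObjXSelf (ComplexShape.up ℤ) 0 X).hom
  have hπ : (CochainComplex.singleFunctor C 0).map π = ι ≫ s := by
    apply HomologicalComplex.from_single_hom_ext
    dsimp [CochainComplex.singleFunctor, CochainComplex.singleFunctors]
    rw [single_map_f_self]
    dsimp [ι, π]
    rw [mkHomFromSingle_f]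
    simp
  have h₂ : ι ≫ g = 0 := by
    apply HomologicalComplex.from_single_hom_ext
    apply (L.isZero_of_isStrictlyLE n 0 hn).eq_of_tgt
  refine ⟨K.X 0, π, by dsimp [π]; infer_instance, ?_⟩
  have : IsIso (Q.map s) := by rw [isIso_Q_map_iff_quasiIso]; exact hs
  rw [hπ, Q.map_comp, assoc, IsIso.hom_inv_id_assoc, ← Q.map_comp, h₂, Q.map_zero]

set_option backward.isDefEq.respectTransparency false in
/-- Effaceability: every class of positive degree is killed by pulling back along some epi. -/
lemma exists_epi_mk₀_comp_eq_zero [HasExt.{w} C] {X Y : C} {n : ℕ} (e : Ext X Y (n + 1)) :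
    ∃ (X' : C) (π : X' ⟶ X) (_ : Epi π), (Ext.mk₀ π).comp e (zero_add _) = 0 := by
  let := HasDerivedCategory.standard C
  obtain ⟨X', π, hπ, h⟩ := exists_epi_comp_eq_zero_derived
    (L := (CochainComplex.singleFunctor C (-(n + 1))).obj Y) (-(n + 1)) (by lia)
    (e.hom ≫ ((singleFunctors C).shiftIso (n + 1) (-(n + 1)) 0 (by lia)).hom.app _)
  refine ⟨X', π, hπ, ?_⟩
  apply Ext.homEquiv.injective
  simp only [← cancel_mono (((singleFunctors C).shiftIso (n + 1) (-(n + 1)) 0
    (by lia)).hom.app _), Ext.zero_hom, Limits.zero_comp]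
  have e1 : Ext.homEquiv ((Ext.mk₀ π).comp e (zero_add _)) =
      (DerivedCategory.singleFunctor C 0).map π ≫ e.hom := by
    change ((Ext.mk₀ π).comp e (zero_add _)).hom = _
    rw [Ext.comp_hom, Ext.mk₀_hom, ShiftedHom.mk₀_comp]
  rw [e1, assoc]
  exact h

/-- If `Ext^n(-, Y)` vanishes identically then so does `Ext^(n+1)(-, Y)`. -/
lemma ext_succ_eq_zero [HasExt.{w} C] {Y : C} {n : ℕ}
    (h : ∀ (B : C) (x : Ext B Y n), x = 0) {X : C} (e : Ext X Y (n + 1)) : e = 0 := by
  obtain ⟨X', π, hπ, hz⟩ := exists_epi_mk₀_comp_eq_zero e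
  have hS : (ShortComplex.mk (kernel.ι π) π (kernel.condition π)).ShortExact :=
    { exact := ShortComplex.exact_kernel π }
  obtain ⟨x₁, rfl⟩ := Ext.contravariant_sequence_exact₃ hS Y e hz (add_comm 1 n)
  rw [h _ x₁, Ext.comp_zero]

/-- If `Ext^p(-, Y)` vanishes identically then so does `Ext^i(-, Y)` for every `i ≥ p`. -/
lemma ext_eq_zero_of_le [HasExt.{w} C] {Y : C} {p : ℕ}
    (h : ∀ (B : C) (x : Ext B Y p), x = 0) {i : ℕ} (hi : p ≤ i) {X : C} (e : Ext X Y i) :
    e = 0 := by
  induction i, hi using Nat.le_induction generalizing X with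
  | base => exact h _ e
  | succ i _ ih => exact ext_succ_eq_zero (fun B x => ih x) e

end Groth.Agent.Lib.ExtEfface
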