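import Groth.Agent.Lib.FlasqueAcyclic
import Groth.Agent.Lib.ExtEfface
import Mathlib.CategoryTheory.Sites.EpiMono
import Mathlib.CategoryTheory.Sites.SheafCohomology.MayerVietoris
import Mathlib.Topology.Sheaves.MayerVietoris

/-!
# AffVan, topological part

For an abelian sheaf `A` on a topological space `X` and the cohomology `CohTop.HU A n U = H'^n(U, A)`
(Ext groups out of the free abelian sheaf on `U`):

* `res_eq`, `res_res`, `res_self`: the restriction maps;
* `HU_bot_eq_zero`: `H'^n(⊥, A) = 0`;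
* `exists_res_eq_zero`: **locality** — a class of positive degree vanishes on a neighbourhood of each point;
* `eq_zero_of_mv`: **two-open glueing** via Mayer–Vietoris;
* `sec`, `sec_res`, `sec_sub`: `H'^0(U, A) ≃ A(U)`, compatible with restriction and subtraction;
* `subsingleton_H_of_HU_top`: `H'^n(⊤, A) = 0 → H^n(X, A) = 0` (bridge to `Sheaf.H`).
-/

set_option autoImplicit false
universe u
open CategoryTheory TopologicalSpace Opposite Limits Abelian

namespace Groth.Agent.Lib.AffVanTop

open Groth.Agent.Lib.FlasqueAcyclic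

variable {X : TopCat.{u}}

/-! ### Restriction maps -/

lemma res_eq (A : CohTop.Ab X) (n : ℕ) {U V : Opens X} (h : V ≤ U) (α : CohTop.HU A n U) :
    CohTop.res A n h α = (Ext.mk₀ (freeShMap (homOfLE h))).comp α (zero_add n) := rfl

lemma res_res (A : CohTop.Ab X) (n : ℕ) {U V W : Opens X} (h : V ≤ U) (h' : W ≤ V)
    (α : CohTop.HU A n U) :
    CohTop.res A n h' (CohTop.res A n h α) = CohTop.res A n (h'.trans h) α := by
  change ((Sheaf.cohomologyPresheaf.{u} A n).map (homOfLE h).op ≫
    (Sheaf.cohomologyPresheaf.{u} A n).map (homOfLE h').op).hom α = _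
  rw [← CategoryTheory.Functor.map_comp]
  rfl

lemma res_self (A : CohTop.Ab X) (n : ℕ) (U : Opens X) (α : CohTop.HU A n U) :
    CohTop.res A n (le_refl U) α = α := by
  change ((Sheaf.cohomologyPresheaf.{u} A n).map (𝟙 _)).hom α = _
  rw [CategoryTheory.Functor.map_id]
  rfl

/-! ### The universal section and `Hom(freeSh U, G) ≃ G(U)` -/

/-- `homEquiv` is evaluation at the universal section. -/
lemma homEquiv_eq_app (U : Opens X) {G : CohTop.Ab X} (φ : freeSh U ⟶ G) :
    homEquiv U G φ = φ.hom.app (op U) (homEquiv U (freeSh U) (𝟙 _)) := by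
  rw [← homEquiv_comp, Category.id_comp]

lemma homEquiv_sub (U : Opens X) {G : CohTop.Ab X} (φ ψ : freeSh U ⟶ G) :
    homEquiv U G (φ - ψ) = homEquiv U G φ - homEquiv U G ψ := by
  rw [homEquiv_eq_app U φ, homEquiv_eq_app U ψ, homEquiv_eq_app U (φ - ψ)]
  rfl

lemma homEquiv_zero (U : Opens X) (G : CohTop.Ab X) :
    homEquiv U G 0 = 0 := by
  rw [homEquiv_eq_app U (0 : freeSh U ⟶ G)]
  rfl

/-! ### `H'^n(⊥, A) = 0` -/

lemma subsingleton_obj_bot (G : CohTop.Ab X) : Subsingleton (G.obj.obj (op (⊥ : Opens X))) := by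
  have h : IsTerminal (G.obj.obj (op (⊥ : Opens X))) :=
    TopCat.Sheaf.isTerminalOfEmpty (show TopCat.Sheaf AddCommGrpCat.{u} X from G)
  exact AddCommGrpCat.subsingleton_of_isZero (IsZero.of_iso (isZero_zero _) (h.uniqueUpToIso (isZero_zero _).isTerminal))

end Groth.Agent.Lib.AffVanTop
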