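/-
`AffYoneda27` (helper27): affine Yoneda over `Spec R` for functors of points on `CommAlgCat R`
(`SA R A = Spec A` over `Spec R`): `exists_affine_nbhd`, `hom_ext_of_affine_points` /
`over_hom_ext_of_affine_points` (morphisms are determined by affine points), and
`exists_hom_of_affine_points` (a natural family of maps on affine points `SA A ⟶ P` ↦ `SA A ⟶ Q` is
induced by a morphism `P ⟶ Q`; gluing over affine opens via helper28 `OpensGlue`).
-/
import Mathlib
import Groth.Agent.Lib.GrassClosed27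
import Groth.Agent.Lib.OpensGlue

set_option autoImplicit false
universe u
open CategoryTheory CategoryTheory.Limits AlgebraicGeometry

namespace Groth.Agent.Lib.AffYoneda27

open Groth.Agent.Lib.GrassClosed27

variable {R : Type u} [CommRing R]

/-- affine open neighbourhoods inside an open, as `SA`-points. -/
theorem exists_affine_nbhd {W : Scheme.{u}} (w : W ⟶ Spec (CommRingCat.of R)) (O : W.Opens) (x : W)
    (hx : x ∈ O) :
    ∃ (C : CommAlgCat.{u} R) (c : Spec (CommRingCat.of C) ⟶ W), IsOpenImmersion c ∧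
      x ∈ Set.range c ∧ Set.range c ⊆ O ∧
      c ≫ w = Spec.map (CommRingCat.ofHom (algebraMap R C)) := by
  obtain ⟨_, ⟨V₀, hV, rfl⟩, hxV, hVO⟩ := W.isBasis_affineOpens.exists_subset_of_mem_open hx O.2
  obtain ⟨V, rfl⟩ : ∃ V : W.Opens, V = V₀ := ⟨V₀, rfl⟩
  have : IsAffine (Over.mk (V.ι ≫ w)).left := hV
  obtain ⟨C, ⟨eC⟩⟩ := exists_iso_SA R (Over.mk (V.ι ≫ w))
  let ε : Spec (CommRingCat.of C) ≅ (V : Scheme) := (Over.forget _).mapIso eC
  have hε : ε.hom ≫ V.ι ≫ w = Spec.map (CommRingCat.ofHom (algebraMap R C)) := Over.w eC.hom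
  have hr : Set.range (ε.hom ≫ V.ι) = V := by
    rw [Scheme.Hom.comp_base, TopCat.coe_comp, Set.range_comp,
      Set.range_eq_univ.mpr (ConcreteCategory.bijective_of_isIso ε.hom.base).2, Set.image_univ,
      Scheme.Opens.range_ι]
  refine ⟨C, ε.hom ≫ V.ι, inferInstance, ?_, ?_, ?_⟩
  · rw [hr]; exact hxV
  · rw [hr]; exact hVO
  · rw [Category.assoc, hε]

/-- Y1: morphisms out of a `Spec R`-scheme are determined by affine points. -/
theorem hom_ext_of_affine_points {P : Over (Spec (CommRingCat.of R))} {Q : Scheme.{u}}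
    (f g : P.left ⟶ Q)
    (h : ∀ (A : CommAlgCat.{u} R) (a : SA R A ⟶ P), a.left ≫ f = a.left ≫ g) : f = g := by
  refine Scheme.hom_ext_of_forall _ _ fun x => ?_
  obtain ⟨C, c, hc, hxc, -, hcw⟩ := exists_affine_nbhd P.hom ⊤ x trivial
  refine ⟨c.opensRange, hxc, ?_⟩
  have h1 := h C (Over.homMk c hcw)
  have h2 : c.opensRange.ι = (Scheme.Hom.isoOpensRange c).inv ≫ c := by
    rw [Iso.eq_inv_comp]; exact Scheme.Hom.isoOpensRange_hom_ι c
  rw [h2, Category.assoc, Category.assoc]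
  congr 1

theorem over_hom_ext_of_affine_points {P Q : Over (Spec (CommRingCat.of R))} (f g : P ⟶ Q)
    (h : ∀ (A : CommAlgCat.{u} R) (a : SA R A ⟶ P), a ≫ f = a ≫ g) : f = g := by
  ext1
  apply hom_ext_of_affine_points
  intro A a
  have := congrArg (fun k => Over.Hom.left k) (h A a)
  exact this

/-- Y2: a natural family of maps on affine points is induced by a morphism. -/
theorem exists_hom_of_affine_points (P Q : Over (Spec (CommRingCat.of R)))
    (Φ : ∀ A : CommAlgCat.{u} R, (SA R A ⟶ P) → (SA R A ⟶ Q))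
    (hΦ : ∀ (A C : CommAlgCat.{u} R) (c : SA R C ⟶ SA R A) (a : SA R A ⟶ P),
      Φ C (c ≫ a) = c ≫ Φ A a) :
    ∃ f : P ⟶ Q, ∀ (A : CommAlgCat.{u} R) (a : SA R A ⟶ P), a ≫ f = Φ A a := by
  classical
  have hch : ∀ V : P.left.affineOpens, ∃ (A : CommAlgCat.{u} R),
      Nonempty (SA R A ≅ Over.mk (V.1.ι ≫ P.hom)) := fun V => by
    have : IsAffine (Over.mk (V.1.ι ≫ P.hom)).left := V.2
    exact exists_iso_SA R _
  choose AV eV' using hch
  let eV : ∀ V : P.left.affineOpens, SA R (AV V) ≅ Over.mk (V.1.ι ≫ P.hom) := fun V => (eV' V).some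
  let iV : ∀ V : P.left.affineOpens, Over.mk (V.1.ι ≫ P.hom) ⟶ P := fun V => Over.homMk V.1.ι rfl
  let aV : ∀ V : P.left.affineOpens, SA R (AV V) ⟶ P := fun V => (eV V).hom ≫ iV V
  let gV : ∀ V : P.left.affineOpens, (V.1 : Scheme.{u}) ⟶ Q.left :=
    fun V => (eV V).inv.left ≫ (Φ (AV V) (aV V)).left
  -- restriction compatibility
  have hres : ∀ (V W : P.left.affineOpens) (hle : W.1 ≤ V.1),
      P.left.homOfLE hle ≫ gV V = gV W := by
    intro V W hle
    let r : Over.mk (W.1.ι ≫ P.hom) ⟶ Over.mk (V.1.ι ≫ P.hom) :=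
      Over.homMk (P.left.homOfLE hle) (by
        change P.left.homOfLE hle ≫ V.1.ι ≫ P.hom = W.1.ι ≫ P.hom
        rw [Scheme.homOfLE_ι_assoc])
    let c : SA R (AV W) ⟶ SA R (AV V) := (eV W).hom ≫ r ≫ (eV V).inv
    have hc : c ≫ aV V = aV W := by
      change ((eV W).hom ≫ r ≫ (eV V).inv) ≫ (eV V).hom ≫ iV V = (eV W).hom ≫ iV W
      have hr : r ≫ iV V = iV W := by
        ext1
        exact Scheme.homOfLE_ι _ hle
      simp only [Category.assoc, Iso.inv_hom_id_assoc, hr]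
    have h1 : Φ (AV W) (aV W) = c ≫ Φ (AV V) (aV V) := by rw [← hc, hΦ]
    change P.left.homOfLE hle ≫ (eV V).inv.left ≫ (Φ (AV V) (aV V)).left =
      (eV W).inv.left ≫ (Φ (AV W) (aV W)).left
    rw [h1]
    change _ = (eV W).inv.left ≫ ((eV W).hom ≫ r ≫ (eV V).inv).left ≫ (Φ (AV V) (aV V)).left
    rw [Over.comp_left, Over.comp_left, Category.assoc, Category.assoc, ← Over.comp_left_assoc,
      Iso.inv_hom_id, Over.id_left, Category.id_comp]
    rfl
  have hU : ⨆ V : P.left.affineOpens, V.1 = ⊤ := iSup_affineOpens_eq_top _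
  obtain ⟨f₀, hf₀, -⟩ := Groth.Agent.Lib.OpensGlue.existsUnique_glue
    (fun V : P.left.affineOpens => V.1) hU gV (by
      intro V V' x hxV hxV'
      obtain ⟨_, ⟨W₀, hW, rfl⟩, hxW, hWle⟩ :=
        P.left.isBasis_affineOpens.exists_subset_of_mem_open
          (show x ∈ ((V.1 ⊓ V'.1 : P.left.Opens) : Set P.left) from ⟨hxV, hxV'⟩) (V.1 ⊓ V'.1).2
      have hle1 : W₀ ≤ V.1 := fun y hy => (hWle hy).1
      have hle2 : W₀ ≤ V'.1 := fun y hy => (hWle hy).2
      refine ⟨W₀, hle1, hle2, hxW, ?_⟩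
      rw [hres V ⟨W₀, hW⟩ hle1, hres V' ⟨W₀, hW⟩ hle2])
  have hover : f₀ ≫ Q.hom = P.hom := by
    refine Groth.Agent.Lib.OpensGlue.hom_ext_of_iSup_eq_top
      (fun V : P.left.affineOpens => V.1) hU _ _ fun V => ?_
    rw [reassoc_of% (hf₀ V)]
    change (eV V).inv.left ≫ (Φ (AV V) (aV V)).left ≫ Q.hom = _
    rw [Over.w (Φ (AV V) (aV V))]
    exact Over.w (eV V).inv
  have haV : ∀ V : P.left.affineOpens, (aV V).left ≫ f₀ = (Φ (AV V) (aV V)).left := by
    intro V
    change ((eV V).hom ≫ iV V).left ≫ f₀ = _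
    rw [Over.comp_left, Category.assoc]
    change (eV V).hom.left ≫ V.1.ι ≫ f₀ = _
    rw [hf₀ V]
    change (eV V).hom.left ≫ (eV V).inv.left ≫ _ = _
    rw [← Over.comp_left_assoc, Iso.hom_inv_id, Over.id_left, Category.id_comp]
  refine ⟨Over.homMk f₀ hover, fun A a => ?_⟩
  ext1
  change a.left ≫ f₀ = (Φ A a).left
  refine Scheme.hom_ext_of_forall _ _ fun x => ?_
  obtain ⟨_, ⟨V₀, hV, rfl⟩, hxV, -⟩ :=
    P.left.isBasis_affineOpens.exists_subset_of_mem_open (Set.mem_univ (a.left x)) isOpen_univ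
  let V : P.left.affineOpens := ⟨V₀, hV⟩
  obtain ⟨C, c, hc, hxc, hcO, hcw⟩ := exists_affine_nbhd
    (Spec.map (CommRingCat.ofHom (algebraMap R A))) (a.left ⁻¹ᵁ V.1) x hxV
  refine ⟨c.opensRange, hxc, ?_⟩
  have h2 : c.opensRange.ι = (Scheme.Hom.isoOpensRange c).inv ≫ c := by
    rw [Iso.eq_inv_comp]; exact Scheme.Hom.isoOpensRange_hom_ι c
  rw [h2, Category.assoc, Category.assoc]
  congr 1
  -- now on `Spec C`
  let c' : SA R C ⟶ SA R A := Over.homMk c hcw
  have hrange : Set.range (c ≫ a.left) ⊆ Set.range V.1.ι := by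
    rw [Scheme.Opens.range_ι]
    rintro _ ⟨q, rfl⟩
    exact hcO ⟨q, rfl⟩
  have hl : IsOpenImmersion.lift V.1.ι (c ≫ a.left) hrange ≫ V.1.ι = c ≫ a.left :=
    IsOpenImmersion.lift_fac _ _ _
  let d : SA R C ⟶ SA R (AV V) :=
    Over.homMk (IsOpenImmersion.lift V.1.ι (c ≫ a.left) hrange ≫ (eV V).inv.left) (by
      rw [Category.assoc]
      have h3 : (eV V).inv.left ≫ (SA R (AV V)).hom = V.1.ι ≫ P.hom := Over.w (eV V).inv
      rw [h3, reassoc_of% hl, Over.w a]
      exact hcw)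
  have hd : d ≫ aV V = c' ≫ a := by
    ext1
    change (IsOpenImmersion.lift V.1.ι (c ≫ a.left) hrange ≫ (eV V).inv.left) ≫
      ((eV V).hom ≫ iV V).left = c ≫ a.left
    rw [Over.comp_left, Category.assoc, ← Over.comp_left_assoc, Iso.inv_hom_id, Over.id_left,
      Category.id_comp]
    exact hl
  have h4 : (c' ≫ Φ A a).left = (d ≫ Φ (AV V) (aV V)).left := by
    rw [← hΦ, ← hΦ, hd]
  calc c ≫ a.left ≫ f₀ = (d ≫ aV V).left ≫ f₀ := by rw [hd]; rfl
    _ = d.left ≫ (aV V).left ≫ f₀ := by rw [Over.comp_left, Category.assoc]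
    _ = d.left ≫ (Φ (AV V) (aV V)).left := by rw [haV V]
    _ = (c' ≫ Φ A a).left := by rw [h4, Over.comp_left]
    _ = c ≫ (Φ A a).left := by rw [Over.comp_left]; rfl

end Groth.Agent.Lib.AffYoneda27
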