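import Groth.Prelude.Def_MoreMor
import Mathlib.AlgebraicGeometry.Morphisms.Affine
import Mathlib.AlgebraicGeometry.Morphisms.ClosedImmersion
import Mathlib.AlgebraicGeometry.IdealSheaf.Basic
import Mathlib.AlgebraicGeometry.Morphisms.RingHomProperties
import Mathlib.AlgebraicGeometry.Morphisms.QuasiCompact

set_option autoImplicit false
universe u

namespace Groth.Agent.Lib.ThickeningBC

open AlgebraicGeometry CategoryTheory Limits

section Nakayama

variable {R M : Type*} [CommRing R] [AddCommGroup M] [Module R M]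

/-- Nakayama for a nilpotent ideal, no finiteness needed. -/
lemma eq_top_of_top_le_sup_smul (I : Ideal R) (hI : IsNilpotent I) (N : Submodule R M)
    (h : (⊤ : Submodule R M) ≤ N ⊔ I • (⊤ : Submodule R M)) : N = ⊤ := by
  obtain ⟨n, hn⟩ := hI
  have key : ∀ k : ℕ, (⊤ : Submodule R M) ≤ N ⊔ (I ^ k) • (⊤ : Submodule R M) := by
    intro k
    induction k with
    | zero => simp
    | succ k ih =>
      calc (⊤ : Submodule R M) ≤ N ⊔ I • (⊤ : Submodule R M) := h
        _ ≤ N ⊔ I • (N ⊔ (I ^ k) • (⊤ : Submodule R M)) := by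
            gcongr
        _ = N ⊔ (I • N ⊔ I • (I ^ k) • (⊤ : Submodule R M)) := by
            rw [Submodule.smul_sup]
        _ ≤ N ⊔ (I ^ (k + 1)) • (⊤ : Submodule R M) := by
            rw [pow_succ', Submodule.mul_smul]
            refine sup_le le_sup_left (sup_le ?_ le_sup_right)
            exact le_sup_of_le_left Submodule.smul_le_right
  have := key n
  rw [hn, Ideal.zero_eq_bot, Submodule.bot_smul, sup_bot_eq] at this
  exact top_le_iff.mp this

lemma subsingleton_of_top_le_smul (I : Ideal R) (hI : IsNilpotent I)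
    (h : (⊤ : Submodule R M) ≤ I • (⊤ : Submodule R M)) : Subsingleton M := by
  have := eq_top_of_top_le_sup_smul I hI (⊥ : Submodule R M) (by simpa using h)
  exact (Submodule.subsingleton_iff R).mp (subsingleton_of_bot_eq_top this)

end Nakayama

section Geometry

variable {X X' S S' : Scheme.{u}} {iX : X ⟶ X'} {iS : S ⟶ S'} {f : X ⟶ S} {f' : X' ⟶ S'}

lemma preimage_le (hc : IsPullback iX f f' iS) {V' : S'.Opens} {U' : X'.Opens}
    (e : U' ≤ f' ⁻¹ᵁ V') : iX ⁻¹ᵁ U' ≤ f ⁻¹ᵁ (iS ⁻¹ᵁ V') := by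
  intro x hx
  have h1 : f' (iX x) ∈ V' := e hx
  have h2 : f' (iX x) = iS (f x) := by
    rw [← Scheme.Hom.comp_apply, hc.w, Scheme.Hom.comp_apply]
  show iS (f x) ∈ V'
  rw [← h2]; exact h1

lemma resLE_appTop_comm {Y T : Scheme.{u}} (g : Y ⟶ T) (U : T.Opens) (V : Y.Opens)
    (e : V ≤ g ⁻¹ᵁ U) :
    (g.resLE U V e).appTop ≫ V.topIso.hom = U.topIso.hom ≫ g.appLE U V e := by
  have := (arrowResLEAppIso g U V e).hom.w
  simpa [arrowResLEAppIso] using this.symm

/-- Over affine opens, a pullback square along an affine morphism gives a pushout square of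
rings of sections. -/
theorem isPushout_appLE (hc : IsPullback iX f f' iS) [IsAffineHom iS]
    {V' : S'.Opens} (hV' : IsAffineOpen V') {U' : X'.Opens} (hU' : IsAffineOpen U')
    (e : U' ≤ f' ⁻¹ᵁ V') :
    IsPushout (f'.appLE V' U' e) (iS.app V') (iX.app U')
      (f.appLE (iS ⁻¹ᵁ V') (iX ⁻¹ᵁ U') (preimage_le hc e)) := by
  have hiX : IsAffineHom iX := MorphismProperty.of_isPullback hc.flip inferInstance
  have hV : IsAffineOpen (iS ⁻¹ᵁ V') := hV'.preimage iS
  have hU : IsAffineOpen (iX ⁻¹ᵁ U') := hU'.preimage iX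
  have H := Scheme.Hom.isPullback_resLE hc (US := V') (UT := iS ⁻¹ᵁ V') (UX := U')
    le_rfl e (UY := iX ⁻¹ᵁ U') (inf_eq_left.mpr (preimage_le hc e)).symm
  have : IsAffine (V' : Scheme) := hV'
  have : IsAffine (U' : Scheme) := hU'
  have : IsAffine ((iS ⁻¹ᵁ V' : S.Opens) : Scheme) := hV
  have : IsAffine ((iX ⁻¹ᵁ U' : X.Opens) : Scheme) := hU
  have P := isPushout_appTop_of_isPullback H
  rw [← Scheme.Hom.appLE_eq_app, ← Scheme.Hom.appLE_eq_app]
  refine P.of_iso V'.topIso U'.topIso (iS ⁻¹ᵁ V').topIso (iX ⁻¹ᵁ U').topIso ?_ ?_ ?_ ?_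
  · exact resLE_appTop_comm _ _ _ _
  · exact resLE_appTop_comm _ _ _ _
  · exact resLE_appTop_comm _ _ _ _
  · exact resLE_appTop_comm _ _ _ _

lemma isNilpotent_ker_app (hS : IsNilpotent iS.ker) [QuasiCompact iS]
    {V' : S'.Opens} (hV' : IsAffineOpen V') : IsNilpotent (RingHom.ker (iS.app V').hom) := by
  obtain ⟨n, hn⟩ := hS
  refine ⟨n, ?_⟩
  have h1 : (iS.ker ^ n).ideal ⟨V', hV'⟩ = (iS.ker.ideal ⟨V', hV'⟩) ^ n := rfl
  rw [hn, Scheme.Hom.ker_apply] at h1
  exact h1.symm

/-- Descent of an affine-local ring hom property along base change by a nilpotent closed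
immersion, given the corresponding statement for pushout squares of rings. -/
theorem of_isPullback_of_isNilpotent {P : MorphismProperty Scheme.{u}}
    {Q : ∀ {R T : Type u} [CommRing R] [CommRing T], (R →+* T) → Prop} [HasRingHomProperty P Q]
    (hQ : ∀ {A' A B' B : CommRingCat.{u}} {α : A' ⟶ B'} {φ : A' ⟶ A} {ψ : B' ⟶ B} {β : A ⟶ B},
      IsPushout α φ ψ β → Function.Surjective φ.hom → Function.Surjective ψ.hom →
      IsNilpotent (RingHom.ker φ.hom) → Q β.hom → Q α.hom)
    (hc : IsPullback iX f f' iS) [IsClosedImmersion iS] (hnil : IsNilpotent iS.ker) (hf : P f) :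
    P f' := by
  have hiX : IsClosedImmersion iX := MorphismProperty.of_isPullback hc.flip inferInstance
  rw [HasRingHomProperty.iff_appLE (P := P)]
  intro V' U' e
  exact hQ (isPushout_appLE hc V'.2 U'.2 e) (iS.app_surjective _ V'.2) (iX.app_surjective _ U'.2)
    (isNilpotent_ker_app hnil V'.2)
    (HasRingHomProperty.appLE P f hf ⟨_, V'.2.preimage iS⟩ ⟨_, U'.2.preimage iX⟩ _)

/-- Variant of `of_isPullback_of_isNilpotent` where nilpotency of the kernel is only required
on each affine open. -/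
theorem of_isPullback_of_forall_isNilpotent {P : MorphismProperty Scheme.{u}}
    {Q : ∀ {R T : Type u} [CommRing R] [CommRing T], (R →+* T) → Prop} [HasRingHomProperty P Q]
    (hQ : ∀ {A' A B' B : CommRingCat.{u}} {α : A' ⟶ B'} {φ : A' ⟶ A} {ψ : B' ⟶ B} {β : A ⟶ B},
      IsPushout α φ ψ β → Function.Surjective φ.hom → Function.Surjective ψ.hom →
      IsNilpotent (RingHom.ker φ.hom) → Q β.hom → Q α.hom)
    (hc : IsPullback iX f f' iS) [IsClosedImmersion iS]
    (hnil : ∀ V' : S'.Opens, IsAffineOpen V' → IsNilpotent (RingHom.ker (iS.app V').hom))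
    (hf : P f) : P f' := by
  have hiX : IsClosedImmersion iX := MorphismProperty.of_isPullback hc.flip inferInstance
  rw [HasRingHomProperty.iff_appLE (P := P)]
  intro V' U' e
  exact hQ (isPushout_appLE hc V'.2 U'.2 e) (iS.app_surjective _ V'.2) (iX.app_surjective _ U'.2)
    (hnil _ V'.2)
    (HasRingHomProperty.appLE P f hf ⟨_, V'.2.preimage iS⟩ ⟨_, U'.2.preimage iX⟩ _)

/-- Sections in the kernel of a surjective morphism are nilpotent on affine opens. -/
lemma isNilpotent_of_mem_ker_app [Surjective iS] {V' : S'.Opens} (hV' : IsAffineOpen V')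
    {x : Γ(S', V')} (hx : x ∈ RingHom.ker (iS.app V').hom) : IsNilpotent x := by
  rw [Scheme.isNilpotent_iff_basicOpen_eq_bot_of_isCompact hV'.isCompact x]
  rw [eq_bot_iff]
  intro y hy
  obtain ⟨y₀, rfl⟩ := iS.surjective y
  have h1 : y₀ ∈ iS ⁻¹ᵁ (S'.basicOpen x) := hy
  rw [Scheme.preimage_basicOpen, RingHom.mem_ker.mp hx, Scheme.basicOpen_zero] at h1
  exact h1

end Geometry

section Algebra

lemma ker_le_map_of_isPushout {A' A B' B : CommRingCat.{u}} {α : A' ⟶ B'} {φ : A' ⟶ A}
    {ψ : B' ⟶ B} {β : A ⟶ B} (h : IsPushout α φ ψ β) (hφ : Function.Surjective φ.hom) :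
    RingHom.ker ψ.hom ≤ (RingHom.ker φ.hom).map α.hom := by
  set J := (RingHom.ker φ.hom).map α.hom with hJ
  let q : B' ⟶ CommRingCat.of (B' ⧸ J) := CommRingCat.ofHom (Ideal.Quotient.mk J)
  have hle : RingHom.ker φ.hom ≤ RingHom.ker ((Ideal.Quotient.mk J).comp α.hom) := by
    intro x hx
    rw [RingHom.mem_ker, RingHom.comp_apply, Ideal.Quotient.eq_zero_iff_mem]
    exact Ideal.mem_map_of_mem _ hx
  let r : A ⟶ CommRingCat.of (B' ⧸ J) :=
    CommRingCat.ofHom (RingHom.liftOfSurjective φ.hom hφ ⟨(Ideal.Quotient.mk J).comp α.hom, hle⟩)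
  have w : α ≫ q = φ ≫ r := by
    ext x
    simp only [q, r, CommRingCat.hom_comp, CommRingCat.hom_ofHom, RingHom.comp_apply]
    exact (RingHom.liftOfRightInverse_comp_apply φ.hom _ (Function.surjInv_eq hφ)
      ⟨(Ideal.Quotient.mk J).comp α.hom, hle⟩ x).symm
  have hd := h.inl_desc q r w
  intro x hx
  have h1 : q.hom x = (h.desc q r w).hom (ψ.hom x) := by
    have := congrArg (fun g => g.hom x) hd
    exact this.symm
  rw [RingHom.mem_ker] at hx
  rw [hx, map_zero] at h1
  exact Ideal.Quotient.eq_zero_iff_mem.mp h1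

end Algebra

end Groth.Agent.Lib.ThickeningBC
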