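import Mathlib.AlgebraicGeometry.Modules.Tilde
import Mathlib.RingTheory.TensorProduct.Basic
import Mathlib.CategoryTheory.Adjunction.Mates

/-!
Pullback of `tilde` modules along `Spec.map φ` is `tilde` of extension of scalars.
-/

set_option autoImplicit false
universe u

namespace Groth.Agent.Lib.TildePullback

open AlgebraicGeometry CategoryTheory TopologicalSpace Opposite

variable {R S : CommRingCat.{u}} (φ : R ⟶ S)

/-- Global sections of a pushforward along `Spec.map φ`, as a module. -/
noncomputable def pushforwardΓIso :
    Scheme.Modules.pushforward (Spec.map φ) ⋙ moduleSpecΓFunctor (R := R) ≅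
      moduleSpecΓFunctor (R := S) ⋙ ModuleCat.restrictScalars φ.hom :=
  (Functor.associator _ _ _).symm ≪≫
    Functor.isoWhiskerRight (pushforwardCompModulesSpecToSheafIso φ) _ ≪≫
    NatIso.ofComponents (fun M => Iso.refl _) (by intros; rfl)

/-- `tilde` followed by pullback is extension of scalars followed by `tilde`. -/
noncomputable def tildePullbackIso :
    ModuleCat.extendScalars φ.hom ⋙ tilde.functor S ≅
      tilde.functor R ⋙ Scheme.Modules.pullback (Spec.map φ) :=
  (CategoryTheory.conjugateIsoEquiv
    ((tilde.adjunction (R := R)).comp (Scheme.Modules.pullbackPushforwardAdjunction (Spec.map φ)))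
    ((ModuleCat.extendRestrictScalarsAdj φ.hom).comp (tilde.adjunction (R := S)))).symm
    (pushforwardΓIso φ)

section ext

open TensorProduct

variable (A' A : Type u) [CommRing A'] [CommRing A] [Algebra A' A]
  (N' : Type u) [AddCommGroup N'] [Module A' N']

/-- `A` with the restricted module structure is `A` with its algebra module structure. -/
def restrictSelfEquiv :
    ((ModuleCat.restrictScalars (algebraMap A' A)).obj (ModuleCat.of A A)) ≃ₗ[A'] A where
  toFun a := a
  invFun a := a
  left_inv _ := rfl
  right_inv _ := rfl
  map_add' _ _ := rfl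
  map_smul' r a := by
    let a' : A := a
    change algebraMap A' A r * a' = r • a'
    exact (Algebra.smul_def r a').symm

/-- The underlying `A'`-linear equivalence of `extendScalarsEquiv`. -/
noncomputable def extendScalarsEquiv₀ :
    TensorProduct A' ((ModuleCat.restrictScalars (algebraMap A' A)).obj (ModuleCat.of A A)) N'
      ≃ₗ[A'] (A ⊗[A'] N') :=
  TensorProduct.congr (restrictSelfEquiv A' A) (LinearEquiv.refl A' N')

/-- The function underlying `extendScalarsEquiv`. -/
noncomputable def extendScalarsFun
    (x : (ModuleCat.extendScalars (algebraMap A' A)).obj (ModuleCat.of A' N')) : A ⊗[A'] N' :=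
  extendScalarsEquiv₀ A' A N' x

lemma extendScalarsFun_add
    (x y : (ModuleCat.extendScalars (algebraMap A' A)).obj (ModuleCat.of A' N')) :
    extendScalarsFun A' A N' (x + y) = extendScalarsFun A' A N' x + extendScalarsFun A' A N' y :=
  (extendScalarsEquiv₀ A' A N').map_add x y

lemma extendScalarsFun_zero :
    extendScalarsFun A' A N' 0 = 0 :=
  (extendScalarsEquiv₀ A' A N').map_zero

lemma extendScalarsFun_smul (a : A)
    (x : (ModuleCat.extendScalars (algebraMap A' A)).obj (ModuleCat.of A' N')) :
    extendScalarsFun A' A N' (a • x) = a • extendScalarsFun A' A N' x := by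
  refine TensorProduct.induction_on (motive := fun x :
    ((ModuleCat.extendScalars (algebraMap A' A)).obj (ModuleCat.of A' N')) =>
      extendScalarsFun A' A N' (a • x) = a • extendScalarsFun A' A N' x) x ?_ ?_ ?_
  · change extendScalarsFun A' A N' (a • (0 :
      ((ModuleCat.extendScalars (algebraMap A' A)).obj (ModuleCat.of A' N')))) =
        a • extendScalarsFun A' A N' 0
    rw [smul_zero, extendScalarsFun_zero, smul_zero]
  · intro b n
    rfl
  · intro x y hx hy
    let x' : ((ModuleCat.extendScalars (algebraMap A' A)).obj (ModuleCat.of A' N')) := x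
    let y' : ((ModuleCat.extendScalars (algebraMap A' A)).obj (ModuleCat.of A' N')) := y
    change extendScalarsFun A' A N' (a • (x' + y')) = a • extendScalarsFun A' A N' (x' + y')
    rw [smul_add, extendScalarsFun_add, extendScalarsFun_add, smul_add]
    exact congrArg₂ (· + ·) hx hy

/-- Extension of scalars along `algebraMap A' A` is `A ⊗[A'] -`. -/
noncomputable def extendScalarsEquiv :
    ((ModuleCat.extendScalars (algebraMap A' A)).obj (ModuleCat.of A' N')) ≃ₗ[A] (A ⊗[A'] N') :=
  { (extendScalarsEquiv₀ A' A N').toAddEquiv with
    map_smul' := extendScalarsFun_smul A' A N' }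

end ext

end Groth.Agent.Lib.TildePullback
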