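/-
helper42: KEYSTONE. The unit of the pullback-pushforward adjunction on sections over affine opens is a base change map.
* `exists_iso_unitΓ φ N` (affine case, categorical form): for N qcoh on Spec R, φ : R ⟶ S, the unit on global sections
  `unitΓ φ N` equals the extension-of-scalars unit followed by an iso.
* `key_eq`: compatibility of the unit of `h` (sections over V, restricted to U ≤ h⁻¹V) with the unit of `Spec.map (h.appLE V U _)`.
* `unitSec h G hUV : Γ(G, V) →ₗ[Γ(Y, V)] Γ(h^*G, U)` and `isBaseChange_unitSec` (G qcoh, U, V affine): it is a base change.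
-/
import Groth.Agent.Lib.TildePullback
import Groth.Agent.Lib.H90OXModAffine
import Groth.Agent.Lib.H72PullbackQCoh
import Mathlib.RingTheory.IsTensorProduct

set_option autoImplicit false
set_option linter.style.haveILetI false
universe u
open CategoryTheory AlgebraicGeometry TopologicalSpace Opposite TensorProduct

namespace Groth.Agent.Lib.UnitBaseChange

section Alg
variable {R S M M' N N' : Type*} [CommRing R] [CommRing S] [Algebra R S]
  [AddCommGroup M] [Module R M] [AddCommGroup M'] [Module R M']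
  [AddCommGroup N] [Module R N] [Module S N] [IsScalarTower R S N]
  [AddCommGroup N'] [Module R N'] [Module S N'] [IsScalarTower R S N']

/-- transfer of `IsBaseChange` along linear equivalences on source and target -/
theorem isBaseChange_of_equivs (f' : M' →ₗ[R] N') (hf' : IsBaseChange S f') (a : M ≃ₗ[R] M')
    (b : N' ≃ₗ[S] N) (f : M →ₗ[R] N) (hf : ∀ m, f m = b (f' (a m))) : IsBaseChange S f := by
  refine IsBaseChange.of_equiv
    ((AlgebraTensorModule.congr (LinearEquiv.refl S S) a) ≪≫ₗ hf'.equiv ≪≫ₗ b) (fun x => ?_)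
  simp [hf, IsBaseChange.equiv_tmul]

end Alg

section Conj
variable {C D : Type*} [Category C] [Category D] {L₁ L₂ : C ⥤ D} {R₁ R₂ : D ⥤ C}
  (adj₁ : L₁ ⊣ R₁) (adj₂ : L₂ ⊣ R₂)

theorem unit_conjugateIso (e : R₁ ≅ R₂) (c : C) :
    adj₁.unit.app c ≫ e.hom.app (L₁.obj c) =
      adj₂.unit.app c ≫ R₂.map (((conjugateIsoEquiv adj₁ adj₂).symm e).hom.app c) :=
  unit_conjugateEquiv_symm adj₁ adj₂ e.hom c

end Conj

section Affine

open Groth.Agent.Lib.TildePullback

variable {R S : CommRingCat.{u}} (φ : R ⟶ S)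

/-- unit on global sections, as a morphism of R-modules -/
noncomputable def unitΓ (N : (Spec R).Modules) :
    moduleSpecΓFunctor.obj N ⟶ (ModuleCat.restrictScalars φ.hom).obj
      (moduleSpecΓFunctor.obj ((Scheme.Modules.pullback (Spec.map φ)).obj N)) :=
  moduleSpecΓFunctor.map ((Scheme.Modules.pullbackPushforwardAdjunction (Spec.map φ)).unit.app N) ≫
    (pushforwardΓIso φ).hom.app _

theorem unitΓ_tilde (M : ModuleCat.{u} R) :
    tilde.adjunction.unit.app M ≫ unitΓ φ ((tilde.functor R).obj M) =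
      (ModuleCat.extendRestrictScalarsAdj φ.hom).unit.app M ≫
        (ModuleCat.restrictScalars φ.hom).map
          (tilde.adjunction.unit.app ((ModuleCat.extendScalars φ.hom).obj M)) ≫
        (ModuleCat.restrictScalars φ.hom).map
          (moduleSpecΓFunctor.map ((tildePullbackIso φ).hom.app M)) := by
  have h := unit_conjugateIso
    ((tilde.adjunction (R := R)).comp (Scheme.Modules.pullbackPushforwardAdjunction (Spec.map φ)))
    ((ModuleCat.extendRestrictScalarsAdj φ.hom).comp (tilde.adjunction (R := S)))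
    (pushforwardΓIso φ) M
  rw [Adjunction.comp_unit_app, Adjunction.comp_unit_app, Category.assoc, Category.assoc] at h
  exact h

/-- naturality of `unitΓ` -/
theorem unitΓ_naturality {N₁ N₂ : (Spec R).Modules} (ψ : N₁ ⟶ N₂) :
    moduleSpecΓFunctor.map ψ ≫ unitΓ φ N₂ =
      unitΓ φ N₁ ≫ (ModuleCat.restrictScalars φ.hom).map
        (moduleSpecΓFunctor.map ((Scheme.Modules.pullback (Spec.map φ)).map ψ)) := by
  have h1 := (Scheme.Modules.pullbackPushforwardAdjunction (Spec.map φ)).unit.naturality ψ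
  have h2 := (pushforwardΓIso φ).hom.naturality ((Scheme.Modules.pullback (Spec.map φ)).map ψ)
  dsimp only [unitΓ]
  rw [← Category.assoc, ← Functor.map_comp]
  erw [h1]
  rw [Functor.map_comp, Category.assoc, Category.assoc]
  congr 1

set_option backward.isDefEq.respectTransparency false in
/-- **Affine case**: on `Spec`, the unit of the pullback-pushforward adjunction at a quasi-coherent module
is, on global sections, the base change map followed by an isomorphism. -/
theorem exists_iso_unitΓ (N : (Spec R).Modules) [N.IsQuasicoherent] :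
    ∃ J : (ModuleCat.extendScalars φ.hom).obj (moduleSpecΓFunctor.obj N) ≅
        moduleSpecΓFunctor.obj ((Scheme.Modules.pullback (Spec.map φ)).obj N),
      unitΓ φ N = (ModuleCat.extendRestrictScalarsAdj φ.hom).unit.app _ ≫
        (ModuleCat.restrictScalars φ.hom).map J.hom := by
  have : IsIso N.fromTildeΓ := Scheme.Modules.isIso_fromTildeΓ_of_isQuasicoherent N
  let M := moduleSpecΓFunctor.obj N
  let ε : (tilde.functor R).obj M ≅ N := asIso N.fromTildeΓ
  refine ⟨asIso (tilde.adjunction.unit.app ((ModuleCat.extendScalars φ.hom).obj M)) ≪≫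
    moduleSpecΓFunctor.mapIso ((tildePullbackIso φ).app M) ≪≫
    moduleSpecΓFunctor.mapIso ((Scheme.Modules.pullback (Spec.map φ)).mapIso ε), ?_⟩
  have tri : tilde.adjunction.unit.app M ≫ moduleSpecΓFunctor.map ε.hom = 𝟙 M :=
    tilde.adjunction.right_triangle_components N
  have h1 := unitΓ_tilde φ M
  have h2 := unitΓ_naturality φ ε.hom
  calc unitΓ φ N = (tilde.adjunction.unit.app M ≫ moduleSpecΓFunctor.map ε.hom) ≫ unitΓ φ N := by
        rw [tri]; exact (Category.id_comp _).symm
    _ = tilde.adjunction.unit.app M ≫ unitΓ φ ((tilde.functor R).obj M) ≫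
          (ModuleCat.restrictScalars φ.hom).map
            (moduleSpecΓFunctor.map ((Scheme.Modules.pullback (Spec.map φ)).map ε.hom)) := by
        rw [Category.assoc, h2]
    _ = _ := by
        rw [← Category.assoc, h1]
        simp only [Iso.trans_hom, Functor.mapIso_hom, asIso_hom, Iso.app_hom, Functor.map_comp,
          Category.assoc]
        rfl

end Affine

section Global

open Scheme.Modules

variable {X Y : Scheme.{u}} (h : X ⟶ Y) {U : X.Opens} {V : Y.Opens} (hU : IsAffineOpen U)
  (hV : IsAffineOpen V) (hUV : U ≤ h ⁻¹ᵁ V)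

theorem sq : hU.fromSpec ≫ h = Spec.map (h.appLE V U hUV) ≫ hV.fromSpec :=
  (IsAffineOpen.SpecMap_appLE_fromSpec h hV hU hUV).symm

/-- first composite adjunction -/
noncomputable def adj₁ : pullback h ⋙ restrictFunctor hU.fromSpec ⊣
    pushforward hU.fromSpec ⋙ pushforward h :=
  (pullbackPushforwardAdjunction h).comp (restrictAdjunction hU.fromSpec)

/-- second composite adjunction -/
noncomputable def adj₂ : restrictFunctor hV.fromSpec ⋙ pullback (Spec.map (h.appLE V U hUV)) ⊣
    pushforward (Spec.map (h.appLE V U hUV)) ⋙ pushforward hV.fromSpec :=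
  (restrictAdjunction hV.fromSpec).comp (pullbackPushforwardAdjunction (Spec.map (h.appLE V U hUV)))

/-- the isomorphism of right adjoints -/
noncomputable def eR : pushforward hU.fromSpec ⋙ pushforward h ≅
    pushforward (Spec.map (h.appLE V U hUV)) ⋙ pushforward hV.fromSpec :=
  pushforwardComp _ _ ≪≫ pushforwardCongr (sq h hU hV hUV) ≪≫ (pushforwardComp _ _).symm

/-- the induced isomorphism of left adjoints -/
noncomputable def β : restrictFunctor hV.fromSpec ⋙ pullback (Spec.map (h.appLE V U hUV)) ≅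
    pullback h ⋙ restrictFunctor hU.fromSpec :=
  (conjugateIsoEquiv (adj₁ h hU) (adj₂ h hV hUV)).symm (eR h hU hV hUV)

theorem lemmaG (G : Y.Modules) :
    (adj₁ h hU).unit.app G ≫ (eR h hU hV hUV).hom.app _ =
      (adj₂ h hV hUV).unit.app G ≫
        (pushforward (Spec.map (h.appLE V U hUV)) ⋙ pushforward hV.fromSpec).map
          ((β h hU hV hUV).hom.app G) :=
  unit_conjugateIso _ _ _ G

theorem lemmaG_app (G : Y.Modules) (m : Γ(G, V)) :
    ((eR h hU hV hUV).hom.app _).app V (((adj₁ h hU).unit.app G).app V m) =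
      ((pushforward (Spec.map (h.appLE V U hUV)) ⋙ pushforward hV.fromSpec).map
          ((β h hU hV hUV).hom.app G)).app V (((adj₂ h hV hUV).unit.app G).app V m) := by
  have := congrArg (fun ψ => (Scheme.Modules.Hom.app ψ V) m) (lemmaG h hU hV hUV G)
  exact this

theorem adj₁_unit_app (G : Y.Modules) (m : Γ(G, V)) :
    ((adj₁ h hU).unit.app G).app V m =
      ((pullback h).obj G).presheaf.map (homOfLE (hU.fromSpec.image_preimage_le (h ⁻¹ᵁ V))).op
        (((pullbackPushforwardAdjunction h).unit.app G).app V m) := by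
  rfl

theorem adj₂_unit_app (G : Y.Modules) (m : Γ(G, V)) :
    ((adj₂ h hV hUV).unit.app G).app V m =
      ((pullbackPushforwardAdjunction (Spec.map (h.appLE V U hUV))).unit.app
        (G.restrict hV.fromSpec)).app (hV.fromSpec ⁻¹ᵁ V)
        (G.presheaf.map (homOfLE (hV.fromSpec.image_preimage_le V)).op m) := by
  rfl

theorem eR_hom_app_app (P : (Spec Γ(X, U)).Modules) (x : Γ(P, hU.fromSpec ⁻¹ᵁ (h ⁻¹ᵁ V))) :
    ((eR h hU hV hUV).hom.app P).app V x =
      P.presheaf.map (eqToHom (by
        change (Spec.map (h.appLE V U hUV) ≫ hV.fromSpec) ⁻¹ᵁ V = (hU.fromSpec ≫ h) ⁻¹ᵁ V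
        rw [sq h hU hV hUV])).op x := by
  rfl

open Groth.Agent.Lib.H90OXModAffine in
theorem preimage_self_eq_top : hV.fromSpec ⁻¹ᵁ V = ⊤ := hV.fromSpec_preimage_self

/-- functoriality in a thin category -/
theorem presheaf_map_map {Z : Scheme.{u}} (M : Z.Modules) {A B C : Z.Opens} (i : B ⟶ A) (j : C ⟶ B)
    (k : C ⟶ A) (x : Γ(M, A)) :
    M.presheaf.map j.op (M.presheaf.map i.op x) = M.presheaf.map k.op x := by
  have : k = j ≫ i := Subsingleton.elim _ _
  rw [this, op_comp, Functor.map_comp]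
  rfl

theorem hom_naturality_apply {Z : Scheme.{u}} {M N : Z.Modules} (ψ : M ⟶ N) {A B : Z.Opens}
    (i : B ⟶ A) (x : Γ(M, A)) :
    N.presheaf.map i.op (ψ.app A x) = ψ.app B (M.presheaf.map i.op x) := by
  have := ψ.mapPresheaf.naturality i.op
  exact (congrArg (fun t => t x) this).symm

open Groth.Agent.Lib.H90OXModAffine in
/-- **Key equation**: the unit of `h` on sections, transported to `Spec`, is the unit of
`Spec.map (h.appLE V U hUV)` followed by the isomorphism `β`. -/
theorem key_eq (G : Y.Modules) (m : Γ(G, V)) :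
    ((pullback h).obj G).presheaf.map (eqToHom (fromSpec_image_top hU)).op
      (((pullback h).obj G).presheaf.map (homOfLE hUV).op
        (((pullbackPushforwardAdjunction h).unit.app G).app V m)) =
    ((β h hU hV hUV).hom.app G).app ⊤
      (((pullbackPushforwardAdjunction (Spec.map (h.appLE V U hUV))).unit.app
        (G.restrict hV.fromSpec)).app ⊤
          (G.presheaf.map (eqToHom (fromSpec_image_top hV)).op m)) := by
  have hle : (⊤ : (Spec Γ(X, U)).Opens) ≤
      Spec.map (h.appLE V U hUV) ⁻¹ᵁ (hV.fromSpec ⁻¹ᵁ V) := by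
    rw [preimage_self_eq_top hV]; exact le_rfl
  have heq : Spec.map (h.appLE V U hUV) ⁻¹ᵁ (hV.fromSpec ⁻¹ᵁ V) = hU.fromSpec ⁻¹ᵁ (h ⁻¹ᵁ V) := by
    change (Spec.map (h.appLE V U hUV) ≫ hV.fromSpec) ⁻¹ᵁ V = (hU.fromSpec ≫ h) ⁻¹ᵁ V
    rw [sq h hU hV hUV]
  let P₁ : (Spec Γ(X, U)).Modules := ((pullback h).obj G).restrict hU.fromSpec
  let N : (Spec Γ(Y, V)).Modules := G.restrict hV.fromSpec
  let a : Γ((pullback h).obj G, h ⁻¹ᵁ V) := ((pullbackPushforwardAdjunction h).unit.app G).app V m
  have hG : P₁.presheaf.map (eqToHom heq).op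
      (((pullback h).obj G).presheaf.map
        (homOfLE (hU.fromSpec.image_preimage_le (h ⁻¹ᵁ V))).op a) =
      ((β h hU hV hUV).hom.app G).app (Spec.map (h.appLE V U hUV) ⁻¹ᵁ (hV.fromSpec ⁻¹ᵁ V))
        (((pullbackPushforwardAdjunction (Spec.map (h.appLE V U hUV))).unit.app N).app
          (hV.fromSpec ⁻¹ᵁ V)
          (G.presheaf.map (homOfLE (hV.fromSpec.image_preimage_le V)).op m)) :=
    lemmaG_app h hU hV hUV G m
  have hG' := congrArg (P₁.presheaf.map (homOfLE hle).op) hG
  have hle' : (⊤ : (Spec Γ(Y, V)).Opens) ≤ hV.fromSpec ⁻¹ᵁ V := by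
    rw [preimage_self_eq_top hV]
  -- left hand side
  have hL : P₁.presheaf.map (homOfLE hle).op (P₁.presheaf.map (eqToHom heq).op
      (((pullback h).obj G).presheaf.map
        (homOfLE (hU.fromSpec.image_preimage_le (h ⁻¹ᵁ V))).op a)) =
      ((pullback h).obj G).presheaf.map (eqToHom (fromSpec_image_top hU)).op
        (((pullback h).obj G).presheaf.map (homOfLE hUV).op a) := by
    have hk : hU.fromSpec ''ᵁ ⊤ ≤ h ⁻¹ᵁ V := by
      rw [fromSpec_image_top hU]; exact hUV
    have e1 := presheaf_map_map ((pullback h).obj G) (homOfLE hUV)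
      (eqToHom (fromSpec_image_top hU)) (homOfLE hk) a
    have e2 := presheaf_map_map ((pullback h).obj G)
      (homOfLE (hU.fromSpec.image_preimage_le (h ⁻¹ᵁ V)))
      (hU.fromSpec.opensFunctor.map (eqToHom heq))
      (homOfLE ((hU.fromSpec.opensFunctor.map (eqToHom heq)).le.trans
        (hU.fromSpec.image_preimage_le (h ⁻¹ᵁ V)))) a
    have e3 := presheaf_map_map ((pullback h).obj G)
      (homOfLE ((hU.fromSpec.opensFunctor.map (eqToHom heq)).le.trans
        (hU.fromSpec.image_preimage_le (h ⁻¹ᵁ V))))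
      (hU.fromSpec.opensFunctor.map (homOfLE hle)) (homOfLE hk) a
    rw [e1]
    refine Eq.trans ?_ e3
    exact congrArg (((pullback h).obj G).presheaf.map
      (hU.fromSpec.opensFunctor.map (homOfLE hle)).op) e2
  -- right hand side
  let P₂ : (Spec Γ(X, U)).Modules := (pullback (Spec.map (h.appLE V U hUV))).obj N
  let n' : Γ(N, hV.fromSpec ⁻¹ᵁ V) :=
    G.presheaf.map (homOfLE (hV.fromSpec.image_preimage_le V)).op m
  let uN := (pullbackPushforwardAdjunction (Spec.map (h.appLE V U hUV))).unit.app N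
  have hR1 : P₁.presheaf.map (homOfLE hle).op
      (((β h hU hV hUV).hom.app G).app (Spec.map (h.appLE V U hUV) ⁻¹ᵁ (hV.fromSpec ⁻¹ᵁ V))
        (uN.app (hV.fromSpec ⁻¹ᵁ V) n')) =
      ((β h hU hV hUV).hom.app G).app ⊤ (P₂.presheaf.map (homOfLE hle).op
        (uN.app (hV.fromSpec ⁻¹ᵁ V) n')) :=
    hom_naturality_apply ((β h hU hV hUV).hom.app G) (homOfLE hle) _
  have hR2 : P₂.presheaf.map (homOfLE hle).op (uN.app (hV.fromSpec ⁻¹ᵁ V) n') =
      uN.app ⊤ (N.presheaf.map (homOfLE hle').op n') :=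
    hom_naturality_apply uN (homOfLE hle') n'
  have hR3 : N.presheaf.map (homOfLE hle').op n' =
      G.presheaf.map (eqToHom (fromSpec_image_top hV)).op m :=
    presheaf_map_map G (homOfLE (hV.fromSpec.image_preimage_le V))
      (hV.fromSpec.opensFunctor.map (homOfLE hle')) (eqToHom (fromSpec_image_top hV)) m
  rw [← hL]
  refine hG'.trans (hR1.trans ?_)
  rw [hR2, hR3]

end Global

section Final

open Scheme.Modules Groth.Agent.Lib.H90OXModAffine

variable {X Y : Scheme.{u}} (h : X ⟶ Y) {U : X.Opens} {V : Y.Opens}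

/-- the unit on sections over `V`, restricted to `U ≤ h⁻¹V` (as a function) -/
noncomputable def unitSecFun (G : Y.Modules) (hUV : U ≤ h ⁻¹ᵁ V) :
    Γ(G, V) → Γ((pullback h).obj G, U) := fun m =>
  ((pullback h).obj G).presheaf.map (homOfLE hUV).op
    (((pullbackPushforwardAdjunction h).unit.app G).app V m)

theorem unitSecFun_smul (G : Y.Modules) (hUV : U ≤ h ⁻¹ᵁ V) (r : Γ(Y, V)) (m : Γ(G, V)) :
    unitSecFun h G hUV (r • m) = (h.appLE V U hUV).hom r • unitSecFun h G hUV m := by
  unfold unitSecFun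
  rw [Scheme.Modules.Hom.app_smul]
  let x : Γ((pullback h).obj G, h ⁻¹ᵁ V) := ((pullbackPushforwardAdjunction h).unit.app G).app V m
  change ((pullback h).obj G).presheaf.map (homOfLE hUV).op ((h.app V).hom r • x) = _
  rw [Scheme.Modules.map_smul]
  rfl

/-- the unit on sections over `V`, restricted to `U ≤ h⁻¹V`, as a semilinear map -/
noncomputable def unitSec (G : Y.Modules) (hUV : U ≤ h ⁻¹ᵁ V) :
    letI : Algebra Γ(Y, V) Γ(X, U) := (h.appLE V U hUV).hom.toAlgebra
    letI : Module Γ(Y, V) Γ((pullback h).obj G, U) := Module.compHom _ (h.appLE V U hUV).hom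
    Γ(G, V) →ₗ[Γ(Y, V)] Γ((pullback h).obj G, U) :=
  letI : Algebra Γ(Y, V) Γ(X, U) := (h.appLE V U hUV).hom.toAlgebra
  letI : Module Γ(Y, V) Γ((pullback h).obj G, U) := Module.compHom _ (h.appLE V U hUV).hom
  { toFun := unitSecFun h G hUV
    map_add' := fun x y => by
      unfold unitSecFun
      exact (congrArg (((pullback h).obj G).presheaf.map (homOfLE hUV).op)
        (map_add (((pullbackPushforwardAdjunction h).unit.app G).app V).hom x y)).trans
        (map_add (((pullback h).obj G).presheaf.map (homOfLE hUV).op).hom _ _)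
    map_smul' := fun r m => unitSecFun_smul h G hUV r m }

theorem unitSec_apply (G : Y.Modules) (hUV : U ≤ h ⁻¹ᵁ V) (m : Γ(G, V)) :
    unitSec h G hUV m = ((pullback h).obj G).presheaf.map (homOfLE hUV).op
      (((pullbackPushforwardAdjunction h).unit.app G).app V m) := rfl

set_option backward.isDefEq.respectTransparency false in
/-- **Keystone**: for `G` quasi-coherent and affine opens `U ≤ h⁻¹V`, the unit of the pullback-pushforward
adjunction on sections `Γ(G, V) → Γ(h^*G, U)` is a base change along `Γ(Y, V) → Γ(X, U)`. -/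
theorem isBaseChange_unitSec (G : Y.Modules) [G.IsQuasicoherent] (hU : IsAffineOpen U)
    (hV : IsAffineOpen V) (hUV : U ≤ h ⁻¹ᵁ V) :
    letI : Algebra Γ(Y, V) Γ(X, U) := (h.appLE V U hUV).hom.toAlgebra
    letI : Module Γ(Y, V) Γ((pullback h).obj G, U) := Module.compHom _ (h.appLE V U hUV).hom
    haveI : IsScalarTower Γ(Y, V) Γ(X, U) Γ((pullback h).obj G, U) :=
      .of_algebraMap_smul fun _ _ => rfl
    IsBaseChange Γ(X, U) (unitSec h G hUV) := by
  letI : Algebra Γ(Y, V) Γ(X, U) := (h.appLE V U hUV).hom.toAlgebra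
  letI : Module Γ(Y, V) Γ((pullback h).obj G, U) := Module.compHom _ (h.appLE V U hUV).hom
  haveI : IsScalarTower Γ(Y, V) Γ(X, U) Γ((pullback h).obj G, U) :=
    .of_algebraMap_smul fun _ _ => rfl
  let N : (Spec Γ(Y, V)).Modules := G.restrict hV.fromSpec
  haveI : N.IsQuasicoherent := Scheme.Modules.isQuasicoherent_restrictFunctor _ _
  obtain ⟨J, hJ⟩ := exists_iso_unitΓ (h.appLE V U hUV) N
  let M' := moduleSpecΓFunctor.obj N
  -- the equivalence on the target
  let b : Γ(X, U) ⊗[Γ(Y, V)] M' ≃ₗ[Γ(X, U)] Γ((pullback h).obj G, U) :=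
    (Groth.Agent.Lib.TildePullback.extendScalarsEquiv Γ(Y, V) Γ(X, U) M').symm ≪≫ₗ
      J.toLinearEquiv ≪≫ₗ
      (moduleSpecΓFunctor.mapIso ((β h hU hV hUV).app G)).toLinearEquiv ≪≫ₗ
      (sectionsEquiv ((pullback h).obj G) hU).symm
  refine isBaseChange_of_equivs (TensorProduct.mk Γ(Y, V) Γ(X, U) M' 1)
    (TensorProduct.isBaseChange Γ(Y, V) M' Γ(X, U)) (sectionsEquiv G hV) b _ (fun m => ?_)
  have hk := key_eq h hU hV hUV G m
  have hJm := congrArg (fun ψ => ψ.hom (sectionsEquiv G hV m)) hJ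
  apply (sectionsEquiv ((pullback h).obj G) hU).injective
  let n : M' := sectionsEquiv G hV m
  have h1 : (Groth.Agent.Lib.TildePullback.extendScalarsEquiv Γ(Y, V) Γ(X, U) M').symm
      ((1 : Γ(X, U)) ⊗ₜ[Γ(Y, V)] n) =
      ((ModuleCat.extendRestrictScalarsAdj (h.appLE V U hUV).hom).unit.app M').hom n := by
    rw [LinearEquiv.symm_apply_eq]
    rfl
  have h2 : (sectionsEquiv ((pullback h).obj G) hU)
      (b ((TensorProduct.mk Γ(Y, V) Γ(X, U) M' 1) n)) =
      (moduleSpecΓFunctor.map ((β h hU hV hUV).hom.app G)).hom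
        (J.hom.hom ((Groth.Agent.Lib.TildePullback.extendScalarsEquiv Γ(Y, V) Γ(X, U) M').symm
          ((1 : Γ(X, U)) ⊗ₜ[Γ(Y, V)] n))) := by
    exact (sectionsEquiv ((pullback h).obj G) hU).apply_symm_apply _
  refine Eq.trans ?_ h2.symm
  rw [h1]
  have h3 : J.hom.hom (((ModuleCat.extendRestrictScalarsAdj (h.appLE V U hUV).hom).unit.app M').hom n) =
      (unitΓ (h.appLE V U hUV) N).hom n := hJm.symm
  rw [h3]
  exact hk

end Final

end Groth.Agent.Lib.UnitBaseChange
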