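/-
helper42: AFFINE BASE CHANGE. For a cartesian square (g' f' f g) with f affine and F qcoh on X, the base change map
uMap : g^* f_* F ⟶ f'_* g'^* F (adjoint of f_*(unit) composed with the pushforwardComp/Congr isos) is an isomorphism
(isIso_uMap). Also bijective_of_isBaseChange_of_isPushout (algebra), uMap_unitSec, bijective_uMap_app.
-/
import Groth.Agent.Lib.UnitBaseChange
import Groth.Agent.Lib.ThickeningBC
import Groth.Agent.Lib.H90OXModPush
import Groth.Agent.Lib.H90OXModAffineIso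
import Groth.Agent.Lib.H72PullbackQCoh
import Mathlib.Algebra.Category.Ring.Constructions

set_option autoImplicit false
set_option linter.style.haveILetI false
universe u
open CategoryTheory AlgebraicGeometry TopologicalSpace Opposite TensorProduct

namespace Groth.Agent.Lib.AffineBaseChange

theorem bijective_of_isBaseChange_of_isPushout
    {A A' B B' M N₁ N₂ : Type*} [CommRing A] [CommRing A'] [CommRing B] [CommRing B']
    [Algebra A A'] [Algebra A B] [Algebra A' B'] [Algebra B B'] [Algebra A B']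
    [IsScalarTower A A' B'] [IsScalarTower A B B'] [Algebra.IsPushout A A' B B']
    [AddCommGroup M] [Module A M] [Module B M] [IsScalarTower A B M]
    [AddCommGroup N₁] [Module A N₁] [Module A' N₁] [IsScalarTower A A' N₁]
    [AddCommGroup N₂] [Module B N₂] [Module B' N₂] [IsScalarTower B B' N₂] [Module A' N₂]
    [IsScalarTower A' B' N₂]
    (θ₁ : M →ₗ[A] N₁) (h₁ : IsBaseChange A' θ₁) (θ₂ : M →ₗ[B] N₂) (h₂ : IsBaseChange B' θ₂)
    (υ : N₁ →ₗ[A'] N₂) (hυ : ∀ m, υ (θ₁ m) = θ₂ m) : Function.Bijective υ := by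
  let E₂ : A' ⊗[A] M ≃ₗ[A'] N₂ :=
    (Algebra.IsPushout.cancelBaseChange A A' B B' M).symm ≪≫ₗ (h₂.equiv.restrictScalars A')
  have key : ∀ n, υ n = E₂ (h₁.equiv.symm n) := by
    intro n
    induction n using h₁.inductionOn with
    | zero => simp
    | tmul m =>
      rw [hυ, IsBaseChange.equiv_symm_apply]
      simp [E₂, IsBaseChange.equiv_tmul]
    | smul s n hn => rw [map_smul, hn, map_smul, map_smul]
    | add n₁ n₂ h1 h2 => rw [map_add, h1, h2, map_add, map_add]
  have : (υ : N₁ → N₂) = E₂ ∘ h₁.equiv.symm := funext key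
  rw [this]
  exact E₂.bijective.comp h₁.equiv.symm.bijective

section Geom

open Scheme.Modules Groth.Agent.Lib.UnitBaseChange

variable {X S X' S' : Scheme.{u}} (f : X ⟶ S) (g : S' ⟶ S) (g' : X' ⟶ X) (f' : X' ⟶ S')
  (h : IsPullback g' f' f g) (F : X.Modules)

/-- the morphism `v : f_* F ⟶ g_* f'_* g'^* F` -/
noncomputable def vMap : (pushforward f).obj F ⟶
    (pushforward g).obj ((pushforward f').obj ((Scheme.Modules.pullback g').obj F)) :=
  (pushforward f).map ((pullbackPushforwardAdjunction g').unit.app F) ≫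
    (pushforwardComp g' f).hom.app ((Scheme.Modules.pullback g').obj F) ≫
    (pushforwardCongr h.w).hom.app ((Scheme.Modules.pullback g').obj F) ≫
    (pushforwardComp f' g).inv.app ((Scheme.Modules.pullback g').obj F)

/-- the base change map `u : g^* f_* F ⟶ f'_* g'^* F` -/
noncomputable def uMap : (Scheme.Modules.pullback g).obj ((pushforward f).obj F) ⟶
    (pushforward f').obj ((Scheme.Modules.pullback g').obj F) :=
  ((pullbackPushforwardAdjunction g).homEquiv ((pushforward f).obj F)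
    ((pushforward f').obj ((Scheme.Modules.pullback g').obj F))).symm (vMap f g g' f' h F)

theorem unit_comp_uMap :
    (pullbackPushforwardAdjunction g).unit.app ((pushforward f).obj F) ≫
      (pushforward g).map (uMap f g g' f' h F) = vMap f g g' f' h F := by
  have h1 := (pullbackPushforwardAdjunction g).homEquiv_unit
    (X := (pushforward f).obj F) (f := uMap f g g' f' h F)
  rw [← h1]
  exact Equiv.apply_symm_apply _ _

theorem vMap_app (V : S.Opens) (m : Γ(F, f ⁻¹ᵁ V)) :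
    (vMap f g g' f' h F).app V m =
      ((Scheme.Modules.pullback g').obj F).presheaf.map (eqToHom (by
        change (f' ≫ g) ⁻¹ᵁ V = (g' ≫ f) ⁻¹ᵁ V
        rw [h.w])).op
        (((pullbackPushforwardAdjunction g').unit.app F).app (f ⁻¹ᵁ V) m) := by
  rfl

include h in
theorem preimage_le {V : S.Opens} {V' : S'.Opens} (e : V' ≤ g ⁻¹ᵁ V) :
    f' ⁻¹ᵁ V' ≤ g' ⁻¹ᵁ (f ⁻¹ᵁ V) := by
  have h1 : f' ⁻¹ᵁ V' ≤ f' ⁻¹ᵁ (g ⁻¹ᵁ V) := fun x hx => e hx
  have h2 : f' ⁻¹ᵁ (g ⁻¹ᵁ V) = g' ⁻¹ᵁ (f ⁻¹ᵁ V) := by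
    change (f' ≫ g) ⁻¹ᵁ V = (g' ≫ f) ⁻¹ᵁ V
    rw [h.w]
  exact h1.trans h2.le

/-- compatibility of the base change map with the units on sections -/
theorem uMap_unitSec {V : S.Opens} {V' : S'.Opens} (e : V' ≤ g ⁻¹ᵁ V) (m : Γ(F, f ⁻¹ᵁ V)) :
    (uMap f g g' f' h F).app V' (unitSec g ((pushforward f).obj F) e m) =
      unitSec g' F (preimage_le f g g' f' h e) m := by
  have h0 := congrArg (fun ψ => (Scheme.Modules.Hom.app ψ V) m) (unit_comp_uMap f g g' f' h F)
  have h1 : (uMap f g g' f' h F).app (g ⁻¹ᵁ V)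
      (((pullbackPushforwardAdjunction g).unit.app ((pushforward f).obj F)).app V m) =
      (vMap f g g' f' h F).app V m := h0
  have h2 := congrArg (((pushforward f').obj ((Scheme.Modules.pullback g').obj F)).presheaf.map
    (homOfLE e).op) h1
  have h3 := hom_naturality_apply (uMap f g g' f' h F) (homOfLE e)
    (((pullbackPushforwardAdjunction g).unit.app ((pushforward f).obj F)).app V m)
  have h4 : ((pushforward f').obj ((Scheme.Modules.pullback g').obj F)).presheaf.map (homOfLE e).op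
      ((vMap f g g' f' h F).app V m) = unitSec g' F (preimage_le f g g' f' h e) m :=
    presheaf_map_map ((Scheme.Modules.pullback g').obj F) _
      ((Opens.map f'.base).map (homOfLE e)) (homOfLE (preimage_le f g g' f' h e)) _
  exact h3.symm.trans (h2.trans h4)

set_option maxHeartbeats 1600000 in
set_option backward.isDefEq.respectTransparency false in
/-- the base change map is bijective on sections over an affine open `V'` of `S'` mapping into an affine
open `V` of `S` -/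
theorem bijective_uMap_app [IsAffineHom f] [F.IsQuasicoherent] {V : S.Opens} {V' : S'.Opens}
    (hV : IsAffineOpen V) (hV' : IsAffineOpen V') (e : V' ≤ g ⁻¹ᵁ V) :
    Function.Bijective ((uMap f g g' f' h F).app V') := by
  haveI hf' : IsAffineHom f' := MorphismProperty.of_isPullback h inferInstance
  have e' := preimage_le f g g' f' h e
  have hU : IsAffineOpen (f ⁻¹ᵁ V) := hV.preimage f
  have hU' : IsAffineOpen (f' ⁻¹ᵁ V') := hV'.preimage f'
  haveI : ((pushforward f).obj F).IsQuasicoherent :=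
    Groth.Agent.Lib.H90OXModPush.isQuasicoherent_pushforward f F
  -- rings
  let α := g.appLE V V' e
  let β := f.app V
  let α' := g'.appLE (f ⁻¹ᵁ V) (f' ⁻¹ᵁ V') e'
  let β' := f'.app V'
  have hPO : IsPushout α β β' α' :=
    Groth.Agent.Lib.ThickeningBC.isPushout_appLE (iX := f') (f := g') (f' := g) (iS := f)
      h.flip hV hV' e
  letI algAA' : Algebra Γ(S, V) Γ(S', V') := α.hom.toAlgebra
  letI algAB : Algebra Γ(S, V) Γ(X, f ⁻¹ᵁ V) := β.hom.toAlgebra
  letI algBB' : Algebra Γ(X, f ⁻¹ᵁ V) Γ(X', f' ⁻¹ᵁ V') := α'.hom.toAlgebra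
  letI algA'B' : Algebra Γ(S', V') Γ(X', f' ⁻¹ᵁ V') := β'.hom.toAlgebra
  letI algAB' : Algebra Γ(S, V) Γ(X', f' ⁻¹ᵁ V') := (α ≫ β').hom.toAlgebra
  haveI : IsScalarTower Γ(S, V) Γ(S', V') Γ(X', f' ⁻¹ᵁ V') := .of_algebraMap_eq fun _ => rfl
  haveI : IsScalarTower Γ(S, V) Γ(X, f ⁻¹ᵁ V) Γ(X', f' ⁻¹ᵁ V') :=
    .of_algebraMap_eq fun x => congrArg (fun t : Γ(S, V) ⟶ Γ(X', f' ⁻¹ᵁ V') => t.hom x) hPO.w
  haveI : Algebra.IsPushout Γ(S, V) Γ(S', V') Γ(X, f ⁻¹ᵁ V) Γ(X', f' ⁻¹ᵁ V') :=
    CommRingCat.isPushout_iff_isPushout.mp hPO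
  -- modules
  letI modAM : Module Γ(S, V) Γ(F, f ⁻¹ᵁ V) := Module.compHom _ β.hom
  haveI : IsScalarTower Γ(S, V) Γ(X, f ⁻¹ᵁ V) Γ(F, f ⁻¹ᵁ V) := .of_algebraMap_smul fun _ _ => rfl
  letI modAN₁ : Module Γ(S, V) Γ((Scheme.Modules.pullback g).obj ((pushforward f).obj F), V') :=
    Module.compHom _ α.hom
  haveI : IsScalarTower Γ(S, V) Γ(S', V')
      Γ((Scheme.Modules.pullback g).obj ((pushforward f).obj F), V') :=
    .of_algebraMap_smul fun _ _ => rfl
  letI modBN₂ : Module Γ(X, f ⁻¹ᵁ V) Γ((Scheme.Modules.pullback g').obj F, f' ⁻¹ᵁ V') :=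
    Module.compHom _ α'.hom
  haveI : IsScalarTower Γ(X, f ⁻¹ᵁ V) Γ(X', f' ⁻¹ᵁ V')
      Γ((Scheme.Modules.pullback g').obj F, f' ⁻¹ᵁ V') := .of_algebraMap_smul fun _ _ => rfl
  letI modA'N₂ : Module Γ(S', V') Γ((Scheme.Modules.pullback g').obj F, f' ⁻¹ᵁ V') :=
    Module.compHom _ β'.hom
  haveI : IsScalarTower Γ(S', V') Γ(X', f' ⁻¹ᵁ V')
      Γ((Scheme.Modules.pullback g').obj F, f' ⁻¹ᵁ V') := .of_algebraMap_smul fun _ _ => rfl
  have h₁ := isBaseChange_unitSec g ((pushforward f).obj F) hV' hV e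
  have h₂ := isBaseChange_unitSec g' F hU' hU e'
  let υ : Γ((Scheme.Modules.pullback g).obj ((pushforward f).obj F), V') →ₗ[Γ(S', V')]
      Γ((Scheme.Modules.pullback g').obj F, f' ⁻¹ᵁ V') :=
    { toFun := (uMap f g g' f' h F).app V'
      map_add' := fun x y => map_add ((uMap f g g' f' h F).app V').hom x y
      map_smul' := fun r x => Scheme.Modules.Hom.app_smul (uMap f g g' f' h F) r x }
  exact bijective_of_isBaseChange_of_isPushout (A := Γ(S, V)) (A' := Γ(S', V'))
    (B := Γ(X, f ⁻¹ᵁ V)) (B' := Γ(X', f' ⁻¹ᵁ V')) (M := Γ(F, f ⁻¹ᵁ V))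
    (unitSec g ((pushforward f).obj F) e) h₁ (unitSec g' F e') h₂ υ
    (fun m => uMap_unitSec f g g' f' h F e m)

set_option backward.isDefEq.respectTransparency false in
/-- **Affine base change**: the base change map `g^* f_* F ⟶ f'_* g'^* F` is an isomorphism for `f` affine
and `F` quasi-coherent. -/
theorem isIso_uMap [IsAffineHom f] [F.IsQuasicoherent] : IsIso (uMap f g g' f' h F) := by
  haveI hf' : IsAffineHom f' := MorphismProperty.of_isPullback h inferInstance
  haveI : ((pushforward f).obj F).IsQuasicoherent :=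
    Groth.Agent.Lib.H90OXModPush.isQuasicoherent_pushforward f F
  haveI : ((Scheme.Modules.pullback g').obj F).IsQuasicoherent := inferInstance
  haveI : ((pushforward f').obj ((Scheme.Modules.pullback g').obj F)).IsQuasicoherent :=
    Groth.Agent.Lib.H90OXModPush.isQuasicoherent_pushforward f' _
  haveI : ((Scheme.Modules.pullback g).obj ((pushforward f).obj F)).IsQuasicoherent := inferInstance
  let ι := {p : S.Opens × S'.Opens // IsAffineOpen p.1 ∧ IsAffineOpen p.2 ∧ p.2 ≤ g ⁻¹ᵁ p.1}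
  refine Groth.Agent.Lib.H90OXModAffineIso.isIso_of_bijective_app_affine_cover _
    (fun p : ι => p.1.2) ?_ (fun p => p.2.2.1)
    (fun p => bijective_uMap_app f g g' f' h F p.2.1 p.2.2.1 p.2.2.2)
  rw [eq_top_iff]
  intro x _
  obtain ⟨_, ⟨V, hV, rfl⟩, hxV, -⟩ :=
    S.isBasis_affineOpens.exists_subset_of_mem_open (Set.mem_univ (g x)) isOpen_univ
  obtain ⟨_, ⟨V', hV', rfl⟩, hxV', hV'V⟩ :=
    S'.isBasis_affineOpens.exists_subset_of_mem_open (show x ∈ (g ⁻¹ᵁ V : Set S') from hxV)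
      (g ⁻¹ᵁ V).isOpen
  exact Opens.mem_iSup.mpr ⟨⟨(V, V'), hV, hV', hV'V⟩, hxV'⟩

end Geom

end Groth.Agent.Lib.AffineBaseChange
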