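import Groth.Prelude.Def_BlowUp2

/-!
# The affine blow-up algebra `A[I/a]`: universal property (helper24)

* `algebraMap_mem_nonZeroDivisors`: `a` is a nonzerodivisor in `A[I/a]`
* `map_eq_span`: `I · A[I/a] = (a)` for `a ∈ I`
* `existsUnique_lift`: for `γ : A →+* R` with `γ a` a nonzerodivisor dividing all `γ x`, `x ∈ I`, there is a
  unique `ψ : A[I/a] →+* R` with `ψ ∘ algebraMap = γ`.
-/

set_option autoImplicit false
universe u

namespace Groth.Agent.Lib.AffineBlowupAlg

variable {A : Type u} [CommRing A] (I : Ideal A) (a : A)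

/-- The affine blow-up algebra as a type. -/
abbrev Bl (I : Ideal A) (a : A) : Type u := ↥(BlowUp.affineAlgebra A I a)

/-- The generator `x / a` of `A[I/a]`. -/
noncomputable def gen (x : A) (hx : x ∈ I) : (Bl I a) :=
  ⟨IsLocalization.mk' (Localization.Away a) x ⟨a, Submonoid.mem_powers a⟩,
    Algebra.subset_adjoin ⟨x, hx, rfl⟩⟩

theorem gen_mul (x : A) (hx : x ∈ I) : gen I a x hx * algebraMap A (Bl I a) a = algebraMap A (Bl I a) x := by
  apply Subtype.ext
  change IsLocalization.mk' (Localization.Away a) x ⟨a, Submonoid.mem_powers a⟩ *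
    algebraMap A (Localization.Away a) a = algebraMap A (Localization.Away a) x
  exact IsLocalization.mk'_spec _ _ _

theorem algebraMap_mem_nonZeroDivisors : algebraMap A (Bl I a) a ∈ nonZeroDivisors (Bl I a) := by
  rw [mem_nonZeroDivisors_iff_right]
  intro z hz
  apply Subtype.ext
  have h1 : (z : Localization.Away a) * algebraMap A (Localization.Away a) a = 0 :=
    congrArg Subtype.val hz
  have hu : IsUnit (algebraMap A (Localization.Away a) a) :=
    IsLocalization.map_units (Localization.Away a) (⟨a, Submonoid.mem_powers a⟩ : Submonoid.powers a)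
  exact (hu.mul_left_eq_zero).mp h1

theorem map_eq_span (ha : a ∈ I) :
    I.map (algebraMap A (Bl I a)) = Ideal.span {algebraMap A (Bl I a) a} := by
  apply le_antisymm
  · rw [Ideal.map_le_iff_le_comap]
    intro x hx
    rw [Ideal.mem_comap, Ideal.mem_span_singleton']
    exact ⟨gen I a x hx, gen_mul I a x hx⟩
  · rw [Ideal.span_singleton_le_iff_mem]
    exact Ideal.mem_map_of_mem _ ha

/-- Induction principle for `A[I/a]`. -/
theorem induction_on {p : (Bl I a) → Prop} (z : (Bl I a))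
    (halg : ∀ x : A, p (algebraMap A (Bl I a) x)) (hgen : ∀ (x : A) (hx : x ∈ I), p (gen I a x hx))
    (hadd : ∀ z w, p z → p w → p (z + w)) (hmul : ∀ z w, p z → p w → p (z * w)) : p z := by
  obtain ⟨z, hz⟩ := z
  induction hz using Algebra.adjoin_induction with
  | mem q hq =>
    obtain ⟨x, hx, rfl⟩ := hq
    exact hgen x hx
  | algebraMap x => exact halg x
  | add z w hz hw h1 h2 => exact hadd ⟨z, hz⟩ ⟨w, hw⟩ h1 h2
  | mul z w hz hw h1 h2 => exact hmul ⟨z, hz⟩ ⟨w, hw⟩ h1 h2

variable {I a}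

theorem lift_unique {R : Type*} [CommRing R] (γ : A →+* R) (hnzd : γ a ∈ nonZeroDivisors R)
    (ψ₁ ψ₂ : (Bl I a) →+* R) (h₁ : ψ₁.comp (algebraMap A (Bl I a)) = γ) (h₂ : ψ₂.comp (algebraMap A (Bl I a)) = γ) :
    ψ₁ = ψ₂ := by
  refine RingHom.ext fun z => ?_
  refine induction_on I a (p := fun z => ψ₁ z = ψ₂ z) z ?_ ?_ ?_ ?_
  · intro x
    have e1 : ψ₁ (algebraMap A (Bl I a) x) = γ x := by rw [← h₁]; rfl
    have e2 : ψ₂ (algebraMap A (Bl I a) x) = γ x := by rw [← h₂]; rfl
    rw [e1, e2]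
  · intro x hx
    apply (mul_cancel_right_mem_nonZeroDivisors hnzd).mp
    have e1 : ψ₁ (gen I a x hx) * γ a = γ x := by
      rw [← h₁, RingHom.comp_apply, RingHom.comp_apply, ← map_mul, gen_mul]
    have e2 : ψ₂ (gen I a x hx) * γ a = γ x := by
      rw [← h₂, RingHom.comp_apply, RingHom.comp_apply, ← map_mul, gen_mul]
    rw [e1, e2]
  · intro z w hz hw
    rw [map_add, map_add, hz, hw]
  · intro z w hz hw
    rw [map_mul, map_mul, hz, hw]

theorem exists_lift {R : Type*} [CommRing R] (γ : A →+* R) (hnzd : γ a ∈ nonZeroDivisors R)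
    (hdiv : ∀ x ∈ I, γ a ∣ γ x) :
    ∃ ψ : (Bl I a) →+* R, ψ.comp (algebraMap A (Bl I a)) = γ := by
  let R' := Localization.Away (γ a)
  have hinj : Function.Injective (algebraMap R R') :=
    IsLocalization.injective (M := Submonoid.powers (γ a)) R' (Submonoid.powers_le.mpr hnzd)
  let φ' : Localization.Away a →+* R' := Localization.awayMap γ a
  have hφ' : ∀ x : A, φ' (algebraMap A (Localization.Away a) x) = algebraMap R R' (γ x) :=
    fun x => IsLocalization.map_eq _ _
  let Φ : (Bl I a) →+* R' := φ'.comp (BlowUp.affineAlgebra A I a).val.toRingHom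
  have hΦalg : ∀ x : A, Φ (algebraMap A (Bl I a) x) = algebraMap R R' (γ x) := fun x => hφ' x
  have hrange : ∀ z : (Bl I a), ∃ r : R, algebraMap R R' r = Φ z := by
    intro z
    refine induction_on I a (p := fun z => ∃ r : R, algebraMap R R' r = Φ z) z ?_ ?_ ?_ ?_
    · intro x
      exact ⟨γ x, (hΦalg x).symm⟩
    · intro x hx
      obtain ⟨c, hc⟩ := hdiv x hx
      refine ⟨c, ?_⟩
      have h1 : Φ (gen I a x hx) * algebraMap R R' (γ a) = algebraMap R R' (γ x) := by
        rw [← hΦalg, ← hΦalg, ← map_mul, gen_mul]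
      have hu : IsUnit (algebraMap R R' (γ a)) :=
        IsLocalization.map_units R' (⟨γ a, Submonoid.mem_powers _⟩ : Submonoid.powers (γ a))
      apply hu.mul_left_injective
      change algebraMap R R' c * algebraMap R R' (γ a) = Φ (gen I a x hx) * algebraMap R R' (γ a)
      rw [h1, hc, map_mul, mul_comm]
    · rintro z w ⟨r, hr⟩ ⟨s, hs⟩
      exact ⟨r + s, by rw [map_add, map_add, hr, hs]⟩
    · rintro z w ⟨r, hr⟩ ⟨s, hs⟩
      exact ⟨r * s, by rw [map_mul, map_mul, hr, hs]⟩
  choose ψ hψ using hrange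
  refine ⟨{ toFun := ψ, map_one' := ?_, map_mul' := ?_, map_zero' := ?_, map_add' := ?_ }, ?_⟩
  · apply hinj; rw [hψ, map_one, map_one]
  · intro z w; apply hinj; rw [hψ, map_mul, map_mul, hψ, hψ]
  · apply hinj; rw [hψ, map_zero, map_zero]
  · intro z w; apply hinj; rw [hψ, map_add, map_add, hψ, hψ]
  · refine RingHom.ext fun x => ?_
    apply hinj
    change algebraMap R R' (ψ (algebraMap A (Bl I a) x)) = _
    rw [hψ, hΦalg]

theorem existsUnique_lift {R : Type*} [CommRing R] (γ : A →+* R) (hnzd : γ a ∈ nonZeroDivisors R)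
    (hdiv : ∀ x ∈ I, γ a ∣ γ x) :
    ∃! ψ : (Bl I a) →+* R, ψ.comp (algebraMap A (Bl I a)) = γ := by
  obtain ⟨ψ, hψ⟩ := exists_lift γ hnzd hdiv
  exact ⟨ψ, hψ, fun ψ' hψ' => lift_unique γ hnzd ψ' ψ hψ' hψ⟩

end Groth.Agent.Lib.AffineBlowupAlg
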