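import Mathlib.RingTheory.Ideal.Maps
import Mathlib.RingTheory.Ideal.Operations
import Mathlib.RingTheory.NonUnitalSubsemiring.Basic
import Mathlib.Algebra.GroupWithZero.NonZeroDivisors

/-!
# Algebra behind "Spec B → Spec A is a blowing up in I when I·B = f·B ⊆ A" (helper24)

Setting: `A → B` injective, `I ⊆ A` an ideal with `I·B ⊆ image of I`, and `I·B = (φ a₀)`, `a₀ ∈ I`.

* `map_eq_span_of_map_eq_span`: if `γ : A →+* C` and `γ(I)C = (t)` with `t` a nonzerodivisor, then
  `γ a₀` is a nonzerodivisor generating `γ(I)C`.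
* `existsUnique_lift`: if `γ : A →+* R`, `γ a₀` nonzerodivisor dividing all `γ a`, `a ∈ I`, then `γ`
  extends uniquely to `B →+* R`.
-/

set_option autoImplicit false

namespace Groth.Agent.Lib.BlowUpAffineAlg

variable {A B : Type*} [CommRing A] [CommRing B] [Algebra A B]

/-- For `a ∈ I` there is `a' ∈ I` with `a ^ 2 = a₀ * a'`. -/
theorem exists_sq_eq (hinj : Function.Injective (algebraMap A B)) (I : Ideal A)
    (hIB : (Ideal.map (algebraMap A B) I : Set B) ⊆ algebraMap A B '' (I : Set A))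
    (a₀ : A) (hgen : Ideal.map (algebraMap A B) I = Ideal.span {algebraMap A B a₀})
    (a : A) (ha : a ∈ I) : ∃ a' ∈ I, a ^ 2 = a₀ * a' := by
  have h1 : algebraMap A B a ∈ Ideal.map (algebraMap A B) I := Ideal.mem_map_of_mem _ ha
  rw [hgen] at h1
  obtain ⟨b, hb⟩ := Ideal.mem_span_singleton'.mp h1
  -- hb : b * φ a₀ = φ a
  have h2 : algebraMap A B a₀ * b ^ 2 ∈ Ideal.map (algebraMap A B) I := by
    rw [hgen]
    exact Ideal.mem_span_singleton'.mpr ⟨b ^ 2, by ring⟩
  obtain ⟨a', ha', ha'e⟩ := hIB h2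
  refine ⟨a', ha', hinj ?_⟩
  rw [map_pow, map_mul, ha'e, ← hb]
  ring

theorem map_eq_span_of_map_eq_span {C : Type*} [CommRing C]
    (hinj : Function.Injective (algebraMap A B)) (I : Ideal A)
    (hIB : (Ideal.map (algebraMap A B) I : Set B) ⊆ algebraMap A B '' (I : Set A))
    (a₀ : A) (ha₀ : a₀ ∈ I) (hgen : Ideal.map (algebraMap A B) I = Ideal.span {algebraMap A B a₀})
    (γ : A →+* C) (t : C) (ht : t ∈ nonZeroDivisors C) (hIt : I.map γ = Ideal.span {t}) :
    γ a₀ ∈ nonZeroDivisors C ∧ I.map γ = Ideal.span {γ a₀} := by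
  have h0 : γ a₀ ∈ Ideal.span {t} := hIt ▸ Ideal.mem_map_of_mem _ ha₀
  obtain ⟨c₀, hc₀⟩ := Ideal.mem_span_singleton'.mp h0
  -- hc₀ : c₀ * t = γ a₀
  have key : ∀ x ∈ I.map γ, ∃ c ∈ (Ideal.span {c₀}).radical, x = c * t := by
    intro x hx
    refine Submodule.span_induction (p := fun x _ => ∃ c ∈ (Ideal.span {c₀}).radical, x = c * t)
      ?_ ?_ ?_ ?_ hx
    · rintro _ ⟨a, ha, rfl⟩
      have h1 : γ a ∈ Ideal.span {t} := hIt ▸ Ideal.mem_map_of_mem _ ha
      obtain ⟨c, hc⟩ := Ideal.mem_span_singleton'.mp h1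
      obtain ⟨a', ha', hsq⟩ := exists_sq_eq hinj I hIB a₀ hgen a ha
      have h2 : γ a' ∈ Ideal.span {t} := hIt ▸ Ideal.mem_map_of_mem _ ha'
      obtain ⟨c', hc'⟩ := Ideal.mem_span_singleton'.mp h2
      refine ⟨c, ⟨2, ?_⟩, hc.symm⟩
      rw [Ideal.mem_span_singleton']
      refine ⟨c', ?_⟩
      have h3 : γ a ^ 2 = γ a₀ * γ a' := by rw [← map_pow, hsq, map_mul]
      rw [← hc, ← hc₀, ← hc'] at h3
      have h4 : (c' * c₀ - c ^ 2) * (t * t) = 0 := by
        have : (c' * c₀ - c ^ 2) * (t * t) = c₀ * t * (c' * t) - (c * t) ^ 2 := by ring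
        rw [this, h3, sub_self]
      have h5 := (mem_nonZeroDivisors_iff_right.mp (mul_mem ht ht)) _ h4
      exact sub_eq_zero.mp h5
    · exact ⟨0, Ideal.zero_mem _, by simp⟩
    · rintro x y _ _ ⟨c, hc, rfl⟩ ⟨d, hd, rfl⟩
      exact ⟨c + d, Ideal.add_mem _ hc hd, by ring⟩
    · rintro r x _ ⟨c, hc, rfl⟩
      exact ⟨r * c, Ideal.mul_mem_left _ r hc, by simp [mul_assoc]⟩
  have htm : t ∈ I.map γ := hIt ▸ Ideal.mem_span_singleton_self t
  obtain ⟨c, hc, hct⟩ := key t htm
  have hc1 : c = 1 := by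
    have h4 : (c - 1) * t = 0 := by rw [sub_mul, one_mul, ← hct, sub_self]
    exact sub_eq_zero.mp ((mem_nonZeroDivisors_iff_right.mp ht) _ h4)
  rw [hc1, ← Ideal.eq_top_iff_one, Ideal.radical_eq_top, Ideal.span_singleton_eq_top] at hc
  obtain ⟨u, rfl⟩ := hc
  constructor
  · rw [← hc₀]
    exact mul_mem u.isUnit.mem_nonZeroDivisors ht
  · rw [hIt, ← hc₀]
    exact (Ideal.span_singleton_mul_left_unit u.isUnit t).symm

theorem existsUnique_lift {R : Type*} [CommRing R]
    (hinj : Function.Injective (algebraMap A B)) (I : Ideal A)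
    (hIB : (Ideal.map (algebraMap A B) I : Set B) ⊆ algebraMap A B '' (I : Set A))
    (a₀ : A) (hgen : Ideal.map (algebraMap A B) I = Ideal.span {algebraMap A B a₀})
    (γ : A →+* R) (hnzd : γ a₀ ∈ nonZeroDivisors R) (hdiv : ∀ a ∈ I, γ a₀ ∣ γ a) :
    ∃! ψ : B →+* R, ψ.comp (algebraMap A B) = γ := by
  have hcancel : ∀ x y : R, γ a₀ * x = γ a₀ * y → x = y := fun x y h =>
    mul_cancel_left_mem_nonZeroDivisors hnzd |>.mp h
  -- for each `b`, the element `a_b ∈ I` with `φ a_b = φ a₀ * b`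
  have hex : ∀ b : B, ∃ a ∈ I, algebraMap A B a = algebraMap A B a₀ * b := by
    intro b
    have h2 : algebraMap A B a₀ * b ∈ Ideal.map (algebraMap A B) I := by
      rw [hgen]
      exact Ideal.mem_span_singleton'.mpr ⟨b, by ring⟩
    obtain ⟨a', ha', ha'e⟩ := hIB h2
    exact ⟨a', ha', ha'e⟩
  choose aOf haI haOf using hex
  have hexc : ∀ b : B, ∃ c : R, γ (aOf b) = γ a₀ * c := fun b => hdiv _ (haI b)
  choose cOf hcOf using hexc
  have hψφ : ∀ a, cOf (algebraMap A B a) = γ a := by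
    intro a
    apply hcancel
    rw [← hcOf, ← map_mul]
    congr 1
    apply hinj
    rw [haOf, map_mul]
  let ψ : B →+* R :=
    { toFun := cOf
      map_one' := by
        rw [← map_one (algebraMap A B), hψφ, map_one]
      map_mul' := by
        intro x y
        apply hcancel
        apply hcancel
        have h1 : γ a₀ * (γ a₀ * cOf (x * y)) = γ (a₀ * aOf (x * y)) := by
          rw [← hcOf, map_mul]
        have h2 : γ a₀ * (γ a₀ * (cOf x * cOf y)) = γ (aOf x * aOf y) := by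
          rw [map_mul, hcOf, hcOf]; ring
        rw [h1, h2]
        congr 1
        apply hinj
        rw [map_mul, map_mul, haOf, haOf, haOf]
        ring
      map_zero' := by
        rw [← map_zero (algebraMap A B), hψφ, map_zero]
      map_add' := by
        intro x y
        apply hcancel
        rw [mul_add, ← hcOf, ← hcOf, ← hcOf, ← map_add]
        congr 1
        apply hinj
        rw [map_add, haOf, haOf, haOf]
        ring }
  refine ⟨ψ, RingHom.ext hψφ, ?_⟩
  intro ψ' hψ'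
  refine RingHom.ext fun b => ?_
  apply hcancel
  change γ a₀ * ψ' b = γ a₀ * cOf b
  rw [← hcOf, ← hψ']
  simp only [RingHom.comp_apply]
  rw [← map_mul, haOf]

end Groth.Agent.Lib.BlowUpAffineAlg
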