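import Mathlib.AlgebraicGeometry.Morphisms.Flat
import Mathlib.AlgebraicGeometry.Morphisms.ClosedImmersion
import Mathlib.AlgebraicGeometry.IdealSheaf.Functorial

/-!
# Sections of the inverse image ideal sheaf on affine opens

* `ker_of_isPushout`: in a pushout square of commutative rings with `A ⟶ C` surjective, the kernel of
  `B ⟶ D` is the extension of the kernel of `A ⟶ C`.
* `ker_snd_ideal`: for a closed immersion `f : Y ⟶ X` and any `g : X' ⟶ X`, the kernel ideal of the
  base change `pullback.snd f g` on an affine open `U' ≤ g ⁻¹ᵁ U` is the extension of `f.ker.ideal U`.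
* `ideal_comap`: `(I.comap g).ideal U' = Ideal.map (g.appLE U U') (I.ideal U)`.
-/

set_option autoImplicit false
universe u
open CategoryTheory CategoryTheory.Limits AlgebraicGeometry TopologicalSpace

namespace Groth.Agent.Lib.IdealComap

theorem ker_of_isPushout {A B C D : CommRingCat.{u}} {a : A ⟶ C} {φ : A ⟶ B} {c : C ⟶ D} {ψ : B ⟶ D}
    (h : IsPushout a φ c ψ) (ha : Function.Surjective a.hom) :
    RingHom.ker ψ.hom = Ideal.map φ.hom (RingHom.ker a.hom) := by
  apply le_antisymm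
  · let J := Ideal.map φ.hom (RingHom.ker a.hom)
    let q : B ⟶ CommRingCat.of (B ⧸ J) := CommRingCat.ofHom (Ideal.Quotient.mk J)
    have hle : RingHom.ker a.hom ≤ RingHom.ker ((Ideal.Quotient.mk J).comp φ.hom) := by
      intro x hx
      rw [RingHom.mem_ker, RingHom.comp_apply, Ideal.Quotient.eq_zero_iff_mem]
      exact Ideal.mem_map_of_mem _ hx
    let r : C ⟶ CommRingCat.of (B ⧸ J) :=
      CommRingCat.ofHom (RingHom.liftOfSurjective a.hom ha ⟨_, hle⟩)
    have hcomm : a ≫ r = φ ≫ q := by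
      ext x
      exact RingHom.liftOfSurjective_comp_apply a.hom ha ⟨_, hle⟩ x
    have hd : ψ ≫ h.desc r q hcomm = q := h.inr_desc _ _ _
    intro x hx
    have hx0 : q.hom x = 0 := by
      rw [← hd, CommRingCat.hom_comp, RingHom.comp_apply, RingHom.mem_ker.mp hx, map_zero]
    exact Ideal.Quotient.eq_zero_iff_mem.mp hx0
  · rw [Ideal.map_le_iff_le_comap]
    intro x hx
    rw [Ideal.mem_comap, RingHom.mem_ker]
    have hw := congr($(h.w).hom x)
    rw [CommRingCat.hom_comp, CommRingCat.hom_comp, RingHom.comp_apply, RingHom.comp_apply] at hw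
    rw [← hw, RingHom.mem_ker.mp hx, map_zero]

theorem ker_snd_ideal {X X' Y : Scheme.{u}} (f : Y ⟶ X) (g : X' ⟶ X) [IsClosedImmersion f]
    (U : X.Opens) (hU : IsAffineOpen U) (U' : X'.Opens) (hU' : IsAffineOpen U') (hle : U' ≤ g ⁻¹ᵁ U) :
    (pullback.snd f g).ker.ideal ⟨U', hU'⟩ =
      Ideal.map (g.appLE U U' hle).hom (f.ker.ideal ⟨U, hU⟩) := by
  have H : IsPullback (pullback.fst f g) (pullback.snd f g) f g := IsPullback.of_hasPullback f g
  have hUX : IsAffineOpen (f ⁻¹ᵁ U) := hU.preimage f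
  have hUY : (pullback.snd f g) ⁻¹ᵁ U' =
      (pullback.fst f g) ⁻¹ᵁ (f ⁻¹ᵁ U) ⊓ (pullback.snd f g) ⁻¹ᵁ U' := by
    refine le_antisymm (le_inf ?_ le_rfl) inf_le_right
    intro z hz
    show f ((pullback.fst f g) z) ∈ U
    rw [← Scheme.Hom.comp_apply, pullback.condition, Scheme.Hom.comp_apply]
    exact hle hz
  have hiso := isIso_pushoutSection_of_isAffineOpen H hle (le_refl (f ⁻¹ᵁ U)) hUY hU hU' hUX
  have hpo := (isIso_pushoutSection_iff H hle (le_refl (f ⁻¹ᵁ U)) hUY).mp hiso
  have hsurj : Function.Surjective (f.appLE U (f ⁻¹ᵁ U) le_rfl).hom := by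
    rw [Scheme.Hom.appLE_eq_app]
    exact f.app_surjective U hU
  have hk := ker_of_isPushout hpo hsurj
  rw [Scheme.Hom.ker_apply, Scheme.Hom.ker_apply, Scheme.Hom.app_eq_appLE, hk,
    Scheme.Hom.appLE_eq_app]

theorem ideal_comap {X X' : Scheme.{u}} (I : X.IdealSheafData) (g : X' ⟶ X)
    (U : X.Opens) (hU : IsAffineOpen U) (U' : X'.Opens) (hU' : IsAffineOpen U') (hle : U' ≤ g ⁻¹ᵁ U) :
    (I.comap g).ideal ⟨U', hU'⟩ = Ideal.map (g.appLE U U' hle).hom (I.ideal ⟨U, hU⟩) := by
  have h1 : I.comap g = (pullback.snd I.subschemeι g).ker := by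
    delta Scheme.IdealSheafData.comap
    rw [← Scheme.Hom.ker_comp_of_isIso (pullbackSymmetry g I.subschemeι).hom (pullback.snd I.subschemeι g),
      pullbackSymmetry_hom_comp_snd]
  rw [h1, ker_snd_ideal I.subschemeι g U hU U' hU' hle, Scheme.IdealSheafData.ker_subschemeι]

end Groth.Agent.Lib.IdealComap
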