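import Groth.Agent.Lib.RelCartier
import Mathlib.Topology.Sheaves.SheafCondition.UniqueGluing

/-!
# Divisibility of global sections by locally regular sections (helper24)

For a scheme `Y` and `s : Γ(Y, ⊤)` which is a nonzerodivisor on an affine open neighbourhood of every
point (`LocallyNZD s`):
* `res_mem_nonZeroDivisors`: `s|_W` is a nonzerodivisor of `Γ(Y, W)` for every open `W`;
* `dvd_of_locally_dvd`: a global section locally divisible by `s` is divisible by `s`.
-/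

set_option autoImplicit false
universe u
open CategoryTheory AlgebraicGeometry TopologicalSpace Opposite

namespace Groth.Agent.Lib.SectionDiv

variable {Y : Scheme.{u}}

/-- Restriction of a global section to an open. -/
noncomputable abbrev res (W : Y.Opens) : Γ(Y, ⊤) →+* Γ(Y, W) :=
  (Y.presheaf.map (homOfLE (le_top : W ≤ ⊤)).op).hom

/-- `s` is a nonzerodivisor on an affine open neighbourhood of every point. -/
def LocallyNZD (s : Γ(Y, ⊤)) : Prop :=
  ∀ y : Y, ∃ V : Y.affineOpens, y ∈ V.1 ∧ res V.1 s ∈ nonZeroDivisors Γ(Y, V.1)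

lemma res_res {W W' : Y.Opens} (h : W' ≤ W) (s : Γ(Y, ⊤)) :
    (Y.presheaf.map (homOfLE h).op).hom (res W s) = res W' s := by
  simp only [res]
  rw [← CommRingCat.comp_apply, ← Functor.map_comp]
  rfl

theorem res_mem_nonZeroDivisors (s : Γ(Y, ⊤)) (hs : LocallyNZD s) (W : Y.Opens) :
    res W s ∈ nonZeroDivisors Γ(Y, W) := by
  rw [mem_nonZeroDivisors_iff_right]
  intro x hx
  have key : ∀ y : W, ∃ V' : Y.Opens, ∃ (hV'W : V' ≤ W), y.1 ∈ V' ∧
      (Y.presheaf.map (homOfLE hV'W).op).hom x = 0 := by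
    rintro ⟨y, hyW⟩
    obtain ⟨V, hyV, hV⟩ := hs y
    obtain ⟨_, ⟨V', hV', rfl⟩, hyV', hV'sub⟩ :=
      Y.isBasis_affineOpens.exists_subset_of_mem_open
        (show y ∈ ((V.1 ⊓ W : Y.Opens) : Set Y) from ⟨hyV, hyW⟩) (V.1 ⊓ W).2
    have h1 : V' ≤ V.1 := fun z hz => (hV'sub hz).1
    have h2 : V' ≤ W := fun z hz => (hV'sub hz).2
    refine ⟨V', h2, hyV', ?_⟩
    have h3 : res V' s ∈ nonZeroDivisors Γ(Y, V') := by
      rw [← res_res h1]
      exact RelCartier.map_mem_nonZeroDivisors_of_flat _ (RelCartier.flat_res hV' V.2 h1) _ hV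
    apply (mem_nonZeroDivisors_iff_right.mp h3)
    rw [← res_res h2, ← map_mul, hx, map_zero]
  choose U hUW hyU hxU using key
  refine Y.sheaf.eq_of_locally_eq' U W (fun y => homOfLE (hUW y)) ?_ x 0 ?_
  · intro y hy
    exact Opens.mem_iSup.2 ⟨⟨y, hy⟩, hyU _⟩
  · intro y
    change (Y.presheaf.map (homOfLE (hUW y)).op).hom x = (Y.presheaf.map (homOfLE (hUW y)).op).hom 0
    rw [hxU, map_zero]

theorem mem_nonZeroDivisors_of_locallyNZD (s : Γ(Y, ⊤)) (hs : LocallyNZD s) :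
    s ∈ nonZeroDivisors Γ(Y, ⊤) := by
  have h := res_mem_nonZeroDivisors s hs ⊤
  have h2 : res (⊤ : Y.Opens) s = s := by
    change (Y.presheaf.map (𝟙 (op (⊤ : Y.Opens)))).hom s = s
    rw [Y.presheaf.map_id]
    rfl
  rwa [h2] at h

theorem dvd_of_locally_dvd (s r : Γ(Y, ⊤)) (hs : LocallyNZD s)
    (h : ∀ y : Y, ∃ V : Y.Opens, y ∈ V ∧ res V s ∣ res V r) : s ∣ r := by
  choose V hyV hdvd using h
  choose c hc using hdvd
  have hcover : (⊤ : Y.Opens) ≤ iSup V := fun y _ => Opens.mem_iSup.2 ⟨y, hyV y⟩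
  have hcompat : TopCat.Presheaf.IsCompatible Y.presheaf V c := by
    intro y z
    have hnzd := res_mem_nonZeroDivisors s hs (V y ⊓ V z)
    apply (mul_cancel_left_mem_nonZeroDivisors hnzd).mp
    change res (V y ⊓ V z) s * (Y.presheaf.map (homOfLE (inf_le_left : V y ⊓ V z ≤ V y)).op).hom (c y) =
      res (V y ⊓ V z) s * (Y.presheaf.map (homOfLE (inf_le_right : V y ⊓ V z ≤ V z)).op).hom (c z)
    have e1 : res (V y ⊓ V z) s *
        (Y.presheaf.map (homOfLE (inf_le_left : V y ⊓ V z ≤ V y)).op).hom (c y) =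
        res (V y ⊓ V z) r := by
      rw [← res_res (inf_le_left : V y ⊓ V z ≤ V y) s, ← map_mul, ← hc y, res_res]
    have e2 : res (V y ⊓ V z) s *
        (Y.presheaf.map (homOfLE (inf_le_right : V y ⊓ V z ≤ V z)).op).hom (c z) =
        res (V y ⊓ V z) r := by
      rw [← res_res (inf_le_right : V y ⊓ V z ≤ V z) s, ← map_mul, ← hc z, res_res]
    rw [e1, e2]
  obtain ⟨g', hg', -⟩ := Y.sheaf.existsUnique_gluing' V ⊤ (fun y => homOfLE le_top) hcover c hcompat
  obtain ⟨g, rfl⟩ : ∃ g : Γ(Y, ⊤), g = g' := ⟨g', rfl⟩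
  have hg : ∀ y, res (V y) g = c y := hg'
  refine ⟨g, ?_⟩
  refine Y.sheaf.eq_of_locally_eq' V ⊤ (fun y => homOfLE le_top) hcover r (s * g) ?_
  intro y
  change res (V y) r = res (V y) (s * g)
  rw [map_mul, hc y]
  congr 1
  exact (hg y).symm

end Groth.Agent.Lib.SectionDiv
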