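import Groth.Prelude.Def_BlowUp2
import Groth.Prelude.Def_CurvBase
import Groth.Agent.Lib.BlowUpAffineAlg
import Groth.Agent.Lib.SectionDiv
import Groth.Agent.Lib.IdealComap

/-!
# `Spec B → Spec A` as a blowing up (helper24)

* `gamma A g`: the ring map `A →+* Γ(Y, ⊤)` of a morphism `g : Y ⟶ Spec A`.
* `ideal_comap_idealSheaf`: the ideal of `(Curv2.idealSheaf A I).comap g` on an affine open `V` of `Y`
  is the extension of `I` along `A → Γ(Y, ⊤) → Γ(Y, V)`.
* `isBlowUp_Spec_map`: `A → B` injective, `I·B ⊆ im I`, `I·B = (f)`, `f` nonzerodivisor ⇒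
  `Spec B → Spec A` is a blowing up in `I`.
-/

set_option autoImplicit false
universe u
open CategoryTheory AlgebraicGeometry TopologicalSpace

namespace Groth.Agent.Lib.BlowUpAffine

open Groth.Agent.Lib.SectionDiv Groth.Agent.Lib.BlowUpAffineAlg

variable (A : Type u) [CommRing A] (I : Ideal A)

/-- The ring map `A →+* Γ(Y, ⊤)` attached to `g : Y ⟶ Spec A`. -/
noncomputable def gamma {Y : Scheme.{u}} (g : Y ⟶ Spec (CommRingCat.of A)) : A →+* Γ(Y, ⊤) :=
  ((Scheme.ΓSpecIso (CommRingCat.of A)).inv ≫ g.appTop).hom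

theorem idealSheaf_ideal_top :
    (Curv2.idealSheaf A I).ideal ⟨⊤, isAffineOpen_top _⟩ =
      I.map (Scheme.ΓSpecIso (CommRingCat.of A)).inv.hom :=
  Scheme.IdealSheafData.equivOfIsAffine.apply_symm_apply _

theorem ideal_comap_idealSheaf {Y : Scheme.{u}} (g : Y ⟶ Spec (CommRingCat.of A))
    (V : Y.affineOpens) :
    ((Curv2.idealSheaf A I).comap g).ideal V = I.map ((res V.1).comp (gamma A g)) := by
  have e : V.1 ≤ g ⁻¹ᵁ ⊤ := fun _ _ => trivial
  have h := Groth.Agent.Lib.IdealComap.ideal_comap (Curv2.idealSheaf A I) g ⊤ (isAffineOpen_top _)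
    V.1 V.2 e
  rw [idealSheaf_ideal_top, Ideal.map_map] at h
  rw [show V = ⟨V.1, V.2⟩ from rfl, h]
  rfl

variable {A} {B : Type u} [CommRing B] [Algebra A B]

theorem gamma_SpecMap :
    gamma A (Spec.map (CommRingCat.ofHom (algebraMap A B))) =
      (Scheme.ΓSpecIso (CommRingCat.of B)).inv.hom.comp (algebraMap A B) := by
  unfold gamma
  rw [← Scheme.ΓSpecIso_inv_naturality]
  rfl

theorem res_top {Y : Scheme.{u}} : res (⊤ : Y.Opens) = RingHom.id _ := by
  ext s
  change (Y.presheaf.map (𝟙 (Opposite.op (⊤ : Y.Opens)))).hom s = s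
  rw [Y.presheaf.map_id]
  rfl

theorem isEffCartier_comap_SpecMap (f : B) (hf : f ∈ nonZeroDivisors B)
    (hgen : Ideal.map (algebraMap A B) I = Ideal.span {f}) :
    BlowUp.IsEffCartierIdeal
      ((Curv2.idealSheaf A I).comap (Spec.map (CommRingCat.ofHom (algebraMap A B)))) := by
  intro y
  refine ⟨⟨⊤, isAffineOpen_top _⟩, trivial, (Scheme.ΓSpecIso (CommRingCat.of B)).inv.hom f, ?_, ?_⟩
  · exact Groth.Agent.Lib.RelCartier.map_mem_nonZeroDivisors_of_flat _
      (RingHom.Flat.of_bijective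
        (ConcreteCategory.bijective_of_isIso (Scheme.ΓSpecIso (CommRingCat.of B)).inv)) f hf
  · rw [ideal_comap_idealSheaf, gamma_SpecMap, res_top, RingHom.id_comp, ← Ideal.map_map, hgen,
      Ideal.map_span, Set.image_singleton]

theorem eq_toSpecΓ_comp {Y : Scheme.{u}} (g : Y ⟶ Spec (CommRingCat.of A)) :
    g = Y.toSpecΓ ≫ Spec.map (CommRingCat.ofHom (gamma A g)) := by
  have h1 : g = g ≫ (Spec (CommRingCat.of A)).toSpecΓ ≫
      Spec.map (Scheme.ΓSpecIso (CommRingCat.of A)).inv := by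
    rw [toSpecΓ_SpecMap_ΓSpecIso_inv, Category.comp_id]
  rw [Scheme.toSpecΓ_naturality_assoc, ← Spec.map_comp] at h1
  exact h1

theorem gamma_comp_SpecMap {Y : Scheme.{u}} (h : Y ⟶ Spec (CommRingCat.of B)) :
    gamma A (h ≫ Spec.map (CommRingCat.ofHom (algebraMap A B))) =
      (gamma B h).comp (algebraMap A B) := by
  unfold gamma
  rw [Scheme.Hom.comp_appTop, ← Scheme.ΓSpecIso_inv_naturality_assoc]
  rfl

theorem isBlowUp_Spec_map (hinj : Function.Injective (algebraMap A B))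
    (hIB : (Ideal.map (algebraMap A B) I : Set B) ⊆ algebraMap A B '' (I : Set A))
    (f : B) (hf : f ∈ nonZeroDivisors B) (hgen : Ideal.map (algebraMap A B) I = Ideal.span {f}) :
    BlowUp.IsBlowUp (Spec.map (CommRingCat.ofHom (algebraMap A B))) (Curv2.idealSheaf A I) := by
  refine ⟨isEffCartier_comap_SpecMap I f hf hgen, ?_⟩
  intro Y g hk
  have hfI : f ∈ Ideal.map (algebraMap A B) I := hgen ▸ Ideal.mem_span_singleton_self f
  obtain ⟨a₀, ha₀, rfl⟩ := hIB hfI
  have hloc : ∀ y : Y, ∃ V : Y.affineOpens, y ∈ V.1 ∧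
      res V.1 (gamma A g a₀) ∈ nonZeroDivisors Γ(Y, V.1) ∧
      I.map ((res V.1).comp (gamma A g)) = Ideal.span {res V.1 (gamma A g a₀)} := by
    intro y
    obtain ⟨V, hyV, t, ht, hIt⟩ := hk y
    rw [ideal_comap_idealSheaf] at hIt
    exact ⟨V, hyV, map_eq_span_of_map_eq_span hinj I hIB a₀ ha₀ hgen _ t ht hIt⟩
  have hnzd : LocallyNZD (gamma A g a₀) := fun y => by
    obtain ⟨V, hyV, h1, -⟩ := hloc y
    exact ⟨V, hyV, h1⟩
  have hdiv : ∀ a ∈ I, gamma A g a₀ ∣ gamma A g a := by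
    intro a ha
    refine dvd_of_locally_dvd _ _ hnzd (fun y => ?_)
    obtain ⟨V, hyV, -, h2⟩ := hloc y
    refine ⟨V.1, hyV, ?_⟩
    have h3 : (res V.1) (gamma A g a) ∈ Ideal.span {res V.1 (gamma A g a₀)} :=
      h2 ▸ Ideal.mem_map_of_mem ((res V.1).comp (gamma A g)) ha
    exact Ideal.mem_span_singleton.mp h3
  obtain ⟨ψ, hψ, hψuniq⟩ := existsUnique_lift hinj I hIB a₀ hgen (gamma A g)
    (mem_nonZeroDivisors_of_locallyNZD _ hnzd) hdiv
  have huniq : ∀ h : Y ⟶ Spec (CommRingCat.of B),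
      h ≫ Spec.map (CommRingCat.ofHom (algebraMap A B)) = g → gamma B h = ψ := by
    intro h hh
    apply hψuniq
    rw [← gamma_comp_SpecMap, hh]
  refine ⟨Y.toSpecΓ ≫ Spec.map (CommRingCat.ofHom ψ), ?_, ?_⟩
  · change (Y.toSpecΓ ≫ Spec.map (CommRingCat.ofHom ψ)) ≫
      Spec.map (CommRingCat.ofHom (algebraMap A B)) = g
    rw [Category.assoc, ← Spec.map_comp, ← CommRingCat.ofHom_comp, hψ]
    exact (eq_toSpecΓ_comp g).symm
  · intro h' hh'
    change h' ≫ Spec.map (CommRingCat.ofHom (algebraMap A B)) = g at hh'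
    rw [eq_toSpecΓ_comp h', huniq h' hh']

end Groth.Agent.Lib.BlowUpAffine
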