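import Groth.Agent.Lib.BlowUpUniv4

/-!
# Blowing up via its universal property, part 5 (helper24): reducedness, irreducibility

For `b : X ⟶ Y` a blowing up in `𝓘` (universal property only):
* `exists_good`: small affine opens on which the exceptional ideal is generated by a nonzerodivisor
* `inter_preimage_compl_nonempty`: `b ⁻¹ (Y ∖ V(𝓘))` is dense in `X`
* `isReduced_of_isBlowUp`, `irreducibleSpace_of_isBlowUp`, `isIntegral_of_isBlowUp`
-/

set_option autoImplicit false
universe u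
open CategoryTheory CategoryTheory.Limits AlgebraicGeometry TopologicalSpace

namespace Groth.Agent.Lib.BlowUpUniv

open Groth.Agent.Lib.RelCartier

section blowup

variable {X Y : Scheme.{u}} {𝓘 : Y.IdealSheafData} {b : X ⟶ Y}

theorem exists_good (hb : BlowUp.IsBlowUp b 𝓘) (x : X) (U : X.Opens) (hxU : x ∈ U) :
    ∃ (V : X.affineOpens) (t : Γ(X, V.1)), x ∈ V.1 ∧ V.1 ≤ U ∧ t ∈ nonZeroDivisors Γ(X, V.1) ∧
      (𝓘.comap b).ideal V = Ideal.span {t} := by
  obtain ⟨V₀, hxV₀, s, hs, hIs⟩ := hb.1 x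
  have hxW : x ∈ V₀.1 ⊓ U := ⟨hxV₀, hxU⟩
  obtain ⟨_, ⟨V, hV, rfl⟩, hxV, hVW⟩ :=
    X.isBasis_affineOpens.exists_subset_of_mem_open hxW (V₀.1 ⊓ U).2
  have h1 : (⟨V, hV⟩ : X.affineOpens) ≤ V₀ := fun y hy => (hVW hy).1
  obtain ⟨hs₁, hIs₁⟩ := cartier_restrict (𝓘.comap b) h1 s hs hIs
  exact ⟨⟨V, hV⟩, _, hxV, fun y hy => (hVW hy).2, hs₁, hIs₁⟩

theorem basicOpen_nonempty_of_nzd (V : X.affineOpens) (hV : (V.1 : Set X).Nonempty)
    (t : Γ(X, V.1)) (ht : t ∈ nonZeroDivisors Γ(X, V.1)) :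
    ((X.basicOpen t : X.Opens) : Set X).Nonempty := by
  rw [Set.nonempty_iff_ne_empty]
  intro h
  have h1 : X.basicOpen t = ⊥ := by
    ext1
    simpa using h
  rw [← Scheme.isNilpotent_iff_basicOpen_eq_bot_of_isCompact V.2.isCompact] at h1
  obtain ⟨n, hn⟩ := h1
  haveI : Nonempty V.1 := ⟨⟨hV.some, hV.some_mem⟩⟩
  haveI : Nontrivial Γ(X, V.1) := X.component_nontrivial V.1
  have h2 : t ^ n ∈ nonZeroDivisors Γ(X, V.1) := pow_mem ht n
  rw [hn] at h2
  exact zero_notMem_nonZeroDivisors h2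

/-- The preimage of the complement of the centre is dense. -/
theorem inter_preimage_compl_nonempty (hb : BlowUp.IsBlowUp b 𝓘) (U : X.Opens)
    (hU : (U : Set X).Nonempty) :
    ((U ⊓ b ⁻¹ᵁ 𝓘.support.compl : X.Opens) : Set X).Nonempty := by
  obtain ⟨x, hxU⟩ := hU
  obtain ⟨V, t, hxV, hVU, ht, hI⟩ := exists_good hb x U hxU
  obtain ⟨y, hy⟩ := basicOpen_nonempty_of_nzd V ⟨x, hxV⟩ t ht
  exact ⟨y, hVU (X.basicOpen_le t hy), basicOpen_le_preimage_compl V t hI hy⟩

theorem isReduced_of_isBlowUp [IsReduced Y] (hb : BlowUp.IsBlowUp b 𝓘) : IsReduced X := by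
  haveI hiso := isIso_morphismRestrict_compl hb
  haveI hredW : IsReduced (b ⁻¹ᵁ 𝓘.support.compl : Scheme) :=
    isReduced_of_isOpenImmersion (b ∣_ 𝓘.support.compl)
  constructor
  intro U
  constructor
  intro s hs
  refine TopCat.Presheaf.section_ext X.sheaf U s 0 (fun x hx => ?_)
  obtain ⟨V, t, hxV, hVU, ht, hI⟩ := exists_good hb x U hx
  -- restrict to `V`, then to `D(t)`
  set D : X.Opens := X.basicOpen t with hDdef
  have hDV : D ≤ V.1 := X.basicOpen_le t
  have hDW : D ≤ b ⁻¹ᵁ 𝓘.support.compl := basicOpen_le_preimage_compl V t hI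
  haveI : IsReduced (D : Scheme) := isReduced_of_isOpenImmersion (X.homOfLE hDW)
  have hredD : _root_.IsReduced Γ(X, D) :=
    isReduced_of_injective (D.topIso.inv.hom)
      (ConcreteCategory.bijective_of_isIso D.topIso.inv).1
  have hloc : IsLocalization.Away t Γ(X, D) := V.2.isLocalization_basicOpen t
  have hinj1 : Function.Injective (X.presheaf.map (homOfLE hDV).op).hom :=
    IsLocalization.injective (M := Submonoid.powers t) Γ(X, D) (Submonoid.powers_le.mpr ht)
  have h0 : (X.presheaf.map (homOfLE hVU).op).hom s = 0 := by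
    apply hinj1
    rw [map_zero]
    apply hredD.eq_zero
    exact (hs.map _).map _
  change (X.presheaf.germ U x hx).hom s = (X.presheaf.germ U x hx).hom 0
  rw [map_zero, ← X.presheaf.germ_res_apply (homOfLE hVU) x hxV]
  change (X.presheaf.germ V.1 x hxV).hom ((X.presheaf.map (homOfLE hVU).op).hom s) = 0
  rw [h0, map_zero]

theorem irreducibleSpace_of_isBlowUp [IsIntegral Y] (hb : BlowUp.IsBlowUp b 𝓘)
    (hne : ((𝓘.support.compl : Y.Opens) : Set Y).Nonempty) : IrreducibleSpace X := by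
  haveI hiso := isIso_morphismRestrict_compl hb
  set W : Y.Opens := 𝓘.support.compl with hW
  set O : X.Opens := b ⁻¹ᵁ W with hO
  haveI : Nonempty (W : Scheme) := ⟨⟨hne.some, hne.some_mem⟩⟩
  haveI : IsIntegral (W : Scheme) := isIntegral_of_isOpenImmersion W.ι
  haveI : Nonempty (O : Scheme) := ⟨(inv (b ∣_ W)) (Classical.arbitrary _)⟩
  haveI : IsIntegral (O : Scheme) := isIntegral_of_isOpenImmersion (b ∣_ W)
  have hirr : IsIrreducible (Set.range O.ι) := by
    rw [← Set.image_univ]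
    exact (IrreducibleSpace.isIrreducible_univ _).image _ O.ι.continuous.continuousOn
  have hrange : Set.range O.ι = (O : Set X) := Scheme.Opens.range_ι O
  have hdense : closure (O : Set X) = Set.univ := by
    rw [← dense_iff_closure_eq, dense_iff_inter_open]
    intro U hU hUne
    obtain ⟨y, hy1, hy2⟩ := inter_preimage_compl_nonempty hb ⟨U, hU⟩ hUne
    exact ⟨y, hy1, hy2⟩
  have h2 : IsIrreducible (Set.univ : Set X) := by
    rw [← hdense, ← hrange]
    exact hirr.closure
  exact { isPreirreducible_univ := h2.2, toNonempty := ⟨h2.1.some⟩ }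

end blowup

end Groth.Agent.Lib.BlowUpUniv
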