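import Groth.Agent.Lib.AffineBlowupAlg
import Groth.Agent.Lib.BlowUpAffine
import Groth.Agent.Lib.BlowUpUniv5

/-!
# Affine charts of a blowing up of `Spec A` (helper24)

For `b : X' ⟶ Spec A` a blowing up in `I` (universal property only) and `a ∈ I`, the open locus
`chartOpen A I b a` of `X'` where the exceptional ideal is generated by `a` is isomorphic over `Spec A`
to `Spec A[I/a]`; these loci cover `X'`.
-/

set_option autoImplicit false
universe u
open CategoryTheory CategoryTheory.Limits AlgebraicGeometry TopologicalSpace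

namespace Groth.Agent.Lib.AffineBlowupChart

open Groth.Agent.Lib.SectionDiv Groth.Agent.Lib.BlowUpAffine Groth.Agent.Lib.AffineBlowupAlg
open Groth.Agent.Lib.RelCartier Groth.Agent.Lib.BlowUpUniv

variable (A : Type u) [CommRing A] (I : Ideal A)

/-- The ring map `A → Γ(Y, W)` of `g : Y ⟶ Spec A`. -/
noncomputable abbrev rho {Y : Scheme.{u}} (g : Y ⟶ Spec (CommRingCat.of A)) (W : Y.Opens) :
    A →+* Γ(Y, W) := (res W).comp (gamma A g)

/-- `W` is good for `(g, a)`: the inverse image ideal on `W` is generated by the image of `a`. -/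
def IsGood {Y : Scheme.{u}} (g : Y ⟶ Spec (CommRingCat.of A)) (a : A) (W : Y.Opens) : Prop :=
  I.map (rho A g W) = Ideal.span {rho A g W a}

variable {A}

theorem rho_comp {Y X' : Scheme.{u}} (j : Y ⟶ X') (g : X' ⟶ Spec (CommRingCat.of A))
    (V : X'.Opens) (W : Y.Opens) (e : W ≤ j ⁻¹ᵁ V) :
    rho A (j ≫ g) W = (j.appLE V W e).hom.comp (rho A g V) := by
  have h1 : gamma A (j ≫ g) = j.appTop.hom.comp (gamma A g) := by
    unfold gamma
    rw [Scheme.Hom.comp_appTop]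
    rfl
  have h2 : (res W).comp j.appTop.hom = (j.appLE V W e).hom.comp (res V) := by
    have : j.appTop ≫ Y.presheaf.map (homOfLE (le_top : W ≤ ⊤)).op =
        X'.presheaf.map (homOfLE (le_top : V ≤ ⊤)).op ≫ j.appLE V W e := by
      rw [Scheme.Hom.map_appLE]
      rfl
    exact congrArg CommRingCat.Hom.hom this
  unfold rho
  rw [h1, ← RingHom.comp_assoc, h2, RingHom.comp_assoc]

theorem rho_restrict {Y : Scheme.{u}} (g : Y ⟶ Spec (CommRingCat.of A)) {V W : Y.Opens} (h : W ≤ V) :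
    rho A g W = (Y.presheaf.map (homOfLE h).op).hom.comp (rho A g V) := by
  ext x
  simp only [rho, RingHom.comp_apply]
  exact (res_res h _).symm

theorem isGood_of_le {Y X' : Scheme.{u}} (j : Y ⟶ X') (g : X' ⟶ Spec (CommRingCat.of A)) (a : A)
    (V : X'.Opens) (W : Y.Opens) (e : W ≤ j ⁻¹ᵁ V) (hV : IsGood A I g a V) :
    IsGood A I (j ≫ g) a W := by
  unfold IsGood at hV ⊢
  rw [rho_comp j g V W e, ← Ideal.map_map, hV, Ideal.map_span, Set.image_singleton]
  rfl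

theorem isGood_restrict {Y : Scheme.{u}} (g : Y ⟶ Spec (CommRingCat.of A)) (a : A)
    {V W : Y.Opens} (h : W ≤ V) (hV : IsGood A I g a V) : IsGood A I g a W := by
  unfold IsGood at hV ⊢
  rw [rho_restrict g h, ← Ideal.map_map, hV, Ideal.map_span, Set.image_singleton]
  rfl

theorem ideal_eq_map_rho {Y : Scheme.{u}} (g : Y ⟶ Spec (CommRingCat.of A)) (W : Y.affineOpens) :
    ((Curv2.idealSheaf A I).comap g).ideal W = I.map (rho A g W.1) :=
  ideal_comap_idealSheaf A I g W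

/-- If `(g) = (t)` with `t` a nonzerodivisor then `g` is a nonzerodivisor. -/
theorem mem_nonZeroDivisors_of_span_eq {C : Type*} [CommRing C] (g t : C)
    (ht : t ∈ nonZeroDivisors C) (h : Ideal.span {g} = Ideal.span {t}) : g ∈ nonZeroDivisors C := by
  have h1 : t ∈ Ideal.span {g} := h ▸ Ideal.mem_span_singleton_self t
  obtain ⟨v, hv⟩ := Ideal.mem_span_singleton'.mp h1
  rw [mem_nonZeroDivisors_iff_right]
  intro x hx
  apply mem_nonZeroDivisors_iff_right.mp ht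
  rw [← hv, mul_comm v g, ← mul_assoc, hx, zero_mul]

section universal

variable {Y : Scheme.{u}} (g : Y ⟶ Spec (CommRingCat.of A)) (a : A)
  (hcart : BlowUp.IsEffCartierIdeal ((Curv2.idealSheaf A I).comap g))
  (hgood : ∀ y : Y, ∃ W : Y.affineOpens, y ∈ W.1 ∧ IsGood A I g a W.1)

include hcart hgood

/-- Around every point there is a small affine open which is good and on which the image of `a` is a
nonzerodivisor. -/
theorem exists_good_nzd (y : Y) (U : Y.Opens) (hyU : y ∈ U) :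
    ∃ W : Y.affineOpens, y ∈ W.1 ∧ W.1 ≤ U ∧ IsGood A I g a W.1 ∧
      rho A g W.1 a ∈ nonZeroDivisors Γ(Y, W.1) := by
  obtain ⟨W₁, hy₁, hgood₁⟩ := hgood y
  obtain ⟨W₀, hy₀, t, ht, hIt⟩ := hcart y
  have hyW : y ∈ W₁.1 ⊓ W₀.1 ⊓ U := ⟨⟨hy₁, hy₀⟩, hyU⟩
  obtain ⟨_, ⟨W, hW, rfl⟩, hyWW, hWsub⟩ :=
    Y.isBasis_affineOpens.exists_subset_of_mem_open hyW (W₁.1 ⊓ W₀.1 ⊓ U).2
  have h1 : W ≤ W₁.1 := fun z hz => (hWsub hz).1.1
  have h0 : (⟨W, hW⟩ : Y.affineOpens) ≤ W₀ := fun z hz => (hWsub hz).1.2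
  have hU : W ≤ U := fun z hz => (hWsub hz).2
  have hg := isGood_restrict (I := I) g a h1 hgood₁
  obtain ⟨ht', hIt'⟩ := cartier_restrict _ h0 t ht hIt
  refine ⟨⟨W, hW⟩, hyWW, hU, hg, ?_⟩
  rw [ideal_eq_map_rho] at hIt'
  unfold IsGood at hg
  exact mem_nonZeroDivisors_of_span_eq _ _ ht' (hg.symm.trans hIt')

theorem locallyNZD_gamma : LocallyNZD (gamma A g a) := by
  intro y
  obtain ⟨W, hyW, -, -, hnzd⟩ := exists_good_nzd (I := I) g a hcart hgood y ⊤ trivial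
  exact ⟨W, hyW, hnzd⟩

theorem gamma_dvd (x : A) (hx : x ∈ I) : gamma A g a ∣ gamma A g x := by
  refine dvd_of_locally_dvd _ _ (locallyNZD_gamma (I := I) g a hcart hgood) (fun y => ?_)
  obtain ⟨W, hyW, hW⟩ := hgood y
  refine ⟨W.1, hyW, ?_⟩
  have h3 : rho A g W.1 x ∈ Ideal.span {rho A g W.1 a} := hW ▸ Ideal.mem_map_of_mem _ hx
  exact Ideal.mem_span_singleton.mp h3

/-- The universal property of `Spec A[I/a]`. -/
theorem existsUnique_hom :
    ∃! h : Y ⟶ Spec (CommRingCat.of (Bl I a)),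
      h ≫ Spec.map (CommRingCat.ofHom (algebraMap A (Bl I a))) = g := by
  obtain ⟨ψ, hψ, hψuniq⟩ := existsUnique_lift (I := I) (a := a) (gamma A g)
    (mem_nonZeroDivisors_of_locallyNZD _ (locallyNZD_gamma (I := I) g a hcart hgood))
    (gamma_dvd (I := I) g a hcart hgood)
  have huniq : ∀ h : Y ⟶ Spec (CommRingCat.of (Bl I a)),
      h ≫ Spec.map (CommRingCat.ofHom (algebraMap A (Bl I a))) = g → gamma (Bl I a) h = ψ := by
    intro h hh
    apply hψuniq
    rw [← gamma_comp_SpecMap, hh]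
  refine ⟨Y.toSpecΓ ≫ Spec.map (CommRingCat.ofHom ψ), ?_, ?_⟩
  · change (Y.toSpecΓ ≫ Spec.map (CommRingCat.ofHom ψ)) ≫
      Spec.map (CommRingCat.ofHom (algebraMap A (Bl I a))) = g
    rw [Category.assoc, ← Spec.map_comp, ← CommRingCat.ofHom_comp, hψ]
    exact (eq_toSpecΓ_comp g).symm
  · intro h' hh'
    change h' ≫ Spec.map (CommRingCat.ofHom (algebraMap A (Bl I a))) = g at hh'
    rw [eq_toSpecΓ_comp h', huniq h' hh']

end universal

section chart

variable {X' : Scheme.{u}} (b : X' ⟶ Spec (CommRingCat.of A)) (a : A)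

/-- The open locus where the exceptional ideal is generated by `a`. -/
def chartOpen : X'.Opens := ⨆ (V : {V : X'.affineOpens // IsGood A I b a V.1}), V.1.1

variable {b a}

theorem mem_chartOpen_iff {x : X'} :
    x ∈ chartOpen I b a ↔ ∃ V : X'.affineOpens, x ∈ V.1 ∧ IsGood A I b a V.1 := by
  unfold chartOpen
  rw [Opens.mem_iSup]
  constructor
  · rintro ⟨⟨V, hV⟩, hx⟩
    exact ⟨V, hx, hV⟩
  · rintro ⟨V, hx, hV⟩
    exact ⟨⟨V, hV⟩, hx⟩

theorem le_chartOpen (V : X'.affineOpens) (hV : IsGood A I b a V.1) : V.1 ≤ chartOpen I b a :=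
  fun _ hx => (mem_chartOpen_iff I).mpr ⟨V, hx, hV⟩

/-- If `ρ a = u * t` on an affine open `V₀` where the ideal is `(t)`, then `D(u)` is good. -/
theorem isGood_basicOpen (V₀ : X'.affineOpens) (t u : Γ(X', V₀.1))
    (hIt : I.map (rho A b V₀.1) = Ideal.span {t}) (hu : rho A b V₀.1 a = u * t) :
    IsGood A I b a (X'.basicOpen u) := by
  unfold IsGood
  have hle : X'.basicOpen u ≤ V₀.1 := X'.basicOpen_le u
  rw [rho_restrict b hle, ← Ideal.map_map, hIt, Ideal.map_span, Set.image_singleton,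
    RingHom.comp_apply, hu, map_mul]
  have hunit : IsUnit ((X'.presheaf.map (homOfLE hle).op).hom u) :=
    RingedSpace.isUnit_res_basicOpen _ u
  exact (Ideal.span_singleton_mul_left_unit hunit _).symm

/-- A morphism `c : Z ⟶ X'` such that the exceptional ideal pulled back to `Z` is generated by the
nonzerodivisor `a` (locally) factors through the chart of `a`. -/
theorem mem_chartOpen_of_isGood (ha : a ∈ I)
    (hcartb : BlowUp.IsEffCartierIdeal ((Curv2.idealSheaf A I).comap b))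
    {Z : Scheme.{u}} (c : Z ⟶ X')
    (hcart : BlowUp.IsEffCartierIdeal ((Curv2.idealSheaf A I).comap (c ≫ b)))
    (hgood : ∀ z : Z, ∃ W : Z.affineOpens, z ∈ W.1 ∧ IsGood A I (c ≫ b) a W.1) (z : Z) :
    c z ∈ chartOpen I b a := by
  obtain ⟨V₀, hxV₀, t, ht, hIt⟩ := hcartb (c z)
  rw [ideal_eq_map_rho] at hIt
  have hmem : rho A b V₀.1 a ∈ Ideal.span {t} := hIt ▸ Ideal.mem_map_of_mem _ ha
  obtain ⟨u, hu⟩ := Ideal.mem_span_singleton'.mp hmem
  -- a small good affine open of `Z` around `z` inside `c ⁻¹ V₀`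
  obtain ⟨W, hzW, hWV, hWgood, hWnzd⟩ :=
    exists_good_nzd (I := I) (c ≫ b) a hcart hgood z (c ⁻¹ᵁ V₀.1) hxV₀
  set φ := (c.appLE V₀.1 W.1 hWV).hom with hφ
  have hρ : rho A (c ≫ b) W.1 = φ.comp (rho A b V₀.1) := rho_comp c b V₀.1 W.1 hWV
  -- `(φ t) = (φ u * φ t)` and `φ u * φ t` is a nonzerodivisor
  have h1 : Ideal.span {φ t} = Ideal.span {φ u * φ t} := by
    have e1 : I.map (rho A (c ≫ b) W.1) = Ideal.span {φ t} := by
      rw [hρ, ← Ideal.map_map, hIt, Ideal.map_span, Set.image_singleton]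
    have e2 : rho A (c ≫ b) W.1 a = φ u * φ t := by
      rw [hρ, RingHom.comp_apply, ← hu, map_mul]
    unfold IsGood at hWgood
    rw [← e1, hWgood, e2]
  have hnzd : φ u * φ t ∈ nonZeroDivisors Γ(Z, W.1) := by
    have e2 : rho A (c ≫ b) W.1 a = φ u * φ t := by
      rw [hρ, RingHom.comp_apply, ← hu, map_mul]
    rw [← e2]
    exact hWnzd
  have hunit : IsUnit (φ u) := by
    have h2 : φ t ∈ Ideal.span {φ u * φ t} := h1 ▸ Ideal.mem_span_singleton_self _
    obtain ⟨v, hv⟩ := Ideal.mem_span_singleton'.mp h2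
    have h3 : (v * φ u - 1) * (φ u * φ t) = 0 := by
      have : (v * φ u - 1) * (φ u * φ t) = φ u * (v * (φ u * φ t)) - φ u * φ t := by ring
      rw [this, hv, sub_self]
    have h4 := mem_nonZeroDivisors_iff_right.mp hnzd _ h3
    exact IsUnit.of_mul_eq_one v (by rw [mul_comm]; exact sub_eq_zero.mp h4)
  -- hence `c z ∈ D(u)`
  have hzu : c z ∈ X'.basicOpen u := by
    have h5 : Z.basicOpen (φ u) = W.1 := Z.basicOpen_of_isUnit hunit
    have h6 : Z.basicOpen (φ u) ≤ c ⁻¹ᵁ X'.basicOpen u := by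
      rw [Scheme.preimage_basicOpen]
      have : φ u = (Z.presheaf.map (homOfLE hWV).op).hom ((c.app V₀.1).hom u) := rfl
      rw [this, Scheme.basicOpen_res]
      exact inf_le_right
    rw [h5] at h6
    exact h6 hzW
  rw [mem_chartOpen_iff]
  refine ⟨X'.affineBasicOpen u, hzu, ?_⟩
  exact isGood_basicOpen I V₀ t u hIt hu.symm

theorem mem_basicOpen_iff_notMem_primeIdealOf {X : Scheme.{u}} (V : X.affineOpens) (x : X)
    (hx : x ∈ V.1) (f : Γ(X, V.1)) :
    x ∈ X.basicOpen f ↔ f ∉ (V.2.primeIdealOf ⟨x, hx⟩).asIdeal := by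
  have h1 : V.2.primeIdealOf ⟨x, hx⟩ ∈ V.2.fromSpec ⁻¹ᵁ X.basicOpen f ↔ x ∈ X.basicOpen f := by
    change V.2.fromSpec (V.2.primeIdealOf ⟨x, hx⟩) ∈ X.basicOpen f ↔ _
    rw [V.2.fromSpec_primeIdealOf ⟨x, hx⟩]
  rw [← h1, V.2.fromSpec_preimage_basicOpen]
  rfl

/-- The charts cover. -/
theorem exists_mem_chartOpen
    (hcartb : BlowUp.IsEffCartierIdeal ((Curv2.idealSheaf A I).comap b)) (x' : X') :
    ∃ a ∈ I, x' ∈ chartOpen I b a := by
  obtain ⟨V₀, hxV₀, t, ht, hIt⟩ := hcartb x'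
  rw [ideal_eq_map_rho] at hIt
  by_contra hcon
  push Not at hcon
  set 𝔭 := (V₀.2.primeIdealOf ⟨x', hxV₀⟩).asIdeal with h𝔭
  have key : ∀ y ∈ I.map (rho A b V₀.1), ∃ c ∈ 𝔭, y = c * t := by
    intro y hy
    refine Submodule.span_induction (p := fun y _ => ∃ c ∈ 𝔭, y = c * t) ?_ ?_ ?_ ?_ hy
    · rintro _ ⟨a, ha, rfl⟩
      have hmem : rho A b V₀.1 a ∈ Ideal.span {t} := hIt ▸ Ideal.mem_map_of_mem _ ha
      obtain ⟨u, hu⟩ := Ideal.mem_span_singleton'.mp hmem
      refine ⟨u, ?_, hu.symm⟩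
      by_contra hup
      have hxu : x' ∈ X'.basicOpen u :=
        (mem_basicOpen_iff_notMem_primeIdealOf V₀ x' hxV₀ u).mpr hup
      apply hcon a ha
      rw [mem_chartOpen_iff]
      exact ⟨X'.affineBasicOpen u, hxu, isGood_basicOpen I V₀ t u hIt hu.symm⟩
    · exact ⟨0, Ideal.zero_mem _, by simp⟩
    · rintro x y _ _ ⟨c, hc, rfl⟩ ⟨d, hd, rfl⟩
      exact ⟨c + d, Ideal.add_mem _ hc hd, by ring⟩
    · rintro r x _ ⟨c, hc, rfl⟩
      exact ⟨r * c, Ideal.mul_mem_left _ r hc, by simp [mul_assoc]⟩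
  have htm : t ∈ I.map (rho A b V₀.1) := hIt ▸ Ideal.mem_span_singleton_self t
  obtain ⟨c, hc, hct⟩ := key t htm
  have hc1 : c = 1 := by
    have h4 : (c - 1) * t = 0 := by rw [sub_mul, one_mul, ← hct, sub_self]
    exact sub_eq_zero.mp ((mem_nonZeroDivisors_iff_right.mp ht) _ h4)
  rw [hc1] at hc
  exact (V₀.2.primeIdealOf ⟨x', hxV₀⟩).isPrime.ne_top ((Ideal.eq_top_iff_one _).mpr hc)

end chart

/-- Goodness of the whole of `Spec A[I/a]`. -/
theorem isGood_Spec (a : A) (ha : a ∈ I) :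
    IsGood A I (Spec.map (CommRingCat.ofHom (algebraMap A (Bl I a)))) a ⊤ := by
  unfold IsGood rho
  rw [gamma_SpecMap, res_top, RingHom.id_comp, ← Ideal.map_map, map_eq_span I a ha, Ideal.map_span,
    Set.image_singleton]
  rfl

/-- Every point of a blowing up of `Spec A` in `I` has an open neighbourhood isomorphic over `Spec A`
to `Spec A[I/a]` for some `a ∈ I`. -/
theorem exists_chart {X' : Scheme.{u}} (b : X' ⟶ Spec (CommRingCat.of A))
    (hb : BlowUp.IsBlowUp b (Curv2.idealSheaf A I)) (x' : X') :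
    ∃ (a : A) (_ : a ∈ I) (V : X'.Opens)
      (e : (V : Scheme.{u}) ≅ Spec (CommRingCat.of (Bl I a))),
      x' ∈ V ∧ e.hom ≫ Spec.map (CommRingCat.ofHom (algebraMap A (Bl I a))) = V.ι ≫ b := by
  obtain ⟨a, ha, hxO⟩ := exists_mem_chartOpen I hb.1 x'
  set O : X'.Opens := chartOpen I b a with hO
  -- the chart as a scheme over `Spec A`
  have hcartY : BlowUp.IsEffCartierIdeal ((Curv2.idealSheaf A I).comap (O.ι ≫ b)) := by
    rw [Scheme.IdealSheafData.comap_comp]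
    exact isEffCartier_comap_of_flat O.ι _ hb.1
  have hgoodY : ∀ y : (O : Scheme.{u}), ∃ W : (O : Scheme.{u}).affineOpens, y ∈ W.1 ∧
      IsGood A I (O.ι ≫ b) a W.1 := by
    intro y
    obtain ⟨V, hyV, hV⟩ := (mem_chartOpen_iff I).mp y.2
    have hyW : y ∈ O.ι ⁻¹ᵁ V.1 := hyV
    obtain ⟨_, ⟨W, hW, rfl⟩, hyWW, hWsub⟩ :=
      (O : Scheme.{u}).isBasis_affineOpens.exists_subset_of_mem_open hyW (O.ι ⁻¹ᵁ V.1).2
    exact ⟨⟨W, hW⟩, hyWW, isGood_of_le I O.ι b a V.1 W hWsub hV⟩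
  obtain ⟨h, hh, -⟩ := existsUnique_hom (I := I) (O.ι ≫ b) a hcartY hgoodY
  -- the morphism from `Spec A[I/a]`
  set gZ := Spec.map (CommRingCat.ofHom (algebraMap A (Bl I a))) with hgZ
  have hcartZ : BlowUp.IsEffCartierIdeal ((Curv2.idealSheaf A I).comap gZ) :=
    isEffCartier_comap_SpecMap I (algebraMap A (Bl I a) a) (algebraMap_mem_nonZeroDivisors I a)
      (map_eq_span I a ha)
  have hgoodZ : ∀ z : Spec (CommRingCat.of (Bl I a)),
      ∃ W : (Spec (CommRingCat.of (Bl I a))).affineOpens, z ∈ W.1 ∧ IsGood A I gZ a W.1 :=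
    fun z => ⟨⟨⊤, isAffineOpen_top _⟩, trivial, isGood_Spec I a ha⟩
  obtain ⟨c, hc, -⟩ := hb.2 _ gZ hcartZ
  change c ≫ b = gZ at hc
  have hrange : Set.range c ⊆ Set.range O.ι := by
    rintro _ ⟨z, rfl⟩
    rw [Scheme.Opens.range_ι]
    exact mem_chartOpen_of_isGood I ha hb.1 c (hc ▸ hcartZ) (hc ▸ hgoodZ) z
  let c' : Spec (CommRingCat.of (Bl I a)) ⟶ (O : Scheme.{u}) := IsOpenImmersion.lift O.ι c hrange
  have hc' : c' ≫ O.ι = c := IsOpenImmersion.lift_fac _ _ _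
  -- the two composites
  have e1 : c' ≫ h = 𝟙 _ := by
    obtain ⟨k, -, hkuniq⟩ := existsUnique_hom (I := I) gZ a hcartZ hgoodZ
    have h1 : (c' ≫ h) ≫ gZ = gZ := by
      rw [Category.assoc, hh, ← Category.assoc, hc', hc]
    have h2 : 𝟙 _ ≫ gZ = gZ := Category.id_comp _
    rw [hkuniq _ h1, hkuniq _ h2]
  have e2 : h ≫ c' = 𝟙 _ := by
    rw [← cancel_mono O.ι, Category.assoc, hc', Category.id_comp]
    obtain ⟨k, -, hkuniq⟩ := hb.2 _ (O.ι ≫ b) hcartY
    have h1 : (h ≫ c) ≫ b = O.ι ≫ b := by rw [Category.assoc, hc, hh]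
    rw [hkuniq _ h1, hkuniq O.ι rfl]
  exact ⟨a, ha, O, ⟨h, c', e2, e1⟩, hxO, hh⟩

end Groth.Agent.Lib.AffineBlowupChart
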