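/-
helper3: ring homomorphisms out of the degree-zero localisation `Away 𝒜 f` of a graded ring.
* `awayLift 𝒜 f Φ h : Away 𝒜 f →+* B` for `Φ : A →+* B` with `Φ f` a unit: `a / f^n ↦ Φ a / (Φ f)^n`;
  `awayLift_mk_mul`, `awayLift_fromZero`, `awayLift_unique`, `comp_awayLift`, `awayLift_comp_awayMap`,
  `awayLift_eq_of_scaling` (graded rescaling of `Φ` by a unit does not change `awayLift`),
  `hom_ext_mk`.
* `aeval_smul_of_isHomogeneous`: `aeval (u • b) φ = u ^ n * aeval b φ` for `φ` homogeneous of degree `n`.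
-/
import Mathlib

set_option autoImplicit false
open HomogeneousLocalization

namespace Groth.Agent.Lib.AwayLiftH3

section Lift

variable {R A : Type*} [CommRing R] [CommRing A] [Algebra R A] (𝒜 : ℕ → Submodule R A) [GradedAlgebra 𝒜]
variable {B : Type*} [CommRing B]

/-- the ring map `A_(f) → B`, `a / f^n ↦ Φ a / (Φ f)^n`, attached to `Φ : A → B` with `Φ f` invertible -/
noncomputable def awayLift (f : A) (Φ : A →+* B) (h : IsUnit (Φ f)) : Away 𝒜 f →+* B :=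
  (IsLocalization.Away.lift (S := Localization.Away f) f h).comp
    (algebraMap (Away 𝒜 f) (Localization.Away f))

variable {𝒜}

theorem awayLift_mk_mul {f : A} (Φ : A →+* B) (h : IsUnit (Φ f)) {d : ℕ} (hf : f ∈ 𝒜 d) (n : ℕ) (a : A)
    (ha : a ∈ 𝒜 (n • d)) : awayLift 𝒜 f Φ h (Away.mk 𝒜 hf n a ha) * Φ f ^ n = Φ a := by
  have key : (Localization.mk a ⟨f ^ n, by use n⟩ : Localization.Away f) *
      algebraMap A (Localization.Away f) (f ^ n) = algebraMap A (Localization.Away f) a := by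
    rw [Localization.mk_eq_mk']
    exact IsLocalization.mk'_spec (Localization.Away f) a ⟨f ^ n, by use n⟩
  have h2 := congrArg (IsLocalization.Away.lift (S := Localization.Away f) f h) key
  rw [map_mul, IsLocalization.Away.lift_eq, IsLocalization.Away.lift_eq, map_pow] at h2
  exact h2

theorem hom_ext_mk {f : A} {d : ℕ} (hf : f ∈ 𝒜 d) (ψ ψ' : Away 𝒜 f →+* B)
    (h : ∀ (n : ℕ) (a : A) (ha : a ∈ 𝒜 (n • d)), ψ (Away.mk 𝒜 hf n a ha) = ψ' (Away.mk 𝒜 hf n a ha)) :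
    ψ = ψ' := by
  ext z
  obtain ⟨n, a, ha, rfl⟩ := Away.mk_surjective 𝒜 hf z
  exact h n a ha

theorem awayLift_unique {f : A} (Φ : A →+* B) (h : IsUnit (Φ f)) {d : ℕ} (hf : f ∈ 𝒜 d)
    (ψ : Away 𝒜 f →+* B)
    (hψ : ∀ (n : ℕ) (a : A) (ha : a ∈ 𝒜 (n • d)), ψ (Away.mk 𝒜 hf n a ha) * Φ f ^ n = Φ a) :
    ψ = awayLift 𝒜 f Φ h := by
  refine hom_ext_mk hf _ _ (fun n a ha => ?_)
  have h1 := hψ n a ha
  rw [← awayLift_mk_mul Φ h hf n a ha] at h1
  exact (h.pow n).mul_left_injective h1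

theorem awayLift_fromZero {f : A} (Φ : A →+* B) (h : IsUnit (Φ f)) (a : 𝒜 0) :
    awayLift 𝒜 f Φ h (algebraMap (𝒜 0) (Away 𝒜 f) a) = Φ a := by
  unfold awayLift
  rw [RingHom.comp_apply]
  have : algebraMap (Away 𝒜 f) (Localization.Away f) (algebraMap (𝒜 0) (Away 𝒜 f) a) =
      algebraMap A (Localization.Away f) a := by
    rw [HomogeneousLocalization.algebraMap_apply]
    rfl
  rw [this, IsLocalization.Away.lift_eq]

theorem comp_awayLift {C : Type*} [CommRing C] (ρ : B →+* C) {f : A} (Φ : A →+* B) (h : IsUnit (Φ f))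
    {d : ℕ} (hf : f ∈ 𝒜 d) :
    ρ.comp (awayLift 𝒜 f Φ h) = awayLift 𝒜 f (ρ.comp Φ) (h.map ρ) := by
  refine awayLift_unique (ρ.comp Φ) (h.map ρ) hf _ (fun n a ha => ?_)
  simp only [RingHom.comp_apply]
  rw [← map_pow, ← map_mul, awayLift_mk_mul Φ h hf n a ha]

theorem awayLift_comp_awayMap {d e : ℕ} {f g x : A} (hf : f ∈ 𝒜 d) (hg : g ∈ 𝒜 e) (hx : x = f * g)
    (Φ : A →+* B) (hΦ : IsUnit (Φ x)) (hΦf : IsUnit (Φ f)) :
    (awayLift 𝒜 x Φ hΦ).comp (awayMap 𝒜 hg hx) = awayLift 𝒜 f Φ hΦf := by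
  subst hx
  refine awayLift_unique Φ hΦf hf _ (fun n a ha => ?_)
  rw [RingHom.comp_apply, awayMap_mk 𝒜 hg rfl n hf a ha]
  have h1 := awayLift_mk_mul Φ hΦ (SetLike.mul_mem_graded hf hg : f * g ∈ 𝒜 (d + e)) n (a * g ^ n)
    (by rw [smul_add]; exact SetLike.mul_mem_graded ha (SetLike.pow_mem_graded n hg))
  have hg' : IsUnit (Φ g) := by
    rw [map_mul] at hΦ
    exact isUnit_of_mul_isUnit_right hΦ
  apply (hg'.pow n).mul_left_injective
  dsimp only
  rw [mul_assoc, ← mul_pow, ← map_mul, h1, map_mul, map_pow]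

/-- rescaling `Φ` by `u ^ degree` does not change the induced map on `A_(f)` -/
theorem awayLift_eq_of_scaling {f : A} {d : ℕ} (hf : f ∈ 𝒜 d) (Φ Φ' : A →+* B) (u : B)
    (hΦ : ∀ (n : ℕ) (a : A), a ∈ 𝒜 n → Φ a = u ^ n * Φ' a) (h : IsUnit (Φ f)) (h' : IsUnit (Φ' f)) :
    awayLift 𝒜 f Φ h = awayLift 𝒜 f Φ' h' := by
  symm
  refine awayLift_unique Φ h hf _ (fun n a ha => ?_)
  rw [hΦ d f hf, hΦ (n • d) a ha, mul_pow, ← pow_mul, mul_comm (awayLift 𝒜 f Φ' h' _), mul_assoc,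
    mul_comm (Φ' f ^ n), awayLift_mk_mul Φ' h' hf n a ha, smul_eq_mul, mul_comm d n]

end Lift

section Poly

variable {σ R B : Type*} [CommRing R] [CommRing B] [Algebra R B]

theorem aeval_smul_of_isHomogeneous (b : σ → B) (u : B) {φ : MvPolynomial σ R} {n : ℕ}
    (hφ : φ.IsHomogeneous n) :
    MvPolynomial.aeval (fun k => u * b k) φ = u ^ n * MvPolynomial.aeval b φ := by
  rw [MvPolynomial.aeval_def, MvPolynomial.aeval_def, MvPolynomial.eval₂_eq, MvPolynomial.eval₂_eq,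
    Finset.mul_sum]
  refine Finset.sum_congr rfl (fun m hm => ?_)
  have hdeg : ∑ i ∈ m.support, m i = n := (hφ.degree_eq_sum_deg_support hm).symm
  simp only [mul_pow, Finset.prod_mul_distrib, Finset.prod_pow_eq_pow_sum, hdeg]
  ring

theorem eval₂_smul_of_isHomogeneous {C : Type*} [CommRing C] (g : R →+* C) (b : σ → C) (u : C)
    {φ : MvPolynomial σ R} {n : ℕ} (hφ : φ.IsHomogeneous n) :
    MvPolynomial.eval₂ g (fun k => u * b k) φ = u ^ n * MvPolynomial.eval₂ g b φ := by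
  rw [MvPolynomial.eval₂_eq, MvPolynomial.eval₂_eq, Finset.mul_sum]
  refine Finset.sum_congr rfl (fun m hm => ?_)
  have hdeg : ∑ i ∈ m.support, m i = n := (hφ.degree_eq_sum_deg_support hm).symm
  simp only [mul_pow, Finset.prod_mul_distrib, Finset.prod_pow_eq_pow_sum, hdeg]
  ring

end Poly

end Groth.Agent.Lib.AwayLiftH3
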