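import Mathlib
import Groth.Prelude.Def_CohB1
import Groth.Agent.Lib.AwayLiftH3

/-!
# Affine schemes of finite type over `A` are quasi-projective over `A`

For a finite type `A`-algebra `B` generated by `b : Fin n → B` we construct an immersion
`Spec B ⟶ P^n_A` over `Spec A` (closed immersion into the chart `D₊(X₀)` followed by the open
immersion of the chart).  (Lead; a preparation for Chow's lemma, keystone ProperFin.)
-/

set_option autoImplicit false
universe u

open CategoryTheory AlgebraicGeometry CohB1 HomogeneousLocalization MvPolynomial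
open Groth.Agent.Lib.AwayLiftH3

namespace Groth.Agent.Lib.AffineFTImm

variable (A : Type u) {B : Type u} [CommRing A] [CommRing B] [Algebra A B]

theorem X_mem (n : ℕ) (i : Fin (n + 1)) :
    (X i : MvPolynomial (Fin (n + 1)) A) ∈ polyGrading n A 1 :=
  (MvPolynomial.mem_homogeneousSubmodule _ _).mpr (MvPolynomial.isHomogeneous_X A i)

/-- The `A`-algebra map `A[X₀,…,Xₙ] → B`, `X₀ ↦ 1`, `X_{i+1} ↦ b i`. -/
noncomputable def Φ (n : ℕ) (b : Fin n → B) : MvPolynomial (Fin (n + 1)) A →ₐ[A] B :=
  MvPolynomial.aeval (Fin.cons 1 b : Fin (n + 1) → B)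

@[simp] lemma Φ_X_zero (n : ℕ) (b : Fin n → B) : Φ A n b (X 0) = 1 := by
  simp [Φ]

@[simp] lemma Φ_X_succ (n : ℕ) (b : Fin n → B) (i : Fin n) : Φ A n b (X i.succ) = b i := by
  simp [Φ]

lemma isUnit_Φ (n : ℕ) (b : Fin n → B) : IsUnit ((Φ A n b : MvPolynomial (Fin (n + 1)) A →+* B) (X 0)) := by
  simp

/-- The ring map `A[X]_(X₀) → B` of the chart `D₊(X₀)`. -/
noncomputable def chartHom (n : ℕ) (b : Fin n → B) : Away (polyGrading n A) (X 0) →+* B :=
  awayLift (polyGrading n A) (X 0) (Φ A n b : MvPolynomial (Fin (n + 1)) A →+* B) (isUnit_Φ A n b)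

lemma chartHom_mk (n : ℕ) (b : Fin n → B) (k : ℕ) (a : MvPolynomial (Fin (n + 1)) A)
    (ha : a ∈ polyGrading n A (k • 1)) :
    chartHom A n b (Away.mk (polyGrading n A) (X_mem A n 0) k a ha) = Φ A n b a := by
  have := awayLift_mk_mul (𝒜 := polyGrading n A) (Φ A n b : MvPolynomial (Fin (n + 1)) A →+* B)
    (isUnit_Φ A n b) (X_mem A n 0) k a ha
  simpa [chartHom] using this

lemma chartHom_fromZero (n : ℕ) (b : Fin n → B) (a : polyGrading n A 0) :
    chartHom A n b (algebraMap (polyGrading n A 0) (Away (polyGrading n A) (X 0)) a) = Φ A n b a :=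
  awayLift_fromZero (𝒜 := polyGrading n A) _ _ a

lemma chartHom_surjective (n : ℕ) (b : Fin n → B) (hb : Algebra.adjoin A (Set.range b) = ⊤) :
    Function.Surjective (chartHom A n b) := by
  let S : Subalgebra A B :=
    { (chartHom A n b).range with
      algebraMap_mem' := fun a => by
        refine ⟨Away.mk (polyGrading n A) (X_mem A n 0) 0 (C a) ?_, ?_⟩
        · simp only [zero_smul]; exact (MvPolynomial.mem_homogeneousSubmodule _ _).mpr
            (MvPolynomial.isHomogeneous_C (Fin (n + 1)) a)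
        · rw [chartHom_mk]; simp [Φ] }
  have hS : (⊤ : Subalgebra A B) ≤ S := by
    rw [← hb]
    refine Algebra.adjoin_le ?_
    rintro _ ⟨i, rfl⟩
    refine ⟨Away.mk (polyGrading n A) (X_mem A n 0) 1 (X i.succ) ?_, ?_⟩
    · simpa using X_mem A n i.succ
    · rw [chartHom_mk]; simp
  intro y
  exact hS (Algebra.mem_top : y ∈ (⊤ : Subalgebra A B))

/-- The immersion `Spec B ⟶ P^n_A` attached to generators `b` of the `A`-algebra `B`. -/
noncomputable def imm (n : ℕ) (b : Fin n → B) : Spec (CommRingCat.of B) ⟶ Proj (polyGrading n A) :=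
  Spec.map (CommRingCat.ofHom (chartHom A n b)) ≫
    Proj.awayι (polyGrading n A) (X 0) (X_mem A n 0) Nat.one_pos

lemma imm_toSpec (n : ℕ) (b : Fin n → B) :
    imm A n b ≫ (Proj.toSpecZero (polyGrading n A) ≫
      Spec.map (CommRingCat.ofHom (algebraMap A (polyGrading n A 0)))) =
      Spec.map (CommRingCat.ofHom (algebraMap A B)) := by
  unfold imm
  rw [Category.assoc, Proj.awayι_toSpecZero_assoc, ← Spec.map_comp, ← Spec.map_comp]
  congr 1
  ext a
  simp only [CommRingCat.hom_comp, CommRingCat.hom_ofHom, RingHom.coe_comp, Function.comp_apply]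
  erw [chartHom_fromZero]
  simp [Φ]

theorem isImmersion_imm (n : ℕ) (b : Fin n → B) (hb : Algebra.adjoin A (Set.range b) = ⊤) :
    IsImmersion (imm A n b) := by
  have : IsClosedImmersion (Spec.map (CommRingCat.ofHom (chartHom A n b))) :=
    IsClosedImmersion.spec_of_surjective _ (chartHom_surjective A n b hb)
  unfold imm
  infer_instance

/-- **Affine of finite type ⇒ quasi-projective** (ring form). -/
theorem exists_immersion_of_finiteType [Algebra.FiniteType A B] :
    ∃ (n : ℕ) (j : Spec (CommRingCat.of B) ⟶ ProjSpace n A), IsImmersion j ∧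
      j ≫ ProjSpace.toSpec n A = Spec.map (CommRingCat.ofHom (algebraMap A B)) := by
  obtain ⟨s, hs⟩ := (inferInstance : Algebra.FiniteType A B).out
  classical
  let e := s.equivFin
  let b : Fin s.card → B := fun i => (e.symm i : B)
  have hb : Algebra.adjoin A (Set.range b) = ⊤ := by
    rw [← hs]
    congr 1
    ext y
    constructor
    · rintro ⟨i, rfl⟩; exact (e.symm i).2
    · intro hy; exact ⟨e ⟨y, hy⟩, by simp [b]⟩
  exact ⟨s.card, imm A _ b, isImmersion_imm A _ b hb, imm_toSpec A _ b⟩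

/-- **Affine of finite type ⇒ quasi-projective** (scheme form). -/
theorem exists_immersion_of_isAffine {U : Scheme.{u}} [IsAffine U]
    (g : U ⟶ Spec (CommRingCat.of A)) [LocallyOfFiniteType g] :
    ∃ (n : ℕ) (j : U ⟶ ProjSpace n A), IsImmersion j ∧ j ≫ ProjSpace.toSpec n A = g := by
  let φ : CommRingCat.of A ⟶ Γ(U, ⊤) := (Scheme.ΓSpecIso (CommRingCat.of A)).inv ≫ g.appTop
  have hg : g = U.isoSpec.hom ≫ Spec.map φ := by
    rw [← cancel_epi U.isoSpec.inv, Iso.inv_hom_id_assoc]
    simp only [φ, Spec.map_comp]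
    rw [← Scheme.isoSpec_inv_naturality, Scheme.isoSpec_Spec_inv]
  have hφ : φ.hom.FiniteType := by
    have h1 : g.appTop.hom.FiniteType :=
      (HasRingHomProperty.iff_of_isAffine (P := @LocallyOfFiniteType)).mp inferInstance
    have h2 : ((Scheme.ΓSpecIso (CommRingCat.of A)).inv).hom.FiniteType :=
      RingHom.FiniteType.of_surjective _
        (Scheme.ΓSpecIso (CommRingCat.of A)).symm.commRingCatIsoToRingEquiv.surjective
    exact h1.comp h2
  let _ : Algebra A Γ(U, ⊤) := φ.hom.toAlgebra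
  have : Algebra.FiniteType A Γ(U, ⊤) := hφ
  obtain ⟨n, j₀, hj₀, hj₀'⟩ := exists_immersion_of_finiteType A (B := Γ(U, ⊤))
  refine ⟨n, U.isoSpec.hom ≫ j₀, inferInstance, ?_⟩
  rw [Category.assoc, hj₀', hg]
  rfl

end Groth.Agent.Lib.AffineFTImm
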