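import Groth.Agent.Lib.CechEquivariant9
import Groth.Agent.Lib.AffVan
import Groth.Prelude.Def_CohB1

/-!
# Linear Čech-to-derived comparison for quasi-coherent modules on schemes

`Groth.Agent.Lib.CechLinear9` (helper9).  `exists_addEquiv_smul`: for a cover `U` of a scheme `X` with
affine finite intersections and a quasi-coherent `M`, there is `e : Ȟ^p(U, M) ≃+ H^p(X, M)`
(`CohB1.cechH U M p ≃+ Coh.HH X M p`) with `e (cechSmul U M p r x) = r • e x` for all global functions `r`,
where `cechSmul` is induced by multiplication by `r` on the Čech complex (componentwise: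
`CechLES.comp_map_apply` + `Coh.smulAb_app`).  This is the `Γ(X, O_X)`-linear (hence `A`-linear for `X` over
`Spec A`) refinement of `S0013`.
-/

universe u

open CategoryTheory Limits Opposite Abelian AlgebraicGeometry

open Groth.Agent.Lib.CechEquivariant9

namespace Groth.Agent.Lib.CechLinear9

section Scheme

variable {X : Scheme.{u}}

lemma HEquivHUTop_map {T : TopCat.{u}} {F G : CohTop.Ab T} (φ : F ⟶ G) (p : ℕ)
    (y : CohTop.H F p) :
    Groth.Agent.Lib.HBridge.HEquivHUTop G p (Sheaf.H.map φ p y) =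
      (Groth.Agent.Lib.HBridge.HEquivHUTop F p y).comp (Ext.mk₀ φ) (add_zero p) := by
  rw [Groth.Agent.Lib.HBridge.HEquivHUTop_apply, Groth.Agent.Lib.HBridge.HEquivHUTop_apply,
    Sheaf.H.map_apply, Ext.comp_assoc_of_third_deg_zero]

/-- multiplication by global functions, as a monoid action on the underlying abelian sheaf -/
noncomputable def smulAct (M : X.Modules) : Coh.Γtop X →* End (Coh.toAb M) where
  toFun r := Coh.smulAb M r
  map_one' := Coh.smulAb_one M
  map_mul' r s := by
    rw [End.mul_def]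
    exact Coh.smulAb_mul M r s

/-- multiplication by a global function on Čech cohomology -/
noncomputable def cechSmul {ι : Type u} (U : ι → X.Opens) (M : X.Modules) (p : ℕ)
    (r : Coh.Γtop X) : ↑(CohB1.cechH U M p) →+ ↑(CohB1.cechH U M p) :=
  (HomologicalComplex.homologyMap ((cechComplexFunctor U).map (Coh.smulAb M r).hom) p).hom

/-- **Linear Čech-to-derived comparison**: for a cover with affine finite intersections and a
quasi-coherent module, there is an isomorphism between Čech cohomology and sheaf cohomology which is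
compatible with multiplication by global functions. -/
theorem exists_addEquiv_smul {ι : Type u} (U : ι → X.Opens) (hcov : ⨆ i, U i = ⊤)
    (hU : ∀ s : Finset ι, s.Nonempty → IsAffineOpen (⨅ i ∈ s, U i))
    (M : X.Modules) [Coh.IsQCoh M] (p : ℕ) :
    ∃ e : ↑(CohB1.cechH U M p) ≃+ Coh.HH X M p,
      ∀ (r : Coh.Γtop X) (x : ↑(CohB1.cechH U M p)), e (cechSmul U M p r x) = r • e x := by
  classical
  have hacyc : ∀ (n : ℕ) (a : Fin (n + 1) → ι) (q : ℕ),
      Subsingleton (CohTop.HU (Coh.toAb M) (q + 1) (iInf fun k => U (a k))) := by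
    intro n a q
    have hs : (Finset.univ.image a).Nonempty := ⟨a 0, Finset.mem_image_of_mem a (Finset.mem_univ 0)⟩
    have haff := hU _ hs
    have heq : (⨅ i ∈ Finset.univ.image a, U i) = iInf fun k => U (a k) := by
      apply le_antisymm
      · exact le_iInf fun k => iInf₂_le (a k) (Finset.mem_image_of_mem a (Finset.mem_univ k))
      · refine le_iInf₂ fun i hi => ?_
        obtain ⟨k, -, rfl⟩ := Finset.mem_image.1 hi
        exact iInf_le _ k
    rw [heq] at haff
    exact subsingleton_of_forall_eq 0 fun α =>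
      Groth.Agent.Lib.AffVan.HU_eq_zero_of_isAffineOpen M inferInstance q haff α
  have key : ∀ (V : X.Opens) (_ : iSup U = V),
      ∃ e : CohTop.cechH (Coh.toAb M).obj U p ≃+ CohTop.HU (Coh.toAb M) p V,
        ∀ (m : Coh.Γtop X) (x : CohTop.cechH (Coh.toAb M).obj U p),
          e (HomologicalComplex.homologyMap
            ((cechComplexFunctor U).map (smulAct M m : Coh.toAb M ⟶ Coh.toAb M).hom) p x) =
          (e x).comp (Ext.mk₀ (smulAct M m : Coh.toAb M ⟶ Coh.toAb M)) (add_zero p) := by
    rintro V rfl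
    exact exists_equivariant_top (X := X.toTopCat) (Coh.toAb M) U hacyc
      (Coh.Γtop X) (smulAct M) p
  obtain ⟨e, he⟩ := key ⊤ hcov
  let E := Groth.Agent.Lib.HBridge.HEquivHUTop (Coh.toAb M) p
  let e' : ↑(CohB1.cechH U M p) ≃+ Coh.HH X M p := e.trans E.symm
  refine ⟨e', ?_⟩
  intro r x
  have h1 : e' (cechSmul U M p r x) = E.symm (e (cechSmul U M p r x)) := rfl
  have h2 : e' x = E.symm (e x) := rfl
  rw [h1, h2, AddEquiv.symm_apply_eq]
  have h3 : E (r • E.symm (e x)) =
      (E (E.symm (e x))).comp (Ext.mk₀ (Coh.smulAb M r)) (add_zero p) :=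
    HEquivHUTop_map (Coh.smulAb M r) p _
  rw [h3, AddEquiv.apply_symm_apply]
  exact he r x


/-- Version with a module structure on Čech cohomology: there is a `Γ(X, O_X)`-module structure on
`Ȟ^p(U, M)` whose scalar multiplication is `cechSmul`, and a linear isomorphism with `H^p(X, M)`. -/
theorem exists_linearEquiv {ι : Type u} (U : ι → X.Opens) (hcov : ⨆ i, U i = ⊤)
    (hU : ∀ s : Finset ι, s.Nonempty → IsAffineOpen (⨅ i ∈ s, U i))
    (M : X.Modules) [Coh.IsQCoh M] (p : ℕ) :
    ∃ (_ : Module (Coh.Γtop X) ↑(CohB1.cechH U M p))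
      (_ : ↑(CohB1.cechH U M p) ≃ₗ[Coh.Γtop X] Coh.HH X M p),
      ∀ (r : Coh.Γtop X) (x : ↑(CohB1.cechH U M p)), r • x = cechSmul U M p r x := by
  obtain ⟨e, he⟩ := exists_addEquiv_smul U hcov hU M p
  letI : SMul (Coh.Γtop X) ↑(CohB1.cechH U M p) := ⟨fun r x => cechSmul U M p r x⟩
  letI inst : Module (Coh.Γtop X) ↑(CohB1.cechH U M p) :=
    Function.Injective.module (Coh.Γtop X) e.toAddMonoidHom e.injective (fun r x => he r x)
  exact ⟨inst, { e with map_smul' := fun r x => he r x }, fun r x => rfl⟩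

/-- Version over an affine base `Spec A`: compatibility with the `A`-module structure
`Coh.moduleOver` on cohomology. -/
theorem exists_addEquiv_smul_over (A : Type u) [CommRing A] [X.Over (Spec (CommRingCat.of A))]
    {ι : Type u} (U : ι → X.Opens) (hcov : ⨆ i, U i = ⊤)
    (hU : ∀ s : Finset ι, s.Nonempty → IsAffineOpen (⨅ i ∈ s, U i))
    (M : X.Modules) [Coh.IsQCoh M] (p : ℕ) :
    ∃ e : ↑(CohB1.cechH U M p) ≃+ Coh.HH X M p,
      ∀ (a : A) (x : ↑(CohB1.cechH U M p)),
        e (cechSmul U M p (Coh.toGlobal (X ↘ Spec (CommRingCat.of A)) a) x) = a • e x := by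
  obtain ⟨e, he⟩ := exists_addEquiv_smul U hcov hU M p
  exact ⟨e, fun a x => he _ x⟩

/-- Version over an affine base `Spec A` with an `A`-module structure on Čech cohomology. -/
theorem exists_linearEquiv_over (A : Type u) [CommRing A] [X.Over (Spec (CommRingCat.of A))]
    {ι : Type u} (U : ι → X.Opens) (hcov : ⨆ i, U i = ⊤)
    (hU : ∀ s : Finset ι, s.Nonempty → IsAffineOpen (⨅ i ∈ s, U i))
    (M : X.Modules) [Coh.IsQCoh M] (p : ℕ) :
    ∃ (_ : Module A ↑(CohB1.cechH U M p))
      (_ : ↑(CohB1.cechH U M p) ≃ₗ[A] Coh.HH X M p),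
      ∀ (a : A) (x : ↑(CohB1.cechH U M p)),
        a • x = cechSmul U M p (Coh.toGlobal (X ↘ Spec (CommRingCat.of A)) a) x := by
  obtain ⟨e, he⟩ := exists_addEquiv_smul_over A U hcov hU M p
  letI : SMul A ↑(CohB1.cechH U M p) :=
    ⟨fun a x => cechSmul U M p (Coh.toGlobal (X ↘ Spec (CommRingCat.of A)) a) x⟩
  letI inst : Module A ↑(CohB1.cechH U M p) :=
    Function.Injective.module A e.toAddMonoidHom e.injective (fun a x => he a x)
  exact ⟨inst, { e with map_smul' := fun a x => he a x }, fun a x => rfl⟩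

/-- componentwise description of `cechSmul` on cochains -/
lemma comp_smul_apply {ι : Type u} (U : ι → X.Opens) (M : X.Modules) (n : ℕ) (r : Coh.Γtop X)
    (a : Fin (n + 1) → ι) (x : ((cechComplexFunctor U).obj M.presheaf).X n) :
    Groth.Agent.Lib.CechLow.comp U M.presheaf n a
        (((cechComplexFunctor U).map (Coh.smulAb M r).hom).f n x) =
      (Coh.smulAb M r).hom.app (op (∏ᶜ fun k => U (a k)))
        (Groth.Agent.Lib.CechLow.comp U M.presheaf n a x) :=
  Groth.Agent.Lib.CechLES.comp_map_apply U (Coh.smulAb M r).hom n a x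

end Scheme

end Groth.Agent.Lib.CechLinear9
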