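import Groth.Agent.Lib.H90OXModPush
import Mathlib.AlgebraicGeometry.Morphisms.QuasiSeparated

set_option autoImplicit false
universe u

open CategoryTheory CategoryTheory.Limits AlgebraicGeometry TopologicalSpace Opposite
open AlgebraicGeometry.Scheme AlgebraicGeometry.Scheme.Modules

namespace Groth.Agent.Lib.H90OXModQcqs

open Groth.Agent.Lib.QCohStalk Groth.Agent.Lib.AssPush

variable {X : Scheme.{u}}

/-- Sections of a module which agree on an open cover are equal. -/
theorem res_ext (F : X.Modules) {ι : Type*} (U : X.Opens) (V : ι → X.Opens) (hV : ∀ i, V i ≤ U)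
    (hcov : U ≤ ⨆ i, V i) (s t : Γ(F, U)) (h : ∀ i, res F (hV i) s = res F (hV i) t) : s = t :=
  TopCat.Sheaf.eq_of_locally_eq' ⟨F.presheaf, F.isSheaf⟩ V U (fun i => homOfLE (hV i)) hcov s t h

/-- Gluing of sections of a module. -/
theorem exists_glue (F : X.Modules) {ι : Type*} (U : X.Opens) (V : ι → X.Opens)
    (hV : ∀ i, V i ≤ U) (hcov : U ≤ ⨆ i, V i) (sf : ∀ i, Γ(F, V i))
    (hc : ∀ i j, res F (inf_le_left : V i ⊓ V j ≤ V i) (sf i) =
      res F (inf_le_right : V i ⊓ V j ≤ V j) (sf j)) :
    ∃ s : Γ(F, U), ∀ i, res F (hV i) s = sf i := by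
  obtain ⟨s, hs, -⟩ := TopCat.Sheaf.existsUnique_gluing' ⟨F.presheaf, F.isSheaf⟩ V U
    (fun i => homOfLE (hV i)) hcov sf (fun i j => hc i j)
  exact ⟨s, hs⟩

theorem resO_self (X : Scheme.{u}) {U : X.Opens} (a : Γ(X, U)) : resO X (le_refl U) a = a := by
  change X.presheaf.map (𝟙 _) a = a
  rw [X.presheaf.map_id]; rfl

theorem basicOpen_resO {V U : X.Opens} (h : V ≤ U) (f : Γ(X, U)) :
    X.basicOpen (resO X h f) = V ⊓ X.basicOpen f :=
  Scheme.basicOpen_res _ _ _

theorem pow_smul_eq_zero_of_le {R M : Type*} [CommRing R] [AddCommGroup M] [Module R M] (a : R)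
    (x : M) {n N : ℕ} (h : n ≤ N) (hx : a ^ n • x = 0) : a ^ N • x = 0 := by
  obtain ⟨k, rfl⟩ := Nat.exists_eq_add_of_le h
  rw [add_comm, pow_add, mul_smul, hx, smul_zero]

set_option backward.isDefEq.respectTransparency false in
/-- QC LEMMA for modules: if `U` is quasi-compact, `F` quasi-coherent and `s ∈ Γ(F, U)` vanishes on
`D(f)`, then `f ^ n • s = 0` for some `n`. -/
theorem exists_pow_smul_eq_zero_of_isCompact (F : X.Modules) [F.IsQuasicoherent] {U : X.Opens}
    (hU : IsCompact (U : Set X)) (f : Γ(X, U)) (s : Γ(F, U))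
    (hs : res F (X.basicOpen_le f) s = 0) : ∃ n : ℕ, f ^ n • s = 0 := by
  obtain ⟨S, hS, e⟩ := isCompact_iff_finite_and_eq_biUnion_affineOpens.mp hU
  have := hS.to_subtype
  cases nonempty_fintype S
  have e' : U = ⨆ i : S, (i.1 : X.Opens) := by rw [e, iSup_subtype']
  have hle : ∀ i : S, i.1.1 ≤ U := fun i => by rw [e']; exact le_iSup (fun i : S => (i.1 : X.Opens)) i
  have key : ∀ i : S, ∃ n : ℕ, (resO X (hle i) f) ^ n • res F (hle i) s = 0 := by
    intro i
    apply exists_pow_smul_eq_zero F i.1.2 (resO X (hle i) f) (res F (hle i) s)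
    have h1 : X.basicOpen (resO X (hle i) f) ≤ X.basicOpen f := by
      rw [basicOpen_resO]; exact inf_le_right
    rw [res_res]
    have := congrArg (res F h1) hs
    rwa [res_res, res_zero] at this
  choose n hn using key
  refine ⟨Finset.univ.sup n, ?_⟩
  apply res_ext F U (fun i : S => i.1.1) hle e'.le
  intro i
  rw [res_smul, res_zero, resO_pow]
  exact pow_smul_eq_zero_of_le _ _ (Finset.le_sup (Finset.mem_univ i)) (hn i)

theorem res_sub (F : X.Modules) {V U : X.Opens} (h : V ≤ U) (a b : Γ(F, U)) :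
    res F h (a - b) = res F h a - res F h b :=
  map_sub (F.presheaf.map (homOfLE h).op).hom a b

set_option backward.isDefEq.respectTransparency false in
/-- QCQS LEMMA for modules (surjectivity part): if `U` is quasi-compact and quasi-separated, `F`
quasi-coherent and `t ∈ Γ(F, D(f))`, then `f ^ n • t` extends to `U` for some `n`. -/
theorem exists_pow_smul_eq_res_of_qcqs (F : X.Modules) [F.IsQuasicoherent] {U : X.Opens}
    (hU : IsCompact (U : Set X)) (hU' : IsQuasiSeparated (U : Set X)) (f : Γ(X, U))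
    (t : Γ(F, X.basicOpen f)) :
    ∃ (n : ℕ) (s : Γ(F, U)),
      (resO X (X.basicOpen_le f) f) ^ n • t = res F (X.basicOpen_le f) s := by
  obtain ⟨S, hS, e⟩ := isCompact_iff_finite_and_eq_biUnion_affineOpens.mp hU
  have := hS.to_subtype
  cases nonempty_fintype S
  have e' : U = ⨆ i : S, (i.1 : X.Opens) := by rw [e, iSup_subtype']
  have hle : ∀ i : S, i.1.1 ≤ U := fun i => by
    rw [e']; exact le_iSup (fun i : S => (i.1 : X.Opens)) i
  let V : S → X.Opens := fun i => i.1.1
  let fV : ∀ i : S, Γ(X, V i) := fun i => resO X (hle i) f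
  have hD : ∀ i, X.basicOpen (fV i) ≤ X.basicOpen f := fun i => by
    rw [basicOpen_resO]; exact inf_le_right
  have hD' : ∀ i, X.basicOpen (fV i) ≤ V i := fun i => X.basicOpen_le _
  -- step 1: extend on each affine piece
  have h1 : ∀ i : S, ∃ (n : ℕ) (si : Γ(F, V i)),
      (resO X (hD' i) (fV i)) ^ n • res F (hD i) t = res F (hD' i) si :=
    fun i => exists_pow_smul_eq_res F i.1.2 (fV i) (res F (hD i) t)
  choose n0 s0 h0 using h1
  let N := Finset.univ.sup n0
  let s1 : ∀ i, Γ(F, V i) := fun i => (fV i) ^ (N - n0 i) • s0 i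
  have hs1 : ∀ i, (resO X (hD' i) (fV i)) ^ N • res F (hD i) t = res F (hD' i) (s1 i) := by
    intro i
    have hN : N = (N - n0 i) + n0 i :=
      (Nat.sub_add_cancel (Finset.le_sup (Finset.mem_univ i))).symm
    rw [res_smul, resO_pow, ← h0 i, ← mul_smul, ← pow_add, ← hN]
  clear_value s1
  -- (★) restriction of `s1 i` to any open inside `D(f|V i)`
  have star : ∀ (i : S) (D' : X.Opens) (h : D' ≤ X.basicOpen (fV i)),
      res F (h.trans (hD' i)) (s1 i) =
        (resO X ((h.trans (hD' i)).trans (hle i)) f) ^ N • res F (h.trans (hD i)) t := by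
    intro i D' h
    rw [← res_res F h (hD' i), ← hs1 i, res_smul, resO_pow, resO_resO, resO_resO, res_res]
  -- step 2: overlaps
  have h2 : ∀ i j : S, ∃ m : ℕ,
      (resO X ((inf_le_left : V i ⊓ V j ≤ V i).trans (hle i)) f) ^ m •
        (res F (inf_le_left : V i ⊓ V j ≤ V i) (s1 i) -
          res F (inf_le_right : V i ⊓ V j ≤ V j) (s1 j)) = 0 := by
    intro i j
    have hW : IsCompact ((V i ⊓ V j : X.Opens) : Set X) :=
      hU' _ _ (hle i) (V i).2 i.1.2.isCompact (hle j) (V j).2 j.1.2.isCompact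
    apply exists_pow_smul_eq_zero_of_isCompact F hW
    have hWi : X.basicOpen (resO X ((inf_le_left : V i ⊓ V j ≤ V i).trans (hle i)) f) ≤
        X.basicOpen (fV i) := by
      rw [basicOpen_resO, basicOpen_resO]
      exact le_inf (inf_le_left.trans inf_le_left) inf_le_right
    have hWj : X.basicOpen (resO X ((inf_le_left : V i ⊓ V j ≤ V i).trans (hle i)) f) ≤
        X.basicOpen (fV j) := by
      rw [basicOpen_resO, basicOpen_resO]
      exact le_inf (inf_le_left.trans inf_le_right) inf_le_right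
    rw [res_sub, res_res, res_res, sub_eq_zero]
    exact (star i _ hWi).trans (star j _ hWj).symm
  choose m hm using h2
  let M := Finset.univ.sup fun i : S => Finset.univ.sup fun j : S => m i j
  have hM : ∀ i j, m i j ≤ M := fun i j =>
    (Finset.le_sup (f := fun j : S => m i j) (Finset.mem_univ j)).trans
      (Finset.le_sup (f := fun i : S => Finset.univ.sup fun j : S => m i j) (Finset.mem_univ i))
  let s2 : ∀ i, Γ(F, V i) := fun i => (fV i) ^ M • s1 i
  have hs2 : ∀ (i : S) (W : X.Opens) (h : W ≤ V i),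
      res F h (s2 i) = (resO X (h.trans (hle i)) f) ^ M • res F h (s1 i) := by
    intro i W h
    rw [res_smul, resO_pow, resO_resO]
  clear_value s2
  -- step 3: glue
  obtain ⟨s, hs⟩ := exists_glue F U V hle e'.le s2 (by
    intro i j
    have := pow_smul_eq_zero_of_le _ _ (hM i j) (hm i j)
    rw [smul_sub, sub_eq_zero] at this
    rw [hs2, hs2]
    exact this)
  refine ⟨N + M, s, ?_⟩
  -- step 4: check on the cover `D(f|V i)` of `D(f)`
  have hcov : X.basicOpen f ≤ ⨆ i : S, X.basicOpen (fV i) := by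
    have h3 : ∀ i : S, X.basicOpen (fV i) = V i ⊓ X.basicOpen f := fun i => basicOpen_resO _ _
    simp only [h3]
    rw [← iSup_inf_eq]
    exact le_inf ((X.basicOpen_le f).trans e'.le) le_rfl
  apply res_ext F _ (fun i : S => X.basicOpen (fV i)) hD hcov
  intro i
  rw [res_smul, resO_pow, resO_resO, res_res, ← res_res F (hD' i) (hle i), hs i, hs2,
    ← hs1 i, resO_resO, ← mul_smul, ← pow_add, add_comm]

/-- A quasi-coherent module is localizing on every quasi-compact quasi-separated open. -/
theorem isLocalizingOn_of_qcqs (F : X.Modules) [F.IsQuasicoherent] {U : X.Opens}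
    (hU : IsCompact (U : Set X)) (hU' : IsQuasiSeparated (U : Set X)) : IsLocalizingOn F U :=
  ⟨fun f t => exists_pow_smul_eq_res_of_qcqs F hU hU' f t,
    fun f s hs => exists_pow_smul_eq_zero_of_isCompact F hU f s hs⟩

variable {S : Scheme.{u}}

set_option backward.isDefEq.respectTransparency false in
/-- If `F` is localizing on `f⁻¹V` then `f_*F` is localizing on `V`. -/
theorem isLocalizingOn_pushforward' (f : X ⟶ S) (F : X.Modules) (V : S.Opens)
    (hW : IsLocalizingOn F (f ⁻¹ᵁ V)) :
    IsLocalizingOn ((Scheme.Modules.pushforward f).obj F) V := by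
  constructor
  · intro g t
    have hD : f ⁻¹ᵁ (S.basicOpen g) = X.basicOpen (f.app V g) := Scheme.preimage_basicOpen f g
    obtain ⟨n, s, hs⟩ := hW.surj (f.app V g) (res F hD.ge t)
    refine ⟨n, s, ?_⟩
    apply res_injective_of_eq F hD.symm
    change res F hD.ge ((f.app (S.basicOpen g) (resO S (S.basicOpen_le g) g ^ n)) •
      (show Γ(F, f ⁻¹ᵁ S.basicOpen g) from t)) =
      res F hD.ge (res F (f.preimage_mono (S.basicOpen_le g)) s)
    rw [res_smul, res_res, map_pow, app_resO, ← resO_pow, resO_resO, resO_pow]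
    exact hs
  · intro g s hs
    have hD : f ⁻¹ᵁ (S.basicOpen g) = X.basicOpen (f.app V g) := Scheme.preimage_basicOpen f g
    have hs' : res F (X.basicOpen_le (f.app V g)) s = 0 := by
      have h1 : res F (f.preimage_mono (S.basicOpen_le g)) s = 0 := hs
      have h2 : res F hD.ge (res F (f.preimage_mono (S.basicOpen_le g)) s) = 0 := by
        rw [h1, res_zero]
      rw [res_res] at h2
      exact h2
    obtain ⟨n, hn⟩ := hW.inj (f.app V g) s hs'
    refine ⟨n, ?_⟩
    change (f.app V (g ^ n)) • (show Γ(F, f ⁻¹ᵁ V) from s) = 0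
    rw [map_pow]
    exact hn

/-- PUSHFORWARD ALONG A QUASI-COMPACT QUASI-SEPARATED MORPHISM PRESERVES QUASI-COHERENCE. -/
theorem isQuasicoherent_pushforward_of_qcqs (f : X ⟶ S) [QuasiCompact f] [QuasiSeparated f]
    (F : X.Modules) [F.IsQuasicoherent] :
    ((Scheme.Modules.pushforward f).obj F).IsQuasicoherent :=
  (Groth.Agent.Lib.H90OXModPush.isQuasicoherent_iff_forall_isLocalizingOn _).mpr fun U =>
    isLocalizingOn_pushforward' f F U.1 (isLocalizingOn_of_qcqs F
      (QuasiCompact.isCompact_preimage (f := f) U.1 U.1.2 U.2.isCompact)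
      (Scheme.Hom.isQuasiSeparated_preimage f U.2.isQuasiSeparated))

end Groth.Agent.Lib.H90OXModQcqs
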