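/-
Groth.Agent.Lib.ExtAdjunction (helper49)

Abstract "degenerate Grothendieck spectral sequence": for an adjunction `L ⊣ G` between abelian
categories with `L` preserving monomorphisms and `G` additive, and `F` a `G`-acyclic object
(`R^{q+1} G F = 0` for all `q`), one has `Ext^p(L A, F) ≃+ Ext^p(A, G F)` for all `p`
(`nonempty_extAddEquiv`).  Key intermediate: `pushRes` (the image under `G` of an injective
resolution of a `G`-acyclic object is an injective resolution of `G F`).
-/
import Mathlib.CategoryTheory.Abelian.RightDerived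
import Mathlib.CategoryTheory.Abelian.Injective.Ext
import Mathlib.CategoryTheory.Adjunction.Additive
import Mathlib.Algebra.Homology.ShortComplex.QuasiIso
import Mathlib.CategoryTheory.Limits.Preserves.Shapes.Kernels

set_option autoImplicit false
set_option linter.unusedSectionVars false
universe w v v' u u'

namespace Groth.Agent.Lib.ExtAdjunction

open CategoryTheory CategoryTheory.Limits

variable {C : Type u} [Category.{v} C] [Abelian C] [HasInjectiveResolutions C]
  {D : Type u'} [Category.{v'} D] [Abelian D]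
  {L : D ⥤ C} {G : C ⥤ D} (adj : L ⊣ G) [G.Additive] [L.PreservesMonomorphisms]

section

variable {F : C} (R : InjectiveResolution F)

/-- the map from the single complex -/
noncomputable def pushι (G : C ⥤ D) [G.Additive] :
    (CochainComplex.single₀ D).obj (G.obj F) ⟶ (G.mapHomologicalComplex _).obj R.cocomplex :=
  (CochainComplex.fromSingle₀Equiv _ _).symm ⟨G.map (R.ι.f 0), by
    change G.map (R.ι.f 0) ≫ G.map (R.cocomplex.d 0 1) = 0
    rw [← G.map_comp, R.ι_f_zero_comp_complex_d, G.map_zero]⟩

omit [HasInjectiveResolutions C] in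
lemma pushι_f_zero : (pushι R G).f 0 = G.map (R.ι.f 0) :=
  CochainComplex.fromSingle₀Equiv_symm_apply_f_zero _ _

omit [HasInjectiveResolutions C] [L.PreservesMonomorphisms] in
include adj in
lemma quasiIsoAt_zero : QuasiIsoAt (pushι R G) 0 := by
  have : PreservesLimits G := adj.rightAdjoint_preservesLimits
  rw [CochainComplex.quasiIsoAt₀_iff]
  let K := (CochainComplex.single₀ D).obj (G.obj F)
  let M := (G.mapHomologicalComplex (ComplexShape.up ℕ)).obj R.cocomplex
  have hf₁ : (K.sc' 0 0 1).f = 0 := K.shape 0 0 (by simp)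
  have hg₁ : (K.sc' 0 0 1).g = 0 := rfl
  have hf₂ : (M.sc' 0 0 1).f = 0 := M.shape 0 0 (by simp)
  rw [ShortComplex.quasiIso_iff_isIso_liftCycles _ hf₁ hg₁ hf₂]
  let S₂ := M.sc' 0 0 1
  have hker : IsLimit (KernelFork.ofι (G.map (R.ι.f 0)) (by
      rw [← G.map_comp, R.ι_f_zero_comp_complex_d, G.map_zero]) :
        KernelFork (G.map (R.cocomplex.d 0 1))) :=
    KernelFork.mapIsLimit _ R.isLimitKernelFork G
  let e : G.obj F ≅ S₂.cycles := IsLimit.conePointUniqueUpToIso hker S₂.cyclesIsKernel
  have he : e.hom ≫ S₂.iCycles = G.map (R.ι.f 0) :=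
    IsLimit.conePointUniqueUpToIso_hom_comp hker S₂.cyclesIsKernel WalkingParallelPair.zero
  have gen : ∀ (k : G.obj F ⟶ S₂.X₂) (hk : k ≫ S₂.g = 0), k = G.map (R.ι.f 0) →
      IsIso (S₂.liftCycles k hk) := by
    rintro k hk rfl
    have hl : S₂.liftCycles _ hk = e.hom := by
      rw [← cancel_mono S₂.iCycles, ShortComplex.liftCycles_i]
      exact he.symm
    rw [hl]
    infer_instance
  exact gen _ _ (pushι_f_zero (G := G) R)

omit [L.PreservesMonomorphisms] in
lemma quasiIsoAt_succ (h : ∀ q : ℕ, IsZero ((G.rightDerived (q + 1)).obj F)) (q : ℕ) :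
    QuasiIsoAt (pushι R G) (q + 1) := by
  rw [quasiIsoAt_iff_exactAt _ _ (CochainComplex.exactAt_succ_single_obj _ _)]
  rw [HomologicalComplex.exactAt_iff_isZero_homology]
  exact IsZero.of_iso (h q) (R.isoRightDerivedObj G (q + 1)).symm

/-- The image of an injective resolution of an acyclic object under a right adjoint
(whose left adjoint preserves monomorphisms) is an injective resolution. -/
noncomputable def pushRes (h : ∀ q : ℕ, IsZero ((G.rightDerived (q + 1)).obj F)) :
    InjectiveResolution (G.obj F) where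
  cocomplex := (G.mapHomologicalComplex _).obj R.cocomplex
  injective n := Injective.injective_of_adjoint adj (R.cocomplex.X n)
  ι := pushι R G
  quasiIso := ⟨fun i => by
    cases i with
    | zero => exact quasiIsoAt_zero adj R
    | succ q => exact quasiIsoAt_succ R h q⟩

end

section Groups

/-- Two groups which are quotients of isomorphic groups by corresponding subgroups are
isomorphic. -/
noncomputable def addEquivOfSurjective {Z Z' E E' : Type*} [AddCommGroup Z] [AddCommGroup Z']
    [AddCommGroup E] [AddCommGroup E'] (π : Z →+ E) (π' : Z' →+ E')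
    (hπ : Function.Surjective π) (hπ' : Function.Surjective π') (φ : Z ≃+ Z')
    (h : ∀ z, π z = 0 ↔ π' (φ z) = 0) : E ≃+ E' :=
  (QuotientAddGroup.quotientKerEquivOfSurjective π hπ).symm.trans
    ((QuotientAddGroup.congr π.ker π'.ker φ (by
      ext z'
      simp only [AddSubgroup.mem_map, AddMonoidHom.mem_ker]
      constructor
      · rintro ⟨z, hz, rfl⟩
        exact (h z).1 hz
      · intro hz'
        refine ⟨φ.symm z', (h _).2 ?_, ?_⟩
        · simpa using hz'
        · simp)).trans
      (QuotientAddGroup.quotientKerEquivOfSurjective π' hπ'))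

end Groups

section Ext

open Abelian

variable [HasExt.{w} C] [HasExt.{w} D]

/-- cocycles in degree `n + 1` -/
def Zc {F : C} (R : InjectiveResolution F) (A' : C) (n : ℕ) :
    AddSubgroup (A' ⟶ R.cocomplex.X (n + 1)) :=
  (Preadditive.rightComp A' (R.cocomplex.d (n + 1) (n + 2))).ker

omit [HasInjectiveResolutions C] [HasExt.{w} C] in
lemma mem_Zc {F : C} (R : InjectiveResolution F) (A' : C) (n : ℕ)
    (a : A' ⟶ R.cocomplex.X (n + 1)) :
    a ∈ Zc R A' n ↔ a ≫ R.cocomplex.d (n + 1) (n + 2) = 0 := Iff.rfl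

/-- the class of a cocycle -/
noncomputable def πc {F : C} (R : InjectiveResolution F) (A' : C) (n : ℕ) :
    Zc R A' n →+ Ext A' F (n + 1) where
  toFun a := R.extMk a.1 (n + 2) rfl a.2
  map_zero' := R.extMk_zero _ rfl
  map_add' a b := (R.add_extMk a.1 b.1 (n + 2) rfl a.2 b.2).symm

omit [HasInjectiveResolutions C] in
lemma πc_surjective {F : C} (R : InjectiveResolution F) (A' : C) (n : ℕ) :
    Function.Surjective (πc R A' n) := by
  intro α
  obtain ⟨f, hf, rfl⟩ := R.extMk_surjective α (n + 2) rfl
  exact ⟨⟨f, hf⟩, rfl⟩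

omit [HasInjectiveResolutions C] in
lemma πc_eq_zero_iff {F : C} (R : InjectiveResolution F) (A' : C) (n : ℕ) (a : Zc R A' n) :
    πc R A' n a = 0 ↔ ∃ g : A' ⟶ R.cocomplex.X n, g ≫ R.cocomplex.d n (n + 1) = a.1 :=
  R.extMk_eq_zero_iff a.1 (n + 2) rfl a.2 n rfl

end Ext

section ExtIso

open Abelian

variable [HasExt.{w} C] [HasExt.{w} D]
variable {F : C} (R : InjectiveResolution F)
  (h : ∀ q : ℕ, IsZero ((G.rightDerived (q + 1)).obj F)) (A : D)

omit [HasInjectiveResolutions C] [L.PreservesMonomorphisms] [HasExt.{w} C] in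
include adj in
lemma homEquiv_comp_d (m m' : ℕ) (a : L.obj A ⟶ R.cocomplex.X m) :
    adj.homEquiv A _ (a ≫ R.cocomplex.d m m') =
      adj.homEquiv A _ a ≫ G.map (R.cocomplex.d m m') :=
  adj.homEquiv_naturality_right a _

/-- cocycles correspond under the adjunction -/
noncomputable def zcEquiv (n : ℕ) : Zc R (L.obj A) n ≃+ Zc (pushRes adj R h) A n :=
  have : L.Additive := adj.left_adjoint_additive
  { toFun := fun a => ⟨adj.homAddEquiv A _ a.1, by
      rw [mem_Zc]
      change adj.homEquiv A _ a.1 ≫ G.map (R.cocomplex.d (n + 1) (n + 2)) = 0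
      rw [← homEquiv_comp_d adj R A, (mem_Zc R _ n a.1).1 a.2]
      exact adj.homAddEquiv_zero _ _⟩
    invFun := fun b => ⟨(adj.homAddEquiv A _).symm b.1, by
      rw [mem_Zc]
      apply (adj.homEquiv A _).injective
      rw [homEquiv_comp_d adj R A]
      have hb : b.1 ≫ G.map (R.cocomplex.d (n + 1) (n + 2)) = 0 := b.2
      rw [adj.homAddEquiv_zero]
      rw [← hb]
      congr 1
      exact (adj.homEquiv A _).apply_symm_apply b.1⟩
    left_inv := fun a => Subtype.ext ((adj.homAddEquiv A _).symm_apply_apply a.1)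
    right_inv := fun b => Subtype.ext ((adj.homAddEquiv A _).apply_symm_apply b.1)
    map_add' := fun a b => Subtype.ext ((adj.homAddEquiv A _).map_add a.1 b.1) }

lemma zcEquiv_coe (n : ℕ) (a : Zc R (L.obj A) n) :
    (zcEquiv adj R h A n a).1 = adj.homEquiv A _ a.1 := rfl

/-- `Ext^{n+1}(L A, F) ≃ Ext^{n+1}(A, G F)` when `F` is `G`-acyclic. -/
noncomputable def extAddEquivSucc (n : ℕ) :
    Ext.{w} (L.obj A) F (n + 1) ≃+ Ext.{w} A (G.obj F) (n + 1) :=
  addEquivOfSurjective (πc R (L.obj A) n) (πc (pushRes adj R h) A n)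
    (πc_surjective R _ n) (πc_surjective _ _ n) (zcEquiv adj R h A n) (by
      intro a
      rw [πc_eq_zero_iff, πc_eq_zero_iff]
      constructor
      · rintro ⟨g, hg⟩
        refine ⟨adj.homEquiv A _ g, ?_⟩
        rw [zcEquiv_coe, ← hg]
        exact (homEquiv_comp_d adj R A n (n + 1) g).symm
      · rintro ⟨g, hg⟩
        refine ⟨(adj.homEquiv A _).symm g, ?_⟩
        apply (adj.homEquiv A _).injective
        rw [homEquiv_comp_d adj R A, Equiv.apply_symm_apply]
        rw [zcEquiv_coe] at hg
        exact hg)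

/-- `Ext^0(L A, F) ≃ Ext^0(A, G F)`. -/
noncomputable def extAddEquivZero :
    Ext.{w} (L.obj A) F 0 ≃+ Ext.{w} A (G.obj F) 0 :=
  have : L.Additive := adj.left_adjoint_additive
  Ext.addEquiv₀.trans ((adj.homAddEquiv A F).trans Ext.addEquiv₀.symm)

include adj in
/-- If `L ⊣ G` with `L` preserving monomorphisms and `F` is `G`-acyclic, then
`Ext^p(L A, F) ≃ Ext^p(A, G F)` for all `p`. -/
theorem nonempty_extAddEquiv (F : C) (h : ∀ q : ℕ, IsZero ((G.rightDerived (q + 1)).obj F))
    (A : D) (p : ℕ) :
    Nonempty (Ext.{w} (L.obj A) F p ≃+ Ext.{w} A (G.obj F) p) := by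
  cases p with
  | zero => exact ⟨extAddEquivZero adj A⟩
  | succ n =>
    let I : InjectiveResolution F := Classical.choice (HasInjectiveResolution.out)
    exact ⟨extAddEquivSucc adj I h A n⟩

end ExtIso

end Groth.Agent.Lib.ExtAdjunction
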