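/-
Groth.Agent.Lib.OpenShriek (helper49)

Extension by zero `j_!` for abelian sheaves along an open `U ⊆ X` of a topological space:
* `shriek U : CohTop.Ab (TopCat.of U) ⥤ CohTop.Ab X`, `shriekAdj U : shriek U ⊣ CohTop.restrFunctor U`;
* `shriek U` is additive and EXACT (`PreservesFiniteLimits`, `PreservesFiniteColimits`,
  `PreservesMonomorphisms`), via the pointwise formula for the left Kan extension along
  `Opens U ⥤ Opens X` (index category empty or with a terminal object);
* `injective_restr`: restriction to an open preserves injectives;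
* `pullIsoRestr : CohTop.pull (ι U) ≅ CohTop.restrFunctor U`, and `restrFunctor U` is exact
  (instances `PreservesFiniteLimits`, `PreservesFiniteColimits`, `IsLeftAdjoint`, `IsRightAdjoint`).
General lemmas on `Functor.lan`: `lanCocone`, `lanCocone_ι_map`, `mono_lan_map_app_of_isTerminal`,
`isInitialLanObjOfIsEmpty`.
-/
import Groth.Prelude.Def_CohTop
import Mathlib.Topology.Sheaves.Functors
import Mathlib.CategoryTheory.Sites.Pullback
import Mathlib.CategoryTheory.Functor.KanExtension.Adjunction
import Mathlib.CategoryTheory.Functor.KanExtension.Pointwise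
import Mathlib.CategoryTheory.Limits.Shapes.IsTerminal
import Mathlib.CategoryTheory.Limits.FunctorCategory.EpiMono
import Mathlib.CategoryTheory.Sites.LeftExact
import Mathlib.CategoryTheory.Sites.Abelian
import Mathlib.Algebra.Category.Grp.Abelian
import Mathlib.Algebra.Homology.ShortComplex.ExactFunctor
import Mathlib.CategoryTheory.Adjunction.Additive
import Mathlib.CategoryTheory.Preadditive.Injective.Preserves

set_option autoImplicit false
universe v₁ v₂ v₃ u₁ u₂ u₃ u

namespace Groth.Agent.Lib.OpenShriek

open CategoryTheory CategoryTheory.Limits TopologicalSpace Opposite CategoryTheory.Functor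

section Lan

variable {C : Type u₁} [Category.{v₁} C] {D : Type u₂} [Category.{v₂} D]
  {H : Type u₃} [Category.{v₃} H] (L : C ⥤ D)
  [∀ F : C ⥤ H, HasPointwiseLeftKanExtension L F]

/-- the colimit cocone computing `(L.lan.obj P).obj X` -/
noncomputable def lanCocone (P : C ⥤ H) (X : D) : Cocone (CostructuredArrow.proj L X ⋙ P) :=
  (LeftExtension.mk _ (L.leftKanExtensionUnit P)).coconeAt X

noncomputable def lanCoconeIsColimit (P : C ⥤ H) (X : D) : IsColimit (lanCocone L P X) :=
  isPointwiseLeftKanExtensionLeftKanExtensionUnit L P X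

lemma lanCocone_ι_map {P Q : C ⥤ H} (φ : P ⟶ Q) (X : D) (f : CostructuredArrow L X) :
    (lanCocone L P X).ι.app f ≫ (L.lan.map φ).app X =
      φ.app f.left ≫ (lanCocone L Q X).ι.app f := by
  have h1 := congrArg (fun α => α.app f.left) (L.lanUnit.naturality φ)
  dsimp at h1
  change ((L.lanUnit.app P).app f.left ≫ (L.lan.obj P).map f.hom) ≫ (L.lan.map φ).app X =
    φ.app f.left ≫ ((L.lanUnit.app Q).app f.left ≫ (L.lan.obj Q).map f.hom)
  rw [Category.assoc, (L.lan.map φ).naturality f.hom, ← Category.assoc, ← h1, Category.assoc]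

/-- If the index category of the pointwise formula at `X` has a terminal object, then
`L.lan` preserves componentwise monomorphisms at `X`. -/
lemma mono_lan_map_app_of_isTerminal {P Q : C ⥤ H} (φ : P ⟶ Q) (X : D)
    (T : CostructuredArrow L X) (hT : IsTerminal T) [Mono (φ.app T.left)] :
    Mono ((L.lan.map φ).app X) := by
  let a : P.obj T.left ⟶ (L.lan.obj P).obj X := (lanCocone L P X).ι.app T
  let b : Q.obj T.left ⟶ (L.lan.obj Q).obj X := (lanCocone L Q X).ι.app T
  have hP : IsIso a := (lanCoconeIsColimit L P X).isIso_ι_app_of_isTerminal T hT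
  have hQ : IsIso b := (lanCoconeIsColimit L Q X).isIso_ι_app_of_isTerminal T hT
  have h : a ≫ (L.lan.map φ).app X = φ.app T.left ≫ b := lanCocone_ι_map L φ X T
  have : (L.lan.map φ).app X = inv a ≫ φ.app T.left ≫ b := (IsIso.eq_inv_comp a).2 h
  rw [this]
  infer_instance

/-- If the index category of the pointwise formula at `X` is empty, then the value of the
left Kan extension at `X` is initial. -/
noncomputable def isInitialLanObjOfIsEmpty (P : C ⥤ H) (X : D) [IsEmpty (CostructuredArrow L X)] :
    IsInitial ((L.lan.obj P).obj X) := by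
  have hc := lanCoconeIsColimit L P X
  refine IsInitial.ofUniqueHom (fun Y => hc.desc ⟨Y, ⟨fun j => isEmptyElim j, fun j => isEmptyElim j⟩⟩) ?_
  intro Y m
  exact hc.hom_ext (fun j => isEmptyElim j)

end Lan


variable {X : TopCat.{u}} (U : Opens X)

/-- the inclusion map -/
abbrev ι : TopCat.of U ⟶ X := TopCat.ofHom ⟨_, continuous_subtype_val⟩

lemma hι : Topology.IsOpenEmbedding (ι U) := U.isOpenEmbedding

/-- the inclusion functor on opens -/
abbrev jF : Opens (TopCat.of U) ⥤ Opens X := (hι U).isOpenMap.functor

instance : (jF U).IsContinuous (Opens.grothendieckTopology (TopCat.of U)) (Opens.grothendieckTopology X) :=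
  (hι U).functor_isContinuous

example : CohTop.restrFunctor U = (jF U).sheafPushforwardContinuous AddCommGrpCat.{u} _ _ := rfl

/-- extension by zero -/
noncomputable def shriek : CohTop.Ab (TopCat.of U) ⥤ CohTop.Ab X :=
  Functor.sheafPullbackConstruction.sheafPullback (jF U) AddCommGrpCat.{u}
    (Opens.grothendieckTopology (TopCat.of U)) (Opens.grothendieckTopology X)

noncomputable def shriekAdj : shriek U ⊣ CohTop.restrFunctor U :=
  Functor.sheafPullbackConstruction.sheafAdjunctionContinuous (jF U) AddCommGrpCat.{u}
    (Opens.grothendieckTopology (TopCat.of U)) (Opens.grothendieckTopology X)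


lemma jF_obj_le (W : Opens (TopCat.of U)) : (jF U).obj W ≤ U := by
  rintro x ⟨w, _, rfl⟩
  exact w.2

lemma le_jF_preimage {V : Opens X} (h : V ≤ U) : V ≤ (jF U).obj ((Opens.map (ι U)).obj V) :=
  fun x hx => ⟨⟨x, h hx⟩, hx, rfl⟩

lemma preimage_le_of_le_jF {V : Opens X} {W : Opens (TopCat.of U)} (h : V ≤ (jF U).obj W) :
    (Opens.map (ι U)).obj V ≤ W := by
  intro x hx
  obtain ⟨w, hw, hwx⟩ := h hx
  have : w = x := Subtype.ext hwx
  exact this ▸ hw

/-- the terminal object of the index category at `V ≤ U` -/
noncomputable def termObj {V : Opens X} (h : V ≤ U) : CostructuredArrow (jF U).op (op V) :=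
  CostructuredArrow.mk (Y := op ((Opens.map (ι U)).obj V)) (homOfLE (le_jF_preimage U h)).op

noncomputable def termObjIsTerminal {V : Opens X} (h : V ≤ U) : IsTerminal (termObj U h) :=
  IsTerminal.ofUniqueHom
    (fun A => CostructuredArrow.homMk
      ((homOfLE (preimage_le_of_le_jF U A.hom.unop.le)).op : op A.left.unop ⟶ _)
      (Subsingleton.elim _ _))
    (fun A m => by
      apply CostructuredArrow.hom_ext
      exact Subsingleton.elim _ _)

lemma isEmpty_of_not_le {V : Opens X} (h : ¬ V ≤ U) :
    IsEmpty (CostructuredArrow (jF U).op (op V)) :=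
  ⟨fun A => h (A.hom.unop.le.trans (jF_obj_le U A.left.unop))⟩


/-- the presheaf-level extension by zero preserves componentwise monomorphisms -/
lemma mono_lan_map {P Q : (Opens (TopCat.of U))ᵒᵖ ⥤ AddCommGrpCat.{u}} (φ : P ⟶ Q)
    [Mono φ] : Mono ((jF U).op.lan.map φ) := by
  have hφ : ∀ W, Mono (φ.app W) := (NatTrans.mono_iff_mono_app φ).1 inferInstance
  rw [NatTrans.mono_iff_mono_app]
  intro V
  obtain ⟨V⟩ := V
  by_cases h : V ≤ U
  · have := hφ (termObj U h).left
    exact mono_lan_map_app_of_isTerminal (jF U).op φ (op V) (termObj U h) (termObjIsTerminal U h)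
  · have := isEmpty_of_not_le U h
    have hI := isInitialLanObjOfIsEmpty (jF U).op P (op V)
    have hZ : IsZero (((jF U).op.lan.obj P).obj (op V)) :=
      IsZero.of_iso (isZero_zero _) (hI.uniqueUpToIso HasZeroObject.zeroIsInitial)
    exact ⟨fun g h _ => hZ.eq_of_tgt g h⟩

instance : (shriek U).PreservesMonomorphisms where
  preserves {F G} φ hφ := by
    have h1 : Mono ((sheafToPresheaf _ _).map φ) := inferInstance
    have h2 := mono_lan_map U ((sheafToPresheaf _ _).map φ)
    change Mono ((presheafToSheaf (Opens.grothendieckTopology X) AddCommGrpCat.{u}).map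
      ((jF U).op.lan.map ((sheafToPresheaf _ _).map φ)))
    infer_instance


instance : (shriek U).IsLeftAdjoint := (shriekAdj U).isLeftAdjoint

instance : (shriek U).Additive := (shriekAdj U).left_adjoint_additive

instance : PreservesFiniteColimits (shriek U) := inferInstance

/-- extension by zero is exact -/
instance : PreservesFiniteLimits (shriek U) := by
  rw [Functor.preservesFiniteLimits_iff_forall_exact_map_and_mono]
  intro S hS
  refine ⟨?_, ?_⟩
  · have h : PreservesFiniteColimits (shriek U) := inferInstance
    exact ((Functor.preservesFiniteColimits_iff_forall_exact_map_and_epi (shriek U)).1 h S hS).1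
  · have := hS.mono_f
    infer_instance

/-- restriction to an open preserves injectives -/
lemma injective_restr (I : CohTop.Ab X) [Injective I] :
    Injective ((CohTop.restrFunctor U).obj I) :=
  Injective.injective_of_adjoint (shriekAdj U) I

instance : (CohTop.restrFunctor U).IsRightAdjoint := (shriekAdj U).isRightAdjoint

/-- restriction is isomorphic to the inverse image along the inclusion -/
noncomputable def pullIsoRestr : CohTop.pull (ι U) ≅ CohTop.restrFunctor U :=
  (hι U).sheafPullbackIso AddCommGrpCat.{u}

instance : (CohTop.restrFunctor U).IsLeftAdjoint :=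
  ((TopCat.Sheaf.pullbackPushforwardAdjunction AddCommGrpCat.{u} (ι U)).ofNatIsoLeft
    (pullIsoRestr U)).isLeftAdjoint

instance : PreservesFiniteLimits (CohTop.restrFunctor U) := inferInstance

instance : PreservesFiniteColimits (CohTop.restrFunctor U) := inferInstance

end Groth.Agent.Lib.OpenShriek
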