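/-
helper48: **linear Čech comparison for a direct image** (stage K1-e / P4 of the ProperFin keystone).

For `g : Y ⟶ X`, an `O_Y`-module `M`, and an open cover `V` of `X` with affine finite intersections such that
`g_* M` is quasi-coherent and `M` is acyclic on all finite intersections of the `g⁻¹ V_i`:
`H^p(Y, M) ≃+ H^p(X, g_* M)`, compatibly with multiplication by global functions of `X` (acting on `H^p(Y, M)`
through `g♯`).  Over a base `Spec A` this is an `A`-linear isomorphism, so finiteness over `A` transfers.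

Ingredients: helper9's equivariant Čech-to-derived comparison (Lib/CechEquivariant9, Lib/CechLinear9), the transfer
isomorphism of Čech complexes `CechTransfer.cechIso` for `G = Opens.map g.base`.
-/
import Groth.Agent.Lib.CechLinear9
import Groth.Agent.Lib.H90OXModQcqs
import Groth.Agent.S0463

set_option autoImplicit false
universe u

open CategoryTheory Limits Opposite Abelian AlgebraicGeometry TopologicalSpace

open Groth.Agent.Lib.CechEquivariant9 Groth.Agent.Lib.CechLinear9

namespace Groth.Agent.Lib.CechPushCompare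

section Acyclic

variable {X : Scheme.{u}}

/-- **Linear Čech-to-derived comparison for acyclic covers** (generalizes helper9's
`CechLinear9.exists_addEquiv_smul`, where acyclicity comes from affineness). -/
theorem exists_addEquiv_smul_of_acyclic {ι : Type u} (U : ι → X.Opens) (hcov : ⨆ i, U i = ⊤)
    (M : X.Modules)
    (hacyc : ∀ (n : ℕ) (a : Fin (n + 1) → ι) (q : ℕ),
      Subsingleton (CohTop.HU (Coh.toAb M) (q + 1) (iInf fun k => U (a k)))) (p : ℕ) :
    ∃ e : ↑(CohB1.cechH U M p) ≃+ Coh.HH X M p,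
      ∀ (r : Coh.Γtop X) (x : ↑(CohB1.cechH U M p)), e (cechSmul U M p r x) = r • e x := by
  have key : ∀ (V : X.Opens) (_ : iSup U = V),
      ∃ e : CohTop.cechH (Coh.toAb M).obj U p ≃+ CohTop.HU (Coh.toAb M) p V,
        ∀ (m : Coh.Γtop X) (x : CohTop.cechH (Coh.toAb M).obj U p),
          e (HomologicalComplex.homologyMap
            ((cechComplexFunctor U).map (smulAct M m : Coh.toAb M ⟶ Coh.toAb M).hom) p x) =
          (e x).comp (Ext.mk₀ (smulAct M m : Coh.toAb M ⟶ Coh.toAb M)) (add_zero p) := by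
    rintro V rfl
    exact exists_equivariant_top (X := X.toTopCat) (Coh.toAb M) U hacyc
      (Coh.Γtop X) (smulAct M) p
  obtain ⟨e, he⟩ := key ⊤ hcov
  let E := Groth.Agent.Lib.HBridge.HEquivHUTop (Coh.toAb M) p
  let e' : ↑(CohB1.cechH U M p) ≃+ Coh.HH X M p := e.trans E.symm
  refine ⟨e', ?_⟩
  intro r x
  have h1 : e' (cechSmul U M p r x) = E.symm (e (cechSmul U M p r x)) := rfl
  have h2 : e' x = E.symm (e x) := rfl
  rw [h1, h2, AddEquiv.symm_apply_eq]
  have h3 : E (r • E.symm (e x)) =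
      (E (E.symm (e x))).comp (Ext.mk₀ (Coh.smulAb M r)) (add_zero p) :=
    HEquivHUTop_map (Coh.smulAb M r) p _
  rw [h3, AddEquiv.apply_symm_apply]
  exact he r x

end Acyclic

section Push

variable {X Y : Scheme.{u}} (g : Y ⟶ X) (M : Y.Modules)

/-- the preimage functor on opens -/
abbrev G : Opens X ⥤ Opens Y := Opens.map g.base

lemma isIso_piComparison {ι : Type u} (V : ι → X.Opens) (n : ℕ) (a : Fin (n + 1) → ι) :
    IsIso (piComparison (G g) (fun k => V (a k))) := by
  have hle : (∏ᶜ fun k => (G g).obj (V (a k))) ≤ (G g).obj (∏ᶜ fun k => V (a k)) := by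
    intro y hy
    have h1 : ∀ k, y ∈ (G g).obj (V (a k)) := fun k =>
      (Pi.π (fun k => (G g).obj (V (a k))) k).le hy
    have h2 : (⨅ k, V (a k)) ≤ ∏ᶜ fun k => V (a k) :=
      (Pi.lift (fun k => homOfLE (iInf_le (fun k => V (a k)) k))).le
    apply (G g).map (homOfLE h2) |>.le
    show g.base y ∈ (⨅ k, V (a k) : Opens X)
    rw [← SetLike.mem_coe, Opens.coe_iInf, Set.mem_iInter]
    exact h1
  exact ⟨⟨homOfLE hle, Subsingleton.elim _ _, Subsingleton.elim _ _⟩⟩

/-- the presheaf of `g_* M` -/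
lemma push_presheaf :
    ((Scheme.Modules.pushforward g).obj M).presheaf = (G g).op ⋙ M.presheaf := rfl

/-- The Čech complex of `M` for the cover `g⁻¹ V` is the Čech complex of `g_* M` for the cover `V`. -/
noncomputable def cechCompIso {ι : Type u} (V : ι → X.Opens) :
    (cechComplexFunctor (fun i => g ⁻¹ᵁ V i)).obj M.presheaf ≅
      (cechComplexFunctor V).obj ((Scheme.Modules.pushforward g).obj M).presheaf :=
  Groth.Agent.Lib.CechTransfer.cechIso (G g) V M.presheaf (isIso_piComparison g V)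

/-- pullback of global functions along `g`, in the form used by the module structures -/
noncomputable def pullFn : Coh.Γtop X →+* Coh.Γtop Y := g.appTop.hom

/-- multiplication by `r` on `g_* M` is multiplication by `g♯ r` on `M` -/
lemma smulAb_push (r : Coh.Γtop X) :
    (Coh.smulAb ((Scheme.Modules.pushforward g).obj M) r).hom =
      Functor.whiskerLeft (G g).op (Coh.smulAb M (pullFn g r)).hom := by
  ext W m
  rw [Coh.smulAb_app]
  change _ = (Coh.smulAb M (pullFn g r)).hom.app (op (g ⁻¹ᵁ W.unop)) m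
  rw [Coh.smulAb_app]
  have h : (g.app W.unop).hom (Coh.resTop X W r) =
      Coh.resTop Y (op (g ⁻¹ᵁ W.unop)) (pullFn g r) := by
    have h1 := g.naturality (homOfLE (le_top : W.unop ≤ ⊤)).op
    exact ConcreteCategory.congr_hom h1 r
  rw [← h]
  rfl

/-- the induced additive isomorphism on Čech cohomology -/
noncomputable def cechHEquiv {ι : Type u} (V : ι → X.Opens) (p : ℕ) :
    ↑(CohB1.cechH (fun i => g ⁻¹ᵁ V i) M p) ≃+
      ↑(CohB1.cechH V ((Scheme.Modules.pushforward g).obj M) p) :=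
  ((HomologicalComplex.homologyFunctor AddCommGrpCat.{u} _ p).mapIso
    (cechCompIso g M V)).addCommGroupIsoToAddEquiv

lemma cechHEquiv_smul {ι : Type u} (V : ι → X.Opens) (p : ℕ) (r : Coh.Γtop X)
    (x : ↑(CohB1.cechH (fun i => g ⁻¹ᵁ V i) M p)) :
    cechHEquiv g M V p (cechSmul (fun i => g ⁻¹ᵁ V i) M p (pullFn g r) x) =
      cechSmul V ((Scheme.Modules.pushforward g).obj M) p r (cechHEquiv g M V p x) := by
  have h0 := cechIso_naturality (G g) V (Coh.smulAb M (pullFn g r)).hom (isIso_piComparison g V)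
  rw [← smulAb_push] at h0
  have h1 := congrArg (fun φ => HomologicalComplex.homologyMap φ p) h0
  simp only [HomologicalComplex.homologyMap_comp] at h1
  exact ConcreteCategory.congr_hom h1 x

/-- **Linear Čech comparison for a direct image.**  If `V` is an open cover of `X` with affine finite
intersections, `g_* M` is quasi-coherent, and `M` is acyclic on all finite intersections of the `g⁻¹ V_i`,
then `H^p(Y, M) ≃+ H^p(X, g_* M)`, compatibly with multiplication by global functions on `X`. -/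
theorem exists_addEquiv_push {ι : Type u} (V : ι → X.Opens) (hcov : ⨆ i, V i = ⊤)
    (hV : ∀ s : Finset ι, s.Nonempty → IsAffineOpen (⨅ i ∈ s, V i))
    [hq : Coh.IsQCoh ((Scheme.Modules.pushforward g).obj M)]
    (hY : ∀ (n : ℕ) (a : Fin (n + 1) → ι) (q : ℕ),
      Subsingleton (CohTop.HU (Coh.toAb M) (q + 1) (iInf fun k => g ⁻¹ᵁ V (a k)))) (p : ℕ) :
    ∃ e : Coh.HH Y M p ≃+ Coh.HH X ((Scheme.Modules.pushforward g).obj M) p,
      ∀ (r : Coh.Γtop X) (y : Coh.HH Y M p), e (pullFn g r • y) = r • e y := by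
  have hcovY : ⨆ i, g ⁻¹ᵁ V i = ⊤ := by
    rw [← Scheme.Hom.preimage_iSup, hcov]
    rfl
  obtain ⟨eY, heY⟩ := exists_addEquiv_smul_of_acyclic (fun i => g ⁻¹ᵁ V i) hcovY M hY p
  obtain ⟨eX, heX⟩ := exists_addEquiv_smul V hcov hV ((Scheme.Modules.pushforward g).obj M) p
  refine ⟨eY.symm.trans ((cechHEquiv g M V p).trans eX), fun r y => ?_⟩
  obtain ⟨x, rfl⟩ := eY.surjective y
  have h1 : eY.symm (pullFn g r • eY x) =
      cechSmul (fun i => g ⁻¹ᵁ V i) M p (pullFn g r) x := by
    rw [AddEquiv.symm_apply_eq, heY]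
  simp only [AddEquiv.trans_apply, AddEquiv.symm_apply_apply]
  rw [h1, cechHEquiv_smul, heX]

end Push

section Over

variable {X Y : Scheme.{u}} (g : Y ⟶ X) (M : Y.Modules)
variable (A : Type u) [CommRing A] [X.Over (Spec (CommRingCat.of A))] [Y.Over (Spec (CommRingCat.of A))]
  [g.IsOver (Spec (CommRingCat.of A))]

lemma toGlobal_over (a : A) :
    Coh.toGlobal (Y ↘ Spec (CommRingCat.of A)) a =
      pullFn g (Coh.toGlobal (X ↘ Spec (CommRingCat.of A)) a) := by
  have h : g ≫ (X ↘ Spec (CommRingCat.of A)) = Y ↘ Spec (CommRingCat.of A) :=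
    comp_over g (Spec (CommRingCat.of A))
  unfold Coh.toGlobal
  rw [← h, Scheme.Hom.comp_appTop]
  rfl

/-- **`A`-linear Čech comparison for a direct image** over `Spec A`. -/
theorem nonempty_linearEquiv_push {ι : Type u} (V : ι → X.Opens) (hcov : ⨆ i, V i = ⊤)
    (hV : ∀ s : Finset ι, s.Nonempty → IsAffineOpen (⨅ i ∈ s, V i))
    [hq : Coh.IsQCoh ((Scheme.Modules.pushforward g).obj M)]
    (hY : ∀ (n : ℕ) (a : Fin (n + 1) → ι) (q : ℕ),
      Subsingleton (CohTop.HU (Coh.toAb M) (q + 1) (iInf fun k => g ⁻¹ᵁ V (a k)))) (p : ℕ) :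
    Nonempty (Coh.HH Y M p ≃ₗ[A] Coh.HH X ((Scheme.Modules.pushforward g).obj M) p) := by
  obtain ⟨e, he⟩ := exists_addEquiv_push g M V hcov hV hY p
  refine ⟨{ e with map_smul' := fun a y => ?_ }⟩
  show e (Coh.toGlobal (Y ↘ Spec (CommRingCat.of A)) a • y) =
    Coh.toGlobal (X ↘ Spec (CommRingCat.of A)) a • e y
  rw [toGlobal_over g A a, he]

/-- Finiteness over `A` transfers between `H^p(Y, M)` and `H^p(X, g_* M)`. -/
theorem finite_push_iff {ι : Type u} (V : ι → X.Opens) (hcov : ⨆ i, V i = ⊤)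
    (hV : ∀ s : Finset ι, s.Nonempty → IsAffineOpen (⨅ i ∈ s, V i))
    [hq : Coh.IsQCoh ((Scheme.Modules.pushforward g).obj M)]
    (hY : ∀ (n : ℕ) (a : Fin (n + 1) → ι) (q : ℕ),
      Subsingleton (CohTop.HU (Coh.toAb M) (q + 1) (iInf fun k => g ⁻¹ᵁ V (a k)))) (p : ℕ) :
    Module.Finite A (Coh.HH Y M p) ↔
      Module.Finite A (Coh.HH X ((Scheme.Modules.pushforward g).obj M) p) := by
  obtain ⟨e⟩ := nonempty_linearEquiv_push g M A V hcov hV hY p
  exact ⟨fun _ => Module.Finite.equiv e, fun _ => Module.Finite.equiv e.symm⟩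

end Over

section SchemeLevel

variable {X Y : Scheme.{u}}

/-- `H^n(W, F)` (derived functors of sections over `W`) is the cohomology of the restriction to the open
subscheme `W` (S0463 for the underlying abelian sheaf; `toAb (M|_W) = (toAb M)|_W` definitionally). -/
theorem nonempty_HU_addEquiv_HHon (M : Y.Modules) (W : Y.Opens) (n : ℕ) :
    Nonempty (CohTop.HU (Coh.toAb M) n W ≃+ Coh.HHon Y M W n) :=
  Groth.Agent.S0463.result (X := Y.toTopCat) (Coh.toAb M) W n

theorem subsingleton_HU_of_HHon (M : Y.Modules) (W : Y.Opens) (n : ℕ)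
    [h : Subsingleton (Coh.HHon Y M W n)] : Subsingleton (CohTop.HU (Coh.toAb M) n W) := by
  obtain ⟨e⟩ := nonempty_HU_addEquiv_HHon M W n
  exact e.toEquiv.subsingleton

lemma iInf_image_eq {ι : Type u} [DecidableEq ι] (U : ι → Y.Opens) (n : ℕ) (a : Fin (n + 1) → ι) :
    (⨅ i ∈ Finset.univ.image a, U i) = iInf fun k => U (a k) := by
  apply le_antisymm
  · exact le_iInf fun k => iInf₂_le (a k) (Finset.mem_image_of_mem a (Finset.mem_univ k))
  · refine le_iInf₂ fun i hi => ?_
    obtain ⟨k, -, rfl⟩ := Finset.mem_image.1 hi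
    exact iInf_le _ k

/-- Acyclicity hypothesis of `exists_addEquiv_push` from vanishing of the cohomology of the restrictions of `M`
to the open subschemes `⋂_{i ∈ s} g⁻¹ V_i`. -/
theorem acyclic_of_HHon (g : Y ⟶ X) (M : Y.Modules) {ι : Type u} (V : ι → X.Opens)
    (hY : ∀ s : Finset ι, s.Nonempty → ∀ q : ℕ,
      Subsingleton (Coh.HHon Y M (⨅ i ∈ s, g ⁻¹ᵁ V i) (q + 1))) :
    ∀ (n : ℕ) (a : Fin (n + 1) → ι) (q : ℕ),
      Subsingleton (CohTop.HU (Coh.toAb M) (q + 1) (iInf fun k => g ⁻¹ᵁ V (a k))) := by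
  classical
  intro n a q
  have hs : (Finset.univ.image a).Nonempty := ⟨a 0, Finset.mem_image_of_mem a (Finset.mem_univ 0)⟩
  haveI := hY _ hs q
  rw [← iInf_image_eq (fun i => g ⁻¹ᵁ V i) n a]
  exact subsingleton_HU_of_HHon M _ (q + 1)

variable (A : Type u) [CommRing A] [X.Over (Spec (CommRingCat.of A))] [Y.Over (Spec (CommRingCat.of A))]

/-- **Consumer form** (helper90 P4 / K1-e): `g : Y ⟶ X` quasi-compact quasi-separated over `Spec A`, `M`
quasi-coherent on `Y`, `V` an open cover of `X` with affine finite intersections such that `M` has no higher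
cohomology on the open subschemes `⋂_{i ∈ s} g⁻¹ V_i`.  Then `H^p(Y, M) ≃ₗ[A] H^p(X, g_* M)`. -/
theorem nonempty_linearEquiv_push_of_HHon (g : Y ⟶ X) [g.IsOver (Spec (CommRingCat.of A))]
    [QuasiCompact g] [QuasiSeparated g] (M : Y.Modules) [M.IsQuasicoherent]
    {ι : Type u} (V : ι → X.Opens) (hcov : ⨆ i, V i = ⊤)
    (hV : ∀ s : Finset ι, s.Nonempty → IsAffineOpen (⨅ i ∈ s, V i))
    (hY : ∀ s : Finset ι, s.Nonempty → ∀ q : ℕ,
      Subsingleton (Coh.HHon Y M (⨅ i ∈ s, g ⁻¹ᵁ V i) (q + 1))) (p : ℕ) :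
    Nonempty (Coh.HH Y M p ≃ₗ[A] Coh.HH X ((Scheme.Modules.pushforward g).obj M) p) := by
  haveI : Coh.IsQCoh ((Scheme.Modules.pushforward g).obj M) :=
    Groth.Agent.Lib.H90OXModQcqs.isQuasicoherent_pushforward_of_qcqs g M
  exact nonempty_linearEquiv_push g M A V hcov hV (acyclic_of_HHon g M V hY) p

/-- Finiteness over `A` of `H^p(X, g_* M)` from finiteness of `H^p(Y, M)`. -/
theorem finite_HH_push_of_finite (g : Y ⟶ X) [g.IsOver (Spec (CommRingCat.of A))]
    [QuasiCompact g] [QuasiSeparated g] (M : Y.Modules) [M.IsQuasicoherent]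
    {ι : Type u} (V : ι → X.Opens) (hcov : ⨆ i, V i = ⊤)
    (hV : ∀ s : Finset ι, s.Nonempty → IsAffineOpen (⨅ i ∈ s, V i))
    (hY : ∀ s : Finset ι, s.Nonempty → ∀ q : ℕ,
      Subsingleton (Coh.HHon Y M (⨅ i ∈ s, g ⁻¹ᵁ V i) (q + 1))) (p : ℕ)
    (h : Module.Finite A (Coh.HH Y M p)) :
    Module.Finite A (Coh.HH X ((Scheme.Modules.pushforward g).obj M) p) := by
  obtain ⟨e⟩ := nonempty_linearEquiv_push_of_HHon A g M V hcov hV hY p
  exact Module.Finite.equiv e

end SchemeLevel

end Groth.Agent.Lib.CechPushCompare
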