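import Groth.Agent.Lib.CechTop

/-!
# Iso between `CohTop.cechH` and `CohCx.cechH` on a topological space
-/

universe u

open CategoryTheory Limits Opposite TopologicalSpace

namespace Groth.Agent.Lib.CechTop

variable {X : TopCat.{u}}

/-- the comparison isomorphism between the two versions of Cech cohomology -/
noncomputable def cechHIso (P : (Opens X)ᵒᵖ ⥤ AddCommGrpCat.{u}) (U : Opens X) {ι : Type u}
    (Y : ι → Over U) (n : ℕ) :
    CohTop.cechH P (fun i => (Y i).left) n ≅ CohCx.cechH P Y n :=
  (HomologicalComplex.homologyFunctor AddCommGrpCat.{u} _ n).mapIso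
    (Groth.Agent.Lib.CechTransfer.cechIso (Over.forget U) Y P (isIso_piComparison_forget U Y))

end Groth.Agent.Lib.CechTop
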