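import Groth.Agent.Lib.AffVanBridge

/-!
# `Sheaf.H F p ≃+ Sheaf.H' F p ⊤` on a topological space

The constant sheaf `ℤ` is isomorphic to the free abelian sheaf on the open `⊤`, hence the two
versions of cohomology agree.
-/

set_option autoImplicit false
universe u
open CategoryTheory TopologicalSpace Opposite Limits Abelian

namespace Groth.Agent.Lib.HBridge

open Groth.Agent.Lib.FlasqueAcyclic

variable {X : TopCat.{u}}

/-- The constant sheaf `ℤ` is isomorphic to the free sheaf on the open `⊤`. -/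
theorem nonempty_iso_const (X : TopCat.{u}) :
    Nonempty (freeSh (⊤ : Opens X) ≅ CohTop.const X (ULift.{u} ℤ)) := by
  have hT : IsTerminal (⊤ : Opens X) := isTerminalTop
  have hnat : ∀ {G G' : CohTop.Ab X} (f : CohTop.const X (ULift.{u} ℤ) ⟶ G) (g : G ⟶ G'),
      Sheaf.H.equiv₀ G' hT (Ext.mk₀ (f ≫ g)) = g.hom.app (op ⊤) (Sheaf.H.equiv₀ G hT (Ext.mk₀ f)) := by
    intro G G' f g
    rw [Sheaf.H.equiv₀_naturality, Sheaf.H.map_apply, Ext.mk₀_comp_mk₀]
  let φ : freeSh (⊤ : Opens X) ⟶ CohTop.const X (ULift.{u} ℤ) :=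
    (homEquiv ⊤ _).symm (Sheaf.H.equiv₀ _ hT (Ext.mk₀ (𝟙 (CohTop.const X (ULift.{u} ℤ)))))
  obtain ⟨ψ, hψ⟩ := (Ext.mk₀_bijective _ _).2
    ((Sheaf.H.equiv₀ (freeSh (⊤ : Opens X)) hT).symm (homEquiv ⊤ _ (𝟙 (freeSh (⊤ : Opens X)))))
  refine ⟨⟨φ, ψ, ?_, ?_⟩⟩
  · apply (homEquiv ⊤ _).injective
    rw [homEquiv_comp, Equiv.apply_symm_apply, ← hnat, Category.id_comp, hψ,
      AddEquiv.apply_symm_apply]
  · apply (Ext.mk₀_bijective _ _).1
    apply (Sheaf.H.equiv₀ _ hT).injective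
    rw [hnat ψ φ, hψ, AddEquiv.apply_symm_apply, ← homEquiv_comp, Category.id_comp,
      Equiv.apply_symm_apply]

/-- a chosen isomorphism between the free sheaf on `⊤` and the constant sheaf `ℤ` -/
noncomputable def constIso (X : TopCat.{u}) :
    freeSh (⊤ : Opens X) ≅ CohTop.const X (ULift.{u} ℤ) :=
  (nonempty_iso_const X).some

/-- an isomorphism in the first variable induces an isomorphism on `Ext` -/
noncomputable def extAddEquivOfIso {A : Type*} [Category A] [Abelian A] [HasExt A]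
    {M N : A} (e : M ≅ N) (F : A) (p : ℕ) : Ext N F p ≃+ Ext M F p where
  toFun x := (Ext.mk₀ e.hom).comp x (zero_add p)
  invFun y := (Ext.mk₀ e.inv).comp y (zero_add p)
  left_inv x := by
    change (Ext.mk₀ e.inv).comp ((Ext.mk₀ e.hom).comp x (zero_add p)) (zero_add p) = x
    rw [Ext.mk₀_comp_mk₀_assoc, e.inv_hom_id, Ext.mk₀_id_comp]
  right_inv y := by
    change (Ext.mk₀ e.hom).comp ((Ext.mk₀ e.inv).comp y (zero_add p)) (zero_add p) = y
    rw [Ext.mk₀_comp_mk₀_assoc, e.hom_inv_id, Ext.mk₀_id_comp]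
  map_add' x y := Ext.comp_add _ _ _ _

/-- `H^p(X, F) ≃+ H^p(⊤, F)` -/
noncomputable def HEquivHUTop (F : CohTop.Ab X) (p : ℕ) :
    CohTop.H F p ≃+ CohTop.HU F p (⊤ : Opens X) :=
  extAddEquivOfIso (constIso X) F p

lemma HEquivHUTop_apply (F : CohTop.Ab X) (p : ℕ) (x : CohTop.H F p) :
    HEquivHUTop F p x = (Ext.mk₀ (constIso X).hom).comp x (zero_add p) := rfl

end Groth.Agent.Lib.HBridge
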