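import Groth.Agent.Lib.CechDerived3
import Groth.Agent.Lib.CechTop2
import Groth.Agent.Lib.HBridge

/-!
# Equivariant (linear) version of "Čech cohomology computes cohomology for acyclic covers"

`Groth.Agent.Lib.CechEquivariant9` (helper9).  helper92's `CechDerived3.nonempty_cechH_addEquiv` gives an
abstract additive isomorphism `Ȟ^p(Y, F) ≃+ Ext^p(ℤ[h_U], F)`, not natural in `F`.  Here we prove that for
any monoid `Mo` acting on `F` by endomorphisms of abelian sheaves the isomorphism can be chosen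
*equivariant* (`exists_equivariant`, sites; `exists_equivariant_top`, topological spaces).
Trick: the equivariant injective embedding `F → ∏_{m ∈ Mo} I`, `f ↦ (ι (m • f))_m`, with `Mo` acting on the
product by shifting the index; then dimension shifting with naturality of the connecting maps on both
sides (`HomologySequence.δ_naturality`, `ShortExact.extClass_naturality`).

Main declarations: `coindSC`, `coindSCEnd` (equivariant injective embedding), `cechMap`, `extMap`,
`equivZero_naturality`, `step_one_nat`, `step_succ_nat`, `exists_equivariant`, `cechIso_naturality`,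
`exists_equivariant_top`.
-/

universe u

open CategoryTheory Limits Opposite Abelian

namespace Groth.Agent.Lib.CechEquivariant9

section Coinduced

variable {A : Type*} [Category A] [Abelian A] {Mo : Type*} [Monoid Mo]
  [HasProductsOfShape Mo A]

variable {F I : A} (act : Mo →* End F) (ι : F ⟶ I)

/-- the coinduced object `∏_{m ∈ Mo} I` -/
noncomputable abbrev coind (I : A) (Mo : Type*) [HasProductsOfShape Mo A] : A := ∏ᶜ fun _ : Mo => I

/-- the equivariant embedding `f ↦ (ι (m • f))_m` -/
noncomputable def coindι : F ⟶ coind I Mo := Pi.lift (fun m => (act m : F ⟶ F) ≫ ι)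

@[reassoc (attr := simp)]
lemma coindι_π (m : Mo) : coindι act ι ≫ Pi.π (fun _ : Mo => I) m = (act m : F ⟶ F) ≫ ι := by
  simp [coindι]

instance [Mono ι] : Mono (coindι act ι) := by
  have h : coindι act ι ≫ Pi.π (fun _ : Mo => I) 1 = ι := by
    rw [coindι_π, map_one]
    exact Category.id_comp _
  exact mono_of_mono_fac h

/-- the shift action on the coinduced object -/
noncomputable def coindAct (I : A) : Mo →* End (coind I Mo) where
  toFun m' := Pi.lift (fun m => Pi.π (fun _ : Mo => I) (m * m'))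
  map_one' := by
    apply Pi.hom_ext
    intro m
    simp only [Pi.lift_π, mul_one]
    exact (Category.id_comp _).symm
  map_mul' m'' m' := by
    apply Pi.hom_ext
    intro m
    rw [End.mul_def, Category.assoc, Pi.lift_π, Pi.lift_π, Pi.lift_π, mul_assoc]

@[reassoc (attr := simp)]
lemma coindAct_π (I : A) (m' m : Mo) :
    (coindAct (Mo := Mo) I m' : coind I Mo ⟶ coind I Mo) ≫ Pi.π (fun _ : Mo => I) m =
      Pi.π (fun _ : Mo => I) (m * m') := by
  simp [coindAct]

lemma coindι_equivariant (m' : Mo) :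
    (act m' : F ⟶ F) ≫ coindι act ι = coindι act ι ≫ (coindAct I m' : coind I Mo ⟶ coind I Mo) := by
  apply Pi.hom_ext
  intro m
  rw [Category.assoc, Category.assoc, coindι_π, coindAct_π, coindι_π, map_mul, End.mul_def,
    Category.assoc]

end Coinduced

end Groth.Agent.Lib.CechEquivariant9


namespace Groth.Agent.Lib.CechEquivariant9

section Coinduced

variable {A : Type*} [Category A] [Abelian A] {Mo : Type*} [Monoid Mo]
  [HasProductsOfShape Mo A]

variable {F I : A} (act : Mo →* End F) (ι : F ⟶ I)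

/-- the quotient `(∏ I) / F` -/
noncomputable abbrev coindQ : A := cokernel (coindι act ι)

/-- the induced action on the quotient -/
noncomputable def coindQAct : Mo →* End (coindQ act ι) where
  toFun m := cokernel.map (coindι act ι) (coindι act ι) (act m : F ⟶ F)
    (coindAct I m : coind I Mo ⟶ coind I Mo) (coindι_equivariant act ι m).symm
  map_one' := by
    apply coequalizer.hom_ext
    rw [cokernel.π_desc, map_one]
    exact (Category.id_comp _).trans (Category.comp_id _).symm
  map_mul' m m' := by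
    apply coequalizer.hom_ext
    rw [End.mul_def, cokernel.π_desc, cokernel.π_desc_assoc, Category.assoc, cokernel.π_desc,
      map_mul, End.mul_def, Category.assoc]

/-- the short complex `F → ∏ I → (∏ I)/F` -/
noncomputable def coindSC : ShortComplex A :=
  ShortComplex.mk (coindι act ι) (cokernel.π (coindι act ι)) (cokernel.condition _)

lemma coindSC_shortExact [Mono ι] : (coindSC act ι).ShortExact where
  exact := ShortComplex.exact_cokernel _
  mono_f := by dsimp [coindSC]; infer_instance
  epi_g := by dsimp [coindSC]; infer_instance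

/-- the endomorphism of the short complex given by `m` -/
noncomputable def coindSCEnd (m : Mo) : coindSC act ι ⟶ coindSC act ι where
  τ₁ := (act m : F ⟶ F)
  τ₂ := (coindAct I m : coind I Mo ⟶ coind I Mo)
  τ₃ := (coindQAct act ι m : coindQ act ι ⟶ coindQ act ι)
  comm₁₂ := coindι_equivariant act ι m
  comm₂₃ := by
    change _ ≫ cokernel.π _ = cokernel.π _ ≫ cokernel.map (coindι act ι) (coindι act ι)
      (act m : F ⟶ F) (coindAct I m : coind I Mo ⟶ coind I Mo) (coindι_equivariant act ι m).symm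
    rw [cokernel.π_desc]

end Coinduced

end Groth.Agent.Lib.CechEquivariant9


namespace Groth.Agent.Lib.CechEquivariant9

open Groth.Agent.Lib.CechLow Groth.Agent.Lib.CechLES Groth.Agent.Lib.CechSES
  Groth.Agent.Lib.CechH0 Groth.Agent.Lib.SiteCoh Groth.Agent.Lib Groth.Agent.Lib.CechDerived

variable {C : Type u} [SmallCategory C] [HasPullbacks C] {J : GrothendieckTopology C}
  {U : C} {ι : Type u} (Y : ι → Over U)
  (hY : Sieve.ofArrows (fun i => (Y i).left) (fun i => (Y i).hom) ∈ J U)

/-- the map of Čech complexes induced by a morphism of sheaves -/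
noncomputable abbrev cechCxMap {F G : Sheaf J AddCommGrpCat.{u}} (φ : F ⟶ G) :
    (cechComplexFunctor Y).obj (pre (U := U) F) ⟶ (cechComplexFunctor Y).obj (pre (U := U) G) :=
  (cechComplexFunctor Y).map (Functor.whiskerLeft (Over.forget U).op φ.hom)

/-- the map on Čech cohomology induced by a morphism of sheaves -/
noncomputable def cechMap {F G : Sheaf J AddCommGrpCat.{u}} (φ : F ⟶ G) (p : ℕ) :
    CohCx.cechH F.obj Y p →+ CohCx.cechH G.obj Y p :=
  (HomologicalComplex.homologyMap (cechCxMap Y φ) p).hom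

/-- the map on `Ext` induced by a morphism of sheaves -/
noncomputable def extMap {F G : Sheaf J AddCommGrpCat.{u}} (φ : F ⟶ G) (p : ℕ) :
    Ext (freeYoneda J U) F p →+ Ext (freeYoneda J U) G p :=
  (Ext.mk₀ φ).postcomp (freeYoneda J U) (add_zero p)

lemma extMap_apply {F G : Sheaf J AddCommGrpCat.{u}} (φ : F ⟶ G) (p : ℕ)
    (x : Ext (freeYoneda J U) F p) : extMap φ p x = x.comp (Ext.mk₀ φ) (add_zero p) := rfl

include hY in
lemma h0_naturality {F G : Sheaf J AddCommGrpCat.{u}} (φ : F ⟶ G) (t : F.obj.obj (op U)) :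
    cechMap Y φ 0 (h0 Y hY F t) = h0 Y hY G (φ.hom.app (op U) t) := by
  apply (H0equiv ((cechComplexFunctor Y).obj (pre (U := U) G))).injective
  apply Subtype.ext
  refine (H0equiv_naturality (cechCxMap Y φ) (h0 Y hY F t)).trans ?_
  have e2 : (H0equiv ((cechComplexFunctor Y).obj (pre (U := U) F)) (h0 Y hY F t)).1 =
      aug Y F t := by
    dsimp only [h0]
    rw [AddEquiv.trans_apply]
    erw [AddEquiv.apply_symm_apply]
    rfl
  have e3 : (H0equiv ((cechComplexFunctor Y).obj (pre (U := U) G))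
      (h0 Y hY G (φ.hom.app (op U) t))).1 = aug Y G (φ.hom.app (op U) t) := by
    dsimp only [h0]
    rw [AddEquiv.trans_apply]
    erw [AddEquiv.apply_symm_apply]
    rfl
  rw [e3]
  refine Eq.trans ?_ (map_aug Y φ t)
  exact congrArg _ e2

lemma equivZero_eq (G : Sheaf J AddCommGrpCat.{u}) (t : G.obj.obj (op U)) :
    equivZero Y hY G (h0 Y hY G t) = Ext.mk₀ ((freeYonedaAddEquiv U G).symm t) := by
  dsimp only [equivZero, h0]
  simp only [AddEquiv.trans_apply, AddEquiv.apply_symm_apply, AddEquiv.symm_apply_apply]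
  rfl

lemma equivZero_naturality {F G : Sheaf J AddCommGrpCat.{u}} (φ : F ⟶ G)
    (x : CohCx.cechH F.obj Y 0) :
    equivZero Y hY G (cechMap Y φ 0 x) = extMap φ 0 (equivZero Y hY F x) := by
  obtain ⟨t, rfl⟩ := (h0 Y hY F).surjective x
  rw [h0_naturality Y hY, equivZero_eq, equivZero_eq, extMap_apply, Ext.mk₀_comp_mk₀,
    freeYonedaAddEquiv_symm_comp]

end Groth.Agent.Lib.CechEquivariant9


namespace Groth.Agent.Lib.CechEquivariant9

open Groth.Agent.Lib.CechLow Groth.Agent.Lib.CechLES Groth.Agent.Lib.CechSES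
  Groth.Agent.Lib.CechH0 Groth.Agent.Lib.SiteCoh Groth.Agent.Lib Groth.Agent.Lib.CechDerived

section Algebra

/-- two surjective homomorphisms with the same kernel have isomorphic targets -/
noncomputable def equivOfKerEq {G A B : Type*} [AddCommGroup G] [AddCommGroup A]
    [AddCommGroup B] (a : G →+ A) (b : G →+ B) (ha : Function.Surjective a)
    (hb : Function.Surjective b) (h : ∀ s, a s = 0 ↔ b s = 0) : A ≃+ B :=
  have hk : a.ker = b.ker := by
    ext s
    exact h s
  (QuotientAddGroup.quotientKerEquivOfSurjective a ha).symm.trans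
    ((QuotientAddGroup.quotientAddEquivOfEq hk).trans
      (QuotientAddGroup.quotientKerEquivOfSurjective b hb))

lemma equivOfKerEq_apply {G A B : Type*} [AddCommGroup G] [AddCommGroup A]
    [AddCommGroup B] (a : G →+ A) (b : G →+ B) (ha : Function.Surjective a)
    (hb : Function.Surjective b) (h : ∀ s, a s = 0 ↔ b s = 0) (s : G) :
    equivOfKerEq a b ha hb h (a s) = b s := by
  have h1 : (QuotientAddGroup.quotientKerEquivOfSurjective a ha).symm (a s) =
      (QuotientAddGroup.mk s : G ⧸ a.ker) := by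
    rw [AddEquiv.symm_apply_eq]
    rfl
  simp only [equivOfKerEq, AddEquiv.trans_apply, h1]
  rfl

end Algebra

variable {C : Type u} [SmallCategory C] [HasPullbacks C] {J : GrothendieckTopology C}
  {U : C} {ι : Type u} (Y : ι → Over U)
  (hY : Sieve.ofArrows (fun i => (Y i).left) (fun i => (Y i).hom) ∈ J U)

variable {S : ShortComplex (Sheaf J AddCommGrpCat.{u})} (hS : S.ShortExact)

/-- the endomorphism of the short complex of Čech complexes induced by an endomorphism of `S` -/
noncomputable def cechSCMap {S S' : ShortComplex (Sheaf J AddCommGrpCat.{u})} (Φ : S ⟶ S') :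
    cechSC' Y S ⟶ cechSC' Y S' where
  τ₁ := cechCxMap Y Φ.τ₁
  τ₂ := cechCxMap Y Φ.τ₂
  τ₃ := cechCxMap Y Φ.τ₃
  comm₁₂ := by
    change cechCxMap Y Φ.τ₁ ≫ cechCxMap Y S'.f = cechCxMap Y S.f ≫ cechCxMap Y Φ.τ₂
    rw [← Functor.map_comp, ← Functor.map_comp, ← Functor.whiskerLeft_comp,
      ← Functor.whiskerLeft_comp, ← ObjectProperty.FullSubcategory.comp_hom,
      ← ObjectProperty.FullSubcategory.comp_hom, Φ.comm₁₂]
  comm₂₃ := by
    change cechCxMap Y Φ.τ₂ ≫ cechCxMap Y S'.g = cechCxMap Y S.g ≫ cechCxMap Y Φ.τ₃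
    rw [← Functor.map_comp, ← Functor.map_comp, ← Functor.whiskerLeft_comp,
      ← Functor.whiskerLeft_comp, ← ObjectProperty.FullSubcategory.comp_hom,
      ← ObjectProperty.FullSubcategory.comp_hom, Φ.comm₂₃]

variable (Φ : S ⟶ S)

lemma cechConn_naturality (hT : (cechSC' Y S).ShortExact) (s : S.X₃.obj.obj (op U)) :
    cechMap Y Φ.τ₁ 1 (cechConn Y hY hT s) = cechConn Y hY hT (Φ.τ₃.hom.app (op U) s) := by
  rw [cechConn_apply, cechConn_apply, ← h0_naturality Y hY]
  have h := HomologicalComplex.HomologySequence.δ_naturality (cechSCMap Y Φ) hT hT 0 1 rfl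
  exact ConcreteCategory.congr_hom h (h0 Y hY S.X₃ s)

lemma extConn_naturality [Injective S.X₂] (s : S.X₃.obj.obj (op U)) :
    extMap Φ.τ₁ 1 (extConn hS U s) = extConn hS U (Φ.τ₃.hom.app (op U) s) := by
  rw [extConn_apply, extConn_apply, extMap_apply, Ext.comp_assoc_of_third_deg_zero,
    ShortComplex.ShortExact.extClass_naturality hS hS Φ, ← Ext.comp_assoc_of_second_deg_zero,
    Ext.mk₀_comp_mk₀, freeYonedaAddEquiv_symm_comp]

end Groth.Agent.Lib.CechEquivariant9


namespace Groth.Agent.Lib.CechEquivariant9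

open Groth.Agent.Lib.CechLow Groth.Agent.Lib.CechLES Groth.Agent.Lib.CechSES
  Groth.Agent.Lib.CechH0 Groth.Agent.Lib.SiteCoh Groth.Agent.Lib Groth.Agent.Lib.CechDerived

variable {C : Type u} [SmallCategory C] [HasPullbacks C] {J : GrothendieckTopology C}
  {U : C} {ι : Type u} (Y : ι → Over U)
  (hY : Sieve.ofArrows (fun i => (Y i).left) (fun i => (Y i).hom) ∈ J U)

variable {S : ShortComplex (Sheaf J AddCommGrpCat.{u})} (hS : S.ShortExact)

include hY hS in
lemma step_one_nat [Injective S.X₂] (hF : Acyclic Y S.X₁) :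
    ∃ e : CohCx.cechH S.X₁.obj Y 1 ≃+ Ext (freeYoneda J U) S.X₁ 1,
      ∀ (Φ : S ⟶ S) (x : CohCx.cechH S.X₁.obj Y 1),
        e (cechMap Y Φ.τ₁ 1 x) = extMap Φ.τ₁ 1 (e x) := by
  have hT := cechSC'_shortExact Y hS hF
  obtain ⟨e, he⟩ : ∃ e : CohCx.cechH S.X₁.obj Y 1 ≃+ Ext (freeYoneda J U) S.X₁ 1,
      ∀ s, e (cechConn Y hY hT s) = extConn hS U s :=
    ⟨equivOfKerEq (cechConn Y hY hT) (extConn hS U) (cechConn_surjective Y hY hT)
      (extConn_surjective hS U)
      (fun s => (cechConn_eq_zero_iff Y hY hT s).trans (extConn_eq_zero_iff hS U s).symm),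
      fun s => equivOfKerEq_apply _ _ _ _ _ s⟩
  refine ⟨e, ?_⟩
  intro Φ x
  obtain ⟨s, rfl⟩ := cechConn_surjective Y hY hT x
  calc e (cechMap Y Φ.τ₁ 1 (cechConn Y hY hT s))
      = e (cechConn Y hY hT (Φ.τ₃.hom.app (op U) s)) :=
        congrArg e (cechConn_naturality Y hY Φ hT s)
    _ = extConn hS U (Φ.τ₃.hom.app (op U) s) := he _
    _ = extMap Φ.τ₁ 1 (extConn hS U s) := (extConn_naturality hS Φ s).symm
    _ = extMap Φ.τ₁ 1 (e (cechConn Y hY hT s)) := congrArg _ (he s).symm

lemma extShift_apply [Injective S.X₂] (p : ℕ) (z : Ext (freeYoneda J U) S.X₃ (p + 1)) :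
    extShift hS U p z = z.comp hS.extClass (rfl : p + 1 + 1 = p + 2) := rfl

lemma extShift_naturality [Injective S.X₂] (Φ : S ⟶ S) (p : ℕ)
    (z : Ext (freeYoneda J U) S.X₃ (p + 1)) :
    extShift hS U p (extMap Φ.τ₃ (p + 1) z) = extMap Φ.τ₁ (p + 2) (extShift hS U p z) := by
  rw [extShift_apply, extShift_apply, extMap_apply, extMap_apply,
    Ext.comp_assoc_of_second_deg_zero,
    ← ShortComplex.ShortExact.extClass_naturality hS hS Φ, ← Ext.comp_assoc_of_third_deg_zero]

include hS in
lemma step_succ_nat [Injective S.X₂] (hF : Acyclic Y S.X₁) (p : ℕ)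
    (e : CohCx.cechH S.X₃.obj Y (p + 1) ≃+ Ext (freeYoneda J U) S.X₃ (p + 1)) :
    ∃ e' : CohCx.cechH S.X₁.obj Y (p + 2) ≃+ Ext (freeYoneda J U) S.X₁ (p + 2),
      ∀ (Φ : S ⟶ S), (∀ y, e (cechMap Y Φ.τ₃ (p + 1) y) = extMap Φ.τ₃ (p + 1) (e y)) →
        ∀ x, e' (cechMap Y Φ.τ₁ (p + 2) x) = extMap Φ.τ₁ (p + 2) (e' x) := by
  have hT := cechSC'_shortExact Y hS hF
  let e1 : CohCx.cechH S.X₃.obj Y (p + 1) ≃+ CohCx.cechH S.X₁.obj Y (p + 2) :=
    (hT.δIso (p + 1) (p + 2) rfl (isZero_homology_X₂ Y p)
      (isZero_homology_X₂ Y (p + 1))).addCommGroupIsoToAddEquiv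
  have he1 : ∀ y, e1 y = hT.δ (p + 1) (p + 2) rfl y := fun y => rfl
  refine ⟨e1.symm.trans (e.trans (extShift hS U p)), ?_⟩
  intro Φ hΦ x
  obtain ⟨y, rfl⟩ := e1.surjective x
  have hnat : cechMap Y Φ.τ₁ (p + 2) (e1 y) = e1 (cechMap Y Φ.τ₃ (p + 1) y) := by
    have h := HomologicalComplex.HomologySequence.δ_naturality (cechSCMap Y Φ) hT hT
      (p + 1) (p + 2) rfl
    exact ConcreteCategory.congr_hom h y
  calc (e1.symm.trans (e.trans (extShift hS U p))) (cechMap Y Φ.τ₁ (p + 2) (e1 y))
      = (e1.symm.trans (e.trans (extShift hS U p))) (e1 (cechMap Y Φ.τ₃ (p + 1) y)) :=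
        congrArg _ hnat
    _ = extShift hS U p (e (cechMap Y Φ.τ₃ (p + 1) y)) := by
        simp only [AddEquiv.trans_apply, AddEquiv.symm_apply_apply]
    _ = extShift hS U p (extMap Φ.τ₃ (p + 1) (e y)) := congrArg _ (hΦ y)
    _ = extMap Φ.τ₁ (p + 2) (extShift hS U p (e y)) := extShift_naturality hS Φ p _
    _ = extMap Φ.τ₁ (p + 2) ((e1.symm.trans (e.trans (extShift hS U p))) (e1 y)) := by
        simp only [AddEquiv.trans_apply, AddEquiv.symm_apply_apply]

end Groth.Agent.Lib.CechEquivariant9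


namespace Groth.Agent.Lib.CechEquivariant9

open Groth.Agent.Lib.CechLow Groth.Agent.Lib.CechLES Groth.Agent.Lib.CechSES
  Groth.Agent.Lib.CechH0 Groth.Agent.Lib.SiteCoh Groth.Agent.Lib Groth.Agent.Lib.CechDerived

variable {C : Type u} [SmallCategory C] [HasPullbacks C] {J : GrothendieckTopology C}
  {U : C} {ι : Type u} (Y : ι → Over U)
  (hY : Sieve.ofArrows (fun i => (Y i).left) (fun i => (Y i).hom) ∈ J U)

instance (F : Sheaf J AddCommGrpCat.{u}) (Mo : Type u) [Monoid Mo] (act : Mo →* End F) :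
    Injective (coindSC act (Injective.ι F)).X₂ := by
  dsimp [coindSC]
  infer_instance

include hY in
/-- **Equivariant Čech-to-derived comparison.** For an abelian sheaf `F`, acyclic on all finite fibre
products of a covering family `Y`, with an action of a monoid `Mo` by endomorphisms, there is an
isomorphism from Čech cohomology to `Ext(ℤ[h_U], F)` commuting with the action. -/
theorem exists_equivariant (p : ℕ) : ∀ (F : Sheaf J AddCommGrpCat.{u}) (_ : Acyclic Y F)
    (Mo : Type u) [Monoid Mo] (act : Mo →* End F),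
    ∃ e : CohCx.cechH F.obj Y p ≃+ Ext (freeYoneda J U) F p,
      ∀ (m : Mo) (x : CohCx.cechH F.obj Y p),
        e (cechMap Y (act m : F ⟶ F) p x) = extMap (act m : F ⟶ F) p (e x) := by
  induction p with
  | zero =>
    intro F _ Mo _ act
    exact ⟨equivZero Y hY F, fun m x => equivZero_naturality Y hY _ x⟩
  | succ p ih =>
    intro F hF Mo _ act
    have hS := coindSC_shortExact act (Injective.ι F)
    have hF' : Acyclic Y (coindSC act (Injective.ι F)).X₁ := hF
    cases p with
    | zero =>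
      obtain ⟨e, he⟩ := step_one_nat Y hY hS hF'
      exact ⟨e, fun m x => he (coindSCEnd act (Injective.ι F) m) x⟩
    | succ p =>
      obtain ⟨eQ, heQ⟩ := ih (coindSC act (Injective.ι F)).X₃ (acyclic_X₃ Y hS hF') Mo
        (coindQAct act (Injective.ι F))
      obtain ⟨e, he⟩ := step_succ_nat Y hS hF' p eQ
      exact ⟨e, fun m x => he (coindSCEnd act (Injective.ι F) m) (fun y => heQ m y) x⟩

end Groth.Agent.Lib.CechEquivariant9


namespace Groth.Agent.Lib.CechEquivariant9

open Groth.Agent.Lib.CechLow Groth.Agent.Lib.CechLES Groth.Agent.Lib.CechSES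
  Groth.Agent.Lib.CechH0 Groth.Agent.Lib.SiteCoh Groth.Agent.Lib Groth.Agent.Lib.CechDerived

section Transfer

open Groth.Agent.Lib.CechTransfer

variable {D₁ : Type u} [Category.{u} D₁] [HasFiniteProducts D₁]
  {D₂ : Type u} [Category.{u} D₂] [HasFiniteProducts D₂] (G : D₁ ⥤ D₂)
  {ι : Type u} (Y : ι → D₁) {P P' : D₂ᵒᵖ ⥤ AddCommGrpCat.{u}} (α : P ⟶ P')
  (hG : ∀ (n : ℕ) (a : Fin (n + 1) → ι), IsIso (piComparison G (fun k => Y (a k))))

lemma cechIso_naturality :
    (cechComplexFunctor (fun i => G.obj (Y i))).map α ≫ (cechIso G Y P' hG).hom =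
      (cechIso G Y P hG).hom ≫ (cechComplexFunctor Y).map (Functor.whiskerLeft G.op α) := by
  apply HomologicalComplex.hom_ext
  intro n
  apply Pi.hom_ext
  intro (a : Fin (n + 1) → ι)
  change (((cechComplexFunctor (fun i => G.obj (Y i))).map α).f n ≫ (XIso G Y P' hG n).hom) ≫
      comp Y (G.op ⋙ P') n a =
    ((XIso G Y P hG n).hom ≫ ((cechComplexFunctor Y).map (Functor.whiskerLeft G.op α)).f n) ≫
      comp Y (G.op ⋙ P') n a
  rw [Category.assoc, XIso_hom_comp, ← Category.assoc, map_f_comp, Category.assoc,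
    Category.assoc, map_f_comp, ← Category.assoc (XIso G Y P hG n).hom, XIso_hom_comp,
    Category.assoc]
  congr 1
  exact (α.naturality _).symm

end Transfer

end Groth.Agent.Lib.CechEquivariant9

namespace Groth.Agent.Lib.CechEquivariant9

open Groth.Agent.Lib.CechLow Groth.Agent.Lib.CechLES Groth.Agent.Lib.CechSES
  Groth.Agent.Lib.CechH0 Groth.Agent.Lib.SiteCoh Groth.Agent.Lib Groth.Agent.Lib.CechDerived

section Top

open TopologicalSpace

variable {X : TopCat.{u}}

/-- **Equivariant Čech-to-derived comparison on a topological space.** -/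
theorem exists_equivariant_top (F : CohTop.Ab X) {ι : Type u} (U : ι → Opens X)
    (h : ∀ (p : ℕ) (a : Fin (p + 1) → ι) (q : ℕ),
      Subsingleton (CohTop.HU F (q + 1) (iInf fun k => U (a k))))
    (Mo : Type u) [Monoid Mo] (act : Mo →* End F) (p : ℕ) :
    ∃ e : CohTop.cechH F.obj U p ≃+ CohTop.HU F p (iSup U),
      ∀ (m : Mo) (x : CohTop.cechH F.obj U p),
        e (HomologicalComplex.homologyMap ((cechComplexFunctor U).map (act m : F ⟶ F).hom) p x) =
          (e x).comp (Ext.mk₀ (act m : F ⟶ F)) (add_zero p) := by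
  let Y : ι → Over (iSup U) := fun i => Over.mk (homOfLE (le_iSup U i))
  have hY : Sieve.ofArrows (fun i => (Y i).left) (fun i => (Y i).hom) ∈
      Opens.grothendieckTopology X (iSup U) := by
    intro x hx
    obtain ⟨i, hi⟩ := Opens.mem_iSup.1 hx
    exact ⟨U i, (Y i).hom, Sieve.ofArrows_mk _ _ i, hi⟩
  have hac : Acyclic Y F := by
    intro n a q
    rw [Groth.Agent.Lib.CechTop.prod_left_eq_iInf]
    exact h n a q
  obtain ⟨e, he⟩ := exists_equivariant Y hY p F hac Mo act
  let c := Groth.Agent.Lib.CechTop.cechHIso F.obj (iSup U) Y p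
  refine ⟨c.addCommGroupIsoToAddEquiv.trans e, ?_⟩
  intro m x
  have hnat : c.hom (HomologicalComplex.homologyMap
      ((cechComplexFunctor U).map (act m : F ⟶ F).hom) p x) =
      cechMap Y (act m : F ⟶ F) p (c.hom x) := by
    have h1 := congrArg (fun φ => HomologicalComplex.homologyMap φ p)
      (cechIso_naturality (Over.forget (iSup U)) Y (act m : F ⟶ F).hom
        (Groth.Agent.Lib.CechTop.isIso_piComparison_forget (iSup U) Y))
    simp only [HomologicalComplex.homologyMap_comp] at h1
    exact ConcreteCategory.congr_hom h1 x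
  calc (c.addCommGroupIsoToAddEquiv.trans e) (HomologicalComplex.homologyMap
        ((cechComplexFunctor U).map (act m : F ⟶ F).hom) p x)
      = e (c.hom (HomologicalComplex.homologyMap
        ((cechComplexFunctor U).map (act m : F ⟶ F).hom) p x)) := rfl
    _ = e (cechMap Y (act m : F ⟶ F) p (c.hom x)) := congrArg e hnat
    _ = extMap (act m : F ⟶ F) p (e (c.hom x)) := he m _
    _ = ((c.addCommGroupIsoToAddEquiv.trans e) x).comp (Ext.mk₀ (act m : F ⟶ F)) (add_zero p) := rfl

end Top

end Groth.Agent.Lib.CechEquivariant9
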