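import Groth.Prelude.Def_CAlg
import Mathlib.RingTheory.Depth.Rees
import Mathlib.RingTheory.KrullDimension.Regular
import Mathlib.RingTheory.Ideal.KrullsHeightTheorem
import Mathlib.RingTheory.Nakayama

set_option autoImplicit false
universe u v

namespace Groth.Agent.Lib.DepthRees

open CategoryTheory Abelian RingTheory.Sequence Pointwise

variable {R : Type u} [CommRing R]

lemma smul_top_quotSMulTop_ne_top {M : Type v} [AddCommGroup M]
    [Module R M] {I : Ideal R} {r : R} (hr : r ∈ I)
    (hI : I • (⊤ : Submodule R M) ≠ ⊤) :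
    I • (⊤ : Submodule R (QuotSMulTop r M)) ≠ ⊤ := by
  by_contra eq
  absurd congrArg (Submodule.comap (Submodule.mkQ _)) eq
  simpa [Submodule.comap_smul_top_of_surjective I _ (Submodule.mkQ_surjective _),
    Submodule.smul_mono_left ((Ideal.span_singleton_le_iff_mem I).mpr hr),
    ← Submodule.ideal_span_singleton_smul] using hI

/-- If `M` has a regular sequence of length `n + 1` in `I` and `x ∈ I` is `M`-regular, then
`M/xM` has a regular sequence of length `n` in `I` (via the Rees theorem). -/
lemma exists_isRegular_quotSMulTop [Small.{v} R] [IsNoetherianRing R] (I : Ideal R)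
    (M : Type v) [AddCommGroup M] [Module R M] [Module.Finite R M]
    (hI : I • (⊤ : Submodule R M) ≠ ⊤) {x : R} (hxI : x ∈ I) (hx : IsSMulRegular M x) (n : ℕ)
    (h : ∃ rs : List R, rs.length = n + 1 ∧ (∀ r ∈ rs, r ∈ I) ∧ IsRegular M rs) :
    ∃ rs : List R, rs.length = n ∧ (∀ r ∈ rs, r ∈ I) ∧ IsRegular (QuotSMulTop x M) rs := by
  have tfaeM := ModuleCat.exists_isRegular_tfae I (n + 1) (ModuleCat.of R M) hI.lt_top
  have h2 : ∀ i < n + 1, Subsingleton
      (Ext (ModuleCat.of R (Shrink.{v} (R ⧸ I))) (ModuleCat.of R M) i) := (tfaeM.out 3 1).mp h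
  have tfaeQ := ModuleCat.exists_isRegular_tfae I n (ModuleCat.of R (QuotSMulTop x M))
    (smul_top_quotSMulTop_ne_top hxI hI).lt_top
  apply (tfaeQ.out 1 3).mp
  intro i hi
  have hS : ((ModuleCat.of R M).smulShortComplex x).ShortExact :=
    IsSMulRegular.smulShortComplex_shortExact (M := ModuleCat.of R M) hx
  have h2i := h2 i (by omega)
  have h2i1 := h2 (i + 1) (by omega)
  refine ⟨fun a b => ?_⟩
  obtain ⟨a', ha'⟩ := Ext.covariant_sequence_exact₃ _ hS a rfl (@Subsingleton.elim _ h2i1 _ _)
  obtain ⟨b', hb'⟩ := Ext.covariant_sequence_exact₃ _ hS b rfl (@Subsingleton.elim _ h2i1 _ _)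
  rw [← ha', ← hb', @Subsingleton.elim _ h2i a' b']


/-- A weakly regular sequence contained in `I` is regular when `IM ≠ M`. -/
lemma isRegular_of_isWeaklyRegular_of_mem {I : Ideal R} {M : Type v} [AddCommGroup M] [Module R M]
    (hI : I • (⊤ : Submodule R M) ≠ ⊤) {rs : List R} (hmem : ∀ r ∈ rs, r ∈ I)
    (hreg : IsWeaklyRegular M rs) : IsRegular M rs := by
  refine ⟨hreg, fun h => hI (top_le_iff.mp ?_)⟩
  have hle : Ideal.ofList rs ≤ I := by
    rw [Ideal.ofList, Ideal.span_le]
    intro r hr
    exact hmem r hr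
  exact h.le.trans (Submodule.smul_mono_left hle)

/-- Prefixes of weakly regular sequences are weakly regular. -/
lemma isWeaklyRegular_take {M : Type v} [AddCommGroup M] [Module R M] {rs : List R}
    (hreg : IsWeaklyRegular M rs) (m : ℕ) : IsWeaklyRegular M (rs.take m) := by
  have := (isWeaklyRegular_append_iff M (rs.take m) (rs.drop m)).mp
    (by rwa [List.take_append_drop])
  exact this.1

/-- Characterization of `n ≤ idealDepth I M` for natural `n` when `IM ≠ M`. -/
lemma natCast_le_idealDepth_iff (I : Ideal R) (M : Type v) [AddCommGroup M] [Module R M]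
    (hI : I • (⊤ : Submodule R M) ≠ ⊤) (n : ℕ) :
    (n : ℕ∞) ≤ LocCoh.idealDepth I M ↔
      ∃ rs : List R, rs.length = n ∧ (∀ r ∈ rs, r ∈ I) ∧ IsWeaklyRegular M rs := by
  unfold LocCoh.idealDepth
  rw [if_neg hI]
  constructor
  · intro h
    by_contra hcon
    push Not at hcon
    cases n with
    | zero => exact hcon [] rfl (by simp) (IsWeaklyRegular.nil R M)
    | succ k =>
      have hle : ∀ rs : List R, (IsWeaklyRegular M rs ∧ ∀ r ∈ rs, r ∈ I) → rs.length ≤ k := by
        intro rs hrs
        by_contra hlt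
        push Not at hlt
        refine hcon (rs.take (k + 1)) ?_ ?_ (isWeaklyRegular_take hrs.1 _)
        · rw [List.length_take]; omega
        · intro r hr; exact hrs.2 r (List.mem_of_mem_take hr)
      have : (⨆ (rs : List R) (_ : IsWeaklyRegular M rs ∧ ∀ r ∈ rs, r ∈ I), (rs.length : ℕ∞))
          ≤ (k : ℕ∞) := by
        refine iSup_le fun rs => iSup_le fun hrs => ?_
        exact_mod_cast hle rs hrs
      have := le_trans h this
      norm_cast at this
      omega
  · rintro ⟨rs, rfl, hmem, hreg⟩
    exact le_iSup₂_of_le rs ⟨hreg, hmem⟩ le_rfl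

/-- **Depth drops by one modulo a regular element** (for the ideal-depth of the prelude). -/
theorem idealDepth_quotSMulTop_add_one [Small.{v} R] [IsNoetherianRing R] (I : Ideal R)
    (M : Type v) [AddCommGroup M] [Module R M] [Module.Finite R M]
    (hI : I • (⊤ : Submodule R M) ≠ ⊤) {x : R} (hxI : x ∈ I) (hx : IsSMulRegular M x) :
    LocCoh.idealDepth I (QuotSMulTop x M) + 1 = LocCoh.idealDepth I M := by
  have hIQ := smul_top_quotSMulTop_ne_top hxI hI
  refine ENat.eq_of_forall_natCast_le_iff fun n => ?_
  cases n with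
  | zero => simp
  | succ n =>
    rw [natCast_le_idealDepth_iff I _ hI, Nat.cast_add, Nat.cast_one,
      ENat.add_le_add_iff_right ENat.one_ne_top, natCast_le_idealDepth_iff I _ hIQ]
    constructor
    · rintro ⟨rs, hlen, hmem, hreg⟩
      refine ⟨x :: rs, by simp [hlen], ?_, ?_⟩
      · intro r hr
        rcases List.mem_cons.mp hr with rfl | hr
        · exact hxI
        · exact hmem r hr
      · exact (isWeaklyRegular_cons_iff M x rs).mpr ⟨hx, hreg⟩
    · rintro ⟨rs, hlen, hmem, hreg⟩
      obtain ⟨rs', hlen', hmem', hreg'⟩ := exists_isRegular_quotSMulTop I M hI hxI hx n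
        ⟨rs, hlen, hmem, isRegular_of_isWeaklyRegular_of_mem hI hmem hreg⟩
      exact ⟨rs', hlen', hmem', hreg'.toIsWeaklyRegular⟩


/-- `dim R/p ≤ dim Supp N` when `p` lies in the support of `N`. -/
lemma ringKrullDim_quotient_le_supportDim {N : Type v} [AddCommGroup N] [Module R N]
    (p : PrimeSpectrum R) (hp : p ∈ Module.support R N) :
    ringKrullDim (R ⧸ p.asIdeal) ≤ Module.supportDim R N := by
  rw [ringKrullDim_quotient]
  refine Order.krullDim_le_of_strictMono
    (fun q => (⟨q.1, Module.mem_support_mono ?_ hp⟩ : Module.support R N)) ?_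
  · have := q.2
    rw [PrimeSpectrum.mem_zeroLocus] at this
    exact this
  · intro a b hab
    exact hab

/-- Associated primes of a finite module lie in its support. -/
lemma mem_support_of_mem_associatedPrimes {N : Type v} [AddCommGroup N] [Module R N]
    [Module.Finite R N] {p : Ideal R} (hp : p ∈ associatedPrimes R N) :
    (⟨p, hp.isPrime⟩ : PrimeSpectrum R) ∈ Module.support R N := by
  rw [Module.support_eq_zeroLocus, PrimeSpectrum.mem_zeroLocus]
  have := IsAssociatedPrime.annihilator_le hp
  rwa [Submodule.annihilator_top] at this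

section LocalRing

variable [IsLocalRing R]

open IsLocalRing

/-- Nakayama: `𝔪 M ≠ M` for a nontrivial finite module over a local ring. -/
lemma maximalIdeal_smul_top_ne_top (M : Type v) [AddCommGroup M] [Module R M]
    [Module.Finite R M] [Nontrivial M] :
    maximalIdeal R • (⊤ : Submodule R M) ≠ ⊤ := by
  intro h
  have := Submodule.eq_bot_of_le_smul_of_le_jacobson_bot (maximalIdeal R)
    (⊤ : Submodule R M) Module.Finite.fg_top h.ge
    (IsLocalRing.jacobson_eq_maximalIdeal _ bot_ne_top).ge
  exact top_ne_bot this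

/-- Characterization of `n ≤ depth R M`. -/
lemma natCast_le_depth_iff (M : Type v) [AddCommGroup M] [Module R M]
    [Module.Finite R M] [Nontrivial M] (n : ℕ) :
    (n : ℕ∞) ≤ LocCoh.depth R M ↔
      ∃ rs : List R, rs.length = n ∧ (∀ r ∈ rs, r ∈ maximalIdeal R) ∧ IsWeaklyRegular M rs :=
  natCast_le_idealDepth_iff _ M (maximalIdeal_smul_top_ne_top M) n

/-- **Depth drops by exactly one modulo a regular element of the maximal ideal.** -/
theorem depth_quotSMulTop_add_one [Small.{v} R] [IsNoetherianRing R]
    (M : Type v) [AddCommGroup M] [Module R M] [Module.Finite R M] [Nontrivial M]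
    {x : R} (hxm : x ∈ maximalIdeal R) (hx : IsSMulRegular M x) :
    LocCoh.depth R (QuotSMulTop x M) + 1 = LocCoh.depth R M :=
  idealDepth_quotSMulTop_add_one _ M (maximalIdeal_smul_top_ne_top M) hxm hx

/-- The depth of a nontrivial finite module is at most the dimension of its support. -/
theorem depth_le_supportDim [IsNoetherianRing R]
    (M : Type v) [AddCommGroup M] [Module R M] [Module.Finite R M] [Nontrivial M] :
    ((LocCoh.depth R M : ℕ∞) : WithBot ℕ∞) ≤ Module.supportDim R M := by
  have hI := maximalIdeal_smul_top_ne_top (R := R) M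
  have hne : Module.supportDim R M ≠ ⊥ := Module.supportDim_ne_bot_of_nontrivial R M
  obtain ⟨d, hd⟩ := WithBot.ne_bot_iff_exists.mp hne
  rw [← hd, WithBot.coe_le_coe]
  refine ENat.forall_natCast_le_iff_le.mp fun n hn => ?_
  obtain ⟨rs, rfl, hmem, hreg⟩ := (natCast_le_depth_iff M n).mp hn
  have hreg' := isRegular_of_isWeaklyRegular_of_mem hI hmem hreg
  have key := Module.supportDim_add_length_eq_supportDim_of_isRegular rs hreg'
  have hnt : Nontrivial (M ⧸ Ideal.ofList rs • (⊤ : Submodule R M)) :=
    Submodule.Quotient.nontrivial_iff.mpr hreg'.2.symm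
  have hne' : Module.supportDim R (M ⧸ Ideal.ofList rs • (⊤ : Submodule R M)) ≠ ⊥ :=
    Module.supportDim_ne_bot_of_nontrivial R _
  obtain ⟨e, he⟩ := WithBot.ne_bot_iff_exists.mp hne'
  rw [← he, ← hd] at key
  have key' : e + (rs.length : ℕ∞) = d := by exact_mod_cast key
  rw [← key']
  exact le_add_self

/-- The depth of a nontrivial finite module over a Noetherian local ring is finite. -/
theorem depth_ne_top [IsNoetherianRing R]
    (M : Type v) [AddCommGroup M] [Module R M] [Module.Finite R M] [Nontrivial M] :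
    LocCoh.depth R M ≠ ⊤ := by
  intro h
  have h1 := depth_le_supportDim (R := R) M
  have h2 := Module.supportDim_le_ringKrullDim R M
  have h3 : ringKrullDim R < ⊤ := ringKrullDim_lt_top
  rw [h] at h1
  have := lt_of_le_of_lt (h1.trans h2) h3
  simp at this

end LocalRing

end Groth.Agent.Lib.DepthRees
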