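import Mathlib.Algebra.Homology.HomotopyCategory.MappingCone
import Mathlib.Algebra.Homology.Linear

/-!
# helper78: scalar multiplication on the mapping cone of a scalar multiplication is null-homotopic
(namespace `Groth.Agent.Lib.H78ConeHomotopy`)

For an `R`-linear category, a cochain complex `K` and `f : R`:
* `homotopySelf`: `f • 𝟙` on `mappingCone (f • 𝟙 K)` is homotopic to zero;
* `homotopyOfHomotopy`: if `b • 𝟙 K` is homotopic to zero then so is `b • 𝟙` on `mappingCone (f • 𝟙 K)`.
These give: every element of the ideal `(x₁, …, xₙ)` acts null-homotopically on the Koszul complex built by iterated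
mapping cones.
-/

set_option autoImplicit false
universe v u
open CategoryTheory Limits CochainComplex HomComplex

namespace Groth.Agent.Lib.H78ConeHomotopy

variable {C : Type u} [Category.{v} C] [Preadditive C] [HasBinaryBiproducts C]
  {R : Type*} [CommRing R] [Linear R C]

omit [HasBinaryBiproducts C] in
lemma ofHom_smul {F G : CochainComplex C ℤ} (a : R) (g : F ⟶ G) :
    Cochain.ofHom (a • g) = a • Cochain.ofHom g := by
  ext p
  simp

variable (K : CochainComplex C ℤ) (f : R)

/-- multiplication by `f` on the cone of `f • 𝟙 K` is null-homotopic -/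
noncomputable def homotopySelf :
    Homotopy (f • 𝟙 (mappingCone (f • 𝟙 K))) 0 := by
  refine mappingCone.descHomotopy (f • 𝟙 K) _ _ 0 (mappingCone.inl (f • 𝟙 K)) ?_ ?_
  · rw [δ_zero, zero_add, Cochain.ofHom_zero, Cochain.comp_zero, add_zero, ofHom_smul, ofHom_smul,
      Cochain.comp_smul, Cochain.smul_comp, Cochain.comp_id, Cochain.id_comp]
  · rw [mappingCone.δ_inl, Linear.comp_smul, Category.comp_id, comp_zero, Cochain.ofHom_zero, add_zero,
      Linear.smul_comp, Category.id_comp]

variable {K} in
/-- if `b • 𝟙 K` is null-homotopic, so is `b • 𝟙` on the cone of `f • 𝟙 K` -/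
noncomputable def homotopyOfHomotopy (b : R) (h : Homotopy (b • 𝟙 K) 0) :
    Homotopy (b • 𝟙 (mappingCone (f • 𝟙 K))) 0 := by
  have hz : δ (-1) 0 (Cochain.ofHomotopy h) = b • Cochain.ofHom (𝟙 K) := by
    rw [δ_ofHomotopy, Cochain.ofHom_zero, sub_zero, ofHom_smul]
  refine mappingCone.descHomotopy (f • 𝟙 K) _ _
    (-((Cochain.ofHomotopy h).comp (mappingCone.inl (f • 𝟙 K)) (by norm_num : (-1 : ℤ) + (-1) = -2)))
    ((Cochain.ofHomotopy h).comp (Cochain.ofHom (mappingCone.inr (f • 𝟙 K))) (add_zero (-1))) ?_ ?_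
  · rw [δ_neg, δ_comp (Cochain.ofHomotopy h) (mappingCone.inl (f • 𝟙 K)) (by norm_num : (-1 : ℤ) + (-1) = -2)
      0 0 (-1) (by norm_num) (by norm_num) (by norm_num), hz, mappingCone.δ_inl]
    rw [Linear.smul_comp, Category.id_comp, ofHom_smul, ofHom_smul, ofHom_smul, Cochain.comp_smul, Cochain.comp_smul,
      Cochain.smul_comp, Cochain.smul_comp, Cochain.id_comp, Cochain.id_comp, Cochain.comp_id, Cochain.ofHom_zero,
      Cochain.comp_zero, add_zero]
    simp
  · rw [δ_comp_ofHom, hz, comp_zero, Cochain.ofHom_zero, add_zero, Linear.comp_smul, Category.comp_id,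
      ofHom_smul, Cochain.smul_comp, Cochain.id_comp]

end Groth.Agent.Lib.H78ConeHomotopy
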