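import Groth.Agent.Lib.KoszulElem2
import Groth.Agent.Lib.DepthRees
import Groth.Agent.S14433
import Mathlib.Algebra.Homology.HomologySequence
import Mathlib.RingTheory.Ideal.AssociatedPrime.Finiteness

/-!
# Depth sensitivity of the Koszul complex (helper19)

For a Noetherian local ring `R`, a nonzero finite module `M` and `xs ⊆ 𝔪` generating `𝔞`:
`H^p(xs; M) = 0` for `p < depth(𝔞, M)` and `H^r(xs; M) ≠ 0` for `r = depth(𝔞, M)`.
-/

universe u

open CategoryTheory CategoryTheory.Limits CochainComplex HomologicalComplex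
open scoped Pointwise

namespace Groth.Agent.Lib.KoszulDepth

open Groth.Agent.Lib.KoszulCone Groth.Agent.Lib.KoszulElem CohIII RingTheory.Sequence

variable {R : Type u} [CommRing R]

theorem kcx_eq (M : ModuleCat.{u} R) : ∀ fs : List R, kcx M fs = koszulCx M fs
  | [] => rfl
  | f :: fs => by
    show CochainComplex.mappingCone (f • 𝟙 (kcx M fs)) =
      CochainComplex.mappingCone (f • 𝟙 (koszulCx M fs))
    rw [kcx_eq M fs]

theorem isZero_homology_of_eq (K : CochainComplex (ModuleCat.{u} R) ℤ) (i j : ℤ) (h : i = j)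
    (hi : IsZero (K.homology i)) : IsZero (K.homology j) := by
  subst h; exact hi

theorem isZero_homology_of_subsingleton (K : CochainComplex (ModuleCat.{u} R) ℤ) (j : ℤ)
    (hs : Subsingleton (K.X j)) : IsZero (K.homology j) := by
  have h0 : IsZero (K.X j) := ModuleCat.isZero_of_subsingleton _
  exact ShortComplex.isZero_homology_of_isZero_X₂ (K.sc j) h0

/-- elements of the ideal generated by `xs` act as zero on Koszul cohomology -/
theorem homologyMap_smul_eq_zero (M : Type u) [AddCommGroup M] [Module R M] (xs : List R) (y : R)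
    (hy : y ∈ Ideal.span {x | x ∈ xs}) (j : ℤ) :
    HomologicalComplex.homologyMap (y • 𝟙 (koszulCx (ModuleCat.of R M) xs)) j = 0 := by
  obtain ⟨h⟩ := Groth.Agent.S14433.result M xs y hy
  rw [h.homologyMap_eq j, HomologicalComplex.homologyMap_zero]

/-- the short exact sequence of Koszul complexes attached to a regular element -/
theorem exists_shortExact (M : Type u) [AddCommGroup M] [Module R M] (y : R)
    (hy : IsSMulRegular M y) (xs : List R) :
    ∃ (p : koszulCx (ModuleCat.of R M) xs ⟶ koszulCx (ModuleCat.of R (QuotSMulTop y M)) xs)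
      (w : (y • 𝟙 (koszulCx (ModuleCat.of R M) xs)) ≫ p = 0),
      (ShortComplex.mk (y • 𝟙 (koszulCx (ModuleCat.of R M) xs)) p w).ShortExact := by
  rw [← kcx_eq, ← kcx_eq]
  have h := kmap_degExact (sesSmul M y) (sesSmul_shortExact M y hy) xs
  have e : kmap (sesSmul M y).f xs = y • 𝟙 (kcx (ModuleCat.of R M) xs) :=
    kmap_smul_id (ModuleCat.of R M) y xs
  rw [e] at h
  obtain ⟨w, hw⟩ := DegExact.shortExact _ _ h
  exact ⟨_, w, hw⟩

/-- vanishing step: `H^j(M/yM) = 0 ⇒ H^{j+1}(M) = 0` for `y ∈ (xs)` regular on `M` -/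
theorem isZero_homology_succ (M : Type u) [AddCommGroup M] [Module R M] (y : R)
    (hy : IsSMulRegular M y) (xs : List R) (hya : y ∈ Ideal.span {x | x ∈ xs}) (j k : ℤ)
    (hjk : j + 1 = k)
    (h : IsZero ((koszulCx (ModuleCat.of R (QuotSMulTop y M)) xs).homology j)) :
    IsZero ((koszulCx (ModuleCat.of R M) xs).homology k) := by
  obtain ⟨p, w, hS⟩ := exists_shortExact M y hy xs
  have hex := hS.homology_exact₁ j k (by simpa using hjk)
  exact hex.isZero_X₂ (h.eq_of_src _ _) (homologyMap_smul_eq_zero M xs y hya k)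

/-- nonvanishing step: `H^j(M) = 0` and `H^j(M/yM) ≠ 0 ⇒ H^{j+1}(M) ≠ 0` -/
theorem not_isZero_homology_succ (M : Type u) [AddCommGroup M] [Module R M] (y : R)
    (hy : IsSMulRegular M y) (xs : List R) (j k : ℤ) (hjk : j + 1 = k)
    (h0 : IsZero ((koszulCx (ModuleCat.of R M) xs).homology j))
    (h : ¬ IsZero ((koszulCx (ModuleCat.of R (QuotSMulTop y M)) xs).homology j)) :
    ¬ IsZero ((koszulCx (ModuleCat.of R M) xs).homology k) := by
  intro hk
  obtain ⟨p, w, hS⟩ := exists_shortExact M y hy xs
  have hex := hS.homology_exact₃ j k (by simpa using hjk)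
  exact h (hex.isZero_X₂ (h0.eq_of_src _ _) (hk.eq_of_tgt _ _))

/-- a regular sequence of length `r` inside `(xs)` forces `H^p(xs; M) = 0` for `p < r` -/
theorem isZero_koszulH_of_isWeaklyRegular (xs : List R) : ∀ (r : ℕ) (M : Type u) [AddCommGroup M]
    [Module R M] (rs : List R), rs.length = r → (∀ y ∈ rs, y ∈ Ideal.span {x | x ∈ xs}) →
    IsWeaklyRegular M rs → ∀ p : ℕ, p < r → IsZero (koszulH xs (ModuleCat.of R M) p)
  | 0, _, _, _, _, _, _, _, p, hp => absurd hp (Nat.not_lt_zero p)
  | r + 1, M, _, _, rs, hlen, hmem, hreg, p, hp => by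
    match rs, hlen, hmem, hreg with
    | [], hlen, _, _ => simp at hlen
    | y :: rs', hlen, hmem, hreg =>
      rw [isWeaklyRegular_cons_iff] at hreg
      have ih := isZero_koszulH_of_isWeaklyRegular xs r (QuotSMulTop y M) rs' (by simpa using hlen)
        (fun z hz => hmem z (List.mem_cons_of_mem _ hz)) hreg.2
      refine isZero_homology_succ M y hreg.1 xs (hmem y List.mem_cons_self)
        ((p : ℤ) - xs.length - 1) _ (by ring) ?_
      rcases Nat.eq_zero_or_pos p with rfl | hpos
      · have hs : Subsingleton ((koszulCx (ModuleCat.of R (QuotSMulTop y M)) xs).X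
            (((0 : ℕ) : ℤ) - xs.length - 1)) :=
          subsingleton_X _ xs _ (Or.inl (by push_cast; omega))
        exact isZero_homology_of_subsingleton _ _ hs
      · have h1 := ih (p - 1) (by omega)
        have e : ((p - 1 : ℕ) : ℤ) - xs.length = (p : ℤ) - xs.length - 1 := by
          rw [Nat.cast_sub hpos]; ring
        exact isZero_homology_of_eq _ _ _ e h1

/-- a cycle with zero class is a boundary -/
theorem exists_boundary_of_homologyπ_eq_zero (K : CochainComplex (ModuleCat.{u} R) ℤ) (i j : ℤ)
    (hij : i + 1 = j) (c : K.cycles j) (h : K.homologyπ j c = 0) :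
    ∃ w : K.X i, K.iCycles j c = K.d i j w := by
  have hcok := K.homologyIsCokernel i j (by simp; omega)
  have hex : (ShortComplex.mk (K.toCycles i j) (K.homologyπ j)
      (K.toCycles_comp_homologyπ i j)).Exact := ShortComplex.exact_of_g_is_cokernel _ hcok
  rw [ShortComplex.moduleCat_exact_iff] at hex
  obtain ⟨w, hw⟩ := hex c h
  refine ⟨w, ?_⟩
  have h2 := ConcreteCategory.congr_hom (K.toCycles_i i j) w
  rw [ConcreteCategory.comp_apply] at h2
  rw [← h2]
  exact congrArg _ hw.symm

/-- a nonzero element killed by `xs` gives a nonzero class in the bottom Koszul cohomology -/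
theorem not_isZero_homology_bot (M : ModuleCat.{u} R) (xs : List R) (j : ℤ)
    (hj : j = -(xs.length : ℤ)) (m : M) (hm : m ≠ 0) (hkill : ∀ x ∈ xs, x • m = 0) :
    ¬ IsZero ((koszulCx M xs).homology j) := by
  intro hZ
  obtain ⟨z, hz⟩ := (bot_bijective M xs j hj).2 m
  have hdz : (koszulCx M xs).d j (j + 1) z = 0 := by
    rw [bot_d_eq_zero_iff M xs j hj z, hz]
    exact hkill
  obtain ⟨c, hc⟩ := exists_cycle_of_d_eq_zero (koszulCx M xs) j (j + 1) rfl z hdz
  have hπ : (koszulCx M xs).homologyπ j c = 0 :=
    (ModuleCat.subsingleton_of_isZero hZ).elim _ _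
  obtain ⟨w, hw⟩ := exists_boundary_of_homologyπ_eq_zero (koszulCx M xs) (j - 1) j (by ring) c hπ
  have hs : Subsingleton ((koszulCx M xs).X (j - 1)) :=
    subsingleton_X M xs (j - 1) (Or.inl (by omega))
  rw [Subsingleton.elim w 0, map_zero, hc] at hw
  apply hm
  rw [← hz, hw, map_zero]

section depth

variable [IsNoetherianRing R]

/-- if every element of `𝔞` is a zero divisor on `M`, some nonzero element of `M` is killed by `𝔞` -/
theorem exists_ne_zero_smul_eq_zero (M : Type u) [AddCommGroup M] [Module R M] [Module.Finite R M]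
    (a : Ideal R) (h : ∀ y ∈ a, ¬ IsSMulRegular M y) :
    ∃ m : M, m ≠ 0 ∧ ∀ y ∈ a, y • m = 0 := by
  classical
  have hsub : (a : Set R) ⊆ ⋃ p ∈ ((associatedPrimes.finite R M).toFinset : Set (Ideal R)),
      (p : Set R) := by
    intro y hy
    have h1 := h y hy
    rw [isSMulRegular_iff_right_eq_zero_of_smul] at h1
    push Not at h1
    obtain ⟨x, hx, hx0⟩ := h1
    have h2 : y ∈ ⋃ p ∈ associatedPrimes R M, (p : Set R) := by
      rw [biUnion_associatedPrimes_eq_zero_divisors]
      exact ⟨x, hx0, hx⟩
    simpa using h2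
  obtain ⟨p, hp, hap⟩ := (Ideal.subset_union_prime (f := fun p : Ideal R => p) ⊥ ⊥
    (fun i hi _ _ => by
      have : i ∈ associatedPrimes R M := by simpa using hi
      exact this.isPrime)).mp hsub
  have hpA : p ∈ associatedPrimes R M := by simpa using hp
  obtain ⟨hprime, x, hx⟩ := isAssociatedPrime_iff.mp hpA
  refine ⟨x, ?_, ?_⟩
  · rintro rfl
    apply hprime.ne_top
    rw [hx, eq_top_iff]
    intro r _
    rw [Submodule.mem_colon_singleton, smul_zero]
    exact Submodule.zero_mem _
  · intro y hy
    have := hap hy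
    rw [hx, Submodule.mem_colon_singleton] at this
    simpa using this

variable [IsLocalRing R]

theorem smul_top_ne_top (M : Type u) [AddCommGroup M] [Module R M] [Module.Finite R M]
    [Nontrivial M] (a : Ideal R) (ha : a ≤ IsLocalRing.maximalIdeal R) :
    a • (⊤ : Submodule R M) ≠ ⊤ := by
  intro h
  apply DepthRees.maximalIdeal_smul_top_ne_top (R := R) M
  have : (⊤ : Submodule R M) ≤ IsLocalRing.maximalIdeal R • (⊤ : Submodule R M) := by
    calc (⊤ : Submodule R M) = a • (⊤ : Submodule R M) := h.symm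
      _ ≤ IsLocalRing.maximalIdeal R • (⊤ : Submodule R M) := Submodule.smul_mono_left ha
  exact eq_top_iff.mpr this

theorem nontrivial_quotSMulTop (M : Type u) [AddCommGroup M] [Module R M] [Module.Finite R M]
    [Nontrivial M] (y : R) (hy : y ∈ IsLocalRing.maximalIdeal R) : Nontrivial (QuotSMulTop y M) := by
  have hne : y • (⊤ : Submodule R M) ≠ ⊤ := by
    intro h
    apply smul_top_ne_top M (Ideal.span {y}) ((Ideal.span_singleton_le_iff_mem _).mpr hy)
    rw [Submodule.ideal_span_singleton_smul]
    exact h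
  exact Submodule.Quotient.nontrivial_iff.mpr hne

/-- nonvanishing of Koszul cohomology in degree `depth(𝔞, M)` -/
theorem not_isZero_koszulH_depth (xs : List R) (hxs : ∀ x ∈ xs, x ∈ IsLocalRing.maximalIdeal R) :
    ∀ (r : ℕ) (M : Type u) [AddCommGroup M] [Module R M] [Module.Finite R M] [Nontrivial M],
      LocCoh.idealDepth (Ideal.span {x | x ∈ xs}) M = r →
      ¬ IsZero (koszulH xs (ModuleCat.of R M) r)
  | 0, M, _, _, _, _, hd => by
    have ha : Ideal.span {x | x ∈ xs} ≤ IsLocalRing.maximalIdeal R := by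
      rw [Ideal.span_le]; exact fun x hx => hxs x hx
    have hI := smul_top_ne_top M _ ha
    have hzd : ∀ y ∈ Ideal.span {x | x ∈ xs}, ¬ IsSMulRegular M y := by
      intro y hy hreg
      have h1 : ((1 : ℕ) : ℕ∞) ≤ LocCoh.idealDepth (Ideal.span {x | x ∈ xs}) M := by
        rw [DepthRees.natCast_le_idealDepth_iff _ _ hI]
        refine ⟨[y], rfl, by simpa using hy, ?_⟩
        rw [isWeaklyRegular_cons_iff]
        exact ⟨hreg, IsWeaklyRegular.nil R _⟩
      rw [hd] at h1
      exact absurd h1 (by norm_num)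
    obtain ⟨m, hm, hkill⟩ := exists_ne_zero_smul_eq_zero M _ hzd
    exact not_isZero_homology_bot (ModuleCat.of R M) xs _ (by simp) m hm
      (fun x hx => hkill x (Ideal.subset_span hx))
  | r + 1, M, _, _, _, _, hd => by
    have ha : Ideal.span {x | x ∈ xs} ≤ IsLocalRing.maximalIdeal R := by
      rw [Ideal.span_le]; exact fun x hx => hxs x hx
    have hI := smul_top_ne_top M _ ha
    have h1 : ((r + 1 : ℕ) : ℕ∞) ≤ LocCoh.idealDepth (Ideal.span {x | x ∈ xs}) M := by
      rw [hd]
    obtain ⟨rs, hlen, hmem, hreg⟩ := (DepthRees.natCast_le_idealDepth_iff _ _ hI _).mp h1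
    match rs, hlen, hmem, hreg with
    | [], hlen, _, _ => simp at hlen
    | y :: rs', hlen, hmem, hreg =>
      have hreg' := (isWeaklyRegular_cons_iff M y rs').mp hreg
      have hya := hmem y List.mem_cons_self
      have : Nontrivial (QuotSMulTop y M) := nontrivial_quotSMulTop M y (ha hya)
      have hdq := DepthRees.idealDepth_quotSMulTop_add_one (Ideal.span {x | x ∈ xs}) M hI hya
        hreg'.1
      have hdq' : LocCoh.idealDepth (Ideal.span {x | x ∈ xs}) (QuotSMulTop y M) = r := by
        rw [hd] at hdq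
        generalize LocCoh.idealDepth (Ideal.span {x | x ∈ xs}) (QuotSMulTop y M) = d at hdq
        induction d using ENat.recTopCoe with
        | top =>
          rw [top_add] at hdq
          exact absurd hdq (ENat.top_ne_natCast _)
        | coe d =>
          have : d + 1 = r + 1 := by exact_mod_cast hdq
          have : d = r := by omega
          rw [this]
      have ih := not_isZero_koszulH_depth xs hxs r (QuotSMulTop y M) hdq'
      have hv := isZero_koszulH_of_isWeaklyRegular xs (r + 1) M (y :: rs') hlen hmem hreg r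
        (Nat.lt_succ_self r)
      refine not_isZero_homology_succ M y hreg'.1 xs ((r : ℤ) - xs.length) _ ?_ hv ih
      push_cast; ring

end depth

end Groth.Agent.Lib.KoszulDepth
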