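import Groth.Agent.Lib.KoszulLim9
import Groth.Agent.Lib.KoszulDepth
import Mathlib

/-!
# More on the direct-limit Koszul cohomology `CohIII.koszulHLim` (helper9)

* functor laws: `kmapP_id`, `kmapP_comp`, `kmapP_smul_id`, `Kmap_id`, `Kmap_comp`,
  `Kmap_bijective_of_isIso`; `exact₂`.
* vanishing: `subsingleton_of_bijective` (some `f ∈ fs` bijective on `N`),
  `subsingleton_of_subsingleton`, `subsingleton_pi` (finite products), `subsingleton_of_torsion`
  (power-torsion modules, degrees `> 0`), `subsingleton_zero_of_torsionSub_eq_bot`, `equivOfTorsion`.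
* `transform`: the ideal-transform description: for `ρ : M → N'`, `N' ↪ ∏ N_i` with `f_i` bijective on
  `N_i`, a gluing condition, `ker ρ` torsion and `coker ρ` torsion:
  `ker ρ ≃ koszulHLim fs M 0` and `N'/range ρ ≃ koszulHLim fs M 1`.
-/

set_option autoImplicit false
universe u

open CategoryTheory CategoryTheory.Limits CochainComplex HomologicalComplex

namespace Groth.Agent.Lib.KoszulLim9

open Groth.Agent.Lib.KoszulCone Groth.Agent.Lib.KoszulElem CohIII

section bpart1

variable {A : Type u} [CommRing A]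

section functor

theorem kmapP_id_apply (M : ModuleCat.{u} A) :
    ∀ (fs : List A) (j : ℤ) (z : (koszulCx M fs).X j), (kmapP (𝟙 M) fs).f j z = z
  | [], j, z => by
    show ((HomologicalComplex.single (ModuleCat.{u} A) (ComplexShape.up ℤ) 0).map (𝟙 M)).f j z = z
    rw [CategoryTheory.Functor.map_id]
    simp
  | f :: fs, j, z => by
    rw [kmapP_cons_apply, kmapP_id_apply M fs, kmapP_id_apply M fs]
    exact mkE_fstE_sndE _ j z

theorem kmapP_comp_apply {M N P : ModuleCat.{u} A} (φ : M ⟶ N) (ψ : N ⟶ P) :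
    ∀ (fs : List A) (j : ℤ) (z : (koszulCx M fs).X j),
      (kmapP (φ ≫ ψ) fs).f j z = (kmapP ψ fs).f j ((kmapP φ fs).f j z)
  | [], j, z => by
    show ((HomologicalComplex.single (ModuleCat.{u} A) (ComplexShape.up ℤ) 0).map (φ ≫ ψ)).f j z = _
    rw [CategoryTheory.Functor.map_comp]
    simp
    rfl
  | f :: fs, j, z => by
    rw [kmapP_cons_apply, kmapP_cons_apply, kmapP_cons_apply, fstE_mkE, sndE_mkE,
      kmapP_comp_apply φ ψ fs, kmapP_comp_apply φ ψ fs]

theorem kmapP_id (M : ModuleCat.{u} A) (fs : List A) : kmapP (𝟙 M) fs = 𝟙 _ := by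
  ext j : 1
  apply ModuleCat.hom_ext
  ext z
  rw [kmapP_id_apply]
  simp

theorem kmapP_comp {M N P : ModuleCat.{u} A} (φ : M ⟶ N) (ψ : N ⟶ P) (fs : List A) :
    kmapP (φ ≫ ψ) fs = kmapP φ fs ≫ kmapP ψ fs := by
  ext j : 1
  apply ModuleCat.hom_ext
  ext z
  rw [kmapP_comp_apply]
  simp

theorem kmapP_smul_id (M : ModuleCat.{u} A) (a : A) :
    ∀ fs : List A, kmapP (a • 𝟙 M) fs = a • 𝟙 (koszulCx M fs)
  | [] => by
    apply HomologicalComplex.from_single_hom_ext
    simp only [kmapP]
    rw [HomologicalComplex.single_map_f_self]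
    simp [Linear.smul_comp, Linear.comp_smul]
    rfl
  | g :: fs => by
    have ih := kmapP_smul_id M a fs
    simp only [kmapP, ih]
    exact cone_map_smul g a

end functor

end bpart1

section bpart2

variable {A : Type u} [CommRing A] (fs : List A)

section functorLim

theorem Kmap_id (M : ModuleCat.{u} A) (p : ℕ) (x : koszulHLim fs M p) :
    Kmap fs (𝟙 M) p x = x := by
  unfold koszulHLim at x
  obtain ⟨n, x, rfl⟩ := Module.DirectLimit.exists_of x
  rw [Kmap_of, kmapP_id, HomologicalComplex.homologyMap_id]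
  rfl

theorem Kmap_comp {M N P : ModuleCat.{u} A} (φ : M ⟶ N) (ψ : N ⟶ P) (p : ℕ)
    (x : koszulHLim fs M p) : Kmap fs (φ ≫ ψ) p x = Kmap fs ψ p (Kmap fs φ p x) := by
  unfold koszulHLim at x
  obtain ⟨n, x, rfl⟩ := Module.DirectLimit.exists_of x
  rw [Kmap_of, Kmap_of, Kmap_of, kmapP_comp, HomologicalComplex.homologyMap_comp]
  rfl

theorem exact₂ (S : ShortComplex (ModuleCat.{u} A)) (hS : S.ShortExact) (p : ℕ) :
    Function.Exact (Kmap fs S.f p) (Kmap fs S.g p) := by
  apply directLimit_map_exact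
  intro n
  have := (SC_shortExact S hS (fs.map (· ^ n))).homology_exact₂ ((p : ℤ) - fs.length)
  exact (ShortComplex.ShortExact.moduleCat_exact_iff_function_exact _).mp this

/-- a linear equivalence induces a bijection on `koszulHLim`. -/
theorem Kmap_bijective_of_isIso {M N : ModuleCat.{u} A} (φ : M ⟶ N) [IsIso φ] (p : ℕ) :
    Function.Bijective (Kmap fs φ p) := by
  constructor
  · intro x y h
    have := congrArg (Kmap fs (inv φ) p) h
    rwa [← Kmap_comp, ← Kmap_comp, IsIso.hom_inv_id, Kmap_id, Kmap_id] at this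
  · intro y
    refine ⟨Kmap fs (inv φ) p y, ?_⟩
    rw [← Kmap_comp, IsIso.inv_hom_id, Kmap_id]

end functorLim

section unit

theorem pow_smul_bijective (N : Type u) [AddCommGroup N] [Module A N] (f : A)
    (hb : Function.Bijective (fun x : N => f • x)) (n : ℕ) :
    Function.Bijective (fun x : N => f ^ n • x) := by
  induction n with
  | zero =>
    have : (fun x : N => f ^ 0 • x) = id := by ext x; simp
    rw [this]; exact Function.bijective_id
  | succ k ih =>
    have : (fun x : N => f ^ (k + 1) • x) = (fun x : N => f ^ k • x) ∘ (fun x : N => f • x) := by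
      ext x; simp [pow_succ, mul_smul]
    rw [this]; exact ih.comp hb

/-- Lemma U: if some member of `fs` acts bijectively on `N`, then `koszulHLim fs N p = 0`. -/
theorem subsingleton_of_bijective (N : Type u) [AddCommGroup N] [Module A N] (f : A) (hf : f ∈ fs)
    (hb : Function.Bijective (fun x : N => f • x)) (p : ℕ) :
    Subsingleton (koszulHLim fs (ModuleCat.of A N) p) := by
  refine ⟨fun x y => ?_⟩
  suffices h : ∀ x : koszulHLim fs (ModuleCat.of A N) p, x = 0 from (h x).trans (h y).symm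
  intro x
  unfold koszulHLim at x ⊢
  obtain ⟨n, x, rfl⟩ := Module.DirectLimit.exists_of x
  -- the iso `f^n : N ≅ N`
  have hbn : Function.Bijective (fun x : N => f ^ n • x) := pow_smul_bijective N f hb n
  let e : N ≃ₗ[A] N := LinearEquiv.ofBijective (LinearMap.lsmul A N (f ^ n)) hbn
  let u : ModuleCat.of A N ≅ ModuleCat.of A N := e.toModuleIso
  have hu : u.hom = (f ^ n) • 𝟙 (ModuleCat.of A N) := by
    apply ModuleCat.hom_ext
    ext z
    rfl
  have h1 : HomologicalComplex.homologyMap (kmapP u.hom (fs.map (· ^ n))) ((p : ℤ) - fs.length) = 0 := by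
    rw [hu, kmapP_smul_id]
    exact Groth.Agent.Lib.KoszulDepth.homologyMap_smul_eq_zero N (fs.map (· ^ n)) (f ^ n)
      (Ideal.subset_span (s := {a : A | a ∈ fs.map (· ^ n)}) (List.mem_map.mpr ⟨f, hf, rfl⟩)) _
  have h2 : x = (HomologicalComplex.homologyMap (kmapP u.inv (fs.map (· ^ n))) ((p : ℤ) - fs.length)).hom
      ((HomologicalComplex.homologyMap (kmapP u.hom (fs.map (· ^ n))) ((p : ℤ) - fs.length)).hom x) := by
    rw [← LinearMap.comp_apply, ← ModuleCat.hom_comp, ← HomologicalComplex.homologyMap_comp,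
      ← kmapP_comp, u.hom_inv_id, kmapP_id, HomologicalComplex.homologyMap_id]
    rfl
  rw [h2, h1]
  simp

end unit

end bpart2

section bpart3

variable {A : Type u} [CommRing A] (fs : List A)

theorem subsingleton_of_subsingleton (N : Type u) [AddCommGroup N] [Module A N] [Subsingleton N]
    (p : ℕ) : Subsingleton (koszulHLim fs (ModuleCat.of A N) p) := by
  refine ⟨fun x y => ?_⟩
  suffices h : ∀ x : koszulHLim fs (ModuleCat.of A N) p, x = 0 from (h x).trans (h y).symm
  intro x
  have h1 : 𝟙 (ModuleCat.of A N) = (0 : A) • 𝟙 (ModuleCat.of A N) := by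
    apply ModuleCat.hom_ext
    ext z
    exact Subsingleton.elim _ _
  have h2 := Kmap_id fs (ModuleCat.of A N) p x
  rw [← h2]
  unfold koszulHLim at x
  obtain ⟨n, x, rfl⟩ := Module.DirectLimit.exists_of x
  rw [Kmap_of, h1, kmapP_smul_id, zero_smul, HomologicalComplex.homologyMap_zero]
  simp
  rfl

/-- short exact sequence from linear maps. -/
theorem exact₂' {M₁ M₂ M₃ : Type u} [AddCommGroup M₁] [Module A M₁] [AddCommGroup M₂] [Module A M₂]
    [AddCommGroup M₃] [Module A M₃] (f : M₁ →ₗ[A] M₂) (g : M₂ →ₗ[A] M₃)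
    (hf : Function.Injective f) (hfg : Function.Exact f g) (hg : Function.Surjective g) (p : ℕ) :
    Function.Exact (Kmap fs (ModuleCat.ofHom f) p) (Kmap fs (ModuleCat.ofHom g) p) := by
  have hS : (ShortComplex.mk (ModuleCat.ofHom f) (ModuleCat.ofHom g) (by
      ext x; exact hfg.apply_apply_eq_zero x)).ShortExact :=
    ModuleCat.shortComplex_shortExact _ hfg hf hg
  exact exact₂ fs _ hS p

theorem subsingleton_of_exact {M₁ M₂ M₃ : Type u} [AddCommGroup M₁] [Module A M₁]
    [AddCommGroup M₂] [Module A M₂]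
    [AddCommGroup M₃] [Module A M₃] (f : M₁ →ₗ[A] M₂) (g : M₂ →ₗ[A] M₃)
    (hf : Function.Injective f) (hfg : Function.Exact f g) (hg : Function.Surjective g) (p : ℕ)
    (h1 : Subsingleton (koszulHLim fs (ModuleCat.of A M₁) p))
    (h3 : Subsingleton (koszulHLim fs (ModuleCat.of A M₃) p)) :
    Subsingleton (koszulHLim fs (ModuleCat.of A M₂) p) := by
  refine ⟨fun x y => ?_⟩
  suffices h : ∀ x : koszulHLim fs (ModuleCat.of A M₂) p, x = 0 from (h x).trans (h y).symm
  intro x
  obtain ⟨z, rfl⟩ := ((exact₂' fs f g hf hfg hg p) x).mp (Subsingleton.elim _ _)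
  rw [Subsingleton.elim z 0, map_zero]

theorem subsingleton_pi : ∀ (r : ℕ) (N : Fin r → Type u) [∀ i, AddCommGroup (N i)]
    [∀ i, Module A (N i)],
    (∀ i, ∃ f ∈ fs, Function.Bijective (fun x : N i => f • x)) → ∀ p : ℕ,
    Subsingleton (koszulHLim fs (ModuleCat.of A (∀ i, N i)) p)
  | 0, N, _, _, _, p => subsingleton_of_subsingleton fs _ p
  | r + 1, N, _, _, h, p => by
    let π : (∀ i, N i) →ₗ[A] (∀ i : Fin r, N i.succ) :=
      { toFun := fun x i => x i.succ
        map_add' := fun _ _ => rfl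
        map_smul' := fun _ _ => rfl }
    have hπ : Function.Surjective π := fun y => ⟨Fin.cons 0 y, by ext i; simp [π]⟩
    obtain ⟨f, hf, hb⟩ := h 0
    have hL : Function.Bijective (fun x : LinearMap.ker π => f • x) := by
      constructor
      · intro x y hxy
        apply Subtype.ext
        funext i
        refine Fin.cases ?_ (fun j => ?_) i
        · apply hb.1
          exact congrFun (congrArg Subtype.val hxy) 0
        · have hx : π x.1 = 0 := x.2
          have hy : π y.1 = 0 := y.2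
          exact (congrFun hx j).trans (congrFun hy j).symm
      · intro y
        obtain ⟨z, hz⟩ := hb.2 (y.1 0)
        refine ⟨⟨Fin.cons z 0, by ext i; simp [π]⟩, ?_⟩
        apply Subtype.ext
        funext i
        refine Fin.cases ?_ (fun j => ?_) i
        · simpa using hz
        · have hy : π y.1 = 0 := y.2
          have hy0 : y.1 j.succ = 0 := congrFun hy j
          show f • (Fin.cons z 0 : ∀ i, N i) j.succ = y.1 j.succ
          rw [hy0, Fin.cons_succ]
          simp
    have h1 := subsingleton_of_bijective fs (LinearMap.ker π) f hf hL p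
    have h3 := subsingleton_pi r (fun i => N i.succ) (fun i => h i.succ) p
    exact subsingleton_of_exact fs (LinearMap.ker π).subtype π (Submodule.injective_subtype _)
      (LinearMap.exact_subtype_ker_map π) hπ p h1 h3

end bpart3

section bpart4

variable {A : Type u} [CommRing A]

section torsion

theorem fstE_smul {F G : CochainComplex (ModuleCat.{u} A) ℤ} (φ : F ⟶ G) (n : ℤ) (a : A)
    (z : (mappingCone φ).X n) : fstE φ n (a • z) = a • fstE φ n z := by
  simp [fstE]

theorem sndE_smul {F G : CochainComplex (ModuleCat.{u} A) ℤ} (φ : F ⟶ G) (n : ℤ) (a : A)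
    (z : (mappingCone φ).X n) : sndE φ n (a • z) = a • sndE φ n z := by
  simp [sndE]

theorem mkE_zero {F G : CochainComplex (ModuleCat.{u} A) ℤ} (φ : F ⟶ G) (n : ℤ) :
    mkE φ n 0 0 = 0 := (mkE_eq_zero_iff φ n 0 0).mpr ⟨rfl, rfl⟩

variable (T : ModuleCat.{u} A)

/-- elements of the Koszul complex of a `g`-power torsion module are `g`-power torsion. -/
theorem exists_pow_smul_X (g : A) (hT : ∀ t : T, ∃ N : ℕ, g ^ N • t = 0) :
    ∀ (l : List A) (j : ℤ) (z : (koszulCx T l).X j), ∃ N : ℕ, g ^ N • z = 0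
  | [], j, z => by
    by_cases hj : j = 0
    · have hj' : j = -(([] : List A).length : ℤ) := by simpa using hj
      obtain ⟨N, hN⟩ := hT (bot T [] j hj' z)
      refine ⟨N, (bot_bijective T [] j hj').1 ?_⟩
      rw [map_smul, hN, map_zero]
    · have : Subsingleton ((koszulCx T []).X j) :=
        subsingleton_X T [] j (by
          rcases lt_or_gt_of_ne hj with h | h
          · left; simpa using h
          · right; exact h)
      exact ⟨0, Subsingleton.elim _ _⟩
  | f :: l, j, z => by
    obtain ⟨N1, h1⟩ := exists_pow_smul_X g hT l (j + 1) (fstE (f • 𝟙 (koszulCx T l)) j z)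
    obtain ⟨N2, h2⟩ := exists_pow_smul_X g hT l j (sndE (f • 𝟙 (koszulCx T l)) j z)
    refine ⟨N1 + N2, ext_cone (f • 𝟙 (koszulCx T l)) j _ _ ?_ ?_⟩
    · refine ((fstE_smul (f • 𝟙 (koszulCx T l)) j (g ^ (N1 + N2)) z).trans ?_).trans
        (fstE_zero _ j).symm
      rw [pow_add, mul_comm, mul_smul, h1, smul_zero]
    · refine ((sndE_smul (f • 𝟙 (koszulCx T l)) j (g ^ (N1 + N2)) z).trans ?_).trans
        (sndE_zero _ j).symm
      rw [pow_add, mul_smul, h2, smul_zero]

theorem koszulTrans_eq_zero_of_le (n m m' : ℕ) (h : n ≤ m) (h' : m ≤ m') (l : List A) (j : ℤ)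
    (z : (koszulCx T (l.map (· ^ n))).X j) (hz : (koszulTrans T n m h l).f j z = 0) :
    (koszulTrans T n m' (h.trans h') l).f j z = 0 := by
  rw [← koszulTrans_comp_apply T n m m' h h', hz, map_zero]

/-- in Koszul degree `> 0`, every element of the Koszul complex of a torsion module dies under a
transition map. -/
theorem exists_trans_eq_zero :
    ∀ (l : List A) (_ : ∀ g ∈ l, ∀ t : T, ∃ N : ℕ, g ^ N • t = 0) (j : ℤ)
      (_ : -(l.length : ℤ) < j) (n : ℕ) (z : (koszulCx T (l.map (· ^ n))).X j),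
      ∃ (m : ℕ) (h : n ≤ m), (koszulTrans T n m h l).f j z = 0
  | [], _, j, hj, n, z => by
    have : Subsingleton ((koszulCx T (([] : List A).map (· ^ n))).X j) :=
      subsingleton_X T _ j (Or.inr (by simpa using hj))
    exact ⟨n, le_rfl, Subsingleton.elim _ _⟩
  | f :: l, hT, j, hj, n, z => by
    have hTl : ∀ g ∈ l, ∀ t : T, ∃ N : ℕ, g ^ N • t = 0 := fun g hg =>
      hT g (List.mem_cons_of_mem f hg)
    obtain ⟨m1, hm1, h1⟩ := exists_trans_eq_zero l hTl (j + 1)
      (by simp only [List.length_cons] at hj; push_cast at hj; omega) n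
      (fstE (f ^ n • 𝟙 (koszulCx T (l.map (· ^ n)))) j z)
    obtain ⟨N, hN⟩ := exists_pow_smul_X T f (hT f List.mem_cons_self) (l.map (· ^ n)) j
      (sndE (f ^ n • 𝟙 (koszulCx T (l.map (· ^ n)))) j z)
    have hm : n ≤ max m1 (n + N) := le_trans hm1 (le_max_left _ _)
    refine ⟨max m1 (n + N), hm, ?_⟩
    rw [koszulTrans_cons_apply T n _ hm]
    have e1 := koszulTrans_eq_zero_of_le T n m1 (max m1 (n + N)) hm1 (le_max_left _ _) l (j + 1) _ h1
    rw [e1]
    have e2 : f ^ (max m1 (n + N) - n) • (koszulTrans T n (max m1 (n + N)) hm l).f j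
        (sndE (f ^ n • 𝟙 (koszulCx T (l.map (· ^ n)))) j z) = 0 := by
      have hk : max m1 (n + N) - n = (max m1 (n + N) - n - N) + N := by
        have : n + N ≤ max m1 (n + N) := le_max_right _ _
        omega
      rw [← map_smul, hk, pow_add, mul_smul, hN, smul_zero, map_zero]
    rw [e2]
    exact mkE_zero _ j

end torsion

variable (fs : List A)

/-- Lemma T: `koszulHLim fs T p = 0` for `p > 0` and `T` power-torsion for all members of `fs`. -/
theorem subsingleton_of_torsion (T : Type u) [AddCommGroup T] [Module A T]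
    (hT : ∀ g ∈ fs, ∀ t : T, ∃ N : ℕ, g ^ N • t = 0) (p : ℕ) (hp : 0 < p) :
    Subsingleton (koszulHLim fs (ModuleCat.of A T) p) := by
  refine ⟨fun x y => ?_⟩
  suffices h : ∀ x : koszulHLim fs (ModuleCat.of A T) p, x = 0 from (h x).trans (h y).symm
  intro x
  unfold koszulHLim at x ⊢
  obtain ⟨n, x, rfl⟩ := Module.DirectLimit.exists_of x
  obtain ⟨c, rfl⟩ := exists_cycle _ _ x
  obtain ⟨m, hm, hz⟩ := exists_trans_eq_zero (ModuleCat.of A T) fs hT ((p : ℤ) - fs.length)
    (by have : (0 : ℤ) < p := by exact_mod_cast hp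
        omega) n
    ((koszulCx (ModuleCat.of A T) (fs.map (· ^ n))).iCycles _ c)
  rw [← Module.DirectLimit.of_f (hij := hm)]
  have e1 := homologyMap_π (koszulTrans (ModuleCat.of A T) n m hm fs) ((p : ℤ) - fs.length) c
  have e2 : HomologicalComplex.cyclesMap (koszulTrans (ModuleCat.of A T) n m hm fs)
      ((p : ℤ) - fs.length) c = 0 := by
    have hmono : Function.Injective ((koszulCx (ModuleCat.of A T) (fs.map (· ^ m))).iCycles
        ((p : ℤ) - fs.length)) := (ModuleCat.mono_iff_injective _).mp inferInstance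
    apply hmono
    rw [iCycles_cyclesMap, hz, map_zero]
  rw [show (HomologicalComplex.homologyMap (koszulTrans (ModuleCat.of A T) n m hm fs)
      ((p : ℤ) - fs.length)).hom _ = _ from e1, e2, map_zero, map_zero]

end bpart4

section bpart5

variable {A : Type u} [CommRing A] (fs : List A)

theorem mem_torsionSub_iff' (M : Type u) [AddCommGroup M] [Module A M] (m : M) :
    m ∈ DRing.torsionSub (Ideal.span {a : A | a ∈ fs}) M ↔ ∀ g ∈ fs, ∃ n : ℕ, g ^ n • m = 0 := by
  constructor
  · intro h g hg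
    obtain ⟨n, hn⟩ := (mem_torsionSub_iff fs M m).mp h
    exact ⟨n, hn g hg⟩
  · intro hn
    set I : Ideal A := Ideal.span {a : A | a ∈ fs} with hI
    let J : Ideal A := LinearMap.ker (LinearMap.toSpanSingleton A M m)
    have hJ : ∀ a, a ∈ J ↔ a • m = 0 := fun a => by
      simp [J, LinearMap.mem_ker, LinearMap.toSpanSingleton_apply]
    have h1 : I ≤ J.radical := by
      rw [hI, Ideal.span_le]
      intro g hg
      obtain ⟨n, hn⟩ := hn g hg
      exact ⟨n, (hJ _).mpr hn⟩
    have hfg : I.FG := Submodule.fg_span (List.finite_toSet fs)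
    obtain ⟨k, hk⟩ := Ideal.exists_pow_le_of_le_radical_of_fg h1 hfg
    exact ⟨k, fun a ha => (hJ a).mp (hk ha)⟩

section ses

variable {M₁ M₂ M₃ : Type u} [AddCommGroup M₁] [Module A M₁] [AddCommGroup M₂] [Module A M₂]
  [AddCommGroup M₃] [Module A M₃] (f : M₁ →ₗ[A] M₂) (g : M₂ →ₗ[A] M₃)

/-- the short complex of a pair of linear maps. -/
abbrev sesL (hfg : Function.Exact f g) : ShortComplex (ModuleCat.{u} A) :=
  ShortComplex.mk (ModuleCat.ofHom f) (ModuleCat.ofHom g) (by
    ext x
    exact hfg.apply_apply_eq_zero x)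

theorem sesL_shortExact (hf : Function.Injective f) (hfg : Function.Exact f g)
    (hg : Function.Surjective g) : (sesL f g hfg).ShortExact :=
  ModuleCat.shortComplex_shortExact _ hfg hf hg

end ses

/-- `koszulHLim fs M 0 = 0` when `Γ_I(M) = 0`. -/
theorem subsingleton_zero_of_torsionSub_eq_bot (M : Type u) [AddCommGroup M] [Module A M]
    (h : DRing.torsionSub (Ideal.span {a : A | a ∈ fs}) M = ⊥) :
    Subsingleton (koszulHLim fs (ModuleCat.of A M) 0) := by
  have e := θEquiv fs (ModuleCat.of A M)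
  have : Subsingleton (DRing.torsionSub (Ideal.span {a : A | a ∈ fs}) (ModuleCat.of A M)) := by
    show Subsingleton (DRing.torsionSub (Ideal.span {a : A | a ∈ fs}) M)
    rw [h]; infer_instance
  exact e.toEquiv.subsingleton

/-- `koszulHLim fs M 0 ≃ M` when `M` is torsion. -/
noncomputable def equivOfTorsion (M : Type u) [AddCommGroup M] [Module A M]
    (h : DRing.torsionSub (Ideal.span {a : A | a ∈ fs}) M = ⊤) :
    koszulHLim fs (ModuleCat.of A M) 0 ≃ₗ[A] M :=
  (θEquiv fs (ModuleCat.of A M)).trans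
    ((LinearEquiv.ofEq _ _ (show DRing.torsionSub (Ideal.span {a : A | a ∈ fs})
      (ModuleCat.of A M) = ⊤ from h)).trans Submodule.topEquiv)

end bpart5

section bpart6

variable {A : Type u} [CommRing A] (fs : List A)

section transform

variable (M N' : Type u) [AddCommGroup M] [Module A M] [AddCommGroup N'] [Module A N']
  (N : Fin fs.length → Type u) [∀ i, AddCommGroup (N i)] [∀ i, Module A (N i)]
  (ρ : M →ₗ[A] N') (ι : ∀ i, N' →ₗ[A] N i)
  (a1 : ∀ i, Function.Bijective (fun x : N i => fs.get i • x))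
  (a2 : ∀ s : N', (∀ i, ι i s = 0) → s = 0)
  (a3 : ∀ x : ∀ i, N i, (∀ j : Fin fs.length, ∃ (k : ℕ) (s : N'), ∀ i, fs.get j ^ k • x i = ι i s) →
    ∃ s : N', ∀ i, ι i s = x i)
  (a4 : ∀ m, ρ m = 0 → ∀ i : Fin fs.length, ∃ n : ℕ, fs.get i ^ n • m = 0)
  (a5 : ∀ (s : N') (i : Fin fs.length), ∃ (n : ℕ) (m : M), fs.get i ^ n • s = ρ m)

include a1 a2 in
theorem torsionSub_eq_bot_of_cover : DRing.torsionSub (Ideal.span {a : A | a ∈ fs}) N' = ⊥ := by
  rw [eq_bot_iff]
  intro s hs
  rw [mem_torsionSub_iff'] at hs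
  rw [Submodule.mem_bot]
  apply a2
  intro i
  obtain ⟨n, hn⟩ := hs (fs.get i) (List.get_mem fs i)
  apply (pow_smul_bijective (N i) (fs.get i) (a1 i) n).1
  show fs.get i ^ n • ι i s = fs.get i ^ n • 0
  rw [← map_smul, hn, map_zero, smul_zero]

include a1 a2 a3 in
theorem subsingleton_one_of_cover : Subsingleton (koszulHLim fs (ModuleCat.of A N') 1) := by
  have hKN : ∀ p, Subsingleton (koszulHLim fs (ModuleCat.of A (∀ i, N i)) p) := fun p =>
    subsingleton_pi fs _ N (fun i => ⟨fs.get i, List.get_mem fs i, a1 i⟩) p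
  let ιP : N' →ₗ[A] (∀ i, N i) := LinearMap.pi ι
  have hι : Function.Injective ιP := by
    rw [injective_iff_map_eq_zero]
    intro s hs
    exact a2 s (fun i => congrFun hs i)
  let g : (∀ i, N i) →ₗ[A] ((∀ i, N i) ⧸ LinearMap.range ιP) := (LinearMap.range ιP).mkQ
  have hg : Function.Surjective g := Submodule.mkQ_surjective _
  have hfg : Function.Exact ιP g := LinearMap.exact_iff.mpr (by rw [Submodule.ker_mkQ])
  have hC : DRing.torsionSub (Ideal.span {a : A | a ∈ fs})
      ((∀ i, N i) ⧸ LinearMap.range ιP) = ⊥ := by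
    rw [eq_bot_iff]
    intro xb hxb
    obtain ⟨x, rfl⟩ := Submodule.mkQ_surjective _ xb
    rw [mem_torsionSub_iff'] at hxb
    rw [Submodule.mem_bot]
    have h3 : ∀ j : Fin fs.length, ∃ (k : ℕ) (s : N'), ∀ i, fs.get j ^ k • x i = ι i s := by
      intro j
      obtain ⟨k, hk⟩ := hxb (fs.get j) (List.get_mem fs j)
      rw [← map_smul, Submodule.mkQ_apply, Submodule.Quotient.mk_eq_zero] at hk
      obtain ⟨s, hs⟩ := hk
      exact ⟨k, s, fun i => (congrFun hs i).symm⟩
    obtain ⟨s, hs⟩ := a3 x h3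
    rw [Submodule.mkQ_apply, Submodule.Quotient.mk_eq_zero]
    exact ⟨s, funext hs⟩
  have hK0C := subsingleton_zero_of_torsionSub_eq_bot fs _ hC
  have hS := sesL_shortExact ιP g hι hfg hg
  refine ⟨fun x y => ?_⟩
  suffices h : ∀ x : koszulHLim fs (ModuleCat.of A N') 1, x = 0 from (h x).trans (h y).symm
  intro y
  have hy : Kmap fs (sesL ιP g hfg).f (0 + 1) y = 0 := by
    have := hKN 1
    exact Subsingleton.elim _ _
  obtain ⟨c, rfl⟩ := ((exact₁ fs (sesL ιP g hfg) hS 0) y).mp hy
  rw [Subsingleton.elim c 0, map_zero]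

include a1 a2 a3 a4 a5 in
theorem transform :
    Nonempty (LinearMap.ker ρ ≃ₗ[A] koszulHLim fs (ModuleCat.of A M) 0) ∧
    Nonempty ((N' ⧸ LinearMap.range ρ) ≃ₗ[A] koszulHLim fs (ModuleCat.of A M) 1) := by
  have hΓN' := torsionSub_eq_bot_of_cover fs N' N ι a1 a2
  have hmem : ∀ g ∈ fs, ∃ i : Fin fs.length, fs.get i = g := fun g hg => by
    obtain ⟨i, hi⟩ := List.mem_iff_get.mp hg
    exact ⟨i, hi⟩
  constructor
  · -- part 1
    have hker : LinearMap.ker ρ = DRing.torsionSub (Ideal.span {a : A | a ∈ fs}) M := by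
      ext m
      rw [LinearMap.mem_ker, mem_torsionSub_iff']
      constructor
      · intro hm g hg
        obtain ⟨i, rfl⟩ := hmem g hg
        exact a4 m hm i
      · intro hm
        have : ρ m ∈ DRing.torsionSub (Ideal.span {a : A | a ∈ fs}) N' := by
          rw [mem_torsionSub_iff']
          intro g hg
          obtain ⟨n, hn⟩ := hm g hg
          exact ⟨n, by rw [← map_smul, hn, map_zero]⟩
        rw [hΓN', Submodule.mem_bot] at this
        exact this
    exact ⟨(LinearEquiv.ofEq _ _ hker).trans (θEquiv fs (ModuleCat.of A M)).symm⟩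
  · -- part 2
    have hK1N' := subsingleton_one_of_cover fs N' N ι a1 a2 a3
    have hK0N' := subsingleton_zero_of_torsionSub_eq_bot fs N' hΓN'
    -- step 3
    let T := LinearMap.ker ρ
    let R := LinearMap.range ρ
    let ρ' : M →ₗ[A] R := ρ.rangeRestrict
    have hρ' : Function.Surjective ρ' := ρ.surjective_rangeRestrict
    have hex1 : Function.Exact T.subtype ρ' := by
      rw [LinearMap.exact_iff, Submodule.range_subtype, LinearMap.ker_rangeRestrict]
    have hS1 := sesL_shortExact T.subtype ρ' (Submodule.injective_subtype _) hex1 hρ'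
    have hT : ∀ g ∈ fs, ∀ t : T, ∃ n : ℕ, g ^ n • t = 0 := by
      intro g hg t
      obtain ⟨i, rfl⟩ := hmem g hg
      obtain ⟨n, hn⟩ := a4 t.1 t.2 i
      exact ⟨n, Subtype.ext hn⟩
    have hKT1 := subsingleton_of_torsion fs T hT 1 Nat.one_pos
    have hKT2 := subsingleton_of_torsion fs T hT 2 (by norm_num)
    have hbij1 : Function.Bijective (Kmap fs (sesL T.subtype ρ' hex1).g 1) := by
      constructor
      · rw [injective_iff_map_eq_zero]
        intro y hy
        obtain ⟨t, rfl⟩ := ((exact₂ fs (sesL T.subtype ρ' hex1) hS1 1) y).mp hy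
        rw [Subsingleton.elim t 0, map_zero]
      · intro z
        exact ((exact₃ fs (sesL T.subtype ρ' hex1) hS1 1) z).mp (Subsingleton.elim _ _)
    let e1 : koszulHLim fs (ModuleCat.of A M) 1 ≃ₗ[A] koszulHLim fs (ModuleCat.of A R) 1 :=
      LinearEquiv.ofBijective _ hbij1
    -- step 4
    let q : N' →ₗ[A] (N' ⧸ R) := R.mkQ
    have hq : Function.Surjective q := Submodule.mkQ_surjective _
    have hex2 : Function.Exact R.subtype q := by
      rw [LinearMap.exact_iff, Submodule.range_subtype, Submodule.ker_mkQ]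
    have hS2 := sesL_shortExact R.subtype q (Submodule.injective_subtype _) hex2 hq
    have hbij2 : Function.Bijective (Kδ fs (sesL R.subtype q hex2) hS2 0) := by
      constructor
      · rw [injective_iff_map_eq_zero]
        intro c hc
        obtain ⟨n', rfl⟩ := ((exact₃ fs (sesL R.subtype q hex2) hS2 0) c).mp hc
        rw [Subsingleton.elim n' 0, map_zero]
      · intro z
        exact ((exact₁ fs (sesL R.subtype q hex2) hS2 0) z).mp (Subsingleton.elim _ _)
    let e2 : koszulHLim fs (ModuleCat.of A (N' ⧸ R)) 0 ≃ₗ[A] koszulHLim fs (ModuleCat.of A R) 1 :=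
      LinearEquiv.ofBijective _ hbij2
    have hQ : DRing.torsionSub (Ideal.span {a : A | a ∈ fs}) (N' ⧸ R) = ⊤ := by
      rw [eq_top_iff]
      intro sb _
      obtain ⟨s, rfl⟩ := Submodule.mkQ_surjective _ sb
      rw [mem_torsionSub_iff']
      intro g hg
      obtain ⟨i, rfl⟩ := hmem g hg
      obtain ⟨n, m, hnm⟩ := a5 s i
      refine ⟨n, ?_⟩
      rw [← map_smul, Submodule.mkQ_apply, Submodule.Quotient.mk_eq_zero, hnm]
      exact ⟨m, rfl⟩
    let e3 := equivOfTorsion fs (N' ⧸ R) hQ
    exact ⟨e3.symm.trans (e2.trans e1.symm)⟩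

end transform

end bpart6

end Groth.Agent.Lib.KoszulLim9
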