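/-
Helper library (helper29): power torsion injective modules over Noetherian rings.
The power torsion part of an injective module is injective, and every power torsion module embeds
into a power torsion injective module.
-/
import Groth.Prelude.Def_DRing3
import Groth.Agent.S5168
import Groth.Agent.S0299

set_option autoImplicit false
universe u

namespace Groth.Agent.Lib.H29TorsionInj

variable {R : Type u} [CommRing R] (I : Ideal R)

/-- The power torsion submodule is power torsion. -/
theorem isPowerTorsion_torsionSub (E : Type u) [AddCommGroup E] [Module R E] :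
    LocCoh.IsPowerTorsion I (DRing.torsionSub I E) := by
  rintro ⟨x, n, hn⟩
  refine ⟨n, fun a ha => ?_⟩
  apply Subtype.ext
  exact hn a ha

/-- A module is power torsion iff its power torsion submodule is everything. -/
theorem torsionSub_eq_top_iff (E : Type u) [AddCommGroup E] [Module R E] :
    DRing.torsionSub I E = ⊤ ↔ LocCoh.IsPowerTorsion I E := by
  constructor
  · intro h x
    have hx : x ∈ DRing.torsionSub I E := by rw [h]; exact Submodule.mem_top
    exact hx
  · intro h
    rw [eq_top_iff]
    intro x _
    exact h x

/-- Over a Noetherian ring, the power torsion part of an injective module is injective. -/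
theorem injective_torsionSub [IsNoetherianRing R] (E : Type u) [AddCommGroup E] [Module R E]
    (hE : Module.Injective R E) : Module.Injective R (DRing.torsionSub I E) := by
  rw [Groth.Agent.S5168.result R I (DRing.torsionSub I E) (isPowerTorsion_torsionSub I E)]
  intro M _ _ _ hk N g
  obtain ⟨k, hk⟩ := hk
  obtain ⟨h, hh⟩ := hE.out N.subtype N.injective_subtype ((DRing.torsionSub I E).subtype ∘ₗ g)
  have hmem : ∀ x : M, h x ∈ DRing.torsionSub I E := by
    intro x
    refine ⟨k, fun a ha => ?_⟩
    rw [← map_smul]
    have : a • x ∈ (I ^ k) • (⊤ : Submodule R M) := Submodule.smul_mem_smul ha Submodule.mem_top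
    rw [hk, Submodule.mem_bot] at this
    rw [this, map_zero]
  refine ⟨h.codRestrict _ hmem, ?_⟩
  refine LinearMap.ext fun x => ?_
  apply Subtype.ext
  exact hh x

/-- Over a Noetherian ring every power torsion module embeds into a power torsion injective
module. -/
theorem exists_torsion_injective_embedding [IsNoetherianRing R] (N : Type u) [AddCommGroup N]
    [Module R N] (hN : LocCoh.IsPowerTorsion I N) :
    ∃ (J : Type u) (_ : AddCommGroup J) (_ : Module R J) (f : N →ₗ[R] J),
      Function.Injective f ∧ Module.Injective R J ∧ LocCoh.IsPowerTorsion I J := by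
  obtain ⟨Q, _, _, ι, hι, hQ⟩ := Groth.Agent.S0299.exists_injective_embedding R N
  have hmem : ∀ x : N, ι x ∈ DRing.torsionSub I Q := by
    intro x
    obtain ⟨n, hn⟩ := hN x
    exact ⟨n, fun a ha => by rw [← map_smul, hn a ha, map_zero]⟩
  refine ⟨DRing.torsionSub I Q, inferInstance, inferInstance, ι.codRestrict _ hmem, ?_,
    injective_torsionSub I Q hQ, isPowerTorsion_torsionSub I Q⟩
  intro x y hxy
  apply hι
  exact congrArg Subtype.val hxy

/-- Quotients of power torsion modules are power torsion. -/
theorem isPowerTorsion_of_surjective {M N : Type u} [AddCommGroup M] [Module R M]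
    [AddCommGroup N] [Module R N] (g : M →ₗ[R] N) (hg : Function.Surjective g)
    (hM : LocCoh.IsPowerTorsion I M) : LocCoh.IsPowerTorsion I N := by
  intro y
  obtain ⟨x, rfl⟩ := hg y
  obtain ⟨n, hn⟩ := hM x
  exact ⟨n, fun a ha => by rw [← map_smul, hn a ha, map_zero]⟩

/-- Submodules (sources of injective maps) of power torsion modules are power torsion. -/
theorem isPowerTorsion_of_injective {M N : Type u} [AddCommGroup M] [Module R M]
    [AddCommGroup N] [Module R N] (g : M →ₗ[R] N) (hg : Function.Injective g)
    (hN : LocCoh.IsPowerTorsion I N) : LocCoh.IsPowerTorsion I M := by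
  intro x
  obtain ⟨n, hn⟩ := hN (g x)
  refine ⟨n, fun a ha => hg ?_⟩
  rw [map_smul, hn a ha, map_zero]

end Groth.Agent.Lib.H29TorsionInj
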