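import Groth.Agent.Lib.IdealTransform

/-!
Ideal transforms over a Noetherian ring: torsion lemmas and the key bijectivity theorem
(Brodmann–Sharp 2.2.13–2.2.15).
-/

universe u
open CategoryTheory CategoryTheory.Limits Opposite

namespace Groth.Agent.Lib.IdealTransform
open LocCoh
variable {R : Type u} [CommRing R] (I : Ideal R) (M : Type u) [AddCommGroup M] [Module R M]

variable {M} in
/-- If `f : I^n → M` and every `f c` is carried into `N` by a power of `I`, then a single power works: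
`f (I^(K+n)) ⊆ N`. -/
theorem exists_pow_forall_map_mem [IsNoetherianRing R] {n : ℕ} (f : ↥(I ^ n) →ₗ[R] M)
    (N : Submodule R M) (h : ∀ c, ∃ k : ℕ, ∀ a ∈ I ^ k, a • f c ∈ N) :
    ∃ K : ℕ, ∀ (x : R) (hx : x ∈ I ^ (K + n)),
      f ⟨x, Ideal.pow_le_pow_right (Nat.le_add_left n K) hx⟩ ∈ N := by
  classical
  have hfin : Module.Finite R ↥(I ^ n) := inferInstance
  obtain ⟨s, hs⟩ := hfin.fg_top
  choose k hk using h
  refine ⟨s.sup k, ?_⟩
  have key : ∀ b ∈ I ^ (s.sup k), ∀ c : ↥(I ^ n), b • f c ∈ N := by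
    intro b hb c
    have hc : c ∈ Submodule.span R (s : Set ↥(I ^ n)) := by rw [hs]; trivial
    induction hc using Submodule.span_induction with
    | mem x hx => exact hk x b (Ideal.pow_le_pow_right (Finset.le_sup hx) hb)
    | zero => simp
    | add x y _ _ hx hy => rw [map_add, smul_add]; exact N.add_mem hx hy
    | smul r x _ hx => rw [map_smul, smul_comm]; exact N.smul_mem r hx
  let S : Submodule R R := Submodule.map (I ^ n).subtype (Submodule.comap f N)
  have hS : I ^ (s.sup k + n) ≤ S := by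
    rw [pow_add]
    refine Ideal.mul_le.2 fun b hb c hc => ?_
    refine ⟨⟨b * c, Ideal.mul_mem_left _ _ hc⟩, ?_, rfl⟩
    have e1 : (⟨b * c, Ideal.mul_mem_left _ _ hc⟩ : ↥(I ^ n)) = b • (⟨c, hc⟩ : ↥(I ^ n)) := rfl
    rw [SetLike.mem_coe, Submodule.mem_comap, e1, map_smul]
    exact key b hb _
  intro x hx
  obtain ⟨y, hy, hyx⟩ := hS hx
  have : y = ⟨x, Ideal.pow_le_pow_right (Nat.le_add_left n (s.sup k)) hx⟩ := Subtype.ext hyx
  rw [← this]
  exact hy

/-- A map `I^n → M` with values in the `I`-power-torsion submodule is zero in `D_I(M)`. -/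
theorem ι_eq_zero_of_forall_mem_torsionSub [IsNoetherianRing R] {n : ℕ} (f : ↥(I ^ n) →ₗ[R] M)
    (h : ∀ c, f c ∈ DRing.torsionSub I M) : ι I M n f = 0 := by
  obtain ⟨K, hK⟩ := exists_pow_forall_map_mem I f ⊥ (fun c => by
    obtain ⟨k, hk⟩ := h c
    exact ⟨k, fun a ha => by rw [hk a ha]; exact Submodule.zero_mem _⟩)
  rw [ι_eq_zero_iff]
  refine ⟨K + n, Nat.le_add_left n K, ?_⟩
  ext ⟨x, hx⟩
  exact (Submodule.mem_bot R).1 (hK x hx)

variable {M} in
/-- For `r ∈ I^n`, `r • [f] = η (f r)`. -/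
theorem smul_ι {n : ℕ} (f : ↥(I ^ n) →ₗ[R] M) (r : R) (hr : r ∈ I ^ n) :
    r • ι I M n f = toDT I M (f ⟨r, hr⟩) := by
  rw [toDT_eq I M n, ← map_smul]
  congr 1
  ext s
  rw [LinearMap.smul_apply, smulMap_apply, ← map_smul, ← map_smul]
  congr 1
  ext
  simp [mul_comm]

/-- `D_I(M)` has no nonzero `I`-power-torsion. -/
theorem torsionSub_DT_eq_bot [IsNoetherianRing R] : DRing.torsionSub I (DT I M) = ⊥ := by
  rw [eq_bot_iff]
  rintro x ⟨k, hk⟩
  rw [Submodule.mem_bot]
  obtain ⟨n, f, rfl⟩ := exists_rep I M x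
  rw [← ι_restrict I M (Nat.le_max_left n k)]
  apply ι_eq_zero_of_forall_mem_torsionSub
  rintro ⟨c, hc⟩
  rw [← ker_toDT, LinearMap.mem_ker]
  have h1 := smul_ι I (f ∘ₗ Submodule.inclusion (Ideal.pow_le_pow_right (Nat.le_max_left n k))) c hc
  rw [← h1, ι_restrict I M (Nat.le_max_left n k)]
  exact hk c (Ideal.pow_le_pow_right (Nat.le_max_right n k) hc)

/-- The cokernel of `η_M` is `I`-power-torsion. -/
theorem isPowerTorsion_coker_toDT :
    IsPowerTorsion I (DT I M ⧸ LinearMap.range (toDT I M)) := by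
  intro q
  obtain ⟨x, rfl⟩ := Submodule.Quotient.mk_surjective _ q
  obtain ⟨n, f, rfl⟩ := exists_rep I M x
  refine ⟨n, fun a ha => ?_⟩
  rw [← Submodule.Quotient.mk_smul, smul_ι I f a ha, Submodule.Quotient.mk_eq_zero]
  exact LinearMap.mem_range_self _ _

/-- `D_I` of an `I`-power-torsion module vanishes. -/
theorem subsingleton_DT_of_isPowerTorsion [IsNoetherianRing R] (hM : IsPowerTorsion I M) :
    Subsingleton (DT I M) := by
  refine subsingleton_of_forall_eq 0 fun x => ?_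
  obtain ⟨n, f, rfl⟩ := exists_rep I M x
  exact ι_eq_zero_of_forall_mem_torsionSub I M f (fun c => hM (f c))

variable {M} in
theorem map_toDT {M' : Type u} [AddCommGroup M'] [Module R M'] (e : M →ₗ[R] M') (m : M) :
    ((idealTransform I).map (ModuleCat.ofHom e)).hom (toDT I M m) = toDT I M' (e m) := by
  rw [toDT_eq_zero, map_ι, toDT_eq_zero]
  congr 1
  ext s
  simp

variable {M} in
/-- `D_I(e)` is injective when `ker e` is `I`-power-torsion. -/
theorem map_injective [IsNoetherianRing R] {M' : Type u} [AddCommGroup M'] [Module R M']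
    (e : M →ₗ[R] M') (hker : LinearMap.ker e ≤ DRing.torsionSub I M) :
    Function.Injective ((idealTransform I).map (ModuleCat.ofHom e)).hom := by
  rw [injective_iff_map_eq_zero]
  intro x hx
  obtain ⟨n, f, rfl⟩ := exists_rep I M x
  rw [map_ι, ι_eq_zero_iff] at hx
  obtain ⟨k, hn, hk⟩ := hx
  rw [← ι_restrict I M hn]
  apply ι_eq_zero_of_forall_mem_torsionSub
  intro c
  apply hker
  rw [LinearMap.mem_ker]
  exact LinearMap.congr_fun hk c

/-- Factor a linear map through a surjection killing its kernel. -/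
theorem exists_factor_of_surjective {P Q N : Type*} [AddCommGroup P] [Module R P]
    [AddCommGroup Q] [Module R Q] [AddCommGroup N] [Module R N]
    (π : P →ₗ[R] Q) (hπ : Function.Surjective π) (ψ : P →ₗ[R] N)
    (hle : LinearMap.ker π ≤ LinearMap.ker ψ) : ∃ h : Q →ₗ[R] N, ∀ p, h (π p) = ψ p := by
  refine ⟨(Submodule.liftQ (LinearMap.ker π) ψ hle) ∘ₗ
    (π.quotKerEquivOfSurjective hπ).symm.toLinearMap, fun p => ?_⟩
  simp only [LinearMap.coe_comp, LinearEquiv.coe_coe, Function.comp_apply,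
    LinearMap.quotKerEquivOfSurjective_symm_apply, Submodule.liftQ_apply]

variable {M} in
/-- `D_I(e)` is surjective when `ker e` and `coker e` are `I`-power-torsion. -/
theorem map_surjective [IsNoetherianRing R] {M' : Type u} [AddCommGroup M'] [Module R M']
    (e : M →ₗ[R] M') (hker : LinearMap.ker e ≤ DRing.torsionSub I M)
    (hcoker : IsPowerTorsion I (M' ⧸ LinearMap.range e)) :
    Function.Surjective ((idealTransform I).map (ModuleCat.ofHom e)).hom := by
  classical
  intro y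
  obtain ⟨n₀, g₀, rfl⟩ := exists_rep I M' y
  -- Step 1: restrict so that the values lie in the range of `e`.
  obtain ⟨K₀, hK₀⟩ := exists_pow_forall_map_mem I g₀ (LinearMap.range e) (fun c => by
    obtain ⟨k, hk⟩ := hcoker (Submodule.Quotient.mk (g₀ c))
    refine ⟨k, fun a ha => ?_⟩
    have := hk a ha
    rwa [← Submodule.Quotient.mk_smul, Submodule.Quotient.mk_eq_zero] at this)
  obtain ⟨n, g, hgι, hgr⟩ : ∃ (n : ℕ) (g : ↥(I ^ n) →ₗ[R] M'),
      ι I M' n g = ι I M' n₀ g₀ ∧ ∀ c, g c ∈ LinearMap.range e :=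
    ⟨K₀ + n₀, g₀ ∘ₗ Submodule.inclusion (Ideal.pow_le_pow_right (Nat.le_add_left n₀ K₀)),
      ι_restrict I M' (Nat.le_add_left n₀ K₀) g₀, fun ⟨c, hc⟩ => hK₀ c hc⟩
  rw [← hgι]
  clear hgι hK₀
  -- Step 2: present `I^n`.
  obtain ⟨r, π, hπ⟩ := Module.Finite.exists_fin' R ↥(I ^ n)
  choose m hm using fun j : Fin r => hgr (π (Pi.single j 1))
  let φ : (Fin r → R) →ₗ[R] M := Fintype.linearCombination R m
  have hφ : e ∘ₗ φ = g ∘ₗ π := by
    apply LinearMap.pi_ext'
    intro j
    ext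
    simp only [LinearMap.coe_comp, Function.comp_apply, LinearMap.coe_single, φ,
      Fintype.linearCombination_apply_single, one_smul]
    exact hm j
  have hφ' : ∀ v, e (φ v) = g (π v) := fun v => LinearMap.congr_fun hφ v
  let Kr : Submodule R (Fin r → R) := LinearMap.ker π
  have hKrfg : (Submodule.map φ Kr).FG := (IsNoetherian.noetherian Kr).map φ
  have hKrtors : ∀ x ∈ Submodule.map φ Kr, x ∈ DRing.torsionSub I M := by
    rintro _ ⟨v, hv, rfl⟩
    apply hker
    rw [LinearMap.mem_ker, hφ', (LinearMap.mem_ker.1 hv), map_zero]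
  -- uniform annihilation of φ(Kr)
  obtain ⟨K1, hK1⟩ : ∃ K1 : ℕ, ∀ b ∈ I ^ K1, ∀ x ∈ Submodule.map φ Kr, b • x = 0 := by
    obtain ⟨s, hs⟩ := hKrfg
    have hs' : ∀ x ∈ s, ∃ k : ℕ, ∀ a ∈ I ^ k, a • x = 0 := fun x hx =>
      hKrtors x (hs ▸ Submodule.subset_span hx)
    choose! k hk using hs'
    refine ⟨s.sup k, fun b hb x hx => ?_⟩
    rw [← hs] at hx
    induction hx using Submodule.span_induction with
    | mem x hx => exact hk x hx b (Ideal.pow_le_pow_right (Finset.le_sup hx) hb)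
    | zero => simp
    | add x y _ _ hx hy => rw [smul_add, hx, hy, add_zero]
    | smul t x _ hx => rw [smul_comm, hx, smul_zero]
  obtain ⟨c, hc⟩ := Ideal.exists_pow_inf_eq_pow_smul I Kr
  set k := c + K1 with hk
  let P : Submodule R (Fin r → R) := I ^ k • ⊤
  have hPK : ∀ v ∈ P, v ∈ Kr → φ v = 0 := by
    intro v hvP hvK
    have h1 : v ∈ I ^ k • ⊤ ⊓ Kr := ⟨hvP, hvK⟩
    rw [hc k (Nat.le_add_right c K1)] at h1
    have h2 : k - c = K1 := by omega
    rw [h2] at h1
    have h3 : I ^ K1 • (I ^ c • ⊤ ⊓ Kr) ≤ Submodule.comap φ ⊥ := by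
      rw [Submodule.smul_le]
      intro b hb w hw
      rw [Submodule.mem_comap, map_smul, Submodule.mem_bot]
      exact hK1 b hb _ ⟨w, hw.2, rfl⟩
    exact (Submodule.mem_bot R).1 (h3 h1)
  have hPmem : ∀ v ∈ P, ((π v : ↥(I ^ n)) : R) ∈ I ^ (k + n) := by
    intro v hv
    refine Submodule.smul_induction_on hv (fun a ha w _ => ?_) (fun x y hx hy => ?_)
    · rw [map_smul, pow_add]
      exact Ideal.mul_mem_mul ha (π w).2
    · rw [map_add]
      exact Ideal.add_mem _ hx hy
  let π' : ↥P →ₗ[R] ↥(I ^ (k + n)) :=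
    LinearMap.codRestrict (I ^ (k + n)) ((I ^ n).subtype ∘ₗ π ∘ₗ P.subtype) (fun v => hPmem v.1 v.2)
  have hπ'surj : Function.Surjective π' := by
    rintro ⟨x, hx⟩
    have hx' : x ∈ I ^ k * I ^ n := by rwa [← pow_add]
    have : ∃ v ∈ P, ((π v : ↥(I ^ n)) : R) = x := by
      refine Submodule.mul_induction_on hx' (fun a ha b hb => ?_) (fun x y hx hy => ?_)
      · obtain ⟨w, hw⟩ := hπ ⟨b, hb⟩
        refine ⟨a • w, Submodule.smul_mem_smul ha trivial, ?_⟩
        rw [map_smul, hw]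
        rfl
      · obtain ⟨v, hv, rfl⟩ := hx
        obtain ⟨v', hv', rfl⟩ := hy
        exact ⟨v + v', P.add_mem hv hv', by rw [map_add]; rfl⟩
    obtain ⟨v, hv, hvx⟩ := this
    exact ⟨⟨v, hv⟩, Subtype.ext hvx⟩
  have hle : LinearMap.ker π' ≤ LinearMap.ker (φ ∘ₗ P.subtype) := by
    rintro ⟨v, hv⟩ hv0
    rw [LinearMap.mem_ker] at hv0 ⊢
    have h1 : ((π v : ↥(I ^ n)) : R) = 0 := congrArg Subtype.val hv0
    have h2 : π v = 0 := Subtype.ext h1
    exact hPK v hv (LinearMap.mem_ker.2 h2)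
  obtain ⟨h, hh⟩ := exists_factor_of_surjective π' hπ'surj (φ ∘ₗ P.subtype) hle
  refine ⟨ι I M (k + n) h, ?_⟩
  rw [map_ι, ← ι_restrict I M' (Nat.le_add_left n k)]
  congr 1
  ext y
  obtain ⟨⟨v, hv⟩, rfl⟩ := hπ'surj y
  rw [LinearMap.comp_apply, hh]
  rw [LinearMap.comp_apply, LinearMap.comp_apply]
  change e (φ v) = g _
  rw [hφ']
  congr 1

variable {M} in
/-- Brodmann–Sharp 2.2.13: `D_I(e)` is bijective when `ker e` and `coker e` are
`I`-power-torsion. -/
theorem map_bijective [IsNoetherianRing R] {M' : Type u} [AddCommGroup M'] [Module R M']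
    (e : M →ₗ[R] M') (hker : LinearMap.ker e ≤ DRing.torsionSub I M)
    (hcoker : IsPowerTorsion I (M' ⧸ LinearMap.range e)) :
    Function.Bijective ((idealTransform I).map (ModuleCat.ofHom e)).hom :=
  ⟨map_injective I e hker, map_surjective I e hker hcoker⟩

end Groth.Agent.Lib.IdealTransform
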