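import Groth.Agent.Lib.LocCohH0
import Groth.Agent.Lib.H29TorsionInj
import Groth.Agent.Lib.IdealTransform2

/-!
# Vanishing of local cohomology on injectives and on `I`-power torsion modules; consequences (helper53)

* `subsingleton_H_of_injective`: `H^i_I(J) = 0` for `J` injective, `i > 0`.
* `subsingleton_H_of_isPowerTorsion` (Noetherian): `H^i_I(N) = 0` for `N` `I`-power torsion, `i > 0`.
* `Hmap_bijective_of_surjective`: a surjection with torsion kernel is an iso on `H^i`, `i > 0`.
* `Hmap_bijective_of_injective`: an injection with torsion cokernel is an iso on `H^i`, `i > 1`.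
* `Hmap_bijective_of_torsion`: torsion kernel and cokernel ⇒ iso on `H^i`, `i > 1`.
* `Hmap_mkQ_torsionSub_bijective`, `Hmap_toDT_bijective`.
-/

set_option maxHeartbeats 400000
universe u
open CategoryTheory CategoryTheory.Limits Opposite

namespace Groth.Agent.Lib.LocCohTorsion
open Groth.Agent.Lib.ExtBridge Groth.Agent.Lib.LocCohConcrete Groth.Agent.Lib.LocCohLES
open Groth.Agent.Lib.LocCohH0 Groth.Agent.Lib.H29TorsionInj
open Abelian

variable {R : Type u} [CommRing R] (I : Ideal R)

/-- `H^i_I(J) = 0` for `J` injective and `i > 0`. -/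
theorem subsingleton_H_of_injective (J : Type u) [AddCommGroup J] [Module R J]
    (hJ : Module.Injective R J) (i : ℕ) (hi : 0 < i) : Subsingleton (LocCoh.H I i J) := by
  obtain ⟨k, rfl⟩ := Nat.exists_eq_succ_of_ne_zero hi.ne'
  have : CategoryTheory.Injective (ModuleCat.of R J) := Module.injective_object_of_injective_module R J
  refine subsingleton_of_forall_eq 0 fun y => ?_
  obtain ⟨n, x, rfl⟩ := exists_rep I J (k + 1) y
  rw [Ext.eq_zero_of_injective x, map_zero]

section ses
variable {M₁ M₂ M₃ : Type u} [AddCommGroup M₁] [Module R M₁] [AddCommGroup M₂] [Module R M₂]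
  [AddCommGroup M₃] [Module R M₃]
  (f : M₁ →ₗ[R] M₂) (g : M₂ →ₗ[R] M₃)
  (hf : Function.Injective f) (hfg : Function.Exact f g) (hg : Function.Surjective g)

include hf hfg hg in
/-- if `H^i(M₁) = 0 = H^{i+1}(M₁)` then `H^i(M₂) → H^i(M₃)` is bijective. -/
theorem Hmap_bijective_of_subsingleton_left (i : ℕ) [Subsingleton (LocCoh.H I i M₁)]
    [Subsingleton (LocCoh.H I (i + 1) M₁)] : Function.Bijective (Hmap I g i) := by
  constructor
  · rw [injective_iff_map_eq_zero]
    intro y hy
    obtain ⟨z, rfl⟩ := (exact₂ I f g hfg hf hg i y).1 hy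
    rw [Subsingleton.elim z 0, map_zero]
  · intro y
    exact (exact₃ I f g hf hfg hg i y).1 (Subsingleton.elim _ _)

include hf hfg hg in
/-- if `H^i(M₃) = 0` then `H^{i+1}(M₁) → H^{i+1}(M₂)` is injective. -/
theorem Hmap_injective_of_subsingleton_right (i : ℕ) [Subsingleton (LocCoh.H I i M₃)] :
    Function.Injective (Hmap I f (i + 1)) := by
  rw [injective_iff_map_eq_zero]
  intro y hy
  obtain ⟨z, rfl⟩ := (exact₁ I f g hf hfg hg i y).1 hy
  rw [Subsingleton.elim z 0, map_zero]

include hf hfg hg in
/-- if `H^i(M₃) = 0` then `H^i(M₁) → H^i(M₂)` is surjective. -/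
theorem Hmap_surjective_of_subsingleton_right (i : ℕ) [Subsingleton (LocCoh.H I i M₃)] :
    Function.Surjective (Hmap I f i) := by
  intro y
  exact (exact₂ I f g hfg hf hg i y).1 (Subsingleton.elim _ _)

include hf hfg hg in
/-- if `H^i(M₂) = 0 = H^{i+1}(M₂)` then `δ : H^i(M₃) → H^{i+1}(M₁)` is bijective. -/
theorem Hδ_bijective_of_subsingleton_middle (i : ℕ) [Subsingleton (LocCoh.H I i M₂)]
    [Subsingleton (LocCoh.H I (i + 1) M₂)] : Function.Bijective (Hδ I f g hf hfg hg i) := by
  constructor
  · rw [injective_iff_map_eq_zero]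
    intro y hy
    obtain ⟨z, rfl⟩ := (exact₃ I f g hf hfg hg i y).1 hy
    rw [Subsingleton.elim z 0, map_zero]
  · intro y
    exact (exact₁ I f g hf hfg hg i y).1 (Subsingleton.elim _ _)

end ses

variable [IsNoetherianRing R]

/-- `H^i_I(N) = 0` for `N` an `I`-power torsion module and `i > 0` (Noetherian ring). -/
theorem subsingleton_H_of_isPowerTorsion (i : ℕ) (hi : 0 < i) :
    ∀ (N : Type u) [AddCommGroup N] [Module R N], LocCoh.IsPowerTorsion I N →
      Subsingleton (LocCoh.H I i N) := by
  induction i with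
  | zero => exact absurd hi (lt_irrefl 0)
  | succ k ih =>
    intro N _ _ hN
    obtain ⟨J, _, _, f, hf, hJ, hJt⟩ := exists_torsion_injective_embedding I N hN
    let g := (LinearMap.range f).mkQ
    have hg : Function.Surjective g := Submodule.mkQ_surjective _
    have hfg : Function.Exact f g := LinearMap.exact_map_mkQ_range f
    have hC : LocCoh.IsPowerTorsion I (J ⧸ LinearMap.range f) :=
      isPowerTorsion_of_surjective I g hg hJt
    have hJ0 : Subsingleton (LocCoh.H I (k + 1) J) :=
      subsingleton_H_of_injective I J hJ (k + 1) (Nat.succ_pos k)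
    refine subsingleton_of_forall_eq 0 fun y => ?_
    obtain ⟨z, rfl⟩ := (exact₁ I f g hf hfg hg k y).1 (Subsingleton.elim _ _)
    rcases Nat.eq_zero_or_pos k with rfl | hk
    · obtain ⟨w, rfl⟩ := Hmap_zero_surjective_of_torsion I g hg hJt z
      exact (exact₃ I f g hf hfg hg 0 _).2 ⟨w, rfl⟩
    · have := ih hk (J ⧸ LinearMap.range f) hC
      rw [Subsingleton.elim z 0, map_zero]

section consequences
variable {M M' : Type u} [AddCommGroup M] [Module R M] [AddCommGroup M'] [Module R M']

/-- a surjection with `I`-power torsion kernel induces isomorphisms on `H^i_I`, `i > 0`. -/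
theorem Hmap_bijective_of_surjective (g : M →ₗ[R] M') (hg : Function.Surjective g)
    (hker : LocCoh.IsPowerTorsion I (LinearMap.ker g)) (i : ℕ) (hi : 0 < i) :
    Function.Bijective (Hmap I g i) := by
  have h1 := subsingleton_H_of_isPowerTorsion I i hi (LinearMap.ker g) hker
  have h2 := subsingleton_H_of_isPowerTorsion I (i + 1) (Nat.succ_pos i) (LinearMap.ker g) hker
  exact Hmap_bijective_of_subsingleton_left I (LinearMap.ker g).subtype g
    (Submodule.injective_subtype _) (LinearMap.exact_subtype_ker_map g) hg i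

/-- an injection with `I`-power torsion cokernel induces isomorphisms on `H^i_I`, `i > 1`. -/
theorem Hmap_bijective_of_injective (f : M →ₗ[R] M') (hf : Function.Injective f)
    (hcoker : LocCoh.IsPowerTorsion I (M' ⧸ LinearMap.range f)) (i : ℕ) (hi : 1 < i) :
    Function.Bijective (Hmap I f i) := by
  obtain ⟨k, rfl⟩ := Nat.exists_eq_succ_of_ne_zero (Nat.ne_of_gt (Nat.zero_lt_of_lt hi))
  have hk : 0 < k := Nat.lt_of_succ_lt_succ hi
  have h1 := subsingleton_H_of_isPowerTorsion I k hk _ hcoker
  have h2 := subsingleton_H_of_isPowerTorsion I (k + 1) (Nat.succ_pos k) _ hcoker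
  exact ⟨Hmap_injective_of_subsingleton_right I f (LinearMap.range f).mkQ hf
      (LinearMap.exact_map_mkQ_range f) (Submodule.mkQ_surjective _) k,
    Hmap_surjective_of_subsingleton_right I f (LinearMap.range f).mkQ hf
      (LinearMap.exact_map_mkQ_range f) (Submodule.mkQ_surjective _) (k + 1)⟩

/-- an injection with `I`-power torsion cokernel induces surjections on `H^i_I`, `i > 0`. -/
theorem Hmap_surjective_of_injective (f : M →ₗ[R] M') (hf : Function.Injective f)
    (hcoker : LocCoh.IsPowerTorsion I (M' ⧸ LinearMap.range f)) (i : ℕ) (hi : 0 < i) :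
    Function.Surjective (Hmap I f i) := by
  have h1 := subsingleton_H_of_isPowerTorsion I i hi _ hcoker
  exact Hmap_surjective_of_subsingleton_right I f (LinearMap.range f).mkQ hf
      (LinearMap.exact_map_mkQ_range f) (Submodule.mkQ_surjective _) i

/-- a map with `I`-power torsion kernel and cokernel induces isomorphisms on `H^i_I`, `i > 1`. -/
theorem Hmap_bijective_of_torsion (φ : M →ₗ[R] M')
    (hker : LocCoh.IsPowerTorsion I (LinearMap.ker φ))
    (hcoker : LocCoh.IsPowerTorsion I (M' ⧸ LinearMap.range φ)) (i : ℕ) (hi : 1 < i) :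
    Function.Bijective (Hmap I φ i) := by
  have h0 : φ = (LinearMap.range φ).subtype ∘ₗ φ.rangeRestrict := rfl
  have h1 : Function.Bijective (Hmap I φ.rangeRestrict i) := by
    apply Hmap_bijective_of_surjective I _ φ.surjective_rangeRestrict _ i (Nat.zero_lt_of_lt hi)
    rw [LinearMap.ker_rangeRestrict]
    exact hker
  have h2 : Function.Bijective (Hmap I (LinearMap.range φ).subtype i) := by
    apply Hmap_bijective_of_injective I _ (Submodule.injective_subtype _) _ i hi
    rw [Submodule.range_subtype]
    exact hcoker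
  have h3 : (Hmap I φ i : LocCoh.H I i M → LocCoh.H I i M') =
      Hmap I (LinearMap.range φ).subtype i ∘ Hmap I φ.rangeRestrict i := by
    funext y
    conv_lhs => rw [h0]
    rw [Hmap_comp]
    rfl
  rw [h3]
  exact h2.comp h1

variable (M) in
/-- `H^i_I(M) → H^i_I(M/Γ_I(M))` is bijective for `i > 0`. -/
theorem Hmap_mkQ_torsionSub_bijective (i : ℕ) (hi : 0 < i) :
    Function.Bijective (Hmap I (DRing.torsionSub I M).mkQ i) := by
  apply Hmap_bijective_of_surjective I _ (Submodule.mkQ_surjective _) _ i hi
  rw [Submodule.ker_mkQ]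
  exact isPowerTorsion_torsionSub I M

variable (M) in
/-- `H^i_I(M) → H^i_I(D_I(M))` is bijective for `i > 1`. -/
theorem Hmap_toDT_bijective (i : ℕ) (hi : 1 < i) :
    Function.Bijective (Hmap I (LocCoh.toDT I M) i) := by
  apply Hmap_bijective_of_torsion I _ _ _ i hi
  · rw [Groth.Agent.Lib.IdealTransform.ker_toDT]
    exact isPowerTorsion_torsionSub I M
  · exact Groth.Agent.Lib.IdealTransform.isPowerTorsion_coker_toDT I M

end consequences

end Groth.Agent.Lib.LocCohTorsion
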