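import Mathlib

/-!
# `Ext` (Mathlib's `CategoryTheory.Abelian.Ext`, via projective resolutions) is linear in the
first variable; elements of `Ext^n(X, Y)` are killed by scalars killing `X`.
Local cohomology `H^i_I(M)` is `I`-power torsion.
-/

set_option autoImplicit false

open CategoryTheory Limits

namespace Groth.Agent.Lib.ExtSmul

universe v u v' u'

section Center

variable {D : Type u} [Category.{v} D] [Abelian D]

/-- A chain endomorphism given degreewise by a central element `β` induces `β` on homology. -/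
lemma homologyMap_center {ι : Type*} {c : ComplexShape ι} (β : 𝟭 D ⟶ 𝟭 D)
    (K : HomologicalComplex D c) (n : ι) (φ : K ⟶ K) (hφ : ∀ k, φ.f k = β.app (K.X k)) :
    HomologicalComplex.homologyMap φ n = β.app (K.homology n) := by
  rw [← cancel_epi (K.homologyπ n), HomologicalComplex.homologyπ_naturality]
  have h : HomologicalComplex.cyclesMap φ n = β.app (K.cycles n) := by
    rw [← cancel_mono (K.iCycles n), HomologicalComplex.cyclesMap_i, hφ]
    exact β.naturality (K.iCycles n)
  rw [h]
  exact (β.naturality (K.homologyπ n)).symm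

variable {C : Type u'} [Category.{v'} C] [Abelian C] [HasProjectiveResolutions C]

/-- Left derived functors are compatible with central elements. -/
lemma leftDerived_map_center (F : C ⥤ D) [F.Additive] (α : 𝟭 C ⟶ 𝟭 C) (β : 𝟭 D ⟶ 𝟭 D)
    (h : ∀ X : C, F.map (α.app X) = β.app (F.obj X)) (n : ℕ) (X : C) :
    (F.leftDerived n).map (α.app X) = β.app ((F.leftDerived n).obj X) := by
  obtain ⟨P⟩ : Nonempty (ProjectiveResolution X) := HasProjectiveResolution.out
  let φ : P.complex ⟶ P.complex :=
    { f := fun k => α.app (P.complex.X k)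
      comm' := fun i j _ => (α.naturality (P.complex.d i j)).symm }
  have comm : φ.f 0 ≫ P.π.f 0 = P.π.f 0 ≫ α.app X := (α.naturality (P.π.f 0)).symm
  have h1 := ProjectiveResolution.isoLeftDerivedObj_hom_naturality (α.app X) P P φ comm F n
  rw [← cancel_mono (P.isoLeftDerivedObj F n).hom, h1]
  have h2 : (F.mapHomologicalComplex _ ⋙ HomologicalComplex.homologyFunctor _ _ n).map φ
      = β.app _ := by
    refine homologyMap_center β _ n _ (fun k => ?_)
    exact h _
  rw [h2]
  exact β.naturality _

end Center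

section ExtLinear

variable {R : Type*} [CommRing R] {C : Type*} [Category C] [Abelian C] [Linear R C]
  [EnoughProjectives C]

/-- The central element `a • 𝟙` of an `R`-linear category. -/
def smulCenter (a : R) : 𝟭 C ⟶ 𝟭 C where
  app X := a • 𝟙 X
  naturality X Y f := by
    simp [Linear.comp_smul, Linear.smul_comp]

/-- The central element `a • 𝟙` of `(ModuleCat R)ᵒᵖ`. -/
def smulCenterOp (a : R) : 𝟭 (ModuleCat R)ᵒᵖ ⟶ 𝟭 (ModuleCat R)ᵒᵖ where
  app N := (a • 𝟙 N.unop).op
  naturality X Y f := by
    apply Quiver.Hom.unop_inj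
    simp [Linear.comp_smul, Linear.smul_comp]

/-- `Ext^n(-, Y)` is `R`-linear on scalar endomorphisms: `Ext^n(a • 𝟙_X, Y) = a • 𝟙`. -/
theorem ext_map_smul_id (a : R) (n : ℕ) (X Y : C) :
    ((Ext R C n).map (a • 𝟙 X).op).app Y = a • 𝟙 (((Ext R C n).obj (Opposite.op X)).obj Y) := by
  have key := leftDerived_map_center (((linearYoneda R C).obj Y).rightOp)
    (smulCenter (C := C) a) (smulCenterOp a) (fun X => by
      apply Quiver.Hom.unop_inj
      ext g
      simp only [smulCenter, smulCenterOp, linearYoneda]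
      change (a • 𝟙 X) ≫ g = a • g
      rw [Linear.smul_comp, Category.id_comp]
      rfl) n X
  exact congrArg Quiver.Hom.unop key

/-- If `a` kills `X` then `a` kills `Ext^n(X, Y)`. -/
theorem ext_smul_eq_zero (a : R) (n : ℕ) (X Y : C) (ha : a • 𝟙 X = 0)
    (x : ((Ext R C n).obj (Opposite.op X)).obj Y) : a • x = 0 := by
  have h1 := ext_map_smul_id a n X Y
  rw [ha] at h1
  have h2 : ((Ext R C n).map (0 : X ⟶ X).op).app Y = 0 := by
    have key := leftDerived_map_center (((linearYoneda R C).obj Y).rightOp)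
      (0 : 𝟭 C ⟶ 𝟭 C) (0 : 𝟭 (ModuleCat R)ᵒᵖ ⟶ 𝟭 (ModuleCat R)ᵒᵖ) (fun X => by
        apply Quiver.Hom.unop_inj
        ext g
        change (0 : X ⟶ X) ≫ g = 0
        simp) n X
    exact congrArg Quiver.Hom.unop key
  rw [h2] at h1
  have := congrArg (fun f => f.hom x) h1
  simpa using this.symm

end ExtLinear

section LocalCohomology

variable {A : Type u} [CommRing A]

lemma smul_id_quotient_eq_zero (J : Ideal A) (a : A) (ha : a ∈ J) :
    a • 𝟙 (ModuleCat.of A (A ⧸ J)) = 0 := by
  refine ModuleCat.hom_ext (LinearMap.ext fun y => ?_)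
  change a • (y : A ⧸ J) = 0
  obtain ⟨r, rfl⟩ := Ideal.Quotient.mk_surjective y
  rw [← Ideal.Quotient.mk_eq_mk, Algebra.smul_def]
  change Ideal.Quotient.mk J a * _ = 0
  rw [Ideal.Quotient.eq_zero_iff_mem.mpr ha, zero_mul]

lemma isPowerTorsion_colimit_diagram (I : Ideal A) (i : ℕ) (M : ModuleCat.{u} A)
    (x : (colimit (localCohomology.diagram (localCohomology.idealPowersDiagram I) i)).obj M) :
    ∃ n : ℕ, ∀ a ∈ I ^ n, a • x = 0 := by
  let H := (colimit (localCohomology.diagram (localCohomology.idealPowersDiagram I) i)).obj M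
  let T : Submodule A H :=
    { carrier := {x | ∃ n : ℕ, ∀ a ∈ I ^ n, a • x = 0}
      add_mem' := by
        rintro x y ⟨n, hn⟩ ⟨m, hm⟩
        refine ⟨max n m, fun a ha => ?_⟩
        rw [smul_add, hn a (Ideal.pow_le_pow_right (le_max_left n m) ha),
          hm a (Ideal.pow_le_pow_right (le_max_right n m) ha), add_zero]
      zero_mem' := ⟨0, fun a _ => smul_zero a⟩
      smul_mem' := by
        rintro c x ⟨n, hn⟩
        exact ⟨n, fun a ha => by rw [smul_comm, hn a ha, smul_zero]⟩ }
  have hT : T = ⊤ := by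
    let q : H ⟶ ModuleCat.of A (H ⧸ T) := ModuleCat.ofHom T.mkQ
    have h0 : q = 0 := by
      apply colimit_obj_ext
      intro j
      rw [comp_zero]
      refine ModuleCat.hom_ext (LinearMap.ext fun y => ?_)
      change T.mkQ (((colimit.ι
        (localCohomology.diagram (localCohomology.idealPowersDiagram I) i) j).app M).hom y) = 0
      rw [Submodule.mkQ_apply, Submodule.Quotient.mk_eq_zero]
      refine ⟨j.unop.unop, fun a ha => ?_⟩
      rw [← map_smul]
      have : a • y = 0 :=
        ext_smul_eq_zero a i (ModuleCat.of A (A ⧸ I ^ j.unop.unop)) M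
          (smul_id_quotient_eq_zero _ a ha) y
      rw [this, map_zero]
    rw [← Submodule.ker_mkQ T]
    have : T.mkQ = 0 := congrArg ModuleCat.Hom.hom h0
    rw [this, LinearMap.ker_zero]
  have hx : x ∈ T := hT ▸ Submodule.mem_top
  exact hx

/-- Every element of the local cohomology module `H^i_I(M)` is killed by a power of `I`. -/
theorem isPowerTorsion_localCohomology (I : Ideal A) (i : ℕ) (M : ModuleCat.{u} A)
    (x : (localCohomology I i).obj M) : ∃ n : ℕ, ∀ a ∈ I ^ n, a • x = 0 :=
  isPowerTorsion_colimit_diagram I i M x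

end LocalCohomology

end Groth.Agent.Lib.ExtSmul
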