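import Groth.Agent.Lib.LocCohLES

/-!
# Linearity of `Hmap` in the map; naturality of the connecting homomorphism (helper53)
-/

set_option maxHeartbeats 400000
universe u
open CategoryTheory CategoryTheory.Limits Opposite

namespace Groth.Agent.Lib.LocCohLES
open Groth.Agent.Lib.ExtBridge Groth.Agent.Lib.LocCohConcrete
open Abelian

variable {R : Type u} [CommRing R] (I : Ideal R)

section linear
variable {M M' : Type u} [AddCommGroup M] [Module R M] [AddCommGroup M'] [Module R M']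

theorem Hmap_add (φ ψ : M →ₗ[R] M') (i : ℕ) (y : LocCoh.H I i M) :
    Hmap I (φ + ψ) i y = Hmap I φ i y + Hmap I ψ i y := by
  obtain ⟨n, x, rfl⟩ := exists_rep I M i y
  rw [Hmap_HιE, Hmap_HιE, Hmap_HιE, ModuleCat.ofHom_add, Ext.mk₀_add, Ext.comp_add, map_add]

theorem Hmap_smul (s : R) (φ : M →ₗ[R] M') (i : ℕ) (y : LocCoh.H I i M) :
    Hmap I (s • φ) i y = s • Hmap I φ i y := by
  obtain ⟨n, x, rfl⟩ := exists_rep I M i y
  have : (ModuleCat.ofHom (s • φ) : ModuleCat.of R M ⟶ ModuleCat.of R M') =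
      s • ModuleCat.ofHom φ := rfl
  rw [Hmap_HιE, Hmap_HιE, this, Ext.mk₀_smul, Ext.comp_smul, map_smul]

/-- if `s` kills `M` then `s` kills `H^i_I(M)`. -/
theorem smul_eq_zero_of_forall_smul_eq_zero (s : R) (hs : ∀ m : M, s • m = 0) (i : ℕ)
    (y : LocCoh.H I i M) : s • y = 0 := by
  have h1 : (s • LinearMap.id : M →ₗ[R] M) = 0 := by
    ext m
    exact hs m
  have h2 := Hmap_smul I s (LinearMap.id : M →ₗ[R] M) i y
  rw [h1, Hmap_zero, Hmap_id] at h2
  exact h2.symm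

end linear

section naturality
variable {M₁ M₂ M₃ : Type u} [AddCommGroup M₁] [Module R M₁] [AddCommGroup M₂] [Module R M₂]
  [AddCommGroup M₃] [Module R M₃]
  (f : M₁ →ₗ[R] M₂) (g : M₂ →ₗ[R] M₃)
  (hf : Function.Injective f) (hfg : Function.Exact f g) (hg : Function.Surjective g)
variable {N₁ N₂ N₃ : Type u} [AddCommGroup N₁] [Module R N₁] [AddCommGroup N₂] [Module R N₂]
  [AddCommGroup N₃] [Module R N₃]
  (f' : N₁ →ₗ[R] N₂) (g' : N₂ →ₗ[R] N₃)
  (hf' : Function.Injective f') (hfg' : Function.Exact f' g') (hg' : Function.Surjective g')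
  (τ₁ : M₁ →ₗ[R] N₁) (τ₂ : M₂ →ₗ[R] N₂) (τ₃ : M₃ →ₗ[R] N₃)
  (c₁ : f' ∘ₗ τ₁ = τ₂ ∘ₗ f) (c₂ : g' ∘ₗ τ₂ = τ₃ ∘ₗ g)

include c₁ c₂ in
/-- the morphism of short complexes defined by a commutative diagram of short exact sequences. -/
def sesHom : ses f g hfg ⟶ ses f' g' hfg' where
  τ₁ := ModuleCat.ofHom τ₁
  τ₂ := ModuleCat.ofHom τ₂
  τ₃ := ModuleCat.ofHom τ₃
  comm₁₂ := by
    ext x
    exact LinearMap.congr_fun c₁ x
  comm₂₃ := by
    ext x
    exact LinearMap.congr_fun c₂ x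

include c₁ c₂ in
/-- naturality of the connecting homomorphism. -/
theorem Hδ_naturality (i : ℕ) (y : LocCoh.H I i M₃) :
    Hδ I f' g' hf' hfg' hg' i (Hmap I τ₃ i y) = Hmap I τ₁ (i + 1) (Hδ I f g hf hfg hg i y) := by
  obtain ⟨n, x, rfl⟩ := exists_rep I M₃ i y
  rw [Hmap_HιE, Hδ_HιE, Hδ_HιE, Hmap_HιE]
  congr 1
  have h1 := ShortComplex.ShortExact.extClass_naturality (ses_shortExact f g hf hfg hg)
    (ses_shortExact f' g' hf' hfg' hg') (sesHom f g hfg f' g' hfg' τ₁ τ₂ τ₃ c₁ c₂)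
  rw [Ext.comp_assoc _ _ _ (add_zero i) (zero_add 1) (by omega),
    Ext.comp_assoc _ _ _ rfl (add_zero 1) (by omega)]
  congr 1
  exact h1.symm

end naturality

end Groth.Agent.Lib.LocCohLES
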