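import Groth.Agent.Lib.LocCohTorsion
import Groth.Agent.Lib.LocCohLinear
import Groth.Agent.Lib.ExtSmul
import Mathlib.RingTheory.KrullDimension.Regular
import Mathlib.RingTheory.Ideal.AssociatedPrime.Finiteness

/-!
# Grothendieck vanishing for local cohomology (helper53)

* `exists_fg_rep`: classes in `Ext^i(X, M)` (`X` finite over Noetherian `R`) come from finitely
  generated submodules of `M`; `exists_fg_H`: same for `H^i_I(M)`.
* `subsingleton_H_of_supportDim_lt`: `H^i_I(M) = 0` for `i > dim Supp M` (any module `M`).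
* `cdLE_of_ringKrullDim_le`.
-/

set_option maxHeartbeats 400000
universe u
open CategoryTheory CategoryTheory.Limits Opposite

namespace Groth.Agent.Lib.LocCohVanishing
open Groth.Agent.Lib.ExtBridge Groth.Agent.Lib.LocCohConcrete Groth.Agent.Lib.LocCohLES
open Groth.Agent.Lib.LocCohTorsion
open Abelian

variable {R : Type u} [CommRing R] [IsNoetherianRing R]

section fg
variable (M : Type u) [AddCommGroup M] [Module R M]

/-- classes in `Ext^i(X, M)` with `X` finite come from finitely generated submodules of `M`. -/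
theorem exists_fg_rep : ∀ (i : ℕ) (X : ModuleCat.{u} R) [Module.Finite R X]
    (x : Ext.{u} X (ModuleCat.of R M) i),
    ∃ (M' : Submodule R M), M'.FG ∧ ∃ x' : Ext.{u} X (ModuleCat.of R M') i,
      x'.comp (Ext.mk₀ (ModuleCat.ofHom M'.subtype)) (add_zero i) = x := by
  intro i
  induction i with
  | zero =>
    intro X _ x
    obtain ⟨φ, rfl⟩ := (Ext.mk₀_bijective _ _).2 x
    refine ⟨LinearMap.range φ.hom, ?_, ?_⟩
    · rw [← Submodule.map_top]
      exact Module.Finite.fg_top.map _
    · refine ⟨Ext.mk₀ (ModuleCat.ofHom φ.hom.rangeRestrict), ?_⟩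
      rw [Ext.mk₀_comp_mk₀]
      rfl
  | succ i ih =>
    intro X _ x
    obtain ⟨n, π, hπ⟩ := Module.Finite.exists_fin' R X
    let K := LinearMap.ker π
    have hS := ses_shortExact K.subtype π (Submodule.injective_subtype _)
      (LinearMap.exact_subtype_ker_map π) hπ
    have hproj : Projective (ModuleCat.of R (Fin n → R)) :=
      (ModuleCat.of R (Fin n → R)).projective_of_categoryTheory_projective
    have h0 : (Ext.mk₀ (ModuleCat.ofHom π)).comp x (zero_add (i + 1)) = 0 :=
      Ext.eq_zero_of_projective _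
    obtain ⟨x₁, hx₁⟩ := Ext.contravariant_sequence_exact₃ hS _ x h0
      (show 1 + i = i + 1 by omega)
    have : Module.Finite R (ModuleCat.of R K) := by
      change Module.Finite R K
      infer_instance
    obtain ⟨M', hM', x₁', hx₁'⟩ := ih (ModuleCat.of R K) x₁
    refine ⟨M', hM', hS.extClass.comp x₁' (show 1 + i = i + 1 by omega), ?_⟩
    rw [Ext.comp_assoc _ _ _ (show 1 + i = i + 1 by omega) (add_zero i) (by omega), hx₁']
    exact hx₁

/-- every class in `H^i_I(M)` comes from a finitely generated submodule of `M`. -/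
theorem exists_fg_H (I : Ideal R) (i : ℕ) (y : LocCoh.H I i M) :
    ∃ (M' : Submodule R M), M'.FG ∧ ∃ y' : LocCoh.H I i M', Hmap I M'.subtype i y' = y := by
  obtain ⟨n, x, rfl⟩ := exists_rep I M i y
  obtain ⟨M', hM', x', hx'⟩ := exists_fg_rep M i (Q I n) x
  refine ⟨M', hM', HιE I M' i n x', ?_⟩
  rw [Hmap_HιE, hx']

end fg

section vanishing
variable (I : Ideal R)

omit [IsNoetherianRing R] in
theorem subsingleton_H_of_subsingleton (N : Type u) [AddCommGroup N] [Module R N]
    [Subsingleton N] (i : ℕ) : Subsingleton (LocCoh.H I i N) := by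
  refine subsingleton_of_forall_eq 0 fun y => ?_
  have h : (LinearMap.id : N →ₗ[R] N) = 0 := by
    ext x
    exact Subsingleton.elim _ _
  rw [← Hmap_id I i y, h, Hmap_zero]

omit [IsNoetherianRing R] in
/-- if `a ∈ I` acts injectively on `H^i_I(M)` then `H^i_I(M) = 0`. -/
theorem subsingleton_H_of_smul_injective (M : Type u) [AddCommGroup M] [Module R M] (i : ℕ)
    (a : R) (ha : a ∈ I) (hinj : Function.Injective (fun y : LocCoh.H I i M => a • y)) :
    Subsingleton (LocCoh.H I i M) := by
  refine subsingleton_of_forall_eq 0 fun y => ?_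
  obtain ⟨n, hn⟩ := Groth.Agent.Lib.ExtSmul.isPowerTorsion_localCohomology I i
    (ModuleCat.of R M) y
  have h1 : a ^ n • y = 0 := hn _ (Ideal.pow_mem_pow ha n)
  clear hn
  induction n with
  | zero => simpa using h1
  | succ k ih =>
    apply ih
    apply hinj
    change a • (a ^ k • y) = a • 0
    rw [smul_zero, ← mul_smul, ← pow_succ']
    exact h1

/-- arithmetic in `WithBot ℕ∞`. -/
theorem lt_of_add_one_le_of_lt {x y : WithBot ℕ∞} {j : ℕ} (h1 : x + 1 ≤ y)
    (h2 : y < ((j + 1 : ℕ) : WithBot ℕ∞)) : x < ((j : ℕ) : WithBot ℕ∞) := by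
  have h3 : x + 1 < ((j + 1 : ℕ) : WithBot ℕ∞) := lt_of_le_of_lt h1 h2
  induction x using WithBot.recBotCoe with
  | bot => exact WithBot.bot_lt_coe _
  | coe n =>
    induction n using ENat.recTopCoe with
    | top =>
      exfalso
      have : ((⊤ : ℕ∞) : WithBot ℕ∞) + 1 = ((⊤ : ℕ∞) : WithBot ℕ∞) := rfl
      rw [this] at h3
      have h4 : ((j + 1 : ℕ) : WithBot ℕ∞) = (((j + 1 : ℕ) : ℕ∞) : WithBot ℕ∞) := rfl
      rw [h4, WithBot.coe_lt_coe] at h3
      exact absurd h3 (not_lt.2 le_top)
    | coe m =>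
      have h4 : (((m : ℕ∞) : WithBot ℕ∞) + 1) = (((m + 1 : ℕ) : ℕ∞) : WithBot ℕ∞) := by
        push_cast
        rfl
      have h5 : ((j + 1 : ℕ) : WithBot ℕ∞) = (((j + 1 : ℕ) : ℕ∞) : WithBot ℕ∞) := rfl
      rw [h4, h5, WithBot.coe_lt_coe, Nat.cast_lt] at h3
      have h6 : ((j : ℕ) : WithBot ℕ∞) = (((j : ℕ) : ℕ∞) : WithBot ℕ∞) := rfl
      rw [h6, WithBot.coe_lt_coe, Nat.cast_lt]
      omega

/-- the case of `R/p`. -/
theorem subsingleton_H_quotient_prime (p : PrimeSpectrum R) (j : ℕ)
    (ih : ∀ (M : Type u) [AddCommGroup M] [Module R M] [Module.Finite R M],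
      Module.supportDim R M < ((j : ℕ) : WithBot ℕ∞) → Subsingleton (LocCoh.H I j M))
    (hd : Module.supportDim R (R ⧸ p.asIdeal) < ((j + 1 : ℕ) : WithBot ℕ∞)) :
    Subsingleton (LocCoh.H I (j + 1) (R ⧸ p.asIdeal)) := by
  by_cases hIp : I ≤ p.asIdeal
  · apply subsingleton_H_of_isPowerTorsion I (j + 1) (Nat.succ_pos j)
    intro m
    obtain ⟨r, rfl⟩ := Submodule.Quotient.mk_surjective _ m
    refine ⟨1, fun a ha => ?_⟩
    rw [pow_one] at ha
    rw [← Submodule.Quotient.mk_smul]
    exact (Submodule.Quotient.mk_eq_zero _).2 (p.asIdeal.mul_mem_right r (hIp ha))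
  · obtain ⟨a, haI, hap⟩ := Set.not_subset.1 hIp
    let D := R ⧸ p.asIdeal
    let f : D →ₗ[R] D := a • LinearMap.id
    let g : D →ₗ[R] QuotSMulTop a D := Submodule.mkQ _
    have hf : Function.Injective f := by
      rw [injective_iff_map_eq_zero]
      intro m hm
      obtain ⟨r, rfl⟩ := Submodule.Quotient.mk_surjective _ m
      have h1 : a • (Submodule.Quotient.mk r : D) = 0 := hm
      rw [← Submodule.Quotient.mk_smul, Submodule.Quotient.mk_eq_zero] at h1
      have h2 : a * r ∈ p.asIdeal := h1
      rcases p.isPrime.mem_or_mem h2 with h3 | h3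
      · exact absurd h3 hap
      · exact (Submodule.Quotient.mk_eq_zero _).2 h3
    have hg : Function.Surjective g := Submodule.mkQ_surjective _
    have hfg : Function.Exact f g := by
      rw [LinearMap.exact_iff, Submodule.ker_mkQ]
      ext x
      rw [Submodule.mem_smul_pointwise_iff_exists, LinearMap.mem_range]
      constructor
      · rintro ⟨y, -, rfl⟩
        exact ⟨y, rfl⟩
      · rintro ⟨y, rfl⟩
        exact ⟨y, Submodule.mem_top, rfl⟩
    have hdim : Module.supportDim R (QuotSMulTop a D) + 1 ≤ Module.supportDim R D := by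
      apply Module.supportDim_quotSMulTop_succ_le_of_notMem_minimalPrimes
      intro q hq
      rw [Ideal.annihilator_quotient, Ideal.minimalPrimes_eq_subsingleton_self] at hq
      rw [Set.mem_singleton_iff.1 hq]
      exact hap
    have h3 : Subsingleton (LocCoh.H I j (QuotSMulTop a D)) :=
      ih (QuotSMulTop a D) (lt_of_add_one_le_of_lt hdim hd)
    have hinj := Hmap_injective_of_subsingleton_right I f g hf hfg hg j
    apply subsingleton_H_of_smul_injective I D (j + 1) a haI
    intro y z hyz
    apply hinj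
    rw [Hmap_smul, Hmap_smul, Hmap_id, Hmap_id]
    exact hyz

/-- Grothendieck vanishing for finitely generated modules. -/
theorem subsingleton_H_of_supportDim_lt_of_finite : ∀ (i : ℕ) (M : Type u) [AddCommGroup M]
    [Module R M] [Module.Finite R M],
    Module.supportDim R M < ((i : ℕ) : WithBot ℕ∞) → Subsingleton (LocCoh.H I i M) := by
  intro i
  induction i with
  | zero =>
    intro M _ _ _ h
    have h0 : Module.supportDim R M = ⊥ := by
      induction hx : Module.supportDim R M using WithBot.recBotCoe with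
      | bot => rfl
      | coe n =>
        exfalso
        rw [hx] at h
        have h1 : ((0 : ℕ) : WithBot ℕ∞) = (((0 : ℕ) : ℕ∞) : WithBot ℕ∞) := rfl
        rw [h1, WithBot.coe_lt_coe] at h
        exact absurd h (not_lt.2 bot_le)
    have := (Module.supportDim_eq_bot_iff_subsingleton R M).1 h0
    exact subsingleton_H_of_subsingleton I M 0
  | succ j ih =>
    intro M _ _ hfin
    refine IsNoetherianRing.induction_on_isQuotientEquivQuotientPrime R hfin
      (motive := fun N _ _ _ => Module.supportDim R N < ((j + 1 : ℕ) : WithBot ℕ∞) →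
        Subsingleton (LocCoh.H I (j + 1) N)) ?_ ?_ ?_
    · intro N _ _ _ _ _
      exact subsingleton_H_of_subsingleton I N (j + 1)
    · intro N _ _ _ p e hN
      rw [Module.supportDim_eq_of_equiv e] at hN
      have := subsingleton_H_quotient_prime I p j ih hN
      exact (Hmap_bijective_of_equiv I e (j + 1)).injective.subsingleton
    · intro N₁ _ _ _ N₂ _ _ _ N₃ _ _ _ f g hf hg hfg h1 h3 h2
      have := h1 (lt_of_le_of_lt (Module.supportDim_le_of_injective f hf) h2)
      have := h3 (lt_of_le_of_lt (Module.supportDim_le_of_surjective g hg) h2)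
      refine subsingleton_of_forall_eq 0 fun y => ?_
      obtain ⟨z, rfl⟩ := (exact₂ I f g hfg hf hg (j + 1) y).1 (Subsingleton.elim _ _)
      rw [Subsingleton.elim z 0, map_zero]

/-- **Grothendieck vanishing**: `H^i_I(M) = 0` for `i > dim Supp M`, any module `M`. -/
theorem subsingleton_H_of_supportDim_lt (M : Type u) [AddCommGroup M] [Module R M] (i : ℕ)
    (hi : Module.supportDim R M < ((i : ℕ) : WithBot ℕ∞)) : Subsingleton (LocCoh.H I i M) := by
  refine subsingleton_of_forall_eq 0 fun y => ?_
  obtain ⟨M', hM', y', rfl⟩ := exists_fg_H M I i y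
  have : Module.Finite R M' := Module.Finite.iff_fg.2 hM'
  have := subsingleton_H_of_supportDim_lt_of_finite I i M'
    (lt_of_le_of_lt (Module.supportDim_le_of_injective M'.subtype (Submodule.injective_subtype _)) hi)
  rw [Subsingleton.elim y' 0, map_zero]

/-- `cd(R, I) ≤ dim R`. -/
theorem cdLE_of_ringKrullDim_le (d : ℕ) (hd : ringKrullDim R ≤ d) : LocCoh.CdLE R I d := by
  intro M _ _ i hi
  apply subsingleton_H_of_supportDim_lt I M i
  refine lt_of_le_of_lt ((Module.supportDim_le_ringKrullDim R M).trans hd) ?_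
  exact_mod_cast hi

end vanishing

end Groth.Agent.Lib.LocCohVanishing
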