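import Mathlib

/-!
# Secondary-decomposition-lite for Artinian modules (helper9)
-/

set_option autoImplicit false
universe u v

namespace Groth.Agent.Lib.NonVanish9

open scoped Pointwise

variable {R : Type u} [CommRing R] {A : Type v} [AddCommGroup A] [Module R A]

theorem smul_le_self (B : Submodule R A) (r : R) : r • B ≤ B := by
  intro x hx
  obtain ⟨b, hb, rfl⟩ := (Submodule.mem_smul_pointwise_iff_exists _ _ _).1 hx
  exact B.smul_mem r hb

theorem pow_succ_smul_le (B : Submodule R A) (r : R) (k : ℕ) : r ^ (k + 1) • B ≤ r ^ k • B := by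
  rw [pow_succ, mul_smul]
  exact smul_mono_right _ (smul_le_self B r)

/-- In an Artinian module, on a sup-irreducible submodule every scalar acts surjectively or
nilpotently. -/
theorem smul_eq_or_exists_pow_smul_eq_bot [IsArtinian R A] (B : Submodule R A) (hB : SupIrred B)
    (r : R) : r • B = B ∨ ∃ k : ℕ, r ^ k • B = ⊥ := by
  -- the descending chain r^k B stabilizes
  let f : ℕ →o (Submodule R A)ᵒᵈ :=
    ⟨fun k => OrderDual.toDual (r ^ k • B), monotone_nat_of_le_succ fun k => pow_succ_smul_le B r k⟩
  obtain ⟨k, hk⟩ := IsArtinian.monotone_stabilizes f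
  have hk' : ∀ m, k ≤ m → r ^ k • B = r ^ m • B := fun m hm => congrArg OrderDual.ofDual (hk m hm)
  -- B = r^k B ⊔ (B ⊓ ker r^k)
  let C : Submodule R A := r ^ k • B
  let D : Submodule R A := B ⊓ Submodule.torsionBy R A (r ^ k)
  have hCD : C ⊔ D = B := by
    apply le_antisymm
    · exact sup_le (smul_le_self B _) inf_le_left
    · intro b hb
      have h1 : r ^ k • b ∈ r ^ (k + k) • B := by
        rw [← hk' (k + k) (Nat.le_add_right k k)]
        exact Submodule.smul_mem_pointwise_smul b (r ^ k) B hb
      obtain ⟨b', hb', hbb'⟩ := (Submodule.mem_smul_pointwise_iff_exists _ _ _).1 h1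
      have h2 : b = r ^ k • b' + (b - r ^ k • b') := by abel
      rw [h2]
      refine Submodule.add_mem_sup (Submodule.smul_mem_pointwise_smul b' (r ^ k) B hb') ?_
      refine ⟨B.sub_mem hb (B.smul_mem _ hb'), ?_⟩
      change r ^ k • (b - r ^ k • b') = 0
      rw [smul_sub, smul_smul, ← pow_add, hbb', sub_self]
  rcases hB.2 hCD with h | h
  · left
    apply le_antisymm (smul_le_self B r)
    have h3 : r ^ k • B = r ^ (k + 1) • B := hk' (k + 1) (Nat.le_succ k)
    calc B = r ^ k • B := h.symm
      _ = r ^ (k + 1) • B := h3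
      _ = r • (r ^ k • B) := by rw [pow_succ', mul_smul]
      _ ≤ r • B := smul_mono_right _ (smul_le_self B _)
  · right
    refine ⟨k, ?_⟩
    rw [eq_bot_iff]
    intro x hx
    obtain ⟨b, hb, rfl⟩ := (Submodule.mem_smul_pointwise_iff_exists _ _ _).1 hx
    have : b ∈ D := h ▸ hb
    exact this.2

/-- The radical of the annihilator of a sup-irreducible submodule of an Artinian module is prime. -/
theorem isPrime_radical_annihilator [IsArtinian R A] (B : Submodule R A) (hB : SupIrred B) :
    (Module.annihilator R B).radical.IsPrime := by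
  have hne : B ≠ ⊥ := fun h => hB.1 (h ▸ isMin_bot)
  have key : ∀ r : R, r ∉ (Module.annihilator R B).radical → r • B = B := by
    intro r hr
    rcases smul_eq_or_exists_pow_smul_eq_bot B hB r with h | ⟨k, hk⟩
    · exact h
    · exfalso
      apply hr
      refine ⟨k, ?_⟩
      rw [Module.mem_annihilator]
      intro b
      have : r ^ k • (b : A) ∈ r ^ k • B := Submodule.smul_mem_pointwise_smul _ _ _ b.2
      rw [hk] at this
      exact Subtype.ext ((Submodule.mem_bot R).1 this)
  refine ⟨?_, ?_⟩
  · rw [Ne, Ideal.radical_eq_top, Ideal.eq_top_iff_one, Module.mem_annihilator]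
    intro h
    apply hne
    rw [eq_bot_iff]
    intro b hb
    have := h ⟨b, hb⟩
    rw [one_smul] at this
    exact (Submodule.mem_bot R).2 (congrArg Subtype.val this)
  · intro a b hab
    by_contra hcon
    push Not at hcon
    have ha := key a hcon.1
    have hb := key b hcon.2
    have hab' : (a * b) • B = B := by rw [mul_smul, hb, ha]
    obtain ⟨k, hk⟩ := hab
    have hpow : ∀ j : ℕ, (a * b) ^ j • B = B := by
      intro j
      induction j with
      | zero => simp
      | succ j ih => rw [pow_succ, mul_smul, hab', ih]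
    apply hne
    rw [eq_bot_iff, ← hpow k]
    intro x hx
    obtain ⟨b', hb', rfl⟩ := (Submodule.mem_smul_pointwise_iff_exists _ _ _).1 hx
    have := (Module.mem_annihilator.1 hk) ⟨b', hb'⟩
    exact (Submodule.mem_bot R).2 (congrArg Subtype.val this)

theorem smul_eq_of_not_mem_radical [IsArtinian R A] (B : Submodule R A) (hB : SupIrred B) (r : R)
    (hr : r ∉ (Module.annihilator R B).radical) : r • B = B := by
  rcases smul_eq_or_exists_pow_smul_eq_bot B hB r with h | ⟨k, hk⟩
  · exact h
  · exfalso
    apply hr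
    refine ⟨k, ?_⟩
    rw [Module.mem_annihilator]
    intro b
    have : r ^ k • (b : A) ∈ r ^ k • B := Submodule.smul_mem_pointwise_smul _ _ _ b.2
    rw [hk] at this
    exact Subtype.ext ((Submodule.mem_bot R).1 this)

/-- Key lemma (weak form of the theory of attached primes): for an Artinian module `A` over a
Noetherian local ring `(R, 𝔪)` there are finitely many primes, none containing `𝔪`, such that for every
`r` outside all of them, `A / rA` is killed by a power of `𝔪`. -/
theorem exists_finset_primes [IsLocalRing R] [IsNoetherianRing R] (A : Type v) [AddCommGroup A]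
    [Module R A] [IsArtinian R A] :
    ∃ PP : Finset (Ideal R), (∀ p ∈ PP, p.IsPrime ∧ ¬ IsLocalRing.maximalIdeal R ≤ p) ∧
      ∀ r : R, (∀ p ∈ PP, r ∉ p) → ∃ N : ℕ, ∀ c ∈ IsLocalRing.maximalIdeal R ^ N, ∀ a : A,
        ∃ a' : A, c • a = r • a' := by
  classical
  obtain ⟨s, hs, hirr⟩ := exists_supIrred_decomposition (⊤ : Submodule R A)
  let P : Submodule R A → Ideal R := fun B => (Module.annihilator R B).radical
  refine ⟨(s.image P).filter (fun p => ¬ IsLocalRing.maximalIdeal R ≤ p), ?_, ?_⟩
  · intro p hp
    rw [Finset.mem_filter, Finset.mem_image] at hp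
    obtain ⟨⟨B, hBs, rfl⟩, hpm⟩ := hp
    exact ⟨isPrime_radical_annihilator B (hirr hBs), hpm⟩
  · intro r hr
    have hex : ∀ B : Submodule R A, ∃ n : ℕ, IsLocalRing.maximalIdeal R ≤ P B →
        IsLocalRing.maximalIdeal R ^ n ≤ Module.annihilator R B := by
      intro B
      by_cases h : IsLocalRing.maximalIdeal R ≤ P B
      · obtain ⟨k, hk⟩ := Ideal.exists_pow_le_of_le_radical_of_fg h (IsNoetherian.noetherian _)
        exact ⟨k, fun _ => hk⟩
      · exact ⟨0, fun h' => absurd h' h⟩
    choose Nf hNf using hex
    refine ⟨s.sup Nf, fun c hc a => ?_⟩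
    let T : Submodule R A := Submodule.comap (c • (LinearMap.id : A →ₗ[R] A)) (r • ⊤)
    have hT : (⊤ : Submodule R A) ≤ T := by
      rw [← hs]
      refine Finset.sup_le fun B hBs => ?_
      intro b hb
      change c • b ∈ r • (⊤ : Submodule R A)
      by_cases h : IsLocalRing.maximalIdeal R ≤ P B
      · have h1 : c ∈ Module.annihilator R B :=
          hNf B h (Ideal.pow_le_pow_right (Finset.le_sup (f := Nf) hBs) hc)
        have h2 := Module.mem_annihilator.1 h1 ⟨b, hb⟩
        have h3 : c • b = 0 := congrArg Subtype.val h2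
        rw [h3]
        exact Submodule.zero_mem _
      · have hPB : P B ∈ (s.image P).filter (fun p => ¬ IsLocalRing.maximalIdeal R ≤ p) := by
          rw [Finset.mem_filter, Finset.mem_image]
          exact ⟨⟨B, hBs, rfl⟩, h⟩
        have h1 := smul_eq_of_not_mem_radical B (hirr hBs) r (hr _ hPB)
        have hb' : b ∈ r • B := h1.symm ▸ hb
        obtain ⟨b', -, rfl⟩ := (Submodule.mem_smul_pointwise_iff_exists _ _ _).1 hb'
        rw [smul_comm]
        exact Submodule.smul_mem_pointwise_smul _ _ _ Submodule.mem_top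
    have := hT (Submodule.mem_top : a ∈ ⊤)
    obtain ⟨a', -, ha'⟩ := (Submodule.mem_smul_pointwise_iff_exists _ _ _).1 this
    exact ⟨a', ha'.symm⟩

end Groth.Agent.Lib.NonVanish9
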