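import Groth.Agent.Lib.LocCohLES
import Groth.Prelude.Def_DRing3

/-!
# `H^0_I(M) ≃ Γ_I(M)` (helper53)
-/

set_option maxHeartbeats 400000
universe u
open CategoryTheory CategoryTheory.Limits Opposite

namespace Groth.Agent.Lib.LocCohH0
open Groth.Agent.Lib.ExtBridge Groth.Agent.Lib.LocCohConcrete Groth.Agent.Lib.LocCohLES
open Abelian

variable {R : Type u} [CommRing R] (I : Ideal R) (M : Type u) [AddCommGroup M] [Module R M]

/-- the image of `1` under `φ : R/I^n → M` is `I`-power torsion. -/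
theorem apply_one_mem (n : ℕ) (φ : Q I n ⟶ ModuleCat.of R M) :
    φ.hom (Submodule.Quotient.mk (1 : R)) ∈ DRing.torsionSub I M := by
  refine ⟨n, fun a ha => ?_⟩
  rw [← map_smul]
  have : a • (Submodule.Quotient.mk (1 : R) : R ⧸ I ^ n) = 0 := by
    rw [← Submodule.Quotient.mk_smul, smul_eq_mul, mul_one]
    exact (Submodule.Quotient.mk_eq_zero _).2 ha
  rw [this, map_zero]

/-- evaluation at `1`: `Ext^0(R/I^n, M) → Γ_I(M)`. -/
noncomputable def ev (n : ℕ) :
    Ext.{u} (Q I n) (ModuleCat.of R M) 0 →ₗ[R] DRing.torsionSub I M where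
  toFun x := ⟨(Ext.linearEquiv₀ (R := R) x).hom (Submodule.Quotient.mk (1 : R)),
    apply_one_mem I M n _⟩
  map_add' x y := by
    apply Subtype.ext
    simp only [map_add]
    rfl
  map_smul' r x := by
    apply Subtype.ext
    simp only [map_smul]
    rfl

theorem ev_mk₀ (n : ℕ) (φ : Q I n ⟶ ModuleCat.of R M) :
    (ev I M n (Ext.mk₀ φ) : M) = φ.hom (Submodule.Quotient.mk (1 : R)) := by
  change (Ext.linearEquiv₀ (R := R) (Ext.mk₀ φ)).hom _ = _
  have : Ext.linearEquiv₀ (R := R) (Ext.mk₀ φ) = φ := by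
    apply (Ext.linearEquiv₀ (R := R)).symm.injective
    simp
  rw [this]

theorem ev_compat (n k : ℕ) (h : n ≤ k) (x : Ext.{u} (Q I n) (ModuleCat.of R M) 0) :
    ev I M k ((Ext.mk₀ (proj I h)).comp x (zero_add 0)) = ev I M n x := by
  obtain ⟨φ, rfl⟩ := (Ext.mk₀_bijective _ _).2 x
  apply Subtype.ext
  rw [Ext.mk₀_comp_mk₀, ev_mk₀, ev_mk₀]
  rfl

/-- `H^0_I(M) → Γ_I(M)`. -/
noncomputable def toGamma : LocCoh.H I 0 M →ₗ[R] DRing.torsionSub I M :=
  Hdesc I M 0 (DRing.torsionSub I M) (ev I M) (ev_compat I M)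

theorem toGamma_HιE (n : ℕ) (x : Ext.{u} (Q I n) (ModuleCat.of R M) 0) :
    toGamma I M (HιE I M 0 n x) = ev I M n x := by
  rw [toGamma, Hdesc_HιE]

theorem toGamma_HιE_mk₀ (n : ℕ) (φ : Q I n ⟶ ModuleCat.of R M) :
    (toGamma I M (HιE I M 0 n (Ext.mk₀ φ)) : M) = φ.hom (Submodule.Quotient.mk (1 : R)) := by
  rw [toGamma_HιE, ev_mk₀]

theorem toGamma_injective : Function.Injective (toGamma I M) := by
  rw [injective_iff_map_eq_zero]
  intro y hy
  obtain ⟨n, x, rfl⟩ := exists_rep I M 0 y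
  obtain ⟨φ, rfl⟩ := (Ext.mk₀_bijective _ _).2 x
  have h1 : φ.hom (Submodule.Quotient.mk (1 : R)) = 0 := by
    rw [← toGamma_HιE_mk₀, hy]
    rfl
  have h2 : φ = 0 := by
    apply ModuleCat.hom_ext
    apply LinearMap.ext
    intro q
    obtain ⟨r, rfl⟩ := Submodule.Quotient.mk_surjective _ q
    change φ.hom (Submodule.Quotient.mk r) = 0
    have : (Submodule.Quotient.mk r : R ⧸ I ^ n) = r • Submodule.Quotient.mk (1 : R) := by
      rw [← Submodule.Quotient.mk_smul, smul_eq_mul, mul_one]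
    rw [this, map_smul, h1, smul_zero]
  rw [h2, Ext.mk₀_zero, map_zero]

theorem toGamma_surjective : Function.Surjective (toGamma I M) := by
  rintro ⟨m, n, hn⟩
  let ψ : (R ⧸ I ^ n) →ₗ[R] M := Submodule.liftQ (I ^ n) (LinearMap.toSpanSingleton R M m) (by
    intro a ha
    rw [LinearMap.mem_ker, LinearMap.toSpanSingleton_apply]
    exact hn a ha)
  refine ⟨HιE I M 0 n (Ext.mk₀ (ModuleCat.ofHom ψ)), ?_⟩
  apply Subtype.ext
  rw [toGamma_HιE_mk₀]
  change ψ (Submodule.Quotient.mk (1 : R)) = m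
  simp only [ψ]
  rw [Submodule.liftQ_apply, LinearMap.toSpanSingleton_apply, one_smul]

/-- `H^0_I(M) ≃ Γ_I(M)`. -/
noncomputable def gammaEquiv : LocCoh.H I 0 M ≃ₗ[R] DRing.torsionSub I M :=
  LinearEquiv.ofBijective (toGamma I M) ⟨toGamma_injective I M, toGamma_surjective I M⟩

theorem gammaEquiv_apply (y : LocCoh.H I 0 M) : gammaEquiv I M y = toGamma I M y := rfl

variable {M} in
/-- naturality of `H^0_I(M) → Γ_I(M)`. -/
theorem toGamma_Hmap {M' : Type u} [AddCommGroup M'] [Module R M'] (φ : M →ₗ[R] M')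
    (y : LocCoh.H I 0 M) :
    (toGamma I M' (Hmap I φ 0 y) : M') = φ (toGamma I M y : M) := by
  obtain ⟨n, x, rfl⟩ := exists_rep I M 0 y
  obtain ⟨ψ, rfl⟩ := (Ext.mk₀_bijective _ _).2 x
  rw [Hmap_HιE, Ext.mk₀_comp_mk₀, toGamma_HιE_mk₀, toGamma_HιE_mk₀]
  rfl

/-- for an `I`-power torsion module, `H^0_I(M) ≃ M`. -/
noncomputable def equivOfTorsion (hM : LocCoh.IsPowerTorsion I M) : LocCoh.H I 0 M ≃ₗ[R] M :=
  (gammaEquiv I M).trans
    ((LinearEquiv.ofEq _ _ (show DRing.torsionSub I M = ⊤ from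
      top_unique fun m _ => hM m)).trans Submodule.topEquiv)

theorem equivOfTorsion_apply (hM : LocCoh.IsPowerTorsion I M) (y : LocCoh.H I 0 M) :
    equivOfTorsion I M hM y = (toGamma I M y : M) := rfl

variable {M} in
/-- `H^0_I` of a surjection of `I`-power torsion modules is surjective. -/
theorem Hmap_zero_surjective_of_torsion {M' : Type u} [AddCommGroup M'] [Module R M']
    (φ : M →ₗ[R] M') (hφ : Function.Surjective φ) (hM : LocCoh.IsPowerTorsion I M) :
    Function.Surjective (Hmap I φ 0) := by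
  intro z
  obtain ⟨m, hm⟩ := hφ (toGamma I M' z : M')
  obtain ⟨y, hy⟩ := (equivOfTorsion I M hM).surjective m
  refine ⟨y, ?_⟩
  apply toGamma_injective I M'
  apply Subtype.ext
  rw [toGamma_Hmap, ← hm, ← hy, equivOfTorsion_apply]

end Groth.Agent.Lib.LocCohH0
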