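import Groth.Agent.Lib.H29LocCohReg
import Groth.Agent.Lib.LocCohH0
import Groth.Agent.S0299

/-!
# `Ext` from finite modules supported in `V(J)` and local cohomology (helper29)

`A` Noetherian, `J` an ideal, `G` an arbitrary module.

* contravariant vanishing lemmas `subsingleton_ext_left_X₂`, `subsingleton_ext_left_X₃_succ`,
  `subsingleton_ext_left_X₃_zero`.
* `ext_subsingleton_of_span_left`: if `Ext^j(A/𝔟, G) = 0` for all ideals `𝔟 ⊇ 𝔞` then `Ext^j(L, G) = 0`
  for every finitely generated `L` killed by `𝔞`.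
* `exists_pow_smul_eq_zero_of_support`: a finite module with support in `V(J)` is killed by a power
  of `J`.
* `subsingleton_ext_of_H` : `H^i_J(G) = 0` for `i < n` ⇒ `Ext^i(F, G) = 0` for `i < n` and all finite
  `F` with support in `V(J)`.
* `subsingleton_H_of_ext`: the converse.
* `tf_of_subsingleton_ext_zero`: `Hom(F, G) = 0` for one finite `F` with `Supp F = V(J)` ⇒ `G` has no
  nonzero element killed by `J`.
* `subsingleton_H_of_ext_one`: `Ext^i(F, G) = 0` for `i < n` and one finite `F` with `Supp F = V(J)`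
  ⇒ `H^i_J(G) = 0` for `i < n`.
-/

set_option autoImplicit false
universe u

open CategoryTheory Abelian

namespace Groth.Agent.Lib.H29ExtSupport

open Groth.Agent.Lib.LocCohLES Groth.Agent.Lib.LocCohTorsion Groth.Agent.Lib.LocCohConcrete
  Groth.Agent.Lib.H47Reflexive Groth.Agent.Lib.H29TorsionInj Groth.Agent.Lib.H29LocCohReg
  Groth.Agent.Lib.LocCohH0

section abstract

variable {C : Type*} [Category C] [Abelian C] [HasExt C] {S : ShortComplex C}

theorem subsingleton_ext_left_X₂ (hS : S.ShortExact) (Y : C) (n : ℕ)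
    (h₁ : Subsingleton (Ext S.X₁ Y n)) (h₃ : Subsingleton (Ext S.X₃ Y n)) :
    Subsingleton (Ext S.X₂ Y n) := by
  refine subsingleton_of_forall_eq 0 fun x₂ => ?_
  obtain ⟨x₃, rfl⟩ := Ext.contravariant_sequence_exact₂ hS Y x₂ (Subsingleton.elim _ _)
  rw [Subsingleton.elim x₃ 0, Ext.comp_zero]

theorem subsingleton_ext_left_X₃_succ (hS : S.ShortExact) (Y : C) (n : ℕ)
    (h₂ : Subsingleton (Ext S.X₂ Y (n + 1))) (h₁ : Subsingleton (Ext S.X₁ Y n)) :
    Subsingleton (Ext S.X₃ Y (n + 1)) := by
  refine subsingleton_of_forall_eq 0 fun x₃ => ?_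
  obtain ⟨x₁, rfl⟩ := Ext.contravariant_sequence_exact₃ hS Y x₃ (Subsingleton.elim _ _)
    (add_comm 1 n)
  rw [Subsingleton.elim x₁ 0, Ext.comp_zero]

theorem subsingleton_ext_left_X₃_zero (hS : S.ShortExact) (Y : C)
    (h₂ : Subsingleton (Ext S.X₂ Y 0)) : Subsingleton (Ext S.X₃ Y 0) := by
  have := hS.epi_g
  exact (Ext.precomp_mk₀_injective_of_epi Y S.g).subsingleton

theorem subsingleton_ext_left_X₁ (hS : S.ShortExact) (Y : C) (n : ℕ)
    (h₂ : Subsingleton (Ext S.X₂ Y n)) (h₃ : Subsingleton (Ext S.X₃ Y (n + 1))) :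
    Subsingleton (Ext S.X₁ Y n) := by
  refine subsingleton_of_forall_eq 0 fun x₁ => ?_
  obtain ⟨x₂, rfl⟩ := Ext.contravariant_sequence_exact₁ hS Y x₁ (add_comm 1 n)
    (Subsingleton.elim _ _)
  rw [Subsingleton.elim x₂ 0, Ext.comp_zero]

end abstract

variable {A : Type u} [CommRing A]

theorem subsingleton_ext_of_subsingleton_left (N : ModuleCat.{u} A) [Subsingleton N]
    (Y : ModuleCat.{u} A) (i : ℕ) : Subsingleton (Ext N Y i) := by
  refine subsingleton_of_forall_eq 0 fun x => ?_
  have h0 : (𝟙 N : N ⟶ N) = 0 := (ModuleCat.isZero_of_subsingleton N).eq_of_src _ _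
  rw [← Ext.mk₀_id_comp x, h0, Ext.mk₀_zero, Ext.zero_comp]

/-- the short exact sequence `0 → N → L → L/N → 0`. -/
theorem sub_shortExact {L : Type u} [AddCommGroup L] [Module A L] (N : Submodule A L) :
    (ses N.subtype N.mkQ (LinearMap.exact_subtype_mkQ N)).ShortExact :=
  ses_shortExact _ _ (Submodule.injective_subtype N) _ (Submodule.mkQ_surjective N)

/-- If `Ext^j(A/𝔟, G) = 0` for all ideals `𝔟 ⊇ 𝔞`, then `Ext^j(L, G) = 0` for all finitely generated
`L` killed by `𝔞` (induction on the number of generators). -/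
theorem ext_subsingleton_of_span_left (G : ModuleCat.{u} A) (j : ℕ) (𝔞 : Ideal A)
    (hc : ∀ 𝔟 : Ideal A, 𝔞 ≤ 𝔟 → Subsingleton (Ext (ModuleCat.of A (A ⧸ 𝔟)) G j)) :
    ∀ (r : ℕ) (L : Type u) [AddCommGroup L] [Module A L] (s : Fin r → L),
      Submodule.span A (Set.range s) = ⊤ → (∀ b ∈ 𝔞, ∀ l : L, b • l = 0) →
      Subsingleton (Ext (ModuleCat.of A L) G j) := by
  intro r
  induction r with
  | zero =>
    intro L _ _ s hs _
    have : Subsingleton L := by
      have h : (⊤ : Submodule A L) = ⊥ := by
        rw [← hs, Set.range_eq_empty, Submodule.span_empty]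
      exact (Submodule.subsingleton_iff A).mp (subsingleton_of_bot_eq_top h.symm)
    haveI : Subsingleton (ModuleCat.of A L) := this
    exact subsingleton_ext_of_subsingleton_left _ G j
  | succ r ih =>
    intro L _ _ s hs hkill
    let g : A →ₗ[A] L := LinearMap.toSpanSingleton A L (s 0)
    let N : Submodule A L := LinearMap.range g
    have hker : 𝔞 ≤ LinearMap.ker g := by
      intro b hb
      rw [LinearMap.mem_ker]
      exact hkill b hb (s 0)
    have hN : Subsingleton (Ext (ModuleCat.of A N) G j) := by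
      have e : ModuleCat.of A (A ⧸ LinearMap.ker g) ≅ ModuleCat.of A N :=
        (LinearMap.quotKerEquivRange g).toModuleIso
      exact Groth.Agent.Lib.H29Depth.subsingleton_ext_of_iso e.symm j (hc _ hker)
    have hQ : Subsingleton (Ext (ModuleCat.of A (L ⧸ N)) G j) := by
      refine ih (L ⧸ N) (fun i => N.mkQ (s i.succ)) ?_ ?_
      · rw [eq_top_iff]
        rintro y -
        obtain ⟨l, rfl⟩ := N.mkQ_surjective y
        have hl : l ∈ Submodule.span A (Set.range s) := by rw [hs]; trivial
        induction hl using Submodule.span_induction with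
        | mem x hx =>
          obtain ⟨i, rfl⟩ := hx
          refine Fin.cases ?_ (fun k => ?_) i
          · have : N.mkQ (s 0) = 0 := by
              rw [Submodule.mkQ_apply, Submodule.Quotient.mk_eq_zero]
              exact ⟨1, by simp [g]⟩
            rw [this]
            exact Submodule.zero_mem _
          · exact Submodule.subset_span ⟨k, rfl⟩
        | zero => rw [map_zero]; exact Submodule.zero_mem _
        | add x y _ _ hx hy => rw [map_add]; exact Submodule.add_mem _ hx hy
        | smul a x _ hx => rw [map_smul]; exact Submodule.smul_mem _ a hx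
      · intro b hb q
        obtain ⟨l, rfl⟩ := N.mkQ_surjective q
        rw [← map_smul, hkill b hb l, map_zero]
    exact subsingleton_ext_left_X₂ (sub_shortExact N) G j hN hQ

variable [IsNoetherianRing A] (J : Ideal A)

/-- a finite module with support in `V(J)` is killed by a power of `J`. -/
theorem exists_pow_smul_eq_zero_of_support (F : Type u) [AddCommGroup F] [Module A F]
    [Module.Finite A F] (hF : Module.support A F ⊆ PrimeSpectrum.zeroLocus (J : Set A)) :
    ∃ k : ℕ, ∀ b ∈ J ^ k, ∀ f : F, b • f = 0 := by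
  rw [Module.support_eq_zeroLocus, PrimeSpectrum.zeroLocus_subset_zeroLocus_iff] at hF
  obtain ⟨k, hk⟩ := Ideal.exists_pow_le_of_le_radical_of_fg hF (IsNoetherian.noetherian J)
  refine ⟨k, fun b hb f => ?_⟩
  exact Module.mem_annihilator.mp (hk hb) f

theorem support_quotient_subset (𝔟 : Ideal A) {k : ℕ} (h : J ^ k ≤ 𝔟) :
    Module.support A (A ⧸ 𝔟) ⊆ PrimeSpectrum.zeroLocus (J : Set A) := by
  intro p hp
  rw [Module.support_eq_zeroLocus, Ideal.annihilator_quotient] at hp
  have h1 : J ^ k ≤ p.asIdeal := h.trans hp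
  exact (Ideal.IsPrime.le_of_pow_le h1 : J ≤ p.asIdeal)

variable (G : Type u) [AddCommGroup G] [Module A G]

/-- The class of finite modules supported in `V(J)` has vanishing `Ext^e(-, G)`. -/
def ExtVanish (e : ℕ) : Prop :=
  ∀ (F : Type u) [AddCommGroup F] [Module A F], Module.Finite A F →
    Module.support A F ⊆ PrimeSpectrum.zeroLocus (J : Set A) →
    Subsingleton (Ext (ModuleCat.of A F) (ModuleCat.of A G) e)

/-- if `Ext^{i-1}(-, G)` vanishes on finite modules supported in `V(J)` then `Ext^i(A/𝔟, G)` injects into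
`Ext^i(A/𝔠, G)` for `J^k ≤ 𝔠 ≤ 𝔟`; here in the form: vanishing for `𝔠` implies vanishing for `𝔟`. -/
theorem subsingleton_ext_quotient_of_le (i : ℕ) (hprev : ∀ e, e + 1 = i → ExtVanish J G e)
    {𝔟 𝔠 : Ideal A} {k : ℕ} (hk : J ^ k ≤ 𝔠) (h : 𝔠 ≤ 𝔟)
    (h𝔠 : Subsingleton (Ext (ModuleCat.of A (A ⧸ 𝔠)) (ModuleCat.of A G) i)) :
    Subsingleton (Ext (ModuleCat.of A (A ⧸ 𝔟)) (ModuleCat.of A G) i) := by
  let g : (A ⧸ 𝔠) →ₗ[A] (A ⧸ 𝔟) := Submodule.mapQ 𝔠 𝔟 LinearMap.id (by simpa using h)
  have hg : Function.Surjective g := by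
    intro y
    obtain ⟨r, rfl⟩ := Submodule.Quotient.mk_surjective _ y
    exact ⟨Submodule.Quotient.mk r, rfl⟩
  let f : LinearMap.ker g →ₗ[A] (A ⧸ 𝔠) := (LinearMap.ker g).subtype
  have hf : Function.Injective f := Submodule.injective_subtype _
  have hfg : Function.Exact f g := LinearMap.exact_subtype_ker_map g
  have hS : (ses f g hfg).ShortExact := ses_shortExact f g hf hfg hg
  rcases Nat.eq_zero_or_pos i with rfl | hi
  · exact subsingleton_ext_left_X₃_zero hS _ h𝔠
  · obtain ⟨e, rfl⟩ := Nat.exists_eq_succ_of_ne_zero hi.ne'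
    have hK : Subsingleton (Ext (ModuleCat.of A (LinearMap.ker g)) (ModuleCat.of A G) e) :=
      hprev e rfl (LinearMap.ker g) inferInstance
        ((Module.support_subset_of_injective f hf).trans (support_quotient_subset J 𝔠 hk))
    exact subsingleton_ext_left_X₃_succ hS _ e h𝔠 hK

/-- `Ext^i(A/J^k, G) = 0` for all `k` and `Ext^{i-1}` vanishing ⇒ `Ext^i(-, G)` vanishes on finite modules
supported in `V(J)`. -/
theorem extVanish_of_Q (i : ℕ) (hprev : ∀ e, e + 1 = i → ExtVanish J G e)
    (hQ : ∀ k : ℕ, Subsingleton (Ext (Q J k) (ModuleCat.of A G) i)) : ExtVanish J G i := by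
  intro F _ _ hfin hF
  obtain ⟨k, hk⟩ := exists_pow_smul_eq_zero_of_support J F hF
  obtain ⟨r, s, hs⟩ := Module.Finite.exists_fin (R := A) (M := F)
  refine ext_subsingleton_of_span_left (ModuleCat.of A G) i (J ^ k) ?_ r F s hs hk
  intro 𝔟 h𝔟
  exact subsingleton_ext_quotient_of_le J G i hprev (le_refl _) h𝔟 (hQ k)

/-- the transition maps `Ext^i(R/J^n, G) → Ext^i(R/J^k, G)` are injective when `Ext^{i-1}(-, G)`
vanishes on finite modules supported in `V(J)`. -/
theorem transition_injective (i : ℕ) (hprev : ∀ e, e + 1 = i → ExtVanish J G e) {n k : ℕ}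
    (h : n ≤ k) (x : Ext (Q J n) (ModuleCat.of A G) i)
    (hx : (Ext.mk₀ (proj J h)).comp x (zero_add i) = 0) : x = 0 := by
  have hsurj : Function.Surjective (proj J h).hom := by
    intro y
    obtain ⟨r, rfl⟩ := Submodule.Quotient.mk_surjective _ y
    exact ⟨Submodule.Quotient.mk r, rfl⟩
  rcases Nat.eq_zero_or_pos i with rfl | hd0
  · have : Epi (proj J h) := (ModuleCat.epi_iff_surjective _).mpr hsurj
    exact Ext.precomp_mk₀_injective_of_epi (ModuleCat.of A G) (proj J h) (by
      simpa using hx)
  · obtain ⟨e, rfl⟩ := Nat.exists_eq_succ_of_ne_zero hd0.ne'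
    let g : (A ⧸ J ^ k) →ₗ[A] (A ⧸ J ^ n) := (proj J h).hom
    let f : LinearMap.ker g →ₗ[A] (A ⧸ J ^ k) := (LinearMap.ker g).subtype
    have hf : Function.Injective f := Submodule.injective_subtype _
    have hfg : Function.Exact f g := LinearMap.exact_subtype_ker_map g
    have hS : (ses f g hfg).ShortExact := ses_shortExact f g hf hfg hsurj
    have hsub : Subsingleton (Ext (ModuleCat.of A (LinearMap.ker g)) (ModuleCat.of A G) e) :=
      hprev e rfl (LinearMap.ker g) inferInstance
        ((Module.support_subset_of_injective f hf).trans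
          (support_quotient_subset J (J ^ k) (le_refl _)))
    obtain ⟨z, rfl⟩ := Ext.contravariant_sequence_exact₃ hS (ModuleCat.of A G) x hx
      (add_comm 1 e)
    rw [Subsingleton.elim z 0, Ext.comp_zero]

/-- `H^i_J(G) = 0` for `i < n` ⇒ `Ext^i(F, G) = 0` for `i < n`, `F` finite supported in `V(J)`. -/
theorem extVanish_of_H (n : ℕ) (hH : ∀ i : ℕ, i < n → Subsingleton (LocCoh.H J i G)) :
    ∀ i : ℕ, i < n → ExtVanish J G i := by
  intro i
  induction i using Nat.strong_induction_on with
  | _ i ih =>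
    intro hi
    have hprev : ∀ e, e + 1 = i → ExtVanish J G e := fun e he =>
      ih e (by omega) (by omega)
    apply extVanish_of_Q J G i hprev
    intro k
    refine subsingleton_of_forall_eq 0 fun x => ?_
    have h0 : HιE J G i k x = 0 := (hH i hi).elim _ _
    obtain ⟨l, hl, hzero⟩ := (HιE_eq_zero_iff J G i x).mp h0
    exact transition_injective J G i hprev hl x hzero

/-- `Ext^i(A/J^k, G) = 0` for all `k` ⇒ `H^i_J(G) = 0`. -/
theorem subsingleton_H_of_Q (i : ℕ)
    (hQ : ∀ k : ℕ, Subsingleton (Ext (Q J k) (ModuleCat.of A G) i)) :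
    Subsingleton (LocCoh.H J i G) := by
  refine subsingleton_of_forall_eq 0 fun y => ?_
  obtain ⟨k, x, rfl⟩ := exists_rep J G i y
  rw [(hQ k).elim x 0, map_zero]

theorem subsingleton_H_of_extVanish (i : ℕ) (h : ExtVanish J G i) :
    Subsingleton (LocCoh.H J i G) :=
  subsingleton_H_of_Q J G i fun k => h (A ⧸ J ^ k) inferInstance
    (support_quotient_subset J (J ^ k) (le_refl _))

section one

/-- no `J`-torsion ⇒ no `J`-power torsion. -/
theorem torsionSub_eq_bot_of_tf (h : TF J G) : DRing.torsionSub J G = ⊥ := by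
  rw [eq_bot_iff]
  rintro g ⟨k, hk⟩
  rw [Submodule.mem_bot]
  induction k generalizing g with
  | zero =>
    have := hk 1 (by simp)
    simpa using this
  | succ k ih =>
    apply ih
    intro a ha
    apply h
    intro b hb
    rw [smul_smul]
    exact hk (b * a) (by rw [pow_succ']; exact Ideal.mul_mem_mul hb ha)

theorem subsingleton_H_zero_of_tf (h : TF J G) : Subsingleton (LocCoh.H J 0 G) := by
  have hbot := torsionSub_eq_bot_of_tf J G h
  have hall : ∀ z : DRing.torsionSub J G, z = 0 := by
    intro z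
    apply Subtype.ext
    have hz : (z : G) ∈ DRing.torsionSub J G := z.2
    have hz' : (z : G) ∈ (⊥ : Submodule A G) := hbot ▸ hz
    exact (Submodule.mem_bot A).mp hz'
  refine subsingleton_of_forall_eq 0 fun y => ?_
  apply (gammaEquiv J G).injective
  rw [hall (gammaEquiv J G y), map_zero]

/-- Rees: `Hom(F, G) = 0` for one finite `F` with `Supp F = V(J)` ⇒ `G` has no nonzero element killed
by `J` (`G` arbitrary). -/
theorem tf_of_subsingleton_ext_zero (F : Type u) [AddCommGroup F] [Module A F] [Module.Finite A F]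
    (hF : Module.support A F = PrimeSpectrum.zeroLocus (J : Set A))
    (h0 : Subsingleton (Ext (ModuleCat.of A F) (ModuleCat.of A G) 0)) : TF J G := by
  intro g hg
  by_contra hne
  by_cases hnt : Nontrivial F
  · -- `N = A g` is finite, nonzero, killed by `J`
    let N : Submodule A G := Submodule.span A {g}
    have hgN : g ∈ N := Submodule.subset_span rfl
    have hkill : ∀ a ∈ J, ∀ y : N, a • y = 0 := by
      intro a ha y
      apply Subtype.ext
      obtain ⟨c, hc⟩ := Submodule.mem_span_singleton.mp y.2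
      change a • (y : G) = 0
      rw [← hc, smul_comm, hg a ha, smul_zero]
    have hNnt : Nontrivial N := ⟨⟨⟨g, hgN⟩, 0, fun h => hne (congrArg Subtype.val h)⟩⟩
    have hJN : J • (⊤ : Submodule A N) ≠ ⊤ := by
      have hbot : J • (⊤ : Submodule A N) = ⊥ := by
        rw [eq_bot_iff]
        intro y hy
        refine Submodule.smul_induction_on hy ?_ ?_
        · intro a ha z _
          rw [hkill a ha z]; exact Submodule.zero_mem _
        · intro y1 y2 h1 h2
          exact Submodule.add_mem _ h1 h2
      rw [hbot]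
      exact bot_ne_top
    have hext : Subsingleton (Ext (ModuleCat.of A F) (ModuleCat.of A N) 0) := by
      haveI : Mono (ModuleCat.ofHom N.subtype) :=
        (ModuleCat.mono_iff_injective _).mpr (Submodule.injective_subtype N)
      exact (Ext.postcomp_mk₀_injective_of_mono (ModuleCat.of A F)
        (ModuleCat.ofHom N.subtype)).subsingleton
    have hlt : J • (⊤ : Submodule A (ModuleCat.of A N)) < ⊤ := lt_top_iff_ne_top.mpr hJN
    have tfae := ModuleCat.exists_isRegular_tfae J 1 (ModuleCat.of A N) hlt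
    have h34 := tfae.out 2 3
    obtain ⟨rs, hlen, hmem, hreg⟩ := h34.mp
      ⟨ModuleCat.of A F, hnt, inferInstanceAs (Module.Finite A F), hF, fun i hi => by
        obtain rfl : i = 0 := by omega
        exact hext⟩
    obtain ⟨x, rfl⟩ := List.length_eq_one_iff.mp hlen
    have hx : IsSMulRegular N x := by
      have := hreg.toIsWeaklyRegular
      rwa [RingTheory.Sequence.isWeaklyRegular_singleton_iff] at this
    have hxJ : x ∈ J := hmem x (by simp)
    have : (⟨g, hgN⟩ : N) = 0 := hx (by
      change x • (⟨g, hgN⟩ : N) = x • 0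
      rw [hkill x hxJ, smul_zero])
    exact hne (congrArg Subtype.val this)
  · -- `F = 0`, so `V(J) = ∅` and `J = ⊤`
    have hsub : Subsingleton F := not_nontrivial_iff_subsingleton.mp hnt
    have hempty : PrimeSpectrum.zeroLocus (J : Set A) = ∅ := by
      rw [← hF]; exact Module.support_eq_empty
    have htop : J = ⊤ := (PrimeSpectrum.zeroLocus_empty_iff_eq_top).mp hempty
    apply hne
    have := hg 1 (by rw [htop]; trivial)
    simpa using this

/-- a module without `J`-torsion embeds into a module `E` with `H^i_J(E) = 0` for all `i`. -/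
theorem exists_acyclic_embedding (h : TF J G) :
    ∃ (E : Type u) (_ : AddCommGroup E) (_ : Module A E) (f : G →ₗ[A] E),
      Function.Injective f ∧ ∀ i : ℕ, Subsingleton (LocCoh.H J i E) := by
  obtain ⟨Q, _, _, ι, hι, hQ⟩ := Groth.Agent.S0299.exists_injective_embedding A G
  refine ⟨Q ⧸ DRing.torsionSub J Q, inferInstance, inferInstance,
    (DRing.torsionSub J Q).mkQ ∘ₗ ι, ?_, ?_⟩
  · rw [← LinearMap.ker_eq_bot, eq_bot_iff]
    intro g hg
    rw [LinearMap.mem_ker, LinearMap.comp_apply, Submodule.mkQ_apply,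
      Submodule.Quotient.mk_eq_zero] at hg
    obtain ⟨k, hk⟩ := hg
    have hmem : g ∈ DRing.torsionSub J G := by
      refine ⟨k, fun a ha => hι ?_⟩
      rw [map_smul, hk a ha, map_zero]
    rwa [torsionSub_eq_bot_of_tf J G h] at hmem
  · intro i
    rcases Nat.eq_zero_or_pos i with rfl | hi
    · exact subsingleton_H_zero_of_tf J _
        (tf_quotient_torsionSub J Q (IsNoetherian.noetherian J))
    · have hb := Hmap_mkQ_torsionSub_bijective J Q i hi
      haveI := subsingleton_H_of_injective J Q hQ i hi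
      exact hb.2.subsingleton

/-- `Ext^i(F, G) = 0` for `i < n` and ONE finite `F` with `Supp F = V(J)` ⇒ `H^i_J(G) = 0` for `i < n`
(`G` arbitrary). -/
theorem subsingleton_H_of_ext_one (F : Type u) [AddCommGroup F] [Module A F] [Module.Finite A F]
    (hF : Module.support A F = PrimeSpectrum.zeroLocus (J : Set A)) (n : ℕ) :
    ∀ (G : Type u) [AddCommGroup G] [Module A G],
      (∀ i : ℕ, i < n → Subsingleton (Ext (ModuleCat.of A F) (ModuleCat.of A G) i)) →
      ∀ i : ℕ, i < n → Subsingleton (LocCoh.H J i G) := by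
  induction n with
  | zero => intro G _ _ _ i hi; omega
  | succ n ih =>
    intro G _ _ hext i hi
    rcases Nat.lt_succ_iff_lt_or_eq.mp hi with hlt | rfl
    · exact ih G (fun j hj => hext j (by omega)) i hlt
    · have hTF : TF J G := tf_of_subsingleton_ext_zero J G F hF (hext 0 (Nat.succ_pos _))
      rcases Nat.eq_zero_or_pos i with rfl | hpos
      · exact subsingleton_H_zero_of_tf J G hTF
      · obtain ⟨m, rfl⟩ := Nat.exists_eq_succ_of_ne_zero hpos.ne'
        obtain ⟨E, _, _, f, hf, hE⟩ := exists_acyclic_embedding J G hTF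
        let g := (LinearMap.range f).mkQ
        have hg : Function.Surjective g := Submodule.mkQ_surjective _
        have hfg : Function.Exact f g := LinearMap.exact_map_mkQ_range f
        have hS : (ses f g hfg).ShortExact := ses_shortExact f g hf hfg hg
        -- `Ext^j(F, E) = 0` for all `j`
        have hFE : ∀ j : ℕ, Subsingleton (Ext (ModuleCat.of A F) (ModuleCat.of A E) j) :=
          fun j => extVanish_of_H J E (j + 1) (fun i _ => hE i) j (Nat.lt_succ_self j) F
            inferInstance hF.le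
        -- `Ext^j(F, C) = 0` for `j < m + 1`
        have hFC : ∀ j : ℕ, j < m + 1 →
            Subsingleton (Ext (ModuleCat.of A F) (ModuleCat.of A (E ⧸ LinearMap.range f)) j) :=
          fun j hj => Groth.Agent.Lib.H29Depth.subsingleton_ext_X₃ hS (ModuleCat.of A F) j
            (hFE j) (hext (j + 1) (by omega))
        have hC := ih (E ⧸ LinearMap.range f) hFC m (Nat.lt_succ_self m)
        refine subsingleton_of_forall_eq 0 fun y => ?_
        obtain ⟨z, rfl⟩ := (exact₁ J f g hf hfg hg m y).1 ((hE (m + 1)).elim _ _)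
        rw [hC.elim z 0, map_zero]

end one

end Groth.Agent.Lib.H29ExtSupport
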