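import Groth.Prelude.Def_CAlg
import Mathlib.RingTheory.Ideal.AssociatedPrime.Basic
import Mathlib.RingTheory.Ideal.AssociatedPrime.Finiteness
import Mathlib.RingTheory.KrullDimension.NonZeroDivisors
import Mathlib.RingTheory.Nakayama
import Mathlib.RingTheory.QuotSMulTop

set_option autoImplicit false
universe u v

namespace Groth.Agent.Lib.DepthBasic

open RingTheory.Sequence IsLocalRing Pointwise

variable {R : Type u} [CommRing R]

/-- If `p ⊊ q` are primes then `dim R/q + 1 ≤ dim R/p`. -/
lemma ringKrullDim_quotient_succ_le_of_lt {p q : Ideal R} [p.IsPrime] (hpq : p ≤ q) {x : R}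
    (hxq : x ∈ q) (hxp : x ∉ p) :
    ringKrullDim (R ⧸ q) + 1 ≤ ringKrullDim (R ⧸ p) := by
  refine ringKrullDim_succ_le_of_surjective (Ideal.Quotient.factor hpq)
    (Ideal.Quotient.factor_surjective hpq) (r := Ideal.Quotient.mk p x) ?_ ?_
  · apply mem_nonZeroDivisors_of_ne_zero
    rwa [Ne, Ideal.Quotient.eq_zero_iff_mem]
  · simpa [Ideal.Quotient.eq_zero_iff_mem] using hxq

/-- The submodule of elements killed by an ideal. -/
def killedBy (p : Ideal R) (M : Type v) [AddCommGroup M] [Module R M] : Submodule R M where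
  carrier := {m | ∀ a ∈ p, a • m = 0}
  add_mem' := by
    intro m n hm hn a ha
    rw [smul_add, hm a ha, hn a ha, add_zero]
  zero_mem' := by intro a _; exact smul_zero a
  smul_mem' := by
    intro c m hm a ha
    rw [smul_comm, hm a ha, smul_zero]

lemma mem_killedBy {p : Ideal R} {M : Type v} [AddCommGroup M] [Module R M] {m : M} :
    m ∈ killedBy p M ↔ ∀ a ∈ p, a • m = 0 := Iff.rfl

/-- Key step for `depth M ≤ dim R/p`: an associated prime of `M` is strictly contained in an
associated prime of `M/xM` containing `x`, for `x` in the maximal ideal and `M`-regular. -/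
lemma exists_isAssociatedPrime_quotSMulTop [IsLocalRing R] [IsNoetherianRing R]
    {M : Type v} [AddCommGroup M] [Module R M] [Module.Finite R M]
    {p : Ideal R} (hp : p ∈ associatedPrimes R M) {x : R} (hx : x ∈ maximalIdeal R)
    (hreg : IsSMulRegular M x) :
    ∃ q ∈ associatedPrimes R (QuotSMulTop x M), p ≤ q ∧ x ∈ q ∧ x ∉ p := by
  have hp' := (isAssociatedPrime_iff.mp hp)
  obtain ⟨hprime, m0, hm0⟩ := hp'
  have hm0ne : m0 ≠ 0 := by
    rintro rfl
    apply hprime.ne_top
    rw [hm0, Ideal.eq_top_iff_one, Submodule.mem_colon_singleton]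
    simp
  have hxp : x ∉ p := by
    intro hxp
    rw [hm0, Submodule.mem_colon_singleton, Submodule.mem_bot] at hxp
    exact hm0ne (hreg (by simpa using hxp))
  have hm0N : m0 ∈ killedBy p M := by
    intro a ha
    rw [hm0, Submodule.mem_colon_singleton, Submodule.mem_bot] at ha
    exact ha
  set N := killedBy p M with hN
  set N' : Submodule R (QuotSMulTop x M) := N.map (x • (⊤ : Submodule R M)).mkQ with hN'
  have hN'ne : N' ≠ ⊥ := by
    intro hbot
    have hle : N ≤ x • (⊤ : Submodule R M) := by
      intro n hn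
      have : (x • (⊤ : Submodule R M)).mkQ n ∈ N' := Submodule.mem_map_of_mem hn
      rw [hbot, Submodule.mem_bot] at this
      simpa using this
    have hle2 : N ≤ (Ideal.span {x}) • N := by
      intro n hn
      obtain ⟨m, -, rfl⟩ := (Submodule.mem_smul_pointwise_iff_exists _ _ _).mp (hle hn)
      have hmN : m ∈ N := by
        intro a ha
        apply hreg
        have := hn a ha
        simp only [smul_zero]
        rw [smul_comm]; exact this
      exact Submodule.smul_mem_smul (Ideal.mem_span_singleton_self x) hmN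
    have hfg : N.FG := IsNoetherian.noetherian N
    have hbotN : N = ⊥ := Submodule.eq_bot_of_le_smul_of_le_jacobson_bot _ N hfg hle2 (by
      rw [IsLocalRing.jacobson_eq_maximalIdeal _ bot_ne_top]
      exact (Ideal.span_singleton_le_iff_mem _).mpr hx)
    rw [hbotN, Submodule.mem_bot] at hm0N
    exact hm0ne hm0N
  have : Nontrivial N' := (Submodule.nontrivial_iff_ne_bot).mpr hN'ne
  obtain ⟨q, hq⟩ := associatedPrimes.nonempty R N'
  refine ⟨q, associatedPrimes.subset_of_injective (f := N'.subtype) N'.injective_subtype hq, ?_, ?_, hxp⟩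
  · obtain ⟨-, n', hn'⟩ := isAssociatedPrime_iff.mp hq
    intro a ha
    rw [hn', Submodule.mem_colon_singleton, Submodule.mem_bot]
    obtain ⟨n, hn, hnn'⟩ := n'.2
    apply Subtype.ext
    rw [Submodule.coe_smul, ← hnn', ← map_smul, hn a ha]
    simp
  · obtain ⟨-, n', hn'⟩ := isAssociatedPrime_iff.mp hq
    rw [hn', Submodule.mem_colon_singleton, Submodule.mem_bot]
    obtain ⟨n, hn, hnn'⟩ := n'.2
    apply Subtype.ext
    rw [Submodule.coe_smul, ← hnn', ← map_smul]
    simp only [Submodule.mkQ_apply, ZeroMemClass.coe_zero, Submodule.Quotient.mk_eq_zero]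
    exact Submodule.smul_mem_pointwise_smul n x ⊤ Submodule.mem_top


/-- The length of a weakly regular sequence in the maximal ideal is bounded by `dim R/p`
for every associated prime `p`. -/
lemma length_le_ringKrullDim_quotient [IsLocalRing R] [IsNoetherianRing R] (rs : List R) :
    ∀ {M : Type v} [AddCommGroup M] [Module R M] [Module.Finite R M] {p : Ideal R},
      p ∈ associatedPrimes R M → IsWeaklyRegular M rs → (∀ r ∈ rs, r ∈ maximalIdeal R) →
      ((rs.length : ℕ∞) : WithBot ℕ∞) ≤ ringKrullDim (R ⧸ p) := by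
  induction rs with
  | nil =>
    intro M _ _ _ p hp _ _
    have hprime : p.IsPrime := hp.isPrime
    have : Nontrivial (R ⧸ p) := Ideal.Quotient.nontrivial_iff.mpr hprime.ne_top
    simpa using ringKrullDim_nonneg_of_nontrivial (R := R ⧸ p)
  | cons x rs ih =>
    intro M _ _ _ p hp hreg hmem
    have hprime : p.IsPrime := hp.isPrime
    rw [isWeaklyRegular_cons_iff] at hreg
    obtain ⟨q, hq, hpq, hxq, hxp⟩ :=
      exists_isAssociatedPrime_quotSMulTop hp (hmem x List.mem_cons_self) hreg.1
    have h1 := ih hq hreg.2 (fun r hr => hmem r (List.mem_cons_of_mem _ hr))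
    have h2 := ringKrullDim_quotient_succ_le_of_lt hpq hxq hxp
    refine le_trans ?_ h2
    rw [List.length_cons]
    push_cast
    gcongr
    exact_mod_cast h1

end Groth.Agent.Lib.DepthBasic
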