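import Groth.Agent.Lib.DepthFlat33
import Groth.Agent.Lib.DepthBasic
import Groth.Agent.S2089
import Mathlib.RingTheory.Regular.Flat
import Mathlib.RingTheory.KrullDimension.Module
import Mathlib.RingTheory.Localization.AtPrime.Basic
import Mathlib.RingTheory.Localization.LocalizationLocalization
import Mathlib.Algebra.Module.LocalizedModule.Basic
import Mathlib.RingTheory.Localization.Finiteness
import Mathlib.Tactic

/-!
# Depth, grade and localization (helper33)

* `exists_le_mem_associatedPrimes_of_idealDepth_eq_zero`: grade zero ⟹ `I ≤ p ∈ Ass M`.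
* `depth_le_idealDepth_add_dim`: over a Noetherian local ring,
  `depth M ≤ grade(I, M) + dim R/I` (Bruns–Herzog Ex. 1.2.23).
* `idealDepth_le_depth_of_isLocalizedModule`: `grade(I, M) ≤ depth M_p` for `I ≤ p ∈ Supp M`.
-/

set_option autoImplicit false
universe u v w w'

namespace Groth.Agent.Lib.DepthLoc33

open RingTheory.Sequence IsLocalRing Groth.Agent.Lib
open scoped Pointwise

section Grade

variable {R : Type u} [CommRing R]

/-- If `I M ≠ M` and there is no `M`-regular element in `I` (grade zero) then `I` is contained in an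
associated prime of `M`. -/
lemma exists_le_mem_associatedPrimes_of_idealDepth_eq_zero [IsNoetherianRing R]
    (I : Ideal R) (M : Type v) [AddCommGroup M] [Module R M] [Module.Finite R M]
    (hI : I • (⊤ : Submodule R M) ≠ ⊤) (h0 : LocCoh.idealDepth I M = 0) :
    ∃ p ∈ associatedPrimes R M, I ≤ p := by
  have h : ¬ ((1 : ℕ) : ℕ∞) ≤ LocCoh.idealDepth I M := by rw [h0]; simp
  rw [DepthRees.natCast_le_idealDepth_iff I M hI] at h
  have hsub : ((I : Ideal R) : Set R) ⊆ ⋃ p ∈ associatedPrimes R M, (p : Set R) := by
    rw [biUnion_associatedPrimes_eq_zero_divisors]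
    intro x hx
    by_contra hx'
    apply h
    refine ⟨[x], rfl, by simpa using hx, ?_⟩
    rw [isWeaklyRegular_singleton_iff, isSMulRegular_iff_right_eq_zero_of_smul]
    intro n hn
    by_contra hn0
    exact hx' ⟨n, hn0, hn⟩
  have hfin : (associatedPrimes R M).Finite := associatedPrimes.finite R M
  have hsub' : ((I : Ideal R) : Set R) ⊆
      ⋃ p ∈ (↑hfin.toFinset : Set (Ideal R)), ((fun q : Ideal R => q) p : Set R) := by
    simpa using hsub
  obtain ⟨q, hq, hle⟩ := (Ideal.subset_union_prime (f := fun q : Ideal R => q) ⊥ ⊥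
    (fun i hi _ _ => ((hfin.mem_toFinset).mp hi).isPrime)).mp hsub'
  exact ⟨q, (hfin.mem_toFinset).mp hq, hle⟩

/-- If `1 ≤ grade(I, M)` there is an `M`-regular element in `I`. -/
lemma exists_regular_of_one_le_idealDepth (I : Ideal R) (M : Type v) [AddCommGroup M] [Module R M]
    (hI : I • (⊤ : Submodule R M) ≠ ⊤) (h : 1 ≤ LocCoh.idealDepth I M) :
    ∃ x ∈ I, IsSMulRegular M x := by
  have h1 : ((1 : ℕ) : ℕ∞) ≤ LocCoh.idealDepth I M := by simpa using h
  obtain ⟨rs, hlen, hmem, hreg⟩ := (DepthRees.natCast_le_idealDepth_iff I M hI 1).mp h1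
  obtain ⟨x, rfl⟩ := List.length_eq_one_iff.mp hlen
  rw [isWeaklyRegular_singleton_iff] at hreg
  exact ⟨x, hmem x (by simp), hreg⟩

end Grade

section Local

variable {R : Type u} [CommRing R] [IsLocalRing R] [IsNoetherianRing R]

omit [IsNoetherianRing R] in
/-- Nakayama for a proper ideal of a local ring. -/
lemma smul_top_ne_top_of_ne_top {I : Ideal R} (hI : I ≠ ⊤) (M : Type v) [AddCommGroup M]
    [Module R M] [Module.Finite R M] [Nontrivial M] : I • (⊤ : Submodule R M) ≠ ⊤ := fun h =>
  DepthRees.maximalIdeal_smul_top_ne_top M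
    (top_le_iff.mp (h.ge.trans (Submodule.smul_mono_left (le_maximalIdeal hI))))

lemma depth_le_idealDepth_add_dim_aux (I : Ideal R) (hI : I ≠ ⊤) (d : ℕ∞)
    (hd : ringKrullDim (R ⧸ I) = d) :
    ∀ (n : ℕ) (M : Type u) [AddCommGroup M] [Module R M] [Module.Finite R M] [Nontrivial M],
      LocCoh.idealDepth I M = n → LocCoh.depth R M ≤ n + d := by
  intro n
  induction n with
  | zero =>
    intro M _ _ _ _ h0
    have hIM := smul_top_ne_top_of_ne_top hI M
    obtain ⟨p, hp, hIp⟩ := exists_le_mem_associatedPrimes_of_idealDepth_eq_zero I M hIM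
      (by simpa using h0)
    have h1 := Groth.Agent.S2089.result p hp
    have h2 : ringKrullDim (R ⧸ p) ≤ ringKrullDim (R ⧸ I) :=
      ringKrullDim_le_of_surjective (Ideal.Quotient.factor hIp)
        (Ideal.Quotient.factor_surjective hIp)
    have h3 := h1.trans h2
    rw [hd, WithBot.coe_le_coe] at h3
    simpa using h3
  | succ n ih =>
    intro M _ _ _ _ hn
    have hIM := smul_top_ne_top_of_ne_top hI M
    obtain ⟨x, hxI, hx⟩ := exists_regular_of_one_le_idealDepth I M hIM (by rw [hn]; simp)
    have hxm : x ∈ maximalIdeal R := le_maximalIdeal hI hxI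
    have : Nontrivial (QuotSMulTop x M) := DepthFlat33.nontrivial_quotSMulTop M hxm
    have e1 := DepthRees.idealDepth_quotSMulTop_add_one I M hIM hxI hx
    have e2 := DepthRees.depth_quotSMulTop_add_one M hxm hx
    have e3 : LocCoh.idealDepth I (QuotSMulTop x M) = n := by
      rw [hn] at e1
      have : LocCoh.idealDepth I (QuotSMulTop x M) + 1 = (n : ℕ∞) + 1 := by
        rw [e1]; push_cast; rfl
      exact ENat.add_left_injective_of_ne_top ENat.one_ne_top this
    have e4 := ih (QuotSMulTop x M) e3
    rw [← e2]
    calc LocCoh.depth R (QuotSMulTop x M) + 1 ≤ (n + d) + 1 := add_le_add_left e4 1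
      _ = ((n + 1 : ℕ) : ℕ∞) + d := by push_cast; ring

/-- **`depth M ≤ grade(I, M) + dim R/I`** for a nontrivial finite module over a Noetherian local
ring and a proper ideal `I`. -/
theorem depth_le_idealDepth_add_dim (I : Ideal R) (hI : I ≠ ⊤)
    (M : Type u) [AddCommGroup M] [Module R M] [Module.Finite R M] [Nontrivial M] :
    ((LocCoh.depth R M : ℕ∞) : WithBot ℕ∞) ≤
      ((LocCoh.idealDepth I M : ℕ∞) : WithBot ℕ∞) + ringKrullDim (R ⧸ I) := by
  have : Nontrivial (R ⧸ I) := Ideal.Quotient.nontrivial_iff.mpr hI
  obtain ⟨d, hd⟩ : ∃ d : ℕ∞, ringKrullDim (R ⧸ I) = d := by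
    have h0 := ringKrullDim_nonneg_of_nontrivial (R := R ⧸ I)
    cases h : ringKrullDim (R ⧸ I) with
    | bot => rw [h] at h0; simp at h0
    | coe d => exact ⟨d, rfl⟩
  rw [hd, ← WithBot.coe_add, WithBot.coe_le_coe]
  rcases eq_or_ne (LocCoh.idealDepth I M) ⊤ with htop | hne
  · rw [htop]; simp
  · obtain ⟨n, hn⟩ := ENat.ne_top_iff_exists.mp hne
    rw [← hn]
    exact depth_le_idealDepth_add_dim_aux I hI d hd n M hn.symm

end Local

section Localization

variable {R : Type u} [CommRing R] (p : Ideal R) [p.IsPrime]
  (Rp : Type v) [CommRing Rp] [Algebra R Rp] [IsLocalization.AtPrime Rp p] [IsLocalRing Rp]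
  {M : Type w} [AddCommGroup M] [Module R M] {Mp : Type w'} [AddCommGroup Mp] [Module R Mp]
  [Module Rp Mp] [IsScalarTower R Rp Mp] (f : M →ₗ[R] Mp) [IsLocalizedModule p.primeCompl f]

include f in
/-- If `I ≤ p` and `M_p ≠ 0` is finite, then `I M ≠ M`. -/
lemma smul_top_ne_top_of_isLocalizedModule [Module.Finite Rp Mp] [Nontrivial Mp]
    (I : Ideal R) (hI : I ≤ p) : I • (⊤ : Submodule R M) ≠ ⊤ := by
  intro h
  apply DepthRees.maximalIdeal_smul_top_ne_top (R := Rp) Mp
  rw [eq_top_iff]
  intro y _
  have key : ∀ m ∈ I • (⊤ : Submodule R M), f m ∈ maximalIdeal Rp • (⊤ : Submodule Rp Mp) := by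
    intro m hm
    refine Submodule.smul_induction_on hm ?_ ?_
    · intro a ha m' _
      rw [map_smul, ← algebraMap_smul Rp a (f m')]
      refine Submodule.smul_mem_smul ?_ Submodule.mem_top
      exact (IsLocalization.AtPrime.to_map_mem_maximal_iff Rp p a).mpr (hI ha)
    · intro a b ha hb
      rw [map_add]; exact Submodule.add_mem _ ha hb
  obtain ⟨⟨m, s⟩, hs⟩ := IsLocalizedModule.surj p.primeCompl f y
  have hm : f m ∈ maximalIdeal Rp • (⊤ : Submodule Rp Mp) := key m (by rw [h]; trivial)
  have hu : IsUnit (algebraMap R Rp s.1) := IsLocalization.map_units Rp s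
  simp only at hs
  rw [Submonoid.smul_def, ← algebraMap_smul Rp (s : R) y] at hs
  have : y = (hu.unit⁻¹ : Rpˣ).1 • f m := by
    rw [← hs, smul_smul]
    simp
  rw [this]
  exact Submodule.smul_mem _ _ hm

include f in
/-- **`grade(I, M) ≤ depth M_p`** for `I ≤ p` and `M_p` a nonzero finite module. -/
theorem idealDepth_le_depth_of_isLocalizedModule [Module.Finite Rp Mp] [Nontrivial Mp]
    (I : Ideal R) (hI : I ≤ p) : LocCoh.idealDepth I M ≤ LocCoh.depth Rp Mp := by
  have hIM := smul_top_ne_top_of_isLocalizedModule p Rp f I hI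
  unfold LocCoh.idealDepth
  rw [if_neg hIM]
  refine iSup_le fun rs => iSup_le fun hrs => ?_
  have hreg := hrs.1.of_isLocalizedModule Rp p.primeCompl f
  refine (DepthRees.natCast_le_depth_iff Mp rs.length).mpr
    ⟨rs.map (algebraMap R Rp), List.length_map _, ?_, hreg⟩
  intro r hr
  obtain ⟨a, ha, rfl⟩ := List.mem_map.mp hr
  exact (IsLocalization.AtPrime.to_map_mem_maximal_iff Rp p a).mpr (hI (hrs.2 a ha))

end Localization

section Dim

variable {R : Type u} [CommRing R] (p : Ideal R) [p.IsPrime]
  (M : Type v) [AddCommGroup M] [Module R M]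

/-- `dim M_p + dim R/p ≤ dim M`. -/
theorem supportDim_localization_add_ringKrullDim_quotient_le :
    Module.supportDim (Localization.AtPrime p) (LocalizedModule p.primeCompl M) +
      ringKrullDim (R ⧸ p) ≤ Module.supportDim R M := by
  by_cases hM : Nontrivial (LocalizedModule p.primeCompl M)
  · have hP : (⟨p, inferInstance⟩ : PrimeSpectrum R) ∈ Module.support R M :=
      Module.mem_support_iff.mpr hM
    let P : Module.support R M := ⟨⟨p, inferInstance⟩, hP⟩
    have h1 : Module.supportDim (Localization.AtPrime p) (LocalizedModule p.primeCompl M) ≤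
        ((Order.height P : ℕ∞) : WithBot ℕ∞) := by
      rw [Order.height_eq_krullDim_Iic]
      unfold Module.supportDim
      have hle : ∀ q : PrimeSpectrum (Localization.AtPrime p),
          (PrimeSpectrum.comap (algebraMap R (Localization.AtPrime p)) q).asIdeal ≤ p := by
        intro q
        have := (IsLocalization.disjoint_under_iff p.primeCompl (Localization.AtPrime p)
          q.asIdeal).mpr q.2.ne_top
        intro x hx
        by_contra hxp
        exact Set.disjoint_left.mp this hxp hx
      refine Order.krullDim_le_of_strictMono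
        (fun q => (⟨⟨PrimeSpectrum.comap (algebraMap R (Localization.AtPrime p)) q.1,
          SerreSk.comap_mem_support_of_mem_support p M q.1 q.2⟩, hle q.1⟩ : Set.Iic P)) ?_
      intro a b hab
      refine lt_of_le_of_ne ?_ ?_
      · exact Ideal.comap_mono (le_of_lt hab)
      · intro h
        have h' : PrimeSpectrum.comap (algebraMap R (Localization.AtPrime p)) a.1 =
            PrimeSpectrum.comap (algebraMap R (Localization.AtPrime p)) b.1 := by
          simpa using congrArg (fun z : Set.Iic P => z.1.1) h
        have := PrimeSpectrum.localization_comap_injective (Localization.AtPrime p) p.primeCompl h'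
        exact hab.ne (Subtype.ext this)
    have h2 : ringKrullDim (R ⧸ p) ≤ ((Order.coheight P : ℕ∞) : WithBot ℕ∞) := by
      rw [Order.coheight_eq_krullDim_Ici, ringKrullDim_quotient]
      refine Order.krullDim_le_of_strictMono
        (fun q => (⟨⟨q.1, Module.mem_support_mono
          (by have := q.2; rw [PrimeSpectrum.mem_zeroLocus] at this; exact this) hP⟩,
          (by have := q.2; rw [PrimeSpectrum.mem_zeroLocus] at this; exact this)⟩ : Set.Ici P)) ?_
      intro a b hab
      exact hab
    refine (add_le_add h1 h2).trans ?_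
    unfold Module.supportDim
    have : Nonempty (Module.support R M) := ⟨P⟩
    rw [Order.krullDim_eq_iSup_height_add_coheight_of_nonempty, ← WithBot.coe_add,
      WithBot.coe_le_coe]
    exact le_iSup (fun a : Module.support R M => Order.height a + Order.coheight a) P
  · rw [not_nontrivial_iff_subsingleton] at hM
    rw [Module.supportDim_eq_bot_of_subsingleton, WithBot.bot_add]
    exact bot_le

end Dim

section LocLoc

variable {R : Type u} [CommRing R] (S : Submonoid R) (M : Type v) [AddCommGroup M] [Module R M]

/-- Localization in stages: for a prime `P` of `S⁻¹R` with contraction `p'`, and an ideal `I ≤ P`,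
`grade(I, S⁻¹M) ≤ depth M_{p'}` (construction of the localization-in-stages data copied from
Mathlib's `freeLocus_localization`). -/
theorem idealDepth_localizedModule_le_depth (P : Ideal (Localization S)) [P.IsPrime]
    (I : Ideal (Localization S)) (hI : I ≤ P) [Module.Finite R M]
    [Nontrivial (LocalizedModule (P.comap (algebraMap R (Localization S))).primeCompl M)] :
    LocCoh.idealDepth I (LocalizedModule S M) ≤
      LocCoh.depth (Localization.AtPrime (P.comap (algebraMap R (Localization S))))
        (LocalizedModule (P.comap (algebraMap R (Localization S))).primeCompl M) := by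
  let p' := P.comap (algebraMap R (Localization S))
  have hp' : S ≤ p'.primeCompl := fun x hx H ↦
    (inferInstance : P.IsPrime).ne_top
      (Ideal.eq_top_of_isUnit_mem _ H (IsLocalization.map_units _ ⟨x, hx⟩))
  let Rₚ := Localization.AtPrime p'
  let Mₚ := LocalizedModule p'.primeCompl M
  let : Algebra (Localization S) Rₚ :=
    IsLocalization.localizationAlgebraOfSubmonoidLe _ _ S p'.primeCompl hp'
  have : IsScalarTower R (Localization S) Rₚ :=
    IsLocalization.localization_isScalarTower_of_submonoid_le ..
  have : IsLocalization.AtPrime Rₚ P := by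
    have := IsLocalization.isLocalization_of_submonoid_le (Localization S) Rₚ _ _ hp'
    apply IsLocalization.isLocalization_of_is_exists_mul_mem _
      (Submonoid.map (algebraMap R (Localization S)) p'.primeCompl)
    · rintro _ ⟨x, hx, rfl⟩; exact hx
    · rintro ⟨x, hx⟩
      obtain ⟨x, s, rfl⟩ := IsLocalization.exists_mk'_eq S x
      refine ⟨algebraMap _ _ s.1, x, fun H ↦ hx ?_, by simp⟩
      rw [IsLocalization.mk'_eq_mul_mk'_one]
      exact Ideal.mul_mem_right _ _ H
  let : Module (Localization S) Mₚ := Module.compHom Mₚ (algebraMap _ Rₚ)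
  have : IsScalarTower R (Localization S) Mₚ :=
    ⟨fun r r' m ↦ show algebraMap _ Rₚ (r • r') • m = _ by
      simp [p', Rₚ, Mₚ, Algebra.smul_def, ← IsScalarTower.algebraMap_apply, mul_smul]; rfl⟩
  have : IsScalarTower (Localization S) Rₚ Mₚ :=
    ⟨fun r r' m ↦ show _ = algebraMap _ Rₚ r • r' • m by rw [← mul_smul, ← Algebra.smul_def]⟩
  let l := (IsLocalizedModule.liftOfLE _ _ hp' (LocalizedModule.mkLinearMap S M)
    (LocalizedModule.mkLinearMap p'.primeCompl M)).extendScalarsOfIsLocalization S
    (Localization S)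
  have : IsLocalizedModule P.primeCompl l := by
    have : IsLocalizedModule p'.primeCompl (l.restrictScalars R) :=
      inferInstanceAs (IsLocalizedModule p'.primeCompl
        (IsLocalizedModule.liftOfLE _ _ hp' (LocalizedModule.mkLinearMap S M)
        (LocalizedModule.mkLinearMap p'.primeCompl M)))
    have : IsLocalizedModule (Algebra.algebraMapSubmonoid (Localization S) p'.primeCompl) l :=
      IsLocalizedModule.of_restrictScalars p'.primeCompl ..
    apply IsLocalizedModule.of_exists_mul_mem
      (Algebra.algebraMapSubmonoid (Localization S) p'.primeCompl)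
    · rintro _ ⟨x, hx, rfl⟩; exact hx
    · rintro ⟨x, hx⟩
      obtain ⟨x, s, rfl⟩ := IsLocalization.exists_mk'_eq S x
      refine ⟨algebraMap _ _ s.1, x, fun H ↦ hx ?_, by simp⟩
      rw [IsLocalization.mk'_eq_mul_mk'_one]
      exact Ideal.mul_mem_right _ _ H
  have hfin : Module.Finite Rₚ Mₚ := inferInstance
  have hnt : Nontrivial Mₚ := inferInstance
  exact idealDepth_le_depth_of_isLocalizedModule P Rₚ l I hI

end LocLoc

section QuotLoc

variable {R : Type u} [CommRing R]

/-- `dim R_s / p R_s ≤ ht (s/p)` for primes `p ≤ s`. -/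
theorem ringKrullDim_quotient_localization_le_height (p s : Ideal R) [p.IsPrime] [s.IsPrime]
    (hps : p ≤ s) :
    ringKrullDim (Localization.AtPrime s ⧸ p.map (algebraMap R (Localization.AtPrime s))) ≤
      (((s.map (Ideal.Quotient.mk p)).height : ℕ∞) : WithBot ℕ∞) := by
  have hker : RingHom.ker (Ideal.Quotient.mk p) ≤ s := by rw [Ideal.mk_ker]; exact hps
  have hsp : (s.map (Ideal.Quotient.mk p)).IsPrime :=
    Ideal.map_isPrime_of_surjective Ideal.Quotient.mk_surjective hker
  let T : PrimeSpectrum (R ⧸ p) := ⟨s.map (Ideal.Quotient.mk p), hsp⟩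
  have hT : (s.map (Ideal.Quotient.mk p)).height = Order.height T :=
    PrimeSpectrum.height_eq_orderHeight T
  rw [hT, Order.height_eq_krullDim_Iic, ringKrullDim_quotient]
  -- data attached to a point of the zero locus
  have hp_le : ∀ q : PrimeSpectrum (Localization.AtPrime s),
      q ∈ PrimeSpectrum.zeroLocus
        ((p.map (algebraMap R (Localization.AtPrime s)) : Ideal _) : Set (Localization.AtPrime s)) →
      p ≤ q.asIdeal.comap (algebraMap R (Localization.AtPrime s)) := by
    intro q hq
    rw [PrimeSpectrum.mem_zeroLocus] at hq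
    exact Ideal.le_comap_map.trans (Ideal.comap_mono hq)
  have hle_s : ∀ q : PrimeSpectrum (Localization.AtPrime s),
      q.asIdeal.comap (algebraMap R (Localization.AtPrime s)) ≤ s := by
    intro q
    have := (IsLocalization.disjoint_under_iff s.primeCompl (Localization.AtPrime s)
      q.asIdeal).mpr q.2.ne_top
    intro x hx
    by_contra hxs
    exact Set.disjoint_left.mp this hxs hx
  refine Order.krullDim_le_of_strictMono
    (fun q => (⟨⟨(q.1.asIdeal.comap (algebraMap R (Localization.AtPrime s))).map
        (Ideal.Quotient.mk p),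
      Ideal.map_isPrime_of_surjective Ideal.Quotient.mk_surjective
        (by rw [Ideal.mk_ker]; exact hp_le q.1 q.2)⟩,
      Ideal.map_mono (hle_s q.1)⟩ : Set.Iic T)) ?_
  intro a b hab
  refine lt_of_le_of_ne ?_ ?_
  · exact Ideal.map_mono (Ideal.comap_mono (le_of_lt hab))
  · intro h
    have h' : (a.1.asIdeal.comap (algebraMap R (Localization.AtPrime s))).map
        (Ideal.Quotient.mk p) =
        (b.1.asIdeal.comap (algebraMap R (Localization.AtPrime s))).map
        (Ideal.Quotient.mk p) := by
      simpa using congrArg (fun z : Set.Iic T => z.1.asIdeal) h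
    have h'' := congrArg (Ideal.comap (Ideal.Quotient.mk p)) h'
    rw [Ideal.comap_map_mk (hp_le a.1 a.2), Ideal.comap_map_mk (hp_le b.1 b.2)] at h''
    have := PrimeSpectrum.localization_comap_injective (Localization.AtPrime s) s.primeCompl
      (PrimeSpectrum.ext h'' : PrimeSpectrum.comap (algebraMap R (Localization.AtPrime s)) a.1 =
        PrimeSpectrum.comap (algebraMap R (Localization.AtPrime s)) b.1)
    exact hab.ne (Subtype.ext this)

/-- Depth of a localization only depends on the prime. -/
lemma depth_localization_congr (M : Type v) [AddCommGroup M] [Module R M] {p p' : Ideal R}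
    [p.IsPrime] [p'.IsPrime] (h : p = p') :
    LocCoh.depth (Localization.AtPrime p) (LocalizedModule p.primeCompl M) =
      LocCoh.depth (Localization.AtPrime p') (LocalizedModule p'.primeCompl M) := by
  subst h; rfl

end QuotLoc

end Groth.Agent.Lib.DepthLoc33
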