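import Groth.Agent.Lib.H29Depth
import Mathlib.Algebra.Module.FinitePresentation
import Mathlib.LinearAlgebra.Dual.Lemmas
import Mathlib.RingTheory.Support
import Mathlib.Algebra.Homology.ShortComplex.ModuleCat
import Mathlib.Algebra.Homology.DerivedCategory.Ext.EnoughProjectives
import Mathlib.Algebra.Category.ModuleCat.Projective

/-!
# helper47: torsion-freeness w.r.t. an ideal, depth ≥ 1, and localization of double duals
-/

set_option autoImplicit false
set_option linter.unusedSectionVars false
universe u

namespace Groth.Agent.Lib.H47Reflexive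

open CategoryTheory Abelian

section TF

variable {A : Type u} [CommRing A]

/-- `M` has no nonzero element killed by `I` (i.e. `Hom(A/I, M) = 0`). -/
def TF (I : Ideal A) (M : Type u) [AddCommGroup M] [Module A M] : Prop :=
  ∀ m : M, (∀ a ∈ I, a • m = 0) → m = 0

variable (I : Ideal A) (M : Type u) [AddCommGroup M] [Module A M]

theorem tf_iff_ext_zero :
    TF I M ↔ Subsingleton (Ext (ModuleCat.of A (A ⧸ I)) (ModuleCat.of A M) 0) := by
  constructor
  · intro h
    refine subsingleton_of_forall_eq 0 fun x => ?_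
    obtain ⟨f, rfl⟩ := (Ext.mk₀_bijective _ _).2 x
    have hf : f = 0 := by
      apply ModuleCat.hom_ext
      apply LinearMap.ext
      intro y
      obtain ⟨a, rfl⟩ := Ideal.Quotient.mk_surjective y
      have h1 : f.hom (Ideal.Quotient.mk I 1) = 0 := by
        apply h
        intro b hb
        rw [← map_smul]
        have : b • (Ideal.Quotient.mk I 1) = 0 := by
          rw [Algebra.smul_def, Ideal.Quotient.algebraMap_eq, ← map_mul, mul_one]
          exact Ideal.Quotient.eq_zero_iff_mem.mpr hb
        rw [this, map_zero]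
      have h2 : Ideal.Quotient.mk I a = a • (Ideal.Quotient.mk I 1) := by
        rw [Algebra.smul_def, Ideal.Quotient.algebraMap_eq, ← map_mul, mul_one]
      rw [h2, map_smul, h1, smul_zero]
      rfl
    rw [hf, Ext.mk₀_zero]
  · intro h m hm
    let φ : (A ⧸ I) →ₗ[A] M := Submodule.liftQ I (LinearMap.toSpanSingleton A M m) (by
      intro a ha
      rw [LinearMap.mem_ker, LinearMap.toSpanSingleton_apply]
      exact hm a ha)
    have h0 : ModuleCat.ofHom φ = 0 := by
      apply (Ext.mk₀_bijective (ModuleCat.of A (A ⧸ I)) (ModuleCat.of A M)).1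
      exact Subsingleton.elim _ _
    have h1 : φ (Ideal.Quotient.mk I 1) = 0 := by
      have := congrArg (fun g => g.hom (Ideal.Quotient.mk I 1)) h0
      exact this
    have h2 : φ (Ideal.Quotient.mk I 1) = m := by
      change (LinearMap.toSpanSingleton A M m) 1 = m
      rw [LinearMap.toSpanSingleton_apply, one_smul]
    rw [← h2, h1]

theorem one_le_idealDepth_iff [IsNoetherianRing A] [Module.Finite A M] :
    1 ≤ LocCoh.idealDepth I M ↔ TF I M := by
  rw [tf_iff_ext_zero]
  have := Groth.Agent.Lib.H29Depth.le_idealDepth_iff_ext' I M 1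
  rw [Nat.cast_one] at this
  rw [this]
  constructor
  · intro h; exact h 0 Nat.one_pos
  · intro h i hi
    obtain rfl : i = 0 := by omega
    exact h

variable {I M}

theorem TF.of_injective {N : Type u} [AddCommGroup N] [Module A N] (h : TF I N)
    (f : M →ₗ[A] N) (hf : Function.Injective f) : TF I M := by
  intro m hm
  apply hf
  rw [map_zero]
  apply h
  intro a ha
  rw [← map_smul, hm a ha, map_zero]

/-- `Hom(N, M)` is `I`-torsion-free when `M` is. -/
theorem TF.linearMap {N : Type u} [AddCommGroup N] [Module A N] (h : TF I M) :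
    TF I (N →ₗ[A] M) := by
  intro φ hφ
  ext n
  apply h
  intro a ha
  have := congrArg (fun ψ : N →ₗ[A] M => ψ n) (hφ a ha)
  exact this

/-- an `I`-torsion-free module all of whose elements are killed by a power of `I` locally off
`V(I)` is zero. -/
theorem TF.eq_zero_of_support (h : TF I M) (hI : I.FG)
    (hsupp : ∀ p : Ideal A, p.IsPrime → ¬ I ≤ p → ∀ m : M, ∃ s ∉ p, s • m = 0) (m : M) : m = 0 := by
  set J : Ideal A := (Submodule.span A {m}).annihilator with hJ
  have hrad : I ≤ J.radical := by
    rw [Ideal.radical_eq_sInf]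
    refine le_sInf ?_
    rintro p ⟨hJp, hp⟩
    by_contra hIp
    obtain ⟨s, hs, hsm⟩ := hsupp p hp hIp m
    exact hs (hJp ((Submodule.mem_annihilator_span_singleton _ _).mpr hsm))
  obtain ⟨n, hn⟩ := Ideal.exists_pow_le_of_le_radical_of_fg hrad hI
  have key : ∀ n : ℕ, ∀ m : M, I ^ n ≤ (Submodule.span A {m}).annihilator → m = 0 := by
    intro n
    induction n with
    | zero =>
      intro m hm
      have : (1 : A) ∈ (Submodule.span A {m}).annihilator := hm (by simp)
      rw [Submodule.mem_annihilator_span_singleton, one_smul] at this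
      exact this
    | succ n ih =>
      intro m hm
      apply ih
      intro b hb
      rw [Submodule.mem_annihilator_span_singleton]
      apply h
      intro a ha
      rw [smul_smul]
      have : a * b ∈ I ^ (n + 1) := by
        rw [pow_succ']
        exact Ideal.mul_mem_mul ha hb
      exact (Submodule.mem_annihilator_span_singleton _ _).mp (hm this)
  exact key n m hn

end TF

section E1

variable {A : Type u} [CommRing A]

/-- every linear map `I → M` is multiplication by an element of `M`
(i.e. `Hom(A, M) → Hom(I, M)` is surjective; with `TF` this says `Ext¹(A/I, M) = 0`). -/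
def E1 (I : Ideal A) (M : Type u) [AddCommGroup M] [Module A M] : Prop :=
  ∀ h : I →ₗ[A] M, ∃ m₀ : M, ∀ a : I, h a = (a : A) • m₀

variable (I : Ideal A) (M : Type u) [AddCommGroup M] [Module A M]

/-- the short exact sequence `0 → I → A → A/I → 0`. -/
theorem shortExact_ideal :
    (ModuleCat.shortComplexOfCompEqZero (Submodule.subtype I) (Submodule.mkQ I)
      (by ext x; simpa using Ideal.Quotient.eq_zero_iff_mem.mpr x.2)).ShortExact :=
  ModuleCat.shortComplex_shortExact _ (by
      intro x
      change Submodule.mkQ I x = 0 ↔ x ∈ Set.range (Submodule.subtype I)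
      rw [Submodule.mkQ_apply, Submodule.Quotient.mk_eq_zero]
      simp)
    (Submodule.injective_subtype I) (Submodule.mkQ_surjective I)

theorem e1_iff_ext_one :
    E1 I M ↔ Subsingleton (Ext (ModuleCat.of A (A ⧸ I)) (ModuleCat.of A M) 1) := by
  have hS := shortExact_ideal I
  have hproj : Projective (ModuleCat.of A A) :=
    ModuleCat.projective_of_free (Module.Basis.singleton Unit A)
  constructor
  · intro h
    refine subsingleton_of_forall_eq 0 fun x₃ => ?_
    have h0 : (Ext.mk₀ (ModuleCat.ofHom (Submodule.mkQ I))).comp x₃ (zero_add 1) = 0 :=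
      Ext.eq_zero_of_projective _
    obtain ⟨x₁, hx₁⟩ := Ext.contravariant_sequence_exact₃ hS (ModuleCat.of A M) x₃ h0
      (add_zero 1)
    obtain ⟨f, rfl⟩ := (Ext.mk₀_bijective _ _).2 x₁
    obtain ⟨m₀, hm₀⟩ := h f.hom
    have hf : f = ModuleCat.ofHom (Submodule.subtype I) ≫
        ModuleCat.ofHom (LinearMap.toSpanSingleton A M m₀) := by
      apply ModuleCat.hom_ext
      apply LinearMap.ext
      intro a
      exact hm₀ a
    rw [← hx₁, hf, ← Ext.mk₀_comp_mk₀]
    exact hS.extClass_comp_assoc _
  · intro h f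
    have h0 : hS.extClass.comp (Ext.mk₀ (ModuleCat.ofHom f)) (add_zero 1) = 0 :=
      Subsingleton.elim _ _
    obtain ⟨x₂, hx₂⟩ := Ext.contravariant_sequence_exact₁ hS (ModuleCat.of A M)
      (Ext.mk₀ (ModuleCat.ofHom f)) (add_zero 1) h0
    obtain ⟨g, rfl⟩ := (Ext.mk₀_bijective _ _).2 x₂
    rw [Ext.mk₀_comp_mk₀] at hx₂
    have hg := (Ext.mk₀_bijective _ _).1 hx₂
    refine ⟨g.hom (1 : A), fun a => ?_⟩
    have := congrArg (fun k => k.hom a) hg
    change g.hom (a : A) = f a at this
    rw [← this, ← map_smul, smul_eq_mul, mul_one]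

theorem two_le_idealDepth_iff [IsNoetherianRing A] [Module.Finite A M] :
    2 ≤ LocCoh.idealDepth I M ↔ TF I M ∧ E1 I M := by
  rw [tf_iff_ext_zero, e1_iff_ext_one]
  have := Groth.Agent.Lib.H29Depth.le_idealDepth_iff_ext' I M 2
  rw [Nat.cast_ofNat] at this
  rw [this]
  constructor
  · intro h; exact ⟨h 0 (by norm_num), h 1 (by norm_num)⟩
  · rintro ⟨h0, h1⟩ i hi
    have : i = 0 ∨ i = 1 := by omega
    rcases this with rfl | rfl
    · exact h0
    · exact h1

variable {I M}

/-- `Hom(N, M)` satisfies `E1` when `M` satisfies `TF` and `E1`. -/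
theorem E1.linearMap {N : Type u} [AddCommGroup N] [Module A N] (htf : TF I M) (h : E1 I M) :
    E1 I (N →ₗ[A] M) := by
  intro φ
  have hex : ∀ n : N, ∃ c : M, ∀ a : I, φ a n = (a : A) • c := fun n =>
    h ((LinearMap.applyₗ n).comp φ)
  choose c hc using hex
  have huniq : ∀ n : N, ∀ c' : M, (∀ a : I, φ a n = (a : A) • c') → c' = c n := by
    intro n c' hc'
    rw [← sub_eq_zero]
    apply htf
    intro a ha
    rw [smul_sub, ← hc' ⟨a, ha⟩, ← hc n ⟨a, ha⟩, sub_self]
  refine ⟨{ toFun := c, map_add' := ?_, map_smul' := ?_ }, ?_⟩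
  · intro n n'
    symm
    apply huniq
    intro a
    rw [map_add, hc n a, hc n' a, smul_add]
  · intro r n
    symm
    apply huniq
    intro a
    rw [map_smul, hc n a, RingHom.id_apply, smul_comm]
  · intro a
    ext n
    exact hc n a

theorem TF.of_equiv {N : Type u} [AddCommGroup N] [Module A N] (h : TF I N) (e : M ≃ₗ[A] N) :
    TF I M := h.of_injective e.toLinearMap e.injective

theorem E1.of_equiv {N : Type u} [AddCommGroup N] [Module A N] (h : E1 I N) (e : M ≃ₗ[A] N) :
    E1 I M := by
  intro φ
  obtain ⟨n₀, hn₀⟩ := h (e.toLinearMap.comp φ)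
  refine ⟨e.symm n₀, fun a => ?_⟩
  apply e.injective
  rw [map_smul, e.apply_symm_apply]
  exact hn₀ a

end E1

section Loc

variable {A : Type u} [CommRing A] [IsNoetherianRing A] (p : Ideal A) [p.IsPrime]
  (G : Type u) [AddCommGroup G] [Module A G] [Module.Finite A G]

/-- localization of the dual. -/
noncomputable def dualLoc :
    Module.Dual A G →ₗ[A]
      Module.Dual (Localization.AtPrime p) (LocalizedModule p.primeCompl G) :=
  IsLocalizedModule.mapExtendScalars p.primeCompl (LocalizedModule.mkLinearMap p.primeCompl G)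
    (Algebra.linearMap A (Localization.AtPrime p)) (Localization.AtPrime p)

instance : IsLocalizedModule p.primeCompl (dualLoc p G) := by
  unfold dualLoc
  have : Module.FinitePresentation A G := Module.finitePresentation_of_finite A G
  infer_instance

theorem dualLoc_apply (φ : Module.Dual A G) (x : G) :
    dualLoc p G φ (LocalizedModule.mkLinearMap p.primeCompl G x) =
      algebraMap A (Localization.AtPrime p) (φ x) := by
  unfold dualLoc
  rw [IsLocalizedModule.mapExtendScalars_apply_apply, IsLocalizedModule.map_apply]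
  rfl

/-- localization of the double dual. -/
noncomputable def ddualLoc :
    Module.Dual A (Module.Dual A G) →ₗ[A]
      Module.Dual (Localization.AtPrime p)
        (Module.Dual (Localization.AtPrime p) (LocalizedModule p.primeCompl G)) :=
  IsLocalizedModule.mapExtendScalars p.primeCompl (dualLoc p G)
    (Algebra.linearMap A (Localization.AtPrime p)) (Localization.AtPrime p)

instance : IsLocalizedModule p.primeCompl (ddualLoc p G) := by
  unfold ddualLoc
  have : Module.FinitePresentation A (Module.Dual A G) :=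
    Module.finitePresentation_of_finite A (Module.Dual A G)
  infer_instance

theorem ddualLoc_apply (ψ : Module.Dual A (Module.Dual A G)) (φ : Module.Dual A G) :
    ddualLoc p G ψ (dualLoc p G φ) = algebraMap A (Localization.AtPrime p) (ψ φ) := by
  unfold ddualLoc
  rw [IsLocalizedModule.mapExtendScalars_apply_apply, IsLocalizedModule.map_apply]
  rfl

theorem ddualLoc_eval (x : G) :
    ddualLoc p G (Module.Dual.eval A G x) =
      Module.Dual.eval (Localization.AtPrime p) (LocalizedModule p.primeCompl G)
        (LocalizedModule.mkLinearMap p.primeCompl G x) := by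
  apply LinearMap.restrictScalars_injective A
  apply IsLocalizedModule.linearMap_ext p.primeCompl (dualLoc p G)
    (Algebra.linearMap A (Localization.AtPrime p))
  ext φ
  simp only [LinearMap.coe_comp, LinearMap.coe_restrictScalars, Function.comp_apply]
  rw [ddualLoc_apply, Module.Dual.eval_apply, Module.Dual.eval_apply, dualLoc_apply]

variable {p G}

/-- if `G_p` is reflexive, the kernel of `G → G**` dies at `p`. -/
theorem exists_smul_eq_zero_of_eval_eq_zero
    (hp : Module.IsReflexive (Localization.AtPrime p) (LocalizedModule p.primeCompl G))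
    (x : G) (hx : Module.Dual.eval A G x = 0) : ∃ s ∉ p, s • x = 0 := by
  have h1 : Module.Dual.eval (Localization.AtPrime p) (LocalizedModule p.primeCompl G)
      (LocalizedModule.mkLinearMap p.primeCompl G x) = 0 := by
    rw [← ddualLoc_eval, hx, map_zero]
  have h2 : LocalizedModule.mkLinearMap p.primeCompl G x = 0 := by
    apply (Module.bijective_dual_eval (Localization.AtPrime p) _).1
    rw [h1, map_zero]
  obtain ⟨c, hc⟩ := (IsLocalizedModule.eq_zero_iff p.primeCompl
    (LocalizedModule.mkLinearMap p.primeCompl G)).mp h2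
  exact ⟨c.1, c.2, hc⟩

/-- if `G_p` is reflexive, the cokernel of `G → G**` dies at `p`. -/
theorem exists_smul_mem_range_eval
    (hp : Module.IsReflexive (Localization.AtPrime p) (LocalizedModule p.primeCompl G))
    (y : Module.Dual A (Module.Dual A G)) :
    ∃ s ∉ p, s • y ∈ LinearMap.range (Module.Dual.eval A G) := by
  obtain ⟨z, hz⟩ := (Module.bijective_dual_eval (Localization.AtPrime p)
    (LocalizedModule p.primeCompl G)).2 (ddualLoc p G y)
  obtain ⟨⟨x, s⟩, hxs⟩ := IsLocalizedModule.surj p.primeCompl
    (LocalizedModule.mkLinearMap p.primeCompl G) z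
  have h1 : ddualLoc p G (s.1 • y - Module.Dual.eval A G x) = 0 := by
    rw [map_sub, map_smul, ← hz, ddualLoc_eval, ← hxs, sub_eq_zero]
    rw [Submonoid.smul_def, ← algebraMap_smul (Localization.AtPrime p) s.1 z, map_smul,
      algebraMap_smul]
  obtain ⟨t, ht⟩ := (IsLocalizedModule.eq_zero_iff p.primeCompl (ddualLoc p G)).mp h1
  refine ⟨t.1 * s.1, fun h => (Ideal.IsPrime.mem_or_mem ‹_› h).elim t.2 s.2, t.1 • x, ?_⟩
  rw [map_smul, mul_smul]
  rw [Submonoid.smul_def, smul_sub, sub_eq_zero] at ht
  exact ht.symm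

end Loc

section Refl

variable {A : Type u} [CommRing A] [IsNoetherianRing A] (p : Ideal A) [p.IsPrime]
  (G : Type u) [AddCommGroup G] [Module A G] [Module.Finite A G]

/-- localization of a finite reflexive module over a Noetherian ring is reflexive. -/
theorem isReflexive_localizedModule [Module.IsReflexive A G] :
    Module.IsReflexive (Localization.AtPrime p) (LocalizedModule p.primeCompl G) := by
  have hmap : (Module.Dual.eval (Localization.AtPrime p)
      (LocalizedModule p.primeCompl G)).restrictScalars A =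
      IsLocalizedModule.map p.primeCompl (LocalizedModule.mkLinearMap p.primeCompl G)
        (ddualLoc p G) (Module.Dual.eval A G) := by
    apply IsLocalizedModule.linearMap_ext p.primeCompl (LocalizedModule.mkLinearMap p.primeCompl G)
      (ddualLoc p G)
    ext x
    simp only [LinearMap.coe_comp, LinearMap.coe_restrictScalars, Function.comp_apply]
    rw [IsLocalizedModule.map_apply, ddualLoc_eval]
  have hb := Module.bijective_dual_eval A G
  refine ⟨⟨?_, ?_⟩⟩
  · have := IsLocalizedModule.map_injective p.primeCompl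
      (LocalizedModule.mkLinearMap p.primeCompl G) (ddualLoc p G) _ hb.1
    rw [← hmap] at this
    exact this
  · have := IsLocalizedModule.map_surjective p.primeCompl
      (LocalizedModule.mkLinearMap p.primeCompl G) (ddualLoc p G) _ hb.2
    rw [← hmap] at this
    exact this

/-- `(A)_p ≃ A_p` as `A_p`-modules. -/
noncomputable def localizedSelfEquiv :
    LocalizedModule p.primeCompl A ≃ₗ[Localization.AtPrime p] Localization.AtPrime p :=
  (IsLocalizedModule.iso p.primeCompl
    (Algebra.linearMap A (Localization.AtPrime p))).extendScalarsOfIsLocalization p.primeCompl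
    (Localization.AtPrime p)

theorem supportDim_localizedModule_le :
    Module.supportDim (Localization.AtPrime p) (LocalizedModule p.primeCompl G) ≤
      Module.supportDim (Localization.AtPrime p) (LocalizedModule p.primeCompl A) := by
  rw [Module.supportDim_eq_of_equiv (localizedSelfEquiv p), Module.supportDim_self_eq_ringKrullDim]
  exact Module.supportDim_le_ringKrullDim _ _

end Refl

section Arith

theorem arith1 (dM dN : ℕ∞) (sM sN : WithBot ℕ∞) (hs : sN ≤ sM) (h1 : 1 ≤ dM → 1 ≤ dN)
    (hM : min ((1 : ℕ) : WithBot ℕ∞) sM ≤ ((dM : ℕ∞) : WithBot ℕ∞)) :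
    min ((1 : ℕ) : WithBot ℕ∞) sN ≤ ((dN : ℕ∞) : WithBot ℕ∞) := by
  rcases le_or_gt 1 dM with h | h
  · exact le_trans (min_le_left _ _) (by exact_mod_cast h1 h)
  · have hd0 : dM = 0 := Order.lt_one_iff.mp h
    rw [min_le_iff] at hM
    rcases hM with h' | h'
    · exfalso
      have : (1 : ℕ∞) ≤ dM := by exact_mod_cast h'
      exact absurd this (not_le.mpr h)
    · refine le_trans (min_le_right _ _) ?_
      calc sN ≤ sM := hs
        _ ≤ ((dM : ℕ∞) : WithBot ℕ∞) := h'
        _ = (((0 : ℕ∞)) : WithBot ℕ∞) := by rw [hd0]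
        _ ≤ ((dN : ℕ∞) : WithBot ℕ∞) := WithBot.coe_le_coe.mpr (by simp)

theorem arith2 (dM dN : ℕ∞) (sM sN : WithBot ℕ∞) (hs : sN ≤ sM) (h1 : 1 ≤ dM → 1 ≤ dN)
    (h2 : 2 ≤ dM → 2 ≤ dN)
    (hM : min ((2 : ℕ) : WithBot ℕ∞) sM ≤ ((dM : ℕ∞) : WithBot ℕ∞)) :
    min ((2 : ℕ) : WithBot ℕ∞) sN ≤ ((dN : ℕ∞) : WithBot ℕ∞) := by
  have e2 : ((2 : ℕ) : WithBot ℕ∞) = ((2 : ℕ∞) : WithBot ℕ∞) := rfl
  rw [e2] at hM ⊢
  rcases le_or_gt 2 dM with h | h
  · exact le_trans (min_le_left _ _) (WithBot.coe_le_coe.mpr (h2 h))
  · have hd1 : dM ≤ 1 := by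
      have : dM < 1 + 1 := by rwa [one_add_one_eq_two]
      exact Order.le_of_lt_add_one this
    rw [min_le_iff] at hM
    rcases hM with h' | h'
    · exfalso
      have : (2 : ℕ∞) ≤ dM := WithBot.coe_le_coe.mp h'
      exact absurd this (not_le.mpr h)
    · refine le_trans (min_le_right _ _) ?_
      rcases le_or_gt 1 dM with g | g
      · have hN := h1 g
        calc sN ≤ sM := hs
          _ ≤ ((dM : ℕ∞) : WithBot ℕ∞) := h'
          _ ≤ (((1 : ℕ∞)) : WithBot ℕ∞) := by exact_mod_cast hd1
          _ ≤ ((dN : ℕ∞) : WithBot ℕ∞) := by exact_mod_cast hN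
      · have hd0 : dM = 0 := Order.lt_one_iff.mp g
        calc sN ≤ sM := hs
          _ ≤ ((dM : ℕ∞) : WithBot ℕ∞) := h'
          _ = (((0 : ℕ∞)) : WithBot ℕ∞) := by rw [hd0]
          _ ≤ ((dN : ℕ∞) : WithBot ℕ∞) := WithBot.coe_le_coe.mpr (by simp)

end Arith

end Groth.Agent.Lib.H47Reflexive
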