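import Groth.Agent.Lib.LocCohTorsion
import Groth.Agent.Lib.LocCohLinear
import Groth.Agent.Lib.ExtSmul
import Groth.Agent.Lib.H47Reflexive
import Groth.Agent.Lib.DepthLoc33

/-!
# Local cohomology and regular elements (helper29)

Tools on top of helper53's long exact sequence of `LocCoh.H I i M`:

* `isPowerTorsion_H`: `H^i_I(M)` is `I`-power torsion.
* `tf_quotient_torsionSub`: `M/Γ_I(M)` has no nonzero element killed by `I` (`I` f.g.).
* `mulSES x M`: the sequence `0 → M --x--> M → M/xM → 0` for an `M`-regular `x`, and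
  `torsionBy_le_range_Hδ`: the kernel of `x` on `H^{k+1}_I(M)` is in the image of the connecting map
  from `H^k_I(M/xM)`.
* `subsingleton_H_succ_of_regular`: `x ∈ I` regular on `M`, `H^k_I(M/xM) = 0` ⇒ `H^{k+1}_I(M) = 0`.
* `exists_regular_of_tf`: Noetherian ring, finite `M` with `IM ≠ M` and no `I`-torsion: there is an
  `M`-regular `x ∈ I`.
-/

set_option autoImplicit false
universe u

namespace Groth.Agent.Lib.H29LocCohReg

open Groth.Agent.Lib.LocCohLES Groth.Agent.Lib.LocCohTorsion Groth.Agent.Lib.LocCohConcrete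
  Groth.Agent.Lib.H47Reflexive Groth.Agent.Lib.H29TorsionInj

variable {R : Type u} [CommRing R] (I : Ideal R) (M : Type u) [AddCommGroup M] [Module R M]

/-- `H^i_I(M)` is `I`-power torsion. -/
theorem isPowerTorsion_H (i : ℕ) : LocCoh.IsPowerTorsion I (LocCoh.H I i M) := fun y =>
  Groth.Agent.Lib.ExtSmul.isPowerTorsion_localCohomology I i (ModuleCat.of R M) y

/-- an element `x ∈ I` acts locally nilpotently on `H^i_I(M)`. -/
theorem exists_pow_smul_eq_zero {x : R} (hx : x ∈ I) (i : ℕ) (y : LocCoh.H I i M) :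
    ∃ n : ℕ, x ^ n • y = 0 := by
  obtain ⟨n, hn⟩ := isPowerTorsion_H I M i y
  exact ⟨n, hn _ (Ideal.pow_mem_pow hx n)⟩

/-- `M/Γ_I(M)` has no nonzero element killed by `I`, for `I` finitely generated. -/
theorem tf_quotient_torsionSub (hI : I.FG) : TF I (M ⧸ DRing.torsionSub I M) := by
  intro q hq
  obtain ⟨m0, rfl⟩ := Submodule.Quotient.mk_surjective _ q
  rw [Submodule.Quotient.mk_eq_zero]
  have hmem : ∀ a ∈ I, a • m0 ∈ DRing.torsionSub I M := by
    intro a ha
    have := hq a ha
    rwa [← Submodule.Quotient.mk_smul, Submodule.Quotient.mk_eq_zero] at this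
  obtain ⟨s, rfl⟩ := hI
  classical
  choose! n hn using hmem
  refine ⟨s.sup n + 1, fun c hc => ?_⟩
  rw [pow_succ] at hc
  refine Submodule.mul_induction_on hc ?_ ?_
  · intro b hb a ha
    rw [mul_smul]
    have key : ∀ a ∈ Ideal.span (s : Set R), b • a • m0 = 0 := by
      intro a ha
      refine Submodule.span_induction ?_ ?_ ?_ ?_ ha
      · intro a' ha'
        exact hn a' (Ideal.subset_span ha') b
          (Ideal.pow_le_pow_right (Finset.le_sup (f := n) ha') hb)
      · rw [zero_smul, smul_zero]
      · intro a1 a2 _ _ h1 h2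
        rw [add_smul, smul_add, h1, h2, add_zero]
      · intro r a1 _ h1
        rw [smul_eq_mul, mul_smul, smul_comm b r, h1, smul_zero]
    exact key a ha
  · intro c1 c2 h1 h2
    rw [add_smul, h1, h2, add_zero]

section ses

variable {M}

/-- multiplication by `x` on `M`. -/
abbrev mulMap (x : R) : M →ₗ[R] M := x • LinearMap.id

/-- the quotient map `M → M/xM`. -/
abbrev quotMap (x : R) : M →ₗ[R] M ⧸ LinearMap.range (mulMap (M := M) x) :=
  (LinearMap.range (mulMap (M := M) x)).mkQ

theorem mulMap_injective {x : R} (hx : IsSMulRegular M x) :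
    Function.Injective (mulMap (M := M) x) := by
  intro a b hab
  exact hx (by simpa using hab)

theorem mul_exact (x : R) : Function.Exact (mulMap (M := M) x) (quotMap (M := M) x) :=
  LinearMap.exact_map_mkQ_range _

theorem quotMap_surjective (x : R) : Function.Surjective (quotMap (M := M) x) :=
  Submodule.mkQ_surjective _

/-- the kernel of `x` on `H^{k+1}_I(M)` lies in the image of the connecting homomorphism. -/
theorem torsionBy_le_range_Hδ {x : R} (hx : IsSMulRegular M x) (k : ℕ) :
    Submodule.torsionBy R (LocCoh.H I (k + 1) M) x ≤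
      LinearMap.range (Hδ I (mulMap (M := M) x) (quotMap x) (mulMap_injective hx) (mul_exact x)
        (quotMap_surjective x) k) := by
  intro y hy
  have h0 : Hmap I (mulMap (M := M) x) (k + 1) y = 0 := by
    rw [Hmap_smul, Hmap_id]
    exact (Submodule.mem_torsionBy_iff _ _).mp hy
  exact (exact₁ I (mulMap (M := M) x) (quotMap x) (mulMap_injective hx) (mul_exact x)
    (quotMap_surjective x) k y).1 h0

/-- if `x ∈ I` is `M`-regular and `H^k_I(M/xM) = 0` then `H^{k+1}_I(M) = 0`. -/
theorem subsingleton_H_succ_of_regular {x : R} (hxI : x ∈ I) (hx : IsSMulRegular M x) (k : ℕ)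
    (h : Subsingleton (LocCoh.H I k (M ⧸ LinearMap.range (mulMap (M := M) x)))) :
    Subsingleton (LocCoh.H I (k + 1) M) := by
  refine subsingleton_of_forall_eq 0 fun y => ?_
  obtain ⟨n, hn⟩ := exists_pow_smul_eq_zero I M hxI (k + 1) y
  induction n with
  | zero => simpa using hn
  | succ n ih =>
    apply ih
    have hmem : x ^ n • y ∈ Submodule.torsionBy R (LocCoh.H I (k + 1) M) x := by
      rw [Submodule.mem_torsionBy_iff, smul_smul, ← pow_succ']
      exact hn
    obtain ⟨z, hz⟩ := torsionBy_le_range_Hδ I hx k hmem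
    rw [← hz, Subsingleton.elim z 0, map_zero]

end ses

/-- Noetherian ring, finite `M` with `IM ≠ M` and no nonzero element killed by `I`: there is an
`M`-regular element in `I`. -/
theorem exists_regular_of_tf [IsNoetherianRing R] [Module.Finite R M]
    (hIM : I • (⊤ : Submodule R M) ≠ ⊤) (h : TF I M) : ∃ x ∈ I, IsSMulRegular M x :=
  Groth.Agent.Lib.DepthLoc33.exists_regular_of_one_le_idealDepth I M hIM
    ((one_le_idealDepth_iff I M).mpr h)

end Groth.Agent.Lib.H29LocCohReg
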