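/-
Helper library (helper29): Melkersson's criterion for Artinian modules.
If `M` is `x`-power torsion and `M[x]` is Artinian then `M` is Artinian; consequently an
`I`-power torsion module (`I` finitely generated) with Artinian `M[I]` is Artinian.
-/
import Mathlib.RingTheory.Artinian.Module
import Mathlib.Algebra.Module.Torsion.Basic
import Mathlib.RingTheory.Ideal.Operations

set_option autoImplicit false

namespace Groth.Agent.Lib.H29Melkersson

variable {R : Type*} [CommRing R] {M : Type*} [AddCommGroup M] [Module R M]

/-- A doubly antitone family of submodules of an Artinian module stabilises uniformly. -/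
theorem exists_uniform_stab {K : Type*} [AddCommGroup K] [Module R K] [IsArtinian R K]
    (B : ℕ → ℕ → Submodule R K) (h1 : ∀ j, Antitone (fun i => B i j))
    (h2 : ∀ i, Antitone (fun j => B i j)) :
    ∃ i1, ∀ i, i1 ≤ i → ∀ j, B i j = B i1 j := by
  have hdiag : Antitone (fun n => B n n) := fun a b hab => (h1 b hab).trans (h2 a hab)
  obtain ⟨n0, hn0⟩ := IsArtinian.monotone_stabilizes
    (⟨fun n => OrderDual.toDual (B n n), fun a b hab => hdiag hab⟩ : ℕ →o (Submodule R K)ᵒᵈ)
  have hn0' : ∀ m, n0 ≤ m → B n0 n0 = B m m := fun m hm => hn0 m hm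
  have hbig : ∀ i j, n0 ≤ i → n0 ≤ j → B i j = B n0 n0 := by
    intro i j hi hj
    apply le_antisymm
    · exact (h1 j hi).trans (h2 n0 hj)
    · rw [hn0' (max i j) (le_trans hi (le_max_left i j))]
      exact (h1 _ (le_max_left i j)).trans (h2 i (le_max_right i j))
  have hcol : ∀ j, ∃ n, ∀ m, n ≤ m → B n j = B m j := by
    intro j
    obtain ⟨n, hn⟩ := IsArtinian.monotone_stabilizes
      (⟨fun i => OrderDual.toDual (B i j), fun a b hab => h1 j hab⟩ : ℕ →o (Submodule R K)ᵒᵈ)
    exact ⟨n, fun m hm => hn m hm⟩
  choose n hn using hcol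
  refine ⟨max n0 ((Finset.range n0).sup n), ?_⟩
  intro i hi j
  by_cases hj : j < n0
  · have hnj : n j ≤ (Finset.range n0).sup n := Finset.le_sup (Finset.mem_range.mpr hj)
    have h3 : n j ≤ max n0 ((Finset.range n0).sup n) := le_trans hnj (le_max_right _ _)
    rw [← hn j i (le_trans h3 hi), ← hn j _ h3]
  · have hj' : n0 ≤ j := not_lt.mp hj
    rw [hbig i j (le_trans (le_max_left _ _) hi) hj', hbig _ j (le_max_left _ _) hj']

/-- Melkersson's criterion: an `x`-power torsion module whose `x`-torsion is Artinian is
Artinian. -/
theorem isArtinian_of_torsionBy (x : R) (hx : ∀ y : M, ∃ n : ℕ, x ^ n • y = 0)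
    [IsArtinian R (Submodule.torsionBy R M x)] : IsArtinian R M := by
  rw [← monotone_stabilizes_iff_artinian]
  intro f
  let N : ℕ → Submodule R M := fun i => OrderDual.ofDual (f i)
  have hN : Antitone N := fun a b hab => f.monotone hab
  let B : ℕ → ℕ → Submodule R (Submodule.torsionBy R M x) := fun i j =>
    Submodule.comap (Submodule.torsionBy R M x).subtype
      (Submodule.map (LinearMap.lsmul R M (x ^ j)) (N i ⊓ Submodule.torsionBy R M (x ^ (j + 1))))
  have hB : ∀ i j (z : Submodule.torsionBy R M x),
      z ∈ B i j ↔ ∃ y ∈ N i, x ^ (j + 1) • y = 0 ∧ x ^ j • y = (z : M) := by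
    intro i j z
    simp only [B, Submodule.mem_comap, Submodule.mem_map, Submodule.mem_inf,
      Submodule.mem_torsionBy_iff, LinearMap.lsmul_apply, Submodule.subtype_apply]
    constructor
    · rintro ⟨y, ⟨hy1, hy2⟩, hy3⟩
      exact ⟨y, hy1, hy2, hy3⟩
    · rintro ⟨y, hy1, hy2, hy3⟩
      exact ⟨y, ⟨hy1, hy2⟩, hy3⟩
  have h1 : ∀ j, Antitone (fun i => B i j) := by
    intro j a b hab z hz
    rw [hB] at hz ⊢
    obtain ⟨y, hy1, hy2, hy3⟩ := hz
    exact ⟨y, hN hab hy1, hy2, hy3⟩
  have h2 : ∀ i, Antitone (fun j => B i j) := by
    intro i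
    apply antitone_nat_of_succ_le
    intro j z hz
    rw [hB] at hz ⊢
    obtain ⟨y, hy1, hy2, hy3⟩ := hz
    refine ⟨x • y, (N i).smul_mem x hy1, ?_, ?_⟩
    · rw [smul_smul, ← pow_succ]
      exact hy2
    · rw [smul_smul, ← pow_succ]
      exact hy3
  obtain ⟨i1, hi1⟩ := exists_uniform_stab B h1 h2
  refine ⟨i1, fun i hi => ?_⟩
  have key : ∀ n : ℕ, ∀ y ∈ N i1, x ^ n • y = 0 → y ∈ N i := by
    intro n
    induction n with
    | zero =>
      intro y _ h0
      rw [pow_zero, one_smul] at h0
      rw [h0]
      exact zero_mem _
    | succ n ih =>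
      intro y hy h0
      have hzK : x ^ n • y ∈ Submodule.torsionBy R M x := by
        rw [Submodule.mem_torsionBy_iff, smul_smul, ← pow_succ']
        exact h0
      have hz : (⟨x ^ n • y, hzK⟩ : Submodule.torsionBy R M x) ∈ B i1 n :=
        (hB _ _ _).mpr ⟨y, hy, h0, rfl⟩
      rw [← hi1 i hi n] at hz
      obtain ⟨y', hy'1, hy'2, hy'3⟩ := (hB _ _ _).mp hz
      have hy'3' : x ^ n • y' = x ^ n • y := hy'3
      have hsub : y - y' ∈ N i :=
        ih (y - y') (sub_mem hy (hN hi hy'1)) (by rw [smul_sub, hy'3', sub_self])
      have hyy : y = (y - y') + y' := by abel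
      rw [hyy]
      exact add_mem hsub hy'1
  have heq : N i1 = N i := by
    apply le_antisymm
    · intro y hy
      obtain ⟨n, hn⟩ := hx y
      exact key n y hy hn
    · exact hN hi
  exact heq

/-- Finite-set version: if every `a ∈ s` acts locally nilpotently on `M` and the submodule of
elements killed by `s` is Artinian, then `M` is Artinian. -/
theorem isArtinian_of_torsionBySet_finset (s : Finset R) :
    ∀ (M : Type*) [AddCommGroup M] [Module R M],
      (∀ a ∈ s, ∀ y : M, ∃ n : ℕ, a ^ n • y = 0) →
      IsArtinian R (Submodule.torsionBySet R M (s : Set R)) → IsArtinian R M := by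
  classical
  induction s using Finset.induction_on with
  | empty =>
    intro M _ _ _ hA
    have htop : Submodule.torsionBySet R M ((∅ : Finset R) : Set R) = ⊤ := by
      rw [eq_top_iff]
      intro y _
      rw [Submodule.mem_torsionBySet_iff]
      rintro ⟨a, ha⟩
      simp at ha
    have e : Submodule.torsionBySet R M ((∅ : Finset R) : Set R) ≃ₗ[R] M :=
      (LinearEquiv.ofEq _ _ htop).trans Submodule.topEquiv
    exact isArtinian_of_linearEquiv e
  | insert x s _ ih =>
    intro M _ _ htors hA
    -- `K = M[x]`
    have hK : IsArtinian R (Submodule.torsionBy R M x) := by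
      apply ih (Submodule.torsionBy R M x)
      · intro a ha y
        obtain ⟨n, hn⟩ := htors a (Finset.mem_insert_of_mem ha) (y : M)
        exact ⟨n, Subtype.ext hn⟩
      · -- `K[s]` injects into `M[insert x s]`
        let g : Submodule.torsionBySet R (Submodule.torsionBy R M x) (s : Set R) →ₗ[R]
            Submodule.torsionBySet R M ((insert x s : Finset R) : Set R) :=
          { toFun := fun z => ⟨((z : Submodule.torsionBy R M x) : M), by
              rw [Submodule.mem_torsionBySet_iff]
              rintro ⟨a, ha⟩
              show a • ((z : Submodule.torsionBy R M x) : M) = 0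
              rw [Finset.coe_insert, Set.mem_insert_iff] at ha
              rcases ha with ha | ha
              · rw [ha]
                exact (z : Submodule.torsionBy R M x).2
              · have := (Submodule.mem_torsionBySet_iff _ _).mp z.2 ⟨a, ha⟩
                exact congrArg Subtype.val this⟩
            map_add' := fun _ _ => rfl
            map_smul' := fun _ _ => rfl }
        have hg : Function.Injective g := by
          intro z z' h
          apply Subtype.ext
          apply Subtype.ext
          have h' := congrArg (fun w : Submodule.torsionBySet R M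
            ((insert x s : Finset R) : Set R) => (w : M)) h
          exact h' 
        exact isArtinian_of_injective g hg
    exact isArtinian_of_torsionBy x (htors x (Finset.mem_insert_self x s))

/-- Ideal version: an `I`-power torsion module over a ring in which `I` is finitely generated,
whose submodule of elements killed by `I` is Artinian, is Artinian. -/
theorem isArtinian_of_torsionBySet_ideal (I : Ideal R) (hI : I.FG)
    (htors : ∀ y : M, ∃ n : ℕ, ∀ a ∈ I ^ n, a • y = 0)
    [hA : IsArtinian R (Submodule.torsionBySet R M (I : Set R))] : IsArtinian R M := by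
  obtain ⟨s, rfl⟩ := hI
  apply isArtinian_of_torsionBySet_finset s M
  · intro a ha y
    obtain ⟨n, hn⟩ := htors y
    exact ⟨n, hn _ (Ideal.pow_mem_pow (Ideal.subset_span ha) n)⟩
  · have : Submodule.torsionBySet R M (s : Set R) =
        Submodule.torsionBySet R M ((Ideal.span (s : Set R) : Ideal R) : Set R) :=
      Submodule.torsionBySet_eq_torsionBySet_span _
    rw [this]
    exact hA

end Groth.Agent.Lib.H29Melkersson
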