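import Groth.Agent.Lib.H8DepthBC
import Mathlib.RingTheory.Artinian.Module
import Mathlib.Algebra.Module.Torsion.Basic

/-!
# Depth under a local homomorphism (helper8)

For a local homomorphism `A → B` of Noetherian local rings and a `B`-module `M` which is finite
over `A`: `depth_A M = depth_B M`.
-/

set_option autoImplicit false
set_option linter.unusedSectionVars false
universe u

namespace Groth.Agent.Lib.H8DepthBC

open RingTheory.Sequence Pointwise Module IsLocalRing Groth.Agent.Lib.DepthBasic
  Groth.Agent.Lib.DepthRees LocCoh Groth.Agent.Lib.H8CM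

section artinian

variable {A : Type u} [CommRing A] [IsLocalRing A]

/-- A finite module killed by the maximal ideal is Artinian. -/
theorem isArtinian_of_killed (N : Type u) [AddCommGroup N] [Module A N] [Module.Finite A N]
    (h : ∀ a ∈ maximalIdeal A, ∀ n : N, a • n = 0) : IsArtinian A N := by
  have hT : Module.IsTorsionBySet A N (maximalIdeal A) := by
    intro n a
    exact h a.1 a.2 n
  letI := hT.module
  haveI : IsScalarTower A (A ⧸ maximalIdeal A) N := hT.isScalarTower
  haveI : Module.Finite (A ⧸ maximalIdeal A) N := Module.Finite.of_restrictScalars_finite A _ N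
  letI : Field (A ⧸ maximalIdeal A) := Ideal.Quotient.field _
  haveI : IsArtinian (A ⧸ maximalIdeal A) N := inferInstance
  exact isArtinian_of_surjective_algebraMap (S := A) (R := A ⧸ maximalIdeal A)
    Ideal.Quotient.mk_surjective

end artinian

section localHom

variable {A B : Type u} [CommRing A] [CommRing B] [IsLocalRing A] [IsLocalRing B]
  [IsNoetherianRing A] [IsNoetherianRing B] [Algebra A B] [IsLocalHom (algebraMap A B)]

/-- If the maximal ideal of `B` contains an `M`-regular element, so does the maximal ideal of `A`
(`M` finite over `A`). -/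
theorem exists_isSMulRegular_mem_maximalIdeal (M : Type u) [AddCommGroup M] [Module B M]
    [Module A M] [IsScalarTower A B M] [Module.Finite A M] {z : B} (hz : z ∈ maximalIdeal B)
    (hreg : IsSMulRegular M z) : ∃ x ∈ maximalIdeal A, IsSMulRegular M x := by
  haveI : Module.Finite B M := Module.Finite.of_restrictScalars_finite A B M
  apply exists_isSMulRegular_mem_of_forall_not_le (M := M) (maximalIdeal A)
  intro P hP hle
  obtain ⟨hprime, m, hm⟩ := isAssociatedPrime_iff.mp hP
  have hm0 : m ≠ 0 := by
    rintro rfl
    apply hprime.ne_top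
    rw [hm, Ideal.eq_top_iff_one, Submodule.mem_colon_singleton]
    simp
  have hkill : ∀ x ∈ maximalIdeal A, x • m = 0 := by
    intro x hx
    have := hle hx
    rwa [hm, Submodule.mem_colon_singleton, Submodule.mem_bot] at this
  let NB : Submodule B M := killedBy ((maximalIdeal A).map (algebraMap A B)) M
  have hmNB : m ∈ NB := fun b hb ↦ smul_eq_zero_of_mem_map M hkill hb
  haveI : Module.Finite A NB :=
    Module.Finite.of_injective (NB.subtype.restrictScalars A) Subtype.val_injective
  have hkillNB : ∀ a ∈ maximalIdeal A, ∀ n : NB, a • n = 0 := by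
    intro a ha n
    apply Subtype.ext
    have := n.2 (algebraMap A B a) (Ideal.mem_map_of_mem _ ha)
    simpa [algebraMap_smul] using this
  haveI := isArtinian_of_killed NB hkillNB
  let f : NB →ₗ[A] NB := (LinearMap.lsmul B NB z).restrictScalars A
  have hinj : Function.Injective f := by
    intro n1 n2 h
    apply Subtype.ext
    apply hreg
    exact congrArg Subtype.val h
  have hsurj := IsArtinian.surjective_of_injective_endomorphism f hinj
  have hle' : (⊤ : Submodule B NB) ≤ maximalIdeal B • ⊤ := by
    intro n _
    obtain ⟨n', hn'⟩ := hsurj n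
    rw [← hn']
    exact Submodule.smul_mem_smul hz Submodule.mem_top
  have hbot := Submodule.eq_bot_of_le_smul_of_le_jacobson_bot (maximalIdeal B)
    (⊤ : Submodule B NB) Module.Finite.fg_top hle'
    (IsLocalRing.jacobson_eq_maximalIdeal _ bot_ne_top).ge
  have hmem : (⟨m, hmNB⟩ : NB) ∈ (⊥ : Submodule B NB) := hbot ▸ Submodule.mem_top
  exact hm0 (by simpa using congrArg Subtype.val ((Submodule.mem_bot B).mp hmem))

theorem le_depth_of_le_depth (n : ℕ) :
    ∀ (M : Type u) [AddCommGroup M] [Module B M] [Module A M] [IsScalarTower A B M]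
      [Module.Finite A M] [Nontrivial M],
      (n : ℕ∞) ≤ depth B M → (n : ℕ∞) ≤ depth A M := by
  induction n with
  | zero => intro M _ _ _ _ _ _ _; simp
  | succ n ih =>
    intro M _ _ _ _ _ _ hle
    haveI : Module.Finite B M := Module.Finite.of_restrictScalars_finite A B M
    have hIA := maximalIdeal_smul_top_ne_top (R := A) M
    have hIB := maximalIdeal_smul_top_ne_top (R := B) M
    obtain ⟨ys, hlen, hmem, hreg⟩ := (natCast_le_depth_iff (R := B) M (n + 1)).mp hle
    obtain ⟨y, ys', rfl⟩ := List.exists_cons_of_length_eq_add_one hlen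
    rw [isWeaklyRegular_cons_iff] at hreg
    obtain ⟨x, hxa, hxreg⟩ := exists_isSMulRegular_mem_maximalIdeal (A := A) (B := B) M
      (hmem y List.mem_cons_self) hreg.1
    have hx'mem : algebraMap A B x ∈ maximalIdeal B :=
      IsLocalRing.map_maximalIdeal_le (algebraMap A B) (Ideal.mem_map_of_mem _ hxa)
    have hx'reg : IsSMulRegular M (algebraMap A B x) := (isSMulRegular_algebraMap_iff M x).mpr hxreg
    have hB := depth_quotSMulTop_add_one (R := B) M hx'mem hx'reg
    have hA := depth_quotSMulTop_add_one (R := A) M hxa hxreg
    have hn : (n : ℕ∞) ≤ depth B (QuotSMulTop (algebraMap A B x) M) := by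
      rw [← hB] at hle
      push_cast at hle
      exact (ENat.add_le_add_iff_right ENat.one_ne_top).mp hle
    haveI : Nontrivial (QuotSMulTop (algebraMap A B x) M) :=
      nontrivial_quotSMulTop (R := B) (M := M) hx'mem
    have h1 := ih (QuotSMulTop (algebraMap A B x) M) hn
    rw [← depth_eq_of_equiv (quotSMulTopEquiv M x)] at h1
    rw [← hA]
    push_cast
    exact add_le_add_left h1 1

/-- **Depth along a local homomorphism**: `depth_A M = depth_B M` for a `B`-module `M` finite
over `A`. -/
theorem depth_eq_depth_of_isLocalHom (M : Type u) [AddCommGroup M] [Module B M]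
    [Module A M] [IsScalarTower A B M] [Module.Finite A M] :
    depth A M = depth B M := by
  haveI : Module.Finite B M := Module.Finite.of_restrictScalars_finite A B M
  rcases subsingleton_or_nontrivial M with hM | hM
  · unfold depth idealDepth
    rw [if_pos (Subsingleton.elim _ _), if_pos (Subsingleton.elim _ _)]
  · refine ENat.eq_of_forall_natCast_le_iff fun n ↦ ⟨fun h ↦ ?_, fun h ↦ le_depth_of_le_depth n M h⟩
    obtain ⟨rs, hlen, hmem, hreg⟩ := (natCast_le_depth_iff (R := A) M n).mp h
    rw [natCast_le_depth_iff (R := B) M n]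
    refine ⟨rs.map (algebraMap A B), by simp [hlen], ?_,
      (isWeaklyRegular_map_algebraMap_iff B M rs).mpr hreg⟩
    intro r hr
    obtain ⟨r0, hr0, rfl⟩ := List.mem_map.mp hr
    exact IsLocalRing.map_maximalIdeal_le (algebraMap A B) (Ideal.mem_map_of_mem _ (hmem r0 hr0))

end localHom

end Groth.Agent.Lib.H8DepthBC
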