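import Groth.Agent.S0817
import Groth.Agent.S3262
import Groth.Agent.S7038
import Groth.Agent.Lib.LocCohVanishing
import Groth.Agent.Lib.NonVanish9a

/-!
# Grothendieck's non-vanishing theorem for local cohomology (helper9)
-/

set_option autoImplicit false
universe u

namespace Groth.Agent.Lib.NonVanish9

open Groth.Agent.Lib.LocCohLES Groth.Agent.Lib.LocCohTorsion Groth.Agent.Lib.LocCohH0
  Groth.Agent.Lib.H29LocCohReg Groth.Agent.Lib.H29TorsionInj Groth.Agent.Lib.H47Reflexive
  Groth.Agent.Lib.H29ExtSupport IsLocalRing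
open scoped Pointwise

variable {R : Type u} [CommRing R] [IsNoetherianRing R] [IsLocalRing R]

/-- `dim M/xM + 1 = dim M` for the quotient model used in the long exact sequence. -/
theorem supportDim_quot_add_one (M : Type u) [AddCommGroup M] [Module R M] [Module.Finite R M]
    {x : R} (hxm : x ∈ maximalIdeal R) (hx : IsSMulRegular M x) :
    Module.supportDim R (M ⧸ LinearMap.range (mulMap (M := M) x)) + 1 = Module.supportDim R M := by
  have e : (M ⧸ LinearMap.range (mulMap (M := M) x)) ≃ₗ[R] QuotSMulTop x M :=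
    Submodule.quotEquivOfEq _ _ (Groth.Agent.S3262.range_mulMap M x)
  rw [Module.supportDim_eq_of_equiv e]
  exact Module.supportDim_quotSMulTop_succ_eq_supportDim hx hxm

theorem supportDim_quot_lt (M : Type u) [AddCommGroup M] [Module R M] [Module.Finite R M]
    {x : R} (hxm : x ∈ maximalIdeal R) (hx : IsSMulRegular M x) (n : ℕ)
    (hn : Module.supportDim R M = ((n + 1 : ℕ) : WithBot ℕ∞)) :
    Module.supportDim R (M ⧸ LinearMap.range (mulMap (M := M) x)) = (n : WithBot ℕ∞) := by
  have h1 := supportDim_quot_add_one M hxm hx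
  rw [hn] at h1
  generalize Module.supportDim R (M ⧸ LinearMap.range (mulMap (M := M) x)) = D at h1 ⊢
  induction D with
  | bot =>
    exfalso
    have h5 : ((n : WithBot ℕ∞) + 1) = (((n + 1 : ℕ) : ℕ∞) : WithBot ℕ∞) := by push_cast; rfl
    rw [Nat.cast_add, Nat.cast_one, h5] at h1
    exact WithBot.coe_ne_bot h1.symm
  | coe d =>
    have h2 : ((d + 1 : ℕ∞) : WithBot ℕ∞) = (((n : ℕ∞) + 1 : ℕ∞) : WithBot ℕ∞) := by
      simpa using h1
    have h3 : d + 1 = (n : ℕ∞) + 1 := WithBot.coe_injective h2
    have h4 : d = (n : ℕ∞) := by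
      apply le_antisymm
      · exact (ENat.add_le_add_iff_right ENat.one_ne_top).mp h3.le
      · exact (ENat.add_le_add_iff_right ENat.one_ne_top).mp h3.ge
    rw [h4]; rfl

theorem nontrivial_of_supportDim (M : Type u) [AddCommGroup M] [Module R M] (n : ℕ)
    (hn : Module.supportDim R M = (n : WithBot ℕ∞)) : Nontrivial M := by
  rw [← Module.supportDim_ne_bot_iff_nontrivial R, hn]
  exact WithBot.coe_ne_bot

/-- The support of `M` is contained in the support of `M/Γ_𝔪(M)` when the latter is nonzero. -/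
theorem support_subset_quotient_torsionSub (M : Type u) [AddCommGroup M] [Module R M]
    [Nontrivial (M ⧸ DRing.torsionSub (maximalIdeal R) M)] :
    Module.support R M ⊆ Module.support R (M ⧸ DRing.torsionSub (maximalIdeal R) M) := by
  intro p hp
  rw [Module.support_of_exact (LinearMap.exact_subtype_mkQ (DRing.torsionSub (maximalIdeal R) M))
    Subtype.val_injective (Submodule.mkQ_surjective _)] at hp
  rcases hp with hp | hp
  · have h1 := (Groth.Agent.S7038.result (maximalIdeal R) (DRing.torsionSub (maximalIdeal R) M)).1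
      (isPowerTorsion_torsionSub (maximalIdeal R) M) hp
    rw [PrimeSpectrum.zeroLocus_eq_singleton] at h1
    rw [Set.mem_singleton_iff.1 h1]
    exact IsLocalRing.closedPoint_mem_support R _
  · exact hp

/-- `dim M/Γ_𝔪(M) = dim M` when `dim M ≥ 1`. -/
theorem supportDim_quotient_torsionSub (M : Type u) [AddCommGroup M] [Module R M]
    (n : ℕ) (hn : Module.supportDim R M = ((n + 1 : ℕ) : WithBot ℕ∞)) :
    Module.supportDim R (M ⧸ DRing.torsionSub (maximalIdeal R) M) = ((n + 1 : ℕ) : WithBot ℕ∞) := by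
  apply le_antisymm
  · rw [← hn]
    exact Module.supportDim_le_of_surjective _ (Submodule.mkQ_surjective _)
  · rcases subsingleton_or_nontrivial (M ⧸ DRing.torsionSub (maximalIdeal R) M) with h | h
    · exfalso
      -- then `M` is power torsion, so its support is a single point
      have htop : DRing.torsionSub (maximalIdeal R) M = ⊤ := Submodule.Quotient.subsingleton_iff.1 h
      have hPT : LocCoh.IsPowerTorsion (maximalIdeal R) M := fun m => by
        have : m ∈ DRing.torsionSub (maximalIdeal R) M := htop ▸ Submodule.mem_top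
        exact this
      have h1 := (Groth.Agent.S7038.result (maximalIdeal R) M).1 hPT
      rw [PrimeSpectrum.zeroLocus_eq_singleton] at h1
      have hsub : Subsingleton (Module.support R M) :=
        ⟨fun a b => Subtype.ext ((Set.mem_singleton_iff.1 (h1 a.2)).trans
          (Set.mem_singleton_iff.1 (h1 b.2)).symm)⟩
      have h2 : Module.supportDim R M ≤ 0 := Order.krullDim_nonpos_of_subsingleton
      rw [hn] at h2
      have h3 : ((n + 1 : ℕ) : ℕ∞) ≤ 0 := by exact_mod_cast h2
      simp at h3
    · rw [← hn]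
      exact Order.krullDim_le_of_strictMono
        (fun a => (⟨a.1, support_subset_quotient_torsionSub M a.2⟩ :
          Module.support R (M ⧸ DRing.torsionSub (maximalIdeal R) M))) (fun {_ _} lt => lt)

/-- (b): in the torsion-free case, a nonzero top local cohomology module is not killed by a power
of the maximal ideal. -/
theorem not_killed_of_tf (M : Type u) [AddCommGroup M] [Module R M] [Module.Finite R M]
    (hTF : TF (maximalIdeal R) M) (n : ℕ)
    (hn : Module.supportDim R M = ((n + 1 : ℕ) : WithBot ℕ∞))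
    (hnt : Nontrivial (LocCoh.H (maximalIdeal R) (n + 1) M)) (N : ℕ) :
    ¬ ∀ c ∈ maximalIdeal R ^ N, ∀ y : LocCoh.H (maximalIdeal R) (n + 1) M, c • y = 0 := by
  intro hk
  haveI := nontrivial_of_supportDim M (n + 1) hn
  have hIM : maximalIdeal R • (⊤ : Submodule R M) ≠ ⊤ :=
    Groth.Agent.Lib.DepthRees.maximalIdeal_smul_top_ne_top M
  obtain ⟨x, hxm, hx⟩ := exists_regular_of_tf (maximalIdeal R) M hIM hTF
  have hzm : x ^ (N + 1) ∈ maximalIdeal R := Ideal.pow_mem_of_mem _ hxm _ (Nat.succ_pos N)
  have hzN : x ^ (N + 1) ∈ maximalIdeal R ^ N :=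
    Ideal.pow_le_pow_right (Nat.le_succ N) (Ideal.pow_mem_pow hxm (N + 1))
  have hzreg : IsSMulRegular M (x ^ (N + 1)) := hx.pow (N + 1)
  generalize x ^ (N + 1) = z at hzm hzN hzreg
  have hdim := supportDim_quot_lt M hzm hzreg n hn
  haveI : Subsingleton (LocCoh.H (maximalIdeal R) (n + 1)
      (M ⧸ LinearMap.range (mulMap (M := M) z))) :=
    Groth.Agent.Lib.LocCohVanishing.subsingleton_H_of_supportDim_lt (maximalIdeal R) _ (n + 1)
      (by rw [hdim]; exact_mod_cast Nat.lt_succ_self n)
  obtain ⟨y, hy⟩ := exists_ne (0 : LocCoh.H (maximalIdeal R) (n + 1) M)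
  apply hy
  obtain ⟨y', hy'⟩ := (exact₂ (maximalIdeal R) (mulMap (M := M) z) (quotMap z) (mul_exact z)
    (mulMap_injective hzreg) (quotMap_surjective z) (n + 1) y).1 (Subsingleton.elim _ _)
  rw [← hy', Hmap_smul, Hmap_id]
  exact hk z hzN y'

/-- (a) at level `n+1` from (a) and (b) at level `n`, torsion-free case. -/
theorem nontrivial_succ_of_tf (n : ℕ)
    (ihA : ∀ (M : Type u) [AddCommGroup M] [Module R M] [Module.Finite R M],
      Module.supportDim R M = (n : WithBot ℕ∞) → Nontrivial (LocCoh.H (maximalIdeal R) n M))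
    (ihB : 0 < n → ∀ (M : Type u) [AddCommGroup M] [Module R M] [Module.Finite R M],
      Module.supportDim R M = (n : WithBot ℕ∞) → ∀ N : ℕ,
        ¬ ∀ c ∈ maximalIdeal R ^ N, ∀ y : LocCoh.H (maximalIdeal R) n M, c • y = 0)
    (M : Type u) [AddCommGroup M] [Module R M] [Module.Finite R M]
    (hTF : TF (maximalIdeal R) M)
    (hn : Module.supportDim R M = ((n + 1 : ℕ) : WithBot ℕ∞)) :
    Nontrivial (LocCoh.H (maximalIdeal R) (n + 1) M) := by
  by_contra hcon
  rw [not_nontrivial_iff_subsingleton] at hcon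
  haveI := nontrivial_of_supportDim M (n + 1) hn
  haveI : IsArtinian R (LocCoh.H (maximalIdeal R) n M) := Groth.Agent.S0817.result R M n
  obtain ⟨PP, hPP, hr⟩ := exists_finset_primes (R := R) (LocCoh.H (maximalIdeal R) n M)
  classical
  -- prime avoidance
  let S : Finset (Ideal R) := PP ∪ (associatedPrimes.finite R M).toFinset
  have hS : ∀ p ∈ S, p.IsPrime ∧ ¬ maximalIdeal R ≤ p := by
    intro p hp
    rw [Finset.mem_union] at hp
    rcases hp with hp | hp
    · exact hPP p hp
    · rw [Set.Finite.mem_toFinset] at hp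
      refine ⟨hp.isPrime, fun hle => ?_⟩
      have hpm : p = maximalIdeal R := le_antisymm (le_maximalIdeal hp.isPrime.ne_top) hle
      obtain ⟨-, m0, hm0⟩ := isAssociatedPrime_iff.1 hp
      have hm00 : m0 = 0 := by
        apply hTF m0
        intro a ha
        have : a ∈ (⊥ : Submodule R M).colon {m0} := by rw [← hm0, hpm]; exact ha
        rw [Submodule.mem_colon_singleton, Submodule.mem_bot] at this
        exact this
      have h1 : (1 : R) ∈ (⊥ : Submodule R M).colon {m0} := by
        rw [Submodule.mem_colon_singleton, hm00, smul_zero]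
        exact Submodule.zero_mem _
      rw [← hm0] at h1
      exact hp.isPrime.ne_top ((Ideal.eq_top_iff_one p).2 h1)
  have hex : ∃ x ∈ maximalIdeal R, ∀ p ∈ S, x ∉ p := by
    by_contra hno
    push Not at hno
    have hsub : ((maximalIdeal R : Ideal R) : Set R) ⊆ ⋃ p ∈ (↑S : Set (Ideal R)), (id p : Ideal R) := by
      intro x hx
      obtain ⟨p, hp, hxp⟩ := hno x hx
      exact Set.mem_biUnion (Finset.mem_coe.2 hp) hxp
    obtain ⟨p, hp, hle⟩ := (Ideal.subset_union_prime (f := id) ⊥ ⊥
      (fun i hi _ _ => (hS i hi).1)).1 hsub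
    exact (hS p hp).2 hle
  obtain ⟨x, hxm, hxS⟩ := hex
  have hxreg : IsSMulRegular M x := by
    by_contra hnr
    have : x ∈ ⋃ p ∈ associatedPrimes R M, (p : Set R) := by
      rw [biUnion_associatedPrimes_eq_compl_regular R M]
      exact hnr
    obtain ⟨p, hp, hxp⟩ := Set.mem_iUnion₂.1 this
    exact hxS p (Finset.mem_union_right _ ((Set.Finite.mem_toFinset _).2 hp)) hxp
  obtain ⟨N, hN⟩ := hr x (fun p hp => hxS p (Finset.mem_union_left _ hp))
  have hdim := supportDim_quot_lt M hxm hxreg n hn
  -- `H^n(M/xM)` is killed by `𝔪^N`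
  have hkill : ∀ c ∈ maximalIdeal R ^ N, ∀ y : LocCoh.H (maximalIdeal R) n
      (M ⧸ LinearMap.range (mulMap (M := M) x)), c • y = 0 := by
    intro c hc y
    obtain ⟨a, rfl⟩ := (exact₃ (maximalIdeal R) (mulMap (M := M) x) (quotMap x)
      (mulMap_injective hxreg) (mul_exact x) (quotMap_surjective x) n y).1 (Subsingleton.elim _ _)
    obtain ⟨a', ha'⟩ := hN c hc a
    rw [← map_smul, ha']
    have h1 : x • a' = Hmap (maximalIdeal R) (mulMap (M := M) x) n a' := by
      rw [Hmap_smul, Hmap_id]
    rw [h1]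
    exact (exact₂ (maximalIdeal R) (mulMap (M := M) x) (quotMap x) (mul_exact x)
      (mulMap_injective hxreg) (quotMap_surjective x) n _).2 ⟨a', rfl⟩
  rcases Nat.eq_zero_or_pos n with h0 | hpos
  · subst h0
    -- `H^0(M) = 0` by torsion-freeness, so `H^0(M/xM) = 0`
    haveI := subsingleton_H_zero_of_tf (maximalIdeal R) M hTF
    have hnt := ihA (M ⧸ LinearMap.range (mulMap (M := M) x)) hdim
    obtain ⟨y, hy⟩ := exists_ne (0 : LocCoh.H (maximalIdeal R) 0
      (M ⧸ LinearMap.range (mulMap (M := M) x)))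
    apply hy
    obtain ⟨a, rfl⟩ := (exact₃ (maximalIdeal R) (mulMap (M := M) x) (quotMap x)
      (mulMap_injective hxreg) (mul_exact x) (quotMap_surjective x) 0 y).1 (Subsingleton.elim _ _)
    rw [Subsingleton.elim a 0, map_zero]
  · exact ihB hpos (M ⧸ LinearMap.range (mulMap (M := M) x)) hdim N hkill

/-- **Grothendieck non-vanishing**, together with the fact that the top local cohomology is not
killed by a power of the maximal ideal in positive dimension. -/
theorem main (n : ℕ) : ∀ (M : Type u) [AddCommGroup M] [Module R M] [Module.Finite R M],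
    Module.supportDim R M = (n : WithBot ℕ∞) →
      Nontrivial (LocCoh.H (maximalIdeal R) n M) ∧
      (0 < n → ∀ N : ℕ,
        ¬ ∀ c ∈ maximalIdeal R ^ N, ∀ y : LocCoh.H (maximalIdeal R) n M, c • y = 0) := by
  induction n with
  | zero =>
    intro M _ _ _ hn
    refine ⟨?_, fun h => absurd h (lt_irrefl 0)⟩
    haveI := nontrivial_of_supportDim M 0 hn
    have hsupp := support_of_supportDim_eq_zero (R := R) (N := M) (by simpa using hn)
    have hPT : LocCoh.IsPowerTorsion (maximalIdeal R) M :=
      (Groth.Agent.S7038.result (maximalIdeal R) M).2 (IsNoetherian.noetherian _) hsupp.le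
    exact (equivOfTorsion (maximalIdeal R) M hPT).toEquiv.nontrivial
  | succ n ih =>
    intro M _ _ _ hn
    have hTF : TF (maximalIdeal R) (M ⧸ DRing.torsionSub (maximalIdeal R) M) :=
      tf_quotient_torsionSub (maximalIdeal R) M (IsNoetherian.noetherian _)
    have hdim' := supportDim_quotient_torsionSub M n hn
    have hnt' := nontrivial_succ_of_tf n (fun M' _ _ _ h => (ih M' h).1)
      (fun hpos M' _ _ _ h => (ih M' h).2 hpos) (M ⧸ DRing.torsionSub (maximalIdeal R) M) hTF hdim'
    have hb := Hmap_mkQ_torsionSub_bijective (maximalIdeal R) M (n + 1) (Nat.succ_pos n)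
    refine ⟨(Equiv.ofBijective _ hb).nontrivial, fun _ N hk => ?_⟩
    refine not_killed_of_tf (M ⧸ DRing.torsionSub (maximalIdeal R) M) hTF n hdim' hnt' N ?_
    intro c hc y'
    obtain ⟨y, rfl⟩ := hb.2 y'
    rw [← map_smul, hk c hc y, map_zero]

end Groth.Agent.Lib.NonVanish9
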