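import Mathlib.AlgebraicGeometry.Modules.Tilde
import Mathlib.CategoryTheory.Limits.Preserves.Finite
import Mathlib.Algebra.Homology.ShortComplex.ExactFunctor

/-!
# Exactness of the tilde functor and consequences for quasi-coherent modules on `Spec R`

* `mono_tilde_map` : `tilde.map f` is a monomorphism if `f` is.
* `preservesFiniteLimits_tilde`, `preservesFiniteColimits_tilde` : `M ↦ M~` is exact.
* `isQuasicoherent_of_iso_tilde`, `isQuasicoherent_kernel`, `isQuasicoherent_cokernel`,
  `isQuasicoherent_colimit` : quasi-coherent modules on `Spec R` are stable under kernels,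
  cokernels and (small) colimits computed in the category of all modules.
-/

set_option autoImplicit false
universe u

namespace Groth.Agent.Lib.H60TildeExact

open AlgebraicGeometry CategoryTheory Limits

variable {R : CommRingCat.{u}}

/-- `tilde` preserves monomorphisms. -/
lemma mono_tilde_map {M N : ModuleCat.{u} R} (f : M ⟶ N) [Mono f] : Mono (tilde.map f) := by
  have hf : Function.Injective f.hom := (ModuleCat.mono_iff_injective f).mp inferInstance
  apply (Scheme.Modules.toPresheaf (Spec R)).mono_of_mono_map
  apply (config := { allowSynthFailures := true }) NatTrans.mono_of_mono_app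
  intro U
  rw [AddCommGrpCat.mono_iff_injective]
  intro s t hst
  apply Subtype.ext
  funext y
  have h1 := congrArg (fun z => z.1 y) hst
  let p : PrimeSpectrum R := y.1
  exact LocalizedModule.map_injective p.asIdeal.primeCompl f.hom hf h1

instance : (tilde.functor R).PreservesMonomorphisms := ⟨fun f _ => mono_tilde_map f⟩

variable (R) in
/-- The tilde functor is right exact (it is a left adjoint). -/
lemma preservesFiniteColimits_tilde : PreservesFiniteColimits (tilde.functor R) := inferInstance

variable (R) in
/-- The tilde functor is left exact. -/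
lemma preservesFiniteLimits_tilde : PreservesFiniteLimits (tilde.functor R) := by
  rw [Functor.preservesFiniteLimits_iff_forall_exact_map_and_mono]
  intro S hS
  have := hS.mono_f
  refine ⟨?_, mono_tilde_map S.f⟩
  exact (((Functor.preservesFiniteColimits_iff_forall_exact_map_and_epi (tilde.functor R)).mp
    (preservesFiniteColimits_tilde R)) S hS).1

instance : PreservesFiniteLimits (tilde.functor R) := preservesFiniteLimits_tilde R

/-- A module isomorphic to some `M~` is quasi-coherent. -/
lemma isQuasicoherent_of_iso_tilde {F : (Spec R).Modules} {M : ModuleCat.{u} R}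
    (e : F ≅ (tilde.functor R).obj M) : F.IsQuasicoherent :=
  (SheafOfModules.isQuasicoherent (Spec R).ringCatSheaf).prop_of_iso e.symm
    (inferInstanceAs ((tilde.functor R).obj M).IsQuasicoherent)

/-- The arrow `φ` between quasi-coherent modules is isomorphic to `tilde.map (Γ φ)`. -/
lemma fromTildeΓ_naturality {M N : (Spec R).Modules} (φ : M ⟶ N) :
    (tilde.functor R).map (moduleSpecΓFunctor.map φ) ≫ N.fromTildeΓ = M.fromTildeΓ ≫ φ :=
  (tilde.adjunction (R := R)).counit.naturality φ

/-- Kernels (in all modules) of maps of quasi-coherent modules on `Spec R` are quasi-coherent. -/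
lemma isQuasicoherent_kernel {M N : (Spec R).Modules} [M.IsQuasicoherent] [N.IsQuasicoherent]
    (φ : M ⟶ N) : (kernel φ).IsQuasicoherent := by
  let φ₀ := moduleSpecΓFunctor.map φ
  have hM : IsIso M.fromTildeΓ := inferInstance
  have hN : IsIso N.fromTildeΓ := inferInstance
  have e : kernel φ ≅ (tilde.functor R).obj (kernel φ₀) :=
    (kernel.mapIso ((tilde.functor R).map φ₀) φ (@asIso _ _ _ _ M.fromTildeΓ hM) (@asIso _ _ _ _ N.fromTildeΓ hN)
      (fromTildeΓ_naturality φ)).symm ≪≫ (PreservesKernel.iso (tilde.functor R) φ₀).symm
  exact isQuasicoherent_of_iso_tilde e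

/-- Cokernels (in all modules) of maps of quasi-coherent modules on `Spec R` are
quasi-coherent. -/
lemma isQuasicoherent_cokernel {M N : (Spec R).Modules} [M.IsQuasicoherent] [N.IsQuasicoherent]
    (φ : M ⟶ N) : (cokernel φ).IsQuasicoherent := by
  let φ₀ := moduleSpecΓFunctor.map φ
  have hM : IsIso M.fromTildeΓ := inferInstance
  have hN : IsIso N.fromTildeΓ := inferInstance
  have e : cokernel φ ≅ (tilde.functor R).obj (cokernel φ₀) :=
    (cokernel.mapIso ((tilde.functor R).map φ₀) φ (@asIso _ _ _ _ M.fromTildeΓ hM) (@asIso _ _ _ _ N.fromTildeΓ hN)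
      (fromTildeΓ_naturality φ)).symm ≪≫ (PreservesCokernel.iso (tilde.functor R) φ₀).symm
  exact isQuasicoherent_of_iso_tilde e

/-- Small colimits (in all modules) of quasi-coherent modules on `Spec R` are quasi-coherent. -/
lemma isQuasicoherent_colimit {J : Type u} [SmallCategory J] (F : J ⥤ (Spec R).Modules)
    (hF : ∀ j, (F.obj j).IsQuasicoherent) : (colimit F).IsQuasicoherent := by
  let G : J ⥤ ModuleCat.{u} R := F ⋙ moduleSpecΓFunctor
  let α : G ⋙ tilde.functor R ⟶ F :=
    (Functor.associator _ _ _).hom ≫ Functor.whiskerLeft F (tilde.adjunction (R := R)).counit ≫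
      (Functor.rightUnitor F).hom
  have hα : IsIso α := by
    apply (config := { allowSynthFailures := true }) NatIso.isIso_of_isIso_app
    intro j
    have := hF j
    have : IsIso ((tilde.adjunction (R := R)).counit.app (F.obj j)) :=
      inferInstanceAs (IsIso (F.obj j).fromTildeΓ)
    simp only [α, NatTrans.comp_app, Functor.associator_hom_app, Functor.whiskerLeft_app,
      Functor.rightUnitor_hom_app]
    infer_instance
  have e : colimit F ≅ (tilde.functor R).obj (colimit G) :=
    (HasColimit.isoOfNatIso (asIso α)).symm ≪≫ (preservesColimitIso (tilde.functor R) G).symm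
  exact isQuasicoherent_of_iso_tilde e

end Groth.Agent.Lib.H60TildeExact
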