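/-
helper66: a triangulated functor preserving a countable product preserves derived limits (`CohCx.IsRlimVia`).
-/
import Groth.Prelude.Def_CohCx
import Mathlib.CategoryTheory.Triangulated.Functor
import Mathlib.CategoryTheory.Limits.Preserves.Shapes.Products

set_option autoImplicit false

open CategoryTheory Limits Pretriangulated

namespace Groth.Agent.Lib.RlimFunctor66

variable {T T' : Type*} [Category T] [Category T'] [Preadditive T] [Preadditive T']
  [HasZeroObject T] [HasZeroObject T'] [HasShift T ℤ] [HasShift T' ℤ]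
  [∀ n : ℤ, (shiftFunctor T n).Additive] [∀ n : ℤ, (shiftFunctor T' n).Additive]
  [Pretriangulated T] [Pretriangulated T']
  (F : T ⥤ T') [F.CommShift ℤ] [F.IsTriangulated]

theorem isRlimVia_map (K : ℕ → T) (t : ∀ n, K (n + 1) ⟶ K n) [HasProduct K] (L : T)
    (a : ∀ n, L ⟶ K n) (hL : CohCx.IsRlimVia K t L a)
    [PreservesLimit (Discrete.functor K) F] [HasProduct fun n => F.obj (K n)] :
    CohCx.IsRlimVia (fun n => F.obj (K n)) (fun n => F.map (t n)) (F.obj L)
      (fun n => F.map (a n)) := by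
  obtain ⟨c, hc⟩ := hL
  have : F.Additive := inferInstance
  let e : F.obj (∏ᶜ K) ≅ ∏ᶜ fun n => F.obj (K n) := PreservesProduct.iso F K
  have he : ∀ n, e.hom ≫ Pi.π (fun n => F.obj (K n)) n = F.map (Pi.π K n) := fun n => by
    simp [e, PreservesProduct.iso_hom]
  let T₁ : Triangle T' := F.mapTriangle.obj
    (Triangle.mk (Pi.lift a) (Pi.lift fun n => Pi.π K n - Pi.π K (n + 1) ≫ t n) c)
  let T₂ : Triangle T' := Triangle.mk (Pi.lift fun n => F.map (a n))
    (Pi.lift fun n => Pi.π (fun n => F.obj (K n)) n -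
      Pi.π (fun n => F.obj (K n)) (n + 1) ≫ F.map (t n))
    (e.inv ≫ F.map c ≫ (F.commShiftIso (1 : ℤ)).hom.app L)
  refine ⟨e.inv ≫ F.map c ≫ (F.commShiftIso (1 : ℤ)).hom.app L, ?_⟩
  refine isomorphic_distinguished T₁ (F.map_distinguished _ hc) T₂ ?_
  refine (Triangle.isoMk T₁ T₂ (Iso.refl _) e e ?_ ?_ ?_).symm
  · change F.map (Pi.lift a) ≫ e.hom = 𝟙 _ ≫ Pi.lift fun n => F.map (a n)
    rw [Category.id_comp]
    refine Pi.hom_ext _ _ (fun n => ?_)
    rw [Category.assoc, he, ← F.map_comp, Pi.lift_π, Pi.lift_π]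
  · change F.map (Pi.lift fun n => Pi.π K n - Pi.π K (n + 1) ≫ t n) ≫ e.hom =
      e.hom ≫ Pi.lift fun n => Pi.π (fun n => F.obj (K n)) n -
        Pi.π (fun n => F.obj (K n)) (n + 1) ≫ F.map (t n)
    refine Pi.hom_ext _ _ (fun n => ?_)
    rw [Category.assoc, he, ← F.map_comp, Pi.lift_π, Category.assoc, Pi.lift_π,
      Preadditive.comp_sub, ← Category.assoc, he, he, F.map_sub, F.map_comp]
  · change (F.map c ≫ (F.commShiftIso (1 : ℤ)).hom.app L) ≫ (shiftFunctor T' (1 : ℤ)).map (𝟙 _) =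
      e.hom ≫ e.inv ≫ F.map c ≫ (F.commShiftIso (1 : ℤ)).hom.app L
    rw [CategoryTheory.Functor.map_id]
    exact (Category.comp_id _).trans (e.hom_inv_id_assoc _).symm

end Groth.Agent.Lib.RlimFunctor66
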