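import Groth.Agent.Lib.RlimTri31

/-!
# Towers with eventually vanishing fibres (helper31)

* `limOneIsZero_of_forall_surjective`, `limOneIsZero_shift`, `limOneIsZero_of_eventually_surjective`.
* `injective_postcomp`, `surjective_postcomp`: consequences of `Hom(W, X₁[m]) = 0` for a
  distinguished triangle `X₁ ⟶ X₂ ⟶ X₃`.
* `tower_conditions`: a tower whose steps have fibres `X₁(n)` with `Hom(W, X₁(n)[m]) = 0` for
  `n ≥ N` satisfies the hypotheses of `RlimTri31.eq_zero_of_comp_eq_zero`.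
-/

set_option autoImplicit false
set_option linter.unusedSectionVars false

open CategoryTheory CategoryTheory.Limits Opposite Pretriangulated

universe u v' u'

namespace Groth.Agent.RlimTower31

section LimOne

variable (A : ℕ → Type u) [∀ n, AddCommGroup (A n)] (t : ∀ n, A (n + 1) →+ A n)

lemma limOneIsZero_of_forall_surjective (ht : ∀ n, Function.Surjective (t n)) :
    CohCx.LimOneIsZero A t := by
  intro z
  have step : ∀ (n : ℕ) (x : A n), ∃ y : A (n + 1), t n y = x - z n := fun n x => ht n _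
  choose next hnext using step
  let w : ∀ n, A n := fun n => Nat.rec (motive := A) 0 (fun n x => next n x) n
  refine ⟨w, funext fun n => ?_⟩
  have : w (n + 1) = next n (w n) := rfl
  change w n - t n (w (n + 1)) = z n
  rw [this, hnext]
  abel

lemma limOneIsZero_shift
    (h : CohCx.LimOneIsZero (fun n => A (n + 1)) (fun n => t (n + 1))) :
    CohCx.LimOneIsZero A t := by
  intro y
  obtain ⟨a', ha'⟩ := h (fun n => y (n + 1))
  let a : ∀ n, A n := fun n => Nat.casesOn (motive := A) n (y 0 + t 0 (a' 0)) (fun n => a' n)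
  refine ⟨a, funext fun n => ?_⟩
  cases n with
  | zero =>
    change (y 0 + t 0 (a' 0)) - t 0 (a' 0) = y 0
    abel
  | succ n => exact congrFun ha' n

lemma limOneIsZero_of_eventually_surjective (N : ℕ)
    (ht : ∀ n, N ≤ n → Function.Surjective (t n)) : CohCx.LimOneIsZero A t := by
  induction N generalizing A with
  | zero => exact limOneIsZero_of_forall_surjective A t (fun n => ht n (Nat.zero_le n))
  | succ N ih =>
    apply limOneIsZero_shift
    exact ih (fun n => A (n + 1)) (fun n => t (n + 1)) (fun n hn => ht (n + 1) (by omega))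

end LimOne

variable {T : Type u'} [Category.{v'} T] [Preadditive T] [HasZeroObject T] [HasShift T ℤ]
  [∀ n : ℤ, (shiftFunctor T n).Additive] [Pretriangulated T]

lemma eq_zero_of_comp_mor₂ (Tr : Triangle T) (hTr : Tr ∈ distTriang T) (W : T) (m : ℤ)
    (h : ∀ ξ : W ⟶ Tr.obj₁⟦m⟧, ξ = 0) (ξ : W ⟶ Tr.obj₂⟦m⟧) (hξ : ξ ≫ Tr.mor₂⟦m⟧' = 0) :
    ξ = 0 := by
  let F := preadditiveCoyoneda.obj (op W)
  have hex := F.homologySequence_exact₂ _ hTr m
  rw [ShortComplex.ab_exact_iff] at hex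
  obtain ⟨x, hx⟩ := hex ξ hξ
  have hx0 : x = 0 := h x
  rw [← hx, hx0]
  exact map_zero _

lemma exists_lift_mor₂ (Tr : Triangle T) (hTr : Tr ∈ distTriang T) (W : T) (m' m : ℤ)
    (hm : m' + 1 = m) (h : ∀ ξ : W ⟶ Tr.obj₁⟦m⟧, ξ = 0) (y : W ⟶ Tr.obj₃⟦m'⟧) :
    ∃ x : W ⟶ Tr.obj₂⟦m'⟧, x ≫ Tr.mor₂⟦m'⟧' = y := by
  let F := preadditiveCoyoneda.obj (op W)
  have hex := F.homologySequence_exact₃ _ hTr m' m hm
  rw [ShortComplex.ab_exact_iff] at hex
  obtain ⟨x, hx⟩ := hex y (h _)
  exact ⟨x, hx⟩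

variable (K : ℕ → T) (t : ∀ n, K (n + 1) ⟶ K n)

/-- **towers with eventually vanishing fibres** -/
theorem tower_conditions (W : T) (m : ℤ) (N : ℕ)
    (h : ∀ n, N ≤ n → ∃ (X₁ : T) (f : X₁ ⟶ K (n + 1)) (g : K n ⟶ X₁⟦(1 : ℤ)⟧),
      Triangle.mk f (t n) g ∈ distTriang T ∧ ∀ ξ : W ⟶ X₁⟦m⟧, ξ = 0) :
    CohCx.LimOneIsZero (fun n => (W ⟶ (K n)⟦m - 1⟧))
        (fun n => Preadditive.rightComp W ((shiftFunctor T (m - 1)).map (t n))) ∧
      ∀ nV, N ≤ nV → ∀ k : ℕ, Function.Injective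
        (Preadditive.rightComp W ((shiftFunctor T m).map (CohCx.transition K t nV k))) := by
  constructor
  · apply limOneIsZero_of_eventually_surjective _ _ N
    intro n hn y
    obtain ⟨X₁, f, g, hT, hv⟩ := h n hn
    exact exists_lift_mor₂ _ hT W (m - 1) m (by omega) hv y
  · intro nV hnV k
    induction k with
    | zero =>
      intro x y hxy
      change x ≫ (𝟙 (K nV))⟦m⟧' = y ≫ (𝟙 (K nV))⟦m⟧' at hxy
      have e : (shiftFunctor T m).map (𝟙 (K nV)) = 𝟙 _ := (shiftFunctor T m).map_id _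
      exact ((Category.comp_id x).symm.trans (congrArg (x ≫ ·) e.symm)).trans
        (hxy.trans ((congrArg (y ≫ ·) e).trans (Category.comp_id y)))
    | succ k ih =>
      intro x y hxy
      change x ≫ (t (nV + k) ≫ CohCx.transition K t nV k)⟦m⟧' =
        y ≫ (t (nV + k) ≫ CohCx.transition K t nV k)⟦m⟧' at hxy
      rw [Functor.map_comp, ← Category.assoc, ← Category.assoc] at hxy
      have h1 : x ≫ (t (nV + k))⟦m⟧' = y ≫ (t (nV + k))⟦m⟧' := ih hxy
      obtain ⟨X₁, f, g, hT, hv⟩ := h (nV + k) (by omega)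
      rw [← sub_eq_zero]
      apply eq_zero_of_comp_mor₂ _ hT W m hv
      change (x - y) ≫ (t (nV + k))⟦m⟧' = 0
      rw [Preadditive.sub_comp, h1, sub_self]

end Groth.Agent.RlimTower31
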