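import Groth.Agent.Lib.DWayOut
import Mathlib.Algebra.Homology.DerivedCategory.TStructure
import Mathlib.Algebra.Homology.DerivedCategory.HomologySequence

/-!
# One step of the truncation tower in `D(𝒜)` (helper31)

For `E : D(𝒜)` and `a + 1 = b`, the fibre of `τ_{≥a} E ⟶ τ_{≥b} E` is `(H^a E)[-a]`.
-/

set_option autoImplicit false

open CategoryTheory CategoryTheory.Limits Pretriangulated DerivedCategory
  DerivedCategory.TStructure

universe w v' u'

namespace Groth.Agent.TruncStep31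

variable {𝒜 : Type u'} [Category.{v'} 𝒜] [Abelian 𝒜] [HasDerivedCategory.{w} 𝒜]

/-- the step `τ_{≥a} E ⟶ τ_{≥b} E` -/
noncomputable abbrev ν (E : DerivedCategory 𝒜) (a b : ℤ) (hab : a ≤ b) :
    (t.truncGE a).obj E ⟶ (t.truncGE b).obj E :=
  (t.natTransTruncGEOfLE a b hab).app E

lemma isIso_homologyMap_ν (E : DerivedCategory 𝒜) (a b j : ℤ) (hab : a ≤ b) (hj : b ≤ j) :
    IsIso ((homologyFunctor 𝒜 j).map (ν E a b hab)) := by
  have h1 := Groth.Agent.Lib.DWayOut.isIso_homologyMap_truncGEπ E a j (by omega)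
  have h2 := Groth.Agent.Lib.DWayOut.isIso_homologyMap_truncGEπ E b j hj
  have h3 : (homologyFunctor 𝒜 j).map ((t.truncGEπ a).app E) ≫
      (homologyFunctor 𝒜 j).map (ν E a b hab) = (homologyFunctor 𝒜 j).map ((t.truncGEπ b).app E) := by
    rw [← Functor.map_comp, t.π_natTransTruncGEOfLE_app]
  exact IsIso.of_isIso_fac_left h3

lemma nonempty_iso_single_homology (X : DerivedCategory 𝒜) (q : ℤ) [X.IsGE q] [X.IsLE q] :
    Nonempty (X ≅ (singleFunctor 𝒜 q).obj ((homologyFunctor 𝒜 q).obj X)) := by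
  obtain ⟨Y, ⟨e⟩⟩ := exists_iso_singleFunctor_obj_of_isGE_of_isLE X q
  have e' : (homologyFunctor 𝒜 q).obj X ≅ Y :=
    (homologyFunctor 𝒜 q).mapIso e ≪≫ (singleFunctorCompHomologyFunctorIso 𝒜 q).app Y
  exact ⟨e ≪≫ (singleFunctor 𝒜 q).mapIso e'.symm⟩

/-- **the fibre of `τ_{≥a} E ⟶ τ_{≥a+1} E` is `(H^a E)[-a]`** -/
theorem fiber_iso (E : DerivedCategory 𝒜) (a b : ℤ) (h : a + 1 = b) (hab : a ≤ b)
    {X₁ : DerivedCategory 𝒜}
    (f : X₁ ⟶ (t.truncGE a).obj E) (g : (t.truncGE b).obj E ⟶ X₁⟦(1 : ℤ)⟧)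
    (hT : Triangle.mk f (ν E a b hab) g ∈ distTriang (DerivedCategory 𝒜)) :
    Nonempty (X₁ ≅ (singleFunctor 𝒜 a).obj ((homologyFunctor 𝒜 a).obj E)) := by
  have zb : ∀ i, i < b → IsZero ((homologyFunctor 𝒜 i).obj ((t.truncGE b).obj E)) :=
    fun i hi => isZero_of_isGE ((t.truncGE b).obj E) b i hi
  have za : ∀ i, i < a → IsZero ((homologyFunctor 𝒜 i).obj ((t.truncGE a).obj E)) :=
    fun i hi => isZero_of_isGE ((t.truncGE a).obj E) a i hi
  have hz : ∀ i, i ≠ a → IsZero ((homologyFunctor 𝒜 i).obj X₁) := by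
    intro i hi
    have hex := HomologySequence.exact₁ _ hT (i - 1) i (by omega)
    rcases lt_or_gt_of_ne hi with hi | hi
    · exact hex.isZero_of_both_zeros ((zb (i - 1) (by omega)).eq_of_src _ _)
        ((za i hi).eq_of_tgt _ _)
    · refine hex.isZero_of_both_zeros ?_ ?_
      · by_cases hib : i = b
        · exact (zb (i - 1) (by omega)).eq_of_src _ _
        · have : IsIso ((homologyFunctor 𝒜 (i - 1)).map (ν E a b hab)) :=
            isIso_homologyMap_ν E a b (i - 1) hab (by omega)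
          exact (HomologySequence.epi_homologyMap_mor₂_iff _ hT (i - 1) i (by omega)).1
            (by change Epi ((homologyFunctor 𝒜 (i - 1)).map (ν E a b hab)); infer_instance)
      · have : IsIso ((homologyFunctor 𝒜 i).map (ν E a b hab)) :=
          isIso_homologyMap_ν E a b i hab (by omega)
        exact (HomologySequence.mono_homologyMap_mor₂_iff _ hT i).1
          (by change Mono ((homologyFunctor 𝒜 i).map (ν E a b hab)); infer_instance)
  have : X₁.IsGE a := (isGE_iff X₁ a).2 (fun i hi => hz i (by omega))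
  have : X₁.IsLE a := (isLE_iff X₁ a).2 (fun i hi => hz i (by omega))
  obtain ⟨e⟩ := nonempty_iso_single_homology X₁ a
  have hmono : Mono ((homologyFunctor 𝒜 a).map f) :=
    (HomologySequence.mono_homologyMap_mor₁_iff _ hT (a - 1) a (by omega)).2
      ((zb (a - 1) (by omega)).eq_of_src _ _)
  have hepi : Epi ((homologyFunctor 𝒜 a).map f) :=
    (HomologySequence.epi_homologyMap_mor₁_iff _ hT a).2 ((zb a (by omega)).eq_of_tgt _ _)
  have hiso : IsIso ((homologyFunctor 𝒜 a).map f) := isIso_of_mono_of_epi _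
  have hπ := Groth.Agent.Lib.DWayOut.isIso_homologyMap_truncGEπ E a a le_rfl
  let e' : (homologyFunctor 𝒜 a).obj X₁ ≅ (homologyFunctor 𝒜 a).obj E :=
    asIso ((homologyFunctor 𝒜 a).map f) ≪≫
      (asIso ((homologyFunctor 𝒜 a).map ((t.truncGEπ a).app E))).symm
  exact ⟨e ≪≫ (singleFunctor 𝒜 a).mapIso e'⟩

/-- `(G[-a])[m] ≅ (G[0])[k]` for `k = m - a` -/
noncomputable def singleShiftIso (G : 𝒜) (a m k : ℤ) (hk : k + a = m) :
    ((singleFunctor 𝒜 a).obj G)⟦m⟧ ≅ ((singleFunctor 𝒜 0).obj G)⟦k⟧ :=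
  ((singleFunctors 𝒜).shiftIso m (a - m) a (by omega)).app G ≪≫
    (((singleFunctors 𝒜).shiftIso k (a - m) 0 (by omega)).app G).symm

end Groth.Agent.TruncStep31
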