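import Groth.Agent.Lib.RlimSheaf31
import Groth.Agent.Lib.RlimTower31
import Groth.Agent.Lib.TruncStep31

/-!
# `E ≅ R lim τ_{≥ -n} E` under local boundedness of cohomological dimension (helper31)
-/

set_option autoImplicit false
set_option linter.unusedSectionVars false

open CategoryTheory CategoryTheory.Limits Opposite Pretriangulated DerivedCategory

universe w u v' u'

namespace Groth.Agent.RlimTrunc31

section General

variable {T : Type u'} [Category.{v'} T] [Preadditive T] [HasZeroObject T] [HasShift T ℤ]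
  [∀ n : ℤ, (shiftFunctor T n).Additive] [Pretriangulated T]
  (K : ℕ → T) (t : ∀ n, K (n + 1) ⟶ K n)

lemma comp_transition {E : T} (π : ∀ n, E ⟶ K n) (hπ : ∀ n, π (n + 1) ≫ t n = π n) (n k : ℕ) :
    π (n + k) ≫ CohCx.transition K t n k = π n := by
  induction k with
  | zero => exact Category.comp_id _
  | succ k ih =>
    change π (n + k + 1) ≫ t (n + k) ≫ CohCx.transition K t n k = π n
    rw [← Category.assoc, hπ, ih]

variable [HasProduct K]

lemma exists_lift {E L : T} (π : ∀ n, E ⟶ K n) (hπ : ∀ n, π (n + 1) ≫ t n = π n)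
    (a : L ⟶ ∏ᶜ K) (c : ∏ᶜ K ⟶ L⟦(1 : ℤ)⟧)
    (hT : Triangle.mk a (Pi.lift fun n => Pi.π K n - Pi.π K (n + 1) ≫ t n) c ∈ distTriang T) :
    ∃ u : E ⟶ L, u ≫ a = Pi.lift π := by
  have h0 : Pi.lift π ≫ (Pi.lift fun n => Pi.π K n - Pi.π K (n + 1) ≫ t n) = 0 := by
    apply Pi.hom_ext
    intro n
    rw [Category.assoc, Pi.lift_π, Preadditive.comp_sub, Pi.lift_π, Pi.lift_π_assoc, hπ,
      sub_self, zero_comp]
  obtain ⟨u, hu⟩ : ∃ u : E ⟶ L, Pi.lift π = u ≫ a := Triangle.coyoneda_exact₂ _ hT _ h0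
  exact ⟨u, hu.symm⟩

lemma isRlimVia_of_isIso {E L : T} (π : ∀ n, E ⟶ K n)
    (a : L ⟶ ∏ᶜ K) (c : ∏ᶜ K ⟶ L⟦(1 : ℤ)⟧)
    (hT : Triangle.mk a (Pi.lift fun n => Pi.π K n - Pi.π K (n + 1) ≫ t n) c ∈ distTriang T)
    (u : E ⟶ L) [IsIso u] (hu : u ≫ a = Pi.lift π) : CohCx.IsRlimVia K t E π := by
  refine ⟨c ≫ (inv u)⟦(1 : ℤ)⟧', isomorphic_distinguished _ hT _ ?_⟩
  let e : E ≅ L := asIso u
  refine Triangle.isoMk _ _ e (Iso.refl _) (Iso.refl _) ?_ ?_ ?_
  · exact (Category.comp_id _).trans hu.symm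
  · exact (Category.comp_id _).trans (Category.id_comp _).symm
  · change (c ≫ (inv u)⟦(1 : ℤ)⟧') ≫ u⟦(1 : ℤ)⟧' = 𝟙 _ ≫ c
    rw [Category.assoc, ← Functor.map_comp, IsIso.inv_hom_id, CategoryTheory.Functor.map_id,
      Category.comp_id, Category.id_comp]

end General

section Derived

variable {𝒜 : Type (u + 1)} [Category.{u} 𝒜] [Abelian 𝒜] [HasDerivedCategory.{w} 𝒜]

/-- a map `u` is an iso if for every `m` there is a map `b` with `H^m(b)` mono and
`H^m(u ≫ b)` an iso -/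
lemma isIso_of_homology_mono {E L : DerivedCategory 𝒜} (u : E ⟶ L)
    (h : ∀ m : ℤ, ∃ (Z : DerivedCategory 𝒜) (b : L ⟶ Z),
      Mono ((homologyFunctor 𝒜 m).map b) ∧ IsIso ((homologyFunctor 𝒜 m).map (u ≫ b))) :
    IsIso u := by
  rw [isIso_iff]
  intro m
  obtain ⟨Z, b, hb, hub⟩ := h m
  rw [Functor.map_comp] at hub
  have hepi : Epi ((homologyFunctor 𝒜 m).map b) := epi_of_epi_fac (f := (homologyFunctor 𝒜 m).map u)
    (h := (homologyFunctor 𝒜 m).map u ≫ (homologyFunctor 𝒜 m).map b) rfl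
  have : IsIso ((homologyFunctor 𝒜 m).map b) := isIso_of_mono_of_epi _
  exact IsIso.of_isIso_comp_right _ ((homologyFunctor 𝒜 m).map b)

open DerivedCategory.TStructure

lemma truncTowerMap_eq (E : DerivedCategory 𝒜) (n : ℕ) :
    CohCx.truncTowerMap E n = Groth.Agent.TruncStep31.ν E (-((n + 1 : ℕ) : ℤ)) (-(n : ℤ))
      (by omega) := rfl

lemma toTruncTower_succ (E : DerivedCategory 𝒜) (n : ℕ) :
    CohCx.toTruncTower E (n + 1) ≫ CohCx.truncTowerMap E n = CohCx.toTruncTower E n :=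
  t.π_natTransTruncGEOfLE_app _ _ _ E

lemma isIso_homologyMap_toTruncTower (E : DerivedCategory 𝒜) (n : ℕ) (m : ℤ)
    (hm : -(n : ℤ) ≤ m) : IsIso ((homologyFunctor 𝒜 m).map (CohCx.toTruncTower E n)) :=
  Groth.Agent.Lib.DWayOut.isIso_homologyMap_truncGEπ E (-(n : ℤ)) m hm

lemma isIso_homologyMap_transition (E : DerivedCategory 𝒜) (n k : ℕ) (m : ℤ)
    (hm : -(n : ℤ) ≤ m) :
    IsIso ((homologyFunctor 𝒜 m).map
      (CohCx.transition (CohCx.truncTower E) (CohCx.truncTowerMap E) n k)) := by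
  have h1 := isIso_homologyMap_toTruncTower E n m hm
  have h2 := isIso_homologyMap_toTruncTower E (n + k) m (by push_cast; omega)
  have h3 : (homologyFunctor 𝒜 m).map (CohCx.toTruncTower E (n + k)) ≫
      (homologyFunctor 𝒜 m).map
        (CohCx.transition (CohCx.truncTower E) (CohCx.truncTowerMap E) n k) =
      (homologyFunctor 𝒜 m).map (CohCx.toTruncTower E n) := by
    rw [← Functor.map_comp,
      comp_transition (CohCx.truncTower E) (CohCx.truncTowerMap E) (CohCx.toTruncTower E)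
        (toTruncTower_succ E) n k]
  exact IsIso.of_isIso_fac_left h3

/-- the fibre of a step of the truncation tower -/
lemma exists_fiber (E : DerivedCategory 𝒜) (n : ℕ) :
    ∃ (X₁ : DerivedCategory 𝒜) (f : X₁ ⟶ CohCx.truncTower E (n + 1))
      (g : CohCx.truncTower E n ⟶ X₁⟦(1 : ℤ)⟧),
      Triangle.mk f (CohCx.truncTowerMap E n) g ∈ distTriang (DerivedCategory 𝒜) ∧
      Nonempty (X₁ ≅ (singleFunctor 𝒜 (-((n + 1 : ℕ) : ℤ))).obj
        ((homologyFunctor 𝒜 (-((n + 1 : ℕ) : ℤ))).obj E)) := by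
  obtain ⟨X₁, f, g, hT⟩ := distinguished_cocone_triangle₁ (CohCx.truncTowerMap E n)
  exact ⟨X₁, f, g, hT, Groth.Agent.TruncStep31.fiber_iso E (-((n + 1 : ℕ) : ℤ)) (-(n : ℤ))
    (by push_cast; omega) (by push_cast; omega) f g hT⟩

end Derived

section Sheaf

open Groth.Agent.FreeSheaf31 Groth.Agent.SingleMaps31 Groth.Agent.HomologySheafLocal31
  Groth.Agent.HyperLocal31 Groth.Agent.RlimLocal31 Groth.Agent.RlimSheaf31
  Groth.Agent.RlimTower31 Groth.Agent.TruncStep31

variable {C : Type u} [SmallCategory C] {J : GrothendieckTopology C}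

/-- a morphism of abelian sheaves which is injective on sections over a covering class is mono -/
lemma mono_of_injective_on {B : Set C} (hB : Covers J B) {A A' : Sheaf J AddCommGrpCat.{u}}
    (ψ : A ⟶ A') (h : ∀ V ∈ B, Function.Injective (ψ.hom.app (op V))) : Mono ψ := by
  rw [Sheaf.Hom.mono_iff_presheaf_mono, NatTrans.mono_iff_mono_app]
  intro W
  induction W with | op W => ?_
  rw [AddCommGrpCat.mono_iff_injective, injective_iff_map_eq_zero]
  intro s hs
  obtain ⟨ι, Y', f, hcov, hmem⟩ := hB W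
  refine Sheaf.isSeparated A W _ hcov s 0 ?_
  rintro W' g ⟨W₀, k, g₀, hg₀, rfl⟩
  obtain ⟨i⟩ := hg₀
  have h0 : A.obj.map (f i).op s = 0 := by
    apply h _ (hmem i)
    rw [map_zero]
    have := NatTrans.naturality_apply ψ.hom (f i).op s
    rw [this]
    exact (congrArg _ hs).trans (map_zero _)
  rw [op_comp, Functor.map_comp, ConcreteCategory.comp_apply, h0, map_zero, map_zero]

lemma injective_comp_iso (Φ : Sheaf J AddCommGrpCat.{u} ⥤ AddCommGrpCat.{u})
    {A A' A'' : Sheaf J AddCommGrpCat.{u}} (f : A ⟶ A') (g : A' ⟶ A'') [IsIso g]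
    (hf : Function.Injective (Φ.map f)) : Function.Injective (Φ.map (f ≫ g)) := by
  intro x y hxy
  apply hf
  apply (ConcreteCategory.bijective_of_isIso (Φ.map g)).1
  rw [Φ.map_comp] at hxy
  exact hxy

variable [HasDerivedCategory.{u} (Sheaf J AddCommGrpCat.{u})]

lemma subsingleton_hom_ZD_single_nat (U : C) (G : Sheaf J AddCommGrpCat.{u}) (k : ℕ)
    (h : Subsingleton (CohSite.HU G k U)) :
    Subsingleton (ZD J U ⟶ (shiftFunctor _ ((k : ℕ) : ℤ)).obj
      ((singleFunctor (Sheaf J AddCommGrpCat.{u}) 0).obj G)) := by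
  have h' : Subsingleton (Abelian.Ext (CohCx.freeSheaf J U) G k) := h
  exact (Abelian.Ext.homEquiv (X := CohCx.freeSheaf J U) (Y := G) (n := k)).symm.subsingleton

lemma fiber_vanish (E : DerivedCategory (Sheaf J AddCommGrpCat.{u})) (a : ℤ)
    (X₁ : DerivedCategory (Sheaf J AddCommGrpCat.{u}))
    (e : X₁ ≅ (singleFunctor (Sheaf J AddCommGrpCat.{u}) a).obj
      ((homologyFunctor (Sheaf J AddCommGrpCat.{u}) a).obj E)) (Y' : C) (m : ℤ)
    (h : ∀ k : ℕ, m - k = a → Subsingleton (CohSite.HU (CohCx.HD E (m - k)) k Y'))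
    (ξ : ZD J Y' ⟶ (shiftFunctor _ m).obj X₁) : ξ = 0 := by
  by_cases hk : m - a < 0
  · let i : (shiftFunctor _ m).obj X₁ ≅ (shiftFunctor _ (m - a)).obj
        ((singleFunctor (Sheaf J AddCommGrpCat.{u}) 0).obj
          ((homologyFunctor (Sheaf J AddCommGrpCat.{u}) a).obj E)) :=
      (shiftFunctor _ m).mapIso e ≪≫ singleShiftIso _ a m (m - a) (by omega)
    rw [← cancel_mono i.hom, zero_comp]
    exact hom_ZD_single_neg Y' _ (m - a) hk _
  · obtain ⟨k, hk'⟩ : ∃ k : ℕ, a = m - k := ⟨(m - a).toNat, by omega⟩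
    subst hk'
    let i : (shiftFunctor _ m).obj X₁ ≅ (shiftFunctor _ ((k : ℕ) : ℤ)).obj
        ((singleFunctor (Sheaf J AddCommGrpCat.{u}) 0).obj
          ((homologyFunctor (Sheaf J AddCommGrpCat.{u}) (m - k)).obj E)) :=
      (shiftFunctor _ m).mapIso e ≪≫ singleShiftIso _ (m - k) m k (by omega)
    rw [← cancel_mono i.hom, zero_comp]
    have := subsingleton_hom_ZD_single_nat Y' _ k (h k rfl)
    exact Subsingleton.elim _ _

lemma local_conditions (E : DerivedCategory (Sheaf J AddCommGrpCat.{u})) (Y' : C) (m p : ℤ)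
    (h : ∀ k : ℕ, p < k → Subsingleton (CohSite.HU (CohCx.HD E (m - k)) k Y')) :
    CohCx.LimOneIsZero (fun n => (ZD J Y' ⟶ (shiftFunctor _ (m - 1)).obj (CohCx.truncTower E n)))
        (fun n => Preadditive.rightComp (ZD J Y')
          ((shiftFunctor _ (m - 1)).map (CohCx.truncTowerMap E n))) ∧
      ∀ nV, (p - m).toNat ≤ nV → ∀ k : ℕ, Function.Injective
        (Preadditive.rightComp (ZD J Y') ((shiftFunctor _ m).map
          (CohCx.transition (CohCx.truncTower E) (CohCx.truncTowerMap E) nV k))) := by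
  apply tower_conditions
  intro n hn
  obtain ⟨X₁, f, g, hT, ⟨e⟩⟩ := exists_fiber E n
  refine ⟨X₁, f, g, hT, fiber_vanish E _ X₁ e Y' m (fun k hk => h k ?_)⟩
  push_cast at hk
  omega

/-- **S0881** -/
theorem isRlimVia_truncTower (E : DerivedCategory (Sheaf J AddCommGrpCat.{u}))
    [HasProduct (CohCx.truncTower E)] (B : Set C) (hB : Covers J B)
    (h : ∀ V ∈ B, ∃ p : ℤ → ℤ, ∀ T ∈ J V, ∃ (ι : Type u) (Y : ι → C) (f : ∀ i, Y i ⟶ V),
      (∀ i, T.arrows (f i)) ∧ Sieve.ofArrows Y f ∈ J V ∧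
      ∀ (i : ι) (m : ℤ) (k : ℕ), p m < k → Subsingleton (CohSite.HU (CohCx.HD E (m - k)) k (Y i))) :
    CohCx.IsRlimVia (CohCx.truncTower E) (CohCx.truncTowerMap E) E (CohCx.toTruncTower E) := by
  obtain ⟨L, a, c, hT⟩ := distinguished_cocone_triangle₁
    (Pi.lift fun n => Pi.π (CohCx.truncTower E) n -
      Pi.π (CohCx.truncTower E) (n + 1) ≫ CohCx.truncTowerMap E n)
  obtain ⟨u, hu⟩ := exists_lift (CohCx.truncTower E) (CohCx.truncTowerMap E)
    (CohCx.toTruncTower E) (toTruncTower_succ E) a c hT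
  have hRV := RlimHeart31.isRlimVia_of_triangle (CohCx.truncTower E) (CohCx.truncTowerMap E) a c hT
  suffices IsIso u from isRlimVia_of_isIso _ _ _ a c hT u hu
  apply isIso_of_homology_mono
  intro m
  let n₀ : ℕ := (-m).toNat
  refine ⟨CohCx.truncTower E n₀, a ≫ Pi.π _ n₀, ?_, ?_⟩
  · apply mono_of_injective_on hB
    intro V hV
    obtain ⟨p, hp⟩ := h V hV
    let N : ℕ := (p m - m).toNat
    have hinj : Function.Injective (((homologyFunctor (Sheaf J AddCommGrpCat.{u}) m).map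
        (a ≫ Pi.π (CohCx.truncTower E) (n₀ + N))).hom.app (op V)) := by
      refine injective_of_local_shift _ m V (fun T hT' => ?_)
      obtain ⟨ι, Y', f, hf, hcov, hvan⟩ := hp T hT'
      refine ⟨ι, Y', f, hf, hcov, fun i ξ hξ => ?_⟩
      obtain ⟨hl1, hl2⟩ := local_conditions E (Y' i) m (p m) (hvan i m)
      exact RlimTri31.eq_zero_of_comp_eq_zero _ _ L _ hRV (ZD J (Y' i)) m (n₀ + N) hl1
        (hl2 (n₀ + N) (by omega)) ξ hξ
    have hfac : a ≫ Pi.π (CohCx.truncTower E) n₀ =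
        (a ≫ Pi.π (CohCx.truncTower E) (n₀ + N)) ≫
          CohCx.transition (CohCx.truncTower E) (CohCx.truncTowerMap E) n₀ N :=
      (RlimTri31.a_transition _ _ L _ hRV n₀ N).symm
    rw [hfac, Functor.map_comp]
    have := isIso_homologyMap_transition E n₀ N m (by omega)
    exact injective_comp_iso (sheafToPresheaf J AddCommGrpCat.{u} ⋙ ev V) _ _ hinj
  · have : u ≫ a ≫ Pi.π (CohCx.truncTower E) n₀ = CohCx.toTruncTower E n₀ := by
      rw [← Category.assoc, hu, Pi.lift_π]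
    rw [this]
    exact isIso_homologyMap_toTruncTower E n₀ m (by omega)

end Sheaf

section Top

open TopologicalSpace Groth.Agent.FreeSheaf31 Groth.Agent.SingleMaps31
  Groth.Agent.HomologySheafLocal31
  Groth.Agent.HyperLocal31 Groth.Agent.RlimLocal31 Groth.Agent.RlimSheaf31
  Groth.Agent.RlimTower31 Groth.Agent.TruncStep31

variable {X : TopCat.{u}}
  [HasDerivedCategory.{u} (Sheaf (Opens.grothendieckTopology X) AddCommGrpCat.{u})]

/-- **S0875** -/
theorem isRlimVia_truncTower_top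
    (E : DerivedCategory (Sheaf (Opens.grothendieckTopology X) AddCommGrpCat.{u}))
    [HasProduct (CohCx.truncTower E)]
    (h : ∀ x : X, ∃ p : ℤ → ℤ, ∀ V : Opens X, x ∈ V → ∃ U : Opens X, x ∈ U ∧ U ≤ V ∧
      ∀ (m : ℤ) (k : ℕ), p m < k → Subsingleton (CohTop.HU (CohCx.HD E (m - k)) k U)) :
    CohCx.IsRlimVia (CohCx.truncTower E) (CohCx.truncTowerMap E) E (CohCx.toTruncTower E) := by
  obtain ⟨L, a, c, hT⟩ := distinguished_cocone_triangle₁
    (Pi.lift fun n => Pi.π (CohCx.truncTower E) n -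
      Pi.π (CohCx.truncTower E) (n + 1) ≫ CohCx.truncTowerMap E n)
  obtain ⟨u, hu⟩ := exists_lift (CohCx.truncTower E) (CohCx.truncTowerMap E)
    (CohCx.toTruncTower E) (toTruncTower_succ E) a c hT
  have hRV := RlimHeart31.isRlimVia_of_triangle (CohCx.truncTower E) (CohCx.truncTowerMap E) a c hT
  suffices IsIso u from isRlimVia_of_isIso _ _ _ a c hT u hu
  apply isIso_of_homology_mono
  intro m
  let n₀ : ℕ := (-m).toNat
  refine ⟨CohCx.truncTower E n₀, a ≫ Pi.π _ n₀, ?_, ?_⟩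
  · suffices ∀ x : X, Mono ((TopCat.Presheaf.stalkFunctor AddCommGrpCat.{u} x).map
        ((homologyFunctor (Sheaf (Opens.grothendieckTopology X) AddCommGrpCat.{u}) m).map
          (a ≫ Pi.π (CohCx.truncTower E) n₀)).hom) from
      TopCat.Presheaf.mono_of_stalk_mono _
    intro x
    rw [AddCommGrpCat.mono_iff_injective]
    obtain ⟨p, hp⟩ := h x
    let N : ℕ := (p m - m).toNat
    have hinj : Function.Injective ((TopCat.Presheaf.stalkFunctor AddCommGrpCat.{u} x).map
        ((homologyFunctor (Sheaf (Opens.grothendieckTopology X) AddCommGrpCat.{u}) m).map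
          (a ≫ Pi.π (CohCx.truncTower E) (n₀ + N))).hom) := by
      refine stalk_injective_of_local_shift _ m x (fun V hV => ?_)
      obtain ⟨U, hxU, hUV, hvan⟩ := hp V hV
      refine ⟨U, hxU, hUV, fun ξ hξ => ?_⟩
      obtain ⟨hl1, hl2⟩ := local_conditions E U m (p m) (hvan m)
      exact RlimTri31.eq_zero_of_comp_eq_zero _ _ L _ hRV
        (ZD (Opens.grothendieckTopology X) U) m (n₀ + N) hl1
        (hl2 (n₀ + N) (by omega)) ξ hξ
    have hfac : a ≫ Pi.π (CohCx.truncTower E) n₀ =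
        (a ≫ Pi.π (CohCx.truncTower E) (n₀ + N)) ≫
          CohCx.transition (CohCx.truncTower E) (CohCx.truncTowerMap E) n₀ N :=
      (RlimTri31.a_transition _ _ L _ hRV n₀ N).symm
    rw [hfac, Functor.map_comp]
    have := isIso_homologyMap_transition E n₀ N m (by omega)
    exact injective_comp_iso (sheafToPresheaf (Opens.grothendieckTopology X) AddCommGrpCat.{u} ⋙
      TopCat.Presheaf.stalkFunctor AddCommGrpCat.{u} x) _ _ hinj
  · have : u ≫ a ≫ Pi.π (CohCx.truncTower E) n₀ = CohCx.toTruncTower E n₀ := by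
      rw [← Category.assoc, hu, Pi.lift_π]
    rw [this]
    exact isIso_homologyMap_toTruncTower E n₀ m (by omega)

end Top

end Groth.Agent.RlimTrunc31
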