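/-
helper66: unbounded version of helper11's `DAdjEquiv11`: for an exact functor `G : C₁ ⥤ C₂` with a right adjoint
`R` of `G.mapDerivedCategory`, weak Serre classes `A ⊂ C₂`, `A' ⊂ C₁` matched by `G`, unit iso on `A'`, and
(abstract forms of) the convergence hypotheses `X = R lim τ_{≥ -n} X` on `D_A(C₂)` and eventual constancy of
cohomology of derived limits on `D^+_{A'}(C₁)`: `G` and `R` restrict to inverse equivalences between
`D_{A'}(C₁)` and `D_A(C₂)` (unit / counit isomorphisms).
-/
import Groth.Agent.Lib.DBddEquiv11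
import Groth.Agent.Lib.RlimFunctor66
import Groth.Agent.Lib.RlimTrunc31

set_option autoImplicit false
universe u
open CategoryTheory CategoryTheory.Limits Pretriangulated Triangulated

namespace Groth.Agent.Lib.DAdjEquivUnb66

set_option linter.unusedSectionVars false

attribute [local instance] HasDerivedCategory.standard

open DerivedCategory DerivedCategory.TStructure Groth.Agent.Lib.FlatBaseChangeD
  Groth.Agent.Lib.DAdjEquiv11 Groth.Agent.Lib.DBddEquiv11

section Tri

variable {C : Type (u+1)} [Category.{u} C] [Abelian C]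

/-- in a distinguished triangle of `D(C)`, `H^j(mor₂)` is an isomorphism if `H^j` and `H^{j+1}` of the first
vertex vanish -/
lemma isIso_homologyMap_mor₂ (T : Triangle (DerivedCategory C)) (hT : T ∈ distTriang _) (j : ℤ)
    (h0 : IsZero ((homologyFunctor C j).obj T.obj₁))
    (h1 : IsZero ((homologyFunctor C (j + 1)).obj T.obj₁)) :
    IsIso ((homologyFunctor C j).map T.mor₂) := by
  have hmono : Mono ((homologyFunctor C j).map T.mor₂) :=
    (HomologySequence.exact₂ T hT j).mono_g (h0.eq_of_src _ _)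
  have hepi : Epi ((homologyFunctor C j).map T.mor₂) :=
    (HomologySequence.exact₃ T hT j (j + 1) rfl).epi_f (h1.eq_of_tgt _ _)
  exact isIso_of_mono_of_epi _

end Tri

section Main

variable {C₁ C₂ : Type (u+1)} [Category.{u} C₁] [Category.{u} C₂] [Abelian C₁] [Abelian C₂]
  (G : C₁ ⥤ C₂) [G.Additive] [PreservesFiniteLimits G] [PreservesFiniteColimits G]
  (R : DerivedCategory C₂ ⥤ DerivedCategory C₁) (adj : G.mapDerivedCategory ⊣ R)
  (A : ObjectProperty C₂) [WSerre.IsWeakSerre A]
  (A' : ObjectProperty C₁) [WSerre.IsWeakSerre A']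

include adj in
/-- `R` of a shifted single object of `A` is concentrated in the same degree -/
lemma isZero_homology_R_single
    (h2c : ∀ F, A F → ∃ F', A' F' ∧ Nonempty (G.obj F' ≅ F))
    (h3 : ∀ F', A' F' → IsIso (adj.unit.app ((singleFunctor C₁ 0).obj F')))
    (F : C₂) (hF : A F) (m i : ℤ) (hi : i ≠ m) :
    IsZero ((homologyFunctor C₁ i).obj (R.obj ((singleFunctor C₂ m).obj F))) := by
  obtain ⟨F', hF', ⟨e⟩⟩ := h2c F hF
  have e' : G.mapDerivedCategory.obj ((singleFunctor C₁ m).obj F') ≅ (singleFunctor C₂ m).obj F :=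
    (G.mapDerivedCategorySingleFunctor m).app F' ≪≫ (singleFunctor C₂ m).mapIso e
  have hu : IsIso (adj.unit.app ((singleFunctor C₁ m).obj F')) :=
    isIso_unit_of_cohInPlus G R adj A' h3 _ ⟨cohIn_single A' F' hF' m, m, inferInstance⟩
  have e'' : (singleFunctor C₁ m).obj F' ≅ R.obj ((singleFunctor C₂ m).obj F) :=
    asIso (adj.unit.app ((singleFunctor C₁ m).obj F')) ≪≫ R.mapIso e'
  refine IsZero.of_iso ?_ ((homologyFunctor C₁ i).mapIso e''.symm)
  rcases lt_or_gt_of_ne hi with h | h
  · exact isZero_of_isGE ((singleFunctor C₁ m).obj F') m i h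
  · exact isZero_of_isLE ((singleFunctor C₁ m).obj F') m i h

include adj in
/-- step of the tower: `H^j(R(τ_{≥-(n+1)}X → τ_{≥-n}X))` is an isomorphism for `j ≥ -n` -/
lemma isIso_homologyMap_R_truncTowerMap
    (h2c : ∀ F, A F → ∃ F', A' F' ∧ Nonempty (G.obj F' ≅ F))
    (h3 : ∀ F', A' F' → IsIso (adj.unit.app ((singleFunctor C₁ 0).obj F')))
    (X : DerivedCategory C₂) (hX : WSerre.cohIn A X) (n : ℕ) (j : ℤ) (hj : -(n : ℤ) ≤ j) :
    IsIso ((homologyFunctor C₁ j).map (R.map (CohCx.truncTowerMap X n))) := by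
  let _ : R.CommShift ℤ := adj.rightAdjointCommShift ℤ
  have : adj.CommShift ℤ := adj.commShift_of_leftAdjoint ℤ
  have : R.IsTriangulated := adj.isTriangulated_rightAdjoint
  obtain ⟨X₁, f, g, hT, ⟨e⟩⟩ := Groth.Agent.RlimTrunc31.exists_fiber X n
  have hRT := R.map_distinguished _ hT
  have hz : ∀ i : ℤ, i ≠ -((n + 1 : ℕ) : ℤ) →
      IsZero ((homologyFunctor C₁ i).obj (R.obj X₁)) := fun i hi =>
    IsZero.of_iso (isZero_homology_R_single G R adj A A' h2c h3 _ (hX _) _ i hi)
      ((homologyFunctor C₁ i).mapIso (R.mapIso e))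
  exact isIso_homologyMap_mor₂ _ hRT j (hz j (by push_cast; omega)) (hz (j + 1) (by push_cast; omega))

include adj in
lemma cohInPlus_R_truncTower
    (h2c : ∀ F, A F → ∃ F', A' F' ∧ Nonempty (G.obj F' ≅ F))
    (h3 : ∀ F', A' F' → IsIso (adj.unit.app ((singleFunctor C₁ 0).obj F')))
    (X : DerivedCategory C₂) (hX : WSerre.cohIn A X) (n : ℕ) :
    WSerre.cohInPlus A' (R.obj (CohCx.truncTower X n)) :=
  cohInPlus_rightAdjoint G R adj A A' h2c h3 _
    ⟨cohIn_truncGE A X _ hX, -(n : ℤ), (inferInstance : ((t.truncGE (-(n : ℤ))).obj X).IsGE _)⟩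

variable
    (hRlim : ∀ X : DerivedCategory C₂, WSerre.cohIn A X → ∀ [HasProduct (CohCx.truncTower X)],
      CohCx.IsRlimVia (CohCx.truncTower X) (CohCx.truncTowerMap X) X (CohCx.toTruncTower X))
    (hP₂ : ∀ X : DerivedCategory C₂, HasProduct (CohCx.truncTower X))
    (hP₁ : ∀ X : DerivedCategory C₂, HasProduct (fun n => R.obj (CohCx.truncTower X n)))
    (hConst : ∀ (K : ℕ → DerivedCategory C₁) (t : ∀ n, K (n + 1) ⟶ K n) [HasProduct K],
      (∀ n, WSerre.cohInPlus A' (K n)) →
      (∀ j : ℤ, ∃ n₀ : ℕ, ∀ n, n₀ ≤ n → IsIso ((homologyFunctor C₁ j).map (t n))) →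
      ∀ (L : DerivedCategory C₁) (a : ∀ n, L ⟶ K n), CohCx.IsRlimVia K t L a → ∀ j : ℤ,
        ∃ n₀ : ℕ, ∀ n, n₀ ≤ n → IsIso ((homologyFunctor C₁ j).map (a n)))

include adj hRlim hP₂ hP₁ hConst in
/-- KEY: `H^j(R X) ⟶ H^j(R τ_{≥ -n} X)` is an isomorphism for `j ≥ -n`, `X ∈ D_A(C₂)` -/
theorem isIso_homologyMap_R_toTruncTower
    (h2c : ∀ F, A F → ∃ F', A' F' ∧ Nonempty (G.obj F' ≅ F))
    (h3 : ∀ F', A' F' → IsIso (adj.unit.app ((singleFunctor C₁ 0).obj F')))
    (X : DerivedCategory C₂) (hX : WSerre.cohIn A X) (n : ℕ) (j : ℤ) (hj : -(n : ℤ) ≤ j) :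
    IsIso ((homologyFunctor C₁ j).map (R.map (CohCx.toTruncTower X n))) := by
  let _ : R.CommShift ℤ := adj.rightAdjointCommShift ℤ
  have : adj.CommShift ℤ := adj.commShift_of_leftAdjoint ℤ
  have : R.IsTriangulated := adj.isTriangulated_rightAdjoint
  have := hP₂ X
  have := hP₁ X
  have hpres : PreservesLimitsOfSize.{0, 0} R := adj.rightAdjoint_preservesLimits
  have hL := Groth.Agent.Lib.RlimFunctor66.isRlimVia_map R (CohCx.truncTower X)
    (CohCx.truncTowerMap X) X (CohCx.toTruncTower X) (hRlim X hX)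
  obtain ⟨n₁, hn₁⟩ := hConst (fun n => R.obj (CohCx.truncTower X n))
    (fun n => R.map (CohCx.truncTowerMap X n))
    (fun n => cohInPlus_R_truncTower G R adj A A' h2c h3 X hX n)
    (fun j => ⟨(-j).toNat, fun n hn =>
      isIso_homologyMap_R_truncTowerMap G R adj A A' h2c h3 X hX n j (by omega)⟩)
    (R.obj X) (fun n => R.map (CohCx.toTruncTower X n)) hL j
  -- descending induction
  have hdesc : ∀ k : ℕ, IsIso ((homologyFunctor C₁ j).map (R.map (CohCx.toTruncTower X (n + k)))) →
      IsIso ((homologyFunctor C₁ j).map (R.map (CohCx.toTruncTower X n))) := by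
    intro k
    induction k with
    | zero => exact fun h => h
    | succ k ih =>
      intro h
      apply ih
      have h1 := isIso_homologyMap_R_truncTowerMap G R adj A A' h2c h3 X hX (n + k) j
        (by push_cast; omega)
      have h2 : (homologyFunctor C₁ j).map (R.map (CohCx.toTruncTower X (n + k))) =
          (homologyFunctor C₁ j).map (R.map (CohCx.toTruncTower X (n + k + 1))) ≫
            (homologyFunctor C₁ j).map (R.map (CohCx.truncTowerMap X (n + k))) := by
        rw [← Functor.map_comp, ← Functor.map_comp,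
          Groth.Agent.RlimTrunc31.toTruncTower_succ]
      rw [h2]
      have : IsIso ((homologyFunctor C₁ j).map (R.map (CohCx.toTruncTower X (n + k + 1)))) := h
      infer_instance
  exact hdesc n₁ (hn₁ (n + n₁) (by omega))

include adj hRlim hP₂ hP₁ hConst in
/-- Goal 2: `R` maps `D_A(C₂)` to `D_{A'}(C₁)` and the counit is an isomorphism there -/
theorem cohIn_R_and_isIso_counit
    (h2c : ∀ F, A F → ∃ F', A' F' ∧ Nonempty (G.obj F' ≅ F))
    (h3 : ∀ F', A' F' → IsIso (adj.unit.app ((singleFunctor C₁ 0).obj F')))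
    (X : DerivedCategory C₂) (hX : WSerre.cohIn A X) :
    WSerre.cohIn A' (R.obj X) ∧ IsIso (adj.counit.app X) := by
  have key : ∀ j : ℤ, IsIso ((homologyFunctor C₁ j).map (R.map (CohCx.toTruncTower X (-j).toNat))) :=
    fun j => isIso_homologyMap_R_toTruncTower G R adj A A' hRlim hP₂ hP₁ hConst h2c h3 X hX
      (-j).toNat j (by omega)
  constructor
  · intro j
    have := key j
    exact A'.prop_of_iso
      (asIso ((homologyFunctor C₁ j).map (R.map (CohCx.toTruncTower X (-j).toNat)))).symm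
      ((cohInPlus_R_truncTower G R adj A A' h2c h3 X hX (-j).toNat).1 j)
  · rw [isIso_iff]
    intro j
    have h1 := key j
    set n := (-j).toNat with hn
    have h2 : IsIso ((homologyFunctor C₂ j).map (CohCx.toTruncTower X n)) :=
      Groth.Agent.RlimTrunc31.isIso_homologyMap_toTruncTower X n j (by omega)
    have h3' : IsIso (adj.counit.app (CohCx.truncTower X n)) :=
      isIso_counit_of_cohInPlus G R adj A A' h2c h3 _
        ⟨cohIn_truncGE A X _ hX, -(n : ℤ), (inferInstance : ((t.truncGE (-(n : ℤ))).obj X).IsGE _)⟩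
    have h4 : IsIso ((homologyFunctor C₂ j).map
        (G.mapDerivedCategory.map (R.map (CohCx.toTruncTower X n)))) :=
      isIso_homology_map G _ j
    have nat := adj.counit.naturality (CohCx.toTruncTower X n)
    have nat' := congrArg (fun φ => (homologyFunctor C₂ j).map φ) nat
    simp only [Functor.comp_map, Functor.id_map, Functor.map_comp] at nat'
    exact IsIso.of_isIso_fac_right (f := (homologyFunctor C₂ j).map (CohCx.toTruncTower X n))
      (h := (homologyFunctor C₂ j).map
        (G.mapDerivedCategory.map (R.map (CohCx.toTruncTower X n))) ≫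
        (homologyFunctor C₂ j).map (adj.counit.app (CohCx.truncTower X n))) nat'.symm

include adj hRlim hP₂ hP₁ hConst in
/-- variant of the key lemma for a general map which is an isomorphism in cohomological degrees `≥ -n`
with target in `D^{≥ -n}` -/
lemma isIso_homologyMap_R_of_truncated
    (h2c : ∀ F, A F → ∃ F', A' F' ∧ Nonempty (G.obj F' ≅ F))
    (h3 : ∀ F', A' F' → IsIso (adj.unit.app ((singleFunctor C₁ 0).obj F')))
    {X₁ X₂ : DerivedCategory C₂} (ψ : X₁ ⟶ X₂) (hX₁ : WSerre.cohIn A X₁) (n : ℕ)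
    [X₂.IsGE (-(n : ℤ))]
    (hψ : ∀ i : ℤ, -(n : ℤ) ≤ i → IsIso ((homologyFunctor C₂ i).map ψ)) (j : ℤ)
    (hj : -(n : ℤ) ≤ j) : IsIso ((homologyFunctor C₁ j).map (R.map ψ)) := by
  let ψ' : CohCx.truncTower X₁ n ⟶ X₂ := t.descTruncGE ψ (-(n : ℤ))
  have fac : CohCx.toTruncTower X₁ n ≫ ψ' = ψ := t.π_descTruncGE ψ (-(n : ℤ))
  have hψ' : IsIso ψ' := by
    rw [isIso_iff]
    intro i
    by_cases hi : -(n : ℤ) ≤ i
    · have h1 := Groth.Agent.RlimTrunc31.isIso_homologyMap_toTruncTower X₁ n i hi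
      have h2 := hψ i hi
      have h3 : (homologyFunctor C₂ i).map (CohCx.toTruncTower X₁ n) ≫
          (homologyFunctor C₂ i).map ψ' = (homologyFunctor C₂ i).map ψ := by
        rw [← Functor.map_comp, fac]
      exact IsIso.of_isIso_fac_left h3
    · have hz1 : IsZero ((homologyFunctor C₂ i).obj (CohCx.truncTower X₁ n)) :=
        isZero_of_isGE ((t.truncGE (-(n : ℤ))).obj X₁) (-(n : ℤ)) i (by omega)
      have hz2 : IsZero ((homologyFunctor C₂ i).obj X₂) :=
        isZero_of_isGE X₂ (-(n : ℤ)) i (by omega)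
      exact ⟨⟨0, hz1.eq_of_src _ _, hz2.eq_of_src _ _⟩⟩
  have hK := isIso_homologyMap_R_toTruncTower G R adj A A' hRlim hP₂ hP₁ hConst h2c h3 X₁ hX₁ n j hj
  rw [← fac, Functor.map_comp, Functor.map_comp]
  infer_instance

include adj hRlim hP₂ hP₁ hConst in
/-- Goal 1: `G` maps `D_{A'}(C₁)` to `D_A(C₂)` and the unit is an isomorphism there -/
theorem cohIn_G_and_isIso_unit
    (h2a : ∀ F', A' F' → A (G.obj F'))
    (h2c : ∀ F, A F → ∃ F', A' F' ∧ Nonempty (G.obj F' ≅ F))
    (h3 : ∀ F', A' F' → IsIso (adj.unit.app ((singleFunctor C₁ 0).obj F')))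
    (Y : DerivedCategory C₁) (hY : WSerre.cohIn A' Y) :
    WSerre.cohIn A (G.mapDerivedCategory.obj Y) ∧ IsIso (adj.unit.app Y) := by
  have hGY : WSerre.cohIn A (G.mapDerivedCategory.obj Y) := cohIn_map G A' A h2a Y hY
  refine ⟨hGY, ?_⟩
  rw [isIso_iff]
  intro j
  set n := (-j).toNat with hn
  have h1 : IsIso ((homologyFunctor C₁ j).map (CohCx.toTruncTower Y n)) :=
    Groth.Agent.RlimTrunc31.isIso_homologyMap_toTruncTower Y n j (by omega)
  have h2 : IsIso (adj.unit.app (CohCx.truncTower Y n)) :=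
    isIso_unit_of_cohInPlus G R adj A' h3 _
      ⟨cohIn_truncGE A' Y _ hY, -(n : ℤ), (inferInstance : ((t.truncGE (-(n : ℤ))).obj Y).IsGE _)⟩
  have : (G.mapDerivedCategory.obj (CohCx.truncTower Y n)).IsGE (-(n : ℤ)) :=
    isGE_map G ((t.truncGE (-(n : ℤ))).obj Y) (-(n : ℤ))
  have h4 : IsIso ((homologyFunctor C₁ j).map
      (R.map (G.mapDerivedCategory.map (CohCx.toTruncTower Y n)))) :=
    isIso_homologyMap_R_of_truncated G R adj A A' hRlim hP₂ hP₁ hConst h2c h3
      (G.mapDerivedCategory.map (CohCx.toTruncTower Y n)) hGY n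
      (fun i hi => by
        have := Groth.Agent.RlimTrunc31.isIso_homologyMap_toTruncTower Y n i hi
        exact isIso_homology_map G _ i) j (by omega)
  have nat := adj.unit.naturality (CohCx.toTruncTower Y n)
  have nat' := congrArg (fun φ => (homologyFunctor C₁ j).map φ) nat
  simp only [Functor.comp_map, Functor.id_map, Functor.map_comp] at nat'
  exact IsIso.of_isIso_fac_right (f := (homologyFunctor C₁ j).map
      (R.map (G.mapDerivedCategory.map (CohCx.toTruncTower Y n))))
    (h := (homologyFunctor C₁ j).map (CohCx.toTruncTower Y n) ≫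
      (homologyFunctor C₁ j).map (adj.unit.app (CohCx.truncTower Y n))) nat'.symm

end Main

end Groth.Agent.Lib.DAdjEquivUnb66
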