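import Mathlib.Algebra.Homology.DerivedCategory.KInjective
import Mathlib.Algebra.Homology.DerivedCategory.TStructure
import Mathlib.Algebra.Homology.Factorizations.CM5a

/-!
# Products in the derived category (helper31)

* `prodCx I`: the termwise product of a family of cochain complexes, with `prodπ`, `prodLift`,
  `prodHomotopy`.
* `isKInjective_prodCx`: a product of K-injective complexes is K-injective.
* `isLimitFan`: `Q(∏ I_i)` is the product of the `Q(I_i)` in `D(𝒜)` for K-injective `I_i`.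
* `hasProduct_of_isGE`: a family of bounded below objects of `D(𝒜)` has a product
  (`𝒜` with enough injectives and products of the given shape).
-/

set_option autoImplicit false

open CategoryTheory CategoryTheory.Limits DerivedCategory

universe w w' v' u'

namespace Groth.Agent.DProd31

variable {𝒜 : Type u'} [Category.{v'} 𝒜] [Abelian 𝒜] {ι : Type w'}
  (I : ι → CochainComplex 𝒜 ℤ) [∀ j : ℤ, HasProduct (fun i => (I i).X j)]

/-- the termwise product complex -/
noncomputable def prodCx : CochainComplex 𝒜 ℤ where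
  X j := ∏ᶜ (fun i => (I i).X j)
  d j k := Limits.Pi.map (fun i => (I i).d j k)
  shape j k h := by
    apply Pi.hom_ext
    intro i
    rw [Limits.Pi.map_π, (I i).shape j k h, comp_zero, zero_comp]
  d_comp_d' j k l _ _ := by
    apply Pi.hom_ext
    intro i
    rw [Category.assoc, Limits.Pi.map_π, Limits.Pi.map_π_assoc, (I i).d_comp_d, comp_zero, zero_comp]

/-- projections -/
noncomputable def prodπ (i : ι) : prodCx I ⟶ I i where
  f j := Pi.π _ i
  comm' j k _ := by
    change Pi.π (fun i => (I i).X j) i ≫ (I i).d j k =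
      Limits.Pi.map (fun i => (I i).d j k) ≫ Pi.π (fun i => (I i).X k) i
    rw [Limits.Pi.map_π]

variable {I}

/-- lift to a term of the product complex -/
noncomputable def liftX {A : 𝒜} (j : ℤ) (g : ∀ i, A ⟶ (I i).X j) : A ⟶ (prodCx I).X j :=
  Pi.lift g

@[reassoc (attr := simp)]
lemma liftX_π {A : 𝒜} (j : ℤ) (g : ∀ i, A ⟶ (I i).X j) (i : ι) :
    liftX j g ≫ (prodπ I i).f j = g i := Pi.lift_π _ _

lemma hom_ext_X {A : 𝒜} (j : ℤ) {f g : A ⟶ (prodCx I).X j}
    (h : ∀ i, f ≫ (prodπ I i).f j = g ≫ (prodπ I i).f j) : f = g :=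
  Pi.hom_ext _ _ h

/-- lift -/
noncomputable def prodLift {W : CochainComplex 𝒜 ℤ} (γ : ∀ i, W ⟶ I i) : W ⟶ prodCx I where
  f j := liftX j (fun i => (γ i).f j)
  comm' j k _ := by
    apply hom_ext_X
    intro i
    rw [Category.assoc, Category.assoc, ← (prodπ I i).comm, liftX_π_assoc, liftX_π, (γ i).comm]

@[reassoc (attr := simp)]
lemma prodLift_π {W : CochainComplex 𝒜 ℤ} (γ : ∀ i, W ⟶ I i) (i : ι) :
    prodLift γ ≫ prodπ I i = γ i := by
  ext j
  exact liftX_π _ _ _

/-- product of homotopies -/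
noncomputable def prodHomotopy {W : CochainComplex 𝒜 ℤ} (μ ν : W ⟶ prodCx I)
    (H : ∀ i, Homotopy (μ ≫ prodπ I i) (ν ≫ prodπ I i)) : Homotopy μ ν where
  hom j k := liftX k (fun i => (H i).hom j k)
  zero j k h := by
    apply hom_ext_X
    intro i
    rw [liftX_π, (H i).zero j k h, zero_comp]
  comm j := by
    apply hom_ext_X
    intro i
    have h1 := (H i).comm j
    rw [dNext_eq _ (show (ComplexShape.up ℤ).Rel j (j + 1) by simp),
      prevD_eq _ (show (ComplexShape.up ℤ).Rel (j - 1) j by simp)] at h1 ⊢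
    rw [Preadditive.add_comp, Preadditive.add_comp, Category.assoc, Category.assoc, liftX_π,
      ← (prodπ I i).comm, liftX_π_assoc]
    exact h1

variable (I)

lemma isKInjective_prodCx [∀ i, (I i).IsKInjective] : (prodCx I).IsKInjective where
  nonempty_homotopy_zero {_} f hK :=
    ⟨prodHomotopy f 0 (fun i =>
      (CochainComplex.IsKInjective.homotopyZero (f ≫ prodπ I i) hK).trans
        (Homotopy.ofEq zero_comp.symm))⟩

section Derived

variable [HasDerivedCategory.{w} 𝒜]

lemma exists_Q_map_eq (W L : CochainComplex 𝒜 ℤ) [L.IsKInjective] (g : Q.obj W ⟶ Q.obj L) :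
    ∃ γ : W ⟶ L, Q.map γ = g := by
  obtain ⟨x, hx⟩ := (CochainComplex.IsKInjective.Qh_map_bijective
    ((HomotopyCategory.quotient _ _).obj W) L).2
    ((quotientCompQhIso 𝒜).hom.app W ≫ g ≫ (quotientCompQhIso 𝒜).inv.app L)
  obtain ⟨γ, rfl⟩ := (HomotopyCategory.quotient _ _).map_surjective x
  refine ⟨γ, ?_⟩
  have := (quotientCompQhIso 𝒜).hom.naturality γ
  dsimp at this
  rw [hx] at this
  simpa using this.symm

lemma homotopy_of_Q_map_eq (W L : CochainComplex 𝒜 ℤ) [L.IsKInjective] (γ γ' : W ⟶ L)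
    (h : Q.map γ = Q.map γ') : Nonempty (Homotopy γ γ') := by
  refine ⟨HomotopyCategory.homotopyOfEq _ _ ?_⟩
  apply (CochainComplex.IsKInjective.Qh_map_bijective
    ((HomotopyCategory.quotient _ _).obj W) L).1
  have h1 := (quotientCompQhIso 𝒜).hom.naturality γ
  have h2 := (quotientCompQhIso 𝒜).hom.naturality γ'
  dsimp at h1 h2
  rw [← cancel_mono ((quotientCompQhIso 𝒜).hom.app L), h1, h2, h]

variable [∀ i, (I i).IsKInjective]

/-- `Q(∏ I_i)` is the product of the `Q(I_i)` -/
noncomputable def isLimitFan :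
    IsLimit (Fan.mk (Q.obj (prodCx I)) (fun i => Q.map (prodπ I i)) :
      Fan fun i => (Q.obj (I i) : DerivedCategory 𝒜)) := by
  haveI := isKInjective_prodCx I
  have key : ∀ (s : Fan fun i => (Q.obj (I i) : DerivedCategory 𝒜)),
      ∃ l : s.pt ⟶ Q.obj (prodCx I), (∀ i, l ≫ Q.map (prodπ I i) = s.proj i) ∧
        ∀ m : s.pt ⟶ Q.obj (prodCx I), (∀ i, m ≫ Q.map (prodπ I i) = s.proj i) → m = l := by
    intro s
    let eW : Q.obj (Q.objPreimage s.pt) ≅ s.pt := Q.objObjPreimageIso s.pt
    choose γ hγ using fun i => exists_Q_map_eq (Q.objPreimage s.pt) (I i) (eW.hom ≫ s.proj i)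
    refine ⟨eW.inv ≫ Q.map (prodLift γ), fun i => ?_, fun m hm => ?_⟩
    · rw [Category.assoc, ← Functor.map_comp, prodLift_π, hγ, Iso.inv_hom_id_assoc]
    · obtain ⟨μ, hμ⟩ := exists_Q_map_eq (Q.objPreimage s.pt) (prodCx I) (eW.hom ≫ m)
      have hh : ∀ i, Nonempty (Homotopy (μ ≫ prodπ I i) (prodLift γ ≫ prodπ I i)) := by
        intro i
        apply homotopy_of_Q_map_eq
        rw [Functor.map_comp, hμ, Category.assoc, hm, prodLift_π, hγ]
      have h3 : Q.map μ = Q.map (prodLift γ) :=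
        Q_map_eq_of_homotopy 𝒜 (prodHomotopy μ (prodLift γ) (fun i => (hh i).some))
      rw [← h3, hμ, Iso.inv_hom_id_assoc]
  exact Fan.IsLimit.mk _ (fun s => (key s).choose) (fun s i => (key s).choose_spec.1 i)
    (fun s m hm => (key s).choose_spec.2 m hm)

lemma hasProduct_Q_obj : HasProduct (fun i => (Q.obj (I i) : DerivedCategory 𝒜)) :=
  ⟨⟨⟨_, isLimitFan I⟩⟩⟩

/-- **bounded below families have products in `D(𝒜)`** -/
theorem hasProduct_of_isGE [EnoughInjectives 𝒜] [HasProductsOfShape ι 𝒜]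
    (X : ι → DerivedCategory 𝒜) (a : ι → ℤ) (h : ∀ i, (X i).IsGE (a i)) : HasProduct X := by
  have key : ∀ i, ∃ (L : CochainComplex 𝒜 ℤ) (_ : L.IsKInjective), Nonempty (X i ≅ Q.obj L) := by
    intro i
    have := h i
    obtain ⟨K, hK, ⟨e⟩⟩ := exists_iso_Q_obj_of_isGE (X i) (a i)
    obtain ⟨L, φ, hφ, hinj, hL⟩ :=
      CochainComplex.Plus.modelCategoryQuillen.exists_quasiIso_injective K (a i)
    have : IsIso (Q.map φ) := by rw [isIso_Q_map_iff_quasiIso]; exact hφ
    exact ⟨L, CochainComplex.isKInjective_of_injective L (a i), ⟨e ≪≫ asIso (Q.map φ)⟩⟩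
  choose I hI e using key
  have := hasProduct_Q_obj I
  exact hasLimit_of_iso (F := Discrete.functor fun i => (Q.obj (I i) : DerivedCategory 𝒜))
    (Discrete.natIso (fun i => (e i.as).some.symm))

end Derived

end Groth.Agent.DProd31
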