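import Mathlib.CategoryTheory.Sites.PreservesSheafification
import Mathlib.CategoryTheory.Sites.LeftExact
import Mathlib.CategoryTheory.Sites.Limits
import Mathlib.CategoryTheory.Sites.LocallySurjective
import Mathlib.CategoryTheory.Sites.LocallyBijective
import Mathlib.CategoryTheory.Sites.Abelian
import Mathlib.CategoryTheory.Limits.FunctorCategory.Basic
import Mathlib.Algebra.Category.Grp.Limits
import Mathlib.Algebra.Category.Grp.FilteredColimits
import Mathlib.Algebra.Category.Grp.Abelian
import Mathlib.Algebra.Category.Grp.EpiMono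
import Mathlib.Algebra.Homology.ShortComplex.PreservesHomology
import Mathlib.Algebra.Homology.ShortComplex.HomologicalComplex
import Mathlib.Algebra.Homology.HomologicalComplexLimits

/-!
# Cohomology sheaves of complexes of abelian sheaves are computed locally (helper31)

`isIso_homologyMap_of_local`: a morphism `φ` of complexes of abelian sheaves on a small site induces
an isomorphism on `H^m` sheaves as soon as it induces isomorphisms `H^m(K(U)) ≅ H^m(K'(U))` on the
complexes of sections over all `U` in a class `B` of objects covering every object.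
-/

set_option autoImplicit false

open CategoryTheory CategoryTheory.Limits Opposite

universe u

namespace Groth.Agent.HomologySheafLocal31

variable {C : Type u} [SmallCategory C] (J : GrothendieckTopology C)

/-- A class of objects `B` covers: every object has a covering family with members in `B`. -/
def Covers (B : Set C) : Prop :=
  ∀ U : C, ∃ (ι : Type u) (Y : ι → C) (f : ∀ i, Y i ⟶ U),
    Sieve.ofArrows Y f ∈ J U ∧ ∀ i, Y i ∈ B

variable {J}

/-- a morphism of presheaves of abelian groups which is bijective on a covering class of objects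
becomes an isomorphism after sheafification -/
lemma W_of_bijective_on {B : Set C} (hB : Covers J B) {P Q : Cᵒᵖ ⥤ AddCommGrpCat.{u}}
    (f : P ⟶ Q) (hf : ∀ U ∈ B, Function.Bijective (f.app (op U)).hom) : J.W f := by
  rw [J.W_iff_isLocallyBijective]
  constructor
  · refine ⟨fun {X} x y h => ?_⟩
    obtain ⟨ι, V, g, hg, hY⟩ := hB X.unop
    refine J.superset_covering ?_ hg
    rw [Sieve.ofArrows, Sieve.generate_le_iff]
    intro Z k hk
    obtain ⟨i⟩ := hk
    apply (hf (V i) (hY i)).1
    have h1 := NatTrans.naturality_apply f (g i).op x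
    have h2 := NatTrans.naturality_apply f (g i).op y
    exact h1.trans ((congrArg _ h).trans h2.symm)
  · refine ⟨fun {U} s => ?_⟩
    obtain ⟨ι, V, g, hg, hY⟩ := hB U
    refine J.superset_covering ?_ hg
    rw [Sieve.ofArrows, Sieve.generate_le_iff]
    intro Z k hk
    obtain ⟨i⟩ := hk
    obtain ⟨t, ht⟩ := (hf (V i) (hY i)).2 (Q.map (g i).op s)
    exact ⟨t, ht⟩

section

variable (J)

/-- the forgetful functor from abelian sheaves to presheaves -/
abbrev P : Sheaf J AddCommGrpCat.{u} ⥤ (Cᵒᵖ ⥤ AddCommGrpCat.{u}) :=
  sheafToPresheaf J AddCommGrpCat.{u}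

/-- sheafification of abelian presheaves -/
noncomputable abbrev a : (Cᵒᵖ ⥤ AddCommGrpCat.{u}) ⥤ Sheaf J AddCommGrpCat.{u} :=
  presheafToSheaf J AddCommGrpCat.{u}

/-- evaluation of abelian presheaves -/
abbrev ev (U : C) : (Cᵒᵖ ⥤ AddCommGrpCat.{u}) ⥤ AddCommGrpCat.{u} :=
  (evaluation Cᵒᵖ AddCommGrpCat.{u}).obj (op U)

/-- the counit isomorphism `a (P X) ≅ X` -/
noncomputable def cIso (X : Sheaf J AddCommGrpCat.{u}) : (a J).obj ((P J).obj X) ≅ X :=
  asIso ((sheafificationAdjunction J AddCommGrpCat.{u}).counit.app X)

lemma cIso_hom_naturality {X Y : Sheaf J AddCommGrpCat.{u}} (f : X ⟶ Y) :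
    (a J).map ((P J).map f) ≫ (cIso J Y).hom = (cIso J X).hom ≫ f :=
  (sheafificationAdjunction J AddCommGrpCat.{u}).counit.naturality f

/-- the counit isomorphism `a (P S) ≅ S` on short complexes of sheaves -/
noncomputable def counitIso (S : ShortComplex (Sheaf J AddCommGrpCat.{u})) :
    (a J).mapShortComplex.obj ((P J).mapShortComplex.obj S) ≅ S :=
  ShortComplex.isoMk (cIso J S.X₁) (cIso J S.X₂) (cIso J S.X₃)
    (cIso_hom_naturality J S.f).symm (cIso_hom_naturality J S.g).symm

variable {J}

lemma counitIso_hom_naturality {S₁ S₂ : ShortComplex (Sheaf J AddCommGrpCat.{u})} (ψ : S₁ ⟶ S₂) :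
    (a J).mapShortComplex.map ((P J).mapShortComplex.map ψ) ≫ (counitIso J S₂).hom =
      (counitIso J S₁).hom ≫ ψ := by
  apply ShortComplex.hom_ext
  · exact cIso_hom_naturality J ψ.τ₁
  · exact cIso_hom_naturality J ψ.τ₂
  · exact cIso_hom_naturality J ψ.τ₃

/-- a morphism of short complexes of sheaves induces an isomorphism on homology sheaves if the
induced map on homology presheaves is inverted by sheafification -/
lemma isIso_homologyMap_of_W {S₁ S₂ : ShortComplex (Sheaf J AddCommGrpCat.{u})} (ψ : S₁ ⟶ S₂)
    (h : J.W (ShortComplex.homologyMap ((P J).mapShortComplex.map ψ))) :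
    IsIso (ShortComplex.homologyMap ψ) := by
  rw [J.W_iff] at h
  have h1 : IsIso (ShortComplex.homologyMap
      ((a J).mapShortComplex.map ((P J).mapShortComplex.map ψ))) :=
    (NatIso.isIso_map_iff (ShortComplex.homologyFunctorIso (a J))
      ((P J).mapShortComplex.map ψ)).2 h
  have h2 : ψ = (counitIso J S₁).inv ≫
      (a J).mapShortComplex.map ((P J).mapShortComplex.map ψ) ≫ (counitIso J S₂).hom :=
    (Iso.eq_inv_comp (counitIso J S₁)).2 (counitIso_hom_naturality ψ).symm
  rw [h2, ShortComplex.homologyMap_comp, ShortComplex.homologyMap_comp]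
  have h3 : IsIso (ShortComplex.homologyMap (counitIso J S₁).inv) := inferInstance
  have h4 : IsIso (ShortComplex.homologyMap (counitIso J S₂).hom) := inferInstance
  exact IsIso.comp_isIso' h3 (IsIso.comp_isIso' h1 h4)

/-- sections of the homology presheaf -/
lemma isIso_app_homologyMap_iff {T₁ T₂ : ShortComplex (Cᵒᵖ ⥤ AddCommGrpCat.{u})} (χ : T₁ ⟶ T₂)
    (U : C) :
    IsIso ((ShortComplex.homologyMap χ).app (op U)) ↔
      IsIso (ShortComplex.homologyMap ((ev U).mapShortComplex.map χ)) :=
  (NatIso.isIso_map_iff (ShortComplex.homologyFunctorIso (ev U)) χ).symm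

/-- **Cohomology sheaves are computed locally**: a morphism of complexes of abelian sheaves which
induces isomorphisms on `H^m` of the complexes of sections over all members of a covering class
of objects induces an isomorphism on `H^m` sheaves. -/
theorem isIso_homologyMap_of_local {B : Set C} (hB : Covers J B)
    {K K' : CochainComplex (Sheaf J AddCommGrpCat.{u}) ℤ} (φ : K ⟶ K') (m : ℤ)
    (h : ∀ U ∈ B, IsIso (HomologicalComplex.homologyMap
      (((P J ⋙ ev U).mapHomologicalComplex (ComplexShape.up ℤ)).map φ) m)) :
    IsIso (HomologicalComplex.homologyMap φ m) := by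
  refine isIso_homologyMap_of_W ((HomologicalComplex.shortComplexFunctor _ _ m).map φ) ?_
  apply W_of_bijective_on hB
  intro U hU
  have h0 : IsIso (ShortComplex.homologyMap ((ev U).mapShortComplex.map
      ((P J).mapShortComplex.map ((HomologicalComplex.shortComplexFunctor _ _ m).map φ)))) :=
    h U hU
  have h1 := (isIso_app_homologyMap_iff
    ((P J).mapShortComplex.map ((HomologicalComplex.shortComplexFunctor _ _ m).map φ)) U).2 h0
  exact (ConcreteCategory.isIso_iff_bijective _).1 h1

end

end Groth.Agent.HomologySheafLocal31
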