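import Groth.Agent.Lib.LocGenHyper31
import Groth.Agent.Lib.HomologySheafLocal31

/-!
# Local criterion for surjectivity on cohomology objects (helper31)

Setting of `LocGenHyper31`.
* `imageSieve_mem_of_local(_shift)`: if every covering sieve of `V` contains a covering family
  `Y i ⟶ V` such that `Hom_D(Z (Y i)[0], L'[m]) → Hom_D(Z (Y i)[0], K'[m])` is surjective, then
  every section of `Γ(H^m K')` over `V` lifts locally along `Γ(H^m α)`.
* `epi_of_locallySurjective_on`: a morphism `ψ` of `𝒜` (with `Γ` faithful) is an epimorphism if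
  sections of `Γ(ψ)` over a covering class of objects lift locally.
* `epi_of_local_shift`: the combination.
-/

set_option autoImplicit false
set_option linter.unusedSectionVars false

open CategoryTheory CategoryTheory.Limits Opposite HomologicalComplex DerivedCategory

universe w v' u' u

namespace Groth.Agent.LocGen31

open Groth.Agent.SingleMaps31 Groth.Agent.HomologySheafLocal31

variable {C : Type u} [SmallCategory C] {J : GrothendieckTopology C}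
  {𝒜 : Type u'} [Category.{v'} 𝒜] [Abelian 𝒜] [HasDerivedCategory.{w} 𝒜]
  {Γ : 𝒜 ⥤ Sheaf J AddCommGrpCat.{u}} [Γ.Additive] [Γ.PreservesEpimorphisms]
  (𝒢 : Gen Γ)

namespace Gen

/-- local lifting of sections of `Γ(H⁰ K')` over `V` -/
theorem imageSieve_mem_of_local {L' K' : DerivedCategory 𝒜} (α : L' ⟶ K') (V : C)
    (h : ∀ T ∈ J V, ∃ (ι : Type u) (Y : ι → C) (f : ∀ i, Y i ⟶ V),
      (∀ i, T.arrows (f i)) ∧ Sieve.ofArrows Y f ∈ J V ∧
      ∀ i, ∀ ξ : 𝒢.ZD (Y i) ⟶ K', ∃ ζ : 𝒢.ZD (Y i) ⟶ L', ζ ≫ α = ξ)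
    (s : (Γ.obj ((homologyFunctor 𝒜 0).obj K')).obj.obj (op V)) :
    Presheaf.imageSieve (Γ.map ((homologyFunctor 𝒜 0).map α)).hom s ∈ J V := by
  obtain ⟨S₁, hS₁, hS₁'⟩ := 𝒢.θfun_loc_surj K' V s
  obtain ⟨ι, Yf, f, hf, hcovY, hsurj⟩ := h S₁ hS₁
  refine J.superset_covering ?_ hcovY
  rw [Sieve.ofArrows, Sieve.generate_le_iff]
  rintro Z k ⟨j⟩
  obtain ⟨ξ, hξ⟩ := hS₁' (f j) (hf j)
  obtain ⟨ζ, hζ⟩ := hsurj j ξ
  refine ⟨𝒢.θfun (Yf j) L' ζ, ?_⟩
  have h1 := 𝒢.θfun_comp (Yf j) ζ α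
  rw [hζ, hξ] at h1
  exact h1.symm

omit [Γ.Additive] [Γ.PreservesEpimorphisms] [HasDerivedCategory.{w} 𝒜] in
/-- transport of local liftability along isomorphisms -/
lemma imageSieve_mem_of_comm {A₁ A₁' A₂ A₂' : 𝒜} (ψ₁ : A₁ ⟶ A₁') (ψ₂ : A₂ ⟶ A₂')
    (e : A₁ ⟶ A₂) (e' : A₁' ⟶ A₂') [IsIso e'] (hcomm : ψ₁ ≫ e' = e ≫ ψ₂) (V : C)
    (h : ∀ s : (Γ.obj A₁').obj.obj (op V), Presheaf.imageSieve (Γ.map ψ₁).hom s ∈ J V)
    (s : (Γ.obj A₂').obj.obj (op V)) :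
    Presheaf.imageSieve (Γ.map ψ₂).hom s ∈ J V := by
  refine J.superset_covering ?_ (h ((Γ.map (inv e')).hom.app (op V) s))
  intro W k hk
  obtain ⟨x, hx⟩ := hk
  refine ⟨(Γ.map e).hom.app (op W) x, ?_⟩
  have h1 : (Γ.map e ≫ Γ.map ψ₂).hom.app (op W) x = (Γ.map ψ₁ ≫ Γ.map e').hom.app (op W) x := by
    rw [← Γ.map_comp, ← Γ.map_comp, hcomm]
  have h2 : (Γ.map (inv e') ≫ Γ.map e').hom.app (op V) s = s := by
    rw [← Γ.map_comp, IsIso.inv_hom_id, CategoryTheory.Functor.map_id]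
    rfl
  change (Γ.map ψ₂).hom.app (op W) ((Γ.map e).hom.app (op W) x) = _
  refine h1.trans ?_
  change (Γ.map e').hom.app (op W) ((Γ.map ψ₁).hom.app (op W) x) = _
  rw [hx]
  have h3 := NatTrans.naturality_apply (Γ.map e').hom k.op ((Γ.map (inv e')).hom.app (op V) s)
  refine h3.trans ?_
  exact congrArg _ h2

/-- local lifting of sections of `Γ(H^m K')` over `V` -/
theorem imageSieve_mem_of_local_shift {L' K' : DerivedCategory 𝒜} (α : L' ⟶ K') (m : ℤ) (V : C)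
    (h : ∀ T ∈ J V, ∃ (ι : Type u) (Y : ι → C) (f : ∀ i, Y i ⟶ V),
      (∀ i, T.arrows (f i)) ∧ Sieve.ofArrows Y f ∈ J V ∧
      ∀ i, ∀ ξ : 𝒢.ZD (Y i) ⟶ (shiftFunctor _ m).obj K',
        ∃ ζ : 𝒢.ZD (Y i) ⟶ (shiftFunctor _ m).obj L', ζ ≫ (shiftFunctor _ m).map α = ξ)
    (s : (Γ.obj ((homologyFunctor 𝒜 m).obj K')).obj.obj (op V)) :
    Presheaf.imageSieve (Γ.map ((homologyFunctor 𝒜 m).map α)).hom s ∈ J V := by
  let e := (homologyFunctor 𝒜 0).shiftIso m 0 m (add_zero m)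
  have hnat : (homologyFunctor 𝒜 0).map ((shiftFunctor _ m).map α) ≫ (e.app K').hom =
      (e.app L').hom ≫ (homologyFunctor 𝒜 m).map α := e.hom.naturality α
  exact imageSieve_mem_of_comm _ _ (e.app L').hom (e.app K').hom hnat V
    (𝒢.imageSieve_mem_of_local ((shiftFunctor _ m).map α) V h) s

omit [Γ.Additive] [Γ.PreservesEpimorphisms] [HasDerivedCategory.{w} 𝒜] in
/-- a morphism whose sections over a covering class of objects lift locally is an epimorphism -/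
theorem epi_of_locallySurjective_on [Γ.Faithful] {B : Set C} (hB : Covers J B) {A A' : 𝒜}
    (ψ : A ⟶ A')
    (h : ∀ V ∈ B, ∀ s : (Γ.obj A').obj.obj (op V), Presheaf.imageSieve (Γ.map ψ).hom s ∈ J V) :
    Epi ψ := by
  apply Γ.epi_of_epi_map
  rw [← Sheaf.isLocallySurjective_iff_epi']
  refine ⟨fun {W} s => ?_⟩
  obtain ⟨ι₀, V, g, hcov, hV⟩ := hB W
  refine J.transitive hcov _ (fun W' k hk => ?_)
  obtain ⟨Z, k', g', ⟨i⟩, rfl⟩ := hk
  rw [Sieve.pullback_comp]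
  refine J.pullback_stable k' ?_
  rw [Presheaf.pullback_imageSieve]
  exact h (V i) (hV i) _

/-- **local criterion for surjectivity on `H^m`** -/
theorem epi_of_local_shift [Γ.Faithful] {L' K' : DerivedCategory 𝒜} (α : L' ⟶ K') (m : ℤ)
    {B : Set C} (hB : Covers J B)
    (h : ∀ V ∈ B, ∀ T ∈ J V, ∃ (ι : Type u) (Y : ι → C) (f : ∀ i, Y i ⟶ V),
      (∀ i, T.arrows (f i)) ∧ Sieve.ofArrows Y f ∈ J V ∧
      ∀ i, ∀ ξ : 𝒢.ZD (Y i) ⟶ (shiftFunctor _ m).obj K',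
        ∃ ζ : 𝒢.ZD (Y i) ⟶ (shiftFunctor _ m).obj L', ζ ≫ (shiftFunctor _ m).map α = ξ) :
    Epi ((homologyFunctor 𝒜 m).map α) :=
  epi_of_locallySurjective_on hB _
    (fun V hV s => 𝒢.imageSieve_mem_of_local_shift α m V (h V hV) s)

end Gen

end Groth.Agent.LocGen31
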