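import Groth.Agent.Lib.LocGenWayOut31
import Groth.Agent.Lib.LocGenEpi31

/-!
# Cohomology of a derived limit of an eventually constant system (helper31)

Generic version of S9064 (setting of `LocGenRlim31`): let `P` be a class of objects of `𝒜`
(closed under isomorphisms, containing zero), `B` a covering class of objects such that every
`V ∈ B` has an integer `d_V` and a cofinal system of coverings `{Y i ⟶ V}` with
`H^k(Y i, Γ F) = 0` for `F ∈ P`, `k > d_V`.  Let `(K n)` be an inverse system in `D⁺(𝒜)` with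
cohomology in `P` such that each `(H^j(K n))_n` is eventually constant.  Then for a derived limit
`L` (through `a n`), `H^j(a n)` is an isomorphism for `n` large.
-/

set_option autoImplicit false
set_option linter.unusedSectionVars false

open CategoryTheory CategoryTheory.Limits Opposite Pretriangulated DerivedCategory
  DerivedCategory.TStructure

universe w u

namespace Groth.Agent.LocGen31

open Groth.Agent.SingleMaps31 Groth.Agent.HomologySheafLocal31 Groth.Agent.RlimTower31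

section General

variable {T : Type*} [Category* T] (K : ℕ → T) (t : ∀ n, K (n + 1) ⟶ K n)

lemma isIso_map_transition {D : Type*} [Category* D] (F : T ⥤ D) (n : ℕ)
    (h : ∀ n', n ≤ n' → IsIso (F.map (t n'))) (k : ℕ) :
    IsIso (F.map (CohCx.transition K t n k)) := by
  induction k with
  | zero =>
    change IsIso (F.map (𝟙 (K n)))
    rw [CategoryTheory.Functor.map_id]
    infer_instance
  | succ k ih =>
    change IsIso (F.map (t (n + k) ≫ CohCx.transition K t n k))
    rw [Functor.map_comp]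
    have := h (n + k) (by omega)
    infer_instance

end General

section Tri

variable {T : Type*} [Category* T] [Preadditive T] [HasShift T ℤ]
  [∀ n : ℤ, (shiftFunctor T n).Additive] (K : ℕ → T) (t : ∀ n, K (n + 1) ⟶ K n)

lemma injective_transition (W : T) (m : ℤ) (N : ℕ)
    (h : ∀ n, N ≤ n → Function.Injective (fun ξ : W ⟶ (K (n + 1))⟦m⟧ => ξ ≫ (t n)⟦m⟧')) (k : ℕ) :
    Function.Injective (Preadditive.rightComp W ((shiftFunctor T m).map
      (CohCx.transition K t N k))) := by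
  induction k with
  | zero =>
    intro x y hxy
    change x ≫ (𝟙 (K N))⟦m⟧' = y ≫ (𝟙 (K N))⟦m⟧' at hxy
    have e : (shiftFunctor T m).map (𝟙 (K N)) = 𝟙 _ := (shiftFunctor T m).map_id _
    exact ((Category.comp_id x).symm.trans (congrArg (x ≫ ·) e.symm)).trans
      (hxy.trans ((congrArg (y ≫ ·) e).trans (Category.comp_id y)))
  | succ k ih =>
    intro x y hxy
    change x ≫ (t (N + k) ≫ CohCx.transition K t N k)⟦m⟧' =
      y ≫ (t (N + k) ≫ CohCx.transition K t N k)⟦m⟧' at hxy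
    rw [Functor.map_comp, ← Category.assoc, ← Category.assoc] at hxy
    exact h (N + k) (by omega) (ih hxy)

end Tri

variable {C : Type u} [SmallCategory C] {J : GrothendieckTopology C}
  {𝒜 : Type (u + 1)} [Category.{u} 𝒜] [Abelian 𝒜]
  {Γ : 𝒜 ⥤ Sheaf J AddCommGrpCat.{u}} [Γ.Additive] [PreservesFiniteLimits Γ]
  [PreservesFiniteColimits Γ] [Γ.Faithful] (𝒢 : Gen Γ) [EnoughInjectives 𝒜]
  [HasDerivedCategory.{w} 𝒜]

namespace Gen

include 𝒢 in
/-- **generic S9064** -/
theorem isIso_homology_rlim_of_eventually_constant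
    (hacyc : ∀ (I : 𝒜), Injective I → ∀ (U : C) (p : ℕ),
      Subsingleton (CohSite.HU (Γ.obj I) (p + 1) U))
    (P : ObjectProperty 𝒜) [P.IsClosedUnderIsomorphisms] [P.ContainsZero]
    (B : Set C) (hB : Covers J B)
    (hA : ∀ V ∈ B, ∃ d : ℕ, ∀ T ∈ J V, ∃ (ι : Type u) (Y : ι → C) (g : ∀ i, Y i ⟶ V),
      (∀ i, T.arrows (g i)) ∧ Sieve.ofArrows Y g ∈ J V ∧
      ∀ (i : ι) (F : 𝒜), P F → ∀ k : ℕ, d < k → Subsingleton (CohSite.HU (Γ.obj F) k (Y i)))
    (K : ℕ → DerivedCategory 𝒜) (t : ∀ n, K (n + 1) ⟶ K n) [HasProduct K]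
    (hK : ∀ n, (∀ q, P ((homologyFunctor 𝒜 q).obj (K n))) ∧ ∃ a₀ : ℤ, (K n).IsGE a₀)
    (hconst : ∀ j : ℤ, ∃ n₀ : ℕ, ∀ n, n₀ ≤ n → IsIso ((homologyFunctor 𝒜 j).map (t n)))
    (L : DerivedCategory 𝒜) (a : ∀ n, L ⟶ K n) (hL : CohCx.IsRlimVia K t L a) (j : ℤ) :
    ∃ n₀ : ℕ, ∀ n, n₀ ≤ n → IsIso ((homologyFunctor 𝒜 j).map (a n)) := by
  choose n₀ hn₀ using hconst
  refine ⟨n₀ j, fun n hn => ?_⟩
  -- the local statement over the good coverings of a member `V` of `B`
  have key : ∀ V ∈ B, ∃ k : ℕ, ∀ T ∈ J V, ∃ (ι : Type u) (Y : ι → C) (g : ∀ i, Y i ⟶ V),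
      (∀ i, T.arrows (g i)) ∧ Sieve.ofArrows Y g ∈ J V ∧
      ∀ i, Function.Bijective (fun ξ : 𝒢.ZD (Y i) ⟶ (shiftFunctor _ j).obj L =>
        ξ ≫ (shiftFunctor _ j).map (a (n + k))) := by
    intro V hV
    obtain ⟨d, hd⟩ := hA V hV
    let S : Finset ℤ := Finset.Icc (j - 1 - d) (j + 1)
    let N : ℕ := max n (S.sup n₀)
    have hN : ∀ q, j - 1 - d ≤ q → q ≤ j + 1 → ∀ n', N ≤ n' →
        IsIso ((homologyFunctor 𝒜 q).map (t n')) := by
      intro q h1 h2 n' hn'
      refine hn₀ q n' (le_trans ?_ hn')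
      exact le_trans (Finset.le_sup (f := n₀) (Finset.mem_Icc.2 ⟨h1, h2⟩)) (le_max_right _ _)
    refine ⟨N - n, fun T hT => ?_⟩
    have hNn : n + (N - n) = N := by
      have : n ≤ N := le_max_left _ _
      omega
    rw [hNn]
    obtain ⟨ι, Y, g, hg, hcov, hvan⟩ := hd T hT
    refine ⟨ι, Y, g, hg, hcov, fun i => ?_⟩
    -- transition maps are bijective on `Hom(Z (Y i), -[m'])` for `m' = j - 1, j` from `N` on
    have hbij : ∀ m' : ℤ, j - 1 ≤ m' → m' ≤ j → ∀ n', N ≤ n' →
        Function.Bijective (fun ξ : 𝒢.ZD (Y i) ⟶ (shiftFunctor _ m').obj (K (n' + 1)) =>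
          ξ ≫ (shiftFunctor _ m').map (t n')) := by
      intro m' h1 h2 n' hn'
      obtain ⟨a₁, ha₁⟩ := (hK (n' + 1)).2
      obtain ⟨a₂, ha₂⟩ := (hK n').2
      have : (K (n' + 1)).IsGE (min a₁ a₂) := TStructure.t.isGE_of_ge _ _ a₁ (min_le_left _ _)
      have : (K n').IsGE (min a₁ a₂) := TStructure.t.isGE_of_ge _ _ a₂ (min_le_right _ _)
      exact 𝒢.bijective_of_isIso_homology hacyc P (Y i) d (hvan i) (t n') (min a₁ a₂)
        (hK (n' + 1)).1 (hK n').1 m' (fun q hq1 hq2 => hN q (by omega) (by omega) n' hn')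
    constructor
    · intro ξ₁ ξ₂ h12
      rw [← sub_eq_zero]
      refine RlimTri31.eq_zero_of_comp_eq_zero K t L a hL (𝒢.ZD (Y i)) j N ?_ ?_ _ ?_
      · exact limOneIsZero_of_eventually_surjective _ _ N
          (fun n' hn' => (hbij (j - 1) le_rfl (by omega) n' hn').2)
      · exact injective_transition K t (𝒢.ZD (Y i)) j N
          (fun n' hn' => (hbij j (by omega) le_rfl n' hn').1)
      · rw [Preadditive.sub_comp, sub_eq_zero]
        exact h12
    · intro x
      exact RlimMilnor31.surjective_of_tower K t L a hL (𝒢.ZD (Y i)) j N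
        (fun n' hn' => (hbij j (by omega) le_rfl n' hn').2) x
  -- factorization through a later stage
  have hfac : ∀ k : ℕ, (homologyFunctor 𝒜 j).map (a n) =
      (homologyFunctor 𝒜 j).map (a (n + k)) ≫
        (homologyFunctor 𝒜 j).map (CohCx.transition K t n k) := by
    intro k
    rw [← Functor.map_comp, RlimTri31.a_transition K t L a hL n k]
  have hiso : ∀ k : ℕ, IsIso ((homologyFunctor 𝒜 j).map (CohCx.transition K t n k)) :=
    fun k => isIso_map_transition K t (homologyFunctor 𝒜 j) n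
      (fun n' hn' => hn₀ j n' (le_trans hn hn')) k
  have hmono : Mono ((homologyFunctor 𝒜 j).map (a n)) := by
    apply Gen.mono_of_injective_on (Γ := Γ) hB
    intro V hV
    obtain ⟨k, hk⟩ := key V hV
    have hinj : Function.Injective ((Γ.map ((homologyFunctor 𝒜 j).map (a (n + k)))).hom.app
        (op V)) := by
      refine 𝒢.injective_of_local_shift _ j V (fun T hT => ?_)
      obtain ⟨ι, Y, g, hg, hcov, hb⟩ := hk T hT
      refine ⟨ι, Y, g, hg, hcov, fun i ξ hξ => ?_⟩
      apply (hb i).1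
      change ξ ≫ _ = 0 ≫ _
      rw [hξ, zero_comp]
    rw [hfac k]
    have := hiso k
    exact Gen.injective_comp_iso (Γ ⋙ sheafToPresheaf J AddCommGrpCat.{u} ⋙ ev V) _ _ hinj
  have hepi : Epi ((homologyFunctor 𝒜 j).map (a n)) := by
    refine Gen.epi_of_locallySurjective_on (Γ := Γ) hB _ (fun V hV s => ?_)
    obtain ⟨k, hk⟩ := key V hV
    have := hiso k
    refine Gen.imageSieve_mem_of_comm (Γ := Γ) ((homologyFunctor 𝒜 j).map (a (n + k)))
      ((homologyFunctor 𝒜 j).map (a n)) (𝟙 _)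
      ((homologyFunctor 𝒜 j).map (CohCx.transition K t n k)) ?_ V ?_ s
    · rw [Category.id_comp, hfac k]
    · intro s'
      refine 𝒢.imageSieve_mem_of_local_shift (a (n + k)) j V (fun T hT => ?_) s'
      obtain ⟨ι, Y, g, hg, hcov, hb⟩ := hk T hT
      exact ⟨ι, Y, g, hg, hcov, fun i ξ => (hb i).2 ξ⟩
  exact isIso_of_mono_of_epi _

end Gen

end Groth.Agent.LocGen31
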