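import Groth.Agent.Lib.KInjExt31
import Mathlib.Algebra.Homology.DerivedCategory.Fractions
import Mathlib.Algebra.Homology.DerivedCategory.HomologySequence
import Mathlib.Algebra.Homology.SingleHomology

/-!
# Chain maps out of a complex concentrated in degree `0` and their images in the derived category
(helper31)

For an object `G` and a cochain complex `M` of an abelian category, chain maps `G[0] ⟶ M` are
maps `G ⟶ Z⁰(M)` (`gOf`); `Q.map (gOf z) = 0` if `z` factors through `M⁻¹ ⟶ Z⁰(M)`;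
`σ G : G ⟶ H⁰(Q (G[0]))` with `σ G ≫ H⁰(Q (gOf z)) = z ≫ π ≫ (iso)`.
-/

set_option autoImplicit false

open CategoryTheory CategoryTheory.Limits HomologicalComplex DerivedCategory

universe w v u

namespace Groth.Agent.SingleMaps31

variable {𝒜 : Type u} [Category.{v} 𝒜] [Abelian 𝒜]

/-- `G ↦ G[0]` -/
noncomputable abbrev s0 : 𝒜 ⥤ CochainComplex 𝒜 ℤ :=
  HomologicalComplex.single 𝒜 (ComplexShape.up ℤ) 0

variable {G G' : 𝒜} {M M' : CochainComplex 𝒜 ℤ}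

/-- the chain map `G[0] ⟶ M` of a map `G ⟶ Z⁰(M)` -/
noncomputable def gOf (z : G ⟶ M.cycles 0) : (s0 (𝒜 := 𝒜)).obj G ⟶ M :=
  mkHomFromSingle (z ≫ M.iCycles 0) (fun k _ => by simp)

lemma gOf_f (z : G ⟶ M.cycles 0) :
    (gOf z).f 0 = (singleObjXSelf (ComplexShape.up ℤ) 0 G).hom ≫ z ≫ M.iCycles 0 :=
  mkHomFromSingle_f _ _

lemma gOf_comp (h : G' ⟶ G) (z : G ⟶ M.cycles 0) :
    (s0 (𝒜 := 𝒜)).map h ≫ gOf z = gOf (h ≫ z) := by
  apply from_single_hom_ext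
  rw [comp_f, gOf_f, gOf_f, single_map_f_self]
  simp

lemma gOf_comp_map (z : G ⟶ M.cycles 0) (φ : M ⟶ M') :
    gOf z ≫ φ = gOf (z ≫ cyclesMap φ 0) := by
  apply from_single_hom_ext
  rw [comp_f, gOf_f, gOf_f]
  simp

lemma single_f_comp_d (g : (s0 (𝒜 := 𝒜)).obj G ⟶ M) :
    ((singleObjXSelf (ComplexShape.up ℤ) 0 G).inv ≫ g.f 0) ≫ M.d 0 1 = 0 := by
  rw [Category.assoc, g.comm 0 1, single_obj_d, zero_comp, comp_zero]

/-- the map to cycles of a chain map `G[0] ⟶ M` -/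
noncomputable def zOf (g : (s0 (𝒜 := 𝒜)).obj G ⟶ M) : G ⟶ M.cycles 0 :=
  M.liftCycles ((singleObjXSelf (ComplexShape.up ℤ) 0 G).inv ≫ g.f 0) 1 (by simp)
    (single_f_comp_d g)

lemma gOf_zOf (g : (s0 (𝒜 := 𝒜)).obj G ⟶ M) : gOf (zOf g) = g := by
  apply from_single_hom_ext
  rw [gOf_f, zOf, liftCycles_i, Iso.hom_inv_id_assoc]

lemma isZero_Q_obj_of_acyclic [HasDerivedCategory.{w} 𝒜] (K : CochainComplex 𝒜 ℤ)
    (hK : K.Acyclic) : IsZero (Q.obj K) := by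
  have hq : QuasiIso (0 : K ⟶ K) := by
    rw [quasiIso_iff]
    intro i
    rw [quasiIsoAt_iff_exactAt _ _ (hK i)]
    exact hK i
  have h1 : IsIso (Q.map (0 : K ⟶ K)) := by
    rw [isIso_Q_map_iff_quasiIso]
    exact hq
  rw [IsZero.iff_id_eq_zero]
  have h2 : Q.map (0 : K ⟶ K) = 0 := Functor.map_zero _ _ _
  have h3 : ∀ (f : Q.obj K ⟶ Q.obj K) [IsIso f], f = 0 → 𝟙 (Q.obj K) = 0 := by
    intro f _ hf
    subst hf
    rw [← IsIso.inv_hom_id (0 : Q.obj K ⟶ Q.obj K), comp_zero]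
  exact h3 _ h2

/-- `gOf z` vanishes in the derived category if `z` is a boundary -/
lemma Q_map_gOf_eq_zero [HasDerivedCategory.{w} 𝒜] (z : G ⟶ M.cycles 0) (x : G ⟶ M.X (-1))
    (hx : x ≫ M.toCycles (-1) 0 = z) : Q.map (gOf z) = 0 := by
  have hrel : (ComplexShape.up ℤ).Rel (-1) 0 := by simp
  have hne : (-1 : ℤ) ≠ 0 := by decide
  let p : (s0 (𝒜 := 𝒜)).obj G ⟶ double (𝟙 G) hrel :=
    mkHomFromSingle (doubleXIso₁ (𝟙 G) hrel hne).inv
      (fun k _ => by rw [double_d_eq_zero₀ _ _ _ _ hne.symm, comp_zero])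
  let r : double (𝟙 G) hrel ⟶ M :=
    mkHomFromDouble hrel hne x (z ≫ M.iCycles 0)
      (by rw [Category.id_comp, ← hx, Category.assoc, toCycles_i])
      (fun k _ => by simp)
  have hpr : gOf z = p ≫ r := by
    apply from_single_hom_ext
    rw [comp_f, gOf_f]
    change _ = (mkHomFromSingle _ _).f 0 ≫ (mkHomFromDouble _ _ _ _ _ _).f 0
    rw [mkHomFromSingle_f, mkHomFromDouble_f₁]
    simp
  rw [hpr, Functor.map_comp]
  have hz : IsZero (Q.obj (double (𝟙 G) hrel)) :=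
    isZero_Q_obj_of_acyclic _ (Groth.Agent.KInjExt31.double_id_acyclic G (-1) hrel)
  rw [hz.eq_of_tgt (Q.map p) 0, zero_comp]

variable [HasDerivedCategory.{w} 𝒜]

/-- the canonical map `G ⟶ H⁰(Q (G[0]))` -/
noncomputable def σ (G : 𝒜) : G ⟶ (homologyFunctor 𝒜 0).obj (Q.obj ((s0 (𝒜 := 𝒜)).obj G)) :=
  (singleObjHomologySelfIso (ComplexShape.up ℤ) 0 G).inv ≫
    (homologyFunctorFactors 𝒜 0).inv.app ((s0 (𝒜 := 𝒜)).obj G)

lemma σ_naturality (h : G' ⟶ G) :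
    σ G' ≫ (homologyFunctor 𝒜 0).map (Q.map ((s0 (𝒜 := 𝒜)).map h)) = h ≫ σ G := by
  have h1 := (homologyFunctorFactors 𝒜 0).inv.naturality ((s0 (𝒜 := 𝒜)).map h)
  have h2 := singleObjHomologySelfIso_inv_naturality (ComplexShape.up ℤ) 0 h
  exact (Category.assoc _ _ _).trans ((congrArg (_ ≫ ·) h1.symm).trans
    ((Category.assoc _ _ _).symm.trans ((congrArg (· ≫ _) h2).trans (Category.assoc _ _ _))))

omit [HasDerivedCategory.{w} 𝒜] in
lemma sIso_inv_homologyMap_gOf (z : G ⟶ M.cycles 0) :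
    (singleObjHomologySelfIso (ComplexShape.up ℤ) 0 G).inv ≫ homologyMap (gOf z) 0 =
      z ≫ M.homologyπ 0 := by
  rw [← singleObjCyclesSelfIso_inv_homologyπ, Category.assoc, homologyπ_naturality,
    ← Category.assoc]
  congr 1
  rw [← cancel_mono (M.iCycles 0), Category.assoc, cyclesMap_i,
    singleObjCyclesSelfIso_inv_iCycles_assoc, gOf_f, Iso.inv_hom_id_assoc]

lemma σ_gOf (z : G ⟶ M.cycles 0) :
    σ G ≫ (homologyFunctor 𝒜 0).map (Q.map (gOf z)) =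
      z ≫ M.homologyπ 0 ≫ (homologyFunctorFactors 𝒜 0).inv.app M := by
  have h1 := (homologyFunctorFactors 𝒜 0).inv.naturality (gOf z)
  have h2 := sIso_inv_homologyMap_gOf z
  exact (Category.assoc _ _ _).trans ((congrArg (_ ≫ ·) h1.symm).trans
    ((Category.assoc _ _ _).symm.trans ((congrArg (· ≫ _) h2).trans (Category.assoc _ _ _))))
/-- `H⁰(Q M) ≅ H⁰(M)` with clean types -/
noncomputable def φI (M : CochainComplex 𝒜 ℤ) :
    (homologyFunctor 𝒜 0).obj (Q.obj M) ≅ M.homology 0 :=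
  (homologyFunctorFactors 𝒜 0).app M

lemma σ_gOf' (z : G ⟶ M.cycles 0) :
    σ G ≫ (homologyFunctor 𝒜 0).map (Q.map (gOf z)) = z ≫ M.homologyπ 0 ≫ (φI M).inv :=
  σ_gOf z

lemma φI_hom_naturality (f : M ⟶ M') :
    (homologyFunctor 𝒜 0).map (Q.map f) ≫ (φI M').hom = (φI M).hom ≫ homologyMap f 0 :=
  (homologyFunctorFactors 𝒜 0).hom.naturality f

end Groth.Agent.SingleMaps31
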