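/-
helper11: a projective object corepresents `H⁰` on the (unbounded) derived category:
`Hom_{D(𝒜)}(P[0], X) ≃ Hom_𝒜(P, H⁰ X)` (`θ_bijective`), per-degree consequence `bijective_shift_iff`.
Uses helper31's `SingleMaps31` and Mathlib's K-projective complexes.
-/
import Groth.Agent.Lib.SingleMaps31
import Mathlib.Algebra.Homology.DerivedCategory.KProjective

set_option linter.unusedSectionVars false
set_option autoImplicit false
open CategoryTheory CategoryTheory.Limits HomologicalComplex DerivedCategory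
universe w v u

namespace Groth.Agent.Lib.ProjCorep11
open Groth.Agent.SingleMaps31

variable {𝒜 : Type u} [Category.{v} 𝒜] [Abelian 𝒜]

lemma projective_single_X (P : 𝒜) [Projective P] (n : ℤ) :
    Projective (((s0 (𝒜 := 𝒜)).obj P).X n) := by
  by_cases h : n = 0
  · subst h
    exact Projective.of_iso (singleObjXSelf (ComplexShape.up ℤ) 0 P).symm inferInstance
  · have hz : IsZero (((s0 (𝒜 := 𝒜)).obj P).X n) := isZero_single_obj_X _ _ _ _ h
    exact ⟨fun f e _ => ⟨0, hz.eq_of_src _ _⟩⟩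

instance isKProjective_single (P : 𝒜) [Projective P] :
    ((s0 (𝒜 := 𝒜)).obj P).IsKProjective := by
  have := projective_single_X P
  exact CochainComplex.isKProjective_of_projective _ 0

variable [HasDerivedCategory.{w} 𝒜]

/-- every map out of a K-projective complex in the derived category is represented by a chain map -/
lemma exists_Q_map_eq (K M : CochainComplex 𝒜 ℤ) [K.IsKProjective] (ξ : Q.obj K ⟶ Q.obj M) :
    ∃ g : K ⟶ M, Q.map g = ξ := by
  obtain ⟨g', hg'⟩ := (CochainComplex.IsKProjective.Qh_map_bijective K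
    ((HomotopyCategory.quotient _ _).obj M)).2
    ((quotientCompQhIso 𝒜).hom.app K ≫ ξ ≫ (quotientCompQhIso 𝒜).inv.app M)
  obtain ⟨g, rfl⟩ := (HomotopyCategory.quotient _ _).map_surjective g'
  refine ⟨g, ?_⟩
  have h := quotientCompQhIso_hom_naturality g
  rw [hg'] at h
  simpa using h.symm

variable (P : 𝒜)

/-- `P[0]` in the derived category -/
noncomputable abbrev W : DerivedCategory 𝒜 := Q.obj ((s0 (𝒜 := 𝒜)).obj P)

/-- the comparison `Hom_D(P[0], X) → Hom(P, H⁰ X)` -/
noncomputable def θ (X : DerivedCategory 𝒜) (ξ : W P ⟶ X) : P ⟶ (homologyFunctor 𝒜 0).obj X :=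
  σ P ≫ (homologyFunctor 𝒜 0).map ξ

lemma θ_comp {X Y : DerivedCategory 𝒜} (ξ : W P ⟶ X) (f : X ⟶ Y) :
    θ P Y (ξ ≫ f) = θ P X ξ ≫ (homologyFunctor 𝒜 0).map f := by
  simp [θ]

lemma θ_sub {X : DerivedCategory 𝒜} (ξ ξ' : W P ⟶ X) :
    θ P X (ξ - ξ') = θ P X ξ - θ P X ξ' := by
  rw [θ, Functor.map_sub, Preadditive.comp_sub]
  rfl

variable [Projective P]

lemma θ_bijective_Q (M : CochainComplex 𝒜 ℤ) : Function.Bijective (θ P (Q.obj M)) := by
  constructor
  · intro ξ ξ' h
    rw [← sub_eq_zero] at h ⊢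
    rw [← θ_sub] at h
    obtain ⟨g, hg⟩ := exists_Q_map_eq _ _ (ξ - ξ')
    rw [← hg] at h ⊢
    rw [← gOf_zOf g] at h ⊢
    set z := zOf g
    have hz : z ≫ M.homologyπ 0 = 0 := by
      have h1 := σ_gOf' z
      change θ P _ _ = _ at h1
      rw [h] at h1
      have h2 := congrArg (· ≫ (φI M).hom) h1
      simpa using h2.symm
    have hex : (ShortComplex.mk (M.toCycles (-1) 0) (M.homologyπ 0) (by simp)).Exact := by
      apply ShortComplex.exact_of_g_is_cokernel
      exact M.homologyIsCokernel (-1) 0 (by simp)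
    exact Q_map_gOf_eq_zero z (hex.liftFromProjective z hz) (hex.liftFromProjective_comp z hz)
  · intro φ
    let z : P ⟶ M.cycles 0 := Projective.factorThru (φ ≫ (φI M).hom) (M.homologyπ 0)
    refine ⟨Q.map (gOf z), ?_⟩
    have h1 := σ_gOf' z
    change θ P _ _ = _ at h1
    rw [h1, ← Category.assoc, Projective.factorThru_comp, Category.assoc, Iso.hom_inv_id,
      Category.comp_id]

theorem θ_bijective (X : DerivedCategory 𝒜) : Function.Bijective (θ P X) := by
  let e : Q.obj (Q.objPreimage X) ≅ X := Q.objObjPreimageIso X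
  have h := θ_bijective_Q P (Q.objPreimage X)
  have hsq : θ P X ∘ (fun ξ => ξ ≫ e.hom) =
      (fun φ => φ ≫ (homologyFunctor 𝒜 0).map e.hom) ∘ θ P (Q.obj (Q.objPreimage X)) := by
    funext ξ
    exact θ_comp P ξ e.hom
  have h1 : Function.Bijective (fun ξ : W P ⟶ Q.obj (Q.objPreimage X) => ξ ≫ e.hom) :=
    ⟨fun a b hab => (cancel_mono e.hom).1 hab, fun y => ⟨y ≫ e.inv, by simp⟩⟩
  have h2 : Function.Bijective (fun φ : P ⟶ (homologyFunctor 𝒜 0).obj (Q.obj (Q.objPreimage X)) =>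
      φ ≫ (homologyFunctor 𝒜 0).map e.hom) :=
    ⟨fun a b hab => (cancel_mono _).1 hab,
      fun y => ⟨y ≫ (homologyFunctor 𝒜 0).map e.inv, by
        simp [← Functor.map_comp]⟩⟩
  rw [← Function.Bijective.of_comp_iff (θ P X) h1, hsq]
  exact h2.comp h


omit [Projective P] [HasDerivedCategory.{w} 𝒜] in
lemma bijective_comp_iso {A A' : 𝒜} (a : A ≅ A') :
    Function.Bijective (fun φ : P ⟶ A => φ ≫ a.hom) :=
  ⟨fun _ _ hab => (cancel_mono a.hom).1 hab, fun y => ⟨y ≫ a.inv, by simp⟩⟩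

/-- per-degree criterion: post-composition with `f⟦m⟧'` on `Hom(P[0], -)` is bijective iff
post-composition with `H^m(f)` on `Hom(P, -)` is -/
theorem bijective_shift_iff {X Y : DerivedCategory 𝒜} (f : X ⟶ Y) (m : ℤ) :
    Function.Bijective (fun ξ : W P ⟶ (shiftFunctor _ m).obj X => ξ ≫ (shiftFunctor _ m).map f) ↔
      Function.Bijective (fun φ : P ⟶ (homologyFunctor 𝒜 m).obj X =>
        φ ≫ (homologyFunctor 𝒜 m).map f) := by
  let e := (homologyFunctor 𝒜 0).shiftIso m 0 m (add_zero m)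
  let eX : (homologyFunctor 𝒜 0).obj ((shiftFunctor _ m).obj X) ≅ (homologyFunctor 𝒜 m).obj X :=
    e.app X
  let eY : (homologyFunctor 𝒜 0).obj ((shiftFunctor _ m).obj Y) ≅ (homologyFunctor 𝒜 m).obj Y :=
    e.app Y
  have hnat : (homologyFunctor 𝒜 0).map ((shiftFunctor _ m).map f) ≫ eY.hom =
      eX.hom ≫ (homologyFunctor 𝒜 m).map f := e.hom.naturality f
  have hX := θ_bijective P ((shiftFunctor _ m).obj X)
  have hY := θ_bijective P ((shiftFunctor _ m).obj Y)
  have hsq : ((fun φ => φ ≫ eY.hom) ∘ θ P ((shiftFunctor _ m).obj Y)) ∘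
      (fun ξ : W P ⟶ (shiftFunctor _ m).obj X => ξ ≫ (shiftFunctor _ m).map f) =
      (fun φ : P ⟶ (homologyFunctor 𝒜 m).obj X => φ ≫ (homologyFunctor 𝒜 m).map f) ∘
        ((fun φ => φ ≫ eX.hom) ∘ θ P ((shiftFunctor _ m).obj X)) := by
    funext ξ
    dsimp only [Function.comp]
    rw [θ_comp, Category.assoc, Category.assoc, hnat]
  rw [← Function.Bijective.of_comp_iff' ((bijective_comp_iso P eY).comp hY), hsq,
    Function.Bijective.of_comp_iff _ ((bijective_comp_iso P eX).comp hX)]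

/-- unshifted criterion -/
theorem bijective_iff {X Y : DerivedCategory 𝒜} (f : X ⟶ Y) :
    Function.Bijective (fun ξ : W P ⟶ X => ξ ≫ f) ↔
      Function.Bijective (fun φ : P ⟶ (homologyFunctor 𝒜 0).obj X =>
        φ ≫ (homologyFunctor 𝒜 0).map f) := by
  have hX := θ_bijective P X
  have hY := θ_bijective P Y
  have hsq : θ P Y ∘ (fun ξ : W P ⟶ X => ξ ≫ f) =
      (fun φ : P ⟶ (homologyFunctor 𝒜 0).obj X => φ ≫ (homologyFunctor 𝒜 0).map f) ∘ θ P X := by
    funext ξ
    exact θ_comp P ξ f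
  rw [← Function.Bijective.of_comp_iff' hY, hsq, Function.Bijective.of_comp_iff _ hX]

/-- `Hom_D(P[0], X⟦m⟧) ≃ Hom(P, H^m X)` -/
noncomputable def homEquivShift (X : DerivedCategory 𝒜) (m : ℤ) :
    (W P ⟶ (shiftFunctor _ m).obj X) ≃ (P ⟶ (homologyFunctor 𝒜 m).obj X) :=
  (Equiv.ofBijective _ (θ_bijective P ((shiftFunctor _ m).obj X))).trans
    (Iso.homCongr (Iso.refl P) (((homologyFunctor 𝒜 0).shiftIso m 0 m (add_zero m)).app X))

end Groth.Agent.Lib.ProjCorep11
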