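/-
helper11: `R` as a projective generator of `ModuleCat R`: in `D(ModuleCat R)`, post-composition with
`f⟦m⟧'` on `Hom(R[0], -)` is bijective iff `H^m(f)` is an isomorphism; consequence: cohomology of a
derived limit of a tower in `D(ModuleCat R)` with eventually constant cohomology (Milnor sequence).
-/
import Groth.Agent.Lib.ProjCorep11
import Groth.Agent.Lib.LocGenConst31
import Mathlib.Algebra.Category.ModuleCat.Projective

set_option autoImplicit false
set_option linter.unusedSectionVars false
open CategoryTheory CategoryTheory.Limits HomologicalComplex DerivedCategory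
universe u

namespace Groth.Agent.Lib.ModProjGen11

open Groth.Agent.Lib.ProjCorep11

variable (R : Type u) [Ring R]

/-- the free module of rank one -/
abbrev P : ModuleCat.{u} R := ModuleCat.of R R

instance : Projective (P R) :=
  (IsProjective.iff_projective (R := R) (P := R)).1 inferInstance

/-- `Hom(R, A) ≃ A` -/
def homEquiv (A : ModuleCat.{u} R) : (P R ⟶ A) ≃ A where
  toFun φ := φ.hom (1 : R)
  invFun a := ModuleCat.ofHom (LinearMap.toSpanSingleton R A a)
  left_inv φ := by
    ext
    simp
  right_inv a := by simp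

lemma homEquiv_comp {A B : ModuleCat.{u} R} (φ : P R ⟶ A) (g : A ⟶ B) :
    homEquiv R B (φ ≫ g) = g.hom (homEquiv R A φ) := rfl

lemma bijective_comp_iff_isIso {A B : ModuleCat.{u} R} (g : A ⟶ B) :
    Function.Bijective (fun φ : P R ⟶ A => φ ≫ g) ↔ IsIso g := by
  rw [ConcreteCategory.isIso_iff_bijective]
  have hsq : (homEquiv R B) ∘ (fun φ : P R ⟶ A => φ ≫ g) = (fun a => g.hom a) ∘ (homEquiv R A) := by
    funext φ
    exact homEquiv_comp R φ g
  rw [← Function.Bijective.of_comp_iff' (homEquiv R B).bijective, hsq,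
    Function.Bijective.of_comp_iff _ (homEquiv R A).bijective]

attribute [local instance] HasDerivedCategory.standard

/-- `R[0]` in `D(ModuleCat R)` -/
noncomputable abbrev WR : DerivedCategory (ModuleCat.{u} R) := W (P R)

theorem bijective_shift_iff_isIso {X Y : DerivedCategory (ModuleCat.{u} R)} (f : X ⟶ Y) (m : ℤ) :
    Function.Bijective (fun ξ : WR R ⟶ (shiftFunctor _ m).obj X => ξ ≫ (shiftFunctor _ m).map f) ↔
      IsIso ((homologyFunctor (ModuleCat.{u} R) m).map f) := by
  rw [bijective_shift_iff (P R) f m, bijective_comp_iff_isIso]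

/-- cohomology of a derived limit of a tower with eventually constant cohomology -/
theorem isIso_homology_rlim_of_eventually_constant
    (K : ℕ → DerivedCategory (ModuleCat.{u} R)) (t : ∀ n, K (n + 1) ⟶ K n) [HasProduct K]
    (hconst : ∀ j : ℤ, ∃ n₀ : ℕ, ∀ n, n₀ ≤ n →
      IsIso ((homologyFunctor (ModuleCat.{u} R) j).map (t n)))
    (L : DerivedCategory (ModuleCat.{u} R)) (a : ∀ n, L ⟶ K n) (hL : CohCx.IsRlimVia K t L a)
    (j : ℤ) :
    ∃ n₀ : ℕ, ∀ n, n₀ ≤ n → IsIso ((homologyFunctor (ModuleCat.{u} R) j).map (a n)) := by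
  choose n₀ hn₀ using hconst
  refine ⟨max (n₀ (j - 1)) (n₀ j), fun N hN => ?_⟩
  have hbij : ∀ m' : ℤ, (m' = j - 1 ∨ m' = j) → ∀ n', N ≤ n' →
      Function.Bijective (fun ξ : WR R ⟶ (shiftFunctor _ m').obj (K (n' + 1)) =>
        ξ ≫ (shiftFunctor _ m').map (t n')) := by
    intro m' hm' n' hn'
    rw [bijective_shift_iff_isIso]
    rcases hm' with rfl | rfl
    · exact hn₀ _ n' (le_trans (le_trans (le_max_left _ _) hN) hn')
    · exact hn₀ _ n' (le_trans (le_trans (le_max_right _ _) hN) hn')
  rw [← bijective_shift_iff_isIso]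
  constructor
  · intro ξ₁ ξ₂ h12
    rw [← sub_eq_zero]
    refine Groth.Agent.RlimTri31.eq_zero_of_comp_eq_zero K t L a hL (WR R) j N ?_ ?_ _ ?_
    · exact Groth.Agent.RlimTower31.limOneIsZero_of_eventually_surjective _ _ N
        (fun n' hn' => (hbij (j - 1) (Or.inl rfl) n' hn').2)
    · exact Groth.Agent.LocGen31.injective_transition K t (WR R) j N
        (fun n' hn' => (hbij j (Or.inr rfl) n' hn').1)
    · rw [Preadditive.sub_comp, sub_eq_zero]
      exact h12
  · intro x
    exact Groth.Agent.RlimMilnor31.surjective_of_tower K t L a hL (WR R) j N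
      (fun n' hn' => (hbij j (Or.inr rfl) n' hn').2) x

end Groth.Agent.Lib.ModProjGen11
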