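import Groth.Prelude.Def_CohB1
import Mathlib.Algebra.Category.ModuleCat.Sheaf.Abelian
import Mathlib.Algebra.Category.ModuleCat.Presheaf.Colimits
import Mathlib.Algebra.Category.ModuleCat.Sheaf.Limits
import Mathlib.CategoryTheory.Limits.Preserves.Shapes.Kernels
import Mathlib.CategoryTheory.Adjunction.Limits
import Mathlib.Topology.Sheaves.Abelian
import Mathlib.Algebra.Homology.ShortComplex.ExactFunctor
import Mathlib.Algebra.Homology.ShortComplex.Ab
import Mathlib.AlgebraicGeometry.Modules.Sheaf

set_option autoImplicit false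
universe v v' u u'

open CategoryTheory CategoryTheory.Limits AlgebraicGeometry TopologicalSpace Opposite

namespace Groth.Agent.Lib.ModStalk

section ToSheaf

variable {C : Type u'} [Category.{v'} C] {J : GrothendieckTopology C} (R : Sheaf J RingCat.{u})
  [HasSheafify J AddCommGrpCat.{v}] [J.WEqualsLocallyBijective AddCommGrpCat.{v}]

/-- The forgetful functor from sheaves of modules to sheaves of abelian groups preserves
epimorphisms. -/
theorem epi_toSheaf_map {M N : SheafOfModules.{v} R} (f : M ⟶ N) [Epi f] :
    Epi ((SheafOfModules.toSheaf.{v} R).map f) := by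
  let Φ := PresheafOfModules.sheafification.{v} (𝟙 R.obj)
  let Ψ := SheafOfModules.forget.{v} R ⋙ PresheafOfModules.restrictScalars (𝟙 R.obj)
  let adj : Φ ⊣ Ψ := PresheafOfModules.sheafificationAdjunction (𝟙 R.obj)
  let g := Ψ.map f
  have hnat : Φ.map g ≫ adj.counit.app N = adj.counit.app M ≫ f := adj.counit.naturality f
  have hΦg : Epi (Φ.map g) := by
    have : Φ.map g = adj.counit.app M ≫ f ≫ inv (adj.counit.app N) := by
      rw [← Category.assoc, ← hnat, Category.assoc, IsIso.hom_inv_id, Category.comp_id]
    rw [this]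
    infer_instance
  let H := Φ ⋙ SheafOfModules.toSheaf.{v} R
  have hH : PreservesColimit (parallelPair g 0) H :=
    inferInstanceAs (PreservesColimit (parallelPair g 0)
      (PresheafOfModules.toPresheaf R.obj ⋙ presheafToSheaf J AddCommGrpCat.{v}))
  have hz1 : IsZero (Φ.obj (cokernel g)) :=
    (isZero_cokernel_of_epi (Φ.map g)).of_iso (PreservesCokernel.iso Φ g)
  have hz2 : IsZero (H.obj (cokernel g)) :=
    (SheafOfModules.toSheaf.{v} R).map_isZero hz1
  have hz3 : IsZero (cokernel (H.map g)) := hz2.of_iso (PreservesCokernel.iso H g).symm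
  have hHg : Epi (H.map g) := Preadditive.epi_of_isZero_cokernel _ hz3
  have : (SheafOfModules.toSheaf.{v} R).map f =
      inv ((SheafOfModules.toSheaf.{v} R).map (adj.counit.app M)) ≫ H.map g ≫
        (SheafOfModules.toSheaf.{v} R).map (adj.counit.app N) := by
    rw [IsIso.eq_inv_comp]
    change _ = (SheafOfModules.toSheaf.{v} R).map (Φ.map g) ≫ _
    rw [← Functor.map_comp, ← Functor.map_comp, hnat]
  rw [this]
  infer_instance

instance : (SheafOfModules.toSheaf.{v} R).PreservesEpimorphisms where
  preserves f _ := epi_toSheaf_map R f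

noncomputable instance : PreservesFiniteColimits (SheafOfModules.toSheaf.{v} R) := by
  rw [Functor.preservesFiniteColimits_iff_forall_exact_map_and_epi]
  intro S hS
  have hfl : PreservesFiniteLimits (SheafOfModules.toSheaf.{v} R) := inferInstance
  have h0 : ∀ (S : ShortComplex (SheafOfModules.{v} R)), S.ShortExact →
      (S.map (SheafOfModules.toSheaf.{v} R)).Exact ∧ Mono ((SheafOfModules.toSheaf.{v} R).map S.f) :=
    ((SheafOfModules.toSheaf.{v} R).preservesFiniteLimits_tfae.out 3 0).mp hfl
  have h := h0 S hS
  have := hS.epi_g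
  exact ⟨h.1, inferInstance⟩

end ToSheaf

section Stalk

variable {X : Scheme.{u}}

/-- The underlying sheaf of abelian groups of an `O_X`-module, as a functor. -/
noncomputable def toSheafAb (X : Scheme.{u}) : X.Modules ⥤ TopCat.Sheaf Ab.{u} X.carrier :=
  SheafOfModules.toSheaf.{u} X.ringCatSheaf

noncomputable instance : PreservesFiniteLimits (toSheafAb X) :=
  inferInstanceAs (PreservesFiniteLimits (SheafOfModules.toSheaf.{u} X.ringCatSheaf))

noncomputable instance : PreservesFiniteColimits (toSheafAb X) :=
  inferInstanceAs (PreservesFiniteColimits (SheafOfModules.toSheaf.{u} X.ringCatSheaf))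

instance : (toSheafAb X).Additive :=
  inferInstanceAs (SheafOfModules.toSheaf.{u} X.ringCatSheaf).Additive

/-- The stalk functor on `O_X`-modules, valued in abelian groups. -/
noncomputable def stalkFunctor (x : X) : X.Modules ⥤ Ab.{u} :=
  toSheafAb X ⋙ TopCat.Sheaf.forget Ab.{u} X.carrier ⋙
    TopCat.Presheaf.stalkFunctor Ab.{u} x

theorem stalkFunctor_obj (x : X) (M : X.Modules) :
    (stalkFunctor x).obj M = M.presheaf.stalk x := rfl

theorem stalkFunctor_map (x : X) {M N : X.Modules} (φ : M ⟶ N) :
    (stalkFunctor x).map φ = (TopCat.Presheaf.stalkFunctor Ab.{u} x).map φ.mapPresheaf := rfl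

end Stalk

section Stalk2

variable {X : Scheme.{u}}

noncomputable instance (x : X) : PreservesFiniteLimits (stalkFunctor x) := by
  unfold stalkFunctor
  exact comp_preservesFiniteLimits _ _

noncomputable instance (x : X) : PreservesFiniteColimits (stalkFunctor x) := by
  unfold stalkFunctor
  exact comp_preservesFiniteColimits _ _

instance (x : X) : (stalkFunctor x).Additive := by
  unfold stalkFunctor
  infer_instance

theorem shortExact_stalk {E : ShortComplex X.Modules} (hE : E.ShortExact) (x : X) :
    (E.map (stalkFunctor x)).ShortExact := hE.map_of_exact (stalkFunctor x)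

theorem stalk_injective_of_mono {M N : X.Modules} (φ : M ⟶ N) [Mono φ] (x : X) :
    Function.Injective ((stalkFunctor x).map φ) := by
  rw [← AddCommGrpCat.mono_iff_injective]
  infer_instance

theorem stalk_surjective_of_epi {M N : X.Modules} (φ : M ⟶ N) [Epi φ] (x : X) :
    Function.Surjective ((stalkFunctor x).map φ) := by
  rw [← AddCommGrpCat.epi_iff_surjective]
  infer_instance

/-- The support of the middle term of a short exact sequence is the union of the supports. -/
theorem support_shortExact {E : ShortComplex X.Modules} (hE : E.ShortExact) :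
    CohB1.support E.X₂ = CohB1.support E.X₁ ∪ CohB1.support E.X₃ := by
  ext x
  have hS := shortExact_stalk hE x
  have hinj : Function.Injective ((stalkFunctor x).map E.f) := hS.ab_injective_f
  have hsurj : Function.Surjective ((stalkFunctor x).map E.g) := hS.ab_surjective_g
  have hex := (ShortComplex.ab_exact_iff_function_exact _).mp hS.exact
  simp only [CohB1.support, Set.mem_ofPred_eq, Set.mem_union]
  change ¬ Subsingleton ((stalkFunctor x).obj E.X₂) ↔
    ¬ Subsingleton ((stalkFunctor x).obj E.X₁) ∨ ¬ Subsingleton ((stalkFunctor x).obj E.X₃)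
  rw [← not_and_or, not_iff_not]
  constructor
  · intro h
    exact ⟨hinj.subsingleton, hsurj.subsingleton⟩
  · rintro ⟨h1, h3⟩
    refine ⟨fun a b => ?_⟩
    have key : ∀ c : (stalkFunctor x).obj E.X₂, c = 0 := by
      intro c
      have hc : (E.map (stalkFunctor x)).g c = 0 := h3.elim _ _
      obtain ⟨d, rfl⟩ := (hex c).mp hc
      have hd : d = 0 := h1.elim d 0
      subst hd
      exact map_zero _
    rw [key a, key b]

end Stalk2

section FiniteType

variable {Y : Scheme.{u}}

/-- The structure sheaf as an object of `Y.Modules`. -/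
noncomputable abbrev unitMod (Y : Scheme.{u}) : Y.Modules := SheafOfModules.unit Y.ringCatSheaf

theorem app_eq_zero_of_app_one (N : Y.Modules) (φ : unitMod Y ⟶ N) (U : Y.Opens)
    (h : φ.app U (1 : Γ(Y, U)) = 0) : φ.app U = 0 := by
  ext x
  have hx : x = (show Γ(Y, U) from x) • (show Γ(unitMod Y, U) from (1 : Γ(Y, U))) :=
    (mul_one (show Γ(Y, U) from x)).symm
  rw [hx, Scheme.Modules.Hom.app_smul]
  erw [h]
  simp

/-- The morphism `O ⟶ N` attached to a section vanishes after restriction to an open on which the
section vanishes. -/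
theorem restrict_map_eq_zero_of_app_one (N : Y.Modules) (φ : unitMod Y ⟶ N)
    (W : Y.Opens) (hs : ∀ V : Y.Opens, V ≤ W → φ.app V (1 : Γ(Y, V)) = 0) :
    (Scheme.Modules.restrictFunctor W.ι).map φ = 0 := by
  ext V x
  change φ.app (W.ι ''ᵁ V) x = 0
  rw [app_eq_zero_of_app_one N φ _ (hs (W.ι ''ᵁ V) (by simpa using W.ι.image_le_opensRange V))]
  rfl




open SheafOfModules in
set_option backward.isDefEq.respectTransparency false in
theorem isZero_restrict_of_sections_vanish (N : Y.Modules) (G : SheafOfModules.GeneratingSections N)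
    (W : Y.Opens)
    (hs : ∀ i (V : Y.Opens), V ≤ W → (G.s i).val (op V) = 0) :
    IsZero ((Scheme.Modules.restrictFunctor W.ι).obj N) := by
  let F := Scheme.Modules.restrictFunctor W.ι
  have : PreservesColimitsOfSize.{u, u} F := inferInstance
  let η := (Scheme.Modules.restrictUnitIso W.ι).symm
  have hπ : (G.map F η).π = 0 := by
    rw [GeneratingSections.map_π_eq]
    apply Cofan.IsColimit.hom_ext (isColimitFreeCofan G.I)
    intro i
    simp only [freeCofan_inj, comp_zero]
    rw [ιFree_mapFreeIso_hom_assoc, ← Functor.map_comp]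
    have h1 : ιFree i ≫ G.π = (SheafOfModules.unitHomEquiv N).symm (G.s i) := by
      rw [← unitHomEquiv_symm_freeHomEquiv_apply, Equiv.apply_symm_apply]
    rw [h1]
    have h2 : F.map ((SheafOfModules.unitHomEquiv N).symm (G.s i)) = 0 := by
      apply restrict_map_eq_zero_of_app_one N
      intro V hV
      have := hs i V hV
      rw [← Equiv.apply_symm_apply (SheafOfModules.unitHomEquiv N) (G.s i)] at this
      exact this
    rw [h2, comp_zero]
  have hepi : Epi (G.map F η).π := (G.map F η).epi
  exact IsZero.of_epi_eq_zero _ hπ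




theorem subsingleton_stalk_of_isZero_restrict (N : Y.Modules) (W : Y.Opens)
    (h : IsZero ((Scheme.Modules.restrictFunctor W.ι).obj N)) (z : Y) (hz : z ∈ W) :
    Subsingleton (N.presheaf.stalk z) := by
  have h1 : IsZero ((stalkFunctor (⟨z, hz⟩ : W)).obj ((Scheme.Modules.restrictFunctor W.ι).obj N)) :=
    (stalkFunctor (⟨z, hz⟩ : W)).map_isZero h
  have e := (Scheme.Modules.restrictStalkNatIso W.ι (⟨z, hz⟩ : W)).app N
  have h2 : IsZero (N.presheaf.stalk z) := h1.of_iso e.symm
  exact AddCommGrpCat.subsingleton_of_isZero h2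




theorem isOpen_setOf_subsingleton_stalk (N : Y.Modules) (G : SheafOfModules.GeneratingSections N)
    [G.IsFiniteType] : IsOpen {y : Y | Subsingleton (N.presheaf.stalk y)} := by
  rw [isOpen_iff_forall_mem_open]
  intro y hy
  have hy' : Subsingleton (N.presheaf.stalk y) := hy
  have hW : ∀ i, ∃ W : Y.Opens, y ∈ W ∧
      ∀ V : Y.Opens, V ≤ W → (G.s i).val (op V) = 0 := by
    intro i
    have hg : N.presheaf.germ ⊤ y trivial ((G.s i).val (op ⊤)) =
        N.presheaf.germ ⊤ y trivial 0 := Subsingleton.elim _ _
    obtain ⟨W, hyW, iU, iV, hres⟩ := N.presheaf.germ_eq (U := ⊤) (V := ⊤) y trivial trivial _ _ hg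
    refine ⟨W, hyW, fun V hV => ?_⟩
    have h1 : (G.s i).val (op V) = N.presheaf.map (homOfLE hV).op ((G.s i).val (op W)) :=
      (PresheafOfModules.sections_property (G.s i) (homOfLE hV).op).symm
    have h2 : (G.s i).val (op W) = N.presheaf.map iU.op ((G.s i).val (op ⊤)) :=
      (PresheafOfModules.sections_property (G.s i) iU.op).symm
    rw [h1, h2, hres, map_zero, map_zero]
    rfl
  choose W hyW hW0 using hW
  have : Finite G.I := inferInstance
  refine ⟨⋂ i, (W i : Set Y), ?_, isOpen_iInter_of_finite fun i => (W i).2,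
    Set.mem_iInter.mpr hyW⟩
  intro z hz
  let W' : Y.Opens := ⟨⋂ i, (W i : Set Y), isOpen_iInter_of_finite fun i => (W i).2⟩
  have hzero : IsZero ((Scheme.Modules.restrictFunctor W'.ι).obj N) := by
    apply isZero_restrict_of_sections_vanish N G W'
    intro i V hV
    exact hW0 i V (hV.trans fun a ha => Set.mem_iInter.mp ha i)
  exact subsingleton_stalk_of_isZero_restrict N W' hzero z hz



open Scheme.Modules in
set_option backward.isDefEq.respectTransparency false in
/-- A finite type module is, locally on an open cover, generated by finitely many sections. -/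
theorem exists_isOpenCover_generatingSections {X : Scheme.{u}} (M : X.Modules)
    [M.IsFiniteType] :
    ∃ (ι : Type u) (U : ι → X.Opens) (gen : ∀ i, (M.restrict (U i).ι).GeneratingSections),
      IsOpenCover U ∧ (∀ i, (gen i).IsFiniteType) := by
  obtain ⟨⟨I, W, cov, gen⟩, hfin⟩ := SheafOfModules.IsFiniteType.exists_localGeneratorsData (M := M)
  refine ⟨I, W, fun i ↦ ?_, ?_, ?_⟩
  · let F := (overEquiv (W i)).functor
    have : PreservesColimitsOfSize.{u, u} F := inferInstance
    let iso : SheafOfModules.overFunctor X.ringCatSheaf _ ⋙ F ≅ restrictFunctor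
      (Scheme.Opens.ι (W i)) := Scheme.Modules.overFunctorEquiv _
    exact ((gen i).map F (Iso.refl _)).ofEpi (iso.app M).hom
  · rwa [Opens.coversTop_iff] at cov
  · intro i
    have := hfin.isFiniteType i
    infer_instance

theorem subsingleton_stalk_restrict_iff {X : Scheme.{u}} (M : X.Modules) (U : X.Opens) (y : U) :
    Subsingleton ((M.restrict U.ι).presheaf.stalk y) ↔ Subsingleton (M.presheaf.stalk (U.ι y)) := by
  have e := (Scheme.Modules.restrictStalkNatIso U.ι y).app M
  constructor
  · intro h
    have h0 : IsZero ((M.restrict U.ι).presheaf.stalk y) := AddCommGrpCat.isZero_of_subsingleton _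
    exact AddCommGrpCat.subsingleton_of_isZero (h0.of_iso e.symm)
  · intro h
    have h0 : IsZero (M.presheaf.stalk (U.ι y)) := AddCommGrpCat.isZero_of_subsingleton _
    exact AddCommGrpCat.subsingleton_of_isZero (h0.of_iso e)

/-- The support of a finite type `O_X`-module is closed. -/
theorem isClosed_support_of_isFiniteType {X : Scheme.{u}} (M : X.Modules) [M.IsFiniteType] :
    IsClosed (CohB1.support M) := by
  rw [← isOpen_compl_iff]
  obtain ⟨ι, U, gen, hU, hfin⟩ := exists_isOpenCover_generatingSections M
  rw [isOpen_iff_forall_mem_open]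
  intro x hx
  have hx' : Subsingleton (M.presheaf.stalk x) := not_not.mp hx
  obtain ⟨i, hxi⟩ := hU.exists_mem x
  have := hfin i
  have hopen := isOpen_setOf_subsingleton_stalk (M.restrict (U i).ι) (gen i)
  refine ⟨(U i).ι '' {y | Subsingleton ((M.restrict (U i).ι).presheaf.stalk y)}, ?_,
    (U i).ι.isOpenEmbedding.isOpenMap _ hopen, ⟨⟨x, hxi⟩, ?_, rfl⟩⟩
  · rintro _ ⟨y, hy, rfl⟩
    have : Subsingleton (M.presheaf.stalk ((U i).ι y)) :=
      (subsingleton_stalk_restrict_iff M (U i) y).mp hy
    exact not_not.mpr this
  · exact (subsingleton_stalk_restrict_iff M (U i) ⟨x, hxi⟩).mpr hx'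

/-- Version with the finite type hypothesis stated through the prelude abbreviation. -/
theorem isClosed_support_of_isFT {X : Scheme.{u}} (M : X.Modules) (hM : CohB1.IsFT M) :
    IsClosed (CohB1.support M) :=
  haveI : M.IsFiniteType := hM
  isClosed_support_of_isFiniteType M

end FiniteType

end Groth.Agent.Lib.ModStalk
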