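import Groth.Agent.Lib.H90OXModExact
import Groth.Agent.Lib.AffVanSections
import Groth.Agent.Lib.ModStalk

/-!
# Extensions of quasi-coherent modules are quasi-coherent (helper90)

* `app_res`: naturality of `φ.app` with restriction.
* `exists_local_lift_of_epi`: an epimorphism of `O_X`-modules is locally surjective on sections.
* `surjective_app_of_shortExact`: for a short exact sequence `0 → F → G → H → 0` of `O_X`-modules with
  `F` quasi-coherent (no assumption on `G`, `H`), `G(U) → H(U)` is surjective for affine `U`.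
* `isLocalizingOn_of_shortExact`, `isQuasicoherent_of_shortExact`: if `F` and `H` are quasi-coherent then so
  is `G`.
-/

set_option autoImplicit false
universe u

open CategoryTheory CategoryTheory.Limits AlgebraicGeometry TopologicalSpace Opposite
open AlgebraicGeometry.Scheme AlgebraicGeometry.Scheme.Modules

namespace Groth.Agent.Lib.H90OXModExt

open Groth.Agent.Lib.QCohStalk Groth.Agent.Lib.AssPush Groth.Agent.Lib.H90OXModQcqs
  Groth.Agent.Lib.H90OXModSections

variable {X : Scheme.{u}}

/-- Naturality of the maps on sections with respect to restriction. -/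
theorem app_res {M N : X.Modules} (φ : M ⟶ N) {V U : X.Opens} (h : V ≤ U) (s : Γ(M, U)) :
    φ.app V (res M h s) = res N h (φ.app U s) :=
  congr($(φ.mapPresheaf.naturality (homOfLE h).op) s)

theorem appLin_res {M N : X.Modules} (φ : M ⟶ N) {V U : X.Opens} (h : V ≤ U) (s : Γ(M, U)) :
    appLin φ V (res M h s) = res N h (appLin φ U s) := app_res φ h s

/-- Sections of a module over the empty open set are unique. -/
theorem subsingleton_sections_of_le_bot (F : X.Modules) {W : X.Opens} (hW : W ≤ ⊥) :
    Subsingleton Γ(F, W) :=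
  ⟨fun s t => res_ext F W (fun _ : PEmpty.{1} => ⊥) (fun i => i.elim) (hW.trans bot_le) s t
    (fun i => i.elim)⟩

/-- Gluing two sections. -/
theorem exists_glue_two (F : X.Modules) (W V₁ V₂ : X.Opens) (h1 : V₁ ≤ W) (h2 : V₂ ≤ W)
    (hcov : W ≤ V₁ ⊔ V₂) (s₁ : Γ(F, V₁)) (s₂ : Γ(F, V₂))
    (hc : res F (inf_le_left : V₁ ⊓ V₂ ≤ V₁) s₁ = res F (inf_le_right : V₁ ⊓ V₂ ≤ V₂) s₂) :
    ∃ s : Γ(F, W), res F h1 s = s₁ ∧ res F h2 s = s₂ := by
  let V : Bool → X.Opens := fun b => cond b V₁ V₂
  have hV : ∀ b, V b ≤ W := fun b => by cases b <;> assumption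
  have hcov' : W ≤ ⨆ b, V b := by
    refine hcov.trans (sup_le ?_ ?_)
    · exact le_iSup V true
    · exact le_iSup V false
  let sf : ∀ b, Γ(F, V b) := fun b => match b with
    | true => s₁
    | false => s₂
  obtain ⟨s, hs⟩ := exists_glue F W V hV hcov' sf (by
    intro i j
    cases i <;> cases j
    · rfl
    · have := congrArg (res F (show V₂ ⊓ V₁ ≤ V₁ ⊓ V₂ from by rw [inf_comm])) hc
      rw [res_res, res_res] at this
      exact this.symm
    · exact hc
    · rfl)
  exact ⟨s, hs true, hs false⟩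

/-- Equality of sections can be checked on a two-element cover. -/
theorem res_ext_two (F : X.Modules) (W V₁ V₂ : X.Opens) (h1 : V₁ ≤ W) (h2 : V₂ ≤ W)
    (hcov : W ≤ V₁ ⊔ V₂) (s t : Γ(F, W)) (e1 : res F h1 s = res F h1 t)
    (e2 : res F h2 s = res F h2 t) : s = t := by
  let V : Bool → X.Opens := fun b => cond b V₁ V₂
  have hV : ∀ b, V b ≤ W := fun b => by cases b <;> assumption
  have hcov' : W ≤ ⨆ b, V b := by
    refine hcov.trans (sup_le ?_ ?_)
    · exact le_iSup V true
    · exact le_iSup V false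
  refine res_ext F W V hV hcov' s t fun b => ?_
  cases b
  · exact e2
  · exact e1

set_option backward.isDefEq.respectTransparency false in
/-- An epimorphism of `O_X`-modules is locally surjective on sections. -/
theorem exists_local_lift_of_epi {M N : X.Modules} (φ : M ⟶ N) [Epi φ] (U : X.Opens)
    (s : Γ(N, U)) (x : X) (hx : x ∈ U) :
    ∃ (V : X.Opens) (hVU : V ≤ U), x ∈ V ∧ ∃ t : Γ(M, V), φ.app V t = res N hVU s := by
  let ψ := (SheafOfModules.toSheaf X.ringCatSheaf).map φ
  have hψ : Epi ψ := Groth.Agent.Lib.ModStalk.epi_toSheaf_map X.ringCatSheaf φ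
  have hls : Sheaf.IsLocallySurjective ψ :=
    (Sheaf.isLocallySurjective_iff_epi' AddCommGrpCat.{u} ψ).mpr inferInstance
  obtain ⟨V, i, ⟨t, ht⟩, hxV⟩ := hls.imageSieve_mem s x hx
  exact ⟨V, i.le, hxV, t, ht⟩


theorem appLin_comp_eq_zero {S : ShortComplex X.Modules} (V : X.Opens) (a : Γ(S.X₁, V)) :
    appLin S.g V (appLin S.f V a) = 0 := by
  have h : (S.f ≫ S.g).app V a = 0 := by rw [S.zero]; rfl
  exact h

set_option backward.isDefEq.respectTransparency false in
/-- For a short exact sequence `0 → F → G → H → 0` of `O_X`-modules with `F` quasi-coherent,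
`G(U) → H(U)` is surjective for every affine open `U`. -/
theorem surjective_appLin_of_shortExact {S : ShortComplex X.Modules} (hS : S.ShortExact)
    [S.X₁.IsQuasicoherent] {U : X.Opens} (hU : IsAffineOpen U) :
    Function.Surjective (appLin S.g U) := by
  intro h
  haveI := hS.epi_g
  haveI := hS.mono_f
  let P : X.Opens → Prop := fun W =>
    ∃ hW : W ≤ U, ∃ g : Γ(S.X₂, W), appLin S.g W g = res S.X₃ hW h
  have key : P U := by
    apply Groth.Agent.Lib.AffVanSections.affine_induction P ?_ ?_ ?_ hU ?_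
    · rintro V W hWV ⟨hV, g, hg⟩
      refine ⟨hWV.trans hV, res S.X₂ hWV g, ?_⟩
      rw [appLin_res, hg, res_res]
    · refine ⟨bot_le, 0, ?_⟩
      haveI := subsingleton_sections_of_le_bot S.X₃ (le_refl (⊥ : X.Opens))
      exact Subsingleton.elim _ _
    · rintro W hWaff g0 h0 hgh ⟨hg, a, ha⟩ ⟨hh, b, hb⟩
      have hsup : X.basicOpen g0 ⊔ X.basicOpen h0 = W :=
        Groth.Agent.Lib.AffVanSections.basicOpen_sup_basicOpen_of_add_eq_one g0 h0 hgh
      have hW : W ≤ U := by rw [← hsup]; exact sup_le hg hh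
      -- the difference on the overlap comes from `F`
      have hd : appLin S.g (X.basicOpen g0 ⊓ X.basicOpen h0)
          (res S.X₂ inf_le_left a - res S.X₂ inf_le_right b) = 0 := by
        rw [map_sub, appLin_res, appLin_res, ha, hb, res_res, res_res, sub_self]
      obtain ⟨t, ht⟩ := (Groth.Agent.Lib.IdealMod.sections_exact hS.exact
        (X.basicOpen g0 ⊓ X.basicOpen h0)).2 _ hd
      obtain ⟨a', b', hab⟩ :=
        Groth.Agent.Lib.AffVanSections.exists_sub_eq_of_add_eq_one S.X₁ hWaff g0 h0 hgh t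
      obtain ⟨s, hs1, hs2⟩ := exists_glue_two S.X₂ W (X.basicOpen g0) (X.basicOpen h0)
        (X.basicOpen_le g0) (X.basicOpen_le h0) hsup.ge
        (a - appLin S.f _ a') (b - appLin S.f _ b') (by
          rw [res_sub, res_sub, ← appLin_res, ← appLin_res, sub_eq_sub_iff_sub_eq_sub, ← map_sub,
            hab]
          exact ht.symm)
      refine ⟨hW, s, ?_⟩
      apply res_ext_two S.X₃ W (X.basicOpen g0) (X.basicOpen h0)
        (X.basicOpen_le g0) (X.basicOpen_le h0) hsup.ge
      · rw [← appLin_res, hs1, map_sub, appLin_comp_eq_zero, sub_zero, ha, res_res]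
      · rw [← appLin_res, hs2, map_sub, appLin_comp_eq_zero, sub_zero, hb, res_res]
    · intro x hx
      obtain ⟨V, hVU, hxV, t, ht⟩ := exists_local_lift_of_epi S.g U h x hx
      exact ⟨V, hxV, hVU, t, ht⟩
  obtain ⟨_, g, hg⟩ := key
  exact ⟨g, by rw [hg, res_self]⟩


set_option backward.isDefEq.respectTransparency false in
/-- The middle term of a short exact sequence with quasi-coherent outer terms is localizing on every
affine open. -/
theorem isLocalizingOn_of_shortExact {S : ShortComplex X.Modules} (hS : S.ShortExact)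
    [S.X₁.IsQuasicoherent] [S.X₃.IsQuasicoherent] {U : X.Opens} (hU : IsAffineOpen U) :
    IsLocalizingOn S.X₂ U := by
  have := hS.epi_g
  have := hS.mono_f
  constructor
  · intro f t
    obtain ⟨n, h, hn⟩ := exists_pow_smul_eq_res S.X₃ hU f (appLin S.g _ t)
    obtain ⟨s, hs⟩ := surjective_appLin_of_shortExact hS hU h
    have he : appLin S.g (X.basicOpen f)
        (resO X (X.basicOpen_le f) f ^ n • t - res S.X₂ (X.basicOpen_le f) s) = 0 := by
      rw [map_sub, _root_.map_smul, hn, appLin_res, hs, sub_self]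
    obtain ⟨a', ha'⟩ := (Groth.Agent.Lib.IdealMod.sections_exact hS.exact (X.basicOpen f)).2 _ he
    obtain ⟨m, a, hm⟩ := exists_pow_smul_eq_res S.X₁ hU f a'
    refine ⟨m + n, appLin S.f U a + f ^ m • s, ?_⟩
    have ha'' : appLin S.f (X.basicOpen f) a' =
        resO X (X.basicOpen_le f) f ^ n • t - res S.X₂ (X.basicOpen_le f) s := ha'
    rw [Groth.Agent.Lib.AffVanSections.res_add, ← appLin_res, ← hm, _root_.map_smul, ha'', res_smul, resO_pow, smul_sub, pow_add,
      mul_smul, sub_add_cancel]
  · intro f s hs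
    have h1 : res S.X₃ (X.basicOpen_le f) (appLin S.g U s) = 0 := by
      rw [← appLin_res, hs, map_zero]
    obtain ⟨n, hn⟩ := exists_pow_smul_eq_zero S.X₃ hU f _ h1
    rw [← _root_.map_smul] at hn
    obtain ⟨a, ha⟩ := (Groth.Agent.Lib.IdealMod.sections_exact hS.exact U).2 _ hn
    have ha' : appLin S.f U a = f ^ n • s := ha
    have h2 : res S.X₁ (X.basicOpen_le f) a = 0 := by
      apply injective_appLin_of_mono S.f
      rw [appLin_res, ha', res_smul, hs, smul_zero, map_zero]
    obtain ⟨m, hm⟩ := exists_pow_smul_eq_zero S.X₁ hU f a h2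
    refine ⟨m + n, ?_⟩
    rw [pow_add, mul_smul, ← ha', ← _root_.map_smul, hm, map_zero]

/-- EXTENSIONS OF QUASI-COHERENT MODULES ARE QUASI-COHERENT. -/
theorem isQuasicoherent_of_shortExact {S : ShortComplex X.Modules} (hS : S.ShortExact)
    [S.X₁.IsQuasicoherent] [S.X₃.IsQuasicoherent] : S.X₂.IsQuasicoherent :=
  (Groth.Agent.Lib.H90OXModPush.isQuasicoherent_iff_forall_isLocalizingOn S.X₂).mpr
    fun U => isLocalizingOn_of_shortExact hS U.2

end Groth.Agent.Lib.H90OXModExt
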