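/-
helper11: quasi-coherent modules on a scheme form a weak Serre subcategory of `X.Modules` (instance for
`WSerre.IsWeakSerre`), from helper90's kernel/cokernel/extension lemmas; also the trivial instance for `⊤`.
-/
import Groth.Agent.Lib.H90OXModExt
import Groth.Prelude.Def_WeakSerre
import Mathlib.Algebra.Category.ModuleCat.Sheaf.LocallyFree

set_option autoImplicit false
universe u
open CategoryTheory CategoryTheory.Limits AlgebraicGeometry
open ZeroObject

namespace Groth.Agent.Lib.QCohWeakSerre11

instance topWS {C : Type*} [Category C] [Abelian C] : WSerre.IsWeakSerre (⊤ : ObjectProperty C) where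
  exists_zero := ⟨0, isZero_zero C, trivial⟩
  kernels_le := fun _ _ => trivial
  cokernels_le := fun _ _ => trivial
  prop_X₂_of_shortExact := fun _ _ _ => trivial

/-- the class of quasi-coherent modules -/
abbrev QC (X : Scheme.{u}) : ObjectProperty X.Modules := fun F => Coh.IsQCoh F

lemma QC_of_iso {X : Scheme.{u}} {F F' : X.Modules} (e : F ≅ F') (h : QC X F) : QC X F' :=
  (SheafOfModules.isQuasicoherent X.ringCatSheaf).prop_of_iso e h

instance qcWS (X : Scheme.{u}) : WSerre.IsWeakSerre (QC X) where
  exists_zero := by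
    refine ⟨0, isZero_zero _, ?_⟩
    have h : QC X (kernel (𝟙 (SheafOfModules.free (R := X.ringCatSheaf) PUnit.{u+1}))) := by
      have : Coh.IsQCoh (X := X)
        (SheafOfModules.free (R := X.ringCatSheaf) PUnit.{u+1}) := inferInstance
      exact Groth.Agent.Lib.H90OXModExact.isQuasicoherent_kernel _
    exact QC_of_iso (IsZero.iso (isZero_kernel_of_mono _) (isZero_zero _)) h
  kernels_le := by
    rintro _ ⟨f, k, hk, ⟨hM, hN⟩⟩
    have : Coh.IsQCoh _ := hM
    have : Coh.IsQCoh _ := hN
    exact QC_of_iso (IsLimit.conePointUniqueUpToIso (kernelIsKernel f) hk)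
      (Groth.Agent.Lib.H90OXModExact.isQuasicoherent_kernel f)
  cokernels_le := by
    rintro _ ⟨f, k, hk, ⟨hM, hN⟩⟩
    have : Coh.IsQCoh _ := hM
    have : Coh.IsQCoh _ := hN
    exact QC_of_iso (IsColimit.coconePointUniqueUpToIso (cokernelIsCokernel f) hk)
      (Groth.Agent.Lib.H90OXModExact.isQuasicoherent_cokernel f)
  prop_X₂_of_shortExact := by
    intro S hS h₁ h₃
    have : Coh.IsQCoh S.X₁ := h₁
    have : Coh.IsQCoh S.X₃ := h₃
    exact Groth.Agent.Lib.H90OXModExt.isQuasicoherent_of_shortExact hS

end Groth.Agent.Lib.QCohWeakSerre11
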