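import Groth.Agent.Lib.ModGen31
import Mathlib.AlgebraicGeometry.AffineScheme

/-!
# Derived limits of truncations in `D(O_X)` for a scheme `X` (helper31)

`isRlimVia_truncTower_of_affine`: for a sheaf of rings `O` on (the opens of) a scheme `X` and
`E : D(Mod O)`, if `H^k(V, H^q E) = 0` for all affine opens `V`, all `q` and all `k > 0`, then
`E` is the derived limit of its truncations `τ_{≥ -n} E`.  (Stated with a variable `O` so that
instance search never sees `X.sheaf`; apply it with `O := X.sheaf`.)
-/

set_option autoImplicit false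

open CategoryTheory CategoryTheory.Limits Opposite AlgebraicGeometry TopologicalSpace

universe w u

namespace Groth.Agent.SchemeGen31

/-- affine opens cover -/
lemma covers_affine (X : Scheme.{u}) :
    Groth.Agent.HomologySheafLocal31.Covers (Opens.grothendieckTopology ↥X)
      {U : X.Opens | IsAffineOpen U} := by
  intro U
  refine ⟨{V : X.Opens // IsAffineOpen V ∧ V ≤ U}, fun V => V.1, fun V => homOfLE V.2.2, ?_,
    fun V => V.2.1⟩
  rw [Opens.mem_grothendieckTopology]
  intro x hx
  obtain ⟨V, hV, hxV, hVU⟩ := Opens.isBasis_iff_nbhd.mp X.isBasis_affineOpens hx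
  exact ⟨V, homOfLE hVU,
    Sieve.ofArrows_mk _ _ (⟨V, hV, hVU⟩ : {V : X.Opens // IsAffineOpen V ∧ V ≤ U}), hxV⟩

theorem isRlimVia_truncTower_of_affine (X : Scheme.{u})
    (O : Sheaf (Opens.grothendieckTopology ↥X) CommRingCat.{u})
    [HasDerivedCategory.{w} (ModSite.Mod O)]
    (E : DerivedCategory (ModSite.Mod O)) [HasProduct (CohCx.truncTower E)]
    (h : ∀ V : X.Opens, IsAffineOpen V → ∀ (q : ℤ) (k : ℕ), 0 < k →
      Subsingleton (CohSite.HU ((Groth.Agent.ModGen31.Γ O).obj
        ((DerivedCategory.homologyFunctor (ModSite.Mod O) q).obj E)) k V)) :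
    CohCx.IsRlimVia (CohCx.truncTower E) (CohCx.truncTowerMap E) E (CohCx.toTruncTower E) := by
  have := Groth.Agent.ModGen31.enoughInjectives O
  exact (Groth.Agent.ModGen31.gen O).isRlimVia_truncTower_of_class
    (Groth.Agent.ModGen31.hacyc O) E {U : X.Opens | IsAffineOpen U} (covers_affine X) (fun _ => 0)
    (fun V hV m k hk => h V hV (m - k) k (by exact_mod_cast hk))

end Groth.Agent.SchemeGen31
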