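import Groth.Agent.Lib.KInjDerived31
import Groth.Agent.Lib.KInjMain31

/-!
# Checking isomorphisms of functors on `D(A)` on K-injective complexes (helper31)
-/

set_option autoImplicit false

open CategoryTheory Limits

namespace Groth.Agent.KInjComp31

section

variable {A : Type*} [Category* A] [Abelian A] [HasDerivedCategory A] {H : Type*} [Category* H]

/-- A natural transformation between functors on `D(A)` is an isomorphism as soon as it is so at
K-injective complexes (if there are enough of them). -/
lemma isIso_natTrans_of_kinj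
    (hKinj : ∀ K : CochainComplex A ℤ, ∃ (I : CochainComplex A ℤ) (f : K ⟶ I),
      I.IsKInjective ∧ QuasiIso f)
    {G₁ G₂ : DerivedCategory A ⥤ H} (τ : G₁ ⟶ G₂)
    (h : ∀ (I : CochainComplex A ℤ), I.IsKInjective →
      IsIso (τ.app (DerivedCategory.Qh.obj ((HomotopyCategory.quotient A (.up ℤ)).obj I)))) :
    IsIso τ := by
  rw [NatTrans.isIso_iff_isIso_app]
  intro K
  obtain ⟨I, f, hI, hf⟩ := hKinj (DerivedCategory.Q.objPreimage K)
  have : IsIso (DerivedCategory.Q.map f) := by
    rw [DerivedCategory.isIso_Q_map_iff_quasiIso]; exact hf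
  let e : K ≅ DerivedCategory.Qh.obj ((HomotopyCategory.quotient A (.up ℤ)).obj I) :=
    (DerivedCategory.Q.objObjPreimageIso K).symm ≪≫ asIso (DerivedCategory.Q.map f) ≪≫
      (DerivedCategory.quotientCompQhIso A).symm.app I
  have h1 := h I hI
  have h2 : τ.app K = G₁.map e.hom ≫ τ.app _ ≫ G₂.map e.inv := by
    rw [τ.naturality_assoc, ← G₂.map_comp, e.hom_inv_id, G₂.map_id, Category.comp_id]
  rw [h2]
  infer_instance

/-- The unit of the total right derived functor is an isomorphism at K-injective complexes. -/
lemma isIso_totalRightDerivedUnit_app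
    (hKinj : ∀ K : CochainComplex A ℤ, ∃ (I : CochainComplex A ℤ) (f : K ⟶ I),
      I.IsKInjective ∧ QuasiIso f)
    (F : HomotopyCategory A (ComplexShape.up ℤ) ⥤ H)
    [F.HasRightDerivedFunctor (HomotopyCategory.quasiIso A (ComplexShape.up ℤ))]
    (I : CochainComplex A ℤ) [I.IsKInjective] :
    IsIso ((F.totalRightDerivedUnit DerivedCategory.Qh
      (HomotopyCategory.quasiIso A (ComplexShape.up ℤ))).app
        ((HomotopyCategory.quotient A (.up ℤ)).obj I)) := by
  have := KInjDerived31.hasPointwiseRightDerivedFunctor F hKinj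
  exact KInjDerived31.isIso_unit_app_of_isKInjective F _ _ I

end

section

variable {V W : Type*} [Category* V] [Preadditive V] [Category* W] [Preadditive W]
  {ι : Type*} (c : ComplexShape ι)

instance isIso_mapHomotopyCategory {F G : V ⥤ W} [F.Additive] [G.Additive] (α : F ⟶ G)
    [IsIso α] : IsIso (NatTrans.mapHomotopyCategory α c) :=
  ⟨⟨NatTrans.mapHomotopyCategory (inv α) c, by
    rw [← NatTrans.mapHomotopyCategory_comp, IsIso.hom_inv_id, NatTrans.mapHomotopyCategory_id],
    by rw [← NatTrans.mapHomotopyCategory_comp, IsIso.inv_hom_id,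
      NatTrans.mapHomotopyCategory_id]⟩⟩

end

end Groth.Agent.KInjComp31
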