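import Groth.Agent.Lib.RDPlus31
import Mathlib.CategoryTheory.Functor.Derived.Adjunction
import Mathlib.CategoryTheory.Functor.Derived.PointwiseLeftDerived

/-!
# Adjunctions on bounded below homotopy categories and derived adjunctions (helper31)
-/

set_option autoImplicit false

open CategoryTheory Limits

namespace Groth.Agent.RDPlus31

section HC

variable {A B : Type*} [Category* A] [Category* B] [Preadditive A] [Preadditive B]
  {L : A ⥤ B} {R : B ⥤ A} [L.Additive] [R.Additive] (adj : L ⊣ R)
  {ι : Type*} (c : ComplexShape ι)

/-- The adjunction on categories of homological complexes induced by an adjunction of additive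
functors. -/
@[simps! unit_app_f counit_app_f]
def adjHC : L.mapHomologicalComplex c ⊣ R.mapHomologicalComplex c :=
    { unit :=
        { app := fun K =>
            { f := fun i => adj.unit.app (K.X i)
              comm' := fun i j _ => (adj.unit.naturality (K.d i j)).symm }
          naturality := fun K K' f => by ext i; exact adj.unit.naturality (f.f i) }
      counit :=
        { app := fun K =>
            { f := fun i => adj.counit.app (K.X i)
              comm' := fun i j _ => (adj.counit.naturality (K.d i j)).symm }
          naturality := fun K K' f => by ext i; exact adj.counit.naturality (f.f i) }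
      left_triangle_components := fun K => by
        ext i
        dsimp
        exact adj.left_triangle_components (K.X i)
      right_triangle_components := fun K => by
        ext i
        dsimp
        exact adj.right_triangle_components (K.X i) }

end HC

section HCP

variable {A B : Type*} [Category* A] [Category* B] [Preadditive A] [Preadditive B]
  {L : A ⥤ B} {R : B ⥤ A} [L.Additive] [R.Additive] (adj : L ⊣ R)

/-- The unit of `adjHCP`. -/
def adjHCPUnit : 𝟭 (HomotopyCategory.Plus A) ⟶ L.mapHomotopyCategoryPlus ⋙ R.mapHomotopyCategoryPlus where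
  app X := ObjectProperty.homMk ((HomotopyCategory.quotient A (.up ℤ)).map
    ((adjHC adj (.up ℤ)).unit.app X.obj.as))
  naturality X Y f := by
    obtain ⟨f₀, hf₀⟩ := (HomotopyCategory.quotient A (.up ℤ)).map_surjective f.hom
    have hf : f = ObjectProperty.homMk ((HomotopyCategory.quotient A (.up ℤ)).map f₀) := by
      ext; exact hf₀.symm
    subst hf
    ext
    exact congrArg (HomotopyCategory.quotient A (.up ℤ)).map
      ((adjHC adj (.up ℤ)).unit.naturality f₀)

/-- The counit of `adjHCP`. -/
def adjHCPCounit : R.mapHomotopyCategoryPlus ⋙ L.mapHomotopyCategoryPlus ⟶ 𝟭 (HomotopyCategory.Plus B) where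
  app X := ObjectProperty.homMk ((HomotopyCategory.quotient B (.up ℤ)).map
    ((adjHC adj (.up ℤ)).counit.app X.obj.as))
  naturality X Y f := by
    obtain ⟨f₀, hf₀⟩ := (HomotopyCategory.quotient B (.up ℤ)).map_surjective f.hom
    have hf : f = ObjectProperty.homMk ((HomotopyCategory.quotient B (.up ℤ)).map f₀) := by
      ext; exact hf₀.symm
    subst hf
    ext
    exact congrArg (HomotopyCategory.quotient B (.up ℤ)).map
      ((adjHC adj (.up ℤ)).counit.naturality f₀)

/-- The adjunction on bounded below homotopy categories induced by an adjunction of additive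
functors. -/
def adjHCP : L.mapHomotopyCategoryPlus ⊣ R.mapHomotopyCategoryPlus where
  unit := adjHCPUnit adj
  counit := adjHCPCounit adj
  left_triangle_components X := by
    ext
    refine (congrArg (HomotopyCategory.quotient B (.up ℤ)).map
      ((adjHC adj (.up ℤ)).left_triangle_components X.obj.as)).trans ?_
    exact (HomotopyCategory.quotient B (.up ℤ)).map_id _
  right_triangle_components X := by
    ext
    refine (congrArg (HomotopyCategory.quotient A (.up ℤ)).map
      ((adjHC adj (.up ℤ)).right_triangle_components X.obj.as)).trans ?_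
    exact (HomotopyCategory.quotient A (.up ℤ)).map_id _

end HCP

section Exact

variable {A B : Type*} [Category* A] [Category* B] [Abelian A] [Abelian B]
  [HasDerivedCategory A] [HasDerivedCategory B]
  (L : A ⥤ B) [L.Additive] [PreservesFiniteLimits L] [PreservesFiniteColimits L]

omit [HasDerivedCategory A] [HasDerivedCategory B] in
/-- An exact functor preserves quasi-isomorphisms on `K⁺`. -/
lemma quasiIso_mapHomotopyCategoryPlus_map {X Y : HomotopyCategory.Plus A} (f : X ⟶ Y)
    (hf : HomotopyCategory.Plus.quasiIso A f) :
    HomotopyCategory.Plus.quasiIso B (L.mapHomotopyCategoryPlus.map f) := by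
  obtain ⟨f₀, hf₀⟩ := (HomotopyCategory.quotient A (.up ℤ)).map_surjective f.hom
  have hf' : f = ObjectProperty.homMk ((HomotopyCategory.quotient A (.up ℤ)).map f₀) := by
    ext; exact hf₀.symm
  subst hf'
  have h : QuasiIso f₀ := (HomologicalComplex.mem_quasiIso_iff f₀).1
    ((HomotopyCategory.quotient_map_mem_quasiIso_iff f₀).1 hf)
  have h' : QuasiIso ((L.mapHomologicalComplex (.up ℤ)).map f₀) := inferInstance
  exact (HomotopyCategory.quotient_map_mem_quasiIso_iff
    ((L.mapHomologicalComplex (.up ℤ)).map f₀)).2 ((HomologicalComplex.mem_quasiIso_iff _).2 h')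

omit [HasDerivedCategory A] in
lemma isInvertedBy_of_exact :
    (HomotopyCategory.Plus.quasiIso A).IsInvertedBy
      (L.mapHomotopyCategoryPlus ⋙ DerivedCategory.Plus.Qh) := fun _ _ f hf =>
  Localization.inverts DerivedCategory.Plus.Qh (HomotopyCategory.Plus.quasiIso B) _
    (quasiIso_mapHomotopyCategoryPlus_map L f hf)

end Exact

section DerivedAdj

variable {A B : Type*} [Category* A] [Category* B] [Abelian A] [Abelian B]
  [HasDerivedCategory A] [HasDerivedCategory B] [EnoughInjectives A] [EnoughInjectives B]
  {L : A ⥤ B} {R : B ⥤ A} (adj : L ⊣ R) [L.Additive] [R.Additive]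
  [PreservesFiniteLimits L] [PreservesFiniteColimits L]

include adj in
/-- If `L ⊣ R` with `L` exact, then `R⁺L ⊣ R⁺R` on bounded below derived categories. -/
theorem nonempty_derivedAdjunction :
    Nonempty (L.rightDerivedFunctorPlus ⊣ R.rightDerivedFunctorPlus) := by
  have hL := isInvertedBy_of_exact L
  have : IsIso L.rightDerivedFunctorPlusUnit :=
    Functor.isIso_of_isRightDerivedFunctor_of_inverts _ _ hL
  let e : DerivedCategory.Plus.Qh ⋙ L.rightDerivedFunctorPlus ≅
      L.mapHomotopyCategoryPlus ⋙ DerivedCategory.Plus.Qh :=
    (asIso L.rightDerivedFunctorPlusUnit).symm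
  have : L.rightDerivedFunctorPlus.IsLeftDerivedFunctor e.hom
      (HomotopyCategory.Plus.quasiIso A) :=
    Functor.isLeftDerivedFunctor_of_inverts _ _ e
  have : (L.rightDerivedFunctorPlus ⋙ R.rightDerivedFunctorPlus).IsLeftDerivedFunctor
      ((Functor.associator _ _ _).inv ≫ Functor.whiskerRight e.hom R.rightDerivedFunctorPlus)
      (HomotopyCategory.Plus.quasiIso A) :=
    Functor.isLeftDerivedFunctor_of_inverts _ _
      ((Functor.associator _ _ _).symm ≪≫ Functor.isoWhiskerRight e R.rightDerivedFunctorPlus)
  have : (R.rightDerivedFunctorPlus ⋙ L.rightDerivedFunctorPlus).IsRightDerivedFunctor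
      (Functor.whiskerRight R.rightDerivedFunctorPlusUnit L.rightDerivedFunctorPlus ≫
        (Functor.associator _ _ _).hom)
      (HomotopyCategory.Plus.quasiIso B) := by
    refine (HomotopyCategory.Plus.localizerMorphism_derives _).isRightDerivedFunctor_of_isIso _
      (fun X₁ => ?_)
    dsimp
    infer_instance
  exact ⟨(adjHCP adj).derived (HomotopyCategory.Plus.quasiIso A)
    (HomotopyCategory.Plus.quasiIso B) e.hom R.rightDerivedFunctorPlusUnit⟩

end DerivedAdj

end Groth.Agent.RDPlus31
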