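/-
helper66: derived adjunction on UNBOUNDED derived categories.  For an adjunction `L ⊣ R` of additive functors
between abelian categories with `L` exact, and enough K-injective complexes in the source of `R`, the functor
`L.mapDerivedCategory` is left adjoint to the total right derived functor of `R` (defined through the
homotopy category, under its existence binder).
Uses helper31's K-injective libraries (pointwise right derived functors at K-injectives).
-/
import Groth.Agent.Lib.KInjComp31
import Groth.Agent.Lib.RDPlusAdj31
import Mathlib.CategoryTheory.Functor.Derived.Adjunction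
import Mathlib.Algebra.Homology.DerivedCategory.ExactFunctor

set_option autoImplicit false

open CategoryTheory Limits

namespace Groth.Agent.Lib.DerivedAdj66

section HC

variable {A B : Type*} [Category* A] [Category* B] [Preadditive A] [Preadditive B]
  {L : A ⥤ B} {R : B ⥤ A} [L.Additive] [R.Additive] (adj : L ⊣ R)
  {ι : Type*} (c : ComplexShape ι)

/-- The unit of `adjH`. -/
def adjHUnit : 𝟭 (HomotopyCategory A c) ⟶ L.mapHomotopyCategory c ⋙ R.mapHomotopyCategory c where
  app X := (HomotopyCategory.quotient A c).map
    ((Groth.Agent.RDPlus31.adjHC adj c).unit.app X.as)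
  naturality X Y f := by
    obtain ⟨X, rfl⟩ := HomotopyCategory.quotient_obj_surjective X
    obtain ⟨Y, rfl⟩ := HomotopyCategory.quotient_obj_surjective Y
    obtain ⟨f₀, rfl⟩ := (HomotopyCategory.quotient A c).map_surjective f
    exact congrArg (HomotopyCategory.quotient A c).map
      ((Groth.Agent.RDPlus31.adjHC adj c).unit.naturality f₀)

/-- The counit of `adjH`. -/
def adjHCounit : R.mapHomotopyCategory c ⋙ L.mapHomotopyCategory c ⟶ 𝟭 (HomotopyCategory B c) where
  app X := (HomotopyCategory.quotient B c).map
    ((Groth.Agent.RDPlus31.adjHC adj c).counit.app X.as)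
  naturality X Y f := by
    obtain ⟨X, rfl⟩ := HomotopyCategory.quotient_obj_surjective X
    obtain ⟨Y, rfl⟩ := HomotopyCategory.quotient_obj_surjective Y
    obtain ⟨f₀, rfl⟩ := (HomotopyCategory.quotient B c).map_surjective f
    exact congrArg (HomotopyCategory.quotient B c).map
      ((Groth.Agent.RDPlus31.adjHC adj c).counit.naturality f₀)

/-- The adjunction on homotopy categories induced by an adjunction of additive functors. -/
def adjH : L.mapHomotopyCategory c ⊣ R.mapHomotopyCategory c where
  unit := adjHUnit adj c
  counit := adjHCounit adj c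
  left_triangle_components X := by
    obtain ⟨X, rfl⟩ := HomotopyCategory.quotient_obj_surjective X
    refine (congrArg (HomotopyCategory.quotient B c).map
      ((Groth.Agent.RDPlus31.adjHC adj c).left_triangle_components X)).trans ?_
    exact (HomotopyCategory.quotient B c).map_id _
  right_triangle_components X := by
    obtain ⟨X, rfl⟩ := HomotopyCategory.quotient_obj_surjective X
    refine (congrArg (HomotopyCategory.quotient A c).map
      ((Groth.Agent.RDPlus31.adjHC adj c).right_triangle_components X)).trans ?_
    exact (HomotopyCategory.quotient A c).map_id _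

end HC

section DerivedAdj

variable {A B : Type*} [Category* A] [Category* B] [Abelian A] [Abelian B]
  [HasDerivedCategory A] [HasDerivedCategory B]
  {L : A ⥤ B} {R : B ⥤ A} (adj : L ⊣ R) [L.Additive] [R.Additive]
  [PreservesFiniteLimits L] [PreservesFiniteColimits L]
  (hKinj : ∀ K : CochainComplex B ℤ, ∃ (I : CochainComplex B ℤ) (f : K ⟶ I),
    I.IsKInjective ∧ QuasiIso f)
  [(R.mapHomotopyCategory (ComplexShape.up ℤ) ⋙ DerivedCategory.Qh).HasRightDerivedFunctor
    (HomotopyCategory.quasiIso B (ComplexShape.up ℤ))]

/-- the total right derived functor of `R` on unbounded derived categories -/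
noncomputable abbrev RR : DerivedCategory B ⥤ DerivedCategory A :=
  (R.mapHomotopyCategory (ComplexShape.up ℤ) ⋙ DerivedCategory.Qh).totalRightDerived
    DerivedCategory.Qh (HomotopyCategory.quasiIso B (ComplexShape.up ℤ))

/-- its unit -/
noncomputable abbrev RRunit :
    R.mapHomotopyCategory (ComplexShape.up ℤ) ⋙ DerivedCategory.Qh ⟶
      DerivedCategory.Qh ⋙ RR (R := R) :=
  (R.mapHomotopyCategory (ComplexShape.up ℤ) ⋙ DerivedCategory.Qh).totalRightDerivedUnit
    DerivedCategory.Qh (HomotopyCategory.quasiIso B (ComplexShape.up ℤ))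

include hKinj in
lemma isRightDerivedFunctor_comp :
    (RR (R := R) ⋙ L.mapDerivedCategory).IsRightDerivedFunctor
      (Functor.whiskerRight (RRunit (R := R)) L.mapDerivedCategory ≫
        (Functor.associator _ _ _).hom)
      (HomotopyCategory.quasiIso B (ComplexShape.up ℤ)) := by
  let Φ : HomotopyCategory B (ComplexShape.up ℤ) ⥤ DerivedCategory B :=
    (R.mapHomotopyCategory (ComplexShape.up ℤ) ⋙ DerivedCategory.Qh) ⋙ L.mapDerivedCategory
  have hΦ := Groth.Agent.KInjDerived31.hasPointwiseRightDerivedFunctor Φ hKinj
  have : Φ.HasRightDerivedFunctor (HomotopyCategory.quasiIso B (ComplexShape.up ℤ)) :=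
    inferInstance
  let RΦ := Φ.totalRightDerived DerivedCategory.Qh
    (HomotopyCategory.quasiIso B (ComplexShape.up ℤ))
  let u := Φ.totalRightDerivedUnit DerivedCategory.Qh
    (HomotopyCategory.quasiIso B (ComplexShape.up ℤ))
  rw [Functor.isRightDerivedFunctor_iff_isIso_rightDerivedDesc RΦ u
    (HomotopyCategory.quasiIso B (ComplexShape.up ℤ))]
  apply Groth.Agent.KInjComp31.isIso_natTrans_of_kinj hKinj
  intro I hI
  have h1 := RΦ.rightDerived_fac_app u (HomotopyCategory.quasiIso B (ComplexShape.up ℤ))
    (RR (R := R) ⋙ L.mapDerivedCategory)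
    (Functor.whiskerRight (RRunit (R := R)) L.mapDerivedCategory ≫
      (Functor.associator _ _ _).hom) ((HomotopyCategory.quotient B (.up ℤ)).obj I)
  have h2 : IsIso (u.app ((HomotopyCategory.quotient B (.up ℤ)).obj I)) :=
    Groth.Agent.KInjDerived31.isIso_unit_app_of_isKInjective Φ RΦ u I
  have h3 : IsIso ((RRunit (R := R)).app ((HomotopyCategory.quotient B (.up ℤ)).obj I)) :=
    Groth.Agent.KInjComp31.isIso_totalRightDerivedUnit_app hKinj _ I
  have h4 : IsIso ((Functor.whiskerRight (RRunit (R := R)) L.mapDerivedCategory ≫
      (Functor.associator _ _ _).hom).app ((HomotopyCategory.quotient B (.up ℤ)).obj I)) := by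
    dsimp
    infer_instance
  rw [← h1] at h4
  exact IsIso.of_isIso_comp_left (u.app ((HomotopyCategory.quotient B (.up ℤ)).obj I)) _

include adj hKinj in
/-- If `L ⊣ R` with `L` exact and there are enough K-injectives, then `L ⊣ RR` on unbounded derived
categories. -/
theorem nonempty_derivedAdjunction : Nonempty (L.mapDerivedCategory ⊣ RR (R := R)) := by
  let e : DerivedCategory.Qh ⋙ L.mapDerivedCategory ≅
      L.mapHomotopyCategory (ComplexShape.up ℤ) ⋙ DerivedCategory.Qh :=
    L.mapDerivedCategoryFactorsh
  have : L.mapDerivedCategory.IsLeftDerivedFunctor e.hom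
      (HomotopyCategory.quasiIso A (ComplexShape.up ℤ)) :=
    Functor.isLeftDerivedFunctor_of_inverts _ _ e
  have : (L.mapDerivedCategory ⋙ RR (R := R)).IsLeftDerivedFunctor
      ((Functor.associator _ _ _).inv ≫ Functor.whiskerRight e.hom (RR (R := R)))
      (HomotopyCategory.quasiIso A (ComplexShape.up ℤ)) :=
    Functor.isLeftDerivedFunctor_of_inverts _ _
      ((Functor.associator _ _ _).symm ≪≫ Functor.isoWhiskerRight e (RR (R := R)))
  have := isRightDerivedFunctor_comp (L := L) (R := R) hKinj
  exact ⟨(adjH adj (ComplexShape.up ℤ)).derived (HomotopyCategory.quasiIso A (ComplexShape.up ℤ))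
    (HomotopyCategory.quasiIso B (ComplexShape.up ℤ)) e.hom (RRunit (R := R))⟩

end DerivedAdj

end Groth.Agent.Lib.DerivedAdj66
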