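/-
helper11: the derived adjunction `tilde.mapDerivedCategory ⊣ RΓ` between `D(R)` and `D(O_{Spec R})`
(unbounded), via helper66's `DerivedAdj66` and helper31's K-injective resolutions.
-/
import Groth.Agent.Lib.DerivedAdj66
import Groth.Agent.Lib.KInjMain31
import Groth.Agent.S0484
import Mathlib.AlgebraicGeometry.Modules.Tilde

set_option autoImplicit false
universe u
open CategoryTheory CategoryTheory.Limits AlgebraicGeometry

namespace Groth.Agent.Lib.TildeDAdj11

attribute [local instance] HasDerivedCategory.standard

variable (R : CommRingCat.{u})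

instance : IsGrothendieckAbelian.{u} (Spec R).Modules :=
  Groth.Agent.S0484.result _ (Spec R).ringCatSheaf

lemma hKinj : ∀ K : CochainComplex (Spec R).Modules ℤ, ∃ (I : CochainComplex (Spec R).Modules ℤ)
    (g : K ⟶ I), I.IsKInjective ∧ QuasiIso g := fun K => by
  obtain ⟨I, g, hI, hg, -, -⟩ := Groth.Agent.KInjMain31.exists_kinjective_resolution K
  exact ⟨I, g, hI, hg⟩

/-- global sections, as a functor from `(Spec R).Modules` (rather than `(Spec (.of R)).Modules`) -/
noncomputable def Γf : (Spec R).Modules ⥤ ModuleCat.{u} R := moduleSpecΓFunctor (R := R)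

/-- the tilde-Γ adjunction -/
noncomputable def tadj : tilde.functor R ⊣ Γf R := tilde.adjunction (R := R)

instance : IsIso (tadj R).unit := inferInstanceAs (IsIso (tilde.adjunction (R := R)).unit)

instance : (Γf R).Additive := (tadj R).right_adjoint_additive

instance : ((Γf R).mapHomotopyCategory (ComplexShape.up ℤ) ⋙
    DerivedCategory.Qh).HasRightDerivedFunctor
    (HomotopyCategory.quasiIso (Spec R).Modules (ComplexShape.up ℤ)) := by
  have := Groth.Agent.KInjDerived31.hasPointwiseRightDerivedFunctor
    ((Γf R).mapHomotopyCategory (ComplexShape.up ℤ) ⋙ DerivedCategory.Qh) (hKinj R)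
  infer_instance

variable [PreservesFiniteLimits (tilde.functor R)]

/-- the total right derived functor of global sections -/
noncomputable def RΓ : DerivedCategory (Spec R).Modules ⥤ DerivedCategory (ModuleCat.{u} R) :=
  Groth.Agent.Lib.DerivedAdj66.RR (R := Γf R)

noncomputable def adj : (tilde.functor R).mapDerivedCategory ⊣ RΓ R :=
  (Groth.Agent.Lib.DerivedAdj66.nonempty_derivedAdjunction (tadj R) (hKinj R)).some

end Groth.Agent.Lib.TildeDAdj11
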