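/-
helper11: keystone ModSiteTensor, part A.  The free module `ModSite.freeOn O X = j_{X!} O_X` corepresents the functor of
sections over `X`: `(freeOn O X ⟶ M) ≃ M(X)`, naturally in `M`.
-/
import Groth.Prelude.Def_ModSite

universe u
open CategoryTheory Opposite Limits

namespace Groth.Agent.Lib.ModSiteFreeOn

section Sections

variable {K : Type*} [Category K] (F : K ⥤ Type*) {X : K} (hX : IsInitial X)

/-- sections of a type-valued functor on a category with an initial object are its values there -/
def sectionsEquivOfIsInitial : F.sections ≃ F.obj X where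
  toFun s := s.1 X
  invFun x := ⟨fun Y => F.map (hX.to Y) x, fun {Y Z} f => by
    refine (Functor.map_comp_apply F (hX.to Y) f x).symm.trans ?_
    rw [hX.hom_ext (hX.to Y ≫ f) (hX.to Z)]⟩
  left_inv s := by
    ext Y
    exact s.2 (hX.to Y)
  right_inv x := by
    change F.map (hX.to X) x = x
    rw [hX.hom_ext (hX.to X) (𝟙 X)]
    exact Functor.map_id_apply F X x

end Sections

variable {C : Type u} [SmallCategory C] {J : GrothendieckTopology C} (O : Sheaf J CommRingCat.{u})

/-- the functor of sections over `X` -/
noncomputable def evalFunctor (X : C) : ModSite.Mod O ⥤ Type u where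
  obj M := M.val.obj (op X)
  map f := ↾(fun x => f.val.app (op X) x)

/-- the initial object `id_X` of `(Over X)ᵒᵖ` -/
noncomputable def isInitialOp (X : C) : IsInitial (op (Over.mk (𝟙 X))) :=
  initialOpOfTerminal Over.mkIdTerminal

/-- `(freeOn O X ⟶ M) ≃ M(X)` -/
noncomputable def freeOnHomEquiv (X : C) (M : ModSite.Mod O) :
    (ModSite.freeOn O X ⟶ M) ≃ M.val.obj (op X) :=
  ((ModSite.extZeroAdj O X).homEquiv _ _).trans
    ((SheafOfModules.unitHomEquiv ((ModSite.restr O X).obj M)).trans
      (sectionsEquivOfIsInitial _ (isInitialOp X)))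

lemma freeOnHomEquiv_apply (X : C) {M : ModSite.Mod O} (g : ModSite.freeOn O X ⟶ M) :
    freeOnHomEquiv O X M g =
      ((SheafOfModules.unitHomEquiv ((ModSite.restr O X).obj M))
        ((ModSite.extZeroAdj O X).homEquiv _ _ g)).1 (op (Over.mk (𝟙 X))) := rfl

lemma freeOnHomEquiv_comp (X : C) {M N : ModSite.Mod O} (g : ModSite.freeOn O X ⟶ M) (f : M ⟶ N) :
    freeOnHomEquiv O X N (g ≫ f) = f.val.app (op X) (freeOnHomEquiv O X M g) := by
  rw [freeOnHomEquiv_apply, freeOnHomEquiv_apply, Adjunction.homEquiv_naturality_right]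
  erw [SheafOfModules.unitHomEquiv_comp_apply]
  rfl

/-- `freeOn O X` corepresents sections over `X` -/
noncomputable def freeOnCorep (X : C) : (evalFunctor O X).CorepresentableBy (ModSite.freeOn O X) where
  homEquiv {M} := freeOnHomEquiv O X M
  homEquiv_comp {M N} f g := freeOnHomEquiv_comp O X g f

end Groth.Agent.Lib.ModSiteFreeOn
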