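/-
helper11: on a ringed site with a terminal object `T`, the free module `j_{T!} O_T` is the structure sheaf
`SheafOfModules.unit` (both corepresent sections over `T`).
-/
import Groth.Agent.Lib.ModSiteFreeOn

universe u
open CategoryTheory Opposite Limits

namespace Groth.Agent.Lib.FreeOnTerminal11

open Groth.Agent.Lib.ModSiteFreeOn

variable {C : Type u} [SmallCategory C] {J : GrothendieckTopology C} (O : Sheaf J CommRingCat.{u})
  {T : C} (hT : IsTerminal T)

/-- `(unit ⟶ M) ≃ M(T)` -/
noncomputable def unitHomEquiv (M : ModSite.Mod O) :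
    (SheafOfModules.unit (ModSite.ringSh O) ⟶ M) ≃ M.val.obj (op T) :=
  (SheafOfModules.unitHomEquiv M).trans (sectionsEquivOfIsInitial _ (initialOpOfTerminal hT))

lemma unitHomEquiv_comp {M N : ModSite.Mod O} (g : SheafOfModules.unit (ModSite.ringSh O) ⟶ M)
    (f : M ⟶ N) :
    unitHomEquiv O hT N (g ≫ f) = f.val.app (op T) (unitHomEquiv O hT M g) := rfl

/-- the unit module corepresents sections over a terminal object -/
noncomputable def unitCorep :
    (evalFunctor O T).CorepresentableBy (SheafOfModules.unit (ModSite.ringSh O)) where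
  homEquiv {M} := unitHomEquiv O hT M
  homEquiv_comp {M N} f g := unitHomEquiv_comp O hT g f

/-- `j_{T!} O_T ≅ O` for a terminal object `T` -/
noncomputable def freeOnIsoUnit : ModSite.freeOn O T ≅ SheafOfModules.unit (ModSite.ringSh O) :=
  (freeOnCorep O T).uniqueUpToIso (unitCorep O hT)

end Groth.Agent.Lib.FreeOnTerminal11
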