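import Groth.Agent.Lib.CechAcyc3
import Groth.Agent.Lib.SheafEpi
import Mathlib.CategoryTheory.Sites.EpiMono

/-!
# Cartan-type criterion: Čech-acyclic for all epimorphisms implies totally acyclic (helper95)
-/

universe u

open CategoryTheory Limits Opposite Abelian AlgebraicTopology Simplicial

set_option linter.unusedSectionVars false

namespace Groth.Agent.Lib.CechAcyc4

open Groth.Agent.Lib.CechAcyc1 Groth.Agent.Lib.CechAcyc2 Groth.Agent.Lib.CechAcyc3

variable {C : Type u} [SmallCategory C] {J : GrothendieckTopology C}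

/-- `F` is Čech-acyclic with respect to every epimorphism of sheaves of sets. -/
def CechAcyclic (F : Sheaf J AddCommGrpCat.{u}) : Prop :=
  ∀ (K' K : Sheaf J (Type u)) (f : K' ⟶ K), Epi f → ∀ n, HomExactAt (R f) F n

/-- the free-forgetful adjunction between sheaves of sets and abelian sheaves -/
noncomputable abbrev adj : T J ⊣ sheafCompose J (forget AddCommGrpCat.{u}) :=
  Sheaf.adjunction J AddCommGrpCat.adj

/-- for an epi `p : I ⟶ Q` of abelian sheaves, every `φ : ℤ[K] ⟶ Q` lifts to `I` after
restriction along an epimorphism `K' ⟶ K` of sheaves of sets. -/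
lemma exists_epi_lift {I Q : Sheaf J AddCommGrpCat.{u}} (p : I ⟶ Q) [Epi p]
    {K : Sheaf J (Type u)} (φ : (T J).obj K ⟶ Q) :
    ∃ (K' : Sheaf J (Type u)) (f : K' ⟶ K) (_ : Epi f) (t : (T J).obj K' ⟶ I),
      t ≫ p = (T J).map f ≫ φ := by
  have h1 : Sheaf.IsLocallySurjective p := (Sheaf.isLocallySurjective_iff_epi' _ p).2 inferInstance
  have h2 : Epi ((sheafCompose J (forget AddCommGrpCat.{u})).map p) := inferInstance
  let s := (adj (J := J)).homEquiv K Q φ
  let K' := pullback s ((sheafCompose J (forget AddCommGrpCat.{u})).map p)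
  have hf : Epi (pullback.fst s ((sheafCompose J (forget AddCommGrpCat.{u})).map p)) :=
    Groth.Agent.Lib.SheafEpi.epi_of_isPullback J
      (IsPullback.of_hasPullback s ((sheafCompose J (forget AddCommGrpCat.{u})).map p))
  refine ⟨K', pullback.fst _ _, hf, ((adj (J := J)).homEquiv K' I).symm (pullback.snd _ _), ?_⟩
  apply ((adj (J := J)).homEquiv K' Q).injective
  rw [Adjunction.homEquiv_naturality_right, Equiv.apply_symm_apply,
    Adjunction.homEquiv_naturality_left]
  exact pullback.condition.symm

/-- a Čech-acyclic sheaf has `H^1(K, F) = 0` for all sheaves of sets `K`. -/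
lemma subsingleton_ext_one_of_cechAcyclic (F : Sheaf J AddCommGrpCat.{u}) (hF : CechAcyclic F)
    (K : Sheaf J (Type u)) : Subsingleton (Ext ((T J).obj K) F 1) := by
  refine subsingleton_ext_one (injSC_shortExact F) ((T J).obj K) (fun φ => ?_)
  have hepi : Epi (injSC F).g := (injSC_shortExact F).epi_g
  obtain ⟨K', f, hf, t, ht⟩ := exists_epi_lift (injSC F).g φ
  refine exists_lift_of_homExactAt_zero (R := R f) (injSC_shortExact F) ((π f).f 0)
    (d_comp_f_zero (π f)) (isColimitCokernelCofork (π f)) (hF K' K f hf 0) φ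
    ((T J).map (WidePullback.π (fun _ : Fin (0 + 1) => f) 0) ≫ t) ?_
  have h2 : (π f).f 0 = (T J).map (WidePullback.base (fun _ : Fin (0 + 1) => f)) := by
    rw [π, AlternatingFaceMapComplex.ε_app_f_zero]
    dsimp [SimplicialObject.Augmented.whiskering, SimplicialObject.Augmented.whiskeringObj]
    exact Category.comp_id _
  rw [Category.assoc, ht, ← Category.assoc, ← Functor.map_comp, h2, WidePullback.π_arrow]
  rfl

/-- the quotient `I(F)/F` of a Čech-acyclic sheaf is Čech-acyclic. -/
lemma cechAcyclic_quotient (F : Sheaf J AddCommGrpCat.{u}) (hF : CechAcyclic F) :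
    CechAcyclic (injSC F).X₃ := by
  intro K' K f hf n
  exact homExactAt_quotient (exactAt_R f) (injSC_shortExact F) n (hF K' K f hf (n + 1))
    (subsingleton_ext_one_of_cechAcyclic F hF _)

/-- **Cartan-type criterion** (S12106): Čech-acyclic for all epimorphisms of sheaves of sets implies
totally acyclic. -/
theorem subsingleton_ext_of_cechAcyclic (p : ℕ) :
    ∀ (F : Sheaf J AddCommGrpCat.{u}), CechAcyclic F →
      ∀ K : Sheaf J (Type u), Subsingleton (Ext ((T J).obj K) F (p + 1)) := by
  induction p with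
  | zero => exact fun F hF K => subsingleton_ext_one_of_cechAcyclic F hF K
  | succ p ih =>
    intro F hF K
    exact subsingleton_ext_succ_succ (injSC_shortExact F) ((T J).obj K) p
      (ih _ (cechAcyclic_quotient F hF) K)

theorem isTotallyAcyclic_of_cechAcyclic (F : Sheaf J AddCommGrpCat.{u}) (hF : CechAcyclic F) :
    CohCx.IsTotallyAcyclic F :=
  fun K p => subsingleton_ext_of_cechAcyclic p F hF K

lemma cechAcyclic_of_isZero_homology (F : Sheaf J AddCommGrpCat.{u})
    (h : ∀ (K' K : Sheaf J (Type u)) (f : K' ⟶ K), Epi f →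
      ∀ q : ℕ, IsZero ((CohCx.cechNerveCx F f).homology (q + 1))) : CechAcyclic F :=
  fun K' K f hf n => (isZero_homology_cechNerveCx_iff f F n).1 (h K' K f hf n)

lemma cechAcyclic_of_isTotallyAcyclic (F : Sheaf J AddCommGrpCat.{u})
    (hF : CohCx.IsTotallyAcyclic F) : CechAcyclic F :=
  fun _ _ f _ n => homExactAt_of_isTotallyAcyclic f F hF n

end Groth.Agent.Lib.CechAcyc4
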