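import Groth.Agent.Lib.ModFreeRes
import Groth.Agent.Lib.CechAcyc4
import Mathlib.CategoryTheory.Adjunction.Restrict

/-!
# Injective sheaves of modules are totally acyclic as abelian sheaves (helper95)
-/

open CategoryTheory Limits Opposite Simplicial AlgebraicTopology

set_option linter.unusedSectionVars false

namespace Groth.Agent.Lib.ModAcyc

open Groth.Agent.Lib.CechNerveFunctor Groth.Agent.Lib.AugQuasiIso Groth.Agent.Lib.CechFreeRes
  Groth.Agent.Lib.ModFreeRes Groth.Agent.Lib.CechAcyc1 Groth.Agent.Lib.CechAcyc2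
  Groth.Agent.Lib.CechAcyc3 Groth.Agent.Lib.CechAcyc4

universe u

section Abstract

variable {𝒮 𝒜 ℬ : Type*} [Category* 𝒮] [Category* 𝒜] [Category* ℬ]
  {T : 𝒮 ⥤ 𝒜} {G : 𝒜 ⥤ 𝒮} (adjT : T ⊣ G) {L : 𝒮 ⥤ ℬ} {U : ℬ ⥤ 𝒜} (adjL : L ⊣ U ⋙ G)

/-- the comparison `T ⟶ L ⋙ U` between two free functors -/
def mate : T ⟶ L ⋙ U where
  app K := (adjT.homEquiv K (U.obj (L.obj K))).symm (adjL.unit.app K)
  naturality K K' g := by
    have h1 := adjT.homEquiv_naturality_left_symm g (adjL.unit.app K')
    have h2 := adjT.homEquiv_naturality_right_symm (adjL.unit.app K) (U.map (L.map g))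
    have h3 : g ≫ adjL.unit.app K' = adjL.unit.app K ≫ G.map (U.map (L.map g)) :=
      adjL.unit.naturality g
    exact h1.symm.trans ((congrArg _ h3).trans h2)

lemma bijective_mate_comp (K : 𝒮) (I : ℬ) :
    Function.Bijective (fun φ : L.obj K ⟶ I => (mate adjT adjL).app K ≫ U.map φ) := by
  have e : (fun φ : L.obj K ⟶ I => (mate adjT adjL).app K ≫ U.map φ) =
      (adjT.homEquiv K (U.obj I)).symm ∘ (adjL.homEquiv K I) := by
    ext φ
    have h2 := adjT.homEquiv_naturality_right_symm (adjL.unit.app K) (U.map φ)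
    have h3 : adjL.homEquiv K I φ = adjL.unit.app K ≫ G.map (U.map φ) :=
      adjL.homEquiv_unit K I φ
    exact h2.symm.trans (congrArg _ h3.symm)
  rw [e]
  exact (Equiv.bijective _).comp (Equiv.bijective _)

end Abstract

section Transfer

variable {𝒜 ℬ : Type*} [Category* 𝒜] [Category* ℬ] [Preadditive 𝒜] [Preadditive ℬ]
  (U : ℬ ⥤ 𝒜) [U.Additive]

/-- transfer of `HomExactAt` along a comparison of complexes which induces bijections on `Hom`s. -/
lemma HomExactAt.of_bijective {P : ChainComplex 𝒜 ℕ} {M : ChainComplex ℬ ℕ}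
    (θ : ∀ n, P.X n ⟶ U.obj (M.X n))
    (hcomm : ∀ n, P.d (n + 1) n ≫ θ n = θ (n + 1) ≫ U.map (M.d (n + 1) n)) (I : ℬ)
    (hθ : ∀ n, Function.Bijective (fun φ : M.X n ⟶ I => θ n ≫ U.map φ))
    {n : ℕ} (h : HomExactAt M I n) : HomExactAt P (U.obj I) n := by
  intro z hz
  obtain ⟨φ, hφ⟩ := (hθ (n + 1)).2 z
  have hφ' : θ (n + 1) ≫ U.map φ = z := hφ
  have h0 : M.d (n + 2) (n + 1) ≫ φ = 0 := by
    apply (hθ (n + 2)).1
    change θ (n + 2) ≫ U.map (M.d (n + 2) (n + 1) ≫ φ) = θ (n + 2) ≫ U.map 0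
    rw [U.map_comp, U.map_zero, comp_zero, ← Category.assoc, ← hcomm (n + 1), Category.assoc,
      hφ', hz]
  obtain ⟨ψ, hψ⟩ := h φ h0
  refine ⟨θ n ≫ U.map ψ, ?_⟩
  rw [← Category.assoc, hcomm n, Category.assoc, ← U.map_comp, hψ, hφ']

end Transfer

section Site

variable {C : Type u} [SmallCategory C] {J : GrothendieckTopology C} (R : Sheaf J RingCat.{u})

/-- the free sheaf of modules on a sheaf of sets is left adjoint to the forgetful functor -/
noncomputable def adjL :
    Lfree R ⊣ SheafOfModules.toSheaf R ⋙ sheafCompose J (forget AddCommGrpCat.{u}) :=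
  (adjP R).restrictFullyFaithful (fullyFaithfulSheafToPresheaf J (Type u))
    (Functor.FullyFaithful.id _) (Functor.rightUnitor _).symm
    (NatIso.ofComponents (fun _ => Iso.refl _))

/-- the comparison from the free abelian sheaf to the free sheaf of modules -/
noncomputable def η : T J ⟶ Lfree R ⋙ SheafOfModules.toSheaf R :=
  mate (adj (J := J)) (adjL R)

lemma bijective_η_comp (K : Sheaf J (Type u)) (I : SheafOfModules.{u} R) :
    Function.Bijective (fun φ : (Lfree R).obj K ⟶ I =>
      (η R).app K ≫ (SheafOfModules.toSheaf R).map φ) :=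
  bijective_mate_comp (adj (J := J)) (adjL R) K I

variable {K' K : Sheaf J (Type u)} (f : K' ⟶ K)

/-- the chain complex of free sheaves of modules on the Čech nerve of `f` -/
noncomputable abbrev RM : ChainComplex (SheafOfModules.{u} R) ℕ :=
  (alternatingFaceMapComplex _).obj ((Arrow.mk f).cechNerve ⋙ Lfree R)

/-- the augmentation `RM f ⟶ R[K]` -/
noncomputable def πM : RM R f ⟶ (ChainComplex.single₀ _).obj ((Lfree R).obj K) :=
  AlternatingFaceMapComplex.ε.app (((SimplicialObject.Augmented.whiskering _ _).obj (Lfree R)).obj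
    (Arrow.mk f).augmentedCechNerve)

instance [Epi f] : QuasiIso (πM R f) := quasiIso_ε_cechNerveMod R f

lemma exactAt_RM [Epi f] (n : ℕ) : (RM R f).ExactAt (n + 1) := exactAt_succ (πM R f) n

instance : (SheafOfModules.toSheaf.{u} R).Additive := inferInstance

lemma η_comm (n : ℕ) :
    (Groth.Agent.Lib.CechAcyc3.R f).d (n + 1) n ≫ (η R).app ((Arrow.mk f).cechNerve _⦋n⦌) =
      (η R).app ((Arrow.mk f).cechNerve _⦋n + 1⦌) ≫
        (SheafOfModules.toSheaf R).map ((RM R f).d (n + 1) n) := by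
  have h1 : (Groth.Agent.Lib.CechAcyc3.R f).d (n + 1) n = _ :=
    AlternatingFaceMapComplex.obj_d_eq ((Arrow.mk f).cechNerve ⋙ T J) n
  have h2 : (RM R f).d (n + 1) n = _ :=
    AlternatingFaceMapComplex.obj_d_eq ((Arrow.mk f).cechNerve ⋙ Lfree R) n
  rw [h1, h2, Functor.map_sum, Preadditive.sum_comp, Preadditive.comp_sum]
  refine Finset.sum_congr rfl (fun i _ => ?_)
  rw [Functor.map_zsmul, Preadditive.zsmul_comp, Preadditive.comp_zsmul]
  congr 1
  exact (η R).naturality ((Arrow.mk f).cechNerve.δ i)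

/-- an injective sheaf of modules is Čech-acyclic as an abelian sheaf. -/
theorem cechAcyclic_of_injective (I : SheafOfModules.{u} R) [Injective I] :
    CechAcyclic ((SheafOfModules.toSheaf R).obj I) := by
  intro K' K f hf n
  exact HomExactAt.of_bijective (SheafOfModules.toSheaf R)
    (fun m => (η R).app ((Arrow.mk f).cechNerve _⦋m⦌)) (η_comm R f) I
    (fun m => bijective_η_comp R _ I)
    (homExactAt_of_injective I n (exactAt_RM R f n))

/-- **an injective sheaf of modules is totally acyclic as an abelian sheaf.** -/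
theorem isTotallyAcyclic_of_injective (I : SheafOfModules.{u} R) [Injective I] :
    CohCx.IsTotallyAcyclic ((SheafOfModules.toSheaf R).obj I) :=
  isTotallyAcyclic_of_cechAcyclic _ (cechAcyclic_of_injective R I)

end Site

end Groth.Agent.Lib.ModAcyc
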