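import Mathlib.Algebra.Category.ModuleCat.Sheaf.Abelian
import Mathlib.Algebra.Category.ModuleCat.Presheaf.Colimits
import Mathlib.Algebra.Category.ModuleCat.Sheaf.Limits
import Mathlib.Algebra.Category.ModuleCat.Sheaf.Colimits
import Mathlib.Algebra.Category.ModuleCat.Sheaf.ChangeOfRings
import Mathlib.CategoryTheory.Adjunction.Limits

/-!
# `SheafOfModules.toSheaf` preserves all colimits; restriction of scalars (helper11)
-/

set_option autoImplicit false
universe w' w v v' u u'

open CategoryTheory CategoryTheory.Limits Opposite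

namespace Groth.Agent.Lib.ModToSheafColim

section General

variable {P : Type*} [Category P] {S : Type*} [Category S] {E : Type*} [Category E]
  {Φ : P ⥤ S} {Ψ : S ⥤ P} (adj : Φ ⊣ Ψ) [IsIso adj.counit] (T : S ⥤ E)
  (K : Type w) [Category.{w'} K]

include adj in
/-- If `S` is reflective in `P` with reflector `Φ` and `Φ ⋙ T` preserves colimits of shape `K`,
then so does `T`. -/
theorem preservesColimitsOfShape_of_reflector [HasColimitsOfShape K P]
    [PreservesColimitsOfShape K (Φ ⋙ T)] : PreservesColimitsOfShape K T where
  preservesColimit {D} := by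
    have : Φ.IsLeftAdjoint := adj.isLeftAdjoint
    let e : D ≅ (D ⋙ Ψ) ⋙ Φ := Functor.isoWhiskerLeft D (asIso adj.counit).symm
    have h : PreservesColimit ((D ⋙ Ψ) ⋙ Φ) T :=
      preservesColimit_of_preserves_colimit_cocone
        (isColimitOfPreserves Φ (colimit.isColimit (D ⋙ Ψ)))
        (isColimitOfPreserves (Φ ⋙ T) (colimit.isColimit (D ⋙ Ψ)))
    exact preservesColimit_of_iso_diagram T e.symm

end General

section ToSheaf

variable {C : Type u'} [Category.{v'} C] {J : GrothendieckTopology C} (R : Sheaf J RingCat.{u})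
  [HasSheafify J AddCommGrpCat.{v}] [J.WEqualsLocallyBijective AddCommGrpCat.{v}]
  (K : Type w) [Category.{w'} K]

instance preservesColimitsOfShape_toSheaf [HasColimitsOfShape K (PresheafOfModules.{v} R.obj)]
    [HasColimitsOfShape K AddCommGrpCat.{v}] :
    PreservesColimitsOfShape K (SheafOfModules.toSheaf.{v} R) := by
  have : PreservesColimitsOfShape K
      (PresheafOfModules.sheafification.{v} (𝟙 R.obj) ⋙ SheafOfModules.toSheaf.{v} R) :=
    inferInstanceAs (PreservesColimitsOfShape K
      (PresheafOfModules.toPresheaf R.obj ⋙ presheafToSheaf J AddCommGrpCat.{v}))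
  exact preservesColimitsOfShape_of_reflector
    (PresheafOfModules.sheafificationAdjunction (𝟙 R.obj)) _ K

end ToSheaf

end Groth.Agent.Lib.ModToSheafColim
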