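import Groth.Agent.Lib.LocGenRlim31
import Groth.Agent.Lib.ModSiteFreeOn
import Groth.Agent.Lib.ModAcyc
import Groth.Agent.Lib.ModToSheafColim
import Groth.Agent.S0485
import Groth.Agent.S0864

/-!
# Local generators for sheaves of modules on a ringed site (helper31)

`ModSite.Mod O` with `Γ = SheafOfModules.toSheaf` and the free modules `j_{U!} O_U`
(`ModSite.freeOn O U`) is an instance of `LocGen31.Gen`.
-/

set_option autoImplicit false

open CategoryTheory CategoryTheory.Limits Opposite

universe u

namespace Groth.Agent.ModGen31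

open Groth.Agent.LocGen31

variable {C : Type u} [SmallCategory C] {J : GrothendieckTopology C} (O : Sheaf J CommRingCat.{u})

/-- the underlying abelian sheaf -/
noncomputable abbrev Γ : ModSite.Mod O ⥤ Sheaf J AddCommGrpCat.{u} :=
  SheafOfModules.toSheaf.{u} (ModSite.ringSh O)

instance : (Γ O).Additive := inferInstance

instance : PreservesFiniteLimits (Γ O) := inferInstance

instance : PreservesFiniteColimits (Γ O) := ⟨fun _ _ _ => inferInstance⟩

instance : (Γ O).Faithful := inferInstance

/-- the free modules `j_{U!} O_U` as local generators -/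
noncomputable def gen : Gen (Γ O) where
  Z U := ModSite.freeOn O U
  e U M := Groth.Agent.Lib.ModSiteFreeOn.freeOnHomEquiv O U M
  e_comp U {_ _} g f := Groth.Agent.Lib.ModSiteFreeOn.freeOnHomEquiv_comp O U g f

lemma enoughInjectives : EnoughInjectives (ModSite.Mod O) :=
  Groth.Agent.S0485.result J (ModSite.ringSh O)

lemma hacyc (I : ModSite.Mod O) (hI : Injective I) (U : C) (p : ℕ) :
    Subsingleton (CohSite.HU ((Γ O).obj I) (p + 1) U) :=
  Groth.Agent.S0864.result _
    (Groth.Agent.Lib.ModAcyc.isTotallyAcyclic_of_injective (ModSite.ringSh O) I) U p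

end Groth.Agent.ModGen31
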