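import Groth.Agent.Lib.DWayOut

/-!
# Dévissage for bounded objects of `D(A)`

* `devissage`: a property of objects of `D(A)` which is closed under isomorphisms and extensions
  (middle terms of distinguished triangles) and holds for zero objects and for all
  `(H^j M)[-j]`, `a ≤ j ≤ b`, holds for `M ∈ D^{[a,b]}`.
* `hom_shift_one_eq_zero_of_devissage`: vanishing of `Hom(X, M[1])` from the cohomology objects.
-/

open CategoryTheory Limits Category Pretriangulated Triangulated

universe w v u

namespace Groth.Agent.Lib.DDevissage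

variable {A : Type u} [Category.{v} A] [Abelian A] [HasDerivedCategory.{w} A]

open DerivedCategory DerivedCategory.TStructure

/-- an object concentrated in degree `a` is isomorphic to `(H^a M)[-a]`. -/
lemma nonempty_iso_single_homology (M : DerivedCategory A) (a : ℤ) [M.IsGE a] [M.IsLE a] :
    Nonempty (M ≅ (singleFunctor A a).obj ((homologyFunctor A a).obj M)) := by
  obtain ⟨N, ⟨e⟩⟩ := exists_iso_singleFunctor_obj_of_isGE_of_isLE M a
  have e' : (homologyFunctor A a).obj M ≅ N :=
    (homologyFunctor A a).mapIso e ≪≫ (singleFunctorCompHomologyFunctorIso A a).app N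
  exact ⟨e ≪≫ (singleFunctor A a).mapIso e'.symm⟩

variable (W : ObjectProperty (DerivedCategory A)) [W.IsClosedUnderIsomorphisms]

include W in
theorem devissage_aux
    (hext : ∀ T ∈ distTriang (DerivedCategory A), W T.obj₁ → W T.obj₃ → W T.obj₂)
    (n : ℕ) : ∀ (M : DerivedCategory A) (a : ℤ) [M.IsGE a] [M.IsLE (a + n)]
      (_ : ∀ j : ℤ, a ≤ j → j ≤ a + n →
        W ((singleFunctor A j).obj ((homologyFunctor A j).obj M))), W M := by
  induction n with
  | zero =>
    intro M a _ _ hM
    have : M.IsLE a := by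
      have h : M.IsLE (a + (0 : ℕ)) := inferInstance
      simpa using h
    obtain ⟨e⟩ := nonempty_iso_single_homology M a
    exact W.prop_of_iso e.symm (hM a le_rfl (by simp))
  | succ n ih =>
    intro M a _ _ hM
    have hMle : M.IsLE ((a + 1) + n) := by
      have h : M.IsLE (a + ((n + 1 : ℕ) : ℤ)) := inferInstance
      have e : a + ((n + 1 : ℕ) : ℤ) = (a + 1) + n := by push_cast; ring
      rwa [e] at h
    let L := (t.truncLE a).obj M
    let R := (t.truncGE (a + 1)).obj M
    have hT := t.triangleLEGE_distinguished a (a + 1) rfl M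
    have i1 : L.IsLE a := by dsimp [L]; infer_instance
    have i1' : L.IsGE a := by dsimp [L]; infer_instance
    have i3 : R.IsGE (a + 1) := by dsimp [R]; infer_instance
    have i3' : R.IsLE ((a + 1) + n) := by dsimp [R]; infer_instance
    have hL : W L := by
      obtain ⟨e⟩ := nonempty_iso_single_homology L a
      refine W.prop_of_iso e.symm ?_
      have := Groth.Agent.Lib.DWayOut.isIso_homologyMap_truncLEι M a a le_rfl
      exact W.prop_of_iso ((singleFunctor A a).mapIso
        (asIso ((homologyFunctor A a).map ((t.truncLEι a).app M))).symm)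
        (hM a le_rfl (by push_cast; lia))
    have hR : W R := by
      apply ih R (a + 1)
      intro j hj1 hj2
      have := Groth.Agent.Lib.DWayOut.isIso_homologyMap_truncGEπ M (a + 1) j hj1
      exact W.prop_of_iso ((singleFunctor A j).mapIso
        (asIso ((homologyFunctor A j).map ((t.truncGEπ (a + 1)).app M))))
        (hM j (by lia) (by push_cast; lia))
    exact hext _ hT hL hR

include W in
/-- Dévissage: extension-closed properties are detected on the cohomology objects. -/
theorem devissage
    (hext : ∀ T ∈ distTriang (DerivedCategory A), W T.obj₁ → W T.obj₃ → W T.obj₂)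
    (hzero : ∀ Z : DerivedCategory A, IsZero Z → W Z)
    (M : DerivedCategory A) (a b : ℤ) [M.IsGE a] [M.IsLE b]
    (hM : ∀ j : ℤ, a ≤ j → j ≤ b →
      W ((singleFunctor A j).obj ((homologyFunctor A j).obj M))) : W M := by
  by_cases hab : b < a
  · exact hzero M (t.isZero M b a hab)
  · obtain ⟨n, rfl⟩ : ∃ n : ℕ, b = a + n := ⟨(b - a).toNat, by lia⟩
    exact devissage_aux W hext n M a hM

/-- The property `Hom(X, -[1]) = 0`. -/
def homShiftOneZero (X : DerivedCategory A) : ObjectProperty (DerivedCategory A) :=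
  fun Y => ∀ g : X ⟶ Y⟦(1 : ℤ)⟧, g = 0

instance (X : DerivedCategory A) : (homShiftOneZero X).IsClosedUnderIsomorphisms where
  of_iso {Y Y'} e h g := by
    have : g ≫ (e.inv)⟦(1 : ℤ)⟧' = 0 := h _
    have h2 : (g ≫ (e.inv)⟦(1 : ℤ)⟧') ≫ (e.hom)⟦(1 : ℤ)⟧' = g := by
      rw [assoc, ← Functor.map_comp, e.inv_hom_id, CategoryTheory.Functor.map_id, comp_id]
    rw [← h2, this, zero_comp]

lemma homShiftOneZero_ext (X : DerivedCategory A) (T : Triangle (DerivedCategory A))
    (hT : T ∈ distTriang (DerivedCategory A))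
    (h1 : homShiftOneZero X T.obj₁) (h3 : homShiftOneZero X T.obj₃) :
    homShiftOneZero X T.obj₂ := by
  intro g
  have hT' := Triangle.shift_distinguished T hT 1
  have hz : g ≫ ((CategoryTheory.shiftFunctor (Triangle (DerivedCategory A)) (1 : ℤ)).obj T).mor₂
      = 0 := h3 _
  obtain ⟨g', hg'⟩ := Triangle.coyoneda_exact₂ _ hT' g hz
  have : g' = 0 := h1 g'
  rw [hg', this]
  exact zero_comp

lemma homShiftOneZero_of_isZero (X Z : DerivedCategory A) (hZ : IsZero Z) :
    homShiftOneZero X Z := by
  intro g
  exact ((shiftFunctor (DerivedCategory A) (1 : ℤ)).map_isZero hZ).eq_of_tgt _ _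

/-- Vanishing of `Hom(X, M[1])` by dévissage on the cohomology objects of `M`. -/
theorem hom_shift_one_eq_zero_of_devissage (X M : DerivedCategory A) (a b : ℤ)
    [M.IsGE a] [M.IsLE b]
    (hM : ∀ j : ℤ, a ≤ j → j ≤ b →
      ∀ g : X ⟶ ((singleFunctor A j).obj ((homologyFunctor A j).obj M))⟦(1 : ℤ)⟧, g = 0)
    (g : X ⟶ M⟦(1 : ℤ)⟧) : g = 0 :=
  devissage (homShiftOneZero X) (homShiftOneZero_ext X) (homShiftOneZero_of_isZero X) M a b hM g

end Groth.Agent.Lib.DDevissage
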