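import Groth.Agent.Lib.DWayOut

/-!
# Way-out lemmas, unbounded cases

* `isIso_homologyMap_map_truncLEι_of_wayOutRight`, `isIso_homologyMap_map_truncGEπ_of_wayOutLeft`
* `isIso_app_of_isGE_of_wayOutRight` (bounded below objects, way-out right functors)
* `isIso_app_of_wayOutBoth` (all objects, functors way-out in both directions)
-/

open CategoryTheory Limits Category Pretriangulated Triangulated

universe w v u w' v' u'

namespace Groth.Agent.Lib.DWayOut

set_option linter.unusedSectionVars false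

variable {A : Type u} [Category.{v} A] [Abelian A] [HasDerivedCategory.{w} A]
  {B : Type u'} [Category.{v'} B] [Abelian B] [HasDerivedCategory.{w'} B]

open DerivedCategory DerivedCategory.TStructure

section OneFunctor

variable (F : DerivedCategory A ⥤ DerivedCategory B) [F.CommShift ℤ] [F.IsTriangulated]

lemma isIso_homologyMap_map_truncLEι_of_wayOutRight (X : DerivedCategory A) (i m : ℤ)
    (hm : ∀ Y : DerivedCategory A, Y.IsGE m → (F.obj Y).IsGE (i + 2)) :
    IsIso ((homologyFunctor B i).map (F.map ((t.truncLEι (m - 1)).app X))) := by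
  have hT := t.triangleLEGE_distinguished (m - 1) m (by lia) X
  have hFT := F.map_distinguished _ hT
  have h3 : (F.obj ((t.truncGE m).obj X)).IsGE (i + 2) := hm _ inferInstance
  have hmono : Mono ((homologyFunctor B i).map (F.map ((t.truncLEι (m - 1)).app X))) := by
    refine (HomologySequence.mono_homologyMap_mor₁_iff _ hFT (i - 1) i (by lia)).mpr ?_
    exact (isZero_of_isGE (F.obj ((t.truncGE m).obj X)) (i + 2) (i - 1) (by lia)).eq_of_src _ _
  have hepi : Epi ((homologyFunctor B i).map (F.map ((t.truncLEι (m - 1)).app X))) := by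
    refine (HomologySequence.epi_homologyMap_mor₁_iff _ hFT i).mpr ?_
    exact (isZero_of_isGE (F.obj ((t.truncGE m).obj X)) (i + 2) i (by lia)).eq_of_tgt _ _
  exact isIso_of_mono_of_epi _

lemma isIso_homologyMap_map_truncGEπ_of_wayOutLeft (X : DerivedCategory A) (i m : ℤ)
    (hm : ∀ Y : DerivedCategory A, Y.IsLE (m - 1) → (F.obj Y).IsLE (i - 2)) :
    IsIso ((homologyFunctor B i).map (F.map ((t.truncGEπ m).app X))) := by
  have hT := t.triangleLEGE_distinguished (m - 1) m (by lia) X
  have hFT := F.map_distinguished _ hT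
  have h1 : (F.obj ((t.truncLE (m - 1)).obj X)).IsLE (i - 2) := hm _ inferInstance
  have hmono : Mono ((homologyFunctor B i).map (F.map ((t.truncGEπ m).app X))) := by
    refine (HomologySequence.mono_homologyMap_mor₂_iff _ hFT i).mpr ?_
    exact (isZero_of_isLE (F.obj ((t.truncLE (m - 1)).obj X)) (i - 2) i (by lia)).eq_of_src _ _
  have hepi : Epi ((homologyFunctor B i).map (F.map ((t.truncGEπ m).app X))) := by
    refine (HomologySequence.epi_homologyMap_mor₂_iff _ hFT i (i + 1) rfl).mpr ?_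
    exact (isZero_of_isLE (F.obj ((t.truncLE (m - 1)).obj X)) (i - 2) (i + 1)
      (by lia)).eq_of_tgt _ _
  exact isIso_of_mono_of_epi _

end OneFunctor

variable (P : ObjectProperty A) [P.IsClosedUnderIsomorphisms]
  (F G : DerivedCategory A ⥤ DerivedCategory B) [F.CommShift ℤ] [G.CommShift ℤ]
  [F.IsTriangulated] [G.IsTriangulated] (η : F ⟶ G) [NatTrans.CommShift η ℤ]

/-- transfer of `IsIso (H^i (η.app _))` along `f : Y ⟶ X` inducing isos on `H^i ∘ F`, `H^i ∘ G`. -/
lemma isIso_homologyMap_app_of_source {X Y : DerivedCategory A} (f : Y ⟶ X) (i : ℤ)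
    (hF : IsIso ((homologyFunctor B i).map (F.map f)))
    (hG : IsIso ((homologyFunctor B i).map (G.map f)))
    (h : IsIso ((homologyFunctor B i).map (η.app Y))) :
    IsIso ((homologyFunctor B i).map (η.app X)) := by
  have e : (homologyFunctor B i).map (F.map f) ≫ (homologyFunctor B i).map (η.app X) =
      (homologyFunctor B i).map (η.app Y) ≫ (homologyFunctor B i).map (G.map f) := by
    rw [← Functor.map_comp, ← Functor.map_comp, η.naturality]
  have : (homologyFunctor B i).map (η.app X) =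
      inv ((homologyFunctor B i).map (F.map f)) ≫
        (homologyFunctor B i).map (η.app Y) ≫ (homologyFunctor B i).map (G.map f) := by
    rw [← e, IsIso.inv_hom_id_assoc]
  rw [this]
  infer_instance

lemma isIso_homologyMap_app_of_target {X R : DerivedCategory A} (f : X ⟶ R) (i : ℤ)
    (hF : IsIso ((homologyFunctor B i).map (F.map f)))
    (hG : IsIso ((homologyFunctor B i).map (G.map f)))
    (h : IsIso ((homologyFunctor B i).map (η.app R))) :
    IsIso ((homologyFunctor B i).map (η.app X)) := by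
  have e : (homologyFunctor B i).map (F.map f) ≫ (homologyFunctor B i).map (η.app R) =
      (homologyFunctor B i).map (η.app X) ≫ (homologyFunctor B i).map (G.map f) := by
    rw [← Functor.map_comp, ← Functor.map_comp, η.naturality]
  have : (homologyFunctor B i).map (η.app X) =
      ((homologyFunctor B i).map (F.map f) ≫ (homologyFunctor B i).map (η.app R)) ≫
        inv ((homologyFunctor B i).map (G.map f)) := by
    rw [e, assoc, IsIso.hom_inv_id, comp_id]
  rw [this]
  infer_instance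

include P in
/-- Way-out right: bounded below objects. -/
theorem isIso_app_of_isGE_of_wayOutRight
    (hF : ∀ n₁ : ℤ, ∃ n₂ : ℤ, ∀ Y : DerivedCategory A, Y.IsGE n₂ → (F.obj Y).IsGE n₁)
    (hG : ∀ n₁ : ℤ, ∃ n₂ : ℤ, ∀ Y : DerivedCategory A, Y.IsGE n₂ → (G.obj Y).IsGE n₁)
    (hη : ∀ X : A, P X → IsIso (η.app ((singleFunctor A 0).obj X)))
    (X : DerivedCategory A) (a : ℤ) [X.IsGE a]
    (hX : ∀ i : ℤ, a ≤ i → P ((homologyFunctor A i).obj X)) :
    IsIso (η.app X) := by
  rw [DerivedCategory.isIso_iff]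
  intro i
  obtain ⟨nF, hnF⟩ := hF (i + 2)
  obtain ⟨nG, hnG⟩ := hG (i + 2)
  let m := max nF nG
  have hmF : ∀ Y : DerivedCategory A, Y.IsGE m → (F.obj Y).IsGE (i + 2) := fun Y hY =>
    hnF Y (t.isGE_of_ge Y nF m (le_max_left _ _))
  have hmG : ∀ Y : DerivedCategory A, Y.IsGE m → (G.obj Y).IsGE (i + 2) := fun Y hY =>
    hnG Y (t.isGE_of_ge Y nG m (le_max_right _ _))
  refine isIso_homologyMap_app_of_source F G η ((t.truncLEι (m - 1)).app X) i
    (isIso_homologyMap_map_truncLEι_of_wayOutRight F X i m hmF)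
    (isIso_homologyMap_map_truncLEι_of_wayOutRight G X i m hmG) ?_
  have : IsIso (η.app ((t.truncLE (m - 1)).obj X)) := by
    apply isIso_app_of_bounded P F G η hη _ a (m - 1)
    intro j hj1 hj2
    have := isIso_homologyMap_truncLEι X (m - 1) j hj2
    exact P.prop_of_iso (asIso ((homologyFunctor A j).map ((t.truncLEι (m - 1)).app X))).symm
      (hX j hj1)
  infer_instance

include P in
/-- Way-out left: bounded above objects. -/
theorem isIso_app_of_isLE_of_wayOutLeft
    (hF : ∀ n₁ : ℤ, ∃ n₂ : ℤ, ∀ Y : DerivedCategory A, Y.IsLE n₂ → (F.obj Y).IsLE n₁)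
    (hG : ∀ n₁ : ℤ, ∃ n₂ : ℤ, ∀ Y : DerivedCategory A, Y.IsLE n₂ → (G.obj Y).IsLE n₁)
    (hη : ∀ X : A, P X → IsIso (η.app ((singleFunctor A 0).obj X)))
    (X : DerivedCategory A) (b : ℤ) [X.IsLE b]
    (hX : ∀ i : ℤ, i ≤ b → P ((homologyFunctor A i).obj X)) :
    IsIso (η.app X) := by
  rw [DerivedCategory.isIso_iff]
  intro i
  obtain ⟨nF, hnF⟩ := hF (i - 2)
  obtain ⟨nG, hnG⟩ := hG (i - 2)
  let m := min nF nG + 1
  have hmF : ∀ Y : DerivedCategory A, Y.IsLE (m - 1) → (F.obj Y).IsLE (i - 2) := fun Y hY =>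
    hnF Y (t.isLE_of_le Y (m - 1) nF (by simp [m]))
  have hmG : ∀ Y : DerivedCategory A, Y.IsLE (m - 1) → (G.obj Y).IsLE (i - 2) := fun Y hY =>
    hnG Y (t.isLE_of_le Y (m - 1) nG (by simp [m]))
  refine isIso_homologyMap_app_of_target F G η ((t.truncGEπ m).app X) i
    (isIso_homologyMap_map_truncGEπ_of_wayOutLeft F X i m hmF)
    (isIso_homologyMap_map_truncGEπ_of_wayOutLeft G X i m hmG) ?_
  have : IsIso (η.app ((t.truncGE m).obj X)) := by
    apply isIso_app_of_bounded P F G η hη _ m b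
    intro j hj1 hj2
    have := isIso_homologyMap_truncGEπ X m j hj1
    exact P.prop_of_iso (asIso ((homologyFunctor A j).map ((t.truncGEπ m).app X)))
      (hX j hj2)
  infer_instance

include P in
/-- Way-out in both directions: all objects. -/
theorem isIso_app_of_wayOutBoth
    (hF : ∀ n₁ : ℤ, ∃ n₂ : ℤ, ∀ Y : DerivedCategory A, Y.IsGE n₂ → (F.obj Y).IsGE n₁)
    (hF' : ∀ n₁ : ℤ, ∃ n₂ : ℤ, ∀ Y : DerivedCategory A, Y.IsLE n₂ → (F.obj Y).IsLE n₁)
    (hG : ∀ n₁ : ℤ, ∃ n₂ : ℤ, ∀ Y : DerivedCategory A, Y.IsGE n₂ → (G.obj Y).IsGE n₁)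
    (hG' : ∀ n₁ : ℤ, ∃ n₂ : ℤ, ∀ Y : DerivedCategory A, Y.IsLE n₂ → (G.obj Y).IsLE n₁)
    (hη : ∀ X : A, P X → IsIso (η.app ((singleFunctor A 0).obj X)))
    (X : DerivedCategory A)
    (hX : ∀ i : ℤ, P ((homologyFunctor A i).obj X)) :
    IsIso (η.app X) := by
  rw [DerivedCategory.isIso_iff]
  intro i
  obtain ⟨nF, hnF⟩ := hF (i + 2)
  obtain ⟨nG, hnG⟩ := hG (i + 2)
  let m := max nF nG
  have hmF : ∀ Y : DerivedCategory A, Y.IsGE m → (F.obj Y).IsGE (i + 2) := fun Y hY =>
    hnF Y (t.isGE_of_ge Y nF m (le_max_left _ _))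
  have hmG : ∀ Y : DerivedCategory A, Y.IsGE m → (G.obj Y).IsGE (i + 2) := fun Y hY =>
    hnG Y (t.isGE_of_ge Y nG m (le_max_right _ _))
  refine isIso_homologyMap_app_of_source F G η ((t.truncLEι (m - 1)).app X) i
    (isIso_homologyMap_map_truncLEι_of_wayOutRight F X i m hmF)
    (isIso_homologyMap_map_truncLEι_of_wayOutRight G X i m hmG) ?_
  have : IsIso (η.app ((t.truncLE (m - 1)).obj X)) := by
    apply isIso_app_of_isLE_of_wayOutLeft P F G η hF' hG' hη _ (m - 1)
    intro j hj
    have := isIso_homologyMap_truncLEι X (m - 1) j hj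
    exact P.prop_of_iso (asIso ((homologyFunctor A j).map ((t.truncLEι (m - 1)).app X))).symm
      (hX j)
  infer_instance

end Groth.Agent.Lib.DWayOut
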