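import Groth.Prelude.Def_DRing2
import Mathlib.Algebra.Category.ModuleCat.Descent
import Mathlib.CategoryTheory.Adjunction.Additive
import Mathlib.RingTheory.Flat.Stability
import Mathlib.RingTheory.TensorProduct.Finite
import Mathlib.LinearAlgebra.TensorProduct.Basis

/-!
# Flat base change on `D(A)`

For a flat ring map `A → B` the functor `ModuleCat.extendScalars (algebraMap A B)` is exact, so it
induces a triangulated functor `FD A B : D(A) ⥤ D(B)` (Mathlib's `Functor.mapDerivedCategory`).
This file packages the compatibilities needed for the ring-level predicates of `Def_DRing2`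
(tor amplitude, pseudo-coherence, perfectness):

* `objEquiv`, `objIso`: `(extendScalars (algebraMap A B)).obj M ≃ₗ[B] B ⊗[A] M` (the `A`-module
  structure on `B` used by `extendScalars` is `Module.compHom`, not `Algebra.toModule`).
* `toDIso`, `inDIso`: `FD (Q E) ≅ Q (B ⊗ E)` and `FD (M[0]) ≅ (B ⊗ M)[0]`.
* `mapHCHomologyIso`, `mapDerivedCategoryHomologyIso`: an exact functor commutes with homology of
  complexes and of objects of the derived category; `isIso_homology_map`, `epi_homology_map`.
* termwise properties of `bcCx B E` (flat, finite free, finite projective, vanishing).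
-/

set_option autoImplicit false
universe u
open CategoryTheory CategoryTheory.Limits
attribute [local instance] HasDerivedCategory.standard

namespace Groth.Agent.Lib.FlatBaseChangeD

section General

variable {C₁ C₂ : Type (u+1)} [Category.{u} C₁] [Category.{u} C₂] [Abelian C₁] [Abelian C₂]
  (G : C₁ ⥤ C₂) [G.Additive] [PreservesFiniteLimits G] [PreservesFiniteColimits G]

/-- An exact functor commutes with the homology of cochain complexes. -/
noncomputable def mapHCHomologyIso (i : ℤ) :
    G.mapHomologicalComplex (ComplexShape.up ℤ) ⋙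
        HomologicalComplex.homologyFunctor C₂ (ComplexShape.up ℤ) i ≅
      HomologicalComplex.homologyFunctor C₁ (ComplexShape.up ℤ) i ⋙ G :=
  NatIso.ofComponents (fun K => (K.sc i).mapHomologyIso G) (fun {K L} f => by
    exact ShortComplex.mapHomologyIso_hom_naturality (S₁ := K.sc i) (S₂ := L.sc i)
      ((HomologicalComplex.shortComplexFunctor C₁ _ i).map f) G)

/-- An exact functor commutes with the homology functors on derived categories. -/
noncomputable def mapDerivedCategoryHomologyIso (i : ℤ) :
    G.mapDerivedCategory ⋙ DerivedCategory.homologyFunctor C₂ i ≅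
      DerivedCategory.homologyFunctor C₁ i ⋙ G :=
  Localization.liftNatIso DerivedCategory.Q
    (HomologicalComplex.quasiIso C₁ (ComplexShape.up ℤ))
    (DerivedCategory.Q ⋙ G.mapDerivedCategory ⋙ DerivedCategory.homologyFunctor C₂ i)
    (DerivedCategory.Q ⋙ DerivedCategory.homologyFunctor C₁ i ⋙ G) _ _
    ((Functor.associator _ _ _).symm ≪≫
      Functor.isoWhiskerRight G.mapDerivedCategoryFactors _ ≪≫
      Functor.associator _ _ _ ≪≫
      Functor.isoWhiskerLeft _ (DerivedCategory.homologyFunctorFactors C₂ i) ≪≫
      mapHCHomologyIso G i ≪≫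
      Functor.isoWhiskerRight (DerivedCategory.homologyFunctorFactors C₁ i).symm G ≪≫
      Functor.associator _ _ _)

lemma isIso_homology_map {K L : DerivedCategory C₁} (α : K ⟶ L) (i : ℤ)
    [IsIso ((DerivedCategory.homologyFunctor C₁ i).map α)] :
    IsIso ((DerivedCategory.homologyFunctor C₂ i).map (G.mapDerivedCategory.map α)) := by
  have : IsIso ((DerivedCategory.homologyFunctor C₁ i ⋙ G).map α) := by
    dsimp; infer_instance
  have h2 : (G.mapDerivedCategory ⋙ DerivedCategory.homologyFunctor C₂ i).map α =
      (mapDerivedCategoryHomologyIso G i).hom.app K ≫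
        (DerivedCategory.homologyFunctor C₁ i ⋙ G).map α ≫
        (mapDerivedCategoryHomologyIso G i).inv.app L :=
    (NatIso.naturality_2 (mapDerivedCategoryHomologyIso G i) α).symm
  change IsIso ((G.mapDerivedCategory ⋙ DerivedCategory.homologyFunctor C₂ i).map α)
  rw [h2]
  infer_instance

lemma epi_homology_map {K L : DerivedCategory C₁} (α : K ⟶ L) (i : ℤ)
    [Epi ((DerivedCategory.homologyFunctor C₁ i).map α)] :
    Epi ((DerivedCategory.homologyFunctor C₂ i).map (G.mapDerivedCategory.map α)) := by
  have : Epi ((DerivedCategory.homologyFunctor C₁ i ⋙ G).map α) := by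
    dsimp; infer_instance
  have h2 : (G.mapDerivedCategory ⋙ DerivedCategory.homologyFunctor C₂ i).map α =
      (mapDerivedCategoryHomologyIso G i).hom.app K ≫
        (DerivedCategory.homologyFunctor C₁ i ⋙ G).map α ≫
        (mapDerivedCategoryHomologyIso G i).inv.app L :=
    (NatIso.naturality_2 (mapDerivedCategoryHomologyIso G i) α).symm
  change Epi ((G.mapDerivedCategory ⋙ DerivedCategory.homologyFunctor C₂ i).map α)
  rw [h2]
  infer_instance

lemma mono_homology_map {K L : DerivedCategory C₁} (α : K ⟶ L) (i : ℤ)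
    [Mono ((DerivedCategory.homologyFunctor C₁ i).map α)] :
    Mono ((DerivedCategory.homologyFunctor C₂ i).map (G.mapDerivedCategory.map α)) := by
  have : Mono ((DerivedCategory.homologyFunctor C₁ i ⋙ G).map α) := by
    dsimp; infer_instance
  have h2 : (G.mapDerivedCategory ⋙ DerivedCategory.homologyFunctor C₂ i).map α =
      (mapDerivedCategoryHomologyIso G i).hom.app K ≫
        (DerivedCategory.homologyFunctor C₁ i ⋙ G).map α ≫
        (mapDerivedCategoryHomologyIso G i).inv.app L :=
    (NatIso.naturality_2 (mapDerivedCategoryHomologyIso G i) α).symm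
  change Mono ((G.mapDerivedCategory ⋙ DerivedCategory.homologyFunctor C₂ i).map α)
  rw [h2]
  infer_instance

end General

variable {A B : Type u} [CommRing A] [CommRing B] [Algebra A B]

/-- `B` with the `A`-module structure through `Module.compHom` (as used by
`ModuleCat.restrictScalars`) is `B` with its algebra module structure. -/
noncomputable def restrictEquiv :
    ((ModuleCat.restrictScalars (algebraMap A B)).obj (ModuleCat.of B B)) ≃ₗ[A] B where
  toFun x := x
  invFun x := x
  map_add' _ _ := rfl
  map_smul' a x := by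
    rw [ModuleCat.restrictScalars.smul_def (M := ModuleCat.of B B)]
    exact (Algebra.smul_def a _).symm
  left_inv _ := rfl
  right_inv _ := rfl

open TensorProduct in
set_option backward.isDefEq.respectTransparency false in
/-- The underlying module of `(extendScalars (algebraMap A B)).obj M` is `B ⊗[A] M`. -/
noncomputable def objEquiv (M : ModuleCat.{u} A) :
    ((ModuleCat.extendScalars (algebraMap A B)).obj M) ≃ₗ[B] (B ⊗[A] M) :=
  { TensorProduct.congr (restrictEquiv (A := A) (B := B)) (LinearEquiv.refl A M) with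
    map_smul' := by
      intro b x
      induction x using TensorProduct.induction_on with
      | zero =>
        rw [smul_zero]
        simp
      | tmul s m =>
        rw [ModuleCat.ExtendScalars.smul_tmul]
        simp [TensorProduct.smul_tmul', restrictEquiv]
      | add x y hx hy =>
        rw [smul_add]
        simp only [AddHom.toFun_eq_coe, map_add, smul_add] at hx hy ⊢
        rw [hx, hy] }

variable (A B) in
/-- The extension of scalars functor along `algebraMap A B`. -/
noncomputable abbrev F : ModuleCat.{u} A ⥤ ModuleCat.{u} B :=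
  ModuleCat.extendScalars (algebraMap A B)

instance : (F A B).Additive :=
  (ModuleCat.extendRestrictScalarsAdj (algebraMap A B)).left_adjoint_additive

instance [Module.Flat A B] : PreservesFiniteLimits (F A B) :=
  ModuleCat.preservesFiniteLimits_extendScalars_of_flat
    (RingHom.flat_algebraMap_iff.mpr inferInstance)

instance : PreservesFiniteColimits (F A B) := inferInstance

/-- The object-level isomorphism `F(M) ≅ B ⊗_A M`. -/
noncomputable def objIso (M : Type u) [AddCommGroup M] [Module A M] :
    (F A B).obj (ModuleCat.of A M) ≅ ModuleCat.of B (TensorProduct A B M) :=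
  (objEquiv (A := A) (B := B) (ModuleCat.of A M)).toModuleIso

lemma flat_obj (X : ModuleCat.{u} A) [Module.Flat A X] : Module.Flat B ((F A B).obj X) :=
  Module.Flat.of_linearEquiv (objEquiv (A := A) (B := B) X)

lemma finite_obj (X : ModuleCat.{u} A) [Module.Finite A X] : Module.Finite B ((F A B).obj X) :=
  Module.Finite.equiv (objEquiv (A := A) (B := B) X).symm

lemma free_obj (X : ModuleCat.{u} A) [Module.Free A X] : Module.Free B ((F A B).obj X) :=
  Module.Free.of_equiv (objEquiv (A := A) (B := B) X).symm

lemma projective_obj (X : ModuleCat.{u} A) [Module.Projective A X] :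
    Module.Projective B ((F A B).obj X) :=
  Module.Projective.of_equiv (objEquiv (A := A) (B := B) X).symm

variable (B) in
/-- Base change of a complex, termwise. -/
noncomputable abbrev bcCx (E : DRing.Cx A) : DRing.Cx B :=
  ((F A B).mapHomologicalComplex (ComplexShape.up ℤ)).obj E

lemma vanishesOutside_bcCx {E : DRing.Cx A} {a b : ℤ} (h : DRing.VanishesOutside E a b) :
    DRing.VanishesOutside (bcCx B E) a b := fun i hi =>
  (F A B).map_isZero (h i hi)

lemma vanishesAbove_bcCx {E : DRing.Cx A} {b : ℤ} (h : DRing.VanishesAbove E b) :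
    DRing.VanishesAbove (bcCx B E) b := fun i hi =>
  (F A B).map_isZero (h i hi)

lemma termwiseFlat_bcCx {E : DRing.Cx A} (h : DRing.TermwiseFlat E) :
    DRing.TermwiseFlat (bcCx B E) := fun i =>
  have := h i
  flat_obj (E.X i)

lemma termwiseFiniteFree_bcCx {E : DRing.Cx A} (h : DRing.TermwiseFiniteFree E) :
    DRing.TermwiseFiniteFree (bcCx B E) := fun i =>
  have := (h i).1
  have := (h i).2
  ⟨finite_obj (E.X i), free_obj (E.X i)⟩

lemma termwiseFiniteProjective_bcCx {E : DRing.Cx A} (h : DRing.TermwiseFiniteProjective E) :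
    DRing.TermwiseFiniteProjective (bcCx B E) := fun i =>
  have := (h i).1
  have := (h i).2
  ⟨finite_obj (E.X i), projective_obj (E.X i)⟩

variable [Module.Flat A B]

variable (A B) in
/-- The induced functor on derived categories. -/
noncomputable abbrev FD : Dual.D A ⥤ Dual.D B := (F A B).mapDerivedCategory

/-- `FD (Q E) ≅ Q (B ⊗ E)`. -/
noncomputable def toDIso (E : DRing.Cx A) : (FD A B).obj (DRing.toD E) ≅ DRing.toD (bcCx B E) :=
  (F A B).mapDerivedCategoryFactors.app E

/-- `FD (M[0]) ≅ (B ⊗ M)[0]`. -/
noncomputable def inDIso (M : Type u) [AddCommGroup M] [Module A M] :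
    (FD A B).obj (Dual.inD A M) ≅ Dual.inD B (TensorProduct A B M) :=
  ((F A B).mapDerivedCategorySingleFunctor 0).app (ModuleCat.of A M) ≪≫
    (DerivedCategory.singleFunctor (ModuleCat.{u} B) 0).mapIso (objIso M)

/-- Flat base change preserves tor amplitude (flat-representative form). -/
lemma hasTorAmplitudeIn_FD {a b : ℤ} {K : Dual.D A} (h : DRing.HasTorAmplitudeIn A a b K) :
    DRing.HasTorAmplitudeIn B a b ((FD A B).obj K) := by
  obtain ⟨E, hv, hf, ⟨e⟩⟩ := h
  exact ⟨bcCx B E, vanishesOutside_bcCx hv, termwiseFlat_bcCx hf,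
    ⟨(toDIso E).symm ≪≫ (FD A B).mapIso e⟩⟩

/-- Flat base change preserves perfectness. -/
lemma isPerfect_FD {K : Dual.D A} (h : DRing.IsPerfect A K) :
    DRing.IsPerfect B ((FD A B).obj K) := by
  obtain ⟨E, a, b, hv, hf, ⟨e⟩⟩ := h
  exact ⟨bcCx B E, a, b, vanishesOutside_bcCx hv, termwiseFiniteProjective_bcCx hf,
    ⟨(toDIso E).symm ≪≫ (FD A B).mapIso e⟩⟩

/-- Flat base change preserves pseudo-coherence (bounded above finite free representative). -/
lemma isPseudoCoherent'_FD {K : Dual.D A} (h : DRing.IsPseudoCoherent' A K) :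
    DRing.IsPseudoCoherent' B ((FD A B).obj K) := by
  obtain ⟨E, b, hv, hf, ⟨e⟩⟩ := h
  exact ⟨bcCx B E, b, vanishesAbove_bcCx hv, termwiseFiniteFree_bcCx hf,
    ⟨(toDIso E).symm ≪≫ (FD A B).mapIso e⟩⟩

/-- Flat base change preserves `m`-pseudo-coherence. -/
lemma isPseudoCoherent_FD {m : ℤ} {K : Dual.D A} (h : DRing.IsPseudoCoherent A m K) :
    DRing.IsPseudoCoherent B m ((FD A B).obj K) := by
  obtain ⟨E, a, b, α, hv, hf, hiso, hepi⟩ := h
  refine ⟨bcCx B E, a, b, (toDIso E).inv ≫ (FD A B).map α, vanishesOutside_bcCx hv,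
    termwiseFiniteFree_bcCx hf, ?_, ?_⟩
  · intro i hi
    have := hiso i hi
    have := isIso_homology_map (F A B) α i
    rw [Functor.map_comp]
    infer_instance
  · have := epi_homology_map (F A B) α m
    rw [Functor.map_comp]
    infer_instance

variable (A) in
lemma hasTorAmplitudeIn_of_iso {a b : ℤ} {K L : Dual.D A} (e : K ≅ L)
    (h : DRing.HasTorAmplitudeIn A a b K) : DRing.HasTorAmplitudeIn A a b L := by
  obtain ⟨E, hv, hf, ⟨e'⟩⟩ := h
  exact ⟨E, hv, hf, ⟨e' ≪≫ e⟩⟩

variable (A) in
lemma isPerfect_of_iso {K L : Dual.D A} (e : K ≅ L)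
    (h : DRing.IsPerfect A K) : DRing.IsPerfect A L := by
  obtain ⟨E, a, b, hv, hf, ⟨e'⟩⟩ := h
  exact ⟨E, a, b, hv, hf, ⟨e' ≪≫ e⟩⟩

variable (A) in
lemma isPseudoCoherent'_of_iso {K L : Dual.D A} (e : K ≅ L)
    (h : DRing.IsPseudoCoherent' A K) : DRing.IsPseudoCoherent' A L := by
  obtain ⟨E, b, hv, hf, ⟨e'⟩⟩ := h
  exact ⟨E, b, hv, hf, ⟨e' ≪≫ e⟩⟩

variable (A) in
lemma isPseudoCoherent_of_iso {m : ℤ} {K L : Dual.D A} (e : K ≅ L)
    (h : DRing.IsPseudoCoherent A m K) : DRing.IsPseudoCoherent A m L := by
  obtain ⟨E, a, b, α, hv, hf, hiso, hepi⟩ := h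
  refine ⟨E, a, b, α ≫ e.hom, hv, hf, ?_, ?_⟩
  · intro i hi
    have := hiso i hi
    rw [Functor.map_comp]
    infer_instance
  · rw [Functor.map_comp]
    infer_instance

end Groth.Agent.Lib.FlatBaseChangeD
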