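import Groth.Prelude.Def_WeakSerre
import Groth.Agent.Lib.DWayOut2
import Groth.Agent.Lib.DDevissage
import Groth.Agent.Lib.FlatBaseChangeD
import Mathlib.CategoryTheory.Triangulated.Adjunction

set_option autoImplicit false
universe w v u
open CategoryTheory CategoryTheory.Limits Pretriangulated Triangulated

namespace Groth.Agent.Lib.DAdjEquiv11

set_option linter.unusedSectionVars false

section FiveTerm

variable {C : Type u} [Category.{v} C] [Abelian C]

/-- Weak Serre classes: the middle term of a five-term exact sequence with the four outer terms in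
the class is in the class. -/
theorem prop_of_five_term (A : ObjectProperty C) [WSerre.IsWeakSerre A]
    {X₁ X₂ X₃ X₄ X₅ : C} (a : X₁ ⟶ X₂) (b : X₂ ⟶ X₃) (c : X₃ ⟶ X₄) (d : X₄ ⟶ X₅)
    (hab : a ≫ b = 0) (hbc : b ≫ c = 0) (hcd : c ≫ d = 0)
    (h₂ : (ShortComplex.mk a b hab).Exact) (h₃ : (ShortComplex.mk b c hbc).Exact)
    (h₄ : (ShortComplex.mk c d hcd).Exact)
    (hX₁ : A X₁) (hX₂ : A X₂) (hX₄ : A X₄) (hX₅ : A X₅) : A X₃ := by
  have hcok : A (cokernel a) := by
    have := A.prop_of_isColimit_cokernelCofork (cokernelIsCokernel a) hX₁ hX₂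
    exact this
  have hker : A (kernel d) := by
    have := A.prop_of_isLimit_kernelFork (kernelIsKernel d) hX₄ hX₅
    exact this
  let b' : cokernel a ⟶ X₃ := cokernel.desc a b hab
  let c' : X₃ ⟶ kernel d := kernel.lift d c hcd
  have hb' : Mono b' := (ShortComplex.exact_iff_mono_cokernel_desc _).1 h₂
  have hc' : Epi c' := (ShortComplex.exact_iff_epi_kernel_lift _).1 h₄
  have hb'c : b' ≫ c = 0 := by
    rw [← cancel_epi (cokernel.π a)]
    simp [b', hbc]
  have hb'c' : b' ≫ c' = 0 := by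
    rw [← cancel_mono (kernel.ι d)]
    simp [c', hb'c]
  let S₁ : ShortComplex C := ShortComplex.mk b c hbc
  let S₂ : ShortComplex C := ShortComplex.mk b' c hb'c
  let S₃ : ShortComplex C := ShortComplex.mk b' c' hb'c'
  let φ : S₁ ⟶ S₂ := { τ₁ := cokernel.π a, τ₂ := 𝟙 _, τ₃ := 𝟙 _, comm₁₂ := by simp [S₁, S₂, b'], comm₂₃ := by simp [S₁, S₂] }
  let ψ : S₃ ⟶ S₂ := { τ₁ := 𝟙 _, τ₂ := 𝟙 _, τ₃ := kernel.ι d, comm₁₂ := by simp [S₃, S₂], comm₂₃ := by simp [S₃, S₂, c'] }
  have hφ1 : Epi φ.τ₁ := by dsimp [φ]; infer_instance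
  have hφ2 : IsIso φ.τ₂ := by dsimp [φ]; infer_instance
  have hφ3 : Mono φ.τ₃ := by dsimp [φ]; infer_instance
  have hψ1 : Epi ψ.τ₁ := by dsimp [ψ]; infer_instance
  have hψ2 : IsIso ψ.τ₂ := by dsimp [ψ]; infer_instance
  have hψ3 : Mono ψ.τ₃ := by dsimp [ψ]; infer_instance
  have hS₂ : S₂.Exact := (ShortComplex.exact_iff_of_epi_of_isIso_of_mono φ).1 h₃
  have hS₃ : S₃.Exact := (ShortComplex.exact_iff_of_epi_of_isIso_of_mono ψ).2 hS₂
  have hSE : S₃.ShortExact := { exact := hS₃, mono_f := hb', epi_g := hc' }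
  exact A.prop_X₂_of_shortExact hSE hcok hker

end FiveTerm

section CohIn

variable {C : Type u} [Category.{v} C] [Abelian C] [HasDerivedCategory.{w} C]

open DerivedCategory DerivedCategory.TStructure

instance cohIn_isClosedUnderIsomorphisms (A : ObjectProperty C) [A.IsClosedUnderIsomorphisms] :
    (WSerre.cohIn A).IsClosedUnderIsomorphisms where
  of_iso e h i := A.prop_of_iso ((homologyFunctor C i).mapIso e) (h i)

/-- `D_A(C)` is closed under extensions for a weak Serre class `A`. -/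
theorem cohIn_ext (A : ObjectProperty C) [WSerre.IsWeakSerre A]
    (T : Triangle (DerivedCategory C)) (hT : T ∈ distTriang (DerivedCategory C))
    (h₁ : WSerre.cohIn A T.obj₁) (h₃ : WSerre.cohIn A T.obj₃) : WSerre.cohIn A T.obj₂ := by
  intro i
  exact prop_of_five_term A (HomologySequence.δ T (i - 1) i (by lia))
    ((homologyFunctor C i).map T.mor₁) ((homologyFunctor C i).map T.mor₂)
    (HomologySequence.δ T i (i + 1) rfl)
    (HomologySequence.δ_comp T hT _ _ _) _ (HomologySequence.comp_δ T hT _ _ _)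
    (HomologySequence.exact₁ T hT _ _ _) (HomologySequence.exact₂ T hT i)
    (HomologySequence.exact₃ T hT _ _ _)
    (h₃ _) (h₁ _) (h₃ _) (h₁ _)

theorem cohIn_of_isZero (A : ObjectProperty C) [WSerre.IsWeakSerre A]
    (Z : DerivedCategory C) (hZ : IsZero Z) : WSerre.cohIn A Z := by
  intro i
  exact A.prop_of_isZero ((homologyFunctor C i).map_isZero hZ)

theorem cohIn_single (A : ObjectProperty C) [WSerre.IsWeakSerre A] (M : C) (hM : A M) (j : ℤ) :
    WSerre.cohIn A ((singleFunctor C j).obj M) := by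
  intro i
  by_cases h : i = j
  · subst h
    exact A.prop_of_iso ((singleFunctorCompHomologyFunctorIso C i).app M).symm hM
  · apply A.prop_of_isZero
    rcases lt_or_gt_of_ne h with h | h
    · exact isZero_of_isGE _ j i h
    · exact isZero_of_isLE _ j i h

end CohIn

section Exact

attribute [local instance] HasDerivedCategory.standard

variable {C₁ C₂ : Type (u+1)} [Category.{u} C₁] [Category.{u} C₂] [Abelian C₁] [Abelian C₂]
  (G : C₁ ⥤ C₂) [G.Additive] [PreservesFiniteLimits G] [PreservesFiniteColimits G]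

open DerivedCategory DerivedCategory.TStructure Groth.Agent.Lib.FlatBaseChangeD

lemma isGE_map (X : DerivedCategory C₁) (n : ℤ) [X.IsGE n] :
    (G.mapDerivedCategory.obj X).IsGE n := by
  rw [isGE_iff]
  intro i hi
  exact IsZero.of_iso (G.map_isZero (isZero_of_isGE X n i hi))
    ((mapDerivedCategoryHomologyIso G i).app X)

lemma isLE_map (X : DerivedCategory C₁) (n : ℤ) [X.IsLE n] :
    (G.mapDerivedCategory.obj X).IsLE n := by
  rw [isLE_iff]
  intro i hi
  exact IsZero.of_iso (G.map_isZero (isZero_of_isLE X n i hi))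
    ((mapDerivedCategoryHomologyIso G i).app X)

lemma cohIn_map (A' : ObjectProperty C₁) (A : ObjectProperty C₂) [A.IsClosedUnderIsomorphisms]
    (h : ∀ M, A' M → A (G.obj M)) (Y : DerivedCategory C₁) (hY : WSerre.cohIn A' Y) :
    WSerre.cohIn A (G.mapDerivedCategory.obj Y) := by
  intro i
  exact A.prop_of_iso ((mapDerivedCategoryHomologyIso G i).app Y).symm (h _ (hY i))

variable (R : DerivedCategory C₂ ⥤ DerivedCategory C₁) (adj : G.mapDerivedCategory ⊣ R)

include adj in
/-- A right adjoint of the derived functor of an exact functor is left t-exact. -/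
lemma isGE_rightAdjoint (X : DerivedCategory C₂) (n : ℤ) [X.IsGE n] : (R.obj X).IsGE n := by
  refine (t.isGE_iff_orthogonal (n - 1) n (by lia) _).2 ?_
  intro Y f hY
  have : (G.mapDerivedCategory.obj Y).IsLE (n - 1) := isLE_map G Y (n - 1)
  apply (adj.homEquiv _ _).symm.injective
  have h1 : (adj.homEquiv Y X).symm f = 0 := t.zero _ (n - 1) n (by lia)
  have h2 : (adj.homEquiv Y X).symm 0 = 0 := t.zero _ (n - 1) n (by lia)
  rw [h1, h2]

section Main

variable (A : ObjectProperty C₂) [WSerre.IsWeakSerre A]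
  (A' : ObjectProperty C₁) [WSerre.IsWeakSerre A']

include adj in
theorem isIso_unit_of_cohInPlus
    (h3 : ∀ F', A' F' → IsIso (adj.unit.app ((singleFunctor C₁ 0).obj F')))
    (Y : DerivedCategory C₁) (hY : WSerre.cohInPlus A' Y) : IsIso (adj.unit.app Y) := by
  let _ : R.CommShift ℤ := adj.rightAdjointCommShift ℤ
  have : adj.CommShift ℤ := adj.commShift_of_leftAdjoint ℤ
  have : R.IsTriangulated := adj.isTriangulated_rightAdjoint
  obtain ⟨hY1, n, hn⟩ := hY
  refine Groth.Agent.Lib.DWayOut.isIso_app_of_isGE_of_wayOutRight A' (𝟭 _)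
    (G.mapDerivedCategory ⋙ R) adj.unit (fun n₁ => ⟨n₁, fun Z hZ => hZ⟩)
    (fun n₁ => ⟨n₁, fun Z hZ => ?_⟩) h3 Y n (fun i _ => hY1 i)
  have : (G.mapDerivedCategory.obj Z).IsGE n₁ := isGE_map G Z n₁
  exact isGE_rightAdjoint G R adj _ n₁

include adj in
/-- the counit at `G'(Z)` is an isomorphism when the unit at `Z` is. -/
lemma isIso_counit_map (Z : DerivedCategory C₁) (hZ : IsIso (adj.unit.app Z)) :
    IsIso (adj.counit.app (G.mapDerivedCategory.obj Z)) := by
  have h := adj.left_triangle_components Z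
  have h1 : IsIso (G.mapDerivedCategory.map (adj.unit.app Z)) := inferInstance
  have h2 : IsIso (G.mapDerivedCategory.map (adj.unit.app Z) ≫
      adj.counit.app (G.mapDerivedCategory.obj Z)) := by rw [h]; exact IsIso.id _
  exact IsIso.of_isIso_comp_left (G.mapDerivedCategory.map (adj.unit.app Z)) _

include adj in
theorem isIso_counit_of_cohInPlus
    (h2c : ∀ F, A F → ∃ F', A' F' ∧ Nonempty (G.obj F' ≅ F))
    (h3 : ∀ F', A' F' → IsIso (adj.unit.app ((singleFunctor C₁ 0).obj F')))
    (X : DerivedCategory C₂) (hX : WSerre.cohInPlus A X) : IsIso (adj.counit.app X) := by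
  let _ : R.CommShift ℤ := adj.rightAdjointCommShift ℤ
  have : adj.CommShift ℤ := adj.commShift_of_leftAdjoint ℤ
  have : R.IsTriangulated := adj.isTriangulated_rightAdjoint
  obtain ⟨hX1, n, hn⟩ := hX
  refine Groth.Agent.Lib.DWayOut.isIso_app_of_isGE_of_wayOutRight A
    (R ⋙ G.mapDerivedCategory) (𝟭 _) adj.counit
    (fun n₁ => ⟨n₁, fun Z hZ => ?_⟩) (fun n₁ => ⟨n₁, fun Z hZ => hZ⟩) ?_ X n (fun i _ => hX1 i)
  · have : (R.obj Z).IsGE n₁ := isGE_rightAdjoint G R adj _ n₁
    exact isGE_map G _ n₁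
  · intro F hF
    obtain ⟨F', hF', ⟨e⟩⟩ := h2c F hF
    have e' : G.mapDerivedCategory.obj ((singleFunctor C₁ 0).obj F') ≅
        (singleFunctor C₂ 0).obj F :=
      (G.mapDerivedCategorySingleFunctor 0).app F' ≪≫ (singleFunctor C₂ 0).mapIso e
    exact Groth.Agent.Lib.DWayOut.isIso_app_of_iso (R ⋙ G.mapDerivedCategory) (𝟭 _) adj.counit e'
      (isIso_counit_map G R adj _ (h3 F' hF'))

include adj in
/-- `R` sends bounded objects with cohomology in `A` into `D_{A'}`. -/
theorem cohIn_rightAdjoint_of_bounded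
    (h2c : ∀ F, A F → ∃ F', A' F' ∧ Nonempty (G.obj F' ≅ F))
    (h3 : ∀ F', A' F' → IsIso (adj.unit.app ((singleFunctor C₁ 0).obj F')))
    (M : DerivedCategory C₂) (a b : ℤ) [M.IsGE a] [M.IsLE b] (hM : WSerre.cohIn A M) :
    WSerre.cohIn A' (R.obj M) := by
  let _ : R.CommShift ℤ := adj.rightAdjointCommShift ℤ
  have : adj.CommShift ℤ := adj.commShift_of_leftAdjoint ℤ
  have : R.IsTriangulated := adj.isTriangulated_rightAdjoint
  let W : ObjectProperty (DerivedCategory C₂) := fun M => WSerre.cohIn A' (R.obj M)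
  have hW : W.IsClosedUnderIsomorphisms :=
    ⟨fun {X Y} e hX => (WSerre.cohIn A').prop_of_iso (R.mapIso e) hX⟩
  refine Groth.Agent.Lib.DDevissage.devissage W ?_ ?_ M a b ?_
  · intro T hT h₁ h₃
    exact cohIn_ext A' _ (R.map_distinguished T hT) h₁ h₃
  · intro Z hZ
    exact cohIn_of_isZero A' _ (R.map_isZero hZ)
  · intro j _ _
    obtain ⟨F', hF', ⟨e⟩⟩ := h2c _ (hM j)
    have e' : G.mapDerivedCategory.obj ((singleFunctor C₁ j).obj F') ≅
        (singleFunctor C₂ j).obj ((homologyFunctor C₂ j).obj M) :=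
      (G.mapDerivedCategorySingleFunctor j).app F' ≪≫ (singleFunctor C₂ j).mapIso e
    have hu : IsIso (adj.unit.app ((singleFunctor C₁ j).obj F')) :=
      isIso_unit_of_cohInPlus G R adj A' h3 _ ⟨cohIn_single A' F' hF' j, j, inferInstance⟩
    have e'' : (singleFunctor C₁ j).obj F' ≅
        R.obj ((singleFunctor C₂ j).obj ((homologyFunctor C₂ j).obj M)) :=
      asIso (adj.unit.app ((singleFunctor C₁ j).obj F')) ≪≫ R.mapIso e'
    exact (WSerre.cohIn A').prop_of_iso e'' (cohIn_single A' F' hF' j)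

include adj in
theorem cohInPlus_rightAdjoint
    (h2c : ∀ F, A F → ∃ F', A' F' ∧ Nonempty (G.obj F' ≅ F))
    (h3 : ∀ F', A' F' → IsIso (adj.unit.app ((singleFunctor C₁ 0).obj F')))
    (X : DerivedCategory C₂) (hX : WSerre.cohInPlus A X) : WSerre.cohInPlus A' (R.obj X) := by
  let _ : R.CommShift ℤ := adj.rightAdjointCommShift ℤ
  have : adj.CommShift ℤ := adj.commShift_of_leftAdjoint ℤ
  have : R.IsTriangulated := adj.isTriangulated_rightAdjoint
  obtain ⟨hX1, n, hn⟩ := hX
  have : X.IsGE n := hn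
  refine ⟨?_, n, isGE_rightAdjoint G R adj X n⟩
  intro i
  have hiso := Groth.Agent.Lib.DWayOut.isIso_homologyMap_map_truncLEι_of_wayOutRight R X i (i + 2)
    (fun Y hY => isGE_rightAdjoint G R adj Y (i + 2))
  let L := (t.truncLE (i + 2 - 1)).obj X
  have i1 : L.IsLE (i + 2 - 1) := by dsimp [L]; infer_instance
  have i2 : L.IsGE n := by dsimp [L]; infer_instance
  have hL : WSerre.cohIn A L := by
    intro j
    by_cases hj : j ≤ i + 2 - 1
    · have := Groth.Agent.Lib.DWayOut.isIso_homologyMap_truncLEι X (i + 2 - 1) j hj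
      exact A.prop_of_iso
        (asIso ((homologyFunctor C₂ j).map ((t.truncLEι (i + 2 - 1)).app X))).symm (hX1 j)
    · exact A.prop_of_isZero (isZero_of_isLE L (i + 2 - 1) j (by lia))
  have := cohIn_rightAdjoint_of_bounded G R adj A A' h2c h3 L n (i + 2 - 1) hL i
  exact A'.prop_of_iso (asIso ((homologyFunctor C₁ i).map (R.map ((t.truncLEι (i + 2 - 1)).app X))))
    this

end Main

end Exact

end Groth.Agent.Lib.DAdjEquiv11
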