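import Groth.Agent.Lib.RlimTri31
import Groth.Prelude.Def_DCoh2
import Mathlib.Algebra.Homology.DerivedCategory.TStructure

/-!
# Derived limits of towers of objects of an abelian category (helper31)

For a tower `F n` in an abelian category `𝒜` and `K n := (F n)[0]` in `D(𝒜)`:
* `isRlimVia_of_isRlim`: `DCoh.IsRlim` gives `CohCx.IsRlimVia` for the components.
* `isRlim_of_iso`: transport of `DCoh.IsRlim` along an isomorphism.
* `isLimitConeOfTriangle`: if `M[0]` is a derived limit of `(F n)[0]`, then `M` is a limit of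
  `(F n)` in `𝒜`.
* `isRlim_single_limit`: if some derived limit `L` lies in the heart, then `(lim F n)[0]` is a
  derived limit.
-/

set_option autoImplicit false
set_option linter.unusedSectionVars false

open CategoryTheory CategoryTheory.Limits Opposite Pretriangulated DerivedCategory

universe w v' u'

namespace Groth.Agent.RlimHeart31

section General

variable {T : Type u'} [Category.{v'} T] [Preadditive T] [HasZeroObject T] [HasShift T ℤ]
  [∀ n : ℤ, (shiftFunctor T n).Additive] [Pretriangulated T]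
  (K : ℕ → T) (t : ∀ n, K (n + 1) ⟶ K n) [HasProduct K]

lemma isRlimVia_of_triangle {L : T} (a : L ⟶ ∏ᶜ K) (c : ∏ᶜ K ⟶ L⟦(1 : ℤ)⟧)
    (h : Triangle.mk a (Pi.lift fun n => Pi.π K n - Pi.π K (n + 1) ≫ t n) c ∈ distTriang T) :
    CohCx.IsRlimVia K t L (fun n => a ≫ Pi.π K n) := by
  refine ⟨c, ?_⟩
  have : Pi.lift (fun n => a ≫ Pi.π K n) = a := by
    apply Pi.hom_ext
    intro n
    rw [Pi.lift_π]
  rw [this]
  exact h

lemma isRlim_of_iso {L L' : T} (e : L ≅ L') (h : DCoh.IsRlim K t L) : DCoh.IsRlim K t L' := by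
  obtain ⟨a, c, hT⟩ := h
  refine ⟨e.inv ≫ a, c ≫ e.hom⟦(1 : ℤ)⟧', ?_⟩
  refine isomorphic_distinguished _ hT _ ?_
  refine Triangle.isoMk _ _ e.symm (Iso.refl _) (Iso.refl _) ?_ ?_ ?_
  · exact Category.comp_id _
  · exact (Category.comp_id _).trans (Category.id_comp _).symm
  · change (c ≫ e.hom⟦(1 : ℤ)⟧') ≫ e.inv⟦(1 : ℤ)⟧' = 𝟙 _ ≫ c
    rw [Category.assoc, ← Functor.map_comp, e.hom_inv_id, CategoryTheory.Functor.map_id,
      Category.comp_id, Category.id_comp]

lemma exists_isRlim : ∃ L : T, DCoh.IsRlim K t L := by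
  obtain ⟨L, a, c, h⟩ := distinguished_cocone_triangle₁
    (Pi.lift fun n => Pi.π K n - Pi.π K (n + 1) ≫ t n)
  exact ⟨L, a, c, h⟩

end General

variable {𝒜 : Type u'} [Category.{v'} 𝒜] [Abelian 𝒜] [HasDerivedCategory.{w} 𝒜]

lemma hom_single_shift_neg_eq_zero (G F : 𝒜) (j : ℤ) (hj : j < 0)
    (f : (singleFunctor 𝒜 0).obj G ⟶ ((singleFunctor 𝒜 0).obj F)⟦j⟧) : f = 0 := by
  have : (((singleFunctor 𝒜 0).obj F)⟦j⟧).IsGE (-j) :=
    TStructure.t.isGE_shift _ 0 j (-j) (by omega)
  exact TStructure.t.zero_of_isLE_of_isGE f 0 (-j) (by omega) inferInstance this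

variable (F : ℕ → 𝒜) (t : ∀ n, F (n + 1) ⟶ F n)
  [HasProduct fun n => (singleFunctor 𝒜 0).obj (F n)]

/-- the tower in the derived category -/
noncomputable abbrev KS : ℕ → DerivedCategory 𝒜 := fun n => (singleFunctor 𝒜 0).obj (F n)

/-- its transition maps -/
noncomputable abbrev tS : ∀ n, KS F (n + 1) ⟶ KS F n := fun n => (singleFunctor 𝒜 0).map (t n)

section Cone

variable {F t} {M : 𝒜} (a : (singleFunctor 𝒜 0).obj M ⟶ ∏ᶜ (KS F))
  (c : ∏ᶜ (KS F) ⟶ ((singleFunctor 𝒜 0).obj M)⟦(1 : ℤ)⟧)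
  (h : Triangle.mk a (Pi.lift fun n => Pi.π (KS F) n - Pi.π (KS F) (n + 1) ≫ tS F t n) c ∈
    distTriang (DerivedCategory 𝒜))

/-- the projections `M ⟶ F n` -/
noncomputable def proj (n : ℕ) : M ⟶ F n := (singleFunctor 𝒜 0).preimage (a ≫ Pi.π (KS F) n)

lemma map_proj (n : ℕ) : (singleFunctor 𝒜 0).map (proj a n) = a ≫ Pi.π (KS F) n :=
  (singleFunctor 𝒜 0).map_preimage _

include h in
lemma proj_succ (n : ℕ) : proj a (n + 1) ≫ t n = proj a n := by
  apply (singleFunctor 𝒜 0).map_injective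
  rw [Functor.map_comp, map_proj, map_proj]
  exact RlimTri31.a_succ (KS F) (tS F t) _ _ (isRlimVia_of_triangle (KS F) (tS F t) a c h) n

/-- the cone with vertex `M` -/
noncomputable def coneOfTriangle : Cone (CohCx.opSequence F t) where
  pt := M
  π := NatTrans.ofOpSequence (F := (Functor.const ℕᵒᵖ).obj M) (G := CohCx.opSequence F t)
    (fun n => proj a n) (fun n => by
      dsimp
      rw [Category.id_comp, Functor.ofOpSequence_map_homOfLE_succ]
      exact (proj_succ a c h n).symm)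

lemma coneOfTriangle_π_app (n : ℕ) : (coneOfTriangle a c h).π.app (op n) = proj a n := rfl

/-- `M` is the limit -/
noncomputable def isLimitConeOfTriangle : IsLimit (coneOfTriangle a c h) := by
  -- lifting
  have key : ∀ s : Cone (CohCx.opSequence F t),
      ∃ g : s.pt ⟶ M, ∀ n, g ≫ proj a n = s.π.app (op n) := by
    intro s
    let g₀ : (singleFunctor 𝒜 0).obj s.pt ⟶ ∏ᶜ (KS F) :=
      Pi.lift fun n => (singleFunctor 𝒜 0).map (s.π.app (op n))
    have hg₀ : g₀ ≫ (Pi.lift fun n => Pi.π (KS F) n - Pi.π (KS F) (n + 1) ≫ tS F t n) = 0 := by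
      apply Pi.hom_ext
      intro n
      rw [Category.assoc, Pi.lift_π, Preadditive.comp_sub, Pi.lift_π, Pi.lift_π_assoc, zero_comp,
        ← Functor.map_comp, sub_eq_zero]
      congr 1
      have := s.π.naturality (homOfLE (Nat.le_add_right n 1)).op
      dsimp at this
      rw [Category.id_comp, Functor.ofOpSequence_map_homOfLE_succ] at this
      exact this
    obtain ⟨g', hg'⟩ : ∃ g' : (singleFunctor 𝒜 0).obj s.pt ⟶ (singleFunctor 𝒜 0).obj M,
      g₀ = g' ≫ a := Triangle.coyoneda_exact₂ _ h g₀ hg₀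
    refine ⟨(singleFunctor 𝒜 0).preimage g', fun n => ?_⟩
    apply (singleFunctor 𝒜 0).map_injective
    rw [Functor.map_comp, Functor.map_preimage, map_proj]
    have : g' ≫ a = g₀ := hg'.symm
    rw [← Category.assoc, this, Pi.lift_π]
  have uniq : ∀ (G : 𝒜) (m m' : G ⟶ M), (∀ n, m ≫ proj a n = m' ≫ proj a n) → m = m' := by
    intro G m m' hm
    apply (singleFunctor 𝒜 0).map_injective
    rw [← sub_eq_zero]
    have h1 : ((singleFunctor 𝒜 0).map m - (singleFunctor 𝒜 0).map m') ≫ a = 0 := by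
      apply Pi.hom_ext
      intro n
      rw [Category.assoc, ← map_proj, Preadditive.sub_comp, ← Functor.map_comp,
        ← Functor.map_comp, hm, sub_self, zero_comp]
    obtain ⟨k, hk⟩ : ∃ k : (singleFunctor 𝒜 0).obj G ⟶ (∏ᶜ (KS F))⟦(-1 : ℤ)⟧,
        (singleFunctor 𝒜 0).map m - (singleFunctor 𝒜 0).map m' =
          k ≫ (Triangle.mk a (Pi.lift fun n => Pi.π (KS F) n - Pi.π (KS F) (n + 1) ≫ tS F t n)
            c).invRotate.mor₁ :=
      Triangle.coyoneda_exact₂ _ (inv_rot_of_distTriang _ h)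
        ((singleFunctor 𝒜 0).map m - (singleFunctor 𝒜 0).map m') h1
    have hk0 : k = 0 := by
      apply RlimTri31.shiftProd_ext (KS F) (-1)
      intro n
      exact (hom_single_shift_neg_eq_zero _ _ (-1) (by omega) _).trans
        (hom_single_shift_neg_eq_zero _ _ (-1) (by omega) _).symm
    rw [hk, hk0, zero_comp]
    rfl
  exact
    { lift := fun s => (key s).choose
      fac := fun s ⟨n⟩ => (key s).choose_spec n
      uniq := fun s m hm => uniq _ _ _ (fun n => by
        rw [(key s).choose_spec n]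
        exact hm (op n)) }

end Cone

/-- **if a derived limit of `(F n)[0]` is in the heart, then `(lim F n)[0]` is a derived limit** -/
theorem isRlim_single_limit [HasLimit (CohCx.opSequence F t)] (L : DerivedCategory 𝒜)
    (hL : DCoh.IsRlim (KS F) (tS F t) L) [L.IsGE 0] [L.IsLE 0] :
    DCoh.IsRlim (KS F) (tS F t) ((singleFunctor 𝒜 0).obj (limit (CohCx.opSequence F t))) := by
  obtain ⟨M, ⟨e⟩⟩ := exists_iso_singleFunctor_obj_of_isGE_of_isLE L 0
  obtain ⟨a, c, h⟩ := isRlim_of_iso (KS F) (tS F t) e hL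
  let e' : M ≅ limit (CohCx.opSequence F t) :=
    (isLimitConeOfTriangle a c h).conePointUniqueUpToIso (limit.isLimit _)
  exact isRlim_of_iso (KS F) (tS F t) ((singleFunctor 𝒜 0).mapIso e') ⟨a, c, h⟩

end Groth.Agent.RlimHeart31
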