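/-
helper11: for an exact functor `G : C₁ ⥤ C₂` with a right adjoint `R'` of `G.mapDerivedCategory`, a
projective object `P` of `C₁` and an object `M`: the unit `M[0] ⟶ R' G' (M[0])` is controlled by
`G.map` on `Hom(P, M)` (degree `0`) and by the groups `Hom(G P[0], G M[j])` (degree `j ≠ 0`).
-/
import Groth.Agent.Lib.ProjCorep11
import Groth.Agent.Lib.DAdjEquiv11
import Groth.Agent.Lib.RlimHeart31

set_option autoImplicit false
set_option linter.unusedSectionVars false
universe u
open CategoryTheory CategoryTheory.Limits Pretriangulated DerivedCategory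

namespace Groth.Agent.Lib.UnitSingle11

attribute [local instance] HasDerivedCategory.standard

open Groth.Agent.Lib.ProjCorep11 Groth.Agent.SingleMaps31

variable {C₁ C₂ : Type (u+1)} [Category.{u} C₁] [Category.{u} C₂] [Abelian C₁] [Abelian C₂]
  (G : C₁ ⥤ C₂) [G.Additive] [PreservesFiniteLimits G] [PreservesFiniteColimits G]
  (R' : DerivedCategory C₂ ⥤ DerivedCategory C₁) (adj : G.mapDerivedCategory ⊣ R')

include adj in
/-- post-composition with the unit corresponds to `G'.map` under the adjunction -/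
lemma bijective_comp_unit_iff (V Y : DerivedCategory C₁) :
    Function.Bijective (fun ζ : V ⟶ Y => ζ ≫ adj.unit.app Y) ↔
      Function.Bijective (fun ζ : V ⟶ Y => G.mapDerivedCategory.map ζ) := by
  have h : (fun ζ : V ⟶ Y => ζ ≫ adj.unit.app Y) =
      (adj.homEquiv V (G.mapDerivedCategory.obj Y)) ∘ (fun ζ : V ⟶ Y => G.mapDerivedCategory.map ζ) := by
    funext ζ
    dsimp only [Function.comp]
    rw [Adjunction.homEquiv_unit]
    exact adj.unit.naturality ζ
  rw [h, Function.Bijective.of_comp_iff' (adj.homEquiv V _).bijective]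

/-- `G'.map` on `Hom(P[0], M[0])` is bijective if `G.map` on `Hom(P, M)` is -/
lemma bijective_map_single (P M : C₁)
    (hG : Function.Bijective (fun φ : P ⟶ M => G.map φ)) :
    Function.Bijective (fun ζ : (singleFunctor C₁ 0).obj P ⟶ (singleFunctor C₁ 0).obj M =>
      G.mapDerivedCategory.map ζ) := by
  let ε := G.mapDerivedCategorySingleFunctor 0
  have h : (fun ζ : (singleFunctor C₁ 0).obj P ⟶ (singleFunctor C₁ 0).obj M =>
      G.mapDerivedCategory.map ζ) =
      (fun ψ : (singleFunctor C₂ 0).obj (G.obj P) ⟶ (singleFunctor C₂ 0).obj (G.obj M) =>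
        ε.hom.app P ≫ ψ ≫ ε.inv.app M) ∘
      (fun φ : G.obj P ⟶ G.obj M => (singleFunctor C₂ 0).map φ) ∘
      (fun φ : P ⟶ M => G.map φ) ∘
      (fun ζ : (singleFunctor C₁ 0).obj P ⟶ (singleFunctor C₁ 0).obj M =>
        (singleFunctor C₁ 0).preimage ζ) := by
    funext ζ
    dsimp only [Function.comp]
    have h1 := ε.hom.naturality ((singleFunctor C₁ 0).preimage ζ)
    dsimp only [Functor.comp_map] at h1
    rw [Functor.map_preimage] at h1
    rw [← reassoc_of% h1, Iso.hom_inv_id_app]
    exact (Category.comp_id _).symm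
  rw [h]
  refine Function.Bijective.comp ?_ (Function.Bijective.comp ?_ (Function.Bijective.comp hG ?_))
  · exact ⟨fun a b hab => by
      have := (cancel_epi (ε.hom.app P)).1 hab
      exact (cancel_mono (ε.inv.app M)).1 this,
      fun y => ⟨ε.inv.app P ≫ y ≫ ε.hom.app M, by simp⟩⟩
  · exact ⟨fun a b hab => (singleFunctor C₂ 0).map_injective hab,
      fun y => ⟨(singleFunctor C₂ 0).preimage y, Functor.map_preimage _ _⟩⟩
  · exact ⟨fun a b hab => by
      have := congrArg (singleFunctor C₁ 0).map hab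
      simpa using this,
      fun y => ⟨(singleFunctor C₁ 0).map y, Functor.preimage_map _⟩⟩

include adj in
lemma subsingleton_hom_shift_rightAdjoint (V : DerivedCategory C₁) (Z : DerivedCategory C₂) (j : ℤ)
    (h : Subsingleton (G.mapDerivedCategory.obj V ⟶ Z⟦j⟧)) :
    Subsingleton (V ⟶ (R'.obj Z)⟦j⟧) := by
  let _ : R'.CommShift ℤ := adj.rightAdjointCommShift ℤ
  let e : R'.obj (Z⟦j⟧) ≅ (R'.obj Z)⟦j⟧ := (R'.commShiftIso j).app Z
  exact ((adj.homEquiv V (Z⟦j⟧)).trans (Iso.homCongr (Iso.refl V) e)).symm.subsingleton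

include adj in
/-- the unit at `M[0]`, tested against a projective object `P` -/
theorem unit_single (P M : C₁) [Projective P]
    (hG : Function.Bijective (fun φ : P ⟶ M => G.map φ))
    (hvan : ∀ j : ℤ, 0 < j → Subsingleton ((singleFunctor C₂ 0).obj (G.obj P) ⟶
      ((singleFunctor C₂ 0).obj (G.obj M))⟦j⟧)) :
    Function.Bijective (fun φ : P ⟶ (homologyFunctor C₁ 0).obj ((singleFunctor C₁ 0).obj M) =>
      φ ≫ (homologyFunctor C₁ 0).map (adj.unit.app ((singleFunctor C₁ 0).obj M))) ∧
    ∀ j : ℤ, j ≠ 0 → Subsingleton (P ⟶ (homologyFunctor C₁ j).obj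
      (R'.obj (G.mapDerivedCategory.obj ((singleFunctor C₁ 0).obj M)))) := by
  constructor
  · refine (bijective_iff P (adj.unit.app ((singleFunctor C₁ 0).obj M))).1 ?_
    exact (bijective_comp_unit_iff G R' adj ((singleFunctor C₁ 0).obj P)
      ((singleFunctor C₁ 0).obj M)).2 (bijective_map_single G P M hG)
  · intro j hj
    have h1 : Subsingleton ((singleFunctor C₂ 0).obj (G.obj P) ⟶
        ((singleFunctor C₂ 0).obj (G.obj M))⟦j⟧) := by
      rcases lt_or_gt_of_ne hj with h | h
      · exact ⟨fun a b => (Groth.Agent.RlimHeart31.hom_single_shift_neg_eq_zero _ _ j h a).trans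
          (Groth.Agent.RlimHeart31.hom_single_shift_neg_eq_zero _ _ j h b).symm⟩
      · exact hvan j h
    let ε := G.mapDerivedCategorySingleFunctor 0
    have h2 : Subsingleton (G.mapDerivedCategory.obj ((singleFunctor C₁ 0).obj P) ⟶
        (G.mapDerivedCategory.obj ((singleFunctor C₁ 0).obj M))⟦j⟧) :=
      @Equiv.subsingleton _ _
        (Iso.homCongr (ε.app P) ((shiftFunctor _ j).mapIso (ε.app M))) h1
    have h3 : Subsingleton (W P ⟶ (shiftFunctor (DerivedCategory C₁) j).obj
        (R'.obj (G.mapDerivedCategory.obj ((singleFunctor C₁ 0).obj M)))) :=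
      subsingleton_hom_shift_rightAdjoint G R' adj ((singleFunctor C₁ 0).obj P) _ j h2
    exact @Equiv.subsingleton _ _ (homEquivShift P _ j).symm h3

end Groth.Agent.Lib.UnitSingle11
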