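/-
helper11: the unit of the derived tilde-Γ adjunction (any right adjoint of `tilde.mapDerivedCategory`) is an
isomorphism at `M[0]`: affine vanishing `Ext^j(O, M~) = 0` for `j > 0` and full faithfulness of tilde.
-/
import Groth.Agent.Lib.UnitSingle11
import Groth.Agent.Lib.ModProjGen11
import Groth.Agent.Lib.FreeOnTerminal11
import Groth.Agent.Lib.ModGen31
import Groth.Agent.Lib.AffVan
import Mathlib.AlgebraicGeometry.Modules.Tilde

set_option autoImplicit false
set_option linter.unusedSectionVars false
universe u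
open CategoryTheory CategoryTheory.Limits Pretriangulated DerivedCategory AlgebraicGeometry

namespace Groth.Agent.Lib.TildeUnit11

attribute [local instance] HasDerivedCategory.standard

open Groth.Agent.Lib.ProjCorep11 Groth.Agent.Lib.ModProjGen11

section General

variable (R : Type u) [Ring R] {C₂ : Type (u+1)} [Category.{u} C₂] [Abelian C₂]
  (G : ModuleCat.{u} R ⥤ C₂) [G.Additive] [PreservesFiniteLimits G] [PreservesFiniteColimits G]
  (R' : DerivedCategory C₂ ⥤ DerivedCategory (ModuleCat.{u} R)) (adj : G.mapDerivedCategory ⊣ R')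

include adj in
theorem isIso_unit_single (M : ModuleCat.{u} R)
    (hG : Function.Bijective (fun φ : P R ⟶ M => G.map φ))
    (hvan : ∀ j : ℤ, 0 < j → Subsingleton ((singleFunctor C₂ 0).obj (G.obj (P R)) ⟶
      ((singleFunctor C₂ 0).obj (G.obj M))⟦j⟧)) :
    IsIso (adj.unit.app ((singleFunctor (ModuleCat.{u} R) 0).obj M)) := by
  obtain ⟨h0, hne⟩ := Groth.Agent.Lib.UnitSingle11.unit_single G R' adj (P R) M hG hvan
  rw [DerivedCategory.isIso_iff]
  intro j
  by_cases hj : j = 0
  · subst hj
    exact (bijective_comp_iff_isIso R _).1 h0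
  · have z1 : IsZero ((homologyFunctor (ModuleCat.{u} R) j).obj
        ((singleFunctor (ModuleCat.{u} R) 0).obj M)) := by
      rcases lt_or_gt_of_ne hj with h | h
      · exact isZero_of_isGE ((singleFunctor (ModuleCat.{u} R) 0).obj M) 0 j h
      · exact isZero_of_isLE ((singleFunctor (ModuleCat.{u} R) 0).obj M) 0 j h
    have z2 : IsZero ((homologyFunctor (ModuleCat.{u} R) j).obj
        (R'.obj (G.mapDerivedCategory.obj ((singleFunctor (ModuleCat.{u} R) 0).obj M)))) := by
      have := hne j hj
      have : Subsingleton ((homologyFunctor (ModuleCat.{u} R) j).obj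
          (R'.obj (G.mapDerivedCategory.obj ((singleFunctor (ModuleCat.{u} R) 0).obj M)))) :=
        @Equiv.subsingleton _ _ (homEquiv R _).symm this
      exact ModuleCat.isZero_of_subsingleton _
    exact ⟨⟨0, z1.eq_of_src _ _, z2.eq_of_src _ _⟩⟩

end General

section Tilde

variable (R : CommRingCat.{u})

/-- `Ext^j(O, F) = 0` for `j > 0` and `F` quasi-coherent on `Spec R`, in `Hom` form -/
lemma subsingleton_hom_unit_shift (F : (Spec R).Modules) (hF : Coh.IsQCoh F) (j : ℤ) (hj : 0 < j) :
    Subsingleton ((singleFunctor (Spec R).Modules 0).obj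
      ((tilde.functor R).obj (P R)) ⟶
      ((singleFunctor (Spec R).Modules 0).obj F)⟦j⟧) := by
  obtain ⟨n, rfl⟩ : ∃ n : ℕ, j = ((n + 1 : ℕ) : ℤ) := ⟨(j - 1).toNat, by push_cast; omega⟩
  have := Groth.Agent.ModGen31.enoughInjectives (Spec R).sheaf
  have hHU : Subsingleton (CohSite.HU ((Groth.Agent.ModGen31.Γ (Spec R).sheaf).obj F) (n + 1)
      (⊤ : (Spec R).Opens)) :=
    ⟨fun a b => (Groth.Agent.Lib.AffVan.HU_eq_zero_of_isAffineOpen F hF n
        (isAffineOpen_top (Spec R)) a).trans
      (Groth.Agent.Lib.AffVan.HU_eq_zero_of_isAffineOpen F hF n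
        (isAffineOpen_top (Spec R)) b).symm⟩
  have h := (Groth.Agent.ModGen31.gen (Spec R).sheaf).subsingleton_hom_ZD_single_nat
    (Groth.Agent.ModGen31.hacyc (Spec R).sheaf) (⊤ : (Spec R).Opens) F (n + 1) hHU
  let i : ModSite.freeOn (Spec R).sheaf (⊤ : (Spec R).Opens) ≅ (tilde.functor R).obj (P R) :=
    Groth.Agent.Lib.FreeOnTerminal11.freeOnIsoUnit (Spec R).sheaf isTerminalTop
  exact @Equiv.subsingleton _ _
    (Iso.homCongr ((singleFunctor (Spec R).Modules 0).mapIso i.symm)
      (Iso.refl (((singleFunctor (Spec R).Modules 0).obj F)⟦((n + 1 : ℕ) : ℤ)⟧))) h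

variable [PreservesFiniteLimits (tilde.functor R)]
  (R' : DerivedCategory (Spec R).Modules ⥤ DerivedCategory (ModuleCat.{u} R))
  (adj : (tilde.functor R).mapDerivedCategory ⊣ R')

include adj in
/-- **the unit of the derived tilde-Γ adjunction at a module in degree `0` is an isomorphism** -/
theorem isIso_unit_tilde (M : ModuleCat.{u} R) :
    IsIso (adj.unit.app ((singleFunctor (ModuleCat.{u} R) 0).obj M)) := by
  have : PreservesFiniteColimits (tilde.functor R) := inferInstance
  refine isIso_unit_single R (tilde.functor R) R' adj M ?_ ?_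
  · exact ⟨fun a b hab => (tilde.functor R).map_injective hab,
      fun y => ⟨(tilde.functor R).preimage y, Functor.map_preimage _ _⟩⟩
  · intro j hj
    exact subsingleton_hom_unit_shift R _
      (inferInstance : ((tilde.functor R).obj M).IsQuasicoherent) j hj

end Tilde

end Groth.Agent.Lib.TildeUnit11
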