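/-
helper11: `D(R) ≃ D_QCoh(O_{Spec R})` : `tilde.mapDerivedCategory` is fully faithful with essential image the
objects with quasi-coherent cohomology sheaves.  Instantiates helper66's `DAdjEquivUnb66`.
-/
import Groth.Agent.Lib.DAdjEquivUnb66
import Groth.Agent.Lib.TildeDAdj11
import Groth.Agent.Lib.TildeUnit11
import Groth.Agent.Lib.QCohWeakSerre11
import Groth.Agent.Lib.ModProjGen11
import Groth.Agent.Lib.SchemeGen31
import Groth.Agent.Lib.DProd31
import Mathlib.Algebra.Category.ModuleCat.EnoughInjectives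

set_option autoImplicit false
set_option linter.unusedSectionVars false
universe u
open CategoryTheory CategoryTheory.Limits Pretriangulated DerivedCategory AlgebraicGeometry

namespace Groth.Agent.Lib.TildeDEquiv11

attribute [local instance] HasDerivedCategory.standard

open Groth.Agent.Lib.QCohWeakSerre11 Groth.Agent.Lib.TildeDAdj11

variable (R : CommRingCat.{u}) [PreservesFiniteLimits (tilde.functor R)]

lemma hRlim (X : DerivedCategory (Spec R).Modules) (hX : WSerre.cohIn (QC (Spec R)) X)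
    [HasProduct (CohCx.truncTower X)] :
    CohCx.IsRlimVia (CohCx.truncTower X) (CohCx.truncTowerMap X) X (CohCx.toTruncTower X) := by
  refine @Groth.Agent.SchemeGen31.isRlimVia_truncTower_of_affine (Spec R) (Spec R).sheaf
    (HasDerivedCategory.standard _) X ‹_› (fun V hV q k hk => ?_)
  obtain ⟨n, rfl⟩ : ∃ n : ℕ, k = n + 1 := ⟨k - 1, by omega⟩
  refine ⟨fun a b => ?_⟩
  exact (Groth.Agent.Lib.AffVan.HU_eq_zero_of_isAffineOpen _ (hX _) n hV a).trans
    (Groth.Agent.Lib.AffVan.HU_eq_zero_of_isAffineOpen _ (hX _) n hV b).symm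

lemma h2c (F : (Spec R).Modules) (hF : QC (Spec R) F) :
    ∃ F' : ModuleCat.{u} R, (⊤ : ObjectProperty (ModuleCat.{u} R)) F' ∧
      Nonempty ((tilde.functor R).obj F' ≅ F) := by
  have hF' : (SheafOfModules.isQuasicoherent (Spec R).ringCatSheaf) F := hF
  rw [← essImage_tilde] at hF'
  obtain ⟨M, ⟨e⟩⟩ := hF'
  exact ⟨M, trivial, ⟨e⟩⟩

section

variable (R' : DerivedCategory (Spec R).Modules ⥤ DerivedCategory (ModuleCat.{u} R))
  (adj : (tilde.functor R).mapDerivedCategory ⊣ R')

include adj in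
theorem main_of_adj :
    (∀ Y : DerivedCategory (ModuleCat.{u} R), IsIso (adj.unit.app Y)) ∧
    (∀ X : DerivedCategory (Spec R).Modules, WSerre.cohIn (QC (Spec R)) X →
      IsIso (adj.counit.app X)) := by
  have : PreservesFiniteColimits (tilde.functor R) := inferInstance
  have := Groth.Agent.ModGen31.enoughInjectives (Spec R).sheaf
  have hP₂ : ∀ X : DerivedCategory (Spec R).Modules, HasProduct (CohCx.truncTower X) := fun X =>
    Groth.Agent.DProd31.hasProduct_of_isGE _ (fun n : ℕ => -(n : ℤ))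
      (fun n => (inferInstance :
        ((DerivedCategory.TStructure.t.truncGE (-(n : ℤ))).obj X).IsGE (-(n : ℤ))))
  have hP₁ : ∀ X : DerivedCategory (Spec R).Modules,
      HasProduct (fun n => R'.obj (CohCx.truncTower X n)) := fun X =>
    Groth.Agent.DProd31.hasProduct_of_isGE _ (fun n : ℕ => -(n : ℤ))
      (fun n => by
        have : ((DerivedCategory.TStructure.t.truncGE (-(n : ℤ))).obj X).IsGE (-(n : ℤ)) :=
          inferInstance
        exact Groth.Agent.Lib.DAdjEquiv11.isGE_rightAdjoint (tilde.functor R) R' adj _ (-(n : ℤ)))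
  have hR : ∀ X : DerivedCategory (Spec R).Modules, WSerre.cohIn (QC (Spec R)) X →
      ∀ [HasProduct (CohCx.truncTower X)],
      CohCx.IsRlimVia (CohCx.truncTower X) (CohCx.truncTowerMap X) X (CohCx.toTruncTower X) :=
    fun X hX _ => hRlim R X hX
  have hConst : ∀ (E : ℕ → DerivedCategory (ModuleCat.{u} R)) (t : ∀ n, E (n + 1) ⟶ E n)
      [HasProduct E], (∀ n, WSerre.cohInPlus (⊤ : ObjectProperty (ModuleCat.{u} R)) (E n)) →
      (∀ j : ℤ, ∃ n₀ : ℕ, ∀ n, n₀ ≤ n →
        IsIso ((DerivedCategory.homologyFunctor (ModuleCat.{u} R) j).map (t n))) →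
      ∀ (L : DerivedCategory (ModuleCat.{u} R)) (a : ∀ n, L ⟶ E n), CohCx.IsRlimVia E t L a →
      ∀ j : ℤ, ∃ n₀ : ℕ, ∀ n, n₀ ≤ n →
        IsIso ((DerivedCategory.homologyFunctor (ModuleCat.{u} R) j).map (a n)) := by
    intro E t _ _ hconst L a hL j
    exact Groth.Agent.Lib.ModProjGen11.isIso_homology_rlim_of_eventually_constant R E t hconst L a hL j
  have h2a : ∀ F' : ModuleCat.{u} R, (⊤ : ObjectProperty (ModuleCat.{u} R)) F' →
      QC (Spec R) ((tilde.functor R).obj F') := fun F' _ =>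
    (inferInstance : ((tilde.functor R).obj F').IsQuasicoherent)
  have h3 : ∀ F' : ModuleCat.{u} R, (⊤ : ObjectProperty (ModuleCat.{u} R)) F' →
      IsIso (adj.unit.app ((singleFunctor (ModuleCat.{u} R) 0).obj F')) := fun F' _ =>
    Groth.Agent.Lib.TildeUnit11.isIso_unit_tilde R R' adj F'
  exact ⟨fun Y => (Groth.Agent.Lib.DAdjEquivUnb66.cohIn_G_and_isIso_unit (tilde.functor R) R'
      adj (QC (Spec R)) ⊤ hR hP₂ hP₁ hConst h2a (h2c R) h3 Y (fun _ => trivial)).2,
    fun X hX => (Groth.Agent.Lib.DAdjEquivUnb66.cohIn_R_and_isIso_counit (tilde.functor R) R'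
      adj (QC (Spec R)) ⊤ hR hP₂ hP₁ hConst (h2c R) h3 X hX).2⟩

end

/-- **D(R) ≃ D_QCoh(Spec R)** -/
theorem main :
    ((tilde.functor R).mapDerivedCategory).Full ∧ ((tilde.functor R).mapDerivedCategory).Faithful ∧
    ∀ K : DerivedCategory (Spec R).Modules, WSerre.cohIn (QC (Spec R)) K ↔
      ∃ M, Nonempty (((tilde.functor R).mapDerivedCategory).obj M ≅ K) := by
  have : PreservesFiniteColimits (tilde.functor R) := inferInstance
  obtain ⟨hu, hc⟩ := main_of_adj R (RΓ R) (adj R)
  have hunit : IsIso (adj R).unit := NatIso.isIso_of_isIso_app _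
  let ff := (adj R).fullyFaithfulLOfIsIsoUnit
  refine ⟨ff.full, ff.faithful, fun K => ⟨fun hK => ?_, ?_⟩⟩
  · have := hc K hK
    exact ⟨(RΓ R).obj K, ⟨asIso ((adj R).counit.app K)⟩⟩
  · rintro ⟨M, ⟨e⟩⟩ i
    have h := Groth.Agent.Lib.DAdjEquiv11.cohIn_map (tilde.functor R)
      (⊤ : ObjectProperty (ModuleCat.{u} R)) (QC (Spec R))
      (fun F' _ => (inferInstance : ((tilde.functor R).obj F').IsQuasicoherent)) M
      (fun _ => trivial) i
    exact QC_of_iso ((homologyFunctor (Spec R).Modules i).mapIso e) h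

end Groth.Agent.Lib.TildeDEquiv11
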