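import Groth.Agent.Lib.H90OXModTilde
import Groth.Agent.Lib.QCohFlat
import Groth.Agent.Lib.LocFreeFP
import Groth.Agent.Lib.H90InvertibleFP
import Mathlib.RingTheory.Flat.EquationalCriterion

/-!
# `tilde M` is finite locally free iff `M` is finite projective
-/

set_option autoImplicit false
universe u
open CategoryTheory CategoryTheory.Limits AlgebraicGeometry TopologicalSpace Opposite
open AlgebraicGeometry.Scheme AlgebraicGeometry.Scheme.Modules
open Groth.Agent.Lib.H90OXModAffine Groth.Agent.Lib.H90OXModTilde

namespace Groth.Agent.Lib.TildeLocFree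

variable {R : CommRingCat.{u}}

set_option backward.isDefEq.respectTransparency false in
theorem flat_ΓSpec_iff (N : (Spec R).Modules) :
    Module.Flat Γ(Spec R, (⊤ : (Spec R).Opens)) Γ(N, (⊤ : (Spec R).Opens)) ↔
      Module.Flat R (ΓSpec N) := by
  constructor
  · intro h
    have : Module.Flat R Γ(Spec R, (⊤ : (Spec R).Opens)) :=
      Module.Flat.of_linearEquiv
        (LinearEquiv.ofBijective (Algebra.linearMap R _) bijective_algebraMap_ΓSpec).symm
    exact Module.Flat.trans R Γ(Spec R, (⊤ : (Spec R).Opens)) Γ(N, (⊤ : (Spec R).Opens))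
  · intro h
    have : IsLocalization (⊥ : Submonoid R) Γ(Spec R, (⊤ : (Spec R).Opens)) := by
      have : IsLocalization (⊥ : Submonoid R) R := IsLocalization.self (by
        intro x hx
        rw [Submonoid.mem_bot] at hx
        subst hx
        exact isUnit_one)
      exact IsLocalization.isLocalization_of_algEquiv _
        (AlgEquiv.ofBijective (Algebra.ofId R Γ(Spec R, (⊤ : (Spec R).Opens)))
          bijective_algebraMap_ΓSpec)
    have h' : Module.Flat R Γ(N, (⊤ : (Spec R).Opens)) := h
    have := isLocalizedModule_id (⊥ : Submonoid R) Γ(N, (⊤ : (Spec R).Opens))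
      Γ(Spec R, (⊤ : (Spec R).Opens))
    exact Module.Flat.of_isLocalizedModule (R := R) (M := Γ(N, (⊤ : (Spec R).Opens)))
      Γ(Spec R, (⊤ : (Spec R).Opens)) (⊥ : Submonoid R)
      (LinearMap.id : Γ(N, (⊤ : (Spec R).Opens)) →ₗ[R] Γ(N, (⊤ : (Spec R).Opens)))

set_option backward.isDefEq.respectTransparency false in
theorem isFinLocFree_tilde_iff (M : ModuleCat.{u} R) :
    FlatMod.IsFinLocFree (tilde M) ↔ Module.Finite R M ∧ Module.Projective R M := by
  constructor
  · intro h
    have hFP : Module.FinitePresentation R M :=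
      (isFP_tilde_iff M).1 (Groth.Agent.Lib.H90Invertible.isFinitePresentation_of_isFinLocFree h)
    have : (tilde M).IsQuasicoherent :=
      Groth.Agent.Lib.H90Invertible.isQuasicoherent_of_isFinLocFree h
    have hflat1 : Module.Flat Γ(Spec R, (⊤ : (Spec R).Opens)) Γ(tilde M, (⊤ : (Spec R).Opens)) :=
      Groth.Agent.Lib.QCohFlat.flat_sections_of_flat_stalks (tilde M) (isAffineOpen_top (Spec R))
        fun x => by
          have := Groth.Agent.Lib.LocFreeFP.free_stalk_of_isFinLocFree h x.1
          infer_instance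
    have hflat2 : Module.Flat R (ΓSpec (tilde M)) := (flat_ΓSpec_iff _).1 hflat1
    have hflat : Module.Flat R M := Module.Flat.of_linearEquiv (tilde.isoTop M).toLinearEquiv
    exact ⟨inferInstance, Module.Flat.projective_of_finitePresentation⟩
  · rintro ⟨hfin, hproj⟩
    have hFP : Module.FinitePresentation R M := Module.finitePresentation_of_projective R M
    have hFP' : CohB1.IsFP (tilde M) := (isFP_tilde_iff M).2 hFP
    have hflat2 : Module.Flat R (ΓSpec (tilde M)) :=
      Module.Flat.of_linearEquiv (tilde.isoTop M).toLinearEquiv.symm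
    have hflat1 := (flat_ΓSpec_iff (tilde M)).2 hflat2
    refine Groth.Agent.Lib.LocFreeFP.isFinLocFree_of_isFP_of_flat _ hFP' fun x => ?_
    exact Groth.Agent.Lib.QCohFlat.flat_stalk_of_flat_sections (tilde M) (isAffineOpen_top (Spec R))
      ⟨x, trivial⟩ hflat1

end Groth.Agent.Lib.TildeLocFree
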