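/-
helper11: on an affine scheme, bounded above complexes of finite locally free modules are "K-projective against
complexes of quasi-coherent modules": `Hom_K(E, F) → Hom_D(E, F)` is bijective (Spec case via S0997's
`TildeDEquiv11.main` + K-projectivity in `ModuleCat A`).
-/
import Groth.Agent.Lib.TildeDEquiv11
import Groth.Agent.Lib.TildeLocFree
import Groth.Agent.Lib.H60TildeExact
import Groth.Agent.Lib.H90InvertibleFP

set_option autoImplicit false
set_option linter.unusedSectionVars false
universe u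
open CategoryTheory CategoryTheory.Limits DerivedCategory AlgebraicGeometry

namespace Groth.Agent.Lib.AffineKProj11

section Abstract

variable {K₁ D₁ K₂ D₂ : Type*} [Category K₁] [Category D₁] [Category K₂] [Category D₂]
  (Q₁ : K₁ ⥤ D₁) (Q₂ : K₂ ⥤ D₂) (TK : K₁ ⥤ K₂) (TD : D₁ ⥤ D₂)
  (θ : Q₁ ⋙ TD ≅ TK ⋙ Q₂) [TK.Full] [TK.Faithful] [TD.Full] [TD.Faithful]

include θ in
/-- transport of bijectivity of a "localization" functor along a square of fully faithful functors -/
lemma bijective_map_of_square (a b : K₁)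
    (h : Function.Bijective (fun φ : a ⟶ b => Q₁.map φ)) :
    Function.Bijective (fun φ : TK.obj a ⟶ TK.obj b => Q₂.map φ) := by
  have key : ∀ ψ : a ⟶ b, Q₂.map (TK.map ψ) =
      θ.inv.app a ≫ TD.map (Q₁.map ψ) ≫ θ.hom.app b := by
    intro ψ
    have := θ.hom.naturality ψ
    dsimp at this
    rw [this, Iso.inv_hom_id_app_assoc]
  constructor
  · intro φ₁ φ₂ h12
    obtain ⟨ψ₁, rfl⟩ := TK.map_surjective φ₁
    obtain ⟨ψ₂, rfl⟩ := TK.map_surjective φ₂
    change Q₂.map (TK.map ψ₁) = Q₂.map (TK.map ψ₂) at h12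
    rw [key, key] at h12
    have h1 : TD.map (Q₁.map ψ₁) = TD.map (Q₁.map ψ₂) := by
      have := (cancel_epi (θ.inv.app a)).1 h12
      exact (cancel_mono (θ.hom.app b)).1 this
    rw [h.1 (TD.map_injective h1)]
  · intro g
    obtain ⟨k, hk⟩ := TD.map_surjective (θ.hom.app a ≫ g ≫ θ.inv.app b)
    obtain ⟨ψ, hψ⟩ := h.2 k
    refine ⟨TK.map ψ, ?_⟩
    change Q₂.map (TK.map ψ) = g
    rw [key]
    change θ.inv.app a ≫ TD.map ((fun φ => Q₁.map φ) ψ) ≫ θ.hom.app b = g
    rw [hψ, hk]
    simp

/-- bijectivity of `Q.map` on `Hom(a, b)` only depends on the isomorphism classes of `a`, `b` -/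
lemma bijective_map_of_iso {K D : Type*} [Category K] [Category D] (Q : K ⥤ D) {a a' b b' : K}
    (ea : a ≅ a') (eb : b ≅ b') (h : Function.Bijective (fun φ : a ⟶ b => Q.map φ)) :
    Function.Bijective (fun φ : a' ⟶ b' => Q.map φ) := by
  have key : ∀ φ : a' ⟶ b', Q.map φ =
      Q.map ea.inv ≫ Q.map (ea.hom ≫ φ ≫ eb.inv) ≫ Q.map eb.hom := by
    intro φ
    simp [← Functor.map_comp]
  constructor
  · intro φ₁ φ₂ h12
    have h1 : ea.hom ≫ φ₁ ≫ eb.inv = ea.hom ≫ φ₂ ≫ eb.inv := by
      apply h.1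
      change Q.map _ = Q.map _
      simp only [Functor.map_comp]
      change Q.map φ₁ = Q.map φ₂ at h12
      rw [h12]
    have h2 := (cancel_epi ea.hom).1 h1
    exact (cancel_mono eb.inv).1 h2
  · intro g
    obtain ⟨ψ, hψ⟩ := h.2 (Q.map ea.hom ≫ g ≫ Q.map eb.inv)
    refine ⟨ea.inv ≫ ψ ≫ eb.hom, ?_⟩
    change Q.map ψ = _ at hψ
    change Q.map (ea.inv ≫ ψ ≫ eb.hom) = g
    simp [Functor.map_comp, hψ, ← Functor.map_comp_assoc]

end Abstract

section Spec

attribute [local instance] HasDerivedCategory.standard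

open Groth.Agent.Lib.TildeDAdj11

variable (A : CommRingCat.{u})

lemma isIso_counit_app (N : (Spec A).Modules) (hN : Coh.IsQCoh N) :
    IsIso ((tadj A).counit.app N) := by
  have : N.IsQuasicoherent := hN
  exact inferInstanceAs (IsIso N.fromTildeΓ)

/-- a complex with quasi-coherent terms is the tilde of its complex of global sections -/
noncomputable def cxIso (E : CochainComplex (Spec A).Modules ℤ) (hE : ∀ i, Coh.IsQCoh (E.X i)) :
    ((tilde.functor A).mapHomologicalComplex (ComplexShape.up ℤ)).obj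
      (((Γf A).mapHomologicalComplex (ComplexShape.up ℤ)).obj E) ≅ E :=
  HomologicalComplex.Hom.isoOfComponents
    (fun i => @asIso _ _ _ _ ((tadj A).counit.app (E.X i)) (isIso_counit_app A _ (hE i)))
    (fun i j _ => ((tadj A).counit.naturality (E.d i j)).symm)

lemma projective_Γf_of_isFinLocFree (N : (Spec A).Modules) (hN : FlatMod.IsFinLocFree N) :
    Projective ((Γf A).obj N) := by
  have hq : Coh.IsQCoh N := Groth.Agent.Lib.H90Invertible.isQuasicoherent_of_isFinLocFree hN
  have := isIso_counit_app A N hq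
  have e : N ≅ tilde ((Γf A).obj N) := (asIso ((tadj A).counit.app N)).symm
  have h1 : FlatMod.IsFinLocFree (tilde ((Γf A).obj N)) :=
    Groth.Agent.Lib.FinLocFree.isFinLocFree_of_iso e hN
  have h2 := (Groth.Agent.Lib.TildeLocFree.isFinLocFree_tilde_iff ((Γf A).obj N)).1 h1
  exact (IsProjective.iff_projective (R := A) (P := (Γf A).obj N)).1 h2.2

/-- **Spec case**: bounded above finite locally free `E`, quasi-coherent `F` -/
theorem spec_bijective (E F : CochainComplex (Spec A).Modules ℤ) (b : ℤ)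
    (hEb : ∀ i : ℤ, b < i → IsZero (E.X i))
    (hE : ∀ i : ℤ, FlatMod.IsFinLocFree (E.X i)) (hF : ∀ i : ℤ, Coh.IsQCoh (F.X i)) :
    Function.Bijective (fun φ : (HomotopyCategory.quotient (Spec A).Modules (ComplexShape.up ℤ)).obj E ⟶
        (HomotopyCategory.quotient (Spec A).Modules (ComplexShape.up ℤ)).obj F =>
      (DerivedCategory.Qh (C := (Spec A).Modules)).map φ) := by
  have hEq : ∀ i, Coh.IsQCoh (E.X i) := fun i =>
    Groth.Agent.Lib.H90Invertible.isQuasicoherent_of_isFinLocFree (hE i)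
  let P : CochainComplex (ModuleCat.{u} A) ℤ :=
    ((Γf A).mapHomologicalComplex (ComplexShape.up ℤ)).obj E
  let M : CochainComplex (ModuleCat.{u} A) ℤ :=
    ((Γf A).mapHomologicalComplex (ComplexShape.up ℤ)).obj F
  have hPb : P.IsStrictlyLE b := by
    rw [CochainComplex.isStrictlyLE_iff]
    intro i hi
    exact (Γf A).map_isZero (hEb i hi)
  have hPp : ∀ i, Projective (P.X i) := fun i => projective_Γf_of_isFinLocFree A _ (hE i)
  have hPK : P.IsKProjective := CochainComplex.isKProjective_of_projective P b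
  obtain ⟨hfull, hfaith, -⟩ := Groth.Agent.Lib.TildeDEquiv11.main A
  have h0 : Function.Bijective (fun φ :
      (HomotopyCategory.quotient (ModuleCat.{u} A) (ComplexShape.up ℤ)).obj P ⟶
      (HomotopyCategory.quotient (ModuleCat.{u} A) (ComplexShape.up ℤ)).obj M =>
      (DerivedCategory.Qh (C := ModuleCat.{u} A)).map φ) :=
    CochainComplex.IsKProjective.Qh_map_bijective P _
  have h1 := bijective_map_of_square (DerivedCategory.Qh (C := ModuleCat.{u} A))
    (DerivedCategory.Qh (C := (Spec A).Modules))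
    ((tilde.functor A).mapHomotopyCategory (ComplexShape.up ℤ))
    ((tilde.functor A).mapDerivedCategory) (tilde.functor A).mapDerivedCategoryFactorsh _ _ h0
  let θ := (tilde.functor A).mapHomotopyCategoryFactors (ComplexShape.up ℤ)
  exact bijective_map_of_iso (DerivedCategory.Qh (C := (Spec A).Modules))
    (θ.app P ≪≫ (HomotopyCategory.quotient _ _).mapIso (cxIso A E hEq))
    (θ.app M ≪≫ (HomotopyCategory.quotient _ _).mapIso (cxIso A F hF)) h1

end Spec

end Groth.Agent.Lib.AffineKProj11
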