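import Groth.Agent.Lib.RestrictExact

/-!
# Finite locally free modules: stability under restriction
-/

set_option autoImplicit false
universe u

open CategoryTheory CategoryTheory.Limits AlgebraicGeometry

namespace Groth.Agent.Lib.FinLocFree

variable {X Y : Scheme.{u}}

/-- The restriction of a free module along an open immersion is free. -/
noncomputable def restrictFreeModIso (g : X ⟶ Y) [IsOpenImmersion g] (n : ℕ) :
    (FlatMod.freeMod Y n).restrict g ≅ FlatMod.freeMod X n :=
  PreservesCoproduct.iso (Scheme.Modules.restrictFunctor g)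
      (fun _ : Fin n => Coh.structureModule Y) ≪≫
    Sigma.mapIso (fun _ => Scheme.Modules.restrictUnitIso g)

/-- Restrictions along the two paths of a commutative square of open immersions agree. -/
noncomputable def restrictSquareIso {A B B' C : Scheme.{u}} (a : A ⟶ B) (b : B ⟶ C)
    (a' : A ⟶ B') (b' : B' ⟶ C) [IsOpenImmersion a] [IsOpenImmersion b] [IsOpenImmersion a']
    [IsOpenImmersion b'] (h : a ≫ b = a' ≫ b') :
    Scheme.Modules.restrictFunctor b ⋙ Scheme.Modules.restrictFunctor a ≅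
      Scheme.Modules.restrictFunctor b' ⋙ Scheme.Modules.restrictFunctor a' :=
  (Scheme.Modules.restrictFunctorComp a b).symm ≪≫ Scheme.Modules.restrictFunctorCongr h ≪≫
    Scheme.Modules.restrictFunctorComp a' b'

theorem isFinLocFree_of_iso {M N : X.Modules} (e : M ≅ N) (hM : FlatMod.IsFinLocFree M) :
    FlatMod.IsFinLocFree N := by
  intro x
  obtain ⟨U, n, hxU, ⟨i⟩⟩ := hM x
  exact ⟨U, n, hxU, ⟨(Scheme.Modules.restrictFunctor U.ι).mapIso e.symm ≪≫ i⟩⟩

/-- Finite local freeness is stable under restriction along open immersions. -/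
theorem isFinLocFree_restrict {W : Scheme.{u}} (j : W ⟶ X) [IsOpenImmersion j] {E : X.Modules}
    (hE : FlatMod.IsFinLocFree E) : FlatMod.IsFinLocFree (E.restrict j) := by
  intro w
  obtain ⟨U, n, hxU, ⟨e⟩⟩ := hE (j w)
  refine ⟨j ⁻¹ᵁ U, n, hxU, ⟨?_⟩⟩
  have hsq : (j ⁻¹ᵁ U).ι ≫ j = (j ∣_ U) ≫ U.ι := (morphismRestrict_ι j U).symm
  exact (restrictSquareIso (j ⁻¹ᵁ U).ι j (j ∣_ U) U.ι hsq).app E ≪≫
    (Scheme.Modules.restrictFunctor (j ∣_ U)).mapIso e ≪≫ restrictFreeModIso (j ∣_ U) n


open Groth.Agent.Lib.FreeModSch in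
/-- A map from a finite locally free module lifts locally along an epimorphism: there is an open
neighbourhood `V` of `x` such that the lift exists after restricting along any open immersion
landing in `V`. -/
theorem exists_lift_of_isFinLocFree_of_le {E F G : X.Modules} (p : G ⟶ F) [Epi p] (φ : E ⟶ F)
    (hE : FlatMod.IsFinLocFree E) (x : X) :
    ∃ (V : X.Opens), x ∈ V ∧ ∀ {W : Scheme.{u}} (j : W ⟶ X) [IsOpenImmersion j],
      j.opensRange ≤ V → ∃ ψ : E.restrict j ⟶ G.restrict j,
        ψ ≫ (Scheme.Modules.restrictFunctor j).map p =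
          (Scheme.Modules.restrictFunctor j).map φ := by
  obtain ⟨U, n, hxU, ⟨e⟩⟩ := hE x
  obtain ⟨V', hxV', h⟩ := exists_lift_freeMod_of_le
    ((Scheme.Modules.restrictFunctor U.ι).map p)
    (e.inv ≫ (Scheme.Modules.restrictFunctor U.ι).map φ) ⟨x, hxU⟩
  refine ⟨U.ι ''ᵁ V', ⟨⟨x, hxU⟩, hxV', rfl⟩, fun {W} j _ hj => ?_⟩
  have hjU : Set.range j ⊆ Set.range U.ι := by
    intro y hy
    have := (hj.trans (U.ι_image_le V')) hy
    simpa using this
  let j' : W ⟶ U := IsOpenImmersion.lift U.ι j hjU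
  have hj' : j' ≫ U.ι = j := IsOpenImmersion.lift_fac _ _ _
  have : IsOpenImmersion (j' ≫ U.ι) := by rw [hj']; infer_instance
  have : IsOpenImmersion j' := IsOpenImmersion.of_comp j' U.ι
  have hle : j'.opensRange ≤ V' := by
    rw [← Scheme.Hom.image_le_image_iff U.ι, ← Scheme.Hom.opensRange_comp]
    simpa only [hj'] using hj
  obtain ⟨ψ', hψ'⟩ := h j' hle
  let β : Scheme.Modules.restrictFunctor U.ι ⋙ Scheme.Modules.restrictFunctor j' ≅
      Scheme.Modules.restrictFunctor j :=
    (Scheme.Modules.restrictFunctorComp j' U.ι).symm ≪≫ Scheme.Modules.restrictFunctorCongr hj'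
  refine ⟨β.inv.app E ≫ (Scheme.Modules.restrictFunctor j').map e.hom ≫
    ψ' ≫ β.hom.app G, ?_⟩
  have h1 := β.hom.naturality p
  have h2 := β.hom.naturality φ
  simp only [Functor.comp_map] at h1 h2
  rw [Category.assoc, Category.assoc, Category.assoc, ← h1, reassoc_of% hψ', Functor.map_comp,
    Category.assoc, ← Functor.map_comp_assoc, e.hom_inv_id, CategoryTheory.Functor.map_id,
    Category.id_comp, h2, ← Category.assoc, ← NatTrans.comp_app, β.inv_hom_id, NatTrans.id_app,
    Category.id_comp]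

end Groth.Agent.Lib.FinLocFree
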