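/-
helper11: a right adjoint of an exact functor preserves K-injective complexes; exact functors preserve acyclic
complexes; characterization of bijectivity of `Qh.map` on `Hom_K(E, F)` through a K-injective resolution of `F`.
-/
import Groth.Agent.Lib.RDPlusAdj31
import Mathlib.Algebra.Homology.DerivedCategory.KInjective

set_option autoImplicit false
set_option linter.unusedSectionVars false
open CategoryTheory CategoryTheory.Limits

namespace Groth.Agent.Lib.KInjAdj11

variable {A B : Type*} [Category A] [Category B] [Abelian A] [Abelian B]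

section Exact

variable (L : A ⥤ B) [L.Additive] [PreservesFiniteLimits L] [PreservesFiniteColimits L]

lemma acyclic_map {K : CochainComplex A ℤ} (hK : K.Acyclic) :
    ((L.mapHomologicalComplex (ComplexShape.up ℤ)).obj K).Acyclic := by
  intro i
  have h := hK i
  rw [HomologicalComplex.exactAt_iff] at h ⊢
  exact h.map L

end Exact

section Adj

variable {L : A ⥤ B} {R : B ⥤ A} [L.Additive] [R.Additive] (adj : L ⊣ R)
  [PreservesFiniteLimits L] [PreservesFiniteColimits L]

include adj in
/-- a right adjoint of an exact functor preserves K-injective complexes -/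
lemma isKInjective_map (I : CochainComplex B ℤ) [I.IsKInjective] :
    CochainComplex.IsKInjective ((R.mapHomologicalComplex (ComplexShape.up ℤ)).obj I) where
  nonempty_homotopy_zero {K} f hK := by
    let adjC := Groth.Agent.RDPlus31.adjHC adj (ComplexShape.up ℤ)
    let f' : (L.mapHomologicalComplex (ComplexShape.up ℤ)).obj K ⟶ I :=
      (adjC.homEquiv K I).symm f
    obtain ⟨h'⟩ := CochainComplex.IsKInjective.nonempty_homotopy_zero f' (acyclic_map L hK)
    have hf : f = adjC.unit.app K ≫ (R.mapHomologicalComplex (ComplexShape.up ℤ)).map f' := by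
      have := adjC.homEquiv_unit (f := f')
      rw [← this]
      exact ((adjC.homEquiv K I).apply_symm_apply f).symm
    have h1 : Homotopy ((R.mapHomologicalComplex (ComplexShape.up ℤ)).map f')
        ((R.mapHomologicalComplex (ComplexShape.up ℤ)).map 0) := R.mapHomotopy h'
    have h2 : Homotopy (adjC.unit.app K ≫ (R.mapHomologicalComplex (ComplexShape.up ℤ)).map f')
        (adjC.unit.app K ≫ (R.mapHomologicalComplex (ComplexShape.up ℤ)).map 0) :=
      h1.compLeft _
    refine ⟨(Homotopy.ofEq hf).trans (h2.trans (Homotopy.ofEq ?_))⟩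
    rw [Functor.map_zero, comp_zero]

end Adj

section Char

variable [HasDerivedCategory A]

/-- bijectivity of `Qh.map` on `Hom_K(E, F)` tested through a K-injective resolution `F ⟶ I` -/
lemma bijective_Qh_iff (E F I : CochainComplex A ℤ) (s : F ⟶ I) [QuasiIso s] [I.IsKInjective] :
    Function.Bijective (fun φ : (HomotopyCategory.quotient A (ComplexShape.up ℤ)).obj E ⟶
        (HomotopyCategory.quotient A (ComplexShape.up ℤ)).obj F => DerivedCategory.Qh.map φ) ↔
    Function.Bijective (fun φ : (HomotopyCategory.quotient A (ComplexShape.up ℤ)).obj E ⟶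
        (HomotopyCategory.quotient A (ComplexShape.up ℤ)).obj F =>
        φ ≫ (HomotopyCategory.quotient A (ComplexShape.up ℤ)).map s) := by
  have hI := CochainComplex.IsKInjective.Qh_map_bijective
    ((HomotopyCategory.quotient A (ComplexShape.up ℤ)).obj E) I
  have hs : IsIso (DerivedCategory.Qh.map ((HomotopyCategory.quotient A (ComplexShape.up ℤ)).map s)) := by
    have h : IsIso (DerivedCategory.Q.map s) := by
      rw [DerivedCategory.isIso_Q_map_iff_quasiIso]; infer_instance
    exact h
  have hpost : Function.Bijective (fun g : DerivedCategory.Qh.obj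
      ((HomotopyCategory.quotient A (ComplexShape.up ℤ)).obj E) ⟶ DerivedCategory.Qh.obj
      ((HomotopyCategory.quotient A (ComplexShape.up ℤ)).obj F) =>
      g ≫ DerivedCategory.Qh.map ((HomotopyCategory.quotient A (ComplexShape.up ℤ)).map s)) :=
    ⟨fun a b hab => (cancel_mono _).1 hab, fun y => ⟨y ≫ inv (DerivedCategory.Qh.map
      ((HomotopyCategory.quotient A (ComplexShape.up ℤ)).map s)), by simp⟩⟩
  have hsq : (fun φ : (HomotopyCategory.quotient A (ComplexShape.up ℤ)).obj E ⟶
        (HomotopyCategory.quotient A (ComplexShape.up ℤ)).obj I => DerivedCategory.Qh.map φ) ∘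
      (fun φ : (HomotopyCategory.quotient A (ComplexShape.up ℤ)).obj E ⟶
        (HomotopyCategory.quotient A (ComplexShape.up ℤ)).obj F =>
        φ ≫ (HomotopyCategory.quotient A (ComplexShape.up ℤ)).map s) =
      (fun g => g ≫ DerivedCategory.Qh.map
        ((HomotopyCategory.quotient A (ComplexShape.up ℤ)).map s)) ∘
      (fun φ : (HomotopyCategory.quotient A (ComplexShape.up ℤ)).obj E ⟶
        (HomotopyCategory.quotient A (ComplexShape.up ℤ)).obj F => DerivedCategory.Qh.map φ) := by
    funext φ
    exact Functor.map_comp _ _ _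
  constructor
  · intro h
    have h1 := hpost.comp h
    rw [← hsq] at h1
    exact (Function.Bijective.of_comp_iff' hI _).1 h1
  · intro h
    have h1 := hI.comp h
    rw [hsq] at h1
    exact (Function.Bijective.of_comp_iff' hpost _).1 h1

end Char

section Transport

variable [HasDerivedCategory A] [HasDerivedCategory B]
  (Φ : A ⥤ B) [Φ.Additive] [Φ.Full] [Φ.Faithful] [PreservesFiniteLimits Φ]
  [PreservesFiniteColimits Φ]
  {G : B ⥤ A} [G.Additive] (adj : G ⊣ Φ) [PreservesFiniteLimits G] [PreservesFiniteColimits G]

/-- conjugated action of `Φ` on homotopy classes -/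
noncomputable def αK (E F : CochainComplex A ℤ)
    (φ : (HomotopyCategory.quotient A (ComplexShape.up ℤ)).obj E ⟶
      (HomotopyCategory.quotient A (ComplexShape.up ℤ)).obj F) :
    (HomotopyCategory.quotient B (ComplexShape.up ℤ)).obj
      ((Φ.mapHomologicalComplex (ComplexShape.up ℤ)).obj E) ⟶
    (HomotopyCategory.quotient B (ComplexShape.up ℤ)).obj
      ((Φ.mapHomologicalComplex (ComplexShape.up ℤ)).obj F) :=
  (Φ.mapHomotopyCategoryFactors (ComplexShape.up ℤ)).inv.app E ≫
    (Φ.mapHomotopyCategory (ComplexShape.up ℤ)).map φ ≫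
    (Φ.mapHomotopyCategoryFactors (ComplexShape.up ℤ)).hom.app F

lemma αK_bijective (E F : CochainComplex A ℤ) : Function.Bijective (αK Φ E F) := by
  constructor
  · intro φ₁ φ₂ h
    unfold αK at h
    have h1 := (cancel_epi _).1 h
    have h2 := (cancel_mono _).1 h1
    exact (Φ.mapHomotopyCategory (ComplexShape.up ℤ)).map_injective h2
  · intro g
    obtain ⟨φ, hφ⟩ := (Φ.mapHomotopyCategory (ComplexShape.up ℤ)).map_surjective
      ((Φ.mapHomotopyCategoryFactors (ComplexShape.up ℤ)).hom.app E ≫ g ≫
        (Φ.mapHomotopyCategoryFactors (ComplexShape.up ℤ)).inv.app F)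
    refine ⟨φ, ?_⟩
    unfold αK
    rw [hφ]
    simp

lemma αK_comp (E F I : CochainComplex A ℤ) (s : F ⟶ I)
    (φ : (HomotopyCategory.quotient A (ComplexShape.up ℤ)).obj E ⟶
      (HomotopyCategory.quotient A (ComplexShape.up ℤ)).obj F) :
    αK Φ E I (φ ≫ (HomotopyCategory.quotient A (ComplexShape.up ℤ)).map s) =
      αK Φ E F φ ≫ (HomotopyCategory.quotient B (ComplexShape.up ℤ)).map
        ((Φ.mapHomologicalComplex (ComplexShape.up ℤ)).map s) := by
  unfold αK
  have : (Φ.mapHomotopyCategory (ComplexShape.up ℤ)).map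
      ((HomotopyCategory.quotient A (ComplexShape.up ℤ)).map s) ≫
      (Φ.mapHomotopyCategoryFactors (ComplexShape.up ℤ)).hom.app I =
      (Φ.mapHomotopyCategoryFactors (ComplexShape.up ℤ)).hom.app F ≫
      (HomotopyCategory.quotient B (ComplexShape.up ℤ)).map
        ((Φ.mapHomologicalComplex (ComplexShape.up ℤ)).map s) :=
    (Φ.mapHomotopyCategoryFactors (ComplexShape.up ℤ)).hom.naturality s
  rw [Functor.map_comp, Category.assoc, Category.assoc, Category.assoc, this]

include adj in
/-- **transport**: bijectivity of `Qh.map` on `Hom_K(E, F)` can be tested after applying a fully faithful exact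
functor with an exact left adjoint -/
theorem bijective_Qh_of_map (E F : CochainComplex A ℤ)
    (hF : ∃ (I : CochainComplex A ℤ) (s : F ⟶ I), I.IsKInjective ∧ QuasiIso s)
    (h : Function.Bijective (fun φ : (HomotopyCategory.quotient B (ComplexShape.up ℤ)).obj
        ((Φ.mapHomologicalComplex (ComplexShape.up ℤ)).obj E) ⟶
        (HomotopyCategory.quotient B (ComplexShape.up ℤ)).obj
        ((Φ.mapHomologicalComplex (ComplexShape.up ℤ)).obj F) => DerivedCategory.Qh.map φ)) :
    Function.Bijective (fun φ : (HomotopyCategory.quotient A (ComplexShape.up ℤ)).obj E ⟶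
        (HomotopyCategory.quotient A (ComplexShape.up ℤ)).obj F => DerivedCategory.Qh.map φ) := by
  obtain ⟨I, s, hI, hs⟩ := hF
  rw [bijective_Qh_iff E F I s]
  have hI' : CochainComplex.IsKInjective ((Φ.mapHomologicalComplex (ComplexShape.up ℤ)).obj I) :=
    isKInjective_map adj I
  have hs' : QuasiIso ((Φ.mapHomologicalComplex (ComplexShape.up ℤ)).map s) := inferInstance
  rw [bijective_Qh_iff _ _ _ ((Φ.mapHomologicalComplex (ComplexShape.up ℤ)).map s)] at h
  have hsq : αK Φ E I ∘ (fun φ : (HomotopyCategory.quotient A (ComplexShape.up ℤ)).obj E ⟶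
        (HomotopyCategory.quotient A (ComplexShape.up ℤ)).obj F =>
        φ ≫ (HomotopyCategory.quotient A (ComplexShape.up ℤ)).map s) =
      (fun ψ => ψ ≫ (HomotopyCategory.quotient B (ComplexShape.up ℤ)).map
        ((Φ.mapHomologicalComplex (ComplexShape.up ℤ)).map s)) ∘ αK Φ E F := by
    funext φ
    exact αK_comp Φ E F I s φ
  have h1 := h.comp (αK_bijective Φ E F)
  rw [← hsq] at h1
  exact (Function.Bijective.of_comp_iff' (αK_bijective Φ E I) _).1 h1

end Transport

end Groth.Agent.Lib.KInjAdj11
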