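/-
helper11: S14112 for an arbitrary affine scheme `X`: transport of `AffineKProj11.spec_bijective` along
`X ≅ Spec Γ(X, ⊤)` through the equivalence `restrictFunctor` (K-injective characterization of `Qh`-bijectivity).
-/
import Groth.Agent.Lib.AffineKProj11
import Groth.Agent.Lib.KInjAdj11
import Groth.Agent.Lib.RestrictExact
import Groth.Agent.Lib.FinLocFree
import Groth.Agent.Lib.KInjMain31
import Groth.Agent.Lib.KInjRlp31
import Groth.Agent.Lib.H90InvertibleFP
import Groth.Agent.S0484

set_option autoImplicit false
set_option linter.unusedSectionVars false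
universe u
open CategoryTheory CategoryTheory.Limits DerivedCategory AlgebraicGeometry

namespace Groth.Agent.Lib.AffineKProjX11

open Groth.Agent.Lib.RestrictExact

section Equiv

variable {X Y : Scheme.{u}} (f : Y ≅ X)

/-- restriction along an isomorphism of schemes is an equivalence of categories of modules -/
noncomputable def restrictEquiv : X.Modules ≌ Y.Modules :=
  CategoryTheory.Equivalence.mk (Scheme.Modules.restrictFunctor f.hom) (Scheme.Modules.restrictFunctor f.inv)
    (Scheme.Modules.restrictFunctorId.symm ≪≫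
      Scheme.Modules.restrictFunctorCongr (f.inv_hom_id).symm ≪≫
      Scheme.Modules.restrictFunctorComp f.inv f.hom)
    ((Scheme.Modules.restrictFunctorComp f.hom f.inv).symm ≪≫
      Scheme.Modules.restrictFunctorCongr (f.hom_inv_id) ≪≫
      Scheme.Modules.restrictFunctorId)

instance additive_restrictFunctor {U Z : Scheme.{u}} (j : U ⟶ Z) [IsOpenImmersion j] :
    (Scheme.Modules.restrictFunctor j).Additive :=
  (Scheme.Modules.restrictAdjunction j).left_adjoint_additive

instance : (Scheme.Modules.restrictFunctor f.hom).IsEquivalence :=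
  (restrictEquiv f).isEquivalence_functor

/-- the adjunction `restrictFunctor f.inv ⊣ restrictFunctor f.hom` -/
noncomputable def restrictAdj :
    Scheme.Modules.restrictFunctor f.inv ⊣ Scheme.Modules.restrictFunctor f.hom :=
  (restrictEquiv f).symm.toAdjunction

end Equiv

section Main

open ZeroObject

attribute [local instance] HasDerivedCategory.standard

noncomputable local instance (X : Scheme.{u}) : IsGrothendieckAbelian.{u} X.Modules :=
  Groth.Agent.S0484.result _ X.ringCatSheaf

/-- **S14112**: on an affine scheme, maps from a bounded above complex of finite locally free modules to a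
complex of quasi-coherent modules are the same in `K` and in `D`. -/
theorem bijective_of_affine {X : Scheme.{u}} [IsAffine X]
    (E F : CochainComplex X.Modules ℤ) (b : ℤ) (hEb : ∀ i : ℤ, b < i → IsZero (E.X i))
    (hE : ∀ i : ℤ, FlatMod.IsFinLocFree (E.X i)) (hF : ∀ i : ℤ, Coh.IsQCoh (F.X i)) :
    Function.Bijective (fun φ : (HomotopyCategory.quotient X.Modules (ComplexShape.up ℤ)).obj E ⟶
        (HomotopyCategory.quotient X.Modules (ComplexShape.up ℤ)).obj F =>
      (DerivedCategory.Qh (C := X.Modules)).map φ) := by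
  let f : Spec Γ(X, ⊤) ≅ X := X.isoSpec.symm
  refine Groth.Agent.Lib.KInjAdj11.bijective_Qh_of_map (Scheme.Modules.restrictFunctor f.hom)
    (restrictAdj f) E F ?_ ?_
  · obtain ⟨I, s, hI, hs, -, -⟩ := Groth.Agent.KInjMain31.exists_kinjective_resolution F
    exact ⟨I, s, hI, hs⟩
  · refine Groth.Agent.Lib.AffineKProj11.spec_bijective Γ(X, ⊤) _ _ b ?_ ?_ ?_
    · intro i hi
      exact (Scheme.Modules.restrictFunctor f.hom).map_isZero (hEb i hi)
    · intro i
      exact Groth.Agent.Lib.FinLocFree.isFinLocFree_restrict f.hom (hE i)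
    · intro i
      have : (F.X i).IsQuasicoherent := hF i
      exact Scheme.Modules.isQuasicoherent_restrictFunctor f.hom (F.X i)

/-- **S14114**: `f ≫ g` null homotopic with `g` a quasi-isomorphism implies `f` null homotopic. -/
theorem homotopy_zero_of_comp_qis {X : Scheme.{u}} [IsAffine X]
    (E F G : CochainComplex X.Modules ℤ) (b : ℤ) (hEb : ∀ i : ℤ, b < i → IsZero (E.X i))
    (hE : ∀ i : ℤ, FlatMod.IsFinLocFree (E.X i)) (hF : ∀ i : ℤ, Coh.IsQCoh (F.X i))
    (f : E ⟶ F) (g : F ⟶ G) [QuasiIso g] (hgf : Nonempty (Homotopy (f ≫ g) 0)) :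
    Nonempty (Homotopy f 0) := by
  obtain ⟨h⟩ := hgf
  have hinj := (bijective_of_affine E F b hEb hE hF).1
  have h1 : (HomotopyCategory.quotient X.Modules (ComplexShape.up ℤ)).map (f ≫ g) = 0 := by
    rw [HomotopyCategory.eq_of_homotopy _ _ h, Functor.map_zero]
  have h2 : (DerivedCategory.Q (C := X.Modules)).map f ≫ (DerivedCategory.Q (C := X.Modules)).map g = 0 := by
    rw [← Functor.map_comp]
    have := congrArg (DerivedCategory.Qh (C := X.Modules)).map h1
    rw [Functor.map_zero] at this
    exact this
  have h3 : (DerivedCategory.Q (C := X.Modules)).map f = 0 := by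
    rw [← cancel_mono ((DerivedCategory.Q (C := X.Modules)).map g), h2, zero_comp]
  have h4 : (HomotopyCategory.quotient X.Modules (ComplexShape.up ℤ)).map f = 0 := by
    apply hinj
    change (DerivedCategory.Qh (C := X.Modules)).map _ = (DerivedCategory.Qh (C := X.Modules)).map _
    rw [Functor.map_zero]
    exact h3
  refine ⟨HomotopyCategory.homotopyOfEq _ _ ?_⟩
  rw [h4, Functor.map_zero]

/-- **S14113**: a bounded above complex of finite locally free modules on an affine scheme is acyclic iff it
is contractible. -/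
theorem acyclic_iff_homotopy_id_zero {X : Scheme.{u}} [IsAffine X]
    (E : CochainComplex X.Modules ℤ) (b : ℤ) (hEb : ∀ i : ℤ, b < i → IsZero (E.X i))
    (hE : ∀ i : ℤ, FlatMod.IsFinLocFree (E.X i)) :
    E.Acyclic ↔ Nonempty (Homotopy (𝟙 E) 0) := by
  constructor
  · intro hac
    have hq : ∀ i : ℤ, Coh.IsQCoh (E.X i) := fun i =>
      Groth.Agent.Lib.H90Invertible.isQuasicoherent_of_isFinLocFree (hE i)
    -- `E ⟶ 0` is a quasi-isomorphism
    have : QuasiIso (0 : E ⟶ (0 : CochainComplex X.Modules ℤ)) :=
      Groth.Agent.KInjRlp31.quasiIso_of_acyclic _ hac (fun n => by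
        rw [HomologicalComplex.exactAt_iff_isZero_homology]
        exact (HomologicalComplex.homologyFunctor _ _ n).map_isZero (isZero_zero _))
    exact homotopy_zero_of_comp_qis E E 0 b hEb hE hq (𝟙 E) 0 ⟨Homotopy.ofEq (by simp)⟩
  · rintro ⟨h⟩
    exact Groth.Agent.KInjRlp31.acyclic_of_homotopy_id_zero E h

end Main

end Groth.Agent.Lib.AffineKProjX11
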