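import Mathlib
import Groth.Agent.Lib.AMonPts27

/-!
# Ring-valued points of `A¹ × Y` for affine `Y` (helper27)

For `Y : Over S` with `Y.left` affine, a ring hom `β : Γ(Y) → Q` and `v : Q` give the `Spec Q`-point
`pQ Y β v` of `A(ℕ)_S ⊗ Y` (`TQ`, `tQ`, `mQ`, `pQ`; change of ring `rQ`, units `xQ`).
`coordIso Y : Spec Γ(Y)[X] ≅ A(ℕ)_S ⊗ Y` is the coordinate isomorphism (`pQ Y C X`).
-/

set_option autoImplicit false
universe u

open CategoryTheory CategoryTheory.Limits AlgebraicGeometry MonoidalCategory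
  CartesianMonoidalCategory Magnet Opposite MonObj

namespace Groth.Agent.Lib.AffineLinePts27

open Groth.Agent.Lib.AMonPts27

variable {S : Scheme.{u}} (Y : Over S)

section Pts

variable {Q : Type u} [CommRing Q] (β : Γ(Y.left, ⊤) →+* Q)

/-- `Spec Q` as an `S`-scheme through `β : Γ(Y) → Q`. -/
noncomputable def TQ [IsAffine Y.left] : Over S :=
  Over.mk (Spec.map (CommRingCat.ofHom β) ≫ Y.left.isoSpec.inv ≫ Y.hom)

variable [IsAffine Y.left]

theorem TQ_left : (TQ Y β).left = Spec (CommRingCat.of Q) := rfl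

/-- global functions on `Spec Q`. -/
noncomputable def gQ : Q →+* Γ((TQ Y β).left, ⊤) := (Scheme.ΓSpecIso (CommRingCat.of Q)).inv.hom

theorem gQ_injective : Function.Injective (gQ Y β) := by
  intro a b h
  have := congrArg (Scheme.ΓSpecIso (CommRingCat.of Q)).hom h
  have h2 : ∀ z : Q, (Scheme.ΓSpecIso (CommRingCat.of Q)).hom ((Scheme.ΓSpecIso (CommRingCat.of Q)).inv z) = z :=
    fun z => Iso.inv_hom_id_apply (C := CommRingCat) _ _
  exact (h2 a).symm.trans (this.trans (h2 b))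

/-- the `Spec Q`-point of `Y` given by `β`. -/
noncomputable def tQ : TQ Y β ⟶ Y :=
  Over.homMk (Spec.map (CommRingCat.ofHom β) ≫ Y.left.isoSpec.inv) (by simp [TQ])

theorem tQ_left : (tQ Y β).left = Spec.map (CommRingCat.ofHom β) ≫ Y.left.isoSpec.inv := rfl

/-- the `Spec Q`-point of `A¹` given by `v`. -/
noncomputable def mQ (v : Q) : TQ Y β ⟶ AMonS S NN := ofElem (gQ Y β v)

theorem fn_mQ (v : Q) : fn (mQ Y β v) gen = gQ Y β v := fn_ofElem _

/-- the `Spec Q`-point `(v, β)` of `A¹ × Y`. -/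
noncomputable def pQ (v : Q) : TQ Y β ⟶ AMonS S NN ⊗ Y := lift (mQ Y β v) (tQ Y β)

variable {Q' : Type u} [CommRing Q'] (r : Q →+* Q')

/-- the morphism `Spec Q' ⟶ Spec Q` over `S`. -/
noncomputable def rQ : TQ Y (r.comp β) ⟶ TQ Y β :=
  Over.homMk (Spec.map (CommRingCat.ofHom r)) (by
    simp only [TQ, Over.mk_hom, CommRingCat.ofHom_comp, Spec.map_comp, Category.assoc])

theorem rQ_left : (rQ Y β r).left = Spec.map (CommRingCat.ofHom r) := rfl

theorem rQ_appTop_gQ (v : Q) : (rQ Y β r).left.appTop (gQ Y β v) = gQ Y (r.comp β) (r v) :=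
  SpecMap_appTop_ΓSpecIso_inv (CommRingCat.ofHom r) v

theorem rQ_tQ : rQ Y β r ≫ tQ Y β = tQ Y (r.comp β) := by
  apply Over.OverMorphism.ext
  rw [Over.comp_left, rQ_left, tQ_left, tQ_left, CommRingCat.ofHom_comp, Spec.map_comp, Category.assoc]
  rfl

theorem rQ_mQ (v : Q) : rQ Y β r ≫ mQ Y β v = mQ Y (r.comp β) (r v) := by
  apply ext_gen
  rw [fn_comp, fn_mQ, fn_mQ, rQ_appTop_gQ]

theorem rQ_pQ (v : Q) : rQ Y β r ≫ pQ Y β v = pQ Y (r.comp β) (r v) := by
  unfold pQ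
  rw [comp_lift, rQ_tQ, rQ_mQ]

/-- the `Spec Q`-point of `G_m` given by the unit `w`. -/
noncomputable def xQ (w : Qˣ) : TQ Y β ⟶ AMonS S ℤ :=
  ofUnit (Units.map (gQ Y β).toMonoidHom w)

theorem fn_xQ (w : Qˣ) : fn (xQ Y β w) (1 : ℤ) = gQ Y β (w : Q) := by
  unfold xQ
  rw [fn_ofUnit]
  rfl

theorem xQ_mul_mQ (w : Qˣ) (v : Q) :
    (xQ Y β w ≫ AMonS.map S NN.subtype) * mQ Y β v = mQ Y β (w * v) := by
  apply ext_gen
  rw [fn_mul, fn_map_subtype_gen, fn_xQ, fn_mQ, fn_mQ, map_mul]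

theorem mQ_nilpotent (v : Q) (n : ℕ) (hv : v ^ (n + 1) = 0) (m' : TQ Y β ⟶ AMonS S NN) :
    mQ Y β v ^ (n + 1) * m' = mQ Y β v ^ (n + 1) := by
  apply ext_gen
  rw [fn_mul, fn_pow, fn_mQ, ← map_pow, hv, map_zero, zero_mul]

end Pts

/-! ### the coordinate isomorphism `Spec Γ(Y)[X] ≅ A¹ × Y` -/

section Coord

variable [IsAffine Y.left]

theorem isoSpec_inv_appTop (Z : Scheme.{u}) [IsAffine Z] :
    Z.isoSpec.inv.appTop = (Scheme.ΓSpecIso Γ(Z, ⊤)).inv := by
  have h := congrArg Scheme.Hom.appTop (Scheme.isoSpec_inv_toSpecΓ Z)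
  rw [Scheme.Hom.comp_appTop, Scheme.toSpecΓ_appTop, Scheme.Hom.id_appTop] at h
  rw [← Iso.cancel_iso_hom_left (Scheme.ΓSpecIso Γ(Z, ⊤)), h, Iso.hom_inv_id]

theorem tQ_left_appTop {Q : Type u} [CommRing Q] (β : Γ(Y.left, ⊤) →+* Q) (b : Γ(Y.left, ⊤)) :
    (tQ Y β).left.appTop b = gQ Y β (β b) := by
  have h : ∀ (k : Spec (CommRingCat.of Q) ⟶ Y.left),
      k = Spec.map (CommRingCat.ofHom β) ≫ Y.left.isoSpec.inv →
      k.appTop b = (Scheme.ΓSpecIso (CommRingCat.of Q)).inv (β b) := by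
    intro k hk
    subst hk
    rw [Scheme.Hom.comp_appTop, CommRingCat.comp_apply, isoSpec_inv_appTop]
    exact SpecMap_appTop_ΓSpecIso_inv (CommRingCat.ofHom β) b
  exact h _ rfl

/-- the ring hom `Γ(Y)[X] → Γ(A¹ × Y)`. -/
noncomputable def rho : Polynomial Γ(Y.left, ⊤) →+* Γ((AMonS S NN ⊗ Y).left, ⊤) :=
  Polynomial.eval₂RingHom (snd (AMonS S NN) Y).left.appTop.hom (fn (fst (AMonS S NN) Y) gen)

/-- the map `A¹ × Y → Spec Γ(Y)[X]`. -/
noncomputable def theta' : (AMonS S NN ⊗ Y).left ⟶ Spec (CommRingCat.of (Polynomial Γ(Y.left, ⊤))) :=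
  (AMonS S NN ⊗ Y).left.toSpecΓ ≫ Spec.map (CommRingCat.ofHom (rho Y))

theorem theta'_snd :
    theta' Y ≫ Spec.map (CommRingCat.ofHom (Polynomial.C : Γ(Y.left, ⊤) →+* _)) ≫ Y.left.isoSpec.inv =
      (snd (AMonS S NN) Y).left := by
  unfold theta'
  rw [Category.assoc, ← Spec.map_comp_assoc]
  have h : CommRingCat.ofHom (Polynomial.C : Γ(Y.left, ⊤) →+* _) ≫ CommRingCat.ofHom (rho Y) =
      (snd (AMonS S NN) Y).left.appTop := by
    apply CommRingCat.hom_ext
    ext b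
    simp [rho]
  rw [h, ← Scheme.toSpecΓ_naturality_assoc, Scheme.toSpecΓ_isoSpec_inv, Category.comp_id]

/-- the map `A¹ × Y → Spec Γ(Y)[X]` over `S`. -/
noncomputable def theta : AMonS S NN ⊗ Y ⟶ TQ Y (Polynomial.C : Γ(Y.left, ⊤) →+* _) :=
  Over.homMk (theta' Y) (by
    have h1 : (AMonS S NN ⊗ Y).hom = (snd (AMonS S NN) Y).left ≫ Y.hom := (Over.w (snd (AMonS S NN) Y)).symm
    rw [h1, ← theta'_snd]
    simp only [TQ, Over.mk_hom, Category.assoc])

theorem theta_left : (theta Y).left = theta' Y := rfl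

theorem theta'_appTop_gQ (p : Polynomial Γ(Y.left, ⊤)) :
    (theta Y).left.appTop (gQ Y Polynomial.C p) = rho Y p := by
  have h := appTop_key (theta' Y) (AMonS S NN ⊗ Y).left.toSpecΓ (CommRingCat.ofHom (rho Y)) rfl p
  refine h.trans ?_
  rw [Scheme.toSpecΓ_appTop]
  exact Iso.inv_hom_id_apply (C := CommRingCat) _ _

theorem theta_left_tQ_left :
    (theta Y).left ≫ (tQ Y Polynomial.C).left = (snd (AMonS S NN) Y).left := theta'_snd Y

theorem theta_pQ : theta Y ≫ pQ Y Polynomial.C Polynomial.X = 𝟙 _ := by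
  apply CartesianMonoidalCategory.hom_ext
  · rw [Category.assoc, Category.id_comp]
    unfold pQ
    rw [lift_fst]
    apply ext_gen
    rw [fn_comp, fn_mQ, theta'_appTop_gQ]
    simp [rho]
  · rw [Category.assoc, Category.id_comp]
    unfold pQ
    rw [lift_snd]
    apply Over.OverMorphism.ext
    rw [Over.comp_left, theta_left_tQ_left]

/-- the underlying map of `pQ Y C X`, with source written as `Spec`. -/
noncomputable def eL : Spec (CommRingCat.of (Polynomial Γ(Y.left, ⊤))) ⟶ (AMonS S NN ⊗ Y).left :=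
  (pQ Y Polynomial.C Polynomial.X).left

theorem eL_appTop_snd (b : Γ(Y.left, ⊤)) :
    (eL Y).appTop ((snd (AMonS S NN) Y).left.appTop b) =
      (Scheme.ΓSpecIso (CommRingCat.of (Polynomial Γ(Y.left, ⊤)))).inv (Polynomial.C b) := by
  have h1 : (eL Y).appTop ((snd (AMonS S NN) Y).left.appTop b) =
      (pQ Y Polynomial.C Polynomial.X ≫ snd (AMonS S NN) Y).left.appTop b := by
    rw [Over.comp_left, Scheme.Hom.comp_appTop]; rfl
  rw [h1]
  unfold pQ
  rw [lift_snd]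
  exact tQ_left_appTop Y _ b

theorem eL_appTop_fn :
    (eL Y).appTop (fn (fst (AMonS S NN) Y) gen) =
      (Scheme.ΓSpecIso (CommRingCat.of (Polynomial Γ(Y.left, ⊤)))).inv Polynomial.X := by
  have h1 : (eL Y).appTop (fn (fst (AMonS S NN) Y) gen) =
      fn (pQ Y Polynomial.C Polynomial.X ≫ fst (AMonS S NN) Y) gen := by
    rw [fn_comp]; rfl
  rw [h1]
  unfold pQ
  rw [lift_fst, fn_mQ]
  rfl

theorem eL_theta' : eL Y ≫ theta' Y = 𝟙 _ := by
  unfold theta'
  rw [Scheme.toSpecΓ_naturality_assoc, ← Spec.map_comp]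
  have h : CommRingCat.ofHom (rho Y) ≫ (eL Y).appTop =
      (Scheme.ΓSpecIso (CommRingCat.of (Polynomial Γ(Y.left, ⊤)))).inv := by
    apply CommRingCat.hom_ext
    apply Polynomial.ringHom_ext
    · intro b
      have : rho Y (Polynomial.C b) = (snd (AMonS S NN) Y).left.appTop b := by simp [rho]
      rw [CommRingCat.hom_comp, RingHom.comp_apply, CommRingCat.hom_ofHom, this]
      exact eL_appTop_snd Y b
    · have : rho Y Polynomial.X = fn (fst (AMonS S NN) Y) gen := by simp [rho]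
      rw [CommRingCat.hom_comp, RingHom.comp_apply, CommRingCat.hom_ofHom, this]
      exact eL_appTop_fn Y
  rw [h, toSpecΓ_SpecMap_ΓSpecIso_inv]

theorem pQ_theta : pQ Y Polynomial.C Polynomial.X ≫ theta Y = 𝟙 _ := by
  apply Over.OverMorphism.ext
  exact eL_theta' Y

/-- The coordinate isomorphism `Spec Γ(Y)[X] ≅ A¹ × Y`. -/
noncomputable def coordIso : TQ Y (Polynomial.C : Γ(Y.left, ⊤) →+* _) ≅ AMonS S NN ⊗ Y where
  hom := pQ Y Polynomial.C Polynomial.X
  inv := theta Y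
  hom_inv_id := pQ_theta Y
  inv_hom_id := theta_pQ Y

end Coord

end Groth.Agent.Lib.AffineLinePts27
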