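import Groth.Agent.S6032
import Groth.Agent.S2439
import Groth.Agent.Lib.QCohStalk

/-!
# Local cohomology on an affine scheme via Koszul limits (helper9)

* `transformAffine` : for an affine scheme `X`, quasi-coherent `M`, global functions `fs` and
  `U = ⋃ X_{f_i}`: kernel and cokernel of `Γ(X, M) → Γ(U, M)` are `koszulHLim fs Γ(X,M) 0, 1`.
* `koszulHLim_equiv_HZM X M fs i : koszulHLim fs Γ(X, M) i ≃+ HZM X M i (⋃ X_{f_i})`
  (generalises S6032 from `Spec A, M~` to any affine scheme and quasi-coherent module).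
See `AffineLocCoh9b` (depth criterion `HZM_vanish_iff_depth`) and `AffineLocCoh9c`
(`isZero_sheafify_of_basis`, `isZero_HZsh_of_basis`).
-/

set_option autoImplicit false
universe u

namespace Groth.Agent.Lib.AffineLocCoh9

open AlgebraicGeometry CategoryTheory TopologicalSpace Opposite CohIII
open Groth.Agent.Lib.QCohStalk Groth.Agent.Lib.KoszulLim9

section sections

variable {X : Scheme.{u}} (M : X.Modules)

/-- sections of `M` over `W` viewed as a module over the global functions. -/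
def Sec (W : X.Opens) : Type u := Γ(M, W)

noncomputable instance (W : X.Opens) : AddCommGroup (Sec M W) :=
  inferInstanceAs (AddCommGroup Γ(M, W))

noncomputable instance (W : X.Opens) : Module Γ(X, ⊤) (Sec M W) :=
  Module.compHom Γ(M, W) (X.presheaf.map (homOfLE (le_top : W ≤ ⊤)).op).hom

theorem sec_smul (W : X.Opens) (a : Γ(X, ⊤)) (s : Sec M W) :
    a • s = (show Sec M W from (resO X (le_top : W ≤ ⊤) a • (show Γ(M, W) from s))) := rfl

/-- restriction as a linear map over the global functions. -/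
noncomputable def resL {W V : X.Opens} (h : W ≤ V) : Sec M V →ₗ[Γ(X, ⊤)] Sec M W where
  toFun s := res M h s
  map_add' := map_add (M.presheaf.map (homOfLE h).op).hom
  map_smul' a s := by
    change res M h (resO X (le_top : V ≤ ⊤) a • (show Γ(M, V) from s)) =
      resO X (le_top : W ≤ ⊤) a • res M h (show Γ(M, V) from s)
    rw [res_smul, resO_resO]

theorem resL_apply {W V : X.Opens} (h : W ≤ V) (s : Sec M V) : resL M h s = res M h s := rfl

theorem resL_resL {W V U : X.Opens} (h : W ≤ V) (h' : V ≤ U) (s : Sec M U) :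
    resL M h (resL M h' s) = resL M (h.trans h') s := res_res M h h' s

/-- global sections, with their native module structure. -/
noncomputable def topL (W : X.Opens) : ↑(M.val.obj (op ⊤)) →ₗ[Γ(X, ⊤)] Sec M W where
  toFun s := res M (le_top : W ≤ ⊤) s
  map_add' := map_add (M.presheaf.map (homOfLE (le_top : W ≤ ⊤)).op).hom
  map_smul' a s := res_smul M (le_top : W ≤ ⊤) a s

theorem topL_apply (W : X.Opens) (s : ↑(M.val.obj (op ⊤))) : topL M W s = res M le_top s := rfl

theorem resL_topL {W V : X.Opens} (h : W ≤ V) (s : ↑(M.val.obj (op ⊤))) :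
    resL M h (topL M V s) = topL M W s := res_res M h le_top s

end sections

section hyps

variable {X : Scheme.{u}} (M : X.Modules) (fs : List Γ(X, ⊤)) (U : X.Opens)
  (hle : ∀ i : Fin fs.length, X.basicOpen (fs.get i) ≤ U)
  (hcov : U ≤ ⨆ i : Fin fs.length, X.basicOpen (fs.get i))

/-- the abelian sheaf underlying `M`, as a `TopCat.Sheaf`. -/
noncomputable abbrev shf : TopCat.Sheaf Ab X := ⟨M.presheaf, M.isSheaf⟩

theorem isUnit_resO {f : Γ(X, ⊤)} {W : X.Opens} (h : W ≤ X.basicOpen f) :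
    IsUnit (resO X (le_top : W ≤ ⊤) f) := by
  have h1 : IsUnit (resO X (X.basicOpen_le f) f) := X.toRingedSpace.isUnit_res_basicOpen f
  have h2 : resO X (le_top : W ≤ ⊤) f = resO X h (resO X (X.basicOpen_le f) f) :=
    (resO_resO X h (X.basicOpen_le f) f).symm
  rw [h2]
  exact h1.map (X.presheaf.map (homOfLE h).op).hom

theorem smul_bijective_of_le (f : Γ(X, ⊤)) (k : ℕ) {W : X.Opens} (h : W ≤ X.basicOpen f) :
    Function.Bijective (fun x : Sec M W => f ^ k • x) := by
  obtain ⟨u, hu⟩ := (isUnit_resO h).pow k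
  have hsm : ∀ x : Sec M W, f ^ k • x = (show Sec M W from ((u : Γ(X, W)) • (show Γ(M, W) from x))) := by
    intro x
    rw [sec_smul, resO_pow, hu]
  constructor
  · intro x y hxy
    have hxy' : f ^ k • x = f ^ k • y := hxy
    rw [hsm, hsm] at hxy'
    have h3 : (((u⁻¹ : (Γ(X, W))ˣ) : Γ(X, W)) • ((u : Γ(X, W)) • (show Γ(M, W) from x)) : Γ(M, W)) =
        ((u⁻¹ : (Γ(X, W))ˣ) : Γ(X, W)) • ((u : Γ(X, W)) • (show Γ(M, W) from y)) :=
      congrArg (fun z : Γ(M, W) => ((u⁻¹ : (Γ(X, W))ˣ) : Γ(X, W)) • z) hxy'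
    rw [← mul_smul, ← mul_smul, Units.inv_mul, one_smul, one_smul] at h3
    exact h3
  · intro y
    refine ⟨(show Sec M W from (((u⁻¹ : (Γ(X, W))ˣ) : Γ(X, W)) • (show Γ(M, W) from y))), ?_⟩
    change f ^ k • _ = y
    rw [hsm]
    change (u : Γ(X, W)) • (((u⁻¹ : (Γ(X, W))ˣ) : Γ(X, W)) • (show Γ(M, W) from y)) = y
    rw [← mul_smul, Units.mul_inv, one_smul]

include hcov in
theorem sec_ext (s t : Sec M U) (h : ∀ i, resL M (hle i) s = resL M (hle i) t) : s = t :=
  TopCat.Sheaf.eq_of_locally_eq' (shf M) (fun i : Fin fs.length => X.basicOpen (fs.get i))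
    U (fun i => homOfLE (hle i)) hcov s t h

include hcov in
theorem exists_glue (x : ∀ i : Fin fs.length, Sec M (X.basicOpen (fs.get i)))
    (hc : ∀ i j : Fin fs.length,
      resL M (inf_le_left : X.basicOpen (fs.get i) ⊓ X.basicOpen (fs.get j) ≤ _) (x i) =
      resL M (inf_le_right : X.basicOpen (fs.get i) ⊓ X.basicOpen (fs.get j) ≤ _) (x j)) :
    ∃ s : Sec M U, ∀ i, resL M (hle i) s = x i := by
  obtain ⟨s, hs, -⟩ := TopCat.Sheaf.existsUnique_gluing' (shf M)
    (fun i : Fin fs.length => X.basicOpen (fs.get i))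
    U (fun i => homOfLE (hle i)) hcov x (fun i j => hc i j)
  exact ⟨s, hs⟩

include hcov in
theorem hyp3 (x : ∀ i : Fin fs.length, Sec M (X.basicOpen (fs.get i)))
    (h : ∀ j : Fin fs.length, ∃ (k : ℕ) (s : Sec M U), ∀ i,
      fs.get j ^ k • x i = resL M (hle i) s) :
    ∃ s : Sec M U, ∀ i, resL M (hle i) s = x i := by
  apply exists_glue M fs U hle hcov x
  intro i j
  obtain ⟨k, s, hs⟩ := h j
  have e1 := congrArg (resL M (inf_le_left :
    X.basicOpen (fs.get i) ⊓ X.basicOpen (fs.get j) ≤ _)) (hs i)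
  have e2 := congrArg (resL M (inf_le_right :
    X.basicOpen (fs.get i) ⊓ X.basicOpen (fs.get j) ≤ _)) (hs j)
  rw [map_smul, resL_resL] at e1 e2
  exact (smul_bijective_of_le M (fs.get j) k inf_le_right).1 (e1.trans e2.symm)

variable [M.IsQuasicoherent] [IsAffine X]

include hle in
theorem hyp4 (m : ↑(M.val.obj (op ⊤))) (hm : topL M U m = 0) (i : Fin fs.length) :
    ∃ n : ℕ, fs.get i ^ n • m = 0 := by
  have h1 : res M (X.basicOpen_le (fs.get i)) (show Γ(M, ⊤) from m) = 0 := by
    have := congrArg (resL M (hle i)) hm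
    rw [resL_topL, map_zero] at this
    exact this
  exact exists_pow_smul_eq_zero M (isAffineOpen_top X) (fs.get i) m h1

include hle hcov in
/-- a section over `U` vanishing on `D(f)` is killed by a power of `f`. -/
theorem exists_pow_smul_eq_zero_sec (f : Γ(X, ⊤)) (d : Sec M U)
    (hd : ∀ j : Fin fs.length,
      resL M (inf_le_left : X.basicOpen (fs.get j) ⊓ X.basicOpen f ≤ _) (resL M (hle j) d) = 0) :
    ∃ l : ℕ, f ^ l • d = 0 := by
  have key : ∀ j : Fin fs.length, ∃ l : ℕ, f ^ l • resL M (hle j) d = 0 := by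
    intro j
    have hDj : IsAffineOpen (X.basicOpen (fs.get j)) := (isAffineOpen_top X).basicOpen (fs.get j)
    let g : Γ(X, X.basicOpen (fs.get j)) := resO X le_top f
    have hg : X.basicOpen g = X.basicOpen (fs.get j) ⊓ X.basicOpen f :=
      Scheme.basicOpen_res X f (homOfLE (le_top : X.basicOpen (fs.get j) ≤ ⊤)).op
    have h0 : res M (X.basicOpen_le g) (show Γ(M, X.basicOpen (fs.get j)) from resL M (hle j) d) = 0 := by
      have h1 := hd j
      have h2 : res M (X.basicOpen_le g) (show Γ(M, X.basicOpen (fs.get j)) from resL M (hle j) d) =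
          res M hg.le (resL M (inf_le_left : X.basicOpen (fs.get j) ⊓ X.basicOpen f ≤ _)
            (resL M (hle j) d)) := by
        change res M (X.basicOpen_le g) (res M (hle j) d) =
          res M hg.le (res M (inf_le_left : X.basicOpen (fs.get j) ⊓ X.basicOpen f ≤ _)
            (res M (hle j) d))
        rw [res_res M hg.le]
      rw [h2, h1]
      exact res_zero M hg.le
    obtain ⟨l, hl⟩ := exists_pow_smul_eq_zero M hDj g _ h0
    refine ⟨l, ?_⟩
    rw [sec_smul, resO_pow]
    exact hl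
  choose l hl using key
  refine ⟨Finset.univ.sup l, ?_⟩
  apply sec_ext M fs U hle hcov
  intro j
  rw [map_smul, map_zero]
  have hj : l j ≤ Finset.univ.sup l := Finset.le_sup (Finset.mem_univ j)
  obtain ⟨c, hc⟩ := Nat.exists_eq_add_of_le hj
  rw [hc, add_comm, pow_add, mul_smul, hl j, smul_zero]

include hle hcov in
theorem hyp5 (s : Sec M U) (i : Fin fs.length) :
    ∃ (n : ℕ) (m : ↑(M.val.obj (op ⊤))), fs.get i ^ n • s = topL M U m := by
  obtain ⟨n, m, hm⟩ := exists_pow_smul_eq_res M (isAffineOpen_top X) (fs.get i)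
    (show Γ(M, X.basicOpen (fs.get i)) from resL M (hle i) s)
  have h1 : resL M (hle i) (fs.get i ^ n • s - topL M U m) = 0 := by
    rw [map_sub, map_smul, resL_topL, sub_eq_zero, sec_smul, resO_pow]
    exact hm
  obtain ⟨l, hl⟩ := exists_pow_smul_eq_zero_sec M fs U hle hcov (fs.get i)
    (fs.get i ^ n • s - topL M U m) (by
      intro j
      have := congrArg (resL M (inf_le_right :
        X.basicOpen (fs.get j) ⊓ X.basicOpen (fs.get i) ≤ _)) h1
      rw [resL_resL, map_zero] at this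
      rw [resL_resL]
      exact this)
  refine ⟨l + n, fs.get i ^ l • m, ?_⟩
  rw [smul_sub, sub_eq_zero, ← mul_smul, ← pow_add] at hl
  rw [hl]
  exact ((topL M U).map_smul _ _).symm

include hle hcov in
/-- Ideal transform on an affine scheme: kernel and cokernel of `Γ(X, M) → Γ(U, M)` for
`U = ⋃ X_{f_i}`. -/
theorem transformAffine :
    Nonempty (LinearMap.ker (topL M U) ≃ₗ[Γ(X, ⊤)]
      koszulHLim fs (ModuleCat.of Γ(X, ⊤) (M.val.obj (op ⊤))) 0) ∧
    Nonempty ((Sec M U ⧸ LinearMap.range (topL M U)) ≃ₗ[Γ(X, ⊤)]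
      koszulHLim fs (ModuleCat.of Γ(X, ⊤) (M.val.obj (op ⊤))) 1) :=
  transform fs ↑(M.val.obj (op ⊤)) (Sec M U)
    (fun i => Sec M (X.basicOpen (fs.get i)))
    (topL M U) (fun i => resL M (hle i))
    (fun i => by
      have := smul_bijective_of_le M (fs.get i) 1 (le_refl (X.basicOpen (fs.get i)))
      simpa using this)
    (fun s hs => sec_ext M fs U hle hcov s 0 (fun i => by rw [hs i, map_zero]))
    (hyp3 M fs U hle hcov) (fun m hm i => hyp4 M fs U hle m hm i) (hyp5 M fs U hle hcov)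

end hyps

section main

open LocCohZ Groth.Agent.S6032

variable (X : Scheme.{u}) [IsAffine X] (M : X.Modules) [hM : M.IsQuasicoherent] (fs : List Γ(X, ⊤))

/-- the union of the `X_{f_i}`. -/
abbrev UU : X.Opens := ⨆ i : Fin fs.length, X.basicOpen (fs.get i)

theorem hleU (i : Fin fs.length) : X.basicOpen (fs.get i) ≤ UU X fs :=
  le_iSup (fun i : Fin fs.length => X.basicOpen (fs.get i)) i

theorem res_eq' (V W : X.Opens) (h : W ≤ V) (s : Γ(M, V)) :
    ((Coh.toAb M).obj.map (homOfLE h).op).hom s = res M h s := rfl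

theorem deg0 : Nonempty (koszulHLim fs (ModuleCat.of Γ(X, ⊤) (M.val.obj (op ⊤))) 0 ≃+
    LocCohZ.HZM X M 0 (UU X fs)) := by
  obtain ⟨⟨e⟩, -⟩ := transformAffine M fs (UU X fs) (hleU X fs) le_rfl
  let φ : LinearMap.ker (topL M (UU X fs)) →+ sectZ (Coh.toAb M) (le_top : UU X fs ≤ ⊤) :=
    { toFun := fun m => ⟨m.1, by
        rw [AddMonoidHom.mem_ker]
        exact m.2⟩
      map_zero' := rfl
      map_add' := fun a b => rfl }
  have hφ : Function.Bijective φ := by
    refine ⟨fun a b hab => Subtype.ext (congrArg Subtype.val hab), ?_⟩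
    rintro ⟨s, hs⟩
    refine ⟨⟨s, ?_⟩, rfl⟩
    rw [AddMonoidHom.mem_ker] at hs
    exact hs
  exact ⟨e.symm.toAddEquiv.trans ((AddEquiv.ofBijective φ hφ).trans
    (sect0Equiv (Coh.toAb M) le_top).symm)⟩

theorem deg1 : Nonempty (koszulHLim fs (ModuleCat.of Γ(X, ⊤) (M.val.obj (op ⊤))) 1 ≃+
    LocCohZ.HZM X M 1 (UU X fs)) := by
  obtain ⟨-, ⟨e⟩⟩ := transformAffine M fs (UU X fs) (hleU X fs) le_rfl
  have hq : Coh.IsQCoh M := hM
  obtain ⟨e1⟩ := nonempty_HZ_one (Coh.toAb M) (UU X fs) (fun α =>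
    Groth.Agent.Lib.AffVan.HU_eq_zero_of_isAffineOpen _ hq 0 (isAffineOpen_top _) α)
  have hr : ((Coh.toAb M).obj.map (homOfLE (le_top : UU X fs ≤ ⊤)).op).hom.range =
      (LinearMap.range (topL M (UU X fs))).toAddSubgroup := by
    ext s
    constructor
    · rintro ⟨t, rfl⟩
      exact ⟨t, rfl⟩
    · rintro ⟨m, rfl⟩
      exact ⟨m, rfl⟩
  rw [hr] at e1
  exact ⟨e.symm.toAddEquiv.trans (AddEquiv.trans
    (QuotientAddGroup.quotientAddEquivOfEq rfl) e1.symm)⟩

theorem deg2 (q : ℕ) : Nonempty (koszulHLim fs (ModuleCat.of Γ(X, ⊤) (M.val.obj (op ⊤))) (q + 2) ≃+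
    LocCohZ.HZM X M (q + 2) (UU X fs)) := by
  have hq : Coh.IsQCoh M := hM
  have hδ := (Groth.Agent.S6031.result X M hq (UU X fs)).2 (q + 1) (by omega)
  obtain ⟨e1⟩ := Groth.Agent.Lib.CechPushCompare.nonempty_HU_addEquiv_HHon M (UU X fs) (q + 1)
  haveI : Coh.IsQCoh M := hq
  obtain ⟨e2⟩ := Groth.Agent.S2439.result X fs
    (fun i => (isAffineOpen_top X).basicOpen (fs.get i)) M (q + 1) (by omega)
  exact ⟨e2.symm.trans (e1.symm.trans (AddEquiv.ofBijective _ hδ))⟩

/-- **Local cohomology on an affine scheme is the colimit of Koszul cohomology** (generalises S6032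
from `Spec A, M~` to any affine scheme and quasi-coherent module). -/
theorem koszulHLim_equiv_HZM (i : ℕ) :
    Nonempty (koszulHLim fs (ModuleCat.of Γ(X, ⊤) (M.val.obj (op ⊤))) i ≃+
      LocCohZ.HZM X M i (UU X fs)) := by
  match i with
  | 0 => exact deg0 X M fs
  | 1 => exact deg1 X M fs
  | (q + 2) => exact deg2 X M fs q

end main

end Groth.Agent.Lib.AffineLocCoh9
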