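import Groth.Prelude.Def_CAlg
import Mathlib.RingTheory.Depth.Rees

/-!
Bridging `LocCoh.idealDepth` with regular sequences and with Mathlib's Rees theorem.
-/

set_option autoImplicit false
set_option maxHeartbeats 200000
universe u v

namespace Groth.Agent.Lib.H29Depth

open CategoryTheory RingTheory.Sequence

variable {R : Type u} [CommRing R]

section basic

variable (I : Ideal R) (M : Type v) [AddCommGroup M] [Module R M]

theorem idealDepth_eq_iSup (hIM : I • (⊤ : Submodule R M) ≠ ⊤) :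
    LocCoh.idealDepth I M =
      ⨆ (rs : List R) (_ : IsWeaklyRegular M rs ∧ ∀ r ∈ rs, r ∈ I), (rs.length : ℕ∞) := by
  unfold LocCoh.idealDepth
  rw [if_neg hIM]

theorem isWeaklyRegular_take {rs : List R} (h : IsWeaklyRegular M rs) (n : ℕ) :
    IsWeaklyRegular M (rs.take n) := by
  have := (isWeaklyRegular_append_iff M (rs.take n) (rs.drop n)).mp
    (by rw [List.take_append_drop]; exact h)
  exact this.1

theorem isRegular_of_isWeaklyRegular {rs : List R} (hIM : I • (⊤ : Submodule R M) ≠ ⊤)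
    (h : IsWeaklyRegular M rs) (hI : ∀ r ∈ rs, r ∈ I) : IsRegular M rs := by
  refine ⟨h, ?_⟩
  intro htop
  apply hIM
  have hle : Ideal.ofList rs ≤ I := by
    rw [Ideal.ofList, Ideal.span_le]
    exact fun r hr => hI r hr
  have h2 : Ideal.ofList rs • (⊤ : Submodule R M) ≤ I • (⊤ : Submodule R M) :=
    Submodule.smul_mono_left hle
  exact top_le_iff.mp (htop.le.trans h2)

/-- `n ≤ depth` iff there is a regular sequence of length `n` in `I`. -/
theorem le_idealDepth_iff (hIM : I • (⊤ : Submodule R M) ≠ ⊤) (n : ℕ) :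
    (n : ℕ∞) ≤ LocCoh.idealDepth I M ↔
      ∃ rs : List R, rs.length = n ∧ (∀ r ∈ rs, r ∈ I) ∧ IsRegular M rs := by
  rw [idealDepth_eq_iSup I M hIM]
  constructor
  · intro h
    rcases Nat.eq_zero_or_pos n with rfl | hn
    · exact ⟨[], rfl, by simp, isRegular_of_isWeaklyRegular I M hIM (.nil R M) (by simp)⟩
    · have hlt : ((n - 1 : ℕ) : ℕ∞) < ⨆ (rs : List R)
          (_ : IsWeaklyRegular M rs ∧ ∀ r ∈ rs, r ∈ I), (rs.length : ℕ∞) := by
        refine lt_of_lt_of_le ?_ h
        exact_mod_cast Nat.sub_lt hn Nat.one_pos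
      obtain ⟨rs, hrs⟩ := lt_iSup_iff.mp hlt
      obtain ⟨⟨hreg, hmem⟩, hlen⟩ := lt_iSup_iff.mp hrs
      have hlen' : n ≤ rs.length := by
        have : n - 1 < rs.length := by exact_mod_cast hlen
        omega
      refine ⟨rs.take n, by simp [hlen'], fun r hr => hmem r (List.mem_of_mem_take hr), ?_⟩
      exact isRegular_of_isWeaklyRegular I M hIM (isWeaklyRegular_take M hreg n)
        fun r hr => hmem r (List.mem_of_mem_take hr)
  · rintro ⟨rs, rfl, hmem, hreg⟩
    exact le_iSup₂_of_le rs ⟨hreg.toIsWeaklyRegular, hmem⟩ le_rfl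

end basic

section ext

open Abelian

/-- Subsingleton-ness of Ext transports along an isomorphism in the first variable. -/
theorem subsingleton_ext_of_iso {C : Type*} [Category C] [Abelian C] [HasExt C] {X X' Y : C}
    (e : X ≅ X') (n : ℕ) (h : Subsingleton (Ext X' Y n)) : Subsingleton (Ext X Y n) := by
  refine ⟨fun α β => ?_⟩
  have key : ∀ γ : Ext X Y n, γ = (Ext.mk₀ e.hom).comp ((Ext.mk₀ e.inv).comp γ (zero_add n))
      (zero_add n) := by
    intro γ
    rw [← Ext.comp_assoc (Ext.mk₀ e.hom) (Ext.mk₀ e.inv) γ (zero_add 0) (zero_add n)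
      (by omega), Ext.mk₀_comp_mk₀, e.hom_inv_id, Ext.mk₀_id_comp]
  rw [key α, key β, Subsingleton.elim ((Ext.mk₀ e.inv).comp α (zero_add n))
    ((Ext.mk₀ e.inv).comp β (zero_add n))]

variable [IsNoetherianRing R] (I : Ideal R) (M : Type u) [AddCommGroup M] [Module R M]
  [Module.Finite R M]

/-- Rees: `n ≤ depth_I M` iff `Ext^i(R/I, M) = 0` for all `i < n`. -/
theorem le_idealDepth_iff_ext (hIM : I • (⊤ : Submodule R M) ≠ ⊤) (n : ℕ) :
    (n : ℕ∞) ≤ LocCoh.idealDepth I M ↔
      ∀ i : ℕ, i < n → Subsingleton (Ext (ModuleCat.of R (R ⧸ I)) (ModuleCat.of R M) i) := by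
  rw [le_idealDepth_iff I M hIM n]
  have hlt : I • (⊤ : Submodule R (ModuleCat.of R M)) < ⊤ := lt_top_iff_ne_top.mpr hIM
  have tfae := ModuleCat.exists_isRegular_tfae I n (ModuleCat.of R M) hlt
  have h24 := tfae.out 1 3
  let e : ModuleCat.of R (Shrink.{u} (R ⧸ I)) ≅ ModuleCat.of R (R ⧸ I) :=
    (Shrink.linearEquiv R (R ⧸ I)).toModuleIso
  rw [← h24]
  constructor
  · intro h i hi
    exact subsingleton_ext_of_iso e.symm i (h i hi)
  · intro h i hi
    exact subsingleton_ext_of_iso e i (h i hi)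

end ext

section vanish

open Abelian

variable {C : Type*} [Category C] [Abelian C] [HasExt C] {S : ShortComplex C}

theorem subsingleton_ext_X₂ (hS : S.ShortExact) (X : C) (n : ℕ)
    (h₁ : Subsingleton (Ext X S.X₁ n)) (h₃ : Subsingleton (Ext X S.X₃ n)) :
    Subsingleton (Ext X S.X₂ n) := by
  refine subsingleton_of_forall_eq 0 fun x₂ => ?_
  obtain ⟨x₁, rfl⟩ := Ext.covariant_sequence_exact₂ X hS x₂ (Subsingleton.elim _ _)
  rw [Subsingleton.elim x₁ 0, Ext.zero_comp]

theorem subsingleton_ext_X₃ (hS : S.ShortExact) (X : C) (n : ℕ)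
    (h₂ : Subsingleton (Ext X S.X₂ n)) (h₁ : Subsingleton (Ext X S.X₁ (n + 1))) :
    Subsingleton (Ext X S.X₃ n) := by
  refine subsingleton_of_forall_eq 0 fun x₃ => ?_
  obtain ⟨x₂, rfl⟩ := Ext.covariant_sequence_exact₃ X hS x₃ rfl (Subsingleton.elim _ _)
  rw [Subsingleton.elim x₂ 0, Ext.zero_comp]

theorem subsingleton_ext_X₁_succ (hS : S.ShortExact) (X : C) (n : ℕ)
    (h₂ : Subsingleton (Ext X S.X₂ (n + 1))) (h₃ : Subsingleton (Ext X S.X₃ n)) :
    Subsingleton (Ext X S.X₁ (n + 1)) := by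
  refine subsingleton_of_forall_eq 0 fun x₁ => ?_
  obtain ⟨x₃, rfl⟩ := Ext.covariant_sequence_exact₁ X hS x₁ (Subsingleton.elim _ _) rfl
  rw [Subsingleton.elim x₃ 0, Ext.zero_comp]

theorem subsingleton_ext_X₁_zero (hS : S.ShortExact) (X : C)
    (h₂ : Subsingleton (Ext X S.X₂ 0)) : Subsingleton (Ext X S.X₁ 0) := by
  have := hS.mono_f
  exact (Ext.postcomp_mk₀_injective_of_mono X S.f).subsingleton

end vanish

section ext'

open Abelian

variable [IsNoetherianRing R] (I : Ideal R) (M : Type u) [AddCommGroup M] [Module R M]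
  [Module.Finite R M]

/-- If `IM = M` (finite `M`) then all `Ext^i(R/I, M)` vanish. -/
theorem subsingleton_ext_of_smul_top_eq_top (hIM : I • (⊤ : Submodule R M) = ⊤) (i : ℕ) :
    Subsingleton (Ext (ModuleCat.of R (R ⧸ I)) (ModuleCat.of R M) i) := by
  obtain ⟨r, hrI, hr⟩ := Submodule.exists_mem_and_smul_eq_self_of_fg_of_le_smul I
    (⊤ : Submodule R M) Module.Finite.fg_top hIM.ge
  refine subsingleton_of_forall_eq 0 fun x => ?_
  have h1 : r • 𝟙 (ModuleCat.of R (R ⧸ I)) = 0 := by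
    apply ModuleCat.hom_ext
    apply LinearMap.ext
    intro y
    obtain ⟨y, rfl⟩ := Ideal.Quotient.mk_surjective y
    change r • (Ideal.Quotient.mk I y) = 0
    rw [Algebra.smul_def, Ideal.Quotient.algebraMap_eq, ← map_mul]
    exact Ideal.Quotient.eq_zero_iff_mem.mpr (Ideal.mul_mem_right _ _ hrI)
  have h2 : r • 𝟙 (ModuleCat.of R M) = 𝟙 (ModuleCat.of R M) := by
    apply ModuleCat.hom_ext
    apply LinearMap.ext
    intro y
    exact hr y trivial
  have e1 : r • x = 0 := by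
    have : r • x = (Ext.mk₀ (r • 𝟙 (ModuleCat.of R (R ⧸ I)))).comp x (zero_add i) := by
      rw [Ext.mk₀_smul, Ext.smul_comp, Ext.mk₀_id_comp]
    rw [this, h1, Ext.mk₀_zero, Ext.zero_comp]
  have e2 : r • x = x := by
    rw [Ext.smul_eq_comp_mk₀, h2, Ext.comp_mk₀_id]
  rw [← e2, e1]

/-- Rees without the hypothesis `IM ≠ M`. -/
theorem le_idealDepth_iff_ext' (n : ℕ) :
    (n : ℕ∞) ≤ LocCoh.idealDepth I M ↔
      ∀ i : ℕ, i < n → Subsingleton (Ext (ModuleCat.of R (R ⧸ I)) (ModuleCat.of R M) i) := by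
  by_cases hIM : I • (⊤ : Submodule R M) = ⊤
  · have : LocCoh.idealDepth I M = ⊤ := by
      unfold LocCoh.idealDepth
      rw [if_pos hIM]
    rw [this]
    exact ⟨fun _ i _ => subsingleton_ext_of_smul_top_eq_top I M hIM i, fun _ => le_top⟩
  · exact le_idealDepth_iff_ext I M hIM n

end ext'

end Groth.Agent.Lib.H29Depth
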