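import Groth.Agent.Lib.H8CM9

/-!
# Depth and localization for modules (helper8)

* `depth_quotient_ofList_add_length`: over a Noetherian local ring,
  `depth(M/(rs)M) + |rs| = depth M` for a regular sequence `rs` in the maximal ideal.
* `length_le_depth_localizedModule`: a weakly regular sequence in `p` bounds `depth M_p` below.
* `exists_prime_depth_localizedModule_eq`: `depth(I, M)` is attained as `depth M_p`, `p ⊇ I`.
* `idealDepth_eq_iInf_depth_localizedModule`: `depth(I, M) = inf_{p ⊇ I} depth M_p`.
-/

set_option autoImplicit false
set_option linter.unusedSectionVars false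
universe u v

namespace Groth.Agent.Lib.H8CM

open RingTheory.Sequence IsLocalRing Pointwise Module Groth.Agent.Lib.DepthBasic
  Groth.Agent.Lib.DepthRees LocCoh

section local_

variable {R : Type u} [CommRing R] [IsLocalRing R] [IsNoetherianRing R] [Small.{v} R]

/-- `depth(M/(rs)M) + |rs| = depth M` for a regular sequence in the maximal ideal. -/
theorem depth_quotient_ofList_add_length (rs : List R) :
    ∀ (M : Type v) [AddCommGroup M] [Module R M] [Module.Finite R M] [Nontrivial M],
      (∀ r ∈ rs, r ∈ maximalIdeal R) → IsWeaklyRegular M rs →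
      depth R (M ⧸ Ideal.ofList rs • (⊤ : Submodule R M)) + rs.length = depth R M := by
  induction rs with
  | nil =>
    intro M _ _ _ _ _ _
    have e := Submodule.quotEquivOfEqBot (Ideal.ofList ([] : List R) • (⊤ : Submodule R M))
      (by rw [Ideal.ofList_nil, Submodule.bot_smul])
    rw [depth_eq_of_equiv e]
    simp
  | cons x xs ih =>
    intro M _ _ _ _ hmem hreg
    have hx : x ∈ maximalIdeal R := hmem x List.mem_cons_self
    have hxs : ∀ y ∈ xs, y ∈ maximalIdeal R := fun y hy ↦ hmem y (List.mem_cons_of_mem _ hy)
    rw [isWeaklyRegular_cons_iff] at hreg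
    haveI := nontrivial_quotSMulTop (M := M) hx
    have h1 := ih (QuotSMulTop x M) hxs hreg.2
    have h2 := depth_quotSMulTop_add_one M hx hreg.1
    rw [depth_eq_of_equiv (Submodule.quotOfListConsSMulTopEquivQuotSMulTopInner M x xs),
      List.length_cons, ← h2, ← h1]
    push_cast
    rw [add_assoc]

end local_

section global

variable {A : Type u} [CommRing A] [IsNoetherianRing A]
  {M : Type u} [AddCommGroup M] [Module A M] [Module.Finite A M]

/-- The depth of the zero module is `⊤`. -/
theorem depth_eq_top_of_subsingleton {R : Type*} [CommRing R] [IsLocalRing R] (N : Type*)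
    [AddCommGroup N] [Module R N] [Subsingleton N] : depth R N = ⊤ := by
  unfold depth idealDepth
  rw [if_pos (Subsingleton.elim _ _)]

/-- A weakly regular sequence on `M` inside a prime `p` bounds `depth M_p` from below. -/
theorem length_le_depth_localizedModule (p : Ideal A) [p.IsPrime] {rs : List A}
    (hreg : IsWeaklyRegular M rs) (hmem : ∀ r ∈ rs, r ∈ p) :
    (rs.length : ℕ∞) ≤ depth (Localization.AtPrime p) (LocalizedModule p.primeCompl M) := by
  rcases subsingleton_or_nontrivial (LocalizedModule p.primeCompl M) with h | h
  · rw [depth_eq_top_of_subsingleton]; exact le_top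
  rw [natCast_le_depth_iff]
  refine ⟨rs.map (algebraMap A (Localization.AtPrime p)), by simp, ?_,
    hreg.of_isLocalizedModule (Localization.AtPrime p) p.primeCompl
      (LocalizedModule.mkLinearMap p.primeCompl M)⟩
  intro r hr
  obtain ⟨r0, hr0, rfl⟩ := List.mem_map.mp hr
  exact (IsLocalization.AtPrime.to_map_mem_maximal_iff _ p _).mpr (hmem r0 hr0)

/-- Localising an associated prime of `M/(rs)M`. -/
theorem maximalIdeal_mem_associatedPrimes_localizedModule (p : Ideal A) [p.IsPrime] (rs : List A)
    (hp : p ∈ associatedPrimes A (M ⧸ Ideal.ofList rs • (⊤ : Submodule A M))) :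
    maximalIdeal (Localization.AtPrime p) ∈ associatedPrimes (Localization.AtPrime p)
      (LocalizedModule p.primeCompl M ⧸
        Ideal.ofList (rs.map (algebraMap A (Localization.AtPrime p))) •
        (⊤ : Submodule (Localization.AtPrime p) (LocalizedModule p.primeCompl M))) := by
  have hI' : (Ideal.ofList rs • (⊤ : Submodule A M)).localized' (Localization.AtPrime p)
      p.primeCompl (LocalizedModule.mkLinearMap p.primeCompl M) =
      Ideal.ofList (rs.map (algebraMap A (Localization.AtPrime p))) •
        (⊤ : Submodule (Localization.AtPrime p) (LocalizedModule p.primeCompl M)) := by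
    rw [Submodule.localized'_smul, Submodule.localized'_top, ← Ideal.map_ofList,
      Submodule.localized'_eq_span]
    rfl
  have key := Module.associatedPrimes.mem_associatedPrimes_of_comap_mem_associatedPrimes_of_isLocalizedModule
    p.primeCompl ((Ideal.ofList rs • (⊤ : Submodule A M)).toLocalizedQuotient'
      (Localization.AtPrime p) p.primeCompl (LocalizedModule.mkLinearMap p.primeCompl M))
    (maximalIdeal (Localization.AtPrime p))
    (by
      have := IsLocalization.AtPrime.under_maximalIdeal (Localization.AtPrime p) p
      rw [Ideal.under] at this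
      rwa [this])
  rwa [hI'] at key

/-- If `IM ≠ M` and `depth(I, M) = n` is finite, there is a prime `p ⊇ I` with `depth M_p = n`. -/
theorem exists_prime_depth_localizedModule_eq (I : Ideal A) (hI : I • (⊤ : Submodule A M) ≠ ⊤)
    (n : ℕ) (hn : idealDepth I M = n) :
    ∃ p : Ideal A, ∃ _ : p.IsPrime, I ≤ p ∧
      depth (Localization.AtPrime p) (LocalizedModule p.primeCompl M) = n := by
  obtain ⟨rs, hlen, hmem, hreg⟩ := (natCast_le_idealDepth_iff I M hI n).mp (le_of_eq hn.symm)
  have hmax : ∀ x ∈ I, ¬ IsSMulRegular (M ⧸ Ideal.ofList rs • (⊤ : Submodule A M)) x := by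
    intro x hx hxreg
    have h1 : ((n + 1 : ℕ) : ℕ∞) ≤ idealDepth I M := by
      rw [natCast_le_idealDepth_iff I M hI]
      refine ⟨rs ++ [x], by simp [hlen], ?_, ?_⟩
      · intro r hr
        rcases List.mem_append.mp hr with h | h
        · exact hmem r h
        · rw [List.mem_singleton] at h
          rw [h]; exact hx
      · rw [isWeaklyRegular_append_iff]
        exact ⟨hreg, by rw [isWeaklyRegular_singleton_iff]; exact hxreg⟩
    rw [hn] at h1
    have : n + 1 ≤ n := by exact_mod_cast h1
    omega
  obtain ⟨p, hp, hIp⟩ := exists_associatedPrime_ge_of_forall_not_isSMulRegular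
    (M := M ⧸ Ideal.ofList rs • (⊤ : Submodule A M)) I hmax
  have hpprime : p.IsPrime := hp.isPrime
  refine ⟨p, hpprime, hIp, ?_⟩
  have hmem' : ∀ r ∈ rs.map (algebraMap A (Localization.AtPrime p)),
      r ∈ maximalIdeal (Localization.AtPrime p) := by
    intro r hr
    obtain ⟨r0, hr0, rfl⟩ := List.mem_map.mp hr
    exact (IsLocalization.AtPrime.to_map_mem_maximal_iff _ p _).mpr (hIp (hmem r0 hr0))
  have hreg' : IsWeaklyRegular (LocalizedModule p.primeCompl M)
      (rs.map (algebraMap A (Localization.AtPrime p))) :=
    hreg.of_isLocalizedModule (Localization.AtPrime p) p.primeCompl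
      (LocalizedModule.mkLinearMap p.primeCompl M)
  have hass := maximalIdeal_mem_associatedPrimes_localizedModule p rs hp
  haveI hntN : Nontrivial (LocalizedModule p.primeCompl M ⧸
        Ideal.ofList (rs.map (algebraMap A (Localization.AtPrime p))) •
        (⊤ : Submodule (Localization.AtPrime p) (LocalizedModule p.primeCompl M))) := by
    by_contra hcon
    rw [not_nontrivial_iff_subsingleton] at hcon
    have := associatedPrimes.eq_empty_of_subsingleton (R := Localization.AtPrime p)
      (M := (LocalizedModule p.primeCompl M ⧸
        Ideal.ofList (rs.map (algebraMap A (Localization.AtPrime p))) •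
        (⊤ : Submodule (Localization.AtPrime p) (LocalizedModule p.primeCompl M))))
    rw [this] at hass
    exact hass
  haveI hntM : Nontrivial (LocalizedModule p.primeCompl M) := by
    by_contra h
    rw [not_nontrivial_iff_subsingleton] at h
    exact (Submodule.Quotient.nontrivial_iff.mp hntN) (Subsingleton.elim _ _)
  have h0 : depth (Localization.AtPrime p) (LocalizedModule p.primeCompl M ⧸
        Ideal.ofList (rs.map (algebraMap A (Localization.AtPrime p))) •
        (⊤ : Submodule (Localization.AtPrime p) (LocalizedModule p.primeCompl M))) = 0 := by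
    have := (Groth.Agent.Lib.SerreSk.maximalIdeal_mem_associatedPrimes_iff
      (R := Localization.AtPrime p) _).mp hass
    rw [Order.one_le_iff_ne_zero, not_not] at this
    exact this
  have key := depth_quotient_ofList_add_length (R := Localization.AtPrime p)
    (rs.map (algebraMap A (Localization.AtPrime p))) (LocalizedModule p.primeCompl M) hmem' hreg'
  rw [h0, zero_add, List.length_map, hlen] at key
  exact key.symm

/-- If `IM = M` then `M_p = 0` for every prime `p ⊇ I`. -/
theorem subsingleton_localizedModule_of_smul_top_eq_top (I : Ideal A)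
    (hI : I • (⊤ : Submodule A M) = ⊤) (p : PrimeSpectrum A) (hp : I ≤ p.asIdeal) :
    Subsingleton (LocalizedModule p.asIdeal.primeCompl M) := by
  by_contra hcon
  rw [not_subsingleton_iff_nontrivial] at hcon
  have hsupp : p ∈ Module.support A M := Module.mem_support_iff.mpr hcon
  have h1 := mem_support_quotient_of_le I hsupp hp
  have h2 : Nontrivial (M ⧸ I • (⊤ : Submodule A M)) := by
    by_contra h
    rw [not_nontrivial_iff_subsingleton, ← Module.support_eq_empty_iff (R := A)] at h
    rw [h] at h1
    exact h1
  exact (Submodule.Quotient.nontrivial_iff.mp h2) hI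

/-- **`depth(I, M) = inf_{p ⊇ I} depth M_p`** for a finite module over a Noetherian ring. -/
theorem idealDepth_eq_iInf_depth_localizedModule (I : Ideal A) :
    idealDepth I M = ⨅ (p : PrimeSpectrum A) (_ : I ≤ p.asIdeal),
      depth (Localization.AtPrime p.asIdeal) (LocalizedModule p.asIdeal.primeCompl M) := by
  apply le_antisymm
  · refine le_iInf₂ fun p hp ↦ ?_
    by_cases hI : I • (⊤ : Submodule A M) = ⊤
    · have := subsingleton_localizedModule_of_smul_top_eq_top I hI p hp
      rw [depth_eq_top_of_subsingleton]; exact le_top
    · refine ENat.forall_natCast_le_iff_le.mp fun n hn ↦ ?_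
      obtain ⟨rs, rfl, hmem, hreg⟩ := (natCast_le_idealDepth_iff I M hI n).mp hn
      exact length_le_depth_localizedModule p.asIdeal hreg (fun r hr ↦ hp (hmem r hr))
  · by_cases hI : I • (⊤ : Submodule A M) = ⊤
    · unfold idealDepth
      rw [if_pos hI]; exact le_top
    · by_cases htop : idealDepth I M = ⊤
      · rw [htop]; exact le_top
      obtain ⟨n, hn⟩ := ENat.ne_top_iff_exists.mp htop
      obtain ⟨p, hp, hIp, hd⟩ := exists_prime_depth_localizedModule_eq I hI n hn.symm
      calc _ ≤ depth (Localization.AtPrime p) (LocalizedModule p.primeCompl M) :=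
            iInf₂_le (⟨p, hp⟩ : PrimeSpectrum A) hIp
        _ = n := hd
        _ = _ := hn

end global

end Groth.Agent.Lib.H8CM
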