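import Groth.Agent.Lib.H8CM11
import Mathlib.RingTheory.Localization.LocalizationLocalization
import Mathlib.RingTheory.Localization.BaseChange

/-!
# Depth and support dimension: ring isomorphisms, abstract localizations, double localization
(helper8)

* `idealDepth_eq_of_ringEquiv`, `depth_eq_of_ringEquiv`, `supportDim_eq_of_ringEquiv`: invariance
  under a ring isomorphism `e : R ≃+* R'` together with an `e`-semilinear additive equivalence.
* `depth_eq_of_isLocalizedModule`, `supportDim_eq_of_isLocalizedModule`: any localization
  `(Rp, Mp)` of `(R, M)` at a prime `p` has the same depth / support dimension as the concrete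
  `(Localization.AtPrime p, LocalizedModule p.primeCompl M)`.
* `depth_localizedModule_localizedModule`, `supportDim_localizedModule_localizedModule`:
  double localization `(M')_Q` versus `M_q` (`M'` a localization of `M` at `S`, `Q` a prime of the
  localized ring, `q` its contraction).
-/

set_option autoImplicit false
set_option linter.unusedSectionVars false
universe u

namespace Groth.Agent.Lib.H8LocTrans

open RingTheory.Sequence IsLocalRing Pointwise Module LocCoh

section ringEquiv

variable {R R' : Type*} [CommRing R] [CommRing R']
  {M M' : Type*} [AddCommGroup M] [Module R M] [AddCommGroup M'] [Module R' M']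

/-- Transport of `I M` along a semilinear additive equivalence. -/
theorem map_mem_smul_top (e : R →+* R') (f : M ≃+ M') (hf : ∀ (r : R) (m : M), f (r • m) = e r • f m)
    (I : Ideal R) {x : M} (hx : x ∈ I • (⊤ : Submodule R M)) :
    f x ∈ (I.map e) • (⊤ : Submodule R' M') := by
  refine Submodule.smul_induction_on hx (fun r hr n _ ↦ ?_) (fun x y hx hy ↦ ?_)
  · rw [hf]
    exact Submodule.smul_mem_smul (Ideal.mem_map_of_mem e hr) Submodule.mem_top
  · rw [map_add]
    exact Submodule.add_mem _ hx hy

/-- One inequality of depths along a semilinear additive equivalence (any ring hom). -/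
theorem idealDepth_le_of_semilinear (e : R →+* R') (f : M ≃+ M')
    (hf : ∀ (r : R) (m : M), f (r • m) = e r • f m) (I : Ideal R) :
    idealDepth I M ≤ idealDepth (I.map e) M' := by
  by_cases hI : I • (⊤ : Submodule R M) = ⊤
  · have hI' : (I.map e) • (⊤ : Submodule R' M') = ⊤ := by
      rw [eq_top_iff]
      intro y _
      have : f.symm y ∈ I • (⊤ : Submodule R M) := by rw [hI]; exact Submodule.mem_top
      simpa using map_mem_smul_top e f hf I this
    unfold idealDepth
    rw [if_pos hI, if_pos hI']
  · by_cases hI' : (I.map e) • (⊤ : Submodule R' M') = ⊤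
    · unfold idealDepth
      rw [if_pos hI']
      exact le_top
    · unfold idealDepth
      rw [if_neg hI, if_neg hI']
      refine iSup₂_le fun rs hrs ↦ ?_
      refine le_iSup₂_of_le (rs.map e) ⟨?_, ?_⟩ (by simp)
      · refine (f.isWeaklyRegular_congr ?_).mp hrs.1
        exact List.forall₂_map_right_iff.mpr (List.forall₂_same.mpr fun r _ x ↦ hf r x)
      · intro r hr
        obtain ⟨r0, hr0, rfl⟩ := List.mem_map.mp hr
        exact Ideal.mem_map_of_mem e (hrs.2 r0 hr0)

/-- The ideal depth is invariant under a ring isomorphism with a semilinear equivalence. -/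
theorem idealDepth_eq_of_ringEquiv (e : R ≃+* R') (f : M ≃+ M')
    (hf : ∀ (r : R) (m : M), f (r • m) = e r • f m) (I : Ideal R) :
    idealDepth I M = idealDepth (I.map (e : R →+* R')) M' := by
  apply le_antisymm (idealDepth_le_of_semilinear (e : R →+* R') f hf I)
  have hf' : ∀ (r : R') (m : M'), f.symm (r • m) = (e.symm : R' →+* R) r • f.symm m := by
    intro r m
    apply f.injective
    rw [hf]
    simp
  have := idealDepth_le_of_semilinear (e.symm : R' →+* R) f.symm hf' (I.map (e : R →+* R'))
  rwa [Ideal.map_map, show (e.symm : R' →+* R).comp (e : R →+* R') = RingHom.id R from by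
    ext; simp, Ideal.map_id] at this

/-- The depth is invariant under a ring isomorphism with a semilinear equivalence. -/
theorem depth_eq_of_ringEquiv [IsLocalRing R] [IsLocalRing R'] (e : R ≃+* R') (f : M ≃+ M')
    (hf : ∀ (r : R) (m : M), f (r • m) = e r • f m) : depth R M = depth R' M' := by
  unfold depth
  rw [idealDepth_eq_of_ringEquiv e f hf]
  congr 1
  exact IsLocalRing.eq_maximalIdeal (Ideal.map_isMaximal_of_equiv e)

/-- One inequality of support dimensions along a ring isomorphism with a semilinear equivalence. -/
theorem supportDim_le_of_ringEquiv (e : R ≃+* R') (f : M ≃+ M')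
    (hf : ∀ (r : R) (m : M), f (r • m) = e r • f m) :
    supportDim R' M' ≤ supportDim R M := by
  unfold supportDim
  have hmem : ∀ p' : PrimeSpectrum R', p' ∈ Module.support R' M' →
      (PrimeSpectrum.comapEquiv e).symm p' ∈ Module.support R M := by
    intro p' hp'
    rw [Module.mem_support_iff'] at hp' ⊢
    obtain ⟨m', hm'⟩ := hp'
    refine ⟨f.symm m', fun r hr h0 ↦ ?_⟩
    have hr' : e r ∉ p'.asIdeal := hr
    apply hm' (e r) hr'
    have := congrArg f h0
    rwa [hf, map_zero, AddEquiv.apply_symm_apply] at this
  refine Order.krullDim_le_of_strictMono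
    (fun p' : Module.support R' M' ↦
      (⟨(PrimeSpectrum.comapEquiv e).symm p'.1, hmem p'.1 p'.2⟩ : Module.support R M)) ?_
  intro a b hab
  exact (PrimeSpectrum.comapEquiv e).symm.strictMono hab

/-- The support dimension is invariant under a ring isomorphism with a semilinear equivalence. -/
theorem supportDim_eq_of_ringEquiv (e : R ≃+* R') (f : M ≃+ M')
    (hf : ∀ (r : R) (m : M), f (r • m) = e r • f m) :
    supportDim R M = supportDim R' M' := by
  apply le_antisymm _ (supportDim_le_of_ringEquiv e f hf)
  have hf' : ∀ (r : R') (m : M'), f.symm (r • m) = e.symm r • f.symm m := by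
    intro r m
    apply f.injective
    rw [hf]
    simp
  exact supportDim_le_of_ringEquiv e.symm f.symm hf'

end ringEquiv

section abstractLoc

variable {R : Type*} [CommRing R] (p : Ideal R) [p.IsPrime]
  (Rp : Type*) [CommRing Rp] [Algebra R Rp] [IsLocalization.AtPrime Rp p]
  {M : Type*} [AddCommGroup M] [Module R M]
  {Mp : Type*} [AddCommGroup Mp] [Module R Mp] [Module Rp Mp] [IsScalarTower R Rp Mp]
  (f : M →ₗ[R] Mp) [IsLocalizedModule p.primeCompl f]

/-- The comparison isomorphism between the concrete localized module and an abstract one is
semilinear for the comparison isomorphism of the localized rings. -/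
theorem iso_smul (x : Localization.AtPrime p) (y : LocalizedModule p.primeCompl M) :
    IsLocalizedModule.iso p.primeCompl f (x • y) =
      (IsLocalization.algEquiv p.primeCompl (Localization.AtPrime p) Rp) x •
        IsLocalizedModule.iso p.primeCompl f y := by
  letI : Module (Localization.AtPrime p) Mp :=
    Module.compHom Mp
      ((IsLocalization.algEquiv p.primeCompl (Localization.AtPrime p) Rp : _ →+* Rp))
  haveI : IsScalarTower R (Localization.AtPrime p) Mp := by
    refine ⟨fun r x m ↦ ?_⟩
    change (IsLocalization.algEquiv p.primeCompl (Localization.AtPrime p) Rp) (r • x) • m =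
      r • ((IsLocalization.algEquiv p.primeCompl (Localization.AtPrime p) Rp) x • m)
    rw [map_smul, smul_assoc]
  exact ((IsLocalizedModule.iso p.primeCompl f).extendScalarsOfIsLocalization p.primeCompl
    (Localization.AtPrime p)).map_smul x y

include f in
/-- Any localization `(Rp, Mp)` at a prime has the same depth as the concrete one. -/
theorem depth_eq_of_isLocalizedModule [IsLocalRing Rp] :
    depth Rp Mp = depth (Localization.AtPrime p) (LocalizedModule p.primeCompl M) :=
  (depth_eq_of_ringEquiv
    (IsLocalization.algEquiv p.primeCompl (Localization.AtPrime p) Rp).toRingEquiv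
    (IsLocalizedModule.iso p.primeCompl f).toAddEquiv (iso_smul p Rp f)).symm

include f in
/-- Any localization `(Rp, Mp)` at a prime has the same support dimension as the concrete one. -/
theorem supportDim_eq_of_isLocalizedModule :
    supportDim Rp Mp = supportDim (Localization.AtPrime p) (LocalizedModule p.primeCompl M) :=
  (supportDim_eq_of_ringEquiv
    (IsLocalization.algEquiv p.primeCompl (Localization.AtPrime p) Rp).toRingEquiv
    (IsLocalizedModule.iso p.primeCompl f).toAddEquiv (iso_smul p Rp f)).symm

end abstractLoc

section double

variable {B : Type*} [CommRing B] (S : Submonoid B)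
  (B' : Type*) [CommRing B'] [Algebra B B'] [IsLocalization S B']
  {M : Type*} [AddCommGroup M] [Module B M]
  {M' : Type*} [AddCommGroup M'] [Module B M'] [Module B' M'] [IsScalarTower B B' M']
  (g : M →ₗ[B] M') [IsLocalizedModule S g]
  (Q : Ideal B') [Q.IsPrime]

include S in
/-- Abstract double localization: a localization of `M' = S⁻¹M` at a prime `Q` of `S⁻¹B` is a
localization of `M` at the contraction of `Q`. -/
theorem isLocalizedModule_comp
    (T : Type*) [CommRing T] [Algebra B' T] [IsLocalization.AtPrime T Q] [Algebra B T]
    [IsScalarTower B B' T]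
    {O : Type*} [AddCommGroup O] [Module B O] [Module B' O] [Module T O] [IsScalarTower B' T O]
    [IsScalarTower B B' O] [IsScalarTower B T O]
    (h : M' →ₗ[B'] O) [IsLocalizedModule Q.primeCompl h] :
    IsLocalization.AtPrime T (Q.comap (algebraMap B B')) ∧
      IsLocalizedModule (Q.comap (algebraMap B B')).primeCompl ((h.restrictScalars B).comp g) := by
  have h1 : IsLocalization.AtPrime T (Q.comap (algebraMap B B')) :=
    IsLocalization.isLocalization_isLocalization_atPrime_isLocalization S T Q
  refine ⟨h1, ?_⟩
  have hb1 : IsBaseChange B' g := IsLocalizedModule.isBaseChange S B' g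
  have hb2 : IsBaseChange T h := IsLocalizedModule.isBaseChange Q.primeCompl T h
  exact (isLocalizedModule_iff_isBaseChange (Q.comap (algebraMap B B')).primeCompl T _).mpr
    (hb1.comp hb2)

include S in
/-- Double localization, depth: `depth (M')_Q = depth M_q` for `M' = S⁻¹M`, `Q` a prime of `S⁻¹B`
and `q` its contraction. -/
theorem depth_double (g : M →ₗ[B] M') [IsLocalizedModule S g] (Q : Ideal B') [Q.IsPrime] :
    depth (Localization.AtPrime Q) (LocalizedModule Q.primeCompl M') =
      depth (Localization.AtPrime (Q.comap (algebraMap B B')))
        (LocalizedModule (Q.comap (algebraMap B B')).primeCompl M) := by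
  haveI : IsScalarTower B B' (Localization.AtPrime Q) := inferInstance
  obtain ⟨h1, h2⟩ := isLocalizedModule_comp S B' g Q (Localization.AtPrime Q)
    (LocalizedModule.mkLinearMap Q.primeCompl M')
  exact depth_eq_of_isLocalizedModule (Q.comap (algebraMap B B')) (Localization.AtPrime Q)
    (((LocalizedModule.mkLinearMap Q.primeCompl M').restrictScalars B).comp g)

include S in
/-- Double localization, support dimension. -/
theorem supportDim_double (g : M →ₗ[B] M') [IsLocalizedModule S g] (Q : Ideal B') [Q.IsPrime] :
    supportDim (Localization.AtPrime Q) (LocalizedModule Q.primeCompl M') =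
      supportDim (Localization.AtPrime (Q.comap (algebraMap B B')))
        (LocalizedModule (Q.comap (algebraMap B B')).primeCompl M) := by
  haveI : IsScalarTower B B' (Localization.AtPrime Q) := inferInstance
  obtain ⟨h1, h2⟩ := isLocalizedModule_comp S B' g Q (Localization.AtPrime Q)
    (LocalizedModule.mkLinearMap Q.primeCompl M')
  exact supportDim_eq_of_isLocalizedModule (Q.comap (algebraMap B B')) (Localization.AtPrime Q)
    (((LocalizedModule.mkLinearMap Q.primeCompl M').restrictScalars B).comp g)

end double

end Groth.Agent.Lib.H8LocTrans
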