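import Groth.Agent.Lib.Hartogs
import Groth.Agent.Lib.H47Reflexive
import Groth.Agent.Lib.H8LocTrans
import Groth.Agent.Lib.H8CM10
import Groth.Agent.Lib.CohFinite

/-!
# Converse Hartogs (helper63)

`X` locally Noetherian, `E` coherent, `U` open.  If for every open `V` the restriction
`Γ(V, E) → Γ(V ⊓ U, E)` is bijective, then `depth E_x ≥ 2` at every point `x ∉ U`.
-/

set_option autoImplicit false
universe u
open CategoryTheory AlgebraicGeometry TopologicalSpace Opposite

namespace Groth.Agent.Lib.HartogsConverse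

open Groth.Agent.Lib.QCohStalk Groth.Agent.Lib.AssPoints Groth.Agent.Lib.Hartogs
  Groth.Agent.Lib.H47Reflexive

variable {X : Scheme.{u}}

section Affine

variable (E : X.Modules) {V : X.Opens} (hV : IsAffineOpen V) (U : X.Opens)

include hV in
/-- Every point of `V ⊓ U` lies in a basic open `D(c) ≤ V ⊓ U` with `c` in the vanishing ideal. -/
theorem exists_mem_vanIdeal (p : X) (hp : p ∈ V ⊓ U) :
    ∃ c : Γ(X, V), c ∈ vanIdeal hV U ∧ p ∈ X.basicOpen c := by
  obtain ⟨c, hcU, hpc⟩ := hV.exists_basicOpen_le (⟨p, hp.2⟩ : U) hp.1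
  exact ⟨c, (mem_vanIdeal_iff hV U c).mpr hcU, hpc⟩

include hV in
theorem tf_of_res_injective (hinj : Function.Injective (res E (inf_le_left : V ⊓ U ≤ V))) :
    TF (vanIdeal hV U) Γ(E, V) := by
  intro m hm
  apply hinj
  rw [res_zero]
  apply TopCat.Presheaf.section_ext ⟨E.presheaf, E.isSheaf⟩ (V ⊓ U)
  intro p hp
  rw [map_zero, germ_res]
  obtain ⟨c, hcJ, hpc⟩ := exists_mem_vanIdeal hV U p hp
  have hunit : IsUnit (X.presheaf.germ V p hp.1 c) := (X.mem_basicOpen c p hp.1).mp hpc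
  have h1 := congrArg (E.presheaf.germ V p hp.1) (hm c hcJ)
  rw [germ_smul, map_zero] at h1
  exact hunit.smul_eq_zero.mp h1

include hV in
theorem e1_of_res_bijective
    (hbij : Function.Bijective (res E (inf_le_left : V ⊓ U ≤ V))) :
    E1 (vanIdeal hV U) Γ(E, V) := by
  intro h
  -- local sections `h(c)/c` on `D(c)`
  let ι := ↥(vanIdeal hV U)
  let Uι : ι → X.Opens := fun c => X.basicOpen (c : Γ(X, V))
  have hle : ∀ c : ι, Uι c ≤ V ⊓ U := fun c =>
    le_inf (X.basicOpen_le _) ((mem_vanIdeal_iff hV U c).mp c.2)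
  let sf : ∀ c : ι, Γ(E, Uι c) := fun c =>
    (((isUnit_resO_basicOpen (c : Γ(X, V))).unit⁻¹ : (Γ(X, X.basicOpen (c : Γ(X, V))))ˣ) :
      Γ(X, X.basicOpen (c : Γ(X, V)))) • res E (X.basicOpen_le (c : Γ(X, V))) (h c)
  have hsf : ∀ (c : ι) (p : X) (hp : p ∈ Uι c),
      X.presheaf.germ V p (X.basicOpen_le _ hp) (c : Γ(X, V)) • E.presheaf.germ (Uι c) p hp (sf c) =
        E.presheaf.germ V p (X.basicOpen_le _ hp) (h c) := by
    intro c p hp
    have h1 : resO X (X.basicOpen_le (c : Γ(X, V))) (c : Γ(X, V)) • sf c =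
        res E (X.basicOpen_le (c : Γ(X, V))) (h c) := by
      change resO X _ (c : Γ(X, V)) • ((_ : Γ(X, X.basicOpen (c : Γ(X, V)))) • _) = _
      rw [← mul_smul, IsUnit.mul_val_inv, one_smul]
    have h2 := congrArg (E.presheaf.germ (Uι c) p hp) h1
    rw [germ_smul, germO_res, germ_res] at h2
    exact h2
  have hunit : ∀ (c : ι) (p : X) (hp : p ∈ Uι c),
      IsUnit (X.presheaf.germ V p (X.basicOpen_le _ hp) (c : Γ(X, V))) := fun c p hp =>
    (X.mem_basicOpen _ p (X.basicOpen_le _ hp)).mp hp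
  -- key cancellation: germs of `sf c` and `sf c'` agree
  have hgerm : ∀ (c c' : ι) (p : X) (hp : p ∈ Uι c) (hp' : p ∈ Uι c'),
      E.presheaf.germ (Uι c) p hp (sf c) = E.presheaf.germ (Uι c') p hp' (sf c') := by
    intro c c' p hp hp'
    have hpV : p ∈ V := X.basicOpen_le _ hp
    apply (hunit c p hp).smul_left_cancel.mp
    apply (hunit c' p hp').smul_left_cancel.mp
    rw [hsf c p hp, smul_comm, hsf c' p hp', ← germ_smul, ← germ_smul, ← map_smul, ← map_smul]
    congr 2
    apply Subtype.ext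
    exact mul_comm _ _
  have hcompat : TopCat.Presheaf.IsCompatible E.presheaf Uι sf := by
    intro c c'
    apply TopCat.Presheaf.section_ext ⟨E.presheaf, E.isSheaf⟩ (Uι c ⊓ Uι c')
    intro p hp
    have e1 : E.presheaf.germ (Uι c ⊓ Uι c') p hp
        (E.presheaf.map (Opens.infLELeft (Uι c) (Uι c')).op (sf c)) =
        E.presheaf.germ (Uι c) p hp.1 (sf c) :=
      TopCat.Presheaf.germ_res_apply E.presheaf (Opens.infLELeft (Uι c) (Uι c')) p hp (sf c)
    have e2 : E.presheaf.germ (Uι c ⊓ Uι c') p hp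
        (E.presheaf.map (Opens.infLERight (Uι c) (Uι c')).op (sf c')) =
        E.presheaf.germ (Uι c') p hp.2 (sf c') :=
      TopCat.Presheaf.germ_res_apply E.presheaf (Opens.infLERight (Uι c) (Uι c')) p hp (sf c')
    rw [e1, e2]
    exact hgerm c c' p hp.1 hp.2
  have hcover : V ⊓ U ≤ iSup Uι := by
    intro p hp
    obtain ⟨c, hcJ, hpc⟩ := exists_mem_vanIdeal hV U p hp
    exact Opens.mem_iSup.mpr ⟨⟨c, hcJ⟩, hpc⟩
  obtain ⟨σ, hσ, -⟩ := TopCat.Sheaf.existsUnique_gluing' (⟨E.presheaf, E.isSheaf⟩ :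
    TopCat.Sheaf AddCommGrpCat X) Uι (V ⊓ U) (fun c => homOfLE (hle c)) hcover sf hcompat
  obtain ⟨m₀, hm₀⟩ := hbij.2 σ
  refine ⟨m₀, fun a => ?_⟩
  apply hbij.1
  apply TopCat.Presheaf.section_ext ⟨E.presheaf, E.isSheaf⟩ (V ⊓ U)
  intro p hp
  obtain ⟨c, hcJ, hpc⟩ := exists_mem_vanIdeal hV U p hp
  let c' : ι := ⟨c, hcJ⟩
  have hpc' : p ∈ Uι c' := hpc
  have hσc : res E (hle c') σ = sf c' := hσ c'
  have hgσ : E.presheaf.germ (V ⊓ U) p hp σ = E.presheaf.germ (Uι c') p hpc' (sf c') := by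
    rw [← hσc, germ_res]
  rw [germ_res, germ_res, germ_smul, ← germ_res E (inf_le_left : V ⊓ U ≤ V) p hp m₀, hm₀, hgσ]
  apply (hunit c' p hpc').smul_left_cancel.mp
  rw [smul_comm, hsf c' p hpc', ← germ_smul, ← germ_smul, ← map_smul, ← map_smul]
  congr 2
  apply Subtype.ext
  exact mul_comm _ _

end Affine

/-- The depth of the stalk of a quasi-coherent module at a point of an affine open is the depth
of the localization of the module of sections. -/
theorem depth_stalk_eq_depth_localizedModule (E : X.Modules) [E.IsQuasicoherent] {V : X.Opens}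
    (hV : IsAffineOpen V) (x : V) :
    LocCoh.depth (X.presheaf.stalk (x : X)) (E.presheaf.stalk (x : X)) =
      LocCoh.depth (Localization.AtPrime (hV.primeIdealOf x).asIdeal)
        (LocalizedModule (hV.primeIdealOf x).asIdeal.primeCompl Γ(E, V)) := by
  letI := moduleSectionStalk E x
  haveI := isScalarTower_sectionStalk E x
  haveI : IsLocalizedModule (hV.primeIdealOf x).asIdeal.primeCompl (germLinear E x) :=
    isLocalizedModule_germ E hV x
  haveI := hV.isLocalization_stalk x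
  exact H8LocTrans.depth_eq_of_isLocalizedModule (hV.primeIdealOf x).asIdeal
    (X.presheaf.stalk (x : X)) (germLinear E x)

/-- **Converse Hartogs.** -/
theorem two_le_depth_of_res_bijective [IsLocallyNoetherian X] (E : X.Modules) (hE : Coh.IsCoh E)
    (U : X.Opens)
    (hbij : ∀ V : X.Opens, Function.Bijective (res E (inf_le_left : V ⊓ U ≤ V)))
    (x : X) (hx : x ∉ U) :
    (2 : ℕ∞) ≤ LocCoh.depth (X.presheaf.stalk x) (E.presheaf.stalk x) := by
  haveI : E.IsQuasicoherent := hE.1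
  obtain ⟨_, ⟨V, hV, rfl⟩, hxV, -⟩ :=
    X.isBasis_affineOpens.exists_subset_of_mem_open (Set.mem_univ x) isOpen_univ
  haveI : IsNoetherianRing Γ(X, V) := IsLocallyNoetherian.component_noetherian ⟨V, hV⟩
  haveI := CohFinite.finite_sections_of_isCoh E hE hV
  have h2 : 2 ≤ LocCoh.idealDepth (vanIdeal hV U) Γ(E, V) :=
    (two_le_idealDepth_iff _ _).mpr
      ⟨tf_of_res_injective E hV U (hbij V).1, e1_of_res_bijective E hV U (hbij V)⟩
  rw [H8CM.idealDepth_eq_iInf_depth_localizedModule] at h2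
  have hq : vanIdeal hV U ≤ (hV.primeIdealOf ⟨x, hxV⟩).asIdeal := by
    intro c hc
    by_contra hcq
    have hu : IsUnit (X.presheaf.germ V x hxV c) := (isUnit_germ_iff hV ⟨x, hxV⟩ c).mpr hcq
    exact hx ((mem_vanIdeal_iff hV U c).mp hc ((X.mem_basicOpen c x hxV).mpr hu))
  have h3 := (le_iInf₂_iff.1 h2) (hV.primeIdealOf ⟨x, hxV⟩) hq
  rw [depth_stalk_eq_depth_localizedModule E hV ⟨x, hxV⟩]
  exact h3

end Groth.Agent.Lib.HartogsConverse
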