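import Groth.Agent.Lib.LocCohConcrete

/-!
# Long exact sequence of local cohomology `LocCoh.H I i M` in the module variable (helper53)

For linear maps `f : M₁ → M₂`, `g : M₂ → M₃` with `f` injective, `g` surjective, `Function.Exact f g`:
* `Hmap I φ i : H^i_I(M) →ₗ H^i_I(M')` (the functorial map);
* `Hδ I f g hf hfg hg i : H^i_I(M₃) →ₗ H^{i+1}_I(M₁)`;
* `exact₂`, `exact₃`, `exact₁`: exactness (as `Function.Exact`), `Hmap_zero_injective`.
-/

set_option maxHeartbeats 400000
universe u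
open CategoryTheory CategoryTheory.Limits Opposite

namespace Groth.Agent.Lib.LocCohLES
open Groth.Agent.Lib.ExtBridge Groth.Agent.Lib.LocCohConcrete
open Abelian

variable {R : Type u} [CommRing R] (I : Ideal R)

section desc
variable (M : Type u) [AddCommGroup M] [Module R M] (i : ℕ)
variable (N : Type u) [AddCommGroup N] [Module R N]
  (φ : ∀ n, Ext.{u} (Q I n) (ModuleCat.of R M) i →ₗ[R] N)
  (hφ : ∀ (n k : ℕ) (h : n ≤ k) (x : Ext.{u} (Q I n) (ModuleCat.of R M) i),
    φ k ((Ext.mk₀ (proj I h)).comp x (zero_add i)) = φ n x)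

/-- The cocone defined by a compatible family of maps out of `Ext^i(R/I^n, M)`. -/
noncomputable def descCocone :
    Cocone (dgm I i ⋙ (evaluation _ _).obj (ModuleCat.of R M)) where
  pt := ModuleCat.of R N
  ι :=
    { app := fun j => ModuleCat.ofHom (φ j.unop.unop ∘ₗ
        (bridge (Q I j.unop.unop) (ModuleCat.of R M) i).toLinearMap)
      naturality := by
        intro j j' a
        ext x
        have := hφ j.unop.unop j'.unop.unop a.unop.unop.le
          (bridge (Q I j.unop.unop) (ModuleCat.of R M) i x)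
        rw [← bridge_naturality_left] at this
        exact this }

/-- The map out of `H^i_I(M)` defined by a compatible family of maps out of `Ext^i(R/I^n, M)`. -/
noncomputable def Hdesc : LocCoh.H I i M →ₗ[R] N :=
  ((colimitObjIsoColimitCompEvaluation (dgm I i) (ModuleCat.of R M)).hom ≫
    colimit.desc _ (descCocone I M i N φ hφ)).hom

theorem Hdesc_HιE (n : ℕ) (x : Ext.{u} (Q I n) (ModuleCat.of R M) i) :
    Hdesc I M i N φ hφ (HιE I M i n x) = φ n x := by
  have h1 := colimitObjIsoColimitCompEvaluation_ι_app_hom (dgm I i) (op (op n))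
    (ModuleCat.of R M)
  have h2 := colimit.ι_desc (descCocone I M i N φ hφ) (op (op n))
  have h3 : (colimit.ι (dgm I i) (op (op n))).app (ModuleCat.of R M) ≫
      ((colimitObjIsoColimitCompEvaluation (dgm I i) (ModuleCat.of R M)).hom ≫
        colimit.desc _ (descCocone I M i N φ hφ)) = (descCocone I M i N φ hφ).ι.app (op (op n)) := by
    rw [← Category.assoc, h1, h2]
  have h4 := LinearMap.congr_fun (congrArg ModuleCat.Hom.hom h3)
    ((bridge (Q I n) (ModuleCat.of R M) i).symm x)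
  have h5 : ((descCocone I M i N φ hφ).ι.app (op (op n))).hom
      ((bridge (Q I n) (ModuleCat.of R M) i).symm x) = φ n x := by
    change φ n ((bridge (Q I n) (ModuleCat.of R M) i) ((bridge (Q I n) (ModuleCat.of R M) i).symm x)) = _
    rw [LinearEquiv.apply_symm_apply]
  rw [← h5, ← h4]
  rfl

end desc

section Hmap
variable {M M' M'' : Type u} [AddCommGroup M] [Module R M] [AddCommGroup M'] [Module R M']
  [AddCommGroup M''] [Module R M'']

/-- The functorial map on local cohomology. -/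
noncomputable abbrev Hmap (φ : M →ₗ[R] M') (i : ℕ) : LocCoh.H I i M →ₗ[R] LocCoh.H I i M' :=
  ((localCohomology I i).map (ModuleCat.ofHom φ)).hom

theorem Hmap_HιE (φ : M →ₗ[R] M') (i n : ℕ) (x : Ext.{u} (Q I n) (ModuleCat.of R M) i) :
    Hmap I φ i (HιE I M i n x) =
      HιE I M' i n (x.comp (Ext.mk₀ (ModuleCat.ofHom φ)) (add_zero i)) :=
  map_HιE I i φ n x

theorem Hmap_comp (φ : M →ₗ[R] M') (ψ : M' →ₗ[R] M'') (i : ℕ) (y : LocCoh.H I i M) :
    Hmap I (ψ ∘ₗ φ) i y = Hmap I ψ i (Hmap I φ i y) := by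
  have : (ModuleCat.ofHom (ψ ∘ₗ φ) : ModuleCat.of R M ⟶ ModuleCat.of R M'') =
      ModuleCat.ofHom φ ≫ ModuleCat.ofHom ψ := rfl
  simp only [Hmap]
  rw [this, CategoryTheory.Functor.map_comp]
  rfl

theorem Hmap_id (i : ℕ) (y : LocCoh.H I i M) : Hmap I (LinearMap.id : M →ₗ[R] M) i y = y := by
  have : (ModuleCat.ofHom (LinearMap.id : M →ₗ[R] M) : ModuleCat.of R M ⟶ ModuleCat.of R M) =
      𝟙 _ := rfl
  simp only [Hmap]
  rw [this, CategoryTheory.Functor.map_id]
  rfl

theorem Hmap_zero (i : ℕ) (y : LocCoh.H I i M) : Hmap I (0 : M →ₗ[R] M') i y = 0 := by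
  obtain ⟨n, x, rfl⟩ := exists_rep I M i y
  rw [Hmap_HιE]
  have : (ModuleCat.ofHom (0 : M →ₗ[R] M') : ModuleCat.of R M ⟶ ModuleCat.of R M') = 0 := rfl
  rw [this, Ext.mk₀_zero, Ext.comp_zero, map_zero]

/-- A linear equivalence induces a bijection on local cohomology. -/
theorem Hmap_bijective_of_equiv (e : M ≃ₗ[R] M') (i : ℕ) :
    Function.Bijective (Hmap I e.toLinearMap i) := by
  refine Function.bijective_iff_has_inverse.2 ⟨Hmap I e.symm.toLinearMap i, ?_, ?_⟩
  · intro y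
    rw [← Hmap_comp]
    have : e.symm.toLinearMap ∘ₗ e.toLinearMap = LinearMap.id := by ext; simp
    rw [this, Hmap_id]
  · intro y
    rw [← Hmap_comp]
    have : e.toLinearMap ∘ₗ e.symm.toLinearMap = LinearMap.id := by ext; simp
    rw [this, Hmap_id]

end Hmap

section LES
variable {M₁ M₂ M₃ : Type u} [AddCommGroup M₁] [Module R M₁] [AddCommGroup M₂] [Module R M₂]
  [AddCommGroup M₃] [Module R M₃]
  (f : M₁ →ₗ[R] M₂) (g : M₂ →ₗ[R] M₃)

/-- the short complex `M₁ → M₂ → M₃`. -/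
abbrev ses (hfg : Function.Exact f g) : ShortComplex (ModuleCat.{u} R) :=
  ShortComplex.mk (ModuleCat.ofHom f) (ModuleCat.ofHom g) (by
    ext x
    exact hfg.apply_apply_eq_zero x)

variable (hf : Function.Injective f) (hfg : Function.Exact f g) (hg : Function.Surjective g)

include hf hg in
theorem ses_shortExact : (ses f g hfg).ShortExact := by
  apply ModuleCat.shortComplex_shortExact
  · exact hfg
  · exact hf
  · exact hg

/-- connecting map at level `n`. -/
noncomputable def δn (i n : ℕ) :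
    Ext.{u} (Q I n) (ModuleCat.of R M₃) i →ₗ[R] Ext.{u} (Q I n) (ModuleCat.of R M₁) (i + 1) where
  toFun x := x.comp (ses_shortExact f g hf hfg hg).extClass rfl
  map_add' _ _ := Ext.add_comp _ _ _ _
  map_smul' _ _ := Ext.smul_comp _ _ _ _

theorem δn_apply (i n : ℕ) (x : Ext.{u} (Q I n) (ModuleCat.of R M₃) i) :
    δn I f g hf hfg hg i n x = x.comp (ses_shortExact f g hf hfg hg).extClass rfl := rfl

theorem δn_compat (i : ℕ) {n k : ℕ} (h : n ≤ k) (x : Ext.{u} (Q I n) (ModuleCat.of R M₃) i) :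
    δn I f g hf hfg hg i k ((Ext.mk₀ (proj I h)).comp x (zero_add i)) =
      (Ext.mk₀ (proj I h)).comp (δn I f g hf hfg hg i n x) (zero_add (i + 1)) := by
  rw [δn_apply, δn_apply, Ext.comp_assoc _ _ _ (zero_add i) rfl (by omega)]

/-- The connecting homomorphism `H^i_I(M₃) → H^{i+1}_I(M₁)`. -/
noncomputable def Hδ (i : ℕ) : LocCoh.H I i M₃ →ₗ[R] LocCoh.H I (i + 1) M₁ :=
  Hdesc I M₃ i (LocCoh.H I (i + 1) M₁)
    (fun n => HιE I M₁ (i + 1) n ∘ₗ δn I f g hf hfg hg i n)
    (by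
      intro n k h x
      simp only [LinearMap.comp_apply]
      rw [δn_compat, HιE_transition])

theorem Hδ_HιE (i n : ℕ) (x : Ext.{u} (Q I n) (ModuleCat.of R M₃) i) :
    Hδ I f g hf hfg hg i (HιE I M₃ i n x) =
      HιE I M₁ (i + 1) n (x.comp (ses_shortExact f g hf hfg hg).extClass rfl) := by
  rw [Hδ, Hdesc_HιE]
  rfl

include hfg in
/-- exactness at `H^i_I(M₂)`. -/
theorem exact₂ (hf : Function.Injective f) (hg : Function.Surjective g) (i : ℕ) :
    Function.Exact (Hmap I f i) (Hmap I g i) := by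
  intro y
  constructor
  · intro hy
    obtain ⟨n, x, rfl⟩ := exists_rep I M₂ i y
    rw [Hmap_HιE, HιE_eq_zero_iff] at hy
    obtain ⟨k, h, hk⟩ := hy
    rw [← Ext.comp_assoc _ _ _ (zero_add i) (add_zero i) (by omega)] at hk
    obtain ⟨x₁, hx₁⟩ := Ext.covariant_sequence_exact₂ _ (ses_shortExact f g hf hfg hg) _ hk
    refine ⟨HιE I M₁ i k x₁, ?_⟩
    rw [Hmap_HιE]
    have : x₁.comp (Ext.mk₀ (ModuleCat.ofHom f)) (add_zero i) =
        (Ext.mk₀ (proj I h)).comp x (zero_add i) := hx₁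
    rw [this, HιE_transition]
  · rintro ⟨z, rfl⟩
    rw [← Hmap_comp]
    have : g ∘ₗ f = 0 := by
      ext x
      exact hfg.apply_apply_eq_zero x
    rw [this, Hmap_zero]

/-- exactness at `H^i_I(M₃)`. -/
theorem exact₃ (i : ℕ) : Function.Exact (Hmap I g i) (Hδ I f g hf hfg hg i) := by
  intro y
  constructor
  · intro hy
    obtain ⟨n, x, rfl⟩ := exists_rep I M₃ i y
    rw [Hδ_HιE, HιE_eq_zero_iff] at hy
    obtain ⟨k, h, hk⟩ := hy
    rw [← Ext.comp_assoc _ _ _ (zero_add i) rfl (by omega)] at hk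
    obtain ⟨x₂, hx₂⟩ := Ext.covariant_sequence_exact₃ _ (ses_shortExact f g hf hfg hg) _ rfl hk
    refine ⟨HιE I M₂ i k x₂, ?_⟩
    rw [Hmap_HιE]
    have : x₂.comp (Ext.mk₀ (ModuleCat.ofHom g)) (add_zero i) =
        (Ext.mk₀ (proj I h)).comp x (zero_add i) := hx₂
    rw [this, HιE_transition]
  · rintro ⟨z, rfl⟩
    obtain ⟨n, x, rfl⟩ := exists_rep I M₂ i z
    rw [Hmap_HιE, Hδ_HιE, Ext.comp_assoc _ _ _ (add_zero i) (zero_add 1) (by omega)]
    have : (Ext.mk₀ (ModuleCat.ofHom g)).comp (ses_shortExact f g hf hfg hg).extClass (zero_add 1) = 0 :=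
      (ses_shortExact f g hf hfg hg).comp_extClass
    rw [this, Ext.comp_zero, map_zero]

/-- exactness at `H^{i+1}_I(M₁)`. -/
theorem exact₁ (i : ℕ) : Function.Exact (Hδ I f g hf hfg hg i) (Hmap I f (i + 1)) := by
  intro y
  constructor
  · intro hy
    obtain ⟨n, x, rfl⟩ := exists_rep I M₁ (i + 1) y
    rw [Hmap_HιE, HιE_eq_zero_iff] at hy
    obtain ⟨k, h, hk⟩ := hy
    rw [← Ext.comp_assoc _ _ _ (zero_add (i + 1)) (add_zero (i + 1)) (by omega)] at hk
    obtain ⟨x₃, hx₃⟩ := Ext.covariant_sequence_exact₁ _ (ses_shortExact f g hf hfg hg) _ hk rfl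
    refine ⟨HιE I M₃ i k x₃, ?_⟩
    rw [Hδ_HιE, hx₃, HιE_transition]
  · rintro ⟨z, rfl⟩
    obtain ⟨n, x, rfl⟩ := exists_rep I M₃ i z
    rw [Hδ_HιE, Hmap_HιE, Ext.comp_assoc _ _ _ rfl (add_zero 1) (by omega)]
    have : (ses_shortExact f g hf hfg hg).extClass.comp (Ext.mk₀ (ModuleCat.ofHom f)) (add_zero 1) = 0 :=
      (ses_shortExact f g hf hfg hg).extClass_comp
    rw [this, Ext.comp_zero, map_zero]

include hf in
/-- left exactness: `H^0_I(f)` is injective for injective `f`. -/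
theorem Hmap_zero_injective : Function.Injective (Hmap I f 0) := by
  rw [injective_iff_map_eq_zero]
  intro y hy
  obtain ⟨n, x, rfl⟩ := exists_rep I M₁ 0 y
  rw [Hmap_HιE, HιE_eq_zero_iff] at hy
  obtain ⟨k, h, hk⟩ := hy
  rw [← Ext.comp_assoc _ _ _ (zero_add 0) (add_zero 0) (by omega)] at hk
  have : Mono (ModuleCat.ofHom f) := (ModuleCat.mono_iff_injective _).2 hf
  have h0 := Ext.postcomp_mk₀_injective_of_mono (Q I k) (ModuleCat.ofHom f)
  have h1 : (Ext.mk₀ (proj I h)).comp x (zero_add 0) = 0 := by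
    apply h0
    rw [map_zero]
    exact hk
  rw [← HιE_transition I M₁ 0 h, h1, map_zero]

end LES

end Groth.Agent.Lib.LocCohLES
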