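import Groth.Agent.Lib.KoszulElem
import Mathlib.RingTheory.Regular.RegularSequence

/-!
# Elementwise tools for Koszul complexes, II (helper19)

* `exists_cycle_of_d_eq_zero`, `nonempty_homology_linearEquiv`: recognise the homology of a complex of
  modules from a linear map out of the cocycles;
* the top degree of `CohIII.koszulCx` is `M` (`top`), boundaries in the top degree are `(fs) M`,
  transition maps on the top degree multiply by `∏ f^(m-n)`;
* top Koszul cohomology `≃ M/(fs)M`.
-/

universe u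

open CategoryTheory CategoryTheory.Limits CochainComplex HomologicalComplex

namespace Groth.Agent.Lib.KoszulElem

open Groth.Agent.Lib.KoszulCone

variable {A : Type u} [CommRing A]

section homology

variable (K : CochainComplex (ModuleCat.{u} A) ℤ)

/-- an element killed by the differential is the underlying element of a cycle -/
theorem exists_cycle_of_d_eq_zero (j k : ℤ) (hjk : j + 1 = k) (z : K.X j) (hz : K.d j k z = 0) :
    ∃ c : K.cycles j, K.iCycles j c = z := by
  let κ : ModuleCat.of A A ⟶ K.X j := ModuleCat.ofHom (LinearMap.toSpanSingleton A (K.X j) z)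
  have hκ : κ ≫ K.d j k = 0 := by
    apply ModuleCat.hom_ext
    apply LinearMap.ext_ring
    change K.d j k ((LinearMap.toSpanSingleton A (K.X j) z) 1) = 0
    rw [LinearMap.toSpanSingleton_apply, one_smul, hz]
  refine ⟨K.liftCycles κ k (by simpa using hjk) hκ (1 : A), ?_⟩
  have h2 := ConcreteCategory.congr_hom (K.liftCycles_i κ k (by simpa using hjk) hκ) (1 : A)
  rw [ConcreteCategory.comp_apply] at h2
  refine h2.trans ?_
  change (LinearMap.toSpanSingleton A (K.X j) z) 1 = z
  rw [LinearMap.toSpanSingleton_apply, one_smul]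

/-- recognising the homology of a complex of modules -/
theorem nonempty_homology_linearEquiv (i j k : ℤ) (hij : i + 1 = j) (hjk : j + 1 = k)
    (N : Type u) [AddCommGroup N] [Module A N] (e : K.X j →ₗ[A] N)
    (h0 : ∀ w : K.X i, e (K.d i j w) = 0)
    (hker : ∀ z : K.X j, K.d j k z = 0 → e z = 0 → ∃ w : K.X i, z = K.d i j w)
    (hsurj : ∀ y : N, ∃ z : K.X j, K.d j k z = 0 ∧ e z = y) :
    Nonempty (K.homology j ≃ₗ[A] N) := by
  have hk : K.d i j ≫ ModuleCat.ofHom e = 0 := by
    apply ModuleCat.hom_ext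
    apply LinearMap.ext
    intro w
    exact h0 w
  let Φ : K.homology j ⟶ ModuleCat.of A N :=
    K.homologyι j ≫ K.descOpcycles (ModuleCat.ofHom e) i (by simp; omega) hk
  have hΦ : ∀ c : K.cycles j, Φ (K.homologyπ j c) = e (K.iCycles j c) := by
    intro c
    have h1 : K.homologyπ j ≫ Φ = K.iCycles j ≫ ModuleCat.ofHom e := by
      simp only [Φ]
      rw [← Category.assoc, K.homology_π_ι, Category.assoc, K.p_descOpcycles]
    have h2 := ConcreteCategory.congr_hom h1 c
    rw [ConcreteCategory.comp_apply, ConcreteCategory.comp_apply] at h2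
    exact h2
  refine ⟨LinearEquiv.ofBijective Φ.hom ⟨?_, ?_⟩⟩
  · rw [← LinearMap.ker_eq_bot, LinearMap.ker_eq_bot']
    intro x hx
    obtain ⟨c, rfl⟩ := exists_cycle K j x
    have hx' : e (K.iCycles j c) = 0 := (hΦ c).symm.trans hx
    obtain ⟨w, hw⟩ := hker _ (d_iCycles K j k c) hx'
    exact homologyπ_eq_zero_of_boundary K i j hij c w hw
  · intro y
    obtain ⟨z, hz, rfl⟩ := hsurj y
    obtain ⟨c, rfl⟩ := exists_cycle_of_d_eq_zero K j k hjk z hz
    exact ⟨K.homologyπ j c, hΦ c⟩

end homology

section top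

open CohIII

variable (M : ModuleCat.{u} A)

/-- the second coordinate of a cone, as a linear map -/
noncomputable def sndL {F G : CochainComplex (ModuleCat.{u} A) ℤ} (φ : F ⟶ G) (n : ℤ) :
    (mappingCone φ).X n →ₗ[A] G.X n :=
  ((mappingCone.snd φ).v n n (add_zero n)).hom

/-- the top degree (degree `0`) of the Koszul complex is `M` -/
noncomputable def top : ∀ (fs : List A) (j : ℤ), j = 0 → ((koszulCx M fs).X j →ₗ[A] M)
  | [], j, h =>
    (HomologicalComplex.singleObjXIsoOfEq (ComplexShape.up ℤ) 0 M j h).hom.hom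
  | f :: fs, j, h => (top fs j h) ∘ₗ (sndL (f • 𝟙 (koszulCx M fs)) j)

theorem top_cons (f : A) (fs : List A) (j : ℤ) (h : j = 0) (z : (koszulCx M (f :: fs)).X j) :
    top M (f :: fs) j h z = top M fs j h (sndE (f • 𝟙 (koszulCx M fs)) j z) := rfl

theorem top_bijective : ∀ (fs : List A) (j : ℤ) (h : j = 0), Function.Bijective (top M fs j h)
  | [], j, h => by
    have := (ConcreteCategory.bijective_of_isIso
      (HomologicalComplex.singleObjXIsoOfEq (ComplexShape.up ℤ) 0 M j h).hom)
    exact this
  | f :: fs, j, h => by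
    have ih := top_bijective fs j h
    have hs : Subsingleton ((koszulCx M fs).X (j + 1)) :=
      subsingleton_X M fs (j + 1) (Or.inr (by omega))
    constructor
    · intro z z' hz
      rw [top_cons, top_cons] at hz
      exact ext_cone _ j z z' (Subsingleton.elim _ _) (ih.1 hz)
    · intro y
      obtain ⟨b, hb⟩ := ih.2 y
      refine ⟨mkE (f • 𝟙 (koszulCx M fs)) j 0 b, ?_⟩
      rw [top_cons, sndE_mkE, hb]

/-- the image of the last differential in `M` is `(fs) M` -/
theorem exists_top_d_eq_iff : ∀ (fs : List A) (i j : ℤ) (_ : i + 1 = j) (h : j = 0) (y : M),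
    (∃ w : (koszulCx M fs).X i, top M fs j h ((koszulCx M fs).d i j w) = y) ↔
      y ∈ Ideal.ofList fs • (⊤ : Submodule A M)
  | [], i, j, hij, h, y => by
    have hs : Subsingleton ((koszulCx M []).X i) :=
      subsingleton_X M [] i (Or.inl (by simp; omega))
    rw [Ideal.ofList_nil, Submodule.bot_smul, Submodule.mem_bot]
    constructor
    · rintro ⟨w, rfl⟩
      rw [Subsingleton.elim w 0, map_zero, map_zero]
    · rintro rfl
      exact ⟨0, by rw [map_zero, map_zero]⟩
  | f :: fs, i, j, hij, h, y => by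
    subst hij
    have ih := exists_top_d_eq_iff fs i (i + 1) rfl h
    have hs : Subsingleton ((koszulCx M fs).X (i + 1 + 1)) :=
      subsingleton_X M fs (i + 1 + 1) (Or.inr (by omega))
    have hcomp : ∀ w : (mappingCone (f • 𝟙 (koszulCx M fs))).X i,
        top M (f :: fs) (i + 1) h ((mappingCone (f • 𝟙 (koszulCx M fs))).d i (i + 1) w) =
          f • top M fs (i + 1) h (fstE (f • 𝟙 (koszulCx M fs)) i w) +
            top M fs (i + 1) h ((koszulCx M fs).d i (i + 1) (sndE (f • 𝟙 (koszulCx M fs)) i w)) := by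
      intro w
      rw [top_cons, sndE_d, smul_id_f_apply, map_add, map_smul]
    rw [Ideal.ofList_cons, Submodule.sup_smul, Submodule.ideal_span_singleton_smul,
      Submodule.mem_sup]
    constructor
    · rintro ⟨w, rfl⟩
      refine ⟨_, ?_, _, ?_, (hcomp w).symm⟩
      · exact Submodule.smul_mem_pointwise_smul _ f ⊤ Submodule.mem_top
      · exact (ih _).mp ⟨_, rfl⟩
    · rintro ⟨y1, hy1, y2, hy2, rfl⟩
      obtain ⟨m1, -, rfl⟩ := (Submodule.mem_smul_pointwise_iff_exists _ _ _).mp hy1
      obtain ⟨b, hb⟩ := (ih y2).mpr hy2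
      obtain ⟨a, ha⟩ := (top_bijective M fs (i + 1) h).2 m1
      refine ⟨mkE (f • 𝟙 (koszulCx M fs)) i a b, ?_⟩
      refine (hcomp (mkE (f • 𝟙 (koszulCx M fs)) i a b)).trans ?_
      rw [fstE_mkE, sndE_mkE, ha, hb]

/-- **Top Koszul cohomology** is `M/(fs)M`. -/
theorem nonempty_homology_top_linearEquiv (fs : List A) (j : ℤ) (hj : j = 0) :
    Nonempty ((koszulCx M fs).homology j ≃ₗ[A] (M ⧸ (Ideal.ofList fs • (⊤ : Submodule A M)))) := by
  refine nonempty_homology_linearEquiv (koszulCx M fs) (j - 1) j (j + 1) (by ring) rfl _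
    ((Submodule.mkQ _) ∘ₗ (top M fs j hj)) ?_ ?_ ?_
  · intro w
    rw [LinearMap.comp_apply, Submodule.mkQ_apply, Submodule.Quotient.mk_eq_zero]
    exact (exists_top_d_eq_iff M fs (j - 1) j (by ring) hj _).mp ⟨w, rfl⟩
  · intro z _ hz
    rw [LinearMap.comp_apply, Submodule.mkQ_apply, Submodule.Quotient.mk_eq_zero] at hz
    obtain ⟨w, hw⟩ := (exists_top_d_eq_iff M fs (j - 1) j (by ring) hj _).mpr hz
    exact ⟨w, ((top_bijective M fs j hj).1 hw).symm⟩
  · intro y
    obtain ⟨m, rfl⟩ := Submodule.mkQ_surjective _ y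
    obtain ⟨z, rfl⟩ := (top_bijective M fs j hj).2 m
    have hs : Subsingleton ((koszulCx M fs).X (j + 1)) :=
      subsingleton_X M fs (j + 1) (Or.inr (by omega))
    exact ⟨z, Subsingleton.elim _ _, rfl⟩

end top

end Groth.Agent.Lib.KoszulElem
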