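import Groth.Agent.Lib.KoszulElem
import Groth.Agent.Lib.KoszulElem2
import Groth.Prelude.Def_DRing3
import Mathlib

/-!
# The direct-limit Koszul cohomology `CohIII.koszulHLim` as a functor with a long exact sequence (helper9)

* `kmapP φ fs : koszulCx M fs ⟶ koszulCx N fs` functoriality in the module, compatible with
  `koszulTrans` (`kmapP_trans`) and with the bottom coordinate (`bot_kmapP`), degreewise exact.
* `directLimit_map_exact`: `Module.DirectLimit` is exact.
* `koszulTrans_self`, `koszulTrans_comp`, `directedSystem`.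
* `Kmap fs φ p`, `Kδ fs S hS p`, `exact₃`, `exact₁`: the long exact sequence of `koszulHLim`.
* `θ fs M : koszulHLim fs M 0 →ₗ M`, `θEquiv : koszulHLim fs M 0 ≃ₗ Γ_I(M)`, natural (`θ_Kmap`).
-/

set_option autoImplicit false
universe u

open CategoryTheory CategoryTheory.Limits CochainComplex HomologicalComplex

namespace Groth.Agent.Lib.KoszulLim9

open Groth.Agent.Lib.KoszulCone Groth.Agent.Lib.KoszulElem CohIII

section part1

variable {A : Type u} [CommRing A]

/-- functoriality of the prelude Koszul complex in the module. -/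
noncomputable def kmapP {M N : ModuleCat.{u} A} (φ : M ⟶ N) :
    ∀ fs : List A, koszulCx M fs ⟶ koszulCx N fs
  | [] => (HomologicalComplex.single (ModuleCat.{u} A) (ComplexShape.up ℤ) 0).map φ
  | f :: fs => mappingCone.map (f • 𝟙 (koszulCx M fs)) (f • 𝟙 (koszulCx N fs)) (kmapP φ fs)
      (kmapP φ fs) (by simp [Linear.smul_comp, Linear.comp_smul])

theorem kmapP_cons_apply {M N : ModuleCat.{u} A} (φ : M ⟶ N) (f : A) (fs : List A) (j : ℤ)
    (z : (koszulCx M (f :: fs)).X j) :
    (kmapP φ (f :: fs)).f j z =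
      mkE (f • 𝟙 (koszulCx N fs)) j ((kmapP φ fs).f (j + 1) (fstE (f • 𝟙 (koszulCx M fs)) j z))
        ((kmapP φ fs).f j (sndE (f • 𝟙 (koszulCx M fs)) j z)) :=
  map_apply (f • 𝟙 (koszulCx M fs)) (f • 𝟙 (koszulCx N fs)) (kmapP φ fs) (kmapP φ fs)
    (by simp [Linear.smul_comp, Linear.comp_smul]) j z

theorem kmapP_degExact (S : ShortComplex (ModuleCat.{u} A)) (hS : S.ShortExact) :
    ∀ fs : List A, DegExact (kmapP S.f fs) (kmapP S.g fs)
  | [] => degExact_of_shortExact
      (S.map (HomologicalComplex.single (ModuleCat.{u} A) (ComplexShape.up ℤ) 0))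
      (hS.map_of_exact _)
  | _ :: fs => DegExact.cone _ _ _ _ _ _ _ _ _ (kmapP_degExact S hS fs) (kmapP_degExact S hS fs)

theorem kmapP_trans_apply {M N : ModuleCat.{u} A} (φ : M ⟶ N) (n m : ℕ) (h : n ≤ m) :
    ∀ (fs : List A) (j : ℤ) (z : (koszulCx M (fs.map (· ^ n))).X j),
      (koszulTrans N n m h fs).f j ((kmapP φ (fs.map (· ^ n))).f j z) =
        (kmapP φ (fs.map (· ^ m))).f j ((koszulTrans M n m h fs).f j z)
  | [], j, z => by
    rw [koszulTrans_nil, koszulTrans_nil]
    simp only [HomologicalComplex.id_f, ModuleCat.id_apply]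
    rfl
  | f :: fs, j, z => by
    rw [koszulTrans_cons_apply N n m h, koszulTrans_cons_apply M n m h]
    have h1 := kmapP_cons_apply φ (f ^ n) (fs.map (· ^ n)) j z
    have h2 := kmapP_cons_apply φ (f ^ m) (fs.map (· ^ m)) j
      (mkE (f ^ m • 𝟙 (koszulCx M (fs.map (· ^ m)))) j
        ((koszulTrans M n m h fs).f (j + 1)
          (fstE (f ^ n • 𝟙 (koszulCx M (fs.map (· ^ n)))) j z))
        (f ^ (m - n) • (koszulTrans M n m h fs).f j
          (sndE (f ^ n • 𝟙 (koszulCx M (fs.map (· ^ n)))) j z)))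
    rw [show (kmapP φ ((f :: fs).map (· ^ n))).f j z = _ from h1,
      show (kmapP φ ((f :: fs).map (· ^ m))).f j _ = _ from h2]
    rw [fstE_mkE, sndE_mkE, fstE_mkE, sndE_mkE, kmapP_trans_apply φ n m h fs,
      kmapP_trans_apply φ n m h fs, map_smul]

theorem kmapP_trans {M N : ModuleCat.{u} A} (φ : M ⟶ N) (n m : ℕ) (h : n ≤ m) (fs : List A) :
    kmapP φ (fs.map (· ^ n)) ≫ koszulTrans N n m h fs =
      koszulTrans M n m h fs ≫ kmapP φ (fs.map (· ^ m)) := by
  ext j : 1
  apply ModuleCat.hom_ext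
  ext z
  exact kmapP_trans_apply φ n m h fs j z

theorem single_aux {M N : ModuleCat.{u} A} (φ : M ⟶ N) (h : (0 : ℤ) = 0)
    (x : ((HomologicalComplex.single (ModuleCat.{u} A) (ComplexShape.up ℤ) 0).obj M).X 0) :
    (singleObjXIsoOfEq (ComplexShape.up ℤ) 0 N 0 h).hom
      (((HomologicalComplex.single (ModuleCat.{u} A) (ComplexShape.up ℤ) 0).map φ).f 0 x) =
    φ ((singleObjXIsoOfEq (ComplexShape.up ℤ) 0 M 0 h).hom x) := by
  have e : ((HomologicalComplex.single (ModuleCat.{u} A) (ComplexShape.up ℤ) 0).map φ).f 0 ≫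
      (singleObjXIsoOfEq (ComplexShape.up ℤ) 0 N 0 h).hom =
      (singleObjXIsoOfEq (ComplexShape.up ℤ) 0 M 0 h).hom ≫ φ := by
    rw [HomologicalComplex.single_map_f_self]
    simp [singleObjXSelf]
  have := ConcreteCategory.congr_hom e x
  rw [ConcreteCategory.comp_apply, ConcreteCategory.comp_apply] at this
  exact this

theorem bot_kmapP {M N : ModuleCat.{u} A} (φ : M ⟶ N) :
    ∀ (fs : List A) (j : ℤ) (h : j = -(fs.length : ℤ)) (x : (koszulCx M fs).X j),
      bot N fs j h ((kmapP φ fs).f j x) = φ (bot M fs j h x)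
  | [], j, h, x => by
    have hj : j = 0 := by simpa using h
    subst hj
    exact single_aux φ _ x
  | f :: fs, j, h, x => by
    rw [bot_cons, bot_cons, kmapP_cons_apply, fstE_mkE]
    exact bot_kmapP φ fs (j + 1) _ _

end part1

section part2

section dirlim

variable {R : Type*} [CommRing R] {ι : Type*} [Preorder ι] [DecidableEq ι] [Nonempty ι]
  [IsDirectedOrder ι]
  {G G' G'' : ι → Type*} [∀ i, AddCommGroup (G i)] [∀ i, Module R (G i)]
  [∀ i, AddCommGroup (G' i)] [∀ i, Module R (G' i)]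
  [∀ i, AddCommGroup (G'' i)] [∀ i, Module R (G'' i)]
  {f : ∀ i j, i ≤ j → G i →ₗ[R] G j} {f' : ∀ i j, i ≤ j → G' i →ₗ[R] G' j}
  {f'' : ∀ i j, i ≤ j → G'' i →ₗ[R] G'' j}
  [DirectedSystem G'' fun i j h => f'' i j h]

/-- direct limits are exact. -/
theorem directLimit_map_exact (g : ∀ i, G i →ₗ[R] G' i) (g' : ∀ i, G' i →ₗ[R] G'' i)
    (hg : ∀ i j h, g j ∘ₗ f i j h = f' i j h ∘ₗ g i)
    (hg' : ∀ i j h, g' j ∘ₗ f' i j h = f'' i j h ∘ₗ g' i)
    (hex : ∀ i, Function.Exact (g i) (g' i)) :
    Function.Exact (Module.DirectLimit.map g hg) (Module.DirectLimit.map g' hg') := by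
  intro y
  constructor
  · intro hy
    obtain ⟨i, x, rfl⟩ := Module.DirectLimit.exists_of y
    rw [Module.DirectLimit.map_apply_of] at hy
    obtain ⟨j, hij, hj⟩ := Module.DirectLimit.of.zero_exact hy
    have h1 : g' j (f' i j hij x) = 0 := by
      have := LinearMap.congr_fun (hg' i j hij) x
      simp only [LinearMap.comp_apply] at this
      rw [this, hj]
    obtain ⟨z, hz⟩ := (hex j _).mp h1
    refine ⟨Module.DirectLimit.of R ι G f j z, ?_⟩
    rw [Module.DirectLimit.map_apply_of, hz, Module.DirectLimit.of_f]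
  · rintro ⟨z, rfl⟩
    obtain ⟨i, x, rfl⟩ := Module.DirectLimit.exists_of z
    rw [Module.DirectLimit.map_apply_of, Module.DirectLimit.map_apply_of,
      (hex i).apply_apply_eq_zero, map_zero]

end dirlim

variable {A : Type u} [CommRing A]

theorem koszulTrans_self_apply (M : ModuleCat.{u} A) (n : ℕ) :
    ∀ (fs : List A) (j : ℤ) (z : (koszulCx M (fs.map (· ^ n))).X j),
      (koszulTrans M n n le_rfl fs).f j z = z
  | [], j, z => by
    rw [koszulTrans_nil]
    simp
  | f :: fs, j, z => by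
    rw [koszulTrans_cons_apply M n n le_rfl, koszulTrans_self_apply M n fs,
      koszulTrans_self_apply M n fs, Nat.sub_self, pow_zero, one_smul]
    exact mkE_fstE_sndE _ j z

theorem koszulTrans_self (M : ModuleCat.{u} A) (n : ℕ) (fs : List A) :
    koszulTrans M n n le_rfl fs = 𝟙 _ := by
  ext j : 1
  apply ModuleCat.hom_ext
  ext z
  rw [koszulTrans_self_apply]
  simp

theorem koszulTrans_comp (M : ModuleCat.{u} A) (n m l : ℕ) (h : n ≤ m) (h' : m ≤ l)
    (fs : List A) :
    koszulTrans M n m h fs ≫ koszulTrans M m l h' fs = koszulTrans M n l (h.trans h') fs := by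
  ext j : 1
  apply ModuleCat.hom_ext
  ext z
  exact koszulTrans_comp_apply M n m l h h' fs j z

instance directedSystem (fs : List A) (M : ModuleCat.{u} A) (p : ℕ) :
    DirectedSystem (fun n : ℕ => (koszulHPow fs M p n : Type u))
      (fun n m h => (HomologicalComplex.homologyMap (koszulTrans M n m h fs)
        ((p : ℤ) - fs.length)).hom) where
  map_self n x := by
    show (HomologicalComplex.homologyMap (koszulTrans M n n le_rfl fs) _).hom x = x
    rw [koszulTrans_self, HomologicalComplex.homologyMap_id]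
    rfl
  map_map k j i hij hjk x := by
    show (HomologicalComplex.homologyMap (koszulTrans M j k hjk fs) _).hom
      ((HomologicalComplex.homologyMap (koszulTrans M i j hij fs) _).hom x) =
      (HomologicalComplex.homologyMap (koszulTrans M i k (hij.trans hjk) fs) _).hom x
    rw [← koszulTrans_comp M i j k hij hjk, HomologicalComplex.homologyMap_comp]
    rfl

end part2

section part3

variable {A : Type u} [CommRing A] (fs : List A)

/-- the map induced on `koszulHLim` by a module map. -/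
noncomputable def Kmap {M N : ModuleCat.{u} A} (φ : M ⟶ N) (p : ℕ) :
    koszulHLim fs M p →ₗ[A] koszulHLim fs N p :=
  Module.DirectLimit.map (fun n => (HomologicalComplex.homologyMap (kmapP φ (fs.map (· ^ n)))
      ((p : ℤ) - fs.length)).hom)
    (fun n m h => by
      rw [← ModuleCat.hom_comp, ← ModuleCat.hom_comp, ← HomologicalComplex.homologyMap_comp,
        ← HomologicalComplex.homologyMap_comp, kmapP_trans])

theorem Kmap_of {M N : ModuleCat.{u} A} (φ : M ⟶ N) (p n : ℕ) (x : koszulHPow fs M p n) :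
    Kmap fs φ p (Module.DirectLimit.of A ℕ (fun n : ℕ => (koszulHPow fs M p n : Type u))
        (fun n m h => (HomologicalComplex.homologyMap (koszulTrans M n m h fs)
          ((p : ℤ) - fs.length)).hom) n x) =
      Module.DirectLimit.of A ℕ (fun n : ℕ => (koszulHPow fs N p n : Type u))
        (fun n m h => (HomologicalComplex.homologyMap (koszulTrans N n m h fs)
          ((p : ℤ) - fs.length)).hom) n
        ((HomologicalComplex.homologyMap (kmapP φ (fs.map (· ^ n))) ((p : ℤ) - fs.length)).hom x) :=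
  by
    unfold Kmap
    exact Module.DirectLimit.map_apply_of (ι := ℕ)
      (G := fun n : ℕ => (koszulHPow fs M p n : Type u)) (i := n) _ _ x

section les

variable (S : ShortComplex (ModuleCat.{u} A)) (hS : S.ShortExact)

include hS in
theorem SC_w (l : List A) : kmapP S.f l ≫ kmapP S.g l = 0 :=
  (DegExact.shortExact _ _ (kmapP_degExact S hS l)).choose

/-- the short exact sequence of Koszul complexes. -/
noncomputable def SC (l : List A) : ShortComplex (CochainComplex (ModuleCat.{u} A) ℤ) :=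
  ShortComplex.mk (kmapP S.f l) (kmapP S.g l) (SC_w S hS l)

theorem SC_shortExact (l : List A) : (SC S hS l).ShortExact :=
  (DegExact.shortExact _ _ (kmapP_degExact S hS l)).choose_spec

/-- transition between the short exact sequences of Koszul complexes. -/
noncomputable def SCtrans (n m : ℕ) (h : n ≤ m) :
    SC S hS (fs.map (· ^ n)) ⟶ SC S hS (fs.map (· ^ m)) where
  τ₁ := koszulTrans S.X₁ n m h fs
  τ₂ := koszulTrans S.X₂ n m h fs
  τ₃ := koszulTrans S.X₃ n m h fs
  comm₁₂ := (kmapP_trans S.f n m h fs).symm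
  comm₂₃ := (kmapP_trans S.g n m h fs).symm

omit [CommRing A] in
theorem deg_succ (p : ℕ) : (ComplexShape.up ℤ).Rel ((p : ℤ) - fs.length)
    (((p + 1 : ℕ) : ℤ) - fs.length) := by
  show (p : ℤ) - fs.length + 1 = ((p + 1 : ℕ) : ℤ) - fs.length
  push_cast; ring

/-- the connecting map on `koszulHLim`. -/
noncomputable def Kδ (p : ℕ) : koszulHLim fs S.X₃ p →ₗ[A] koszulHLim fs S.X₁ (p + 1) :=
  Module.DirectLimit.map (fun n => ((SC_shortExact S hS (fs.map (· ^ n))).δ _ _
      (deg_succ fs p)).hom)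
    (fun n m h => by
      have := HomologicalComplex.HomologySequence.δ_naturality (SCtrans fs S hS n m h)
        (SC_shortExact S hS (fs.map (· ^ n))) (SC_shortExact S hS (fs.map (· ^ m))) _ _
        (deg_succ fs p)
      refine LinearMap.ext fun x => ?_
      have h2 := ConcreteCategory.congr_hom this x
      rw [ConcreteCategory.comp_apply, ConcreteCategory.comp_apply] at h2
      exact h2.symm)

theorem exact₃ (p : ℕ) : Function.Exact (Kmap fs S.g p) (Kδ fs S hS p) := by
  apply directLimit_map_exact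
  intro n
  have := (SC_shortExact S hS (fs.map (· ^ n))).homology_exact₃ _ _ (deg_succ fs p)
  exact (ShortComplex.ShortExact.moduleCat_exact_iff_function_exact _).mp this

theorem exact₁ (p : ℕ) : Function.Exact (Kδ fs S hS p) (Kmap fs S.f (p + 1)) := by
  apply directLimit_map_exact
  intro n
  have := (SC_shortExact S hS (fs.map (· ^ n))).homology_exact₁ _ _ (deg_succ fs p)
  exact (ShortComplex.ShortExact.moduleCat_exact_iff_function_exact _).mp this

end les

end part3

section part4

variable {A : Type u} [CommRing A]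

section desc

variable (K : CochainComplex (ModuleCat.{u} A) ℤ)

/-- a linear map out of the homology from a linear map out of `K.X j` killing the boundaries. -/
noncomputable def homologyDesc (i j : ℤ) (hij : i + 1 = j) (N : Type u) [AddCommGroup N]
    [Module A N] (e : K.X j →ₗ[A] N) (h0 : ∀ w : K.X i, e (K.d i j w) = 0) :
    K.homology j →ₗ[A] N :=
  (K.homologyι j ≫ K.descOpcycles (ModuleCat.ofHom e) i (by simp; omega) (by
    apply ModuleCat.hom_ext
    apply LinearMap.ext
    intro w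
    exact h0 w)).hom

theorem homologyDesc_π (i j : ℤ) (hij : i + 1 = j) (N : Type u) [AddCommGroup N]
    [Module A N] (e : K.X j →ₗ[A] N) (h0 : ∀ w : K.X i, e (K.d i j w) = 0) (c : K.cycles j) :
    homologyDesc K i j hij N e h0 (K.homologyπ j c) = e (K.iCycles j c) := by
  have hk : K.d i j ≫ ModuleCat.ofHom e = 0 := by
    apply ModuleCat.hom_ext
    apply LinearMap.ext
    intro w
    exact h0 w
  have h1 : K.homologyπ j ≫ (K.homologyι j ≫ K.descOpcycles (ModuleCat.ofHom e) i
      (by simp; omega) hk) = K.iCycles j ≫ ModuleCat.ofHom e := by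
    rw [← Category.assoc, K.homology_π_ι, Category.assoc, K.p_descOpcycles]
  have h2 := ConcreteCategory.congr_hom h1 c
  rw [ConcreteCategory.comp_apply, ConcreteCategory.comp_apply] at h2
  exact h2

end desc

variable (fs : List A) (M : ModuleCat.{u} A)

theorem deg_zero (n : ℕ) : ((0 : ℕ) : ℤ) - fs.length = -(((fs.map (· ^ n)).length : ℕ) : ℤ) := by
  simp

/-- level `n` of the degree zero comparison. -/
noncomputable def θn (n : ℕ) : koszulHPow fs M 0 n →ₗ[A] M :=
  homologyDesc (koszulCx M (fs.map (· ^ n))) (((0 : ℕ) : ℤ) - fs.length - 1)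
    (((0 : ℕ) : ℤ) - fs.length) (by ring) M
    (bot M (fs.map (· ^ n)) _ (deg_zero fs n)) (fun w => by
      have : Subsingleton ((koszulCx M (fs.map (· ^ n))).X (((0 : ℕ) : ℤ) - fs.length - 1)) :=
        subsingleton_X M _ _ (Or.inl (by simp))
      rw [Subsingleton.elim w 0, map_zero, map_zero])

theorem θn_π (n : ℕ) (c : (koszulCx M (fs.map (· ^ n))).cycles (((0 : ℕ) : ℤ) - fs.length)) :
    θn fs M n ((koszulCx M (fs.map (· ^ n))).homologyπ _ c) =
      bot M (fs.map (· ^ n)) _ (deg_zero fs n) ((koszulCx M (fs.map (· ^ n))).iCycles _ c) :=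
  homologyDesc_π _ _ _ _ _ _ _ c

theorem θn_trans (n m : ℕ) (h : n ≤ m) (x : koszulHPow fs M 0 n) :
    θn fs M m ((HomologicalComplex.homologyMap (koszulTrans M n m h fs)
      (((0 : ℕ) : ℤ) - fs.length)).hom x) = θn fs M n x := by
  obtain ⟨c, rfl⟩ := exists_cycle _ _ x
  have := homologyMap_π (koszulTrans M n m h fs) (((0 : ℕ) : ℤ) - fs.length) c
  rw [show (HomologicalComplex.homologyMap (koszulTrans M n m h fs)
      (((0 : ℕ) : ℤ) - fs.length)).hom _ = _ from this, θn_π, θn_π, iCycles_cyclesMap, bot_trans]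

/-- the degree zero comparison `colim H^0(f^n; M) → M`. -/
noncomputable def θ : koszulHLim fs M 0 →ₗ[A] M :=
  Module.DirectLimit.lift A ℕ _ _ (θn fs M) (fun n m h x => θn_trans fs M n m h x)

theorem θ_of (n : ℕ) (x : koszulHPow fs M 0 n) :
    θ fs M (Module.DirectLimit.of A ℕ (fun n : ℕ => (koszulHPow fs M 0 n : Type u))
        (fun n m h => (HomologicalComplex.homologyMap (koszulTrans M n m h fs)
          (((0 : ℕ) : ℤ) - fs.length)).hom) n x) = θn fs M n x := by
  unfold θ
  exact Module.DirectLimit.lift_of (ι := ℕ)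
    (G := fun n : ℕ => (koszulHPow fs M 0 n : Type u)) (i := n) _ _ x

end part4

section part5

variable {A : Type u} [CommRing A] (fs : List A)

theorem mem_torsionSub_iff (M : Type u) [AddCommGroup M] [Module A M] (m : M) :
    m ∈ DRing.torsionSub (Ideal.span {a : A | a ∈ fs}) M ↔ ∃ n : ℕ, ∀ g ∈ fs, g ^ n • m = 0 := by
  constructor
  · rintro ⟨N, hN⟩
    exact ⟨N, fun g hg => hN _ (Ideal.pow_mem_pow (Ideal.subset_span (s := {a : A | a ∈ fs}) hg) N)⟩
  · rintro ⟨n, hn⟩
    set I : Ideal A := Ideal.span {a : A | a ∈ fs} with hI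
    let J : Ideal A := LinearMap.ker (LinearMap.toSpanSingleton A M m)
    have hJ : ∀ a, a ∈ J ↔ a • m = 0 := fun a => by
      simp [J, LinearMap.mem_ker, LinearMap.toSpanSingleton_apply]
    have h1 : I ≤ J.radical := by
      rw [hI, Ideal.span_le]
      intro g hg
      exact ⟨n, (hJ _).mpr (hn g hg)⟩
    have hfg : I.FG := Submodule.fg_span (List.finite_toSet fs)
    obtain ⟨k, hk⟩ := Ideal.exists_pow_le_of_le_radical_of_fg h1 hfg
    exact ⟨k, fun a ha => (hJ a).mp (hk ha)⟩

variable (M : ModuleCat.{u} A)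

theorem smul_θn (n : ℕ) (x : koszulHPow fs M 0 n) : ∀ g ∈ fs, g ^ n • θn fs M n x = 0 := by
  intro g hg
  obtain ⟨c, rfl⟩ := exists_cycle _ _ x
  rw [θn_π]
  have h1 := d_iCycles (koszulCx M (fs.map (· ^ n))) (((0 : ℕ) : ℤ) - fs.length)
    (((0 : ℕ) : ℤ) - fs.length + 1) c
  rw [bot_d_eq_zero_iff M (fs.map (· ^ n)) _ (deg_zero fs n)] at h1
  exact h1 (g ^ n) (List.mem_map.mpr ⟨g, hg, rfl⟩)

theorem θ_mem (x : koszulHLim fs M 0) :
    θ fs M x ∈ DRing.torsionSub (Ideal.span {a : A | a ∈ fs}) M := by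
  unfold koszulHLim at x
  obtain ⟨n, x, rfl⟩ := Module.DirectLimit.exists_of x
  rw [θ_of, mem_torsionSub_iff]
  exact ⟨n, smul_θn fs M n x⟩

theorem θ_injective : Function.Injective (θ fs M) := by
  rw [injective_iff_map_eq_zero]
  intro x hx
  unfold koszulHLim at x
  obtain ⟨n, x, rfl⟩ := Module.DirectLimit.exists_of x
  obtain ⟨c, rfl⟩ := exists_cycle _ _ x
  rw [θ_of, θn_π] at hx
  have h1 : (koszulCx M (fs.map (· ^ n))).iCycles _ c = 0 :=
    (bot_bijective M (fs.map (· ^ n)) _ (deg_zero fs n)).1 (hx.trans (map_zero _).symm)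
  have hm : Function.Injective ((koszulCx M (fs.map (· ^ n))).iCycles
      (((0 : ℕ) : ℤ) - fs.length)) :=
    (ModuleCat.mono_iff_injective _).mp inferInstance
  have h2 : c = 0 := hm (h1.trans (map_zero _).symm)
  rw [h2, map_zero, map_zero]
  rfl

theorem θ_surjective (m : M) (hm : m ∈ DRing.torsionSub (Ideal.span {a : A | a ∈ fs}) M) :
    ∃ x, θ fs M x = m := by
  obtain ⟨n, hn⟩ := (mem_torsionSub_iff fs M m).mp hm
  obtain ⟨z, hz⟩ := (bot_bijective M (fs.map (· ^ n)) _ (deg_zero fs n)).2 m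
  have hd : (koszulCx M (fs.map (· ^ n))).d (((0 : ℕ) : ℤ) - fs.length)
      (((0 : ℕ) : ℤ) - fs.length + 1) z = 0 := by
    rw [bot_d_eq_zero_iff M (fs.map (· ^ n)) _ (deg_zero fs n), hz]
    intro g' hg'
    obtain ⟨g, hg, rfl⟩ := List.mem_map.mp hg'
    exact hn g hg
  obtain ⟨c, hc⟩ := exists_cycle_of_d_eq_zero _ _ _ rfl z hd
  refine ⟨Module.DirectLimit.of A ℕ (fun n : ℕ => (koszulHPow fs M 0 n : Type u))
        (fun n m h => (HomologicalComplex.homologyMap (koszulTrans M n m h fs)
          (((0 : ℕ) : ℤ) - fs.length)).hom) n ((koszulCx M (fs.map (· ^ n))).homologyπ _ c), ?_⟩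
  rw [θ_of, θn_π, hc, hz]

theorem θ_Kmap {M N : ModuleCat.{u} A} (φ : M ⟶ N) (x : koszulHLim fs M 0) :
    θ fs N (Kmap fs φ 0 x) = φ (θ fs M x) := by
  unfold koszulHLim at x
  obtain ⟨n, x, rfl⟩ := Module.DirectLimit.exists_of x
  obtain ⟨c, rfl⟩ := exists_cycle _ _ x
  rw [Kmap_of, θ_of, θ_of, θn_π]
  have := homologyMap_π (kmapP φ (fs.map (· ^ n))) (((0 : ℕ) : ℤ) - fs.length) c
  rw [show (HomologicalComplex.homologyMap (kmapP φ (fs.map (· ^ n)))
      (((0 : ℕ) : ℤ) - fs.length)).hom _ = _ from this, θn_π, iCycles_cyclesMap, bot_kmapP]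

/-- `colim_n H^0(f^n; M) ≃ Γ_I(M)`. -/
noncomputable def θEquiv :
    koszulHLim fs M 0 ≃ₗ[A] DRing.torsionSub (Ideal.span {a : A | a ∈ fs}) M :=
  LinearEquiv.ofBijective ((θ fs M).codRestrict _ (θ_mem fs M))
    ⟨fun x y h => θ_injective fs M (congrArg Subtype.val h),
     fun ⟨m, hm⟩ => by
      obtain ⟨x, hx⟩ := θ_surjective fs M m hm
      exact ⟨x, Subtype.ext hx⟩⟩

theorem θEquiv_apply (x : koszulHLim fs M 0) : (θEquiv fs M x : M) = θ fs M x := rfl

end part5

end Groth.Agent.Lib.KoszulLim9
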