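import Groth.Agent.Lib.KoszulCone
import Groth.Prelude.Def_ega3
import Mathlib.Algebra.Module.Injective
import Mathlib.Algebra.Colimit.Module
import Mathlib.RingTheory.Noetherian.Basic
import Mathlib.Algebra.Homology.ShortComplex.ModuleCat

/-!
# Elementwise tools for Koszul complexes built by iterated mapping cones (helper19)

* differential of a cone in coordinates (`fstE_d`, `sndE_d`, `d_mkE`);
* elementwise homology for complexes of modules (`exists_cycle`, `homologyπ_eq_zero_of_boundary`,
  `homologyMap_π`);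
* the prelude Koszul complex `CohIII.koszulCx` : vanishing outside `[-r, 0]`, the bottom degree is `M`
  (`bot`), cocycles in the bottom degree, transition maps on the bottom degree;
* `CohIII.koszulHLim fs M i = 0` for `i > 0` and `M` injective over a Noetherian ring.
-/

universe u

open CategoryTheory CategoryTheory.Limits CochainComplex HomologicalComplex

namespace Groth.Agent.Lib.KoszulElem

open Groth.Agent.Lib.KoszulCone

variable {A : Type u} [CommRing A]

section cone

variable {F G : CochainComplex (ModuleCat.{u} A) ℤ} (φ : F ⟶ G)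

theorem fstE_d (n : ℤ) (z : (mappingCone φ).X n) :
    fstE φ (n + 1) ((mappingCone φ).d n (n + 1) z) = -(F.d (n + 1) (n + 1 + 1) (fstE φ n z)) := by
  have h := mappingCone.d_fst_v φ n (n + 1) (n + 1 + 1) rfl rfl
  have h2 := congrArg (fun f => (ConcreteCategory.hom f) z) h
  simpa [fstE] using h2

theorem sndE_d (n : ℤ) (z : (mappingCone φ).X n) :
    sndE φ (n + 1) ((mappingCone φ).d n (n + 1) z) =
      φ.f (n + 1) (fstE φ n z) + G.d n (n + 1) (sndE φ n z) := by
  have h := mappingCone.d_snd_v φ n (n + 1) rfl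
  have h2 := congrArg (fun f => (ConcreteCategory.hom f) z) h
  simpa [fstE, sndE] using h2

theorem ext_cone (n : ℤ) (z z' : (mappingCone φ).X n) (h1 : fstE φ n z = fstE φ n z')
    (h2 : sndE φ n z = sndE φ n z') : z = z' := by
  rw [← mkE_fstE_sndE φ n z, ← mkE_fstE_sndE φ n z', h1, h2]

theorem d_mkE (n : ℤ) (a : F.X (n + 1)) (b : G.X n) :
    (mappingCone φ).d n (n + 1) (mkE φ n a b) =
      mkE φ (n + 1) (-(F.d (n + 1) (n + 1 + 1) a)) (φ.f (n + 1) a + G.d n (n + 1) b) := by
  apply ext_cone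
  · rw [fstE_d, fstE_mkE, fstE_mkE]
  · rw [sndE_d, fstE_mkE, sndE_mkE, sndE_mkE]

theorem fstE_add (n : ℤ) (z z' : (mappingCone φ).X n) :
    fstE φ n (z + z') = fstE φ n z + fstE φ n z' := by simp [fstE]

theorem sndE_add (n : ℤ) (z z' : (mappingCone φ).X n) :
    sndE φ n (z + z') = sndE φ n z + sndE φ n z' := by simp [sndE]

theorem mkE_add (n : ℤ) (a a' : F.X (n + 1)) (b b' : G.X n) :
    mkE φ n (a + a') (b + b') = mkE φ n a b + mkE φ n a' b' := by
  apply ext_cone
  · rw [fstE_add, fstE_mkE, fstE_mkE, fstE_mkE]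
  · rw [sndE_add, sndE_mkE, sndE_mkE, sndE_mkE]

theorem d_d_apply (K : CochainComplex (ModuleCat.{u} A) ℤ) (i j k : ℤ) (x : K.X i) :
    K.d j k (K.d i j x) = 0 := by
  have h2 := ConcreteCategory.congr_hom (K.d_comp_d i j k) x
  rw [ConcreteCategory.comp_apply] at h2
  exact h2

theorem fstE_zero (n : ℤ) : fstE φ n 0 = 0 := by simp [fstE]

theorem sndE_zero (n : ℤ) : sndE φ n 0 = 0 := by simp [sndE]

theorem d_eq_zero_iff (n : ℤ) (z : (mappingCone φ).X n) :
    (mappingCone φ).d n (n + 1) z = 0 ↔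
      F.d (n + 1) (n + 1 + 1) (fstE φ n z) = 0 ∧
        φ.f (n + 1) (fstE φ n z) + G.d n (n + 1) (sndE φ n z) = 0 := by
  constructor
  · intro h0
    have h1 := congrArg (fstE φ (n + 1)) h0
    have h2 := congrArg (sndE φ (n + 1)) h0
    rw [fstE_d, fstE_zero] at h1
    rw [sndE_d, sndE_zero] at h2
    exact ⟨neg_eq_zero.mp h1, h2⟩
  · rintro ⟨h1, h2⟩
    apply ext_cone φ (n + 1)
    · rw [fstE_d, h1, neg_zero, fstE_zero]
    · rw [sndE_d, h2, sndE_zero]

end cone

section homology

variable (K L : CochainComplex (ModuleCat.{u} A) ℤ) (φ : K ⟶ L)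

/-- every homology class is the class of a cycle -/
theorem exists_cycle (j : ℤ) (x : K.homology j) : ∃ c : K.cycles j, K.homologyπ j c = x :=
  (ModuleCat.epi_iff_surjective (K.homologyπ j)).mp inferInstance x

theorem d_iCycles (j k : ℤ) (c : K.cycles j) : K.d j k (K.iCycles j c) = 0 := by
  have h2 := ConcreteCategory.congr_hom (K.iCycles_d j k) c
  rw [ConcreteCategory.comp_apply] at h2
  exact h2

/-- a cycle whose underlying element is a boundary has zero class -/
theorem homologyπ_eq_zero_of_boundary (i j : ℤ) (hij : i + 1 = j) (c : K.cycles j) (w : K.X i)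
    (h : K.iCycles j c = K.d i j w) : K.homologyπ j c = 0 := by
  have hc : c = K.toCycles i j w := by
    have hm : Function.Injective (K.iCycles j) :=
      (ModuleCat.mono_iff_injective (K.iCycles j)).mp inferInstance
    apply hm
    rw [h]
    have h2 := ConcreteCategory.congr_hom (K.toCycles_i i j) w
    rw [ConcreteCategory.comp_apply] at h2
    exact h2.symm
  rw [hc]
  have h2 := ConcreteCategory.congr_hom (K.toCycles_comp_homologyπ i j) w
  rw [ConcreteCategory.comp_apply] at h2
  exact h2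

variable {K L}

theorem homologyMap_π (j : ℤ) (c : K.cycles j) :
    HomologicalComplex.homologyMap φ j (K.homologyπ j c) =
      L.homologyπ j (HomologicalComplex.cyclesMap φ j c) := by
  have h2 := ConcreteCategory.congr_hom (HomologicalComplex.homologyπ_naturality φ j) c
  rw [ConcreteCategory.comp_apply, ConcreteCategory.comp_apply] at h2
  exact h2

theorem iCycles_cyclesMap (j : ℤ) (c : K.cycles j) :
    L.iCycles j (HomologicalComplex.cyclesMap φ j c) = φ.f j (K.iCycles j c) := by
  have h2 := ConcreteCategory.congr_hom (HomologicalComplex.cyclesMap_i φ j) c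
  rw [ConcreteCategory.comp_apply, ConcreteCategory.comp_apply] at h2
  exact h2

end homology

section koszul

open CohIII

variable (M : ModuleCat.{u} A)

theorem koszulCx_cons (f : A) (fs : List A) :
    koszulCx M (f :: fs) = mappingCone (f • 𝟙 (koszulCx M fs)) := rfl

theorem smul_id_f_apply (K : CochainComplex (ModuleCat.{u} A) ℤ) (f : A) (j : ℤ) (x : K.X j) :
    (f • 𝟙 K : K ⟶ K).f j x = f • x := by
  simp

/-- the Koszul complex of a list of length `r` vanishes outside degrees `[-r, 0]` -/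
theorem subsingleton_X : ∀ (fs : List A) (j : ℤ), (j < -(fs.length : ℤ) ∨ 0 < j) →
    Subsingleton ((koszulCx M fs).X j)
  | [], j, h => by
    have hj : j ≠ 0 := by
      rcases h with h | h
      · simp at h; omega
      · omega
    exact ModuleCat.subsingleton_of_isZero
      (HomologicalComplex.isZero_single_obj_X (ComplexShape.up ℤ) 0 M j hj)
  | f :: fs, j, h => by
    have h1 : Subsingleton ((koszulCx M fs).X (j + 1)) := by
      apply subsingleton_X fs
      rcases h with h | h
      · left; simp at h; omega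
      · right; omega
    have h2 : Subsingleton ((koszulCx M fs).X j) := by
      apply subsingleton_X fs
      rcases h with h | h
      · left; simp at h; omega
      · right; omega
    refine ⟨fun z z' => ?_⟩
    exact ext_cone (f • 𝟙 (koszulCx M fs)) j z z' (Subsingleton.elim _ _) (Subsingleton.elim _ _)

/-- the first coordinate of a cone, as a linear map -/
noncomputable def fstL {F G : CochainComplex (ModuleCat.{u} A) ℤ} (φ : F ⟶ G) (n : ℤ) :
    (mappingCone φ).X n →ₗ[A] F.X (n + 1) :=
  ((mappingCone.fst φ).1.v n (n + 1) rfl).hom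

theorem fstL_apply {F G : CochainComplex (ModuleCat.{u} A) ℤ} (φ : F ⟶ G) (n : ℤ)
    (z : (mappingCone φ).X n) : fstL φ n z = fstE φ n z := rfl

/-- the bottom degree of the Koszul complex is `M` -/
noncomputable def bot : ∀ (fs : List A) (j : ℤ), j = -(fs.length : ℤ) →
    ((koszulCx M fs).X j →ₗ[A] M)
  | [], j, h =>
    (HomologicalComplex.singleObjXIsoOfEq (ComplexShape.up ℤ) 0 M j (by simpa using h)).hom.hom
  | f :: fs, j, h =>
    (bot fs (j + 1) (by simp at h ⊢; omega)) ∘ₗ (fstL (f • 𝟙 (koszulCx M fs)) j)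

theorem bot_cons (f : A) (fs : List A) (j : ℤ) (h : j = -((f :: fs).length : ℤ))
    (z : (koszulCx M (f :: fs)).X j) :
    bot M (f :: fs) j h z =
      bot M fs (j + 1) (by simp at h ⊢; omega) (fstE (f • 𝟙 (koszulCx M fs)) j z) := rfl

theorem bot_bijective : ∀ (fs : List A) (j : ℤ) (h : j = -(fs.length : ℤ)),
    Function.Bijective (bot M fs j h)
  | [], j, h => by
    have := (ConcreteCategory.bijective_of_isIso
      (HomologicalComplex.singleObjXIsoOfEq (ComplexShape.up ℤ) 0 M j (by simpa using h)).hom)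
    exact this
  | f :: fs, j, h => by
    have ih := bot_bijective fs (j + 1) (by simp at h ⊢; omega)
    have hs : Subsingleton ((koszulCx M fs).X j) :=
      subsingleton_X M fs j (Or.inl (by simp at h; omega))
    constructor
    · intro z z' hz
      rw [bot_cons, bot_cons] at hz
      exact ext_cone _ j z z' (ih.1 hz) (Subsingleton.elim _ _)
    · intro y
      obtain ⟨a, ha⟩ := ih.2 y
      refine ⟨mkE (f • 𝟙 (koszulCx M fs)) j a 0, ?_⟩
      rw [bot_cons, fstE_mkE, ha]

/-- cocycles in the bottom degree: the elements killed by all members of the list -/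
theorem bot_d_eq_zero_iff : ∀ (fs : List A) (j : ℤ) (h : j = -(fs.length : ℤ))
    (x : (koszulCx M fs).X j),
    (koszulCx M fs).d j (j + 1) x = 0 ↔ ∀ g ∈ fs, g • bot M fs j h x = 0
  | [], j, h, x => by
    have hs : Subsingleton ((koszulCx M []).X (j + 1)) :=
      subsingleton_X M [] (j + 1) (Or.inr (by simp at h; omega))
    constructor
    · intro _ g hg
      simp at hg
    · intro _
      exact Subsingleton.elim _ _
  | f :: fs, j, h, x => by
    have hj : j + 1 = -(fs.length : ℤ) := by simp at h ⊢; omega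
    have ih := bot_d_eq_zero_iff fs (j + 1) hj (fstE (f • 𝟙 (koszulCx M fs)) j x)
    have hs : Subsingleton ((koszulCx M fs).X j) :=
      subsingleton_X M fs j (Or.inl (by omega))
    have hinj := (bot_bijective M fs (j + 1) hj).1
    have hsnd : sndE (f • 𝟙 (koszulCx M fs)) j x = 0 := Subsingleton.elim _ _
    have key : (koszulCx M (f :: fs)).d j (j + 1) x = 0 ↔
        (koszulCx M fs).d (j + 1) (j + 1 + 1) (fstE (f • 𝟙 (koszulCx M fs)) j x) = 0 ∧
          f • fstE (f • 𝟙 (koszulCx M fs)) j x = 0 := by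
      have h0 := d_eq_zero_iff (f • 𝟙 (koszulCx M fs)) j x
      rw [hsnd, map_zero, add_zero, smul_id_f_apply] at h0
      exact h0
    rw [key, ih, List.forall_mem_cons]
    constructor
    · rintro ⟨h1, h2⟩
      refine ⟨?_, h1⟩
      rw [bot_cons, ← map_smul, h2, map_zero]
    · rintro ⟨h1, h2⟩
      refine ⟨h2, ?_⟩
      apply hinj
      rw [map_smul, map_zero]
      rw [bot_cons] at h1
      exact h1

end koszul

section baer

/-- Division lemma for injective modules over a Noetherian ring: if `y` is killed by the `m`-th powers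
of the members of `fs`, then for some `l` there is `z`, killed by the `(m+l)`-th powers, with
`f^(m+l) z = f^l y`. -/
theorem exists_div_of_injective [IsNoetherianRing A] (M : Type u) [AddCommGroup M] [Module A M]
    (hM : Module.Injective A M) (f : A) (fs : List A) (m : ℕ) (y : M)
    (hy : ∀ g ∈ fs, g ^ m • y = 0) :
    ∃ (l : ℕ) (z : M), (∀ g ∈ fs, g ^ (m + l) • z = 0) ∧ f ^ (m + l) • z = f ^ l • y := by
  classical
  let I : ℕ → Ideal A := fun l =>
    LinearMap.ker ((LinearMap.toSpanSingleton A M y) ∘ₗ (LinearMap.mulLeft A (f ^ l)))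
  have hI : ∀ l a, a ∈ I l ↔ (f ^ l * a) • y = 0 := by
    intro l a
    simp [I, LinearMap.mem_ker]
  have hmono : Monotone I := by
    intro l l' hll a ha
    rw [hI] at ha ⊢
    obtain ⟨d, rfl⟩ := Nat.exists_eq_add_of_le hll
    rw [pow_add, mul_comm (f ^ l) (f ^ d), mul_assoc, mul_smul, ha, smul_zero]
  obtain ⟨l, hl⟩ := monotone_stabilizes_iff_noetherian.mpr
    (inferInstance : IsNoetherian A A) ⟨I, hmono⟩
  let J : Ideal A := Ideal.span {x | ∃ g ∈ fs, x = g ^ (m + l)}
  have hJ : ∀ x ∈ J, x • y = 0 := by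
    intro x hx
    have hle : J ≤ LinearMap.ker (LinearMap.toSpanSingleton A M y) := by
      rw [Ideal.span_le]
      rintro x ⟨g, hg, rfl⟩
      simp only [SetLike.mem_coe, LinearMap.mem_ker, LinearMap.toSpanSingleton_apply]
      rw [pow_add, mul_comm, mul_smul, hy g hg, smul_zero]
    have := hle hx
    simpa using this
  let μ : A →ₗ[A] (A ⧸ J) := (Submodule.mkQ J) ∘ₗ (LinearMap.mulLeft A (f ^ (m + l)))
  let ψ : A →ₗ[A] M := (LinearMap.toSpanSingleton A M y) ∘ₗ (LinearMap.mulLeft A (f ^ l))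
  have hker : LinearMap.ker μ ≤ LinearMap.ker ψ := by
    intro a ha
    have h1 : f ^ (m + l) * a ∈ J := by
      have : Submodule.Quotient.mk (f ^ (m + l) * a) = (0 : A ⧸ J) := by
        simpa [μ] using ha
      exact (Submodule.Quotient.mk_eq_zero J).mp this
    have h2 : a ∈ I (m + l) := (hI _ _).mpr (hJ _ h1)
    have h3 : a ∈ I l := by
      have : I l = I (m + l) := hl (m + l) (by omega)
      rw [this]; exact h2
    exact (hI _ _).mp h3
  let ι : (A ⧸ LinearMap.ker μ) →ₗ[A] (A ⧸ J) := (LinearMap.ker μ).liftQ μ le_rfl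
  have hι : Function.Injective ι := by
    rw [← LinearMap.ker_eq_bot]
    exact Submodule.ker_liftQ_eq_bot _ _ _ le_rfl
  let γ : (A ⧸ LinearMap.ker μ) →ₗ[A] M := (LinearMap.ker μ).liftQ ψ hker
  obtain ⟨Ψ, hΨ⟩ := hM.out ι hι γ
  have hΨμ : ∀ a : A, Ψ (μ a) = ψ a := by
    intro a
    have := hΨ (Submodule.Quotient.mk a)
    rw [show ι (Submodule.Quotient.mk a) = μ a from Submodule.liftQ_apply _ _ _,
      show γ (Submodule.Quotient.mk a) = ψ a from Submodule.liftQ_apply _ _ _] at this
    exact this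
  refine ⟨l, Ψ (Submodule.Quotient.mk 1), ?_, ?_⟩
  · intro g hg
    rw [← map_smul, ← Submodule.Quotient.mk_smul, smul_eq_mul, mul_one]
    have : Submodule.Quotient.mk (g ^ (m + l)) = (0 : A ⧸ J) :=
      (Submodule.Quotient.mk_eq_zero J).mpr (Ideal.subset_span ⟨g, hg, rfl⟩)
    rw [this, map_zero]
  · rw [← map_smul, ← Submodule.Quotient.mk_smul, smul_eq_mul]
    have h1 : Submodule.Quotient.mk (f ^ (m + l) * 1) = μ 1 := by
      simp [μ]
    rw [h1, hΨμ]
    simp [ψ]

end baer

section trans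

open CohIII

variable (M : ModuleCat.{u} A)

theorem hom_comm_apply {K L : CochainComplex (ModuleCat.{u} A) ℤ} (φ : K ⟶ L) (i j : ℤ)
    (x : K.X i) : φ.f j (K.d i j x) = L.d i j (φ.f i x) := by
  have h2 := ConcreteCategory.congr_hom (φ.comm i j) x
  rw [ConcreteCategory.comp_apply, ConcreteCategory.comp_apply] at h2
  exact h2.symm

theorem smul_hom_f_apply {K L : CochainComplex (ModuleCat.{u} A) ℤ} (φ : K ⟶ L) (c : A) (j : ℤ)
    (x : K.X j) : (c • φ).f j x = c • φ.f j x := by
  simp

theorem koszulTrans_nil (n m : ℕ) (h : n ≤ m) : koszulTrans M n m h [] = 𝟙 _ := rfl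

theorem koszulTrans_cons_apply (n m : ℕ) (h : n ≤ m) (f : A) (fs : List A) (j : ℤ)
    (z : (koszulCx M ((f :: fs).map (· ^ n))).X j) :
    (koszulTrans M n m h (f :: fs)).f j z =
      mkE (f ^ m • 𝟙 (koszulCx M (fs.map (· ^ m)))) j
        ((koszulTrans M n m h fs).f (j + 1)
          (fstE (f ^ n • 𝟙 (koszulCx M (fs.map (· ^ n)))) j z))
        (f ^ (m - n) • (koszulTrans M n m h fs).f j
          (sndE (f ^ n • 𝟙 (koszulCx M (fs.map (· ^ n)))) j z)) := by
  have h0 := map_apply (f ^ n • 𝟙 (koszulCx M (fs.map (· ^ n))))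
    (f ^ m • 𝟙 (koszulCx M (fs.map (· ^ m)))) (koszulTrans M n m h fs)
    (f ^ (m - n) • koszulTrans M n m h fs) (by
      simp only [Linear.smul_comp, Linear.comp_smul, Category.id_comp, Category.comp_id, smul_smul,
        ← pow_add, Nat.sub_add_cancel h]) j z
  rw [smul_hom_f_apply] at h0
  exact h0

theorem koszulTrans_comp_apply (n m l : ℕ) (h : n ≤ m) (h' : m ≤ l) :
    ∀ (fs : List A) (j : ℤ) (z : (koszulCx M (fs.map (· ^ n))).X j),
      (koszulTrans M m l h' fs).f j ((koszulTrans M n m h fs).f j z) =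
        (koszulTrans M n l (h.trans h') fs).f j z
  | [], j, z => by
    rw [koszulTrans_nil, koszulTrans_nil, koszulTrans_nil]
    simp
  | f :: fs, j, z => by
    rw [koszulTrans_cons_apply M n m h, koszulTrans_cons_apply M n l]
    have := koszulTrans_cons_apply M m l h' f fs j
      (mkE (f ^ m • 𝟙 (koszulCx M (fs.map (· ^ m)))) j
        ((koszulTrans M n m h fs).f (j + 1)
          (fstE (f ^ n • 𝟙 (koszulCx M (fs.map (· ^ n)))) j z))
        (f ^ (m - n) • (koszulTrans M n m h fs).f j
          (sndE (f ^ n • 𝟙 (koszulCx M (fs.map (· ^ n)))) j z)))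
    rw [this, fstE_mkE, sndE_mkE, koszulTrans_comp_apply n m l h h' fs, map_smul,
      koszulTrans_comp_apply n m l h h' fs, smul_smul, ← pow_add]
    congr 3
    omega

theorem bot_trans (n m : ℕ) (h : n ≤ m) :
    ∀ (fs : List A) (j : ℤ) (hn : j = -((fs.map (· ^ n)).length : ℤ))
      (hm : j = -((fs.map (· ^ m)).length : ℤ)) (x : (koszulCx M (fs.map (· ^ n))).X j),
      bot M (fs.map (· ^ m)) j hm ((koszulTrans M n m h fs).f j x) =
        bot M (fs.map (· ^ n)) j hn x
  | [], j, hn, hm, x => by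
    rw [koszulTrans_nil]
    simp only [HomologicalComplex.id_f, ModuleCat.id_apply]
    rfl
  | f :: fs, j, hn, hm, x => by
    rw [koszulTrans_cons_apply M n m h]
    have h1 := bot_cons M (f ^ m) (fs.map (· ^ m)) j hm
      (mkE (f ^ m • 𝟙 (koszulCx M (fs.map (· ^ m)))) j
        ((koszulTrans M n m h fs).f (j + 1)
          (fstE (f ^ n • 𝟙 (koszulCx M (fs.map (· ^ n)))) j x))
        (f ^ (m - n) • (koszulTrans M n m h fs).f j
          (sndE (f ^ n • 𝟙 (koszulCx M (fs.map (· ^ n)))) j x)))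
    have h2 := bot_cons M (f ^ n) (fs.map (· ^ n)) j hn x
    refine h1.trans ?_
    rw [fstE_mkE]
    refine Eq.trans ?_ h2.symm
    exact bot_trans n m h fs (j + 1) _ _ _

end trans

section main

open CohIII

variable [IsNoetherianRing A] (M : ModuleCat.{u} A) (hM : Module.Injective A M)

include hM in
/-- Key statement: over a Noetherian ring and for an injective module, every cocycle of the Koszul
complex of `fs^n` in Koszul-degree `> 0` becomes a coboundary in the Koszul complex of `fs^m` for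
some `m ≥ n`. -/
theorem exists_boundary_trans :
    ∀ (fs : List A) (i j k : ℤ) (_ : i + 1 = j) (_ : j + 1 = k) (_ : -(fs.length : ℤ) ≤ i)
      (n : ℕ) (z : (koszulCx M (fs.map (· ^ n))).X j),
      (koszulCx M (fs.map (· ^ n))).d j k z = 0 →
      ∃ (m : ℕ) (h : n ≤ m) (w : (koszulCx M (fs.map (· ^ m))).X i),
        (koszulTrans M n m h fs).f j z = (koszulCx M (fs.map (· ^ m))).d i j w
  | [], i, j, k, hij, hjk, hi, n, z, hz => by
    have hs : Subsingleton ((koszulCx M (([] : List A).map (· ^ n))).X j) :=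
      subsingleton_X M [] j (Or.inr (by simp at hi; omega))
    exact ⟨n, le_rfl, 0, Subsingleton.elim _ _⟩
  | f :: fs, i, j, k, hij, hjk, hi, n, z, hz => by
    subst hij hjk
    -- coordinates of `z`
    have hz' := (d_eq_zero_iff (f ^ n • 𝟙 (koszulCx M (fs.map (· ^ n)))) (i + 1) z).mp hz
    obtain ⟨m1, h1, w1, hw1⟩ := exists_boundary_trans fs (i + 1) (i + 1 + 1) (i + 1 + 1 + 1) rfl rfl
      (by simp at hi ⊢; omega) n _ hz'.1
    -- the correction term
    let u : (mappingCone (f ^ m1 • 𝟙 (koszulCx M (fs.map (· ^ m1))))).X i :=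
      mkE (f ^ m1 • 𝟙 (koszulCx M (fs.map (· ^ m1)))) i (-w1) 0
    let b'' : (koszulCx M (fs.map (· ^ m1))).X (i + 1) :=
      f ^ (m1 - n) • (koszulTrans M n m1 h1 fs).f (i + 1)
          (sndE (f ^ n • 𝟙 (koszulCx M (fs.map (· ^ n)))) (i + 1) z) + f ^ m1 • w1
    have hsplit : (koszulTrans M n m1 h1 (f :: fs)).f (i + 1) z =
        (mappingCone (f ^ m1 • 𝟙 (koszulCx M (fs.map (· ^ m1))))).d i (i + 1) u +
          mkE (f ^ m1 • 𝟙 (koszulCx M (fs.map (· ^ m1)))) (i + 1) 0 b'' := by
      rw [koszulTrans_cons_apply M n m1 h1, hw1, d_mkE, ← mkE_add]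
      congr 1
      · simp
      · simp only [b'', map_neg, map_zero, add_zero, smul_id_f_apply]
        abel
    have hb'' : (koszulCx M (fs.map (· ^ m1))).d (i + 1) (i + 1 + 1) b'' = 0 := by
      have h0 : (mappingCone (f ^ m1 • 𝟙 (koszulCx M (fs.map (· ^ m1))))).d (i + 1) (i + 1 + 1)
          ((koszulTrans M n m1 h1 (f :: fs)).f (i + 1) z) = 0 := by
        have := hom_comm_apply (koszulTrans M n m1 h1 (f :: fs)) (i + 1) (i + 1 + 1) z
        rw [hz, map_zero] at this
        exact this.symm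
      rw [hsplit, map_add, d_d_apply, zero_add] at h0
      have h3 := ((d_eq_zero_iff _ _ _).mp h0).2
      rw [fstE_mkE, sndE_mkE, map_zero, zero_add] at h3
      exact h3
    -- step 2
    obtain ⟨m2, h2, w2, hw2⟩ : ∃ (m2 : ℕ) (h2 : m1 ≤ m2)
        (w2 : (mappingCone (f ^ m2 • 𝟙 (koszulCx M (fs.map (· ^ m2))))).X i),
        (koszulTrans M m1 m2 h2 (f :: fs)).f (i + 1)
          (mkE (f ^ m1 • 𝟙 (koszulCx M (fs.map (· ^ m1)))) (i + 1) 0 b'') =
          (mappingCone (f ^ m2 • 𝟙 (koszulCx M (fs.map (· ^ m2))))).d i (i + 1) w2 := by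
      by_cases hcase : -(fs.length : ℤ) ≤ i
      · obtain ⟨m2, h2, w, hw⟩ := exists_boundary_trans fs i (i + 1) (i + 1 + 1) rfl rfl hcase m1 b'' hb''
        refine ⟨m2, h2, mkE (f ^ m2 • 𝟙 (koszulCx M (fs.map (· ^ m2)))) i 0 (f ^ (m2 - m1) • w), ?_⟩
        rw [koszulTrans_cons_apply M m1 m2 h2, fstE_mkE, sndE_mkE, map_zero, hw, d_mkE]
        congr 1
        · simp
        · simp
      · have hbot : i + 1 = -(fs.length : ℤ) := by simp at hi; omega
        have hbn : i + 1 = -((fs.map (· ^ m1)).length : ℤ) := by simpa using hbot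
        have hy : ∀ g ∈ fs, g ^ m1 • bot M (fs.map (· ^ m1)) (i + 1) hbn b'' = 0 := by
          intro g hg
          exact (bot_d_eq_zero_iff M (fs.map (· ^ m1)) (i + 1) hbn b'').mp hb'' (g ^ m1)
            (List.mem_map.mpr ⟨g, hg, rfl⟩)
        obtain ⟨l, z', hz'1, hz'2⟩ := exists_div_of_injective M hM f fs m1 _ hy
        have hbm : i + 1 = -((fs.map (· ^ (m1 + l))).length : ℤ) := by simpa using hbot
        obtain ⟨a', ha'⟩ := (bot_bijective M (fs.map (· ^ (m1 + l))) (i + 1) hbm).2 z'
        have hda' : (koszulCx M (fs.map (· ^ (m1 + l)))).d (i + 1) (i + 1 + 1) a' = 0 := by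
          rw [bot_d_eq_zero_iff M (fs.map (· ^ (m1 + l))) (i + 1) hbm a']
          intro g' hg'
          obtain ⟨g, hg, rfl⟩ := List.mem_map.mp hg'
          rw [ha']
          exact hz'1 g hg
        have key : f ^ (m1 + l) • a' = f ^ (m1 + l - m1) •
            (koszulTrans M m1 (m1 + l) (Nat.le_add_right _ _) fs).f (i + 1) b'' := by
          apply (bot_bijective M (fs.map (· ^ (m1 + l))) (i + 1) hbm).1
          rw [map_smul, map_smul, ha', bot_trans M m1 (m1 + l) _ fs (i + 1) hbn hbm, hz'2,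
            Nat.add_sub_cancel_left]
        refine ⟨m1 + l, Nat.le_add_right _ _,
          mkE (f ^ (m1 + l) • 𝟙 (koszulCx M (fs.map (· ^ (m1 + l))))) i a' 0, ?_⟩
        rw [koszulTrans_cons_apply M m1 (m1 + l) _, fstE_mkE, sndE_mkE, map_zero, d_mkE, hda',
          neg_zero, map_zero, add_zero, smul_id_f_apply, key]
    let tu : (mappingCone (f ^ m2 • 𝟙 (koszulCx M (fs.map (· ^ m2))))).X i :=
      (koszulTrans M m1 m2 h2 (f :: fs)).f i u
    refine ⟨m2, h1.trans h2, tu + w2, ?_⟩
    have e0 := koszulTrans_comp_apply M n m1 m2 h1 h2 (f :: fs) (i + 1) z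
    have e2 : (koszulTrans M m1 m2 h2 (f :: fs)).f (i + 1)
        ((mappingCone (f ^ m1 • 𝟙 (koszulCx M (fs.map (· ^ m1))))).d i (i + 1) u) =
        (mappingCone (f ^ m2 • 𝟙 (koszulCx M (fs.map (· ^ m2))))).d i (i + 1) tu :=
      hom_comm_apply (koszulTrans M m1 m2 h2 (f :: fs)) i (i + 1) u
    have e3 : (mappingCone (f ^ m2 • 𝟙 (koszulCx M (fs.map (· ^ m2))))).d i (i + 1) (tu + w2) =
        (mappingCone (f ^ m2 • 𝟙 (koszulCx M (fs.map (· ^ m2))))).d i (i + 1) tu +
          (mappingCone (f ^ m2 • 𝟙 (koszulCx M (fs.map (· ^ m2))))).d i (i + 1) w2 :=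
      map_add _ _ _
    refine e0.symm.trans ?_
    refine (congrArg ((koszulTrans M m1 m2 h2 (f :: fs)).f (i + 1)) hsplit).trans ?_
    refine (map_add ((koszulTrans M m1 m2 h2 (f :: fs)).f (i + 1)).hom _ _).trans ?_
    exact (congrArg₂ (· + ·) e2 hw2).trans e3.symm

end main

end Groth.Agent.Lib.KoszulElem
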