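import Groth.Agent.Lib.AffineLocCoh9
import Groth.Agent.S5162
import Groth.Agent.S5173
import Groth.Agent.Lib.H29Depth
import Groth.Agent.Lib.HartogsConverse
import Groth.Agent.Lib.DepthLoc33

set_option autoImplicit false
universe u

namespace Groth.Agent.Lib.AffineLocCoh9

open AlgebraicGeometry CategoryTheory TopologicalSpace Opposite CohIII
open Groth.Agent.Lib.QCohStalk Groth.Agent.Lib.KoszulLim9

section alg

/-- Koszul-limit cohomology vanishes below `n` iff the depth is at least `n`. -/
theorem koszul_vanish_iff_depth (A : Type u) [CommRing A] [IsNoetherianRing A] (fs : List A)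
    (N : Type u) [AddCommGroup N] [Module A N] [Module.Finite A N] (n : ℕ) :
    (∀ i, i < n → Subsingleton (koszulHLim fs (ModuleCat.of A N) i)) ↔
      (n : ℕ∞) ≤ LocCoh.idealDepth (Ideal.span {a | a ∈ fs}) N := by
  set J : Ideal A := Ideal.span {a | a ∈ fs} with hJ
  have h1 : (∀ i, i < n → Subsingleton (koszulHLim fs (ModuleCat.of A N) i)) ↔
      (∀ i, i < n → Subsingleton (LocCoh.H J i N)) := by
    constructor
    · intro h i hi
      obtain ⟨e⟩ := Groth.Agent.S5173.result A fs N i
      haveI := h i hi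
      exact e.toEquiv.subsingleton
    · intro h i hi
      obtain ⟨e⟩ := Groth.Agent.S5173.result A fs N i
      haveI := h i hi
      exact e.symm.toEquiv.subsingleton
  rw [h1, Groth.Agent.Lib.H29Depth.le_idealDepth_iff_ext' J N n]
  obtain ⟨hA, hB⟩ := Groth.Agent.S5162.result A J N n
  have hsupp : Module.support A (A ⧸ J) = PrimeSpectrum.zeroLocus (J : Set A) := by
    rw [Module.support_eq_zeroLocus, Ideal.annihilator_quotient]
  constructor
  · intro h
    exact hA.1 h (A ⧸ J) inferInstance hsupp.le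
  · intro h
    exact hB.2 ⟨A ⧸ J, inferInstance, inferInstance, inferInstance, hsupp, h⟩

end alg

section affine

variable (X : Scheme.{u}) [IsAffine X] [IsNoetherianRing Γ(X, ⊤)]

/-- on a Noetherian affine scheme every open is a finite union of basic opens. -/
theorem exists_list (U : X.Opens) : ∃ fs : List Γ(X, ⊤), U = UU X fs := by
  classical
  haveI : NoetherianSpace X := noetherianSpace_of_isAffine
  obtain ⟨Us, hsub, hfin, hU⟩ := (isBasis_basicOpen X).exists_finite_of_isCompact (U := U)
    (NoetherianSpace.isCompact _)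
  let g : X.Opens → Γ(X, ⊤) := fun W => if h : ∃ f, X.basicOpen f = W then h.choose else 0
  have hg : ∀ W ∈ Us, X.basicOpen (g W) = W := by
    intro W hW
    obtain ⟨f, hf⟩ := hsub hW
    have h : ∃ f, X.basicOpen f = W := ⟨f, hf⟩
    simp only [g, dif_pos h]
    exact h.choose_spec
  refine ⟨hfin.toFinset.toList.map g, ?_⟩
  rw [hU]
  apply le_antisymm
  · apply sSup_le
    intro W hW
    have hm : g W ∈ hfin.toFinset.toList.map g :=
      List.mem_map.mpr ⟨W, by simpa using hW, rfl⟩
    obtain ⟨i, hi⟩ := List.mem_iff_get.mp hm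
    calc W = X.basicOpen (g W) := (hg W hW).symm
      _ = X.basicOpen ((hfin.toFinset.toList.map g).get i) := by rw [hi]
      _ ≤ _ := hleU X _ i
  · apply iSup_le
    intro i
    have hm := List.get_mem (hfin.toFinset.toList.map g) i
    obtain ⟨W, hW, hWi⟩ := List.mem_map.mp hm
    have hW' : W ∈ Us := by simpa using hW
    rw [← hWi, hg W hW']
    exact le_sSup hW'

/-- **Depth and local cohomology on a Noetherian affine scheme.** -/
theorem HZM_vanish_iff_depth (M : X.Modules) (hM : Coh.IsCoh M) (U : X.Opens) (n : ℕ) :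
    (∀ i, i < n → Subsingleton (LocCohZ.HZM X M i U)) ↔
      ∀ x : X, x ∉ U → (n : ℕ∞) ≤ LocCoh.depth (X.presheaf.stalk x) (M.presheaf.stalk x) := by
  haveI : M.IsQuasicoherent := hM.1
  obtain ⟨fs, rfl⟩ := exists_list X U
  haveI hfin : Module.Finite Γ(X, ⊤) ↑(M.val.obj (op ⊤)) :=
    CohFinite.finite_sections_of_isCoh M hM (isAffineOpen_top X)
  have h1 : (∀ i, i < n → Subsingleton (LocCohZ.HZM X M i (UU X fs))) ↔
      (∀ i, i < n → Subsingleton (koszulHLim fs (ModuleCat.of Γ(X, ⊤) (M.val.obj (op ⊤))) i)) := by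
    constructor
    · intro h i hi
      obtain ⟨e⟩ := koszulHLim_equiv_HZM X M fs i
      haveI := h i hi
      exact e.toEquiv.subsingleton
    · intro h i hi
      obtain ⟨e⟩ := koszulHLim_equiv_HZM X M fs i
      haveI := h i hi
      exact e.symm.toEquiv.subsingleton
  rw [h1, koszul_vanish_iff_depth Γ(X, ⊤) fs ↑(M.val.obj (op ⊤)) n,
    H8CM.idealDepth_eq_iInf_depth_localizedModule]
  have hmem : ∀ (x : X) (f : Γ(X, ⊤)), x ∈ X.basicOpen f ↔
      f ∉ ((isAffineOpen_top X).primeIdealOf ⟨x, trivial⟩).asIdeal := by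
    intro x f
    rw [← AssPoints.isUnit_germ_iff (isAffineOpen_top X) ⟨x, trivial⟩ f]
    exact X.mem_basicOpen f x trivial
  constructor
  · intro h x hx
    rw [HartogsConverse.depth_stalk_eq_depth_localizedModule M (isAffineOpen_top X) ⟨x, trivial⟩]
    refine (le_iInf₂_iff.1 h) _ ?_
    rw [Ideal.span_le]
    intro f hf
    by_contra hcon
    obtain ⟨i, hi⟩ := List.mem_iff_get.mp hf
    apply hx
    apply hleU X fs i
    rw [hi]
    exact (hmem x f).2 hcon
  · intro h
    refine le_iInf₂ fun p hp => ?_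
    have hx : (isAffineOpen_top X).fromSpec p ∉ UU X fs := by
      intro hx
      obtain ⟨i, hi⟩ := Opens.mem_iSup.mp hx
      rw [hmem, AssPoints.primeIdealOf_fromSpec] at hi
      exact hi (hp (Ideal.subset_span (List.get_mem fs i)))
    have h2 := h _ hx
    rw [HartogsConverse.depth_stalk_eq_depth_localizedModule M (isAffineOpen_top X)
      ⟨_, AssPoints.fromSpec_mem (isAffineOpen_top X) p⟩] at h2
    haveI : (((isAffineOpen_top X).primeIdealOf
        ⟨(isAffineOpen_top X).fromSpec p, AssPoints.fromSpec_mem (isAffineOpen_top X) p⟩).asIdeal).IsPrime :=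
      PrimeSpectrum.isPrime _
    rw [DepthLoc33.depth_localization_congr Γ(M, ⊤)
      (congrArg PrimeSpectrum.asIdeal (AssPoints.primeIdealOf_fromSpec (isAffineOpen_top X) p))] at h2
    exact h2

end affine

end Groth.Agent.Lib.AffineLocCoh9
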