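import Groth.Agent.S6022

set_option autoImplicit false
universe u

namespace Groth.Agent.Lib.AffineLocCoh9

open CategoryTheory CategoryTheory.Limits TopologicalSpace Opposite

section sheafify

variable {X : TopCat.{u}}

/-- a presheaf of abelian groups vanishing on a basis has zero sheafification. -/
theorem isZero_sheafify_of_basis (P : (Opens X)ᵒᵖ ⥤ AddCommGrpCat.{u})
    (B : Set (Opens X)) (hB : Opens.IsBasis B) (hP : ∀ V ∈ B, IsZero (P.obj (op V))) :
    IsZero ((presheafToSheaf (Opens.grothendieckTopology X) AddCommGrpCat.{u}).obj P) := by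
  have key : ∀ (G : Sheaf (Opens.grothendieckTopology X) AddCommGrpCat.{u}) (φ ψ : P ⟶ G.obj),
      φ = ψ := by
    intro G φ ψ
    ext V s
    have hex : ∀ x : V.unop, ∃ W ∈ B, x.1 ∈ W ∧ W ≤ V.unop := fun x =>
      Opens.isBasis_iff_nbhd.mp hB x.2
    choose W hWB hxW hWV using hex
    have hcov : V.unop ≤ iSup W := fun x hx => Opens.mem_iSup.mpr ⟨⟨x, hx⟩, hxW ⟨x, hx⟩⟩
    refine TopCat.Sheaf.eq_of_locally_eq' (X := X) G W V.unop (fun x => homOfLE (hWV x)) hcov _ _ ?_
    intro x
    have hsub : Subsingleton ↑(P.obj (op (W x))) :=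
      AddCommGrpCat.subsingleton_of_isZero (hP _ (hWB x))
    have h1 := congr($(φ.naturality (homOfLE (hWV x)).op) s)
    have h2 := congr($(ψ.naturality (homOfLE (hWV x)).op) s)
    simp only [AddCommGrpCat.hom_comp, AddMonoidHom.coe_comp, Function.comp_apply] at h1 h2
    rw [← h1, ← h2, Subsingleton.elim ((P.map (homOfLE (hWV x)).op).hom s) 0, map_zero, map_zero]
  rw [IsZero.iff_id_eq_zero]
  apply ((sheafificationAdjunction (Opens.grothendieckTopology X) AddCommGrpCat.{u}).homEquiv P _).injective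
  exact key _ _ _

end sheafify

section hzsh

open LocCohZ
open Groth.Agent.Lib.SectDerived (sect)
open Groth.Agent.Lib.HZPairDerived (gammaZV)

/-- vanishing of cohomology with supports over the members of a basis gives vanishing of the local
cohomology sheaf (variant of `Groth.Agent.S6022.backward`). -/
theorem isZero_HZsh_of_basis {X : TopCat.{u}} (F : CohTop.Ab X) (U : Opens X) (i : ℕ)
    (B : Set (Opens X)) (hB : Opens.IsBasis B)
    (h : ∀ V ∈ B, Subsingleton (LocCohZ.HZ F i (inf_le_left : V ⊓ U ≤ V))) :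
    IsZero ((LocCohZ.HZsh U i).obj F) := by
  let J := Opens.grothendieckTopology X
  let T := LocCohZ.sectSuppF U
  let ι := sheafToPresheaf J AddCommGrpCat.{u}
  let sh := presheafToSheaf J AddCommGrpCat.{u}
  let P : (Opens X)ᵒᵖ ⥤ AddCommGrpCat.{u} := ((T ⋙ ι).rightDerived i).obj F
  have hP : ∀ V ∈ B, IsZero (P.obj (op V)) := by
    intro V hV
    have e1 := Groth.Agent.Lib.RightDerivedPostComp.postCompIsoApp (T ⋙ ι)
      ((evaluation (Opens X)ᵒᵖ AddCommGrpCat.{u}).obj (op V)) i F
    have e2 : ((T ⋙ ι) ⋙ (evaluation (Opens X)ᵒᵖ AddCommGrpCat.{u}).obj (op V)).rightDerived i ≅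
        (gammaZV U V).rightDerived i :=
      Groth.Agent.Lib.RightDerivedPostComp.rightDerivedIsoOfIso (Functor.associator _ _ _) i
    obtain ⟨e3⟩ := Groth.Agent.Lib.HZPairDerived.nonempty_rightDerived_obj_iso U V F i
    have := h V hV
    exact (AddCommGrpCat.isZero_of_subsingleton _).of_iso (e1 ≪≫ e2.app F ≪≫ e3)
  have e : T ≅ (T ⋙ ι) ⋙ sh :=
    T.rightUnitor.symm ≪≫
      Functor.isoWhiskerLeft T (asIso (sheafificationAdjunction J AddCommGrpCat.{u}).counit).symm ≪≫
      (Functor.associator _ _ _).symm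
  have e4 := Groth.Agent.Lib.RightDerivedPostComp.rightDerivedIsoOfIso e i
  have e5 := Groth.Agent.Lib.RightDerivedPostComp.postCompIsoApp (T ⋙ ι) sh i F
  exact (isZero_sheafify_of_basis P B hB hP).of_iso (e4.app F ≪≫ e5.symm)

end hzsh

end Groth.Agent.Lib.AffineLocCoh9
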