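import Groth.Agent.Lib.LocCohBaseChange
import Groth.Agent.Lib.LocCohTorsion

/-!
# Localization of local cohomology; consequences of flat base change (helper53)
-/

set_option maxHeartbeats 400000
universe u
open CategoryTheory CategoryTheory.Limits Opposite TensorProduct

namespace Groth.Agent.Lib.LocCohLocalization
open Groth.Agent.Lib.LocCohConcrete Groth.Agent.Lib.LocCohLES Groth.Agent.Lib.LocCohBaseChange

variable {R : Type u} [CommRing R] [IsNoetherianRing R] (I : Ideal R)

section equiv
variable {R' : Type u} [CommRing R'] (K : Ideal R')
  {N N' : Type u} [AddCommGroup N] [Module R' N] [AddCommGroup N'] [Module R' N']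

/-- a linear equivalence induces a linear equivalence on local cohomology. -/
noncomputable def Hcongr (e : N ≃ₗ[R'] N') (i : ℕ) : LocCoh.H K i N ≃ₗ[R'] LocCoh.H K i N' :=
  LinearEquiv.ofBijective (Hmap K e.toLinearMap i) (Hmap_bijective_of_equiv K e i)

end equiv

/-- flat base change kills: if `H^i_I(M) = 0` then `H^i_{IR'}(R' ⊗ M) = 0`. -/
theorem subsingleton_baseChange {R' : Type u} [CommRing R'] [Algebra R R'] [Module.Flat R R']
    (M : Type u) [AddCommGroup M] [Module R M] (i : ℕ) [Subsingleton (LocCoh.H I i M)] :
    Subsingleton (LocCoh.H (I.map (algebraMap R R')) i (R' ⊗[R] M)) :=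
  (baseChangeEquiv (R' := R') I M i).symm.toEquiv.subsingleton

/-- localization of local cohomology. -/
noncomputable def localizedEquiv (S : Submonoid R) (M : Type u) [AddCommGroup M] [Module R M]
    (i : ℕ) :
    LocalizedModule S (LocCoh.H I i M) ≃ₗ[Localization S]
      LocCoh.H (I.map (algebraMap R (Localization S))) i (LocalizedModule S M) :=
  ((IsLocalizedModule.isBaseChange S (Localization S)
      (LocalizedModule.mkLinearMap S (LocCoh.H I i M))).equiv.symm.trans
    (baseChangeEquiv (R' := Localization S) I M i)).trans
    (Hcongr _ (IsLocalizedModule.isBaseChange S (Localization S)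
      (LocalizedModule.mkLinearMap S M)).equiv i)

/-- cd is local: `cd(R, I) ≤ d` iff `cd(R_p, I R_p) ≤ d` for all primes `p`. -/
theorem cdLE_iff_localizations (d : ℕ) :
    LocCoh.CdLE R I d ↔ ∀ (p : Ideal R) [p.IsPrime],
      LocCoh.CdLE (Localization.AtPrime p) (I.map (algebraMap R (Localization.AtPrime p))) d := by
  constructor
  · intro h p _ N _ _ i hi
    let _ : Module R N := Module.compHom N (algebraMap R (Localization.AtPrime p))
    have : IsScalarTower R (Localization.AtPrime p) N :=
      ⟨fun r b y => by
        change (r • b) • y = algebraMap R (Localization.AtPrime p) r • (b • y)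
        rw [Algebra.smul_def, mul_smul]⟩
    have := isLocalizedModule_id p.primeCompl N (Localization.AtPrime p)
    have e : (Localization.AtPrime p) ⊗[R] N ≃ₗ[Localization.AtPrime p] N :=
      (IsLocalizedModule.isBaseChange p.primeCompl (Localization.AtPrime p)
        (LinearMap.id : N →ₗ[R] N)).equiv
    have : Subsingleton (LocCoh.H I i N) := h N i hi
    have h1 := subsingleton_baseChange (R' := Localization.AtPrime p) I N i
    exact (Hcongr (I.map (algebraMap R (Localization.AtPrime p))) e i).symm.toEquiv.subsingleton
  · intro h M _ _ i hi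
    refine Module.subsingleton_of_localization_maximal (R := R) (M := LocCoh.H I i M)
      (Mₚ := fun P _ => LocalizedModule P.primeCompl (LocCoh.H I i M))
      (f := fun P _ => LocalizedModule.mkLinearMap P.primeCompl (LocCoh.H I i M)) ?_
    intro P hP
    have := h P (LocalizedModule P.primeCompl M) i hi
    exact (localizedEquiv I P.primeCompl M i).toEquiv.subsingleton

end Groth.Agent.Lib.LocCohLocalization
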