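import Groth.Agent.Lib.AffineLocCoh9b
import Groth.Agent.S11618
import Groth.Agent.S11625

set_option autoImplicit false
universe u

namespace Groth.Agent.Lib.AffineLocCoh9

open AlgebraicGeometry CategoryTheory TopologicalSpace Opposite CohIII
open Groth.Agent.Lib.QCohStalk Groth.Agent.Lib.KoszulLim9

section alg2

variable (A : Type u) [CommRing A] [IsNoetherianRing A]

/-- local cohomology with respect to the unit ideal vanishes. -/
theorem subsingleton_H_top (N : Type u) [AddCommGroup N] [Module A N] (i : ℕ) :
    Subsingleton (LocCoh.H (⊤ : Ideal A) i N) := by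
  obtain ⟨-, hB⟩ := Groth.Agent.S5162.result A (⊤ : Ideal A) N (i + 1)
  refine hB.2 ⟨PUnit.{u + 1}, inferInstance, inferInstance, inferInstance, ?_, ?_⟩ i (by omega)
  · rw [Module.support_eq_empty, Submodule.top_coe, PrimeSpectrum.zeroLocus_univ]
  · intro j _
    refine subsingleton_of_forall_eq 0 fun x => ?_
    have hz : 𝟙 (ModuleCat.of A PUnit.{u + 1}) = 0 := by
      apply ModuleCat.hom_ext
      apply LinearMap.ext
      intro y
      exact Subsingleton.elim _ _
    have : x = (Abelian.Ext.mk₀ (𝟙 (ModuleCat.of A PUnit.{u + 1}))).comp x (zero_add j) := by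
      rw [Abelian.Ext.mk₀_id_comp]
    rw [this, hz, Abelian.Ext.mk₀_zero, Abelian.Ext.zero_comp]

/-- local cohomology vanishes above the dimensions of the local rings on `V(J)`. -/
theorem subsingleton_H_of_dim (J : Ideal A) (N : Type u) [AddCommGroup N] [Module A N] (i : ℕ)
    (h : ∀ p : PrimeSpectrum A, J ≤ p.asIdeal →
      ringKrullDim (Localization.AtPrime p.asIdeal) < (i : WithBot ℕ∞)) :
    Subsingleton (LocCoh.H J i N) := by
  rw [← Module.support_eq_empty_iff (R := A), Set.eq_empty_iff_forall_notMem]
  intro p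
  rw [Module.notMem_support_iff]
  obtain ⟨e⟩ := Groth.Agent.S11618.result A J p.asIdeal.primeCompl N i
  suffices hs : Subsingleton (LocCoh.H (Ideal.map (algebraMap A (Localization p.asIdeal.primeCompl)) J) i
      (LocalizedModule p.asIdeal.primeCompl N)) from e.toEquiv.subsingleton
  by_cases hJ : J ≤ p.asIdeal
  · apply Groth.Agent.S11625.result
    exact lt_of_le_of_lt (Module.supportDim_le_ringKrullDim _ _) (h p hJ)
  · have htop : Ideal.map (algebraMap A (Localization p.asIdeal.primeCompl)) J = ⊤ := by
      by_contra hne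
      have hne' := (IsLocalization.map_algebraMap_ne_top_iff_disjoint p.asIdeal.primeCompl
        (Localization p.asIdeal.primeCompl) J).mp hne
      apply hJ
      intro a ha
      by_contra hap
      exact Set.disjoint_left.mp hne' hap ha
    rw [htop]
    exact subsingleton_H_top _ _ i

end alg2

section affine2

variable (X : Scheme.{u}) [IsAffine X] [IsNoetherianRing Γ(X, ⊤)]

/-- On a Noetherian affine scheme, cohomology with supports in `Z` vanishes in degrees above the
dimensions of all local rings at points of `Z`. -/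
theorem HZM_vanish_of_dim (M : X.Modules) [M.IsQuasicoherent] (U : X.Opens) (i : ℕ)
    (h : ∀ x : X, x ∉ U → ringKrullDim (X.presheaf.stalk x) < (i : WithBot ℕ∞)) :
    Subsingleton (LocCohZ.HZM X M i U) := by
  obtain ⟨fs, rfl⟩ := exists_list X U
  obtain ⟨e⟩ := koszulHLim_equiv_HZM X M fs i
  obtain ⟨e2⟩ := Groth.Agent.S5173.result Γ(X, ⊤) fs ↑(M.val.obj (op ⊤)) i
  haveI : Subsingleton (LocCoh.H (Ideal.span {a | a ∈ fs}) i ↑(M.val.obj (op ⊤))) := by
    apply subsingleton_H_of_dim
    intro p hp
    have hmem : ∀ (x : X) (f : Γ(X, ⊤)), x ∈ X.basicOpen f ↔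
        f ∉ ((isAffineOpen_top X).primeIdealOf ⟨x, trivial⟩).asIdeal := by
      intro x f
      rw [← AssPoints.isUnit_germ_iff (isAffineOpen_top X) ⟨x, trivial⟩ f]
      exact X.mem_basicOpen f x trivial
    have hx : (isAffineOpen_top X).fromSpec p ∉ UU X fs := by
      intro hx
      obtain ⟨j, hj⟩ := Opens.mem_iSup.mp hx
      rw [hmem, AssPoints.primeIdealOf_fromSpec] at hj
      exact hj (hp (Ideal.subset_span (List.get_mem fs j)))
    have h2 := h _ hx
    letI := TopCat.Presheaf.algebra_section_stalk X.presheaf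
      (⟨(isAffineOpen_top X).fromSpec p, trivial⟩ : (⊤ : X.Opens))
    haveI : IsLocalization p.asIdeal.primeCompl
        ↑(X.presheaf.stalk ((isAffineOpen_top X).fromSpec p)) :=
      (isAffineOpen_top X).isLocalization_stalk' p trivial
    rw [ringKrullDim_eq_of_ringEquiv (IsLocalization.algEquiv p.asIdeal.primeCompl
      (Localization.AtPrime p.asIdeal)
      (X.presheaf.stalk ((isAffineOpen_top X).fromSpec p))).toRingEquiv]
    exact h2
  haveI : Subsingleton (koszulHLim fs (ModuleCat.of Γ(X, ⊤) (M.val.obj (op ⊤))) i) :=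
    e2.symm.toEquiv.subsingleton
  exact e.symm.toEquiv.subsingleton

end affine2

end Groth.Agent.Lib.AffineLocCoh9
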