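import Groth.Agent.Lib.H78AmpleLocal
import Groth.Prelude.Def_LCI2

set_option autoImplicit false
universe u
open CategoryTheory CategoryTheory.Limits AlgebraicGeometry MonoidalCategory Opposite TopologicalSpace
open Groth.Agent.Lib.H90Invertible Groth.Agent.Lib.StructureModule Groth.Agent.Lib.H78TensorGen
open Groth.Agent.Lib.H78SecCoord Groth.Agent.Lib.H78Atlas Groth.Agent.Lib.H78AtlasOps
open Groth.Agent.Lib.H78Restrict Groth.Agent.Lib.H78AmpleBasis Groth.Agent.Lib.H78QAffine Groth.Agent.Lib.H78KeyLemma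
open Groth.Agent.Lib.H78AmpleLocal

namespace Groth.Agent.Lib.H78RelAmple

variable {X : Scheme.{u}}

/-- **transport of ampleness between open subschemes**: if `L` is ample on (the source of) the open immersion
`j₂` and the quasi-compact `j₁` has smaller range, then `L` is ample on the source of `j₁` -/
theorem isAmple_restrict_of_range_subset {Y₁ Y₂ : Scheme.{u}} (j₁ : Y₁ ⟶ X) (j₂ : Y₂ ⟶ X)
    [IsOpenImmersion j₁] [IsOpenImmersion j₂] [CompactSpace Y₁] (hr : Set.range j₁ ⊆ Set.range j₂)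
    {L : X.Modules} (h : CohB1.IsAmple (L.restrict j₂)) : CohB1.IsAmple (L.restrict j₁) := by
  haveI : IsOpenImmersion (IsOpenImmersion.lift j₂ j₁ hr ≫ j₂) := by
    rw [IsOpenImmersion.lift_fac]; infer_instance
  haveI : IsOpenImmersion (IsOpenImmersion.lift j₂ j₁ hr) := IsOpenImmersion.of_comp _ j₂
  have h1 := isAmple_restrict (IsOpenImmersion.lift j₂ j₁ hr) h
  refine H78AmpleUnit.isAmple_of_iso ?_ h1
  exact (Scheme.Modules.restrictFunctorComp (IsOpenImmersion.lift j₂ j₁ hr) j₂).symm.app L ≪≫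
    (Scheme.Modules.restrictFunctorCongr (IsOpenImmersion.lift_fac j₂ j₁ hr)).app L

/-- ampleness of an iterated restriction -/
theorem isAmple_restrict_restrict_iff {Y₁ Y₂ : Scheme.{u}} (a : Y₂ ⟶ X) (b : Y₁ ⟶ Y₂)
    [IsOpenImmersion a] [IsOpenImmersion b] {L : X.Modules} :
    CohB1.IsAmple ((L.restrict a).restrict b) ↔ CohB1.IsAmple (L.restrict (b ≫ a)) :=
  ⟨H78AmpleUnit.isAmple_of_iso ((Scheme.Modules.restrictFunctorComp b a).symm.app L),
    H78AmpleUnit.isAmple_of_iso ((Scheme.Modules.restrictFunctorComp b a).app L)⟩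


/-- **relative ampleness is local on the base**, in a flexible form: `𝒟` is a family of opens of `Y` over which
`L` is ample, containing arbitrarily small basic opens of every affine open of `Y`. -/
theorem isRelAmple_of_local {X Y : Scheme.{u}} (f : X ⟶ Y) [QuasiCompact f] (L : X.Modules)
    (𝒟 : Set Y.Opens)
    (h1 : ∀ D ∈ 𝒟, CohB1.IsAmple (L.restrict (f ⁻¹ᵁ D).ι))
    (h2 : ∀ (V : Y.Opens), IsAffineOpen V → ∀ y ∈ V, ∃ h : Γ(Y, V), y ∈ Y.basicOpen h ∧ Y.basicOpen h ∈ 𝒟) :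
    RelAmple.IsRelAmple f L := by
  have hinv : PicF.IsInvertible L := by
    refine isInvertible_of_isOpenCover (fun D : 𝒟 => f ⁻¹ᵁ D.1) ?_ (fun D => (h1 D.1 D.2).1)
    refine top_le_iff.1 (fun x _ => ?_)
    obtain ⟨V, hV, hxV, -⟩ := Opens.isBasis_iff_nbhd.1 Y.isBasis_affineOpens
      (show f x ∈ (⊤ : Y.Opens) from trivial)
    obtain ⟨h, hy, hD⟩ := h2 V hV (f x) hxV
    exact Opens.mem_iSup.2 ⟨⟨_, hD⟩, hy⟩
  refine ⟨inferInstance, fun V => ?_⟩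
  haveI : CompactSpace ↥((f ⁻¹ᵁ V.1 : X.Opens) : Scheme.{u}) :=
    isCompact_iff_compactSpace.1 (QuasiCompact.isCompact_preimage (f := f) _ V.1.2 V.2.isCompact)
  have hle : (⊤ : ((f ⁻¹ᵁ V.1 : X.Opens) : Scheme.{u}).Opens) ≤ ((f ⁻¹ᵁ V.1).ι ≫ f) ⁻¹ᵁ V.1 := by
    intro x' _
    exact x'.2
  have h3 : ∀ x' : ((f ⁻¹ᵁ V.1 : X.Opens) : Scheme.{u}), ∃ h : Γ(Y, V.1),
      f ((f ⁻¹ᵁ V.1).ι x') ∈ Y.basicOpen h ∧ Y.basicOpen h ∈ 𝒟 := fun x' => h2 V.1 V.2 _ x'.2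
  choose hh hy hD using h3
  refine isAmple_of_basicOpen_cover (isInvertible_restrict _ hinv)
    (fun x' => ((f ⁻¹ᵁ V.1).ι ≫ f).appLE V.1 ⊤ hle (hh x')) (fun x' => ⟨x', ?_⟩) (fun k => ?_)
  · rw [Scheme.basicOpen_appLE]
    exact ⟨trivial, hy x'⟩
  · rw [isAmple_restrict_restrict_iff]
    haveI : CompactSpace ↥((((f ⁻¹ᵁ V.1 : X.Opens) : Scheme.{u}).basicOpen
        (((f ⁻¹ᵁ V.1).ι ≫ f).appLE V.1 ⊤ hle (hh k)) : Scheme.{u})) := by
      refine isCompact_iff_compactSpace.1 ?_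
      have := isRetrocompact_basicOpen (((f ⁻¹ᵁ V.1).ι ≫ f).appLE V.1 ⊤ hle (hh k)) isCompact_univ isOpen_univ
      simpa using this
    refine isAmple_restrict_of_range_subset _ (f ⁻¹ᵁ Y.basicOpen (hh k)).ι ?_ (h1 _ (hD k))
    rintro _ ⟨b, rfl⟩
    rw [Scheme.Opens.range_ι]
    have hb : b.1 ∈ ((f ⁻¹ᵁ V.1 : X.Opens) : Scheme.{u}).basicOpen
        (((f ⁻¹ᵁ V.1).ι ≫ f).appLE V.1 ⊤ hle (hh k)) := b.2
    have hb' : b.1 ∈ (⊤ : ((f ⁻¹ᵁ V.1 : X.Opens) : Scheme.{u}).Opens) ⊓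
        ((f ⁻¹ᵁ V.1).ι ≫ f) ⁻¹ᵁ (Y.basicOpen (hh k)) := by
      rw [← Scheme.basicOpen_appLE]; exact hb
    exact hb'.2

end Groth.Agent.Lib.H78RelAmple
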