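import Groth.Agent.Lib.H90InvertibleFP
import Groth.Agent.Lib.ModPullback

/-!
# OXMod M3A: pullback of invertible / finite locally free modules (helper90)

* `isInvertible_pullback`: `f^* L` is invertible when `L` is.
* `isFinLocFreeOfRank_pullback`, `isFinLocFree_pullback`.
* `isInvertibleCl_pullCl`: `PicF.pullCl` preserves invertible classes.
-/

set_option autoImplicit false
universe u

open CategoryTheory CategoryTheory.Limits AlgebraicGeometry TopologicalSpace Opposite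
open AlgebraicGeometry.Scheme AlgebraicGeometry.Scheme.Modules

namespace Groth.Agent.Lib.H90Invertible

variable {X Y : Scheme.{u}}

/-- The pullback of an invertible module is invertible. -/
theorem isInvertible_pullback (f : Y ⟶ X) {L : X.Modules} (hL : PicF.IsInvertible L) :
    PicF.IsInvertible ((Scheme.Modules.pullback f).obj L) := by
  intro y
  obtain ⟨V, hV, ⟨e⟩⟩ := hL (f y)
  refine ⟨f ⁻¹ᵁ V, hV, ⟨?_⟩⟩
  exact Groth.Agent.Lib.ModPullback.restrictPullbackIso f V L ≪≫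
    (Scheme.Modules.pullback (f ∣_ V)).mapIso e ≪≫
    (Groth.Agent.Lib.ModPullback.pullbackUnitIso (f ∣_ V)).symm

theorem isInvertibleCl_pullCl (f : Y ⟶ X) {c : PicF.Cl X} (hc : PicF.IsInvertibleCl c) :
    PicF.IsInvertibleCl (PicF.pullCl f c) := by
  obtain ⟨L, rfl, hL⟩ := hc
  exact ⟨_, rfl, isInvertible_pullback f hL⟩

theorem isTrivialCl_pullCl (f : Y ⟶ X) {c : PicF.Cl X} (hc : PicF.IsTrivialCl c) :
    PicF.IsTrivialCl (PicF.pullCl f c) := by
  unfold PicF.IsTrivialCl at hc ⊢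
  subst hc
  exact Quot.sound ⟨(Groth.Agent.Lib.ModPullback.pullbackUnitIso f).symm⟩

/-- The pullback of a free module of rank `n` is free of rank `n`. -/
noncomputable def pullbackFreeModIso (f : Y ⟶ X) (n : ℕ) :
    (Scheme.Modules.pullback f).obj (FlatMod.freeMod X n) ≅ FlatMod.freeMod Y n :=
  PreservesCoproduct.iso (Scheme.Modules.pullback f) _ ≪≫
    Sigma.mapIso (fun _ => (Groth.Agent.Lib.ModPullback.pullbackUnitIso f).symm)

theorem isFinLocFreeOfRank_pullback (f : Y ⟶ X) {n : ℕ} {M : X.Modules}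
    (hM : FlatMod.IsFinLocFreeOfRank n M) :
    FlatMod.IsFinLocFreeOfRank n ((Scheme.Modules.pullback f).obj M) := by
  intro y
  obtain ⟨V, hV, ⟨e⟩⟩ := hM (f y)
  refine ⟨f ⁻¹ᵁ V, hV, ⟨?_⟩⟩
  exact Groth.Agent.Lib.ModPullback.restrictPullbackIso f V M ≪≫
    (Scheme.Modules.pullback (f ∣_ V)).mapIso e ≪≫ pullbackFreeModIso (f ∣_ V) n

theorem isFinLocFree_pullback (f : Y ⟶ X) {M : X.Modules} (hM : FlatMod.IsFinLocFree M) :
    FlatMod.IsFinLocFree ((Scheme.Modules.pullback f).obj M) := by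
  intro y
  obtain ⟨V, n, hV, ⟨e⟩⟩ := hM (f y)
  refine ⟨f ⁻¹ᵁ V, n, hV, ⟨?_⟩⟩
  exact Groth.Agent.Lib.ModPullback.restrictPullbackIso f V M ≪≫
    (Scheme.Modules.pullback (f ∣_ V)).mapIso e ≪≫ pullbackFreeModIso (f ∣_ V) n

theorem isFinLocFreeOfRank_of_iso {n : ℕ} {M M' : X.Modules} (e : M ≅ M')
    (hM : FlatMod.IsFinLocFreeOfRank n M) : FlatMod.IsFinLocFreeOfRank n M' := by
  intro x
  obtain ⟨V, hV, ⟨t⟩⟩ := hM x
  exact ⟨V, hV, ⟨(Scheme.Modules.restrictFunctor V.ι).mapIso e.symm ≪≫ t⟩⟩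

theorem isFinLocFree_of_iso {M M' : X.Modules} (e : M ≅ M') (hM : FlatMod.IsFinLocFree M) :
    FlatMod.IsFinLocFree M' := by
  intro x
  obtain ⟨V, n, hV, ⟨t⟩⟩ := hM x
  exact ⟨V, n, hV, ⟨(Scheme.Modules.restrictFunctor V.ι).mapIso e.symm ≪≫ t⟩⟩

theorem isFinLocFreeOfRank_restrict (j : Y ⟶ X) [IsOpenImmersion j] {n : ℕ} {M : X.Modules}
    (hM : FlatMod.IsFinLocFreeOfRank n M) : FlatMod.IsFinLocFreeOfRank n (M.restrict j) :=
  isFinLocFreeOfRank_of_iso ((restrictFunctorIsoPullback j).app M).symm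
    (isFinLocFreeOfRank_pullback j hM)

theorem isFinLocFree_restrict (j : Y ⟶ X) [IsOpenImmersion j] {M : X.Modules}
    (hM : FlatMod.IsFinLocFree M) : FlatMod.IsFinLocFree (M.restrict j) :=
  isFinLocFree_of_iso ((restrictFunctorIsoPullback j).app M).symm (isFinLocFree_pullback j hM)

theorem isFinLocFreeOfRank_freeMod (X : Scheme.{u}) (n : ℕ) :
    FlatMod.IsFinLocFreeOfRank n (FlatMod.freeMod X n) := fun _ =>
  ⟨⊤, trivial, ⟨(restrictFunctorIsoPullback _).app _ ≪≫ pullbackFreeModIso _ n⟩⟩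

theorem isFinLocFree_freeMod (X : Scheme.{u}) (n : ℕ) : FlatMod.IsFinLocFree (FlatMod.freeMod X n) :=
  fun _ => ⟨⊤, n, trivial, ⟨(restrictFunctorIsoPullback _).app _ ≪≫ pullbackFreeModIso _ n⟩⟩

end Groth.Agent.Lib.H90Invertible
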