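import Groth.Agent.Lib.H78PullSec
import Groth.Agent.Lib.H78RelAmple
import Groth.Agent.Lib.H90InvertiblePullback

/-!
# helper78: ampleness and pullbacks (namespace `Groth.Agent.Lib.H78PullAmple`)

* `isAffineOpen_pullback_inf`: `fst⁻¹U ⊓ snd⁻¹V ⊆ X ×_Z Y` is affine for `U, V` affine over an affine `W ⊆ Z`.
* `isAmple_pullback_of_isAffineHom`: the pullback of an ample module along an affine morphism is ample.
* `resLEPullbackIso`: `(p^*L)|_{U'} ≅ (p.resLE U U')^*(L|_U)`.
* `isRelAmple_baseChange`: relative ampleness is stable under base change.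
-/

set_option autoImplicit false
universe u
open CategoryTheory CategoryTheory.Limits AlgebraicGeometry Opposite TopologicalSpace
open Groth.Agent.Lib.H90Invertible

namespace Groth.Agent.Lib.H78PullAmple

lemma isAffineOpen_pullback_inf {X Y Z : Scheme.{u}} {f : X ⟶ Z} {g : Y ⟶ Z}
    {U : X.Opens} (hU : IsAffineOpen U) {V : Y.Opens} (hV : IsAffineOpen V)
    {W : Z.Opens} (hW : IsAffineOpen W) (hUW : U ≤ f ⁻¹ᵁ W) (hVW : V ≤ g ⁻¹ᵁ W) :
    IsAffineOpen (pullback.fst f g ⁻¹ᵁ U ⊓ pullback.snd f g ⁻¹ᵁ V) := by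
  have : IsAffine U.toScheme := hU
  have : IsAffine W.toScheme := hW
  have : IsAffine V.toScheme := hV
  let f' : U.toScheme ⟶ W := f.resLE _ _ hUW
  let q : V.toScheme ⟶ W := g.resLE _ _ hVW
  let p : pullback f' q ⟶ pullback f g :=
    pullback.map _ _ _ _ U.ι V.ι W.ι (by simp [f']) (by simp [q])
  have hp : IsOpenImmersion p := inferInstance
  have h := isAffineOpen_opensRange p
  convert h
  ext z
  simp [p, Scheme.Pullback.range_map]

/-- the pullback of an ample invertible module along an affine morphism is ample -/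
theorem isAmple_pullback_of_isAffineHom {X X' : Scheme.{u}} (q : X' ⟶ X) [IsAffineHom q]
    {L : X.Modules} (hL : CohB1.IsAmple L) :
    CohB1.IsAmple ((Scheme.Modules.pullback q).obj L) := by
  haveI : CompactSpace X := hL.2.1
  refine ⟨isInvertible_pullback q hL.1, QuasiCompact.compactSpace_of_compactSpace q, fun x' => ?_⟩
  obtain ⟨n, s, hxs, haff⟩ := hL.2.2 (q x')
  obtain ⟨s', hs'⟩ := Groth.Agent.Lib.H78PullSec.exists_pull_sec q hL.1 (n + 1) s
  refine ⟨n, s', ?_, ?_⟩
  · rw [hs']; exact hxs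
  · rw [hs']; exact haff.preimage q

/-- restriction of a pullback to an open `U'` mapping into `U` is the pullback of the restriction -/
noncomputable def resLEPullbackIso {X X' : Scheme.{u}} (p : X' ⟶ X) (U : X.Opens) (U' : X'.Opens)
    (e : U' ≤ p ⁻¹ᵁ U) (L : X.Modules) :
    ((Scheme.Modules.pullback p).obj L).restrict U'.ι ≅
      (Scheme.Modules.pullback (p.resLE U U' e)).obj (L.restrict U.ι) :=
  (Scheme.Modules.restrictFunctorIsoPullback U'.ι).app ((Scheme.Modules.pullback p).obj L) ≪≫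
    (Scheme.Modules.pullbackComp U'.ι p).app L ≪≫
    (Scheme.Modules.pullbackCongr (Scheme.Hom.resLE_comp_ι p e).symm).app L ≪≫
    ((Scheme.Modules.pullbackComp (p.resLE U U' e) U.ι).app L).symm ≪≫
    (Scheme.Modules.pullback (p.resLE U U' e)).mapIso
      ((Scheme.Modules.restrictFunctorIsoPullback U.ι).app L).symm

/-- **relative ampleness is stable under base change** (EGA II 4.6.13 (iii)) -/
theorem isRelAmple_baseChange {X Y Y' : Scheme.{u}} (f : X ⟶ Y) [QuasiCompact f] (g : Y' ⟶ Y)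
    (L : X.Modules) (hL : RelAmple.IsRelAmple f L) :
    RelAmple.IsRelAmple (pullback.snd f g)
      ((Scheme.Modules.pullback (pullback.fst f g)).obj L) := by
  refine Groth.Agent.Lib.H78RelAmple.isRelAmple_of_local (pullback.snd f g) _
    {D' | IsAffineOpen D' ∧ ∃ V : Y.Opens, IsAffineOpen V ∧ D' ≤ g ⁻¹ᵁ V} ?_ ?_
  · rintro D' ⟨hD', V, hV, hDV⟩
    have e : pullback.snd f g ⁻¹ᵁ D' ≤ pullback.fst f g ⁻¹ᵁ (f ⁻¹ᵁ V) := by
      intro z hz
      change f (pullback.fst f g z) ∈ V
      rw [← Scheme.Hom.comp_apply, pullback.condition, Scheme.Hom.comp_apply]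
      exact hDV hz
    have hamp := hL.2 ⟨V, hV⟩
    haveI : IsAffineHom ((pullback.fst f g).resLE (f ⁻¹ᵁ V) (pullback.snd f g ⁻¹ᵁ D') e) := by
      constructor
      intro W hW
      rw [Scheme.Hom.resLE_preimage]
      rw [← (pullback.snd f g ⁻¹ᵁ D').ι.isAffineOpen_iff_of_isOpenImmersion,
        Scheme.Hom.image_preimage_eq_opensRange_inf, Scheme.Opens.opensRange_ι, inf_comm]
      exact isAffineOpen_pullback_inf (hW.image_of_isOpenImmersion (f ⁻¹ᵁ V).ι) hD' hV
        ((f ⁻¹ᵁ V).ι_image_le W) hDV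
    exact Groth.Agent.Lib.H78AmpleUnit.isAmple_of_iso (resLEPullbackIso _ _ _ e L).symm
      (isAmple_pullback_of_isAffineHom _ hamp)
  · intro V' hV' y hy
    obtain ⟨V, hV, hyV, -⟩ := Opens.isBasis_iff_nbhd.1 Y.isBasis_affineOpens
      (show g y ∈ (⊤ : Y.Opens) from trivial)
    obtain ⟨h, hle, hyh⟩ := hV'.exists_basicOpen_le (V := g ⁻¹ᵁ V) ⟨y, hyV⟩ hy
    exact ⟨h, hyh, hV'.basicOpen h, V, hV, hle⟩

end Groth.Agent.Lib.H78PullAmple
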