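import Mathlib.Topology.KrullDimension
import Mathlib.Topology.NoetherianSpace
import Mathlib.Topology.Sober

/-!
# helper42: Noetherian spaces of dimension `≤ 1` (namespace `Groth.Agent.Lib.DimOneTop42`)

* `isClosed_singleton_of_notMem_genericPoints`: in a `T0` space of dimension `≤ 1`, a point which is not the
  generic point of an irreducible component is closed.
* `finite_of_disjoint_genericPoints`: in a Noetherian quasi-sober `T0` space of dimension `≤ 1`, a locally closed
  subset (`S = K ∩ U`, `K` closed, `U` open) containing no generic point of an irreducible component is finite.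
* `isClosed_of_disjoint_genericPoints`: such a set is closed.
-/

set_option autoImplicit false

open TopologicalSpace Topology Set

namespace Groth.Agent.Lib.DimOneTop42

variable {Y : Type*} [TopologicalSpace Y]

/-- the closure of a point as an irreducible closed set -/
def ptClosure (y : Y) : IrreducibleCloseds Y :=
  ⟨closure {y}, isIrreducible_singleton.closure, isClosed_closure⟩

lemma mem_irreducibleComponents_of_isMax (Z : IrreducibleCloseds Y) (hZ : IsMax Z) :
    (Z : Set Y) ∈ irreducibleComponents Y := by
  refine ⟨Z.isIrreducible, fun s hs hle => ?_⟩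
  let Z' : IrreducibleCloseds Y := ⟨closure s, hs.closure, isClosed_closure⟩
  have h1 : Z ≤ Z' := fun z hz => subset_closure (hle hz)
  have h2 : Z' ≤ Z := hZ h1
  exact fun z hz => h2 (subset_closure hz)

lemma subsingleton_of_isMin [T0Space Y] (Z : IrreducibleCloseds Y) (hZ : IsMin Z) :
    (Z : Set Y).Subsingleton := by
  have key : ∀ z ∈ (Z : Set Y), (Z : Set Y) ⊆ closure {z} := by
    intro z hz
    have h1 : ptClosure z ≤ Z := fun w hw =>
      (closure_minimal (Set.singleton_subset_iff.mpr hz) Z.isClosed) hw
    exact hZ h1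
  intro a ha b hb
  have h1 : a ⤳ b := specializes_iff_mem_closure.mpr (key a ha hb)
  have h2 : b ⤳ a := specializes_iff_mem_closure.mpr (key b hb ha)
  exact (h1.antisymm h2).eq

theorem isClosed_singleton_of_notMem_genericPoints [T0Space Y] (hdim : topologicalKrullDim Y ≤ 1)
    (y : Y) (hy : y ∉ genericPoints Y) : IsClosed ({y} : Set Y) := by
  rcases Order.krullDim_le_one_iff.mp hdim (ptClosure y) with h | h
  · have hs := subsingleton_of_isMin _ h
    have hy' : y ∈ (ptClosure y : Set Y) := subset_closure rfl
    have : closure ({y} : Set Y) = {y} := by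
      apply Set.Subset.antisymm
      · intro z hz
        exact hs hz hy'
      · exact subset_closure
    rw [← this]
    exact isClosed_closure
  · exact absurd (mem_irreducibleComponents_of_isMax _ h) hy

theorem finite_of_disjoint_genericPoints [NoetherianSpace Y] [QuasiSober Y] [T0Space Y]
    (hdim : topologicalKrullDim Y ≤ 1) (K U : Set Y) (hK : IsClosed K) (hU : IsOpen U)
    (hG : ∀ y ∈ K ∩ U, y ∉ genericPoints Y) : (K ∩ U).Finite := by
  obtain ⟨S, hSf, hSc, hSi, hSU⟩ := NoetherianSpace.exists_finite_set_isClosed_irreducible hK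
  have : K ∩ U = ⋃ D ∈ S, D ∩ U := by
    rw [hSU, Set.sUnion_eq_biUnion, Set.iUnion₂_inter]
  rw [this]
  refine hSf.biUnion fun D hD => ?_
  let Z : IrreducibleCloseds Y := ⟨D, hSi D hD, hSc D hD⟩
  have hDK : D ⊆ K := by rw [hSU]; exact Set.subset_sUnion_of_mem hD
  rcases Order.krullDim_le_one_iff.mp hdim Z with h | h
  · exact ((subsingleton_of_isMin Z h).anti Set.inter_subset_left).finite
  · have hcomp : D ∈ irreducibleComponents Y := mem_irreducibleComponents_of_isMax Z h
    by_cases hne : (D ∩ U).Nonempty
    · exfalso
      have hgen := (hSi D hD).isGenericPoint_genericPoint (hSc D hD)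
      have hξU : (hSi D hD).genericPoint ∈ U := (hgen.mem_open_set_iff hU).mpr hne
      have hξD : (hSi D hD).genericPoint ∈ D := hgen.mem
      refine hG _ ⟨hDK hξD, hξU⟩ ?_
      change closure {(hSi D hD).genericPoint} ∈ irreducibleComponents Y
      rw [hgen.def]
      exact hcomp
    · rw [Set.not_nonempty_iff_eq_empty.mp hne]
      exact Set.finite_empty

theorem isClosed_of_disjoint_genericPoints [NoetherianSpace Y] [QuasiSober Y] [T0Space Y]
    (hdim : topologicalKrullDim Y ≤ 1) (K U : Set Y) (hK : IsClosed K) (hU : IsOpen U)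
    (hG : ∀ y ∈ K ∩ U, y ∉ genericPoints Y) : IsClosed (K ∩ U) := by
  have hfin := finite_of_disjoint_genericPoints hdim K U hK hU hG
  have : K ∩ U = ⋃ y ∈ K ∩ U, {y} := (Set.biUnion_of_singleton (K ∩ U)).symm
  rw [this]
  exact hfin.isClosed_biUnion fun y hy =>
    isClosed_singleton_of_notMem_genericPoints hdim y (hG y hy)

end Groth.Agent.Lib.DimOneTop42
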