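import Groth.Prelude.Def_CAlg
import Mathlib.RingTheory.KrullDimension.Module
import Mathlib.RingTheory.Regular.RegularSequence
import Mathlib.RingTheory.Localization.AtPrime.Basic
import Mathlib.RingTheory.LocalRing.RingHom.Basic

/-!
# Cohen–Macaulay rings (`LocCoh.IsCohenMacaulayRing`) are invariant under ring isomorphisms (helper96)
-/

set_option autoImplicit false
set_option linter.style.haveILetI false
universe u
open RingTheory.Sequence IsLocalRing

namespace Groth.Agent.Lib.CMRingEquiv96

variable {R R' : Type u} [CommRing R] [CommRing R']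

/-- The semilinear equivalence `R ≃ R'` over a ring isomorphism. -/
noncomputable def semi (e : R ≃+* R') :
    letI : RingHomInvPair (e : R →+* R') (e.symm : R' →+* R) := RingHomInvPair.of_ringEquiv e
    letI : RingHomInvPair (e.symm : R' →+* R) (e : R →+* R') := RingHomInvPair.of_ringEquiv e.symm
    R ≃ₛₗ[(e : R →+* R')] R' :=
  letI : RingHomInvPair (e : R →+* R') (e.symm : R' →+* R) := RingHomInvPair.of_ringEquiv e
  letI : RingHomInvPair (e.symm : R' →+* R) (e : R →+* R') := RingHomInvPair.of_ringEquiv e.symm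
  { e.toAddEquiv with
    map_smul' := fun r x => by simp }

theorem isWeaklyRegular_map (e : R ≃+* R') (rs : List R) :
    IsWeaklyRegular R rs ↔ IsWeaklyRegular R' (rs.map e) := by
  letI : RingHomInvPair (e : R →+* R') (e.symm : R' →+* R) := RingHomInvPair.of_ringEquiv e
  letI : RingHomInvPair (e.symm : R' →+* R) (e : R →+* R') := RingHomInvPair.of_ringEquiv e.symm
  exact LinearEquiv.isWeaklyRegular_congr' (semi e) rs

theorem depth_le [IsLocalRing R] [IsLocalRing R'] (e : R ≃+* R') :
    LocCoh.depth R R ≤ LocCoh.depth R' R' := by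
  have hm : (maximalIdeal R) • (⊤ : Submodule R R) ≠ ⊤ := by
    rw [smul_eq_mul, Ideal.mul_top]; exact Ideal.IsPrime.ne_top'
  have hm' : (maximalIdeal R') • (⊤ : Submodule R' R') ≠ ⊤ := by
    rw [smul_eq_mul, Ideal.mul_top]; exact Ideal.IsPrime.ne_top'
  unfold LocCoh.depth LocCoh.idealDepth
  rw [if_neg hm, if_neg hm']
  refine iSup_le fun rs => iSup_le fun hrs => ?_
  refine le_iSup_of_le (rs.map e) (le_iSup_of_le ⟨(isWeaklyRegular_map e rs).mp hrs.1, ?_⟩ ?_)
  · intro r hr
    obtain ⟨r₀, hr₀, rfl⟩ := List.mem_map.mp hr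
    have := hrs.2 r₀ hr₀
    rw [mem_maximalIdeal, mem_nonunits_iff] at this ⊢
    exact fun h => this ((isUnit_map_iff e r₀).mp h)
  · rw [List.length_map]

theorem depth_eq [IsLocalRing R] [IsLocalRing R'] (e : R ≃+* R') :
    LocCoh.depth R R = LocCoh.depth R' R' :=
  le_antisymm (depth_le e) (depth_le e.symm)

theorem isCohenMacaulayLocalRing_of_ringEquiv (e : R ≃+* R')
    [h : LocCoh.IsCohenMacaulayLocalRing R] : LocCoh.IsCohenMacaulayLocalRing R' := by
  have hN : IsNoetherianRing R' := isNoetherianRing_of_ringEquiv R e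
  have hL : IsLocalRing R' := e.isLocalRing
  refine { hN, hL with supportDim_eq_depth := ?_ }
  have h1 := h.supportDim_eq_depth
  rw [Module.supportDim_self_eq_ringKrullDim] at h1 ⊢
  rw [← ringKrullDim_eq_of_ringEquiv e, h1, depth_eq e]

theorem isCohenMacaulayRing_of_ringEquiv (e : R ≃+* R')
    [h : LocCoh.IsCohenMacaulayRing R] : LocCoh.IsCohenMacaulayRing R' := by
  have hN : IsNoetherianRing R' := isNoetherianRing_of_ringEquiv R e
  refine { hN with isCohenMacaulayLocalRing_localization := ?_ }
  intro p hp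
  have hq : (p.comap e).IsPrime := Ideal.comap_isPrime _ _
  let e' : Localization.AtPrime (p.comap e) ≃+* Localization.AtPrime p :=
    IsLocalization.ringEquivOfRingEquiv
      (Localization.AtPrime (p.comap e)) (Localization.AtPrime p) e
      (e.map_primeCompl_comap_eq p)
  have := h.isCohenMacaulayLocalRing_localization (p.comap e)
  exact isCohenMacaulayLocalRing_of_ringEquiv e'

end Groth.Agent.Lib.CMRingEquiv96
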