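import Groth.Agent.Lib.DepthBasic
import Groth.Agent.Lib.DepthRees
import Mathlib.RingTheory.KrullDimension.Regular
import Mathlib.RingTheory.Regular.IsSMulRegular
import Mathlib.RingTheory.Regular.RegularSequence

/-!
# Cohen–Macaulay modules over Noetherian local rings, part 1 (helper8)

For the prelude's `LocCoh.IsCohenMacaulayModule` (`supportDim = depth`):
unmixedness (`dim R/p = dim M` for associated primes), regular elements are exactly those dropping
the dimension, `M` CM iff `M/xM` CM, regular sequences are exactly those dropping the dimension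
by their length.
-/

set_option autoImplicit false
set_option linter.unusedSectionVars false
universe u v

namespace Groth.Agent.Lib.H8CM

open RingTheory.Sequence IsLocalRing Pointwise Module Groth.Agent.Lib.DepthBasic
  Groth.Agent.Lib.DepthRees LocCoh

variable {R : Type u} [CommRing R] [IsLocalRing R] [IsNoetherianRing R]
  {M : Type v} [AddCommGroup M] [Module R M] [Module.Finite R M]

omit [IsLocalRing R] [IsNoetherianRing R] [Module.Finite R M] in
/-- `I M = M` transfers along linear equivalences. -/
theorem smul_top_eq_top_iff_of_equiv {N : Type*} [AddCommGroup N] [Module R N] (I : Ideal R)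
    (e : M ≃ₗ[R] N) :
    I • (⊤ : Submodule R N) = ⊤ ↔ I • (⊤ : Submodule R M) = ⊤ := by
  have h1 : I • (⊤ : Submodule R N) = Submodule.map e.toLinearMap (I • (⊤ : Submodule R M)) := by
    rw [Submodule.map_smul'', Submodule.map_top, LinearEquiv.range]
  have h2 : (⊤ : Submodule R N) = Submodule.map e.toLinearMap (⊤ : Submodule R M) := by
    rw [Submodule.map_top, LinearEquiv.range]
  rw [h1]
  constructor
  · intro h
    rw [h2] at h
    exact Submodule.map_injective_of_injective e.injective h
  · intro h
    rw [h, ← h2]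

omit [IsLocalRing R] [IsNoetherianRing R] [Module.Finite R M] in
/-- The ideal depth is invariant under linear equivalences. -/
theorem idealDepth_eq_of_equiv {N : Type*} [AddCommGroup N] [Module R N] (I : Ideal R)
    (e : M ≃ₗ[R] N) : idealDepth I M = idealDepth I N := by
  unfold idealDepth
  by_cases h : I • (⊤ : Submodule R M) = ⊤
  · rw [if_pos h, if_pos ((smul_top_eq_top_iff_of_equiv I e).mpr h)]
  · rw [if_neg h, if_neg (fun h' ↦ h ((smul_top_eq_top_iff_of_equiv I e).mp h'))]
    simp only [e.isWeaklyRegular_congr]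

omit [IsNoetherianRing R] [Module.Finite R M] in
theorem depth_eq_of_equiv {N : Type*} [AddCommGroup N] [Module R N] (e : M ≃ₗ[R] N) :
    depth R M = depth R N := idealDepth_eq_of_equiv _ e

omit [IsNoetherianRing R] [Module.Finite R M] in
/-- Being Cohen–Macaulay is invariant under linear equivalences. -/
theorem isCM_of_equiv {N : Type*} [AddCommGroup N] [Module R N] (e : M ≃ₗ[R] N)
    (h : IsCohenMacaulayModule R M) : IsCohenMacaulayModule R N := by
  rw [IsCohenMacaulayModule] at h ⊢
  rw [← supportDim_eq_of_equiv e, ← depth_eq_of_equiv e, h]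

/-- A Cohen–Macaulay module is nontrivial. -/
theorem nontrivial_of_isCM (h : IsCohenMacaulayModule R M) : Nontrivial M := by
  by_contra hn
  rw [not_nontrivial_iff_subsingleton] at hn
  rw [IsCohenMacaulayModule, supportDim_eq_bot_of_subsingleton] at h
  exact WithBot.bot_ne_coe h

/-- The support dimension of a nontrivial finite module over a Noetherian local ring is a natural
number. -/
theorem exists_nat_supportDim [Nontrivial M] : ∃ d : ℕ, supportDim R M = (d : WithBot ℕ∞) := by
  have hne : supportDim R M ≠ ⊥ := supportDim_ne_bot_of_nontrivial R M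
  have hlt : supportDim R M < ⊤ := lt_of_le_of_lt (supportDim_le_ringKrullDim R M) ringKrullDim_lt_top
  obtain ⟨d, hd⟩ := WithBot.ne_bot_iff_exists.mp hne
  rw [← hd] at hlt ⊢
  have hd' : d ≠ ⊤ := by
    rintro rfl
    exact lt_irrefl _ hlt
  obtain ⟨n, rfl⟩ := ENat.ne_top_iff_exists.mp hd'
  exact ⟨n, rfl⟩

/-- The depth of a nontrivial finite module is a natural number. -/
theorem exists_nat_depth [Nontrivial M] : ∃ d : ℕ, depth R M = (d : ℕ∞) :=
  (ENat.ne_top_iff_exists.mp (depth_ne_top M)).imp fun _ h ↦ h.symm

/-- `depth M ≤ dim R/p` for every associated prime `p` of `M`. -/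
theorem depth_le_ringKrullDim_quotient [Nontrivial M] {p : Ideal R}
    (hp : p ∈ associatedPrimes R M) :
    ((depth R M : ℕ∞) : WithBot ℕ∞) ≤ ringKrullDim (R ⧸ p) := by
  obtain ⟨d, hd⟩ := exists_nat_depth (R := R) (M := M)
  rw [hd]
  obtain ⟨rs, hlen, hmem, hreg⟩ := (natCast_le_depth_iff M d).mp hd.ge
  have := length_le_ringKrullDim_quotient rs hp hreg hmem
  rwa [hlen] at this

/-- The quotient by an associated prime has dimension at most the support dimension. -/
theorem ringKrullDim_quotient_le_supportDim' {p : Ideal R} (hp : p ∈ associatedPrimes R M) :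
    ringKrullDim (R ⧸ p) ≤ supportDim R M :=
  ringKrullDim_quotient_le_supportDim ⟨p, hp.isPrime⟩ (mem_support_of_mem_associatedPrimes hp)

/-- **Unmixedness**: for a CM module all associated primes `p` have `dim R/p = dim M`. -/
theorem ringKrullDim_quotient_eq_of_isCM (h : IsCohenMacaulayModule R M) {p : Ideal R}
    (hp : p ∈ associatedPrimes R M) : ringKrullDim (R ⧸ p) = supportDim R M := by
  have := nontrivial_of_isCM h
  refine le_antisymm (ringKrullDim_quotient_le_supportDim' hp) ?_
  rw [h]
  exact depth_le_ringKrullDim_quotient hp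

/-- Nakayama: the quotient `M/xM` is nontrivial for `x` in the maximal ideal. -/
theorem nontrivial_quotSMulTop [Nontrivial M] {x : R} (hx : x ∈ maximalIdeal R) :
    Nontrivial (QuotSMulTop x M) :=
  Submodule.Quotient.nontrivial_iff.mpr
    (Submodule.top_ne_pointwise_smul_of_mem_jacobson_annihilator
      (maximalIdeal_le_jacobson _ hx)).symm

/-- Nakayama: `M/(xs)M` is nontrivial for `xs` in the maximal ideal. -/
theorem nontrivial_quotient_ofList [Nontrivial M] {xs : List R}
    (hxs : ∀ x ∈ xs, x ∈ maximalIdeal R) :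
    Nontrivial (M ⧸ Ideal.ofList xs • (⊤ : Submodule R M)) := by
  have hI : Ideal.ofList xs ≤ maximalIdeal R := by
    rw [Ideal.ofList, Ideal.span_le]
    exact fun x hx ↦ hxs x hx
  exact Submodule.Quotient.nontrivial_iff.mpr
    (Submodule.top_ne_ideal_smul_of_le_jacobson_annihilator
      (hI.trans (maximalIdeal_le_jacobson _))).symm

/-- In a CM module, an element of the maximal ideal is regular iff it drops the dimension. -/
theorem isSMulRegular_iff_of_isCM (h : IsCohenMacaulayModule R M) {x : R}
    (hx : x ∈ maximalIdeal R) :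
    IsSMulRegular M x ↔ supportDim R (QuotSMulTop x M) + 1 = supportDim R M := by
  have := nontrivial_of_isCM h
  refine ⟨fun reg ↦ supportDim_quotSMulTop_succ_eq_supportDim reg hx, fun hdim ↦ ?_⟩
  by_contra hreg
  have hmem : x ∈ ⋃ p ∈ associatedPrimes R M, (p : Set R) := by
    rw [biUnion_associatedPrimes_eq_compl_regular R M]
    exact hreg
  simp only [Set.mem_iUnion, SetLike.mem_coe, exists_prop] at hmem
  obtain ⟨p, hp, hxp⟩ := hmem
  have hdimp := ringKrullDim_quotient_eq_of_isCM h hp
  have hsupp : (⟨p, hp.isPrime⟩ : PrimeSpectrum R) ∈ Module.support R (QuotSMulTop x M) := by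
    rw [Module.support_quotSMulTop]
    refine ⟨mem_support_of_mem_associatedPrimes hp, ?_⟩
    simpa [PrimeSpectrum.mem_zeroLocus] using hxp
  have hle := ringKrullDim_quotient_le_supportDim _ hsupp
  rw [show (⟨p, hp.isPrime⟩ : PrimeSpectrum R).asIdeal = p from rfl, hdimp, ← hdim] at hle
  have := nontrivial_quotSMulTop (M := M) hx
  obtain ⟨d, hd⟩ := exists_nat_supportDim (R := R) (M := QuotSMulTop x M)
  rw [hd] at hle
  have : ((d + 1 : ℕ) : WithBot ℕ∞) ≤ (d : WithBot ℕ∞) := by exact_mod_cast hle
  have := (WithBot.coe_le_coe.mp this)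
  have : d + 1 ≤ d := by exact_mod_cast this
  omega

/-- The quotient of a CM module by a regular element of the maximal ideal is CM. -/
theorem isCM_quotSMulTop [Small.{v} R] (h : IsCohenMacaulayModule R M) {x : R}
    (hx : x ∈ maximalIdeal R) (reg : IsSMulRegular M x) :
    IsCohenMacaulayModule R (QuotSMulTop x M) := by
  have := nontrivial_of_isCM h
  have := nontrivial_quotSMulTop (M := M) hx
  have h1 := supportDim_quotSMulTop_succ_eq_supportDim reg hx
  have h2 := depth_quotSMulTop_add_one M hx reg
  obtain ⟨d, hd⟩ := exists_nat_supportDim (R := R) (M := QuotSMulTop x M)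
  obtain ⟨e, he⟩ := exists_nat_depth (R := R) (M := QuotSMulTop x M)
  rw [IsCohenMacaulayModule] at h ⊢
  rw [hd, he]
  rw [hd, h, ← h2, he] at h1
  have : ((d + 1 : ℕ) : WithBot ℕ∞) = ((e + 1 : ℕ) : WithBot ℕ∞) := by exact_mod_cast h1
  have : d + 1 = e + 1 := by exact_mod_cast this
  have : d = e := by omega
  rw [this]
  rfl

/-- If the quotient by a regular element of the maximal ideal is CM, so is the module. -/
theorem isCM_of_quotSMulTop [Small.{v} R] [Nontrivial M] {x : R}
    (hx : x ∈ maximalIdeal R) (reg : IsSMulRegular M x)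
    (h : IsCohenMacaulayModule R (QuotSMulTop x M)) : IsCohenMacaulayModule R M := by
  have h1 := supportDim_quotSMulTop_succ_eq_supportDim reg hx
  have h2 := depth_quotSMulTop_add_one M hx reg
  rw [IsCohenMacaulayModule] at h ⊢
  rw [← h1, ← h2, h]
  push_cast
  rfl

/-- Krull: `dim M ≤ dim M/(xs)M + length xs` for `xs` in the maximal ideal. -/
theorem supportDim_le_supportDim_quotient_ofList_add (xs : List R) :
    ∀ {M : Type v} [AddCommGroup M] [Module R M] [Module.Finite R M],
      (∀ x ∈ xs, x ∈ maximalIdeal R) →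
      supportDim R M ≤ supportDim R (M ⧸ Ideal.ofList xs • (⊤ : Submodule R M)) + xs.length := by
  induction xs with
  | nil =>
    intro M _ _ _ _
    rw [Ideal.ofList_nil, Submodule.bot_smul]
    simpa using (supportDim_eq_of_equiv (Submodule.quotEquivOfEqBot (⊥ : Submodule R M) rfl)).ge
  | cons x xs ih =>
    intro M _ _ _ hmem
    have h1 := supportDim_le_supportDim_quotSMulTop_succ (M := M) (hmem x List.mem_cons_self)
    have h2 := ih (M := QuotSMulTop x M) (fun y hy ↦ hmem y (List.mem_cons_of_mem _ hy))
    rw [supportDim_eq_of_equiv (Submodule.quotOfListConsSMulTopEquivQuotSMulTopInner M x xs),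
      List.length_cons]
    calc supportDim R M ≤ supportDim R (QuotSMulTop x M) + 1 := h1
      _ ≤ supportDim R (QuotSMulTop x M ⧸ Ideal.ofList xs • (⊤ : Submodule R (QuotSMulTop x M))) +
          xs.length + 1 := by gcongr
      _ = _ := by push_cast; rw [add_assoc]

/-- **Regular sequences in a CM module** are exactly the sequences in the maximal ideal dropping the
dimension by their length; the quotient by such a sequence is CM. -/
theorem isWeaklyRegular_iff_of_isCM [Small.{v} R] (xs : List R) :
    ∀ {M : Type v} [AddCommGroup M] [Module R M] [Module.Finite R M],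
      IsCohenMacaulayModule R M → (∀ x ∈ xs, x ∈ maximalIdeal R) →
      ((IsWeaklyRegular M xs ↔
        supportDim R (M ⧸ Ideal.ofList xs • (⊤ : Submodule R M)) + xs.length = supportDim R M) ∧
      (IsWeaklyRegular M xs →
        IsCohenMacaulayModule R (M ⧸ Ideal.ofList xs • (⊤ : Submodule R M)))) := by
  induction xs with
  | nil =>
    intro M _ _ _ h _
    have e := Submodule.quotEquivOfEqBot (Ideal.ofList ([] : List R) • (⊤ : Submodule R M))
      (by rw [Ideal.ofList_nil, Submodule.bot_smul])
    exact ⟨⟨fun _ ↦ by simpa using supportDim_eq_of_equiv e, fun _ ↦ IsWeaklyRegular.nil R M⟩,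
      fun _ ↦ isCM_of_equiv e.symm h⟩
  | cons x xs ih =>
    intro M _ _ _ h hmem
    have hx : x ∈ maximalIdeal R := hmem x List.mem_cons_self
    have hxs : ∀ y ∈ xs, y ∈ maximalIdeal R := fun y hy ↦ hmem y (List.mem_cons_of_mem _ hy)
    have hntM := nontrivial_of_isCM h
    have hnt' := nontrivial_quotSMulTop (M := M) hx
    have hnt'' := nontrivial_quotient_ofList (M := QuotSMulTop x M) hxs
    set e := Submodule.quotOfListConsSMulTopEquivQuotSMulTopInner M x xs with he
    obtain ⟨a, ha⟩ := exists_nat_supportDim (R := R)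
      (M := QuotSMulTop x M ⧸ Ideal.ofList xs • (⊤ : Submodule R (QuotSMulTop x M)))
    obtain ⟨b, hb⟩ := exists_nat_supportDim (R := R) (M := QuotSMulTop x M)
    obtain ⟨c, hc⟩ := exists_nat_supportDim (R := R) (M := M)
    have hdimE : supportDim R (M ⧸ Ideal.ofList (x :: xs) • (⊤ : Submodule R M)) = a := by
      rw [supportDim_eq_of_equiv e, ha]
    refine ⟨⟨fun hreg ↦ ?_, fun hdim ↦ ?_⟩, fun hreg ↦ ?_⟩
    · rw [isWeaklyRegular_cons_iff] at hreg
      have hCM' := isCM_quotSMulTop h hx hreg.1
      have h1 := supportDim_quotSMulTop_succ_eq_supportDim hreg.1 hx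
      have h2 := ((ih hCM' hxs).1).mp hreg.2
      rw [hdimE, ← h1, ← h2, ha, List.length_cons]
      push_cast
      rw [add_assoc]
    · have k1 := supportDim_le_supportDim_quotSMulTop_succ (M := M) hx
      have k2 := supportDim_le_supportDim_quotient_ofList_add xs (M := QuotSMulTop x M) hxs
      rw [hdimE, hc, List.length_cons] at hdim
      rw [hb, hc] at k1
      rw [ha, hb] at k2
      have hdim' : a + (xs.length + 1) = c := by exact_mod_cast hdim
      have k1' : c ≤ b + 1 := by exact_mod_cast k1
      have k2' : b ≤ a + xs.length := by exact_mod_cast k2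
      have e1 : b + 1 = c := by omega
      have e2 : a + xs.length = b := by omega
      have hregx : IsSMulRegular M x := by
        rw [isSMulRegular_iff_of_isCM h hx, hb, hc]
        exact_mod_cast e1
      have hCM' := isCM_quotSMulTop h hx hregx
      rw [isWeaklyRegular_cons_iff]
      refine ⟨hregx, ((ih hCM' hxs).1).mpr ?_⟩
      rw [ha, hb]
      exact_mod_cast e2
    · rw [isWeaklyRegular_cons_iff] at hreg
      have hCM' := isCM_quotSMulTop h hx hreg.1
      exact isCM_of_equiv e.symm ((ih hCM' hxs).2 hreg.2)

end Groth.Agent.Lib.H8CM
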