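import Groth.Agent.Lib.DepthRees
import Groth.Agent.Lib.H8CM
import Mathlib.RingTheory.KrullDimension.NonZeroDivisors

/-!
# Depth along surjections, and Serre's condition modulo a nonzerodivisor
-/

set_option autoImplicit false
universe u v

namespace Groth.Agent.Lib.DepthSurj

open IsLocalRing RingTheory.Sequence Pointwise

/-- Depth does not decrease when passing to a quotient ring acting on the same module. -/
theorem depth_le_depth_of_surjective {R : Type u} {S : Type u} [CommRing R] [CommRing S]
    [IsLocalRing R] [IsLocalRing S] [Algebra R S]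
    (hs : Function.Surjective (algebraMap R S))
    (M : Type v) [AddCommGroup M] [Module R M] [Module S M] [IsScalarTower R S M]
    [Module.Finite R M] [Nontrivial M] :
    LocCoh.depth R M ≤ LocCoh.depth S M := by
  have : Module.Finite S M := Module.Finite.of_restrictScalars_finite R S M
  have : IsLocalHom (algebraMap R S) := IsLocalHom.of_surjective _ hs
  refine ENat.forall_natCast_le_iff_le.mp fun n hn => ?_
  rw [DepthRees.natCast_le_depth_iff] at hn ⊢
  obtain ⟨rs, hlen, hmem, hreg⟩ := hn
  refine ⟨rs.map (algebraMap R S), by simpa using hlen, ?_,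
    (isWeaklyRegular_map_algebraMap_iff S M rs).mpr hreg⟩
  intro s hs'
  obtain ⟨r, hr, rfl⟩ := List.mem_map.mp hs'
  exact map_nonunit (algebraMap R S) r (hmem r hr)

/-- Serre's condition `(S_k)` for a Noetherian local ring `R` gives `(S_{k-1})` for `R/(f)`,
`f` a nonzerodivisor (stated for the closed point only, for a surjection with kernel `(f)`). -/
theorem Sk_of_surjective {R S : Type u} [CommRing R] [CommRing S] [IsLocalRing R] [IsLocalRing S]
    [IsNoetherianRing R] (φ : R →+* S) (hφ : Function.Surjective φ) (f : R)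
    (hf : f ∈ nonZeroDivisors R) (hker : RingHom.ker φ = Ideal.span {f}) (k : ℕ)
    (h : min (k : WithBot ℕ∞) (ringKrullDim R) ≤ ((LocCoh.depth R R : ℕ∞) : WithBot ℕ∞)) :
    min ((k - 1 : ℕ) : WithBot ℕ∞) (ringKrullDim S) ≤
      ((LocCoh.depth S S : ℕ∞) : WithBot ℕ∞) := by
  let _ : Algebra R S := φ.toAlgebra
  have hφf : φ f = 0 := by
    rw [← RingHom.mem_ker, hker]; exact Ideal.mem_span_singleton_self f
  have hfm : f ∈ maximalIdeal R := by
    rw [mem_maximalIdeal, mem_nonunits_iff]
    intro hu
    have := hu.map φ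
    rw [hφf] at this
    exact not_isUnit_zero this
  have hreg : IsSMulRegular R f := by
    intro a b hab
    exact (mul_cancel_left_mem_nonZeroDivisors hf).mp hab
  -- the linear equivalence `R/fR ≃ S`
  have hkerl : LinearMap.ker (Algebra.linearMap R S) = f • (⊤ : Submodule R R) := by
    ext x
    rw [LinearMap.mem_ker, Algebra.linearMap_apply]
    change φ x = 0 ↔ _
    rw [← RingHom.mem_ker, hker, ← Submodule.ideal_span_singleton_smul]
    simp
  have hsurj : Function.Surjective (Algebra.linearMap R S) := hφ
  let e : QuotSMulTop f R ≃ₗ[R] S :=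
    (Submodule.quotEquivOfEq _ _ hkerl.symm).trans
      ((Algebra.linearMap R S).quotKerEquivOfSurjective hsurj)
  have : Module.Finite R S := Module.Finite.of_surjective (Algebra.linearMap R S) hsurj
  have h1 : LocCoh.depth R (QuotSMulTop f R) + 1 = LocCoh.depth R R :=
    DepthRees.depth_quotSMulTop_add_one R hfm hreg
  have h2 : LocCoh.depth R (QuotSMulTop f R) = LocCoh.depth R S := H8CM.depth_eq_of_equiv e
  have h3 : LocCoh.depth R S ≤ LocCoh.depth S S := depth_le_depth_of_surjective hφ S
  have hD : LocCoh.depth R R ≤ LocCoh.depth S S + 1 := by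
    rw [← h1, h2]; gcongr
  have hdim : ringKrullDim S + 1 ≤ ringKrullDim R := ringKrullDim_succ_le_of_surjective φ hφ hf hφf
  -- arithmetic
  rcases k with _ | k
  · exact (min_le_left _ _).trans (by simp)
  · have hk : ((k + 1 - 1 : ℕ) : WithBot ℕ∞) = (k : WithBot ℕ∞) := by simp
    rw [hk]
    have h4 : min ((k : WithBot ℕ∞) + 1) (ringKrullDim S + 1) ≤
        ((LocCoh.depth S S : ℕ∞) : WithBot ℕ∞) + 1 := by
      refine le_trans (le_trans (min_le_min ?_ hdim) h) ?_
      · push_cast; exact le_rfl
      · exact_mod_cast hD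
    rw [min_add_add_right] at h4
    generalize min (k : WithBot ℕ∞) (ringKrullDim S) = m at h4 ⊢
    induction m with
    | bot => exact bot_le
    | coe m =>
      have h5 : m + 1 ≤ LocCoh.depth S S + 1 := by exact_mod_cast h4
      have h6 : m ≤ LocCoh.depth S S := (ENat.add_le_add_iff_right ENat.one_ne_top).mp h5
      exact_mod_cast h6

end Groth.Agent.Lib.DepthSurj
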