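import Groth.Agent.Lib.DepthLoc33

/-!
# Grade along flat local homomorphisms (helper33)

* `le_idealDepth_of_isWeaklyRegular`
* `idealDepth_map_le_of_surjective`: grade over a quotient ring vs. grade over the ring.
* `le_idealDepth_of_le_idealDepth_fibre`: for `R → S` local, `N` a finite `S`-module flat over `R`,
  `grade(I, N ⊗ k) ≤ grade(I, N)`.
-/

set_option autoImplicit false
universe u v w

namespace Groth.Agent.Lib.GradeFlat33

open RingTheory.Sequence IsLocalRing Groth.Agent.Lib TensorProduct
open scoped Pointwise

section Basic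

variable {R : Type u} [CommRing R]

/-- A weakly regular sequence in `I` bounds the `I`-depth from below. -/
lemma le_idealDepth_of_isWeaklyRegular {I : Ideal R} {M : Type v} [AddCommGroup M] [Module R M]
    {rs : List R} (hreg : IsWeaklyRegular M rs) (hmem : ∀ r ∈ rs, r ∈ I) :
    (rs.length : ℕ∞) ≤ LocCoh.idealDepth I M := by
  unfold LocCoh.idealDepth
  split_ifs with h
  · exact le_top
  · exact le_iSup₂_of_le rs ⟨hreg, hmem⟩ le_rfl

/-- Lists in the image of an ideal under a surjection lift. -/
lemma exists_list_map_eq {S : Type v} [CommRing S] (f : R →+* S) (hf : Function.Surjective f)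
    (I : Ideal R) : ∀ rs : List S, (∀ r ∈ rs, r ∈ I.map f) →
      ∃ ys : List R, (∀ y ∈ ys, y ∈ I) ∧ ys.map f = rs := by
  intro rs
  induction rs with
  | nil => intro _; exact ⟨[], by simp, rfl⟩
  | cons r rs ih =>
    intro h
    obtain ⟨ys, hys, hmap⟩ := ih (fun r' hr' => h r' (List.mem_cons_of_mem _ hr'))
    obtain ⟨y, hy, hyr⟩ := (Ideal.mem_map_iff_of_surjective f hf).mp (h r List.mem_cons_self)
    refine ⟨y :: ys, ?_, by simp [hyr, hmap]⟩
    intro z hz
    rcases List.mem_cons.mp hz with rfl | hz
    · exact hy
    · exact hys z hz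

/-- For a surjective `R → S` and an `S`-module `M`, the `IS`-depth of `M` over `S` is at most the
`I`-depth of `M` over `R`. -/
theorem idealDepth_map_le_of_surjective {S : Type v} [CommRing S] [Algebra R S]
    (hf : Function.Surjective (algebraMap R S)) (I : Ideal R) (M : Type w) [AddCommGroup M]
    [Module R M] [Module S M] [IsScalarTower R S M] :
    LocCoh.idealDepth (I.map (algebraMap R S)) M ≤ LocCoh.idealDepth I M := by
  have hcond : (I.map (algebraMap R S)) • (⊤ : Submodule S M) = ⊤ ↔
      I • (⊤ : Submodule R M) = ⊤ := by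
    have h := Ideal.smul_restrictScalars (R := R) (S := S) I (⊤ : Submodule S M)
    rw [Submodule.restrictScalars_top] at h
    rw [← h, Submodule.restrictScalars_eq_top_iff]
  by_cases hc : I • (⊤ : Submodule R M) = ⊤
  · unfold LocCoh.idealDepth
    rw [if_pos hc]
    exact le_top
  · have hc' : ¬ (I.map (algebraMap R S)) • (⊤ : Submodule S M) = ⊤ := fun h => hc (hcond.mp h)
    conv_lhs => unfold LocCoh.idealDepth
    rw [if_neg hc']
    refine iSup_le fun rs => iSup_le fun hrs => ?_
    obtain ⟨ys, hys, hmap⟩ := exists_list_map_eq (algebraMap R S) hf I rs hrs.2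
    have hreg : IsWeaklyRegular M ys := by
      rw [← isWeaklyRegular_map_algebraMap_iff S M ys, hmap]
      exact hrs.1
    have := le_idealDepth_of_isWeaklyRegular hreg hys
    rw [← hmap, List.length_map]
    exact this

end Basic

section Flat

variable {R S : Type u} [CommRing R] [CommRing S] [Algebra R S]
variable [IsLocalRing R] [IsLocalRing S] [IsLocalHom (algebraMap R S)]
variable [IsNoetherianRing R] [IsNoetherianRing S]

/-- Regular elements on the closed fibre are regular on `N` itself (flat case). -/
lemma isSMulRegular_of_fibre (N : Type u) [AddCommGroup N] [Module S N] [Module R N]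
    [IsScalarTower R S N] [Module.Finite S N] [Module.Flat R N] {y : S}
    (hy : IsSMulRegular (N ⊗[R] (R ⧸ maximalIdeal R)) y) : IsSMulRegular N y := by
  have h := DepthFlat33.isSMulRegular_tensor_of_fibre (M := R) (N := N) hy
  let e : N ⊗[R] R ≃ₗ[S] N := TensorProduct.AlgebraTensorModule.rid R S N
  intro a b hab
  have : y • e.symm a = y • e.symm b := by
    rw [← map_smul, ← map_smul]
    exact congrArg e.symm hab
  exact e.symm.injective (h this)

/-- **Grade of the closed fibre bounds the grade**: for `R → S` a local homomorphism of Noetherian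
local rings, `N` a finite `S`-module flat over `R` and `I` a proper ideal of `S`,
`grade(I, N ⊗_R k) ≤ grade(I, N)`. -/
theorem le_idealDepth_of_le_idealDepth_fibre (I : Ideal S) (hI : I ≠ ⊤) :
    ∀ (n : ℕ) (N : Type u) [AddCommGroup N] [Module S N] [Module R N] [IsScalarTower R S N]
      [Module.Finite S N] [Module.Flat R N],
      (n : ℕ∞) ≤ LocCoh.idealDepth I (N ⊗[R] (R ⧸ maximalIdeal R)) →
      (n : ℕ∞) ≤ LocCoh.idealDepth I N := by
  intro n
  induction n with
  | zero => intro N _ _ _ _ _ _ _; simp
  | succ n ih =>
    intro N _ _ _ _ _ _ h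
    rcases subsingleton_or_nontrivial N with hN | hN
    · unfold LocCoh.idealDepth
      rw [if_pos (Subsingleton.elim _ _)]
      exact le_top
    have hfinbar : Module.Finite S (N ⊗[R] (R ⧸ maximalIdeal R)) := DepthFlat33.finite_tensor _ N
    have hntbar : Nontrivial (N ⊗[R] (R ⧸ maximalIdeal R)) := by
      by_contra hcon
      rw [not_nontrivial_iff_subsingleton] at hcon
      have := DepthFlat33.subsingleton_of_subsingleton_fibre (R := R) (S := S) N
      exact not_subsingleton N this
    have hIbar := DepthLoc33.smul_top_ne_top_of_ne_top hI (N ⊗[R] (R ⧸ maximalIdeal R))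
    have hIN := DepthLoc33.smul_top_ne_top_of_ne_top hI N
    obtain ⟨rs, hlen, hmem, hreg⟩ :=
      (DepthRees.natCast_le_idealDepth_iff I _ hIbar (n + 1)).mp h
    obtain ⟨x, rs', rfl⟩ := List.exists_cons_of_length_eq_add_one hlen
    rw [isWeaklyRegular_cons_iff] at hreg
    have hxI : x ∈ I := hmem x List.mem_cons_self
    have hxN : IsSMulRegular N x := isSMulRegular_of_fibre N hreg.1
    have hflat : Module.Flat R (QuotSMulTop x N) := DepthFlat33.flat_quotSMulTop_of_fibre hreg.1
    have h1 : (n : ℕ∞) ≤ LocCoh.idealDepth I (QuotSMulTop x (N ⊗[R] (R ⧸ maximalIdeal R))) := by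
      have := le_idealDepth_of_isWeaklyRegular hreg.2
        (fun r hr => hmem r (List.mem_cons_of_mem _ hr))
      simp only [List.length_cons, Nat.add_right_cancel_iff] at hlen
      rwa [hlen] at this
    rw [DepthFlat33.idealDepth_congr
      (DepthFlat33.quotSMulTopTensorEquiv' (R := R) (R ⧸ maximalIdeal R) N x) I] at h1
    have h2 := ih (QuotSMulTop x N) h1
    rw [← DepthRees.idealDepth_quotSMulTop_add_one I N hIN hxI hxN]
    push_cast
    exact add_le_add_left h2 1

end Flat

end Groth.Agent.Lib.GradeFlat33
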