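import Groth.Agent.Lib.SkFlat33
import Groth.Agent.Lib.GradeFlat33
import Groth.Agent.Lib.DepthSurj
import Mathlib.RingTheory.RingHom.Flat

/-!
# Cohen–Macaulayness along flat local homomorphisms (helper33)

* `depth_quotient_eq`: `depth_B (B/I) = depth_{B/I} (B/I)`.
* `ringKrullDim_eq_depth_iff`: for a flat local hom `A → B` of Noetherian local rings,
  `B` is CM iff `A` is CM and `B/𝔪_A B` is CM.
-/

set_option autoImplicit false
universe u

namespace Groth.Agent.Lib.CMFlat33

open IsLocalRing Groth.Agent.Lib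

section Quot

variable {B : Type u} [CommRing B] [IsLocalRing B] [IsNoetherianRing B]

omit [IsNoetherianRing B] in
/-- The maximal ideal of a local quotient ring is the image of the maximal ideal. -/
lemma maximalIdeal_quotient (I : Ideal B) [IsLocalRing (B ⧸ I)] :
    maximalIdeal (B ⧸ I) = (maximalIdeal B).map (algebraMap B (B ⧸ I)) := by
  have hI : I ≠ ⊤ := Ideal.Quotient.nontrivial_iff.mp inferInstance
  have := IsLocalHom.of_surjective (Ideal.Quotient.mk I) Ideal.Quotient.mk_surjective
  ext x
  obtain ⟨x, rfl⟩ := Ideal.Quotient.mk_surjective x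
  simp [sup_eq_left.mpr (le_maximalIdeal hI)]

/-- `depth_B (B/I) = depth_{B/I} (B/I)`. -/
theorem depth_quotient_eq (I : Ideal B) [IsLocalRing (B ⧸ I)] :
    LocCoh.depth B (B ⧸ I) = LocCoh.depth (B ⧸ I) (B ⧸ I) := by
  have hnt : Nontrivial (B ⧸ I) := inferInstance
  apply le_antisymm
  · exact DepthSurj.depth_le_depth_of_surjective (R := B) (S := B ⧸ I)
      Ideal.Quotient.mk_surjective (B ⧸ I)
  · have := GradeFlat33.idealDepth_map_le_of_surjective (R := B) (S := B ⧸ I)
      Ideal.Quotient.mk_surjective (maximalIdeal B) (B ⧸ I)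
    rw [← maximalIdeal_quotient I] at this
    exact this

end Quot

section Nat

variable (R : Type u) [CommRing R] [IsLocalRing R] [IsNoetherianRing R]

lemma exists_nat_ringKrullDim : ∃ n : ℕ, ringKrullDim R = n := by
  have h1 : ringKrullDim R < ⊤ := ringKrullDim_lt_top
  have h0 := ringKrullDim_nonneg_of_nontrivial (R := R)
  cases h : ringKrullDim R with
  | bot => rw [h] at h0; simp at h0
  | coe d =>
    rw [h] at h1
    have hd : d ≠ ⊤ := by
      rintro rfl
      simp at h1
    obtain ⟨n, rfl⟩ := ENat.ne_top_iff_exists.mp hd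
    exact ⟨n, rfl⟩

lemma exists_nat_depth : ∃ n : ℕ, LocCoh.depth R R = n := by
  obtain ⟨n, hn⟩ := ENat.ne_top_iff_exists.mp (DepthRees.depth_ne_top (R := R) R)
  exact ⟨n, hn.symm⟩

lemma depth_le_ringKrullDim :
    ((LocCoh.depth R R : ℕ∞) : WithBot ℕ∞) ≤ ringKrullDim R := by
  have := DepthRees.depth_le_supportDim (R := R) R
  rwa [Module.supportDim_self_eq_ringKrullDim] at this

end Nat

section Flat

variable {A B : Type u} [CommRing A] [CommRing B] [IsLocalRing A] [IsLocalRing B]
  [IsNoetherianRing A] [IsNoetherianRing B] [Algebra A B] [IsLocalHom (algebraMap A B)]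
  [Module.Flat A B]

/-- For a flat local homomorphism of Noetherian local rings, `B` is Cohen–Macaulay iff both `A`
and the closed fibre `B/𝔪_A B` are. -/
theorem ringKrullDim_eq_depth_iff [IsLocalRing (B ⧸ (maximalIdeal A).map (algebraMap A B))] :
    ringKrullDim B = ((LocCoh.depth B B : ℕ∞) : WithBot ℕ∞) ↔
      (ringKrullDim A = ((LocCoh.depth A A : ℕ∞) : WithBot ℕ∞) ∧
        ringKrullDim (B ⧸ (maximalIdeal A).map (algebraMap A B)) =
          ((LocCoh.depth (B ⧸ (maximalIdeal A).map (algebraMap A B))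
            (B ⧸ (maximalIdeal A).map (algebraMap A B)) : ℕ∞) : WithBot ℕ∞)) := by
  have hsm : (maximalIdeal A).map (algebraMap A B) • (⊤ : Submodule B B) =
      (maximalIdeal A).map (algebraMap A B) := by
    rw [smul_eq_mul, Ideal.mul_top]
  have hdepth := SkFlat33.depth_eq_add (A := A) (B := B)
  rw [DepthFlat33.depth_congr (Submodule.quotEquivOfEq _ _ hsm),
    depth_quotient_eq ((maximalIdeal A).map (algebraMap A B))] at hdepth
  have hdim := SkFlat33.ringKrullDim_eq_add (A := A) (B := B)
  obtain ⟨a, ha⟩ := exists_nat_ringKrullDim A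
  obtain ⟨b, hb⟩ := exists_nat_ringKrullDim B
  obtain ⟨c, hc⟩ := exists_nat_ringKrullDim (B ⧸ (maximalIdeal A).map (algebraMap A B))
  obtain ⟨a', ha'⟩ := exists_nat_depth A
  obtain ⟨b', hb'⟩ := exists_nat_depth B
  obtain ⟨c', hc'⟩ := exists_nat_depth (B ⧸ (maximalIdeal A).map (algebraMap A B))
  have h1 := depth_le_ringKrullDim A
  have h2 := depth_le_ringKrullDim (B ⧸ (maximalIdeal A).map (algebraMap A B))
  rw [ha, hb, hc] at hdim
  rw [ha', hb', hc'] at hdepth
  rw [ha, ha'] at h1
  rw [hc, hc'] at h2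
  rw [ha, hb, hc, ha', hb', hc']
  have e1 : b = a + c := by exact_mod_cast hdim
  have e2 : b' = a' + c' := by exact_mod_cast hdepth
  have e3 : a' ≤ a := by exact_mod_cast h1
  have e4 : c' ≤ c := by exact_mod_cast h2
  constructor
  · intro h
    have : b = b' := by exact_mod_cast h
    constructor
    · have : a = a' := by omega
      rw [this]; rfl
    · have : c = c' := by omega
      rw [this]; rfl
  · rintro ⟨h3, h4⟩
    have e5 : a = a' := by exact_mod_cast h3
    have e6 : c = c' := by exact_mod_cast h4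
    have : b = b' := by omega
    rw [this]; rfl

end Flat

section RingHom

variable {A B : Type u} [CommRing A] [CommRing B] [IsLocalRing A] [IsLocalRing B]
  [IsNoetherianRing A] [IsNoetherianRing B] (φ : A →+* B) [IsLocalHom φ]

lemma isLocalRing_quotient_map : IsLocalRing (B ⧸ Ideal.map φ (maximalIdeal A)) := by
  have : Nontrivial (B ⧸ Ideal.map φ (maximalIdeal A)) :=
    Ideal.Quotient.nontrivial_iff.mpr (map_maximalIdeal_lt_top φ).ne
  exact IsLocalRing.of_surjective' (Ideal.Quotient.mk _) Ideal.Quotient.mk_surjective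

/-- Ring-hom form: for a flat local homomorphism `φ : A → B` of Noetherian local rings, `B` is a
Cohen–Macaulay local ring iff `A` and `B ⧸ 𝔪_A B` are. -/
theorem isCohenMacaulayLocalRing_iff (hφ : φ.Flat) :
    LocCoh.IsCohenMacaulayLocalRing B ↔
      (LocCoh.IsCohenMacaulayLocalRing A ∧
        LocCoh.IsCohenMacaulayLocalRing (B ⧸ Ideal.map φ (maximalIdeal A))) := by
  let _ : Algebra A B := φ.toAlgebra
  have hflat : Module.Flat A B := hφ
  have hloc : IsLocalHom (algebraMap A B) := ‹IsLocalHom φ›
  have hlq : IsLocalRing (B ⧸ Ideal.map (algebraMap A B) (maximalIdeal A)) :=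
    isLocalRing_quotient_map φ
  have key := ringKrullDim_eq_depth_iff (A := A) (B := B)
  constructor
  · intro hB
    have h := hB.supportDim_eq_depth
    rw [Module.supportDim_self_eq_ringKrullDim] at h
    obtain ⟨h1, h2⟩ := key.mp h
    refine ⟨⟨?_⟩, ⟨?_⟩⟩
    · rw [Module.supportDim_self_eq_ringKrullDim]; exact h1
    · rw [Module.supportDim_self_eq_ringKrullDim]; exact h2
  · rintro ⟨hA, hQ⟩
    have h1 := hA.supportDim_eq_depth
    have h2 := hQ.supportDim_eq_depth
    rw [Module.supportDim_self_eq_ringKrullDim] at h1 h2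
    refine ⟨?_⟩
    rw [Module.supportDim_self_eq_ringKrullDim]
    exact key.mpr ⟨h1, h2⟩

end RingHom

section RingHom2

variable {A B : Type u} [CommRing A] [CommRing B] [IsLocalRing A] [IsLocalRing B]
  [IsNoetherianRing A] [IsNoetherianRing B] (φ : A →+* B) [IsLocalHom φ]

/-- Ring-hom form of the depth formula: `depth B = depth A + depth (B/𝔪_A B)` (the last depth over
the ring `B/𝔪_A B` itself). -/
theorem depth_eq_add' (hφ : φ.Flat) [IsLocalRing (B ⧸ Ideal.map φ (maximalIdeal A))] :
    LocCoh.depth B B = LocCoh.depth A A +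
      LocCoh.depth (B ⧸ Ideal.map φ (maximalIdeal A)) (B ⧸ Ideal.map φ (maximalIdeal A)) := by
  let _ : Algebra A B := φ.toAlgebra
  have hflat : Module.Flat A B := hφ
  have hloc : IsLocalHom (algebraMap A B) := ‹IsLocalHom φ›
  have hsm : (maximalIdeal A).map (algebraMap A B) • (⊤ : Submodule B B) =
      (maximalIdeal A).map (algebraMap A B) := by
    rw [smul_eq_mul, Ideal.mul_top]
  have hdepth := SkFlat33.depth_eq_add (A := A) (B := B)
  rw [DepthFlat33.depth_congr (Submodule.quotEquivOfEq _ _ hsm)] at hdepth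
  have hq := depth_quotient_eq (B := B) ((maximalIdeal A).map (algebraMap A B))
  rw [hq] at hdepth
  exact hdepth

/-- Ring-hom form of the dimension formula. -/
theorem ringKrullDim_eq_add' (hφ : φ.Flat) :
    ringKrullDim B = ringKrullDim A + ringKrullDim (B ⧸ Ideal.map φ (maximalIdeal A)) := by
  let _ : Algebra A B := φ.toAlgebra
  have hflat : Module.Flat A B := hφ
  have hloc : IsLocalHom (algebraMap A B) := ‹IsLocalHom φ›
  exact SkFlat33.ringKrullDim_eq_add (A := A) (B := B)

end RingHom2

end Groth.Agent.Lib.CMFlat33
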