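import Groth.Prelude.Def_CAlg
import Groth.Agent.Lib.DepthRees
import Mathlib.RingTheory.Ideal.AssociatedPrime.Localization
import Mathlib.RingTheory.Ideal.AssociatedPrime.Finiteness
import Mathlib.RingTheory.Spectrum.Prime.Module

set_option autoImplicit false
universe u v

namespace Groth.Agent.Lib.SerreSk

open RingTheory.Sequence IsLocalRing Groth.Agent.Lib

variable {R : Type u} [CommRing R]

/-- Over a Noetherian local ring, the maximal ideal is an associated prime of a nontrivial finite
module iff the depth is not at least one. -/
lemma maximalIdeal_mem_associatedPrimes_iff [IsLocalRing R] [IsNoetherianRing R]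
    (N : Type v) [AddCommGroup N] [Module R N] [Module.Finite R N] [Nontrivial N] :
    maximalIdeal R ∈ associatedPrimes R N ↔ ¬ (1 : ℕ∞) ≤ LocCoh.depth R N := by
  have h1 : (1 : ℕ∞) = ((1 : ℕ) : ℕ∞) := by simp
  rw [h1, DepthRees.natCast_le_depth_iff]
  constructor
  · rintro hass ⟨rs, hlen, hmem, hreg⟩
    obtain ⟨x, rfl⟩ := List.length_eq_one_iff.mp hlen
    rw [isWeaklyRegular_singleton_iff] at hreg
    obtain ⟨hprime, n0, hn0⟩ := isAssociatedPrime_iff.mp hass
    have hx : x ∈ maximalIdeal R := hmem x (by simp)
    rw [hn0, Submodule.mem_colon_singleton, Submodule.mem_bot] at hx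
    have hn00 : n0 = 0 := hreg (by simpa using hx)
    apply hprime.ne_top
    rw [hn0, Ideal.eq_top_iff_one, Submodule.mem_colon_singleton, hn00]
    simp
  · intro h
    have hsub : ((maximalIdeal R : Ideal R) : Set R) ⊆
        ⋃ p ∈ associatedPrimes R N, (p : Set R) := by
      rw [biUnion_associatedPrimes_eq_zero_divisors]
      intro x hx
      by_contra hx'
      apply h
      refine ⟨[x], rfl, by simpa using hx, ?_⟩
      rw [isWeaklyRegular_singleton_iff, isSMulRegular_iff_right_eq_zero_of_smul]
      intro n hn
      by_contra hn0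
      exact hx' ⟨n, hn0, hn⟩
    have hfin : (associatedPrimes R N).Finite := associatedPrimes.finite R N
    have hsub' : ((maximalIdeal R : Ideal R) : Set R) ⊆
        ⋃ p ∈ (↑hfin.toFinset : Set (Ideal R)), ((fun q : Ideal R => q) p : Set R) := by
      simpa using hsub
    obtain ⟨q, hq, hle⟩ := (Ideal.subset_union_prime (f := fun q : Ideal R => q) ⊥ ⊥
      (fun i hi _ _ => ((hfin.mem_toFinset).mp hi).isPrime)).mp hsub'
    have hq' : q ∈ associatedPrimes R N := (hfin.mem_toFinset).mp hq
    have hqprime := hq'.isPrime
    have : q = maximalIdeal R :=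
      le_antisymm (IsLocalRing.le_maximalIdeal hqprime.ne_top) hle
    rwa [← this]


section Localization

variable (p : Ideal R) [p.IsPrime] (M : Type v) [AddCommGroup M] [Module R M]

/-- A prime in the support of `M_p` over `R_p` contracts to a prime in the support of `M`. -/
lemma comap_mem_support_of_mem_support (q : PrimeSpectrum (Localization.AtPrime p))
    (hq : q ∈ Module.support (Localization.AtPrime p) (LocalizedModule p.primeCompl M)) :
    PrimeSpectrum.comap (algebraMap R (Localization.AtPrime p)) q ∈ Module.support R M := by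
  rw [Module.mem_support_iff'] at hq ⊢
  obtain ⟨n, hn⟩ := hq
  induction n using LocalizedModule.induction_on with
  | h m s =>
    refine ⟨m, fun r hr hrm => ?_⟩
    refine hn (algebraMap R (Localization.AtPrime p) r) hr ?_
    rw [algebraMap_smul, LocalizedModule.smul'_mk, hrm, LocalizedModule.zero_mk]

/-- A prime `q ≤ p` in the support of `M` extends to a prime in the support of `M_p`. -/
lemma exists_mem_support_localization (q : PrimeSpectrum R) (hq : q ∈ Module.support R M)
    (hqp : q.asIdeal ≤ p) :
    ∃ q' : PrimeSpectrum (Localization.AtPrime p),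
      q' ∈ Module.support (Localization.AtPrime p) (LocalizedModule p.primeCompl M) ∧
      PrimeSpectrum.comap (algebraMap R (Localization.AtPrime p)) q' = q := by
  have hdisj : Disjoint (p.primeCompl : Set R) (q.asIdeal : Set R) := by
    rw [Set.disjoint_left]
    intro x hx hxq
    exact hx (hqp hxq)
  have hprime : (q.asIdeal.map (algebraMap R (Localization.AtPrime p))).IsPrime :=
    IsLocalization.isPrime_of_isPrime_disjoint p.primeCompl _ _ q.2 hdisj
  have hcomap : (q.asIdeal.map (algebraMap R (Localization.AtPrime p))).comap
      (algebraMap R (Localization.AtPrime p)) = q.asIdeal :=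
    IsLocalization.under_map_of_isPrime_disjoint p.primeCompl _ q.2 hdisj
  refine ⟨⟨_, hprime⟩, ?_, PrimeSpectrum.ext hcomap⟩
  rw [Module.mem_support_iff'] at hq ⊢
  obtain ⟨m, hm⟩ := hq
  refine ⟨LocalizedModule.mk m 1, fun x hx hxm => ?_⟩
  obtain ⟨⟨r, s⟩, rfl⟩ := IsLocalization.mk'_surjective p.primeCompl x
  simp only at hx hxm
  have hr : r ∉ q.asIdeal := by
    intro hr
    apply hx
    rw [IsLocalization.mk'_eq_mul_mk'_one]
    exact Ideal.mul_mem_right _ _ (Ideal.mem_map_of_mem _ hr)
  rw [← Localization.mk_eq_mk', LocalizedModule.mk_smul_mk, ← LocalizedModule.zero_mk (s * 1),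
    LocalizedModule.mk_eq] at hxm
  obtain ⟨t, ht⟩ := hxm
  simp only [smul_zero] at ht
  have ht' : (t.1 * (s.1 * r)) • m = 0 := by
    have := ht
    simp only [Submonoid.smul_def, ← mul_smul, mul_one] at this
    rw [← this]
  refine hm (t.1 * (s.1 * r)) ?_ ht'
  intro hmem
  rcases q.2.mem_or_mem hmem with h | h
  · exact t.2 (hqp h)
  · rcases q.2.mem_or_mem h with h | h
    · exact s.2 (hqp h)
    · exact hr h


/-- At a minimal prime of the support of `M`, the localized module has support of dimension `≤ 0`. -/
lemma supportDim_localization_le_zero_of_mem_minimalPrimes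
    (hp : p ∈ (Module.annihilator R M).minimalPrimes) :
    Module.supportDim (Localization.AtPrime p) (LocalizedModule p.primeCompl M) ≤ 0 := by
  unfold Module.supportDim
  have : Subsingleton (Module.support (Localization.AtPrime p)
      (LocalizedModule p.primeCompl M)) := by
    refine ⟨fun a b => Subtype.ext ?_⟩
    have key : ∀ q : PrimeSpectrum (Localization.AtPrime p),
        q ∈ Module.support (Localization.AtPrime p) (LocalizedModule p.primeCompl M) →
        (PrimeSpectrum.comap (algebraMap R (Localization.AtPrime p)) q).asIdeal = p := by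
      intro q hq
      have h1 := Module.annihilator_le_of_mem_support
        (comap_mem_support_of_mem_support p M q hq)
      have h2 : (PrimeSpectrum.comap (algebraMap R (Localization.AtPrime p)) q).asIdeal ≤ p := by
        have := (IsLocalization.disjoint_under_iff p.primeCompl (Localization.AtPrime p)
          q.asIdeal).mpr q.2.ne_top
        intro x hx
        by_contra hxp
        exact Set.disjoint_left.mp this hxp hx
      exact le_antisymm h2 (hp.2 ⟨(PrimeSpectrum.comap _ q).2, h1⟩ h2)
    apply PrimeSpectrum.localization_comap_injective (Localization.AtPrime p) p.primeCompl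
    exact PrimeSpectrum.ext ((key a.1 a.2).trans (key b.1 b.2).symm)
  exact Order.krullDim_nonpos_of_subsingleton

/-- If the localized module `M_p` has support of dimension `≤ 0` and `p` contains the annihilator
of the finite module `M`, then `p` is minimal over the annihilator. -/
lemma mem_minimalPrimes_of_supportDim_localization_le_zero [Module.Finite R M]
    (hle : Module.annihilator R M ≤ p)
    (hdim : Module.supportDim (Localization.AtPrime p) (LocalizedModule p.primeCompl M) ≤ 0) :
    p ∈ (Module.annihilator R M).minimalPrimes := by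
  refine ⟨⟨inferInstance, hle⟩, fun q ⟨hqprime, hq⟩ hqp => ?_⟩
  by_contra hnle
  have hlt : q < p := lt_of_le_of_ne hqp (fun h => hnle (h ▸ le_rfl))
  have hqs : (⟨q, hqprime⟩ : PrimeSpectrum R) ∈ Module.support R M := by
    rw [Module.support_eq_zeroLocus, PrimeSpectrum.mem_zeroLocus]
    exact hq
  have hps : (⟨p, inferInstance⟩ : PrimeSpectrum R) ∈ Module.support R M :=
    Module.mem_support_mono (p := ⟨q, hqprime⟩) hqp hqs
  obtain ⟨q', hq', hq'c⟩ := exists_mem_support_localization p M ⟨q, hqprime⟩ hqs hqp
  obtain ⟨p', hp', hp'c⟩ := exists_mem_support_localization p M ⟨p, inferInstance⟩ hps le_rfl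
  have hlt' : q' < p' := by
    have hle' : q' ≤ p' := by
      have hmax : p'.asIdeal = IsLocalRing.maximalIdeal (Localization.AtPrime p) := by
        have h1 : (PrimeSpectrum.comap (algebraMap R (Localization.AtPrime p))
            (IsLocalRing.closedPoint (Localization.AtPrime p))) = ⟨p, inferInstance⟩ :=
          PrimeSpectrum.ext Localization.AtPrime.under_maximalIdeal
        have := PrimeSpectrum.localization_comap_injective (Localization.AtPrime p) p.primeCompl
          (hp'c.trans h1.symm)
        rw [this]; rfl
      show q'.asIdeal ≤ p'.asIdeal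
      rw [hmax]
      exact IsLocalRing.le_maximalIdeal q'.2.ne_top
    refine lt_of_le_of_ne hle' (fun h => ?_)
    rw [h, hp'c] at hq'c
    have := congrArg PrimeSpectrum.asIdeal hq'c
    simp only at this
    exact hlt.ne this.symm
  have hpos : 0 < Module.supportDim (Localization.AtPrime p) (LocalizedModule p.primeCompl M) := by
    unfold Module.supportDim
    rw [Order.krullDim_pos_iff]
    exact ⟨⟨q', hq'⟩, ⟨p', hp'⟩, hlt'⟩
  exact absurd hdim (not_le.mpr hpos)

end Localization

end Groth.Agent.Lib.SerreSk
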