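/-
helper56: depth and dimension along flat local homomorphisms of Noetherian local rings.

* `depth_le_of_flat`       : `depth A ≤ depth B` for a flat local homomorphism `A → B`.
* `le_depth_of_le_depth_baseChange_of_primary` : if moreover `m_B ≤ rad(m_A B)` (closed fibre of
  dimension `0`), then `n ≤ depth_B (B ⊗ M) → n ≤ depth_A M`.
* `depth_eq_of_flat_of_primary` : `depth A = depth B` in that case.
* `height_eq_of_mem_minimalPrimes` : `R → S` flat, `S` Noetherian, `q` minimal over `pS`, lying over
  `p` ⇒ `ht q = ht p`.
* `ringKrullDim_eq_of_flat_of_primary` : `dim B = dim A`.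
-/
import Groth.Agent.S0785
import Mathlib.RingTheory.Ideal.KrullsHeightTheorem
import Mathlib.RingTheory.Ideal.GoingDown
import Mathlib.RingTheory.RegularLocalRing.Defs

set_option autoImplicit false
universe u

namespace Groth.Agent.Lib.H56FlatLocal

open TensorProduct IsLocalRing RingTheory.Sequence Groth.Agent.Lib Pointwise

section Depth

variable {A B : Type u} [CommRing A] [CommRing B] [IsLocalRing A] [IsLocalRing B]
  [IsNoetherianRing A] [IsNoetherianRing B] [Algebra A B] [IsLocalHom (algebraMap A B)]

/-- A flat local homomorphism does not decrease depth. -/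
theorem depth_le_of_flat [Module.Flat A B] : LocCoh.depth A A ≤ LocCoh.depth B B := by
  refine ENat.forall_natCast_le_iff_le.mp fun n hn => ?_
  obtain ⟨rs, hlen, hmem, hreg⟩ := (DepthRees.natCast_le_depth_iff A n).mp hn
  refine (DepthRees.natCast_le_depth_iff B n).mpr ⟨rs.map (algebraMap A B), ?_, ?_, ?_⟩
  · rw [List.length_map, hlen]
  · intro r hr
    obtain ⟨a, ha, rfl⟩ := List.mem_map.mp hr
    exact map_nonunit (algebraMap A B) a (hmem a ha)
  · exact IsWeaklyRegular.of_flat hreg

/-- Key induction: for a flat local homomorphism whose closed fibre has dimension zero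
(`m_B ≤ rad (m_A B)`), depth does not go up after base change. -/
theorem le_depth_of_le_depth_baseChange_of_primary [Module.Flat A B]
    (hm : maximalIdeal B ≤ ((maximalIdeal A).map (algebraMap A B)).radical) (n : ℕ) :
    ∀ (M : Type u) [AddCommGroup M] [Module A M] [Module.Finite A M] [Nontrivial M],
      (n : ℕ∞) ≤ LocCoh.depth B (B ⊗[A] M) → (n : ℕ∞) ≤ LocCoh.depth A M := by
  have : Module.FaithfullyFlat A B := Module.FaithfullyFlat.of_flat_of_isLocalHom
  obtain ⟨N, hN⟩ := Ideal.exists_radical_pow_le_of_fg ((maximalIdeal A).map (algebraMap A B))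
    (IsNoetherian.noetherian _)
  have hN' : maximalIdeal B ^ N ≤ (maximalIdeal A).map (algebraMap A B) :=
    (Ideal.pow_right_mono hm N).trans hN
  induction n with
  | zero => intro M _ _ _ _ _; exact bot_le
  | succ n ih =>
    intro M _ _ _ _ hn
    have hinj : Function.Injective (TensorProduct.mk A B M 1) :=
      Module.FaithfullyFlat.tensorProduct_mk_injective M
    have : Nontrivial (B ⊗[A] M) := hinj.nontrivial
    -- first, `1 ≤ depth_A M`
    have h1 : (1 : ℕ∞) ≤ LocCoh.depth A M := by
      by_contra hcon
      have hass := (SerreSk.maximalIdeal_mem_associatedPrimes_iff M).mpr hcon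
      obtain ⟨-, v, hv⟩ := isAssociatedPrime_iff.mp hass
      have hv0 : v ≠ 0 := by
        rintro rfl
        have : (1 : A) ∈ maximalIdeal A := by
          rw [hv, Submodule.mem_colon_singleton]; simp
        exact (maximalIdeal.isMaximal A).ne_top ((Ideal.eq_top_iff_one _).mpr this)
      have hw0 : (1 : B) ⊗ₜ[A] v ≠ 0 := fun h => hv0 (hinj (by simpa using h))
      -- `m_A B` kills `w = 1 ⊗ v`
      have hkill : (maximalIdeal A).map (algebraMap A B) ≤
          Submodule.colon (⊥ : Submodule B (B ⊗[A] M)) {(1 : B) ⊗ₜ[A] v} := by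
        rw [Ideal.map_le_iff_le_comap]
        intro a ha
        rw [Ideal.mem_comap, Submodule.mem_colon_singleton, Submodule.mem_bot]
        rw [hv, Submodule.mem_colon_singleton, Submodule.mem_bot] at ha
        rw [TensorProduct.smul_tmul', smul_eq_mul, mul_one, Algebra.algebraMap_eq_smul_one,
          TensorProduct.smul_tmul, ha, TensorProduct.tmul_zero]
      have hassB : maximalIdeal B ∈ associatedPrimes B (B ⊗[A] M) := by
        set w : B ⊗[A] M := (1 : B) ⊗ₜ[A] v with hw
        let W : Submodule B (B ⊗[A] M) := Submodule.span B {w}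
        have hwW : w ∈ W := Submodule.subset_span rfl
        have : Nontrivial W := ⟨⟨⟨w, hwW⟩, 0, fun h => hw0 (congrArg Subtype.val h)⟩⟩
        obtain ⟨P, hP⟩ := associatedPrimes.nonempty B W
        have hPsub : P ∈ associatedPrimes B (B ⊗[A] M) :=
          associatedPrimes.subset_of_injective (f := W.subtype) W.injective_subtype hP
        obtain ⟨hPprime, y, hy⟩ := isAssociatedPrime_iff.mp hP
        have hpow : maximalIdeal B ^ N ≤ P := by
          intro b hb
          have hb' := hkill (hN' hb)
          rw [Submodule.mem_colon_singleton, Submodule.mem_bot] at hb'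
          rw [hy, Submodule.mem_colon_singleton, Submodule.mem_bot]
          obtain ⟨c, hc⟩ := Submodule.mem_span_singleton.mp y.2
          apply Subtype.ext
          rw [Submodule.coe_smul, ← hc, smul_comm, hb', smul_zero]
          rfl
        have hle : maximalIdeal B ≤ P := hPprime.le_of_pow_le hpow
        have : P = maximalIdeal B := le_antisymm (le_maximalIdeal hPprime.ne_top) hle
        rw [← this]; exact hPsub
      have := (SerreSk.maximalIdeal_mem_associatedPrimes_iff (B ⊗[A] M)).mp hassB
      apply this
      refine le_trans ?_ hn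
      exact_mod_cast Nat.succ_le_succ (Nat.zero_le n)
    -- pick a regular element
    obtain ⟨rs, hlen, hmem, hreg⟩ := (DepthRees.natCast_le_depth_iff M 1).mp (by exact_mod_cast h1)
    obtain ⟨x, rfl⟩ := List.length_eq_one_iff.mp hlen
    rw [isWeaklyRegular_singleton_iff] at hreg
    have hxm : x ∈ maximalIdeal A := hmem x (List.mem_singleton_self x)
    have hxB : algebraMap A B x ∈ maximalIdeal B := map_nonunit (algebraMap A B) x hxm
    have hregB : IsSMulRegular (B ⊗[A] M) (algebraMap A B x) := by
      have h := IsWeaklyRegular.of_flat_of_isBaseChange (S := B)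
        (TensorProduct.isBaseChange A M B) ((isWeaklyRegular_singleton_iff M x).mpr hreg)
      simpa [isWeaklyRegular_singleton_iff] using h
    -- Rees
    have hB := DepthRees.depth_quotSMulTop_add_one (B ⊗[A] M) hxB hregB
    have hA := DepthRees.depth_quotSMulTop_add_one M hxm hreg
    have : Nontrivial (QuotSMulTop x M) := by
      apply Submodule.Quotient.nontrivial_iff.mpr
      intro htop
      have h2 : (⊤ : Submodule A M) ≤ maximalIdeal A • ⊤ := by
        intro y _
        have hy : y ∈ x • (⊤ : Submodule A M) := by rw [htop]; exact Submodule.mem_top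
        obtain ⟨m, -, rfl⟩ := (Submodule.mem_smul_pointwise_iff_exists _ _ _).mp hy
        exact Submodule.smul_mem_smul hxm Submodule.mem_top
      exact DepthRees.maximalIdeal_smul_top_ne_top M (top_le_iff.mp h2)
    have : Nontrivial (QuotSMulTop (algebraMap A B x) (B ⊗[A] M)) :=
      ((QuotSMulTop.algebraMapTensorEquivTensorQuotSMulTop x M B).symm.injective.comp
        (Module.FaithfullyFlat.tensorProduct_mk_injective (QuotSMulTop x M))).nontrivial
    have hcongr : LocCoh.depth B (QuotSMulTop (algebraMap A B x) (B ⊗[A] M)) =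
        LocCoh.depth B (B ⊗[A] QuotSMulTop x M) :=
      Groth.Agent.S0785.depth_congr (QuotSMulTop.algebraMapTensorEquivTensorQuotSMulTop x M B)
    have hnB : (n : ℕ∞) ≤ LocCoh.depth B (B ⊗[A] QuotSMulTop x M) := by
      rw [← hcongr]
      rw [← hB] at hn
      have : ((n : ℕ∞) + 1) ≤ LocCoh.depth B (QuotSMulTop (algebraMap A B x) (B ⊗[A] M)) + 1 := by
        exact_mod_cast hn
      exact (ENat.add_le_add_iff_right ENat.one_ne_top).mp this
    have hnA := ih (QuotSMulTop x M) hnB
    rw [← hA]
    have : ((n : ℕ∞) + 1) ≤ LocCoh.depth A (QuotSMulTop x M) + 1 := add_le_add_left hnA 1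
    exact_mod_cast this

/-- For a flat local homomorphism of Noetherian local rings with closed fibre of dimension zero,
the depths agree. -/
theorem depth_eq_of_flat_of_primary [Module.Flat A B]
    (hm : maximalIdeal B ≤ ((maximalIdeal A).map (algebraMap A B)).radical) :
    LocCoh.depth A A = LocCoh.depth B B := by
  refine le_antisymm depth_le_of_flat ?_
  refine ENat.forall_natCast_le_iff_le.mp fun n hn => ?_
  have e : B ≃ₗ[B] B ⊗[A] A := (AlgebraTensorModule.rid A B B).symm
  rw [Groth.Agent.S0785.depth_congr e] at hn
  exact le_depth_of_le_depth_baseChange_of_primary hm n A hn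

end Depth

section Height

variable {R S : Type u} [CommRing R] [CommRing S] [Algebra R S]

/-- `R → S` flat with `S` Noetherian; if the prime `q` of `S` lies over `p` and is minimal over
`pS`, then `ht q = ht p`. -/
theorem height_eq_of_mem_minimalPrimes [Module.Flat R S] [IsNoetherianRing R] [IsNoetherianRing S]
    (p : Ideal R) [p.IsPrime] (q : Ideal S) [q.IsPrime] [q.LiesOver p]
    (hq : q ∈ (p.map (algebraMap R S)).minimalPrimes) : q.height = p.height := by
  rw [Ideal.height_eq_height_add_of_liesOver_of_hasGoingDown p q]
  have hmem : q.map (Ideal.Quotient.mk (p.map (algebraMap R S))) ∈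
      minimalPrimes (S ⧸ p.map (algebraMap R S)) := by
    rw [Ideal.minimalPrimes_eq_comap] at hq
    obtain ⟨Q, hQ, rfl⟩ := hq
    rwa [Ideal.map_comap_of_surjective _ Ideal.Quotient.mk_surjective]
  have : (q.map (Ideal.Quotient.mk (p.map (algebraMap R S)))).IsPrime := hmem.isPrime
  rw [Ideal.height_eq_zero_iff.mpr hmem, add_zero]

end Height

section Dim

variable {A B : Type u} [CommRing A] [CommRing B] [IsLocalRing A] [IsLocalRing B]
  [IsNoetherianRing B] [Algebra A B] [IsLocalHom (algebraMap A B)]

omit [IsNoetherianRing B] in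
theorem maximalIdeal_liesOver : (maximalIdeal B).LiesOver (maximalIdeal A) := by
  have h := ((IsLocalRing.local_hom_TFAE (algebraMap A B)).out 0 4).mp ‹_›
  exact ⟨h.symm⟩

omit [IsNoetherianRing B] in
theorem maximalIdeal_mem_minimalPrimes_of_primary
    (hm : maximalIdeal B ≤ ((maximalIdeal A).map (algebraMap A B)).radical) :
    maximalIdeal B ∈ ((maximalIdeal A).map (algebraMap A B)).minimalPrimes := by
  refine ⟨⟨inferInstance, ?_⟩, ?_⟩
  · rw [Ideal.map_le_iff_le_comap]
    intro a ha
    exact map_nonunit (algebraMap A B) a ha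
  · rintro P ⟨hPprime, hP⟩ -
    exact hm.trans (hPprime.radical_le_iff.mpr hP)

/-- For a flat local homomorphism of local rings (`B` Noetherian) with closed fibre of dimension
zero, the Krull dimensions agree. -/
theorem ringKrullDim_eq_of_flat_of_primary [IsNoetherianRing A] [Module.Flat A B]
    (hm : maximalIdeal B ≤ ((maximalIdeal A).map (algebraMap A B)).radical) :
    ringKrullDim B = ringKrullDim A := by
  have : (maximalIdeal B).LiesOver (maximalIdeal A) := maximalIdeal_liesOver
  rw [← IsLocalRing.maximalIdeal_height_eq_ringKrullDim,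
    ← IsLocalRing.maximalIdeal_height_eq_ringKrullDim,
    height_eq_of_mem_minimalPrimes (maximalIdeal A) (maximalIdeal B)
      (maximalIdeal_mem_minimalPrimes_of_primary hm)]

/-- Regularity ascends along a flat local homomorphism with `m_A B = m_B`. -/
theorem isRegularLocalRing_of_flat_of_map_maximalIdeal [IsRegularLocalRing A] [Module.Flat A B]
    (hm : (maximalIdeal A).map (algebraMap A B) = maximalIdeal B) : IsRegularLocalRing B := by
  apply IsRegularLocalRing.of_spanFinrank_maximalIdeal_le
  have h1 : (maximalIdeal B).spanFinrank ≤ (maximalIdeal A).spanFinrank := by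
    rw [← hm]; exact Ideal.spanFinrank_map_le_of_fg _ (IsNoetherian.noetherian _)
  have hm' : maximalIdeal B ≤ ((maximalIdeal A).map (algebraMap A B)).radical := by
    rw [hm]; exact Ideal.le_radical
  rw [ringKrullDim_eq_of_flat_of_primary hm',
    ← IsRegularLocalRing.spanFinrank_maximalIdeal (R := A)]
  exact_mod_cast h1

end Dim

end Groth.Agent.Lib.H56FlatLocal
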