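/-
helper56: Serre's conditions for a ring as a module over itself, and their behaviour along
flat ring maps at primes `q` minimal over `pS`.

* `selfEquiv p` : `R_p ≃ₗ[R_p] LocalizedModule p.primeCompl R`.
* `hasSk_self_iff` : `HasSk k R R ↔ ∀ p, min k (dim R_p) ≤ depth R_p`.
* `dim_depth_eq_of_mem_minimalPrimes` : `R → S` flat, Noetherian, `q` over `p` minimal over `pS`
   ⇒ `dim S_q = dim R_p` and `depth S_q = depth R_p`.
-/
import Groth.Agent.Lib.H56FlatLocal
import Mathlib.RingTheory.Flat.Localization
import Mathlib.RingTheory.Localization.Module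

set_option autoImplicit false
universe u

namespace Groth.Agent.Lib.H56SerreFlat

open IsLocalRing Groth.Agent.Lib

section Self

variable (R : Type u) [CommRing R] (p : Ideal R) [p.IsPrime]

/-- The canonical `R_p`-linear identification of `R_p` with the localized module of `R`. -/
noncomputable def selfEquiv :
    Localization.AtPrime p ≃ₗ[Localization.AtPrime p] LocalizedModule p.primeCompl R :=
  ((IsLocalizedModule.iso p.primeCompl
    (Algebra.linearMap R (Localization.AtPrime p))).extendScalarsOfIsLocalization p.primeCompl
      (Localization.AtPrime p)).symm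

theorem depth_localizedModule_self :
    LocCoh.depth (Localization.AtPrime p) (LocalizedModule p.primeCompl R) =
      LocCoh.depth (Localization.AtPrime p) (Localization.AtPrime p) :=
  (Groth.Agent.S0785.depth_congr (selfEquiv R p)).symm

theorem supportDim_localizedModule_self :
    Module.supportDim (Localization.AtPrime p) (LocalizedModule p.primeCompl R) =
      ringKrullDim (Localization.AtPrime p) := by
  rw [← Module.supportDim_self_eq_ringKrullDim]

theorem hasSk_self_iff (k : ℕ) :
    LocCoh.HasSk k R R ↔ ∀ (p : Ideal R) [p.IsPrime],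
      min (k : WithBot ℕ∞) (ringKrullDim (Localization.AtPrime p)) ≤
        ((LocCoh.depth (Localization.AtPrime p) (Localization.AtPrime p) : ℕ∞) : WithBot ℕ∞) := by
  unfold LocCoh.HasSk
  refine forall_congr' fun p => forall_congr' fun hp => ?_
  rw [depth_localizedModule_self, supportDim_localizedModule_self]

end Self

section Flat

variable {R S : Type u} [CommRing R] [CommRing S] [Algebra R S] [Module.Flat R S]
  [IsNoetherianRing R] [IsNoetherianRing S]

/-- In a local ring, if the maximal ideal is a minimal prime over `I` then it lies in the radical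
of `I`. -/
theorem le_radical_of_maximalIdeal_mem_minimalPrimes {B : Type u} [CommRing B] [IsLocalRing B]
    {I : Ideal B} (h : maximalIdeal B ∈ I.minimalPrimes) : maximalIdeal B ≤ I.radical := by
  rw [← Ideal.sInf_minimalPrimes]
  refine le_sInf fun P hP => ?_
  have hPprime : P.IsPrime := hP.isPrime
  exact h.2 hP.1 (le_maximalIdeal hPprime.ne_top)

theorem dim_depth_eq_of_mem_minimalPrimes (p : Ideal R) [p.IsPrime] (q : Ideal S) [q.IsPrime]
    [q.LiesOver p] (hq : q ∈ (p.map (algebraMap R S)).minimalPrimes) :
    ringKrullDim (Localization.AtPrime q) = ringKrullDim (Localization.AtPrime p) ∧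
      LocCoh.depth (Localization.AtPrime p) (Localization.AtPrime p) =
        LocCoh.depth (Localization.AtPrime q) (Localization.AtPrime q) := by
  let : Algebra (Localization.AtPrime p) (Localization.AtPrime q) :=
    Localization.AtPrime.algebraOfLiesOver p q
  have hloc : IsLocalHom (algebraMap (Localization.AtPrime p) (Localization.AtPrime q)) :=
    Localization.isLocalHom_localRingHom _ _ _ Ideal.LiesOver.over
  have hmin : maximalIdeal (Localization.AtPrime q) ∈
      ((maximalIdeal (Localization.AtPrime p)).map
        (algebraMap (Localization.AtPrime p) (Localization.AtPrime q))).minimalPrimes := by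
    have h1 : (maximalIdeal (Localization.AtPrime p)).map
        (algebraMap (Localization.AtPrime p) (Localization.AtPrime q)) =
        (p.map (algebraMap R S)).map (algebraMap S (Localization.AtPrime q)) := by
      rw [← Localization.AtPrime.map_eq_maximalIdeal, Ideal.map_map, Ideal.map_map]
      congr 1
      rw [← IsScalarTower.algebraMap_eq, ← IsScalarTower.algebraMap_eq]
    rw [h1, IsLocalization.minimalPrimes_map q.primeCompl, Set.mem_preimage,
      Localization.AtPrime.under_maximalIdeal]
    exact hq
  have hm := le_radical_of_maximalIdeal_mem_minimalPrimes hmin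
  exact ⟨H56FlatLocal.ringKrullDim_eq_of_flat_of_primary hm,
    H56FlatLocal.depth_eq_of_flat_of_primary hm⟩

end Flat

section FaithfullyFlat

variable {R S : Type u} [CommRing R] [CommRing S] [Algebra R S] [Module.FaithfullyFlat R S]

/-- For a faithfully flat ring map, every prime `p` has a prime `q` lying over it which is minimal
over `pS`. -/
theorem exists_mem_minimalPrimes_liesOver (p : Ideal R) [hp : p.IsPrime] :
    ∃ q : Ideal S, q ∈ (p.map (algebraMap R S)).minimalPrimes ∧ q.IsPrime ∧ q.LiesOver p := by
  have hne : p.map (algebraMap R S) ≠ ⊤ := by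
    intro h
    have := Ideal.comap_map_eq_self_of_faithfullyFlat (B := S) p
    rw [h, Ideal.comap_top] at this
    exact hp.ne_top this.symm
  obtain ⟨q, hq⟩ := Ideal.nonempty_minimalPrimes hne
  have hqprime : q.IsPrime := hq.isPrime
  refine ⟨q, hq, hqprime, ?_⟩
  have hle : p ≤ q.under R := by
    rw [Ideal.under, ← Ideal.map_le_iff_le_comap]; exact hq.1.2
  have : q.LiesOver (q.under R) := ⟨rfl⟩
  obtain ⟨P, hPq, hPprime, hPover⟩ :=
    Ideal.exists_ideal_le_liesOver_of_le (p := p) (q := q.under R) q hle
  have hpP : p.map (algebraMap R S) ≤ P := by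
    rw [Ideal.map_le_iff_le_comap]; exact (hPover.over).le
  have hqP : q ≤ P := hq.2 ⟨hPprime, hpP⟩ hPq
  have hPq' : P = q := le_antisymm hPq hqP
  rw [← hPq']; exact hPover

end FaithfullyFlat

end Groth.Agent.Lib.H56SerreFlat
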