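/-
helper56: Serre's condition `(S_k)` and flat local homomorphisms, ring level.

* `SkIneq k A` : the inequality `min k (dim A) ≤ depth A` for a local ring `A`.
* `skIneq_of_flat` : for a flat local homomorphism `A → B` of Noetherian local rings,
  `SkIneq k A` and `SkIneq k (B/m_A B)` imply `SkIneq k B`.
* `skIneq_of_flat_of_dim_zero` : descent when the closed fibre has dimension `0`.
* `hasSk_self_iff'` : `HasSk k R R ↔ ∀ p, SkIneq k R_p`.
-/
import Groth.Agent.Lib.H56SerreFlat
import Groth.Agent.Lib.CMFlat33
import Groth.Agent.Lib.CMRingEquiv96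
import Mathlib.RingTheory.LocalRing.ResidueField.Fiber

set_option autoImplicit false
universe u

namespace Groth.Agent.Lib.H56SkFibre

open IsLocalRing Groth.Agent.Lib

theorem min_add_le (k a f : ℕ∞) : min k (a + f) ≤ min k a + min k f := by
  rcases le_total k a with h | h
  · rw [min_eq_left h]
    exact (min_le_left _ _).trans le_self_add
  · rw [min_eq_right h]
    rcases le_total k f with h' | h'
    · rw [min_eq_left h']
      exact (min_le_left _ _).trans le_add_self
    · rw [min_eq_right h']
      exact min_le_right _ _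

/-- The `(S_k)` inequality at the closed point of a local ring. -/
def SkIneq (k : ℕ) (A : Type u) [CommRing A] [IsLocalRing A] : Prop :=
  min (k : WithBot ℕ∞) (ringKrullDim A) ≤ ((LocCoh.depth A A : ℕ∞) : WithBot ℕ∞)

theorem hasSk_self_iff' (k : ℕ) (R : Type u) [CommRing R] :
    LocCoh.HasSk k R R ↔ ∀ (p : Ideal R) [p.IsPrime], SkIneq k (Localization.AtPrime p) :=
  H56SerreFlat.hasSk_self_iff R k

theorem skIneq_of_ringEquiv {k : ℕ} {A A' : Type u} [CommRing A] [IsLocalRing A] [CommRing A']
    [IsLocalRing A'] (e : A ≃+* A') (h : SkIneq k A) : SkIneq k A' := by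
  unfold SkIneq at h ⊢
  rw [← ringKrullDim_eq_of_ringEquiv e, ← CMRingEquiv96.depth_eq e]
  exact h

/-- Unfolded form of `SkIneq` in `ℕ∞`. -/
theorem skIneq_iff {k : ℕ} {A : Type u} [CommRing A] [IsLocalRing A] {a : ℕ∞}
    (ha : ringKrullDim A = (a : WithBot ℕ∞)) :
    SkIneq k A ↔ min (k : ℕ∞) a ≤ LocCoh.depth A A := by
  unfold SkIneq
  rw [ha]
  have : ((k : ℕ) : WithBot ℕ∞) = (((k : ℕ) : ℕ∞) : WithBot ℕ∞) := rfl
  rw [this, ← WithBot.coe_min, WithBot.coe_le_coe]

theorem exists_coe_ringKrullDim (A : Type u) [CommRing A] [Nontrivial A] :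
    ∃ a : ℕ∞, ringKrullDim A = (a : WithBot ℕ∞) := by
  have h := ringKrullDim_nonneg_of_nontrivial (R := A)
  have hne : ringKrullDim A ≠ ⊥ := by
    intro hb; rw [hb] at h; exact absurd h (by simp)
  exact ⟨(ringKrullDim A).unbot hne, (WithBot.coe_unbot _ hne).symm⟩

section Local

variable {A B : Type u} [CommRing A] [CommRing B] [IsLocalRing A] [IsLocalRing B]
  [IsNoetherianRing A] [IsNoetherianRing B] [Algebra A B] [IsLocalHom (algebraMap A B)]
  [Module.Flat A B]

/-- `(S_k)` ascends along a flat local homomorphism whose closed fibre is `(S_k)`. -/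
theorem skIneq_of_flat {k : ℕ} [IsLocalRing (B ⧸ (maximalIdeal A).map (algebraMap A B))]
    (hA : SkIneq k A) (hF : SkIneq k (B ⧸ (maximalIdeal A).map (algebraMap A B))) :
    SkIneq k B := by
  obtain ⟨a, ha⟩ := exists_coe_ringKrullDim A
  obtain ⟨f, hf⟩ := exists_coe_ringKrullDim (B ⧸ (maximalIdeal A).map (algebraMap A B))
  have hdim : ringKrullDim B = ((a + f : ℕ∞) : WithBot ℕ∞) := by
    rw [CMFlat33.ringKrullDim_eq_add' (algebraMap A B) (RingHom.flat_algebraMap_iff.mpr ‹_›),
      ha, hf, WithBot.coe_add]
  have hdepth := CMFlat33.depth_eq_add' (algebraMap A B) (RingHom.flat_algebraMap_iff.mpr ‹_›)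
  rw [skIneq_iff ha] at hA
  rw [skIneq_iff hf] at hF
  rw [skIneq_iff hdim, hdepth]
  exact (min_add_le _ _ _).trans (add_le_add hA hF)

/-- `(S_k)` descends along a flat local homomorphism with zero-dimensional closed fibre. -/
theorem skIneq_of_flat_of_dim_zero {k : ℕ}
    (h0 : Ring.KrullDimLE 0 (B ⧸ (maximalIdeal A).map (algebraMap A B))) (hB : SkIneq k B) :
    SkIneq k A := by
  unfold SkIneq at hB ⊢
  rwa [SkFlat33.ringKrullDim_eq_of_krullDimLE_zero h0, SkFlat33.depth_eq_of_krullDimLE_zero h0]
    at hB

end Local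

section Quot

variable {A B : Type u} [CommRing A] [CommRing B] [Algebra A B]

/-- Flatness passes to quotients `A/I → B/IB`. -/
theorem flat_quotient [Module.Flat A B] (I : Ideal A) :
    Module.Flat (A ⧸ I) (B ⧸ I.map (algebraMap A B)) :=
  Module.Flat.of_linearEquiv
    (Algebra.TensorProduct.quotIdealMapEquivQuotTensor B I).toLinearEquiv

variable [IsLocalRing A] [IsLocalRing B] [IsLocalHom (algebraMap A B)]

theorem isLocalRing_quotient {C : Type u} [CommRing C] [IsLocalRing C] (J : Ideal C)
    (hJ : J ≠ ⊤) : IsLocalRing (C ⧸ J) := by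
  have : Nontrivial (C ⧸ J) := Ideal.Quotient.nontrivial_iff.mpr hJ
  exact IsLocalRing.of_surjective' (Ideal.Quotient.mk J) Ideal.Quotient.mk_surjective

theorem map_ne_top_of_ne_top (I : Ideal A) (hI : I ≠ ⊤) : I.map (algebraMap A B) ≠ ⊤ := by
  intro h
  have h1 : I.map (algebraMap A B) ≤ (maximalIdeal A).map (algebraMap A B) :=
    Ideal.map_mono (le_maximalIdeal hI)
  rw [h, top_le_iff] at h1
  exact (map_maximalIdeal_lt_top (algebraMap A B)).ne h1

theorem isLocalHom_quotient (I : Ideal A) :
    IsLocalHom (algebraMap (A ⧸ I) (B ⧸ I.map (algebraMap A B))) := by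
  constructor
  intro x hx
  obtain ⟨a, rfl⟩ := Ideal.Quotient.mk_surjective x
  by_cases hI : I = ⊤
  · have : Subsingleton (A ⧸ I) := by rw [hI]; exact Ideal.Quotient.subsingleton_iff.mpr rfl
    exact isUnit_of_subsingleton _
  have hI' := map_ne_top_of_ne_top (B := B) I hI
  have hu : IsUnit (algebraMap A B a) := by
    by_contra hnu
    have h1 : algebraMap A B a ∈ maximalIdeal B := hnu
    obtain ⟨w, hw⟩ := hx.exists_right_inv
    obtain ⟨w, rfl⟩ := Ideal.Quotient.mk_surjective w
    rw [Ideal.Quotient.algebraMap_quotient_map_quotient, ← map_mul,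
      ← map_one (Ideal.Quotient.mk _), Ideal.Quotient.eq] at hw
    have h2 : algebraMap A B a * w - 1 ∈ maximalIdeal B := le_maximalIdeal hI' hw
    have h3 : algebraMap A B a * w ∈ maximalIdeal B := Ideal.mul_mem_right _ _ h1
    have : (1 : B) ∈ maximalIdeal B := by
      have h5 := sub_mem h3 h2
      rwa [sub_sub_cancel] at h5
    exact (Ideal.IsPrime.ne_top inferInstance) ((Ideal.eq_top_iff_one _).mpr this)
  exact (isUnit_of_map_unit (algebraMap A B) a hu).map (Ideal.Quotient.mk I)

variable [IsNoetherianRing A] [IsNoetherianRing B] [Module.Flat A B]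

/-- `(S_k)` for `B/IB` from `(S_k)` for `A/I` and for the closed fibre `B/m_A B`. -/
theorem skIneq_quotient_of_flat {k : ℕ} (I : Ideal A) (hI : I ≠ ⊤)
    [IsLocalRing (A ⧸ I)] [IsLocalRing (B ⧸ I.map (algebraMap A B))]
    [IsLocalRing (B ⧸ (maximalIdeal A).map (algebraMap A B))]
    (hA : SkIneq k (A ⧸ I)) (hF : SkIneq k (B ⧸ (maximalIdeal A).map (algebraMap A B))) :
    SkIneq k (B ⧸ I.map (algebraMap A B)) := by
  have hflat := flat_quotient (B := B) I
  have hloc := isLocalHom_quotient (B := B) I
  have hmax : (maximalIdeal (A ⧸ I)).map (algebraMap (A ⧸ I) (B ⧸ I.map (algebraMap A B))) =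
      ((maximalIdeal A).map (algebraMap A B)).map (Ideal.Quotient.mk (I.map (algebraMap A B))) := by
    rw [CMFlat33.maximalIdeal_quotient I, Ideal.map_map, Ideal.map_map]
    rfl
  have hle : I.map (algebraMap A B) ≤ (maximalIdeal A).map (algebraMap A B) :=
    Ideal.map_mono (le_maximalIdeal hI)
  let e : ((B ⧸ I.map (algebraMap A B)) ⧸
      (maximalIdeal (A ⧸ I)).map (algebraMap (A ⧸ I) (B ⧸ I.map (algebraMap A B)))) ≃+*
      B ⧸ (maximalIdeal A).map (algebraMap A B) :=
    (Ideal.quotEquivOfEq hmax).trans (DoubleQuot.quotQuotEquivQuotOfLE hle)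
  have hlq : IsLocalRing ((B ⧸ I.map (algebraMap A B)) ⧸
      (maximalIdeal (A ⧸ I)).map (algebraMap (A ⧸ I) (B ⧸ I.map (algebraMap A B)))) :=
    e.symm.isLocalRing
  exact skIneq_of_flat hA (skIneq_of_ringEquiv e.symm hF)

/-- Descent of `(S_k)` from `B/IB` to `A/I` when the closed fibre `B/m_A B` has dimension `0`. -/
theorem skIneq_quotient_descent {k : ℕ} (I : Ideal A) (hI : I ≠ ⊤)
    [IsLocalRing (A ⧸ I)] [IsLocalRing (B ⧸ I.map (algebraMap A B))]
    (h0 : Ring.KrullDimLE 0 (B ⧸ (maximalIdeal A).map (algebraMap A B)))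
    (hB : SkIneq k (B ⧸ I.map (algebraMap A B))) : SkIneq k (A ⧸ I) := by
  have hflat := flat_quotient (B := B) I
  have hloc := isLocalHom_quotient (B := B) I
  have hmax : (maximalIdeal (A ⧸ I)).map (algebraMap (A ⧸ I) (B ⧸ I.map (algebraMap A B))) =
      ((maximalIdeal A).map (algebraMap A B)).map (Ideal.Quotient.mk (I.map (algebraMap A B))) := by
    rw [CMFlat33.maximalIdeal_quotient I, Ideal.map_map, Ideal.map_map]
    rfl
  have hle : I.map (algebraMap A B) ≤ (maximalIdeal A).map (algebraMap A B) :=
    Ideal.map_mono (le_maximalIdeal hI)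
  let e : ((B ⧸ I.map (algebraMap A B)) ⧸
      (maximalIdeal (A ⧸ I)).map (algebraMap (A ⧸ I) (B ⧸ I.map (algebraMap A B)))) ≃+*
      B ⧸ (maximalIdeal A).map (algebraMap A B) :=
    (Ideal.quotEquivOfEq hmax).trans (DoubleQuot.quotQuotEquivQuotOfLE hle)
  have h0' : Ring.KrullDimLE 0 ((B ⧸ I.map (algebraMap A B)) ⧸
      (maximalIdeal (A ⧸ I)).map (algebraMap (A ⧸ I) (B ⧸ I.map (algebraMap A B)))) := by
    have hnt : Nontrivial (B ⧸ (maximalIdeal A).map (algebraMap A B)) :=
      Ideal.Quotient.nontrivial_iff.mpr (map_maximalIdeal_lt_top (algebraMap A B)).ne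
    have hnt' := e.toEquiv.nontrivial
    rw [ringKrullDimZero_iff_ringKrullDim_eq_zero] at h0 ⊢
    rw [ringKrullDim_eq_of_ringEquiv e]
    exact h0
  exact skIneq_of_flat_of_dim_zero h0' hB

end Quot

section Fibre

variable {R S : Type u} [CommRing R] [CommRing S] [Algebra R S] [Module.Flat R S]
  [IsNoetherianRing R] [IsNoetherianRing S]

/-- `(S_k)` at a prime `r` of `S` from `(S_k)` at `p = r ∩ R` and at the corresponding prime `Q`
of the fibre ring `κ(p) ⊗ S`; phrased with `r = Q ∩ S`. -/
theorem skIneq_of_fiber {k : ℕ} (p : Ideal R) [p.IsPrime] (Q : Ideal (p.Fiber S)) [Q.IsPrime]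
    (hp : SkIneq k (Localization.AtPrime p)) (hQ : SkIneq k (Localization.AtPrime Q)) :
    SkIneq k (Localization.AtPrime (Q.comap (Algebra.TensorProduct.includeRight
      (R := R) (A := p.ResidueField) (B := S)))) := by
  set r := Q.comap (Algebra.TensorProduct.includeRight (R := R) (A := p.ResidueField) (B := S))
    with hr
  let : Algebra (Localization.AtPrime p) (Localization.AtPrime r) :=
    Localization.AtPrime.algebraOfLiesOver p r
  have hloc : IsLocalHom (algebraMap (Localization.AtPrime p) (Localization.AtPrime r)) :=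
    Localization.isLocalHom_localRingHom _ _ _ Ideal.LiesOver.over
  let e := Ideal.Fiber.algEquivAux₂ p Q
  have hI : (p.map (algebraMap R S)).map (algebraMap S (Localization.AtPrime r)) =
      (maximalIdeal (Localization.AtPrime p)).map
        (algebraMap (Localization.AtPrime p) (Localization.AtPrime r)) := by
    rw [← Localization.AtPrime.map_eq_maximalIdeal, Ideal.map_map, Ideal.map_map]
    congr 1
    rw [← IsScalarTower.algebraMap_eq, ← IsScalarTower.algebraMap_eq]
  have hlq : IsLocalRing (Localization.AtPrime r ⧸ (maximalIdeal (Localization.AtPrime p)).map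
      (algebraMap (Localization.AtPrime p) (Localization.AtPrime r))) :=
    CMFlat33.isLocalRing_quotient_map _
  have hlq' : IsLocalRing (Localization.AtPrime r ⧸
      (p.map (algebraMap R S)).map (algebraMap S (Localization.AtPrime r))) := by
    rw [hI]; exact hlq
  have h1 : SkIneq k (Localization.AtPrime r ⧸
      (p.map (algebraMap R S)).map (algebraMap S (Localization.AtPrime r))) :=
    skIneq_of_ringEquiv e.toRingEquiv hQ
  have h2 : SkIneq k (Localization.AtPrime r ⧸ (maximalIdeal (Localization.AtPrime p)).map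
      (algebraMap (Localization.AtPrime p) (Localization.AtPrime r))) :=
    skIneq_of_ringEquiv (Ideal.quotEquivOfEq hI) h1
  exact skIneq_of_flat hp h2

theorem skIneq_of_fiber' {k : ℕ} (p : Ideal R) [p.IsPrime] (Q : Ideal (p.Fiber S)) [Q.IsPrime]
    (q : Ideal S) [q.IsPrime]
    (hq : Q.comap (Algebra.TensorProduct.includeRight
      (R := R) (A := p.ResidueField) (B := S)) = q)
    (hp : SkIneq k (Localization.AtPrime p)) (hQ : SkIneq k (Localization.AtPrime Q)) :
    SkIneq k (Localization.AtPrime q) := by
  subst hq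
  exact skIneq_of_fiber p Q hp hQ

/-- **Stacks 0339**: `(S_k)` ascends along flat maps with `(S_k)` fibres. -/
theorem hasSk_of_flat_of_fibre (k : ℕ) (hR : LocCoh.HasSk k R R)
    (hfib : ∀ (p : Ideal R) [p.IsPrime], LocCoh.HasSk k (p.Fiber S) (p.Fiber S)) :
    LocCoh.HasSk k S S := by
  rw [hasSk_self_iff'] at hR ⊢
  intro q hq
  let P : PrimeSpectrum R := ⟨q.under R, inferInstance⟩
  let q' : PrimeSpectrum.comap (algebraMap R S) ⁻¹' {P} := ⟨⟨q, inferInstance⟩, rfl⟩
  let Q := PrimeSpectrum.preimageEquivFiber R S P q'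
  have hQ : Q.asIdeal.comap (Algebra.TensorProduct.includeRight
      (R := R) (A := (q.under R).ResidueField) (B := S)) = q := by
    have := (PrimeSpectrum.preimageEquivFiber R S P).symm_apply_apply q'
    exact congrArg (fun t => t.1.asIdeal) this
  exact skIneq_of_fiber' (q.under R) Q.asIdeal q hQ (hR (q.under R))
    ((hasSk_self_iff' k _).1 (hfib (q.under R)) Q.asIdeal)

end Fibre

section Bridge

variable {R S : Type u} [CommRing R] [CommRing S] [Algebra R S]

/-- The local ring of the fibre at `Q` versus `S_r/pS_r`. -/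
theorem skIneq_fiber_iff {k : ℕ} (p : Ideal R) [p.IsPrime] (Q : Ideal (p.Fiber S)) [Q.IsPrime]
    (r : Ideal S) [r.IsPrime]
    (hQ : Q.comap (Algebra.TensorProduct.includeRight
      (R := R) (A := p.ResidueField) (B := S)) = r)
    [IsLocalRing (Localization.AtPrime r ⧸
      (p.map (algebraMap R S)).map (algebraMap S (Localization.AtPrime r)))] :
    SkIneq k (Localization.AtPrime Q) ↔ SkIneq k (Localization.AtPrime r ⧸
      (p.map (algebraMap R S)).map (algebraMap S (Localization.AtPrime r))) := by
  subst hQ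
  let e := Ideal.Fiber.algEquivAux₂ p Q
  exact ⟨skIneq_of_ringEquiv e.toRingEquiv, skIneq_of_ringEquiv e.toRingEquiv.symm⟩

theorem map_map_ne_top (p : Ideal R) (r : Ideal S) [r.IsPrime] [r.LiesOver p] :
    (p.map (algebraMap R S)).map (algebraMap S (Localization.AtPrime r)) ≠ ⊤ := by
  have hle : (p.map (algebraMap R S)).map (algebraMap S (Localization.AtPrime r)) ≤
      maximalIdeal (Localization.AtPrime r) := by
    rw [← Localization.AtPrime.map_eq_maximalIdeal]
    refine Ideal.map_mono ?_
    rw [Ideal.map_le_iff_le_comap]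
    exact (Ideal.LiesOver.over (p := p) (P := r)).le
  intro h
  rw [h, top_le_iff] at hle
  exact (Ideal.IsPrime.ne_top inferInstance) hle

theorem isLocalRing_fibreQuot (p : Ideal R) (r : Ideal S) [r.IsPrime] [r.LiesOver p] :
    IsLocalRing (Localization.AtPrime r ⧸
      (p.map (algebraMap R S)).map (algebraMap S (Localization.AtPrime r))) :=
  isLocalRing_quotient _ (map_map_ne_top p r)

/-- The prime of the fibre ring corresponding to a prime `r` of `S` over `p`. -/
theorem exists_fiber_prime (p : Ideal R) [p.IsPrime] (r : Ideal S) [r.IsPrime] [r.LiesOver p] :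
    ∃ (Q : Ideal (p.Fiber S)) (_ : Q.IsPrime), Q.comap (Algebra.TensorProduct.includeRight
      (R := R) (A := p.ResidueField) (B := S)) = r := by
  let P : PrimeSpectrum R := ⟨p, inferInstance⟩
  have hr : PrimeSpectrum.comap (algebraMap R S) ⟨r, inferInstance⟩ = P := by
    apply PrimeSpectrum.ext
    exact (Ideal.LiesOver.over (p := p) (P := r)).symm
  let q' : PrimeSpectrum.comap (algebraMap R S) ⁻¹' {P} := ⟨⟨r, inferInstance⟩, hr⟩
  let Q := PrimeSpectrum.preimageEquivFiber R S P q'
  refine ⟨Q.asIdeal, Q.2, ?_⟩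
  have := (PrimeSpectrum.preimageEquivFiber R S P).symm_apply_apply q'
  exact congrArg (fun t => t.1.asIdeal) this

end Bridge

section Tower

variable {A B C : Type u} [CommRing A] [CommRing B] [CommRing C] [Algebra A B] [Algebra B C]
  [Algebra A C] [IsScalarTower A B C] [IsNoetherianRing B] [IsNoetherianRing C] [Module.Flat B C]

theorem map_maximalIdeal_eq (q : Ideal B) [q.IsPrime] (r : Ideal C) [r.IsPrime] [r.LiesOver q]
    [Algebra (Localization.AtPrime q) (Localization.AtPrime r)]
    [IsScalarTower B (Localization.AtPrime q) (Localization.AtPrime r)] :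
    (maximalIdeal (Localization.AtPrime q)).map
      (algebraMap (Localization.AtPrime q) (Localization.AtPrime r)) =
    (q.map (algebraMap B C)).map (algebraMap C (Localization.AtPrime r)) := by
  rw [← Localization.AtPrime.map_eq_maximalIdeal, Ideal.map_map, Ideal.map_map]
  congr 1
  rw [← IsScalarTower.algebraMap_eq, ← IsScalarTower.algebraMap_eq]

/-- Composition: `(S_k)` for `C_r/pC_r` from `(S_k)` for `B_q/pB_q` and `C_r/qC_r`. -/
theorem skIneq_tower {k : ℕ} (p : Ideal A) (q : Ideal B) [q.IsPrime] [q.LiesOver p]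
    (r : Ideal C) [r.IsPrime] [r.LiesOver q]
    [IsLocalRing (Localization.AtPrime q ⧸
      (p.map (algebraMap A B)).map (algebraMap B (Localization.AtPrime q)))]
    [IsLocalRing (Localization.AtPrime r ⧸
      (q.map (algebraMap B C)).map (algebraMap C (Localization.AtPrime r)))]
    [IsLocalRing (Localization.AtPrime r ⧸
      (p.map (algebraMap A C)).map (algebraMap C (Localization.AtPrime r)))]
    (h1 : SkIneq k (Localization.AtPrime q ⧸
      (p.map (algebraMap A B)).map (algebraMap B (Localization.AtPrime q))))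
    (h2 : SkIneq k (Localization.AtPrime r ⧸
      (q.map (algebraMap B C)).map (algebraMap C (Localization.AtPrime r)))) :
    SkIneq k (Localization.AtPrime r ⧸
      (p.map (algebraMap A C)).map (algebraMap C (Localization.AtPrime r))) := by
  let : Algebra (Localization.AtPrime q) (Localization.AtPrime r) :=
    Localization.AtPrime.algebraOfLiesOver q r
  have hloc : IsLocalHom (algebraMap (Localization.AtPrime q) (Localization.AtPrime r)) :=
    Localization.isLocalHom_localRingHom _ _ _ Ideal.LiesOver.over
  set I := (p.map (algebraMap A B)).map (algebraMap B (Localization.AtPrime q)) with hIdef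
  have hI : I ≠ ⊤ := map_map_ne_top p q
  have hm := map_maximalIdeal_eq q r
  have hIC : I.map (algebraMap (Localization.AtPrime q) (Localization.AtPrime r)) =
      (p.map (algebraMap A C)).map (algebraMap C (Localization.AtPrime r)) := by
    rw [hIdef, Ideal.map_map, Ideal.map_map, Ideal.map_map]
    congr 1
    rw [← IsScalarTower.algebraMap_eq B (Localization.AtPrime q) (Localization.AtPrime r),
      IsScalarTower.algebraMap_eq B C (Localization.AtPrime r), RingHom.comp_assoc,
      ← IsScalarTower.algebraMap_eq A B C]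
  have hl1 : IsLocalRing (Localization.AtPrime r ⧸ (maximalIdeal (Localization.AtPrime q)).map
      (algebraMap (Localization.AtPrime q) (Localization.AtPrime r))) :=
    CMFlat33.isLocalRing_quotient_map _
  have hl2 : IsLocalRing (Localization.AtPrime r ⧸
      I.map (algebraMap (Localization.AtPrime q) (Localization.AtPrime r))) :=
    isLocalRing_quotient _ (map_ne_top_of_ne_top I hI)
  have h2' : SkIneq k (Localization.AtPrime r ⧸ (maximalIdeal (Localization.AtPrime q)).map
      (algebraMap (Localization.AtPrime q) (Localization.AtPrime r))) :=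
    skIneq_of_ringEquiv (Ideal.quotEquivOfEq hm.symm) h2
  have h3 := skIneq_quotient_of_flat I hI h1 h2'
  exact skIneq_of_ringEquiv (Ideal.quotEquivOfEq hIC) h3

/-- Descent: `(S_k)` for `B_q/pB_q` from `(S_k)` for `C_r/pC_r` when `r` is minimal over `qC`. -/
theorem skIneq_tower_descent {k : ℕ} (p : Ideal A) (q : Ideal B) [q.IsPrime] [q.LiesOver p]
    (r : Ideal C) [r.IsPrime] [r.LiesOver q] (hr : r ∈ (q.map (algebraMap B C)).minimalPrimes)
    [IsLocalRing (Localization.AtPrime q ⧸
      (p.map (algebraMap A B)).map (algebraMap B (Localization.AtPrime q)))]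
    [IsLocalRing (Localization.AtPrime r ⧸
      (p.map (algebraMap A C)).map (algebraMap C (Localization.AtPrime r)))]
    (h3 : SkIneq k (Localization.AtPrime r ⧸
      (p.map (algebraMap A C)).map (algebraMap C (Localization.AtPrime r)))) :
    SkIneq k (Localization.AtPrime q ⧸
      (p.map (algebraMap A B)).map (algebraMap B (Localization.AtPrime q))) := by
  let : Algebra (Localization.AtPrime q) (Localization.AtPrime r) :=
    Localization.AtPrime.algebraOfLiesOver q r
  have hloc : IsLocalHom (algebraMap (Localization.AtPrime q) (Localization.AtPrime r)) :=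
    Localization.isLocalHom_localRingHom _ _ _ Ideal.LiesOver.over
  set I := (p.map (algebraMap A B)).map (algebraMap B (Localization.AtPrime q)) with hIdef
  have hI : I ≠ ⊤ := map_map_ne_top p q
  have hm := map_maximalIdeal_eq q r
  have hIC : I.map (algebraMap (Localization.AtPrime q) (Localization.AtPrime r)) =
      (p.map (algebraMap A C)).map (algebraMap C (Localization.AtPrime r)) := by
    rw [hIdef, Ideal.map_map, Ideal.map_map, Ideal.map_map]
    congr 1
    rw [← IsScalarTower.algebraMap_eq B (Localization.AtPrime q) (Localization.AtPrime r),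
      IsScalarTower.algebraMap_eq B C (Localization.AtPrime r), RingHom.comp_assoc,
      ← IsScalarTower.algebraMap_eq A B C]
  have hl2 : IsLocalRing (Localization.AtPrime r ⧸
      I.map (algebraMap (Localization.AtPrime q) (Localization.AtPrime r))) :=
    isLocalRing_quotient _ (map_ne_top_of_ne_top I hI)
  have hmin : maximalIdeal (Localization.AtPrime r) ∈
      ((maximalIdeal (Localization.AtPrime q)).map
        (algebraMap (Localization.AtPrime q) (Localization.AtPrime r))).minimalPrimes := by
    rw [hm, IsLocalization.minimalPrimes_map r.primeCompl, Set.mem_preimage,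
      Localization.AtPrime.under_maximalIdeal]
    exact hr
  have h0 : Ring.KrullDimLE 0 (Localization.AtPrime r ⧸
      (maximalIdeal (Localization.AtPrime q)).map
        (algebraMap (Localization.AtPrime q) (Localization.AtPrime r))) := by
    rw [Ideal.krullDimLE_zero_quotient_iff_forall_minimalPrimes_isMaximal]
    intro J hJ
    have hJprime : J.IsPrime := hJ.1.1
    have hJle : J ≤ maximalIdeal (Localization.AtPrime r) := le_maximalIdeal hJprime.ne_top
    have hle : maximalIdeal (Localization.AtPrime r) ≤ J := hmin.2 hJ.1 hJle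
    rw [le_antisymm hJle hle]
    infer_instance
  have h3' : SkIneq k (Localization.AtPrime r ⧸
      I.map (algebraMap (Localization.AtPrime q) (Localization.AtPrime r))) :=
    skIneq_of_ringEquiv (Ideal.quotEquivOfEq hIC.symm) h3
  exact skIneq_quotient_descent I hI h0 h3'

end Tower

section CM

/-- A Noetherian local ring is Cohen–Macaulay iff it satisfies all `(S_k)` inequalities. -/
theorem isCohenMacaulayLocalRing_iff_forall_skIneq (A : Type u) [CommRing A] [IsLocalRing A]
    [IsNoetherianRing A] :
    LocCoh.IsCohenMacaulayLocalRing A ↔ ∀ k : ℕ, SkIneq k A := by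
  constructor
  · intro h k
    have h1 := h.supportDim_eq_depth
    rw [Module.supportDim_self_eq_ringKrullDim] at h1
    unfold SkIneq
    rw [← h1]
    exact min_le_right _ _
  · intro h
    obtain ⟨n, hn⟩ := CMFlat33.exists_nat_ringKrullDim A
    refine ⟨?_⟩
    rw [Module.supportDim_self_eq_ringKrullDim]
    refine le_antisymm ?_ (CMFlat33.depth_le_ringKrullDim A)
    have := h n
    unfold SkIneq at this
    rw [hn, min_self] at this
    rw [hn]
    exact this

/-- A Noetherian ring is Cohen–Macaulay iff it satisfies `(S_k)` for all `k`. -/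
theorem isCohenMacaulayRing_iff_forall_hasSk (R : Type u) [CommRing R] [IsNoetherianRing R] :
    LocCoh.IsCohenMacaulayRing R ↔ ∀ k : ℕ, LocCoh.HasSk k R R := by
  constructor
  · intro h k
    rw [hasSk_self_iff']
    intro p hp
    have := h.isCohenMacaulayLocalRing_localization p
    exact (isCohenMacaulayLocalRing_iff_forall_skIneq _).1 this k
  · intro h
    refine ⟨?_⟩
    intro p hp
    rw [isCohenMacaulayLocalRing_iff_forall_skIneq]
    intro k
    exact (hasSk_self_iff' k R).1 (h k) p

/-- Fibre rings of Noetherian algebras are Noetherian. -/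
theorem isNoetherianRing_fiber {R S : Type u} [CommRing R] [CommRing S] [Algebra R S]
    [IsNoetherianRing S] (p : Ideal R) [p.IsPrime] : IsNoetherianRing (p.Fiber S) := by
  have h1 : IsNoetherianRing (Localization (Algebra.algebraMapSubmonoid S p.primeCompl)) :=
    IsLocalization.isNoetherianRing (Algebra.algebraMapSubmonoid S p.primeCompl) _ inferInstance
  let _ : Algebra S (p.Fiber S) := Algebra.TensorProduct.rightAlgebra
  exact isNoetherianRing_of_ringEquiv _ (Ideal.Fiber.algEquivQuotient (S := S) p).symm.toRingEquiv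

end CM

end Groth.Agent.Lib.H56SkFibre
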