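import Groth.Agent.Lib.H8CM5
import Groth.Agent.Lib.RegularLocal
import Mathlib.RingTheory.Localization.Module

/-!
# Cohen–Macaulay rings: localization, regular local rings (helper8)
-/

set_option autoImplicit false
set_option linter.unusedSectionVars false
universe u v

namespace Groth.Agent.Lib.H8CM

open RingTheory.Sequence IsLocalRing Pointwise Module Groth.Agent.Lib.DepthBasic
  Groth.Agent.Lib.DepthRees LocCoh

variable {R : Type u} [CommRing R]

/-- `R_p` as a module over itself is the localized module of `R`. -/
noncomputable def localizedModuleSelfEquiv (p : Ideal R) [p.IsPrime] :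
    LocalizedModule p.primeCompl R ≃ₗ[Localization.AtPrime p] Localization.AtPrime p :=
  (IsLocalizedModule.iso p.primeCompl
    (Algebra.linearMap R (Localization.AtPrime p))).extendScalarsOfIsLocalization p.primeCompl
      (Localization.AtPrime p)

/-- Localizations of a CM local ring at primes are CM local rings. -/
theorem isCMLocalRing_localization [IsCohenMacaulayLocalRing R] (p : Ideal R) [p.IsPrime] :
    IsCohenMacaulayLocalRing (Localization.AtPrime p) := by
  have hp : (⟨p, inferInstance⟩ : PrimeSpectrum R) ∈ Module.support R R := by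
    rw [Module.mem_support_iff]
    exact (localizedModuleSelfEquiv p).toEquiv.nontrivial
  have h := (isCM_localization (isCM_self_of_isCMLocalRing (R := R)) ⟨p, inferInstance⟩ hp).1
  exact isCMLocalRing_of_isCM_self (isCM_of_equiv (localizedModuleSelfEquiv p) h)

/-- A CM local ring is a CM ring. -/
theorem isCMRing_of_isCMLocalRing [IsCohenMacaulayLocalRing R] : IsCohenMacaulayRing R :=
  ⟨fun p _ ↦ isCMLocalRing_localization p⟩

/-- In a CM local ring, `ht p + dim R/p = dim R`. -/
theorem ringKrullDim_localization_add_quotient [IsCohenMacaulayLocalRing R] (p : Ideal R)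
    [p.IsPrime] :
    ringKrullDim R = ringKrullDim (R ⧸ p) + ringKrullDim (Localization.AtPrime p) := by
  have hp : (⟨p, inferInstance⟩ : PrimeSpectrum R) ∈ Module.support R R := by
    rw [Module.mem_support_iff]
    exact (localizedModuleSelfEquiv p).toEquiv.nontrivial
  have h := (isCM_localization (isCM_self_of_isCMLocalRing (R := R)) ⟨p, inferInstance⟩ hp).2
  rw [supportDim_self_eq_ringKrullDim, supportDim_quotient_smul_top_self,
    supportDim_eq_of_equiv (localizedModuleSelfEquiv p), supportDim_self_eq_ringKrullDim] at h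
  exact h

/-- A regular local ring is Cohen–Macaulay. -/
theorem isCMLocalRing_of_isRegularLocalRing [IsRegularLocalRing R] :
    IsCohenMacaulayLocalRing R := by
  obtain ⟨d, hd⟩ := exists_nat_supportDim (R := R) (M := R)
  have hd' : ringKrullDim R = d := by rwa [supportDim_self_eq_ringKrullDim] at hd
  have hfin := Groth.Agent.Lib.RegularLocal.spanFinrank_maximalIdeal_eq_of_ringKrullDim_eq hd'
  obtain ⟨s, hcard, hspan⟩ := Submodule.FG.exists_span_finset_card_eq_spanFinrank
    ((isNoetherianRing_iff_ideal_fg R).mp inferInstance (maximalIdeal R))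
  rw [hfin] at hcard
  let e := s.equivFinOfCardEq hcard
  let x : Fin d → R := fun i ↦ (e.symm i : R)
  have hrange : Set.range x = (s : Set R) := by
    ext y
    constructor
    · rintro ⟨i, rfl⟩; exact (e.symm i).2
    · intro hy; exact ⟨e ⟨y, hy⟩, by simp [x]⟩
  have hreg := Groth.Agent.Lib.RegularLocal.isRegular_ofFn R d hd' x (by rw [hrange]; exact hspan)
  refine ⟨?_⟩
  have h1 : ((d : ℕ∞) : WithBot ℕ∞) ≤ ((depth R R : ℕ∞) : WithBot ℕ∞) := by
    rw [WithBot.coe_le_coe]
    refine (natCast_le_depth_iff R d).mpr ⟨List.ofFn x, by simp, ?_, hreg.toIsWeaklyRegular⟩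
    intro r hr
    rw [List.mem_ofFn] at hr
    obtain ⟨i, rfl⟩ := hr
    have : x i ∈ Ideal.span (s : Set R) := Ideal.subset_span (e.symm i).2
    rwa [show Ideal.span (s : Set R) = maximalIdeal R from hspan] at this
  have h2 := depth_le_supportDim (R := R) R
  rw [hd] at h2 ⊢
  exact le_antisymm h1 h2

end Groth.Agent.Lib.H8CM
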