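import Mathlib
import Groth.Agent.Lib.H56SkFibre
import Groth.Agent.Lib.H8CM6
import Groth.Agent.Lib.CMRingEquiv96

/-!
# Cohen–Macaulay ascent along flat maps; polynomial rings (helper33)

* `isCohenMacaulayRing_of_isRegularRing` : regular ⇒ CM;
* `isCohenMacaulayRing_of_flat_of_fibre` : `R → S` flat, Noetherian, `R` CM, all fibre rings
  `κ(p) ⊗ S` CM ⇒ `S` CM;
* `isCohenMacaulayRing_mvPolynomial` : `R` CM ⇒ `R[X_1..X_n]` CM.
-/

set_option autoImplicit false
universe u

namespace Groth.Agent.Lib.CMAscent33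

open Groth.Agent.Lib TensorProduct

/-- A regular ring is Cohen–Macaulay. -/
theorem isCohenMacaulayRing_of_isRegularRing (R : Type u) [CommRing R] [IsRegularRing R] :
    LocCoh.IsCohenMacaulayRing R :=
  ⟨fun p _ => H8CM.isCMLocalRing_of_isRegularLocalRing (R := Localization.AtPrime p)⟩

/-- **CM ascent**: flat `R → S` of Noetherian rings, `R` CM and all fibre rings CM ⇒ `S` CM. -/
theorem isCohenMacaulayRing_of_flat_of_fibre {R S : Type u} [CommRing R] [CommRing S]
    [Algebra R S] [Module.Flat R S] [IsNoetherianRing S] [hR : LocCoh.IsCohenMacaulayRing R]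
    (hfib : ∀ (p : Ideal R) [p.IsPrime], LocCoh.IsCohenMacaulayRing (p.Fiber S)) :
    LocCoh.IsCohenMacaulayRing S := by
  rw [H56SkFibre.isCohenMacaulayRing_iff_forall_hasSk]
  intro k
  refine H56SkFibre.hasSk_of_flat_of_fibre k
    ((H56SkFibre.isCohenMacaulayRing_iff_forall_hasSk R).1 hR k) ?_
  intro p _
  have h1 := hfib p
  have : IsNoetherianRing (p.Fiber S) := inferInstance
  exact (H56SkFibre.isCohenMacaulayRing_iff_forall_hasSk _).1 h1 k

/-- Polynomial rings in finitely many variables over a CM ring are CM. -/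
theorem isCohenMacaulayRing_mvPolynomial (R : Type u) [CommRing R]
    [hR : LocCoh.IsCohenMacaulayRing R] (σ : Type u) [Finite σ] :
    LocCoh.IsCohenMacaulayRing (MvPolynomial σ R) := by
  have hN : IsNoetherianRing R := inferInstance
  apply isCohenMacaulayRing_of_flat_of_fibre (R := R)
  intro p _
  let e : p.ResidueField ⊗[R] MvPolynomial σ R ≃ₐ[p.ResidueField] MvPolynomial σ p.ResidueField :=
    MvPolynomial.algebraTensorAlgEquiv R p.ResidueField
  have h1 : LocCoh.IsCohenMacaulayRing (MvPolynomial σ p.ResidueField) :=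
    isCohenMacaulayRing_of_isRegularRing (MvPolynomial σ p.ResidueField)
  exact CMRingEquiv96.isCohenMacaulayRing_of_ringEquiv e.symm.toRingEquiv

end Groth.Agent.Lib.CMAscent33
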