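import Mathlib.Order.RelSeries
import Mathlib.Order.Cover
import Mathlib.Order.Hom.Basic

/-!
The "catenary" condition of `CAlg.IsCatenary` for an arbitrary partial order, and its behaviour
under order embeddings with order-convex range (pullback) and under coverings by order embeddings
onto lower sets (local nature).
-/

set_option autoImplicit false
universe u v

namespace Groth.Agent.Lib.OrdCat

/-- The catenary condition for a partial order (`CAlg.IsCatenary R` is this for the prime
spectrum of `R`). -/
def IsCat (α : Type u) [PartialOrder α] : Prop :=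
  (∀ p q : α, p ≤ q → ∃ n : ℕ, ∀ s : LTSeries α, s.head = p → s.last = q → s.length ≤ n) ∧
  ∀ s t : LTSeries α, s.head = t.head → s.last = t.last →
    (∀ i : Fin s.length, s (Fin.castSucc i) ⋖ s (Fin.succ i)) →
    (∀ i : Fin t.length, t (Fin.castSucc i) ⋖ t (Fin.succ i)) →
    s.length = t.length

variable {α : Type u} {β : Type v} [PartialOrder α] [PartialOrder β]

theorem covBy_map_of_convex (e : α ↪o β)
    (hconv : ∀ (a b : α) (c : β), e a ≤ c → c ≤ e b → c ∈ Set.range e) {a b : α} (h : a ⋖ b) :
    e a ⋖ e b := by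
  refine ⟨e.lt_iff_lt.2 h.1, fun c hac hcb => ?_⟩
  obtain ⟨c', rfl⟩ := hconv a b c hac.le hcb.le
  exact h.2 (e.lt_iff_lt.1 hac) (e.lt_iff_lt.1 hcb)

theorem covBy_of_map (e : α ↪o β) {a b : α} (h : e a ⋖ e b) : a ⋖ b :=
  ⟨e.lt_iff_lt.1 h.1, fun _ hac hcb => h.2 (e.lt_iff_lt.2 hac) (e.lt_iff_lt.2 hcb)⟩

/-- Pull back the catenary condition along an order embedding with order-convex range. -/
theorem IsCat.of_embedding (e : α ↪o β)
    (hconv : ∀ (a b : α) (c : β), e a ≤ c → c ≤ e b → c ∈ Set.range e) (h : IsCat β) :
    IsCat α := by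
  refine ⟨fun p q hpq => ?_, fun s t hhead hlast hs ht => ?_⟩
  · obtain ⟨n, hn⟩ := h.1 (e p) (e q) (e.le_iff_le.2 hpq)
    refine ⟨n, fun s hsp hsq => ?_⟩
    have := hn (s.map e e.strictMono) (by simp [hsp]) (by simp [hsq])
    simpa using this
  · have := h.2 (s.map e e.strictMono) (t.map e e.strictMono) (by simp [hhead])
      (by simp [hlast])
      (fun i => covBy_map_of_convex e hconv (hs i))
      (fun i => covBy_map_of_convex e hconv (ht i))
    simpa using this

/-- Lift a strict series all of whose members lie in the range of an order embedding. -/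
noncomputable def liftSeries (e : α ↪o β) (s : LTSeries β) (hs : ∀ i, s i ∈ Set.range e) :
    LTSeries α :=
  LTSeries.mk s.length (fun i => Classical.choose (hs i)) (by
    intro i j hij
    have hi := Classical.choose_spec (hs i)
    have hj := Classical.choose_spec (hs j)
    apply e.lt_iff_lt.1
    rw [hi, hj]
    exact s.strictMono hij)

theorem liftSeries_length (e : α ↪o β) (s : LTSeries β) (hs : ∀ i, s i ∈ Set.range e) :
    (liftSeries e s hs).length = s.length := rfl

theorem map_liftSeries_apply (e : α ↪o β) (s : LTSeries β) (hs : ∀ i, s i ∈ Set.range e)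
    (i : Fin (s.length + 1)) : e ((liftSeries e s hs) i) = s i :=
  Classical.choose_spec (hs i)

theorem map_liftSeries_head (e : α ↪o β) (s : LTSeries β) (hs : ∀ i, s i ∈ Set.range e) :
    e (liftSeries e s hs).head = s.head :=
  map_liftSeries_apply e s hs 0

theorem map_liftSeries_last (e : α ↪o β) (s : LTSeries β) (hs : ∀ i, s i ∈ Set.range e) :
    e (liftSeries e s hs).last = s.last :=
  map_liftSeries_apply e s hs (Fin.last _)

theorem mem_range_of_le_last (e : α ↪o β)
    (hlow : ∀ (a : α) (c : β), c ≤ e a → c ∈ Set.range e) (s : LTSeries β)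
    (hlast : s.last ∈ Set.range e) (i : Fin (s.length + 1)) : s i ∈ Set.range e := by
  obtain ⟨a, ha⟩ := hlast
  exact hlow a (s i) (ha ▸ s.monotone (Fin.le_last i))

/-- The catenary condition is local with respect to order embeddings onto lower sets. -/
theorem IsCat.of_local
    (h : ∀ q : β, ∃ (α : Type u) (_ : PartialOrder α) (e : α ↪o β),
      (∀ (a : α) (c : β), c ≤ e a → c ∈ Set.range e) ∧ q ∈ Set.range e ∧ IsCat α) :
    IsCat β := by
  refine ⟨fun p q hpq => ?_, fun s t hhead hlast hs ht => ?_⟩
  · obtain ⟨α, _, e, hlow, ⟨q', rfl⟩, hcat⟩ := h q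
    obtain ⟨p', rfl⟩ := hlow q' p hpq
    obtain ⟨n, hn⟩ := hcat.1 p' q' (e.le_iff_le.1 hpq)
    refine ⟨n, fun s hsp hsq => ?_⟩
    have hmem : ∀ i, s i ∈ Set.range e :=
      mem_range_of_le_last e hlow s (hsq ▸ ⟨q', rfl⟩)
    have := hn (liftSeries e s hmem)
      (e.injective (by rw [map_liftSeries_head, hsp]))
      (e.injective (by rw [map_liftSeries_last, hsq]))
    simpa [liftSeries_length] using this
  · obtain ⟨α, _, e, hlow, hq, hcat⟩ := h s.last
    have hmems : ∀ i, s i ∈ Set.range e := mem_range_of_le_last e hlow s hq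
    have hmemt : ∀ i, t i ∈ Set.range e := mem_range_of_le_last e hlow t (hlast ▸ hq)
    have := hcat.2 (liftSeries e s hmems) (liftSeries e t hmemt)
      (e.injective (by rw [map_liftSeries_head, map_liftSeries_head, hhead]))
      (e.injective (by rw [map_liftSeries_last, map_liftSeries_last, hlast]))
      (fun i => covBy_of_map e (by
        rw [map_liftSeries_apply, map_liftSeries_apply]; exact hs i))
      (fun i => covBy_of_map e (by
        rw [map_liftSeries_apply, map_liftSeries_apply]; exact ht i))
    simpa [liftSeries_length] using this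

end Groth.Agent.Lib.OrdCat
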