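import Groth.Prelude.Def_Found
import Groth.Agent.Lib.OrdCat
import Mathlib.RingTheory.Localization.AtPrime.Basic
import Mathlib.RingTheory.Spectrum.Prime.Topology
import Mathlib.RingTheory.Spectrum.Prime.RingHom

/-!
`CAlg.IsCatenary` passes to localizations and quotients, and is local on maximal ideals.
-/

set_option autoImplicit false
universe u v

namespace Groth.Agent.Lib.Catenary

open Groth.Agent.Lib.OrdCat

variable {R : Type u} [CommRing R]

theorem isCatenary_iff_isCat : CAlg.IsCatenary R ↔ IsCat (PrimeSpectrum R) := Iff.rfl

/-- The order embedding `Spec (M⁻¹R) → Spec R`. -/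
noncomputable def locEmb (M : Submonoid R) (S : Type v) [CommRing S] [Algebra R S]
    [IsLocalization M S] : PrimeSpectrum S ↪o PrimeSpectrum R where
  toFun := PrimeSpectrum.comap (algebraMap R S)
  inj' := PrimeSpectrum.localization_comap_injective S M
  map_rel_iff' := by
    intro p q
    constructor
    · intro h
      have h' : Ideal.comap (algebraMap R S) p.asIdeal ≤ Ideal.comap (algebraMap R S) q.asIdeal :=
        h
      have := Ideal.map_mono (f := algebraMap R S) h'
      rwa [IsLocalization.map_under M S, IsLocalization.map_under M S] at this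
    · intro h
      exact Ideal.comap_mono (f := algebraMap R S) h

theorem locEmb_apply (M : Submonoid R) (S : Type v) [CommRing S] [Algebra R S]
    [IsLocalization M S] (p : PrimeSpectrum S) :
    locEmb M S p = PrimeSpectrum.comap (algebraMap R S) p := rfl

theorem range_locEmb (M : Submonoid R) (S : Type v) [CommRing S] [Algebra R S]
    [IsLocalization M S] :
    Set.range (locEmb M S) = { p | Disjoint (M : Set R) p.asIdeal } :=
  PrimeSpectrum.localization_comap_range S M

theorem locEmb_lower (M : Submonoid R) (S : Type v) [CommRing S] [Algebra R S]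
    [IsLocalization M S] (a : PrimeSpectrum S) (c : PrimeSpectrum R) (hc : c ≤ locEmb M S a) :
    c ∈ Set.range (locEmb M S) := by
  rw [range_locEmb]
  have ha : locEmb M S a ∈ { p | Disjoint (M : Set R) p.asIdeal } := by
    rw [← range_locEmb M S]; exact ⟨a, rfl⟩
  exact Set.disjoint_of_subset_right (fun x hx => hc hx) ha

/-- The order embedding `Spec S → Spec R` for a surjective ring map `R → S`. -/
noncomputable def surjEmb {S : Type v} [CommRing S] (f : R →+* S) (hf : Function.Surjective f) :
    PrimeSpectrum S ↪o PrimeSpectrum R where
  toFun := PrimeSpectrum.comap f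
  inj' := PrimeSpectrum.comap_injective_of_surjective f hf
  map_rel_iff' := by
    intro p q
    constructor
    · intro h
      have h' : Ideal.comap f p.asIdeal ≤ Ideal.comap f q.asIdeal := h
      have := Ideal.map_mono (f := f) h'
      rwa [Ideal.map_comap_of_surjective f hf, Ideal.map_comap_of_surjective f hf] at this
    · intro h
      exact Ideal.comap_mono (f := f) h

theorem surjEmb_upper {S : Type v} [CommRing S] (f : R →+* S) (hf : Function.Surjective f)
    (a : PrimeSpectrum S) (c : PrimeSpectrum R) (hc : surjEmb f hf a ≤ c) :
    c ∈ Set.range (surjEmb f hf) := by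
  have hr : Set.range (surjEmb f hf) = PrimeSpectrum.zeroLocus (RingHom.ker f) :=
    range_comap_of_surjective _ f hf
  rw [hr, PrimeSpectrum.mem_zeroLocus]
  intro x hx
  apply hc
  show x ∈ Ideal.comap f a.asIdeal
  rw [Ideal.mem_comap, (RingHom.mem_ker).1 hx]
  exact Ideal.zero_mem _

/-- A localization of a catenary ring is catenary. -/
theorem isCatenary_of_isLocalization (M : Submonoid R) (S : Type v) [CommRing S] [Algebra R S]
    [IsLocalization M S] (h : CAlg.IsCatenary R) : CAlg.IsCatenary S :=
  IsCat.of_embedding (locEmb M S) (fun _ b c _ hcb => locEmb_lower M S b c hcb) h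

/-- A quotient of a catenary ring is catenary. -/
theorem isCatenary_of_surjective {S : Type v} [CommRing S] (f : R →+* S)
    (hf : Function.Surjective f) (h : CAlg.IsCatenary R) : CAlg.IsCatenary S :=
  IsCat.of_embedding (surjEmb f hf) (fun a _ c hac _ => surjEmb_upper f hf a c hac) h

/-- If every prime is disjoint from a submonoid whose localization is catenary, the ring is
catenary. -/
theorem isCatenary_of_local
    (h : ∀ q : PrimeSpectrum R, ∃ M : Submonoid R, Disjoint (M : Set R) q.asIdeal ∧
      CAlg.IsCatenary (Localization M)) : CAlg.IsCatenary R := by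
  apply IsCat.of_local
  intro q
  obtain ⟨M, hM, hcat⟩ := h q
  refine ⟨PrimeSpectrum (Localization M), inferInstance, locEmb M (Localization M),
    locEmb_lower M _, ?_, hcat⟩
  rw [range_locEmb]
  exact hM

theorem isCatenary_iff_localization_maximal :
    CAlg.IsCatenary R ↔
      ∀ (m : Ideal R) [m.IsMaximal], CAlg.IsCatenary (Localization.AtPrime m) := by
  constructor
  · intro h m _
    exact isCatenary_of_isLocalization m.primeCompl _ h
  · intro h
    apply isCatenary_of_local
    intro q
    obtain ⟨m, hm, hqm⟩ := Ideal.exists_le_maximal q.asIdeal q.2.ne_top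
    refine ⟨m.primeCompl, ?_, h m⟩
    rw [Set.disjoint_left]
    intro x hx hxq
    exact hx (hqm hxq)

end Groth.Agent.Lib.Catenary
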