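import Groth.Prelude.Def_Found
import Mathlib.Order.KrullDimension
import Mathlib.RingTheory.Ideal.KrullsHeightTheorem
import Mathlib.RingTheory.Spectrum.Prime.Topology

/-!
# Coheight is a dimension function on the spectrum of a catenary Noetherian local ring (helper59)

* `exists_covBy_of_coheight`, `exists_saturated_chain`: in a partial order, an element of finite coheight `k`
  starts a saturated chain of length `k` ending at a maximal element.
* `coheight_eq_add_one_of_covBy`: if saturated chains with the same end points have the same length and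
  there is at most one maximal element, then `coheight x = coheight y + 1` for `x ⋖ y` (finite coheight).
* `PrimeSpectrum` versions for a catenary Noetherian local ring.
-/

set_option autoImplicit false
universe u

namespace Groth.Agent.Lib.CatenaryDim

section Order

variable {α : Type u} [PartialOrder α]

theorem exists_covBy_of_coheight {a : α} {j : ℕ} (h : Order.coheight a = (j : ℕ∞) + 1) :
    ∃ b, a ⋖ b ∧ Order.coheight b = j := by
  obtain ⟨-, ⟨b, hab, hb⟩, hall⟩ := Order.coheight_eq_coe_add_one_iff.1 h
  refine ⟨b, ⟨hab, fun c hac hcb => ?_⟩, hb⟩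
  have h1 := hall c hac
  have h2 := Order.coheight_add_one_le hcb
  rw [hb] at h2
  exact absurd (h2.trans h1) (by exact_mod_cast Nat.not_succ_le_self j)

theorem exists_saturated_fun (k : ℕ) : ∀ a : α, Order.coheight a = k →
    ∃ f : ℕ → α, f 0 = a ∧ (∀ i < k, f i ⋖ f (i + 1)) ∧ IsMax (f k) := by
  induction k with
  | zero =>
    intro a ha
    exact ⟨fun _ => a, rfl, fun i hi => absurd hi (Nat.not_lt_zero i),
      Order.coheight_eq_zero.1 (by simpa using ha)⟩
  | succ k ih =>
    intro a ha
    obtain ⟨b, hab, hb⟩ := exists_covBy_of_coheight (a := a) (j := k) (by rw [ha]; push_cast; rfl)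
    obtain ⟨g, hg0, hgc, hgm⟩ := ih b hb
    refine ⟨fun i => Nat.casesOn i a g, rfl, ?_, hgm⟩
    intro i hi
    cases i with
    | zero => change a ⋖ g 0; rw [hg0]; exact hab
    | succ j => exact hgc j (Nat.lt_of_succ_lt_succ hi)

/-- the `LTSeries` of length `k` given by the first `k + 1` values of a function with strict steps. -/
def seriesOf (f : ℕ → α) (k : ℕ) (hf : ∀ i < k, f i < f (i + 1)) : LTSeries α where
  length := k
  toFun := fun i => f i.val
  step := fun i => hf i.val i.2

theorem coheight_eq_add_one_of_covBy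
    (hcat : ∀ s t : LTSeries α, s.head = t.head → s.last = t.last →
      (∀ i : Fin s.length, s (Fin.castSucc i) ⋖ s (Fin.succ i)) →
      (∀ i : Fin t.length, t (Fin.castSucc i) ⋖ t (Fin.succ i)) → s.length = t.length)
    (hmax : ∀ a b : α, IsMax a → IsMax b → a = b) {x y : α} (hxy : x ⋖ y)
    (hfin : Order.coheight x < ⊤) : Order.coheight x = Order.coheight y + 1 := by
  have hfiny : Order.coheight y < ⊤ := lt_of_le_of_lt (Order.coheight_anti hxy.le) hfin
  obtain ⟨m, hm⟩ := ENat.ne_top_iff_exists.1 hfin.ne
  obtain ⟨n, hn⟩ := ENat.ne_top_iff_exists.1 hfiny.ne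
  obtain ⟨f, hf0, hfc, hfm⟩ := exists_saturated_fun m x hm.symm
  obtain ⟨g, hg0, hgc, hgm⟩ := exists_saturated_fun n y hn.symm
  let g' : ℕ → α := fun i => Nat.casesOn i x g
  have hg'c : ∀ i < n + 1, g' i ⋖ g' (i + 1) := by
    intro i hi
    cases i with
    | zero => change x ⋖ g 0; rw [hg0]; exact hxy
    | succ j => exact hgc j (Nat.lt_of_succ_lt_succ hi)
  have hlen := hcat (seriesOf f m fun i hi => (hfc i hi).lt)
    (seriesOf g' (n + 1) fun i hi => (hg'c i hi).lt) (hf0.trans rfl)
    (hmax _ _ hfm hgm) (fun i => hfc i.val i.2) (fun i => hg'c i.val i.2)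
  have hlen' : m = n + 1 := hlen
  rw [← hm, ← hn, hlen']
  push_cast
  rfl

end Order

section Spec

variable {A : Type u} [CommRing A]

theorem isMax_eq_closedPoint [IsLocalRing A] {a : PrimeSpectrum A} (ha : IsMax a) :
    a = IsLocalRing.closedPoint A := by
  have h1 : a ≤ IsLocalRing.closedPoint A :=
    IsLocalRing.le_maximalIdeal a.2.ne_top
  exact le_antisymm h1 (ha h1)

theorem coheight_lt_top [IsNoetherianRing A] [IsLocalRing A] (p : PrimeSpectrum A) :
    Order.coheight p < ⊤ := by
  have h1 : ((Order.coheight p : ℕ∞) : WithBot ℕ∞) ≤ ringKrullDim A := Order.coheight_le_krullDim p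
  have h2 : ringKrullDim A < ⊤ := ringKrullDim_lt_top
  have := lt_of_le_of_lt h1 h2
  rw [← WithBot.coe_top, WithBot.coe_lt_coe] at this
  exact this

theorem coheight_eq_add_one_of_covBy_of_isCatenary [IsNoetherianRing A] [IsLocalRing A]
    (hA : CAlg.IsCatenary A) {x y : PrimeSpectrum A} (hxy : x ⋖ y) :
    Order.coheight x = Order.coheight y + 1 :=
  coheight_eq_add_one_of_covBy hA.2
    (fun _ _ ha hb => (isMax_eq_closedPoint ha).trans (isMax_eq_closedPoint hb).symm) hxy
    (coheight_lt_top x)

end Spec

end Groth.Agent.Lib.CatenaryDim
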