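import Groth.Prelude.Def_EGA4b
import Groth.Agent.Lib.CatenaryDim
import Mathlib.RingTheory.KrullDimension.NonZeroDivisors
import Mathlib.RingTheory.Ideal.KrullsHeightTheorem
import Mathlib.RingTheory.Ideal.Height
import Mathlib.Tactic

/-!
# Dimension formula in equidimensional catenary Noetherian local rings (helper33)

* `coheight_eq`, `height_eq`: order-theoretic (co)height on `PrimeSpectrum A` vs `dim A/p`, `ht p`.
* `height_add_ringKrullDim_quotient_le`: `ht p + dim A/p ≤ dim A` (any ring).
* `height_add_ringKrullDim_quotient`: `ht p + dim A/p = dim A` for `A` Noetherian local, catenary and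
  equidimensional.
* `covBy_of_mem_minimalPrimes`: a minimal prime over `p + (t)`, `t ∉ p`, covers `p`.
* `height_eq_add_one_of_covBy`, `height_map_quotient_add_one_le`.
-/

set_option autoImplicit false
set_option linter.style.haveILetI false
universe u

namespace Groth.Agent.Lib.EquidimCat33

open Groth.Agent.Lib

section General

variable {A : Type u} [CommRing A]

lemma zeroLocus_eq_Ici (P : PrimeSpectrum A) :
    PrimeSpectrum.zeroLocus (P.asIdeal : Set A) = Set.Ici P := by
  ext q
  rw [PrimeSpectrum.mem_zeroLocus, Set.mem_Ici]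
  rfl

theorem coheight_eq (P : PrimeSpectrum A) :
    ((Order.coheight P : ℕ∞) : WithBot ℕ∞) = ringKrullDim (A ⧸ P.asIdeal) := by
  rw [Order.coheight_eq_krullDim_Ici, ringKrullDim_quotient, zeroLocus_eq_Ici]

theorem height_eq (P : PrimeSpectrum A) : Order.height P = P.asIdeal.height :=
  (PrimeSpectrum.height_eq_orderHeight P).symm

/-- `ht p + dim A/p ≤ dim A`. -/
theorem height_add_ringKrullDim_quotient_le (P : PrimeSpectrum A) :
    (P.asIdeal.height : WithBot ℕ∞) + ringKrullDim (A ⧸ P.asIdeal) ≤ ringKrullDim A := by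
  rw [← coheight_eq, ← height_eq, ← WithBot.coe_add]
  have : Nonempty (PrimeSpectrum A) := ⟨P⟩
  unfold ringKrullDim
  rw [Order.krullDim_eq_iSup_height_add_coheight_of_nonempty, WithBot.coe_le_coe]
  exact le_iSup (fun a : PrimeSpectrum A => Order.height a + Order.coheight a) P

/-- Ideal form of `height_add_ringKrullDim_quotient_le`. -/
theorem height_add_ringKrullDim_quotient_le' (p : Ideal A) [hp : p.IsPrime] :
    (p.height : WithBot ℕ∞) + ringKrullDim (A ⧸ p) ≤ ringKrullDim A :=
  height_add_ringKrullDim_quotient_le ⟨p, hp⟩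

/-- `dim (A/I)/(J/I) = dim A/J`. -/
theorem ringKrullDim_quotQuot {I J : Ideal A} (h : I ≤ J) :
    ringKrullDim ((A ⧸ I) ⧸ J.map (Ideal.Quotient.mk I)) = ringKrullDim (A ⧸ J) :=
  ringKrullDim_eq_of_ringEquiv (DoubleQuot.quotQuotEquivQuotOfLE h)

/-- A minimal prime over `p + (t)` with `t ∉ p` covers `p` in the spectrum of a Noetherian ring. -/
theorem covBy_of_mem_minimalPrimes [IsNoetherianRing A] (P P' : PrimeSpectrum A) (t : A)
    (ht : t ∉ P.asIdeal) (hP' : P'.asIdeal ∈ (P.asIdeal ⊔ Ideal.span {t}).minimalPrimes) :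
    P ⋖ P' := by
  have hle : P.asIdeal ≤ P'.asIdeal := le_sup_left.trans hP'.1.2
  have htP' : t ∈ P'.asIdeal := hP'.1.2 (Ideal.mem_sup_right (Ideal.mem_span_singleton_self t))
  have hlt : P < P' := lt_of_le_of_ne hle (fun h => ht (h ▸ htP'))
  refine ⟨hlt, fun C hPC hCP' => ?_⟩
  have h1 := Ideal.map_height_le_one_of_mem_minimalPrimes hP'
  have hPCle : P.asIdeal ≤ C.asIdeal := hPC.le
  have hCP'le : C.asIdeal ≤ P'.asIdeal := hCP'.le
  haveI : (C.asIdeal.map (Ideal.Quotient.mk P.asIdeal)).IsPrime :=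
    Ideal.isPrime_map_quotientMk_of_isPrime hPCle
  haveI : (P'.asIdeal.map (Ideal.Quotient.mk P.asIdeal)).IsPrime :=
    Ideal.isPrime_map_quotientMk_of_isPrime hle
  have hcm : ∀ J : Ideal A, P.asIdeal ≤ J →
      (J.map (Ideal.Quotient.mk P.asIdeal)).comap (Ideal.Quotient.mk P.asIdeal) = J := by
    intro J hJ
    rw [Ideal.comap_map_of_surjective _ Ideal.Quotient.mk_surjective, ← RingHom.ker_eq_comap_bot,
      Ideal.mk_ker, sup_eq_left.mpr hJ]
  have hlt' : C.asIdeal.map (Ideal.Quotient.mk P.asIdeal) <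
      P'.asIdeal.map (Ideal.Quotient.mk P.asIdeal) := by
    refine lt_of_le_of_ne (Ideal.map_mono hCP'le) (fun h => ?_)
    have := congrArg (Ideal.comap (Ideal.Quotient.mk P.asIdeal)) h
    rw [hcm _ hPCle, hcm _ hle] at this
    exact hCP'.ne (PrimeSpectrum.ext this)
  have h2 := Ideal.height_add_one_le_of_lt_of_isPrime hlt'
  have h3 : (C.asIdeal.map (Ideal.Quotient.mk P.asIdeal)).height = 0 := by
    have h4 := h2.trans h1
    have h5 : (C.asIdeal.map (Ideal.Quotient.mk P.asIdeal)).height + 1 ≤ 0 + 1 := by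
      simpa using h4
    exact le_antisymm ((ENat.add_le_add_iff_right ENat.one_ne_top).mp h5) zero_le
  rw [Ideal.height_eq_zero_iff_eq_bot] at h3
  have h6 : C.asIdeal ≤ P.asIdeal := by
    have := hcm _ hPCle
    rw [h3, ← RingHom.ker_eq_comap_bot, Ideal.mk_ker] at this
    exact this.ge
  exact hPC.not_ge h6

end General

section Local

variable {A : Type u} [CommRing A] [IsNoetherianRing A] [IsLocalRing A]

/-- In a Noetherian local ring, the coheight of a prime is a natural number. -/
lemma exists_coheight_eq (P : PrimeSpectrum A) : ∃ m : ℕ, Order.coheight P = m :=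
  ⟨_, (ENat.natCast_toNat (CatenaryDim.coheight_lt_top P).ne).symm⟩

/-- **Dimension formula**: `ht p + dim A/p = dim A` in an equidimensional catenary Noetherian local
ring. -/
theorem height_add_ringKrullDim_quotient (hE : EGA4.IsEquidim A) (hC : CAlg.IsCatenary A)
    (P : PrimeSpectrum A) :
    (P.asIdeal.height : WithBot ℕ∞) + ringKrullDim (A ⧸ P.asIdeal) = ringKrullDim A := by
  have key : ∀ n : ℕ, ∀ P : PrimeSpectrum A, Order.height P = n →
      ((n : ℕ∞) : WithBot ℕ∞) + ringKrullDim (A ⧸ P.asIdeal) = ringKrullDim A := by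
    intro n
    induction n with
    | zero =>
      intro P hP
      have hmin : P.asIdeal ∈ minimalPrimes A := by
        haveI := P.isPrime
        rw [← Ideal.height_eq_zero_iff, ← height_eq]
        exact_mod_cast hP
      rw [hE _ hmin]
      simp
    | succ n ih =>
      intro P hP
      obtain ⟨-, ⟨Q, hQP, hQ⟩, hall⟩ :=
        Order.height_eq_coe_add_one_iff.1 (show Order.height P = (n : ℕ∞) + 1 by
          rw [hP]; push_cast; rfl)
      have hcov : Q ⋖ P := by
        refine ⟨hQP, fun c hQc hcP => ?_⟩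
        have h1 := hall c hcP
        have h2 := Order.height_add_one_le hQc
        rw [hQ] at h2
        exact absurd (h2.trans h1) (by exact_mod_cast Nat.not_succ_le_self n)
      have h1 := ih Q hQ
      have h2 := CatenaryDim.coheight_eq_add_one_of_covBy_of_isCatenary hC hcov
      rw [← coheight_eq] at h1 ⊢
      rw [h2] at h1
      rw [← h1]
      push_cast
      rw [add_assoc, add_comm (1 : WithBot ℕ∞)]
  haveI := P.isPrime
  have hfin : P.asIdeal.height ≠ ⊤ := Ideal.height_ne_top_of_isPrime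
  obtain ⟨n, hn⟩ := ENat.ne_top_iff_exists.1 hfin
  have := key n P (by rw [height_eq, ← hn])
  rw [← hn]
  exact this

/-- `ℕ∞`-valued form: `ht p + coheight p = ht q + coheight q`. -/
theorem height_add_coheight_eq (hE : EGA4.IsEquidim A) (hC : CAlg.IsCatenary A)
    (P Q : PrimeSpectrum A) :
    P.asIdeal.height + Order.coheight P = Q.asIdeal.height + Order.coheight Q := by
  have h1 := height_add_ringKrullDim_quotient hE hC P
  have h2 := height_add_ringKrullDim_quotient hE hC Q
  rw [← coheight_eq, ← WithBot.coe_add] at h1 h2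
  exact WithBot.coe_injective (h1.trans h2.symm)

/-- If `P ⋖ P'` then `ht P' = ht P + 1`. -/
theorem height_eq_add_one_of_covBy (hE : EGA4.IsEquidim A) (hC : CAlg.IsCatenary A)
    {P P' : PrimeSpectrum A} (h : P ⋖ P') : P'.asIdeal.height = P.asIdeal.height + 1 := by
  have h1 := height_add_coheight_eq hE hC P P'
  have h2 := CatenaryDim.coheight_eq_add_one_of_covBy_of_isCatenary hC h
  obtain ⟨m, hm⟩ := exists_coheight_eq P'
  rw [h2, hm] at h1
  have h3 : (P.asIdeal.height + 1) + (m : ℕ∞) = P'.asIdeal.height + (m : ℕ∞) := by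
    rw [← h1]; ring
  exact ((ENat.add_left_injective_of_ne_top (ENat.natCast_ne_top m)) h3).symm

/-- If `dim A/tA + 1 = dim A` and `t ∈ q`, then `ht (q/tA) + 1 ≤ ht q`. -/
theorem height_map_quotient_add_one_le (hE : EGA4.IsEquidim A) (hC : CAlg.IsCatenary A) (t : A)
    (ht : ringKrullDim (A ⧸ Ideal.span {t}) + 1 = ringKrullDim A) (Q : PrimeSpectrum A)
    (htQ : t ∈ Q.asIdeal) :
    (Q.asIdeal.map (Ideal.Quotient.mk (Ideal.span {t}))).height + 1 ≤ Q.asIdeal.height := by
  have hle : Ideal.span {t} ≤ Q.asIdeal := (Ideal.span_singleton_le_iff_mem _).mpr htQ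
  haveI : (Q.asIdeal.map (Ideal.Quotient.mk (Ideal.span {t}))).IsPrime :=
    Ideal.isPrime_map_quotientMk_of_isPrime hle
  have h1 := height_add_ringKrullDim_quotient_le'
    (Q.asIdeal.map (Ideal.Quotient.mk (Ideal.span {t})))
  rw [ringKrullDim_quotQuot hle] at h1
  have h2 := height_add_ringKrullDim_quotient hE hC Q
  obtain ⟨m, hm⟩ := exists_coheight_eq Q
  rw [← coheight_eq, hm] at h1 h2
  have h3 : ((Q.asIdeal.map (Ideal.Quotient.mk (Ideal.span {t}))).height : WithBot ℕ∞) +
      ((m : ℕ∞) : WithBot ℕ∞) + 1 ≤ ringKrullDim A := by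
    rw [← ht]
    exact add_le_add_left h1 1
  rw [← h2] at h3
  have h4 : (Q.asIdeal.map (Ideal.Quotient.mk (Ideal.span {t}))).height + (m : ℕ∞) + 1 ≤
      Q.asIdeal.height + (m : ℕ∞) := by
    exact_mod_cast h3
  have h5 : ((Q.asIdeal.map (Ideal.Quotient.mk (Ideal.span {t}))).height + 1) + (m : ℕ∞) ≤
      Q.asIdeal.height + (m : ℕ∞) := by
    rw [add_right_comm]; exact h4
  exact (ENat.add_le_add_iff_right (ENat.natCast_ne_top m)).mp h5

end Local

end Groth.Agent.Lib.EquidimCat33
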