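import Mathlib
import Groth.Agent.Lib.Catenary
import Groth.Agent.Lib.EquidimCat33
import Groth.Agent.Lib.H8CM6
import Groth.Agent.Lib.CMAscent33

/-!
# Cohen–Macaulay rings are (universally) catenary (helper33)

* `isCat_of_rank` : a partial order with a finite-valued rank function increasing by one along
  covers, and bounded chains between comparable elements, satisfies `OrdCat.IsCat`;
* `isCatenary_of_height_covBy` : Noetherian ring in which `ht b = ht a + 1` for all covers
  `a ⋖ b` of primes is catenary;
* `height_eq_add_one_of_covBy` : in a CM ring, `a ⋖ b` ⇒ `ht b = ht a + 1`;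
* `isCatenary_of_isCM`, `isUniversallyCatenary_of_isCM`.
-/

set_option autoImplicit false
universe u

namespace Groth.Agent.Lib.CMCat33

open Groth.Agent.Lib

section Order

variable {α : Type u} [PartialOrder α]

theorem rank_apply_of_saturated (d : α → ℕ∞) (hd : ∀ a b : α, a ⋖ b → d b = d a + 1)
    (s : LTSeries α) (hs : ∀ i : Fin s.length, s (Fin.castSucc i) ⋖ s (Fin.succ i)) :
    ∀ (i : ℕ) (hi : i ≤ s.length), d (s ⟨i, Nat.lt_succ_of_le hi⟩) = d s.head + i := by
  intro i
  induction i with
  | zero =>
    intro _
    simp only [Nat.cast_zero, add_zero]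
    rfl
  | succ j ih =>
    intro hj
    have h1 := hs ⟨j, hj⟩
    have h2 := hd _ _ h1
    have h3 := ih (Nat.le_of_succ_le hj)
    change d (s ⟨j + 1, _⟩) = d (s ⟨j, _⟩) + 1 at h2
    rw [h2, h3]
    push_cast
    rw [add_assoc]

theorem rank_last_of_saturated (d : α → ℕ∞) (hd : ∀ a b : α, a ⋖ b → d b = d a + 1)
    (s : LTSeries α) (hs : ∀ i : Fin s.length, s (Fin.castSucc i) ⋖ s (Fin.succ i)) :
    d s.last = d s.head + s.length :=
  rank_apply_of_saturated d hd s hs s.length le_rfl

theorem isCat_of_rank (d : α → ℕ∞) (hfin : ∀ a, d a ≠ ⊤)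
    (hd : ∀ a b : α, a ⋖ b → d b = d a + 1)
    (hbd : ∀ p q : α, p ≤ q → ∃ n : ℕ, ∀ s : LTSeries α, s.head = p → s.last = q →
      s.length ≤ n) : OrdCat.IsCat α := by
  refine ⟨hbd, ?_⟩
  intro s t hhead hlast hs ht
  have h1 := rank_last_of_saturated d hd s hs
  have h2 := rank_last_of_saturated d hd t ht
  rw [hlast, hhead, h2] at h1
  have h3 := ENat.add_right_injective_of_ne_top (hfin t.head) h1
  exact_mod_cast h3.symm

theorem coheight_eq_one_of_covBy {a m : α} (hm : ∀ x : α, x ≤ m) (h : a ⋖ m) :
    Order.coheight a = 1 := by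
  have hmax : IsMax m := fun x _ => hm x
  apply le_antisymm
  · have : Order.coheight a ≤ ((1 : ℕ) : ℕ∞) := by
      rw [Order.coheight_le_coe_iff]
      intro y hy
      have hym : y = m := by
        by_contra hne
        exact h.2 hy (lt_of_le_of_ne (hm y) hne)
      rw [hym, Order.coheight_eq_zero.mpr hmax]
      exact_mod_cast Nat.zero_lt_one
    exact_mod_cast this
  · have := Order.coheight_add_one_le h.lt
    rw [Order.coheight_eq_zero.mpr hmax, zero_add] at this
    exact this

end Order

section Ring

variable {R : Type u} [CommRing R]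

/-- A Noetherian ring in which heights increase by exactly one along covers is catenary. -/
theorem isCatenary_of_height_covBy [IsNoetherianRing R]
    (h : ∀ a b : PrimeSpectrum R, a ⋖ b → b.asIdeal.height = a.asIdeal.height + 1) :
    CAlg.IsCatenary R := by
  rw [Catenary.isCatenary_iff_isCat]
  refine isCat_of_rank (fun p => p.asIdeal.height) (fun a => Ideal.height_ne_top_of_isPrime) h ?_
  intro p q _
  refine ⟨q.asIdeal.height.toNat, fun s _ hlast => ?_⟩
  have h1 : (s.length : ℕ∞) ≤ Order.height s.last := Order.length_le_height_last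
  rw [hlast, EquidimCat33.height_eq] at h1
  have h2 : q.asIdeal.height ≠ ⊤ := Ideal.height_ne_top_of_isPrime
  rw [← ENat.natCast_toNat h2] at h1
  exact_mod_cast h1

/-- In a CM ring, heights increase by exactly one along covers of primes. -/
theorem height_eq_add_one_of_covBy [hR : LocCoh.IsCohenMacaulayRing R] {a b : PrimeSpectrum R}
    (h : a ⋖ b) : b.asIdeal.height = a.asIdeal.height + 1 := by
  have hN : IsNoetherianRing R := inferInstance
  have hab : a.asIdeal ≤ b.asIdeal := h.le
  have hdisj : Disjoint (b.asIdeal.primeCompl : Set R) (a.asIdeal : Set R) := by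
    rw [Set.disjoint_left]
    intro x hx hxa
    exact hx (hab hxa)
  set B := Localization.AtPrime b.asIdeal with hB
  have hcm : LocCoh.IsCohenMacaulayLocalRing B := hR.isCohenMacaulayLocalRing_localization _
  set a' : Ideal B := a.asIdeal.map (algebraMap R B) with ha'
  have ha'prime : a'.IsPrime :=
    IsLocalization.isPrime_of_isPrime_disjoint b.asIdeal.primeCompl _ a.asIdeal a.2 hdisj
  have hcomap : a'.comap (algebraMap R B) = a.asIdeal :=
    IsLocalization.under_map_of_isPrime_disjoint b.asIdeal.primeCompl _ a.2 hdisj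
  have h1 := H8CM.ringKrullDim_localization_add_quotient (R := B) a'
  have h2 : ringKrullDim B = b.asIdeal.height :=
    IsLocalization.AtPrime.ringKrullDim_eq_height b.asIdeal B
  have h3 : ringKrullDim (Localization.AtPrime a') = a.asIdeal.height := by
    rw [IsLocalization.AtPrime.ringKrullDim_eq_height a' (Localization.AtPrime a'),
      IsLocalization.height_map_of_disjoint b.asIdeal.primeCompl a.asIdeal hdisj]
  -- the quotient has dimension one
  have h4 : ringKrullDim (B ⧸ a') = 1 := by
    let A' : PrimeSpectrum B := ⟨a', ha'prime⟩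
    have hcov : A' ⋖ IsLocalRing.closedPoint B := by
      apply OrdCat.covBy_of_map (Catenary.locEmb b.asIdeal.primeCompl B)
      have e1 : Catenary.locEmb b.asIdeal.primeCompl B A' = a := by
        rw [Catenary.locEmb_apply]
        exact PrimeSpectrum.ext hcomap
      have e2 : Catenary.locEmb b.asIdeal.primeCompl B (IsLocalRing.closedPoint B) = b := by
        rw [Catenary.locEmb_apply]
        exact PrimeSpectrum.ext (IsLocalization.AtPrime.under_maximalIdeal B b.asIdeal)
      rw [e1, e2]
      exact h
    have hc := coheight_eq_one_of_covBy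
      (fun x : PrimeSpectrum B => IsLocalRing.le_maximalIdeal x.2.ne_top) hcov
    have := EquidimCat33.coheight_eq A'
    rw [hc] at this
    exact this.symm
  rw [h2, h3, h4] at h1
  have h5 : ((b.asIdeal.height : ℕ∞) : WithBot ℕ∞) = ((a.asIdeal.height + 1 : ℕ∞) : WithBot ℕ∞) := by
    rw [h1, add_comm]
    rfl
  exact WithBot.coe_injective h5

/-- A Cohen–Macaulay ring is catenary. -/
theorem isCatenary_of_isCM [hR : LocCoh.IsCohenMacaulayRing R] : CAlg.IsCatenary R := by
  have hN : IsNoetherianRing R := inferInstance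
  exact isCatenary_of_height_covBy (fun _ _ h => height_eq_add_one_of_covBy h)

/-- A Cohen–Macaulay ring is universally catenary. -/
theorem isUniversallyCatenary_of_isCM [hR : LocCoh.IsCohenMacaulayRing R] :
    CAlg.IsUniversallyCatenary R := by
  refine ⟨inferInstance, ?_⟩
  intro S _ _ hS
  obtain ⟨n, f, hf⟩ := Algebra.FiniteType.iff_quotient_mvPolynomial''.mp hS
  have h1 : LocCoh.IsCohenMacaulayRing (MvPolynomial (ULift.{u} (Fin n)) R) :=
    CMAscent33.isCohenMacaulayRing_mvPolynomial R (ULift.{u} (Fin n))
  have h2 : CAlg.IsCatenary (MvPolynomial (ULift.{u} (Fin n)) R) := isCatenary_of_isCM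
  let g : MvPolynomial (ULift.{u} (Fin n)) R →+* S :=
    f.toRingHom.comp (MvPolynomial.renameEquiv R Equiv.ulift).toRingEquiv.toRingHom
  have hg : Function.Surjective g := by
    intro s
    obtain ⟨x, hx⟩ := hf s
    refine ⟨(MvPolynomial.renameEquiv R Equiv.ulift).symm x, ?_⟩
    change f ((MvPolynomial.renameEquiv R Equiv.ulift)
      ((MvPolynomial.renameEquiv R Equiv.ulift).symm x)) = s
    rw [AlgEquiv.apply_symm_apply, hx]
  exact Catenary.isCatenary_of_surjective g hg h2

end Ring

end Groth.Agent.Lib.CMCat33
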