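import Groth.Agent.Lib.CMAscent33
import Groth.Agent.Lib.CMRingEquiv96
import Groth.Agent.Lib.CMFlat33
import Mathlib

/-!
# Cohen–Macaulay rings and finitely generated field extensions (helper33)

Main result: `isCohenMacaulayRing_tensor_of_essFiniteType`:
for a field `k`, a Cohen–Macaulay `k`-algebra `R` and a finitely generated field extension `L/k`,
the ring `L ⊗[k] R` is Cohen–Macaulay (in particular Noetherian).

Ingredients:
* `isCohenMacaulayRing_of_krullDimLE_zero`: Noetherian rings of dimension `0` are CM.
* `isCohenMacaulayRing_of_isLocalization`: localizations of CM rings are CM.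
* `isCohenMacaulayRing_polynomial`: `R[X]` is CM if `R` is.
* `isCohenMacaulayRing_tensor_of_finite`: `L ⊗[k] R` is CM for `L` a finite `k`-algebra.
-/

set_option autoImplicit false
universe u

namespace Groth.Agent.Lib.CMFieldExt33

open TensorProduct IsLocalRing Groth.Agent.Lib

section Basic

/-- A Noetherian local ring of dimension `0` is Cohen–Macaulay. -/
theorem isCohenMacaulayLocalRing_of_krullDimLE_zero (R : Type u) [CommRing R] [IsLocalRing R]
    [IsNoetherianRing R] [Ring.KrullDimLE 0 R] : LocCoh.IsCohenMacaulayLocalRing R := by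
  refine ⟨?_⟩
  rw [Module.supportDim_self_eq_ringKrullDim]
  have h0 : ringKrullDim R ≤ 0 := by
    have := Ring.krullDimLE_iff.mp (inferInstance : Ring.KrullDimLE 0 R)
    simpa using this
  have h1 := CMFlat33.depth_le_ringKrullDim R
  have h2 := ringKrullDim_nonneg_of_nontrivial (R := R)
  have h3 : ringKrullDim R = 0 := le_antisymm h0 h2
  rw [h3] at h1 ⊢
  have : LocCoh.depth R R = 0 := by
    have : ((LocCoh.depth R R : ℕ∞) : WithBot ℕ∞) ≤ ((0 : ℕ∞) : WithBot ℕ∞) := h1
    rw [WithBot.coe_le_coe] at this
    exact le_antisymm this zero_le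
  rw [this]
  rfl

/-- A Noetherian ring of dimension `0` (e.g. an Artinian ring) is Cohen–Macaulay. -/
theorem isCohenMacaulayRing_of_krullDimLE_zero (R : Type u) [CommRing R]
    [IsNoetherianRing R] [Ring.KrullDimLE 0 R] : LocCoh.IsCohenMacaulayRing R := by
  refine ⟨fun p hp => ?_⟩
  have : Ring.KrullDimLE 0 (Localization.AtPrime p) :=
    Ring.KrullDimLE.of_isLocalization p (Ideal.mem_minimalPrimes_of_krullDimLE_zero p) _
  exact isCohenMacaulayLocalRing_of_krullDimLE_zero _

/-- Localizations of Cohen–Macaulay rings are Cohen–Macaulay. -/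
theorem isCohenMacaulayRing_of_isLocalization {R : Type u} [CommRing R] (M : Submonoid R)
    (S : Type u) [CommRing S] [Algebra R S] [IsLocalization M S]
    [hR : LocCoh.IsCohenMacaulayRing R] : LocCoh.IsCohenMacaulayRing S := by
  have hN : IsNoetherianRing R := inferInstance
  have : IsNoetherianRing S := IsLocalization.isNoetherianRing M S hN
  refine ⟨fun q hq => ?_⟩
  have hp : (q.comap (algebraMap R S)).IsPrime := Ideal.IsPrime.comap _
  have : IsLocalization.AtPrime (Localization.AtPrime q) (q.comap (algebraMap R S)) :=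
    IsLocalization.isLocalization_isLocalization_atPrime_isLocalization M (Localization.AtPrime q) q
  have e : Localization.AtPrime (q.comap (algebraMap R S)) ≃ₐ[R] Localization.AtPrime q :=
    IsLocalization.algEquiv (q.comap (algebraMap R S)).primeCompl _ _
  have := hR.isCohenMacaulayLocalRing_localization (q.comap (algebraMap R S))
  exact CMRingEquiv96.isCohenMacaulayLocalRing_of_ringEquiv e.toRingEquiv

/-- The polynomial ring over a Cohen–Macaulay ring is Cohen–Macaulay. -/
theorem isCohenMacaulayRing_polynomial (R : Type u) [CommRing R]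
    [hR : LocCoh.IsCohenMacaulayRing R] : LocCoh.IsCohenMacaulayRing (Polynomial R) := by
  have := CMAscent33.isCohenMacaulayRing_mvPolynomial R PUnit.{u+1}
  exact CMRingEquiv96.isCohenMacaulayRing_of_ringEquiv (MvPolynomial.uniqueAlgEquiv R PUnit.{u+1}).toRingEquiv

end Basic

section Finite

/-- `R ⊗[k] L` is Cohen–Macaulay when `R` is a Cohen–Macaulay `k`-algebra and `L` is a finite
flat `k`-algebra (e.g. `k` a field and `L` finite-dimensional). -/
theorem isCohenMacaulayRing_tensor_of_finite (k L R : Type u) [CommRing k] [CommRing L]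
    [Algebra k L] [Module.Finite k L] [Module.Flat k L]
    [CommRing R] [Algebra k R] [hR : LocCoh.IsCohenMacaulayRing R] :
    LocCoh.IsCohenMacaulayRing (R ⊗[k] L) := by
  have hN : IsNoetherianRing R := inferInstance
  have : IsNoetherianRing (R ⊗[k] L) := IsNoetherianRing.of_finite R _
  apply CMAscent33.isCohenMacaulayRing_of_flat_of_fibre (R := R)
  intro p _
  have : IsArtinianRing (p.Fiber (R ⊗[k] L)) := IsArtinianRing.of_finite p.ResidueField _
  exact isCohenMacaulayRing_of_krullDimLE_zero _

/-- Variant of `isCohenMacaulayRing_tensor_of_finite` with the finite algebra on the left. -/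
theorem isCohenMacaulayRing_tensor_of_finite' (k L R : Type u) [CommRing k] [CommRing L]
    [Algebra k L] [Module.Finite k L] [Module.Flat k L]
    [CommRing R] [Algebra k R] [hR : LocCoh.IsCohenMacaulayRing R] :
    LocCoh.IsCohenMacaulayRing (L ⊗[k] R) := by
  have := isCohenMacaulayRing_tensor_of_finite k L R
  exact CMRingEquiv96.isCohenMacaulayRing_of_ringEquiv
    (Algebra.TensorProduct.comm k R L).toRingEquiv

end Finite

section Loc

/-- If `L` is a localization of the `k`-algebra `D` and `D ⊗[k] R` is Cohen–Macaulay, then so is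
`L ⊗[k] R`. -/
theorem isCohenMacaulayRing_tensor_of_isLocalization (k D L R : Type u) [CommRing k] [CommRing D]
    [CommRing L] [CommRing R] [Algebra k D] [Algebra k L] [Algebra D L] [IsScalarTower k D L]
    [Algebra k R] (M : Submonoid D) [IsLocalization M L]
    [h : LocCoh.IsCohenMacaulayRing (D ⊗[k] R)] : LocCoh.IsCohenMacaulayRing (L ⊗[k] R) := by
  have hloc : IsLocalization (Algebra.algebraMapSubmonoid (D ⊗[k] R) M) ((D ⊗[k] R) ⊗[D] L) :=
    IsLocalization.tensor L M
  have h1 : LocCoh.IsCohenMacaulayRing ((D ⊗[k] R) ⊗[D] L) :=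
    isCohenMacaulayRing_of_isLocalization (Algebra.algebraMapSubmonoid (D ⊗[k] R) M) _
  have e1 : (D ⊗[k] R) ⊗[D] L ≃ₐ[D] L ⊗[D] (D ⊗[k] R) := Algebra.TensorProduct.comm D _ _
  have e2 : L ⊗[D] (D ⊗[k] R) ≃ₐ[L] L ⊗[k] R := Algebra.TensorProduct.cancelBaseChange k D L L R
  exact CMRingEquiv96.isCohenMacaulayRing_of_ringEquiv (e1.toRingEquiv.trans e2.toRingEquiv)

end Loc

section Field

/-- Tensoring with `L` over `k` preserves Cohen–Macaulay `k`-algebras. -/
def PreservesCM (k L : Type u) [CommRing k] [CommRing L] [Algebra k L] : Prop :=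
  ∀ (R : Type u) [CommRing R] [Algebra k R],
    LocCoh.IsCohenMacaulayRing R → LocCoh.IsCohenMacaulayRing (L ⊗[k] R)

theorem PreservesCM.trans {k E L : Type u} [CommRing k] [CommRing E] [CommRing L] [Algebra k E]
    [Algebra E L] [Algebra k L] [IsScalarTower k E L]
    (h1 : PreservesCM k E) (h2 : PreservesCM E L) : PreservesCM k L := by
  intro R _ _ hR
  have h3 := h1 R hR
  have h4 := h2 (E ⊗[k] R) h3
  exact CMRingEquiv96.isCohenMacaulayRing_of_ringEquiv
    (Algebra.TensorProduct.cancelBaseChange k E L L R).toRingEquiv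

theorem PreservesCM.of_algEquiv {k L L' : Type u} [CommRing k] [CommRing L] [CommRing L']
    [Algebra k L] [Algebra k L'] (e : L ≃ₐ[k] L') (h : PreservesCM k L) : PreservesCM k L' := by
  intro R _ _ hR
  have h3 := h R hR
  exact CMRingEquiv96.isCohenMacaulayRing_of_ringEquiv
    (Algebra.TensorProduct.congr e (AlgEquiv.refl : R ≃ₐ[k] R)).toRingEquiv

theorem preservesCM_of_finite (k L : Type u) [CommRing k] [CommRing L] [Algebra k L]
    [Module.Finite k L] [Module.Flat k L] : PreservesCM k L := by
  intro R _ _ hR
  exact isCohenMacaulayRing_tensor_of_finite' k L R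

theorem preservesCM_polynomial (k : Type u) [CommRing k] : PreservesCM k (Polynomial k) := by
  intro R _ _ hR
  have := isCohenMacaulayRing_polynomial R
  have e1 : Polynomial R ≃ₐ[R] R ⊗[k] Polynomial k := polyEquivTensor' k R
  have e2 : R ⊗[k] Polynomial k ≃ₐ[k] Polynomial k ⊗[k] R := Algebra.TensorProduct.comm k _ _
  exact CMRingEquiv96.isCohenMacaulayRing_of_ringEquiv (e1.toRingEquiv.trans e2.toRingEquiv)

open scoped IntermediateField.algebraAdjoinAdjoin in
/-- A simple field extension preserves Cohen–Macaulayness. -/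
theorem preservesCM_adjoin_simple (E Ω : Type u) [Field E] [Field Ω] [Algebra E Ω] (a : Ω) :
    PreservesCM E (IntermediateField.adjoin E {a}) := by
  by_cases ha : IsIntegral E a
  · have := IntermediateField.adjoin.finiteDimensional ha
    exact preservesCM_of_finite E _
  · have htr : Transcendental E a := fun h => ha h.isIntegral
    have hinj := transcendental_iff_injective.mp htr
    let e0 : Polynomial E ≃ₐ[E] (Polynomial.aeval a : Polynomial E →ₐ[E] Ω).range :=
      AlgEquiv.ofInjective _ hinj
    let e1 : (Polynomial.aeval a : Polynomial E →ₐ[E] Ω).range ≃ₐ[E] Algebra.adjoin E {a} :=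
      Subalgebra.equivOfEq _ _ (Algebra.adjoin_singleton_eq_range_aeval E a).symm
    have hD : PreservesCM E (Algebra.adjoin E {a}) :=
      (preservesCM_polynomial E).of_algEquiv (e0.trans e1)
    intro R _ _ hR
    have := hD R hR
    exact isCohenMacaulayRing_tensor_of_isLocalization E (Algebra.adjoin E {a})
      (IntermediateField.adjoin E {a}) R (nonZeroDivisors (Algebra.adjoin E {a}))

/-- Finitely generated intermediate fields preserve Cohen–Macaulayness. -/
theorem preservesCM_of_fg (k L : Type u) [Field k] [Field L] [Algebra k L]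
    (K : IntermediateField k L) (hK : K.FG) : PreservesCM k K := by
  refine IntermediateField.induction_on_adjoin_fg (fun K => PreservesCM k K) ?_ ?_ K hK
  · exact (preservesCM_of_finite k k).of_algEquiv (IntermediateField.botEquiv k L).symm
  · intro K x hK
    have h2 : PreservesCM K (IntermediateField.adjoin K {x}) := preservesCM_adjoin_simple K L x
    have h3 : PreservesCM k (IntermediateField.adjoin K {x}) := PreservesCM.trans hK h2
    exact h3

/-- **Main theorem**: a finitely generated field extension `L/k` preserves Cohen–Macaulayness: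
`L ⊗[k] R` is Cohen–Macaulay for every Cohen–Macaulay `k`-algebra `R`. -/
theorem preservesCM_of_essFiniteType (k L : Type u) [Field k] [Field L] [Algebra k L]
    [Algebra.EssFiniteType k L] : PreservesCM k L :=
  (preservesCM_of_fg k L ⊤ (IntermediateField.fg_top k L)).of_algEquiv IntermediateField.topEquiv

theorem isCohenMacaulayRing_tensor_of_essFiniteType (k L R : Type u) [Field k] [Field L]
    [Algebra k L] [Algebra.EssFiniteType k L] [CommRing R] [Algebra k R]
    [hR : LocCoh.IsCohenMacaulayRing R] : LocCoh.IsCohenMacaulayRing (L ⊗[k] R) :=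
  preservesCM_of_essFiniteType k L R hR

theorem isCohenMacaulayRing_tensor_of_essFiniteType' (k L R : Type u) [Field k] [Field L]
    [Algebra k L] [Algebra.EssFiniteType k L] [CommRing R] [Algebra k R]
    [hR : LocCoh.IsCohenMacaulayRing R] : LocCoh.IsCohenMacaulayRing (R ⊗[k] L) := by
  have := isCohenMacaulayRing_tensor_of_essFiniteType k L R
  exact CMRingEquiv96.isCohenMacaulayRing_of_ringEquiv
    (Algebra.TensorProduct.comm k L R).toRingEquiv

end Field

end Groth.Agent.Lib.CMFieldExt33
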