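import Groth.Prelude.Def_Dual3
import Mathlib


set_option autoImplicit false
universe u
open CategoryTheory CategoryTheory.Limits AlgebraicGeometry

namespace Groth.Agent.Lib.ResTrdegJacobson

/-- A closed point of a scheme locally of finite type over a Jacobson scheme has residue field
finite over the residue field of its image, so transcendence degree 0. -/
theorem resTrdeg_eq_zero_of_isClosed {W V : Scheme.{u}} (f : W ⟶ V) [LocallyOfFiniteType f]
    [JacobsonSpace V] (w : W) (hw : IsClosed ({w} : Set W)) : Dual3.resTrdeg f w = 0 := by
  have hci := isClosed_singleton_iff_isClosedImmersion.mp hw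
  have hfin : IsFinite (W.fromSpecResidueField w ≫ f) :=
    (isFinite_iff_locallyOfFiniteType_of_jacobsonSpace
      (f := W.fromSpecResidueField w ≫ f)).mpr inferInstance
  rw [← f.SpecMap_residueFieldMap_fromSpecResidueField w] at hfin
  have hfin' : IsFinite (Spec.map (f.residueFieldMap w)) := IsFinite.of_comp _ (V.fromSpecResidueField (f w))
  rw [IsFinite.SpecMap_iff] at hfin'
  unfold Dual3.resTrdeg
  let := (f.residueFieldMap w).hom.toAlgebra
  have : Module.Finite (V.residueField (f w)) (W.residueField w) := hfin'
  exact _root_.trdeg_eq_zero

end Groth.Agent.Lib.ResTrdegJacobson
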