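import Mathlib

/-!
# Transfer lemmas for transcendence degree (helper63)

* `trdeg_eq_of_ringEquiv`: `Algebra.trdeg` is invariant under a compatible pair of ring
  isomorphisms (semilinear invariance).
* `trdeg_eq_of_isAlgebraic_square`: for a commutative square `A → B`, `A → K`, `B → L`, `K → L`
  with `K` algebraic over `A`, `L` algebraic over `B` (e.g. fraction fields), `trdeg K L = trdeg A B`.
-/

set_option autoImplicit false
universe u v w

namespace Groth.Agent.Lib.TrdegTransfer

open Cardinal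

theorem trdeg_le_of_ringEquiv {A₁ : Type u} {A₂ : Type v} {B₁ B₂ : Type w} [CommRing A₁]
    [CommRing A₂] [CommRing B₁] [CommRing B₂] [Nontrivial A₂]
    [Algebra A₁ B₁] [Algebra A₂ B₂] (e : A₁ ≃+* A₂) (f : B₁ ≃+* B₂)
    (h : ∀ a, f (algebraMap A₁ B₁ a) = algebraMap A₂ B₂ (e a)) :
    Algebra.trdeg A₁ B₁ ≤ Algebra.trdeg A₂ B₂ := by
  unfold Algebra.trdeg
  apply ciSup_le'
  rintro ⟨s, hs⟩
  have h2 : AlgebraicIndependent A₂ (fun x : s => f (x : B₁)) := by
    have := AlgebraicIndependent.ringHom_of_comp_eq (x := fun x : s => (x : B₁))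
      (e : A₁ →+* A₂) (f : B₁ →+* B₂) hs e.surjective f.injective (by
        ext a
        simp only [RingHom.coe_comp, RingHom.coe_coe, Function.comp_apply]
        exact (h a).symm)
    exact this
  exact h2.cardinalMk_le_trdeg

theorem trdeg_eq_of_ringEquiv {A₁ : Type u} {A₂ : Type v} {B₁ B₂ : Type w} [CommRing A₁]
    [CommRing A₂] [CommRing B₁] [CommRing B₂] [Nontrivial A₁] [Nontrivial A₂]
    [Algebra A₁ B₁] [Algebra A₂ B₂] (e : A₁ ≃+* A₂) (f : B₁ ≃+* B₂)
    (h : ∀ a, f (algebraMap A₁ B₁ a) = algebraMap A₂ B₂ (e a)) :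
    Algebra.trdeg A₁ B₁ = Algebra.trdeg A₂ B₂ := by
  refine le_antisymm (trdeg_le_of_ringEquiv e f h) (trdeg_le_of_ringEquiv e.symm f.symm ?_)
  intro a
  apply f.injective
  rw [RingEquiv.apply_symm_apply, h, RingEquiv.apply_symm_apply]

theorem trdeg_eq_of_isAlgebraic_square {A : Type u} {B K L : Type v} [CommRing A] [Nontrivial A]
    [CommRing B] [CommRing K] [CommRing L] [NoZeroDivisors L]
    [Algebra A B] [Algebra A K] [Algebra K L] [Algebra B L] [Algebra A L]
    [IsScalarTower A K L] [IsScalarTower A B L]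
    [FaithfulSMul A K] [FaithfulSMul K L] [FaithfulSMul A B] [FaithfulSMul B L]
    [Algebra.IsAlgebraic A K] [Algebra.IsAlgebraic B L] :
    Algebra.trdeg K L = Algebra.trdeg A B := by
  have h1 := trdeg_add_eq A K (A := L)
  have h2 := trdeg_add_eq A B (A := L)
  rw [trdeg_eq_zero (R := A) (A := K), zero_add] at h1
  rw [trdeg_eq_zero (R := B) (A := L), add_zero] at h2
  rw [h1, h2]

end Groth.Agent.Lib.TrdegTransfer
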