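import Groth.Agent.Lib.OrdCat
import Groth.Agent.Lib.Catenary
import Groth.Agent.S7581
import Mathlib

/-!
helper30: catenary topological spaces (`PtTop.IsCatenarySpace`) via the order-theoretic
`OrdCat.IsCat` on `IrreducibleCloseds`.
-/

set_option autoImplicit false
universe u v

namespace Groth.Agent.Lib.H30CatSpace

open Groth.Agent.Lib.OrdCat TopologicalSpace

section Order

variable {α : Type u} {β : Type v} [PartialOrder α] [PartialOrder β]

/-- Reverse a strict series of the order dual. -/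
def rev (s : LTSeries αᵒᵈ) : LTSeries α :=
  LTSeries.mk s.length (fun i => OrderDual.ofDual (s i.rev)) (fun i j hij => by
    have h : j.rev < i.rev := Fin.rev_lt_rev.mpr hij
    exact s.strictMono h)

theorem rev_length (s : LTSeries αᵒᵈ) : (rev s).length = s.length := rfl

theorem rev_head (s : LTSeries αᵒᵈ) : (rev s).head = OrderDual.ofDual s.last := by
  show OrderDual.ofDual (s (Fin.rev 0)) = _
  rw [Fin.rev_zero]; rfl

theorem rev_last (s : LTSeries αᵒᵈ) : (rev s).last = OrderDual.ofDual s.head := by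
  show OrderDual.ofDual (s (Fin.rev (Fin.last _))) = _
  rw [Fin.rev_last]; rfl

theorem rev_sat (s : LTSeries αᵒᵈ)
    (hs : ∀ i : Fin s.length, s (Fin.castSucc i) ⋖ s (Fin.succ i)) :
    ∀ i : Fin (rev s).length, (rev s) (Fin.castSucc i) ⋖ (rev s) (Fin.succ i) := by
  intro i
  have i' : Fin s.length := i
  have key : ∀ j : Fin s.length,
      OrderDual.ofDual (s (Fin.rev (Fin.castSucc j))) ⋖ OrderDual.ofDual (s (Fin.rev (Fin.succ j))) := by
    intro j
    rw [ofDual_covBy_ofDual_iff, Fin.rev_succ, Fin.rev_castSucc]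
    exact hs (Fin.rev j)
  exact key i

theorem IsCat.dual (h : IsCat α) : IsCat αᵒᵈ := by
  refine ⟨fun p q hpq => ?_, fun s t hhead hlast hs ht => ?_⟩
  · obtain ⟨n, hn⟩ := h.1 (OrderDual.ofDual q) (OrderDual.ofDual p) hpq
    refine ⟨n, fun s hsp hsq => ?_⟩
    have := hn (rev s) (by rw [rev_head, hsq]) (by rw [rev_last, hsp])
    simpa [rev_length] using this
  · have := h.2 (rev s) (rev t) (by rw [rev_head, rev_head, hlast]) (by rw [rev_last, rev_last, hhead])
      (rev_sat s hs) (rev_sat t ht)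
    simpa [rev_length] using this

theorem IsCat.of_orderIso (e : α ≃o β) (h : IsCat β) : IsCat α :=
  IsCat.of_embedding e.toOrderEmbedding (fun _ _ c _ _ => ⟨e.symm c, e.apply_symm_apply c⟩) h

theorem isCat_dual_iff : IsCat αᵒᵈ ↔ IsCat α :=
  ⟨fun h => IsCat.of_orderIso (OrderIso.dualDual α) (IsCat.dual h), fun h => IsCat.dual h⟩

theorem isCat_orderIso_iff (e : α ≃o β) : IsCat α ↔ IsCat β :=
  ⟨fun h => IsCat.of_orderIso e.symm h, fun h => IsCat.of_orderIso e h⟩

/-- Dual form of `IsCat.of_embedding` is the same; dual form of `IsCat.of_local`: covering by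
order embeddings onto upper sets. -/
theorem IsCat.of_local_upper
    (h : ∀ q : β, ∃ (α : Type u) (_ : PartialOrder α) (e : α ↪o β),
      (∀ (a : α) (c : β), e a ≤ c → c ∈ Set.range e) ∧ q ∈ Set.range e ∧ IsCat α) :
    IsCat β := by
  rw [← isCat_dual_iff]
  apply IsCat.of_local
  intro q
  obtain ⟨α, _, e, hup, ⟨q', hq'⟩, hcat⟩ := h (OrderDual.ofDual q)
  refine ⟨αᵒᵈ, inferInstance, e.dual, ?_, ⟨OrderDual.toDual q', ?_⟩, IsCat.dual hcat⟩
  · intro a c hc
    obtain ⟨c', hc'⟩ := hup (OrderDual.ofDual a) (OrderDual.ofDual c) hc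
    exact ⟨OrderDual.toDual c', congrArg OrderDual.toDual hc'⟩
  · exact congrArg OrderDual.toDual hq'

open Groth.Agent.S7581 in
theorem isCat_iff_cat : IsCat α ↔ Groth.Agent.S7581.Cat α := by
  constructor
  · intro h a b hab
    obtain ⟨n, hn⟩ := h.1 a b hab
    have hfin : c a b ≠ ⊤ := by
      have hle : c a b ≤ (n : ℕ∞) := by
        apply c_le
        intro s h1 h2
        rcases eq_or_lt_of_le h2 with h3 | h3
        · exact_mod_cast hn s h1 h3
        · have := hn (s.snoc b h3) (by simpa using h1) (by simp)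
          have h4 : (s.snoc b h3).length = s.length + 1 := by simp [RelSeries.snoc, RelSeries.append]
          have : s.length ≤ n := by omega
          exact_mod_cast this
      exact ne_top_of_le_ne_top (ENat.natCast_ne_top n) hle
    refine ⟨hfin, fun s h1 h2 hsat => ?_⟩
    obtain ⟨s', h1', h2', hsat', hlen'⟩ := exists_max_chain hab hfin
    rw [← hlen']
    have := h.2 s s' (h1.trans h1'.symm) (h2.trans h2'.symm) hsat hsat'
    exact_mod_cast this
  · intro h
    refine ⟨fun p q hpq => ?_, fun s t hhead hlast hs ht => ?_⟩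
    · have hfin := (h p q hpq).1
      refine ⟨(c p q).toNat, fun s h1 h2 => ?_⟩
      have := le_c (a := p) (b := q) s h1 h2.le
      rw [← ENat.natCast_toNat hfin] at this
      exact_mod_cast this
    · have hle : s.head ≤ s.last := LTSeries.head_le_last s
      have h1 := (h s.head s.last hle).2 s rfl rfl hs
      have h2 := (h s.head s.last hle).2 t hhead.symm hlast.symm ht
      have : (s.length : ℕ∞) = t.length := h1.trans h2.symm
      exact_mod_cast this

end Order

section Top

open Topology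

variable {X : Type u} [TopologicalSpace X] {Y : Type v} [TopologicalSpace Y]

theorem isCatenarySpace_iff : PtTop.IsCatenarySpace X ↔ IsCat (IrreducibleCloseds X) := by
  rw [isCat_iff_cat]
  unfold PtTop.IsCatenarySpace Groth.Agent.S7581.Cat Groth.Agent.S7581.Sat
  simp only [Groth.Agent.S7581.codim_eq]

/-- `IrreducibleCloseds.map` along an inducing map as an order embedding. -/
noncomputable def mapEmb {f : Y → X} (hf : IsInducing f) :
    IrreducibleCloseds Y ↪o IrreducibleCloseds X :=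
  OrderEmbedding.ofMapLEIff (IrreducibleCloseds.map f hf.continuous) (by
    intro a b
    refine ⟨fun h => ?_, fun h => IrreducibleCloseds.map_mono hf.continuous h⟩
    have h' : closure (f '' (a : Set Y)) ⊆ closure (f '' (b : Set Y)) := h
    have ha : (a : Set Y) = f ⁻¹' closure (f '' (a : Set Y)) := by
      rw [← hf.closure_eq_preimage_closure_image, a.isClosed.closure_eq]
    have hb : (b : Set Y) = f ⁻¹' closure (f '' (b : Set Y)) := by
      rw [← hf.closure_eq_preimage_closure_image, b.isClosed.closure_eq]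
    show (a : Set Y) ⊆ b
    rw [ha, hb]
    exact Set.preimage_mono h')

theorem mapEmb_apply {f : Y → X} (hf : IsInducing f) (a : IrreducibleCloseds Y) :
    mapEmb hf a = IrreducibleCloseds.map f hf.continuous a := rfl

theorem coe_mapEmb {f : Y → X} (hf : IsInducing f) (a : IrreducibleCloseds Y) :
    (mapEmb hf a : Set X) = closure (f '' (a : Set Y)) := rfl

/-- The range of `mapEmb` is order-convex when the range of `f` is locally closed. -/
theorem mapEmb_convex {f : Y → X} (hf : IsInducing f) (hlc : IsLocallyClosed (Set.range f))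
    (a b : IrreducibleCloseds Y) (c : IrreducibleCloseds X)
    (hac : mapEmb hf a ≤ c) (hcb : c ≤ mapEmb hf b) : c ∈ Set.range (mapEmb hf) := by
  have hac' : closure (f '' (a : Set Y)) ⊆ (c : Set X) := hac
  have hcb' : (c : Set X) ⊆ closure (f '' (b : Set Y)) := hcb
  obtain ⟨y₀, hy₀⟩ := a.isIrreducible.nonempty
  have hx₀ : f y₀ ∈ (c : Set X) := hac' (subset_closure ⟨y₀, hy₀, rfl⟩)
  have hcr : (c : Set X) ⊆ closure (Set.range f) :=
    hcb'.trans (closure_mono (Set.image_subset_range f _))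
  have h03 : IsLocallyClosed (Set.range f) ↔
      ∀ x ∈ Set.range f, ∃ U, x ∈ U ∧ IsOpen U ∧ U ∩ closure (Set.range f) ⊆ Set.range f :=
    (isLocallyClosed_tfae (Set.range f)).out 0 3
  obtain ⟨U, hxU, hUo, hUsub⟩ := h03.mp hlc (f y₀) ⟨y₀, rfl⟩
  have hcU : (c : Set X) ∩ U ⊆ Set.range f := fun x hx => hUsub ⟨hx.2, hcr hx.1⟩
  have hne : ((c : Set X) ∩ U).Nonempty := ⟨f y₀, hx₀, hxU⟩
  have hirr : IsIrreducible (f ⁻¹' (c : Set X)) := by
    refine ⟨⟨y₀, hx₀⟩, ?_⟩
    intro u v hu hv hnu hnv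
    obtain ⟨u', hu', rfl⟩ := hf.isOpen_iff.mp hu
    obtain ⟨v', hv', rfl⟩ := hf.isOpen_iff.mp hv
    obtain ⟨y₁, hy₁c, hy₁u⟩ := hnu
    obtain ⟨y₂, hy₂c, hy₂v⟩ := hnv
    obtain ⟨x₁, hx₁c, hx₁U, hx₁u⟩ := c.isIrreducible.isPreirreducible U u' hUo hu' hne ⟨f y₁, hy₁c, hy₁u⟩
    obtain ⟨x₂, hx₂c, hx₂Uu, hx₂v⟩ := c.isIrreducible.isPreirreducible (U ∩ u') v' (hUo.inter hu') hv'
      ⟨x₁, hx₁c, hx₁U, hx₁u⟩ ⟨f y₂, hy₂c, hy₂v⟩
    obtain ⟨y, rfl⟩ := hcU ⟨hx₂c, hx₂Uu.1⟩
    exact ⟨y, hx₂c, hx₂Uu.2, hx₂v⟩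
  refine ⟨⟨f ⁻¹' (c : Set X), hirr, c.isClosed.preimage hf.continuous⟩, ?_⟩
  apply IrreducibleCloseds.ext
  rw [coe_mapEmb]
  show closure (f '' (f ⁻¹' (c : Set X))) = (c : Set X)
  apply subset_antisymm
  · exact closure_minimal (Set.image_preimage_subset f _) c.isClosed
  · refine (subset_closure_inter_of_isPreirreducible_of_isOpen c.isIrreducible.isPreirreducible hUo hne).trans
      (closure_mono ?_)
    intro x hx
    obtain ⟨y, rfl⟩ := hcU hx
    exact ⟨y, hx.1, rfl⟩

/-- A subspace with locally closed range of a catenary space is catenary. -/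
theorem isCatenarySpace_of_isInducing {f : Y → X} (hf : IsInducing f)
    (hlc : IsLocallyClosed (Set.range f)) (h : PtTop.IsCatenarySpace X) :
    PtTop.IsCatenarySpace Y := by
  rw [isCatenarySpace_iff] at h ⊢
  exact IsCat.of_embedding (mapEmb hf) (mapEmb_convex hf hlc) h

theorem isCatenarySpace_of_homeomorph (e : Y ≃ₜ X) (h : PtTop.IsCatenarySpace X) :
    PtTop.IsCatenarySpace Y :=
  isCatenarySpace_of_isInducing e.isInducing (by rw [e.range_coe]; exact isClosed_univ.isLocallyClosed) h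

theorem isCatenarySpace_homeomorph_iff (e : Y ≃ₜ X) :
    PtTop.IsCatenarySpace Y ↔ PtTop.IsCatenarySpace X :=
  ⟨isCatenarySpace_of_homeomorph e.symm, isCatenarySpace_of_homeomorph e⟩

theorem isCatenarySpace_of_isOpenEmbedding {f : Y → X} (hf : IsOpenEmbedding f)
    (h : PtTop.IsCatenarySpace X) : PtTop.IsCatenarySpace Y :=
  isCatenarySpace_of_isInducing hf.isInducing hf.isOpen_range.isLocallyClosed h

theorem isCatenarySpace_of_isClosedEmbedding {f : Y → X} (hf : IsClosedEmbedding f)
    (h : PtTop.IsCatenarySpace X) : PtTop.IsCatenarySpace Y :=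
  isCatenarySpace_of_isInducing hf.isInducing hf.isClosed_range.isLocallyClosed h

/-- The range of `mapEmb` is an upper set for an open embedding. -/
theorem mapEmb_upper {f : Y → X} (hf : IsOpenEmbedding f)
    (a : IrreducibleCloseds Y) (c : IrreducibleCloseds X)
    (hac : mapEmb hf.isInducing a ≤ c) : c ∈ Set.range (mapEmb hf.isInducing) := by
  have hac' : closure (f '' (a : Set Y)) ⊆ (c : Set X) := hac
  obtain ⟨y₀, hy₀⟩ := a.isIrreducible.nonempty
  have hx₀ : f y₀ ∈ (c : Set X) := hac' (subset_closure ⟨y₀, hy₀, rfl⟩)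
  have hne : (f ⁻¹' (c : Set X)).Nonempty := ⟨y₀, hx₀⟩
  refine ⟨(IrreducibleCloseds.orderIsoOfIsOpenEmbedding f hf).symm ⟨c, hne⟩, ?_⟩
  have := (IrreducibleCloseds.orderIsoOfIsOpenEmbedding f hf).apply_symm_apply ⟨c, hne⟩
  exact congrArg Subtype.val this

/-- A space is catenary as soon as every point has a catenary open neighbourhood (given as the
source of an open embedding). -/
theorem isCatenarySpace_of_local
    (h : ∀ x : X, ∃ (Y : Type u) (_ : TopologicalSpace Y) (f : Y → X),
      IsOpenEmbedding f ∧ x ∈ Set.range f ∧ PtTop.IsCatenarySpace Y) :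
    PtTop.IsCatenarySpace X := by
  rw [isCatenarySpace_iff]
  apply IsCat.of_local_upper
  intro q
  obtain ⟨x, hx⟩ := q.isIrreducible.nonempty
  obtain ⟨Y, _, f, hf, ⟨y, rfl⟩, hY⟩ := h x
  refine ⟨IrreducibleCloseds Y, inferInstance, mapEmb hf.isInducing,
    fun a c hac => mapEmb_upper hf a c hac, ?_, isCatenarySpace_iff.mp hY⟩
  have hne : (f ⁻¹' (q : Set X)).Nonempty := ⟨y, hx⟩
  refine ⟨(IrreducibleCloseds.orderIsoOfIsOpenEmbedding f hf).symm ⟨q, hne⟩, ?_⟩
  have := (IrreducibleCloseds.orderIsoOfIsOpenEmbedding f hf).apply_symm_apply ⟨q, hne⟩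
  exact congrArg Subtype.val this

theorem isCatenarySpace_iff_open_cover :
    PtTop.IsCatenarySpace X ↔
      ∀ x : X, ∃ U : TopologicalSpace.Opens X, x ∈ U ∧ PtTop.IsCatenarySpace U := by
  constructor
  · intro h x
    exact ⟨⊤, trivial, isCatenarySpace_of_isOpenEmbedding
      (⊤ : TopologicalSpace.Opens X).isOpenEmbedding' h⟩
  · intro h
    apply isCatenarySpace_of_local
    intro x
    obtain ⟨U, hxU, hU⟩ := h x
    exact ⟨U, inferInstance, Subtype.val, U.isOpenEmbedding', ⟨⟨x, hxU⟩, rfl⟩, hU⟩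

theorem isCatenarySpace_of_isLocallyClosed (h : PtTop.IsCatenarySpace X) (S : Set X)
    (hS : IsLocallyClosed S) : PtTop.IsCatenarySpace S :=
  isCatenarySpace_of_isInducing IsInducing.subtypeVal (by rwa [Subtype.range_coe]) h

end Top

section Ring

variable (R : Type u) [CommRing R]

theorem isCatenarySpace_primeSpectrum_iff :
    PtTop.IsCatenarySpace (PrimeSpectrum R) ↔ CAlg.IsCatenary R := by
  rw [isCatenarySpace_iff, Groth.Agent.Lib.Catenary.isCatenary_iff_isCat,
    isCat_orderIso_iff (PrimeSpectrum.pointsEquivIrreducibleCloseds R), isCat_dual_iff]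

end Ring

end Groth.Agent.Lib.H30CatSpace
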