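import Groth.Agent.Lib.Catenary
import Mathlib.RingTheory.MvPolynomial.Localization
import Mathlib.RingTheory.RingHom.FiniteType
import Mathlib.RingTheory.FiniteType
import Mathlib.RingTheory.Localization.Submodule

/-!
`CAlg.IsUniversallyCatenary` is local on maximal ideals (for Noetherian rings).
-/

set_option autoImplicit false
universe u

namespace Groth.Agent.Lib.UCatenary

open Groth.Agent.Lib.Catenary

attribute [local instance] MvPolynomial.algebraMvPolynomial

theorem isUniversallyCatenary_localization {R : Type u} [CommRing R]
    (h : CAlg.IsUniversallyCatenary R) (M : Submonoid R) :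
    CAlg.IsUniversallyCatenary (Localization M) := by
  obtain ⟨hN, h⟩ := h
  refine ⟨IsLocalization.isNoetherianRing M _ hN, ?_⟩
  intro T _ _ hT
  obtain ⟨n, f, hf⟩ := Algebra.FiniteType.iff_quotient_mvPolynomial''.1 hT
  have hP : CAlg.IsCatenary (MvPolynomial (Fin n) R) := h _ inferInstance
  have hPm : CAlg.IsCatenary (MvPolynomial (Fin n) (Localization M)) :=
    isCatenary_of_isLocalization (M.map MvPolynomial.C) _ hP
  exact isCatenary_of_surjective f.toRingHom hf hPm

theorem isUniversallyCatenary_iff_localization_maximal (R : Type u) [CommRing R]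
    [IsNoetherianRing R] :
    CAlg.IsUniversallyCatenary R ↔
      ∀ (m : Ideal R) [m.IsMaximal], CAlg.IsUniversallyCatenary (Localization.AtPrime m) := by
  constructor
  · intro h m _
    exact isUniversallyCatenary_localization h m.primeCompl
  · intro h
    refine ⟨inferInstance, ?_⟩
    intro S _ _ hS
    apply isCatenary_of_local
    intro q
    have hp : (Ideal.comap (algebraMap R S) q.asIdeal).IsPrime := Ideal.IsPrime.comap _
    obtain ⟨m, hm, hpm⟩ := Ideal.exists_le_maximal _ hp.ne_top
    refine ⟨Algebra.algebraMapSubmonoid S m.primeCompl, ?_, ?_⟩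
    · rw [Set.disjoint_left]
      rintro x ⟨r, hr, rfl⟩ hxq
      exact hr (hpm hxq)
    · apply (h m).2 (Localization (Algebra.algebraMapSubmonoid S m.primeCompl))
      rw [← RingHom.finiteType_algebraMap]
      have hfin : (algebraMap R S).FiniteType := RingHom.finiteType_algebraMap.2 hS
      have hloc : IsLocalization (Submonoid.map (algebraMap R S) m.primeCompl)
          (Localization (Algebra.algebraMapSubmonoid S m.primeCompl)) :=
        inferInstanceAs (IsLocalization (Algebra.algebraMapSubmonoid S m.primeCompl) _)
      exact RingHom.finiteType_localizationPreserves (algebraMap R S) m.primeCompl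
        (Localization.AtPrime m) (Localization (Algebra.algebraMapSubmonoid S m.primeCompl)) hfin

end Groth.Agent.Lib.UCatenary
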