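import Mathlib.RingTheory.FiniteLength
import Mathlib.RingTheory.Support
import Mathlib.RingTheory.SimpleModule.Basic
import Mathlib.RingTheory.Ideal.AssociatedPrime.Finiteness
import Mathlib.RingTheory.Artinian.Module
import Mathlib.RingTheory.LocalRing.MaximalIdeal.Basic
import Mathlib.RingTheory.Spectrum.Prime.Topology

/-!
# Finite length and support

* `isMaximal_of_mem_support_of_isFiniteLength`: the support of a module of finite length consists
  of maximal ideals;
* `isFiniteLength_of_support_isMaximal`: a finite module over a Noetherian ring whose support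
  consists of maximal ideals has finite length;
* `isFiniteLength_iff_support_isMaximal`;
* `IsFiniteLength.of_exact` : finite length is stable under extensions;
* `isFiniteLength_iff_support_subset_closedPoint` (local rings).
-/

set_option autoImplicit false
universe u v

namespace Groth.Agent.Lib.FiniteLengthSupport

variable {R : Type u} [CommRing R]

theorem IsFiniteLength.of_exact {M N P : Type*} [AddCommGroup M] [Module R M] [AddCommGroup N]
    [Module R N] [AddCommGroup P] [Module R P] (f : M →ₗ[R] N) (g : N →ₗ[R] P)
    (hfg : Function.Exact f g) (hM : IsFiniteLength R M) (hP : IsFiniteLength R P) :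
    IsFiniteLength R N := by
  rw [isFiniteLength_iff_isNoetherian_isArtinian] at hM hP ⊢
  obtain ⟨_, _⟩ := hM
  obtain ⟨_, _⟩ := hP
  have h : LinearMap.range f = LinearMap.ker g := hfg.linearMap_ker_eq.symm
  exact ⟨isNoetherian_of_range_eq_ker f g h, isArtinian_of_range_eq_ker f g h⟩

theorem isFiniteLength_of_isSimpleModule {M : Type*} [AddCommGroup M] [Module R M]
    [IsSimpleModule R M] : IsFiniteLength R M := by
  open scoped IsSimpleOrder in
  rw [isFiniteLength_iff_isNoetherian_isArtinian]
  exact ⟨inferInstance, inferInstance⟩

theorem mem_support_quotient_iff (I : Ideal R) (p : PrimeSpectrum R) :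
    p ∈ Module.support R (R ⧸ I) ↔ I ≤ p.asIdeal := by
  rw [Module.mem_support_iff_exists_annihilator]
  constructor
  · rintro ⟨m, hm⟩ a ha
    apply hm
    rw [Submodule.mem_annihilator_span_singleton]
    obtain ⟨b, rfl⟩ := Ideal.Quotient.mk_surjective m
    have : a • Ideal.Quotient.mk I b = Ideal.Quotient.mk I (a * b) := by
      rw [Algebra.smul_def, map_mul]; rfl
    rw [this, Ideal.Quotient.eq_zero_iff_mem]
    exact I.mul_mem_right b ha
  · intro h
    refine ⟨Ideal.Quotient.mk I 1, fun a ha => h ?_⟩
    rw [Submodule.mem_annihilator_span_singleton] at ha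
    have : a • Ideal.Quotient.mk I 1 = Ideal.Quotient.mk I a := by
      rw [Algebra.smul_def, map_one, mul_one]; rfl
    rw [this, Ideal.Quotient.eq_zero_iff_mem] at ha
    exact ha

theorem isMaximal_of_mem_support_of_isFiniteLength {M : Type v} [AddCommGroup M] [Module R M]
    (h : IsFiniteLength R M) : ∀ p ∈ Module.support R M, p.asIdeal.IsMaximal := by
  induction h with
  | of_subsingleton =>
    intro p hp
    rw [Module.support_eq_empty] at hp
    exact hp.elim
  | @of_simple_quotient M _ _ N hs _ ih =>
    intro p hp
    rw [Module.support_of_exact (LinearMap.exact_subtype_mkQ N) N.injective_subtype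
      N.mkQ_surjective] at hp
    rcases hp with hp | hp
    · exact ih p hp
    · obtain ⟨I, hI, ⟨e⟩⟩ := isSimpleModule_iff_quot_maximal.mp hs
      rw [e.support_eq, mem_support_quotient_iff] at hp
      have : I = p.asIdeal := hI.eq_of_le p.2.ne_top hp
      exact this ▸ hI

theorem isFiniteLength_of_support_isMaximal [IsNoetherianRing R] {M : Type v} [AddCommGroup M]
    [Module R M] [hfin : Module.Finite R M]
    (h : ∀ p ∈ Module.support R M, p.asIdeal.IsMaximal) : IsFiniteLength R M := by
  induction hfin using IsNoetherianRing.induction_on_isQuotientEquivQuotientPrime with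
  | subsingleton N => exact IsFiniteLength.of_subsingleton
  | quotient N p e =>
    have hp : p ∈ Module.support R N := by
      rw [e.support_eq, mem_support_quotient_iff]
    have hmax := h p hp
    haveI : IsSimpleModule R N := isSimpleModule_iff_quot_maximal.mpr ⟨p.asIdeal, hmax, ⟨e⟩⟩
    exact isFiniteLength_of_isSimpleModule
  | exact N₁ N₂ N₃ f g hf hg hfg h₁ h₃ =>
    rw [Module.support_of_exact hfg hf hg] at h
    exact IsFiniteLength.of_exact f g hfg (h₁ fun p hp => h p (Or.inl hp))
      (h₃ fun p hp => h p (Or.inr hp))

theorem isFiniteLength_iff_support_isMaximal [IsNoetherianRing R] {M : Type v} [AddCommGroup M]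
    [Module R M] [Module.Finite R M] :
    IsFiniteLength R M ↔ ∀ p ∈ Module.support R M, p.asIdeal.IsMaximal :=
  ⟨isMaximal_of_mem_support_of_isFiniteLength, isFiniteLength_of_support_isMaximal⟩

theorem isFiniteLength_iff_support_subset_closedPoint [IsNoetherianRing R] [IsLocalRing R]
    {M : Type v} [AddCommGroup M] [Module R M] [Module.Finite R M] :
    IsFiniteLength R M ↔ ∀ p ∈ Module.support R M, p = IsLocalRing.closedPoint R := by
  rw [isFiniteLength_iff_support_isMaximal]
  refine forall₂_congr fun p _ => ?_
  constructor
  · intro hp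
    exact PrimeSpectrum.ext (IsLocalRing.eq_maximalIdeal hp)
  · rintro rfl
    exact IsLocalRing.maximalIdeal.isMaximal R

end Groth.Agent.Lib.FiniteLengthSupport
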