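import Mathlib.Tactic
import Mathlib.Algebra.Homology.DerivedCategory.Ext.ExactSequences
import Mathlib.Algebra.Homology.ShortComplex.ModuleCat
import Mathlib.Algebra.Category.ModuleCat.Ext.HasExt
import Mathlib.RingTheory.FiniteLength
import Mathlib.RingTheory.LocalRing.MaximalIdeal.Basic

/-!
# `Ext` out of finite-length modules over a local ring (helper26)

* `subsingleton_ext_of_isZero`, `subsingleton_ext_of_iso`, `subsingleton_ext_of_shortExact`:
  elementary vanishing transport for `Ext^j(-, Y)` in an abelian category.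
* `subsingleton_ext_of_isFiniteLength`: over a local ring `A`, if `Ext^j(A/𝔪, Y) = 0` then
  `Ext^j(N, Y) = 0` for every `A`-module `N` of finite length.
-/

set_option autoImplicit false
universe w v u
open CategoryTheory CategoryTheory.Limits

namespace Groth.Agent.Lib.H26FinLenExt

section General

variable {C : Type u} [Category.{v} C] [Abelian C] [HasExt.{w} C]

open Abelian

lemma subsingleton_ext_of_isZero {X : C} (hX : IsZero X) (Y : C) (j : ℕ) :
    Subsingleton (Ext X Y j) := by
  refine subsingleton_of_forall_eq 0 fun e => ?_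
  have h1 : e = (Ext.mk₀ (𝟙 X)).comp e (zero_add j) := (Ext.mk₀_id_comp e).symm
  rw [h1, hX.eq_of_src (𝟙 _) 0, Ext.mk₀_zero, Ext.zero_comp]

lemma subsingleton_ext_of_iso {X X' : C} (e : X ≅ X') (Y : C) (j : ℕ)
    (h : Subsingleton (Ext X Y j)) : Subsingleton (Ext X' Y j) := by
  refine subsingleton_of_forall_eq 0 fun x => ?_
  have h1 : x = (Ext.mk₀ e.inv).comp ((Ext.mk₀ e.hom).comp x (zero_add j)) (zero_add j) := by
    rw [← Ext.comp_assoc _ _ _ (zero_add 0) (zero_add j) (by omega), Ext.mk₀_comp_mk₀,
      e.inv_hom_id, Ext.mk₀_id_comp]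
  rw [h1, Subsingleton.elim ((Ext.mk₀ e.hom).comp x (zero_add j)) 0, Ext.comp_zero]

lemma subsingleton_ext_of_shortExact {S : ShortComplex C} (hS : S.ShortExact) (Y : C) (j : ℕ)
    (h1 : Subsingleton (Ext S.X₁ Y j)) (h3 : Subsingleton (Ext S.X₃ Y j)) :
    Subsingleton (Ext S.X₂ Y j) := by
  refine subsingleton_of_forall_eq 0 fun e => ?_
  have h0 : (Ext.mk₀ S.f).comp e (zero_add j) = 0 := Subsingleton.elim _ _
  obtain ⟨x₃, rfl⟩ := Ext.contravariant_sequence_exact₂ hS Y e h0
  rw [Subsingleton.elim x₃ 0, Ext.comp_zero]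

end General

section Module

open Abelian

variable {A : Type u} [CommRing A]

/-- Over a local ring, `Ext^j(A/𝔪, Y) = 0` implies `Ext^j(N, Y) = 0` for `N` of finite length. -/
theorem subsingleton_ext_of_isFiniteLength [IsLocalRing A] (Y : ModuleCat.{u} A) (j : ℕ)
    (h : Subsingleton (Ext (ModuleCat.of A (A ⧸ IsLocalRing.maximalIdeal A)) Y j))
    (N : Type u) [AddCommGroup N] [Module A N] (hN : IsFiniteLength A N) :
    Subsingleton (Ext (ModuleCat.of A N) Y j) := by
  induction hN with
  | of_subsingleton =>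
    exact subsingleton_ext_of_isZero (ModuleCat.isZero_of_subsingleton _) Y j
  | @of_simple_quotient M _ _ N' _ hN' ih =>
    obtain ⟨I, hI, ⟨e⟩⟩ := isSimpleModule_iff_quot_maximal.mp
      (inferInstance : IsSimpleModule A (M ⧸ N'))
    have hIm : I = IsLocalRing.maximalIdeal A := IsLocalRing.eq_maximalIdeal hI
    subst hIm
    have h3 : Subsingleton (Ext (ModuleCat.of A (M ⧸ N')) Y j) :=
      subsingleton_ext_of_iso e.symm.toModuleIso Y j h
    let S : ShortComplex (ModuleCat.{u} A) :=
      ShortComplex.mk (ModuleCat.ofHom N'.subtype) (ModuleCat.ofHom N'.mkQ) (by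
        apply ModuleCat.hom_ext
        apply LinearMap.ext
        intro x
        simp)
    have hS : S.ShortExact := by
      refine ModuleCat.shortComplex_shortExact S ?_ Subtype.val_injective
        (Submodule.mkQ_surjective N')
      intro y
      change N'.mkQ y = 0 ↔ y ∈ Set.range N'.subtype
      simp
    exact subsingleton_ext_of_shortExact hS Y j ih h3

end Module

end Groth.Agent.Lib.H26FinLenExt
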