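import Groth.Agent.Lib.H87GlDim2
import Groth.Agent.Lib.H29Depth
import Groth.Agent.Lib.DepthRees

/-!
# Auslander–Buchsbaum formula (helper87)

For a Noetherian local ring `R` and a nonzero finite module `M` of finite projective dimension:
`depth R = pd M + depth M` (for the prelude's `LocCoh.depth`).

Main results (namespace `Groth.Agent.Lib.H87AB`):
* `exists_minimal_presentation` : minimal presentation `0 → K → R^n → M → 0` with `K ≤ 𝔪 R^n`.
* `subsingleton_ext_free`, `subsingleton_ext_self_of_free` : `Ext(X, F) = 0 ↔ Ext(X, R) = 0`, `F` finite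
  free nonzero.
* `comp_mk₀_eq_zero_of_range_le` : a map `K → F` from a finite free module with image in `𝔪 F`
  induces zero on `Ext(k, -)`.
* `IsDepth`, `depth_eq_iff` : `depth M = d ↔ Ext^i(k, M) = 0 (i < d) ∧ Ext^d(k, M) ≠ 0`.
* `auslander_buchsbaum_aux`, `auslander_buchsbaum'`, `auslander_buchsbaum`.
* `exists_projectiveDimension_eq`, `free_of_depth_eq` (finite pd and `depth M = depth R` ⇒ free).
* `depth_self_of_isRegularLocalRing` : `depth R = dim R` for a regular local ring.
* `free_of_isRegularLocalRing_of_depth_eq` : MCM modules over regular local rings are free.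
-/

set_option autoImplicit false
universe u
open CategoryTheory Abelian IsLocalRing Pointwise

namespace Groth.Agent.Lib.H87AB

variable {R : Type u} [CommRing R]

/-- Scalars killing the first variable kill `Ext`. -/
theorem smul_ext_eq_zero {X Y : ModuleCat.{u} R} (a : R) (ha : ∀ x : X, a • x = 0) (i : ℕ)
    (z : Ext X Y i) : a • z = 0 := by
  have h1 : a • 𝟙 X = 0 := by
    apply ModuleCat.hom_ext
    apply LinearMap.ext
    intro y
    exact ha y
  have : a • z = (Ext.mk₀ (a • 𝟙 X)).comp z (zero_add i) := by
    rw [Ext.mk₀_smul, Ext.smul_comp, Ext.mk₀_id_comp]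
  rw [this, h1, Ext.mk₀_zero, Ext.zero_comp]

/-- Decomposition of a linear map out of a module with a finite basis. -/
theorem linearMap_eq_sum {ι : Type*} [Fintype ι] {K F : Type u} [AddCommGroup K] [Module R K]
    [AddCommGroup F] [Module R F] (b : Module.Basis ι R K) (g : K →ₗ[R] F) :
    g = ∑ j, (LinearMap.toSpanSingleton R F (g (b j))).comp (b.coord j) := by
  apply b.ext
  intro i
  rw [LinearMap.sum_apply]
  simp only [LinearMap.comp_apply, LinearMap.toSpanSingleton_apply, Module.Basis.coord_apply,
    Module.Basis.repr_self]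
  rw [Finset.sum_eq_single i]
  · simp
  · intro j _ hji
    simp [hji.symm]
  · intro h
    exact absurd (Finset.mem_univ i) h

/-- Postcomposition of an `Ext`-class with a finite sum of morphisms. -/
theorem comp_mk₀_ofHom_sum {ι : Type*} [Fintype ι] {X : ModuleCat.{u} R} {K F : Type u}
    [AddCommGroup K] [Module R K] [AddCommGroup F] [Module R F] (i : ℕ)
    (x : Ext X (ModuleCat.of R K) i) (h : ι → (K →ₗ[R] F)) :
    x.comp (Ext.mk₀ (ModuleCat.ofHom (∑ j, h j))) (add_zero i) =
      ∑ j, x.comp (Ext.mk₀ (ModuleCat.ofHom (h j))) (add_zero i) := by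
  have : ModuleCat.ofHom (∑ j, h j) = ∑ j, ModuleCat.ofHom (h j) := by
    apply ModuleCat.hom_ext
    rw [ModuleCat.hom_sum]
    rfl
  rw [this, Ext.mk₀_sum, Ext.comp_sum]

/-- If `Ext X R i` vanishes then so does `Ext X F i` for a finite free module `F`. -/
theorem subsingleton_ext_free {ι : Type*} [Fintype ι] {X : ModuleCat.{u} R} {F : Type u}
    [AddCommGroup F] [Module R F] (b : Module.Basis ι R F) (i : ℕ)
    (h : Subsingleton (Ext X (ModuleCat.of R R) i)) :
    Subsingleton (Ext X (ModuleCat.of R F) i) := by
  refine subsingleton_of_forall_eq 0 fun x => ?_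
  have h1 : x = x.comp (Ext.mk₀ (ModuleCat.ofHom (LinearMap.id : F →ₗ[R] F))) (add_zero i) := by
    rw [ModuleCat.ofHom_id, Ext.comp_mk₀_id]
  rw [h1, linearMap_eq_sum b LinearMap.id, comp_mk₀_ofHom_sum]
  apply Finset.sum_eq_zero
  intro j _
  rw [ModuleCat.ofHom_comp, ← Ext.mk₀_comp_mk₀, ← Ext.comp_assoc_of_third_deg_zero,
    Subsingleton.elim (x.comp (Ext.mk₀ (ModuleCat.ofHom (b.coord j))) (add_zero i)) 0,
    Ext.zero_comp]

/-- If `Ext X F i` vanishes for a nonzero finite free module `F` then so does `Ext X R i`. -/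
theorem subsingleton_ext_self_of_free {ι : Type*} [Nonempty ι] {X : ModuleCat.{u} R}
    {F : Type u} [AddCommGroup F] [Module R F] (b : Module.Basis ι R F) (i : ℕ)
    (h : Subsingleton (Ext X (ModuleCat.of R F) i)) :
    Subsingleton (Ext X (ModuleCat.of R R) i) := by
  obtain ⟨j⟩ := ‹Nonempty ι›
  refine subsingleton_of_forall_eq 0 fun x => ?_
  have h0 : (b.coord j).comp (LinearMap.toSpanSingleton R F (b j)) = LinearMap.id := by
    apply LinearMap.ext
    intro r
    simp
  have h1 : x = x.comp (Ext.mk₀ (ModuleCat.ofHom (LinearMap.id : R →ₗ[R] R))) (add_zero i) := by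
    rw [ModuleCat.ofHom_id, Ext.comp_mk₀_id]
  rw [h1, ← h0, ModuleCat.ofHom_comp, ← Ext.mk₀_comp_mk₀, ← Ext.comp_assoc_of_third_deg_zero,
    Subsingleton.elim (x.comp (Ext.mk₀ (ModuleCat.ofHom
      (LinearMap.toSpanSingleton R F (b j)))) (add_zero i)) 0, Ext.zero_comp]

section Local

variable [IsLocalRing R]

/-- `Ext`-classes out of the residue field are killed by postcomposition with
`r ↦ r • v` for `v ∈ 𝔪 F`. -/
theorem comp_toSpanSingleton_eq_zero {F : Type u} [AddCommGroup F] [Module R F] (i : ℕ)
    (y : Ext (ModuleCat.of R (R ⧸ maximalIdeal R)) (ModuleCat.of R R) i) (v : F)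
    (hv : v ∈ maximalIdeal R • (⊤ : Submodule R F)) :
    y.comp (Ext.mk₀ (ModuleCat.ofHom (LinearMap.toSpanSingleton R F v))) (add_zero i) = 0 := by
  refine Submodule.smul_induction_on (p := fun v => y.comp (Ext.mk₀ (ModuleCat.ofHom
    (LinearMap.toSpanSingleton R F v))) (add_zero i) = 0) hv ?_ ?_
  · intro a ha w _
    have h1 : LinearMap.toSpanSingleton R F (a • w) = a • LinearMap.toSpanSingleton R F w := by
      apply LinearMap.ext
      intro r
      simp [smul_comm a r w]
    have h2 : ModuleCat.ofHom (a • LinearMap.toSpanSingleton R F w) =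
        a • ModuleCat.ofHom (LinearMap.toSpanSingleton R F w) := rfl
    rw [h1, h2, Ext.mk₀_smul, Ext.comp_smul]
    apply smul_ext_eq_zero
    intro x
    obtain ⟨x, rfl⟩ := Ideal.Quotient.mk_surjective x
    change a • (Ideal.Quotient.mk _ x) = 0
    rw [Algebra.smul_def, Ideal.Quotient.algebraMap_eq, ← map_mul]
    exact Ideal.Quotient.eq_zero_iff_mem.mpr (Ideal.mul_mem_right _ _ ha)
  · intro v w hv hw
    have h1 : LinearMap.toSpanSingleton R F (v + w) =
        LinearMap.toSpanSingleton R F v + LinearMap.toSpanSingleton R F w := by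
      apply LinearMap.ext
      intro r
      simp
    have h2 : ModuleCat.ofHom (LinearMap.toSpanSingleton R F v +
        LinearMap.toSpanSingleton R F w) = ModuleCat.ofHom (LinearMap.toSpanSingleton R F v) +
        ModuleCat.ofHom (LinearMap.toSpanSingleton R F w) := rfl
    rw [h1, h2, Ext.mk₀_add, Ext.comp_add, hv, hw, add_zero]

/-- A map from a finite free module with image in `𝔪 F` induces zero on `Ext(k, -)`. -/
theorem comp_mk₀_eq_zero_of_range_le {ι : Type*} [Fintype ι] {K F : Type u} [AddCommGroup K]
    [Module R K] [AddCommGroup F] [Module R F] (b : Module.Basis ι R K) (g : K →ₗ[R] F)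
    (hg : LinearMap.range g ≤ maximalIdeal R • (⊤ : Submodule R F)) (i : ℕ)
    (x : Ext (ModuleCat.of R (R ⧸ maximalIdeal R)) (ModuleCat.of R K) i) :
    x.comp (Ext.mk₀ (ModuleCat.ofHom g)) (add_zero i) = 0 := by
  rw [linearMap_eq_sum b g, comp_mk₀_ofHom_sum]
  apply Finset.sum_eq_zero
  intro j _
  rw [ModuleCat.ofHom_comp, ← Ext.mk₀_comp_mk₀, ← Ext.comp_assoc_of_third_deg_zero]
  exact comp_toSpanSingleton_eq_zero i _ _ (hg ⟨b j, rfl⟩)

end Local

end Groth.Agent.Lib.H87AB

namespace Groth.Agent.Lib.H87AB

variable {R : Type u} [CommRing R] [IsLocalRing R]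

/-- Minimal presentation of a finite module over a local ring: a surjection from a finite free
module whose kernel lies in `𝔪 F`. -/
theorem exists_minimal_presentation (M : Type u) [AddCommGroup M] [Module R M]
    [Module.Finite R M] :
    ∃ (n : ℕ) (f : (Fin n → R) →ₗ[R] M), Function.Surjective f ∧
      LinearMap.ker f ≤ maximalIdeal R • (⊤ : Submodule R (Fin n → R)) := by
  classical
  let _ : Field (R ⧸ maximalIdeal R) := Ideal.Quotient.field _
  have : Module.Finite (R ⧸ maximalIdeal R) (M ⧸ maximalIdeal R • (⊤ : Submodule R M)) :=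
    Module.Finite.of_restrictScalars_finite R _ _
  let b := Module.finBasis (R ⧸ maximalIdeal R) (M ⧸ maximalIdeal R • (⊤ : Submodule R M))
  choose v hv using fun i => Submodule.mkQ_surjective (maximalIdeal R • (⊤ : Submodule R M)) (b i)
  refine ⟨_, Fintype.linearCombination R v, ?_, ?_⟩
  · rw [← LinearMap.range_eq_top, Fintype.range_linearCombination, ← map_mkQ_eq_top,
      Submodule.map_span, ← Set.range_comp]
    have h1 : (Submodule.mkQ (maximalIdeal R • (⊤ : Submodule R M))) ∘ v = b := funext hv
    rw [h1]
    have h2 := b.span_eq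
    have h3 := Submodule.restrictScalars_span R (R ⧸ maximalIdeal R)
      (M := M ⧸ maximalIdeal R • (⊤ : Submodule R M)) Ideal.Quotient.mk_surjective
      (Set.range b)
    rw [h2] at h3
    rw [← h3]
    rfl
  · intro c hc
    rw [LinearMap.mem_ker, Fintype.linearCombination_apply] at hc
    have h1 : ∑ i, (Ideal.Quotient.mk (maximalIdeal R) (c i)) • b i = 0 := by
      have := congrArg (Submodule.mkQ (maximalIdeal R • (⊤ : Submodule R M))) hc
      rw [map_sum, map_zero] at this
      rw [← this]
      apply Finset.sum_congr rfl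
      intro i _
      rw [map_smul, hv i]
      rfl
    have h2 : ∀ i, c i ∈ maximalIdeal R := by
      intro i
      have := Fintype.linearIndependent_iff.mp b.linearIndependent _ h1 i
      exact Ideal.Quotient.eq_zero_iff_mem.mp this
    have h3 : c = ∑ i, c i • (Pi.single i (1 : R) : Fin _ → R) := by
      funext j
      simp [Finset.sum_apply, Pi.single_apply]
    rw [h3]
    apply Submodule.sum_mem
    intro i _
    exact Submodule.smul_mem_smul (h2 i) trivial

end Groth.Agent.Lib.H87AB

namespace Groth.Agent.Lib.H87AB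

variable {R : Type u} [CommRing R] [IsLocalRing R]

/-- `IsDepth M d`: `Ext^i(k, M)` vanishes for `i < d` and does not vanish for `i = d`. -/
def IsDepth (M : Type u) [AddCommGroup M] [Module R M] (d : ℕ) : Prop :=
  (∀ i < d, Subsingleton (Ext (ModuleCat.of R (R ⧸ maximalIdeal R)) (ModuleCat.of R M) i)) ∧
    ¬ Subsingleton (Ext (ModuleCat.of R (R ⧸ maximalIdeal R)) (ModuleCat.of R M) d)

variable [IsNoetherianRing R]

theorem depth_eq_iff (M : Type u) [AddCommGroup M] [Module R M] [Module.Finite R M] (d : ℕ) :
    LocCoh.depth R M = d ↔ IsDepth (R := R) M d := by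
  have key := H29Depth.le_idealDepth_iff_ext' (maximalIdeal R) M
  constructor
  · intro h
    refine ⟨(key d).mp (by rw [← h]; exact le_rfl), ?_⟩
    intro hd
    have h1 : ((d + 1 : ℕ) : ℕ∞) ≤ LocCoh.idealDepth (maximalIdeal R) M := by
      rw [key]
      intro i hi
      rcases Nat.lt_succ_iff_lt_or_eq.mp hi with h' | rfl
      · exact (key d).mp (by rw [← h]; exact le_rfl) i h'
      · exact hd
    have h2 : LocCoh.idealDepth (maximalIdeal R) M = d := h
    rw [h2] at h1
    have : d + 1 ≤ d := by exact_mod_cast h1
    omega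
  · rintro ⟨h1, h2⟩
    have h3 : (d : ℕ∞) ≤ LocCoh.idealDepth (maximalIdeal R) M := (key d).mpr h1
    have h4 : ¬ ((d + 1 : ℕ) : ℕ∞) ≤ LocCoh.idealDepth (maximalIdeal R) M := by
      intro h
      exact h2 ((key (d + 1)).mp h d (Nat.lt_succ_self d))
    change LocCoh.idealDepth (maximalIdeal R) M = d
    apply le_antisymm _ h3
    rw [not_le] at h4
    have : LocCoh.idealDepth (maximalIdeal R) M < (d : ℕ∞) + 1 := by exact_mod_cast h4
    exact Order.le_of_lt_add_one this

end Groth.Agent.Lib.H87AB

namespace Groth.Agent.Lib.H87AB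

variable {R : Type u} [CommRing R] [IsLocalRing R] [IsNoetherianRing R]

/-- **Auslander–Buchsbaum**, `Ext`-form: if `depth R = dR` and `pd M = e` for a nonzero finite
module `M`, then `e ≤ dR` and `depth M = dR - e`. -/
theorem auslander_buchsbaum_aux (dR : ℕ) (hR : IsDepth (R := R) R dR) (e : ℕ) :
    ∀ (M : Type u) [AddCommGroup M] [Module R M] [Module.Finite R M] [Nontrivial M],
      HasProjectiveDimensionLT (ModuleCat.of R M) (e + 1) →
      ¬ HasProjectiveDimensionLT (ModuleCat.of R M) e →
      e ≤ dR ∧ IsDepth (R := R) M (dR - e) := by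
  induction e with
  | zero =>
    intro M _ _ _ _ h1 _
    have hp : Projective (ModuleCat.of R M) :=
      projective_iff_hasProjectiveDimensionLT_one.mpr h1
    have : Module.Projective R M := (IsProjective.iff_projective M).mpr hp
    have : Module.Free R M := Module.free_of_flat_of_isLocalRing
    let b := Module.Free.chooseBasis R M
    have : Nonempty (Module.Free.ChooseBasisIndex R M) := b.index_nonempty
    refine ⟨Nat.zero_le _, ?_, ?_⟩
    · intro i hi
      exact subsingleton_ext_free b i (hR.1 i hi)
    · intro h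
      exact hR.2 (subsingleton_ext_self_of_free b dR h)
  | succ e ih =>
    intro M _ _ _ _ h1 h2
    obtain ⟨n, f, hf, hker⟩ := exists_minimal_presentation (R := R) M
    have hS : f.shortComplexKer.ShortExact := LinearMap.shortExact_shortComplexKer hf
    have hFproj : Projective f.shortComplexKer.X₂ :=
      ModuleCat.projective_of_free (Pi.basisFun R (Fin n))
    have hK1 : HasProjectiveDimensionLT (ModuleCat.of R (LinearMap.ker f)) (e + 1) :=
      (hS.hasProjectiveDimensionLT_X₃_iff e hFproj).mp h1
    have hKnt : Nontrivial (LinearMap.ker f) := by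
      by_contra hnt
      rw [not_nontrivial_iff_subsingleton] at hnt
      have hinj : Function.Injective f := by
        rw [← LinearMap.ker_eq_bot]
        exact (Submodule.subsingleton_iff_eq_bot).mp hnt
      have hiso : ModuleCat.of R (Fin n → R) ≅ ModuleCat.of R M :=
        (LinearEquiv.ofBijective f ⟨hinj, hf⟩).toModuleIso
      have hp : Projective (ModuleCat.of R M) := Projective.of_iso hiso hFproj
      have : HasProjectiveDimensionLT (ModuleCat.of R M) 1 :=
        projective_iff_hasProjectiveDimensionLT_one.mp hp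
      exact h2 (hasProjectiveDimensionLT_of_ge _ 1 (e + 1) (by omega))
    have hK2 : ¬ HasProjectiveDimensionLT (ModuleCat.of R (LinearMap.ker f)) e := by
      cases e with
      | zero =>
        intro h
        have := isZero_of_hasProjectiveDimensionLT_zero (ModuleCat.of R (LinearMap.ker f))
        exact not_subsingleton _ (ModuleCat.subsingleton_of_isZero this)
      | succ e' =>
        intro h
        exact h2 ((hS.hasProjectiveDimensionLT_X₃_iff e' hFproj).mpr h)
    obtain ⟨hle, hKd⟩ := ih (LinearMap.ker f) hK1 hK2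
    -- the map `E^{dK}(K) → E^{dK}(F)` is zero
    have hzero : ∀ x : Ext (ModuleCat.of R (R ⧸ maximalIdeal R))
        (ModuleCat.of R (LinearMap.ker f)) (dR - e),
        x.comp (Ext.mk₀ f.shortComplexKer.f) (add_zero (dR - e)) = 0 := by
      intro x
      rcases Nat.eq_zero_or_pos e with rfl | hpos
      · have hp : Projective (ModuleCat.of R (LinearMap.ker f)) :=
          projective_iff_hasProjectiveDimensionLT_one.mpr hK1
        have : Module.Projective R (LinearMap.ker f) := (IsProjective.iff_projective _).mpr hp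
        have : Module.Free R (LinearMap.ker f) := Module.free_of_flat_of_isLocalRing
        let bK := Module.Free.chooseBasis R (LinearMap.ker f)
        refine comp_mk₀_eq_zero_of_range_le bK (LinearMap.ker f).subtype ?_ _ x
        rw [Submodule.range_subtype]
        exact hker
      · have : Subsingleton (Ext (ModuleCat.of R (R ⧸ maximalIdeal R))
            (ModuleCat.of R (Fin n → R)) (dR - e)) :=
          subsingleton_ext_free (Pi.basisFun R (Fin n)) (dR - e) (hR.1 _ (by omega))
        exact Subsingleton.elim _ _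
    have hdK : 1 ≤ dR - e := by
      by_contra hlt
      have h0 : dR - e = 0 := by omega
      rw [h0] at hKd hzero
      apply hKd.2
      refine subsingleton_of_forall_eq 0 fun x => ?_
      have := hS.mono_f
      apply Ext.postcomp_mk₀_injective_of_mono _ f.shortComplexKer.f
      rw [map_zero]
      exact hzero x
    refine ⟨by omega, ?_, ?_⟩
    · intro i hi
      have hF : Subsingleton (Ext (ModuleCat.of R (R ⧸ maximalIdeal R))
          (ModuleCat.of R (Fin n → R)) i) :=
        subsingleton_ext_free (Pi.basisFun R (Fin n)) i (hR.1 _ (by omega))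
      exact H29Depth.subsingleton_ext_X₃ hS _ i hF (hKd.1 (i + 1) (by omega))
    · intro hsub
      apply hKd.2
      refine subsingleton_of_forall_eq 0 fun x => ?_
      obtain ⟨y, rfl⟩ := Ext.covariant_sequence_exact₁ _ hS x (hzero x)
        (show (dR - (e + 1)) + 1 = dR - e by omega)
      rw [Subsingleton.elim y 0, Ext.zero_comp]

end Groth.Agent.Lib.H87AB

namespace Groth.Agent.Lib.H87AB

variable {R : Type u} [CommRing R] [IsLocalRing R] [IsNoetherianRing R]

/-- The depth of a Noetherian local ring is a natural number `dR` with `IsDepth R dR`. -/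
theorem exists_isDepth_self : ∃ dR : ℕ, LocCoh.depth R R = dR ∧ IsDepth (R := R) R dR := by
  obtain ⟨dR, hdR⟩ := ENat.ne_top_iff_exists.mp (DepthRees.depth_ne_top (R := R) R)
  exact ⟨dR, hdR.symm, (depth_eq_iff R dR).mp hdR.symm⟩

/-- **Auslander–Buchsbaum formula**, in terms of `HasProjectiveDimensionLT`. -/
theorem auslander_buchsbaum' (M : Type u) [AddCommGroup M] [Module R M] [Module.Finite R M]
    [Nontrivial M] (e : ℕ) (h1 : HasProjectiveDimensionLT (ModuleCat.of R M) (e + 1))
    (h2 : ¬ HasProjectiveDimensionLT (ModuleCat.of R M) e) :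
    LocCoh.depth R R = e + LocCoh.depth R M := by
  obtain ⟨dR, hdR, hR⟩ := exists_isDepth_self (R := R)
  obtain ⟨hle, hM⟩ := auslander_buchsbaum_aux dR hR e M h1 h2
  have hM' := (depth_eq_iff M (dR - e)).mpr hM
  rw [hdR, hM']
  norm_cast
  omega

/-- **Auslander–Buchsbaum formula**: `depth R = pd M + depth M`. -/
theorem auslander_buchsbaum (M : Type u) [AddCommGroup M] [Module R M] [Module.Finite R M]
    [Nontrivial M] (e : ℕ) (he : projectiveDimension (ModuleCat.of R M) = e) :
    LocCoh.depth R R = e + LocCoh.depth R M := by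
  have h1 : HasProjectiveDimensionLT (ModuleCat.of R M) (e + 1) :=
    (projectiveDimension_le_iff _ e).mp he.le
  have h2 : ¬ HasProjectiveDimensionLT (ModuleCat.of R M) e := by
    rw [← projectiveDimension_ge_iff]
    exact he.ge
  exact auslander_buchsbaum' M e h1 h2

omit [IsLocalRing R] [IsNoetherianRing R] in
/-- A nonzero module of finite projective dimension has an exact projective dimension. -/
theorem exists_projectiveDimension_eq (M : Type u) [AddCommGroup M] [Module R M]
    [Nontrivial M] (n : ℕ) (h : HasProjectiveDimensionLT (ModuleCat.of R M) n) :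
    ∃ e : ℕ, e + 1 ≤ n ∧ HasProjectiveDimensionLT (ModuleCat.of R M) (e + 1) ∧
      ¬ HasProjectiveDimensionLT (ModuleCat.of R M) e := by
  classical
  have hex : ∃ n, HasProjectiveDimensionLT (ModuleCat.of R M) n := ⟨n, h⟩
  have h0 : ¬ HasProjectiveDimensionLT (ModuleCat.of R M) 0 := by
    intro h
    have := isZero_of_hasProjectiveDimensionLT_zero (ModuleCat.of R M)
    exact not_subsingleton _ (ModuleCat.subsingleton_of_isZero this)
  have hne : Nat.find hex ≠ 0 := by
    intro h'
    apply h0
    rw [← h']
    exact Nat.find_spec hex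
  obtain ⟨e, he⟩ := Nat.exists_eq_succ_of_ne_zero hne
  refine ⟨e, ?_, ?_, ?_⟩
  · rw [← Nat.succ_eq_add_one, ← he]
    exact Nat.find_min' hex h
  · rw [← Nat.succ_eq_add_one, ← he]
    exact Nat.find_spec hex
  · exact Nat.find_min hex (by omega)

/-- If `pd M < ∞`, then `depth M ≤ depth R`, with equality iff `M` is free. -/
theorem free_of_depth_eq (M : Type u) [AddCommGroup M] [Module R M] [Module.Finite R M]
    [Nontrivial M] (n : ℕ) (h : HasProjectiveDimensionLT (ModuleCat.of R M) n)
    (hd : LocCoh.depth R M = LocCoh.depth R R) : Module.Free R M := by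
  obtain ⟨e, -, h1, h2⟩ := exists_projectiveDimension_eq M n h
  obtain ⟨dR, hdR, hR⟩ := exists_isDepth_self (R := R)
  have hAB := auslander_buchsbaum' M e h1 h2
  rw [hd, hdR] at hAB
  have he : e = 0 := by
    have : (dR : ℕ∞) = ((e + dR : ℕ) : ℕ∞) := by exact_mod_cast hAB
    have : dR = e + dR := by exact_mod_cast this
    omega
  subst he
  have hp : Projective (ModuleCat.of R M) :=
    projective_iff_hasProjectiveDimensionLT_one.mpr h1
  have : Module.Projective R M := (IsProjective.iff_projective M).mpr hp
  exact Module.free_of_flat_of_isLocalRing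

end Groth.Agent.Lib.H87AB

namespace Groth.Agent.Lib.H87AB

open RingTheory.Sequence

/-- A regular local ring has depth equal to its dimension. -/
theorem depth_self_of_isRegularLocalRing (R : Type u) [CommRing R] [IsRegularLocalRing R] :
    ((LocCoh.depth R R : ℕ∞) : WithBot ℕ∞) = ringKrullDim R := by
  have hd : ringKrullDim R = ((maximalIdeal R).spanFinrank : ℕ) :=
    IsRegularLocalRing.spanFinrank_maximalIdeal.symm
  have : IsRegularLocalRing (R ⧸ maximalIdeal R) := by
    change IsRegularLocalRing (ResidueField R)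
    infer_instance
  obtain ⟨x, c, hc, hx, -⟩ := Groth.Agent.Lib.RegularLocal.exists_generators R _ hd
    (maximalIdeal R)
  have hreg := Groth.Agent.Lib.RegularLocal.isRegular_ofFn R _ hd x hx
  apply le_antisymm
  · have := DepthRees.depth_le_supportDim (R := R) R
    rwa [Module.supportDim_self_eq_ringKrullDim] at this
  · rw [hd]
    have h1 : (((maximalIdeal R).spanFinrank : ℕ) : ℕ∞) ≤ LocCoh.depth R R := by
      rw [DepthRees.natCast_le_depth_iff]
      refine ⟨List.ofFn x, by simp, ?_, hreg.toIsWeaklyRegular⟩
      intro r hr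
      rw [List.mem_ofFn] at hr
      obtain ⟨i, rfl⟩ := hr
      rw [← hx]
      exact Ideal.subset_span ⟨i, rfl⟩
    exact_mod_cast h1

/-- Over a regular local ring, a finite module whose depth equals the dimension of the ring is
free. -/
theorem free_of_isRegularLocalRing_of_depth_eq (R : Type u) [CommRing R] [IsRegularLocalRing R]
    (M : Type u) [AddCommGroup M] [Module R M] [Module.Finite R M]
    (h : ((LocCoh.depth R M : ℕ∞) : WithBot ℕ∞) = ringKrullDim R) : Module.Free R M := by
  rcases subsingleton_or_nontrivial M with hM | hM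
  · exact Module.Free.of_subsingleton R M
  · have hd : ringKrullDim R = ((maximalIdeal R).spanFinrank : ℕ) :=
      IsRegularLocalRing.spanFinrank_maximalIdeal.symm
    have hpd := H87GlDim2.hasProjectiveDimensionLT_of_isRegularLocalRing (A := R) _ hd
      (ModuleCat.of R M)
    apply free_of_depth_eq M _ hpd
    rw [← depth_self_of_isRegularLocalRing R] at h
    exact_mod_cast h

end Groth.Agent.Lib.H87AB
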