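import Groth.Prelude.Def_W4bk5brsh16IT
import Mathlib

universe u
open CategoryTheory CategoryTheory.Limits Opposite

namespace Groth.Agent.Lib.IdealTransform
open LocCoh
variable {R : Type u} [CommRing R] (I : Ideal R) (M : Type u) [AddCommGroup M] [Module R M]

instance preservesColimitsOfShape_forget :
    PreservesColimitsOfShape ℕᵒᵖᵒᵖ (forget (ModuleCat.{u} R)) :=
  haveI : PreservesFilteredColimitsOfSize.{0, 0} (forget (ModuleCat.{u} R)) :=
    preservesSmallestFilteredColimits_of_preservesFilteredColimits.{u, u} _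
  PreservesFilteredColimitsOfSize.preserves_filtered_colimits _

/-- The class of `f : I^n → M` in `D_I(M)`. -/
noncomputable def ι (n : ℕ) : (↥(I ^ n) →ₗ[R] M) →ₗ[R] DT I M :=
  ((colimit.ι (transformDiagram I) (op (op n))).app (ModuleCat.of R M)).hom ∘ₗ
    (ModuleCat.homLinearEquiv (S := R) (M := ModuleCat.of R ↥(I ^ n)) (N := ModuleCat.of R M)).symm.toLinearMap

theorem ι_apply (n : ℕ) (f : ↥(I ^ n) →ₗ[R] M) :
    ι I M n f = ((colimit.ι (transformDiagram I) (op (op n))).app (ModuleCat.of R M)).hom (ModuleCat.ofHom f) := rfl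

/-- the arrow `op (op n) ⟶ op (op k)` for `n ≤ k`. -/
def arrow {n k : ℕ} (h : n ≤ k) : (op (op n) : ℕᵒᵖᵒᵖ) ⟶ op (op k) := (homOfLE h).op.op

theorem transformDiagram_map {n k : ℕ} (h : n ≤ k) (g : ModuleCat.of R ↥(I ^ n) ⟶ ModuleCat.of R M) :
    (((transformDiagram I).map (arrow h)).app (ModuleCat.of R M)).hom g =
      ModuleCat.ofHom (Submodule.inclusion (Ideal.pow_le_pow_right h)) ≫ g := rfl

theorem ι_restrict {n k : ℕ} (h : n ≤ k) (f : ↥(I ^ n) →ₗ[R] M) :
    ι I M k (f ∘ₗ Submodule.inclusion (Ideal.pow_le_pow_right h)) = ι I M n f := by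
  have := colimit.w (transformDiagram I) (arrow h)
  rw [ι_apply, ι_apply, ← this]
  rfl

theorem exists_rep (x : DT I M) : ∃ (n : ℕ) (f : ↥(I ^ n) →ₗ[R] M), ι I M n f = x := by
  let e := colimitObjIsoColimitCompEvaluation (transformDiagram I) (ModuleCat.of R M)
  obtain ⟨j, z, hz⟩ := Concrete.colimit_exists_rep _ (e.hom x)
  refine ⟨j.unop.unop, z.hom, ?_⟩
  have h2 : e.inv (e.hom x) = x := by simp
  rw [← h2, ← hz, ι_apply]
  have := colimitObjIsoColimitCompEvaluation_ι_inv (transformDiagram I) j (ModuleCat.of R M)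
  rw [← this]
  rfl

theorem ι_eq_ι_iff {n m : ℕ} (f : ↥(I ^ n) →ₗ[R] M) (g : ↥(I ^ m) →ₗ[R] M) :
    ι I M n f = ι I M m g ↔ ∃ (k : ℕ) (hn : n ≤ k) (hm : m ≤ k),
      f ∘ₗ Submodule.inclusion (Ideal.pow_le_pow_right hn) =
        g ∘ₗ Submodule.inclusion (Ideal.pow_le_pow_right hm) := by
  constructor
  · intro h
    let e := colimitObjIsoColimitCompEvaluation (transformDiagram I) (ModuleCat.of R M)
    have h1 : ∀ (j : ℕ) (u : ↥(I ^ j) →ₗ[R] M), e.hom (ι I M j u) =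
        colimit.ι (transformDiagram I ⋙ (evaluation _ _).obj (ModuleCat.of R M)) (op (op j))
          (ModuleCat.ofHom u) := by
      intro j u
      have := colimitObjIsoColimitCompEvaluation_ι_app_hom (transformDiagram I) (op (op j)) (ModuleCat.of R M)
      rw [ι_apply, ← this]
      rfl
    have h3 := congrArg e.hom h
    rw [h1, h1] at h3
    obtain ⟨k, a, b, hab⟩ := Concrete.colimit_exists_of_rep_eq _ _ _ h3
    refine ⟨k.unop.unop, a.unop.unop.le, b.unop.unop.le, ?_⟩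
    have := congrArg ModuleCat.Hom.hom hab
    exact this
  · rintro ⟨k, hn, hm, h⟩
    rw [← ι_restrict I M hn, ← ι_restrict I M hm, h]

theorem ι_eq_zero_iff {n : ℕ} (f : ↥(I ^ n) →ₗ[R] M) :
    ι I M n f = 0 ↔ ∃ (k : ℕ) (hn : n ≤ k),
      f ∘ₗ Submodule.inclusion (Ideal.pow_le_pow_right hn) = 0 := by
  rw [← map_zero (ι I M n), ι_eq_ι_iff]
  constructor
  · rintro ⟨k, hn, _, h⟩
    exact ⟨k, hn, by rw [h]; simp⟩
  · rintro ⟨k, hn, h⟩
    exact ⟨k, hn, hn, by rw [h]; simp⟩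

variable {M} in
/-- `r ↦ r • m` on `I^n`. -/
def smulMap (n : ℕ) (m : M) : ↥(I ^ n) →ₗ[R] M :=
  ((LinearMap.lsmul R M).domRestrict (I ^ n)).flip m

variable {M} in
@[simp] theorem smulMap_apply (n : ℕ) (m : M) (r : ↥(I ^ n)) : smulMap I n m r = (r : R) • m := rfl

theorem toDT_eq_zero (m : M) : toDT I M m = ι I M 0 (smulMap I 0 m) := rfl

theorem toDT_eq (n : ℕ) (m : M) : toDT I M m = ι I M n (smulMap I n m) := by
  rw [toDT_eq_zero, ← ι_restrict I M (Nat.zero_le n)]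
  rfl

variable {M} in
theorem map_ι {M' : Type u} [AddCommGroup M'] [Module R M'] (φ : M →ₗ[R] M') (n : ℕ)
    (f : ↥(I ^ n) →ₗ[R] M) :
    ((idealTransform I).map (ModuleCat.ofHom φ)).hom (ι I M n f) = ι I M' n (φ ∘ₗ f) := by
  have := (colimit.ι (transformDiagram I) (op (op n))).naturality (ModuleCat.ofHom φ)
  have h2 := LinearMap.congr_fun (congrArg ModuleCat.Hom.hom this)
    (ModuleCat.ofHom f : ModuleCat.of R ↥(I ^ n) ⟶ ModuleCat.of R M)
  rw [ι_apply, ι_apply]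
  exact h2.symm

theorem toDT_eq_zero_iff (m : M) : toDT I M m = 0 ↔ ∃ k : ℕ, ∀ a ∈ I ^ k, a • m = 0 := by
  rw [toDT_eq_zero, ι_eq_zero_iff]
  constructor
  · rintro ⟨k, _, h⟩
    refine ⟨k, fun a ha => ?_⟩
    exact LinearMap.congr_fun h ⟨a, ha⟩
  · rintro ⟨k, h⟩
    refine ⟨k, Nat.zero_le k, ?_⟩
    ext ⟨a, ha⟩
    exact h a ha

theorem ker_toDT : LinearMap.ker (toDT I M) = DRing.torsionSub I M := by
  ext m
  rw [LinearMap.mem_ker, toDT_eq_zero_iff]
  rfl

end Groth.Agent.Lib.IdealTransform
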