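import Groth.Agent.Lib.ExtBridge
import Groth.Agent.Lib.IdealTransform
import Groth.Prelude.Def_Wider

/-!
# Concrete description of local cohomology `LocCoh.H I i M = colim_n Ext^i(R/I^n, M)` (helper53)

Elements are classes `HιE I M i n x` of `x : Abelian.Ext (R/I^n) M i` (new `Ext`, via `Lib/ExtBridge`).
-/

set_option maxHeartbeats 400000
universe u
open CategoryTheory CategoryTheory.Limits Opposite

namespace Groth.Agent.Lib.LocCohConcrete
open Groth.Agent.Lib.ExtBridge

variable {R : Type u} [CommRing R] (I : Ideal R) (M : Type u) [AddCommGroup M] [Module R M] (i : ℕ)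

/-- `R/I^n` as an object. -/
abbrev Q (n : ℕ) : ModuleCat.{u} R := ModuleCat.of R (R ⧸ I ^ n)

/-- the projection `R/I^k → R/I^n` for `n ≤ k`. -/
def proj {n k : ℕ} (h : n ≤ k) : Q I k ⟶ Q I n :=
  ModuleCat.ofHom (Submodule.mapQ (I ^ k) (I ^ n) LinearMap.id (by
    simpa using Ideal.pow_le_pow_right h))

/-- The diagram defining local cohomology. -/
noncomputable abbrev dgm : ℕᵒᵖᵒᵖ ⥤ ModuleCat.{u} R ⥤ ModuleCat.{u} R :=
  localCohomology.diagram (localCohomology.idealPowersDiagram I) i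

/-- class of an element of the old `Ext^i(R/I^n, M)` in `H^i_I(M)`. -/
noncomputable def Hι (n : ℕ) :
    ↑(((_root_.Ext R (ModuleCat.{u} R) i).obj (op (Q I n))).obj (ModuleCat.of R M)) →ₗ[R]
      LocCoh.H I i M :=
  ((colimit.ι (dgm I i) (op (op n))).app (ModuleCat.of R M)).hom

/-- class of `x : Ext^i(R/I^n, M)` (new Ext) in `H^i_I(M)`. -/
noncomputable def HιE (n : ℕ) : Abelian.Ext.{u} (Q I n) (ModuleCat.of R M) i →ₗ[R] LocCoh.H I i M :=
  Hι I M i n ∘ₗ (bridge (Q I n) (ModuleCat.of R M) i).symm.toLinearMap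

theorem dgm_map {n k : ℕ} (h : n ≤ k) :
    ((dgm I i).map (Groth.Agent.Lib.IdealTransform.arrow h)).app (ModuleCat.of R M) =
      ((_root_.Ext R (ModuleCat.{u} R) i).map (proj I h).op).app (ModuleCat.of R M) := rfl

theorem Hι_transition {n k : ℕ} (h : n ≤ k)
    (x : ↑(((_root_.Ext R (ModuleCat.{u} R) i).obj (op (Q I n))).obj (ModuleCat.of R M))) :
    Hι I M i k ((((_root_.Ext R (ModuleCat.{u} R) i).map (proj I h).op).app (ModuleCat.of R M)).hom x) =
      Hι I M i n x := by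
  have := colimit.w (dgm I i) (Groth.Agent.Lib.IdealTransform.arrow h)
  have h2 := congrArg (fun t => (t.app (ModuleCat.of R M)).hom x) this
  exact h2

theorem HιE_transition {n k : ℕ} (h : n ≤ k) (x : Abelian.Ext.{u} (Q I n) (ModuleCat.of R M) i) :
    HιE I M i k ((Abelian.Ext.mk₀ (proj I h)).comp x (zero_add i)) = HιE I M i n x := by
  obtain ⟨y, rfl⟩ := (bridge (Q I n) (ModuleCat.of R M) i).surjective x
  rw [← bridge_naturality_left]
  simp only [HιE, LinearMap.comp_apply, LinearEquiv.coe_coe, LinearEquiv.symm_apply_apply]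
  exact Hι_transition I M i h y

open Groth.Agent.Lib.IdealTransform in
theorem Hι_exists_rep (y : LocCoh.H I i M) : ∃ (n : ℕ)
    (x : ↑(((_root_.Ext R (ModuleCat.{u} R) i).obj (op (Q I n))).obj (ModuleCat.of R M))),
    Hι I M i n x = y := by
  let e := colimitObjIsoColimitCompEvaluation (dgm I i) (ModuleCat.of R M)
  obtain ⟨j, z, hz⟩ := Concrete.colimit_exists_rep _ (e.hom y)
  refine ⟨j.unop.unop, z, ?_⟩
  have h2 : e.inv (e.hom y) = y := by simp
  rw [← h2, ← hz]
  have := colimitObjIsoColimitCompEvaluation_ι_inv (dgm I i) j (ModuleCat.of R M)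
  exact (LinearMap.congr_fun (congrArg ModuleCat.Hom.hom this) z).symm

theorem exists_rep (y : LocCoh.H I i M) : ∃ (n : ℕ)
    (x : Abelian.Ext.{u} (Q I n) (ModuleCat.of R M) i), HιE I M i n x = y := by
  obtain ⟨n, x, rfl⟩ := Hι_exists_rep I M i y
  refine ⟨n, bridge (Q I n) (ModuleCat.of R M) i x, ?_⟩
  simp [HιE]

theorem Hι_apply (n : ℕ)
    (x : ↑(((_root_.Ext R (ModuleCat.{u} R) i).obj (op (Q I n))).obj (ModuleCat.of R M))) :
    Hι I M i n x = ((colimit.ι (dgm I i) (op (op n))).app (ModuleCat.of R M)).hom x := rfl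

open Groth.Agent.Lib.IdealTransform in
theorem Hι_eq_Hι_iff {n m : ℕ}
    (x : ↑(((_root_.Ext R (ModuleCat.{u} R) i).obj (op (Q I n))).obj (ModuleCat.of R M)))
    (y : ↑(((_root_.Ext R (ModuleCat.{u} R) i).obj (op (Q I m))).obj (ModuleCat.of R M))) :
    Hι I M i n x = Hι I M i m y ↔ ∃ (k : ℕ) (hn : n ≤ k) (hm : m ≤ k),
      (((_root_.Ext R (ModuleCat.{u} R) i).map (proj I hn).op).app (ModuleCat.of R M)).hom x =
      (((_root_.Ext R (ModuleCat.{u} R) i).map (proj I hm).op).app (ModuleCat.of R M)).hom y := by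
  constructor
  · intro h
    let e := colimitObjIsoColimitCompEvaluation (dgm I i) (ModuleCat.of R M)
    have h1 : ∀ (j : ℕ)
        (u : ↑(((_root_.Ext R (ModuleCat.{u} R) i).obj (op (Q I j))).obj (ModuleCat.of R M))),
        e.hom (Hι I M i j u) =
        colimit.ι (dgm I i ⋙ (evaluation _ _).obj (ModuleCat.of R M)) (op (op j)) u := by
      intro j u
      have := colimitObjIsoColimitCompEvaluation_ι_app_hom (dgm I i) (op (op j)) (ModuleCat.of R M)
      rw [Hι_apply, ← this]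
      rfl
    have h3 := congrArg e.hom h
    rw [h1, h1] at h3
    obtain ⟨k, a, b, hab⟩ := Concrete.colimit_exists_of_rep_eq _ _ _ h3
    exact ⟨k.unop.unop, a.unop.unop.le, b.unop.unop.le, hab⟩
  · rintro ⟨k, hn, hm, h⟩
    rw [← Hι_transition I M i hn, ← Hι_transition I M i hm, h]

theorem Hι_eq_zero_iff {n : ℕ}
    (x : ↑(((_root_.Ext R (ModuleCat.{u} R) i).obj (op (Q I n))).obj (ModuleCat.of R M))) :
    Hι I M i n x = 0 ↔ ∃ (k : ℕ) (h : n ≤ k),
      (((_root_.Ext R (ModuleCat.{u} R) i).map (proj I h).op).app (ModuleCat.of R M)).hom x = 0 := by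
  rw [← map_zero (Hι I M i n), Hι_eq_Hι_iff]
  constructor
  · rintro ⟨k, hn, _, h⟩
    exact ⟨k, hn, by rw [h, map_zero]⟩
  · rintro ⟨k, hn, h⟩
    exact ⟨k, hn, hn, by rw [h, map_zero]⟩

theorem HιE_eq_zero_iff {n : ℕ} (x : Abelian.Ext.{u} (Q I n) (ModuleCat.of R M) i) :
    HιE I M i n x = 0 ↔ ∃ (k : ℕ) (h : n ≤ k),
      (Abelian.Ext.mk₀ (proj I h)).comp x (zero_add i) = 0 := by
  obtain ⟨y, rfl⟩ := (bridge (Q I n) (ModuleCat.of R M) i).surjective x
  have : HιE I M i n (bridge (Q I n) (ModuleCat.of R M) i y) = Hι I M i n y := by simp [HιE]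
  rw [this, Hι_eq_zero_iff]
  constructor
  · rintro ⟨k, h, hk⟩
    refine ⟨k, h, ?_⟩
    rw [← bridge_naturality_left, hk, map_zero]
  · rintro ⟨k, h, hk⟩
    refine ⟨k, h, ?_⟩
    rw [← bridge_naturality_left] at hk
    exact (bridge (Q I k) (ModuleCat.of R M) i).injective (by rw [hk, map_zero])

variable {M} in
theorem map_Hι {M' : Type u} [AddCommGroup M'] [Module R M'] (φ : M →ₗ[R] M') (n : ℕ)
    (x : ↑(((_root_.Ext R (ModuleCat.{u} R) i).obj (op (Q I n))).obj (ModuleCat.of R M))) :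
    ((localCohomology I i).map (ModuleCat.ofHom φ)).hom (Hι I M i n x) =
      Hι I M' i n ((((_root_.Ext R (ModuleCat.{u} R) i).obj (op (Q I n))).map (ModuleCat.ofHom φ)).hom x) := by
  have := (colimit.ι (dgm I i) (op (op n))).naturality (ModuleCat.ofHom φ)
  have h2 := LinearMap.congr_fun (congrArg ModuleCat.Hom.hom this) x
  exact h2.symm

variable {M} in
theorem map_HιE {M' : Type u} [AddCommGroup M'] [Module R M'] (φ : M →ₗ[R] M') (n : ℕ)
    (x : Abelian.Ext.{u} (Q I n) (ModuleCat.of R M) i) :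
    ((localCohomology I i).map (ModuleCat.ofHom φ)).hom (HιE I M i n x) =
      HιE I M' i n (x.comp (Abelian.Ext.mk₀ (ModuleCat.ofHom φ)) (add_zero i)) := by
  obtain ⟨y, rfl⟩ := (bridge (Q I n) (ModuleCat.of R M) i).surjective x
  rw [← bridge_naturality_right]
  simp only [HιE, LinearMap.comp_apply, LinearEquiv.coe_coe, LinearEquiv.symm_apply_apply]
  exact map_Hι I i φ n y

end Groth.Agent.Lib.LocCohConcrete
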