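import Groth.Prelude.Def_Wider
import Mathlib.LinearAlgebra.Projection

/-!
Basic theory of essential injections and injective hulls (for the `InjHull` Prelude namespace).
-/

set_option autoImplicit false
universe u v

namespace Groth.Agent.Lib.InjHull

open _root_.InjHull

variable {R : Type u} [CommRing R]

section basic

variable {M E E' : Type v} [AddCommGroup M] [Module R M] [AddCommGroup E] [Module R E]
  [AddCommGroup E'] [Module R E']

/-- Extension of a map into an injective module along an injective map, as an equation of maps. -/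
theorem extend (hE' : Module.Injective R E') (f : M →ₗ[R] E) (hf : Function.Injective f)
    (g : M →ₗ[R] E') : ∃ h : E →ₗ[R] E', h ∘ₗ f = g := by
  obtain ⟨h, hh⟩ := hE'.out f hf g
  exact ⟨h, LinearMap.ext hh⟩

/-- If `f` is an essential injection and `α ∘ f` is injective then `α` is injective. -/
theorem injective_of_comp_essential {f : M →ₗ[R] E} (hf : IsEssentialInj f) (α : E →ₗ[R] E')
    (h : Function.Injective (α ∘ₗ f)) : Function.Injective α := by
  rw [← LinearMap.ker_eq_bot]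
  by_contra hne
  apply hf.essential _ hne
  rw [eq_bot_iff]
  rintro x ⟨hx, ⟨m, rfl⟩⟩
  have h0 : (α ∘ₗ f) m = 0 := hx
  have hm : m = 0 := h (h0.trans (map_zero _).symm)
  simp [hm]

/-- The image of an injective module under an injective linear map is a direct summand. -/
theorem exists_isCompl_range (hE : Module.Injective R E) (α : E →ₗ[R] E')
    (hα : Function.Injective α) : ∃ I' : Submodule R E', IsCompl (LinearMap.range α) I' := by
  obtain ⟨r, hr⟩ := extend hE α hα LinearMap.id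
  have hr' : ∀ x, r (α x) = x := fun x => LinearMap.congr_fun hr x
  have hidem : IsIdempotentElem (α ∘ₗ r) := by
    ext x
    simp [hr']
  have hrange : LinearMap.range (α ∘ₗ r) = LinearMap.range α := by
    apply le_antisymm
    · rintro _ ⟨x, rfl⟩
      exact ⟨r x, rfl⟩
    · rintro _ ⟨x, rfl⟩
      exact ⟨α x, by simp [hr']⟩
  have hc := LinearMap.IsIdempotentElem.isCompl hidem
  rw [hrange] at hc
  exact ⟨_, hc⟩

/-- Essentiality is inherited by larger ranges. -/
theorem essentialInj_of_range_le {M' : Type v} [AddCommGroup M'] [Module R M']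
    {f : M →ₗ[R] E} (hf : IsEssentialInj f) (g : M' →ₗ[R] E) (hg : Function.Injective g)
    (hle : LinearMap.range f ≤ LinearMap.range g) : IsEssentialInj g :=
  ⟨hg, fun N hN h => hf.essential N hN (le_bot_iff.mp (h ▸ inf_le_inf_left N hle))⟩

/-- If `f : M → E` is an injective hull and `ι : M → M'` is an essential injection, then `f`
extends to an injective hull `M' → E`. -/
theorem hull_of_essential_extension {M' : Type v} [AddCommGroup M'] [Module R M']
    {f : M →ₗ[R] E} (hf : IsInjectiveHull f) (ι : M →ₗ[R] M') (hι : IsEssentialInj ι) :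
    ∃ g : M' →ₗ[R] E, g ∘ₗ ι = f ∧ IsInjectiveHull g := by
  obtain ⟨g, hg⟩ := extend hf.isInjective ι hι.injective f
  have hginj : Function.Injective g :=
    injective_of_comp_essential hι g (hg ▸ hf.injective)
  refine ⟨g, hg, ⟨essentialInj_of_range_le hf.toIsEssentialInj g hginj ?_, hf.isInjective⟩⟩
  rintro _ ⟨m, rfl⟩
  exact ⟨ι m, by rw [← hg]; rfl⟩

end basic

section ess

variable {E : Type v} [AddCommGroup E] [Module R E]

/-- Elementwise form of essentiality of a submodule `P` of `E`. -/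
theorem ess_iff (P : Submodule R E) :
    (∀ N : Submodule R E, N ≠ ⊥ → N ⊓ P ≠ ⊥) ↔
      ∀ x : E, x ≠ 0 → ∃ r : R, r • x ≠ 0 ∧ r • x ∈ P := by
  constructor
  · intro h x hx
    have hne : Submodule.span R {x} ≠ ⊥ := by
      rw [Ne, Submodule.span_singleton_eq_bot]; exact hx
    have := h _ hne
    rw [Ne, Submodule.eq_bot_iff] at this
    push Not at this
    obtain ⟨y, ⟨hy1, hy2⟩, hy0⟩ := this
    obtain ⟨r, rfl⟩ := Submodule.mem_span_singleton.mp hy1
    exact ⟨r, hy0, hy2⟩
  · intro h N hN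
    obtain ⟨x, hxN, hx0⟩ := (Submodule.ne_bot_iff N).mp hN
    obtain ⟨r, hr0, hrP⟩ := h x hx0
    rw [Ne, Submodule.eq_bot_iff]
    push Not
    exact ⟨r • x, ⟨N.smul_mem r hxN, hrP⟩, hr0⟩

/-- `N` is essential in `K` (both submodules of `E`), elementwise. -/
def EssIn (N K : Submodule R E) : Prop :=
  N ≤ K ∧ ∀ x ∈ K, x ≠ 0 → ∃ r : R, r • x ≠ 0 ∧ r • x ∈ N

theorem EssIn.refl (N : Submodule R E) : EssIn N N :=
  ⟨le_rfl, fun x hx hx0 => ⟨1, by simpa using hx0, by simpa using hx⟩⟩

theorem EssIn.trans {N K L : Submodule R E} (h1 : EssIn N K) (h2 : EssIn K L) : EssIn N L := by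
  refine ⟨h1.1.trans h2.1, fun x hx hx0 => ?_⟩
  obtain ⟨r, hr0, hrK⟩ := h2.2 x hx hx0
  obtain ⟨s, hs0, hsN⟩ := h1.2 (r • x) hrK hr0
  exact ⟨s * r, by rwa [mul_smul], by rwa [mul_smul]⟩

/-- Zorn: a maximal essential extension of `N` inside `E`. -/
theorem exists_maximal_essIn (N : Submodule R E) :
    ∃ K : Submodule R E, Maximal (fun K => EssIn N K) K := by
  have key : ∀ c ⊆ {K : Submodule R E | EssIn N K}, IsChain (· ≤ ·) c → ∀ y ∈ c,
      ∃ ub ∈ {K : Submodule R E | EssIn N K}, ∀ z ∈ c, z ≤ ub := by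
    intro c hc hchain y hy
    refine ⟨sSup c, ⟨(hc hy).1.trans (le_sSup hy), fun x hx hx0 => ?_⟩, fun z hz => le_sSup hz⟩
    obtain ⟨K, hKc, hxK⟩ :=
      (Submodule.mem_sSup_of_directed ⟨y, hy⟩ hchain.directedOn).mp hx
    exact (hc hKc).2 x hxK hx0
  obtain ⟨K, -, hK⟩ := zorn_le_nonempty₀ {K : Submodule R E | EssIn N K} key N (EssIn.refl N)
  exact ⟨K, hK⟩

/-- Zorn: a maximal submodule disjoint from `K`. -/
theorem exists_maximal_disjoint (K : Submodule R E) :
    ∃ C : Submodule R E, Maximal (fun C => Disjoint C K) C := by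
  have key : ∀ c ⊆ {C : Submodule R E | Disjoint C K}, IsChain (· ≤ ·) c → ∀ y ∈ c,
      ∃ ub ∈ {C : Submodule R E | Disjoint C K}, ∀ z ∈ c, z ≤ ub := by
    intro c hc hchain y hy
    refine ⟨sSup c, ?_, fun z hz => le_sSup hz⟩
    exact (hchain.directedOn.disjoint_sSup_left).mpr fun b hb => hc hb
  obtain ⟨C, -, hC⟩ :=
    zorn_le_nonempty₀ {C : Submodule R E | Disjoint C K} key ⊥ disjoint_bot_left
  exact ⟨C, hC⟩

/-- Inside an injective module `E`, every submodule `N` has an essential extension `K`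
that is a direct summand of `E`. -/
theorem exists_essIn_isCompl (hE : Module.Injective R E) (N : Submodule R E) :
    ∃ K C : Submodule R E, EssIn N K ∧ IsCompl K C := by
  obtain ⟨K, hK⟩ := exists_maximal_essIn N
  obtain ⟨C, hC⟩ := exists_maximal_disjoint K
  refine ⟨K, C, hK.prop, ?_⟩
  have hCK : Disjoint C K := hC.prop
  have hj : Function.Injective (C.mkQ ∘ₗ K.subtype) := by
    rw [← LinearMap.ker_eq_bot, LinearMap.ker_eq_bot']
    intro k hk
    have h1 : (k : E) ∈ C := by
      rw [← Submodule.Quotient.mk_eq_zero]; exact hk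
    have h2 : (k : E) ∈ C ⊓ K := ⟨h1, k.2⟩
    rw [hCK.eq_bot] at h2
    exact Subtype.ext h2
  have hjess : IsEssentialInj (C.mkQ ∘ₗ K.subtype) := by
    refine ⟨hj, ?_⟩
    rw [ess_iff]
    intro y hy
    obtain ⟨e, rfl⟩ := C.mkQ_surjective y
    have heC : e ∉ C := by
      intro h
      exact hy ((Submodule.Quotient.mk_eq_zero C).mpr h)
    have hlt : C < C ⊔ Submodule.span R {e} := by
      refine lt_of_le_of_ne le_sup_left fun h => heC ?_
      rw [h]
      exact Submodule.mem_sup_right (Submodule.mem_span_singleton_self e)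
    have hnd : ¬ Disjoint (C ⊔ Submodule.span R {e}) K :=
      fun hd => not_le_of_gt hlt (hC.le_of_ge hd hlt.le)
    rw [Submodule.disjoint_def] at hnd
    push Not at hnd
    obtain ⟨k, hk1, hkK, hk0⟩ := hnd
    obtain ⟨c, hc, z, hz, rfl⟩ := Submodule.mem_sup.mp hk1
    obtain ⟨r, rfl⟩ := Submodule.mem_span_singleton.mp hz
    have hmk : C.mkQ (c + r • e) = r • C.mkQ e := by
      have hc0 : C.mkQ c = 0 := (Submodule.Quotient.mk_eq_zero C).mpr hc
      rw [map_add, map_smul, hc0, zero_add]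
    refine ⟨r, ?_, ?_⟩
    · rw [← hmk]
      intro h0
      have h1 : c + r • e ∈ C := (Submodule.Quotient.mk_eq_zero C).mp h0
      have h2 : c + r • e ∈ C ⊓ K := ⟨h1, hkK⟩
      rw [hCK.eq_bot] at h2
      exact hk0 h2
    · exact ⟨⟨c + r • e, hkK⟩, hmk⟩
  obtain ⟨ψ, hψ⟩ := extend hE (C.mkQ ∘ₗ K.subtype) hj K.subtype
  have hψinj : Function.Injective ψ :=
    injective_of_comp_essential hjess ψ (by rw [hψ]; exact K.injective_subtype)
  have hψK : ∀ k : K, ψ (C.mkQ (k : E)) = k := fun k => LinearMap.congr_fun hψ k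
  have hKle : K ≤ LinearMap.range ψ := fun k hk => ⟨C.mkQ k, hψK ⟨k, hk⟩⟩
  have hess : EssIn N (LinearMap.range ψ) := by
    apply hK.prop.trans
    refine ⟨hKle, ?_⟩
    rintro _ ⟨y, rfl⟩ hy0
    have hy : y ≠ 0 := fun h => hy0 (by rw [h, map_zero])
    obtain ⟨r, hr0, ⟨k, hk⟩⟩ := (ess_iff _).mp hjess.essential y hy
    refine ⟨r, ?_, ?_⟩
    · rw [← map_smul]
      exact fun h => hr0 (hψinj (h.trans (map_zero _).symm))
    · rw [← map_smul, ← hk]
      change ψ (C.mkQ (k : E)) ∈ K
      rw [hψK k]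
      exact k.2
  have hrange : LinearMap.range ψ = K := le_antisymm (hK.le_of_ge hess hKle) hKle
  refine ⟨hCK.symm, ?_⟩
  rw [codisjoint_iff, eq_top_iff]
  intro e _
  have h1 : ψ (C.mkQ e) ∈ K := hrange ▸ ⟨C.mkQ e, rfl⟩
  have h2 : ψ (C.mkQ e) = ψ (C.mkQ (ψ (C.mkQ e))) := (hψK ⟨_, h1⟩).symm
  have h3 : C.mkQ e = C.mkQ (ψ (C.mkQ e)) := hψinj h2
  have h4 : e - ψ (C.mkQ e) ∈ C := by
    rw [← Submodule.Quotient.mk_eq_zero C]
    change C.mkQ (e - ψ (C.mkQ e)) = 0
    rw [map_sub, ← h3, sub_self]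
  have h5 : e = ψ (C.mkQ e) + (e - ψ (C.mkQ e)) := by abel
  rw [h5]
  exact Submodule.add_mem_sup h1 h4

/-- In an indecomposable injective module every nonzero submodule is essential. -/
theorem ess_of_indecomposable (hE : IsIndecomposable R E) (hinj : Module.Injective R E)
    (N : Submodule R E) (hN : N ≠ ⊥) :
    ∀ x : E, x ≠ 0 → ∃ r : R, r • x ≠ 0 ∧ r • x ∈ N := by
  obtain ⟨K, C, hNK, hKC⟩ := exists_essIn_isCompl hinj N
  have hKbot : K ≠ ⊥ := fun h => hN (le_bot_iff.mp (h ▸ hNK.1))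
  have hCbot : C = ⊥ := (hE.2 K C hKC).resolve_left hKbot
  have hKtop : K = ⊤ := by
    have := hKC.sup_eq_top
    rwa [hCbot, sup_bot_eq] at this
  intro x hx
  exact hNK.2 x (hKtop ▸ Submodule.mem_top) hx

/-- In an indecomposable injective module any two nonzero submodules meet nontrivially. -/
theorem inf_ne_bot_of_indecomposable (hE : IsIndecomposable R E) (hinj : Module.Injective R E)
    (N N' : Submodule R E) (hN : N ≠ ⊥) (hN' : N' ≠ ⊥) : N ⊓ N' ≠ ⊥ := by
  obtain ⟨x, hxN', hx0⟩ := (Submodule.ne_bot_iff N').mp hN'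
  obtain ⟨r, hr0, hrN⟩ := ess_of_indecomposable hE hinj N hN x hx0
  rw [Ne, Submodule.eq_bot_iff]
  push Not
  exact ⟨r • x, ⟨hrN, N'.smul_mem r hxN'⟩, hr0⟩

end ess

end Groth.Agent.Lib.InjHull
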