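/-
Helper library (helper29): Matlis duality, finite length part.
-/
import Groth.Agent.S5170
import Groth.Agent.Lib.InjHull

set_option autoImplicit false
universe u

namespace Groth.Agent.Lib.H29Matlis

variable {A : Type u} [CommRing A] [IsLocalRing A] {E : Type u} [AddCommGroup E] [Module A E]

/-- Over a local ring, maps into an injective hull of the residue field separate points. -/
theorem exists_dual_ne_zero (f : IsLocalRing.ResidueField A →ₗ[A] E)
    (hf : _root_.InjHull.IsInjectiveHull f) {M : Type u} [AddCommGroup M] [Module A M] (x : M)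
    (hx : x ≠ 0) : ∃ φ : M →ₗ[A] E, φ x ≠ 0 := by
  classical
  let t : A →ₗ[A] M := LinearMap.toSpanSingleton A M x
  let res : A →ₗ[A] IsLocalRing.ResidueField A := Algebra.linearMap A (IsLocalRing.ResidueField A)
  have ht : ∀ a, t a = a • x := fun a => rfl
  have hres : ∀ a, res a = IsLocalRing.residue A a := fun a => rfl
  have hker : LinearMap.ker t ≤ LinearMap.ker (f ∘ₗ res) := by
    intro a ha
    rw [LinearMap.mem_ker] at ha ⊢
    rw [ht] at ha
    have ham : a ∈ IsLocalRing.maximalIdeal A := by
      by_contra hnot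
      have hu : IsUnit a := by
        rwa [IsLocalRing.mem_maximalIdeal, mem_nonunits_iff, not_not] at hnot
      exact hx ((IsUnit.smul_eq_zero hu).mp ha)
    rw [LinearMap.comp_apply, hres, (IsLocalRing.residue_eq_zero_iff a).mpr ham, map_zero]
  let ψ₀ : (A ⧸ LinearMap.ker t) →ₗ[A] E := (LinearMap.ker t).liftQ (f ∘ₗ res) hker
  let e := t.quotKerEquivRange
  let ψ : LinearMap.range t →ₗ[A] E := ψ₀ ∘ₗ e.symm.toLinearMap
  obtain ⟨φ, hφ⟩ := Groth.Agent.Lib.InjHull.extend hf.isInjective (LinearMap.range t).subtype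
    (Submodule.injective_subtype _) ψ
  refine ⟨φ, ?_⟩
  have hx1 : t 1 = x := by rw [ht, one_smul]
  have hxr : x ∈ LinearMap.range t := ⟨1, hx1⟩
  have h1 : φ x = ψ ⟨x, hxr⟩ := by
    have := LinearMap.congr_fun hφ ⟨x, hxr⟩
    simpa using this
  have h2 : e (Submodule.Quotient.mk 1) = ⟨x, hxr⟩ := by
    apply Subtype.ext
    rw [LinearMap.quotKerEquivRange_apply_mk, hx1]
  have h3 : ψ ⟨x, hxr⟩ = f (res 1) := by
    simp only [ψ, LinearMap.comp_apply, LinearEquiv.coe_coe]
    rw [← h2, LinearEquiv.symm_apply_apply]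
    rfl
  rw [h1, h3, hres, map_one]
  intro h0
  have h4 := hf.injective (h0.trans (map_zero f).symm)
  exact one_ne_zero h4

/-- The evaluation map into the double dual is injective. -/
theorem applyₗ_injective (f : IsLocalRing.ResidueField A →ₗ[A] E)
    (hf : _root_.InjHull.IsInjectiveHull f) (M : Type u) [AddCommGroup M] [Module A M] :
    Function.Injective (LinearMap.applyₗ : M →ₗ[A] (M →ₗ[A] E) →ₗ[A] E) := by
  rw [← LinearMap.ker_eq_bot, Submodule.eq_bot_iff]
  intro x hx
  by_contra hne
  obtain ⟨φ, hφ⟩ := exists_dual_ne_zero f hf x hne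
  apply hφ
  have := LinearMap.congr_fun (LinearMap.mem_ker.mp hx) φ
  simpa using this

/-- Matlis duality for modules of finite length over a Noetherian local ring. -/
theorem applyₗ_bijective_of_isFiniteLength [IsNoetherianRing A]
    (f : IsLocalRing.ResidueField A →ₗ[A] E) (hf : _root_.InjHull.IsInjectiveHull f) (M : Type u)
    [AddCommGroup M] [Module A M] (hM : IsFiniteLength A M) :
    Function.Bijective (LinearMap.applyₗ : M →ₗ[A] (M →ₗ[A] E) →ₗ[A] E) := by
  have hinj := applyₗ_injective f hf M
  refine ⟨hinj, ?_⟩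
  have hl1 : Module.length A (M →ₗ[A] E) = Module.length A M :=
    Groth.Agent.S5170.result A E f hf M hM
  have hfin1 : IsFiniteLength A (M →ₗ[A] E) := by
    rw [← Module.length_ne_top_iff, hl1, Module.length_ne_top_iff]
    exact hM
  have hl2 : Module.length A ((M →ₗ[A] E) →ₗ[A] E) = Module.length A (M →ₗ[A] E) :=
    Groth.Agent.S5170.result A E f hf _ hfin1
  have hfin2 : IsFiniteLength A ((M →ₗ[A] E) →ₗ[A] E) := by
    rw [← Module.length_ne_top_iff, hl2, Module.length_ne_top_iff]
    exact hfin1
  obtain ⟨hN, hAr⟩ := isFiniteLength_iff_isNoetherian_isArtinian.mp hfin2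
  rw [← LinearMap.range_eq_top]
  by_contra hne
  have hlt := Submodule.length_lt (R := A) hne
  have heq : Module.length A (LinearMap.range
      (LinearMap.applyₗ : M →ₗ[A] (M →ₗ[A] E) →ₗ[A] E)) = Module.length A M :=
    (LinearEquiv.ofInjective _ hinj).length_eq.symm
  rw [heq, hl2, hl1] at hlt
  exact lt_irrefl _ hlt

end Groth.Agent.Lib.H29Matlis
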