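/-
Helper library (helper29): Matlis duality — the endomorphism ring of `E(k)` is the completion.
-/
import Groth.Agent.Lib.H29Matlis
import Groth.Agent.S0315
import Groth.Agent.S0311
import Mathlib.RingTheory.AdicCompletion.Algebra

set_option autoImplicit false
universe u

namespace Groth.Agent.Lib.H29MatlisEnd

open IsLocalRing Groth.Agent.Lib.H29Matlis

variable {R : Type u} [CommRing R] [IsLocalRing R] [IsNoetherianRing R]
  {E : Type u} [AddCommGroup E] [Module R E]

omit [IsNoetherianRing R] in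
theorem smul_mk_one_eq_zero (n : ℕ) (b : R) (hb : b ∈ maximalIdeal R ^ n) :
    b • (Ideal.Quotient.mk (maximalIdeal R ^ n) 1 : R ⧸ maximalIdeal R ^ n) = 0 := by
  change Ideal.Quotient.mk _ (b * 1) = 0
  rw [mul_one]
  exact Ideal.Quotient.eq_zero_iff_mem.mpr hb

omit [IsNoetherianRing R] in
theorem mk_eq_smul_mk_one (n : ℕ) (a : R) :
    (Ideal.Quotient.mk (maximalIdeal R ^ n) a : R ⧸ maximalIdeal R ^ n) =
      a • (Ideal.Quotient.mk (maximalIdeal R ^ n) 1 : R ⧸ maximalIdeal R ^ n) := by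
  change _ = Ideal.Quotient.mk _ (a * 1)
  rw [mul_one]

/-- `R ⧸ m ^ n` has finite length as an `R`-module. -/
theorem isFiniteLength_quot_pow (n : ℕ) : IsFiniteLength R (R ⧸ maximalIdeal R ^ n) := by
  rw [isFiniteLength_iff_isNoetherian_isArtinian]
  refine ⟨inferInstance, ?_⟩
  rw [Groth.Agent.S0315.result R (R ⧸ maximalIdeal R ^ n)]
  constructor
  · intro x
    refine ⟨n, fun a ha => ?_⟩
    obtain ⟨y, rfl⟩ := Ideal.Quotient.mk_surjective x
    change Ideal.Quotient.mk _ (a * y) = 0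
    exact Ideal.Quotient.eq_zero_iff_mem.mpr (Ideal.mul_mem_right _ _ ha)
  · have : Module.Finite R (LocCoh.torsionBy (maximalIdeal R) (R ⧸ maximalIdeal R ^ n)) :=
      inferInstance
    exact Module.Finite.of_restrictScalars_finite R (R ⧸ maximalIdeal R) _

omit [IsNoetherianRing R] in
/-- Faithfulness: an element of `R` killing `E[m^n]` lies in `m^n`. -/
theorem mem_pow_of_forall_smul_eq_zero (f : ResidueField R →ₗ[R] E)
    (hf : _root_.InjHull.IsInjectiveHull f) (n : ℕ) (a : R)
    (h : ∀ e : E, (∀ b ∈ maximalIdeal R ^ n, b • e = 0) → a • e = 0) :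
    a ∈ maximalIdeal R ^ n := by
  by_contra ha
  have hx : (Ideal.Quotient.mk (maximalIdeal R ^ n) a) ≠ 0 := by
    rwa [Ne, Ideal.Quotient.eq_zero_iff_mem]
  obtain ⟨φ, hφ⟩ := exists_dual_ne_zero f hf _ hx
  apply hφ
  rw [mk_eq_smul_mk_one, map_smul]
  apply h
  intro b hb
  rw [← map_smul, smul_mk_one_eq_zero n b hb, map_zero]

/-- Fullness: every linear map `E[m^n] → E` is multiplication by an element of `R`. -/
theorem exists_smul_eq_of_linearMap (f : ResidueField R →ₗ[R] E)
    (hf : _root_.InjHull.IsInjectiveHull f) (n : ℕ)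
    (ψ : Submodule.torsionBySet R E ((maximalIdeal R ^ n : Ideal R) : Set R) →ₗ[R] E) :
    ∃ a : R, ∀ e, ψ e = a • (e : E) := by
  have hfl : IsFiniteLength R (R ⧸ maximalIdeal R ^ n) := isFiniteLength_quot_pow n
  have hbij := applyₗ_bijective_of_isFiniteLength f hf (R ⧸ maximalIdeal R ^ n) hfl
  let c : ((R ⧸ maximalIdeal R ^ n) →ₗ[R] E) →ₗ[R]
      Submodule.torsionBySet R E ((maximalIdeal R ^ n : Ideal R) : Set R) :=
    LinearMap.codRestrict _
      (LinearMap.applyₗ (Ideal.Quotient.mk (maximalIdeal R ^ n) 1 : R ⧸ maximalIdeal R ^ n))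
      (by
        intro χ
        rw [Submodule.mem_torsionBySet_iff]
        rintro ⟨b, hb⟩
        show b • χ (Ideal.Quotient.mk (maximalIdeal R ^ n) 1) = 0
        rw [← map_smul, smul_mk_one_eq_zero n b hb, map_zero])
  obtain ⟨x, hx⟩ := hbij.2 (ψ ∘ₗ c)
  obtain ⟨a, rfl⟩ := Ideal.Quotient.mk_surjective x
  refine ⟨a, fun e => ?_⟩
  let χ : (R ⧸ maximalIdeal R ^ n) →ₗ[R] E :=
    Submodule.liftQ (maximalIdeal R ^ n) (LinearMap.toSpanSingleton R E (e : E)) (by
      intro b hb
      rw [LinearMap.mem_ker, LinearMap.toSpanSingleton_apply]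
      exact (Submodule.mem_torsionBySet_iff _ _).mp e.2 ⟨b, hb⟩)
  have hχ : ∀ r : R, χ (Ideal.Quotient.mk (maximalIdeal R ^ n) r) = r • (e : E) := by
    intro r
    show χ (Submodule.Quotient.mk r) = _
    rw [Submodule.liftQ_apply, LinearMap.toSpanSingleton_apply]
  have hce : c χ = e := by
    apply Subtype.ext
    show χ (Ideal.Quotient.mk (maximalIdeal R ^ n) 1) = _
    rw [hχ, one_smul]
  have h2 := LinearMap.congr_fun hx χ
  rw [LinearMap.comp_apply, hce] at h2
  rw [← h2]
  exact hχ a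

section EndRing

variable (f : ResidueField R →ₗ[R] E) (hf : _root_.InjHull.IsInjectiveHull f)

include hf in
theorem htors (e : E) : ∃ n : ℕ, ∀ a ∈ maximalIdeal R ^ n, a • e = 0 :=
  Groth.Agent.S0311.result R E f hf e

include hf in
theorem exists_coeff (n : ℕ) (φ : Module.End R E) :
    ∃ a : R, ∀ e : E, (∀ b ∈ maximalIdeal R ^ n, b • e = 0) → φ e = a • e := by
  obtain ⟨a, ha⟩ := exists_smul_eq_of_linearMap f hf n
    (φ ∘ₗ (Submodule.torsionBySet R E ((maximalIdeal R ^ n : Ideal R) : Set R)).subtype)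
  refine ⟨a, fun e he => ?_⟩
  have hmem : e ∈ Submodule.torsionBySet R E ((maximalIdeal R ^ n : Ideal R) : Set R) := by
    rw [Submodule.mem_torsionBySet_iff]
    rintro ⟨b, hb⟩
    exact he b hb
  exact ha ⟨e, hmem⟩

/-- A coefficient `a ∈ R` such that `φ` is multiplication by `a` on `E[m^n]`. -/
noncomputable def coeff (n : ℕ) (φ : Module.End R E) : R :=
  Classical.choose (exists_coeff f hf n φ)

theorem coeff_spec (n : ℕ) (φ : Module.End R E) (e : E)
    (he : ∀ b ∈ maximalIdeal R ^ n, b • e = 0) : φ e = coeff f hf n φ • e :=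
  Classical.choose_spec (exists_coeff f hf n φ) e he

theorem mk_coeff_eq (n : ℕ) (φ : Module.End R E) (a : R)
    (h : ∀ e : E, (∀ b ∈ maximalIdeal R ^ n, b • e = 0) → φ e = a • e) :
    Ideal.Quotient.mk (maximalIdeal R ^ n) (coeff f hf n φ) =
      Ideal.Quotient.mk (maximalIdeal R ^ n) a := by
  rw [Ideal.Quotient.eq]
  apply mem_pow_of_forall_smul_eq_zero f hf n
  intro e he
  rw [sub_smul, ← coeff_spec f hf n φ e he, h e he, sub_self]

/-- The ring homomorphism `End_R(E) → R ⧸ m^n`. -/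
noncomputable def Ψn (n : ℕ) : Module.End R E →+* R ⧸ maximalIdeal R ^ n where
  toFun φ := Ideal.Quotient.mk (maximalIdeal R ^ n) (coeff f hf n φ)
  map_one' := by
    rw [mk_coeff_eq f hf n 1 1 (fun e _ => by rw [Module.End.one_apply, one_smul]), map_one]
  map_mul' φ ψ := by
    rw [← map_mul]
    apply mk_coeff_eq
    intro e he
    have he' : ∀ b ∈ maximalIdeal R ^ n, b • (ψ e) = 0 := by
      intro b hb
      rw [← map_smul, he b hb, map_zero]
    rw [Module.End.mul_apply, coeff_spec f hf n φ _ he', coeff_spec f hf n ψ e he, mul_smul]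
  map_zero' := by
    rw [mk_coeff_eq f hf n 0 0 (fun e _ => by rw [LinearMap.zero_apply, zero_smul]), map_zero]
  map_add' φ ψ := by
    rw [← map_add]
    apply mk_coeff_eq
    intro e he
    rw [LinearMap.add_apply, coeff_spec f hf n φ e he, coeff_spec f hf n ψ e he, add_smul]

theorem Ψn_apply (n : ℕ) (φ : Module.End R E) :
    Ψn f hf n φ = Ideal.Quotient.mk (maximalIdeal R ^ n) (coeff f hf n φ) := rfl

theorem Ψn_compat {k n : ℕ} (hle : k ≤ n) :
    (Ideal.Quotient.factorPow (maximalIdeal R) hle).comp (Ψn f hf n) = Ψn f hf k := by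
  ext φ
  rw [RingHom.comp_apply, Ψn_apply, Ψn_apply, Ideal.Quotient.factor_mk]
  symm
  apply mk_coeff_eq
  intro e he
  apply coeff_spec
  intro b hb
  exact he b (Ideal.pow_le_pow_right hle hb)

/-- The ring homomorphism `End_R(E) → R̂`. -/
noncomputable def Ψ : Module.End R E →+* AdicCompletion (maximalIdeal R) R :=
  AdicCompletion.liftRingHom (maximalIdeal R) (fun n => Ψn f hf n) (fun hle => Ψn_compat f hf hle)

theorem evalₐ_Ψ (n : ℕ) (φ : Module.End R E) :
    AdicCompletion.evalₐ (maximalIdeal R) n (Ψ f hf φ) =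
      Ideal.Quotient.mk (maximalIdeal R ^ n) (coeff f hf n φ) := by
  rw [Ψ, AdicCompletion.evalₐ_liftRingHom]
  rfl

theorem Ψ_injective : Function.Injective (Ψ f hf) := by
  rw [injective_iff_map_eq_zero]
  intro φ hφ
  ext e
  obtain ⟨n, hn⟩ := htors f hf e
  have h1 := evalₐ_Ψ f hf n φ
  rw [hφ, map_zero] at h1
  have h2 : coeff f hf n φ ∈ maximalIdeal R ^ n := Ideal.Quotient.eq_zero_iff_mem.mp h1.symm
  rw [coeff_spec f hf n φ e hn, hn _ h2, LinearMap.zero_apply]

/-- The endomorphism attached to a Cauchy sequence. -/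
noncomputable def actFun (s : ℕ → R) (e : E) : E := by
  classical
  exact s (Nat.find (htors f hf e)) • e

theorem actFun_eq (s : ℕ → R)
    (hs : ∀ i j, i ≤ j → s i - s j ∈ maximalIdeal R ^ i) (e : E) (k : ℕ)
    (hk : ∀ b ∈ maximalIdeal R ^ k, b • e = 0) : actFun f hf s e = s k • e := by
  classical
  have hle : Nat.find (htors f hf e) ≤ k := Nat.find_min' _ hk
  have hsp := Nat.find_spec (htors f hf e)
  have h1 := hsp _ (hs _ _ hle)
  rw [sub_smul, sub_eq_zero] at h1
  exact h1

omit [IsNoetherianRing R] in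
theorem smul_eq_zero_of_le (e : E) {i j : ℕ} (hij : i ≤ j)
    (hi : ∀ b ∈ maximalIdeal R ^ i, b • e = 0) : ∀ b ∈ maximalIdeal R ^ j, b • e = 0 :=
  fun b hb => hi b (Ideal.pow_le_pow_right hij hb)

noncomputable def act (s : ℕ → R) (hs : ∀ i j, i ≤ j → s i - s j ∈ maximalIdeal R ^ i) :
    Module.End R E where
  toFun := actFun f hf s
  map_add' e e' := by
    obtain ⟨n, hn⟩ := htors f hf e
    obtain ⟨n', hn'⟩ := htors f hf e'
    have h1 := smul_eq_zero_of_le e (le_max_left n n') hn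
    have h2 := smul_eq_zero_of_le e' (le_max_right n n') hn'
    have h3 : ∀ b ∈ maximalIdeal R ^ (max n n'), b • (e + e') = 0 := by
      intro b hb
      rw [smul_add, h1 b hb, h2 b hb, add_zero]
    rw [actFun_eq f hf s hs _ _ h3, actFun_eq f hf s hs _ _ h1, actFun_eq f hf s hs _ _ h2,
      smul_add]
  map_smul' r e := by
    obtain ⟨n, hn⟩ := htors f hf e
    have h3 : ∀ b ∈ maximalIdeal R ^ n, b • (r • e) = 0 := by
      intro b hb
      rw [smul_comm, hn b hb, smul_zero]
    rw [actFun_eq f hf s hs _ _ h3, actFun_eq f hf s hs _ _ hn, RingHom.id_apply, smul_comm]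

theorem Ψ_surjective : Function.Surjective (Ψ f hf) := by
  intro x
  obtain ⟨s, rfl⟩ := AdicCompletion.mk_surjective (maximalIdeal R) R x
  have hs : ∀ i j, i ≤ j → s.val i - s.val j ∈ maximalIdeal R ^ i := by
    intro i j hij
    rw [← Ideal.Quotient.eq]
    exact (AdicCompletion.Ideal.mk_eq_mk (maximalIdeal R) hij s).symm
  refine ⟨act f hf s.val hs, ?_⟩
  apply AdicCompletion.ext_evalₐ
  intro n
  rw [evalₐ_Ψ, AdicCompletion.evalₐ_mk]
  apply mk_coeff_eq
  intro e he
  exact actFun_eq f hf s.val hs e n he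

theorem Ψ_algebraMap (r : R) :
    Ψ f hf (algebraMap R (Module.End R E) r) = algebraMap R (AdicCompletion (maximalIdeal R) R) r := by
  apply AdicCompletion.ext_evalₐ
  intro n
  rw [evalₐ_Ψ, AlgHom.commutes]
  apply mk_coeff_eq
  intro e _
  rw [Module.algebraMap_end_apply]

/-- `End_R(E(k)) ≃ R̂` as `R`-algebras. -/
noncomputable def endEquiv : Module.End R E ≃ₐ[R] AdicCompletion (maximalIdeal R) R :=
  AlgEquiv.ofBijective
    ({ Ψ f hf with commutes' := Ψ_algebraMap f hf } : Module.End R E →ₐ[R] AdicCompletion (maximalIdeal R) R)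
    ⟨Ψ_injective f hf, Ψ_surjective f hf⟩

end EndRing

end Groth.Agent.Lib.H29MatlisEnd
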