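import Mathlib.Tactic
import Groth.Agent.S5672
import Groth.Agent.S11174
import Groth.Agent.Lib.LocCohConcrete
import Groth.Agent.Lib.H29LocCohReg
import Groth.Agent.Lib.H87AB

/-!
# Top local cohomology as an injective hull of the residue field (helper26)

Abstract criterion over a Noetherian local ring `(A, 𝔪)`: let `Z` be an `A`-module and `n : ℕ` with
* `Ext^i(N, Z) = 0` for `i < n` and `N` of finite length,
* `length Ext^n(N, Z) = length N` for `N` of finite length.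
Then `H^n_𝔪(Z) = colim Ext^n(A/𝔪^k, Z)` is an injective hull of the residue field
(`exists_isInjectiveHull_H`).  The proof identifies `Hom(A/𝔪^j, H^n_𝔪(Z))` with `Ext^n(A/𝔪^j, Z)`
(`homEquiv`) and applies helper29's criterion `S11174`.
-/

set_option autoImplicit false
universe u
open CategoryTheory IsLocalRing

namespace Groth.Agent.Lib.H26TopLC

open Groth.Agent.S5672 Groth.Agent.Lib.LocCohConcrete

variable {A : Type u} [CommRing A] [IsLocalRing A] [IsNoetherianRing A]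

/-- a finite module killed by a power of the maximal ideal has finite length -/
lemma isFiniteLength_of_pow_smul (k : ℕ) (K : Type u) [AddCommGroup K] [Module A K]
    [Module.Finite A K] (hK : (maximalIdeal A ^ k) • (⊤ : Submodule A K) = ⊥) :
    IsFiniteLength A K := by
  obtain ⟨r, s, hs⟩ := Module.Finite.exists_fin (R := A) (M := K)
  have hπ := piMap_surjective hK s hs
  have h1 : IsFiniteLength A (A ⧸ maximalIdeal A ^ k) :=
    Groth.Agent.Lib.H29MatlisEnd.isFiniteLength_quot_pow k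
  rw [isFiniteLength_iff_isNoetherian_isArtinian] at h1 ⊢
  obtain ⟨_, _⟩ := h1
  exact ⟨inferInstance, isArtinian_of_surjective _ (piMap hK s) hπ⟩

section

variable (n : ℕ) (Z : Type u) [AddCommGroup Z] [Module A Z]
  (hV : ∀ (N : Type u) [AddCommGroup N] [Module A N], IsFiniteLength A N → ∀ i < n,
    Subsingleton (Abelian.Ext (ModuleCat.of A N) (ModuleCat.of A Z) i))

local notation "𝔪" => maximalIdeal A
local notation "HH" => LocCoh.H (maximalIdeal A) n Z

/-- the projection `A/𝔪^k → A/𝔪^j` -/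
abbrev prj {j k : ℕ} (h : j ≤ k) : (A ⧸ 𝔪 ^ k) →ₗ[A] (A ⧸ 𝔪 ^ j) :=
  Submodule.mapQ (𝔪 ^ k) (𝔪 ^ j) LinearMap.id (by simpa using Ideal.pow_le_pow_right h)

omit [IsNoetherianRing A] in
lemma proj_eq {j k : ℕ} (h : j ≤ k) : proj 𝔪 h = ModuleCat.ofHom (prj (A := A) h) := rfl

omit [IsNoetherianRing A] in
lemma prj_surjective {j k : ℕ} (h : j ≤ k) : Function.Surjective (prj (A := A) h) := by
  intro x
  obtain ⟨a, rfl⟩ := Submodule.Quotient.mk_surjective _ x
  exact ⟨Submodule.Quotient.mk a, rfl⟩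

omit [IsNoetherianRing A] in
lemma proj_comp {i j k : ℕ} (h1 : i ≤ j) (h2 : j ≤ k) :
    proj 𝔪 h2 ≫ proj 𝔪 h1 = proj 𝔪 (h1.trans h2) := by
  apply ModuleCat.hom_ext
  apply LinearMap.ext
  intro x
  obtain ⟨a, rfl⟩ := Submodule.Quotient.mk_surjective _ x
  rfl

include hV in
lemma van (k : ℕ) : Van (𝔪 ^ k) (ModuleCat.of A Z) n := by
  intro K _ _ _ hJK i hi
  exact hV K (isFiniteLength_of_pow_smul k K hJK) i hi

include hV in
/-- transition maps are injective -/
lemma trans_injective {j k : ℕ} (h : j ≤ k)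
    (x : Abelian.Ext (Q 𝔪 j) (ModuleCat.of A Z) n)
    (hx : (Abelian.Ext.mk₀ (proj 𝔪 h)).comp x (zero_add n) = 0) : x = 0 := by
  rw [proj_eq] at hx
  refine pullback_injective_of_van (prj (A := A) h) (prj_surjective h) (fun i hi => ?_) x hx
  refine hV _ ?_ i hi
  have h1 : IsFiniteLength A (A ⧸ 𝔪 ^ k) :=
    Groth.Agent.Lib.H29MatlisEnd.isFiniteLength_quot_pow k
  rw [isFiniteLength_iff_isNoetherian_isArtinian] at h1 ⊢
  obtain ⟨_, _⟩ := h1
  exact ⟨inferInstance, inferInstance⟩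

include hV in
lemma HιE_injective (j : ℕ) : Function.Injective (HιE 𝔪 Z n j) := by
  rw [injective_iff_map_eq_zero]
  intro x hx
  obtain ⟨k, h, hk⟩ := (HιE_eq_zero_iff 𝔪 Z n x).mp hx
  exact trans_injective n Z hV h x hk

omit [IsNoetherianRing A] in
lemma smul_ext_Q {j : ℕ} {a : A} (ha : a ∈ 𝔪 ^ j)
    (x : Abelian.Ext (Q 𝔪 j) (ModuleCat.of A Z) n) : a • x = 0 := by
  apply Groth.Agent.Lib.H87AB.smul_ext_eq_zero
  intro y
  obtain ⟨c, rfl⟩ := Ideal.Quotient.mk_surjective y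
  change a • (Ideal.Quotient.mk _ c) = 0
  rw [Algebra.smul_def, Ideal.Quotient.algebraMap_eq, ← map_mul]
  exact Ideal.Quotient.eq_zero_iff_mem.mpr (Ideal.mul_mem_right _ _ ha)

omit [IsNoetherianRing A] in
lemma pb_smul_right {X Y : ModuleCat.{u} A} (f : X ⟶ Y) (a : A)
    (ξ : Abelian.Ext Y (ModuleCat.of A Z) n) : pb f (a • ξ) = a • pb f ξ :=
  Abelian.Ext.comp_smul _ _ _ _

include hV in
/-- classes at level `k` killed by `𝔪^j` come from level `j` -/
lemma exists_of_smul_eq_zero {j k : ℕ} (h : j ≤ k)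
    (e : Abelian.Ext (Q 𝔪 k) (ModuleCat.of A Z) n) (he : ∀ a ∈ 𝔪 ^ j, a • e = 0) :
    ∃ x : Abelian.Ext (Q 𝔪 j) (ModuleCat.of A Z) n,
      (Abelian.Ext.mk₀ (proj 𝔪 h)).comp x (zero_add n) = e := by
  have hS := presSC_shortExact (prj (A := A) h) (prj_surjective h)
  have hK0 : pb (presSC (prj (A := A) h)).f e = 0 := by
    have hJK : (𝔪 ^ k) • (⊤ : Submodule A (LinearMap.ker (prj (A := A) h))) = ⊥ := by
      apply smul_top_sub
      rw [eq_bot_iff, Submodule.smul_le]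
      intro a ha x _
      rw [Submodule.mem_bot]
      obtain ⟨c, rfl⟩ := Ideal.Quotient.mk_surjective x
      change a • (Ideal.Quotient.mk _ c) = 0
      rw [Algebra.smul_def, Ideal.Quotient.algebraMap_eq, ← map_mul]
      exact Ideal.Quotient.eq_zero_iff_mem.mpr (Ideal.mul_mem_right _ _ ha)
    apply inj (van n Z hV k) _ hJK
    intro u
    change pb (ModuleCat.ofHom u) (pb (ModuleCat.ofHom (LinearMap.ker (prj (A := A) h)).subtype) e) = 0
    rw [← pb_comp, ← ModuleCat.ofHom_comp]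
    obtain ⟨a, ha⟩ := Ideal.Quotient.mk_surjective ((u 1 : LinearMap.ker (prj (A := A) h)) : A ⧸ 𝔪 ^ k)
    have h1 : (LinearMap.ker (prj (A := A) h)).subtype.comp u = a • LinearMap.id :=
      endo_eq_smul (𝔪 ^ k) _ a ha
    have ha' : a ∈ 𝔪 ^ j := by
      have h2 : prj (A := A) h (Ideal.Quotient.mk _ a) = 0 := by
        rw [ha]; exact (u 1).2
      exact Ideal.Quotient.eq_zero_iff_mem.mp h2
    rw [h1, ofHom_smul', pb_smul, ModuleCat.ofHom_id, pb_id]
    exact he a ha'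
  obtain ⟨x, hx⟩ := Abelian.Ext.contravariant_sequence_exact₂ hS (ModuleCat.of A Z) e hK0
  exact ⟨x, hx⟩

include hV in
/-- an element of `H^n_𝔪(Z)` killed by `𝔪^j` is represented at some level by a class killed by
`𝔪^j`. -/
lemma exists_stage (j : ℕ) (y : HH) (hy : ∀ a ∈ 𝔪 ^ j, a • y = 0) :
    ∃ (k : ℕ) (_ : j ≤ k) (e : Abelian.Ext (Q 𝔪 k) (ModuleCat.of A Z) n),
      HιE 𝔪 Z n k e = y ∧ ∀ a ∈ 𝔪 ^ j, a • e = 0 := by
  classical
  obtain ⟨k0, e0, rfl⟩ := exists_rep 𝔪 Z n y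
  have hfg : (𝔪 ^ j).FG := IsNoetherian.noetherian _
  obtain ⟨s, hs⟩ := hfg
  -- find a common stage killing all generators
  have key : ∀ t : Finset A, (∀ a ∈ t, a ∈ 𝔪 ^ j) → ∃ (k : ℕ) (hk : k0 ≤ k), ∀ a ∈ t,
      a • (Abelian.Ext.mk₀ (proj 𝔪 hk)).comp e0 (zero_add n) = 0 := by
    intro t
    induction t using Finset.induction_on with
    | empty => intro _; exact ⟨k0, le_rfl, by simp⟩
    | insert b t hb ih =>
      intro ht
      obtain ⟨k1, hk1, h1⟩ := ih (fun a ha => ht a (Finset.mem_insert_of_mem ha))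
      have hb0 : HιE 𝔪 Z n k0 (b • e0) = 0 := by
        rw [map_smul]; exact hy b (ht b (Finset.mem_insert_self b t))
      obtain ⟨k2, hk2, h2⟩ := (HιE_eq_zero_iff 𝔪 Z n (b • e0)).mp hb0
      refine ⟨max k1 k2, hk1.trans (le_max_left _ _), ?_⟩
      intro a ha
      rcases Finset.mem_insert.mp ha with rfl | ha
      · have : (Abelian.Ext.mk₀ (proj 𝔪 (hk2.trans (le_max_right k1 k2)))).comp e0 (zero_add n) =
            pb (proj 𝔪 (le_max_right k1 k2)) (pb (proj 𝔪 hk2) e0) := by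
          rw [← pb_comp, proj_comp]
        rw [this, ← pb_smul_right, ← pb_smul_right]
        change pb _ ((Abelian.Ext.mk₀ (proj 𝔪 hk2)).comp (a • e0) (zero_add n)) = 0
        rw [h2, pb_map_zero]
      · have : (Abelian.Ext.mk₀ (proj 𝔪 (hk1.trans (le_max_left k1 k2)))).comp e0 (zero_add n) =
            pb (proj 𝔪 (le_max_left k1 k2)) (pb (proj 𝔪 hk1) e0) := by
          rw [← pb_comp, proj_comp]
        rw [this, ← pb_smul_right]
        change pb _ (a • (Abelian.Ext.mk₀ (proj 𝔪 hk1)).comp e0 (zero_add n)) = 0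
        rw [h1 a ha, pb_map_zero]
  obtain ⟨k1, hk1, h1⟩ := key s (fun a ha => by
    rw [← hs]; exact Submodule.subset_span ha)
  -- enlarge to be above `j`
  refine ⟨max k1 j, le_max_right _ _,
    (Abelian.Ext.mk₀ (proj 𝔪 (hk1.trans (le_max_left k1 j)))).comp e0 (zero_add n), ?_, ?_⟩
  · exact HιE_transition 𝔪 Z n _ e0
  · intro a ha
    have hspan : a ∈ Ideal.span (s : Set A) := by rw [hs]; exact ha
    have h2 : (Abelian.Ext.mk₀ (proj 𝔪 (hk1.trans (le_max_left k1 j)))).comp e0 (zero_add n) =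
        pb (proj 𝔪 (le_max_left k1 j)) (pb (proj 𝔪 hk1) e0) := by
      rw [← pb_comp, proj_comp]
    rw [h2, ← pb_smul_right]
    have h3 : a • pb (proj 𝔪 hk1) e0 = 0 := by
      refine Submodule.span_induction (p := fun a _ => a • pb (proj 𝔪 hk1) e0 = 0)
        ?_ ?_ ?_ ?_ hspan
      · intro b hb; exact h1 b hb
      · exact zero_smul _ _
      · intro b c _ _ hb hc; rw [add_smul, hb, hc, add_zero]
      · intro b c _ hc; rw [smul_eq_mul, mul_smul, hc, smul_zero]
    rw [h3, pb_map_zero]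

include hV in
/-- the image of level `j` in `H^n_𝔪(Z)` is the `𝔪^j`-torsion -/
lemma range_HιE (j : ℕ) :
    LinearMap.range (HιE 𝔪 Z n j) = Submodule.torsionBySet A HH ((𝔪 ^ j : Ideal A) : Set A) := by
  apply le_antisymm
  · rintro _ ⟨x, rfl⟩
    rw [Submodule.mem_torsionBySet_iff]
    rintro ⟨a, ha⟩
    change a • HιE 𝔪 Z n j x = 0
    rw [← map_smul, smul_ext_Q n Z ha, map_zero]
  · intro y hy
    rw [Submodule.mem_torsionBySet_iff] at hy
    obtain ⟨k, hk, e, rfl, he⟩ := exists_stage n Z hV j y (fun a ha => hy ⟨a, ha⟩)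
    obtain ⟨x, rfl⟩ := exists_of_smul_eq_zero n Z hV hk e he
    exact ⟨x, (HιE_transition 𝔪 Z n hk x).symm⟩

/-- evaluation at `1` -/
noncomputable abbrev ev (j : ℕ) : ((A ⧸ 𝔪 ^ j) →ₗ[A] HH) →ₗ[A] HH :=
  LinearMap.applyₗ (1 : A ⧸ 𝔪 ^ j)

omit [IsNoetherianRing A] in
lemma ev_injective (j : ℕ) : Function.Injective (ev (A := A) n Z j) := by
  intro f g hfg
  apply LinearMap.ext
  intro z
  obtain ⟨c, rfl⟩ := Ideal.Quotient.mk_surjective z
  have h1 : (Ideal.Quotient.mk (𝔪 ^ j) c : A ⧸ 𝔪 ^ j) = c • (1 : A ⧸ 𝔪 ^ j) := by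
    rw [Algebra.smul_def, mul_one]; rfl
  rw [h1, map_smul, map_smul]
  congr 1

omit [IsNoetherianRing A] in
lemma range_ev (j : ℕ) :
    LinearMap.range (ev (A := A) n Z j) =
      Submodule.torsionBySet A HH ((𝔪 ^ j : Ideal A) : Set A) := by
  apply le_antisymm
  · rintro _ ⟨f, rfl⟩
    rw [Submodule.mem_torsionBySet_iff]
    rintro ⟨a, ha⟩
    change a • f 1 = 0
    rw [← map_smul]
    have : a • (1 : A ⧸ 𝔪 ^ j) = 0 := by
      rw [Algebra.smul_def, mul_one]
      exact Ideal.Quotient.eq_zero_iff_mem.mpr ha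
    rw [this, map_zero]
  · intro y hy
    rw [Submodule.mem_torsionBySet_iff] at hy
    have hker : 𝔪 ^ j ≤ LinearMap.ker (LinearMap.toSpanSingleton A HH y) := by
      intro a ha
      rw [LinearMap.mem_ker, LinearMap.toSpanSingleton_apply]
      exact hy ⟨a, ha⟩
    refine ⟨Submodule.liftQ (𝔪 ^ j) (LinearMap.toSpanSingleton A HH y) hker, ?_⟩
    · change Submodule.liftQ (𝔪 ^ j) (LinearMap.toSpanSingleton A HH y) hker
        (Submodule.Quotient.mk 1) = y
      rw [Submodule.liftQ_apply, LinearMap.toSpanSingleton_apply, one_smul]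

include hV in
/-- `Hom(A/𝔪^j, H^n_𝔪(Z)) ≃ Ext^n(A/𝔪^j, Z)` -/
noncomputable def homEquiv (j : ℕ) :
    ((A ⧸ 𝔪 ^ j) →ₗ[A] HH) ≃ₗ[A] Abelian.Ext (Q 𝔪 j) (ModuleCat.of A Z) n :=
  (LinearEquiv.ofInjective (ev n Z j) (ev_injective n Z j)).trans
    ((LinearEquiv.ofEq _ _ ((range_ev n Z j).trans (range_HιE n Z hV j).symm)).trans
      (LinearEquiv.ofInjective (HιE 𝔪 Z n j) (HιE_injective n Z hV j)).symm)

include hV in
/-- **Top local cohomology is an injective hull of the residue field**, abstract form. -/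
theorem exists_isInjectiveHull_H
    (hL : ∀ (N : Type u) [AddCommGroup N] [Module A N], IsFiniteLength A N →
      Module.length A (Abelian.Ext (ModuleCat.of A N) (ModuleCat.of A Z) n) = Module.length A N) :
    ∃ f : ResidueField A →ₗ[A] HH, InjHull.IsInjectiveHull f := by
  have hfl : ∀ j, IsFiniteLength A (A ⧸ 𝔪 ^ j) := fun j =>
    Groth.Agent.Lib.H29MatlisEnd.isFiniteLength_quot_pow j
  refine Groth.Agent.S11174.result A HH
    (Groth.Agent.Lib.H29LocCohReg.isPowerTorsion_H 𝔪 Z n) ?_ (fun j => 𝔪 ^ j)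
    (fun i j hij => Ideal.pow_le_pow_right hij) (fun j => ⟨j, le_rfl⟩) (fun j => ⟨j, le_rfl⟩) ?_
  · -- `Hom(k, H) ≃ k`
    have e1 : (ResidueField A →ₗ[A] HH) ≃ₗ[A] ((A ⧸ 𝔪 ^ 1) →ₗ[A] HH) :=
      LinearEquiv.arrowCongr (Submodule.quotEquivOfEq _ _ (pow_one 𝔪).symm) (LinearEquiv.refl A HH)
    have e2 := e1.trans (homEquiv n Z hV 1)
    have hlen : Module.length A (Abelian.Ext (Q 𝔪 1) (ModuleCat.of A Z) n) = 1 := by
      rw [hL _ (hfl 1), (Submodule.quotEquivOfEq _ _ (pow_one 𝔪)).length_eq]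
      have : IsSimpleModule A (A ⧸ 𝔪) :=
        isSimpleModule_iff_isCoatom.mpr (Ideal.isMaximal_def.mp inferInstance)
      exact Module.length_eq_one A (A ⧸ 𝔪)
    have hsimple : IsSimpleModule A (Abelian.Ext (Q 𝔪 1) (ModuleCat.of A Z) n) :=
      Module.length_eq_one_iff.mp hlen
    obtain ⟨I, hI, ⟨e3⟩⟩ := isSimpleModule_iff_quot_maximal.mp hsimple
    have hIm : I = 𝔪 := IsLocalRing.eq_maximalIdeal hI
    subst hIm
    exact ⟨e2.trans e3⟩
  · intro j
    rw [(homEquiv n Z hV j).length_eq, hL _ (hfl j)]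

end

end Groth.Agent.Lib.H26TopLC
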