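/-
Helper library (helper29): Bass' lemma on injective dimension over Noetherian local rings.
For a finite module `M` over a Noetherian local ring, `Ext^i(k, M) = 0` for all `i ≥ N` implies
`Ext^i(Y, M) = 0` for all modules `Y` and all `i > N`, i.e. `M` has injective dimension `≤ N`.
-/
import Groth.Agent.Lib.H29Depth
import Mathlib.Algebra.Category.ModuleCat.InjectiveDimension
import Mathlib.Algebra.Category.ModuleCat.Ext.Finite
import Mathlib.Algebra.Category.ModuleCat.Ext.Basic
import Mathlib.Algebra.Homology.DerivedCategory.Ext.EnoughInjectives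
import Mathlib.RingTheory.Ideal.AssociatedPrime.Finiteness
import Mathlib.RingTheory.Nakayama
import Mathlib.RingTheory.LocalRing.MaximalIdeal.Basic

set_option autoImplicit false
universe u

namespace Groth.Agent.Lib.H29Bass

open CategoryTheory Abelian

section general

variable {C : Type*} [Category C] [Abelian C] [HasExt C] {S : ShortComplex C}

theorem subsingleton_ext_left_X₂ (hS : S.ShortExact) (Y : C) (n : ℕ)
    (h₁ : Subsingleton (Ext S.X₁ Y n)) (h₃ : Subsingleton (Ext S.X₃ Y n)) :
    Subsingleton (Ext S.X₂ Y n) := by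
  refine subsingleton_of_forall_eq 0 fun x₂ => ?_
  obtain ⟨x₃, rfl⟩ := Ext.contravariant_sequence_exact₂ hS Y x₂ (Subsingleton.elim _ _)
  rw [Subsingleton.elim x₃ 0, Ext.comp_zero]

theorem subsingleton_ext_of_isZero_left {X Y : C} (hX : Limits.IsZero X) (n : ℕ) :
    Subsingleton (Ext X Y n) := by
  refine subsingleton_of_forall_eq 0 fun x => ?_
  rw [← Ext.mk₀_id_comp x, hX.eq_of_src (𝟙 X) 0, Ext.mk₀_zero, Ext.zero_comp]

end general

section devissage

variable {R : Type u} [CommRing R] [IsNoetherianRing R]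

/-- Dévissage: vanishing of `Ext^n(R/p, M)` for the primes containing `s` gives vanishing of
`Ext^n(N, M)` for every finite module `N` killed by `s`. -/
theorem subsingleton_ext_of_forall_prime (M : ModuleCat.{u} R) (n : ℕ) (s : Set R)
    (h : ∀ p : PrimeSpectrum R, s ⊆ p.asIdeal →
      Subsingleton (Ext (ModuleCat.of R (R ⧸ p.asIdeal)) M n))
    (N : Type u) [AddCommGroup N] [Module R N] [hfin : Module.Finite R N]
    (hN : ∀ a ∈ s, ∀ x : N, a • x = 0) :
    Subsingleton (Ext (ModuleCat.of R N) M n) := by
  refine IsNoetherianRing.induction_on_isQuotientEquivQuotientPrime R hfin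
    (motive := fun N _ _ _ => (∀ a ∈ s, ∀ x : N, a • x = 0) →
      Subsingleton (Ext (ModuleCat.of R N) M n)) ?_ ?_ ?_ hN
  · intro N _ _ _ _ _
    exact subsingleton_ext_of_isZero_left (ModuleCat.isZero_of_subsingleton _) n
  · intro N _ _ _ p e hN
    have hsp : s ⊆ p.asIdeal := by
      intro a ha
      have h1 : a • e.symm 1 = 0 := hN a ha _
      have h2 : a • (1 : R ⧸ p.asIdeal) = 0 := by
        have := congrArg e h1
        rwa [map_smul, LinearEquiv.apply_symm_apply, map_zero] at this
      have h3 : (Ideal.Quotient.mk p.asIdeal a) = 0 := by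
        rw [← h2]
        change _ = Ideal.Quotient.mk _ (a * 1)
        rw [mul_one]
      exact Ideal.Quotient.eq_zero_iff_mem.mp h3
    exact Groth.Agent.Lib.H29Depth.subsingleton_ext_of_iso e.toModuleIso n (h p hsp)
  · intro N₁ _ _ _ N₂ _ _ _ N₃ _ _ _ f g hf hg hfg ih₁ ih₃ hN₂
    have hN₁ : ∀ a ∈ s, ∀ x : N₁, a • x = 0 := by
      intro a ha x
      apply hf
      rw [map_smul, hN₂ a ha, map_zero]
    have hN₃ : ∀ a ∈ s, ∀ x : N₃, a • x = 0 := by
      intro a ha y
      obtain ⟨x, rfl⟩ := hg y
      rw [← map_smul, hN₂ a ha, map_zero]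
    let S := ModuleCat.shortComplexOfCompEqZero f g hfg.linearMap_comp_eq_zero
    have hS : S.ShortExact := ModuleCat.shortComplex_shortExact S hfg hf hg
    exact subsingleton_ext_left_X₂ hS M n (ih₁ hN₁) (ih₃ hN₃)

end devissage

section bass

variable {R : Type u} [CommRing R] [IsNoetherianRing R] [IsLocalRing R]

/-- Bass' lemma, key step: vanishing of `Ext^i(k, M)` for `i ≥ N₀` propagates to `Ext^i(R/p, M)`
for every prime `p`. -/
theorem subsingleton_ext_quotient_prime (M : ModuleCat.{u} R) [Module.Finite R M] (N₀ : ℕ)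
    (hk : ∀ i, N₀ ≤ i →
      Subsingleton (Ext (ModuleCat.of R (R ⧸ IsLocalRing.maximalIdeal R)) M i)) :
    ∀ p : Ideal R, p.IsPrime → ∀ i, N₀ ≤ i →
      Subsingleton (Ext (ModuleCat.of R (R ⧸ p)) M i) := by
  intro p
  induction p using WellFoundedGT.induction with
  | ind p ih =>
    intro hp i hi
    by_cases hpm : p = IsLocalRing.maximalIdeal R
    · subst hpm
      exact hk i hi
    · have hlt : p < IsLocalRing.maximalIdeal R :=
        lt_of_le_of_ne (IsLocalRing.le_maximalIdeal hp.ne_top) hpm
      obtain ⟨x, hxm, hxp⟩ := SetLike.exists_of_lt hlt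
      let f : (R ⧸ p) →ₗ[R] (R ⧸ p) := LinearMap.lsmul R (R ⧸ p) x
      have hf : Function.Injective f := by
        rw [← LinearMap.ker_eq_bot, Submodule.eq_bot_iff]
        intro y hy
        obtain ⟨a, rfl⟩ := Ideal.Quotient.mk_surjective y
        have h1 : Ideal.Quotient.mk p (x * a) = 0 := hy
        rw [Ideal.Quotient.eq_zero_iff_mem] at h1 ⊢
        exact (hp.mem_or_mem h1).resolve_left hxp
      let S := ModuleCat.shortComplexOfCompEqZero f (LinearMap.range f).mkQ
        (LinearMap.exact_map_mkQ_range f).linearMap_comp_eq_zero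
      have hS : S.ShortExact := ModuleCat.shortComplex_shortExact S
        (LinearMap.exact_map_mkQ_range f) hf (Submodule.mkQ_surjective _)
      have hC : ∀ j, N₀ ≤ j →
          Subsingleton (Ext (ModuleCat.of R ((R ⧸ p) ⧸ LinearMap.range f)) M j) := by
        intro j hj
        apply subsingleton_ext_of_forall_prime M j ((p : Set R) ∪ {x})
        · intro q hq
          have hpq : p < q.asIdeal := by
            refine lt_of_le_of_ne (fun a ha => hq (Or.inl ha)) ?_
            intro heq
            exact hxp (heq ▸ hq (Or.inr rfl))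
          exact ih q.asIdeal hpq q.isPrime j hj
        · intro a ha y
          obtain ⟨z, rfl⟩ := Submodule.mkQ_surjective _ y
          rcases ha with ha | ha
          · obtain ⟨b, rfl⟩ := Ideal.Quotient.mk_surjective z
            have : a • (Ideal.Quotient.mk p b) = 0 := by
              change Ideal.Quotient.mk p (a * b) = 0
              exact Ideal.Quotient.eq_zero_iff_mem.mpr (Ideal.mul_mem_right _ _ ha)
            rw [← map_smul, this, map_zero]
          · rw [Set.mem_singleton_iff] at ha
            subst ha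
            rw [← map_smul]
            exact (Submodule.Quotient.mk_eq_zero _).mpr ⟨z, rfl⟩
      have hsurj : ∀ e : Ext (ModuleCat.of R (R ⧸ p)) M i, ∃ e' : Ext (ModuleCat.of R (R ⧸ p)) M i,
          e = x • e' := by
        intro e
        have := hC (i + 1) (by omega)
        obtain ⟨e', he'⟩ := Ext.contravariant_sequence_exact₁ hS M e (add_comm 1 i)
          (Subsingleton.elim _ _)
        refine ⟨e', ?_⟩
        rw [← he']
        have hSf : S.f = x • 𝟙 (ModuleCat.of R (R ⧸ p)) := rfl
        rw [hSf, Ext.mk₀_smul, Ext.smul_comp, Ext.mk₀_id_comp]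
      have : Module.Finite R (ModuleCat.of R (R ⧸ p)) :=
        inferInstanceAs (Module.Finite R (R ⧸ p))
      have htop : (⊤ : Submodule R (Ext (ModuleCat.of R (R ⧸ p)) M i)) ≤
          IsLocalRing.maximalIdeal R • ⊤ := by
        intro e _
        obtain ⟨e', rfl⟩ := hsurj e
        exact Submodule.smul_mem_smul hxm Submodule.mem_top
      have hbot := Submodule.eq_bot_of_le_smul_of_le_jacobson_bot (IsLocalRing.maximalIdeal R)
        (⊤ : Submodule R (Ext (ModuleCat.of R (R ⧸ p)) M i)) Module.Finite.fg_top htop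
        (IsLocalRing.maximalIdeal_le_jacobson ⊥)
      exact (Submodule.subsingleton_iff R).mp (subsingleton_of_bot_eq_top hbot.symm)

/-- Bass' lemma for finite test modules. -/
theorem subsingleton_ext_of_finite (M : ModuleCat.{u} R) [Module.Finite R M] (N₀ : ℕ)
    (hk : ∀ i, N₀ ≤ i →
      Subsingleton (Ext (ModuleCat.of R (R ⧸ IsLocalRing.maximalIdeal R)) M i))
    (N : Type u) [AddCommGroup N] [Module R N] [Module.Finite R N] (i : ℕ) (hi : N₀ ≤ i) :
    Subsingleton (Ext (ModuleCat.of R N) M i) :=
  subsingleton_ext_of_forall_prime M i ∅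
    (fun q _ => subsingleton_ext_quotient_prime M N₀ hk q.asIdeal q.isPrime i hi) N
    (fun _ ha => absurd ha (Set.notMem_empty _))

end bass

section baer

variable {R : Type u} [CommRing R]

/-- Baer's criterion in terms of `Ext^1` of cyclic modules. -/
theorem injective_of_ext_one (M : ModuleCat.{u} R)
    (h : ∀ I : Ideal R, Subsingleton (Ext (ModuleCat.of R (R ⧸ I)) M 1)) : Injective M := by
  rw [← Module.injective_iff_injective_object]
  apply Module.Baer.injective
  intro I g
  let S := ModuleCat.shortComplexOfCompEqZero I.subtype I.mkQ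
    (LinearMap.exact_subtype_mkQ I).linearMap_comp_eq_zero
  have hS : S.ShortExact := ModuleCat.shortComplex_shortExact S
    (LinearMap.exact_subtype_mkQ I) Subtype.val_injective (Submodule.mkQ_surjective _)
  have := h I
  obtain ⟨x₂, hx₂⟩ := Ext.contravariant_sequence_exact₁ hS M (Ext.mk₀ (ModuleCat.ofHom g))
    (add_zero 1) (Subsingleton.elim _ _)
  obtain ⟨φ, rfl⟩ := (Ext.mk₀_bijective _ _).2 x₂
  rw [Ext.mk₀_comp_mk₀] at hx₂
  have hφ : S.f ≫ φ = ModuleCat.ofHom g := (Ext.mk₀_bijective _ _).1 hx₂
  refine ⟨φ.hom, fun x hx => ?_⟩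
  have := congrArg (fun ψ => ψ.hom ⟨x, hx⟩) hφ
  exact this

/-- Injective dimension is detected by `Ext` of cyclic modules. -/
theorem hasInjectiveDimensionLT_succ_of_ext (n : ℕ) : ∀ (M : ModuleCat.{u} R),
    (∀ I : Ideal R, Subsingleton (Ext (ModuleCat.of R (R ⧸ I)) M (n + 1))) →
    HasInjectiveDimensionLT M (n + 1) := by
  induction n with
  | zero =>
    intro M h
    have := injective_of_ext_one M h
    infer_instance
  | succ n ih =>
    intro M h
    obtain ⟨⟨E, hE, f, hf⟩⟩ := EnoughInjectives.presentation M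
    let S := ShortComplex.mk f (Limits.cokernel.π f) (Limits.cokernel.condition f)
    have hS : S.ShortExact := { exact := ShortComplex.exact_cokernel f }
    rw [← hS.hasInjectiveDimensionLT_X₃_iff n hE]
    apply ih
    intro I
    have : Injective S.X₂ := hE
    exact Groth.Agent.Lib.H29Depth.subsingleton_ext_X₃ hS _ (n + 1)
      (Ext.subsingleton_of_injective _ _ n) (h I)

end baer

section main

variable {R : Type u} [CommRing R] [IsNoetherianRing R] [IsLocalRing R]

/-- Bass: if `Ext^i(k, M) = 0` for all `i ≥ N₀` then `M` has injective dimension `≤ N₀`. -/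
theorem hasInjectiveDimensionLT_of_ext_residueField (M : ModuleCat.{u} R) [Module.Finite R M]
    (N₀ : ℕ)
    (hk : ∀ i, N₀ ≤ i →
      Subsingleton (Ext (ModuleCat.of R (R ⧸ IsLocalRing.maximalIdeal R)) M i)) :
    HasInjectiveDimensionLT M (N₀ + 1) :=
  hasInjectiveDimensionLT_succ_of_ext N₀ M fun I =>
    subsingleton_ext_of_finite M N₀ hk (R ⧸ I) (N₀ + 1) (Nat.le_succ _)

end main

end Groth.Agent.Lib.H29Bass
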