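/-
Helper library (helper29): base change of `Ext` along an exact "extension of scalars"-type functor.

For rings `A → B` and an additive exact functor `F : ModuleCat A ⥤ ModuleCat B` compatible with
scalars (`ScalarCompat`), we define the canonical comparison map
`cmp : B ⊗[A] Ext_A^n(M, N) →ₗ[B] Ext_B^n(F M, F N)`, `b ⊗ e ↦ b • F(e)`
and show by dimension shifting that it is bijective for all `n` and all finite `M` over a
Noetherian ring `A` as soon as it is bijective for `n = 0` (and `F` preserves projectives).
-/
import Mathlib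

set_option autoImplicit false
universe u
open CategoryTheory Abelian Limits TensorProduct

namespace Groth.Agent.Lib.H29ExtBaseChange

section four

variable {X₁ X₂ X₃ Y₁ Y₂ Y₃ : Type*} [AddCommGroup X₁] [AddCommGroup X₂] [AddCommGroup X₃]
  [AddCommGroup Y₁] [AddCommGroup Y₂] [AddCommGroup Y₃]

/-- A version of the four/five lemma. -/
theorem bijective_of_four (f : X₁ →+ X₂) (g : X₂ →+ X₃) (f' : Y₁ →+ Y₂) (g' : Y₂ →+ Y₃)
    (a : X₁ →+ Y₁) (b : X₂ →+ Y₂) (c : X₃ →+ Y₃)
    (h₁ : ∀ x, b (f x) = f' (a x)) (h₂ : ∀ x, c (g x) = g' (b x))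
    (hg : Function.Surjective g) (hg' : Function.Surjective g')
    (hgf : ∀ x, g (f x) = 0) (hex : ∀ y, g' y = 0 → ∃ z, f' z = y)
    (ha : Function.Surjective a) (hb : Function.Bijective b) : Function.Bijective c := by
  constructor
  · rw [injective_iff_map_eq_zero]
    intro x₃ hx₃
    obtain ⟨x₂, rfl⟩ := hg x₃
    rw [h₂] at hx₃
    obtain ⟨y₁, hy₁⟩ := hex _ hx₃
    obtain ⟨x₁, rfl⟩ := ha y₁
    rw [← h₁] at hy₁
    rw [← hb.1 hy₁, hgf]
  · intro y₃
    obtain ⟨y₂, rfl⟩ := hg' y₃
    obtain ⟨x₂, rfl⟩ := hb.2 y₂
    exact ⟨g x₂, h₂ x₂⟩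

end four

variable {A B : Type u} [CommRing A] [CommRing B] [Algebra A B]
variable (F : ModuleCat.{u} A ⥤ ModuleCat.{u} B) [F.Additive] [PreservesFiniteLimits F]
  [PreservesFiniteColimits F]

/-- Compatibility of a functor `ModuleCat A ⥤ ModuleCat B` with scalar multiplication. -/
def ScalarCompat : Prop :=
  ∀ (a : A) ⦃M N : ModuleCat.{u} A⦄ (f : M ⟶ N), F.map (a • f) = algebraMap A B a • F.map f

variable {F}

theorem mapExactFunctor_smul (hF : ScalarCompat F) (a : A) {M N : ModuleCat.{u} A} {n : ℕ}
    (e : Ext M N n) :
    (a • e).mapExactFunctor F = algebraMap A B a • e.mapExactFunctor F := by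
  rw [Ext.smul_eq_comp_mk₀, Ext.mapExactFunctor_comp, Ext.mapExactFunctor_mk₀, hF, F.map_id,
    Ext.smul_eq_comp_mk₀]

/-- The comparison map as an additive map. -/
noncomputable def cmpAdd (hF : ScalarCompat F) (M N : ModuleCat.{u} A) (n : ℕ) :
    B ⊗[A] Ext M N n →+ Ext (F.obj M) (F.obj N) n :=
  TensorProduct.liftAddHom
    { toFun := fun b =>
        { toFun := fun e => b • e.mapExactFunctor F
          map_zero' := by simp
          map_add' := by simp }
      map_zero' := by ext; simp
      map_add' := by intros; ext; simp [add_smul] }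
    (by
      intro a b e
      simp only [AddMonoidHom.coe_mk, ZeroHom.coe_mk]
      rw [mapExactFunctor_smul hF, Algebra.smul_def, mul_comm, mul_smul])

@[simp]
theorem cmpAdd_tmul (hF : ScalarCompat F) (M N : ModuleCat.{u} A) (n : ℕ) (b : B)
    (e : Ext M N n) : cmpAdd hF M N n (b ⊗ₜ e) = b • e.mapExactFunctor F := rfl

/-- The canonical comparison map `B ⊗[A] Ext_A^n(M, N) →ₗ[B] Ext_B^n(F M, F N)`. -/
noncomputable def cmp (hF : ScalarCompat F) (M N : ModuleCat.{u} A) (n : ℕ) :
    B ⊗[A] Ext M N n →ₗ[B] Ext (F.obj M) (F.obj N) n :=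
  { toFun := cmpAdd hF M N n
    map_add' := map_add _
    map_smul' := by
      intro b t
      simp only [RingHom.id_apply]
      induction t using TensorProduct.induction_on with
      | zero => simp
      | tmul b' e => simp [TensorProduct.smul_tmul', mul_smul]
      | add x y hx hy => rw [smul_add, map_add, map_add, hx, hy, smul_add] }

@[simp]
theorem cmp_tmul (hF : ScalarCompat F) (M N : ModuleCat.{u} A) (n : ℕ) (b : B)
    (e : Ext M N n) : cmp hF M N n (b ⊗ₜ e) = b • e.mapExactFunctor F := rfl

/-- Naturality of the comparison map with respect to precomposition. -/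
theorem cmp_precomp (hF : ScalarCompat F) {M M' : ModuleCat.{u} A} (N : ModuleCat.{u} A)
    {k n m : ℕ} (α : Ext M' M k) (h : k + n = m) (t : B ⊗[A] Ext M N n) :
    cmp hF M' N m ((α.precompOfLinear A N h).lTensor B t) =
      (α.mapExactFunctor F).comp (cmp hF M N n t) h := by
  induction t using TensorProduct.induction_on with
  | zero => simp
  | tmul b e =>
    simp only [LinearMap.lTensor_tmul, cmp_tmul]
    rw [Ext.comp_smul]
    congr 1
    exact Ext.mapExactFunctor_comp F α e h
  | add x y hx hy => rw [map_add, map_add, map_add, hx, hy, Ext.comp_add]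

section induction

variable [IsNoetherianRing A] [F.PreservesProjectiveObjects]

/-- Dimension shifting: if the comparison map is bijective in degree `0` for all finite `M`,
it is bijective in all degrees for all finite `M`. -/
theorem cmp_bijective (hF : ScalarCompat F) (N : ModuleCat.{u} A)
    (h0 : ∀ (M : ModuleCat.{u} A) [Module.Finite A M], Function.Bijective (cmp hF M N 0)) :
    ∀ (n : ℕ) (M : ModuleCat.{u} A) [Module.Finite A M],
      Function.Bijective (cmp hF M N n) := by
  intro n
  induction n with
  | zero => exact fun M _ => h0 M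
  | succ n ih =>
    intro M _
    obtain ⟨P, _, _, _, _, f, surjf⟩ := Module.exists_finite_presentation A M
    let S := f.shortComplexKer
    have hS : S.ShortExact := LinearMap.shortExact_shortComplexKer surjf
    have hFS : (S.map F).ShortExact := hS.map_of_exact F
    have hP : Projective S.X₂ := ModuleCat.projective_of_categoryTheory_projective _
    have hFP : Projective (S.map F).X₂ := F.projective_obj_of_projective hP
    have hfin₁ : Module.Finite A S.X₁ := inferInstance
    have hfin₂ : Module.Finite A S.X₂ := inferInstance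
    refine bijective_of_four
      (f := (((Ext.mk₀ S.f).precompOfLinear A N (zero_add n)).lTensor B).toAddMonoidHom)
      (g := ((hS.extClass.precompOfLinear A N (add_comm 1 n)).lTensor B).toAddMonoidHom)
      (f' := (Ext.mk₀ (S.map F).f).precomp (F.obj N) (zero_add n))
      (g' := hFS.extClass.precomp (F.obj N) (add_comm 1 n))
      (a := (cmp hF S.X₂ N n).toAddMonoidHom) (b := (cmp hF S.X₁ N n).toAddMonoidHom)
      (c := (cmp hF M N (n + 1)).toAddMonoidHom) ?_ ?_ ?_ ?_ ?_ ?_ ?_ ?_
    · intro x
      have := cmp_precomp hF N (Ext.mk₀ S.f) (zero_add n) x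
      rw [Ext.mapExactFunctor_mk₀] at this
      exact this
    · intro x
      have := cmp_precomp hF N hS.extClass (add_comm 1 n) x
      rw [Ext.mapExactFunctor_extClass] at this
      exact this
    · exact LinearMap.lTensor_surjective B
        (precomp_extClass_surjective_of_projective_X₂ N hS n)
    · exact precomp_extClass_surjective_of_projective_X₂ (F.obj N) hFS n
    · intro x
      change (LinearMap.lTensor B _) ((LinearMap.lTensor B _) x) = 0
      rw [← LinearMap.lTensor_comp_apply]
      have : (hS.extClass.precompOfLinear A N (add_comm 1 n)) ∘ₗ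
          ((Ext.mk₀ S.f).precompOfLinear A N (zero_add n)) = 0 := by
        ext e
        exact hS.extClass_comp_assoc e (h := add_comm 1 n)
      rw [this, LinearMap.lTensor_zero, LinearMap.zero_apply]
    · intro y hy
      exact Ext.contravariant_sequence_exact₁ hFS (F.obj N) y (add_comm 1 n) hy
    · exact (ih S.X₂).2
    · exact ih S.X₁

end induction

end Groth.Agent.Lib.H29ExtBaseChange

namespace Groth.Agent.Lib.H29ExtBaseChange

/-! ### The tensor functor `M ↦ B ⊗[A] M` -/

section tensF

variable (A B : Type u) [CommRing A] [CommRing B] [Algebra A B]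

/-- The functor `M ↦ B ⊗[A] M` from `A`-modules to `B`-modules (with the `Algebra.toModule`
structure on `B`, as opposed to `ModuleCat.extendScalars`). -/
noncomputable def tensF : ModuleCat.{u} A ⥤ ModuleCat.{u} B where
  obj M := ModuleCat.of B (B ⊗[A] M)
  map f := ModuleCat.ofHom (f.hom.baseChange B)
  map_id M := by
    ext : 1
    simp [LinearMap.baseChange_id]
  map_comp f g := by
    ext : 1
    simp [LinearMap.baseChange_comp]

@[simp]
theorem tensF_map_hom {M N : ModuleCat.{u} A} (f : M ⟶ N) :
    ((tensF A B).map f).hom = f.hom.baseChange B := rfl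

instance : (tensF A B).Additive where
  map_add {M N f g} := by
    ext : 1
    rw [ModuleCat.hom_add, tensF_map_hom, tensF_map_hom, tensF_map_hom, ModuleCat.hom_add,
      LinearMap.baseChange_add]
    rfl

theorem tensF_scalarCompat : ScalarCompat (tensF A B) := by
  intro a M N f
  apply ModuleCat.hom_ext
  apply LinearMap.ext
  intro (x : B ⊗[A] M)
  change (a • f).hom.baseChange B x = algebraMap A B a • (f.hom.baseChange B x)
  rw [ModuleCat.hom_smul, LinearMap.baseChange_smul, LinearMap.smul_apply, algebraMap_smul]

variable {A B}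

theorem tensF_map_exact [Module.Flat A B] (T : ShortComplex (ModuleCat.{u} A)) (h : T.Exact) :
    (T.map (tensF A B)).Exact := by
  rw [CategoryTheory.ShortComplex.ShortExact.moduleCat_exact_iff_function_exact] at h ⊢
  have := Module.Flat.lTensor_exact B h
  rw [← LinearMap.baseChange_eq_ltensor, ← LinearMap.baseChange_eq_ltensor] at this
  exact this

instance [Module.Flat A B] : PreservesFiniteLimits (tensF A B) := by
  have := ((Functor.exact_tfae (tensF A B)).out 1 3).mp (tensF_map_exact (A := A) (B := B))
  exact this.1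

instance [Module.Flat A B] : PreservesFiniteColimits (tensF A B) := by
  have := ((Functor.exact_tfae (tensF A B)).out 1 3).mp (tensF_map_exact (A := A) (B := B))
  exact this.2

instance : (tensF A B).PreservesProjectiveObjects where
  projective_obj {P} hP := by
    have : Module.Projective A P := P.projective_of_module_projective
    exact (ModuleCat.of B (B ⊗[A] P)).projective_of_categoryTheory_projective

theorem linearEquiv₀_mk₀ {R : Type*} [Ring R] {C : Type*} [Category C] [Abelian C] [Linear R C]
    [HasExt C] {X Y : C} (f : X ⟶ Y) :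
    Ext.linearEquiv₀ (R := R) (Ext.mk₀ f) = f := by
  have := (Ext.linearEquiv₀ (R := R) (X := X) (Y := Y)).apply_symm_apply f
  rwa [Ext.linearEquiv₀_symm_apply] at this

/-- Base case: in degree `0` the comparison map for the tensor functor is the base change map for
`Hom`, which is bijective for finitely presented `M` and flat `B`. -/
theorem cmp_tensF_zero_bijective [Module.Flat A B] (M N : ModuleCat.{u} A)
    [Module.FinitePresentation A M] :
    Function.Bijective (cmp (tensF_scalarCompat A B) M N 0) := by
  let E₁ : Ext M N 0 ≃ₗ[A] (M →ₗ[A] N) :=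
    Ext.linearEquiv₀.trans (ModuleCat.homLinearEquiv (S := A))
  let E₂ : Ext ((tensF A B).obj M) ((tensF A B).obj N) 0 ≃ₗ[B] (B ⊗[A] M →ₗ[B] B ⊗[A] N) :=
    Ext.linearEquiv₀.trans (ModuleCat.homLinearEquiv (S := B))
  let Θ := (Module.FinitePresentation.isBaseChange_map A M N B).equiv
  have key : ∀ t, E₂ (cmp (tensF_scalarCompat A B) M N 0 t) = Θ (E₁.lTensor B t) := by
    intro t
    induction t using TensorProduct.induction_on with
    | zero => simp
    | tmul b e =>
      obtain ⟨g, rfl⟩ := (Ext.mk₀_bijective M N).2 e
      rw [cmp_tmul, map_smul, LinearEquiv.lTensor_tmul, IsBaseChange.equiv_tmul]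
      congr 1
      rw [Ext.mapExactFunctor_mk₀]
      simp only [E₁, E₂, LinearEquiv.trans_apply]
      rw [linearEquiv₀_mk₀, linearEquiv₀_mk₀]
      rfl
    | add x y hx hy => rw [map_add, map_add, map_add, map_add, hx, hy]
  have h : ⇑(cmp (tensF_scalarCompat A B) M N 0) = E₂.symm ∘ Θ ∘ (E₁.lTensor B) := by
    funext t
    simp only [Function.comp_apply]
    rw [← key, LinearEquiv.symm_apply_apply]
  rw [h]
  exact E₂.symm.bijective.comp (Θ.bijective.comp (E₁.lTensor B).bijective)

/-- **Flat base change for `Ext`** (canonical comparison map): for `A` Noetherian, `B` flat over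
`A`, `M` a finite `A`-module and `N` any `A`-module, the canonical map
`B ⊗[A] Ext_A^n(M, N) → Ext_B^n(B ⊗ M, B ⊗ N)` is bijective. -/
theorem cmp_tensF_bijective [Module.Flat A B] [IsNoetherianRing A] (M N : ModuleCat.{u} A)
    [Module.Finite A M] (n : ℕ) :
    Function.Bijective (cmp (tensF_scalarCompat A B) M N n) :=
  cmp_bijective (tensF_scalarCompat A B) N
    (fun M _ => by
      have := Module.finitePresentation_of_finite A M
      exact cmp_tensF_zero_bijective M N) n M

/-- Flat base change for `Ext`, as a linear equivalence. -/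
noncomputable def extBaseChangeEquiv [Module.Flat A B] [IsNoetherianRing A]
    (M N : ModuleCat.{u} A) [Module.Finite A M] (n : ℕ) :
    B ⊗[A] Ext M N n ≃ₗ[B] Ext ((tensF A B).obj M) ((tensF A B).obj N) n :=
  LinearEquiv.ofBijective _ (cmp_tensF_bijective M N n)

end tensF

end Groth.Agent.Lib.H29ExtBaseChange
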