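/-
Helper library (helper29): Gorenstein local rings are Cohen–Macaulay; Bass' formula pieces.

* `subsingleton_ext_quotient_prime_step`: one step of Bass' lemma.
* `not_subsingleton_ext_residueField`: for `M` finite nonzero of injective dimension exactly `n`,
  `Ext^n(k, M) ≠ 0`.
-/
import Groth.Agent.Lib.H29Bass
import Groth.Agent.Lib.H29ExtBaseChange
import Groth.Agent.S5752
import Groth.Agent.S5789
import Groth.Agent.S2089

set_option autoImplicit false
universe u

namespace Groth.Agent.Lib.H29Gorenstein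

open CategoryTheory Abelian IsLocalRing
open Groth.Agent.Lib.H29Bass

section stepA

variable {R : Type u} [CommRing R] [IsNoetherianRing R] [IsLocalRing R]

/-- One step of Bass' lemma: if `Ext^{i+1}(R/q, M) = 0` for all primes `q` strictly containing the
non-maximal prime `p`, then `Ext^i(R/p, M) = 0`. -/
theorem subsingleton_ext_quotient_prime_step (M : ModuleCat.{u} R) [Module.Finite R M]
    (p : Ideal R) (hp : p.IsPrime) (hpm : p ≠ maximalIdeal R) (i : ℕ)
    (h : ∀ q : PrimeSpectrum R, p < q.asIdeal →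
      Subsingleton (Ext (ModuleCat.of R (R ⧸ q.asIdeal)) M (i + 1))) :
    Subsingleton (Ext (ModuleCat.of R (R ⧸ p)) M i) := by
  have hlt : p < maximalIdeal R := lt_of_le_of_ne (le_maximalIdeal hp.ne_top) hpm
  obtain ⟨x, hxm, hxp⟩ := SetLike.exists_of_lt hlt
  let f : (R ⧸ p) →ₗ[R] (R ⧸ p) := LinearMap.lsmul R (R ⧸ p) x
  have hf : Function.Injective f := by
    rw [← LinearMap.ker_eq_bot, Submodule.eq_bot_iff]
    intro y hy
    obtain ⟨a, rfl⟩ := Ideal.Quotient.mk_surjective y
    have h1 : Ideal.Quotient.mk p (x * a) = 0 := hy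
    rw [Ideal.Quotient.eq_zero_iff_mem] at h1 ⊢
    exact (hp.mem_or_mem h1).resolve_left hxp
  let S := ModuleCat.shortComplexOfCompEqZero f (LinearMap.range f).mkQ
    (LinearMap.exact_map_mkQ_range f).linearMap_comp_eq_zero
  have hS : S.ShortExact := ModuleCat.shortComplex_shortExact S
    (LinearMap.exact_map_mkQ_range f) hf (Submodule.mkQ_surjective _)
  have hC : Subsingleton (Ext (ModuleCat.of R ((R ⧸ p) ⧸ LinearMap.range f)) M (i + 1)) := by
    apply subsingleton_ext_of_forall_prime M (i + 1) ((p : Set R) ∪ {x})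
    · intro q hq
      have hpq : p < q.asIdeal := by
        refine lt_of_le_of_ne (fun a ha => hq (Or.inl ha)) ?_
        intro heq
        exact hxp (heq ▸ hq (Or.inr rfl))
      exact h q hpq
    · intro a ha y
      obtain ⟨z, rfl⟩ := Submodule.mkQ_surjective _ y
      rcases ha with ha | ha
      · obtain ⟨b, rfl⟩ := Ideal.Quotient.mk_surjective z
        have : a • (Ideal.Quotient.mk p b) = 0 := by
          change Ideal.Quotient.mk p (a * b) = 0
          exact Ideal.Quotient.eq_zero_iff_mem.mpr (Ideal.mul_mem_right _ _ ha)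
        rw [← map_smul, this, map_zero]
      · rw [Set.mem_singleton_iff] at ha
        subst ha
        rw [← map_smul]
        exact (Submodule.Quotient.mk_eq_zero _).mpr ⟨z, rfl⟩
  have hsurj : ∀ e : Ext (ModuleCat.of R (R ⧸ p)) M i, ∃ e' : Ext (ModuleCat.of R (R ⧸ p)) M i,
      e = x • e' := by
    intro e
    obtain ⟨e', he'⟩ := Ext.contravariant_sequence_exact₁ hS M e (add_comm 1 i)
      (Subsingleton.elim _ _)
    refine ⟨e', ?_⟩
    rw [← he']
    have hSf : S.f = x • 𝟙 (ModuleCat.of R (R ⧸ p)) := rfl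
    rw [hSf, Ext.mk₀_smul, Ext.smul_comp, Ext.mk₀_id_comp]
  have : Module.Finite R (ModuleCat.of R (R ⧸ p)) :=
    inferInstanceAs (Module.Finite R (R ⧸ p))
  have htop : (⊤ : Submodule R (Ext (ModuleCat.of R (R ⧸ p)) M i)) ≤
      maximalIdeal R • ⊤ := by
    intro e _
    obtain ⟨e', rfl⟩ := hsurj e
    exact Submodule.smul_mem_smul hxm Submodule.mem_top
  have hbot := Submodule.eq_bot_of_le_smul_of_le_jacobson_bot (maximalIdeal R)
    (⊤ : Submodule R (Ext (ModuleCat.of R (R ⧸ p)) M i)) Module.Finite.fg_top htop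
    (maximalIdeal_le_jacobson ⊥)
  exact (Submodule.subsingleton_iff R).mp (subsingleton_of_bot_eq_top hbot.symm)

/-- Bass: if `M ≠ 0` is finite with `injdim M ≤ n` and (`n = 0` or `injdim M ≥ n`) then
`Ext^n(k, M) ≠ 0`. -/
theorem not_subsingleton_ext_residueField (M : ModuleCat.{u} R) [Module.Finite R M]
    [Nontrivial M] (n : ℕ) (h1 : HasInjectiveDimensionLT M (n + 1))
    (h2 : n = 0 ∨ ¬ HasInjectiveDimensionLT M n) :
    ¬ Subsingleton (Ext (ModuleCat.of R (R ⧸ maximalIdeal R)) M n) := by
  intro hsub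
  have hk : ∀ i, n ≤ i → Subsingleton (Ext (ModuleCat.of R (R ⧸ maximalIdeal R)) M i) := by
    intro i hi
    rcases Nat.eq_or_lt_of_le hi with rfl | hlt
    · exact hsub
    · exact HasInjectiveDimensionLT.subsingleton M (n + 1) i hlt _
  have hall : ∀ (N : Type u) [AddCommGroup N] [Module R N] [Module.Finite R N] (i : ℕ), n ≤ i →
      Subsingleton (Ext (ModuleCat.of R N) M i) :=
    fun N _ _ _ i hi => subsingleton_ext_of_finite M n hk N i hi
  rcases Nat.eq_zero_or_pos n with rfl | hpos
  · have h0 : Subsingleton (Ext (ModuleCat.of R M) M 0) := hall M 0 le_rfl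
    have h00 : Subsingleton (M ⟶ M) := Ext.addEquiv₀.subsingleton_congr.mp h0
    have hz : Limits.IsZero M := (Limits.IsZero.iff_id_eq_zero M).mpr (Subsingleton.elim _ _)
    have : Subsingleton M := ModuleCat.isZero_iff_subsingleton.mp hz
    exact not_subsingleton M this
  · rcases h2 with h2 | h2
    · omega
    · apply h2
      obtain ⟨n', rfl⟩ := Nat.exists_eq_succ_of_ne_zero hpos.ne'
      exact hasInjectiveDimensionLT_succ_of_ext n' M
        (fun I => hall (R ⧸ I) (n' + 1) le_rfl)

end stepA

section stepC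

open RingTheory.Sequence

variable (A : Type u) [CommRing A] [IsNoetherianRing A] [IsLocalRing A]

omit [IsNoetherianRing A] in
theorem maximalIdeal_smul_top_ne_top (Q : Type u) [AddCommGroup Q] [Module A Q] [Module.Finite A Q]
    [Nontrivial Q] : maximalIdeal A • (⊤ : Submodule A Q) ≠ ⊤ := by
  intro h
  have hbot := Submodule.eq_bot_of_le_smul_of_le_jacobson_bot (maximalIdeal A)
    (⊤ : Submodule A Q) Module.Finite.fg_top h.ge (maximalIdeal_le_jacobson ⊥)
  exact top_ne_bot hbot

/-- If `rs` is a regular sequence in the maximal ideal of length `depth A`, then the residue field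
embeds into `A ⧸ (rs)`. -/
theorem exists_injective_of_length_eq_depth (rs : List A) (hmem : ∀ r ∈ rs, r ∈ maximalIdeal A)
    (hreg : IsRegular A rs) (hlen : (rs.length : ℕ∞) = LocCoh.depth A A) :
    ∃ ι : (A ⧸ maximalIdeal A) →ₗ[A] (A ⧸ Ideal.ofList rs), Function.Injective ι := by
  have hle : Ideal.ofList rs ≤ maximalIdeal A := by
    rw [Ideal.ofList, Ideal.span_le]
    exact fun r hr => hmem r hr
  have hnt : Nontrivial (A ⧸ Ideal.ofList rs) :=
    Ideal.Quotient.nontrivial_iff.mpr (fun h => (maximalIdeal.isMaximal A).ne_top (top_le_iff.mp (h ▸ hle)))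
  have hIMA : maximalIdeal A • (⊤ : Submodule A A) ≠ ⊤ := maximalIdeal_smul_top_ne_top A A
  have hIMQ : maximalIdeal A • (⊤ : Submodule A (A ⧸ Ideal.ofList rs)) ≠ ⊤ :=
    maximalIdeal_smul_top_ne_top A _
  -- depth of the quotient is zero
  have hdepth : LocCoh.depth A (A ⧸ Ideal.ofList rs) = 0 := by
    by_contra hne
    have h1 : ((1 : ℕ) : ℕ∞) ≤ LocCoh.idealDepth (maximalIdeal A) (A ⧸ Ideal.ofList rs) := by
      rw [Nat.cast_one]
      exact Order.one_le_iff_pos.mpr (pos_iff_ne_zero.mpr hne)
    obtain ⟨rs', hlen', hmem', hreg'⟩ :=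
      (Groth.Agent.Lib.H29Depth.le_idealDepth_iff (maximalIdeal A) _ hIMQ 1).mp h1
    have heq : (Ideal.ofList rs : Submodule A A) = Ideal.ofList rs • (⊤ : Submodule A A) := by
      rw [smul_eq_mul, Ideal.mul_top]
    have hw : IsWeaklyRegular A (rs ++ rs') := by
      rw [isWeaklyRegular_append_iff]
      refine ⟨hreg.toIsWeaklyRegular, ?_⟩
      exact ((Submodule.quotEquivOfEq _ _ heq).isWeaklyRegular_congr rs').mp
        hreg'.toIsWeaklyRegular
    have hmem'' : ∀ r ∈ rs ++ rs', r ∈ maximalIdeal A := by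
      intro r hr
      rcases List.mem_append.mp hr with hr | hr
      · exact hmem r hr
      · exact hmem' r hr
    have hreg'' := Groth.Agent.Lib.H29Depth.isRegular_of_isWeaklyRegular (maximalIdeal A) A hIMA
      hw hmem''
    have h2 : ((rs ++ rs').length : ℕ∞) ≤ LocCoh.idealDepth (maximalIdeal A) A :=
      (Groth.Agent.Lib.H29Depth.le_idealDepth_iff (maximalIdeal A) A hIMA _).mpr
        ⟨rs ++ rs', rfl, hmem'', hreg''⟩
    rw [List.length_append, hlen', Nat.cast_add, hlen, Nat.cast_one] at h2
    have hfin : LocCoh.depth A A ≠ ⊤ := by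
      rw [← hlen]
      exact ENat.natCast_ne_top _
    exact absurd h2 (not_le.mpr (ENat.lt_add_one_iff hfin |>.mpr le_rfl))
  have hass := (Groth.Agent.S5752.result A (A ⧸ Ideal.ofList rs)).mp hdepth
  obtain ⟨-, q, hq⟩ := (isAssociatedPrime_iff).mp hass
  have hker : maximalIdeal A = LinearMap.ker (LinearMap.toSpanSingleton A (A ⧸ Ideal.ofList rs) q) := by
    ext a
    rw [hq, Submodule.mem_colon_singleton, LinearMap.mem_ker, LinearMap.toSpanSingleton_apply,
      Submodule.mem_bot]
  refine ⟨Submodule.liftQ (maximalIdeal A)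
    (LinearMap.toSpanSingleton A (A ⧸ Ideal.ofList rs) q) hker.le, ?_⟩
  rw [← LinearMap.ker_eq_bot]
  exact Submodule.ker_liftQ_eq_bot _ _ _ hker.ge

/-- `injdim A ≤ depth A`: if `A` has injective dimension `≤ n` and `Ext^n(k, A) ≠ 0` then
`n ≤ depth A`. -/
theorem le_depth_of_injdim (n : ℕ)
    (h1 : HasInjectiveDimensionLT (ModuleCat.of A A) (n + 1))
    (h2 : ¬ Subsingleton (Ext (ModuleCat.of A (A ⧸ maximalIdeal A)) (ModuleCat.of A A) n)) :
    (n : ℕ∞) ≤ LocCoh.depth A A := by
  by_contra hlt
  rw [not_le] at hlt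
  obtain ⟨t, ht⟩ := ENat.ne_top_iff_exists.mp (ne_top_of_lt hlt)
  have htn : t < n := by
    rw [← ht] at hlt
    exact_mod_cast hlt
  have hIMA := maximalIdeal_smul_top_ne_top A A
  have ht' : (t : ℕ∞) ≤ LocCoh.idealDepth (maximalIdeal A) A := by
    rw [ht]
    exact le_of_eq rfl
  obtain ⟨rs, hlen, hmem, hreg⟩ :=
    (Groth.Agent.Lib.H29Depth.le_idealDepth_iff (maximalIdeal A) A hIMA t).mp ht'
  obtain ⟨ι, hι⟩ := exists_injective_of_length_eq_depth A rs hmem hreg (by rw [hlen, ht])
  have hpd := ModuleCat.projectiveDimension_quotient_eq_length.{u} rs hreg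
  let E : ModuleCat.of A (Shrink.{u} (A ⧸ Ideal.ofList rs)) ≅
      ModuleCat.of A (A ⧸ Ideal.ofList rs) := (Shrink.linearEquiv A _).toModuleIso
  rw [projectiveDimension_eq_of_iso E] at hpd
  have hpdlt : HasProjectiveDimensionLT (ModuleCat.of A (A ⧸ Ideal.ofList rs)) (t + 1) :=
    (projectiveDimension_le_iff _ t).mp (by rw [hpd, hlen])
  have hQ : Subsingleton (Ext (ModuleCat.of A (A ⧸ Ideal.ofList rs)) (ModuleCat.of A A) n) :=
    HasProjectiveDimensionLT.subsingleton _ (t + 1) n (by omega) _
  let S := ModuleCat.shortComplexOfCompEqZero ι (LinearMap.range ι).mkQ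
    (LinearMap.exact_map_mkQ_range ι).linearMap_comp_eq_zero
  have hS : S.ShortExact := ModuleCat.shortComplex_shortExact S
    (LinearMap.exact_map_mkQ_range ι) hι (Submodule.mkQ_surjective _)
  apply h2
  refine subsingleton_of_forall_eq 0 fun x₁ => ?_
  have h3 : Subsingleton (Ext S.X₃ (ModuleCat.of A A) (n + 1)) :=
    HasInjectiveDimensionLT.subsingleton _ (n + 1) (n + 1) le_rfl _
  obtain ⟨x₂, rfl⟩ := Ext.contravariant_sequence_exact₁ hS (ModuleCat.of A A) x₁ (add_comm 1 n)
    (Subsingleton.elim _ _)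
  have : x₂ = 0 := @Subsingleton.elim _ hQ _ _
  rw [this, Ext.comp_zero]

end stepC

section misc

theorem exists_injdim {C : Type*} [Category C] [Abelian C] [HasExt C] (M : C)
    (h : ∃ n, HasInjectiveDimensionLT M n) :
    ∃ n, HasInjectiveDimensionLT M (n + 1) ∧ (n = 0 ∨ ¬ HasInjectiveDimensionLT M n) := by
  classical
  have h' : ∃ n, HasInjectiveDimensionLT M (n + 1) := by
    obtain ⟨n, hn⟩ := h
    exact ⟨n, hasInjectiveDimensionLT_of_ge M n (n + 1) (Nat.le_succ n)⟩
  refine ⟨Nat.find h', Nat.find_spec h', ?_⟩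
  rcases Nat.eq_zero_or_pos (Nat.find h') with h0 | hpos
  · exact Or.inl h0
  · right
    obtain ⟨n', hn'⟩ := Nat.exists_eq_succ_of_ne_zero hpos.ne'
    rw [hn']
    exact Nat.find_min h' (by omega)

variable (A : Type u) [CommRing A] [IsNoetherianRing A] [IsLocalRing A]

/-- `depth A ≤ dim A`. -/
theorem depth_le_ringKrullDim :
    ((LocCoh.depth A A : ℕ∞) : WithBot ℕ∞) ≤ ringKrullDim A := by
  obtain ⟨p, hp⟩ := associatedPrimes.nonempty A A
  exact (Groth.Agent.S2089.result p hp).trans (ringKrullDim_quotient_le p)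

omit [IsNoetherianRing A] in
/-- In a local ring of dimension `d + 1` there is a prime `p` of height `d` directly below the
maximal ideal. -/
theorem exists_prime_covBy_maximalIdeal (d : ℕ) (hd : ringKrullDim A = ((d + 1 : ℕ) : WithBot ℕ∞)) :
    ∃ p : PrimeSpectrum A, p.asIdeal ≠ maximalIdeal A ∧
      (∀ q : PrimeSpectrum A, p.asIdeal < q.asIdeal → q.asIdeal = maximalIdeal A) ∧
      ringKrullDim (Localization.AtPrime p.asIdeal) = (d : WithBot ℕ∞) := by
  let m' : PrimeSpectrum A := ⟨maximalIdeal A, inferInstance⟩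
  have hm : Order.height m' = (d : ℕ∞) + 1 := by
    rw [← PrimeSpectrum.height_eq_orderHeight]
    have h := IsLocalRing.maximalIdeal_height_eq_ringKrullDim (R := A)
    rw [hd] at h
    have h' : (maximalIdeal A).height = ((d + 1 : ℕ) : ℕ∞) := by exact_mod_cast h
    rw [h']
    push_cast
    rfl
  obtain ⟨-, ⟨y, hy, hyd⟩, hall⟩ := Order.height_eq_coe_add_one_iff.mp hm
  refine ⟨y, ?_, ?_, ?_⟩
  · intro h
    apply hy.ne
    exact PrimeSpectrum.ext h
  · intro q hq
    by_contra hne
    have hqm : q < m' := by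
      refine lt_of_le_of_ne ?_ (fun h => hne (congrArg PrimeSpectrum.asIdeal h))
      exact le_maximalIdeal q.isPrime.ne_top
    have h1 := hall q hqm
    have h2 : Order.height y + 1 ≤ Order.height q := Order.height_add_one_le hq
    rw [hyd] at h2
    have : ((d + 1 : ℕ) : ℕ∞) ≤ (d : ℕ∞) := by
      push_cast
      exact h2.trans h1
    exact absurd (by exact_mod_cast this) (Nat.not_succ_le_self d)
  · rw [IsLocalization.AtPrime.ringKrullDim_eq_height y.asIdeal,
      PrimeSpectrum.height_eq_orderHeight, hyd]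
    rfl

end misc

section localization

open Groth.Agent.Lib.H29ExtBaseChange TensorProduct

variable (A : Type u) [CommRing A] [IsNoetherianRing A] (p : Ideal A) [p.IsPrime]

/-- Mathlib's localized module of `A` is the localization of `A`. -/
noncomputable def locSelfIso :
    (ModuleCat.of A A).localizedModule p.primeCompl ≅
      ModuleCat.of (Localization.AtPrime p) (Localization.AtPrime p) :=
  have := ModuleCat.localizedModule_isLocalizedModule (ModuleCat.of A A) p.primeCompl
  (LinearEquiv.extendScalarsOfIsLocalization p.primeCompl (Localization.AtPrime p)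
    (IsLocalizedModule.linearEquiv p.primeCompl
      ((ModuleCat.of A A).localizedModuleMkLinearMap p.primeCompl)
      (Algebra.linearMap A (Localization.AtPrime p)))).toModuleIso

/-- Finite injective dimension of `A` over itself localizes. -/
theorem hasInjectiveDimensionLT_localization (n : ℕ)
    (h : HasInjectiveDimensionLT (ModuleCat.of A A) (n + 1)) :
    HasInjectiveDimensionLT (ModuleCat.of (Localization.AtPrime p) (Localization.AtPrime p))
      (n + 1) := by
  have h1 : HasInjectiveDimensionLE (ModuleCat.of A A) n := h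
  have h2 : HasInjectiveDimensionLE ((ModuleCat.of A A).localizedModule p.primeCompl) n :=
    (ModuleCat.of A A).localizedModule_hasInjectiveDimensionLE n p.primeCompl
  exact hasInjectiveDimensionLT_of_iso (locSelfIso A p) (n + 1)

/-- Nonvanishing of `Ext^j(κ(p), A_p)` over `A_p` implies nonvanishing of `Ext^j(A/p, A)`. -/
theorem not_subsingleton_ext_of_localization (j : ℕ)
    (h : ¬ Subsingleton (Ext
      (ModuleCat.of (Localization.AtPrime p)
        (Localization.AtPrime p ⧸ maximalIdeal (Localization.AtPrime p)))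
      (ModuleCat.of (Localization.AtPrime p) (Localization.AtPrime p)) j)) :
    ¬ Subsingleton (Ext (ModuleCat.of A (A ⧸ p)) (ModuleCat.of A A) j) := by
  intro hsub
  apply h
  let e := extBaseChangeEquiv (B := Localization.AtPrime p)
    (ModuleCat.of A (A ⧸ p)) (ModuleCat.of A A) j
  have h1 : Subsingleton (Ext
      ((tensF A (Localization.AtPrime p)).obj (ModuleCat.of A (A ⧸ p)))
      ((tensF A (Localization.AtPrime p)).obj (ModuleCat.of A A)) j) :=
    e.symm.toEquiv.injective.subsingleton
  let e₁ : (tensF A (Localization.AtPrime p)).obj (ModuleCat.of A (A ⧸ p)) ≅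
      ModuleCat.of (Localization.AtPrime p)
        (Localization.AtPrime p ⧸ maximalIdeal (Localization.AtPrime p)) :=
    ((Algebra.TensorProduct.quotIdealMapEquivTensorQuot (Localization.AtPrime p) p).symm.toLinearEquiv.trans
      (Submodule.quotEquivOfEq _ _ (Localization.AtPrime.map_eq_maximalIdeal))).toModuleIso
  let e₂ : (tensF A (Localization.AtPrime p)).obj (ModuleCat.of A A) ≅
      ModuleCat.of (Localization.AtPrime p) (Localization.AtPrime p) :=
    (TensorProduct.AlgebraTensorModule.rid A (Localization.AtPrime p)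
      (Localization.AtPrime p)).toModuleIso
  have h2 := Groth.Agent.Lib.H29Depth.subsingleton_ext_of_iso e₁.symm j h1
  exact Groth.Agent.S5789.subsingleton_ext_of_iso_right e₂ j h2

end localization

section main

/-- A local ring of finite Krull dimension has natural-number Krull dimension. -/
theorem exists_ringKrullDim_eq_natCast (A : Type u) [CommRing A] [IsNoetherianRing A]
    [IsLocalRing A] : ∃ d : ℕ, ringKrullDim A = (d : WithBot ℕ∞) := by
  have h1 : ringKrullDim A < ⊤ := ringKrullDim_lt_top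
  have h0 : 0 ≤ ringKrullDim A := ringKrullDim_nonneg_of_nontrivial
  have hbot : ringKrullDim A ≠ ⊥ := fun h => by rw [h] at h0; exact absurd h0 (by decide)
  obtain ⟨x, hx⟩ := WithBot.ne_bot_iff_exists.mp hbot
  have hxtop : x ≠ ⊤ := by
    rintro rfl
    rw [← hx] at h1
    exact lt_irrefl _ h1
  obtain ⟨d, rfl⟩ := ENat.ne_top_iff_exists.mp hxtop
  exact ⟨d, hx.symm⟩

/-- For a Gorenstein local ring of dimension `d`, `Ext^i(k, A) ≠ 0` for some `i ≥ d`. -/
theorem exists_not_subsingleton_ext_ge_dim : ∀ (d : ℕ) (A : Type u) [CommRing A]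
    [LocCoh.IsGorensteinLocalRing A], ringKrullDim A = (d : WithBot ℕ∞) →
    ∃ i, d ≤ i ∧
      ¬ Subsingleton (Ext (ModuleCat.of A (A ⧸ maximalIdeal A)) (ModuleCat.of A A) i) := by
  intro d
  induction d with
  | zero =>
    intro A _ _ _
    obtain ⟨n, h1, h2⟩ := exists_injdim (ModuleCat.of A A)
      (LocCoh.IsGorensteinLocalRing.exists_hasInjectiveDimensionLT)
    have : Module.Finite A (ModuleCat.of A A) := inferInstanceAs (Module.Finite A A)
    have : Nontrivial (ModuleCat.of A A) := inferInstanceAs (Nontrivial A)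
    exact ⟨n, Nat.zero_le _, not_subsingleton_ext_residueField (ModuleCat.of A A) n h1 h2⟩
  | succ d ih =>
    intro A _ _ hd
    obtain ⟨p, hpm, hcov, hdim⟩ := exists_prime_covBy_maximalIdeal A d hd
    obtain ⟨n, hn⟩ := LocCoh.IsGorensteinLocalRing.exists_hasInjectiveDimensionLT (A := A)
    have hG : LocCoh.IsGorensteinLocalRing (Localization.AtPrime p.asIdeal) :=
      { exists_hasInjectiveDimensionLT := ⟨n + 1,
          hasInjectiveDimensionLT_localization A p.asIdeal n
            (hasInjectiveDimensionLT_of_ge _ n (n + 1) (Nat.le_succ n))⟩ }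
    obtain ⟨j, hj, hne⟩ := ih (Localization.AtPrime p.asIdeal) hdim
    have h3 := not_subsingleton_ext_of_localization A p.asIdeal j hne
    have : Module.Finite A (ModuleCat.of A A) := inferInstanceAs (Module.Finite A A)
    refine ⟨j + 1, by omega, fun hsub => h3 ?_⟩
    refine subsingleton_ext_quotient_prime_step (ModuleCat.of A A) p.asIdeal p.isPrime hpm j
      (fun q hq => ?_)
    rw [hcov q hq]
    exact hsub

/-- **Gorenstein local rings are Cohen–Macaulay.**  More precisely, for a Gorenstein local ring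
`dim A = injdim A = depth A`. -/
theorem gorenstein_invariants (A : Type u) [CommRing A] [LocCoh.IsGorensteinLocalRing A] :
    ∃ d : ℕ, ringKrullDim A = (d : WithBot ℕ∞) ∧ LocCoh.depth A A = (d : ℕ∞) ∧
      HasInjectiveDimensionLT (ModuleCat.of A A) (d + 1) := by
  obtain ⟨d, hd⟩ := exists_ringKrullDim_eq_natCast A
  obtain ⟨n, h1, h2⟩ := exists_injdim (ModuleCat.of A A)
    (LocCoh.IsGorensteinLocalRing.exists_hasInjectiveDimensionLT)
  have : Module.Finite A (ModuleCat.of A A) := inferInstanceAs (Module.Finite A A)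
  have : Nontrivial (ModuleCat.of A A) := inferInstanceAs (Nontrivial A)
  have hn := not_subsingleton_ext_residueField (ModuleCat.of A A) n h1 h2
  obtain ⟨i, hdi, hi⟩ := exists_not_subsingleton_ext_ge_dim d A hd
  have hin : i ≤ n := by
    by_contra hlt
    rw [not_le] at hlt
    exact hi (HasInjectiveDimensionLT.subsingleton _ (n + 1) i hlt _)
  have hnd : (n : ℕ∞) ≤ LocCoh.depth A A := le_depth_of_injdim A n h1 hn
  have hdd := depth_le_ringKrullDim A
  rw [hd] at hdd
  have hdd' : LocCoh.depth A A ≤ (d : ℕ∞) := by exact_mod_cast hdd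
  have hdn : (d : ℕ∞) ≤ (n : ℕ∞) := by exact_mod_cast hdi.trans hin
  have hnd' : n ≤ d := by exact_mod_cast hnd.trans hdd'
  refine ⟨d, hd, le_antisymm hdd' (hdn.trans hnd), ?_⟩
  exact hasInjectiveDimensionLT_of_ge _ (n + 1) (d + 1) (by omega)

end main

end Groth.Agent.Lib.H29Gorenstein
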