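import Mathlib

/-!
# Bridge between Mathlib's old `Ext` functor and the new `Abelian.Ext` (helper53)

`bridge X Y n : ((Ext R (ModuleCat R) n).obj (op X)).obj Y ≃ₗ[R] Abelian.Ext X Y n`, natural in both variables
(`bridge_naturality_left`, `bridge_naturality_right`).
-/

universe u v w
open CategoryTheory CategoryTheory.Limits Opposite

namespace Groth.Agent.Lib.ExtBridge

section SC
variable {R : Type u} [Ring R] (S : ShortComplex (ModuleCat.{v} R))

/-- Homology as an explicit quotient. -/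
noncomputable def HIso : S.homology ≅
    ModuleCat.of R (LinearMap.ker S.g.hom ⧸ LinearMap.range S.moduleCatToCycles) :=
  S.moduleCatHomologyIso

/-- cycles as explicit kernel. -/
noncomputable def ZIso : S.cycles ≅ ModuleCat.of R (LinearMap.ker S.g.hom) :=
  S.moduleCatCyclesIso

theorem ZIso_hom_val (c : S.cycles) : ((ZIso S).hom.hom c).1 = S.iCycles.hom c := by
  have := S.moduleCatCyclesIso_hom_i
  exact LinearMap.congr_fun (congrArg ModuleCat.Hom.hom this) c

theorem π_HIso : S.homologyπ ≫ (HIso S).hom =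
    (ZIso S).hom ≫ ModuleCat.ofHom (LinearMap.range S.moduleCatToCycles).mkQ :=
  S.π_moduleCatCyclesIso_hom

/-- The homology class of a cycle. -/
noncomputable def cls : LinearMap.ker S.g.hom →ₗ[R] S.homology :=
  (HIso S).inv.hom ∘ₗ (LinearMap.range S.moduleCatToCycles).mkQ

theorem HIso_cls (z : LinearMap.ker S.g.hom) :
    (HIso S).hom.hom (cls S z) = Submodule.Quotient.mk z := by
  simp [cls]

theorem cls_surjective : Function.Surjective (cls S) := by
  intro y
  obtain ⟨z, hz⟩ := Submodule.Quotient.mk_surjective _ ((HIso S).hom.hom y)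
  refine ⟨z, ?_⟩
  have : (HIso S).inv.hom ((HIso S).hom.hom y) = y := by simp
  rw [← this, ← hz]
  rfl

theorem cls_eq_zero_iff (z : LinearMap.ker S.g.hom) :
    cls S z = 0 ↔ z ∈ LinearMap.range S.moduleCatToCycles := by
  rw [← Submodule.Quotient.mk_eq_zero, ← HIso_cls]
  constructor
  · intro h; rw [h, map_zero]
  · intro h
    have : (HIso S).inv.hom ((HIso S).hom.hom (cls S z)) = cls S z := by simp
    rw [← this, h, map_zero]

/-- Descend a map on cycles killing boundaries to homology. -/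
noncomputable def desc {N : Type*} [AddCommGroup N] [Module R N]
    (ψ : LinearMap.ker S.g.hom →ₗ[R] N)
    (h : LinearMap.range S.moduleCatToCycles ≤ LinearMap.ker ψ) : S.homology →ₗ[R] N :=
  (LinearMap.range S.moduleCatToCycles).liftQ ψ h ∘ₗ (HIso S).hom.hom

theorem desc_cls {N : Type*} [AddCommGroup N] [Module R N]
    (ψ : LinearMap.ker S.g.hom →ₗ[R] N)
    (h : LinearMap.range S.moduleCatToCycles ≤ LinearMap.ker ψ) (z : LinearMap.ker S.g.hom) :
    desc S ψ h (cls S z) = ψ z := by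
  rw [desc, LinearMap.comp_apply, HIso_cls]
  rfl

/-- class of a cycle given as an element of the abstract cycles. -/
theorem homologyπ_eq_cls (c : S.cycles) : S.homologyπ.hom c = cls S ((ZIso S).hom.hom c) := by
  have h1 := LinearMap.congr_fun (congrArg ModuleCat.Hom.hom (π_HIso S)) c
  simp only [ModuleCat.hom_comp, LinearMap.comp_apply] at h1
  have : (HIso S).inv.hom ((HIso S).hom.hom (S.homologyπ.hom c)) = S.homologyπ.hom c := by simp
  rw [← this, h1]
  rfl

variable {S} in
theorem homologyMap_cls {S' : ShortComplex (ModuleCat.{v} R)} (φ : S ⟶ S')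
    (z : LinearMap.ker S.g.hom) (hz : φ.τ₂.hom z.1 ∈ LinearMap.ker S'.g.hom) :
    (ShortComplex.homologyMap φ).hom (cls S z) = cls S' ⟨φ.τ₂.hom z.1, hz⟩ := by
  obtain ⟨c, rfl⟩ : ∃ c, (ZIso S).hom.hom c = z := ⟨(ZIso S).inv.hom z, by simp⟩
  rw [← homologyπ_eq_cls]
  have h1 := ShortComplex.homologyπ_naturality φ
  have h2 := LinearMap.congr_fun (congrArg ModuleCat.Hom.hom h1) c
  simp only [ModuleCat.hom_comp, LinearMap.comp_apply] at h2
  rw [h2, homologyπ_eq_cls]
  congr 1
  apply Subtype.ext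
  rw [ZIso_hom_val]
  change _ = φ.τ₂.hom ((ZIso S).hom.hom c).1
  rw [ZIso_hom_val]
  have h3 := ShortComplex.cyclesMap_i φ
  exact LinearMap.congr_fun (congrArg ModuleCat.Hom.hom h3) c

end SC

section extMk0
open CochainComplex HomComplex Abelian
variable {C : Type u} [Category.{v} C] [Abelian C] [HasExt.{w} C]
  {X Y : C} (R : ProjectiveResolution X)

theorem extMk_zero_eq_zero_iff (f : R.complex.X 0 ⟶ Y) (hf : R.complex.d 1 0 ≫ f = 0) :
    R.extMk f 1 rfl hf = 0 ↔ f = 0 := by
  constructor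
  · intro h
    simp only [← R.extEquivCohomologyClass.apply_eq_iff_eq,
      ProjectiveResolution.extEquivCohomologyClass_extMk,
      ProjectiveResolution.extEquivCohomologyClass_zero,
      CohomologyClass.mk_eq_zero_iff] at h
    rw [Cocycle.toSingleMk_mem_coboundaries_iff _ _ _ _ _ 1 (by lia)] at h
    obtain ⟨g, hg⟩ := h
    have hz : IsZero (R.cochainComplex.X 1) :=
      CochainComplex.isZero_of_isStrictlyLE _ 0 1 (by lia)
    have hg0 : g = 0 := hz.eq_of_src _ _
    rw [hg0, comp_zero] at hg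
    rw [← cancel_epi (R.cochainComplexXIso (-(0 : ℕ)) 0 rfl).hom, comp_zero]
    exact hg.symm
  · rintro rfl
    exact R.extMk_zero 1 rfl

end extMk0

section fixedP
open Abelian
variable {R : Type u} [CommRing R] {X : ModuleCat.{u} R} (P : ProjectiveResolution X)
  (Y : ModuleCat.{u} R) (n : ℕ)

/-- The complex `Hom(P, Y)`. -/
noncomputable abbrev K : CochainComplex (ModuleCat.{u} R) ℕ := P.complex.linearYonedaObj R Y

/-- The short complex computing `H^n(Hom(P,Y))`. -/
noncomputable abbrev SK : ShortComplex (ModuleCat.{u} R) :=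
  (K P Y).sc' (n - 1) n (n + 1)

theorem mem_ker_iff (f : P.complex.X n ⟶ Y) :
    f ∈ LinearMap.ker (SK P Y n).g.hom ↔ P.complex.d (n + 1) n ≫ f = 0 := Iff.rfl

theorem extMk_smul (r : R) (f : P.complex.X n ⟶ Y) (hf : P.complex.d (n + 1) n ≫ f = 0) :
    P.extMk (r • f) (n + 1) rfl (by rw [Linear.comp_smul, hf, smul_zero]) =
      r • P.extMk f (n + 1) rfl hf := by
  rw [Abelian.Ext.smul_eq_comp_mk₀, ProjectiveResolution.extMk_comp_mk₀]
  congr 1

/-- cocycles to `Ext`. -/
noncomputable def toExtS : LinearMap.ker (SK P Y n).g.hom →ₗ[R] Ext.{u} X Y n where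
  toFun z := P.extMk (z.1 : P.complex.X n ⟶ Y) (n + 1) rfl ((mem_ker_iff P Y n _).1 z.2)
  map_add' z w := (P.add_extMk (z.1 : P.complex.X n ⟶ Y) w.1 (n + 1) rfl
    ((mem_ker_iff P Y n _).1 z.2) ((mem_ker_iff P Y n _).1 w.2)).symm
  map_smul' r z := extMk_smul P Y n r z.1 ((mem_ker_iff P Y n _).1 z.2)

theorem toExtS_apply (z : LinearMap.ker (SK P Y n).g.hom) :
    toExtS P Y n z = P.extMk (z.1 : P.complex.X n ⟶ Y) (n + 1) rfl
      ((mem_ker_iff P Y n _).1 z.2) := rfl

theorem extMk_congr {f g : P.complex.X n ⟶ Y} (h : f = g) (m : ℕ) (hm : n + 1 = m)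
    (hf : P.complex.d m n ≫ f = 0) :
    P.extMk f m hm hf = P.extMk g m hm (h ▸ hf) := by
  subst h
  rfl

theorem SK_f_zero : (SK P Y 0).f = 0 := by
  change (K P Y).d 0 0 = 0
  apply HomologicalComplex.shape
  simp

theorem range_le_ker_toExtS :
    LinearMap.range (SK P Y n).moduleCatToCycles ≤ LinearMap.ker (toExtS P Y n) := by
  rintro _ ⟨x, rfl⟩
  rw [LinearMap.mem_ker, toExtS_apply]
  cases n with
  | zero =>
    have h0 : (((SK P Y 0).moduleCatToCycles x).1 : P.complex.X 0 ⟶ Y) = 0 := by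
      change (SK P Y 0).f.hom x = 0
      rw [SK_f_zero]
      rfl
    exact (extMk_congr P Y 0 h0 1 rfl _).trans (P.extMk_zero (Y := Y) (n := 0) 1 rfl)
  | succ m =>
    refine (P.extMk_eq_zero_iff _ (m + 1 + 1) rfl _ m rfl).2 ?_
    exact ⟨x, rfl⟩

theorem prev_eq_sub_one (n : ℕ) : (ComplexShape.up ℕ).prev n = n - 1 := by
  cases n with
  | zero => exact CochainComplex.prev_nat_zero
  | succ m => exact CochainComplex.prev_nat_succ m

/-- the iso `K.sc n ≅ SK`. -/
noncomputable abbrev eSK : (K P Y).sc n ≅ SK P Y n :=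
  (K P Y).isoSc' (n - 1) n (n + 1) (prev_eq_sub_one n) (CochainComplex.next ℕ n)

/-- homology of the complex as homology of `SK`. -/
noncomputable def hIso : ((K P Y).homology n : ModuleCat.{u} R) ≅ (SK P Y n).homology :=
  ShortComplex.homologyMapIso (eSK P Y n)

/-- `H^n(Hom(P,Y)) → Ext^n(X,Y)`. -/
noncomputable def homologyToExt : ((K P Y).homology n : ModuleCat.{u} R) →ₗ[R] Ext.{u} X Y n :=
  desc (SK P Y n) (toExtS P Y n) (range_le_ker_toExtS P Y n) ∘ₗ (hIso P Y n).hom.hom

theorem toExtS_injective_mod (z : LinearMap.ker (SK P Y n).g.hom) (hz : toExtS P Y n z = 0) :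
    z ∈ LinearMap.range (SK P Y n).moduleCatToCycles := by
  rw [toExtS_apply] at hz
  cases n with
  | zero =>
    have h0 := (extMk_zero_eq_zero_iff P _ _).1 hz
    refine ⟨0, ?_⟩
    rw [map_zero]
    exact (Subtype.ext h0).symm
  | succ m =>
    obtain ⟨g, hg⟩ := (P.extMk_eq_zero_iff _ (m + 1 + 1) rfl _ m rfl).1 hz
    exact ⟨g, Subtype.ext hg⟩

theorem toExtS_surjective : Function.Surjective (toExtS P Y n) := by
  intro α
  obtain ⟨f, hf, rfl⟩ := P.extMk_surjective α (n + 1) rfl
  exact ⟨⟨f, (mem_ker_iff P Y n f).2 hf⟩, rfl⟩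

theorem homologyToExt_bijective : Function.Bijective (homologyToExt P Y n) := by
  have hiso : Function.Bijective (hIso P Y n).hom.hom :=
    ConcreteCategory.bijective_of_isIso _
  have hdesc : Function.Bijective (desc (SK P Y n) (toExtS P Y n) (range_le_ker_toExtS P Y n)) := by
    constructor
    · rw [injective_iff_map_eq_zero]
      intro h hh
      obtain ⟨z, rfl⟩ := cls_surjective _ h
      rw [desc_cls] at hh
      rw [cls_eq_zero_iff]
      exact toExtS_injective_mod P Y n z hh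
    · intro α
      obtain ⟨z, rfl⟩ := toExtS_surjective P Y n α
      exact ⟨cls _ z, desc_cls _ _ _ z⟩
  exact hdesc.comp hiso

/-- class of a cocycle in `H^n(Hom(P,Y))`. -/
noncomputable def clsK : LinearMap.ker (SK P Y n).g.hom →ₗ[R] ((K P Y).homology n : ModuleCat.{u} R) :=
  (hIso P Y n).inv.hom ∘ₗ cls (SK P Y n)

theorem clsK_surjective : Function.Surjective (clsK P Y n) := by
  have h1 : Function.Bijective (hIso P Y n).inv.hom :=
    ConcreteCategory.bijective_of_isIso _
  exact h1.2.comp (cls_surjective _)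

theorem hIso_hom_clsK (z : LinearMap.ker (SK P Y n).g.hom) :
    (hIso P Y n).hom.hom (clsK P Y n z) = cls (SK P Y n) z := by
  simp [clsK]

theorem homologyToExt_clsK (z : LinearMap.ker (SK P Y n).g.hom) :
    homologyToExt P Y n (clsK P Y n z) = toExtS P Y n z := by
  rw [homologyToExt, LinearMap.comp_apply, hIso_hom_clsK]
  exact desc_cls _ _ _ z

variable {P Y} in
theorem hIso_naturality {X' : ModuleCat.{u} R} {P' : ProjectiveResolution X'} {Y' : ModuleCat.{u} R}
    (φ : K P Y ⟶ K P' Y') :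
    HomologicalComplex.homologyMap φ n ≫ (hIso P' Y' n).hom = (hIso P Y n).hom ≫
      ShortComplex.homologyMap
        ((HomologicalComplex.shortComplexFunctor' _ _ (n - 1) n (n + 1)).map φ) := by
  change ShortComplex.homologyMap _ ≫ ShortComplex.homologyMap _ =
    ShortComplex.homologyMap _ ≫ ShortComplex.homologyMap _
  rw [← ShortComplex.homologyMap_comp, ← ShortComplex.homologyMap_comp]
  congr 1
  exact (HomologicalComplex.natIsoSc' _ _ (n - 1) n (n + 1) (prev_eq_sub_one n)
    (CochainComplex.next ℕ n)).hom.naturality φ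

variable {P Y} in
theorem homologyMap_clsK {X' : ModuleCat.{u} R} {P' : ProjectiveResolution X'} {Y' : ModuleCat.{u} R}
    (φ : K P Y ⟶ K P' Y') (z : LinearMap.ker (SK P Y n).g.hom)
    (hz : (φ.f n).hom z.1 ∈ LinearMap.ker (SK P' Y' n).g.hom) :
    (HomologicalComplex.homologyMap φ n).hom (clsK P Y n z) = clsK P' Y' n ⟨(φ.f n).hom z.1, hz⟩ := by
  have h1 := LinearMap.congr_fun (congrArg ModuleCat.Hom.hom (hIso_naturality n φ)) (clsK P Y n z)
  simp only [ModuleCat.hom_comp, LinearMap.comp_apply] at h1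
  rw [hIso_hom_clsK, homologyMap_cls _ z hz] at h1
  have h2 : Function.Injective (hIso P' Y' n).hom.hom :=
    (ConcreteCategory.bijective_of_isIso (hIso P' Y' n).hom).1
  apply h2
  rw [h1, hIso_hom_clsK]
  rfl

end fixedP

section unopNat
variable {ι : Type*} {V : Type*} [Category V] [Abelian V] {c : ComplexShape ι}
  {L' L : HomologicalComplex Vᵒᵖ c} (ψ : L' ⟶ L) (i : ι)

/-- the unopposite of a morphism of complexes. -/
def unopMap : L.unop ⟶ L'.unop where
  f j := (ψ.f j).unop
  comm' j k _ := by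
    have := ψ.comm k j
    exact (congrArg Quiver.Hom.unop this).symm

/-- naturality of `homologyUnop`. -/
theorem homologyUnop_naturality :
    (HomologicalComplex.homologyMap ψ i).unop ≫ (L'.homologyUnop i).inv =
      (L.homologyUnop i).inv ≫ HomologicalComplex.homologyMap (unopMap ψ) i := by
  have h := HomologicalComplex.homologyOp_hom_naturality (unopMap ψ) i
  have h' : (L.homologyUnop i).hom ≫ (HomologicalComplex.homologyMap ψ i).unop =
      HomologicalComplex.homologyMap (unopMap ψ) i ≫ (L'.homologyUnop i).hom :=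
    congrArg Quiver.Hom.unop h
  rw [← cancel_mono (L'.homologyUnop i).hom, Category.assoc, Iso.inv_hom_id, Category.comp_id,
    ← cancel_epi (L.homologyUnop i).hom, Category.assoc, Iso.hom_inv_id_assoc]
  exact h'

end unopNat

section natY
variable {R : Type u} [Ring R] {C : Type*} [Category C] [Abelian C] [Linear R C]
  [EnoughProjectives C] {X : C} (P : ProjectiveResolution X) {Y Y' : C} (g : Y ⟶ Y') (n : ℕ)

/-- postcomposition `Hom(P,Y) → Hom(P,Y')`. -/
noncomputable def Kmap : P.complex.linearYonedaObj R Y ⟶ P.complex.linearYonedaObj R Y' :=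
  unopMap ((NatTrans.mapHomologicalComplex ((linearYoneda R C).map g).rightOp
    (ComplexShape.down ℕ)).app P.complex)

theorem ext_map_eq :
    ((Ext R C n).obj (op X)).map g =
      ((NatTrans.leftDerived ((linearYoneda R C).map g).rightOp n).app X).unop := rfl

theorem isoExt_hom_eq :
    (P.isoExt n Y).hom = (P.isoLeftDerivedObj ((linearYoneda R C).obj Y).rightOp n).inv.unop ≫
      (HomologicalComplex.homologyUnop _ _).inv := rfl

theorem unop_aux {D : Type*} [Category D] {A A' H H' : Dᵒᵖ} (i : A ≅ H) (i' : A' ≅ H')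
    (m : H' ⟶ H) {U U' : D} (hU : U ≅ unop H) (hU' : U' ≅ unop H') (k : U ⟶ U')
    (hk : m.unop ≫ hU'.inv = hU.inv ≫ k) :
    (i'.hom ≫ m ≫ i.inv).unop ≫ (i'.inv.unop ≫ hU'.inv) = (i.inv.unop ≫ hU.inv) ≫ k := by
  rw [unop_comp, unop_comp, Category.assoc, Category.assoc, Category.assoc,
    ← Category.assoc i'.hom.unop, ← unop_comp, Iso.inv_hom_id, unop_id, Category.id_comp, hk]

theorem isoExt_naturality_right :
    ((Ext R C n).obj (op X)).map g ≫ (P.isoExt n Y').hom =
      (P.isoExt n Y).hom ≫ HomologicalComplex.homologyMap (Kmap P g) n := by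
  have e1 := ProjectiveResolution.leftDerived_app_eq ((linearYoneda R C).map g).rightOp P n
  change ((NatTrans.leftDerived ((linearYoneda R C).map g).rightOp n).app X).unop ≫
    ((P.isoLeftDerivedObj ((linearYoneda R C).obj Y').rightOp n).inv.unop ≫
      (HomologicalComplex.homologyUnop _ _).inv) =
    ((P.isoLeftDerivedObj ((linearYoneda R C).obj Y).rightOp n).inv.unop ≫
      (HomologicalComplex.homologyUnop _ _).inv) ≫ HomologicalComplex.homologyMap (Kmap P g) n
  rw [e1]
  exact unop_aux _ _ _ _ _ _ (homologyUnop_naturality _ n)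

end natY

section natX
variable {R : Type u} [Ring R] {C : Type*} [Category C] [Abelian C] [Linear R C]
  [EnoughProjectives C] {X X' : C} (P : ProjectiveResolution X) (P' : ProjectiveResolution X')
  (f : X' ⟶ X) (φ : P'.complex ⟶ P.complex) (comm : φ.f 0 ≫ P.π.f 0 = P'.π.f 0 ≫ f)
  (Y : C) (n : ℕ)

/-- precomposition `Hom(P,Y) → Hom(P',Y)`. -/
noncomputable def KmapX : P.complex.linearYonedaObj R Y ⟶ P'.complex.linearYonedaObj R Y :=
  unopMap ((((linearYoneda R C).obj Y).rightOp.mapHomologicalComplex (ComplexShape.down ℕ)).map φ)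

theorem unop_aux' {D : Type*} [Category D] {A A' H H' : Dᵒᵖ} (i : A ≅ H) (i' : A' ≅ H')
    (a : A' ⟶ A) (m : H' ⟶ H) (hm : i'.inv ≫ a = m ≫ i.inv)
    {U U' : D} (hU : U ≅ unop H) (hU' : U' ≅ unop H') (k : U ⟶ U')
    (hk : m.unop ≫ hU'.inv = hU.inv ≫ k) :
    a.unop ≫ (i'.inv.unop ≫ hU'.inv) = (i.inv.unop ≫ hU.inv) ≫ k := by
  rw [← Category.assoc, ← unop_comp, hm, unop_comp, Category.assoc, Category.assoc, hk]

include comm in
theorem isoExt_naturality_left :
    ((Ext R C n).map f.op).app Y ≫ (P'.isoExt n Y).hom =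
      (P.isoExt n Y).hom ≫ HomologicalComplex.homologyMap (KmapX P P' φ Y) n := by
  have e1 := ProjectiveResolution.isoLeftDerivedObj_inv_naturality f P' P φ comm
    ((linearYoneda R C).obj Y).rightOp n
  change ((((linearYoneda R C).obj Y).rightOp.leftDerived n).map f).unop ≫
    ((P'.isoLeftDerivedObj ((linearYoneda R C).obj Y).rightOp n).inv.unop ≫
      (HomologicalComplex.homologyUnop _ _).inv) =
    ((P.isoLeftDerivedObj ((linearYoneda R C).obj Y).rightOp n).inv.unop ≫
      (HomologicalComplex.homologyUnop _ _).inv) ≫ HomologicalComplex.homologyMap (KmapX P P' φ Y) n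
  exact unop_aux' _ _ _ _ e1 _ _ _ (homologyUnop_naturality _ n)

end natX



section bridge
variable {R : Type u} [CommRing R]

theorem comp_aux1 {D : Type*} [Category D] [Preadditive D] {A B C' E : D} (d : A ⟶ B) (zf : B ⟶ C')
    (g : C' ⟶ E) (h : d ≫ zf = 0) : d ≫ zf ≫ g = 0 := by
  rw [← Category.assoc, h, zero_comp]

theorem comp_aux2 {D : Type*} [Category D] [Preadditive D] {A' B' A B E : D} (d' : A' ⟶ B')
    (φn : B' ⟶ B) (φn1 : A' ⟶ A) (d : A ⟶ B) (comm : φn1 ≫ d = d' ≫ φn) (zf : B ⟶ E)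
    (h : d ≫ zf = 0) : d' ≫ φn ≫ zf = 0 := by
  rw [← Category.assoc, ← comm, Category.assoc, h, comp_zero]

/-- The bridge for a given projective resolution. -/
noncomputable def bridgeP {X : ModuleCat.{u} R} (P : ProjectiveResolution X) (Y : ModuleCat.{u} R)
    (n : ℕ) : ↑(((_root_.Ext R (ModuleCat.{u} R) n).obj (op X)).obj Y) ≃ₗ[R] Abelian.Ext.{u} X Y n :=
  LinearEquiv.ofBijective (homologyToExt P Y n ∘ₗ (P.isoExt n Y).hom.hom)
    ((homologyToExt_bijective P Y n).comp (ConcreteCategory.bijective_of_isIso (P.isoExt n Y).hom))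

theorem bridgeP_apply {X : ModuleCat.{u} R} (P : ProjectiveResolution X) (Y : ModuleCat.{u} R)
    (n : ℕ) (x : ↑(((_root_.Ext R (ModuleCat.{u} R) n).obj (op X)).obj Y)) :
    bridgeP P Y n x = homologyToExt P Y n ((P.isoExt n Y).hom.hom x) := rfl

theorem bridgeP_naturality_right {X : ModuleCat.{u} R} (P : ProjectiveResolution X)
    {Y Y' : ModuleCat.{u} R} (g : Y ⟶ Y') (n : ℕ)
    (x : ↑(((_root_.Ext R (ModuleCat.{u} R) n).obj (op X)).obj Y)) :
    bridgeP P Y' n ((((_root_.Ext R (ModuleCat.{u} R) n).obj (op X)).map g).hom x) =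
      (bridgeP P Y n x).comp (Abelian.Ext.mk₀ g) (add_zero n) := by
  rw [bridgeP_apply, bridgeP_apply]
  have h1 := LinearMap.congr_fun (congrArg ModuleCat.Hom.hom (isoExt_naturality_right P g n)) x
  simp only [ModuleCat.hom_comp, LinearMap.comp_apply] at h1
  rw [h1]
  obtain ⟨z, hz⟩ := clsK_surjective P Y n ((P.isoExt n Y).hom.hom x)
  rw [← hz]
  have hmem : ((Kmap P g).f n).hom z.1 ∈ LinearMap.ker (SK P Y' n).g.hom := by
    refine (mem_ker_iff P Y' n ((z.1 : P.complex.X n ⟶ Y) ≫ g)).2 ?_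
    exact comp_aux1 _ _ g ((mem_ker_iff P Y n _).1 z.2)
  rw [homologyMap_clsK n (Kmap P g) z hmem, homologyToExt_clsK, homologyToExt_clsK, toExtS_apply,
    toExtS_apply]
  exact (P.extMk_comp_mk₀ (z.1 : P.complex.X n ⟶ Y) (n + 1) rfl
    ((mem_ker_iff P Y n _).1 z.2) g).symm

theorem bridgeP_naturality_left {X X' : ModuleCat.{u} R} (P : ProjectiveResolution X)
    (P' : ProjectiveResolution X') (f : X' ⟶ X) (φ : ProjectiveResolution.Hom P' P f)
    (Y : ModuleCat.{u} R) (n : ℕ)
    (x : ↑(((_root_.Ext R (ModuleCat.{u} R) n).obj (op X)).obj Y)) :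
    bridgeP P' Y n ((((_root_.Ext R (ModuleCat.{u} R) n).map f.op).app Y).hom x) =
      (Abelian.Ext.mk₀ f).comp (bridgeP P Y n x) (zero_add n) := by
  rw [bridgeP_apply, bridgeP_apply]
  have comm : φ.hom.f 0 ≫ P.π.f 0 = P'.π.f 0 ≫ f := by
    have := φ.hom_f_zero_comp_π_f_zero
    simpa using this
  have h1 := LinearMap.congr_fun (congrArg ModuleCat.Hom.hom
    (isoExt_naturality_left P P' f φ.hom comm Y n)) x
  simp only [ModuleCat.hom_comp, LinearMap.comp_apply] at h1
  rw [h1]
  obtain ⟨z, hz⟩ := clsK_surjective P Y n ((P.isoExt n Y).hom.hom x)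
  rw [← hz]
  have hmem : ((KmapX P P' φ.hom Y).f n).hom z.1 ∈ LinearMap.ker (SK P' Y n).g.hom := by
    refine (mem_ker_iff P' Y n (φ.hom.f n ≫ (z.1 : P.complex.X n ⟶ Y))).2 ?_
    exact comp_aux2 _ _ _ _ (φ.hom.comm (n + 1) n) _ ((mem_ker_iff P Y n _).1 z.2)
  rw [homologyMap_clsK n (KmapX P P' φ.hom Y) z hmem, homologyToExt_clsK, homologyToExt_clsK,
    toExtS_apply, toExtS_apply]
  exact (ProjectiveResolution.mk₀_comp_extMk (z.1 : P.complex.X n ⟶ Y) (n + 1) rfl
    ((mem_ker_iff P Y n _).1 z.2) φ).symm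

/-- **The bridge** between Mathlib's old `Ext` functor (left-derived) and the new `Abelian.Ext`. -/
noncomputable def bridge (X Y : ModuleCat.{u} R) (n : ℕ) :
    ↑(((_root_.Ext R (ModuleCat.{u} R) n).obj (op X)).obj Y) ≃ₗ[R] Abelian.Ext.{u} X Y n :=
  bridgeP (ProjectiveResolution.of X) Y n

theorem bridge_naturality_right (X : ModuleCat.{u} R) {Y Y' : ModuleCat.{u} R} (g : Y ⟶ Y') (n : ℕ)
    (x : ↑(((_root_.Ext R (ModuleCat.{u} R) n).obj (op X)).obj Y)) :
    bridge X Y' n ((((_root_.Ext R (ModuleCat.{u} R) n).obj (op X)).map g).hom x) =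
      (bridge X Y n x).comp (Abelian.Ext.mk₀ g) (add_zero n) :=
  bridgeP_naturality_right _ g n x

theorem bridge_naturality_left {X X' : ModuleCat.{u} R} (f : X' ⟶ X) (Y : ModuleCat.{u} R) (n : ℕ)
    (x : ↑(((_root_.Ext R (ModuleCat.{u} R) n).obj (op X)).obj Y)) :
    bridge X' Y n ((((_root_.Ext R (ModuleCat.{u} R) n).map f.op).app Y).hom x) =
      (Abelian.Ext.mk₀ f).comp (bridge X Y n x) (zero_add n) :=
  bridgeP_naturality_left _ _ f
    ⟨ProjectiveResolution.lift f _ _, by
      rw [ProjectiveResolution.lift_commutes_zero]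
      simp⟩ Y n x

end bridge

end Groth.Agent.Lib.ExtBridge
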