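import Mathlib.Tactic
import Groth.Agent.S5159
import Groth.Agent.Lib.H26TopLC
import Groth.Agent.Lib.H26FinLenExt
import Groth.Agent.Lib.H29Gorenstein
import Groth.Agent.Lib.FiniteLengthSupport

/-!
# Duality `Ext^n(-, A)` on finite-length modules: the "type one" counting argument (helper26)

`(A, 𝔪)` Noetherian local, `n : ℕ`.  If `Ext^i(N, A) = 0` for all `i ≠ n` and all `N` of finite
length, then `length Ext^n(N, A) = r * length N` with `r = length Ext^n(k, A)`
(`Qr_of_isFiniteLength`).  If moreover there is an `A`-regular sequence `xs` of length `n` in `𝔪`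
with `A/(xs)` of finite length then `r = 1` (`length_ext_eq`), because `Ext^n(A/(xs), A) ≅ A/(xs)`.
For a Gorenstein local ring this gives `length Ext^n(N, A) = length N` (`gorenstein_length_ext`) and
`H^n_𝔪(A)` is an injective hull of the residue field (`gorenstein_exists_isInjectiveHull_H`).
-/

set_option autoImplicit false
universe u
open CategoryTheory IsLocalRing

namespace Groth.Agent.Lib.H26GorDual

open Groth.Agent.S5672 Groth.Agent.S5159

section General

variable {A : Type u} [CommRing A]

/-- `Ext^i(M, A) = 0` for `i ≠ n` and `length Ext^n(M, A) = r * length M`. -/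
def Qr (A : Type u) [CommRing A] (n : ℕ) (r : ℕ∞) (M : Type u) [AddCommGroup M] [Module A M] :
    Prop :=
  (∀ i : ℕ, i ≠ n →
    Subsingleton (Abelian.Ext (ModuleCat.of A M) (ModuleCat.of A A) i)) ∧
  Module.length A (Abelian.Ext (ModuleCat.of A M) (ModuleCat.of A A) n) = r * Module.length A M

lemma Qr_of_equiv {n : ℕ} {r : ℕ∞} {M M' : Type u} [AddCommGroup M] [Module A M] [AddCommGroup M']
    [Module A M'] (e : M ≃ₗ[A] M') (h : Qr A n r M) : Qr A n r M' := by
  obtain ⟨h1, h2⟩ := h
  refine ⟨fun i hi => ?_, ?_⟩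
  · have := h1 i hi
    exact (extCongr e.toModuleIso (ModuleCat.of A A) i).symm.toEquiv.subsingleton
  · rw [← (extCongr e.toModuleIso (ModuleCat.of A A) n).length_eq, h2, e.length_eq]

lemma Qr_zero {n : ℕ} {r : ℕ∞} {M : Type u} [AddCommGroup M] [Module A M] [Subsingleton M] :
    Qr A n r M := by
  have hz : Limits.IsZero (ModuleCat.of A M) := ModuleCat.isZero_of_subsingleton _
  have hsub : ∀ i, Subsingleton (Abelian.Ext (ModuleCat.of A M) (ModuleCat.of A A) i) :=
    fun i => Groth.Agent.Lib.H26FinLenExt.subsingleton_ext_of_isZero hz _ i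
  refine ⟨fun i _ => hsub i, ?_⟩
  have := hsub n
  rw [Module.length_eq_zero_iff.mpr this, Module.length_eq_zero_iff.mpr ‹Subsingleton M›, mul_zero]

/-- the extension step -/
lemma Qr_step {n : ℕ} {r : ℕ∞} {M M'' : Type u} [AddCommGroup M] [Module A M] [AddCommGroup M'']
    [Module A M''] (π : M →ₗ[A] M'') (hπ : Function.Surjective π)
    (hK : Qr A n r (LinearMap.ker π)) (hM'' : Qr A n r M'') : Qr A n r M := by
  have hS := presSC_shortExact π hπ
  obtain ⟨k1, k2⟩ := hK
  obtain ⟨m1, m2⟩ := hM''
  refine ⟨fun i hi => ?_, ?_⟩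
  · have hk := k1 i hi
    have hm : Subsingleton (Abelian.Ext (presSC π).X₃ (ModuleCat.of A A) i) := m1 i hi
    exact Groth.Agent.Lib.H26FinLenExt.subsingleton_ext_of_shortExact hS _ i hk hm
  · let f' : Abelian.Ext (ModuleCat.of A M'') (ModuleCat.of A A) n →ₗ[A]
        Abelian.Ext (ModuleCat.of A M) (ModuleCat.of A A) n :=
      Abelian.Ext.precompOfLinear (Abelian.Ext.mk₀ (ModuleCat.ofHom π)) A _ (zero_add n)
    let g' : Abelian.Ext (ModuleCat.of A M) (ModuleCat.of A A) n →ₗ[A]
        Abelian.Ext (ModuleCat.of A (LinearMap.ker π)) (ModuleCat.of A A) n :=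
      Abelian.Ext.precompOfLinear (Abelian.Ext.mk₀ (ModuleCat.ofHom (LinearMap.ker π).subtype)) A _
        (zero_add n)
    have hinj : Function.Injective f' := by
      rw [injective_iff_map_eq_zero]
      intro ξ hξ
      exact pullback_injective_of_van π hπ (fun i hi => k1 i (by omega)) ξ hξ
    have hsurj : Function.Surjective g' := by
      intro x₁
      have hm := m1 (n + 1) (by omega)
      obtain ⟨x₂, hx₂⟩ := Abelian.Ext.contravariant_sequence_exact₁ hS (ModuleCat.of A A) x₁
        (show 1 + n = n + 1 by omega) (@Subsingleton.elim _ hm _ _)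
      exact ⟨x₂, hx₂⟩
    have hex : Function.Exact f' g' := by
      intro e
      constructor
      · intro he
        obtain ⟨x₃, hx₃⟩ := Abelian.Ext.contravariant_sequence_exact₂ hS (ModuleCat.of A A) e he
        exact ⟨x₃, hx₃⟩
      · rintro ⟨x₃, rfl⟩
        change pb (presSC π).f (pb (presSC π).g x₃) = 0
        rw [← pb_comp, (presSC π).zero, pb_zero]
    rw [Module.length_eq_add_of_exact f' g' hinj hsurj hex, m2, k2,
      Module.length_eq_add_of_exact (LinearMap.ker π).subtype π (Submodule.subtype_injective _) hπ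
        (LinearMap.exact_subtype_ker_map π), mul_add, add_comm]

end General

section Local

variable (A : Type u) [CommRing A] [IsLocalRing A] (n : ℕ) (r : ℕ∞)
  (hk : Qr A n r (A ⧸ maximalIdeal A))

include hk in
lemma Qr_simple (T : Type u) [AddCommGroup T] [Module A T] [IsSimpleModule A T] : Qr A n r T := by
  obtain ⟨I, hI, ⟨e⟩⟩ := isSimpleModule_iff_quot_maximal.mp (inferInstance : IsSimpleModule A T)
  have hIm : I = maximalIdeal A := IsLocalRing.eq_maximalIdeal hI
  subst hIm
  exact Qr_of_equiv e.symm hk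

include hk in
lemma Qr_of_isFiniteLength (M : Type u) [AddCommGroup M] [Module A M] (hM : IsFiniteLength A M) :
    Qr A n r M := by
  induction hM with
  | of_subsingleton => exact Qr_zero
  | @of_simple_quotient M _ _ N _ hN ih =>
    refine Qr_step N.mkQ (Submodule.mkQ_surjective N) ?_ (Qr_simple A n r hk _)
    exact Qr_of_equiv (LinearEquiv.ofEq N (LinearMap.ker N.mkQ) (Submodule.ker_mkQ N).symm) ih

end Local

section TypeOne

variable (A : Type u) [CommRing A] [IsLocalRing A] [IsNoetherianRing A] (n : ℕ)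
  (hvan : ∀ (N : Type u) [AddCommGroup N] [Module A N], IsFiniteLength A N → ∀ i, i ≠ n →
    Subsingleton (Abelian.Ext (ModuleCat.of A N) (ModuleCat.of A A) i))
  (xs : List A) (hlen : xs.length = n) (hreg : RingTheory.Sequence.IsWeaklyRegular A xs)
  (hmem : ∀ x ∈ xs, x ∈ maximalIdeal A)
  (hfl : IsFiniteLength A (A ⧸ Ideal.ofList xs))

omit [IsNoetherianRing A] in
lemma isFiniteLength_residue : IsFiniteLength A (A ⧸ maximalIdeal A) := by
  have : IsSimpleModule A (A ⧸ maximalIdeal A) :=
    isSimpleModule_iff_isCoatom.mpr (Ideal.isMaximal_def.mp inferInstance)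
  exact Groth.Agent.Lib.FiniteLengthSupport.isFiniteLength_of_isSimpleModule

omit [IsNoetherianRing A] in
lemma length_residue : Module.length A (A ⧸ maximalIdeal A) = 1 := by
  have : IsSimpleModule A (A ⧸ maximalIdeal A) :=
    isSimpleModule_iff_isCoatom.mpr (Ideal.isMaximal_def.mp inferInstance)
  exact Module.length_eq_one A (A ⧸ maximalIdeal A)

include hvan hlen hreg hmem hfl in
/-- **Type one**: `length Ext^n(k, A) = 1`. -/
theorem length_ext_residue :
    Module.length A (Abelian.Ext (ModuleCat.of A (A ⧸ maximalIdeal A)) (ModuleCat.of A A) n) = 1 := by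
  set r := Module.length A
    (Abelian.Ext (ModuleCat.of A (A ⧸ maximalIdeal A)) (ModuleCat.of A A) n) with hr
  have hk : Qr A n r (A ⧸ maximalIdeal A) :=
    ⟨fun i hi => hvan _ (isFiniteLength_residue A) i hi, by rw [length_residue, mul_one]⟩
  have hB := Qr_of_isFiniteLength A n r hk (A ⧸ Ideal.ofList xs) hfl
  obtain ⟨e⟩ := Groth.Agent.S5665.result A xs hreg A
  subst hlen
  have h1 : Module.length A (Abelian.Ext (ModuleCat.of A (A ⧸ Ideal.ofList xs)) (ModuleCat.of A A)
      xs.length) = Module.length A (A ⧸ Ideal.ofList xs) := by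
    rw [e.length_eq]
    exact (Submodule.quotEquivOfEq _ _ (by simp)).length_eq
  rw [hB.2] at h1
  have htop : Module.length A (A ⧸ Ideal.ofList xs) ≠ ⊤ := Module.length_ne_top_iff.mpr hfl
  have h0 : Module.length A (A ⧸ Ideal.ofList xs) ≠ 0 := by
    rw [Ne, Module.length_eq_zero_iff]
    intro hsub
    have htop' : Ideal.ofList xs = ⊤ := by
      rw [← Ideal.Quotient.subsingleton_iff]; exact hsub
    have hle : Ideal.ofList xs ≤ maximalIdeal A := by
      rw [Ideal.ofList, Ideal.span_le]
      exact fun x hx => hmem x hx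
    rw [htop'] at hle
    exact (IsLocalRing.maximalIdeal.isMaximal A).ne_top (top_le_iff.mp hle)
  obtain ⟨l, hl⟩ := ENat.ne_top_iff_exists.mp htop
  rw [← hl] at h1 h0
  have hl0 : l ≠ 0 := by
    rintro rfl; exact h0 rfl
  rcases eq_or_ne r ⊤ with hrt | hrt
  · rw [hrt, ENat.top_mul (by exact_mod_cast hl0)] at h1
    exact absurd h1 (ENat.top_ne_natCast l)
  · obtain ⟨r', hr'⟩ := ENat.ne_top_iff_exists.mp hrt
    rw [← hr'] at h1 ⊢
    have h2 : r' * l = l := by exact_mod_cast h1
    have h3 : r' = 1 := by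
      have := Nat.eq_of_mul_eq_mul_right (Nat.pos_of_ne_zero hl0) (by rw [h2, one_mul] : r' * l = 1 * l)
      exact this
    rw [h3]; rfl

include hvan hlen hreg hmem hfl in
/-- `length Ext^n(N, A) = length N` for `N` of finite length. -/
theorem length_ext_eq (N : Type u) [AddCommGroup N] [Module A N] (hN : IsFiniteLength A N) :
    Module.length A (Abelian.Ext (ModuleCat.of A N) (ModuleCat.of A A) n) = Module.length A N := by
  have h1 := length_ext_residue A n hvan xs hlen hreg hmem hfl
  have hk : Qr A n 1 (A ⧸ maximalIdeal A) :=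
    ⟨fun i hi => hvan _ (isFiniteLength_residue A) i hi, by rw [h1, length_residue, mul_one]⟩
  have := (Qr_of_isFiniteLength A n 1 hk N hN).2
  rw [one_mul] at this
  exact this

end TypeOne

section Gorenstein

variable (A : Type u) [CommRing A] [LocCoh.IsGorensteinLocalRing A] (n : ℕ)
  (hn : ringKrullDim A = n)

include hn in
lemma gorenstein_data :
    LocCoh.depth A A = n ∧ HasInjectiveDimensionLT (ModuleCat.of A A) (n + 1) := by
  obtain ⟨d, hd, hdepth, hinj⟩ := Groth.Agent.Lib.H29Gorenstein.gorenstein_invariants A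
  have hdn : d = n := by
    rw [hn] at hd
    exact_mod_cast hd.symm
  subst hdn
  exact ⟨hdepth, hinj⟩

include hn in
/-- `Ext^i(N, A) = 0` for `i ≠ dim A`, `N` of finite length, `A` Gorenstein local. -/
theorem gorenstein_hvan (N : Type u) [AddCommGroup N] [Module A N] (hN : IsFiniteLength A N)
    (i : ℕ) (hi : i ≠ n) :
    Subsingleton (Abelian.Ext (ModuleCat.of A N) (ModuleCat.of A A) i) := by
  obtain ⟨hdepth, hinj⟩ := gorenstein_data A n hn
  rcases lt_or_gt_of_ne hi with h | h
  · obtain ⟨hD1, -⟩ := (Groth.Agent.Lib.H87AB.depth_eq_iff (R := A) A n).mp hdepth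
    exact Groth.Agent.Lib.H26FinLenExt.subsingleton_ext_of_isFiniteLength _ i (hD1 i h) N hN
  · exact HasInjectiveDimensionLT.subsingleton _ (n + 1) i (by omega) _

include hn in
/-- a maximal regular sequence with finite-length quotient -/
theorem gorenstein_exists_regular : ∃ xs : List A, xs.length = n ∧
    RingTheory.Sequence.IsWeaklyRegular A xs ∧ (∀ x ∈ xs, x ∈ maximalIdeal A) ∧
    IsFiniteLength A (A ⧸ Ideal.ofList xs) := by
  obtain ⟨hdepth, -⟩ := gorenstein_data A n hn
  have hIM := Groth.Agent.Lib.DepthRees.maximalIdeal_smul_top_ne_top (R := A) A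
  obtain ⟨xs, hlen, hmem, hreg⟩ :=
    (Groth.Agent.Lib.H29Depth.le_idealDepth_iff (maximalIdeal A) A hIM n).mp
      (by change (n : ℕ∞) ≤ LocCoh.depth A A; rw [hdepth])
  refine ⟨xs, hlen, hreg.toIsWeaklyRegular, hmem, ?_⟩
  have hdim := ringKrullDim_add_length_eq_ringKrullDim_of_isRegular xs hreg
  rw [hlen, hn] at hdim
  have hle : Ideal.ofList xs ≤ maximalIdeal A := by
    rw [Ideal.ofList, Ideal.span_le]
    exact fun x hx => hmem x hx
  have hne : Ideal.ofList xs ≠ ⊤ := fun h =>
    (IsLocalRing.maximalIdeal.isMaximal A).ne_top (top_le_iff.mp (h ▸ hle))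
  have : Nontrivial (A ⧸ Ideal.ofList xs) := Ideal.Quotient.nontrivial_iff.mpr hne
  have hdim0 : ringKrullDim (A ⧸ Ideal.ofList xs) ≤ 0 := by
    obtain ⟨k, hk⟩ : ∃ k : ℕ∞, ringKrullDim (A ⧸ Ideal.ofList xs) = (k : WithBot ℕ∞) := by
      have h0 : (0 : WithBot ℕ∞) ≤ ringKrullDim (A ⧸ Ideal.ofList xs) :=
        ringKrullDim_nonneg_of_nontrivial
      exact ⟨(ringKrullDim (A ⧸ Ideal.ofList xs)).unbot (by
        intro hbot; rw [hbot] at h0; exact absurd h0 (by simp)), by simp⟩
    rw [hk] at hdim ⊢
    have h2 : k + (n : ℕ∞) = (n : ℕ∞) := by exact_mod_cast hdim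
    have h3 : k = 0 := by
      have h4 : k + (n : ℕ∞) = 0 + (n : ℕ∞) := by rw [h2, zero_add]
      exact (ENat.add_left_injective_of_ne_top (ENat.coe_ne_top n)) h4
    rw [h3]; rfl
  have hK : Ring.KrullDimLE 0 (A ⧸ Ideal.ofList xs) := by
    rw [Ring.krullDimLE_iff]; exact_mod_cast hdim0
  have hart : IsArtinianRing (A ⧸ Ideal.ofList xs) := isArtinianRing_iff_krullDimLE_zero.mpr hK
  obtain ⟨k, hk⟩ := IsLocalRing.exists_maximalIdeal_pow_le_of_isArtinianRing_quotient
    (Ideal.ofList xs)
  refine Groth.Agent.Lib.H26TopLC.isFiniteLength_of_pow_smul k _ ?_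
  rw [eq_bot_iff, Submodule.smul_le]
  intro a ha x _
  rw [Submodule.mem_bot]
  obtain ⟨c, rfl⟩ := Ideal.Quotient.mk_surjective x
  change a • (Ideal.Quotient.mk _ c) = 0
  rw [Algebra.smul_def, Ideal.Quotient.algebraMap_eq, ← map_mul]
  exact Ideal.Quotient.eq_zero_iff_mem.mpr (Ideal.mul_mem_right _ _ (hk ha))

include hn in
/-- **Gorenstein duality on finite-length modules**: `length Ext^n(N, A) = length N`. -/
theorem gorenstein_length_ext (N : Type u) [AddCommGroup N] [Module A N]
    (hN : IsFiniteLength A N) :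
    Module.length A (Abelian.Ext (ModuleCat.of A N) (ModuleCat.of A A) n) = Module.length A N := by
  obtain ⟨xs, hlen, hreg, hmem, hfl⟩ := gorenstein_exists_regular A n hn
  exact length_ext_eq A n (fun N _ _ hN i hi => gorenstein_hvan A n hn N hN i hi)
    xs hlen hreg hmem hfl N hN

include hn in
/-- **For a Gorenstein local ring of dimension `n`, `H^n_𝔪(A)` is an injective hull of `k`.** -/
theorem gorenstein_exists_isInjectiveHull_H :
    ∃ f : ResidueField A →ₗ[A] LocCoh.H (maximalIdeal A) n A, InjHull.IsInjectiveHull f := by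
  refine Groth.Agent.Lib.H26TopLC.exists_isInjectiveHull_H n A ?_ ?_
  · intro N _ _ hN i hi
    exact gorenstein_hvan A n hn N hN i (by omega)
  · intro N _ _ hN
    exact gorenstein_length_ext A n hn N hN

end Gorenstein

end Groth.Agent.Lib.H26GorDual
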