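import Mathlib.Tactic
import Groth.Agent.Lib.H8CM6
import Groth.Agent.Lib.H26GorDual

/-!
# Dimension formula in Cohen–Macaulay local rings for arbitrary ideals (helper26)

* `exists_prime_quotient_dim`: if `dim R/I = d` is finite, there is a prime `p ⊇ I` with
  `dim R/p = d`.
* `height_add_quotient_dim`: in a CM local ring `S` of dimension `n`, `ht I + dim S/I = n` for
  every ideal `I` with `ht I = g`, `dim S/I = d` (natural numbers).
* `isCohenMacaulayLocalRing_of_gorenstein`: Gorenstein local rings are CM (Prelude classes).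
-/

set_option autoImplicit false
universe u

namespace Groth.Agent.Lib.H26CMDim

open IsLocalRing

section General

variable {R : Type u} [CommRing R]

theorem coheight_eq_ringKrullDim_quotient (P : PrimeSpectrum R) :
    ((Order.coheight P : ℕ∞) : WithBot ℕ∞) = ringKrullDim (R ⧸ P.asIdeal) := by
  rw [Order.coheight_eq_krullDim_Ici, ringKrullDim_quotient]
  have : PrimeSpectrum.zeroLocus (P.asIdeal : Set R) = Set.Ici P := by
    ext x
    simp only [PrimeSpectrum.mem_zeroLocus, Set.mem_Ici]
    rfl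
  rw [this]

/-- If `dim R/I = d` is a natural number, some prime `p ⊇ I` has `dim R/p = d`. -/
theorem exists_prime_quotient_dim (I : Ideal R) (d : ℕ) (hd : ringKrullDim (R ⧸ I) = d) :
    ∃ p : Ideal R, p.IsPrime ∧ I ≤ p ∧ ringKrullDim (R ⧸ p) = d := by
  have hnt : Nontrivial (R ⧸ I) := by
    by_contra h
    rw [not_nontrivial_iff_subsingleton] at h
    rw [ringKrullDim_eq_bot_of_subsingleton] at hd
    exact absurd hd (by simp)
  have hsup : ringKrullDim (R ⧸ I) =
      ((⨆ q : PrimeSpectrum (R ⧸ I), Order.coheight q : ℕ∞) : WithBot ℕ∞) :=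
    Order.krullDim_eq_iSup_coheight_of_nonempty
  rw [hd] at hsup
  have hsup' : (⨆ q : PrimeSpectrum (R ⧸ I), Order.coheight q : ℕ∞) = (d : ℕ∞) := by
    exact_mod_cast hsup.symm
  have hlt : (⨆ q : PrimeSpectrum (R ⧸ I), Order.coheight q : ℕ∞) < ⊤ := by
    rw [hsup']; exact ENat.natCast_lt_top d
  obtain ⟨q, hq⟩ := ENat.exists_eq_iSup_of_lt_top hlt
  rw [hsup'] at hq
  have hqd : ringKrullDim ((R ⧸ I) ⧸ q.asIdeal) = d := by
    rw [← coheight_eq_ringKrullDim_quotient, hq]; rfl
  refine ⟨q.asIdeal.comap (Ideal.Quotient.mk I), inferInstance, ?_, ?_⟩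
  · intro x hx
    rw [Ideal.mem_comap, Ideal.Quotient.eq_zero_iff_mem.mpr hx]
    exact zero_mem _
  · have hle : I ≤ q.asIdeal.comap (Ideal.Quotient.mk I) := by
      intro x hx
      rw [Ideal.mem_comap, Ideal.Quotient.eq_zero_iff_mem.mpr hx]
      exact zero_mem _
    have e := DoubleQuot.quotQuotEquivQuotOfLE hle
    rw [Ideal.map_comap_of_surjective _ Ideal.Quotient.mk_surjective] at e
    rw [← ringKrullDim_eq_of_ringEquiv e, hqd]

end General

section CM

variable {S : Type u} [CommRing S] [LocCoh.IsCohenMacaulayLocalRing S]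

/-- In a CM local ring, `dim S = dim S/p + ht p`. -/
theorem dim_eq_quotient_add_height (p : Ideal S) [p.IsPrime] :
    ringKrullDim S = ringKrullDim (S ⧸ p) + (p.height : WithBot ℕ∞) := by
  rw [Groth.Agent.Lib.H8CM.ringKrullDim_localization_add_quotient p,
    IsLocalization.AtPrime.ringKrullDim_eq_height p (Localization.AtPrime p)]

/-- In a CM local ring of dimension `n`, `ht I + dim S/I = n`. -/
theorem height_add_quotient_dim (n : ℕ) (hn : ringKrullDim S = n) (I : Ideal S) (g d : ℕ)
    (hg : I.height = g) (hd : ringKrullDim (S ⧸ I) = d) : g + d = n := by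
  have h1 : (n : WithBot ℕ∞) ≤ (d : WithBot ℕ∞) + (g : WithBot ℕ∞) := by
    obtain ⟨p, hp, hIp, hpg⟩ := Ideal.exists_isPrime_height_eq hg
    have := dim_eq_quotient_add_height p
    rw [hn, hpg] at this
    rw [this]
    have hle : ringKrullDim (S ⧸ p) ≤ ringKrullDim (S ⧸ I) :=
      ringKrullDim_le_of_surjective (Ideal.Quotient.factor hIp) (Ideal.Quotient.factor_surjective hIp)
    rw [hd] at hle
    exact add_le_add_left hle _
  have h2 : (d : WithBot ℕ∞) + (g : WithBot ℕ∞) ≤ (n : WithBot ℕ∞) := by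
    obtain ⟨p, hp, hIp, hpd⟩ := exists_prime_quotient_dim I d hd
    have := dim_eq_quotient_add_height p
    rw [hn, hpd] at this
    rw [this]
    have hle : I.height ≤ p.height := Ideal.height_mono hIp
    rw [hg] at hle
    have hle' : ((g : ℕ∞) : WithBot ℕ∞) ≤ (p.height : WithBot ℕ∞) := WithBot.coe_le_coe.mpr hle
    exact add_le_add_right hle' _
  have h3 : (n : WithBot ℕ∞) = ((d + g : ℕ) : WithBot ℕ∞) := by
    push_cast
    exact le_antisymm h1 h2
  have h4 : n = d + g := by exact_mod_cast h3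
  omega

end CM

/-- Gorenstein local rings are Cohen–Macaulay. -/
theorem isCohenMacaulayLocalRing_of_gorenstein (A : Type u) [CommRing A]
    [LocCoh.IsGorensteinLocalRing A] : LocCoh.IsCohenMacaulayLocalRing A := by
  obtain ⟨d, hd, hdepth, -⟩ := Groth.Agent.Lib.H29Gorenstein.gorenstein_invariants A
  refine ⟨?_⟩
  rw [Module.supportDim_self_eq_ringKrullDim, hd, hdepth]
  rfl

end Groth.Agent.Lib.H26CMDim
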