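import Groth.Agent.Lib.GenFinAlg45
import Mathlib.AlgebraicGeometry.ZariskisMainTheorem
import Mathlib.AlgebraicGeometry.Limits

/-!
# Generic finiteness, geometric part (helper45)

* `exists_forall_isIntegralElem` (G1): affine-local generic finiteness over a point without
  proper generizations.
* `isIntegral_appLE_basicOpen` (G2): integrality of the localised ring map.
* `exists_basicOpen_disjoint_image` (G3): closed set whose image under a qc morphism misses a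
  generic point has image disjoint from a basic open neighbourhood.
* `exists_isAffineOpen_of_finite` (G4): finitely many generic points in a quasi-separated open lie
  in a common affine open.
-/

set_option autoImplicit false
universe u
open CategoryTheory AlgebraicGeometry TopologicalSpace

namespace Groth.Agent.Lib.GenFin45


theorem eq_of_specializes_of_mem_irreducibleComponents {T : Type*} [TopologicalSpace T] [T0Space T]
    {η y : T} (hη : closure {η} ∈ irreducibleComponents T) (h : y ⤳ η) : y = η := by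
  have h1 : closure {η} ⊆ closure {y} :=
    closure_minimal (Set.singleton_subset_iff.mpr (specializes_iff_mem_closure.mp h)) isClosed_closure
  have h2 : closure {y} ⊆ closure {η} := hη.2 isIrreducible_singleton.closure h1
  have h3 : η ⤳ y := specializes_iff_mem_closure.mpr (h2 (subset_closure rfl))
  exact (h.antisymm h3).eq

variable {X Y : Scheme.{u}}

theorem eq_of_specializes_of_finite_fibre (f : X ⟶ Y) [LocallyOfFiniteType f] (η : Y)
    (hη : ∀ y : Y, y ⤳ η → y = η) (hfin : (f ⁻¹' {η}).Finite) {x ξ : X} (hξ : f ξ = η)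
    (h : x ⤳ ξ) : x = ξ := by
  have hx : f x = η := hη _ (hξ ▸ h.map f.continuous)
  have : Finite (f.fiber η) := (f.fiberHomeo η).finite_iff.mpr hfin
  have : DiscreteTopology (f ⁻¹' {η}) := (f.fiberHomeo η).discreteTopology
  have h1 : (⟨x, hx⟩ : f ⁻¹' {η}) ⤳ ⟨ξ, hξ⟩ := (subtype_specializes_iff _ _).mpr h
  have h2 := specializes_iff_eq.mp h1
  exact congrArg Subtype.val h2

theorem map_fromSpec (f : X ⟶ Y) {U : X.Opens} {V : Y.Opens} (hU : IsAffineOpen U)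
    (hV : IsAffineOpen V) (e : U ≤ f ⁻¹ᵁ V) (P : Spec Γ(X, U)) :
    f (hU.fromSpec P) = hV.fromSpec (Spec.map (f.appLE V U e) P) := by
  rw [← Scheme.Hom.comp_apply, ← Scheme.Hom.comp_apply, IsAffineOpen.SpecMap_appLE_fromSpec]

theorem fromSpec_mem_basicOpen_iff {V : Y.Opens} (hV : IsAffineOpen V) (s : Γ(Y, V))
    (P : Spec Γ(Y, V)) : hV.fromSpec P ∈ Y.basicOpen s ↔ s ∉ P.asIdeal := by
  have : P ∈ hV.fromSpec ⁻¹ᵁ Y.basicOpen s ↔ s ∉ P.asIdeal := by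
    rw [hV.fromSpec_preimage_basicOpen]
    rfl
  exact this

theorem mem_basicOpen_iff {V : Y.Opens} (hV : IsAffineOpen V) (s : Γ(Y, V)) (y : Y) (hy : y ∈ V) :
    y ∈ Y.basicOpen s ↔ s ∉ (hV.primeIdealOf ⟨y, hy⟩).asIdeal := by
  rw [← fromSpec_mem_basicOpen_iff hV s (hV.primeIdealOf ⟨y, hy⟩),
    hV.fromSpec_primeIdealOf ⟨y, hy⟩]

theorem primeIdealOf_mem_minimalPrimes {V : Y.Opens} (hV : IsAffineOpen V) (η : Y) (hηV : η ∈ V)
    (hη : ∀ y : Y, y ⤳ η → y = η) :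
    (hV.primeIdealOf ⟨η, hηV⟩).asIdeal ∈ minimalPrimes Γ(Y, V) := by
  refine ⟨⟨(hV.primeIdealOf ⟨η, hηV⟩).isPrime, bot_le⟩, fun q hq hle => ?_⟩
  let Q : Spec Γ(Y, V) := ⟨q, hq.1⟩
  have h1 : Q ⤳ hV.primeIdealOf ⟨η, hηV⟩ := (PrimeSpectrum.le_iff_specializes Q _).mp hle
  have h2 : hV.fromSpec Q ⤳ η := by
    have := h1.map hV.fromSpec.continuous
    rwa [hV.fromSpec_primeIdealOf ⟨η, hηV⟩] at this
  have h3 : hV.fromSpec Q = hV.fromSpec (hV.primeIdealOf ⟨η, hηV⟩) := by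
    rw [hV.fromSpec_primeIdealOf ⟨η, hηV⟩]
    exact hη _ h2
  have h4 : Q = hV.primeIdealOf ⟨η, hηV⟩ := hV.fromSpec.isOpenEmbedding.injective h3
  exact le_of_eq (congrArg PrimeSpectrum.asIdeal h4).symm

theorem finite_comap_preimage (f : X ⟶ Y) {U : X.Opens} {V : Y.Opens} (hU : IsAffineOpen U)
    (hV : IsAffineOpen V) (e : U ≤ f ⁻¹ᵁ V) (η : Y) (hηV : η ∈ V)
    (hfin : (f ⁻¹' {η} ∩ (U : Set X)).Finite) :
    (PrimeSpectrum.comap (f.appLE V U e).hom ⁻¹' {hV.primeIdealOf ⟨η, hηV⟩}).Finite := by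
  refine Set.Finite.of_finite_image (f := hU.fromSpec) (hfin.subset ?_)
    hU.fromSpec.isOpenEmbedding.injective.injOn
  rintro _ ⟨P, hP, rfl⟩
  obtain ⟨P', rfl⟩ : ∃ P' : Spec Γ(X, U), P' = P := ⟨P, rfl⟩
  refine ⟨?_, ?_⟩
  · have h1 : Spec.map (f.appLE V U e) P' = hV.primeIdealOf ⟨η, hηV⟩ := hP
    have h2 := map_fromSpec f hU hV e P'
    rw [h1, hV.fromSpec_primeIdealOf ⟨η, hηV⟩] at h2
    exact h2
  · have : hU.fromSpec P' ∈ Set.range hU.fromSpec := ⟨P', rfl⟩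
    rwa [hU.range_fromSpec] at this

/-- G1: generic finiteness on affine pieces. -/
theorem exists_forall_isIntegralElem (f : X ⟶ Y) [LocallyOfFiniteType f] {U : X.Opens}
    {V : Y.Opens} (hU : IsAffineOpen U) (hV : IsAffineOpen V) (e : U ≤ f ⁻¹ᵁ V) (η : Y)
    (hηV : η ∈ V) (hη : ∀ y : Y, y ⤳ η → y = η) (hfin : (f ⁻¹' {η} ∩ (U : Set X)).Finite) :
    ∃ s : Γ(Y, V), η ∈ Y.basicOpen s ∧ ∀ a : Γ(X, U), ∃ n : ℕ,
      (f.appLE V U e).hom.IsIntegralElem ((f.appLE V U e).hom s ^ n * a) := by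
  have hft : (f.appLE V U e).hom.FiniteType := f.finiteType_appLE hV hU e
  have hmin := primeIdealOf_mem_minimalPrimes hV η hηV hη
  have hfin' := finite_comap_preimage f hU hV e η hηV hfin
  obtain ⟨s, hs, h⟩ := Groth.Agent.Lib.GenFinAlg45.exists_forall_isIntegralElem
    (f.appLE V U e).hom hft (hV.primeIdealOf ⟨η, hηV⟩).asIdeal hmin hfin'
  exact ⟨s, (mem_basicOpen_iff hV s η hηV).mpr hs, h⟩





/-- G2: integrality after localisation. -/
theorem isIntegral_appLE_basicOpen (f : X ⟶ Y) {U : X.Opens} {V : Y.Opens} (hU : IsAffineOpen U)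
    (e : U ≤ f ⁻¹ᵁ V) (s s' : Γ(Y, V))
    (hs : ∀ a : Γ(X, U), ∃ n : ℕ,
      (f.appLE V U e).hom.IsIntegralElem ((f.appLE V U e).hom s ^ n * a))
    (e' : X.basicOpen ((f.appLE V U e).hom (s * s')) ≤ f ⁻¹ᵁ Y.basicOpen (s * s')) :
    (f.appLE (Y.basicOpen (s * s')) (X.basicOpen ((f.appLE V U e).hom (s * s'))) e').hom.IsIntegral := by
  generalize ht : s * s' = t at e' ⊢
  set φ := f.appLE V U e with hφ
  set ψ := f.appLE (Y.basicOpen t) (X.basicOpen (φ.hom t)) e' with hψ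
  let resY : Γ(Y, V) ⟶ Γ(Y, Y.basicOpen t) := Y.presheaf.map (homOfLE (Y.basicOpen_le t)).op
  let resX : Γ(X, U) ⟶ Γ(X, X.basicOpen (φ.hom t)) :=
    X.presheaf.map (homOfLE (X.basicOpen_le _)).op
  have hcomm : φ ≫ resX = resY ≫ ψ := by
    rw [Scheme.Hom.appLE_map, Scheme.Hom.map_appLE]
  have hcomm' : resX.hom.comp φ.hom = ψ.hom.comp resY.hom := by
    rw [← CommRingCat.hom_comp, ← CommRingCat.hom_comp, hcomm]
  have hcomm'' : ∀ r, resX.hom (φ.hom r) = ψ.hom (resY.hom r) := fun r =>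
    congrArg (fun k => k r) hcomm'
  have hunit_t : IsUnit (resY.hom t) := RingedSpace.isUnit_res_basicOpen _ t
  have hunit_s : IsUnit (resY.hom s) := by
    have h0 : resY.hom t = resY.hom s * resY.hom s' := by rw [← map_mul, ht]
    rw [h0] at hunit_t
    exact isUnit_of_mul_isUnit_left hunit_t
  have hloc := hU.isLocalization_basicOpen (φ.hom t)
  have key : ∀ a : Γ(X, U), ψ.hom.IsIntegralElem (resX.hom a) := by
    intro a
    obtain ⟨n, hn⟩ := hs a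
    have h1 := hn.map resX.hom
    rw [hcomm'] at h1
    have h2 := RingHom.IsIntegralElem.of_comp h1
    rw [mul_comm, map_mul, map_pow, hcomm''] at h2
    obtain ⟨w, hw⟩ := hunit_s
    refine RingHom.IsIntegralElem.of_mul_unit ψ.hom _ _ (((w⁻¹ : _ˣ) : Γ(Y, Y.basicOpen t)) ^ n)
      ?_ h2
    rw [← map_pow, ← map_mul, ← hw, ← mul_pow, Units.inv_mul, one_pow, map_one]
  intro z
  obtain ⟨⟨a, ⟨_, k, rfl⟩⟩, hz⟩ := IsLocalization.surj (Submonoid.powers (φ.hom t)) z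
  have hz' : z * ψ.hom (resY.hom t) ^ k = resX.hom a := by
    rw [← hcomm'', ← map_pow]
    exact hz
  obtain ⟨w, hw⟩ := hunit_t
  refine RingHom.IsIntegralElem.of_mul_unit ψ.hom _ _ (((w⁻¹ : _ˣ) : Γ(Y, Y.basicOpen t)) ^ k)
    ?_ (hz' ▸ key a)
  rw [← map_pow, ← map_mul, ← hw, ← mul_pow, Units.inv_mul, one_pow, map_one]


/-- G3, affine piece. -/
theorem exists_basicOpen_disjoint_image_affine (g : X ⟶ Y) (T : Set X) (hT : IsClosed T)
    {U : X.Opens} {V : Y.Opens} (hU : IsAffineOpen U) (hV : IsAffineOpen V) (e : U ≤ g ⁻¹ᵁ V)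
    (η : Y) (hηV : η ∈ V) (hη : ∀ y : Y, y ⤳ η → y = η) (hT' : ∀ z ∈ T, g z ≠ η) :
    ∃ s : Γ(Y, V), η ∈ Y.basicOpen s ∧ ∀ z ∈ T, z ∈ U → g z ∉ Y.basicOpen s := by
  set φ := g.appLE V U e with hφ
  have hcl : IsClosed (hU.fromSpec ⁻¹' T) := hT.preimage hU.fromSpec.continuous
  obtain ⟨I, hI⟩ := (PrimeSpectrum.isClosed_iff_zeroLocus_ideal _).mp hcl
  set 𝔭 := hV.primeIdealOf ⟨η, hηV⟩ with h𝔭
  have hnot : ¬ (I.comap φ.hom ≤ 𝔭.asIdeal) := by
    intro hle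
    obtain ⟨Q, hIQ, hQ, hQle⟩ := Ideal.exists_ideal_comap_le_prime 𝔭.asIdeal I hle
    let Q' : Spec Γ(X, U) := ⟨Q, hQ⟩
    have hQ'T : hU.fromSpec Q' ∈ T := by
      have : Q' ∈ hU.fromSpec ⁻¹' T := by
        rw [hI]
        exact hIQ
      exact this
    have h1 : Spec.map φ Q' ⤳ 𝔭 := (PrimeSpectrum.le_iff_specializes _ _).mp hQle
    have h2 : g (hU.fromSpec Q') ⤳ η := by
      rw [map_fromSpec g hU hV e]
      have := h1.map hV.fromSpec.continuous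
      rwa [hV.fromSpec_primeIdealOf ⟨η, hηV⟩] at this
    exact hT' _ hQ'T (hη _ h2)
  obtain ⟨s, hsI, hs𝔭⟩ := SetLike.not_le_iff_exists.mp hnot
  refine ⟨s, (mem_basicOpen_iff hV s η hηV).mpr hs𝔭, ?_⟩
  intro z hzT hzU hgz
  let Q' : Spec Γ(X, U) := hU.primeIdealOf ⟨z, hzU⟩
  have hQ' : hU.fromSpec Q' = z := hU.fromSpec_primeIdealOf ⟨z, hzU⟩
  have h1 : Q' ∈ hU.fromSpec ⁻¹' T := by
    change hU.fromSpec Q' ∈ T
    rw [hQ']; exact hzT
  rw [hI] at h1
  have h2 : φ.hom s ∈ Q'.asIdeal := h1 hsI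
  rw [← hQ', map_fromSpec g hU hV e, fromSpec_mem_basicOpen_iff] at hgz
  exact hgz h2

/-- G3: a closed subset whose image under a quasi-compact morphism misses a generic point `η`
has image disjoint from a basic open neighbourhood of `η`. -/
theorem exists_basicOpen_disjoint_image (g : X ⟶ Y) [QuasiCompact g] (T : Set X) (hT : IsClosed T)
    {V : Y.Opens} (hV : IsAffineOpen V) (η : Y) (hηV : η ∈ V) (hη : ∀ y : Y, y ⤳ η → y = η)
    (hT' : ∀ z ∈ T, g z ≠ η) :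
    ∃ s : Γ(Y, V), η ∈ Y.basicOpen s ∧ ∀ z ∈ T, g z ∉ Y.basicOpen s := by
  classical
  have hc : IsCompact (g ⁻¹ᵁ V : Set X) := g.isCompact_preimage hV.isCompact
  obtain ⟨𝒰, h𝒰fin, h𝒰⟩ := isCompact_iff_finite_and_eq_biUnion_affineOpens.mp hc
  have hle : ∀ W ∈ 𝒰, (W : X.Opens) ≤ g ⁻¹ᵁ V := fun W hW => by
    rw [h𝒰]; exact le_iSup₂ (f := fun (i : X.affineOpens) (_ : i ∈ 𝒰) => (i : X.Opens)) W hW
  have hex : ∀ W : X.affineOpens, ∃ s : Γ(Y, V), η ∈ Y.basicOpen s ∧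
      (W ∈ 𝒰 → ∀ z ∈ T, z ∈ (W : X.Opens) → g z ∉ Y.basicOpen s) := by
    intro W
    by_cases hW : W ∈ 𝒰
    · obtain ⟨s, hs, h⟩ := exists_basicOpen_disjoint_image_affine g T hT W.2 hV (hle W hW) η hηV
        hη hT'
      exact ⟨s, hs, fun _ => h⟩
    · exact ⟨1, by rw [Scheme.basicOpen_of_isUnit _ isUnit_one]; exact hηV, fun h => absurd h hW⟩
  choose sf hsf hsf' using hex
  refine ⟨∏ W ∈ h𝒰fin.toFinset, sf W, ?_, ?_⟩
  · rw [mem_basicOpen_iff hV _ η hηV]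
    intro hmem
    obtain ⟨W, -, hW⟩ := (Ideal.IsPrime.prod_mem_iff).mp hmem
    exact (mem_basicOpen_iff hV _ η hηV).mp (hsf W) hW
  · intro z hzT hgz
    have hzV : z ∈ g ⁻¹ᵁ V := Y.basicOpen_le _ hgz
    rw [h𝒰] at hzV
    simp only [Opens.mem_iSup] at hzV
    obtain ⟨W, hW, hzW⟩ := hzV
    have hWf : W ∈ h𝒰fin.toFinset := h𝒰fin.mem_toFinset.mpr hW
    rw [← Finset.mul_prod_erase _ _ hWf, Scheme.basicOpen_mul] at hgz
    exact hsf' W hW z hzT hzW hgz.1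


/-- G4b -/
theorem exists_basicOpen_disjoint_of_isAffineOpen {N W : X.Opens} (hN : IsAffineOpen N)
    (hW : IsAffineOpen W) (hWN : W ≤ N) (ξ : X) (hξN : ξ ∈ N) (hξ : ∀ x : X, x ⤳ ξ → x = ξ)
    (hξW : ξ ∉ W) :
    ∃ a : Γ(X, N), ξ ∈ X.basicOpen a ∧ Disjoint (X.basicOpen a) W := by
  have hW' : IsAffine (W : Scheme.{u}) := hW
  have htop : IsAffineOpen (⊤ : (W : Scheme.{u}).Opens) := isAffineOpen_top _
  have e : (⊤ : (W : Scheme.{u}).Opens) ≤ W.ι ⁻¹ᵁ N := by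
    intro z _
    exact hWN z.2
  obtain ⟨a, ha, h⟩ := exists_basicOpen_disjoint_image_affine W.ι Set.univ isClosed_univ htop hN e
    ξ hξN hξ (fun z _ hz => hξW (hz ▸ z.2))
  refine ⟨a, ha, ?_⟩
  rw [← Opens.coe_disjoint, Set.disjoint_left]
  intro x hxa hxW
  exact h ⟨x, hxW⟩ (Set.mem_univ _) trivial hxa

/-- G4a -/
theorem exists_basicOpen_disjoint_of_isCompact {N : X.Opens} (hN : IsAffineOpen N) (ξ : X)
    (hξN : ξ ∈ N) (hξ : ∀ x : X, x ⤳ ξ → x = ξ) (K : X.Opens)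
    (hK : IsCompact ((K ⊓ N : X.Opens) : Set X)) (hξK : ξ ∉ K) :
    ∃ a : Γ(X, N), ξ ∈ X.basicOpen a ∧ Disjoint (X.basicOpen a) K := by
  classical
  obtain ⟨𝒰, h𝒰fin, h𝒰⟩ := isCompact_iff_finite_and_eq_biUnion_affineOpens.mp hK
  have hle : ∀ W ∈ 𝒰, (W : X.Opens) ≤ K ⊓ N := fun W hW => by
    rw [h𝒰]; exact le_iSup₂ (f := fun (i : X.affineOpens) (_ : i ∈ 𝒰) => (i : X.Opens)) W hW
  have hex : ∀ W : X.affineOpens, ∃ a : Γ(X, N), ξ ∈ X.basicOpen a ∧
      (W ∈ 𝒰 → Disjoint (X.basicOpen a) (W : X.Opens)) := by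
    intro W
    by_cases hW : W ∈ 𝒰
    · obtain ⟨a, ha, h⟩ := exists_basicOpen_disjoint_of_isAffineOpen hN W.2
        ((hle W hW).trans inf_le_right) ξ hξN hξ (fun h => hξK ((hle W hW) h).1)
      exact ⟨a, ha, fun _ => h⟩
    · exact ⟨1, by rw [Scheme.basicOpen_of_isUnit _ isUnit_one]; exact hξN, fun h => absurd h hW⟩
  choose af haf haf' using hex
  refine ⟨∏ W ∈ h𝒰fin.toFinset, af W, ?_, ?_⟩
  · rw [mem_basicOpen_iff hN _ ξ hξN]
    intro hmem
    obtain ⟨W, -, hW⟩ := (Ideal.IsPrime.prod_mem_iff).mp hmem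
    exact (mem_basicOpen_iff hN _ ξ hξN).mp (haf W) hW
  · rw [← Opens.coe_disjoint, Set.disjoint_left]
    intro x hxa hxK
    have hxN : x ∈ N := X.basicOpen_le _ hxa
    have hxKN : x ∈ K ⊓ N := ⟨hxK, hxN⟩
    rw [h𝒰] at hxKN
    simp only [Opens.mem_iSup] at hxKN
    obtain ⟨W, hW, hxW⟩ := hxKN
    have hWf : W ∈ h𝒰fin.toFinset := h𝒰fin.mem_toFinset.mpr hW
    rw [← Finset.mul_prod_erase _ _ hWf, Scheme.basicOpen_mul] at hxa
    have := haf' W hW
    rw [← Opens.coe_disjoint, Set.disjoint_left] at this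
    exact this hxa.1 hxW

/-- G4: in a quasi-separated open `W`, finitely many points without proper generizations lie in
a common affine open. -/
theorem exists_isAffineOpen_of_finite (W : X.Opens) (hW : IsQuasiSeparated (W : Set X))
    (F : Set X) (hF : F.Finite) (hFW : F ⊆ W) (hgen : ∀ ξ ∈ F, ∀ x : X, x ⤳ ξ → x = ξ) :
    ∃ U : X.Opens, IsAffineOpen U ∧ U ≤ W ∧ F ⊆ U := by
  induction F, hF using Set.Finite.induction_on with
  | empty => exact ⟨⊥, isAffineOpen_bot X, bot_le, Set.empty_subset _⟩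
  | @insert ξ F' hξF' hF' ih =>
    obtain ⟨U, hU, hUW, hF'U⟩ := ih (fun x hx => hFW (Set.mem_insert_of_mem _ hx))
      (fun ξ' hξ' => hgen ξ' (Set.mem_insert_of_mem _ hξ'))
    by_cases hξU : ξ ∈ U
    · exact ⟨U, hU, hUW, Set.insert_subset hξU hF'U⟩
    · have hξW : ξ ∈ W := hFW (Set.mem_insert _ _)
      obtain ⟨_, ⟨N, hN, rfl⟩, hξN, hNW⟩ := X.isBasis_affineOpens.exists_subset_of_mem_open
        hξW W.isOpen
      replace hN : IsAffineOpen N := hN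
      obtain ⟨N, rfl⟩ : ∃ N' : X.Opens, N' = N := ⟨N, rfl⟩
      have hK : IsCompact ((U ⊓ N : X.Opens) : Set X) :=
        hW U N hUW U.isOpen hU.isCompact hNW N.isOpen hN.isCompact
      obtain ⟨a, ha, hdisj⟩ := exists_basicOpen_disjoint_of_isCompact hN ξ hξN
        (hgen ξ (Set.mem_insert _ _)) U hK hξU
      refine ⟨U ⊔ X.basicOpen a, hU.sup_of_disjoint (hN.basicOpen a) hdisj.symm,
        sup_le hUW ((X.basicOpen_le a).trans hNW), ?_⟩
      apply Set.insert_subset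
      · exact Or.inr ha
      · exact fun x hx => Or.inl (hF'U hx)


end Groth.Agent.Lib.GenFin45
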