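import Mathlib.AlgebraicGeometry.Noetherian
import Mathlib.AlgebraicGeometry.Properties
import Mathlib.Topology.NoetherianSpace

/-!
# Points without proper generizations lie in every dense open (locally Noetherian schemes) (helper68)
-/

set_option autoImplicit false
universe u

open CategoryTheory AlgebraicGeometry TopologicalSpace

namespace Groth.Agent.Lib.GenericDense68

/-- In a Noetherian quasi-sober T0 space, the closure of a point without proper generizations is an
irreducible component. -/
theorem closure_singleton_mem_irreducibleComponents {α : Type*} [TopologicalSpace α] [QuasiSober α]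
    (x : α) (hx : ∀ y : α, y ⤳ x → x ⤳ y) : closure {x} ∈ irreducibleComponents α := by
  refine ⟨isIrreducible_singleton.closure, fun Z hZ hle => ?_⟩
  have hZc : IsIrreducible (closure Z) := hZ.closure
  obtain ⟨η, hη⟩ := QuasiSober.sober hZc isClosed_closure
  have hxZ : x ∈ closure Z := subset_closure (hle (subset_closure rfl))
  have h1 : η ⤳ x := by
    rw [specializes_iff_mem_closure, hη.def]; exact hxZ
  have h2 : x ⤳ η := hx η h1
  intro z hz
  have : z ∈ closure {η} := by rw [hη.def]; exact subset_closure hz
  exact (h2.trans (specializes_iff_mem_closure.mpr this)).mem_closed isClosed_closure (subset_closure rfl)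

/-- A point of a locally Noetherian scheme without proper generizations lies in every dense open. -/
theorem mem_of_dense_of_isMax {X : Scheme.{u}} [IsLocallyNoetherian X] (x : X)
    (hx : ∀ y : X, y ⤳ x → x ⤳ y) (U : X.Opens) (hU : Dense (U : Set X)) : x ∈ U := by
  obtain ⟨W₀, hW, hxW, -⟩ := Opens.isBasis_iff_nbhd.mp X.isBasis_affineOpens
    (show x ∈ (⊤ : X.Opens) from trivial)
  let W : X.Opens := W₀
  have hA : IsAffine (W : Scheme.{u}) := hW
  have hN : IsNoetherian (W : Scheme.{u}) := {}
  let x' : (W : Scheme.{u}) := ⟨x, hxW⟩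
  have hx' : ∀ y : (W : Scheme.{u}), y ⤳ x' → x' ⤳ y := by
    intro y hy
    have h1 : W.ι y ⤳ W.ι x' := hy.map W.ι.continuous
    have h2 : W.ι x' ⤳ W.ι y := hx _ h1
    exact (W.ι.isOpenEmbedding.isInducing.specializes_iff).mp h2
  have hcomp := closure_singleton_mem_irreducibleComponents x' hx'
  obtain ⟨o, ho, hne, hsub⟩ :=
    NoetherianSpace.exists_isOpen_nonempty_subset_irreducibleComponent _ hcomp
  have hoX : IsOpen (W.ι '' o) := W.ι.isOpenEmbedding.isOpenMap o ho
  obtain ⟨z, hzo, hzU⟩ := hU.inter_open_nonempty _ hoX (hne.image _)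
  obtain ⟨z', hz'o, rfl⟩ := hzo
  have h3 : x' ⤳ z' := specializes_iff_mem_closure.mpr (hsub hz'o)
  have h4 : W.ι x' ⤳ W.ι z' := h3.map W.ι.continuous
  exact h4.mem_open U.isOpen hzU

end Groth.Agent.Lib.GenericDense68
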