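import Groth.Agent.Lib.DimIneqCore
import Groth.Agent.Lib.GenFin45
import Groth.Agent.Lib.GenericDense68

/-!
# Dimension inequality for morphisms locally of finite type (helper63)

Scheme-level consequences of the dimension inequality `DimIneq` (S0554).
-/

set_option autoImplicit false
universe u

open AlgebraicGeometry CategoryTheory TopologicalSpace

namespace Groth.Agent.Lib.DimIneqScheme

open Groth.Agent.Lib.TrdegTransfer Groth.Agent.Lib.DimIneqCore Polynomial

section Alg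

theorem isAlgebraic_of_frac {A K : Type*} [CommRing A] [Field K] [Algebra A K] (k : K) (a s : A)
    (hs : algebraMap A K s ≠ 0) (h : k * algebraMap A K s = algebraMap A K a) :
    IsAlgebraic A k := by
  refine ⟨C s * X - C a, fun h0 => hs ?_, ?_⟩
  · have := congrArg (fun p => p.coeff 1) h0
    simp only [coeff_sub, coeff_C_mul, coeff_X_one, mul_one, coeff_C_succ, sub_zero,
      coeff_zero] at this
    rw [this, map_zero]
  · simp only [map_sub, map_mul, aeval_C, aeval_X]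
    rw [mul_comm, h, sub_self]

/-- Transcendence degree of a "residue field extension" computed on the rings: `K`, `L` are fields
of fractions of the images of `R`, `B`. -/
theorem trdeg_eq_of_evaluations {R B K L : Type u} [CommRing R] [CommRing B] [Field K] [Field L]
    [Algebra R B] [Algebra K L]
    (evR : R →+* K) (evB : B →+* L)
    (hcomm : ∀ r, evB (algebraMap R B r) = algebraMap K L (evR r))
    (hK : ∀ k : K, ∃ a s : R, evR s ≠ 0 ∧ k * evR s = evR a)
    (hL : ∀ l : L, ∃ b t : B, evB t ≠ 0 ∧ l * evB t = evB b)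
    (q : Ideal B) (hq : RingHom.ker evB = q) :
    Algebra.trdeg K L = Algebra.trdeg (R ⧸ q.under R) (B ⧸ q) := by
  haveI hqp : q.IsPrime := hq ▸ RingHom.ker_isPrime evB
  have hker : ∀ r, r ∈ q.under R ↔ evR r = 0 := by
    intro r
    rw [Ideal.under_def, Ideal.mem_comap, ← hq, RingHom.mem_ker, hcomm]
    exact map_eq_zero_iff _ (algebraMap K L).injective
  let φR : (R ⧸ q.under R) →+* K := Ideal.Quotient.lift _ evR (fun r hr => (hker r).mp hr)
  let φB : (B ⧸ q) →+* L := Ideal.Quotient.lift _ evB (fun b hb => by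
    rw [← hq] at hb; exact hb)
  have hφR : Function.Injective φR := by
    rw [injective_iff_map_eq_zero]
    intro a ha
    obtain ⟨r, rfl⟩ := Ideal.Quotient.mk_surjective a
    rw [Ideal.Quotient.lift_mk] at ha
    exact Ideal.Quotient.eq_zero_iff_mem.mpr ((hker r).mpr ha)
  have hφB : Function.Injective φB := by
    rw [injective_iff_map_eq_zero]
    intro a ha
    obtain ⟨b, rfl⟩ := Ideal.Quotient.mk_surjective a
    rw [Ideal.Quotient.lift_mk] at ha
    refine Ideal.Quotient.eq_zero_iff_mem.mpr ?_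
    rw [← hq]; exact ha
  letI : Algebra (R ⧸ q.under R) K := φR.toAlgebra
  letI : Algebra (B ⧸ q) L := φB.toAlgebra
  letI : Algebra (R ⧸ q.under R) L := ((algebraMap K L).comp φR).toAlgebra
  haveI : IsScalarTower (R ⧸ q.under R) K L := IsScalarTower.of_algebraMap_eq (fun a => rfl)
  haveI : IsScalarTower (R ⧸ q.under R) (B ⧸ q) L := IsScalarTower.of_algebraMap_eq (fun a => by
    obtain ⟨r, rfl⟩ := Ideal.Quotient.mk_surjective a
    exact (hcomm r).symm)
  haveI : FaithfulSMul (R ⧸ q.under R) K := (faithfulSMul_iff_algebraMap_injective _ _).mpr hφR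
  haveI : FaithfulSMul (B ⧸ q) L := (faithfulSMul_iff_algebraMap_injective _ _).mpr hφB
  haveI : FaithfulSMul K L :=
    (faithfulSMul_iff_algebraMap_injective _ _).mpr (algebraMap K L).injective
  haveI : FaithfulSMul (R ⧸ q.under R) (B ⧸ q) := by
    rw [faithfulSMul_iff_algebraMap_injective, injective_iff_map_eq_zero]
    intro a ha
    obtain ⟨r, rfl⟩ := Ideal.Quotient.mk_surjective a
    have : Ideal.Quotient.mk q (algebraMap R B r) = 0 := ha
    rw [Ideal.Quotient.eq_zero_iff_mem] at this ⊢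
    exact this
  haveI : Nontrivial (R ⧸ q.under R) := Ideal.Quotient.nontrivial_iff.mpr (Ideal.IsPrime.ne_top')
  haveI : Algebra.IsAlgebraic (R ⧸ q.under R) K := ⟨fun k => by
    obtain ⟨a, s, hs, h⟩ := hK k
    exact isAlgebraic_of_frac k (Ideal.Quotient.mk _ a) (Ideal.Quotient.mk _ s) hs h⟩
  haveI : Algebra.IsAlgebraic (B ⧸ q) L := ⟨fun l => by
    obtain ⟨b, t, ht, h⟩ := hL l
    exact isAlgebraic_of_frac l (Ideal.Quotient.mk _ b) (Ideal.Quotient.mk _ t) ht h⟩
  exact trdeg_eq_of_isAlgebraic_square (A := R ⧸ q.under R) (B := B ⧸ q) (K := K) (L := L)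

end Alg

section Sch

variable {X S : Scheme.{u}} (f : X ⟶ S) {U : X.Opens} {V : S.Opens}

theorem ker_evaluation (hU : IsAffineOpen U) (x : X) (hx : x ∈ U) :
    RingHom.ker (X.evaluation U x hx).hom = (hU.primeIdealOf ⟨x, hx⟩).asIdeal := by
  ext s
  rw [RingHom.mem_ker]
  change X.evaluation U x hx s = 0 ↔ _
  rw [Scheme.evaluation_eq_zero_iff_notMem_basicOpen, GenFin45.mem_basicOpen_iff hU s x hx,
    not_not]

theorem exists_evaluation_frac (hU : IsAffineOpen U) (x : X) (hx : x ∈ U) (l : X.residueField x) :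
    ∃ b t : Γ(X, U), (X.evaluation U x hx).hom t ≠ 0 ∧
      l * (X.evaluation U x hx).hom t = (X.evaluation U x hx).hom b := by
  obtain ⟨z, rfl⟩ := X.residue_surjective x l
  letI := X.presheaf.algebra_section_stalk ⟨x, hx⟩
  haveI := hU.isLocalization_stalk ⟨x, hx⟩
  obtain ⟨⟨b, t⟩, h⟩ := IsLocalization.surj (hU.primeIdealOf ⟨x, hx⟩).asIdeal.primeCompl z
  refine ⟨b, t, ?_, ?_⟩
  · intro h0
    have h1 : (t : Γ(X, U)) ∈ RingHom.ker (X.evaluation U x hx).hom := h0
    rw [ker_evaluation hU x hx] at h1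
    exact t.2 h1
  · have h2 := congrArg (X.residue x).hom h
    rw [map_mul] at h2
    exact h2

theorem evaluation_appLE (e : U ≤ f ⁻¹ᵁ V) (x : X) (hx : x ∈ U) (r : Γ(S, V)) :
    (X.evaluation U x hx).hom ((f.appLE V U e).hom r) =
      (f.residueFieldMap x).hom ((S.evaluation V (f x) (e hx)).hom r) := by
  have h1 := Scheme.evaluation_naturality_apply f x (e hx) r
  change f.residueFieldMap x (S.evaluation V (f x) (e hx) r) = _ at h1
  change X.evaluation U x hx (f.appLE V U e r) = f.residueFieldMap x (S.evaluation V (f x) (e hx) r)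
  rw [h1]
  change X.residue x (X.presheaf.germ U x hx (X.presheaf.map (homOfLE e).op (f.app V r))) = _
  rw [TopCat.Presheaf.germ_res_apply]
  rfl

theorem trdeg_residueField_eq (hU : IsAffineOpen U) (hV : IsAffineOpen V) (e : U ≤ f ⁻¹ᵁ V)
    (x : X) (hx : x ∈ U) :
    letI := (f.residueFieldMap x).hom.toAlgebra
    letI := (f.appLE V U e).hom.toAlgebra
    Algebra.trdeg (S.residueField (f x)) (X.residueField x) =
      Algebra.trdeg (Γ(S, V) ⧸ (hU.primeIdealOf ⟨x, hx⟩).asIdeal.under Γ(S, V))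
        (Γ(X, U) ⧸ (hU.primeIdealOf ⟨x, hx⟩).asIdeal) := by
  letI := (f.residueFieldMap x).hom.toAlgebra
  letI := (f.appLE V U e).hom.toAlgebra
  exact trdeg_eq_of_evaluations (S.evaluation V (f x) (e hx)).hom (X.evaluation U x hx).hom
    (evaluation_appLE f e x hx) (exists_evaluation_frac hV (f x) (e hx))
    (exists_evaluation_frac hU x hx) _ (ker_evaluation hU x hx)

theorem exists_generic_of_minimalPrime (hU : IsAffineOpen U) (x : X) (hx : x ∈ U)
    (Q₀ : Ideal Γ(X, U)) (hQ₀ : Q₀ ∈ minimalPrimes Γ(X, U))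
    (hle : Q₀ ≤ (hU.primeIdealOf ⟨x, hx⟩).asIdeal) :
    ∃ (ξ : X) (hξ : ξ ∈ U), closure {ξ} ∈ irreducibleComponents X ∧ ξ ⤳ x ∧
      (hU.primeIdealOf ⟨ξ, hξ⟩).asIdeal = Q₀ := by
  let P : Spec Γ(X, U) := ⟨Q₀, hQ₀.1.1⟩
  have hξU : hU.fromSpec P ∈ U := by
    have : hU.fromSpec P ∈ Set.range hU.fromSpec := Set.mem_range_self P
    rwa [hU.range_fromSpec] at this
  have hP : hU.primeIdealOf ⟨hU.fromSpec P, hξU⟩ = P :=
    hU.fromSpec.isOpenEmbedding.injective (hU.fromSpec_primeIdealOf ⟨_, hξU⟩)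
  refine ⟨hU.fromSpec P, hξU, ?_, ?_, congrArg PrimeSpectrum.asIdeal hP⟩
  · apply GenericDense68.closure_singleton_mem_irreducibleComponents
    intro y hy
    have hyU : y ∈ U := hy.mem_open U.isOpen hξU
    have h1 : hU.fromSpec (hU.primeIdealOf ⟨y, hyU⟩) = y := hU.fromSpec_primeIdealOf ⟨y, hyU⟩
    have h2 : (hU.primeIdealOf ⟨y, hyU⟩ : Spec Γ(X, U)) ⤳ P :=
      hU.fromSpec.isOpenEmbedding.isInducing.specializes_iff.mp (by rw [h1]; exact hy)
    have h3 : (hU.primeIdealOf ⟨y, hyU⟩).asIdeal ≤ Q₀ :=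
      (PrimeSpectrum.le_iff_specializes _ P).mpr h2
    have h4 : Q₀ ≤ (hU.primeIdealOf ⟨y, hyU⟩).asIdeal :=
      hQ₀.2 ⟨(hU.primeIdealOf ⟨y, hyU⟩).isPrime, bot_le⟩ h3
    have h5 : hU.primeIdealOf ⟨y, hyU⟩ = P := PrimeSpectrum.ext (le_antisymm h3 h4)
    rw [← h1, h5]
  · have h1 : P ⤳ hU.primeIdealOf ⟨x, hx⟩ := (PrimeSpectrum.le_iff_specializes P _).mp hle
    have h2 := h1.map hU.fromSpec.continuous
    rwa [hU.fromSpec_primeIdealOf ⟨x, hx⟩] at h2

/-- **Local dimension inequality** (EGA IV 5.6.5): for `f : X ⟶ S` locally of finite type over a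
locally Noetherian base and `x : X`, `dim O_{X,x} + trdeg κ(x)/κ(f x) ≤ dim O_{S,f x} + E` where `E`
bounds the transcendence degrees at the generic points of the components through `x`.
Both local dimensions are finite. -/
theorem stalk_ineq (H : DimIneq.{u}) [IsLocallyNoetherian S] [LocallyOfFiniteType f] (x : X)
    (E : Cardinal.{u})
    (hE : ∀ ξ : X, closure {ξ} ∈ irreducibleComponents X → ξ ⤳ x →
      letI := (f.residueFieldMap ξ).hom.toAlgebra
      Algebra.trdeg (S.residueField (f ξ)) (X.residueField ξ) ≤ E) :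
    ∃ a b : ℕ, ringKrullDim (X.presheaf.stalk x) = a ∧
      ringKrullDim (S.presheaf.stalk (f x)) = b ∧
      letI := (f.residueFieldMap x).hom.toAlgebra
      (a : Cardinal.{u}) + Algebra.trdeg (S.residueField (f x)) (X.residueField x) ≤ b + E := by
  obtain ⟨V, hV, hfxV⟩ : ∃ V : S.Opens, IsAffineOpen V ∧ f x ∈ V := by
    obtain ⟨_, ⟨V, hV, rfl⟩, hxV, -⟩ := S.isBasis_affineOpens.exists_subset_of_mem_open
      (Set.mem_univ (f x)) isOpen_univ
    exact ⟨V, hV, hxV⟩
  obtain ⟨U, hU, hx, e⟩ : ∃ U : X.Opens, IsAffineOpen U ∧ x ∈ U ∧ U ≤ f ⁻¹ᵁ V := by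
    obtain ⟨_, ⟨U, hU, rfl⟩, hxU, hUV⟩ := X.isBasis_affineOpens.exists_subset_of_mem_open
      (show x ∈ ((f ⁻¹ᵁ V : X.Opens) : Set X) from hfxV) (f ⁻¹ᵁ V).isOpen
    exact ⟨U, hU, hxU, hUV⟩
  letI alg := (f.appLE V U e).hom.toAlgebra
  haveI : IsNoetherianRing Γ(S, V) := IsLocallyNoetherian.component_noetherian ⟨V, hV⟩
  haveI : Algebra.FiniteType Γ(S, V) Γ(X, U) := f.finiteType_appLE hV hU e
  haveI : IsNoetherianRing Γ(X, U) := Algebra.FiniteType.isNoetherianRing Γ(S, V) Γ(X, U)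
  have hcore := core H (hU.primeIdealOf ⟨x, hx⟩).asIdeal E (by
    intro Q₀ hQ₀ hle
    obtain ⟨ξ, hξ, hirr, hspec, rfl⟩ := exists_generic_of_minimalPrime hU x hx Q₀ hQ₀ hle
    rw [← trdeg_residueField_eq f hU hV e ξ hξ]
    exact hE ξ hirr hspec)
  rw [← trdeg_residueField_eq f hU hV e x hx] at hcore
  have hunder : (hU.primeIdealOf ⟨x, hx⟩).asIdeal.under Γ(S, V) =
      (hV.primeIdealOf ⟨f x, e hx⟩).asIdeal :=
    congrArg PrimeSpectrum.asIdeal (IsAffineOpen.comap_primeIdealOf_appLE V hV U hU e hx)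
  rw [hunder] at hcore
  have hdimX : ringKrullDim (X.presheaf.stalk x) = (hU.primeIdealOf ⟨x, hx⟩).asIdeal.height := by
    letI := X.presheaf.algebra_section_stalk ⟨x, hx⟩
    haveI := hU.isLocalization_stalk ⟨x, hx⟩
    exact IsLocalization.AtPrime.ringKrullDim_eq_height _ _
  have hdimS : ringKrullDim (S.presheaf.stalk (f x)) =
      (hV.primeIdealOf ⟨f x, e hx⟩).asIdeal.height := by
    letI := S.presheaf.algebra_section_stalk ⟨f x, e hx⟩
    haveI := hV.isLocalization_stalk ⟨f x, e hx⟩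
    exact IsLocalization.AtPrime.ringKrullDim_eq_height _ _
  obtain ⟨a, ha⟩ := ENat.ne_top_iff_exists.mp
    (Ideal.height_ne_top_of_isPrime (I := (hU.primeIdealOf ⟨x, hx⟩).asIdeal))
  obtain ⟨b, hb⟩ := ENat.ne_top_iff_exists.mp
    (Ideal.height_ne_top_of_isPrime (I := (hV.primeIdealOf ⟨f x, e hx⟩).asIdeal))
  refine ⟨a, b, ?_, ?_, ?_⟩
  · rw [hdimX, ← ha]; rfl
  · rw [hdimS, ← hb]; rfl
  · rw [← ha, ← hb] at hcore
    simpa using hcore

end Sch

end Groth.Agent.Lib.DimIneqScheme
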