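import Groth.Agent.Lib.RegularLocal
import Groth.Agent.Lib.H29Depth
import Groth.Agent.S0560
import Groth.Prelude.Def_CInt
import Mathlib.Data.Fin.Tuple.Take
import Mathlib.RingTheory.Ideal.Quotient.Operations

set_option autoImplicit false
universe u
open IsLocalRing RingTheory.Sequence Pointwise

namespace Groth.Agent.Lib.H87RegIdeal

/-- If `A/(rs)` is a regular local ring for a regular sequence `rs` of the Noetherian local ring
`A`, then `A` is a regular local ring. -/
theorem isRegularLocalRing_of_isRegular_quotient (n : ℕ) :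
    ∀ (A : Type u) [CommRing A] [IsNoetherianRing A] [IsLocalRing A] (rs : List A),
      rs.length = n → IsRegular A rs → IsRegularLocalRing (A ⧸ Ideal.ofList rs) →
      IsRegularLocalRing A := by
  induction n with
  | zero =>
    intro A _ _ _ rs hlen _ hq
    have hnil : rs = [] := List.length_eq_zero_iff.mp hlen
    subst hnil
    have hbot : Ideal.ofList ([] : List A) = ⊥ := Ideal.ofList_nil
    exact IsRegularLocalRing.of_ringEquiv
      ((Ideal.quotEquivOfEq hbot).trans (RingEquiv.quotientBot A))
  | succ n ih =>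
    intro A _ _ _ rs hlen hreg hq
    obtain ⟨r, rs, rfl⟩ := List.exists_cons_of_length_eq_add_one hlen
    have hlen' : rs.length = n := by simpa using hlen
    have hJtop : Ideal.ofList (r :: rs) ≠ ⊤ := by
      intro h
      have : Subsingleton (A ⧸ Ideal.ofList (r :: rs)) := Ideal.Quotient.subsingleton_iff.mpr h
      have hnt : Nontrivial (A ⧸ Ideal.ofList (r :: rs)) := inferInstance
      exact not_subsingleton _ this
    have hrm : r ∈ maximalIdeal A := by
      apply le_maximalIdeal hJtop
      exact Ideal.subset_span (by simp)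
    rw [isRegular_cons_iff'] at hreg
    obtain ⟨hr, hrs⟩ := hreg
    have hrnzd : r ∈ nonZeroDivisors A := (isLeftRegular_iff_isRegular.mp hr).mem_nonZeroDivisors
    have hnt : Nontrivial (A ⧸ Ideal.span {r}) := by
      apply Ideal.Quotient.nontrivial_iff.mpr
      intro h
      have : (1 : A) ∈ Ideal.span {r} := by rw [h]; trivial
      have h1 : (1 : A) ∈ maximalIdeal A := (Ideal.span_singleton_le_iff_mem _).mpr hrm this
      exact (Ideal.ne_top_iff_one _).mp (IsLocalRing.maximalIdeal.isMaximal A).ne_top h1
    have hloc : IsLocalRing (A ⧸ Ideal.span {r}) :=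
      IsLocalRing.of_surjective' (Ideal.Quotient.mk (Ideal.span {r})) Ideal.Quotient.mk_surjective
    have h : Ideal.span {r} = r • (⊤ : Ideal A) := by
      simp [← Submodule.ideal_span_singleton_smul]
    let e : (A ⧸ Ideal.span ({r} : Set A)) ≃ₗ[A ⧸ Ideal.span ({r} : Set A)] QuotSMulTop r A :=
      (Submodule.quotEquivOfEq _ _ h).extendScalarsOfSurjective Ideal.Quotient.mk_surjective
    have hrs' : IsRegular (A ⧸ Ideal.span {r}) (rs.map (Ideal.Quotient.mk (Ideal.span {r}))) :=
      (e.isRegular_congr _).mpr hrs
    have hq' : IsRegularLocalRing ((A ⧸ Ideal.span {r}) ⧸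
        Ideal.ofList (rs.map (Ideal.Quotient.mk (Ideal.span {r})))) := by
      have h1 : Ideal.ofList (rs.map (Ideal.Quotient.mk (Ideal.span {r}))) =
          (Ideal.ofList rs).map (Ideal.Quotient.mk (Ideal.span {r})) := (Ideal.map_ofList _ _).symm
      have h2 : Ideal.span {r} ⊔ Ideal.ofList rs = Ideal.ofList (r :: rs) :=
        (Ideal.ofList_cons r rs).symm
      exact IsRegularLocalRing.of_ringEquiv
        (((Ideal.quotEquivOfEq h1).trans
          (DoubleQuot.quotQuotEquivQuotSup (Ideal.span {r}) (Ideal.ofList rs))).trans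
          (Ideal.quotEquivOfEq h2)).symm
    have := ih (A ⧸ Ideal.span {r}) _ (by simpa using hlen') hrs' hq'
    exact Groth.Agent.S0560.result A r hrm hrnzd

end Groth.Agent.Lib.H87RegIdeal

namespace Groth.Agent.Lib.H87RegIdeal

theorem ofList_ofFn {T : Type*} [CommRing T] {r : ℕ} (y : Fin r → T) :
    Ideal.ofList (List.ofFn y) = Ideal.span (Set.range y) := by
  unfold Ideal.ofList
  congr 1
  ext z
  simp [List.mem_ofFn]

/-- In a regular local ring, an ideal with regular quotient is generated by a regular sequence. -/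
theorem isRegularIdeal_of_isRegularLocalRing_quotient (A : Type u) [CommRing A]
    [IsRegularLocalRing A] (J : Ideal A) [IsRegularLocalRing (A ⧸ J)] : CInt.IsRegularIdeal J := by
  have hd : ringKrullDim A = ((maximalIdeal A).spanFinrank : ℕ) :=
    IsRegularLocalRing.spanFinrank_maximalIdeal.symm
  obtain ⟨x, c, hc, hx, hJ⟩ := Groth.Agent.Lib.RegularLocal.exists_generators A _ hd J
  have hreg := Groth.Agent.Lib.RegularLocal.isRegular_ofFn A _ hd x hx
  refine ⟨List.ofFn (Fin.take c hc x), ?_, ?_⟩
  · rw [Fin.ofFn_take_eq_take_ofFn]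
    apply IsRegular.of_isWeaklyRegular_of_mem_maximalIdeal
    · intro r hr
      have := List.mem_of_mem_take hr
      rw [List.mem_ofFn] at this
      obtain ⟨i, rfl⟩ := this
      rw [← hx]
      exact Ideal.subset_span ⟨i, rfl⟩
    · exact Groth.Agent.Lib.H29Depth.isWeaklyRegular_take A hreg.toIsWeaklyRegular c
  · rw [hJ, ofList_ofFn]
    rfl

/-- A Noetherian local ring `A` with `A/J` regular is regular iff `J` is generated by a regular
sequence. -/
theorem isRegularLocalRing_iff_isRegularIdeal (A : Type u) [CommRing A] [IsNoetherianRing A]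
    [IsLocalRing A] (J : Ideal A) [IsRegularLocalRing (A ⧸ J)] :
    IsRegularLocalRing A ↔ CInt.IsRegularIdeal J := by
  constructor
  · intro h
    exact isRegularIdeal_of_isRegularLocalRing_quotient A J
  · rintro ⟨rs, hreg, rfl⟩
    exact isRegularLocalRing_of_isRegular_quotient _ A rs rfl hreg inferInstance

end Groth.Agent.Lib.H87RegIdeal
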