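import Mathlib
import Groth.Agent.Lib.H87RegIdeal

/-!
# Power series rings over regular local rings are regular (helper33)

* `isRegularLocalRing_powerSeries` : `A` regular local ⇒ `A⟦X⟧` regular local;
* `isRegularLocalRing_mvPowerSeries_fin` : `A` regular local ⇒ `MvPowerSeries (Fin n) A` regular local.
-/

set_option autoImplicit false
set_option linter.style.haveILetI false
universe u

namespace Groth.Agent.Lib.PSRegular33

open IsLocalRing PowerSeries

variable (A : Type u) [CommRing A]

/-- `A⟦X⟧ / (X) ≃ A`. -/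
noncomputable def quotXEquiv : (A⟦X⟧ ⧸ Ideal.span {(X : A⟦X⟧)}) ≃+* A :=
  RingEquiv.ofBijective
    (Ideal.Quotient.lift (Ideal.span {(X : A⟦X⟧)}) (constantCoeff (R := A)) (by
      intro a ha
      rw [Ideal.mem_span_singleton, X_dvd_iff] at ha
      exact ha))
    (by
      constructor
      · rw [injective_iff_map_eq_zero]
        intro x hx
        obtain ⟨a, rfl⟩ := Ideal.Quotient.mk_surjective x
        rw [Ideal.Quotient.lift_mk] at hx
        rw [Ideal.Quotient.eq_zero_iff_mem, Ideal.mem_span_singleton, X_dvd_iff]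
        exact hx
      · intro a
        exact ⟨Ideal.Quotient.mk _ (C a), by rw [Ideal.Quotient.lift_mk]; simp⟩)

theorem isRegularLocalRing_powerSeries [IsRegularLocalRing A] : IsRegularLocalRing A⟦X⟧ := by
  have hX : (X : A⟦X⟧) ∈ maximalIdeal A⟦X⟧ := by
    rw [mem_maximalIdeal, mem_nonunits_iff]
    intro hu
    have := (isUnit_iff_constantCoeff (φ := (X : A⟦X⟧))).mp hu
    rw [constantCoeff_X] at this
    exact not_isUnit_zero this
  have hreg : RingTheory.Sequence.IsRegular A⟦X⟧ [(X : A⟦X⟧)] := by
    apply RingTheory.Sequence.IsRegular.of_isWeaklyRegular_of_mem_maximalIdeal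
    · intro r hr
      rw [List.mem_singleton] at hr
      rw [hr]
      exact hX
    · rw [RingTheory.Sequence.isWeaklyRegular_singleton_iff]
      intro a b hab
      have h1 : (X : A⟦X⟧) * a = X * b := hab
      exact X_mul_cancel h1
  have hofList : Ideal.ofList [(X : A⟦X⟧)] = Ideal.span {(X : A⟦X⟧)} := by
    rw [Ideal.ofList_singleton]
  have hq : IsRegularLocalRing (A⟦X⟧ ⧸ Ideal.ofList [(X : A⟦X⟧)]) := by
    rw [hofList]
    exact IsRegularLocalRing.of_ringEquiv (quotXEquiv A).symm
  exact H87RegIdeal.isRegularLocalRing_of_isRegular_quotient 1 A⟦X⟧ [X] rfl hreg hq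

theorem isRegularLocalRing_mvPowerSeries_fin [IsRegularLocalRing A] (n : ℕ) :
    IsRegularLocalRing (MvPowerSeries (Fin n) A) := by
  induction n with
  | zero =>
    exact IsRegularLocalRing.of_ringEquiv (MvPowerSeries.isEmptyEquiv (Fin 0) A).toRingEquiv.symm
  | succ n ih =>
    haveI := ih
    haveI := isRegularLocalRing_powerSeries (MvPowerSeries (Fin n) A)
    exact IsRegularLocalRing.of_ringEquiv (MvPowerSeries.finSuccEquiv A n).toRingEquiv.symm

end Groth.Agent.Lib.PSRegular33
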