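import Mathlib.RingTheory.AdicCompletion.Completeness
import Mathlib.RingTheory.MvPowerSeries.Equiv
import Mathlib.RingTheory.MvPowerSeries.Inverse

/-!
# Power series rings over complete rings (helper59)

For a finite index type `σ` and a commutative ring `R`:

* `mem_pow_span_X_of_coeff_eq_zero`: a power series with vanishing coefficients in degrees `< N` lies in `(X)^N`.
* `exists_eval`, `eval_unique`: `R`-algebra maps `R[[X]] → B` with prescribed nilpotent images of the variables exist
  and are unique.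
* `bigIdeal σ m = (X) + m R[[X]]`, `bigIdeal_pow_eq`: its powers are described coefficientwise;
  `isAdicComplete_bigIdeal`: if `R` is `m`-adically complete then `R[[X]]` is `bigIdeal σ m`-adically complete.
* `maximalIdeal_eq_bigIdeal`: for local `R` the maximal ideal of `R[[X]]` is `bigIdeal σ (maximalIdeal R)`.
-/

set_option autoImplicit false
set_option linter.unusedSectionVars false

open MvPowerSeries Finsupp

namespace Groth.Agent.Lib.H59PowerSeries

variable {σ R : Type*} [Finite σ] [CommRing R]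

theorem coe_mem_pow_span_X (N : ℕ) (p : MvPolynomial σ R) (hp : p ∈ MvPolynomial.idealOfVars σ R ^ N) :
    (p : MvPowerSeries σ R) ∈ (Ideal.span (Set.range (X : σ → MvPowerSeries σ R))) ^ N := by
  have h1 : (MvPolynomial.idealOfVars σ R ^ N).map (MvPolynomial.coeToMvPowerSeries.ringHom (R := R) (σ := σ)) ≤
      (Ideal.span (Set.range (X : σ → MvPowerSeries σ R))) ^ N := by
    rw [Ideal.map_pow]
    apply Ideal.pow_right_mono
    rw [MvPolynomial.idealOfVars, Ideal.map_span]
    apply Ideal.span_mono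
    rintro _ ⟨_, ⟨i, rfl⟩, rfl⟩
    exact ⟨i, (MvPolynomial.coe_X i).symm⟩
  exact h1 (Ideal.mem_map_of_mem _ hp)

theorem mem_pow_span_X_of_coeff_eq_zero (N : ℕ) (f : MvPowerSeries σ R)
    (hf : ∀ e : σ →₀ ℕ, e.degree < N → coeff e f = 0) :
    f ∈ (Ideal.span (Set.range (X : σ → MvPowerSeries σ R))) ^ N := by
  classical
  have htr : truncTotal N f = 0 := by
    ext e
    rw [MvPolynomial.coeff_zero]
    by_cases he : e.degree < N
    · rw [coeff_truncTotal _ he, hf e he]
    · exact coeff_truncTotal_eq_zero _ (not_lt.1 he)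
  have hker : toAdicCompletion σ R f ∈
      LinearMap.ker (AdicCompletion.eval (MvPolynomial.idealOfVars σ R) (MvPolynomial σ R) N) := by
    rw [LinearMap.mem_ker, AdicCompletion.eval_apply, toAdicCompletion_apply_eq_mk_truncTotal, htr]
    rfl
  rw [← AdicCompletion.pow_smul_top_eq_ker_eval (MvPolynomial.idealOfVars_fg σ R)] at hker
  have key : ∀ y ∈ (MvPolynomial.idealOfVars σ R ^ N • (⊤ : Submodule (MvPolynomial σ R)
      (AdicCompletion (MvPolynomial.idealOfVars σ R) (MvPolynomial σ R)))),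
      (toAdicCompletionAlgEquiv σ R).symm y ∈ (Ideal.span (Set.range (X : σ → MvPowerSeries σ R))) ^ N := by
    intro y hy
    refine Submodule.smul_induction_on hy ?_ ?_
    · intro i hi x _
      rw [map_smul, Algebra.smul_def]
      exact Ideal.mul_mem_right _ _ (coe_mem_pow_span_X N i hi)
    · intro x y hx hy
      rw [map_add]
      exact Ideal.add_mem _ hx hy
  have := key _ hker
  rw [← toAdicCompletionAlgEquiv_apply, AlgEquiv.symm_apply_apply] at this
  exact this

theorem sub_truncTotal_mem (N : ℕ) (f : MvPowerSeries σ R) :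
    f - ((truncTotal N f : MvPolynomial σ R) : MvPowerSeries σ R) ∈
      (Ideal.span (Set.range (X : σ → MvPowerSeries σ R))) ^ N := by
  apply mem_pow_span_X_of_coeff_eq_zero
  intro e he
  rw [map_sub, MvPolynomial.coeff_coe, coeff_truncTotal _ he, sub_self]

theorem exists_eval {B : Type*} [CommRing B] [Algebra R B] (𝔫 : Ideal B) (N : ℕ) (h𝔫 : 𝔫 ^ N = ⊥)
    (b : σ → B) (hb : ∀ i, b i ∈ 𝔫) :
    ∃ φ : MvPowerSeries σ R →ₐ[R] B, ∀ p : MvPolynomial σ R, φ p = MvPolynomial.aeval b p := by
  have h0 : ∀ p ∈ MvPolynomial.idealOfVars σ R ^ N, MvPolynomial.aeval b p = 0 := by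
    intro p hp
    have h1 : (MvPolynomial.idealOfVars σ R ^ N).map ((MvPolynomial.aeval b : MvPolynomial σ R →ₐ[R] B) : MvPolynomial σ R →+* B) ≤ ⊥ := by
      rw [Ideal.map_pow, ← h𝔫]
      apply Ideal.pow_right_mono
      rw [MvPolynomial.idealOfVars, Ideal.map_span, Ideal.span_le]
      rintro _ ⟨_, ⟨i, rfl⟩, rfl⟩
      change MvPolynomial.aeval b (MvPolynomial.X i) ∈ 𝔫
      rw [MvPolynomial.aeval_X]
      exact hb i
    have := h1 (Ideal.mem_map_of_mem _ hp)
    rw [Ideal.mem_bot] at this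
    exact this
  refine ⟨(Ideal.Quotient.liftₐ (MvPolynomial.idealOfVars σ R ^ N) (MvPolynomial.aeval b) h0).comp
    ((truncTotalAlgHom σ R N).restrictScalars R), ?_⟩
  intro p
  change Ideal.Quotient.liftₐ _ _ h0 (truncTotalAlgHom σ R N (algebraMap (MvPolynomial σ R) (MvPowerSeries σ R) p)) = _
  rw [AlgHom.commutes]
  rfl

theorem eval_unique {B : Type*} [CommRing B] [Algebra R B] (𝔫 : Ideal B) (N : ℕ) (h𝔫 : 𝔫 ^ N = ⊥)
    (φ φ' : MvPowerSeries σ R →ₐ[R] B) (hφ : ∀ i, φ (X i) ∈ 𝔫) (h : ∀ i, φ (X i) = φ' (X i)) :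
    φ = φ' := by
  have hcomp : φ.comp (MvPolynomial.coeToMvPowerSeries.algHom R) = φ'.comp (MvPolynomial.coeToMvPowerSeries.algHom R) := by
    apply MvPolynomial.algHom_ext
    intro i
    change φ ((MvPolynomial.X i : MvPolynomial σ R) : MvPowerSeries σ R) = φ' ((MvPolynomial.X i : MvPolynomial σ R) : MvPowerSeries σ R)
    rw [MvPolynomial.coe_X]
    exact h i
  have hkill : ∀ ψ : MvPowerSeries σ R →ₐ[R] B, (∀ i, ψ (X i) ∈ 𝔫) →
      ∀ g ∈ (Ideal.span (Set.range (X : σ → MvPowerSeries σ R))) ^ N, ψ g = 0 := by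
    intro ψ hψ g hg
    have h1 : ((Ideal.span (Set.range (X : σ → MvPowerSeries σ R))) ^ N).map (ψ : MvPowerSeries σ R →+* B) ≤ ⊥ := by
      rw [Ideal.map_pow, ← h𝔫]
      apply Ideal.pow_right_mono
      rw [Ideal.map_span, Ideal.span_le]
      rintro _ ⟨_, ⟨i, rfl⟩, rfl⟩
      exact hψ i
    have := h1 (Ideal.mem_map_of_mem _ hg)
    rw [Ideal.mem_bot] at this
    exact this
  apply AlgHom.ext
  intro f
  have h1 := hkill φ hφ _ (sub_truncTotal_mem N f)
  have h2 := hkill φ' (fun i => by rw [← h i]; exact hφ i) _ (sub_truncTotal_mem N f)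
  rw [map_sub, sub_eq_zero] at h1 h2
  rw [h1, h2]
  exact DFunLike.congr_fun hcomp (truncTotal N f)

variable (σ) in
/-- the ideal `(X) + m R[[X]]`. -/
noncomputable def bigIdeal (m : Ideal R) : Ideal (MvPowerSeries σ R) :=
  Ideal.span (Set.range (X : σ → MvPowerSeries σ R)) ⊔ m.map (C : R →+* MvPowerSeries σ R)

variable (σ) in
/-- power series whose coefficient at `e` lies in `m^(N - |e|)`. -/
def coeffIdeal (m : Ideal R) (N : ℕ) : Ideal (MvPowerSeries σ R) where
  carrier := {f | ∀ e : σ →₀ ℕ, coeff e f ∈ m ^ (N - e.degree)}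
  add_mem' := by
    intro f g hf hg e
    rw [map_add]
    exact Ideal.add_mem _ (hf e) (hg e)
  zero_mem' := by
    intro e
    rw [map_zero]
    exact Ideal.zero_mem _
  smul_mem' := by
    classical
    intro g f hf e
    rw [smul_eq_mul, coeff_mul]
    apply Ideal.sum_mem
    rintro ⟨e₁, e₂⟩ he
    rw [Finset.mem_antidiagonal] at he
    apply Ideal.mul_mem_left
    refine Ideal.pow_le_pow_right ?_ (hf e₂)
    have : e.degree = e₁.degree + e₂.degree := by rw [← he, map_add]
    omega

theorem mem_coeffIdeal {m : Ideal R} {N : ℕ} {f : MvPowerSeries σ R} :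
    f ∈ coeffIdeal σ m N ↔ ∀ e : σ →₀ ℕ, coeff e f ∈ m ^ (N - e.degree) := Iff.rfl

theorem coeffIdeal_mul_le (m : Ideal R) (a b : ℕ) :
    coeffIdeal σ m a * coeffIdeal σ m b ≤ coeffIdeal σ m (a + b) := by
  classical
  rw [Ideal.mul_le]
  intro f hf g hg e
  rw [coeff_mul]
  apply Ideal.sum_mem
  rintro ⟨e₁, e₂⟩ he
  rw [Finset.mem_antidiagonal] at he
  have hd : e.degree = e₁.degree + e₂.degree := by rw [← he, map_add]
  have h1 : coeff e₁ f * coeff e₂ g ∈ m ^ (a - e₁.degree) * m ^ (b - e₂.degree) :=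
    Ideal.mul_mem_mul (hf e₁) (hg e₂)
  rw [← pow_add] at h1
  refine Ideal.pow_le_pow_right ?_ h1
  omega

theorem bigIdeal_le_coeffIdeal_one (m : Ideal R) : bigIdeal σ m ≤ coeffIdeal σ m 1 := by
  classical
  rw [bigIdeal, sup_le_iff]
  constructor
  · rw [Ideal.span_le]
    rintro _ ⟨i, rfl⟩ e
    rw [coeff_X]
    split_ifs with h
    · rw [h, degree_single, Nat.sub_self, pow_zero, Ideal.one_eq_top]
      trivial
    · exact Ideal.zero_mem _
  · rw [Ideal.map_le_iff_le_comap]
    intro c hc e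
    rw [coeff_C]
    split_ifs with h
    · rw [h, map_zero, Nat.sub_zero, pow_one]
      exact hc
    · exact Ideal.zero_mem _

theorem bigIdeal_pow_le (m : Ideal R) (N : ℕ) : bigIdeal σ m ^ N ≤ coeffIdeal σ m N := by
  induction N with
  | zero =>
    intro f _ e
    rw [Nat.zero_sub, pow_zero, Ideal.one_eq_top]
    trivial
  | succ N ih =>
    rw [pow_succ]
    exact (Ideal.mul_mono ih (bigIdeal_le_coeffIdeal_one m)).trans (coeffIdeal_mul_le m N 1)

theorem coe_monomial_mem (m : Ideal R) (N : ℕ) (e : σ →₀ ℕ) (c : R) (he : e.degree ≤ N)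
    (hc : c ∈ m ^ (N - e.degree)) :
    ((MvPolynomial.monomial e c : MvPolynomial σ R) : MvPowerSeries σ R) ∈ bigIdeal σ m ^ N := by
  have h1 : ((MvPolynomial.monomial e c : MvPolynomial σ R) : MvPowerSeries σ R) =
      C c * ((MvPolynomial.monomial e 1 : MvPolynomial σ R) : MvPowerSeries σ R) := by
    rw [MvPolynomial.coe_monomial, MvPolynomial.coe_monomial, ← monomial_zero_eq_C_apply,
      monomial_mul_monomial, zero_add, mul_one]
  have h2 : (C c : MvPowerSeries σ R) ∈ bigIdeal σ m ^ (N - e.degree) := by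
    have : (m ^ (N - e.degree)).map (C : R →+* MvPowerSeries σ R) ≤ bigIdeal σ m ^ (N - e.degree) := by
      rw [Ideal.map_pow]
      exact Ideal.pow_right_mono le_sup_right _
    exact this (Ideal.mem_map_of_mem _ hc)
  have h3 : ((MvPolynomial.monomial e 1 : MvPolynomial σ R) : MvPowerSeries σ R) ∈
      bigIdeal σ m ^ e.degree := by
    refine Ideal.pow_right_mono le_sup_left _ (coe_mem_pow_span_X _ _ ?_)
    rw [MvPolynomial.mem_pow_idealOfVars_iff']
    intro x hx
    classical
    rw [MvPolynomial.coeff_monomial, if_neg]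
    rintro rfl
    exact lt_irrefl _ hx
  rw [h1]
  have h4 : N = (N - e.degree) + e.degree := by omega
  rw [h4, pow_add]
  exact Ideal.mul_mem_mul h2 h3

theorem coeffIdeal_le (m : Ideal R) (N : ℕ) : coeffIdeal σ m N ≤ bigIdeal σ m ^ N := by
  classical
  intro f hf
  have h1 : f = ((truncTotal N f : MvPolynomial σ R) : MvPowerSeries σ R) +
      (f - ((truncTotal N f : MvPolynomial σ R) : MvPowerSeries σ R)) := by ring
  rw [h1]
  refine Ideal.add_mem _ ?_ (Ideal.pow_right_mono le_sup_left _ (sub_truncTotal_mem N f))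
  rw [(truncTotal N f).as_sum]
  change MvPolynomial.coeToMvPowerSeries.ringHom (∑ v ∈ (truncTotal N f).support,
    (MvPolynomial.monomial v) (MvPolynomial.coeff v ((truncTotal N) f))) ∈ _
  rw [map_sum]
  apply Ideal.sum_mem
  intro e he
  have hdeg : e.degree < N := by
    by_contra hcon
    rw [MvPolynomial.mem_support_iff] at he
    exact he (coeff_truncTotal_eq_zero _ (not_lt.1 hcon))
  change ((MvPolynomial.monomial e (MvPolynomial.coeff e (truncTotal N f)) : MvPolynomial σ R) :
    MvPowerSeries σ R) ∈ _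
  apply coe_monomial_mem m N e _ hdeg.le
  rw [coeff_truncTotal _ hdeg]
  exact hf e

theorem bigIdeal_pow_eq (m : Ideal R) (N : ℕ) : bigIdeal σ m ^ N = coeffIdeal σ m N :=
  le_antisymm (bigIdeal_pow_le m N) (coeffIdeal_le m N)

theorem isHausdorff_bigIdeal (m : Ideal R) [IsHausdorff m R] :
    IsHausdorff (bigIdeal σ m) (MvPowerSeries σ R) := by
  refine ⟨fun f hf => ?_⟩
  ext e
  rw [map_zero]
  apply IsHausdorff.haus (inferInstance : IsHausdorff m R)
  intro j
  rw [SModEq.zero, smul_eq_mul, Ideal.mul_top]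
  have h := hf (j + e.degree)
  rw [SModEq.zero, smul_eq_mul, Ideal.mul_top, bigIdeal_pow_eq] at h
  have := h e
  rwa [Nat.add_sub_cancel] at this

theorem isPrecomplete_bigIdeal (m : Ideal R) [IsPrecomplete m R] :
    IsPrecomplete (bigIdeal σ m) (MvPowerSeries σ R) := by
  refine ⟨fun f hf => ?_⟩
  have hc : ∀ e : σ →₀ ℕ, ∃ L : R, ∀ j, coeff e (f (j + e.degree)) - L ∈ m ^ j := by
    intro e
    obtain ⟨L, hL⟩ := IsPrecomplete.prec (inferInstance : IsPrecomplete m R)
      (f := fun j => coeff e (f (j + e.degree))) (by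
      intro a b hab
      rw [SModEq.sub_mem, smul_eq_mul, Ideal.mul_top]
      have h := hf (show a + e.degree ≤ b + e.degree by omega)
      rw [SModEq.sub_mem, smul_eq_mul, Ideal.mul_top, bigIdeal_pow_eq] at h
      have := h e
      rwa [map_sub, Nat.add_sub_cancel] at this)
    refine ⟨L, fun j => ?_⟩
    have := hL j
    rwa [SModEq.sub_mem, smul_eq_mul, Ideal.mul_top] at this
  choose L hL using hc
  let Lf : MvPowerSeries σ R := fun e => L e
  have hLf : ∀ e, coeff e Lf = L e := fun e => rfl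
  refine ⟨Lf, fun n => ?_⟩
  rw [SModEq.sub_mem, smul_eq_mul, Ideal.mul_top, bigIdeal_pow_eq]
  intro e
  rw [map_sub, hLf]
  by_cases hne : e.degree ≤ n
  · have := hL e (n - e.degree)
    rw [Nat.sub_add_cancel hne] at this
    exact this
  · rw [Nat.sub_eq_zero_of_le (le_of_not_ge hne), pow_zero, Ideal.one_eq_top]
    trivial

theorem isAdicComplete_bigIdeal (m : Ideal R) [IsAdicComplete m R] :
    IsAdicComplete (bigIdeal σ m) (MvPowerSeries σ R) :=
  { isHausdorff_bigIdeal m, isPrecomplete_bigIdeal m with }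


theorem maximalIdeal_eq_bigIdeal [IsLocalRing R] :
    IsLocalRing.maximalIdeal (MvPowerSeries σ R) = bigIdeal σ (IsLocalRing.maximalIdeal R) := by
  ext f
  have h1 : f ∈ bigIdeal σ (IsLocalRing.maximalIdeal R) ↔ coeff 0 f ∈ IsLocalRing.maximalIdeal R := by
    rw [← pow_one (bigIdeal σ (IsLocalRing.maximalIdeal R)), bigIdeal_pow_eq, mem_coeffIdeal]
    constructor
    · intro h
      have := h 0
      rwa [map_zero, Nat.sub_zero, pow_one] at this
    · intro h e
      by_cases he : e = 0
      · rw [he, map_zero, Nat.sub_zero, pow_one]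
        exact h
      · have : 1 ≤ e.degree := by
          rw [Nat.one_le_iff_ne_zero]
          intro h0
          exact he ((Finsupp.degree_eq_zero_iff e).1 h0)
        rw [Nat.sub_eq_zero_of_le this, pow_zero, Ideal.one_eq_top]
        trivial
  rw [h1, IsLocalRing.mem_maximalIdeal, IsLocalRing.mem_maximalIdeal, mem_nonunits_iff, mem_nonunits_iff,
    MvPowerSeries.isUnit_iff_constantCoeff, coeff_zero_eq_constantCoeff_apply]

end Groth.Agent.Lib.H59PowerSeries
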