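/-
EGA 0_III 10.3.1: flat local extensions of Noetherian local rings with prescribed residue field.
Part 1: rigidified stages, their preorder, the base stage.
Author: helper89
-/
import Mathlib.RingTheory.LocalRing.ResidueField.Basic
import Mathlib.RingTheory.Flat.Basic
import Mathlib.RingTheory.RingHom.Flat
import Mathlib.RingTheory.Noetherian.Basic
import Mathlib.RingTheory.Adjoin.Basic
import Mathlib.Order.Zorn

set_option autoImplicit false

namespace Groth.Agent.Lib.ResExt

open IsLocalRing

universe u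

variable (A : Type u) [CommRing A] [IsLocalRing A]
  (K : Type u) [Field K] [Algebra (ResidueField A) K]

/-- A stage of the construction: a Noetherian local flat `A`-algebra `B` with `m_A B = m_B`, a
residue map `res : B → K` with kernel `m_B`, and a family of marked elements `gen s`, `s ∈ S`,
lifting `s`, which generate `B` as a local `A`-algebra. -/
structure Stage where
  /-- the set of elements of `K` adjoined so far -/
  S : Set K
  /-- the ring -/
  B : Type u
  [cr : CommRing B]
  [alg : Algebra A B]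
  [noeth : IsNoetherianRing B]
  [loc : IsLocalRing B]
  [flat : Module.Flat A B]
  /-- the residue map -/
  res : B →+* K
  /-- the marked elements -/
  gen : K → B
  hmax : (maximalIdeal A).map (algebraMap A B) = maximalIdeal B
  hker : RingHom.ker res = maximalIdeal B
  hres : ∀ a : A, res (algebraMap A B a) = algebraMap (ResidueField A) K (residue A a)
  hgen : ∀ s ∈ S, res (gen s) = s
  hspan : ∀ b : B, ∃ x y, x ∈ Algebra.adjoin A (gen '' S) ∧ y ∈ Algebra.adjoin A (gen '' S) ∧
    IsUnit y ∧ b * y = x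

attribute [instance] Stage.cr Stage.alg Stage.noeth Stage.loc Stage.flat

variable {A K}

/-- A morphism of stages (as a proposition): a flat `A`-algebra map compatible with the marked
elements and the residue maps. -/
def Stage.Hom (T T' : Stage A K) : Prop :=
  ∃ ψ : T.B →ₐ[A] T'.B, ψ.toRingHom.Flat ∧ (∀ s ∈ T.S, ψ (T.gen s) = T'.gen s) ∧
    ∀ b, T'.res (ψ b) = T.res b

/-- Algebra maps out of a stage are determined by the images of the marked elements. -/
theorem Stage.algHom_ext (T : Stage A K) {C : Type*} [CommRing C] [Algebra A C]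
    (ψ ψ' : T.B →ₐ[A] C) (h : ∀ s ∈ T.S, ψ (T.gen s) = ψ' (T.gen s)) : ψ = ψ' := by
  have hle : Algebra.adjoin A (T.gen '' T.S) ≤ AlgHom.equalizer ψ ψ' := by
    apply AlgHom.adjoin_le_equalizer
    rintro _ ⟨s, hs, rfl⟩
    exact h s hs
  apply AlgHom.ext
  intro b
  obtain ⟨x, y, hx, hy, hyu, hb⟩ := T.hspan b
  have h1 : ψ x = ψ' x := hle hx
  have h2 : ψ y = ψ' y := hle hy
  have h3 : ψ b * ψ y = ψ' b * ψ y := by
    rw [← map_mul, hb, h1, ← hb, map_mul, h2]
  exact (hyu.map ψ).mul_left_injective h3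

theorem Stage.Hom.refl (T : Stage A K) : T.Hom T :=
  ⟨AlgHom.id A T.B, RingHom.Flat.id _, fun _ _ => rfl, fun _ => rfl⟩

theorem Stage.Hom.trans {T T' T'' : Stage A K} (h : T.Hom T') (h' : T'.Hom T'')
    (hS : T.S ⊆ T'.S) : T.Hom T'' := by
  obtain ⟨ψ, hψ, hg, hr⟩ := h
  obtain ⟨ψ', hψ', hg', hr'⟩ := h'
  refine ⟨ψ'.comp ψ, ?_, ?_, ?_⟩
  · exact RingHom.Flat.comp hψ hψ'
  · intro s hs
    show ψ' (ψ (T.gen s)) = _
    rw [hg s hs, hg' s (hS hs)]
  · intro b
    show T''.res (ψ' (ψ b)) = _
    rw [hr', hr]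

instance : Preorder (Stage A K) where
  le T T' := T = T' ∨ (T.S ⊂ T'.S ∧ T.Hom T')
  le_refl T := Or.inl rfl
  le_trans T T' T'' h h' := by
    rcases h with rfl | ⟨hS, hH⟩
    · exact h'
    · rcases h' with rfl | ⟨hS', hH'⟩
      · exact Or.inr ⟨hS, hH⟩
      · exact Or.inr ⟨hS.trans hS', hH.trans hH' hS.subset⟩

theorem Stage.le_def {T T' : Stage A K} : T ≤ T' ↔ T = T' ∨ (T.S ⊂ T'.S ∧ T.Hom T') := Iff.rfl

theorem Stage.subset_of_le {T T' : Stage A K} (h : T ≤ T') : T.S ⊆ T'.S := by
  rcases h with rfl | ⟨hS, -⟩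
  · exact subset_rfl
  · exact hS.subset

theorem Stage.hom_of_le {T T' : Stage A K} (h : T ≤ T') : T.Hom T' := by
  rcases h with rfl | ⟨-, hH⟩
  · exact Stage.Hom.refl _
  · exact hH

/-- The residue map of a stage is local. -/
theorem Stage.isUnit_of_res_ne_zero (T : Stage A K) {b : T.B} (hb : T.res b ≠ 0) : IsUnit b := by
  by_contra h
  have : b ∈ maximalIdeal T.B := h
  rw [← T.hker] at this
  exact hb this

theorem Stage.res_ne_zero_of_isUnit (T : Stage A K) {b : T.B} (hb : IsUnit b) : T.res b ≠ 0 :=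
  (hb.map T.res).ne_zero

/-- The structure map of a stage is local. -/
theorem Stage.isLocalHom_algebraMap (T : Stage A K) : IsLocalHom (algebraMap A T.B) := by
  refine ⟨fun a ha => ?_⟩
  by_contra h
  have h1 : a ∈ maximalIdeal A := h
  have h2 : algebraMap A T.B a ∈ maximalIdeal T.B := by
    rw [← T.hmax]
    exact Ideal.mem_map_of_mem _ h1
  exact h2 ha

variable (A K) in
/-- The base stage `B = A`. -/
noncomputable def baseStage [IsNoetherianRing A] : Stage A K where
  S := ∅
  B := A
  res := (algebraMap (ResidueField A) K).comp (residue A)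
  gen := fun _ => 0
  hmax := by simp
  hker := by
    ext a
    rw [RingHom.mem_ker, RingHom.comp_apply, map_eq_zero, residue_eq_zero_iff]
  hres := fun a => rfl
  hgen := fun s hs => absurd hs (Set.notMem_empty s)
  hspan := fun b => ⟨b, 1, by
    rw [Set.image_empty, Algebra.adjoin_empty]
    exact ⟨b, rfl⟩, Subalgebra.one_mem _, isUnit_one, mul_one b⟩

end Groth.Agent.Lib.ResExt
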