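/-
Flatness and direct limits of rings (equational criterion).
Author: helper89
-/
import Mathlib.Algebra.Colimit.Ring
import Mathlib.RingTheory.Flat.EquationalCriterion
import Mathlib.RingTheory.RingHom.Flat

set_option autoImplicit false

namespace Groth.Agent.Lib.DirLimFlat

universe u v

variable {ι : Type u} [Preorder ι] [Nonempty ι] [IsDirected ι (· ≤ ·)]
    (G : ι → Type v) [∀ i, CommRing (G i)]
    (f : ∀ i j, i ≤ j → G i →+* G j) [DirectedSystem G fun i j h => f i j h]

omit [DirectedSystem G fun i j h => f i j h] in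
/-- Finitely many elements of a direct limit come from a common stage, above a given one. -/
theorem exists_common_lift (i₀ : ι) {l : ℕ} (x : Fin l → Ring.DirectLimit G fun i j h => f i j h) :
    ∃ (j : ι) (_ : i₀ ≤ j) (y : Fin l → G j),
      ∀ a, Ring.DirectLimit.of G (fun i j h => f i j h) j (y a) = x a := by
  classical
  choose idx elt helt using fun a => Ring.DirectLimit.exists_of (x a)
  obtain ⟨j, hj⟩ := Finset.exists_le (insert i₀ (Finset.univ.image idx))
  have h0 : i₀ ≤ j := hj i₀ (Finset.mem_insert_self _ _)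
  have hidx : ∀ a, idx a ≤ j := fun a =>
    hj (idx a) (Finset.mem_insert_of_mem (Finset.mem_image_of_mem idx (Finset.mem_univ a)))
  refine ⟨j, h0, fun a => f (idx a) j (hidx a) (elt a), fun a => ?_⟩
  rw [Ring.DirectLimit.of_f, helt]

/-- If all transition maps out of `i` are flat, so is the map to the direct limit. -/
theorem flat_of (i : ι) (hflat : ∀ j (h : i ≤ j), (f i j h).Flat) :
    (Ring.DirectLimit.of G (fun i j h => f i j h) i).Flat := by
  let _ := (Ring.DirectLimit.of G (fun i j h => f i j h) i).toAlgebra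
  show Module.Flat (G i) (Ring.DirectLimit G fun i j h => f i j h)
  rw [Module.Flat.iff_forall_isTrivialRelation]
  intro l c x hcx
  obtain ⟨j, hij, y, hy⟩ := exists_common_lift G f i x
  have h1 : Ring.DirectLimit.of G (fun i j h => f i j h) j (∑ a, f i j hij (c a) * y a) = 0 := by
    rw [map_sum, ← hcx]
    refine Finset.sum_congr rfl fun a _ => ?_
    rw [map_mul, Ring.DirectLimit.of_f, hy, Algebra.smul_def]
    rfl
  obtain ⟨k, hjk, hk⟩ := Ring.DirectLimit.of.zero_exact h1
  have hik : i ≤ k := hij.trans hjk
  let _ := (f i k hik).toAlgebra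
  have hfl : Module.Flat (G i) (G k) := hflat k hik
  have h2 : ∑ a, c a • f j k hjk (y a) = 0 := by
    rw [← hk, map_sum]
    refine Finset.sum_congr rfl fun a _ => ?_
    rw [map_mul, Algebra.smul_def]
    congr 1
    exact (DirectedSystem.map_map (f := fun i j h => f i j h) hij hjk (c a)).symm
  obtain ⟨m, α, z, hz1, hz2⟩ := Module.Flat.isTrivialRelation_of_sum_smul_eq_zero h2
  refine ⟨m, α, fun b => Ring.DirectLimit.of G (fun i j h => f i j h) k (z b), fun a => ?_, hz2⟩
  have hz1a : f j k hjk (y a) = ∑ b, α a b • z b := hz1 a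
  rw [← hy a, ← Ring.DirectLimit.of_f hjk, hz1a, map_sum]
  refine Finset.sum_congr rfl fun b _ => ?_
  rw [Algebra.smul_def, Algebra.smul_def, map_mul]
  congr 1
  exact Ring.DirectLimit.of_f hik (α a b)

omit [DirectedSystem G fun i j h => f i j h] in
/-- A module over the direct limit which is flat over every stage is flat. -/
theorem flat_of_forall_flat (N : Type*) [AddCommGroup N]
    [Module (Ring.DirectLimit G fun i j h => f i j h) N] [∀ j, Module (G j) N]
    (hcompat : ∀ j (r : G j) (n : N),
      r • n = Ring.DirectLimit.of G (fun i j h => f i j h) j r • n)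
    (h : ∀ j, Module.Flat (G j) N) :
    Module.Flat (Ring.DirectLimit G fun i j h => f i j h) N := by
  rw [Module.Flat.iff_forall_isTrivialRelation]
  intro l c x hcx
  obtain ⟨j, -, d, hd⟩ := exists_common_lift G f (Classical.arbitrary ι) c
  have h2 : ∑ a, d a • x a = 0 := by
    rw [← hcx]
    refine Finset.sum_congr rfl fun a _ => ?_
    rw [hcompat, hd]
  have := h j
  obtain ⟨m, α, z, hz1, hz2⟩ := Module.Flat.isTrivialRelation_of_sum_smul_eq_zero h2
  refine ⟨m, fun a b => Ring.DirectLimit.of G (fun i j h => f i j h) j (α a b), z, fun a => ?_,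
    fun b => ?_⟩
  · rw [hz1 a]
    refine Finset.sum_congr rfl fun b _ => ?_
    rw [hcompat]
  · have := congrArg (Ring.DirectLimit.of G (fun i j h => f i j h) j) (hz2 b)
    rw [map_sum, map_zero] at this
    rw [← this]
    refine Finset.sum_congr rfl fun a _ => ?_
    rw [map_mul, hd]

end Groth.Agent.Lib.DirLimFlat
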