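import Groth.Agent.Lib.HenselizationLiftFlat
import Groth.Agent.Lib.AdicNoeth
import Mathlib.RingTheory.AdicCompletion.AsTensorProduct
import Mathlib.RingTheory.AdicCompletion.LocalRing
import Mathlib.RingTheory.Henselian

/-!
# The henselization of a Noetherian local ring is Noetherian (helper22)

* `henselianLocalRing_of_henselianRing`: a local ring henselian along its maximal ideal is a
  henselian local ring.
* `isNoetherianRing_of_faithfullyFlat`: descent of the Noetherian property.
* `faithfullyFlat_liftHzn`: `Hzn R → T` is faithfully flat for a flat local map `R → T` to a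
  henselian local ring.
* `isNoetherianRing_Hzn`, `isNoetherianRing_iff_of_isHenselization`.
-/

namespace Groth.Agent.Lib.HenselizationNoeth

open Polynomial IsLocalRing Groth.Agent.Lib.HenselStep
  Groth.Agent.Lib.HenselizationConstr Groth.Agent.Lib.HenselizationFlat
  Groth.Agent.Lib.HenselizationLiftFlat

universe u

theorem henselianLocalRing_of_henselianRing (R : Type*) [CommRing R] [IsLocalRing R]
    [h : HenselianRing R (maximalIdeal R)] : HenselianLocalRing R := by
  refine ⟨fun f hf a₀ h₁ h₂ => ?_⟩
  exact h.is_henselian f hf a₀ h₁ (h₂.map _)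

/-- The Noetherian property descends along faithfully flat ring maps. -/
theorem isNoetherianRing_of_faithfullyFlat (A B : Type*) [CommRing A] [CommRing B] [Algebra A B]
    [Module.FaithfullyFlat A B] [IsNoetherianRing B] : IsNoetherianRing A := by
  have hB : WellFoundedGT (Ideal B) := isNoetherian_iff'.mp inferInstance
  let e : Ideal A ↪o Ideal B := OrderEmbedding.ofMapLEIff (Ideal.map (algebraMap A B)) (by
    intro I J
    refine ⟨fun h => ?_, fun h => Ideal.map_mono h⟩
    have := Ideal.comap_mono (f := algebraMap A B) h
    rwa [Ideal.comap_map_eq_self_of_faithfullyFlat, Ideal.comap_map_eq_self_of_faithfullyFlat]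
      at this)
  exact isNoetherian_iff'.mpr e.wellFoundedGT

section

variable (R : Type u) [CommRing R] [IsLocalRing R]

/-- For a flat local map `f : R → T` to a henselian local ring, `Hzn R → T` is faithfully flat. -/
theorem faithfullyFlat_liftHzn {T : Type*} [CommRing T] [HenselianLocalRing T] (f : R →+* T)
    [IsLocalHom f] (hfl : f.Flat) :
    letI := (liftHzn f).toAlgebra
    Module.FaithfullyFlat (Hzn R) T := by
  let := (liftHzn f).toAlgebra
  have h1 : Module.Flat (Hzn R) T := flat_liftHzn f hfl
  have h2 : IsLocalHom (algebraMap (Hzn R) T) := isLocalHom_liftHzn f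
  exact Module.FaithfullyFlat.of_flat_of_isLocalHom

theorem isNoetherianRing_Hzn [IsNoetherianRing R] : IsNoetherianRing (Hzn R) := by
  let Rhat := AdicCompletion (maximalIdeal R) R
  have h1 : IsNoetherianRing Rhat := Groth.Agent.Lib.AdicNoeth.isNoetherianRing_adicCompletion _
  have h2 : HenselianLocalRing Rhat := henselianLocalRing_of_henselianRing Rhat
  have h3 : (algebraMap R Rhat).Flat :=
    RingHom.flat_algebraMap_iff.mpr (AdicCompletion.flat_of_isNoetherian (maximalIdeal R))
  let := (liftHzn (algebraMap R Rhat)).toAlgebra
  have h4 : Module.FaithfullyFlat (Hzn R) Rhat := faithfullyFlat_liftHzn R (algebraMap R Rhat) h3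
  exact isNoetherianRing_of_faithfullyFlat (Hzn R) Rhat

/-- A local ring is Noetherian iff its henselization is. -/
theorem isNoetherianRing_iff_of_isHenselization (S : Type u) [CommRing S] [IsLocalRing S]
    [Algebra R S] [IsLocalHom (algebraMap R S)] [Hensel.IsHenselization R S] :
    IsNoetherianRing R ↔ IsNoetherianRing S := by
  constructor
  · intro h
    have := isNoetherianRing_Hzn R
    exact isNoetherianRing_of_ringEquiv (Hzn R) (equivHzn R S).symm.toRingEquiv
  · intro h
    have := faithfullyFlat_of_isHenselization R S
    exact isNoetherianRing_of_faithfullyFlat R S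

end

end Groth.Agent.Lib.HenselizationNoeth
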