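import Groth.Agent.Lib.DiagFlat
import Groth.Agent.Lib.AdicNoeth
import Groth.Agent.Lib.FlatCrit
import Groth.Agent.Lib.HenselizationNoeth
import Mathlib.RingTheory.AdicCompletion.LocalRing
import Mathlib.RingTheory.AdicCompletion.Completeness
import Mathlib.LinearAlgebra.TensorProduct.Quotient

/-!
# Noetherianity of weakly étale local algebras with `m_R S = m_S` (helper68)

Let `R → S` be a local homomorphism of local rings with `R` Noetherian and `m_R S = m_S`.

* `flat_adicCompletion`: if `S` is flat over `R` then the `m_S`-adic completion `Ŝ` of `S` is flat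
  over `R` (local criterion of flatness; `Ŝ` is Noetherian by Stacks 05GH).
* `isNoetherianRing_of_weaklyEtale`: if moreover `S` is weakly étale over `R`, then `S` is
  Noetherian (`Ŝ` is then flat over `S` by Stacks 092C, hence faithfully flat, and Noetherianity
  descends).

This applies to (strict) henselizations (EGA 0_III 10.3.1.3 style argument without colimits).
-/

set_option autoImplicit false

namespace Groth.Agent.Lib.WEtaleNoeth68

open IsLocalRing TensorProduct

universe u

section General

variable {R : Type*} [CommRing R] {M N : Type*} [AddCommGroup M] [AddCommGroup N]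
  [Module R M] [Module R N]

/-- A linear map inducing a bijection `M/JM → N/JN` becomes bijective after `(R/J) ⊗ -`. -/
theorem baseChange_quotient_bijective (J : Ideal R) (f : M →ₗ[R] N)
    (hinj : ∀ x : M, f x ∈ J • (⊤ : Submodule R N) → x ∈ J • (⊤ : Submodule R M))
    (hsurj : ∀ y : N, ∃ x : M, y - f x ∈ J • (⊤ : Submodule R N)) :
    Function.Bijective (f.baseChange (R ⧸ J)) := by
  have hle : J • (⊤ : Submodule R M) ≤ (J • (⊤ : Submodule R N)).comap f := by
    rw [← Submodule.map_le_iff_le_comap, Submodule.map_smul'']
    exact Submodule.smul_mono le_rfl le_top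
  let g : (M ⧸ J • (⊤ : Submodule R M)) →ₗ[R] (N ⧸ J • (⊤ : Submodule R N)) :=
    Submodule.mapQ _ _ f hle
  have hg : Function.Bijective g := by
    constructor
    · rw [injective_iff_map_eq_zero]
      intro x hx
      obtain ⟨x, rfl⟩ := Submodule.Quotient.mk_surjective _ x
      rw [Submodule.mapQ_apply, Submodule.Quotient.mk_eq_zero] at hx
      rw [Submodule.Quotient.mk_eq_zero]
      exact hinj x hx
    · intro y
      obtain ⟨y, rfl⟩ := Submodule.Quotient.mk_surjective _ y
      obtain ⟨x, hx⟩ := hsurj y
      refine ⟨Submodule.Quotient.mk x, ?_⟩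
      rw [Submodule.mapQ_apply, eq_comm, Submodule.Quotient.eq]
      exact hx
  have hcomm : ∀ t : (R ⧸ J) ⊗[R] M,
      quotTensorEquivQuotSMul N J (f.baseChange (R ⧸ J) t) =
        g (quotTensorEquivQuotSMul M J t) := by
    intro t
    induction t using TensorProduct.induction_on with
    | zero => simp
    | tmul a m =>
      obtain ⟨r, rfl⟩ := Ideal.Quotient.mk_surjective a
      rw [LinearMap.baseChange_tmul, quotTensorEquivQuotSMul_mk_tmul,
        quotTensorEquivQuotSMul_mk_tmul, Submodule.mapQ_apply, map_smul]
    | add x y hx hy => simp only [map_add, hx, hy]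
  have hfun : (f.baseChange (R ⧸ J) : (R ⧸ J) ⊗[R] M → (R ⧸ J) ⊗[R] N) =
      (quotTensorEquivQuotSMul N J).symm ∘ g ∘ (quotTensorEquivQuotSMul M J) := by
    funext t
    simp only [Function.comp_apply]
    rw [← hcomm, LinearEquiv.symm_apply_apply]
  rw [hfun]
  exact (quotTensorEquivQuotSMul N J).symm.bijective.comp
    (hg.comp (quotTensorEquivQuotSMul M J).bijective)

end General

section Completion

variable (R S : Type u) [CommRing R] [IsLocalRing R] [IsNoetherianRing R]
  [CommRing S] [IsLocalRing S] [Algebra R S]

instance : IsScalarTower R S (AdicCompletion (maximalIdeal S) S) :=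
  IsScalarTower.of_algebraMap_eq fun _ => rfl

variable {R S}

theorem fg_maximalIdeal_of_map_eq
    (hmap : (maximalIdeal R).map (algebraMap R S) = maximalIdeal S) : (maximalIdeal S).FG := by
  rw [← hmap]
  exact (maximalIdeal R).fg_of_isNoetherianRing.map _

theorem isNoetherianRing_adicCompletion_of_map_eq
    (hmap : (maximalIdeal R).map (algebraMap R S) = maximalIdeal S) :
    IsNoetherianRing (AdicCompletion (maximalIdeal S) S) := by
  let _ : Field (S ⧸ maximalIdeal S) := Ideal.Quotient.field _
  exact Groth.Agent.Lib.AdicNoeth.isNoetherianRing_adicCompletion_of_fg (maximalIdeal S)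
    (fg_maximalIdeal_of_map_eq hmap)

omit [IsNoetherianRing R] in
/-- `R`-submodule `m_R^n • Ŝ` versus `S`-submodule `m_S^n • Ŝ`. -/
theorem pow_smul_top_restrictScalars
    (hmap : (maximalIdeal R).map (algebraMap R S) = maximalIdeal S) (n : ℕ)
    (N : Type*) [AddCommGroup N] [Module R N] [Module S N] [IsScalarTower R S N] :
    ((maximalIdeal S) ^ n • (⊤ : Submodule S N)).restrictScalars R =
      (maximalIdeal R) ^ n • (⊤ : Submodule R N) := by
  rw [← hmap, ← Ideal.map_pow, Ideal.smul_restrictScalars, Submodule.restrictScalars_top]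

/-- Levelwise, `S → Ŝ` is an isomorphism modulo `m_R^n`. -/
theorem baseChange_of_bijective
    (hmap : (maximalIdeal R).map (algebraMap R S) = maximalIdeal S) (n : ℕ) :
    Function.Bijective
      (((AdicCompletion.of (maximalIdeal S) S).restrictScalars R).baseChange
        (R ⧸ (maximalIdeal R) ^ n)) := by
  have hfg := fg_maximalIdeal_of_map_eq hmap
  have hker := AdicCompletion.pow_smul_top_eq_ker_eval (I := maximalIdeal S) (M := S) (n := n) hfg
  apply baseChange_quotient_bijective
  · intro x hx
    rw [← pow_smul_top_restrictScalars hmap n, Submodule.restrictScalars_mem] at hx ⊢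
    rw [LinearMap.restrictScalars_apply, hker, LinearMap.mem_ker, AdicCompletion.eval_of] at hx
    exact (Submodule.Quotient.mk_eq_zero _).mp hx
  · intro y
    obtain ⟨x, hx⟩ := Submodule.Quotient.mk_surjective _ (AdicCompletion.eval (maximalIdeal S) S n y)
    refine ⟨x, ?_⟩
    rw [← pow_smul_top_restrictScalars hmap n, Submodule.restrictScalars_mem,
      LinearMap.restrictScalars_apply, hker, LinearMap.mem_ker, map_sub, AdicCompletion.eval_of,
      sub_eq_zero]
    exact hx.symm

/-- The completion of `S` along `m_S = m_R S` is flat over `R`. -/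
theorem flat_adicCompletion [Module.Flat R S]
    (hmap : (maximalIdeal R).map (algebraMap R S) = maximalIdeal S) :
    Module.Flat R (AdicCompletion (maximalIdeal S) S) := by
  have hfg := fg_maximalIdeal_of_map_eq hmap
  have hN := isNoetherianRing_adicCompletion_of_map_eq hmap
  have hloc : IsLocalRing (AdicCompletion (maximalIdeal S) S) :=
    AdicCompletion.isLocalRing_of_fg hfg
  have hjac : (maximalIdeal R).map (algebraMap R (AdicCompletion (maximalIdeal S) S)) ≤
      Ideal.jacobson ⊥ := by
    rw [IsLocalRing.jacobson_eq_maximalIdeal ⊥ bot_ne_top,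
      AdicCompletion.maximalIdeal_eq_map_of_fg hfg, ← hmap, Ideal.map_map,
      ← IsScalarTower.algebraMap_eq]
  refine Groth.Agent.Lib.FlatCrit.flat_of_flat_quotient_pow (maximalIdeal R) ?_ ?_
  · intro 𝔞 x hx
    exact Groth.Agent.Lib.FlatCrit.eq_zero_of_forall_mem_pow_smul_top
      (S := AdicCompletion (maximalIdeal S) S) (maximalIdeal R) hjac x hx
  · intro n _
    exact Module.Flat.of_linearEquiv
      (LinearEquiv.ofBijective _ (baseChange_of_bijective hmap n)).symm

/-- A weakly étale local algebra `S` over a Noetherian local ring `R` with `m_R S = m_S` is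
Noetherian. -/
theorem isNoetherianRing_of_weaklyEtale [Algebra.WeaklyEtale R S]
    (hmap : (maximalIdeal R).map (algebraMap R S) = maximalIdeal S) : IsNoetherianRing S := by
  have hfg := fg_maximalIdeal_of_map_eq hmap
  have hN := isNoetherianRing_adicCompletion_of_map_eq hmap
  have hloc : IsLocalRing (AdicCompletion (maximalIdeal S) S) :=
    AdicCompletion.isLocalRing_of_fg hfg
  have hlh : IsLocalHom (algebraMap S (AdicCompletion (maximalIdeal S) S)) :=
    AdicCompletion.algebraMap_isLocalHom_of_fg hfg
  have hRfl : Module.Flat R S := Algebra.WeaklyEtale.flat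
  have h1 : Module.Flat R (AdicCompletion (maximalIdeal S) S) := flat_adicCompletion hmap
  have h2 : Module.Flat S (AdicCompletion (maximalIdeal S) S) :=
    Groth.Agent.Lib.DiagFlat.flat_of_flat_lmul' (Algebra.WeaklyEtale.flat_lmul' R S) _
  have h3 : Module.FaithfullyFlat S (AdicCompletion (maximalIdeal S) S) :=
    Module.FaithfullyFlat.of_flat_of_isLocalHom
  exact Groth.Agent.Lib.HenselizationNoeth.isNoetherianRing_of_faithfullyFlat S
    (AdicCompletion (maximalIdeal S) S)

end Completion

end Groth.Agent.Lib.WEtaleNoeth68
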