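/-
Formal smoothness of flat algebras whose closed fibre is formally smooth (EGA 0_IV 19.7.1, in the
form needed for Cohen algebras).
Author: helper89
-/
import Groth.Prelude.Def_EGA41
import Mathlib.RingTheory.Flat.EquationalCriterion
import Mathlib.RingTheory.Ideal.Quotient.Operations
import Mathlib.RingTheory.Ideal.Quotient.Nilpotent
import Mathlib.Algebra.Algebra.Subalgebra.Basic

set_option autoImplicit false

namespace Groth.Agent.Lib.CohenSmooth

universe u

section module

variable {A : Type*} [CommRing A] {E B : Type*} [AddCommGroup E] [Module A E]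
  [AddCommGroup B] [Module A B]

/-- If `B = E / K` is flat then `K ∩ J E = J K`. -/
theorem mem_smul_ker_of_flat [Module.Flat A B]
    (Φ : E →ₗ[A] B) (hΦ : Function.Surjective Φ) (J : Ideal A) {x : E} (hxK : Φ x = 0)
    (hxJ : x ∈ (J • ⊤ : Submodule A E)) : x ∈ J • LinearMap.ker Φ := by
  classical
  have hspan : (⊤ : Submodule A E) = Submodule.span A (Set.range (id : E → E)) := by
    rw [Set.range_id, Submodule.span_univ]
  rw [hspan, Submodule.mem_ideal_smul_span_iff_exists_sum] at hxJ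
  obtain ⟨a, ha, rfl⟩ := hxJ
  have hrel : ∑ i : a.support, a i • Φ (i : E) = 0 := by
    rw [← hxK, Finsupp.sum, map_sum, ← Finset.sum_coe_sort a.support]
    simp
  obtain ⟨k, b, y, hy, hb⟩ := Module.Flat.isTrivialRelation_of_sum_smul_eq_zero hrel
  simp only at hy hb
  choose e he using fun j => hΦ (y j)
  have hdecomp : a.sum (fun d c => c • id d) =
      ∑ i : a.support, a i • ((i : E) - ∑ j, b i j • e j) := by
    have h2 : ∑ i : a.support, a i • ∑ j, b i j • e j = 0 := by
      simp_rw [Finset.smul_sum, smul_smul]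
      rw [Finset.sum_comm]
      refine Finset.sum_eq_zero fun j _ => ?_
      rw [← Finset.sum_smul, hb j, zero_smul]
    simp_rw [smul_sub]
    rw [Finset.sum_sub_distrib, h2, sub_zero, Finsupp.sum, ← Finset.sum_coe_sort a.support]
    simp
  rw [hdecomp]
  refine Submodule.sum_mem _ fun i _ => Submodule.smul_mem_smul (ha i) ?_
  rw [LinearMap.mem_ker, map_sub, map_sum, hy i, sub_eq_zero]
  refine Finset.sum_congr rfl fun j _ => ?_
  rw [map_smul, he]

/-- If `B = E / K` is flat and `m K = 0` then `K ∩ m E = 0`. -/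
theorem eq_zero_of_mem_smul_top [Module.Flat A B] (π : E →ₗ[A] B) (hπ : Function.Surjective π)
    (m : Ideal A) (hm : ∀ a ∈ m, ∀ n ∈ LinearMap.ker π, a • n = 0) {e : E}
    (he : e ∈ (m • ⊤ : Submodule A E)) (h0 : π e = 0) : e = 0 := by
  have h1 := mem_smul_ker_of_flat π hπ m h0 he
  have hbot : m • LinearMap.ker π = ⊥ := by
    rw [eq_bot_iff, Submodule.smul_le]
    intro a ha n hn
    rw [Submodule.mem_bot]
    exact hm a ha n hn
  rw [hbot] at h1
  exact h1

end module

variable {A : Type u} [CommRing A]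

/-- `B` has the lifting property for square-zero extensions of `A`-algebras killed by `m`:
"`B / m B` is formally smooth over `A / m`". -/
def LiftKilled (m : Ideal A) (B : Type u) [CommRing B] [Algebra A B] : Prop :=
  ∀ (D : Type u) [CommRing D] [Algebra A D] (N : Ideal D), N ^ 2 = ⊥ →
    (∀ a ∈ m, algebraMap A D a = 0) →
    ∀ g : B →ₐ[A] D ⧸ N, ∃ g' : B →ₐ[A] D, (Ideal.Quotient.mkₐ A N).comp g' = g

variable {m : Ideal A} {B : Type u} [CommRing B] [Algebra A B]

theorem LiftKilled.exists_section (h : LiftKilled m B) {D D' : Type u} [CommRing D] [CommRing D']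
    [Algebra A D] [Algebra A D'] (π : D →ₐ[A] D') (hπ : Function.Surjective π)
    (hker : RingHom.ker π.toRingHom ^ 2 = ⊥) (hD : ∀ a ∈ m, algebraMap A D a = 0)
    (g : B →ₐ[A] D') : ∃ g' : B →ₐ[A] D, π.comp g' = g := by
  obtain ⟨g', hg'⟩ := h D (RingHom.ker π.toRingHom) hker hD
    ((Ideal.quotientKerAlgEquivOfSurjective hπ).symm.toAlgHom.comp g)
  refine ⟨g', AlgHom.ext fun b => ?_⟩
  have h1 : Ideal.Quotient.mk (RingHom.ker π.toRingHom) (g' b) =
      (Ideal.quotientKerAlgEquivOfSurjective hπ).symm (g b) := AlgHom.congr_fun hg' b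
  have h2 : (Ideal.quotientKerAlgEquivOfSurjective hπ)
      (Ideal.Quotient.mk (RingHom.ker π.toRingHom) (g' b)) = g b := by
    rw [h1, AlgEquiv.apply_symm_apply]
  rw [← h2]
  rfl

/-- Gluing lifts along `I ≤ J`. -/
theorem exists_lift_of_le {C : Type u} [CommRing C] [Algebra A C] (I J : Ideal C) (hIJ : I ≤ J)
    (h₁ : ∀ w : B →ₐ[A] C ⧸ I, ∃ v : B →ₐ[A] C, (Ideal.Quotient.mkₐ A I).comp v = w)
    (h₂ : ∀ w : B →ₐ[A] (C ⧸ I) ⧸ J.map (Ideal.Quotient.mk I),
      ∃ v : B →ₐ[A] C ⧸ I, (Ideal.Quotient.mkₐ A (J.map (Ideal.Quotient.mk I))).comp v = w)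
    (u : B →ₐ[A] C ⧸ J) : ∃ v : B →ₐ[A] C, (Ideal.Quotient.mkₐ A J).comp v = u := by
  let this : ((C ⧸ I) ⧸ J.map (Ideal.Quotient.mk I)) ≃ₐ[A] C ⧸ J :=
    { (DoubleQuot.quotQuotEquivQuotSup I J).trans
        (Ideal.quotEquivOfEq (sup_eq_right.mpr hIJ)) with
      commutes' := fun x => rfl }
  obtain ⟨g', e⟩ := h₂ (this.symm.toAlgHom.comp u)
  obtain ⟨g'', rfl⟩ := h₁ g'
  replace e := congr_arg this.toAlgHom.comp e
  conv_rhs at e =>
    rw [← AlgHom.comp_assoc, AlgEquiv.comp_symm, AlgHom.id_comp]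
  exact ⟨g'', e⟩

section step

variable {C : Type u} [CommRing C] [Algebra A C] (J : Ideal C) (u : B →ₐ[A] C ⧸ J)

/-- The fibre product of `B` and `C` over `C ⧸ J`. -/
def fib : Subalgebra A (B × C) := AlgHom.equalizer (u.comp (AlgHom.fst A B C))
    ((Ideal.Quotient.mkₐ A J).comp (AlgHom.snd A B C))

/-- The fibre product as a type, with its own instances. -/
def Fib : Type u := ↥(fib J u)

instance : CommRing (Fib J u) := inferInstanceAs (CommRing ↥(fib J u))

instance : Algebra A (Fib J u) := inferInstanceAs (Algebra A ↥(fib J u))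

/-- First projection. -/
def pr₁ : Fib J u →ₐ[A] B := (AlgHom.fst A B C).comp (fib J u).val

/-- Second projection. -/
def pr₂ : Fib J u →ₐ[A] C := (AlgHom.snd A B C).comp (fib J u).val

theorem fib_spec (e : Fib J u) : u (pr₁ J u e) = Ideal.Quotient.mk J (pr₂ J u e) := e.2

theorem pr₁_surjective : Function.Surjective (pr₁ J u) := by
  intro b
  obtain ⟨c, hc⟩ := Ideal.Quotient.mk_surjective (u b)
  exact ⟨⟨(b, c), hc.symm⟩, rfl⟩

theorem pr₂_mem {e : Fib J u} (he : pr₁ J u e = 0) : pr₂ J u e ∈ J := by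
  have h1 := fib_spec J u e
  rw [he, map_zero] at h1
  exact Ideal.Quotient.eq_zero_iff_mem.mp h1.symm

theorem fib_ext {e e' : Fib J u} (h1 : pr₁ J u e = pr₁ J u e') (h2 : pr₂ J u e = pr₂ J u e') :
    e = e' :=
  Subtype.ext (Prod.ext h1 h2)

theorem smul_eq_zero_of_mem_ker (hmJ : ∀ a ∈ m, ∀ j ∈ J, algebraMap A C a * j = 0)
    {a : A} (ha : a ∈ m) {n : Fib J u} (hn : pr₁ J u n = 0) : a • n = 0 := by
  apply fib_ext
  · rw [map_smul, hn, smul_zero, map_zero]
  · rw [map_smul, map_zero, Algebra.smul_def]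
    exact hmJ a ha _ (pr₂_mem J u hn)

theorem mul_eq_zero_of_mem_ker (hJ2 : J ^ 2 = ⊥) {n n' : Fib J u} (hn : pr₁ J u n = 0)
    (hn' : pr₁ J u n' = 0) : n * n' = 0 := by
  apply fib_ext
  · rw [map_mul, hn, zero_mul, map_zero]
  · rw [map_mul, map_zero]
    have : pr₂ J u n * pr₂ J u n' ∈ J ^ 2 := by
      rw [pow_two]
      exact Ideal.mul_mem_mul (pr₂_mem J u hn) (pr₂_mem J u hn')
    rw [hJ2] at this
    exact this

variable (m) in
/-- The ideal `m E` of the fibre product. -/
def fibI : Ideal (Fib J u) := m.map (algebraMap A (Fib J u))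

theorem mem_fibI (e : Fib J u) : e ∈ fibI m J u ↔ e ∈ (m • ⊤ : Submodule A (Fib J u)) := by
  rw [Ideal.smul_top_eq_map]
  rfl

theorem fibI_le : fibI m J u ≤ (m.map (algebraMap A B)).comap (pr₁ J u) := by
  rw [fibI, Ideal.map_le_iff_le_comap]
  intro a ha
  rw [Ideal.mem_comap, Ideal.mem_comap, AlgHom.commutes]
  exact Ideal.mem_map_of_mem _ ha

variable (m) in
/-- The map induced by the first projection modulo `m`. -/
def prBar : Fib J u ⧸ fibI m J u →ₐ[A] B ⧸ m.map (algebraMap A B) :=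
  Ideal.quotientMapₐ _ (pr₁ J u) (fibI_le J u)

theorem prBar_mk (e : Fib J u) : prBar m J u (Ideal.Quotient.mk _ e) =
    Ideal.Quotient.mk _ (pr₁ J u e) := rfl

theorem prBar_surjective : Function.Surjective (prBar m J u) := by
  intro x
  obtain ⟨b, rfl⟩ := Ideal.Quotient.mk_surjective x
  obtain ⟨e, rfl⟩ := pr₁_surjective J u b
  exact ⟨Ideal.Quotient.mk _ e, rfl⟩

theorem exists_of_prBar_eq_zero {x : Fib J u ⧸ fibI m J u} (hx : prBar m J u x = 0) :
    ∃ n : Fib J u, pr₁ J u n = 0 ∧ Ideal.Quotient.mk (fibI m J u) n = x := by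
  obtain ⟨e, rfl⟩ := Ideal.Quotient.mk_surjective x
  rw [prBar_mk, Ideal.Quotient.eq_zero_iff_mem] at hx
  have h1 : pr₁ J u e ∈ (m • ⊤ : Submodule A B) := by
    rw [Ideal.smul_top_eq_map]
    exact hx
  have h2 : (m • ⊤ : Submodule A B) =
      (m • ⊤ : Submodule A (Fib J u)).map (pr₁ J u).toLinearMap := by
    rw [Submodule.map_smul'', Submodule.map_top, LinearMap.range_eq_top.mpr (pr₁_surjective J u)]
  rw [h2] at h1
  obtain ⟨e', he', he'e⟩ := h1
  have he'e' : pr₁ J u e' = pr₁ J u e := he'e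
  refine ⟨e - e', ?_, ?_⟩
  · rw [map_sub, sub_eq_zero, he'e']
  · rw [map_sub, sub_eq_self, Ideal.Quotient.eq_zero_iff_mem, mem_fibI]
    exact he'

theorem ker_prBar_sq (hJ2 : J ^ 2 = ⊥) : RingHom.ker (prBar m J u).toRingHom ^ 2 = ⊥ := by
  rw [eq_bot_iff]
  refine (pow_two (RingHom.ker (prBar m J u).toRingHom)).trans_le ?_
  rw [Ideal.mul_le]
  intro x hx y hy
  obtain ⟨n, hn, rfl⟩ := exists_of_prBar_eq_zero J u hx
  obtain ⟨n', hn', rfl⟩ := exists_of_prBar_eq_zero J u hy
  rw [Ideal.mem_bot, ← map_mul, mul_eq_zero_of_mem_ker J u hJ2 hn hn', map_zero]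

theorem algebraMap_fibQuot_eq_zero {a : A} (ha : a ∈ m) :
    algebraMap A (Fib J u ⧸ fibI m J u) a = 0 := by
  have : algebraMap A (Fib J u ⧸ fibI m J u) a =
      Ideal.Quotient.mk (fibI m J u) (algebraMap A (Fib J u) a) := rfl
  rw [this, Ideal.Quotient.eq_zero_iff_mem]
  exact Ideal.mem_map_of_mem _ ha

/-- One step: lifting along a square-zero ideal killed by `m`. -/
theorem exists_lift_of_smul_eq_zero [Module.Flat A B]
    (hK : LiftKilled m B) (hJ2 : J ^ 2 = ⊥)
    (hmJ : ∀ a ∈ m, ∀ j ∈ J, algebraMap A C a * j = 0) :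
    ∃ v : B →ₐ[A] C, (Ideal.Quotient.mkₐ A J).comp v = u := by
  classical
  obtain ⟨g', hg'⟩ := hK.exists_section (prBar m J u) (prBar_surjective J u)
    (ker_prBar_sq J u hJ2) (fun a ha => algebraMap_fibQuot_eq_zero J u ha)
    (Ideal.Quotient.mkₐ A (m.map (algebraMap A B)))
  have hg'b : ∀ b : B, prBar m J u (g' b) = Ideal.Quotient.mk _ b := fun b =>
    AlgHom.congr_fun hg' b
  have hg'0 : ∀ b ∈ (m • ⊤ : Submodule A B), g' b = 0 := by
    intro b hb
    refine Submodule.smul_induction_on hb (fun a ha b' _ => ?_) (fun x y hx hy => ?_)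
    · rw [map_smul, Algebra.smul_def, algebraMap_fibQuot_eq_zero J u ha, zero_mul]
    · rw [map_add, hx, hy, add_zero]
  -- the subalgebra mapping isomorphically to `B`
  let E₁ : Subalgebra A (Fib J u) := g'.range.comap (Ideal.Quotient.mkₐ A (fibI m J u))
  have hE₁ : ∀ e : Fib J u, e ∈ E₁ ↔ ∃ b, g' b = Ideal.Quotient.mk (fibI m J u) e :=
    fun e => Iff.rfl
  let φ : E₁ →ₐ[A] B := (pr₁ J u).comp E₁.val
  have hφ : ∀ e : E₁, φ e = pr₁ J u (e : Fib J u) := fun e => rfl
  have hφinj : Function.Injective φ := by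
    rw [injective_iff_map_eq_zero]
    intro e he
    rw [hφ] at he
    obtain ⟨b, hb⟩ := (hE₁ e).mp e.2
    have h1 : Ideal.Quotient.mk (m.map (algebraMap A B)) b = 0 := by
      rw [← hg'b, hb, prBar_mk, he, map_zero]
    have h2 : b ∈ (m • ⊤ : Submodule A B) := by
      rw [Ideal.smul_top_eq_map]
      exact Ideal.Quotient.eq_zero_iff_mem.mp h1
    have h3 : Ideal.Quotient.mk (fibI m J u) (e : Fib J u) = 0 := by rw [← hb, hg'0 b h2]
    have h4 : (e : Fib J u) ∈ (m • ⊤ : Submodule A (Fib J u)) :=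
      (mem_fibI J u _).mp (Ideal.Quotient.eq_zero_iff_mem.mp h3)
    have h5 : (e : Fib J u) = 0 :=
      eq_zero_of_mem_smul_top (pr₁ J u).toLinearMap (pr₁_surjective J u) m
        (fun a ha n hn => smul_eq_zero_of_mem_ker J u hmJ ha hn) h4 he
    exact Subtype.ext h5
  have hφsurj : Function.Surjective φ := by
    intro b
    obtain ⟨e, rfl⟩ := pr₁_surjective J u b
    have h1 : prBar m J u (g' (pr₁ J u e) - Ideal.Quotient.mk _ e) = 0 := by
      rw [map_sub, hg'b, prBar_mk, sub_self]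
    obtain ⟨n, hn, hn'⟩ := exists_of_prBar_eq_zero J u h1
    refine ⟨⟨e + n, (hE₁ _).mpr ⟨pr₁ J u e, ?_⟩⟩, ?_⟩
    · rw [map_add, hn']
      ring
    · rw [hφ]
      show pr₁ J u (e + n) = pr₁ J u e
      rw [map_add, hn, add_zero]
  let ψ : E₁ ≃ₐ[A] B := AlgEquiv.ofBijective φ ⟨hφinj, hφsurj⟩
  refine ⟨((pr₂ J u).comp E₁.val).comp ψ.symm.toAlgHom, AlgHom.ext fun b => ?_⟩
  have h1 : pr₁ J u ((ψ.symm b : E₁) : Fib J u) = b := ψ.apply_symm_apply b
  have h2 := fib_spec J u ((ψ.symm b : E₁) : Fib J u)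
  rw [h1] at h2
  exact h2.symm

end step

/-- Lifting along a square-zero ideal killed by a power of `m`. -/
theorem exists_lift_of_pow_smul_eq_zero [Module.Flat A B] (hK : LiftKilled m B) (n : ℕ) :
    ∀ {C : Type u} [CommRing C] [Algebra A C] (J : Ideal C), J ^ 2 = ⊥ →
      (∀ a ∈ m ^ n, ∀ j ∈ J, algebraMap A C a * j = 0) →
      ∀ u : B →ₐ[A] C ⧸ J, ∃ v : B →ₐ[A] C, (Ideal.Quotient.mkₐ A J).comp v = u := by
  induction n with
  | zero =>
    intro C _ _ J hJ2 hmJ u
    refine exists_lift_of_smul_eq_zero J u hK hJ2 (fun a _ j hj => hmJ a ?_ j hj)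
    rw [pow_zero, Ideal.one_eq_top]
    trivial
  | succ n ih =>
    intro C _ _ J hJ2 hmJ u
    have hIJ : m.map (algebraMap A C) * J ≤ J := Ideal.mul_le_right
    refine exists_lift_of_le (m.map (algebraMap A C) * J) J hIJ ?_ ?_ u
    · refine ih (m.map (algebraMap A C) * J) ?_ ?_
      · rw [eq_bot_iff, ← hJ2]
        exact Ideal.pow_right_mono hIJ 2
      · intro a ha x hx
        refine Submodule.mul_induction_on hx (fun y hy j hj => ?_) (fun x y hx hy => ?_)
        · have hy' : y ∈ (m • ⊤ : Submodule A C) := by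
            rw [Ideal.smul_top_eq_map]
            exact hy
          refine Submodule.smul_induction_on hy' (fun a' ha' c _ => ?_) (fun x y hx hy => ?_)
          · have h1 : algebraMap A C a * (a' • c * j) =
                c * (algebraMap A C (a * a') * j) := by
              rw [Algebra.smul_def, map_mul]
              ring
            rw [h1, hmJ (a * a') (by rw [pow_succ]; exact Ideal.mul_mem_mul ha ha') j hj, mul_zero]
          · rw [add_mul, mul_add, hx, hy, add_zero]
        · rw [mul_add, hx, hy, add_zero]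
    · intro w
      refine exists_lift_of_smul_eq_zero (J.map (Ideal.Quotient.mk _)) w hK ?_ ?_
      · rw [← Ideal.map_pow, hJ2, Ideal.map_bot]
      · intro a ha x hx
        obtain ⟨j, hj, rfl⟩ := (Ideal.mem_map_iff_of_surjective _ Ideal.Quotient.mk_surjective).mp hx
        have h1 : algebraMap A (C ⧸ m.map (algebraMap A C) * J) a =
            Ideal.Quotient.mk _ (algebraMap A C a) := rfl
        rw [h1, ← map_mul, Ideal.Quotient.eq_zero_iff_mem]
        exact Ideal.mul_mem_mul (Ideal.mem_map_of_mem _ ha) hj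

/-- **EGA 0_IV 19.7.1** (special case): a flat `A`-algebra `B` with `B / m B` formally smooth over
`A / m` is formally smooth over `A` for the `m`-adic topology on `A` (and any adic topology on
`B`). -/
theorem isFormallySmoothAdic_of_flat [Module.Flat A B] (hK : LiftKilled m B) (𝔟 : Ideal B) :
    EGA41.IsFormallySmoothAdic A m B 𝔟 := by
  intro C _ _ J hJ hm u hu
  clear hu
  obtain ⟨k, hk⟩ := hm
  revert u
  change Function.Surjective
    ((Ideal.Quotient.mkₐ A J).comp : (B →ₐ[A] C) → (B →ₐ[A] C ⧸ J))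
  revert hk
  revert ‹Algebra A C›
  apply Ideal.IsNilpotent.induction_on (S := C) J hJ
  · intro C _ I hI _ hk u
    refine exists_lift_of_pow_smul_eq_zero hK k I hI (fun a ha j _ => ?_) u
    have : algebraMap A C a ∈ (m ^ k).map (algebraMap A C) := Ideal.mem_map_of_mem _ ha
    rw [hk, Ideal.mem_bot] at this
    rw [this, zero_mul]
  · intro C _ I J hIJ h₁ h₂ _ hk u
    refine exists_lift_of_le I J hIJ (h₁ hk) (h₂ ?_) u
    have : (m ^ k).map (algebraMap A (C ⧸ I)) =
        ((m ^ k).map (algebraMap A C)).map (Ideal.Quotient.mk I) := by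
      rw [Ideal.map_map]
      rfl
    rw [this, hk, Ideal.map_bot]

end Groth.Agent.Lib.CohenSmooth
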