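import Groth.Agent.Lib.PBasisField2H44
import Groth.Agent.S4541

/-!
# helper44: consequences of the existence of p-bases

* `exists_pBasis`: every field extension in characteristic `p` has a `p`-basis;
* `formallySmooth_of_perfectRing`: a field of characteristic `p` is formally smooth over any
  perfect subfield (no finiteness hypothesis).
-/

set_option autoImplicit false
universe u

namespace Groth.Agent.Lib.PBasisField3H44

open EGA41 Groth.Agent.Lib.PBasisH44 Groth.Agent.Lib.PBasisFieldH44
  Groth.Agent.Lib.PBasisField2H44

variable (p : ℕ) [hp : Fact p.Prime] (k K : Type u) [Field k] [Field K] [Algebra k K] [CharP K p]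

theorem exists_pBasis : ∃ B : Set K, IsPBasis p k (Subtype.val : B → K) := by
  obtain ⟨B, -, -, hBind, hBgen⟩ := exists_maximal_indepOn p (k := k) (K := K) Set.univ ∅
    (Set.empty_subset _) (Algebra.adjoin_univ _ _) (indepOn_empty p id)
  refine ⟨B, (isPIndependent_restrict_iff p (A := k) (id : K → K) B).2 hBind, ?_⟩
  apply (isPGenerating_restrict_iff p (A := k) (id : K → K) B).2
  rwa [Set.image_id]

theorem formallySmooth_of_perfectRing [CharP k p] [PerfectRing k p] :
    Algebra.FormallySmooth k K := by
  obtain ⟨B, hB⟩ := exists_pBasis p k K
  exact (Groth.Agent.S4541.result p (Subtype.val : B → K) hB).1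

end Groth.Agent.Lib.PBasisField3H44
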