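/-
Cohen rings are formally smooth over the integers for the `p`-adic topologies (EGA 0_IV 19.8).
Author: helper89
-/
import Groth.Agent.Lib.CohenSmooth
import Groth.Agent.Lib.PBasisField3H44
import Groth.Agent.Lib.MacLane4H44
import Mathlib.RingTheory.Flat.TorsionFree
import Mathlib.RingTheory.DiscreteValuationRing.Basic
import Mathlib.Data.ZMod.QuotientRing
import Mathlib.Algebra.CharP.Algebra

set_option autoImplicit false

namespace Groth.Agent.Lib.CohenRing

universe u

open IsLocalRing Groth.Agent.Lib.MacLane4H44 Groth.Agent.Lib.CohenSmooth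

/-- A copy of the integers in an arbitrary universe (no scalar actions attached). -/
def ZU : Type u := ULift.{u} ℤ

noncomputable instance : CommRing ZU.{u} := inferInstanceAs (CommRing (ULift.{u} ℤ))

/-- The identification with `ℤ`. -/
noncomputable def zuEquiv : ZU.{u} ≃+* ℤ := (ULift.ringEquiv : ULift.{u} ℤ ≃+* ℤ)

instance : IsDomain ZU.{u} :=
  Function.Injective.isDomain zuEquiv.{u}.toRingHom zuEquiv.{u}.injective

instance : IsPrincipalIdealRing ZU.{u} :=
  IsPrincipalIdealRing.of_surjective zuEquiv.{u}.symm.toRingHom zuEquiv.{u}.symm.surjective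

/-- Ring homomorphisms out of the lifted integers are unique. -/
theorem ulift_int_ringHom_ext {R : Type*} [Semiring R] (f g : ZU.{u} →+* R) : f = g := by
  have h := Subsingleton.elim (f.comp zuEquiv.{u}.symm.toRingHom)
    (g.comp zuEquiv.{u}.symm.toRingHom)
  ext x
  have h2 := RingHom.congr_fun h (zuEquiv x)
  have h3 : zuEquiv.symm (zuEquiv x) = x := zuEquiv.symm_apply_apply x
  simp only [RingHom.comp_apply, RingEquiv.toRingHom_eq_coe, RingHom.coe_coe] at h2
  rw [h3] at h2
  exact h2

/-- The canonical algebra structure over the lifted integers (not an instance). -/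
@[instance_reducible]
noncomputable def zuAlgebra (X : Type*) [CommRing X] : Algebra ZU.{u} X :=
  ((Int.castRingHom X).comp zuEquiv.{u}.toRingHom).toAlgebra

/-- Any ring homomorphism is an algebra homomorphism over the lifted integers, for arbitrary
algebra structures. -/
def toZAlgHom {X Y : Type*} [Ring X] [Ring Y] [Algebra (ZU.{u}) X] [Algebra (ZU.{u}) Y]
    (f : X →+* Y) : X →ₐ[ZU.{u}] Y :=
  { f with
    commutes' := fun r =>
      RingHom.congr_fun (ulift_int_ringHom_ext (f.comp (algebraMap (ZU.{u}) X))
        (algebraMap (ZU.{u}) Y)) r }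

@[simp]
theorem toZAlgHom_apply {X Y : Type*} [Ring X] [Ring Y] [Algebra (ZU.{u}) X]
    [Algebra (ZU.{u}) Y] (f : X →+* Y) (x : X) : toZAlgHom f x = f x := rfl

theorem algebraMap_ulift_int {X : Type*} [Ring X] [Algebra (ZU.{u}) X] (a : ZU.{u}) :
    algebraMap (ZU.{u}) X a = ((zuEquiv a : ℤ) : X) :=
  RingHom.congr_fun (ulift_int_ringHom_ext (algebraMap (ZU.{u}) X)
    ((Int.castRingHom X).comp zuEquiv.{u}.toRingHom)) a

section pf

variable (p : ℕ) [hp : Fact p.Prime]

/-- Ring homomorphisms out of the prime field are unique. -/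
theorem pf_ringHom_ext {R : Type*} [Semiring R] (f g : PF.{u} p →+* R) : f = g := by
  have h := Subsingleton.elim (f.comp (pfEquiv p).symm.toRingHom)
    (g.comp (pfEquiv p).symm.toRingHom)
  ext x
  have h2 := RingHom.congr_fun h (pfEquiv p x)
  have h3 : (pfEquiv p).symm (pfEquiv p x) = x := (pfEquiv p).symm_apply_apply x
  simp only [RingHom.comp_apply, RingEquiv.toRingHom_eq_coe, RingHom.coe_coe] at h2
  rw [h3] at h2
  exact h2

/-- The map from the prime field to a ring in which `p = 0`. -/
noncomputable def pfTo (D : Type*) [Ring D] (hD : (p : D) = 0) : PF.{u} p →+* D :=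
  (Ideal.Quotient.lift (Ideal.span {(p : ℤ)}) (Int.castRingHom D) (by
    intro a ha
    obtain ⟨c, rfl⟩ := Ideal.mem_span_singleton.mp ha
    rw [map_mul, map_natCast, hD, zero_mul])).comp
    ((Int.quotientSpanNatEquivZMod p).symm.toRingHom.comp (pfEquiv p).toRingHom)

end pf

section cohen

variable {W : Type u} [CommRing W] [IsLocalRing W] [IsDomain W] [IsDiscreteValuationRing W]
  {p : ℕ} (hp : p.Prime) (hmax : maximalIdeal W = Ideal.span {(p : W)})

include hp hmax

theorem charP_residueField : CharP (ResidueField W) p := by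
  rw [CharP.charP_iff_prime_eq_zero hp]
  have : ((p : ℕ) : ResidueField W) = residue W (p : W) := (map_natCast (residue W) p).symm
  rw [this, residue_eq_zero_iff, hmax]
  exact Ideal.mem_span_singleton_self _

theorem natCast_ne_zero : (p : W) ≠ 0 := by
  intro h
  apply IsDiscreteValuationRing.not_a_field W
  rw [hmax, h, Ideal.span_singleton_eq_bot]

theorem charZero : CharZero W := by
  have hK := charP_residueField hp hmax
  rcases CharP.char_is_prime_or_zero W (ringChar W) with hq | h0
  · exfalso
    have h1 : ((ringChar W : ℕ) : W) = 0 := CharP.cast_eq_zero W (ringChar W)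
    have h2 : ((ringChar W : ℕ) : ResidueField W) = 0 := by
      rw [← map_natCast (residue W), h1, map_zero]
    rw [CharP.cast_eq_zero_iff (ResidueField W) p] at h2
    have h3 : p = ringChar W := (Nat.prime_dvd_prime_iff_eq hp hq).mp h2
    apply natCast_ne_zero hp hmax
    rw [h3]
    exact h1
  · have : CharP W 0 := h0 ▸ (inferInstance : CharP W (ringChar W))
    exact CharP.charP_to_charZero W

variable [Algebra (ZU.{u}) W]

theorem flat_ulift_int : Module.Flat (ZU.{u}) W := by
  have hcz := charZero hp hmax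
  rw [Module.Flat.flat_iff_torsion_eq_bot_of_isBezout, eq_bot_iff]
  intro x hx
  obtain ⟨a, ha⟩ := hx
  rw [Submodule.mem_bot]
  have h2 : (a : ZU.{u}) • x = 0 := ha
  rw [Algebra.smul_def, algebraMap_ulift_int, mul_eq_zero] at h2
  rcases h2 with h2 | h2
  · exfalso
    have h3 : zuEquiv (a : ZU.{u}) = 0 := by exact_mod_cast h2
    have h4 : (a : ZU.{u}) = 0 := (map_eq_zero_iff zuEquiv zuEquiv.injective).mp h3
    exact nonZeroDivisors.coe_ne_zero a h4
  · exact h2

theorem liftKilled_ulift_int :
    LiftKilled (Ideal.span {((p : ℕ) : ZU.{u})}) W := by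
  intro D _ _ N hN hD g
  have hpD : ((p : ℕ) : D) = 0 := by
    have := hD _ (Ideal.mem_span_singleton_self _)
    rwa [map_natCast] at this
  have hfact : Fact p.Prime := ⟨hp⟩
  have hK := charP_residueField hp hmax
  let _ : Algebra (PF.{u} p) (ResidueField W) := (toField p (ResidueField W)).toAlgebra
  let _ : Algebra (PF.{u} p) D := (pfTo p D hpD).toAlgebra
  have hfs : Algebra.FormallySmooth (PF.{u} p) (ResidueField W) :=
    Groth.Agent.Lib.PBasisField3H44.formallySmooth_of_perfectRing p (PF.{u} p) (ResidueField W)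
  -- `g` kills the maximal ideal
  have hg0 : ∀ b ∈ maximalIdeal W, g b = 0 := by
    intro b hb
    rw [hmax] at hb
    obtain ⟨c, rfl⟩ := Ideal.mem_span_singleton.mp hb
    rw [map_mul, map_natCast]
    have : ((p : ℕ) : D ⧸ N) = Ideal.Quotient.mk N ((p : ℕ) : D) := (map_natCast _ p).symm
    rw [this, hpD, map_zero, zero_mul]
  let gbar₀ : ResidueField W →+* D ⧸ N := Ideal.Quotient.lift (maximalIdeal W) g.toRingHom hg0
  have hgbar₀ : ∀ b : W, gbar₀ (residue W b) = g b := fun b => rfl
  let gbar : ResidueField W →ₐ[PF.{u} p] D ⧸ N :=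
    { gbar₀ with
      commutes' := fun x => RingHom.congr_fun (pf_ringHom_ext p
        (gbar₀.comp (algebraMap (PF.{u} p) (ResidueField W))) (algebraMap (PF.{u} p) (D ⧸ N))) x }
  have hgbar : ∀ b : W, gbar (residue W b) = g b := fun b => rfl
  let l : ResidueField W →ₐ[PF.{u} p] D := Algebra.FormallySmooth.lift N ⟨2, hN⟩ gbar
  have hl : ∀ x, Ideal.Quotient.mk N (l x) = gbar x := fun x =>
    Algebra.FormallySmooth.mk_lift N ⟨2, hN⟩ gbar x
  refine ⟨toZAlgHom (l.toRingHom.comp (residue W)), AlgHom.ext fun b => ?_⟩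
  show Ideal.Quotient.mk N (l (residue W b)) = g b
  rw [hl, hgbar]

/-- A Cohen ring is formally smooth over the integers for the `p`-adic topologies. -/
theorem isFormallySmoothAdic_ulift_int :
    EGA41.IsFormallySmoothAdic (ZU.{u}) (Ideal.span {((p : ℕ) : ZU.{u})}) W
      (maximalIdeal W) := by
  have := flat_ulift_int hp hmax
  exact isFormallySmoothAdic_of_flat (liftKilled_ulift_int hp hmax) _

end cohen

end Groth.Agent.Lib.CohenRing
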