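import Mathlib
import Groth.Agent.S0580
import Groth.Agent.Lib.PSRegular33
import Groth.Agent.Lib.CMCat33
import Groth.Agent.Lib.H8CM6
import Groth.Agent.Lib.AdicNoeth

/-!
# Complete Noetherian local rings are universally catenary (helper33)

Via the Cohen structure theorem (helper89, S0580): a complete Noetherian local ring is a quotient
of a power series ring over a field or a Cohen ring, which is regular, hence Cohen–Macaulay, hence
universally catenary (`CMCat33`).

* `isUniversallyCatenary_of_surjective` : quotients of universally catenary rings are so;
* `isUniversallyCatenary_of_isRegularLocalRing`;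
* `isUniversallyCatenary_of_isAdicComplete`;
* `isUniversallyCatenary_adicCompletion` : the completion of a Noetherian local ring.
-/

set_option autoImplicit false
set_option linter.style.haveILetI false
universe u

namespace Groth.Agent.Lib.ComplUC33

open IsLocalRing

theorem isUniversallyCatenary_of_surjective {A R : Type u} [CommRing A] [CommRing R]
    (f : A →+* R) (hf : Function.Surjective f) (hA : CAlg.IsUniversallyCatenary A) :
    CAlg.IsUniversallyCatenary R := by
  haveI := hA.1
  refine ⟨isNoetherianRing_of_surjective A R f hf, ?_⟩
  intro S _ _ hS
  letI : Algebra A R := f.toAlgebra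
  letI : Algebra A S := ((algebraMap R S).comp f).toAlgebra
  haveI : IsScalarTower A R S := IsScalarTower.of_algebraMap_eq (fun _ => rfl)
  have h1 : Algebra.FiniteType A R := Algebra.FiniteType.of_surjective (Algebra.ofId A R) hf
  have h2 : Algebra.FiniteType A S := Algebra.FiniteType.trans h1 hS
  exact hA.2 S h2

theorem isUniversallyCatenary_of_isRegularLocalRing (A : Type u) [CommRing A]
    [IsRegularLocalRing A] : CAlg.IsUniversallyCatenary A := by
  haveI := H8CM.isCMLocalRing_of_isRegularLocalRing (R := A)
  haveI := H8CM.isCMRing_of_isCMLocalRing (R := A)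
  exact CMCat33.isUniversallyCatenary_of_isCM

lemma isRegularLocalRing_of_isField (Λ : Type u) [CommRing Λ] (h : IsField Λ) :
    IsRegularLocalRing Λ := by
  letI := h.toField
  infer_instance

lemma isRegularLocalRing_of_isCohenRing (Λ : Type u) [CommRing Λ] (h : CAlg.IsCohenRing Λ) :
    IsRegularLocalRing Λ := by
  obtain ⟨hdom, hdvr, -, -⟩ := h
  infer_instance

/-- A complete Noetherian local ring is universally catenary. -/
theorem isUniversallyCatenary_of_isAdicComplete (R : Type u) [CommRing R] [IsLocalRing R]
    [IsNoetherianRing R] [IsAdicComplete (maximalIdeal R) R] : CAlg.IsUniversallyCatenary R := by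
  obtain ⟨Λ, _, n, f, hΛ, hf⟩ := Groth.Agent.S0580.result R
    ((isNoetherianRing_iff_ideal_fg R).mp inferInstance _)
  haveI : IsRegularLocalRing Λ := by
    rcases hΛ with h | h
    · exact isRegularLocalRing_of_isField Λ h
    · exact isRegularLocalRing_of_isCohenRing Λ h
  haveI := PSRegular33.isRegularLocalRing_mvPowerSeries_fin Λ n
  exact isUniversallyCatenary_of_surjective f hf
    (isUniversallyCatenary_of_isRegularLocalRing (MvPowerSeries (Fin n) Λ))


section Completion

variable (A : Type u) [CommRing A] [IsLocalRing A] [IsNoetherianRing A]

instance isNoetherianRing_cpl : IsNoetherianRing (AdicCompletion (maximalIdeal A) A) :=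
  AdicNoeth.isNoetherianRing_adicCompletion _

/-- The completion of a Noetherian local ring is universally catenary. -/
theorem isUniversallyCatenary_adicCompletion :
    CAlg.IsUniversallyCatenary (AdicCompletion (maximalIdeal A) A) :=
  isUniversallyCatenary_of_isAdicComplete _

theorem isCatenary_of_isUniversallyCatenary {R : Type u} [CommRing R]
    (h : CAlg.IsUniversallyCatenary R) : CAlg.IsCatenary R :=
  h.2 R inferInstance

/-- The completion of a Noetherian local ring is catenary. -/
theorem isCatenary_adicCompletion : CAlg.IsCatenary (AdicCompletion (maximalIdeal A) A) :=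
  isCatenary_of_isUniversallyCatenary (isUniversallyCatenary_adicCompletion A)

/-- The closed fibre of `A → Â` is zero-dimensional. -/
theorem ringKrullDim_closedFibre_adicCompletion :
    ringKrullDim (AdicCompletion (maximalIdeal A) A ⧸
      (maximalIdeal A).map (algebraMap A (AdicCompletion (maximalIdeal A) A))) = 0 := by
  rw [← AdicCompletion.maximalIdeal_eq_map]
  exact ringKrullDim_eq_zero_of_isField
    ((Ideal.Quotient.maximal_ideal_iff_isField_quotient _).mp inferInstance)

end Completion

end Groth.Agent.Lib.ComplUC33
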