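import Mathlib
import Groth.Agent.Lib.EquidimCat33
import Groth.Agent.Lib.Catenary
import Groth.Agent.Lib.CatenaryDim

/-!
# Localizations of equidimensional catenary local rings are equidimensional (helper33)

* `height_add_coheight_of_covBy` : in a Noetherian local ring `L` in which `ht b = ht a + 1` whenever
  `a ⋖ b`, one has `ht a + coheight a = ht 𝔪` for every prime `a`;
* `isEquidim_of_height_covBy` : such a ring is equidimensional;
* `isEquidim_localization` : `S` Noetherian local, equidimensional and catenary ⇒ `S_P` is
  equidimensional for every prime `P`.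
-/

set_option autoImplicit false
set_option linter.style.haveILetI false
set_option linter.unusedSectionVars false
universe u

namespace Groth.Agent.Lib.EquidimLoc33

open IsLocalRing Groth.Agent.Lib

section R1

variable {L : Type u} [CommRing L] [IsNoetherianRing L] [IsLocalRing L]

theorem height_add_coheight_of_covBy
    (hcov : ∀ a b : PrimeSpectrum L, a ⋖ b → b.asIdeal.height = a.asIdeal.height + 1)
    (a : PrimeSpectrum L) :
    a.asIdeal.height + Order.coheight a = (maximalIdeal L).height := by
  have key : ∀ j : ℕ, ∀ a : PrimeSpectrum L, Order.coheight a = j →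
      a.asIdeal.height + (j : ℕ∞) = (maximalIdeal L).height := by
    intro j
    induction j with
    | zero =>
      intro a ha
      have hmax : IsMax a := Order.coheight_eq_zero.1 (by simpa using ha)
      rw [CatenaryDim.isMax_eq_closedPoint hmax]
      simp [IsLocalRing.closedPoint]
    | succ j ih =>
      intro a ha
      obtain ⟨b, hab, hb⟩ := CatenaryDim.exists_covBy_of_coheight (a := a) (j := j)
        (by rw [ha]; push_cast; rfl)
      have h1 := ih b hb
      rw [hcov a b hab] at h1
      rw [← h1]
      push_cast
      ring
  obtain ⟨m, hm⟩ := EquidimCat33.exists_coheight_eq a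
  rw [hm]
  exact key m a hm

theorem isEquidim_of_height_covBy
    (hcov : ∀ a b : PrimeSpectrum L, a ⋖ b → b.asIdeal.height = a.asIdeal.height + 1) :
    EGA4.IsEquidim L := by
  intro p hp
  haveI : p.IsPrime := hp.1.1
  have h0 : p.height = 0 := Ideal.height_eq_zero_iff.mpr hp
  have h1 := height_add_coheight_of_covBy hcov ⟨p, hp.1.1⟩
  simp only [h0, zero_add] at h1
  have h2 := EquidimCat33.coheight_eq (⟨p, hp.1.1⟩ : PrimeSpectrum L)
  simp only at h2
  rw [← h2, h1, IsLocalRing.maximalIdeal_height_eq_ringKrullDim]

end R1

section Loc

variable {S : Type u} [CommRing S] [IsNoetherianRing S] [IsLocalRing S]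

/-- Localizations at primes of an equidimensional catenary Noetherian local ring are
equidimensional. -/
theorem isEquidim_localization (hE : EGA4.IsEquidim S) (hC : CAlg.IsCatenary S)
    (P : Ideal S) [P.IsPrime] (L : Type u) [CommRing L] [Algebra S L]
    [IsLocalization.AtPrime L P] : EGA4.IsEquidim L := by
  haveI : IsLocalRing L := IsLocalization.AtPrime.isLocalRing L P
  haveI : IsNoetherianRing L := IsLocalization.isNoetherianRing P.primeCompl L inferInstance
  apply isEquidim_of_height_covBy
  intro a b hab
  have h1 : Catenary.locEmb P.primeCompl L a ⋖ Catenary.locEmb P.primeCompl L b :=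
    OrdCat.covBy_map_of_convex _
      (fun x y c _ hcy => Catenary.locEmb_lower P.primeCompl L y c hcy) hab
  have h2 := EquidimCat33.height_eq_add_one_of_covBy hE hC h1
  rw [Catenary.locEmb_apply, Catenary.locEmb_apply] at h2
  change (b.asIdeal.under S).height = (a.asIdeal.under S).height + 1 at h2
  rwa [IsLocalization.height_under P.primeCompl, IsLocalization.height_under P.primeCompl] at h2

end Loc

end Groth.Agent.Lib.EquidimLoc33
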