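import Groth.Agent.Lib.ComplMap
import Groth.Agent.Lib.AdicNoeth
import Mathlib.RingTheory.AdicCompletion.AsTensorProduct
import Mathlib.RingTheory.Flat.Localization
import Mathlib.RingTheory.RingHom.Flat
import Mathlib.RingTheory.Localization.Submodule

set_option autoImplicit false
universe u

namespace Groth.Agent.Lib.ComplFlat

open Groth.Agent.Lib.ComplMap

section Levelwise

variable {S T : Type u} [CommRing S] [CommRing T] (I : Ideal S) (K : Ideal T) (g : S →+* T)

lemma factorPow_quotientMap (h : I.map g ≤ K) {m n : ℕ} (hle : m ≤ n) (w : S ⧸ I ^ n) :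
    Ideal.Quotient.factorPow K hle
        (Ideal.quotientMap (K ^ n) g (FSch.pow_le_comap_pow_of_map_le I K g h n) w) =
      Ideal.quotientMap (K ^ m) g (FSch.pow_le_comap_pow_of_map_le I K g h m)
        (Ideal.Quotient.factorPow I hle w) := by
  obtain ⟨s, rfl⟩ := Ideal.Quotient.mk_surjective w
  rfl

/-- A completed map which is bijective at every level is bijective. -/
theorem complMap_bijective_of_levelwise (h : I.map g ≤ K)
    (H : ∀ n, Function.Bijective
      (Ideal.quotientMap (K ^ n) g (FSch.pow_le_comap_pow_of_map_le I K g h n))) :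
    Function.Bijective (FSch.complMap I K g h) := by
  constructor
  · rw [injective_iff_map_eq_zero]
    intro x hx
    refine AdicCompletion.ext_evalₐ fun n => ?_
    apply (H n).1
    rw [← evalₐ_complMap I K g h, hx, map_zero, map_zero, map_zero]
  · intro z
    let e : ∀ n, (S ⧸ I ^ n) ≃+* (T ⧸ K ^ n) := fun n => RingEquiv.ofBijective _ (H n)
    let f : ∀ n, AdicCompletion K T →+* S ⧸ I ^ n := fun n =>
      ((e n).symm : (T ⧸ K ^ n) →+* (S ⧸ I ^ n)).comp (AdicCompletion.evalₐ K n).toRingHom
    have hf : ∀ {m n : ℕ} (hle : m ≤ n), (Ideal.Quotient.factorPow I hle).comp (f n) = f m := by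
      intro m n hle
      ext w
      apply (H m).1
      simp only [f, RingHom.coe_comp, Function.comp_apply]
      rw [← factorPow_quotientMap I K g h hle]
      change Ideal.Quotient.factorPow K hle ((e n) ((e n).symm _)) = (e m) ((e m).symm _)
      rw [RingEquiv.apply_symm_apply, RingEquiv.apply_symm_apply]
      exact factorPow_evalₐ K hle w
    refine ⟨AdicCompletion.liftRingHom I f hf z, AdicCompletion.ext_evalₐ fun n => ?_⟩
    rw [evalₐ_complMap, AdicCompletion.evalₐ_liftRingHom]
    change (e n) ((e n).symm _) = _
    rw [RingEquiv.apply_symm_apply]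
    rfl

end Levelwise

section Flat

/-- The kernel of the evaluation map of the adic completion at level `n`. -/
lemma ker_evalₐ_eq_map {R : Type*} [CommRing R] (I : Ideal R) (fg : I.FG) (n : ℕ) :
    RingHom.ker (AdicCompletion.evalₐ I n).toRingHom =
      (I ^ n).map (algebraMap R (AdicCompletion I R)) := by
  ext x
  trans x ∈ (AdicCompletion.eval I R n).ker
  · have eq : I ^ n * ⊤ = I ^ n := by simp
    have : Function.Injective (Ideal.Quotient.factor ((le_of_eq eq))) := by
      simpa [RingHom.injective_iff_ker_eq_bot, Ideal.Quotient.factor_ker]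
        using Ideal.map_mk_eq_bot_of_le (le_of_eq eq.symm)
    simpa [← AdicCompletion.factor_eval_eq_evalₐ] using map_eq_zero_iff _ this
  · simp [← AdicCompletion.pow_smul_top_eq_ker_eval fg]

variable {R : Type u} [CommRing R] [IsNoetherianRing R] (I : Ideal R) {C : Type u} [CommRing C]
  (g : R →+* C) (M : Submonoid R)

/-- The completion of a localization of a Noetherian ring `R` is flat over the completion of
`R`. -/
theorem flat_complMap (hloc : @IsLocalization R _ M C _ g.toAlgebra) (K : Ideal C)
    (hK : I.map g = K) : (FSch.complMap I K g hK.le).Flat := by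
  let _ : Algebra R C := g.toAlgebra
  have : IsLocalization M C := hloc
  have hgalg : ∀ r, algebraMap R C r = g r := fun _ => rfl
  have hN : IsNoetherianRing (AdicCompletion I R) := AdicNoeth.isNoetherianRing_adicCompletion I
  have hIfg : I.FG := IsNoetherian.noetherian I
  let T : Submonoid (AdicCompletion I R) := M.map (algebraMap R (AdicCompletion I R))
  have hND : IsNoetherianRing (Localization T) := IsLocalization.isNoetherianRing T _ hN
  let L : Ideal (Localization T) :=
    (I.map (algebraMap R (AdicCompletion I R))).map (algebraMap (AdicCompletion I R) (Localization T))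
  have hunits : ∀ m : M, IsUnit (((algebraMap (AdicCompletion I R) (Localization T)).comp
      (algebraMap R (AdicCompletion I R))) m) := fun m =>
    IsLocalization.map_units (Localization T)
      (⟨algebraMap R (AdicCompletion I R) m, ⟨m, m.2, rfl⟩⟩ : T)
  let α : C →+* Localization T := IsLocalization.lift hunits
  have hα : ∀ r, α (g r) = algebraMap (AdicCompletion I R) (Localization T)
      (algebraMap R (AdicCompletion I R) r) := fun r => IsLocalization.lift_eq hunits r
  have hαg : α.comp g = (algebraMap (AdicCompletion I R) (Localization T)).comp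
      (algebraMap R (AdicCompletion I R)) := RingHom.ext hα
  have hαL : K.map α ≤ L := by
    rw [← hK, Ideal.map_map, hαg, ← Ideal.map_map]
  have hLpow : ∀ n, L ^ n = ((I ^ n).map (algebraMap R (AdicCompletion I R))).map
      (algebraMap (AdicCompletion I R) (Localization T)) := fun n => by
    rw [Ideal.map_pow, Ideal.map_pow]
  -- the key levelwise identity
  have key : ∀ (n : ℕ) (x : AdicCompletion I R),
      Ideal.quotientMap (L ^ n) α (FSch.pow_le_comap_pow_of_map_le K L α hαL n)
        (Ideal.quotientMap (K ^ n) g (FSch.pow_le_comap_pow_of_map_le I K g hK.le n)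
          (AdicCompletion.evalₐ I n x)) =
      Ideal.Quotient.mk (L ^ n) (algebraMap (AdicCompletion I R) (Localization T) x) := by
    intro n x
    obtain ⟨r, hr⟩ := Ideal.Quotient.mk_surjective (AdicCompletion.evalₐ I n x)
    have hx : x - algebraMap R (AdicCompletion I R) r ∈
        (I ^ n).map (algebraMap R (AdicCompletion I R)) := by
      rw [← ker_evalₐ_eq_map I hIfg n, RingHom.mem_ker]
      change AdicCompletion.evalₐ I n (x - algebraMap R (AdicCompletion I R) r) = 0
      rw [map_sub, AdicCompletion.algebraMap_apply]
      simp only [Algebra.algebraMap_self, RingHom.id_apply]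
      rw [AdicCompletion.evalₐ_of, hr, sub_self]
    rw [← hr, Ideal.quotientMap_mk, Ideal.quotientMap_mk, hα, eq_comm, Ideal.Quotient.eq,
      ← map_sub, hLpow]
    exact Ideal.mem_map_of_mem _ hx
  -- levelwise bijectivity
  have hbij : ∀ n, Function.Bijective
      (Ideal.quotientMap (L ^ n) α (FSch.pow_le_comap_pow_of_map_le K L α hαL n)) := by
    intro n
    let γ : AdicCompletion I R →+* C ⧸ K ^ n :=
      (Ideal.quotientMap (K ^ n) g (FSch.pow_le_comap_pow_of_map_le I K g hK.le n)).comp
        (AdicCompletion.evalₐ I n).toRingHom
    have hγof : ∀ r : R, γ (algebraMap R (AdicCompletion I R) r) =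
        Ideal.Quotient.mk (K ^ n) (g r) := by
      intro r
      change Ideal.quotientMap (K ^ n) g (FSch.pow_le_comap_pow_of_map_le I K g hK.le n)
        (AdicCompletion.evalₐ I n (algebraMap R (AdicCompletion I R) r)) = _
      rw [AdicCompletion.algebraMap_apply]
      simp only [Algebra.algebraMap_self, RingHom.id_apply]
      rw [AdicCompletion.evalₐ_of, Ideal.quotientMap_mk]
    have hγunits : ∀ t : T, IsUnit (γ t) := by
      rintro ⟨_, m, hm, rfl⟩
      change IsUnit (γ (algebraMap R (AdicCompletion I R) m))
      rw [hγof]
      exact (IsLocalization.map_units C (⟨m, hm⟩ : M)).map (Ideal.Quotient.mk (K ^ n))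
    let δ : Localization T →+* C ⧸ K ^ n := IsLocalization.lift hγunits
    have hδ : ∀ x, δ (algebraMap (AdicCompletion I R) (Localization T) x) = γ x :=
      fun x => IsLocalization.lift_eq hγunits x
    have hδL : ∀ a ∈ L ^ n, δ a = 0 := by
      have : L ^ n ≤ RingHom.ker δ := by
        rw [hLpow, Ideal.map_le_iff_le_comap, Ideal.map_le_iff_le_comap]
        intro i hi
        rw [Ideal.mem_comap, Ideal.mem_comap, RingHom.mem_ker, hδ, hγof, Ideal.Quotient.eq_zero_iff_mem]
        exact FSch.pow_le_comap_pow_of_map_le I K g hK.le n hi
      exact fun a ha => this ha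
    let β : Localization T ⧸ L ^ n →+* C ⧸ K ^ n := Ideal.Quotient.lift (L ^ n) δ hδL
    have hleft : β.comp (Ideal.quotientMap (L ^ n) α
        (FSch.pow_le_comap_pow_of_map_le K L α hαL n)) = RingHom.id _ := by
      apply Ideal.Quotient.ringHom_ext
      apply IsLocalization.ringHom_ext M
      ext r
      simp only [RingHom.coe_comp, Function.comp_apply, RingHom.id_apply, hgalg]
      rw [Ideal.quotientMap_mk, hα]
      change δ _ = _
      rw [hδ, hγof]
    have hright : (Ideal.quotientMap (L ^ n) α
        (FSch.pow_le_comap_pow_of_map_le K L α hαL n)).comp β = RingHom.id _ := by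
      apply Ideal.Quotient.ringHom_ext
      apply IsLocalization.ringHom_ext T
      ext x
      simp only [RingHom.coe_comp, Function.comp_apply, RingHom.id_apply]
      change Ideal.quotientMap (L ^ n) α _ (δ _) = _
      rw [hδ]
      exact key n x
    refine Function.bijective_iff_has_inverse.mpr ⟨β, fun w => ?_, fun v => ?_⟩
    · exact congrArg (fun φ : (C ⧸ K ^ n) →+* (C ⧸ K ^ n) => φ w) hleft
    · exact congrArg (fun φ : (Localization T ⧸ L ^ n) →+* (Localization T ⧸ L ^ n) => φ v) hright
  have hαbij := complMap_bijective_of_levelwise K L α hαL hbij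
  -- compatibility of the two maps out of the completion of `R`
  have hcomp : ∀ x : AdicCompletion I R,
      FSch.complMap K L α hαL (FSch.complMap I K g hK.le x) =
        algebraMap (Localization T) (AdicCompletion L (Localization T))
          (algebraMap (AdicCompletion I R) (Localization T) x) := by
    intro x
    refine AdicCompletion.ext_evalₐ fun n => ?_
    rw [evalₐ_complMap, evalₐ_complMap, key, AdicCompletion.algebraMap_apply]
    simp only [Algebra.algebraMap_self, RingHom.id_apply]
    rw [AdicCompletion.evalₐ_of]
  -- flatness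
  have hflat1 : Module.Flat (AdicCompletion I R) (Localization T) := IsLocalization.flat _ T
  have hflat2 : Module.Flat (Localization T) (AdicCompletion L (Localization T)) := inferInstance
  have hflat : Module.Flat (AdicCompletion I R) (AdicCompletion L (Localization T)) :=
    Module.Flat.trans _ (Localization T) _
  unfold RingHom.Flat
  let _ : Algebra (AdicCompletion I R) (AdicCompletion K C) :=
    (FSch.complMap I K g hK.le).toAlgebra
  let e : AdicCompletion K C ≃ₗ[AdicCompletion I R] AdicCompletion L (Localization T) :=
    { (RingEquiv.ofBijective _ hαbij).toAddEquiv with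
      map_smul' := fun x c => by
        change FSch.complMap K L α hαL (FSch.complMap I K g hK.le x * c) =
          x • FSch.complMap K L α hαL c
        rw [map_mul, hcomp, Algebra.smul_def, IsScalarTower.algebraMap_apply (AdicCompletion I R)
          (Localization T) (AdicCompletion L (Localization T))] }
  exact Module.Flat.of_linearEquiv e

end Flat

end Groth.Agent.Lib.ComplFlat
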