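import Groth.Prelude.Def_FSch3
import Mathlib.RingTheory.AdicCompletion.Completeness
import Mathlib.RingTheory.Ideal.Quotient.Nilpotent
import Mathlib.RingTheory.LocalRing.RingHom.Basic

set_option autoImplicit false
universe u

namespace Groth.Agent.Lib.ComplMap

section Eval

variable {R : Type*} [CommRing R] (I : Ideal R)

/-- Compatibility of the evaluation maps of the adic completion with the transition maps. -/
lemma factorPow_evalₐ {m n : ℕ} (hle : m ≤ n) (x : AdicCompletion I R) :
    Ideal.Quotient.factorPow I hle (AdicCompletion.evalₐ I n x) = AdicCompletion.evalₐ I m x := by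
  obtain ⟨y, rfl⟩ := AdicCompletion.mk_surjective I R x
  simp only [AdicCompletion.evalₐ_mk, Ideal.Quotient.factorPow, Ideal.Quotient.factor_mk]
  rw [Ideal.Quotient.eq]
  have hy := y.2 hle
  rw [SModEq.sub_mem] at hy
  simp only [smul_eq_mul, Ideal.mul_top] at hy
  rw [← neg_sub]
  exact (I ^ m).neg_mem hy

/-- An element of the adic completion all of whose evaluations are units is a unit. -/
lemma isUnit_of_forall_isUnit_evalₐ (x : AdicCompletion I R)
    (h : ∀ n, IsUnit (AdicCompletion.evalₐ I n x)) : IsUnit x := by
  let f : ∀ n, Localization.Away x →+* R ⧸ I ^ n := fun n =>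
    IsLocalization.Away.lift x (g := (AdicCompletion.evalₐ I n).toRingHom) (h n)
  have hf : ∀ {m n : ℕ} (hle : m ≤ n), (Ideal.Quotient.factorPow I hle).comp (f n) = f m := by
    intro m n hle
    apply IsLocalization.ringHom_ext (Submonoid.powers x)
    ext y
    simp only [f, RingHom.coe_comp, Function.comp_apply, IsLocalization.Away.lift_eq]
    exact factorPow_evalₐ I hle y
  have hΦ : ∀ y, AdicCompletion.liftRingHom I f hf (algebraMap _ (Localization.Away x) y) = y :=
    fun y => AdicCompletion.ext_evalₐ fun n => by
      rw [AdicCompletion.evalₐ_liftRingHom]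
      exact IsLocalization.Away.lift_eq x (h n) y
  rw [← hΦ x]
  exact (IsLocalization.Away.algebraMap_isUnit x).map (AdicCompletion.liftRingHom I f hf)

/-- An element of the adic completion is a unit as soon as its evaluation at level one is. -/
lemma isUnit_of_isUnit_evalₐ_one (x : AdicCompletion I R)
    (h : IsUnit (AdicCompletion.evalₐ I 1 x)) : IsUnit x := by
  refine isUnit_of_forall_isUnit_evalₐ I x fun n => ?_
  rcases Nat.eq_zero_or_pos n with rfl | hn
  · have : Subsingleton (R ⧸ I ^ 0) := by
      rw [pow_zero]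
      exact Ideal.Quotient.subsingleton_iff.mpr Ideal.one_eq_top
    exact isUnit_of_subsingleton _
  · obtain ⟨y, rfl⟩ := AdicCompletion.mk_surjective I R x
    rw [AdicCompletion.evalₐ_mk] at h ⊢
    rw [Ideal.Quotient.isUnit_mk_pow_iff_isUnit_mk I hn.ne']
    rw [Ideal.Quotient.isUnit_mk_pow_iff_isUnit_mk I one_ne_zero] at h
    have hy := y.2 (show 1 ≤ n from hn)
    rw [SModEq.sub_mem] at hy
    simp only [smul_eq_mul, Ideal.mul_top, pow_one] at hy
    have : Ideal.Quotient.mk I (y.1 n) = Ideal.Quotient.mk I (y.1 1) := by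
      rw [Ideal.Quotient.eq, ← neg_sub]
      exact I.neg_mem hy
    rwa [this]

lemma isUnit_iff_isUnit_evalₐ_one (x : AdicCompletion I R) :
    IsUnit x ↔ IsUnit (AdicCompletion.evalₐ I 1 x) :=
  ⟨fun h => h.map _, isUnit_of_isUnit_evalₐ_one I x⟩

/-- The evaluation at level one is a local homomorphism. -/
lemma isLocalHom_evalₐ_one : IsLocalHom (AdicCompletion.evalₐ I 1).toRingHom :=
  ⟨fun x hx => isUnit_of_isUnit_evalₐ_one I x hx⟩

/-- The completion of a local ring along a proper ideal is a local ring. -/
lemma isLocalRing_adicCompletion [IsLocalRing R] (hI : I ≠ ⊤) :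
    IsLocalRing (AdicCompletion I R) := by
  have : Nontrivial (R ⧸ I ^ 1) := by
    rw [pow_one]
    exact Ideal.Quotient.nontrivial_iff.mpr hI
  have : IsLocalRing (R ⧸ I ^ 1) :=
    IsLocalRing.of_surjective' (Ideal.Quotient.mk (I ^ 1)) Ideal.Quotient.mk_surjective
  have := isLocalHom_evalₐ_one I
  exact RingHom.domain_isLocalRing (AdicCompletion.evalₐ I 1).toRingHom

end Eval

section ComplMap

variable {S T U : Type u} [CommRing S] [CommRing T] [CommRing U]
  (I : Ideal S) (K : Ideal T) (L : Ideal U) (g : S →+* T) (g' : T →+* U)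

/-- The completed map, evaluated at each level. -/
lemma evalₐ_complMap (h : I.map g ≤ K) (n : ℕ) (x : AdicCompletion I S) :
    AdicCompletion.evalₐ K n (FSch.complMap I K g h x) =
      Ideal.quotientMap (K ^ n) g (FSch.pow_le_comap_pow_of_map_le I K g h n)
        (AdicCompletion.evalₐ I n x) := by
  unfold FSch.complMap
  generalize_proofs
  rw [AdicCompletion.evalₐ_liftRingHom]
  all_goals first | rfl | assumption

/-- The completed map is compatible with the canonical maps into the completions. -/
lemma complMap_algebraMap (h : I.map g ≤ K) (s : S) :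
    FSch.complMap I K g h (algebraMap S (AdicCompletion I S) s) =
      algebraMap T (AdicCompletion K T) (g s) := by
  refine AdicCompletion.ext_evalₐ fun n => ?_
  rw [evalₐ_complMap, AdicCompletion.algebraMap_apply, AdicCompletion.algebraMap_apply]
  simp

/-- Functoriality of the completed maps. -/
lemma complMap_comp (h : I.map g ≤ K) (h' : K.map g' ≤ L) (h'' : I.map (g'.comp g) ≤ L)
    (x : AdicCompletion I S) :
    FSch.complMap K L g' h' (FSch.complMap I K g h x) = FSch.complMap I L (g'.comp g) h'' x := by
  refine AdicCompletion.ext_evalₐ fun n => ?_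
  rw [evalₐ_complMap, evalₐ_complMap, evalₐ_complMap]
  obtain ⟨y, hy⟩ := Ideal.Quotient.mk_surjective (AdicCompletion.evalₐ I n x)
  rw [← hy]
  simp

end ComplMap

end Groth.Agent.Lib.ComplMap
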