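import Groth.Agent.Lib.CMFlat33
import Groth.Agent.Lib.CMRingEquiv96
import Groth.Agent.Lib.FlatCrit
import Mathlib.RingTheory.TensorProduct.Quotient
import Mathlib.RingTheory.Ideal.Over
import Mathlib.RingTheory.Flat.FaithfullyFlat.Algebra

/-!
# Cohen–Macaulay fibres of a composition (helper33)

`φ : A → B`, `χ : B → C` local homomorphisms of local rings, `χ` flat.  With `I = 𝔪_A B`,
`J = 𝔪_A C = I C`, `K = 𝔪_B C` and `B/I`, `C/J` Noetherian:
`C/J` is CM iff `B/I` and `C/K` are CM.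
-/

set_option autoImplicit false
set_option linter.unusedSectionVars false
universe u

namespace Groth.Agent.Lib.CMComp33

open IsLocalRing Groth.Agent.Lib TensorProduct

variable {A B C : Type u} [CommRing A] [CommRing B] [CommRing C]
  [IsLocalRing A] [IsLocalRing B] [IsLocalRing C]
  (φ : A →+* B) (χ : B →+* C) [IsLocalHom φ] [IsLocalHom χ]

/-- `𝔪_A B ≤ 𝔪_B`. -/
lemma map_le_maximalIdeal : Ideal.map φ (maximalIdeal A) ≤ maximalIdeal B :=
  ((local_hom_TFAE φ).out 0 2).mp ‹IsLocalHom φ›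

/-- `𝔪_A C ≤ 𝔪_B C`. -/
lemma map_map_le : Ideal.map χ (Ideal.map φ (maximalIdeal A)) ≤ Ideal.map χ (maximalIdeal B) :=
  Ideal.map_mono (map_le_maximalIdeal φ)

/-- The induced map `B/I → C/IC` for an ideal `I` of `B`. -/
noncomputable def quotMap (I : Ideal B) : (B ⧸ I) →+* (C ⧸ Ideal.map χ I) :=
  Ideal.quotientMap _ χ Ideal.le_comap_map

lemma quotMap_mk (I : Ideal B) (b : B) :
    quotMap χ I (Ideal.Quotient.mk _ b) = Ideal.Quotient.mk _ (χ b) := rfl

/-- Base change of a flat algebra along a quotient is flat. -/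
lemma flat_quotient {B C : Type u} [CommRing B] [CommRing C] [Algebra B C] [Module.Flat B C]
    (I : Ideal B) : Module.Flat (B ⧸ I) (C ⧸ Ideal.map (algebraMap B C) I) :=
  Module.Flat.of_linearEquiv
    (Algebra.TensorProduct.quotIdealMapEquivQuotTensor C I).toLinearEquiv

/-- Base change of a flat map along a quotient is flat. -/
lemma quotMap_flat (I : Ideal B) (hχ : χ.Flat) : (quotMap χ I).Flat := by
  let _ : Algebra B C := χ.toAlgebra
  have hflat : Module.Flat B C := hχ
  have h : (algebraMap (B ⧸ I) (C ⧸ Ideal.map (algebraMap B C) I)).Flat :=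
    RingHom.flat_algebraMap_iff.mpr (flat_quotient I)
  exact h

/-- A quotient of a local ring by a proper ideal is local. -/
lemma isLocalRing_quotient {R : Type u} [CommRing R] [IsLocalRing R] (I : Ideal R) (hI : I ≠ ⊤) :
    IsLocalRing (R ⧸ I) := by
  have : Nontrivial (R ⧸ I) := Ideal.Quotient.nontrivial_iff.mpr hI
  exact IsLocalRing.of_surjective' (Ideal.Quotient.mk _) Ideal.Quotient.mk_surjective

lemma map_maximalIdeal_ne_top : Ideal.map χ (maximalIdeal B) ≠ ⊤ :=
  (map_maximalIdeal_lt_top χ).ne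

lemma isLocalHom_quotMap (I : Ideal B) [IsLocalRing (B ⧸ I)] [IsLocalRing (C ⧸ Ideal.map χ I)] :
    IsLocalHom (quotMap χ I) := by
  constructor
  intro b hb
  obtain ⟨b, rfl⟩ := Ideal.Quotient.mk_surjective b
  rw [quotMap_mk] at hb
  have hloc : IsLocalHom (Ideal.Quotient.mk (Ideal.map χ I)) :=
    IsLocalHom.of_surjective _ Ideal.Quotient.mk_surjective
  have h1 : IsUnit (χ b) := (isUnit_map_iff (Ideal.Quotient.mk (Ideal.map χ I)) _).mp hb
  have h2 : IsUnit b := (isUnit_map_iff χ b).mp h1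
  exact h2.map _

/-- The closed fibre of `B/I → C/IC` is `C/𝔪_B C`. -/
noncomputable def fibreEquiv (I : Ideal B) (hI : I ≤ maximalIdeal B) [IsLocalRing (B ⧸ I)] :
    ((C ⧸ Ideal.map χ I) ⧸ Ideal.map (quotMap χ I) (maximalIdeal (B ⧸ I))) ≃+*
      C ⧸ Ideal.map χ (maximalIdeal B) := by
  have h1 : Ideal.map (quotMap χ I) (maximalIdeal (B ⧸ I)) =
      Ideal.map (Ideal.Quotient.mk (Ideal.map χ I)) (Ideal.map χ (maximalIdeal B)) := by
    rw [CMFlat33.maximalIdeal_quotient I, Ideal.map_map, Ideal.map_map]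
    rfl
  have h2 : Ideal.map χ I ⊔ Ideal.map χ (maximalIdeal B) = Ideal.map χ (maximalIdeal B) :=
    sup_eq_right.mpr (Ideal.map_mono hI)
  exact (Ideal.quotEquivOfEq h1).trans
    ((DoubleQuot.quotQuotEquivQuotSup (Ideal.map χ I) (Ideal.map χ (maximalIdeal B))).trans
      (Ideal.quotEquivOfEq h2))

/-- **CM fibres of a composition.** -/
theorem isCohenMacaulayLocalRing_comp_iff (hχ : χ.Flat)
    [IsNoetherianRing (B ⧸ Ideal.map φ (maximalIdeal A))]
    [IsNoetherianRing (C ⧸ Ideal.map χ (Ideal.map φ (maximalIdeal A)))] :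
    LocCoh.IsCohenMacaulayLocalRing (C ⧸ Ideal.map χ (Ideal.map φ (maximalIdeal A))) ↔
      (LocCoh.IsCohenMacaulayLocalRing (B ⧸ Ideal.map φ (maximalIdeal A)) ∧
        LocCoh.IsCohenMacaulayLocalRing (C ⧸ Ideal.map χ (maximalIdeal B))) := by
  have hI : Ideal.map φ (maximalIdeal A) ≤ maximalIdeal B := map_le_maximalIdeal φ
  have hI' : Ideal.map φ (maximalIdeal A) ≠ ⊤ := (map_maximalIdeal_lt_top φ).ne
  have hJ' : Ideal.map χ (Ideal.map φ (maximalIdeal A)) ≠ ⊤ := fun h =>
    map_maximalIdeal_ne_top χ (top_le_iff.mp (h ▸ map_map_le φ χ))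
  have hlB : IsLocalRing (B ⧸ Ideal.map φ (maximalIdeal A)) := isLocalRing_quotient _ hI'
  have hlC : IsLocalRing (C ⧸ Ideal.map χ (Ideal.map φ (maximalIdeal A))) :=
    isLocalRing_quotient _ hJ'
  have hloc := isLocalHom_quotMap χ (Ideal.map φ (maximalIdeal A))
  have key := CMFlat33.isCohenMacaulayLocalRing_iff (quotMap χ (Ideal.map φ (maximalIdeal A)))
    (quotMap_flat χ _ hχ)
  rw [key]
  refine and_congr_right fun _ => ⟨fun h => ?_, fun h => ?_⟩
  · exact CMRingEquiv96.isCohenMacaulayLocalRing_of_ringEquiv (fibreEquiv χ _ hI)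
  · exact CMRingEquiv96.isCohenMacaulayLocalRing_of_ringEquiv (fibreEquiv χ _ hI).symm

/-- For `χ : B → C` flat, the dimension of `B/𝔪_A B` is at most that of `C/𝔪_A C`. -/
theorem ringKrullDim_quotient_le (hχ : χ.Flat) [IsNoetherianRing B] [IsNoetherianRing C] :
    ringKrullDim (B ⧸ Ideal.map φ (maximalIdeal A)) ≤
      ringKrullDim (C ⧸ Ideal.map χ (Ideal.map φ (maximalIdeal A))) := by
  have hI' : Ideal.map φ (maximalIdeal A) ≠ ⊤ := (map_maximalIdeal_lt_top φ).ne
  have hJ' : Ideal.map χ (Ideal.map φ (maximalIdeal A)) ≠ ⊤ := fun h =>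
    map_maximalIdeal_ne_top χ (top_le_iff.mp (h ▸ map_map_le φ χ))
  have hlB : IsLocalRing (B ⧸ Ideal.map φ (maximalIdeal A)) := isLocalRing_quotient _ hI'
  have hlC : IsLocalRing (C ⧸ Ideal.map χ (Ideal.map φ (maximalIdeal A))) :=
    isLocalRing_quotient _ hJ'
  have hloc := isLocalHom_quotMap χ (Ideal.map φ (maximalIdeal A))
  have key := CMFlat33.ringKrullDim_eq_add' (quotMap χ (Ideal.map φ (maximalIdeal A)))
    (quotMap_flat χ _ hχ)
  rw [key]
  have h0 : (0 : WithBot ℕ∞) ≤ ringKrullDim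
      ((C ⧸ Ideal.map χ (Ideal.map φ (maximalIdeal A))) ⧸
        Ideal.map (quotMap χ (Ideal.map φ (maximalIdeal A)))
          (maximalIdeal (B ⧸ Ideal.map φ (maximalIdeal A)))) := by
    have : Nontrivial ((C ⧸ Ideal.map χ (Ideal.map φ (maximalIdeal A))) ⧸
        Ideal.map (quotMap χ (Ideal.map φ (maximalIdeal A)))
          (maximalIdeal (B ⧸ Ideal.map φ (maximalIdeal A)))) :=
      Ideal.Quotient.nontrivial_iff.mpr (map_maximalIdeal_lt_top _).ne
    exact ringKrullDim_nonneg_of_nontrivial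
  exact le_add_of_nonneg_right h0

/-- Flatness descends along a flat local (hence faithfully flat) homomorphism. -/
theorem flat_of_comp_flat {A B C : Type u} [CommRing A] [CommRing B] [CommRing C]
    [IsLocalRing B] [IsLocalRing C] (φ : A →+* B) (χ : B →+* C) [IsLocalHom χ]
    (hχ : χ.Flat) (h : (χ.comp φ).Flat) : φ.Flat := by
  let _ : Algebra A B := φ.toAlgebra
  let _ : Algebra B C := χ.toAlgebra
  let _ : Algebra A C := (χ.comp φ).toAlgebra
  have : IsScalarTower A B C := IsScalarTower.of_algebraMap_eq' rfl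
  have h1 : Module.Flat B C := hχ
  have hloc : IsLocalHom (algebraMap B C) := ‹IsLocalHom χ›
  have h2 : Module.FaithfullyFlat B C := Module.FaithfullyFlat.of_flat_of_isLocalHom
  have h3 : Module.Flat A C := h
  exact FlatCrit.flat_of_faithfullyFlat_of_flat (R := A) B (N := C)

end Groth.Agent.Lib.CMComp33
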