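import Mathlib
import Groth.Agent.S9297
import Groth.Agent.Lib.EquidimCat33
import Groth.Agent.Lib.CMCat33
import Groth.Agent.Lib.CMComp33
import Groth.Agent.Lib.H56SkFibre
import Groth.Agent.Lib.H56FlatLocal

/-!
# Descent of "equidimensional + catenary" along flat local homomorphisms (helper33)

`A → B` flat local homomorphism of Noetherian local rings, `B` equidimensional and catenary.
* `ringKrullDim_quotient_map` : `dim C/IC = dim B/I + dim C/𝔪_B C` (flat local `B → C`);
* `height_add_ringKrullDim_quotient` : `ht p + dim A/p = dim A` for all primes `p` of `A`;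
* `isEquidim`, `isCatenary` : `A` is equidimensional and catenary (EGA IV 7.1.3-type descent);
* `ringKrullDim_quotient_eq_of_mem_minimalPrimes` : when the closed fibre has dimension zero,
  `dim B/Q = dim A/q` for `Q` minimal over `qB`.
-/

set_option autoImplicit false
set_option linter.style.haveILetI false
set_option linter.unusedSectionVars false
universe u

namespace Groth.Agent.Lib.FlatEquidim33

open IsLocalRing Groth.Agent.Lib

section Order

variable {α : Type u} [PartialOrder α]

theorem corank_apply_of_saturated (e : α → ℕ∞) (he : ∀ a b : α, a ⋖ b → e a = e b + 1)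
    (s : LTSeries α) (hs : ∀ i : Fin s.length, s (Fin.castSucc i) ⋖ s (Fin.succ i)) :
    ∀ (i : ℕ) (hi : i ≤ s.length), e s.head = e (s ⟨i, Nat.lt_succ_of_le hi⟩) + i := by
  intro i
  induction i with
  | zero =>
    intro _
    simp only [Nat.cast_zero, add_zero]
    rfl
  | succ j ih =>
    intro hj
    have h1 := hs ⟨j, hj⟩
    have h2 := he _ _ h1
    have h3 := ih (Nat.le_of_succ_le hj)
    change e (s ⟨j, _⟩) = e (s ⟨j + 1, _⟩) + 1 at h2
    rw [h3, h2]
    push_cast
    rw [add_assoc, add_comm (1 : ℕ∞) (j : ℕ∞)]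

theorem isCat_of_corank (e : α → ℕ∞) (hfin : ∀ a, e a ≠ ⊤)
    (he : ∀ a b : α, a ⋖ b → e a = e b + 1)
    (hbd : ∀ p q : α, p ≤ q → ∃ n : ℕ, ∀ s : LTSeries α, s.head = p → s.last = q →
      s.length ≤ n) : OrdCat.IsCat α := by
  refine ⟨hbd, ?_⟩
  intro s t hhead hlast hs ht
  have h1 : e s.head = e s.last + s.length := corank_apply_of_saturated e he s hs s.length le_rfl
  have h2 : e t.head = e t.last + t.length := corank_apply_of_saturated e he t ht t.length le_rfl
  rw [hlast, hhead, h2] at h1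
  have h3 := ENat.add_right_injective_of_ne_top (hfin t.last) h1
  exact_mod_cast h3.symm

theorem height_eq_one_of_covBy {m a : α} (hm : ∀ x : α, m ≤ x) (h : m ⋖ a) :
    Order.height a = 1 := by
  have hmin : IsMin m := fun x _ => hm x
  apply le_antisymm
  · have : Order.height a ≤ ((1 : ℕ) : ℕ∞) := by
      rw [Order.height_le_coe_iff]
      intro y hy
      have hym : y = m := by
        by_contra hne
        exact h.2 (lt_of_le_of_ne (hm y) (Ne.symm hne)) hy
      rw [hym, Order.height_eq_zero.mpr hmin]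
      exact_mod_cast Nat.zero_lt_one
    exact_mod_cast this
  · have := Order.height_add_one_le h.lt
    rw [Order.height_eq_zero.mpr hmin, zero_add] at this
    exact this

end Order

section Dim

variable {B C : Type u} [CommRing B] [CommRing C] [IsLocalRing B] [IsLocalRing C]
  [IsNoetherianRing B] [IsNoetherianRing C] [Algebra B C] [IsLocalHom (algebraMap B C)]
  [Module.Flat B C]

/-- `dim C/IC = dim B/I + dim C/𝔪_B C` for a flat local homomorphism `B → C`. -/
theorem ringKrullDim_quotient_map (I : Ideal B) (hI : I ≠ ⊤) :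
    ringKrullDim (C ⧸ I.map (algebraMap B C)) =
      ringKrullDim (B ⧸ I) + ringKrullDim (C ⧸ (maximalIdeal B).map (algebraMap B C)) := by
  have hχ : (algebraMap B C).Flat := RingHom.flat_algebraMap_iff.mpr inferInstance
  have hI' : I.map (algebraMap B C) ≠ ⊤ := H56SkFibre.map_ne_top_of_ne_top I hI
  haveI hlB : IsLocalRing (B ⧸ I) := CMComp33.isLocalRing_quotient _ hI
  haveI hlC : IsLocalRing (C ⧸ I.map (algebraMap B C)) := CMComp33.isLocalRing_quotient _ hI'
  haveI hloc := CMComp33.isLocalHom_quotMap (algebraMap B C) I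
  have key := CMFlat33.ringKrullDim_eq_add' (CMComp33.quotMap (algebraMap B C) I)
    (CMComp33.quotMap_flat (algebraMap B C) I hχ)
  rw [key, ringKrullDim_eq_of_ringEquiv
    (CMComp33.fibreEquiv (algebraMap B C) I (le_maximalIdeal hI))]

end Dim

section Main

variable {A B : Type u} [CommRing A] [CommRing B] [IsNoetherianRing A] [IsNoetherianRing B]
  [IsLocalRing A] [IsLocalRing B] [Algebra A B] [IsLocalHom (algebraMap A B)] [Module.Flat A B]

/-- A prime minimal over `pB` lies over `p` (going down). -/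
theorem liesOver_of_mem_minimalPrimes (p : Ideal A) [p.IsPrime] (Q : Ideal B)
    (hQ : Q ∈ (p.map (algebraMap A B)).minimalPrimes) : Q.LiesOver p := by
  haveI := hQ.1.1
  have hle : p ≤ Q.under A := Ideal.map_le_iff_le_comap.mp hQ.1.2
  constructor
  by_contra hne
  have hlt : p < Q.under A := lt_of_le_of_ne hle hne
  obtain ⟨P, hPQ, hP, hPp⟩ := Algebra.HasGoingDown.exists_ideal_le_liesOver_of_lt Q hlt
  have hIP : p.map (algebraMap A B) ≤ P := by
    rw [Ideal.map_le_iff_le_comap, ← Ideal.under_def, ← hPp.over]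
  have hQP : Q ≤ P := hQ.2 ⟨hP, hIP⟩ hPQ
  have hPQeq : P = Q := le_antisymm hPQ hQP
  subst hPQeq
  exact hne hPp.over

theorem height_eq_of_mem_minimalPrimes (p : Ideal A) [p.IsPrime] (Q : Ideal B)
    (hQ : Q ∈ (p.map (algebraMap A B)).minimalPrimes) : Q.height = p.height := by
  haveI := hQ.1.1
  haveI := liesOver_of_mem_minimalPrimes p Q hQ
  exact H56FlatLocal.height_eq_of_mem_minimalPrimes p Q hQ

/-- `dim B = dim A + dim B/𝔪_A B`. -/
theorem ringKrullDim_eq_add :
    ringKrullDim B = ringKrullDim A +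
      ringKrullDim (B ⧸ (maximalIdeal A).map (algebraMap A B)) :=
  CMFlat33.ringKrullDim_eq_add' (algebraMap A B) (RingHom.flat_algebraMap_iff.mpr inferInstance)

/-- For `Q` minimal over `pB` in an equidimensional catenary `B`: `dim B/Q = dim B/pB`. -/
theorem ringKrullDim_quotient_minimalPrime (hcat : CAlg.IsCatenary B) (heq : EGA4.IsEquidim B)
    (p : Ideal A) [p.IsPrime] (Q : Ideal B)
    (hQ : Q ∈ (p.map (algebraMap A B)).minimalPrimes) :
    ringKrullDim (B ⧸ Q) = ringKrullDim (B ⧸ p.map (algebraMap A B)) := by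
  have hE := Groth.Agent.S9297.result A B hcat heq p
  rw [Ideal.minimalPrimes_eq_comap] at hQ
  obtain ⟨Qb, hQb, rfl⟩ := hQ
  have h1 := hE Qb hQb
  have hle : p.map (algebraMap A B) ≤ Qb.comap (Ideal.Quotient.mk (p.map (algebraMap A B))) := by
    intro x hx
    rw [Ideal.mem_comap, Ideal.Quotient.eq_zero_iff_mem.mpr hx]
    exact Ideal.zero_mem _
  have h2 := EquidimCat33.ringKrullDim_quotQuot hle
  rw [Ideal.map_comap_of_surjective _ Ideal.Quotient.mk_surjective] at h2
  rw [← h2, h1]

/-- **Dimension formula descends**: `ht p + dim A/p = dim A`. -/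
theorem height_add_ringKrullDim_quotient (hcat : CAlg.IsCatenary B) (heq : EGA4.IsEquidim B)
    (p : Ideal A) [p.IsPrime] :
    (p.height : WithBot ℕ∞) + ringKrullDim (A ⧸ p) = ringKrullDim A := by
  have hp : p ≠ ⊤ := Ideal.IsPrime.ne_top inferInstance
  have hI : p.map (algebraMap A B) ≠ ⊤ := H56SkFibre.map_ne_top_of_ne_top p hp
  obtain ⟨Q, hQ⟩ := Ideal.nonempty_minimalPrimes hI
  haveI hQprime : Q.IsPrime := hQ.1.1
  have h1 := EquidimCat33.height_add_ringKrullDim_quotient heq hcat ⟨Q, hQprime⟩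
  simp only [] at h1
  rw [height_eq_of_mem_minimalPrimes p Q hQ, ringKrullDim_quotient_minimalPrime hcat heq p Q hQ,
    ringKrullDim_quotient_map p hp, ringKrullDim_eq_add (A := A) (B := B)] at h1
  -- cancel the fibre dimension
  obtain ⟨f, hf⟩ : ∃ f : ℕ, ringKrullDim (B ⧸ (maximalIdeal A).map (algebraMap A B)) = f := by
    haveI : IsLocalRing (B ⧸ (maximalIdeal A).map (algebraMap A B)) :=
      CMComp33.isLocalRing_quotient _ (H56SkFibre.map_ne_top_of_ne_top _
        (Ideal.IsPrime.ne_top inferInstance))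
    exact CMFlat33.exists_nat_ringKrullDim _
  obtain ⟨a, ha⟩ := CMFlat33.exists_nat_ringKrullDim A
  obtain ⟨c, hc⟩ : ∃ c : ℕ, ringKrullDim (A ⧸ p) = c := by
    haveI : IsLocalRing (A ⧸ p) := CMComp33.isLocalRing_quotient _ hp
    exact CMFlat33.exists_nat_ringKrullDim _
  obtain ⟨h, hh⟩ := ENat.ne_top_iff_exists.mp (Ideal.height_ne_top_of_isPrime (I := p))
  rw [hf, ha, hc, ← hh] at h1
  rw [ha, hc, ← hh]
  have h2 : h + (c + f) = a + f := by exact_mod_cast h1
  have h3 : h + c = a := by omega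
  exact_mod_cast h3

/-- `A` is equidimensional. -/
theorem isEquidim (hcat : CAlg.IsCatenary B) (heq : EGA4.IsEquidim B) : EGA4.IsEquidim A := by
  intro p hp
  haveI := hp.1.1
  have h1 := height_add_ringKrullDim_quotient (A := A) (B := B) hcat heq p
  have h0 : p.height = 0 := Ideal.height_eq_zero_iff.mpr hp
  rw [h0] at h1
  simpa using h1


/-- Covers in `Spec A` drop the coheight by exactly one. -/
theorem coheight_eq_add_one_of_covBy (hcat : CAlg.IsCatenary B) (heq : EGA4.IsEquidim B)
    {a b : PrimeSpectrum A} (hab : a ⋖ b) : Order.coheight a = Order.coheight b + 1 := by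
  set p := a.asIdeal with hp
  set q := b.asIdeal with hq
  have hpq : p ≤ q := hab.le
  have hpne : p ≠ ⊤ := a.2.ne_top
  have hI : p.map (algebraMap A B) ≠ ⊤ := H56SkFibre.map_ne_top_of_ne_top p hpne
  haveI : IsLocalRing (A ⧸ p) := CMComp33.isLocalRing_quotient _ hpne
  haveI : IsLocalRing (B ⧸ p.map (algebraMap A B)) := CMComp33.isLocalRing_quotient _ hI
  haveI : IsLocalHom (algebraMap (A ⧸ p) (B ⧸ p.map (algebraMap A B))) :=
    H56SkFibre.isLocalHom_quotient p
  haveI : Module.Flat (A ⧸ p) (B ⧸ p.map (algebraMap A B)) := H56SkFibre.flat_quotient p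
  have hcat' : CAlg.IsCatenary (B ⧸ p.map (algebraMap A B)) :=
    Catenary.isCatenary_of_surjective (Ideal.Quotient.mk _) Ideal.Quotient.mk_surjective hcat
  have heq' : EGA4.IsEquidim (B ⧸ p.map (algebraMap A B)) :=
    Groth.Agent.S9297.result A B hcat heq p
  set qb : Ideal (A ⧸ p) := q.map (Ideal.Quotient.mk p) with hqb
  haveI hqbprime : qb.IsPrime := Ideal.isPrime_map_quotientMk_of_isPrime hpq
  have key := height_add_ringKrullDim_quotient (A := A ⧸ p)
    (B := B ⧸ p.map (algebraMap A B)) hcat' heq' qb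
  -- height of `qb` is one
  have hht : qb.height = 1 := by
    let bot' : PrimeSpectrum (A ⧸ p) := ⟨⊥, Ideal.isPrime_bot⟩
    let Qb : PrimeSpectrum (A ⧸ p) := ⟨qb, hqbprime⟩
    have hcov : bot' ⋖ Qb := by
      apply OrdCat.covBy_of_map
        (Catenary.surjEmb (Ideal.Quotient.mk p) Ideal.Quotient.mk_surjective)
      have e1 : Catenary.surjEmb (Ideal.Quotient.mk p) Ideal.Quotient.mk_surjective bot' = a := by
        apply PrimeSpectrum.ext
        change Ideal.comap (Ideal.Quotient.mk p) ⊥ = a.asIdeal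
        rw [← RingHom.ker_eq_comap_bot, Ideal.mk_ker]
      have e2 : Catenary.surjEmb (Ideal.Quotient.mk p) Ideal.Quotient.mk_surjective Qb = b := by
        apply PrimeSpectrum.ext
        change Ideal.comap (Ideal.Quotient.mk p) (q.map (Ideal.Quotient.mk p)) = b.asIdeal
        rw [Ideal.comap_map_of_surjective _ Ideal.Quotient.mk_surjective,
          ← RingHom.ker_eq_comap_bot, Ideal.mk_ker]
        exact sup_eq_left.mpr hpq
      rw [e1, e2]
      exact hab
    have h1 := height_eq_one_of_covBy (fun x : PrimeSpectrum (A ⧸ p) =>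
      (show bot' ≤ x from (bot_le : (⊥ : Ideal (A ⧸ p)) ≤ x.asIdeal))) hcov
    rw [EquidimCat33.height_eq] at h1
    exact h1
  rw [hht, EquidimCat33.ringKrullDim_quotQuot hpq] at key
  have c1 := EquidimCat33.coheight_eq a
  have c2 := EquidimCat33.coheight_eq b
  rw [← c1, ← c2] at key
  have key' : ((Order.coheight a : ℕ∞) : WithBot ℕ∞) =
      ((Order.coheight b + 1 : ℕ∞) : WithBot ℕ∞) := by
    rw [← key, add_comm]
    rfl
  exact WithBot.coe_injective key'

/-- `A` is catenary. -/
theorem isCatenary (hcat : CAlg.IsCatenary B) (heq : EGA4.IsEquidim B) : CAlg.IsCatenary A := by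
  rw [Catenary.isCatenary_iff_isCat]
  refine isCat_of_corank (fun p : PrimeSpectrum A => Order.coheight p)
    (fun a => (CatenaryDim.coheight_lt_top a).ne)
    (fun a b hab => coheight_eq_add_one_of_covBy (B := B) hcat heq hab) ?_
  intro p q _
  refine ⟨(Order.coheight p).toNat, fun s hhead _ => ?_⟩
  have h1 : (s.length : ℕ∞) ≤ Order.coheight s.head := Order.length_le_coheight_head
  rw [hhead] at h1
  have h2 : Order.coheight p ≠ ⊤ := (CatenaryDim.coheight_lt_top p).ne
  rw [← ENat.natCast_toNat h2] at h1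
  exact_mod_cast h1

/-- When the closed fibre is zero-dimensional, `dim B/Q = dim A/q` for `Q` minimal over `qB`. -/
theorem ringKrullDim_quotient_eq_of_mem_minimalPrimes (hcat : CAlg.IsCatenary B)
    (heq : EGA4.IsEquidim B)
    (h0 : ringKrullDim (B ⧸ (maximalIdeal A).map (algebraMap A B)) = 0)
    (q : Ideal A) [q.IsPrime] (Q : Ideal B) (hQ : Q ∈ (q.map (algebraMap A B)).minimalPrimes) :
    ringKrullDim (B ⧸ Q) = ringKrullDim (A ⧸ q) := by
  rw [ringKrullDim_quotient_minimalPrime hcat heq q Q hQ,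
    ringKrullDim_quotient_map q (Ideal.IsPrime.ne_top inferInstance), h0, add_zero]


/-- The contraction of a prime minimal over `aB` is minimal over `a`. -/
theorem under_mem_minimalPrimes (a : Ideal A) (Q : Ideal B)
    (hQ : Q ∈ (a.map (algebraMap A B)).minimalPrimes) : Q.under A ∈ a.minimalPrimes := by
  haveI := hQ.1.1
  refine ⟨⟨inferInstance, Ideal.map_le_iff_le_comap.mp hQ.1.2⟩, ?_⟩
  rintro q' ⟨hq'prime, haq'⟩ hq'le
  obtain ⟨Q', hQ'le, hQ'prime, hQ'over⟩ :=
    Ideal.exists_ideal_le_liesOver_of_le (p := q') (q := Q.under A) Q hq'le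
  have h1 : a.map (algebraMap A B) ≤ Q' := by
    rw [Ideal.map_le_iff_le_comap]
    exact haq'.trans hQ'over.over.le
  have h2 : Q ≤ Q' := hQ.2 ⟨hQ'prime, h1⟩ hQ'le
  have h3 : Q' = Q := le_antisymm hQ'le h2
  rw [← h3, ← hQ'over.over]

/-- A prime minimal over `aB` is minimal over `(Q ∩ A)B`. -/
theorem mem_minimalPrimes_map_under (a : Ideal A) (Q : Ideal B)
    (hQ : Q ∈ (a.map (algebraMap A B)).minimalPrimes) :
    Q ∈ ((Q.under A).map (algebraMap A B)).minimalPrimes := by
  haveI := hQ.1.1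
  refine ⟨⟨inferInstance, Ideal.map_comap_le⟩, ?_⟩
  rintro Q' ⟨hQ'prime, hle⟩ hQ'Q
  refine hQ.2 ⟨hQ'prime, ?_⟩ hQ'Q
  exact (Ideal.map_mono (Ideal.map_le_iff_le_comap.mp hQ.1.2)).trans hle

/-- For `q` minimal over `a`, a prime minimal over `qB` is minimal over `aB`. -/
theorem mem_minimalPrimes_of_mem_minimalPrimes (a q : Ideal A) [q.IsPrime]
    (hq : q ∈ a.minimalPrimes) (Q : Ideal B) (hQ : Q ∈ (q.map (algebraMap A B)).minimalPrimes) :
    Q ∈ (a.map (algebraMap A B)).minimalPrimes := by
  haveI := hQ.1.1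
  haveI hover := liesOver_of_mem_minimalPrimes q Q hQ
  refine ⟨⟨inferInstance, (Ideal.map_mono hq.1.2).trans hQ.1.2⟩, ?_⟩
  rintro Q' ⟨hQ'prime, hle⟩ hQ'Q
  have h1 : a ≤ Q'.under A := Ideal.map_le_iff_le_comap.mp hle
  have h2 : Q'.under A ≤ q := by
    rw [hover.over]
    exact Ideal.comap_mono hQ'Q
  have h3 : q ≤ Q'.under A := hq.2 ⟨inferInstance, h1⟩ h2
  have h4 : q.map (algebraMap A B) ≤ Q' := by
    rw [Ideal.map_le_iff_le_comap]
    exact h3
  exact hQ.2 ⟨hQ'prime, h4⟩ hQ'Q

/-- **EGA IV 7.1.3-type**: with zero-dimensional closed fibre, `B/aB` is equidimensional iff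
`A/a` is. -/
theorem isEquidim_quotient_map_iff (hcat : CAlg.IsCatenary B) (heq : EGA4.IsEquidim B)
    (h0 : ringKrullDim (B ⧸ (maximalIdeal A).map (algebraMap A B)) = 0) (a : Ideal A) :
    EGA4.IsEquidim (B ⧸ a.map (algebraMap A B)) ↔ EGA4.IsEquidim (A ⧸ a) := by
  constructor
  · intro hB qb hqb
    haveI hqbprime : qb.IsPrime := hqb.1.1
    have hq : qb.comap (Ideal.Quotient.mk a) ∈ a.minimalPrimes := by
      rw [Ideal.minimalPrimes_eq_comap]
      exact ⟨qb, hqb, rfl⟩
    set q := qb.comap (Ideal.Quotient.mk a) with hqdef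
    haveI hqprime : q.IsPrime := hq.1.1
    have hane : a ≠ ⊤ := fun h => hqprime.ne_top (top_le_iff.mp (h ▸ hq.1.2))
    have hqB : q.map (algebraMap A B) ≠ ⊤ := H56SkFibre.map_ne_top_of_ne_top q hqprime.ne_top
    obtain ⟨Q, hQ⟩ := Ideal.nonempty_minimalPrimes hqB
    haveI hQprime : Q.IsPrime := hQ.1.1
    have hQa := mem_minimalPrimes_of_mem_minimalPrimes a q hq Q hQ
    have haQ : a.map (algebraMap A B) ≤ Q := hQa.1.2
    have hQb : Q.map (Ideal.Quotient.mk (a.map (algebraMap A B))) ∈
        minimalPrimes (B ⧸ a.map (algebraMap A B)) := by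
      have := hQa
      rw [Ideal.minimalPrimes_eq_comap] at this
      obtain ⟨Qb, hQb, hQbeq⟩ := this
      rw [← hQbeq, Ideal.map_comap_of_surjective _ Ideal.Quotient.mk_surjective]
      exact hQb
    have h1 := hB _ hQb
    rw [EquidimCat33.ringKrullDim_quotQuot haQ,
      ringKrullDim_quotient_eq_of_mem_minimalPrimes hcat heq h0 q Q hQ,
      ringKrullDim_quotient_map a hane, h0, add_zero] at h1
    have h2 := EquidimCat33.ringKrullDim_quotQuot hq.1.2
    rw [hqdef, Ideal.map_comap_of_surjective _ Ideal.Quotient.mk_surjective] at h2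
    rw [h2]
    exact h1
  · intro hA Qb hQb
    haveI hQbprime : Qb.IsPrime := hQb.1.1
    have hQ : Qb.comap (Ideal.Quotient.mk (a.map (algebraMap A B))) ∈
        (a.map (algebraMap A B)).minimalPrimes := by
      rw [Ideal.minimalPrimes_eq_comap]
      exact ⟨Qb, hQb, rfl⟩
    set Q := Qb.comap (Ideal.Quotient.mk (a.map (algebraMap A B))) with hQdef
    haveI hQprime : Q.IsPrime := hQ.1.1
    have haB : a.map (algebraMap A B) ≠ ⊤ := fun h => hQprime.ne_top (top_le_iff.mp (h ▸ hQ.1.2))
    have hane : a ≠ ⊤ := by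
      rintro rfl
      exact haB (Ideal.map_top _)
    have hq := under_mem_minimalPrimes a Q hQ
    haveI hqprime : (Q.under A).IsPrime := hq.1.1
    have hQq := mem_minimalPrimes_map_under a Q hQ
    have h1 := ringKrullDim_quotient_eq_of_mem_minimalPrimes hcat heq h0 (Q.under A) Q hQq
    -- `A/a` equidimensional at the minimal prime `q/a`
    have hqb : (Q.under A).map (Ideal.Quotient.mk a) ∈ minimalPrimes (A ⧸ a) := by
      have := hq
      rw [Ideal.minimalPrimes_eq_comap] at this
      obtain ⟨qb, hqb, hqbeq⟩ := this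
      rw [← hqbeq, Ideal.map_comap_of_surjective _ Ideal.Quotient.mk_surjective]
      exact hqb
    have h2 := hA _ hqb
    rw [EquidimCat33.ringKrullDim_quotQuot hq.1.2] at h2
    have h3 := EquidimCat33.ringKrullDim_quotQuot hQ.1.2
    rw [hQdef, Ideal.map_comap_of_surjective _ Ideal.Quotient.mk_surjective] at h3
    rw [h3, h1, h2, ringKrullDim_quotient_map a hane, h0, add_zero]

end Main

end Groth.Agent.Lib.FlatEquidim33
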