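import Mathlib
import Groth.Agent.Lib.FlatCrit
import Groth.Agent.Lib.ComplMap
import Groth.Agent.Lib.ComplFlat
import Groth.Agent.Lib.AdicNoeth
import Groth.Agent.Lib.ComplUC33
import Groth.Agent.Lib.FlatEquidim33

/-!
# The completion of a flat local homomorphism is flat (helper33)

For a flat local homomorphism `A → B` of Noetherian local rings the induced map `Â → B̂` on
completions is flat and local (local criterion of flatness, Matsumura 22.4).  Consequence: formal
equidimensionality descends along flat local homomorphisms.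

* `compatibleSMul_quotient` : for `A → R'`, `J' = J R'` with `A → R'/J'` surjective, the `R'`-action
  moves across `⊗[A]` on `(R'/J') ⊗[A] M`;
* `flat_quotient_tensor` : in this situation, `M` flat over `A` ⇒ `(R'/J') ⊗[R'] M` flat over `R'/J'`;
* `flat_complMap` : `Â → B̂` flat;
* `isLocalHom_complMap` : `Â → B̂` local;
* `isFormallyEquidim_of_flat` : `A → B` flat local, `B` formally equidimensional ⇒ so is `A`.
-/

set_option autoImplicit false
set_option linter.style.haveILetI false
set_option linter.unusedSectionVars false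
universe u

namespace Groth.Agent.Lib.FlatCompl33

open TensorProduct IsLocalRing

section Compat

variable {A R' : Type*} [CommRing A] [CommRing R'] [Algebra A R'] (J : Ideal A) (J' : Ideal R')

theorem compatibleSMul_quotient (hJ : J' = J.map (algebraMap A R'))
    (hsurj : Function.Surjective (algebraMap A (R' ⧸ J')))
    (M : Type*) [AddCommGroup M] [Module A M] [Module R' M] [IsScalarTower A R' M] :
    TensorProduct.CompatibleSMul A R' (R' ⧸ J') M := by
  constructor
  intro r' s' m
  have hkill : ∀ j' ∈ J', ∀ (s' : R' ⧸ J') (m : M), s' ⊗ₜ[A] (j' • m) = 0 := by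
    intro j' hj'
    rw [hJ] at hj'
    refine Submodule.span_induction
      (p := fun j' _ => ∀ (s' : R' ⧸ J') (m : M), s' ⊗ₜ[A] (j' • m) = 0) ?_ ?_ ?_ ?_ hj'
    · rintro _ ⟨j, hj, rfl⟩ s' m
      rw [algebraMap_smul, ← TensorProduct.smul_tmul]
      have : j • s' = 0 := by
        rw [Algebra.smul_def]
        have : algebraMap A (R' ⧸ J') j = 0 := by
          rw [IsScalarTower.algebraMap_apply A R' (R' ⧸ J'), Ideal.Quotient.algebraMap_eq,
            Ideal.Quotient.eq_zero_iff_mem, hJ]
          exact Ideal.mem_map_of_mem _ hj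
        rw [this, zero_mul]
      rw [this, TensorProduct.zero_tmul]
    · intro s' m
      rw [zero_smul, TensorProduct.tmul_zero]
    · intro x y _ _ hx hy s' m
      rw [add_smul, TensorProduct.tmul_add, hx, hy, add_zero]
    · intro a x _ hx s' m
      rw [smul_eq_mul, mul_comm, mul_smul]
      exact hx s' (a • m)
  obtain ⟨a, ha⟩ := hsurj (Ideal.Quotient.mk J' r')
  have ha' : Ideal.Quotient.mk J' (algebraMap A R' a) = Ideal.Quotient.mk J' r' := by
    rw [← ha, IsScalarTower.algebraMap_apply A R' (R' ⧸ J'), Ideal.Quotient.algebraMap_eq]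
  have h1 : r' - algebraMap A R' a ∈ J' := by
    rw [← Ideal.Quotient.eq, ha']
  have h2 : r' • s' = a • s' := by
    rw [Algebra.smul_def r', Algebra.smul_def a, Ideal.Quotient.algebraMap_eq, ← ha',
      IsScalarTower.algebraMap_apply A R' (R' ⧸ J'), Ideal.Quotient.algebraMap_eq]
  rw [h2, TensorProduct.smul_tmul]
  have h3 : r' • m = a • m + (r' - algebraMap A R' a) • m := by
    rw [sub_smul, algebraMap_smul]
    abel
  rw [h3, TensorProduct.tmul_add, hkill _ h1, add_zero]

/-- If `A → R'/J'` is surjective with `J' = J R'`, and `M` is an `R'`-module flat over `A`, then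
`(R'/J') ⊗[R'] M` is flat over `R'/J'`. -/
theorem flat_quotient_tensor (hJ : J' = J.map (algebraMap A R'))
    (hsurj : Function.Surjective (algebraMap A (R' ⧸ J')))
    (M : Type*) [AddCommGroup M] [Module A M] [Module R' M] [IsScalarTower A R' M]
    [Module.Flat A M] : Module.Flat (R' ⧸ J') ((R' ⧸ J') ⊗[R'] M) := by
  have hc : TensorProduct.CompatibleSMul A R' (R' ⧸ J') M :=
    compatibleSMul_quotient J J' hJ hsurj M
  let e : (R' ⧸ J') ⊗[R'] M ≃ₗ[R' ⧸ J'] (R' ⧸ J') ⊗[A] M :=
    TensorProduct.equivOfCompatibleSMul A R' (R' ⧸ J') (R' ⧸ J') M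
  exact Module.Flat.of_linearEquiv e

end Compat

section Surj

variable {A : Type u} [CommRing A] [IsNoetherianRing A] (I : Ideal A)

/-- `A → Â/(IÂ)ⁿ` is surjective. -/
theorem surjective_algebraMap_quotient (n : ℕ) :
    Function.Surjective (algebraMap A (AdicCompletion I A ⧸
      (I.map (algebraMap A (AdicCompletion I A))) ^ n)) := by
  intro y
  obtain ⟨x, rfl⟩ := Ideal.Quotient.mk_surjective y
  obtain ⟨a, ha⟩ := Ideal.Quotient.mk_surjective (AdicCompletion.evalₐ I n x)
  refine ⟨a, ?_⟩
  rw [IsScalarTower.algebraMap_apply A (AdicCompletion I A)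
    (AdicCompletion I A ⧸ (I.map (algebraMap A (AdicCompletion I A))) ^ n),
    Ideal.Quotient.algebraMap_eq, Ideal.Quotient.eq, ← Ideal.map_pow,
    ← ComplFlat.ker_evalₐ_eq_map I (IsNoetherian.noetherian I) n, RingHom.mem_ker]
  change AdicCompletion.evalₐ I n (algebraMap A (AdicCompletion I A) a - x) = 0
  rw [map_sub, AdicCompletion.algebraMap_apply]
  simp only [Algebra.algebraMap_self, RingHom.id_apply]
  rw [AdicCompletion.evalₐ_of, ha, sub_self]

end Surj

section Main

variable {A B : Type u} [CommRing A] [CommRing B] [IsNoetherianRing A] [IsNoetherianRing B]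
  [IsLocalRing A] [IsLocalRing B] [Algebra A B]

theorem map_maximalIdeal_le [hloc : IsLocalHom (algebraMap A B)] :
    (maximalIdeal A).map (algebraMap A B) ≤ maximalIdeal B :=
  ((IsLocalRing.local_hom_TFAE (algebraMap A B)).out 0 2).mp hloc

/-- The completion of a local homomorphism is local. -/
theorem isLocalHom_complMap [IsLocalHom (algebraMap A B)]
    (h : (maximalIdeal A).map (algebraMap A B) ≤ maximalIdeal B) :
    IsLocalHom (FSch.complMap (maximalIdeal A) (maximalIdeal B) (algebraMap A B) h) := by
  constructor
  intro x hx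
  rw [ComplMap.isUnit_iff_isUnit_evalₐ_one] at hx ⊢
  rw [ComplMap.evalₐ_complMap] at hx
  obtain ⟨a, ha⟩ := Ideal.Quotient.mk_surjective (AdicCompletion.evalₐ (maximalIdeal A) 1 x)
  rw [← ha] at hx ⊢
  rw [Ideal.quotientMap_mk] at hx
  have hga : IsUnit (algebraMap A B a) := by
    by_contra hnu
    have hmem : algebraMap A B a ∈ maximalIdeal B := (IsLocalRing.mem_maximalIdeal _).mpr hnu
    have h0 : Ideal.Quotient.mk (maximalIdeal B ^ 1) (algebraMap A B a) = 0 := by
      rw [Ideal.Quotient.eq_zero_iff_mem, pow_one]
      exact hmem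
    rw [h0] at hx
    have : Nontrivial (B ⧸ maximalIdeal B ^ 1) := by
      rw [pow_one]
      exact Ideal.Quotient.nontrivial_iff.mpr (IsLocalRing.maximalIdeal.isMaximal B).ne_top
    exact not_isUnit_zero hx
  exact (isUnit_of_map_unit (algebraMap A B) a hga).map _

/-- **The completion of a flat local homomorphism of Noetherian local rings is flat.** -/
theorem flat_complMap [Module.Flat A B]
    (h : (maximalIdeal A).map (algebraMap A B) ≤ maximalIdeal B) :
    (FSch.complMap (maximalIdeal A) (maximalIdeal B) (algebraMap A B) h).Flat := by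
  unfold RingHom.Flat
  letI : Algebra (AdicCompletion (maximalIdeal A) A) (AdicCompletion (maximalIdeal B) B) :=
    (FSch.complMap (maximalIdeal A) (maximalIdeal B) (algebraMap A B) h).toAlgebra
  have halg : ∀ x, algebraMap (AdicCompletion (maximalIdeal A) A)
      (AdicCompletion (maximalIdeal B) B) x =
      FSch.complMap (maximalIdeal A) (maximalIdeal B) (algebraMap A B) h x := fun _ => rfl
  have htower : IsScalarTower A (AdicCompletion (maximalIdeal A) A)
      (AdicCompletion (maximalIdeal B) B) := by
    refine IsScalarTower.of_algebraMap_eq fun a => ?_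
    rw [halg, ComplMap.complMap_algebraMap,
      IsScalarTower.algebraMap_apply A B (AdicCompletion (maximalIdeal B) B)]
  have hflB : Module.Flat B (AdicCompletion (maximalIdeal B) B) :=
    AdicCompletion.flat_of_isNoetherian (maximalIdeal B)
  have hflA : Module.Flat A (AdicCompletion (maximalIdeal B) B) :=
    Module.Flat.trans A B (AdicCompletion (maximalIdeal B) B)
  have hI : (((maximalIdeal A).map (algebraMap A (AdicCompletion (maximalIdeal A) A))).map
      (algebraMap (AdicCompletion (maximalIdeal A) A) (AdicCompletion (maximalIdeal B) B))) ≤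
      Ideal.jacobson ⊥ := by
    rw [IsLocalRing.jacobson_eq_maximalIdeal ⊥ bot_ne_top, AdicCompletion.maximalIdeal_eq_map,
      Ideal.map_map, ← IsScalarTower.algebraMap_eq,
      IsScalarTower.algebraMap_eq A B (AdicCompletion (maximalIdeal B) B), ← Ideal.map_map]
    exact Ideal.map_mono h
  refine FlatCrit.flat_of_flat_quotient_pow
    ((maximalIdeal A).map (algebraMap A (AdicCompletion (maximalIdeal A) A))) ?_ ?_
  · intro 𝔞 x hx
    exact FlatCrit.eq_zero_of_forall_mem_pow_smul_top (S := AdicCompletion (maximalIdeal B) B)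
      (M := AdicCompletion (maximalIdeal B) B) _ hI x hx
  · intro n _
    exact flat_quotient_tensor (A := A) (maximalIdeal A ^ n) _ (Ideal.map_pow _ _ _).symm
      (surjective_algebraMap_quotient (maximalIdeal A) n) (AdicCompletion (maximalIdeal B) B)

/-- **Formal equidimensionality descends along flat local homomorphisms.** -/
theorem isFormallyEquidim_of_flat [Module.Flat A B] [IsLocalHom (algebraMap A B)]
    (hB : EGA4.IsFormallyEquidim B) : EGA4.IsFormallyEquidim A := by
  have h : (maximalIdeal A).map (algebraMap A B) ≤ maximalIdeal B := map_maximalIdeal_le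
  letI : Algebra (AdicCompletion (maximalIdeal A) A) (AdicCompletion (maximalIdeal B) B) :=
    (FSch.complMap (maximalIdeal A) (maximalIdeal B) (algebraMap A B) h).toAlgebra
  have h1 : Module.Flat (AdicCompletion (maximalIdeal A) A)
      (AdicCompletion (maximalIdeal B) B) := flat_complMap h
  have h2 : IsLocalHom (algebraMap (AdicCompletion (maximalIdeal A) A)
      (AdicCompletion (maximalIdeal B) B)) := isLocalHom_complMap h
  exact FlatEquidim33.isEquidim (A := AdicCompletion (maximalIdeal A) A)
    (B := AdicCompletion (maximalIdeal B) B) (ComplUC33.isCatenary_adicCompletion B) hB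

end Main

end Groth.Agent.Lib.FlatCompl33
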