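import Mathlib.RingTheory.AdicCompletion.AsTensorProduct
import Mathlib.RingTheory.AdicCompletion.LocalRing
import Mathlib.RingTheory.IsTensorProduct
import Groth.Prelude.Def_FSch3
import Groth.Agent.Lib.ComplMap

/-!
# Completion of a finite algebra as a base change of the completion (helper96)

For a ring `R` with ideal `m` and an `R`-algebra `S`, the `m`-adic completion of the `R`-module `S` agrees
with the `mS`-adic completion of the ring `S` (`theta`, bijective).  For `R` Noetherian and `S` finite over `R`
this gives `Ŝ = S ⊗_R R̂` (`isPushout`).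
-/

set_option autoImplicit false
universe u
open TensorProduct

namespace Groth.Agent.Lib.ComplQuotient96

section General

variable {R : Type u} [CommRing R] (m : Ideal R) (S : Type u) [CommRing S] [Algebra R S]

theorem pow_smul_top_eq (n : ℕ) :
    (m ^ n • ⊤ : Submodule R S) =
      ((m.map (algebraMap R S) ^ n • ⊤ : Submodule S S)).restrictScalars R := by
  rw [Ideal.smul_top_eq_map, Ideal.map_pow]
  congr 1
  simp

/-- The level maps `S ⧸ mⁿS → S ⧸ (mS)ⁿ` (identity on representatives). -/
noncomputable def fN (n : ℕ) : S ⧸ (m ^ n • ⊤ : Submodule R S) →ₗ[R]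
    S ⧸ (m.map (algebraMap R S) ^ n • ⊤ : Submodule S S) :=
  Submodule.liftQ _ ((Submodule.mkQ (m.map (algebraMap R S) ^ n • ⊤ : Submodule S S)).restrictScalars R)
    (by
      rw [pow_smul_top_eq]
      intro s hs
      rw [LinearMap.mem_ker]
      exact (Submodule.Quotient.mk_eq_zero _).mpr hs)

theorem fN_mk (n : ℕ) (s : S) :
    fN m S n (Submodule.Quotient.mk s) = Submodule.Quotient.mk s := rfl

theorem fN_injective (n : ℕ) : Function.Injective (fN m S n) := by
  rw [← LinearMap.ker_eq_bot, eq_bot_iff]
  intro x hx
  obtain ⟨s, rfl⟩ := Submodule.Quotient.mk_surjective _ x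
  rw [LinearMap.mem_ker, fN_mk, Submodule.Quotient.mk_eq_zero] at hx
  rw [Submodule.mem_bot, Submodule.Quotient.mk_eq_zero, pow_smul_top_eq]
  exact hx

theorem fN_surjective (n : ℕ) : Function.Surjective (fN m S n) := by
  intro y
  obtain ⟨s, rfl⟩ := Submodule.Quotient.mk_surjective _ y
  exact ⟨Submodule.Quotient.mk s, rfl⟩

theorem fN_transitionMap {a b : ℕ} (hab : a ≤ b) (x : S ⧸ (m ^ b • ⊤ : Submodule R S)) :
    AdicCompletion.transitionMap (m.map (algebraMap R S)) S hab (fN m S b x) =
      fN m S a (AdicCompletion.transitionMap m S hab x) := by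
  obtain ⟨s, rfl⟩ := Submodule.Quotient.mk_surjective _ x
  rfl

/-- The comparison map from the `m`-adic completion of the `R`-module `S` to the `mS`-adic
completion of the ring `S`. -/
noncomputable def theta : AdicCompletion m S →ₗ[R] AdicCompletion (m.map (algebraMap R S)) S where
  toFun x := ⟨fun n => fN m S n (x.val n), fun {a b} hab => by
    rw [fN_transitionMap, x.2 hab]⟩
  map_add' x y := by
    apply AdicCompletion.ext
    intro n
    simp [AdicCompletion.val_add_apply]
  map_smul' r x := by
    apply AdicCompletion.ext
    intro n
    simp [AdicCompletion.val_smul_apply]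

theorem theta_val (x : AdicCompletion m S) (n : ℕ) :
    (theta m S x).val n = fN m S n (x.val n) := rfl

theorem theta_bijective : Function.Bijective (theta m S) := by
  constructor
  · intro x y h
    apply AdicCompletion.ext
    intro n
    have := congrArg (fun z => z.val n) h
    exact fN_injective m S n this
  · intro y
    refine ⟨⟨fun n => (fN_surjective m S n (y.val n)).choose, fun {a b} hab => ?_⟩, ?_⟩
    · apply fN_injective m S a
      rw [← fN_transitionMap, (fN_surjective m S b (y.val b)).choose_spec,
        (fN_surjective m S a (y.val a)).choose_spec, y.2 hab]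
    · apply AdicCompletion.ext
      intro n
      exact (fN_surjective m S n (y.val n)).choose_spec

end General

section Pushout

variable {R : Type u} [CommRing R] (m : Ideal R) (S : Type u) [CommRing S] [Algebra R S]

/-- The completed structure map `R̂ → Ŝ`. -/
noncomputable abbrev c : AdicCompletion m R →+* AdicCompletion (m.map (algebraMap R S)) S :=
  FSch.complMap m (m.map (algebraMap R S)) (algebraMap R S) le_rfl

/-- `R̂ ⊗ S → Ŝ`, `R`-linear. -/
noncomputable def psi : AdicCompletion m R ⊗[R] S →ₗ[R] AdicCompletion (m.map (algebraMap R S)) S :=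
  theta m S ∘ₗ (AdicCompletion.ofTensorProduct m S).restrictScalars R

theorem psi_bijective [IsNoetherianRing R] [Module.Finite R S] : Function.Bijective (psi m S) :=
  (theta_bijective m S).comp (AdicCompletion.ofTensorProduct_bijective_of_finite_of_isNoetherian m S)

set_option backward.isDefEq.respectTransparency false in
theorem psi_tmul (x : AdicCompletion m R) (s : S) : psi m S (x ⊗ₜ s) = s • c m S x := by
  refine AdicCompletion.ext_evalₐ fun n => ?_
  rw [map_smul, Groth.Agent.Lib.ComplMap.evalₐ_complMap]
  induction x using AdicCompletion.induction_on with | _ a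
  rw [AdicCompletion.evalₐ_mk, Ideal.quotientMap_mk]
  have h : (m.map (algebraMap R S) ^ n • ⊤ : Ideal S) ≤ m.map (algebraMap R S) ^ n := by simp
  rw [← AdicCompletion.factor_eval_eq_evalₐ _ _ h]
  change Ideal.Quotient.factor h (fN m S n ((AdicCompletion.mk m R a • AdicCompletion.of m S s).val n)) = _
  rw [AdicCompletion.smul_eval]
  change Ideal.Quotient.factor h (fN m S n (Submodule.Quotient.mk (a n • s))) = _
  rw [fN_mk]
  change Ideal.Quotient.mk _ (a n • s) = s • Ideal.Quotient.mk _ (algebraMap R S (a n))
  rw [Algebra.smul_def, mul_comm]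
  rfl

theorem isPushout [IsNoetherianRing R] [Module.Finite R S] (K : Ideal S)
    (hK : K = m.map (algebraMap R S))
    [Algebra (AdicCompletion m R) (AdicCompletion K S)]
    [IsScalarTower R (AdicCompletion m R) (AdicCompletion K S)]
    (halg : algebraMap (AdicCompletion m R) (AdicCompletion K S) =
      FSch.complMap m K (algebraMap R S) hK.ge) :
    Algebra.IsPushout R S (AdicCompletion m R) (AdicCompletion K S) := by
  subst hK
  constructor
  let f : AdicCompletion m R →ₗ[R] AdicCompletion (m.map (algebraMap R S)) S :=
    (IsScalarTower.toAlgHom R (AdicCompletion m R) (AdicCompletion (m.map (algebraMap R S)) S)).toLinearMap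
  have hf : ∀ x, f x = c m S x := fun x => congrFun (congrArg DFunLike.coe halg) x
  have hlift : ∀ t : S ⊗[R] AdicCompletion m R,
      f.liftBaseChange S t = psi m S (TensorProduct.comm R S (AdicCompletion m R) t) := by
    intro t
    induction t using TensorProduct.induction_on with
    | zero => simp
    | add x y hx hy => rw [map_add, map_add, map_add, hx, hy]
    | tmul s x =>
      rw [LinearMap.liftBaseChange_tmul, TensorProduct.comm_tmul, psi_tmul, hf]
  have hbij : Function.Bijective (f.liftBaseChange S) := by
    have h1 : (f.liftBaseChange S : S ⊗[R] AdicCompletion m R → _) =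
        psi m S ∘ TensorProduct.comm R S (AdicCompletion m R) := funext hlift
    rw [h1]
    exact (psi_bijective m S).comp (TensorProduct.comm R S (AdicCompletion m R)).bijective
  exact IsBaseChange.of_equiv (LinearEquiv.ofBijective (f.liftBaseChange S) hbij) (fun x => by
    rw [LinearEquiv.ofBijective_apply, LinearMap.liftBaseChange_tmul, one_smul])

end Pushout

end Groth.Agent.Lib.ComplQuotient96
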