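import Mathlib.RingTheory.LocalRing.ResidueField.Fiber
import Mathlib.RingTheory.LocalRing.ResidueField.Ideal
import Mathlib.RingTheory.IsTensorProduct
import Mathlib.RingTheory.SurjectiveOnStalks
import Mathlib.RingTheory.Localization.BaseChange
import Mathlib.RingTheory.TensorProduct.Maps

/-!
# Fibres of a base change `A' ⊗[A] B` along a map `A → A'` that is surjective on stalks

For a pushout square `A → A'`, `A → B`, `B' = A' ⊗[A] B` such that `A → A'` is surjective on
stalks (a localization or a quotient), the fibre of `A' → B'` at a prime `p'` is the fibre of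
`A → B` at the contraction `p` of `p'`, compatibly with finite extensions of the residue fields.
-/

set_option autoImplicit false
open TensorProduct
universe u

namespace Groth.Agent.Lib.FibreBaseChange

/-- Ring isomorphism between field base changes of the fibres of `A' → B'` and of `A → B`,
for a pushout square. The primes `p`, `p'` are the kernels of `A → k'`, `A' → k'`. -/
theorem nonempty_ringEquiv_fibre (A A' B B' : Type u) [CommRing A] [CommRing A'] [CommRing B]
    [CommRing B'] [Algebra A A'] [Algebra A B] [Algebra A' B'] [Algebra B B'] [Algebra A B']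
    [IsScalarTower A A' B'] [IsScalarTower A B B'] [Algebra.IsPushout A A' B B']
    (p : Ideal A) [p.IsPrime] (p' : Ideal A') [p'.IsPrime] (k' : Type u) [Field k']
    [Algebra A k'] [Algebra A' k'] [IsScalarTower A A' k']
    [Algebra p.ResidueField k'] [IsScalarTower A p.ResidueField k']
    [Algebra p'.ResidueField k'] [IsScalarTower A' p'.ResidueField k'] :
    Nonempty ((k' ⊗[p'.ResidueField] (p'.Fiber B')) ≃+* (k' ⊗[p.ResidueField] (p.Fiber B))) := by
  let e1 : (k' ⊗[p'.ResidueField] (p'.Fiber B')) ≃ₐ[k'] k' ⊗[A'] B' :=
    Algebra.TensorProduct.cancelBaseChange A' p'.ResidueField k' k' B'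
  let e2 : k' ⊗[A'] B' ≃ₐ[A'] k' ⊗[A'] (A' ⊗[A] B) :=
    Algebra.TensorProduct.congr (AlgEquiv.refl (R := A') (A₁ := k'))
      (Algebra.IsPushout.equiv A A' B B').symm
  let e3 : k' ⊗[A'] (A' ⊗[A] B) ≃ₐ[k'] k' ⊗[A] B :=
    Algebra.TensorProduct.cancelBaseChange A A' k' k' B
  let e4 : (k' ⊗[p.ResidueField] (p.Fiber B)) ≃ₐ[k'] k' ⊗[A] B :=
    Algebra.TensorProduct.cancelBaseChange A p.ResidueField k' k' B
  exact ⟨e1.toRingEquiv.trans (e2.toRingEquiv.trans (e3.toRingEquiv.trans e4.toRingEquiv.symm))⟩

/-- Transfer of a property of all finite base changes of the fibre, along a pushout square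
`A → A'` surjective on stalks. -/
theorem forall_finite_of_surjectiveOnStalks
    (P : ∀ (R : Type u) [CommRing R], Prop)
    (hP : ∀ (R R' : Type u) [CommRing R] [CommRing R'], (R ≃+* R') → P R → P R')
    (A A' B B' : Type u) [CommRing A] [CommRing A'] [CommRing B]
    [CommRing B'] [Algebra A A'] [Algebra A B] [Algebra A' B'] [Algebra B B'] [Algebra A B']
    [IsScalarTower A A' B'] [IsScalarTower A B B'] [Algebra.IsPushout A A' B B']
    (hso : (algebraMap A A').SurjectiveOnStalks)
    (p' : Ideal A') [p'.IsPrime]
    (h : ∀ (k' : Type u) [Field k'] [Algebra (p'.comap (algebraMap A A')).ResidueField k'],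
      Module.Finite (p'.comap (algebraMap A A')).ResidueField k' →
        P (k' ⊗[(p'.comap (algebraMap A A')).ResidueField]
          ((p'.comap (algebraMap A A')).Fiber B))) :
    ∀ (k' : Type u) [Field k'] [Algebra p'.ResidueField k'],
      Module.Finite p'.ResidueField k' → P (k' ⊗[p'.ResidueField] (p'.Fiber B')) := by
  intro k' _ _ hfin
  let φ : (p'.comap (algebraMap A A')).ResidueField →+* p'.ResidueField :=
    Ideal.ResidueField.map (p'.comap (algebraMap A A')) p' (algebraMap A A') rfl
  have hφ : Function.Bijective φ :=
    hso.residueFieldMap_bijective (p'.comap (algebraMap A A')) p' rfl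
  letI : Algebra A' k' :=
    ((algebraMap p'.ResidueField k').comp (algebraMap A' p'.ResidueField)).toAlgebra
  haveI : IsScalarTower A' p'.ResidueField k' := IsScalarTower.of_algebraMap_eq (fun _ => rfl)
  letI : Algebra A k' := ((algebraMap A' k').comp (algebraMap A A')).toAlgebra
  haveI : IsScalarTower A A' k' := IsScalarTower.of_algebraMap_eq (fun _ => rfl)
  letI : Algebra (p'.comap (algebraMap A A')).ResidueField k' :=
    ((algebraMap p'.ResidueField k').comp φ).toAlgebra
  haveI : IsScalarTower A (p'.comap (algebraMap A A')).ResidueField k' :=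
    IsScalarTower.of_algebraMap_eq (fun a => by
      show algebraMap p'.ResidueField k' (algebraMap A' p'.ResidueField (algebraMap A A' a)) =
        algebraMap p'.ResidueField k'
          (φ (algebraMap A (p'.comap (algebraMap A A')).ResidueField a))
      rw [Ideal.ResidueField.map_algebraMap])
  have hfin' : Module.Finite (p'.comap (algebraMap A A')).ResidueField k' := by
    letI : Algebra (p'.comap (algebraMap A A')).ResidueField p'.ResidueField := φ.toAlgebra
    haveI : IsScalarTower (p'.comap (algebraMap A A')).ResidueField p'.ResidueField k' :=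
      IsScalarTower.of_algebraMap_eq (fun _ => rfl)
    haveI : Module.Finite (p'.comap (algebraMap A A')).ResidueField p'.ResidueField :=
      Module.Finite.of_surjective
        (Algebra.linearMap (p'.comap (algebraMap A A')).ResidueField p'.ResidueField) hφ.2
    exact Module.Finite.trans p'.ResidueField k'
  obtain ⟨e⟩ := nonempty_ringEquiv_fibre A A' B B' (p'.comap (algebraMap A A')) p' k'
  exact hP _ _ e.symm (h k' hfin')

end Groth.Agent.Lib.FibreBaseChange
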