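import Groth.Prelude.Def_EGA4b
import Groth.Prelude.Def_Found
import Groth.Agent.Lib.FibreBaseChange
import Mathlib.RingTheory.Flat.Localization
import Mathlib.RingTheory.RegularLocalRing.Defs

/-!
# Normal / regular homomorphisms and base change along maps surjective on stalks
-/

set_option autoImplicit false
open TensorProduct
universe u

namespace Groth.Agent.Lib.FibreBaseChangeApps

open Groth.Agent.Lib.FibreBaseChange

/-- Normality (in the sense of `EGA4.IsNormalRing`) transfers along ring isomorphisms. -/
theorem isNormalRing_of_ringEquiv {R R' : Type u} [CommRing R] [CommRing R'] (e : R ≃+* R')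
    (h : EGA4.IsNormalRing R) : EGA4.IsNormalRing R' := by
  intro p hp
  have hq : (p.comap e).IsPrime := Ideal.comap_isPrime _ _
  let e' : Localization.AtPrime (p.comap e) ≃+* Localization.AtPrime p :=
    IsLocalization.ringEquivOfRingEquiv
      (Localization.AtPrime (p.comap e)) (Localization.AtPrime p) e
      (e.map_primeCompl_comap_eq p)
  obtain ⟨h1, h2⟩ := h (p.comap e)
  exact ⟨e'.symm.toMulEquiv.isDomain _, IsIntegrallyClosed.of_equiv e'⟩

variable (A A' B B' : Type u) [CommRing A] [CommRing A'] [CommRing B]
    [CommRing B'] [Algebra A A'] [Algebra A B] [Algebra A' B'] [Algebra B B'] [Algebra A B']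
    [IsScalarTower A A' B'] [IsScalarTower A B B'] [Algebra.IsPushout A A' B B']

/-- Geometric normality of fibres is stable under base change along a map surjective on
stalks. -/
theorem isGeomNormal_fiber_of_surjectiveOnStalks (hso : (algebraMap A A').SurjectiveOnStalks)
    (p' : Ideal A') [p'.IsPrime]
    (h : EGA4.IsGeomNormal (p'.comap (algebraMap A A')).ResidueField
      ((p'.comap (algebraMap A A')).Fiber B)) :
    EGA4.IsGeomNormal p'.ResidueField (p'.Fiber B') :=
  forall_finite_of_surjectiveOnStalks (fun R _ => EGA4.IsNormalRing R)
    (fun _ _ _ _ e hR => isNormalRing_of_ringEquiv e hR) A A' B B' hso p' h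

/-- Geometric regularity of fibres is stable under base change along a map surjective on
stalks. -/
theorem isGeometricallyRegular_fiber_of_surjectiveOnStalks
    (hso : (algebraMap A A').SurjectiveOnStalks) (p' : Ideal A') [p'.IsPrime]
    (h : CAlg.IsGeometricallyRegular (p'.comap (algebraMap A A')).ResidueField
      ((p'.comap (algebraMap A A')).Fiber B)) :
    CAlg.IsGeometricallyRegular p'.ResidueField (p'.Fiber B') :=
  forall_finite_of_surjectiveOnStalks (fun R _ => IsRegularRing R)
    (fun _ _ _ _ e hR => @IsRegularRing.of_ringEquiv _ _ _ _ e hR) A A' B B' hso p' h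

/-- A geometrically regular algebra over a field is Noetherian. -/
theorem isNoetherianRing_of_isGeometricallyRegular (k S : Type u) [Field k] [CommRing S]
    [Algebra k S] (h : CAlg.IsGeometricallyRegular k S) : IsNoetherianRing S := by
  have h1 : IsRegularRing (k ⊗[k] S) := h k inferInstance
  have h2 : IsNoetherianRing (k ⊗[k] S) := inferInstance
  exact isNoetherianRing_of_ringEquiv (k ⊗[k] S) (Algebra.TensorProduct.lid k S).toRingEquiv

end Groth.Agent.Lib.FibreBaseChangeApps
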