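import Groth.Prelude.Def_EGA4b
import Groth.Prelude.Def_Found
import Groth.Agent.Lib.ComplQuotient96
import Groth.Agent.Lib.FibreBaseChangeApps
import Mathlib.RingTheory.LocalRing.Quotient

/-!
# The completion of a quotient of a Noetherian local ring is a base change of the completion (helper96)
-/

set_option autoImplicit false
universe u
open TensorProduct IsLocalRing

namespace Groth.Agent.Lib.FormalFibreQuotient96

variable (A : Type u) [CommRing A] [IsNoetherianRing A] [IsLocalRing A] (I : Ideal A)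
  [Nontrivial (A ⧸ I)]

theorem maximalIdeal_quotient :
    maximalIdeal (A ⧸ I) = (maximalIdeal A).map (algebraMap A (A ⧸ I)) := by
  have hI : I ≠ ⊤ := Ideal.Quotient.nontrivial_iff.mp inferInstance
  have := IsLocalHom.of_surjective (Ideal.Quotient.mk I) Ideal.Quotient.mk_surjective
  ext x
  obtain ⟨x, rfl⟩ := Ideal.Quotient.mk_surjective x
  simp [sup_eq_left.mpr (le_maximalIdeal hI)]

/-- `Cpl (A ⧸ I)` is the base change of `Cpl A` along `A → A ⧸ I`. -/
theorem exists_isPushout :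
    ∃ (_ : Algebra (EGA4.Cpl A) (EGA4.Cpl (A ⧸ I)))
      (_ : IsScalarTower A (EGA4.Cpl A) (EGA4.Cpl (A ⧸ I))),
      Algebra.IsPushout A (A ⧸ I) (EGA4.Cpl A) (EGA4.Cpl (A ⧸ I)) := by
  have hK := maximalIdeal_quotient A I
  let alg : Algebra (EGA4.Cpl A) (EGA4.Cpl (A ⧸ I)) :=
    (FSch.complMap (maximalIdeal A) (maximalIdeal (A ⧸ I)) (algebraMap A (A ⧸ I)) hK.ge).toAlgebra
  have tower : IsScalarTower A (EGA4.Cpl A) (EGA4.Cpl (A ⧸ I)) := by
    apply IsScalarTower.of_algebraMap_eq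
    intro a
    change _ = FSch.complMap (maximalIdeal A) (maximalIdeal (A ⧸ I)) (algebraMap A (A ⧸ I)) hK.ge
      (algebraMap A (EGA4.Cpl A) a)
    rw [Groth.Agent.Lib.ComplMap.complMap_algebraMap,
      ← IsScalarTower.algebraMap_apply A (A ⧸ I) (EGA4.Cpl (A ⧸ I))]
  refine ⟨alg, tower, ?_⟩
  exact Groth.Agent.Lib.ComplQuotient96.isPushout (maximalIdeal A) (A ⧸ I) (maximalIdeal (A ⧸ I)) hK rfl

end Groth.Agent.Lib.FormalFibreQuotient96
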