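import Mathlib.RingTheory.Henselian
import Mathlib.Algebra.Polynomial.Lifts
import Mathlib.RingTheory.LocalRing.RingHom.Basic
import Mathlib.RingTheory.LocalRing.ResidueField.Basic
import Groth.Prelude.Def_Hensel

/-!
Consequences of the universal property of the henselization (helper22).

* surjective images of henselian local rings are henselian local
* local rings with nilpotent maximal ideal are henselian
* for a henselization `S` of `R`: `R ⧸ m ^ n → S ⧸ m ^ n S` is bijective
-/

namespace Groth.Agent.Lib.HenselizationUP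

open Polynomial IsLocalRing

universe u

theorem henselianLocalRing_of_surjective {S T : Type*} [CommRing S] [CommRing T]
    [HenselianLocalRing S] [Nontrivial T] (π : S →+* T) (hπ : Function.Surjective π) :
    HenselianLocalRing T := by
  have hloc : IsLocalRing T := IsLocalRing.of_surjective' π hπ
  have hπloc : IsLocalHom π := IsLocalHom.of_surjective π hπ
  have hmem : ∀ s, π s ∈ maximalIdeal T → s ∈ maximalIdeal S := by
    intro s hs
    rw [← maximalIdeal_comap π]
    exact hs
  refine ⟨fun f hf a₀ h₁ h₂ => ?_⟩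
  obtain ⟨F, rfl, -, hF⟩ := lifts_and_natDegree_eq_and_monic (mem_lifts_of_surjective hπ f) hf
  obtain ⟨b₀, rfl⟩ := hπ a₀
  rw [eval_map_apply] at h₁
  rw [derivative_map, eval_map_apply] at h₂
  obtain ⟨b, hb, hb'⟩ := HenselianLocalRing.is_henselian F hF b₀ (hmem _ h₁)
    (isUnit_of_map_unit π _ h₂)
  refine ⟨π b, ?_, ?_⟩
  · rw [IsRoot.def, eval_map_apply, hb, map_zero]
  · rw [← map_sub]
    exact map_nonunit π _ hb'

theorem isAdicComplete_of_pow_eq_bot' {A : Type*} [CommRing A] (I : Ideal A) (N : ℕ)
    (hN : I ^ N = ⊥) : IsAdicComplete I A where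
  haus' x hx := by
    have := hx N
    rw [hN, Submodule.bot_smul, SModEq.bot] at this
    exact this
  prec' f hf := by
    refine ⟨f N, fun n => ?_⟩
    rcases le_total n N with h | h
    · exact hf h
    · have := hf h
      rw [hN, Submodule.bot_smul, SModEq.bot] at this
      rw [this]

theorem henselianLocalRing_of_maximalIdeal_pow_eq_bot {T : Type*} [CommRing T] [IsLocalRing T]
    (N : ℕ) (hN : maximalIdeal T ^ N = ⊥) : HenselianLocalRing T := by
  have := isAdicComplete_of_pow_eq_bot' (maximalIdeal T) N hN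
  have hH : HenselianRing T (maximalIdeal T) := inferInstance
  exact ⟨fun f hf a₀ h₁ h₂ => hH.is_henselian f hf a₀ h₁ (h₂.map _)⟩

section UP

variable (R S : Type u) [CommRing R] [IsLocalRing R] [CommRing S] [IsLocalRing S]
  [Algebra R S] [IsLocalHom (algebraMap R S)] [Hensel.IsHenselization R S]

theorem quotientMap_pow_bijective (n : ℕ) :
    Function.Bijective (Ideal.quotientMap
      (Ideal.map (algebraMap R S) (maximalIdeal R ^ n)) (algebraMap R S)
      Ideal.le_comap_map) := by
  rcases Nat.eq_zero_or_pos n with hn | hn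
  · have h1 : Subsingleton (R ⧸ maximalIdeal R ^ n) := by
      rw [Ideal.Quotient.subsingleton_iff, hn, pow_zero, Ideal.one_eq_top]
    have h2 : Subsingleton (S ⧸ Ideal.map (algebraMap R S) (maximalIdeal R ^ n)) := by
      rw [Ideal.Quotient.subsingleton_iff, hn, pow_zero, Ideal.one_eq_top, Ideal.map_top]
    exact ⟨fun _ _ _ => Subsingleton.elim _ _, fun y => ⟨0, Subsingleton.elim _ _⟩⟩
  set I : Ideal R := maximalIdeal R ^ n with hI
  set K : Ideal S := Ideal.map (algebraMap R S) I with hK
  have hIm : I ≤ maximalIdeal R := Ideal.pow_le_self (Nat.pos_iff_ne_zero.mp hn)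
  have hKm : K ≤ maximalIdeal S := (Ideal.map_mono hIm).trans (map_maximalIdeal_le _)
  have hIne : I ≠ ⊤ := fun h => (maximalIdeal.isMaximal R).ne_top (top_le_iff.mp (h ▸ hIm))
  have hKne : K ≠ ⊤ := fun h => (maximalIdeal.isMaximal S).ne_top (top_le_iff.mp (h ▸ hKm))
  have hRI : Nontrivial (R ⧸ I) := Ideal.Quotient.nontrivial_iff.mpr hIne
  have hSK : Nontrivial (S ⧸ K) := Ideal.Quotient.nontrivial_iff.mpr hKne
  have hRIloc : IsLocalRing (R ⧸ I) :=
    IsLocalRing.of_surjective' (Ideal.Quotient.mk I) Ideal.Quotient.mk_surjective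
  have hmaxpow : maximalIdeal (R ⧸ I) ^ n = ⊥ := by
    rw [← map_maximalIdeal_of_surjective (Ideal.Quotient.mk I) Ideal.Quotient.mk_surjective,
      ← Ideal.map_pow, Ideal.map_quotient_self]
  have hRIhens : HenselianLocalRing (R ⧸ I) :=
    henselianLocalRing_of_maximalIdeal_pow_eq_bot n hmaxpow
  have hS : HenselianLocalRing S := Hensel.IsHenselization.henselian R
  have hSKhens : HenselianLocalRing (S ⧸ K) :=
    henselianLocalRing_of_surjective (Ideal.Quotient.mk K) Ideal.Quotient.mk_surjective
  have hmkI : IsLocalHom (Ideal.Quotient.mk I) :=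
    IsLocalHom.of_surjective _ Ideal.Quotient.mk_surjective
  have hmkK : IsLocalHom (Ideal.Quotient.mk K) :=
    IsLocalHom.of_surjective _ Ideal.Quotient.mk_surjective
  obtain ⟨g, hg, -⟩ := Hensel.IsHenselization.universal (R := R) (S := S) (R ⧸ I)
    (Ideal.Quotient.mk I) hmkI
  have hf₂ : IsLocalHom ((Ideal.Quotient.mk K).comp (algebraMap R S)) := inferInstance
  obtain ⟨h, -, hh⟩ := Hensel.IsHenselization.universal (R := R) (S := S) (S ⧸ K)
    ((Ideal.Quotient.mk K).comp (algebraMap R S)) hf₂
  have hgalg : ∀ r, g (algebraMap R S r) = Ideal.Quotient.mk I r :=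
    fun r => congrArg (fun k => k r) hg
  have hcomp : ∀ s, Ideal.quotientMap K (algebraMap R S) Ideal.le_comap_map (g s) =
      Ideal.Quotient.mk K s := by
    intro s
    have e1 : (Ideal.quotientMap K (algebraMap R S) Ideal.le_comap_map).comp g = h := by
      apply hh
      rw [RingHom.comp_assoc, hg]
      ext r
      simp
    have e2 : Ideal.Quotient.mk K = h := hh _ rfl
    rw [e2, ← e1]
    rfl
  have hKker : K ≤ RingHom.ker g := by
    rw [hK, Ideal.map_le_iff_le_comap]
    intro i hi
    rw [Ideal.mem_comap, RingHom.mem_ker, hgalg]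
    exact Ideal.Quotient.eq_zero_iff_mem.mpr hi
  constructor
  · apply Function.LeftInverse.injective (g := Ideal.Quotient.lift K g (fun a ha => hKker ha))
    intro x
    obtain ⟨r, rfl⟩ := Ideal.Quotient.mk_surjective x
    rw [Ideal.quotientMap_mk, Ideal.Quotient.lift_mk, hgalg]
  · intro y
    obtain ⟨s, rfl⟩ := Ideal.Quotient.mk_surjective y
    exact ⟨g s, hcomp s⟩

theorem map_maximalIdeal_eq :
    Ideal.map (algebraMap R S) (maximalIdeal R) = maximalIdeal S := by
  have hb := quotientMap_pow_bijective R S 1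
  rw [pow_one] at hb
  set K : Ideal S := Ideal.map (algebraMap R S) (maximalIdeal R) with hK
  have hF : IsField (R ⧸ maximalIdeal R) :=
    (Ideal.Quotient.maximal_ideal_iff_isField_quotient _).mp (maximalIdeal.isMaximal R)
  have e : (R ⧸ maximalIdeal R) ≃+* (S ⧸ K) := RingEquiv.ofBijective _ hb
  have hF' : IsField (S ⧸ K) := e.symm.toMulEquiv.isField hF
  have hmax : K.IsMaximal := (Ideal.Quotient.maximal_ideal_iff_isField_quotient _).mpr hF'
  exact IsLocalRing.eq_maximalIdeal hmax

theorem residueFieldMap_bijective :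
    Function.Bijective (ResidueField.map (algebraMap R S)) := by
  refine ⟨(ResidueField.map (algebraMap R S)).injective, fun y => ?_⟩
  obtain ⟨s, rfl⟩ := residue_surjective y
  have hb := quotientMap_pow_bijective R S 1
  rw [pow_one] at hb
  obtain ⟨x, hx⟩ := hb.2 (Ideal.Quotient.mk _ s)
  obtain ⟨r, rfl⟩ := Ideal.Quotient.mk_surjective x
  refine ⟨residue R r, ?_⟩
  rw [ResidueField.map_residue]
  rw [Ideal.quotientMap_mk, Ideal.Quotient.eq, map_maximalIdeal_eq] at hx
  exact Ideal.Quotient.eq.mpr hx

end UP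

end Groth.Agent.Lib.HenselizationUP
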