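/-
helper56: formal catenarity of henselizations (EGA IV 18.7-ish).

* `isEquidim_of_ringEquiv` : `EGA4.IsEquidim` is invariant under ring isomorphisms.
* `isEquidim_quotient_of_mem_minimalPrimes` : for `T` flat over `S` and `q` a minimal prime over `I`,
  `T/IT` equidimensional ⇒ `T/qT` equidimensional.
* `nonempty_quotient_cpl_equiv` : `Cpl A / I·Cpl A ≃+* Cpl (A/I)` (from helper96's pushout).
* `complMap_bijective` : the completion of a henselization is the completion.
-/
import Mathlib
import Groth.Prelude.Def_EGA4b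
import Groth.Agent.Lib.FormalFibreQuotient96
import Groth.Agent.Lib.ComplFlat
import Groth.Agent.Lib.HenselizationUP

set_option autoImplicit false
universe u

open IsLocalRing TensorProduct

namespace Groth.Agent.Lib.H56FormalCat

/-- Equidimensionality is invariant under ring isomorphisms. -/
theorem isEquidim_of_ringEquiv {A B : Type u} [CommRing A] [CommRing B] (e : A ≃+* B)
    (h : EGA4.IsEquidim A) : EGA4.IsEquidim B := by
  intro P hP
  have hP' : P.comap (e : A →+* B) ∈ minimalPrimes A := by
    have := Ideal.minimalPrimes_comap_of_surjective (f := (e : A →+* B)) e.surjective hP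
    have hker : RingHom.ker (e : A →+* B) = ⊥ :=
      (RingHom.injective_iff_ker_eq_bot _).mp e.injective
    rw [← RingHom.ker_eq_comap_bot, hker] at this
    exact this
  have h1 := h _ hP'
  have e1 : (A ⧸ P.comap (e : A →+* B)) ≃+* (B ⧸ P) :=
    Ideal.quotientEquiv _ _ e
      (Ideal.map_comap_of_surjective (e : A →+* B) e.surjective P).symm
  rw [← ringKrullDim_eq_of_ringEquiv e1, h1, ringKrullDim_eq_of_ringEquiv e]

/-- **Key lemma**: for a flat `S`-algebra `T` and a prime `q` of `S` minimal over an ideal `I`,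
equidimensionality of `T/IT` implies that of `T/qT`. -/
theorem isEquidim_quotient_of_mem_minimalPrimes {S T : Type u} [CommRing S] [CommRing T]
    [Algebra S T] [Module.Flat S T] (I q : Ideal S) [q.IsPrime] (hq : q ∈ I.minimalPrimes)
    (h : EGA4.IsEquidim (T ⧸ I.map (algebraMap S T))) :
    EGA4.IsEquidim (T ⧸ q.map (algebraMap S T)) := by
  intro Pb hPb
  have hKJ : I.map (algebraMap S T) ≤ q.map (algebraMap S T) := Ideal.map_mono hq.1.2
  have hPmin : Pb.comap (Ideal.Quotient.mk (q.map (algebraMap S T))) ∈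
      (q.map (algebraMap S T)).minimalPrimes := by
    rw [Ideal.minimalPrimes_eq_comap]; exact ⟨Pb, hPb, rfl⟩
  set P := Pb.comap (Ideal.Quotient.mk (q.map (algebraMap S T))) with hP
  have hPprime : P.IsPrime := hPmin.1.1
  have hqP : q ≤ P.under S := by
    rw [Ideal.under, ← Ideal.map_le_iff_le_comap]; exact hPmin.1.2
  have hPq : P.under S = q := by
    obtain ⟨P'', hP''le, hP''prime, hP''over⟩ :=
      Ideal.exists_ideal_le_liesOver_of_le (p := q) (q := P.under S) P hqP
    have h1 : q.map (algebraMap S T) ≤ P'' := by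
      rw [Ideal.map_le_iff_le_comap]; exact hP''over.over.le
    have h2 : P ≤ P'' := hPmin.2 ⟨hP''prime, h1⟩ hP''le
    have hPP'' : P'' = P := le_antisymm hP''le h2
    rw [← hPP'']; exact hP''over.over.symm
  have hPminK : P ∈ (I.map (algebraMap S T)).minimalPrimes := by
    refine ⟨⟨hPprime, hKJ.trans hPmin.1.2⟩, ?_⟩
    rintro P' ⟨hP'prime, hKP'⟩ hP'P
    have h1 : I ≤ P'.under S := by
      rw [Ideal.under, ← Ideal.map_le_iff_le_comap]; exact hKP'
    have h2 : P'.under S ≤ q := hPq ▸ Ideal.comap_mono hP'P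
    have h3 : q ≤ P'.under S := hq.2 ⟨inferInstance, h1⟩ h2
    have h4 : q.map (algebraMap S T) ≤ P' := by
      rw [Ideal.map_le_iff_le_comap]; exact h3
    exact hPmin.2 ⟨hP'prime, h4⟩ hP'P
  have hdimK : ringKrullDim (T ⧸ P) = ringKrullDim (T ⧸ I.map (algebraMap S T)) := by
    have hmem : P.map (Ideal.Quotient.mk (I.map (algebraMap S T))) ∈
        minimalPrimes (T ⧸ I.map (algebraMap S T)) := by
      rw [Ideal.minimalPrimes_eq_comap] at hPminK
      obtain ⟨P0, hP0, hP0P⟩ := hPminK
      rw [← hP0P, Ideal.map_comap_of_surjective _ Ideal.Quotient.mk_surjective]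
      exact hP0
    rw [← h _ hmem]
    exact (ringKrullDim_eq_of_ringEquiv (DoubleQuot.quotQuotEquivQuotOfLE hPminK.1.2)).symm
  have hdimJ : ringKrullDim ((T ⧸ q.map (algebraMap S T)) ⧸ Pb) = ringKrullDim (T ⧸ P) := by
    have : Pb = P.map (Ideal.Quotient.mk (q.map (algebraMap S T))) := by
      rw [hP, Ideal.map_comap_of_surjective _ Ideal.Quotient.mk_surjective]
    rw [this]
    exact ringKrullDim_eq_of_ringEquiv (DoubleQuot.quotQuotEquivQuotOfLE hPmin.1.2)
  apply le_antisymm
  · exact ringKrullDim_quotient_le _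
  · rw [hdimJ, hdimK]
    exact ringKrullDim_le_of_surjective (Ideal.Quotient.factor hKJ)
      (Ideal.Quotient.factor_surjective hKJ)

/-- The completion of a quotient is the quotient of the completion (ring isomorphism). -/
theorem nonempty_quotient_cpl_equiv (A : Type u) [CommRing A] [IsNoetherianRing A] [IsLocalRing A]
    (I : Ideal A) [Nontrivial (A ⧸ I)] :
    Nonempty ((EGA4.Cpl A ⧸ I.map (algebraMap A (EGA4.Cpl A))) ≃+* EGA4.Cpl (A ⧸ I)) := by
  obtain ⟨alg, tower, hpo⟩ := Groth.Agent.Lib.FormalFibreQuotient96.exists_isPushout A I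
  exact ⟨(Algebra.TensorProduct.quotIdealMapEquivQuotTensor (EGA4.Cpl A) I).toRingEquiv.trans
    (Algebra.IsPushout.equiv A (A ⧸ I) (EGA4.Cpl A) (EGA4.Cpl (A ⧸ I))).toRingEquiv⟩

section Hzn

variable (R S : Type u) [CommRing R] [IsLocalRing R] [CommRing S] [IsLocalRing S]
  [Algebra R S] [IsLocalHom (algebraMap R S)] [Hensel.IsHenselization R S]

theorem quotientMap_bijective_of_eq (n : ℕ) (J : Ideal S)
    (hJ : J = Ideal.map (algebraMap R S) (maximalIdeal R ^ n))
    (hle : maximalIdeal R ^ n ≤ J.comap (algebraMap R S)) :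
    Function.Bijective (Ideal.quotientMap J (algebraMap R S) hle) := by
  subst hJ
  exact Groth.Agent.Lib.HenselizationUP.quotientMap_pow_bijective R S n

theorem complMap_bijective :
    Function.Bijective (FSch.complMap (maximalIdeal R) (maximalIdeal S) (algebraMap R S)
      (Groth.Agent.Lib.HenselizationUP.map_maximalIdeal_eq R S).le) := by
  apply Groth.Agent.Lib.ComplFlat.complMap_bijective_of_levelwise
  intro n
  apply quotientMap_bijective_of_eq R S n
  rw [Ideal.map_pow, Groth.Agent.Lib.HenselizationUP.map_maximalIdeal_eq]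

end Hzn

end Groth.Agent.Lib.H56FormalCat
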