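/-
helper56: more on minimal primes along flat maps (companion of `H56FormalCat`).

* `under_mem_minimalPrimes_of_flat` : minimal primes contract to minimal primes along flat maps.
* `ringKrullDim_quotient_eq_of_mem_minimalPrimes` : `T` flat over `S`, `q` minimal over `I`,
  `T/IT` equidimensional and `T/qT` nontrivial ⇒ `dim T/qT = dim T/IT`.
-/
import Groth.Agent.Lib.H56FormalCat

set_option autoImplicit false
universe u

namespace Groth.Agent.Lib.H56FormalCat

/-- Minimal primes contract to minimal primes along flat maps. -/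
theorem under_mem_minimalPrimes_of_flat {S T : Type u} [CommRing S] [CommRing T]
    [Algebra S T] [Module.Flat S T] (P : Ideal T) (hP : P ∈ minimalPrimes T) :
    P.under S ∈ minimalPrimes S := by
  have hPprime : P.IsPrime := hP.1.1
  refine ⟨⟨inferInstance, bot_le⟩, ?_⟩
  rintro p' ⟨hp'prime, -⟩ hle
  obtain ⟨P', hP'le, hP'prime, hP'over⟩ :=
    Ideal.exists_ideal_le_liesOver_of_le (p := p') (q := P.under S) P hle
  have : P ≤ P' := hP.2 ⟨hP'prime, bot_le⟩ hP'le
  have hPP' : P' = P := le_antisymm hP'le this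
  rw [← hPP', ← hP'over.over]

/-- Dimension of `T/qT` for `q` minimal over `I`, when `T/IT` is equidimensional. -/
theorem ringKrullDim_quotient_eq_of_mem_minimalPrimes {S T : Type u} [CommRing S] [CommRing T]
    [Algebra S T] [Module.Flat S T] (I q : Ideal S) [q.IsPrime] (hq : q ∈ I.minimalPrimes)
    (h : EGA4.IsEquidim (T ⧸ I.map (algebraMap S T)))
    [Nontrivial (T ⧸ q.map (algebraMap S T))] :
    ringKrullDim (T ⧸ q.map (algebraMap S T)) = ringKrullDim (T ⧸ I.map (algebraMap S T)) := by
  have hKJ : I.map (algebraMap S T) ≤ q.map (algebraMap S T) := Ideal.map_mono hq.1.2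
  obtain ⟨Pb, hPb⟩ := Ideal.nonempty_minimalPrimes
    (I := (⊥ : Ideal (T ⧸ q.map (algebraMap S T)))) bot_ne_top
  have hPmin : Pb.comap (Ideal.Quotient.mk (q.map (algebraMap S T))) ∈
      (q.map (algebraMap S T)).minimalPrimes := by
    rw [Ideal.minimalPrimes_eq_comap]; exact ⟨Pb, hPb, rfl⟩
  set P := Pb.comap (Ideal.Quotient.mk (q.map (algebraMap S T))) with hP
  have hPprime : P.IsPrime := hPmin.1.1
  have hqP : q ≤ P.under S := by
    rw [Ideal.under, ← Ideal.map_le_iff_le_comap]; exact hPmin.1.2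
  have hPq : P.under S = q := by
    obtain ⟨P'', hP''le, hP''prime, hP''over⟩ :=
      Ideal.exists_ideal_le_liesOver_of_le (p := q) (q := P.under S) P hqP
    have h1 : q.map (algebraMap S T) ≤ P'' := by
      rw [Ideal.map_le_iff_le_comap]; exact hP''over.over.le
    have h2 : P ≤ P'' := hPmin.2 ⟨hP''prime, h1⟩ hP''le
    have hPP'' : P'' = P := le_antisymm hP''le h2
    rw [← hPP'']; exact hP''over.over.symm
  have hPminK : P ∈ (I.map (algebraMap S T)).minimalPrimes := by
    refine ⟨⟨hPprime, hKJ.trans hPmin.1.2⟩, ?_⟩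
    rintro P' ⟨hP'prime, hKP'⟩ hP'P
    have h1 : I ≤ P'.under S := by
      rw [Ideal.under, ← Ideal.map_le_iff_le_comap]; exact hKP'
    have h2 : P'.under S ≤ q := hPq ▸ Ideal.comap_mono hP'P
    have h3 : q ≤ P'.under S := hq.2 ⟨inferInstance, h1⟩ h2
    have h4 : q.map (algebraMap S T) ≤ P' := by
      rw [Ideal.map_le_iff_le_comap]; exact h3
    exact hPmin.2 ⟨hP'prime, h4⟩ hP'P
  have hdimK : ringKrullDim (T ⧸ P) = ringKrullDim (T ⧸ I.map (algebraMap S T)) := by
    have hmem : P.map (Ideal.Quotient.mk (I.map (algebraMap S T))) ∈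
        minimalPrimes (T ⧸ I.map (algebraMap S T)) := by
      rw [Ideal.minimalPrimes_eq_comap] at hPminK
      obtain ⟨P0, hP0, hP0P⟩ := hPminK
      rw [← hP0P, Ideal.map_comap_of_surjective _ Ideal.Quotient.mk_surjective]
      exact hP0
    rw [← h _ hmem]
    exact (ringKrullDim_eq_of_ringEquiv (DoubleQuot.quotQuotEquivQuotOfLE hPminK.1.2)).symm
  apply le_antisymm
  · exact ringKrullDim_le_of_surjective (Ideal.Quotient.factor hKJ)
      (Ideal.Quotient.factor_surjective hKJ)
  · rw [← hdimK]
    exact ringKrullDim_le_of_surjective (Ideal.Quotient.factor hPmin.1.2)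
      (Ideal.Quotient.factor_surjective hPmin.1.2)

end Groth.Agent.Lib.H56FormalCat
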