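/-
helper56: formal equidimensionality of quotients of Cohen–Macaulay local rings.

* `under_eq_of_mem_minimalPrimes_map` : `T` flat over `S`, `Q` minimal over `qT` ⇒ `Q ∩ S = q`.
* `isEquidim_of_forall_eq` : a ring all of whose minimal-prime quotients have the same dimension is
  equidimensional.
* `nonempty_quotient_cpl_equiv_of_surjective` : `Cpl A / (ker)·Cpl A ≃+* Cpl C` for a surjection
  `A → C` of local rings.
* `isEquidim_quotient_map_of_isCM` : `T` flat over `S`, `T` CM local, `q` prime of `S`
  ⇒ `T/qT` equidimensional.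
-/
import Mathlib
import Groth.Prelude.Def_EGA4b
import Groth.Agent.Lib.H56FormalCat
import Groth.Agent.Lib.EquidimCat33
import Groth.Agent.Lib.H8CM6

set_option autoImplicit false
universe u

open IsLocalRing TensorProduct

namespace Groth.Agent.Lib.H56FormalCat

/-- For `T` flat over `S` and `Q` minimal over `qT`, `Q` lies over `q`. -/
theorem under_eq_of_mem_minimalPrimes_map {S T : Type u} [CommRing S] [CommRing T]
    [Algebra S T] [Module.Flat S T] (q : Ideal S) [q.IsPrime] (P : Ideal T)
    (hPmin : P ∈ (q.map (algebraMap S T)).minimalPrimes) : P.under S = q := by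
  have hPprime : P.IsPrime := hPmin.1.1
  have hqP : q ≤ P.under S := by
    rw [Ideal.under, ← Ideal.map_le_iff_le_comap]; exact hPmin.1.2
  obtain ⟨P'', hP''le, hP''prime, hP''over⟩ :=
    Ideal.exists_ideal_le_liesOver_of_le (p := q) (q := P.under S) P hqP
  have h1 : q.map (algebraMap S T) ≤ P'' := by
    rw [Ideal.map_le_iff_le_comap]; exact hP''over.over.le
  have h2 : P ≤ P'' := hPmin.2 ⟨hP''prime, h1⟩ hP''le
  have hPP'' : P'' = P := le_antisymm hP''le h2
  rw [← hPP'']; exact hP''over.over.symm

/-- A ring all of whose quotients by minimal primes have the same dimension is equidimensional. -/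
theorem isEquidim_of_forall_eq {R : Type u} [CommRing R]
    (h : ∀ Q ∈ minimalPrimes R, ∀ Q' ∈ minimalPrimes R,
      ringKrullDim (R ⧸ Q) = ringKrullDim (R ⧸ Q')) : EGA4.IsEquidim R := by
  intro Q hQ
  have hQprime : Q.IsPrime := hQ.1.1
  apply le_antisymm (ringKrullDim_quotient_le _)
  have hne : Nonempty (PrimeSpectrum R) := ⟨⟨Q, hQprime⟩⟩
  unfold ringKrullDim
  rw [Order.krullDim_eq_iSup_coheight_of_nonempty]
  change _ ≤ ringKrullDim (R ⧸ Q)
  have hb : ∀ p : PrimeSpectrum R, ((Order.coheight p : ℕ∞) : WithBot ℕ∞) ≤ ringKrullDim (R ⧸ Q) := by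
    intro p
    obtain ⟨Q', hQ', hQ'p⟩ := Ideal.exists_minimalPrimes_le (I := ⊥) (J := p.asIdeal) bot_le
    have hQ'prime : Q'.IsPrime := hQ'.1.1
    rw [h Q hQ Q' hQ', ← Groth.Agent.Lib.EquidimCat33.coheight_eq ⟨Q', hQ'prime⟩]
    exact WithBot.coe_le_coe.mpr (Order.coheight_anti (show (⟨Q', hQ'prime⟩ : PrimeSpectrum R) ≤ p from hQ'p))
  cases hd : ringKrullDim (R ⧸ Q) with
  | bot =>
    exfalso
    have := hb ⟨Q, hQprime⟩
    rw [hd] at this
    exact WithBot.coe_ne_bot (le_bot_iff.mp this)
  | coe d =>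
    rw [WithBot.coe_le_coe]
    apply iSup_le
    intro p
    have := hb p
    rw [hd] at this
    exact WithBot.coe_le_coe.mp this

/-- The completion of a quotient, for a surjection `A → C` of local rings. -/
theorem nonempty_quotient_cpl_equiv_of_surjective (A C : Type u) [CommRing A]
    [IsNoetherianRing A] [IsLocalRing A] [CommRing C] [IsLocalRing C] [Algebra A C]
    (hs : Function.Surjective (algebraMap A C)) :
    Nonempty ((EGA4.Cpl A ⧸ (RingHom.ker (algebraMap A C)).map (algebraMap A (EGA4.Cpl A))) ≃+*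
      EGA4.Cpl C) := by
  have hfin : Module.Finite A C := Module.Finite.of_surjective (Algebra.linearMap A C) hs
  have hK : maximalIdeal C = (maximalIdeal A).map (algebraMap A C) := by
    have := IsLocalHom.of_surjective (algebraMap A C) hs
    rw [IsLocalRing.map_maximalIdeal_of_surjective _ hs]  -- placeholder
  let alg : Algebra (EGA4.Cpl A) (EGA4.Cpl C) :=
    (FSch.complMap (maximalIdeal A) (maximalIdeal C) (algebraMap A C) hK.ge).toAlgebra
  have tower : IsScalarTower A (EGA4.Cpl A) (EGA4.Cpl C) := by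
    apply IsScalarTower.of_algebraMap_eq
    intro a
    change _ = FSch.complMap (maximalIdeal A) (maximalIdeal C) (algebraMap A C) hK.ge
      (algebraMap A (EGA4.Cpl A) a)
    rw [Groth.Agent.Lib.ComplMap.complMap_algebraMap,
      ← IsScalarTower.algebraMap_apply A C (EGA4.Cpl C)]
  have hpo : Algebra.IsPushout A C (EGA4.Cpl A) (EGA4.Cpl C) :=
    Groth.Agent.Lib.ComplQuotient96.isPushout (maximalIdeal A) C (maximalIdeal C) hK rfl
  let e1 : (A ⧸ RingHom.ker (algebraMap A C)) ≃ₐ[A] C :=
    Ideal.quotientKerAlgEquivOfSurjective (f := Algebra.ofId A C) hs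
  exact ⟨(Algebra.TensorProduct.quotIdealMapEquivQuotTensor (EGA4.Cpl A)
      (RingHom.ker (algebraMap A C))).toRingEquiv.trans
    ((Algebra.TensorProduct.congr e1 AlgEquiv.refl).toRingEquiv.trans
    (Algebra.IsPushout.equiv A C (EGA4.Cpl A) (EGA4.Cpl C)).toRingEquiv)⟩

/-- cancellation in `WithBot ℕ∞`. -/
theorem withBot_add_right_cancel {a b : WithBot ℕ∞} {h : ℕ∞} (hh : h ≠ ⊤)
    (hab : a + (h : WithBot ℕ∞) = b + (h : WithBot ℕ∞)) : a = b := by
  cases a with
  | bot =>
    cases b with
    | bot => rfl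
    | coe b => exact absurd hab.symm (by rw [← WithBot.coe_add]; exact WithBot.coe_ne_bot)
  | coe a =>
    cases b with
    | bot => exact absurd hab (by rw [← WithBot.coe_add]; exact WithBot.coe_ne_bot)
    | coe b =>
      rw [← WithBot.coe_add, ← WithBot.coe_add, WithBot.coe_inj] at hab
      rw [WithBot.coe_inj]
      exact (ENat.add_left_injective_of_ne_top hh) hab

/-- For `T` a CM local ring, flat over `S`, and `q` a prime of `S`, the quotient `T/qT` is
equidimensional. -/
theorem isEquidim_quotient_map_of_isCM {S T : Type u} [CommRing S] [CommRing T]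
    [IsNoetherianRing S]
    [Algebra S T] [Module.Flat S T] [LocCoh.IsCohenMacaulayLocalRing T] (q : Ideal S) [q.IsPrime] :
    EGA4.IsEquidim (T ⧸ q.map (algebraMap S T)) := by
  have hN : IsNoetherianRing T := inferInstance
  have key : ∀ Qb ∈ minimalPrimes (T ⧸ q.map (algebraMap S T)),
      ringKrullDim ((T ⧸ q.map (algebraMap S T)) ⧸ Qb) + (q.height : WithBot ℕ∞) =
        ringKrullDim T := by
    intro Qb hQb
    have hQbprime : Qb.IsPrime := hQb.1.1
    have hQmin : Qb.comap (Ideal.Quotient.mk (q.map (algebraMap S T))) ∈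
        (q.map (algebraMap S T)).minimalPrimes := by
      rw [Ideal.minimalPrimes_eq_comap]; exact ⟨Qb, hQb, rfl⟩
    have hQprime : (Qb.comap (Ideal.Quotient.mk (q.map (algebraMap S T)))).IsPrime := hQmin.1.1
    have hover : (Qb.comap (Ideal.Quotient.mk (q.map (algebraMap S T)))).LiesOver q :=
      ⟨(under_eq_of_mem_minimalPrimes_map q _ hQmin).symm⟩
    have h1 := Ideal.height_eq_height_add_of_liesOver_of_hasGoingDown (R := S) (S := T) q
      (Qb.comap (Ideal.Quotient.mk (q.map (algebraMap S T))))
    rw [Ideal.map_comap_of_surjective _ Ideal.Quotient.mk_surjective,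
      Ideal.height_eq_zero_iff.mpr hQb, add_zero] at h1
    have h2 := Groth.Agent.Lib.H8CM.ringKrullDim_localization_add_quotient
      (Qb.comap (Ideal.Quotient.mk (q.map (algebraMap S T))))
    rw [IsLocalization.AtPrime.ringKrullDim_eq_height
      (Qb.comap (Ideal.Quotient.mk (q.map (algebraMap S T)))) (Localization.AtPrime _), h1] at h2
    rw [h2]
    congr 1
    have : Qb = (Qb.comap (Ideal.Quotient.mk (q.map (algebraMap S T)))).map
        (Ideal.Quotient.mk (q.map (algebraMap S T))) := by
      rw [Ideal.map_comap_of_surjective _ Ideal.Quotient.mk_surjective]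
    conv_lhs => rw [this]
    exact ringKrullDim_eq_of_ringEquiv (DoubleQuot.quotQuotEquivQuotOfLE hQmin.1.2)
  apply isEquidim_of_forall_eq
  intro Qb hQb Qb' hQb'
  exact withBot_add_right_cancel (Ideal.height_ne_top_of_isPrime (I := q)) ((key Qb hQb).trans (key Qb' hQb').symm)

end Groth.Agent.Lib.H56FormalCat
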