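import Mathlib.RingTheory.MvPolynomial.Basic
import Mathlib.Algebra.Polynomial.RingDivision
import Mathlib.RingTheory.Ideal.Quotient.Operations
import Mathlib.RingTheory.Ideal.Operations
import Mathlib.RingTheory.Flat.Basic
import Mathlib.LinearAlgebra.FreeModule.Basic

/-!
# Freeness of `A[X_s : s ∈ σ] / (F_s (X_s))` for monic `F_s` (helper22)

For a family of monic polynomials `F s : A[X]` of positive degree, the quotient of the polynomial
ring `MvPolynomial σ A` by the ideal generated by the `F s (X s)` is a free `A`-module with basis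
the monomials whose exponent at `s` is `< deg (F s)`.
-/

namespace Groth.Agent.Lib.MonicRelFree

open MvPolynomial
open scoped Polynomial

variable {A : Type*} [CommRing A] {σ : Type*} (F : σ → A[X])

/-- The ideal generated by the `F s (X s)`. -/
noncomputable def relI : Ideal (MvPolynomial σ A) :=
  Ideal.span (Set.range fun s => Polynomial.aeval (X s : MvPolynomial σ A) (F s))

/-- The reduced exponents. -/
def redSet : Set (σ →₀ ℕ) := {e | ∀ s, e s < (F s).natDegree}

/-- Reduction of a polynomial in the variable `s`, as a linear map. -/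
noncomputable def L (s : σ) : A[X] →ₗ[A] MvPolynomial σ A :=
  (Polynomial.aeval (X s : MvPolynomial σ A)).toLinearMap ∘ₗ Polynomial.modByMonicHom (F s)

theorem L_apply (s : σ) (g : A[X]) : L F s g = Polynomial.aeval (X s : MvPolynomial σ A) (g %ₘ F s) :=
  rfl

/-- The normal form of a monomial. -/
noncomputable def rhoMon (e : σ →₀ ℕ) : MvPolynomial σ A :=
  e.prod fun s n => L F s (Polynomial.X ^ n)

/-- The normal form map. -/
noncomputable def rho : MvPolynomial σ A →ₗ[A] MvPolynomial σ A :=
  (basisMonomials σ A).constr A (rhoMon F)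

theorem rho_monomial (e : σ →₀ ℕ) (c : A) : rho F (monomial e c) = c • rhoMon F e := by
  have h : monomial e c = c • (basisMonomials σ A) e := by
    rw [coe_basisMonomials, MvPolynomial.smul_monomial, smul_eq_mul, mul_one]
  rw [h, map_smul, rho, Module.Basis.constr_basis]

section

variable [Nontrivial A] (hF : ∀ s, (F s).Monic) (hd : ∀ s, 0 < (F s).natDegree)

include hF hd

omit hd in
theorem L_X_pow_of_lt (s : σ) {n : ℕ} (hn : n < (F s).natDegree) :
    L F s (Polynomial.X ^ n) = X s ^ n := by
  rw [L_apply, (Polynomial.modByMonic_eq_self_iff (hF s)).mpr, map_pow, Polynomial.aeval_X]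
  rw [Polynomial.degree_X_pow, Polynomial.degree_eq_natDegree (hF s).ne_zero]
  exact_mod_cast hn

theorem L_one (s : σ) : L F s (Polynomial.X ^ 0) = 1 := by
  rw [L_X_pow_of_lt F hF s (hd s), pow_zero]

theorem rhoMon_eq_prod (e : σ →₀ ℕ) (T : Finset σ) (hT : e.support ⊆ T) :
    rhoMon F e = ∏ s ∈ T, L F s (Polynomial.X ^ (e s)) :=
  Finsupp.prod_of_support_subset e hT _ (fun s _ => L_one F hF hd s)

omit [Nontrivial A] hF hd in
/-- `L s g ≡ g (X s)` modulo the relation ideal. -/
theorem L_sub_mem (s : σ) (g : A[X]) :
    L F s g - Polynomial.aeval (X s : MvPolynomial σ A) g ∈ relI F := by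
  have h := Polynomial.modByMonic_add_div g (F s)
  have h2 : Polynomial.aeval (X s : MvPolynomial σ A) g =
      L F s g + Polynomial.aeval (X s : MvPolynomial σ A) (F s) *
        Polynomial.aeval (X s : MvPolynomial σ A) (g /ₘ F s) := by
    conv_lhs => rw [← h]
    rw [map_add, map_mul, L_apply]
  rw [h2, sub_add_cancel_left, neg_mem_iff]
  exact Ideal.mul_mem_right _ _ (Ideal.subset_span ⟨s, rfl⟩)

omit [Nontrivial A] hF hd in
theorem mk_L (s : σ) (g : A[X]) :
    Ideal.Quotient.mk (relI F) (L F s g) =
      Ideal.Quotient.mk (relI F) (Polynomial.aeval (X s : MvPolynomial σ A) g) :=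
  Ideal.Quotient.eq.mpr (L_sub_mem F s g)

omit [Nontrivial A] hF hd in
theorem mk_rhoMon (e : σ →₀ ℕ) :
    Ideal.Quotient.mk (relI F) (rhoMon F e) = Ideal.Quotient.mk (relI F) (monomial e 1) := by
  rw [monomial_eq, C_1, one_mul, rhoMon, Finsupp.prod, Finsupp.prod, map_prod, map_prod]
  refine Finset.prod_congr rfl (fun s _ => ?_)
  rw [mk_L F, map_pow, Polynomial.aeval_X]

omit [Nontrivial A] hF hd in
/-- `rho f ≡ f` modulo the relation ideal. -/
theorem mk_rho (f : MvPolynomial σ A) :
    Ideal.Quotient.mk (relI F) (rho F f) = Ideal.Quotient.mk (relI F) f := by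
  induction f using MvPolynomial.induction_on' with
  | monomial e c =>
    rw [rho_monomial, Algebra.smul_def, map_mul, mk_rhoMon F, ← map_mul]
    congr 1
    rw [MvPolynomial.algebraMap_eq, C_mul_monomial, mul_one]
  | add p q hp hq => rw [map_add, map_add, hp, hq, map_add]

/-- Key multiplicativity: reduce a monomial without `s` times a polynomial in `X s`. -/
theorem rho_monomial_mul_aeval (e : σ →₀ ℕ) (s : σ) (hes : e s = 0) (g : A[X]) :
    rho F (monomial e 1 * Polynomial.aeval (X s : MvPolynomial σ A) g) = L F s g * rhoMon F e := by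
  classical
  induction g using Polynomial.induction_on' with
  | add p q hp hq => rw [map_add, mul_add, map_add, hp, hq, map_add, add_mul]
  | monomial n c =>
    have h1 : Polynomial.aeval (X s : MvPolynomial σ A) (Polynomial.monomial n c) =
        monomial (Finsupp.single s n) c := by
      rw [Polynomial.aeval_monomial, X_pow_eq_monomial, MvPolynomial.algebraMap_eq,
        C_mul_monomial, mul_one]
    rw [h1, monomial_mul, one_mul, rho_monomial]
    have h2 : (Polynomial.monomial n c : A[X]) = c • (Polynomial.X ^ n : A[X]) := by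
      rw [← Polynomial.C_mul_X_pow_eq_monomial, Polynomial.smul_eq_C_mul]
    rw [h2, map_smul, smul_mul_assoc]
    congr 1
    have hsupp : (e + Finsupp.single s n).support ⊆ insert s e.support := by
      intro t ht
      rw [Finsupp.mem_support_iff, Finsupp.add_apply] at ht
      rw [Finset.mem_insert, Finsupp.mem_support_iff]
      by_cases hts : t = s
      · exact Or.inl hts
      · right
        rw [Finsupp.single_apply, if_neg (Ne.symm hts), add_zero] at ht
        exact ht
    have hs : s ∉ e.support := by rw [Finsupp.notMem_support_iff]; exact hes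
    rw [rhoMon_eq_prod F hF hd _ _ hsupp, Finset.prod_insert hs,
      rhoMon_eq_prod F hF hd e e.support (le_refl _)]
    congr 1
    · rw [Finsupp.add_apply, hes, zero_add, Finsupp.single_eq_same]
    · refine Finset.prod_congr rfl (fun t ht => ?_)
      have hts : t ≠ s := fun h => hs (h ▸ ht)
      rw [Finsupp.add_apply, Finsupp.single_apply, if_neg (Ne.symm hts), add_zero]

/-- `rho` kills multiples of the generators. -/
theorem rho_mul_gen (f : MvPolynomial σ A) (s : σ) :
    rho F (f * Polynomial.aeval (X s : MvPolynomial σ A) (F s)) = 0 := by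
  classical
  induction f using MvPolynomial.induction_on' with
  | add p q hp hq => rw [add_mul, map_add, hp, hq, add_zero]
  | monomial e c =>
    set e' : σ →₀ ℕ := e.erase s with he'
    have he : e = e' + Finsupp.single s (e s) := by
      rw [he', add_comm, Finsupp.single_add_erase]
    have h1 : monomial e c = c • (monomial e' 1 *
        Polynomial.aeval (X s : MvPolynomial σ A) (Polynomial.X ^ (e s) : A[X])) := by
      rw [map_pow, Polynomial.aeval_X, X_pow_eq_monomial, monomial_mul, one_mul, ← he,
        MvPolynomial.smul_monomial, smul_eq_mul, mul_one]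
    rw [h1, smul_mul_assoc, map_smul, mul_assoc, ← map_mul,
      rho_monomial_mul_aeval F hF hd e' s (by rw [he', Finsupp.erase_same]), L_apply,
      (Polynomial.modByMonic_eq_zero_iff_dvd (hF s)).mpr
        (dvd_mul_left (F s) (Polynomial.X ^ (e s) : A[X])), map_zero, zero_mul,
      smul_zero]

theorem rho_eq_zero_of_mem {f : MvPolynomial σ A} (hf : f ∈ relI F) : rho F f = 0 := by
  rw [relI, Finsupp.mem_ideal_span_range_iff_exists_finsupp] at hf
  obtain ⟨c, rfl⟩ := hf
  rw [Finsupp.sum, map_sum]
  exact Finset.sum_eq_zero (fun s _ => rho_mul_gen F hF hd (c s) s)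

omit [Nontrivial A] in
theorem L_mem_restrictSupport (s : σ) (g : A[X]) :
    L F s g ∈ restrictSupport A {e : σ →₀ ℕ | ∃ j, j < (F s).natDegree ∧ e = Finsupp.single s j} := by
  classical
  rw [L_apply]
  set r := g %ₘ F s with hr
  have hdeg : r.natDegree < (F s).natDegree := by
    have hne : F s ≠ 1 := by
      intro h1
      have := hd s
      rw [h1, Polynomial.natDegree_one] at this
      exact lt_irrefl _ this
    exact Polynomial.natDegree_modByMonic_lt g (hF s) hne
  rw [Polynomial.aeval_eq_sum_range, ]
  refine Submodule.sum_mem _ (fun j hj => ?_)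
  rw [X_pow_eq_monomial, MvPolynomial.smul_monomial]
  rw [monomial_mem_restrictSupport]
  left
  exact ⟨j, lt_of_le_of_lt (Nat.lt_succ_iff.mp (Finset.mem_range.mp hj)) hdeg, rfl⟩

omit [Nontrivial A] in
theorem prod_L_mem (n : σ → ℕ) (T : Finset σ) :
    ∏ s ∈ T, L F s (Polynomial.X ^ (n s)) ∈
      restrictSupport A {e : σ →₀ ℕ | (∀ t, e t < (F t).natDegree) ∧ ↑e.support ⊆ (T : Set σ)} := by
  classical
  induction T using Finset.induction_on with
  | empty =>
    rw [Finset.prod_empty, ← C_1, C_apply, monomial_mem_restrictSupport]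
    left
    refine ⟨fun t => by simpa using hd t, ?_⟩
    simp
  | insert s T hs ih =>
    rw [Finset.prod_insert hs]
    have h1 := L_mem_restrictSupport F hF hd s (Polynomial.X ^ (n s))
    have h2 := Submodule.mul_mem_mul h1 ih
    rw [← restrictSupport_add] at h2
    refine restrictSupport_mono A ?_ h2
    rintro _ ⟨a, ⟨j, hj, rfl⟩, b, ⟨hb1, hb2⟩, rfl⟩
    have hbs : b s = 0 := by
      by_contra hne
      exact hs (hb2 (Finsupp.mem_support_iff.mpr hne))
    refine ⟨fun t => ?_, ?_⟩
    · by_cases hts : t = s
      · subst hts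
        simp only [Finsupp.add_apply, Finsupp.single_eq_same, hbs, add_zero]
        exact hj
      · simp only [Finsupp.add_apply]
        rw [Finsupp.single_apply, if_neg (Ne.symm hts), zero_add]
        exact hb1 t
    · intro t ht
      rw [Finset.mem_coe, Finsupp.mem_support_iff, Finsupp.add_apply] at ht
      rw [Finset.coe_insert, Set.mem_insert_iff]
      by_cases hts : t = s
      · exact Or.inl hts
      · right
        rw [Finsupp.single_apply, if_neg (Ne.symm hts), zero_add] at ht
        exact hb2 (Finsupp.mem_support_iff.mpr ht)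

theorem rhoMon_mem (e : σ →₀ ℕ) : rhoMon F e ∈ restrictSupport A (redSet F) := by
  rw [rhoMon_eq_prod F hF hd e e.support (le_refl _)]
  exact restrictSupport_mono A (fun _ h => h.1) (prod_L_mem F hF hd (fun s => e s) e.support)

theorem rho_mem (f : MvPolynomial σ A) : rho F f ∈ restrictSupport A (redSet F) := by
  induction f using MvPolynomial.induction_on' with
  | monomial e c =>
    rw [rho_monomial]
    exact Submodule.smul_mem _ _ (rhoMon_mem F hF hd e)
  | add p q hp hq => rw [map_add]; exact Submodule.add_mem _ hp hq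

omit hd in
theorem rhoMon_of_mem {e : σ →₀ ℕ} (he : e ∈ redSet F) : rhoMon F e = monomial e 1 := by
  rw [monomial_eq, C_1, one_mul, rhoMon, Finsupp.prod, Finsupp.prod]
  exact Finset.prod_congr rfl (fun s _ => L_X_pow_of_lt F hF s (he s))

omit hd in
theorem rho_of_mem {f : MvPolynomial σ A} (hf : f ∈ restrictSupport A (redSet F)) :
    rho F f = f := by
  rw [as_sum f, map_sum]
  refine Finset.sum_congr rfl (fun e he => ?_)
  have : e ∈ redSet F := ((mem_restrictSupport_iff A).mp hf) he
  rw [rho_monomial, rhoMon_of_mem F hF this, MvPolynomial.smul_monomial, smul_eq_mul, mul_one]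

/-- The reduced polynomials map bijectively onto the quotient. -/
noncomputable def redEquiv :
    restrictSupport A (redSet F) ≃ₗ[A] (MvPolynomial σ A ⧸ relI F) :=
  LinearEquiv.ofBijective
    (((Ideal.Quotient.mkₐ A (relI F)).toLinearMap) ∘ₗ (restrictSupport A (redSet F)).subtype)
    ⟨by
      rw [← LinearMap.ker_eq_bot, LinearMap.ker_eq_bot']
      rintro ⟨m, hm⟩ h0
      have h1 : m ∈ relI F := Ideal.Quotient.eq_zero_iff_mem.mp h0
      have h2 := rho_eq_zero_of_mem F hF hd h1
      rw [rho_of_mem F hF hm] at h2
      exact Subtype.ext h2,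
    by
      intro y
      obtain ⟨f, rfl⟩ := Ideal.Quotient.mk_surjective y
      exact ⟨⟨rho F f, rho_mem F hF hd f⟩, mk_rho F f⟩⟩

theorem free_quotient : Module.Free A (MvPolynomial σ A ⧸ relI F) :=
  have : Module.Free A (restrictSupport A (redSet F)) :=
    Module.Free.of_basis (basisRestrictSupport A (redSet F))
  Module.Free.of_equiv (redEquiv F hF hd)

end

/-- Flatness of the quotient, without the nontriviality assumption. -/
theorem flat_quotient (hF : ∀ s, (F s).Monic) (hd : ∀ s, 0 < (F s).natDegree) :
    Module.Flat A (MvPolynomial σ A ⧸ relI F) := by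
  rcases subsingleton_or_nontrivial A with h | h
  · have : Subsingleton (MvPolynomial σ A ⧸ relI F) := by
      have : Subsingleton (MvPolynomial σ A) := inferInstance
      infer_instance
    infer_instance
  · have := free_quotient F hF hd
    infer_instance

end Groth.Agent.Lib.MonicRelFree
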