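import Groth.Agent.Lib.HenselizationConstr
import Groth.Agent.Lib.MonicRelFree
import Mathlib.RingTheory.Flat.Localization
import Mathlib.RingTheory.Flat.EquationalCriterion
import Mathlib.RingTheory.Flat.FaithfullyFlat.Algebra
import Mathlib.RingTheory.RingHom.Flat
import Mathlib.Data.Finset.Order

/-!
# Flatness of the henselization (helper22)

* `flat_of_directed_system`: a ring which is a directed colimit (in the elementwise sense) of flat
  `R`-algebras is flat over `R`.
* `flat_step : Module.Flat A (Step A)`.
* `flat_Hzn : Module.Flat R (Hzn R)`, `faithfullyFlat_Hzn`.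
* `faithfullyFlat_of_isHenselization`: every henselization of `R` is faithfully flat over `R`.
-/

namespace Groth.Agent.Lib.HenselizationFlat

open Polynomial IsLocalRing Groth.Agent.Lib.HenselStep Groth.Agent.Lib.HenselizationConstr

universe u

/-- A ring map `u : R → S` such that `S` is the directed union/colimit (elementwise) of flat
`R`-algebras `Sj j` is flat. -/
theorem flat_of_directed_system {ι : Type*} [Preorder ι] [IsDirectedOrder ι] [Nonempty ι]
    {R S : Type*} [CommRing R] [CommRing S] (u : R →+* S)
    (Sj : ι → Type*) [∀ j, CommRing (Sj j)]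
    (uj : ∀ j, R →+* Sj j) (huj : ∀ j, (uj j).Flat)
    (ψ : ∀ j, Sj j →+* S)
    (hsq : ∀ j, (ψ j).comp (uj j) = u)
    (μ : ∀ i j : ι, i ≤ j → Sj i →+* Sj j)
    (hμ : ∀ (i j : ι) (h : i ≤ j), (ψ j).comp (μ i j h) = ψ i)
    (hμu : ∀ (i j : ι) (h : i ≤ j), (μ i j h).comp (uj i) = uj j)
    (hS : ∀ s : S, ∃ j x, ψ j x = s)
    (hS0 : ∀ j (x : Sj j), ψ j x = 0 → ∃ (k : ι) (h : j ≤ k), μ j k h x = 0) :
    u.Flat := by
  classical
  let := u.toAlgebra
  show Module.Flat R S
  refine Module.Flat.of_forall_isTrivialRelation ?_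
  intro l f x h
  choose jx x0 hx0 using fun i => hS (x i)
  obtain ⟨j, hj⟩ := Finset.exists_le (Finset.univ.image jx)
  have ax : ∀ i, jx i ≤ j := fun i => hj _ (Finset.mem_image_of_mem _ (Finset.mem_univ i))
  let x1 : Fin l → Sj j := fun i => μ (jx i) j (ax i) (x0 i)
  have hx1 : ∀ i, ψ j (x1 i) = x i := fun i => by
    rw [← hx0 i]; exact RingHom.congr_fun (hμ (jx i) j (ax i)) (x0 i)
  have hs : ψ j (∑ i, uj j (f i) * x1 i) = 0 := by
    rw [map_sum, ← h]
    refine Finset.sum_congr rfl (fun i _ => ?_)
    rw [map_mul, hx1, Algebra.smul_def]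
    congr 1
    exact RingHom.congr_fun (hsq j) (f i)
  obtain ⟨k, hjk, hg⟩ := hS0 j _ hs
  let x2 : Fin l → Sj k := fun i => μ j k hjk (x1 i)
  have hx2 : ∀ i, ψ k (x2 i) = x i := fun i => by
    rw [← hx1 i]; exact RingHom.congr_fun (hμ j k hjk) (x1 i)
  let := (uj k).toAlgebra
  have hflat : Module.Flat R (Sj k) := huj k
  have hrel : ∑ i, f i • x2 i = 0 := by
    rw [← hg, map_sum]
    refine Finset.sum_congr rfl (fun i _ => ?_)
    rw [map_mul, Algebra.smul_def]
    congr 1
    exact (RingHom.congr_fun (hμu j k hjk) (f i)).symm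
  obtain ⟨n, a', y', hxa, hfa⟩ := Module.Flat.isTrivialRelation_of_sum_smul_eq_zero hrel
  refine ⟨n, a', fun m => ψ k (y' m), fun i => ?_, hfa⟩
  rw [← hx2 i, hxa i, map_sum]
  refine Finset.sum_congr rfl (fun m _ => ?_)
  rw [Algebra.smul_def, Algebra.smul_def, map_mul]
  congr 1
  exact RingHom.congr_fun (hsq k) (a' i m)

section Step

variable (A : Type u) [CommRing A] [IsLocalRing A]

theorem natDegree_pos (p : HData A) : 0 < p.poly.natDegree := by
  by_contra h
  have h0 : p.poly.natDegree = 0 := by omega
  have h1 : p.poly = 1 := p.monic.natDegree_eq_zero.mp h0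
  have h2 := p.eval_mem
  rw [h1, eval_one] at h2
  exact (IsLocalRing.maximalIdeal.isMaximal A).ne_top ((Ideal.eq_top_iff_one _).mpr h2)

theorem relIdeal_eq : relIdeal A = MonicRelFree.relI (fun p : HData A => p.poly) := rfl

instance flat_stepPre : Module.Flat A (StepPre A) :=
  MonicRelFree.flat_quotient (fun p : HData A => p.poly) (fun p => p.monic) (natDegree_pos A)

instance flat_step : Module.Flat A (Step A) :=
  have : Module.Flat (StepPre A) (Step A) := IsLocalization.flat (Step A) (stepPrime A).primeCompl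
  Module.Flat.trans A (StepPre A) (Step A)

instance faithfullyFlat_step : Module.FaithfullyFlat A (Step A) :=
  Module.FaithfullyFlat.of_flat_of_isLocalHom

end Step

section Tower

variable (R : Type u) [CommRing R] [IsLocalRing R]

theorem flat_next (n : ℕ) : (next R n).Flat :=
  (RingHom.flat_algebraMap_iff (R := G R n) (S := Step (G R n))).mpr (flat_step (G R n))

theorem flat_trans (m n : ℕ) (h : m ≤ n) : (trans R m n h).Flat := by
  induction n, h using Nat.le_induction with
  | base => rw [trans_self]; exact RingHom.Flat.id _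
  | succ n h ih =>
    rw [trans_succ R m n h]
    exact RingHom.Flat.comp ih (flat_next R n)

theorem flat_ofStage_zero : (ofStage R 0).Flat := by
  refine flat_of_directed_system (ι := ℕ) (ofStage R 0) (G R)
    (fun j => trans R 0 j (Nat.zero_le j)) (fun j => flat_trans R 0 j _)
    (fun j => ofStage R j) (fun j => ofStage_comp_trans R 0 j _)
    (fun i j h => trans R i j h) (fun i j h => ofStage_comp_trans R i j h)
    (fun i j h => RingHom.ext fun x => trans_trans R 0 i j (Nat.zero_le i) h x)
    (fun s => exists_ofStage R s) (fun j x hx => ofStage_eq_zero R hx)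

instance flat_Hzn : Module.Flat R (Hzn R) :=
  flat_ofStage_zero R

instance faithfullyFlat_Hzn : Module.FaithfullyFlat R (Hzn R) :=
  Module.FaithfullyFlat.of_flat_of_isLocalHom

/-- Every henselization of `R` is faithfully flat over `R`. -/
theorem faithfullyFlat_of_isHenselization (S : Type u) [CommRing S] [IsLocalRing S] [Algebra R S]
    [IsLocalHom (algebraMap R S)] [Hensel.IsHenselization R S] : Module.FaithfullyFlat R S :=
  Module.FaithfullyFlat.of_linearEquiv (R := R) (M := Hzn R) (N := S)
    (equivHzn R S).toLinearEquiv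

end Tower

end Groth.Agent.Lib.HenselizationFlat
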