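import Mathlib
import Groth.Agent.Lib.FlatCompl33
import Groth.Agent.Lib.EquidimLoc33
import Groth.Agent.Lib.H56FormalCat3
import Groth.Agent.Lib.CMAscent33
import Groth.Agent.S2629
import Groth.Agent.S2635

/-!
# Formal equidimensionality of localizations and of local rings of polynomial algebras (helper33)

Matsumura 31.6 (Ratliff): if `A` is a formally equidimensional Noetherian local ring then
* `isFormallyEquidim_localization` : `A_q` is formally equidimensional for every prime `q`;
* `isFormallyEquidim_localization_mvPolynomial` : `A[X_1..X_n]_N` is formally equidimensional for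
  every prime `N`.
-/

set_option autoImplicit false
set_option linter.style.haveILetI false
set_option linter.unusedSectionVars false
universe u

namespace Groth.Agent.Lib.FEPoly33

open IsLocalRing Groth.Agent.Lib

/-- `Localization.localRingHom` of a surjective map is surjective. -/
theorem localRingHom_surjective {R P : Type*} [CommRing R] [CommRing P] (I : Ideal R) [I.IsPrime]
    (J : Ideal P) [J.IsPrime] (f : R →+* P) (hIJ : I = J.comap f) (hf : Function.Surjective f) :
    Function.Surjective (Localization.localRingHom I J f hIJ) := by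
  intro y
  obtain ⟨p, s, rfl⟩ := IsLocalization.exists_mk'_eq J.primeCompl y
  obtain ⟨x, rfl⟩ := hf p
  obtain ⟨t, ht⟩ := hf s.1
  have htI : t ∈ I.primeCompl := by
    intro h
    rw [hIJ] at h
    have h' : f t ∈ J := h
    rw [ht] at h'
    exact s.2 h'
  refine ⟨IsLocalization.mk' _ x ⟨t, htI⟩, ?_⟩
  rw [Localization.localRingHom_mk']
  congr 1
  exact Subtype.ext ht

section Descent

variable {R S : Type u} [CommRing R] [CommRing S] [IsNoetherianRing R] [IsNoetherianRing S]
  [Algebra R S] [Module.Flat R S]

/-- Formal equidimensionality descends from `S_P` to `R_Q` for `R → S` flat, `P` over `Q`. -/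
theorem isFormallyEquidim_localization_of_flat (Q : Ideal R) [Q.IsPrime] (P : Ideal S) [P.IsPrime]
    (hQP : Q = P.comap (algebraMap R S))
    (h : EGA4.IsFormallyEquidim (Localization.AtPrime P)) :
    EGA4.IsFormallyEquidim (Localization.AtPrime Q) := by
  letI : Algebra (Localization.AtPrime Q) (Localization.AtPrime P) :=
    (Localization.localRingHom Q P (algebraMap R S) hQP).toAlgebra
  haveI : Module.Flat (Localization.AtPrime Q) (Localization.AtPrime P) :=
    RingHom.Flat.localRingHom (RingHom.flat_algebraMap_iff.mpr inferInstance) P Q hQP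
  haveI : IsLocalHom (algebraMap (Localization.AtPrime Q) (Localization.AtPrime P)) :=
    Localization.isLocalHom_localRingHom Q P _ hQP
  haveI : IsNoetherianRing (Localization.AtPrime Q) :=
    IsLocalization.isNoetherianRing Q.primeCompl _ inferInstance
  haveI : IsNoetherianRing (Localization.AtPrime P) :=
    IsLocalization.isNoetherianRing P.primeCompl _ inferInstance
  exact FlatCompl33.isFormallyEquidim_of_flat h

end Descent

section Abstract

variable {S T : Type u} [CommRing S] [CommRing T] [IsNoetherianRing S] [IsLocalRing S]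
  [IsNoetherianRing T] [Algebra S T] [Module.Flat S T]

/-- `S` equidimensional catenary Noetherian local, `S → T` flat with `𝔮T` prime for all primes `𝔮`
of `S`: every localization of `T` at a prime is equidimensional. -/
theorem isEquidim_localization_of_primeMap (hE : EGA4.IsEquidim S) (hC : CAlg.IsCatenary S)
    (hprime : ∀ 𝔮 : Ideal S, 𝔮.IsPrime → (𝔮.map (algebraMap S T)).IsPrime)
    (N' : Ideal T) [N'.IsPrime] : EGA4.IsEquidim (Localization.AtPrime N') := by
  obtain ⟨P, hPdef⟩ : ∃ P : Ideal S, P = N'.comap (algebraMap S T) := ⟨_, rfl⟩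
  haveI : P.IsPrime := by rw [hPdef]; exact Ideal.comap_isPrime _ _
  have hEL : EGA4.IsEquidim (Localization.AtPrime P) :=
    EquidimLoc33.isEquidim_localization hE hC P _
  letI : Algebra (Localization.AtPrime P) (Localization.AtPrime N') :=
    (Localization.localRingHom P N' (algebraMap S T) hPdef).toAlgebra
  haveI hfl : Module.Flat (Localization.AtPrime P) (Localization.AtPrime N') :=
    RingHom.Flat.localRingHom (RingHom.flat_algebraMap_iff.mpr inferInstance) N' P hPdef
  haveI hloc : IsLocalHom (algebraMap (Localization.AtPrime P) (Localization.AtPrime N')) :=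
    Localization.isLocalHom_localRingHom P N' _ hPdef
  haveI : IsNoetherianRing (Localization.AtPrime P) :=
    IsLocalization.isNoetherianRing P.primeCompl _ inferInstance
  haveI : IsNoetherianRing (Localization.AtPrime N') :=
    IsLocalization.isNoetherianRing N'.primeCompl _ inferInstance
  have hcomp : ∀ s : S, algebraMap (Localization.AtPrime P) (Localization.AtPrime N')
      (algebraMap S (Localization.AtPrime P) s) =
      algebraMap T (Localization.AtPrime N') (algebraMap S T s) :=
    fun s => Localization.localRingHom_to_map P N' _ hPdef s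
  intro 𝔓 h𝔓
  haveI h𝔓prime : 𝔓.IsPrime := h𝔓.1.1
  have h𝔮 : 𝔓.under (Localization.AtPrime P) ∈ minimalPrimes (Localization.AtPrime P) :=
    H56FormalCat.under_mem_minimalPrimes_of_flat 𝔓 h𝔓
  obtain ⟨𝔮, h𝔮def⟩ : ∃ 𝔮 : Ideal (Localization.AtPrime P),
    𝔮 = 𝔓.under (Localization.AtPrime P) := ⟨_, rfl⟩
  rw [← h𝔮def] at h𝔮
  haveI h𝔮prime : 𝔮.IsPrime := h𝔮.1.1
  have hext : (𝔮.map (algebraMap (Localization.AtPrime P) (Localization.AtPrime N'))).IsPrime := by
    obtain ⟨𝔮₀, h𝔮₀⟩ : ∃ 𝔮₀ : Ideal S, 𝔮₀ = 𝔮.comap (algebraMap S (Localization.AtPrime P)) :=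
      ⟨_, rfl⟩
    haveI : 𝔮₀.IsPrime := by rw [h𝔮₀]; exact Ideal.comap_isPrime _ _
    have h1 : 𝔮 = 𝔮₀.map (algebraMap S (Localization.AtPrime P)) := by
      rw [h𝔮₀]
      exact (IsLocalization.map_under P.primeCompl (Localization.AtPrime P) 𝔮).symm
    have h2 : 𝔮.map (algebraMap (Localization.AtPrime P) (Localization.AtPrime N')) =
        (𝔮₀.map (algebraMap S T)).map (algebraMap T (Localization.AtPrime N')) := by
      rw [h1, Ideal.map_map, Ideal.map_map]
      congr 1
      ext s
      exact hcomp s
    rw [h2]
    have hp0 := hprime 𝔮₀ inferInstance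
    refine IsLocalization.isPrime_of_isPrime_disjoint N'.primeCompl (Localization.AtPrime N') _
      hp0 ?_
    have hle : 𝔮₀.map (algebraMap S T) ≤ N' := by
      rw [Ideal.map_le_iff_le_comap, ← hPdef]
      intro s hs
      rw [h𝔮₀, Ideal.mem_comap] at hs
      have hmem : algebraMap S (Localization.AtPrime P) s ∈
          maximalIdeal (Localization.AtPrime P) := le_maximalIdeal h𝔮prime.ne_top hs
      rwa [IsLocalization.AtPrime.to_map_mem_maximal_iff (Localization.AtPrime P) P] at hmem
    rw [Set.disjoint_left]
    intro x hx hx'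
    exact hx (hle hx')
  have heq : 𝔮.map (algebraMap (Localization.AtPrime P) (Localization.AtPrime N')) = 𝔓 := by
    have hle : 𝔮.map (algebraMap (Localization.AtPrime P) (Localization.AtPrime N')) ≤ 𝔓 := by
      rw [h𝔮def]
      exact Ideal.map_comap_le
    exact le_antisymm hle (h𝔓.2 ⟨hext, bot_le⟩ hle)
  rw [← heq, FlatEquidim33.ringKrullDim_quotient_map 𝔮 h𝔮prime.ne_top, hEL 𝔮 h𝔮,
    ← FlatEquidim33.ringKrullDim_eq_add]

/-- If moreover `T` is a quotient of a Cohen–Macaulay ring, every localization of `T` at a prime
is formally equidimensional. -/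
theorem isFormallyEquidim_localization_of_primeMap (hE : EGA4.IsEquidim S)
    (hC : CAlg.IsCatenary S)
    (hprime : ∀ 𝔮 : Ideal S, 𝔮.IsPrime → (𝔮.map (algebraMap S T)).IsPrime)
    (hCM : ∃ (R₁ : Type u) (_ : CommRing R₁) (_ : LocCoh.IsCohenMacaulayRing R₁) (f : R₁ →+* T),
      Function.Surjective f)
    (N' : Ideal T) [N'.IsPrime] : EGA4.IsFormallyEquidim (Localization.AtPrime N') := by
  obtain ⟨R₁, _, hR₁, f, hf⟩ := hCM
  obtain ⟨N'', hN''⟩ : ∃ N'' : Ideal R₁, N'' = N'.comap f := ⟨_, rfl⟩
  haveI : N''.IsPrime := by rw [hN'']; exact Ideal.comap_isPrime _ _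
  have hg : Function.Surjective (Localization.localRingHom N'' N' f hN'') :=
    localRingHom_surjective N'' N' f hN'' hf
  letI : Algebra (Localization.AtPrime N'') (Localization.AtPrime N') :=
    (Localization.localRingHom N'' N' f hN'').toAlgebra
  haveI : LocCoh.IsCohenMacaulayLocalRing (Localization.AtPrime N'') :=
    hR₁.isCohenMacaulayLocalRing_localization N''
  haveI : IsNoetherianRing (Localization.AtPrime N') :=
    IsLocalization.isNoetherianRing N'.primeCompl _ inferInstance
  have hFC : EGA4.IsFormallyCatenary (Localization.AtPrime N') :=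
    Groth.Agent.S2635.result (Localization.AtPrime N'') (Localization.AtPrime N') hg
  rw [Groth.Agent.S2629.result]
  exact ⟨isEquidim_localization_of_primeMap hE hC hprime N', fun p _ _ => hFC p⟩

end Abstract

section Cohen

/-- A complete Noetherian local ring is a quotient of a Cohen–Macaulay (indeed regular local)
ring. -/
theorem exists_CM_surjective (R : Type u) [CommRing R] [IsLocalRing R] [IsNoetherianRing R]
    [IsAdicComplete (maximalIdeal R) R] :
    ∃ (R₁ : Type u) (_ : CommRing R₁) (_ : LocCoh.IsCohenMacaulayRing R₁) (f : R₁ →+* R),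
      Function.Surjective f := by
  obtain ⟨Λ, _, n, f, hΛ, hf⟩ := Groth.Agent.S0580.result R
    ((isNoetherianRing_iff_ideal_fg R).mp inferInstance _)
  haveI : IsRegularLocalRing Λ := by
    rcases hΛ with h | h
    · exact ComplUC33.isRegularLocalRing_of_isField Λ h
    · exact ComplUC33.isRegularLocalRing_of_isCohenRing Λ h
  haveI := PSRegular33.isRegularLocalRing_mvPowerSeries_fin Λ n
  haveI := H8CM.isCMLocalRing_of_isRegularLocalRing (R := MvPowerSeries (Fin n) Λ)
  exact ⟨MvPowerSeries (Fin n) Λ, inferInstance, H8CM.isCMRing_of_isCMLocalRing, f, hf⟩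

end Cohen

section Concrete

variable (A : Type u) [CommRing A] [IsNoetherianRing A] [IsLocalRing A]

/-- **Localizations of formally equidimensional local rings are formally equidimensional.** -/
theorem isFormallyEquidim_localization (hA : EGA4.IsFormallyEquidim A) (q : Ideal A) [q.IsPrime] :
    EGA4.IsFormallyEquidim (Localization.AtPrime q) := by
  haveI : Module.Flat A (AdicCompletion (maximalIdeal A) A) :=
    AdicCompletion.flat_of_isNoetherian (maximalIdeal A)
  haveI : Module.FaithfullyFlat A (AdicCompletion (maximalIdeal A) A) :=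
    Module.FaithfullyFlat.of_flat_of_isLocalHom
  obtain ⟨Q, hQprime, hQ⟩ := Ideal.exists_isPrime_liesOver_of_faithfullyFlat
    (B := AdicCompletion (maximalIdeal A) A) q
  refine isFormallyEquidim_localization_of_flat q Q hQ.over ?_
  refine isFormallyEquidim_localization_of_primeMap (S := AdicCompletion (maximalIdeal A) A)
    (T := AdicCompletion (maximalIdeal A) A) hA (ComplUC33.isCatenary_adicCompletion A) ?_
    (exists_CM_surjective _) Q
  intro 𝔮 h𝔮
  rw [Algebra.algebraMap_self, Ideal.map_id]
  exact h𝔮

end Concrete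

end Groth.Agent.Lib.FEPoly33
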