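import Mathlib
import Groth.Agent.Lib.FEPoly33

/-!
# Local rings of polynomial algebras over formally equidimensional rings (helper33)

`isFormallyEquidim_localization_mvPolynomial` : if `A` is a formally equidimensional Noetherian
local ring, then `A[X_1..X_n]_N` is formally equidimensional for every prime `N`.
-/

set_option autoImplicit false
set_option linter.style.haveILetI false
set_option linter.unusedSectionVars false
universe u

namespace Groth.Agent.Lib.FEMvPoly33

open IsLocalRing Groth.Agent.Lib

attribute [local instance] MvPolynomial.algebraMvPolynomial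

theorem isPrime_map_C {R : Type*} [CommRing R] (σ : Type*) (𝔮 : Ideal R) [𝔮.IsPrime] :
    (𝔮.map (MvPolynomial.C : R →+* MvPolynomial σ R)).IsPrime := by
  rw [← Ideal.Quotient.isDomain_iff_prime]
  exact (MvPolynomial.quotientEquivQuotientMvPolynomial (σ := σ) 𝔮).symm.toMulEquiv.isDomain
    (MvPolynomial σ (R ⧸ 𝔮))

variable (A : Type u) [CommRing A] [IsNoetherianRing A] [IsLocalRing A] (σ : Type u) [Finite σ]

/-- **Local rings of polynomial algebras over a formally equidimensional local ring are formally
equidimensional.** -/
theorem isFormallyEquidim_localization_mvPolynomial (hA : EGA4.IsFormallyEquidim A)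
    (N : Ideal (MvPolynomial σ A)) [N.IsPrime] :
    EGA4.IsFormallyEquidim (Localization.AtPrime N) := by
  haveI : Module.Flat A (AdicCompletion (maximalIdeal A) A) :=
    AdicCompletion.flat_of_isNoetherian (maximalIdeal A)
  haveI : Module.FaithfullyFlat A (AdicCompletion (maximalIdeal A) A) :=
    Module.FaithfullyFlat.of_flat_of_isLocalHom
  have hpo : Algebra.IsPushout A (MvPolynomial σ A) (AdicCompletion (maximalIdeal A) A)
      (MvPolynomial σ (AdicCompletion (maximalIdeal A) A)) := inferInstance
  haveI : Module.FaithfullyFlat (MvPolynomial σ A)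
      (MvPolynomial σ (AdicCompletion (maximalIdeal A) A)) :=
    Module.FaithfullyFlat.of_linearEquiv _ _ hpo.out.equiv.symm
  haveI : IsNoetherianRing (MvPolynomial σ A) := MvPolynomial.isNoetherianRing
  haveI : IsNoetherianRing (MvPolynomial σ (AdicCompletion (maximalIdeal A) A)) :=
    MvPolynomial.isNoetherianRing
  obtain ⟨N', hN'prime, hN'⟩ := Ideal.exists_isPrime_liesOver_of_faithfullyFlat
    (B := MvPolynomial σ (AdicCompletion (maximalIdeal A) A)) N
  refine FEPoly33.isFormallyEquidim_localization_of_flat N N' hN'.over ?_
  refine FEPoly33.isFormallyEquidim_localization_of_primeMap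
    (S := AdicCompletion (maximalIdeal A) A)
    (T := MvPolynomial σ (AdicCompletion (maximalIdeal A) A)) hA
    (ComplUC33.isCatenary_adicCompletion A) ?_ ?_ N'
  · intro 𝔮 h𝔮
    rw [MvPolynomial.algebraMap_eq]
    exact isPrime_map_C σ 𝔮
  · obtain ⟨R₁, _, hR₁, f, hf⟩ :=
      FEPoly33.exists_CM_surjective (AdicCompletion (maximalIdeal A) A)
    exact ⟨MvPolynomial σ R₁, inferInstance, CMAscent33.isCohenMacaulayRing_mvPolynomial R₁ σ,
      MvPolynomial.map f, MvPolynomial.map_surjective f hf⟩

end Groth.Agent.Lib.FEMvPoly33
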