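import Mathlib
import Groth.Agent.Lib.FEMvPoly33
import Groth.Agent.Lib.Catenary
import Groth.Agent.Lib.OrdCat
import Groth.Agent.S2632

/-!
# Formally catenary local rings (helper33)

* `isFormallyEquidim_of_ringEquiv` : formal equidimensionality is invariant under ring isomorphisms;
* `exists_surjective_localization_mvPolynomial` : a local ring essentially of finite type over `R`
  is a quotient of a local ring of a polynomial algebra `R[X_1..X_n]_N`;
* `isFormallyCatenary_of_essFiniteType` : a Noetherian local ring essentially of finite type over a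
  formally catenary Noetherian local ring is formally catenary (Ratliff; EGA IV 7.1.8-7.1.11);
* `isCatenary_of_quotient_minimalPrimes` : a ring is catenary if its quotients by minimal primes are.
-/

set_option autoImplicit false
set_option linter.style.haveILetI false
set_option linter.unusedSectionVars false
universe u v

namespace Groth.Agent.Lib.FECat33

open IsLocalRing Groth.Agent.Lib

section Order

open OrdCat

variable {α : Type u} {β : Type u} [PartialOrder β]

theorem mem_range_of_head_le {α : Type u} [PartialOrder α] (e : α ↪o β)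
    (hup : ∀ (a : α) (c : β), e a ≤ c → c ∈ Set.range e) (s : LTSeries β)
    (hhead : s.head ∈ Set.range e) (i : Fin (s.length + 1)) : s i ∈ Set.range e := by
  obtain ⟨a, ha⟩ := hhead
  exact hup a (s i) (ha ▸ s.monotone (Fin.zero_le i))

/-- The catenary condition is local with respect to order embeddings onto upper sets. -/
theorem IsCat.of_local_upper
    (h : ∀ p : β, ∃ (α : Type u) (_ : PartialOrder α) (e : α ↪o β),
      (∀ (a : α) (c : β), e a ≤ c → c ∈ Set.range e) ∧ p ∈ Set.range e ∧ IsCat α) :
    IsCat β := by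
  refine ⟨fun p q hpq => ?_, fun s t hhead hlast hs ht => ?_⟩
  · obtain ⟨α, _, e, hup, ⟨p', rfl⟩, hcat⟩ := h p
    obtain ⟨q', rfl⟩ := hup p' q hpq
    obtain ⟨n, hn⟩ := hcat.1 p' q' (e.le_iff_le.1 hpq)
    refine ⟨n, fun s hsp hsq => ?_⟩
    have hmem : ∀ i, s i ∈ Set.range e :=
      mem_range_of_head_le e hup s (hsp ▸ ⟨p', rfl⟩)
    have := hn (liftSeries e s hmem)
      (e.injective (by rw [map_liftSeries_head, hsp]))
      (e.injective (by rw [map_liftSeries_last, hsq]))
    simpa [liftSeries_length] using this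
  · obtain ⟨α, _, e, hup, hp, hcat⟩ := h s.head
    have hmems : ∀ i, s i ∈ Set.range e := mem_range_of_head_le e hup s hp
    have hmemt : ∀ i, t i ∈ Set.range e := mem_range_of_head_le e hup t (hhead ▸ hp)
    have := hcat.2 (liftSeries e s hmems) (liftSeries e t hmemt)
      (e.injective (by rw [map_liftSeries_head, map_liftSeries_head, hhead]))
      (e.injective (by rw [map_liftSeries_last, map_liftSeries_last, hlast]))
      (fun i => covBy_of_map e (by
        rw [map_liftSeries_apply, map_liftSeries_apply]; exact hs i))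
      (fun i => covBy_of_map e (by
        rw [map_liftSeries_apply, map_liftSeries_apply]; exact ht i))
    simpa [liftSeries_length] using this

end Order

/-- A ring is catenary as soon as its quotients by its minimal primes are. -/
theorem isCatenary_of_quotient_minimalPrimes {R : Type u} [CommRing R]
    (h : ∀ 𝔓 ∈ minimalPrimes R, CAlg.IsCatenary (R ⧸ 𝔓)) : CAlg.IsCatenary R := by
  apply IsCat.of_local_upper
  intro p
  obtain ⟨𝔓, h𝔓, hle⟩ := Ideal.exists_minimalPrimes_le (I := ⊥) (J := p.asIdeal) bot_le
  refine ⟨PrimeSpectrum (R ⧸ 𝔓), inferInstance,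
    Catenary.surjEmb (Ideal.Quotient.mk 𝔓) Ideal.Quotient.mk_surjective,
    Catenary.surjEmb_upper _ _, ?_, h 𝔓 h𝔓⟩
  have hr : Set.range (Catenary.surjEmb (Ideal.Quotient.mk 𝔓) Ideal.Quotient.mk_surjective) =
      PrimeSpectrum.zeroLocus (RingHom.ker (Ideal.Quotient.mk 𝔓)) :=
    _root_.range_comap_of_surjective _ _ Ideal.Quotient.mk_surjective
  rw [hr, PrimeSpectrum.mem_zeroLocus, Ideal.mk_ker]
  exact hle

section Equiv

/-- Formal equidimensionality is invariant under ring isomorphisms. -/
theorem isFormallyEquidim_of_ringEquiv {R R' : Type u} [CommRing R] [CommRing R']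
    [IsNoetherianRing R] [IsNoetherianRing R'] [IsLocalRing R] [IsLocalRing R'] (e : R ≃+* R')
    (h : EGA4.IsFormallyEquidim R') : EGA4.IsFormallyEquidim R := by
  letI : Algebra R R' := e.toRingHom.toAlgebra
  haveI : Module.Flat R R' := RingHom.Flat.of_bijective (f := e.toRingHom) e.bijective
  haveI : IsLocalHom (algebraMap R R') := ⟨fun a ha => by
    have h' : IsUnit (e a) := ha
    exact (MulEquiv.isUnit_map (f := e)).mp h'⟩
  exact FlatCompl33.isFormallyEquidim_of_flat h

/-- A domain is equidimensional. -/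
theorem isEquidim_of_isDomain (R : Type u) [CommRing R] [IsDomain R] : EGA4.IsEquidim R := by
  intro p hp
  have : p = ⊥ := by
    have h1 : (⊥ : Ideal R) ∈ minimalPrimes R := by
      refine ⟨⟨Ideal.isPrime_bot, le_rfl⟩, fun q _ _ => bot_le⟩
    exact le_antisymm (hp.2 ⟨Ideal.isPrime_bot, bot_le⟩ bot_le) bot_le
  rw [this]
  exact ringKrullDim_eq_of_ringEquiv (RingEquiv.quotientBot R)

end Equiv

section EFT

/-- A local ring essentially of finite type over `R` is a quotient of the localization of a
polynomial ring over `R` at a prime. -/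
theorem exists_surjective_localization_mvPolynomial (R B : Type u) [CommRing R] [CommRing B]
    [IsLocalRing B] [Algebra R B] [Algebra.EssFiniteType R B] :
    ∃ (σ : Type u) (_ : Finite σ) (N : Ideal (MvPolynomial σ R)) (_ : N.IsPrime)
      (g : Localization.AtPrime N →+* B), Function.Surjective g := by
  obtain ⟨s, hs⟩ := (Algebra.essFiniteType_iff (R := R) (S := B)).mp inferInstance
  have hrange : (MvPolynomial.aeval (R := R) (Subtype.val : ↥(s : Set B) → B)).range =
      Algebra.adjoin R (s : Set B) := (Algebra.adjoin_eq_range R (s : Set B)).symm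
  haveI : Finite ↥(s : Set B) := Set.finite_coe_iff.mpr s.finite_toSet
  obtain ⟨N, hN⟩ : ∃ N : Ideal (MvPolynomial ↥(s : Set B) R), N = (maximalIdeal B).comap
    (MvPolynomial.aeval (R := R) (Subtype.val : ↥(s : Set B) → B)).toRingHom := ⟨_, rfl⟩
  haveI : N.IsPrime := by rw [hN]; exact Ideal.comap_isPrime _ _
  have hmemN : ∀ x : MvPolynomial ↥(s : Set B) R, x ∈ N ↔
      (MvPolynomial.aeval (R := R) (Subtype.val : ↥(s : Set B) → B)) x ∈ maximalIdeal B := by
    intro x
    rw [hN]
    rfl
  have hunit : ∀ y : N.primeCompl,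
      IsUnit ((MvPolynomial.aeval (R := R) (Subtype.val : ↥(s : Set B) → B)).toRingHom y) := by
    intro y
    by_contra hnu
    apply y.2
    exact (hmemN _).mpr ((IsLocalRing.mem_maximalIdeal _).mpr hnu)
  refine ⟨↥(s : Set B), inferInstance, N, inferInstance, IsLocalization.lift hunit, ?_⟩
  intro b
  obtain ⟨t, ht, htu, hbt⟩ := hs b
  rw [← hrange] at ht hbt
  obtain ⟨q, rfl⟩ := ht
  obtain ⟨f, hf⟩ := hbt
  have hq : q ∈ N.primeCompl := by
    intro h
    exact (IsLocalRing.mem_maximalIdeal _).mp ((hmemN _).mp h) htu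
  refine ⟨IsLocalization.mk' _ f ⟨q, hq⟩, ?_⟩
  rw [IsLocalization.lift_mk'_spec]
  change (MvPolynomial.aeval (R := R) (Subtype.val : ↥(s : Set B) → B)) f =
    (MvPolynomial.aeval (R := R) (Subtype.val : ↥(s : Set B) → B)) q * b
  rw [mul_comm]
  exact hf

end EFT

section FC

variable (A : Type u) [CommRing A] [IsNoetherianRing A] [IsLocalRing A]

/-- **Ratliff**: a Noetherian local ring essentially of finite type over a formally catenary
Noetherian local ring is formally catenary. -/
theorem isFormallyCatenary_of_essFiniteType (hA : EGA4.IsFormallyCatenary A)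
    (B : Type u) [CommRing B] [IsNoetherianRing B] [IsLocalRing B] [Algebra A B]
    [Algebra.EssFiniteType A B] : EGA4.IsFormallyCatenary B := by
  intro 𝔓 h𝔓
  haveI : (𝔓.under A).IsPrime := inferInstance
  have hFE : EGA4.IsFormallyEquidim (A ⧸ 𝔓.under A) := hA (𝔓.under A)
  haveI : Algebra.EssFiniteType A (B ⧸ 𝔓) := inferInstance
  haveI : Algebra.EssFiniteType (A ⧸ 𝔓.under A) (B ⧸ 𝔓) :=
    Algebra.EssFiniteType.of_comp A (A ⧸ 𝔓.under A) (B ⧸ 𝔓)
  obtain ⟨σ, _, N, _, g, hg⟩ :=
    exists_surjective_localization_mvPolynomial (A ⧸ 𝔓.under A) (B ⧸ 𝔓)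
  have hC : EGA4.IsFormallyEquidim (Localization.AtPrime N) :=
    FEMvPoly33.isFormallyEquidim_localization_mvPolynomial (A ⧸ 𝔓.under A) σ hFE N
  haveI : IsNoetherianRing (MvPolynomial σ (A ⧸ 𝔓.under A)) := MvPolynomial.isNoetherianRing
  haveI : IsNoetherianRing (Localization.AtPrime N) :=
    IsLocalization.isNoetherianRing N.primeCompl _ inferInstance
  let e : (Localization.AtPrime N ⧸ RingHom.ker g) ≃+* (B ⧸ 𝔓) :=
    RingHom.quotientKerEquivOfSurjective hg
  haveI : Nontrivial (Localization.AtPrime N ⧸ RingHom.ker g) := e.toMulEquiv.nontrivial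
  haveI : IsDomain (Localization.AtPrime N ⧸ RingHom.ker g) := e.toMulEquiv.isDomain (B ⧸ 𝔓)
  have h1 : EGA4.IsFormallyEquidim (Localization.AtPrime N ⧸ RingHom.ker g) :=
    ((Groth.Agent.S2632.result (Localization.AtPrime N) hC).2 (RingHom.ker g)).mp
      (isEquidim_of_isDomain _)
  exact isFormallyEquidim_of_ringEquiv e.symm h1

end FC

end Groth.Agent.Lib.FECat33
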