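/-
helper56: the dimension inequality / dimension formula (Stacks 02IJ, Matsumura 15.5/15.6).

For `R ⊆ S` a finite type extension of domains, `R` Noetherian, `q` a prime of `S` over `p`:
`ht q + trdeg_{κ(p)} κ(q) ≤ ht p + trdeg_R S`, with equality if `R` is universally catenary.
-/
import Mathlib

set_option autoImplicit false
universe u

open Polynomial Ideal

namespace Groth.Agent.Lib.H56DimFormula

section Monogenic

/-- Dichotomy for a monogenic algebra over a domain: either it is a polynomial ring (and has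
transcendence degree one) or it is algebraic. -/
theorem trdeg_monogenic (D E : Type u) [CommRing D] [IsDomain D] [CommRing E] [Algebra D E]
    (x : E) (hx : Algebra.adjoin D {x} = ⊤) :
    (Function.Injective (aeval (R := D) x) ∧ Algebra.trdeg D E = 1) ∨
      (IsAlgebraic D x ∧ Algebra.trdeg D E = 0) := by
  by_cases h : Transcendental D x
  · left
    have hinj : Function.Injective (aeval (R := D) x) := transcendental_iff_injective.mp h
    refine ⟨hinj, ?_⟩
    have hsurj : Function.Surjective (aeval (R := D) x) := by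
      rw [← AlgHom.range_eq_top, ← Algebra.adjoin_singleton_eq_range_aeval, hx]
    have e : D[X] ≃ₐ[D] E := AlgEquiv.ofBijective (aeval x) ⟨hinj, hsurj⟩
    rw [← e.trdeg_eq, Polynomial.trdeg_of_isDomain]
  · right
    have halg : IsAlgebraic D x := by
      rwa [Transcendental, not_not] at h
    refine ⟨halg, ?_⟩
    have h1 : (Algebra.adjoin D {x}).IsAlgebraic := Algebra.isAlgebraic_adjoin_singleton_iff.mpr halg
    have : Algebra.IsAlgebraic D E := ⟨fun y => h1 y (hx ▸ Algebra.mem_top)⟩
    exact trdeg_eq_zero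

end Monogenic

section Height

attribute [local instance] Polynomial.algebra Polynomial.isLocalization in
/-- A nonzero prime of `D[X]` contracting to `0` in the domain `D` has height one. -/
theorem height_eq_one_of_comap_C_eq_bot (D : Type u) [CommRing D] [IsDomain D] (𝔮 : Ideal D[X])
    [𝔮.IsPrime] (h0 : 𝔮 ≠ ⊥) (hc : 𝔮.comap C = ⊥) : 𝔮.height = 1 := by
  refine le_antisymm ?_ ?_
  · let K := FractionRing D
    have disj : Disjoint (((nonZeroDivisors D).map C : Submonoid D[X]) : Set D[X]) (𝔮 : Set D[X]) := by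
      refine Set.disjoint_left.mpr fun a ⟨b, hb, hba⟩ ha => ?_
      have : b ∈ 𝔮.comap C := by
        rw [Ideal.mem_comap]
        rw [← hba] at ha
        exact ha
      rw [hc, Ideal.mem_bot] at this
      exact (nonZeroDivisors.ne_zero hb) this
    rw [← IsLocalization.height_map_of_disjoint ((nonZeroDivisors D).map C) (S := K[X]) _ disj]
    have hprime : (𝔮.map (algebraMap D[X] K[X])).IsPrime :=
      IsLocalization.isPrime_of_isPrime_disjoint ((nonZeroDivisors D).map C) _ _ ‹_› disj
    have h1 : ((𝔮.map (algebraMap D[X] K[X])).height : WithBot ℕ∞) ≤ ringKrullDim K[X] :=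
      Ideal.height_le_ringKrullDim_of_ne_top hprime.ne_top
    have h2 : ringKrullDim K[X] ≤ 1 := by
      have : Ring.KrullDimLE 1 K[X] := inferInstance
      exact Ring.krullDimLE_iff.mp this
    have h3 := h1.trans h2
    exact_mod_cast h3
  · rw [Order.one_le_iff_ne_zero, Ne, Ideal.height_eq_zero_iff_eq_bot]
    exact h0


/-- Heights of the primes of `R[X]` lying over a prime `p` of the Noetherian ring `R`. -/
theorem height_polynomial_of_liesOver (R : Type u) [CommRing R] [IsNoetherianRing R] (p : Ideal R)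
    [p.IsPrime] (q : Ideal R[X]) [q.IsPrime] [q.LiesOver p] :
    (q = p.map C → q.height = p.height) ∧ (q ≠ p.map C → q.height = p.height + 1) := by
  have key := Ideal.height_eq_height_add_of_liesOver_of_hasGoingDown p q
  have hle : p.map C ≤ q := by
    rw [Ideal.map_le_iff_le_comap]
    exact (LiesOver.over (P := q) (p := p)).le
  rw [Polynomial.algebraMap_eq] at key
  obtain ⟨qbar, hqbar⟩ : ∃ qbar, qbar = q.map (Ideal.Quotient.mk (p.map C)) := ⟨_, rfl⟩
  rw [← hqbar] at key
  have hqbar_prime : qbar.IsPrime := by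
    rw [hqbar]
    exact Ideal.isPrime_map_quotientMk_of_isPrime hle
  have hdom : IsDomain (R[X] ⧸ p.map C) := isDomain_map_C_quotient ‹p.IsPrime›
  constructor
  · intro h
    have : qbar = ⊥ := by
      rw [hqbar, h]
      exact Ideal.map_quotient_self _
    rw [key, this, Ideal.height_bot, add_zero]
  · intro h
    let e := (polynomialQuotientEquivQuotientPolynomial p).symm
    obtain ⟨𝔮, h𝔮⟩ : ∃ 𝔮 : Ideal (R ⧸ p)[X], 𝔮 = qbar.map e := ⟨_, rfl⟩
    have hp𝔮 : 𝔮.IsPrime := by
      rw [h𝔮]
      exact Ideal.map_isPrime_of_equiv e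
    have h1 : 𝔮.height = qbar.height := by
      rw [h𝔮]
      exact e.height_map qbar
    have h0 : 𝔮 ≠ ⊥ := by
      intro h𝔮0
      apply h
      refine le_antisymm ?_ hle
      intro f hf
      have hf1 : Ideal.Quotient.mk (p.map C) f ∈ qbar := by
        rw [hqbar]
        exact Ideal.mem_map_of_mem _ hf
      have hf2 : e (Ideal.Quotient.mk (p.map C) f) ∈ 𝔮 := by
        rw [h𝔮]
        exact Ideal.mem_map_of_mem _ hf1
      rw [h𝔮0, Ideal.mem_bot, map_eq_zero_iff e e.injective, Ideal.Quotient.eq_zero_iff_mem] at hf2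
      exact hf2
    have hc : 𝔮.comap C = ⊥ := by
      rw [eq_bot_iff]
      intro d hd
      obtain ⟨d, rfl⟩ := Ideal.Quotient.mk_surjective d
      rw [Ideal.mem_comap, h𝔮] at hd
      obtain ⟨y, hy, hyd⟩ := (Ideal.mem_map_of_equiv e _).mp hd
      have hy' : y = Ideal.Quotient.mk (p.map C) (C d) := by
        apply e.injective
        rw [hyd]
        change _ = (polynomialQuotientEquivQuotientPolynomial p).symm _
        rw [polynomialQuotientEquivQuotientPolynomial_symm_mk, Polynomial.map_C]
      rw [hy', hqbar, Ideal.mem_quotient_iff_mem hle] at hy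
      have : d ∈ p := by
        rw [LiesOver.over (P := q) (p := p), Ideal.under_def, Ideal.mem_comap,
          Polynomial.algebraMap_eq]
        exact hy
      rw [Ideal.mem_bot, Ideal.Quotient.eq_zero_iff_mem]
      exact this
    rw [key, ← h1, height_eq_one_of_comap_C_eq_bot _ 𝔮 h0 hc]

end Height


section Chain

/-- If `f : A → B` is surjective with nonzero kernel and `A` is a domain, then heights drop by at
least one: `ht q + 1 ≤ ht f⁻¹(q)`. -/
theorem height_add_one_le_height_comap {A B : Type u} [CommRing A] [IsDomain A] [CommRing B]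
    (f : A →+* B) (hf : Function.Surjective f) (hker : RingHom.ker f ≠ ⊥) (q : Ideal B) [q.IsPrime]
    [q.FiniteHeight] : q.height + 1 ≤ (q.comap f).height := by
  obtain ⟨l, hlast, hlen⟩ := q.exists_ltSeries_length_eq_height
  let l' : LTSeries (PrimeSpectrum A) :=
    l.map (PrimeSpectrum.comap f) (RingHom.strictMono_comap_of_surjective hf)
  have hbot : (⟨⊥, Ideal.isPrime_bot⟩ : PrimeSpectrum A) < l'.head := by
    rw [← PrimeSpectrum.asIdeal_lt_asIdeal]
    refine lt_of_le_of_ne bot_le (fun h => hker ?_)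
    have h' : (⊥ : Ideal A) = l'.head.asIdeal := h
    rw [eq_bot_iff, h']
    intro a ha
    change a ∈ (l.head.asIdeal).comap f
    rw [Ideal.mem_comap, RingHom.mem_ker.mp ha]
    exact Ideal.zero_mem _
  let l'' : LTSeries (PrimeSpectrum A) := l'.cons ⟨⊥, Ideal.isPrime_bot⟩ hbot
  have hlast'' : l''.last = ⟨q.comap f, inferInstance⟩ := by
    simp only [l'', l', RelSeries.last_cons, LTSeries.last_map, hlast]
    rfl
  have h1 : (l''.length : ℕ∞) ≤ Order.height l''.last := Order.length_le_height_last
  rw [hlast'', ← PrimeSpectrum.height_eq_orderHeight] at h1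
  have h2 : l''.length = l.length + 1 := by simp [l'', l']
  rw [h2] at h1
  rw [← hlen]
  exact_mod_cast h1

end Chain

section OneGen

variable (R S : Type u) [CommRing R] [IsDomain R] [IsNoetherianRing R] [CommRing S] [IsDomain S]
  [Algebra R S] (x : S) (p : Ideal R) [p.IsPrime] (q : Ideal S) [q.IsPrime] [q.LiesOver p]

omit [IsDomain R] [IsNoetherianRing R] [IsDomain S] [p.IsPrime] [q.IsPrime] in
theorem aeval_mk_map (f : R[X]) :
    aeval (R := R ⧸ p) (Ideal.Quotient.mk q x) (f.map (Ideal.Quotient.mk p)) =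
      Ideal.Quotient.mk q (aeval x f) := by
  have h1 := Polynomial.aeval_map_algebraMap (R := R) (R ⧸ p) (Ideal.Quotient.mk q x) f
  rw [Ideal.Quotient.algebraMap_eq] at h1
  rw [h1]
  exact Polynomial.aeval_algHom_apply (Ideal.Quotient.mkₐ R q) x f

omit [IsDomain R] [IsNoetherianRing R] [IsDomain S] [p.IsPrime] [q.IsPrime] [q.LiesOver p] in
theorem map_mk_eq_zero_iff (f : R[X]) : f.map (Ideal.Quotient.mk p) = 0 ↔ f ∈ p.map C := by
  rw [Ideal.mem_map_C_iff, Polynomial.ext_iff]
  simp only [Polynomial.coeff_map, Polynomial.coeff_zero, Ideal.Quotient.eq_zero_iff_mem]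

omit [IsDomain R] [IsDomain S] in
/-- The residue side of the one-generator step. -/
theorem residue_dichotomy (hx : Algebra.adjoin R {x} = ⊤) :
    (Algebra.trdeg (R ⧸ p) (S ⧸ q) = 1 ∧ (q.comap (aeval (R := R) x)).height = p.height) ∨
      (Algebra.trdeg (R ⧸ p) (S ⧸ q) = 0 ∧
        (q.comap (aeval (R := R) x)).height = p.height + 1) := by
  have hsurj : Function.Surjective (aeval (R := R) x) := by
    rw [← AlgHom.range_eq_top, ← Algebra.adjoin_singleton_eq_range_aeval, hx]
  have hdom : IsDomain (R ⧸ p) := Ideal.Quotient.isDomain p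
  have hadj : Algebra.adjoin (R ⧸ p) {Ideal.Quotient.mk q x} = ⊤ := by
    rw [eq_top_iff]
    rintro y -
    obtain ⟨y, rfl⟩ := Ideal.Quotient.mk_surjective y
    obtain ⟨f, rfl⟩ := hsurj y
    rw [← aeval_mk_map R S x p q f, Algebra.adjoin_singleton_eq_range_aeval]
    exact ⟨_, rfl⟩
  have hq' : (q.comap (aeval (R := R) x)).IsPrime := Ideal.comap_isPrime _ _
  have hlo : (q.comap (aeval (R := R) x)).LiesOver p := inferInstance
  have hh := height_polynomial_of_liesOver R p (q.comap (aeval (R := R) x))
  rcases trdeg_monogenic (R ⧸ p) (S ⧸ q) (Ideal.Quotient.mk q x) hadj with ⟨hinj, ht⟩ | ⟨halg, ht⟩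
  · left
    refine ⟨ht, hh.1 ?_⟩
    refine le_antisymm ?_ ?_
    · intro f hf
      rw [Ideal.mem_comap] at hf
      rw [← map_mk_eq_zero_iff]
      apply hinj
      rw [aeval_mk_map, map_zero, Ideal.Quotient.eq_zero_iff_mem]
      exact hf
    · rw [Ideal.map_le_iff_le_comap]
      exact (LiesOver.over (P := q.comap (aeval (R := R) x)) (p := p)).le
  · right
    refine ⟨ht, hh.2 ?_⟩
    obtain ⟨g, hg0, hg⟩ := halg
    obtain ⟨f, rfl⟩ := Polynomial.map_surjective _ Ideal.Quotient.mk_surjective g
    intro heq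
    apply hg0
    rw [map_mk_eq_zero_iff, ← heq, Ideal.mem_comap, ← Ideal.Quotient.eq_zero_iff_mem,
      ← aeval_mk_map R S x p q f]
    exact hg

omit [IsDomain S] in
/-- The generic side of the one-generator step. -/
theorem generic_dichotomy [FaithfulSMul R S] (hx : Algebra.adjoin R {x} = ⊤) :
    (Algebra.trdeg R S = 1 ∧ (q.comap (aeval (R := R) x)).height = q.height) ∨
      (Algebra.trdeg R S = 0 ∧ RingHom.ker (aeval (R := R) x) ≠ ⊥ ∧
        q.height + 1 ≤ (q.comap (aeval (R := R) x)).height) := by
  have hsurj : Function.Surjective (aeval (R := R) x) := by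
    rw [← AlgHom.range_eq_top, ← Algebra.adjoin_singleton_eq_range_aeval, hx]
  have hN : IsNoetherianRing S := isNoetherianRing_of_surjective R[X] S _ hsurj
  rcases trdeg_monogenic R S x hx with ⟨hinj, ht⟩ | ⟨halg, ht⟩
  · left
    refine ⟨ht, ?_⟩
    let e : R[X] ≃+* S := RingEquiv.ofBijective (aeval (R := R) x : R[X] →+* S) ⟨hinj, hsurj⟩
    exact e.height_comap q
  · right
    have hker : RingHom.ker (aeval (R := R) x) ≠ ⊥ := by
      obtain ⟨g, hg0, hg⟩ := halg
      intro h
      apply hg0
      have : g ∈ RingHom.ker (aeval (R := R) x) := hg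
      rwa [h, Ideal.mem_bot] at this
    refine ⟨ht, hker, ?_⟩
    exact height_add_one_le_height_comap (aeval (R := R) x : R[X] →+* S) hsurj hker q

/-- The dimension inequality for a monogenic extension. -/
theorem one_gen_le [FaithfulSMul R S] (hx : Algebra.adjoin R {x} = ⊤) :
    (q.height : Cardinal.{u}) + Algebra.trdeg (R ⧸ p) (S ⧸ q) ≤
      (p.height : Cardinal.{u}) + Algebra.trdeg R S := by
  rcases residue_dichotomy R S x p q hx with ⟨h1, h2⟩ | ⟨h1, h2⟩ <;>
  rcases generic_dichotomy R S x q hx with ⟨h3, h4⟩ | ⟨h3, -, h4⟩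
  · rw [h1, h3, ← h4, h2]
  · rw [h1, h3, add_zero]
    rw [h2] at h4
    exact_mod_cast h4
  · rw [h1, h3, add_zero, ← h4, h2]
    push_cast
    rfl
  · rw [h1, h3, add_zero, add_zero]
    rw [h2] at h4
    have : q.height ≤ p.height := (ENat.add_le_add_iff_right ENat.one_ne_top).mp h4
    exact_mod_cast this

end OneGen


section Induction

/-- Setup lemma: in a tower `R → R' → S` with primes `p`, `p'`, `q`, the quotients form a tower. -/
theorem isScalarTower_quotients (R R' S : Type u) [CommRing R] [CommRing R'] [CommRing S]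
    [Algebra R R'] [Algebra R' S] [Algebra R S] [IsScalarTower R R' S] (p : Ideal R) (p' : Ideal R')
    (q : Ideal S) [p'.LiesOver p] [q.LiesOver p'] [q.LiesOver p] :
    IsScalarTower (R ⧸ p) (R' ⧸ p') (S ⧸ q) := by
  refine IsScalarTower.of_algebraMap_eq (fun a => ?_)
  obtain ⟨a, rfl⟩ := Ideal.Quotient.mk_surjective a
  rw [Ideal.Quotient.algebraMap_mk_of_liesOver, Ideal.Quotient.algebraMap_mk_of_liesOver,
    Ideal.Quotient.algebraMap_mk_of_liesOver, ← IsScalarTower.algebraMap_apply]

/-- Additivity step used in the induction. -/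
theorem add_step {a b c t1 t2 T1 T2 : Cardinal.{u}} (h1 : b + t1 ≤ c + T1) (h2 : a + t2 ≤ b + T2) :
    a + (t1 + t2) ≤ c + (T1 + T2) :=
  calc a + (t1 + t2) = (a + t2) + t1 := by ring
    _ ≤ (b + T2) + t1 := by gcongr
    _ = (b + t1) + T2 := by ring
    _ ≤ (c + T1) + T2 := by gcongr
    _ = c + (T1 + T2) := by ring

theorem dimension_inequality_aux (n : ℕ) : ∀ (R S : Type u) [CommRing R] [IsDomain R]
    [IsNoetherianRing R] [CommRing S] [IsDomain S] [Algebra R S] [FaithfulSMul R S]
    (s : Fin n → S) (_ : Algebra.adjoin R (Set.range s) = ⊤)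
    (p : Ideal R) [p.IsPrime] (q : Ideal S) [q.IsPrime] [q.LiesOver p],
    (q.height : Cardinal.{u}) + Algebra.trdeg (R ⧸ p) (S ⧸ q) ≤
      (p.height : Cardinal.{u}) + Algebra.trdeg R S := by
  induction n with
  | zero =>
    intro R S _ _ _ _ _ _ _ s hs p _ q _ _
    have hx : Algebra.adjoin R {(0 : S)} = ⊤ := by
      rw [← hs, Set.range_eq_empty s, Algebra.adjoin_empty]
      refine le_antisymm (Algebra.adjoin_le ?_) bot_le
      rintro _ rfl
      exact Subalgebra.zero_mem _
    exact one_gen_le R S 0 p q hx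
  | succ n ih =>
    intro R S _ _ _ _ _ _ _ s hs p _ q _ _
    obtain ⟨R', hR'⟩ : ∃ R' : Subalgebra R S, R' = Algebra.adjoin R (Set.range (s ∘ Fin.castSucc)) :=
      ⟨_, rfl⟩
    have hfg : R'.FG := by
      rw [hR']
      exact Subalgebra.fg_def.mpr ⟨_, Set.finite_range _, rfl⟩
    have hft : Algebra.FiniteType R R' := (Subalgebra.fg_iff_finiteType R').mp hfg
    have hN : IsNoetherianRing R' := Algebra.FiniteType.isNoetherianRing R R'
    have hinj : Function.Injective (algebraMap R R') := by
      intro a b hab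
      apply FaithfulSMul.algebraMap_injective R S
      exact congrArg Subtype.val hab
    have hF1 : FaithfulSMul R R' := (faithfulSMul_iff_algebraMap_injective R R').mpr hinj
    have hF2 : FaithfulSMul R' S :=
      (faithfulSMul_iff_algebraMap_injective R' S).mpr Subtype.val_injective
    have hmem : ∀ j : Fin n, s (Fin.castSucc j) ∈ R' := by
      intro j
      rw [hR']
      exact Algebra.subset_adjoin ⟨j, rfl⟩
    let t : Fin n → R' := fun j => ⟨s (Fin.castSucc j), hmem j⟩
    have ht : Algebra.adjoin R (Set.range t) = ⊤ := by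
      have h1 : Set.range t = ((↑) : R' → S) ⁻¹' (Set.range (s ∘ Fin.castSucc)) := by
        ext ⟨y, hy⟩
        simp only [Set.mem_range, Set.mem_preimage, Function.comp_apply, t, Subtype.mk.injEq]
      rw [h1]
      subst hR'
      exact Algebra.adjoin_adjoin_coe_preimage
    have hx : Algebra.adjoin R' {s (Fin.last n)} = ⊤ := by
      have h1 : Algebra.adjoin R (Set.range s) ≤
          (Algebra.adjoin R' {s (Fin.last n)}).restrictScalars R := by
        apply Algebra.adjoin_le
        rintro _ ⟨i, rfl⟩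
        change s i ∈ Algebra.adjoin R' {s (Fin.last n)}
        refine Fin.lastCases ?_ (fun j => ?_) i
        · exact Algebra.subset_adjoin rfl
        · exact (Algebra.adjoin R' {s (Fin.last n)}).algebraMap_mem (t j)
      rw [eq_top_iff]
      intro y _
      exact h1 (hs ▸ Algebra.mem_top)
    have hp' : (q.under R').IsPrime := Ideal.comap_isPrime _ _
    have hlo : (q.under R').LiesOver p := inferInstance
    have h1 := ih R R' t ht p (q.under R')
    have h2 := one_gen_le R' S (s (Fin.last n)) (q.under R') q hx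
    have hT : Algebra.trdeg R R' + Algebra.trdeg R' S = Algebra.trdeg R S := trdeg_add_eq R R'
    have htower := isScalarTower_quotients R R' S p (q.under R') q
    have hdq : IsDomain (S ⧸ q) := Ideal.Quotient.isDomain q
    have hdp : IsDomain (R ⧸ p) := Ideal.Quotient.isDomain p
    have ht' : Algebra.trdeg (R ⧸ p) (R' ⧸ q.under R') + Algebra.trdeg (R' ⧸ q.under R') (S ⧸ q) =
        Algebra.trdeg (R ⧸ p) (S ⧸ q) := trdeg_add_eq (R ⧸ p) (R' ⧸ q.under R')
    rw [← hT, ← ht']
    exact add_step h1 h2

/-- **Dimension inequality** (Stacks 02IJ): for a finite type extension `R ⊆ S` of domains with `R`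
Noetherian and a prime `q` of `S` over `p`,
`ht q + trdeg_{κ(p)} κ(q) ≤ ht p + trdeg_R S`. -/
theorem dimension_inequality (R : Type u) [CommRing R] [IsDomain R]
    [IsNoetherianRing R] (S : Type u) [CommRing S] [IsDomain S] [Algebra R S]
    [FaithfulSMul R S] [Algebra.FiniteType R S] (p : Ideal R) [p.IsPrime] (q : Ideal S) [q.IsPrime]
    [q.LiesOver p] :
    (q.height : Cardinal.{u}) + Algebra.trdeg (R ⧸ p) (S ⧸ q) ≤
      (p.height : Cardinal.{u}) + Algebra.trdeg R S := by
  obtain ⟨t, ht⟩ := (‹Algebra.FiniteType R S›).out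
  obtain ⟨n, s, hs⟩ : ∃ (n : ℕ) (s : Fin n → S), Set.range s = (t : Set S) := by
    refine ⟨t.card, fun i => (t.equivFin.symm i : S), ?_⟩
    ext y
    simp only [Set.mem_range, Finset.mem_coe]
    constructor
    · rintro ⟨i, rfl⟩
      exact (t.equivFin.symm i).2
    · intro hy
      exact ⟨t.equivFin ⟨y, hy⟩, by simp⟩
  exact dimension_inequality_aux n R S s (hs ▸ ht) p q

end Induction

end Groth.Agent.Lib.H56DimFormula
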