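/-
helper56: the dimension formula (equality case of Stacks 02IJ) for universally catenary base.
-/
import Mathlib
import Groth.Agent.Lib.H56DimFormula
import Groth.Agent.Lib.EquidimCat33
import Groth.Agent.Lib.FECat33
import Groth.Agent.Lib.ComplUC33
import Groth.Agent.Lib.UCatenary
import Groth.Agent.S9126

set_option autoImplicit false
universe u

open Polynomial Ideal

namespace Groth.Agent.Lib.H56DimFormula

section Catenary

/-- In a catenary Noetherian local domain `A`, for a surjection-free setting: if `P` is a prime of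
height one, then `dim A = 1 + coheight P`. -/
theorem ringKrullDim_eq_of_height_one {A : Type u} [CommRing A] [IsDomain A] [IsNoetherianRing A]
    [IsLocalRing A] (hC : CAlg.IsCatenary A) (P : PrimeSpectrum A) (hP : P.asIdeal.height = 1) :
    (IsLocalRing.maximalIdeal A).height = 1 + Order.coheight P := by
  have hE : EGA4.IsEquidim A := FECat33.isEquidim_of_isDomain A
  have h := EquidimCat33.height_add_coheight_eq hE hC P (IsLocalRing.closedPoint A)
  rw [hP] at h
  have hco : Order.coheight (IsLocalRing.closedPoint A) = 0 := by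
    rw [Order.coheight_eq_zero]
    intro x hx
    exact IsLocalRing.le_maximalIdeal x.2.ne_top
  rw [hco, add_zero] at h
  exact h.symm

end Catenary

section OneGenEq

variable (R S : Type u) [CommRing R] [IsDomain R] [IsNoetherianRing R] [CommRing S] [IsDomain S]
  [Algebra R S] (x : S) (q : Ideal S) [q.IsPrime]

/-- The key equality: if the kernel of `R[X] → S` is nonzero and `R[X]` is catenary at `q'`, then
`ht q' = ht q + 1`. -/
theorem height_comap_eq_add_one [FaithfulSMul R S] (hx : Algebra.adjoin R {x} = ⊤)
    (hker : RingHom.ker (aeval (R := R) x) ≠ ⊥)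
    (hcat : haveI : (q.comap (aeval (R := R) x)).IsPrime := Ideal.comap_isPrime _ _
      CAlg.IsCatenary (Localization.AtPrime (q.comap (aeval (R := R) x)))) :
    (q.comap (aeval (R := R) x)).height = q.height + 1 := by
  have hsurj : Function.Surjective (aeval (R := R) x) := by
    rw [← AlgHom.range_eq_top, ← Algebra.adjoin_singleton_eq_range_aeval, hx]
  have hN : IsNoetherianRing S := isNoetherianRing_of_surjective R[X] S _ hsurj
  obtain ⟨φ, hφ⟩ : ∃ φ : R[X] →+* S, φ = (aeval (R := R) x : R[X] →+* S) := ⟨_, rfl⟩
  have hφs : Function.Surjective φ := by rw [hφ]; exact hsurj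
  obtain ⟨q', hq'⟩ : ∃ q' : Ideal R[X], q' = q.comap φ := ⟨_, rfl⟩
  have hq'p : q'.IsPrime := by rw [hq']; exact Ideal.comap_isPrime _ _
  obtain ⟨Q, hQ⟩ : ∃ Q : Ideal R[X], Q = RingHom.ker φ := ⟨_, rfl⟩
  have hQp : Q.IsPrime := by rw [hQ]; exact RingHom.ker_isPrime φ
  have hQ0 : Q ≠ ⊥ := by rw [hQ, hφ]; exact hker
  have hQc : Q.comap C = ⊥ := by
    rw [eq_bot_iff]
    intro r hr
    rw [Ideal.mem_comap, hQ, RingHom.mem_ker, hφ] at hr
    have : algebraMap R S r = 0 := by simpa using hr
    rw [Ideal.mem_bot]
    exact (FaithfulSMul.algebraMap_injective R S) (this.trans (map_zero _).symm)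
  have hQh : Q.height = 1 := height_eq_one_of_comap_C_eq_bot R Q hQ0 hQc
  have hQq' : Q ≤ q' := by
    rw [hQ, hq']
    intro a ha
    rw [Ideal.mem_comap, RingHom.mem_ker.mp ha]
    exact Ideal.zero_mem _
  change CAlg.IsCatenary (Localization.AtPrime (q.comap (aeval (R := R) x))) at hcat
  have hgoal : q'.height = q.height + 1 := by
    have hcat' : CAlg.IsCatenary (Localization.AtPrime q') := by
      subst hq' hφ
      exact hcat
    clear hcat
    obtain ⟨A, hA⟩ : ∃ A : Type u, A = Localization.AtPrime q' := ⟨_, rfl⟩
    -- work in `Localization.AtPrime q'`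
    have disj : Disjoint (q'.primeCompl : Set R[X]) (Q : Set R[X]) := by
      rw [Set.disjoint_left]
      intro a ha haQ
      exact ha (hQq' haQ)
    have hQA : (Q.map (algebraMap R[X] (Localization.AtPrime q'))).IsPrime :=
      IsLocalization.isPrime_of_isPrime_disjoint q'.primeCompl _ _ hQp disj
    have hQAh : (Q.map (algebraMap R[X] (Localization.AtPrime q'))).height = 1 := by
      rw [IsLocalization.height_map_of_disjoint q'.primeCompl _ disj, hQh]
    have h1 := ringKrullDim_eq_of_height_one hcat' ⟨_, hQA⟩ hQAh
    have h2 : (IsLocalRing.maximalIdeal (Localization.AtPrime q')).height = q'.height := by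
      have := IsLocalization.AtPrime.ringKrullDim_eq_height q' (Localization.AtPrime q')
      rw [← IsLocalRing.maximalIdeal_height_eq_ringKrullDim] at this
      exact_mod_cast this
    rw [h2] at h1
    -- coheight bound
    have h3 : Order.coheight (⟨_, hQA⟩ : PrimeSpectrum (Localization.AtPrime q')) ≤ q.height := by
      have hle : ((Order.coheight (⟨_, hQA⟩ : PrimeSpectrum (Localization.AtPrime q')) : ℕ∞) :
          WithBot ℕ∞) ≤ ((Order.height (⟨q, inferInstance⟩ : PrimeSpectrum S) : ℕ∞) :
            WithBot ℕ∞) := by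
        rw [Order.coheight_eq_krullDim_Ici, Order.height_eq_krullDim_Iic]
        have hprop : ∀ P : Set.Ici (⟨_, hQA⟩ : PrimeSpectrum (Localization.AtPrime q')),
            Q ≤ P.1.asIdeal.under R[X] ∧ P.1.asIdeal.under R[X] ≤ q' := by
          intro P
          constructor
          · have := P.2
            rw [Set.mem_Ici, ← PrimeSpectrum.asIdeal_le_asIdeal] at this
            rw [Ideal.under_def, ← Ideal.map_le_iff_le_comap]
            exact this
          · have h1 : P.1.asIdeal ≤ IsLocalRing.maximalIdeal (Localization.AtPrime q') :=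
              IsLocalRing.le_maximalIdeal P.1.2.ne_top
            have h2 := Ideal.comap_mono (f := algebraMap R[X] (Localization.AtPrime q')) h1
            rw [← Ideal.under_def, ← Ideal.under_def, Localization.AtPrime.under_maximalIdeal] at h2
            exact h2
        let f : Set.Ici (⟨_, hQA⟩ : PrimeSpectrum (Localization.AtPrime q')) →
            Set.Iic (⟨q, inferInstance⟩ : PrimeSpectrum S) := fun P =>
          ⟨⟨(P.1.asIdeal.under R[X]).map φ,
            Ideal.map_isPrime_of_surjective hφs (hQ ▸ (hprop P).1)⟩, by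
              rw [Set.mem_Iic, ← PrimeSpectrum.asIdeal_le_asIdeal]
              change (P.1.asIdeal.under R[X]).map φ ≤ q
              rw [Ideal.map_le_iff_le_comap, ← hq']
              exact (hprop P).2⟩
        refine Order.krullDim_le_of_strictMono f ?_
        intro P1 P2 h12
        have hle12 : P1.1.asIdeal ≤ P2.1.asIdeal := by
          have : P1.1 ≤ P2.1 := h12.le
          exact this
        have hne12 : P1.1.asIdeal ≠ P2.1.asIdeal := by
          intro h
          have : P1.1 = P2.1 := PrimeSpectrum.ext h
          exact h12.ne (Subtype.ext this)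
        rw [← Subtype.coe_lt_coe, ← PrimeSpectrum.asIdeal_lt_asIdeal]
        change (P1.1.asIdeal.under R[X]).map φ < (P2.1.asIdeal.under R[X]).map φ
        refine lt_of_le_of_ne (Ideal.map_mono (Ideal.comap_mono hle12)) ?_
        intro h
        apply hne12
        have h' := congrArg (Ideal.comap φ) h
        rw [Ideal.comap_map_of_surjective φ hφs, Ideal.comap_map_of_surjective φ hφs,
          ← RingHom.ker_eq_comap_bot, ← hQ, sup_of_le_left (hprop P1).1,
          sup_of_le_left (hprop P2).1] at h'
        rw [← IsLocalization.map_under q'.primeCompl (Localization.AtPrime q') P1.1.asIdeal,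
          ← IsLocalization.map_under q'.primeCompl (Localization.AtPrime q') P2.1.asIdeal, h']
      rw [← PrimeSpectrum.height_eq_orderHeight] at hle
      exact_mod_cast hle
    refine le_antisymm ?_ ?_
    · rw [h1, add_comm]
      gcongr
    · rw [hq']
      exact height_add_one_le_height_comap φ hφs (hQ ▸ hQ0) q
  rw [hq', hφ] at hgoal
  exact hgoal

end OneGenEq


section OneGenEq2

variable (R S : Type u) [CommRing R] [IsDomain R] [IsNoetherianRing R] [CommRing S] [IsDomain S]
  [Algebra R S] (x : S) (p : Ideal R) [p.IsPrime] (q : Ideal S) [q.IsPrime] [q.LiesOver p]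

/-- Catenarity of the localizations of `R[X]` for universally catenary `R`. -/
theorem isCatenary_localization_polynomial (hUC : CAlg.IsUniversallyCatenary R) (P : Ideal R[X])
    [P.IsPrime] : CAlg.IsCatenary (Localization.AtPrime P) := by
  have h1 : CAlg.IsUniversallyCatenary R[X] := Groth.Agent.S9126.result R R[X] hUC
  exact ComplUC33.isCatenary_of_isUniversallyCatenary
    (UCatenary.isUniversallyCatenary_localization h1 P.primeCompl)

/-- The dimension formula for a monogenic extension, given catenarity of `R[X]` at `q'`. -/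
theorem one_gen_eq_of_isCatenary [FaithfulSMul R S] (hx : Algebra.adjoin R {x} = ⊤)
    (hcat : haveI : (q.comap (aeval (R := R) x)).IsPrime := Ideal.comap_isPrime _ _
      CAlg.IsCatenary (Localization.AtPrime (q.comap (aeval (R := R) x)))) :
    (q.height : Cardinal.{u}) + Algebra.trdeg (R ⧸ p) (S ⧸ q) =
      (p.height : Cardinal.{u}) + Algebra.trdeg R S := by
  rcases residue_dichotomy R S x p q hx with ⟨h1, h2⟩ | ⟨h1, h2⟩ <;>
  rcases generic_dichotomy R S x q hx with ⟨h3, h4⟩ | ⟨h3, hker, -⟩
  · rw [h1, h3, ← h4, h2]
  · have h4 := height_comap_eq_add_one R S x q hx hker hcat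
    rw [h1, h3, add_zero]
    rw [h2] at h4
    rw [h4]
    push_cast
    rfl
  · rw [h1, h3, add_zero, ← h4, h2]
    push_cast
    rfl
  · have h4 := height_comap_eq_add_one R S x q hx hker hcat
    rw [h1, h3, add_zero, add_zero]
    rw [h2] at h4
    have : q.height = p.height :=
      ((ENat.add_left_injective_of_ne_top ENat.one_ne_top) h4).symm
    rw [this]

/-- The dimension formula for a monogenic extension of a universally catenary domain. -/
theorem one_gen_eq [FaithfulSMul R S] (hx : Algebra.adjoin R {x} = ⊤)
    (hUC : CAlg.IsUniversallyCatenary R) :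
    (q.height : Cardinal.{u}) + Algebra.trdeg (R ⧸ p) (S ⧸ q) =
      (p.height : Cardinal.{u}) + Algebra.trdeg R S :=
  one_gen_eq_of_isCatenary R S x p q hx (isCatenary_localization_polynomial R hUC _)

end OneGenEq2

section Induction2

theorem add_step_eq {a b c t1 t2 T1 T2 : Cardinal.{u}} (h1 : b + t1 = c + T1)
    (h2 : a + t2 = b + T2) : a + (t1 + t2) = c + (T1 + T2) :=
  calc a + (t1 + t2) = (a + t2) + t1 := by ring
    _ = (b + T2) + t1 := by rw [h2]
    _ = (b + t1) + T2 := by ring
    _ = (c + T1) + T2 := by rw [h1]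
    _ = c + (T1 + T2) := by ring

theorem dimension_formula_aux (n : ℕ) : ∀ (R S : Type u) [CommRing R] [IsDomain R]
    [CommRing S] [IsDomain S] [Algebra R S] [FaithfulSMul R S]
    (_ : CAlg.IsUniversallyCatenary R)
    (s : Fin n → S) (_ : Algebra.adjoin R (Set.range s) = ⊤)
    (p : Ideal R) [p.IsPrime] (q : Ideal S) [q.IsPrime] [q.LiesOver p],
    (q.height : Cardinal.{u}) + Algebra.trdeg (R ⧸ p) (S ⧸ q) =
      (p.height : Cardinal.{u}) + Algebra.trdeg R S := by
  induction n with
  | zero =>
    intro R S _ _ _ _ _ _ hUC s hs p _ q _ _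
    have hNR : IsNoetherianRing R := hUC.1
    have hx : Algebra.adjoin R {(0 : S)} = ⊤ := by
      rw [← hs, Set.range_eq_empty s, Algebra.adjoin_empty]
      refine le_antisymm (Algebra.adjoin_le ?_) bot_le
      rintro _ rfl
      exact Subalgebra.zero_mem _
    exact one_gen_eq R S 0 p q hx hUC
  | succ n ih =>
    intro R S _ _ _ _ _ _ hUC s hs p _ q _ _
    have hNR : IsNoetherianRing R := hUC.1
    obtain ⟨R', hR'⟩ : ∃ R' : Subalgebra R S, R' = Algebra.adjoin R (Set.range (s ∘ Fin.castSucc)) :=
      ⟨_, rfl⟩
    have hfg : R'.FG := by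
      rw [hR']
      exact Subalgebra.fg_def.mpr ⟨_, Set.finite_range _, rfl⟩
    have hft : Algebra.FiniteType R R' := (Subalgebra.fg_iff_finiteType R').mp hfg
    have hUC' : CAlg.IsUniversallyCatenary R' := Groth.Agent.S9126.result R R' hUC
    have hN : IsNoetherianRing R' := hUC'.1
    have hinj : Function.Injective (algebraMap R R') := by
      intro a b hab
      apply FaithfulSMul.algebraMap_injective R S
      exact congrArg Subtype.val hab
    have hF1 : FaithfulSMul R R' := (faithfulSMul_iff_algebraMap_injective R R').mpr hinj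
    have hF2 : FaithfulSMul R' S :=
      (faithfulSMul_iff_algebraMap_injective R' S).mpr Subtype.val_injective
    have hmem : ∀ j : Fin n, s (Fin.castSucc j) ∈ R' := by
      intro j
      rw [hR']
      exact Algebra.subset_adjoin ⟨j, rfl⟩
    let t : Fin n → R' := fun j => ⟨s (Fin.castSucc j), hmem j⟩
    have ht : Algebra.adjoin R (Set.range t) = ⊤ := by
      have h1 : Set.range t = ((↑) : R' → S) ⁻¹' (Set.range (s ∘ Fin.castSucc)) := by
        ext ⟨y, hy⟩
        simp only [Set.mem_range, Set.mem_preimage, Function.comp_apply, t, Subtype.mk.injEq]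
      rw [h1]
      subst hR'
      exact Algebra.adjoin_adjoin_coe_preimage
    have hx : Algebra.adjoin R' {s (Fin.last n)} = ⊤ := by
      have h1 : Algebra.adjoin R (Set.range s) ≤
          (Algebra.adjoin R' {s (Fin.last n)}).restrictScalars R := by
        apply Algebra.adjoin_le
        rintro _ ⟨i, rfl⟩
        change s i ∈ Algebra.adjoin R' {s (Fin.last n)}
        refine Fin.lastCases ?_ (fun j => ?_) i
        · exact Algebra.subset_adjoin rfl
        · exact (Algebra.adjoin R' {s (Fin.last n)}).algebraMap_mem (t j)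
      rw [eq_top_iff]
      intro y _
      exact h1 (hs ▸ Algebra.mem_top)
    have hp' : (q.under R').IsPrime := Ideal.comap_isPrime _ _
    have hlo : (q.under R').LiesOver p := inferInstance
    have h1 := ih R R' hUC t ht p (q.under R')
    have h2 := one_gen_eq R' S (s (Fin.last n)) (q.under R') q hx hUC'
    have hT : Algebra.trdeg R R' + Algebra.trdeg R' S = Algebra.trdeg R S := trdeg_add_eq R R'
    have htower := isScalarTower_quotients R R' S p (q.under R') q
    have hdq : IsDomain (S ⧸ q) := Ideal.Quotient.isDomain q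
    have hdp : IsDomain (R ⧸ p) := Ideal.Quotient.isDomain p
    have ht' : Algebra.trdeg (R ⧸ p) (R' ⧸ q.under R') + Algebra.trdeg (R' ⧸ q.under R') (S ⧸ q) =
        Algebra.trdeg (R ⧸ p) (S ⧸ q) := trdeg_add_eq (R ⧸ p) (R' ⧸ q.under R')
    rw [← hT, ← ht']
    exact add_step_eq h1 h2

/-- **Dimension formula** (Stacks 02IJ, equality case): for a finite type extension `R ⊆ S` of
domains with `R` universally catenary and a prime `q` of `S` over `p`,
`ht q + trdeg_{κ(p)} κ(q) = ht p + trdeg_R S`. -/
theorem dimension_formula (R : Type u) [CommRing R] [IsDomain R]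
    (hR : CAlg.IsUniversallyCatenary R) (S : Type u) [CommRing S] [IsDomain S] [Algebra R S]
    [FaithfulSMul R S] [Algebra.FiniteType R S] (p : Ideal R) [p.IsPrime] (q : Ideal S) [q.IsPrime]
    [q.LiesOver p] :
    (q.height : Cardinal.{u}) + Algebra.trdeg (R ⧸ p) (S ⧸ q) =
      (p.height : Cardinal.{u}) + Algebra.trdeg R S := by
  obtain ⟨t, ht⟩ := (‹Algebra.FiniteType R S›).out
  obtain ⟨n, s, hs⟩ : ∃ (n : ℕ) (s : Fin n → S), Set.range s = (t : Set S) := by
    refine ⟨t.card, fun i => (t.equivFin.symm i : S), ?_⟩
    ext y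
    simp only [Set.mem_range, Finset.mem_coe]
    constructor
    · rintro ⟨i, rfl⟩
      exact (t.equivFin.symm i).2
    · intro hy
      exact ⟨t.equivFin ⟨y, hy⟩, by simp⟩
  exact dimension_formula_aux n R S hR s (hs ▸ ht) p q

end Induction2

end Groth.Agent.Lib.H56DimFormula
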