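import Groth.Agent.Lib.DimIneqScheme
import Groth.Agent.Lib.TrdegTransfer
import Groth.Agent.Lib.CMCat33
import Groth.Agent.Lib.CMFieldExt33
import Groth.Agent.Lib.ResTrdegJacobson
import Groth.Agent.S12459
import Groth.Agent.S9684
import Groth.Agent.S6462
import Groth.Agent.S6459
import Groth.Agent.S6460
import Groth.Prelude.Def_CurvBase
import Groth.Prelude.Def_Flat
import Mathlib

/-!
helper30: dimension theory for schemes locally of finite type over a field `k`, via the dimension
function `x ↦ trdeg_k κ(x)`.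
-/

set_option autoImplicit false
universe u
open CategoryTheory AlgebraicGeometry

namespace Groth.Agent.Lib.H30DimField

open Groth.Agent.Lib.TrdegTransfer Groth.Agent.Lib.DimIneqScheme

section Top

open TopologicalSpace Groth.Agent.S7577

variable {Y : Type u} [TopologicalSpace Y] [QuasiSober Y] [T0Space Y]
  (δ : Y → ℤ) (hδ : PtTop.IsDimensionFunction δ)

include hδ in
theorem le_krullDim (y₁ y₀ : Y) (h : y₁ ⤳ y₀) :
    (((δ y₁ - δ y₀).toNat : ℕ) : WithBot ℕ∞) ≤ topologicalKrullDim Y := by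
  let a : IrreducibleCloseds Y := ⟨closure {y₀}, isIrreducible_singleton.closure, isClosed_closure⟩
  let b : IrreducibleCloseds Y := ⟨closure {y₁}, isIrreducible_singleton.closure, isClosed_closure⟩
  have hab : a ≤ b := by
    rw [le_iff, gp_mk, gp_mk]
    exact h
  have hle : δ y₀ ≤ δ y₁ := by
    by_cases he : y₁ = y₀
    · rw [he]
    · exact (hδ.1 y₁ y₀ h he).le
  have hn : δ (gp b) - δ (gp a) = (((δ y₁ - δ y₀).toNat : ℕ) : ℤ) := by
    rw [gp_mk, gp_mk]
    omega
  obtain ⟨s, -, -, hlen⟩ := exists_series _ (Groth.Agent.S6462.strictMono_gp δ hδ)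
    (Groth.Agent.S6462.cov_gp δ hδ) _ a b hab hn
  have := Order.LTSeries.length_le_krullDim s
  rw [hlen] at this
  exact this

include hδ in
theorem krullDim_le (hnonneg : ∀ y, 0 ≤ δ y) (N : ℕ) (hN : ∀ y, δ y ≤ N) :
    topologicalKrullDim Y ≤ (N : WithBot ℕ∞) := by
  unfold topologicalKrullDim Order.krullDim
  refine iSup_le fun p => ?_
  have h1 := series_lower _ (Groth.Agent.S6462.strictMono_gp δ hδ) p (Fin.last _)
  have h2 := hN (gp (p (Fin.last _)))
  have h3 := hnonneg (gp (p 0))
  simp only [Fin.val_last] at h1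
  have h4 : p.length ≤ N := by omega
  exact_mod_cast h4

end Top

theorem series_lower' {P : Type u} [Preorder P] (d : P → ℤ) (hd : StrictMono d) (s : LTSeries P)
    (i : Fin (s.length + 1)) : d (s 0) + ((i : ℕ) : ℤ) ≤ d (s i) := by
  induction i using Fin.induction with
  | zero => simp
  | succ i ih =>
    have h1 : s (Fin.castSucc i) < s (Fin.succ i) := s.step i
    have h2 := hd h1
    simp only [Fin.val_succ]
    simp only [Fin.val_castSucc] at ih
    omega

section Sch

variable {X : Scheme.{u}} {δ : X → ℤ}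

theorem isDimFun_convex (hδ : Cyc.IsDimFun X δ) (Z : Set X)
    (hZ : ∀ v ∈ Z, ∀ w ∈ Z, ∀ z : X, v ⤳ z → z ⤳ w → z ∈ Z) :
    PtTop.IsDimensionFunction (fun z : Z => δ z.1) := by
  refine ⟨fun v w hvw hne => ?_, fun v w hvw => ?_⟩
  · exact (hδ v.1 w.1 (Topology.IsInducing.subtypeVal.specializes_iff.mpr hvw)
      (fun h => hne (Subtype.ext h))).1
  · obtain ⟨hsp, hne, himm⟩ := hvw
    have hsp' : v.1 ⤳ w.1 := Topology.IsInducing.subtypeVal.specializes_iff.mpr hsp
    refine (hδ v.1 w.1 hsp' (fun h => hne (Subtype.ext h))).2 ?_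
    intro z hvz hzw
    have hzZ : z ∈ Z := hZ v.1 v.2 w.1 w.2 z hvz hzw
    rcases himm ⟨z, hzZ⟩ (Topology.IsInducing.subtypeVal.specializes_iff.mp hvz)
      (Topology.IsInducing.subtypeVal.specializes_iff.mp hzw) with h | h
    · exact Or.inl (congrArg Subtype.val h)
    · exact Or.inr (congrArg Subtype.val h)

theorem isDimensionFunction_of_isDimFun (hδ : Cyc.IsDimFun X δ) : PtTop.IsDimensionFunction δ :=
  ⟨fun x y h hne => (hδ x y h hne).1, fun x y h => (hδ x y h.1 h.2.1).2 h.2.2⟩

/-- a point is maximal under generization iff its closure is an irreducible component -/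
theorem closure_mem_irreducibleComponents_iff (x : X) :
    closure ({x} : Set X) ∈ irreducibleComponents X ↔ ∀ ξ : X, ξ ⤳ x → ξ = x := by
  constructor
  · intro h ξ hξ
    have h1 : closure ({x} : Set X) ⊆ closure {ξ} := by
      rw [← specializes_iff_closure_subset]
      exact hξ
    have h2 : closure ({ξ} : Set X) ⊆ closure {x} :=
      h.2 isIrreducible_singleton.closure h1
    have h3 : x ⤳ ξ := specializes_iff_closure_subset.mpr h2
    exact (hξ.antisymm h3).eq
  · intro h
    apply Groth.Agent.Lib.GenericDense68.closure_singleton_mem_irreducibleComponents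
    intro y hy
    rw [h y hy]

theorem isDimFun_open (hδ : Cyc.IsDimFun X δ) (U : Set X) (hU : IsOpen U) :
    PtTop.IsDimensionFunction (fun z : U => δ z.1) :=
  isDimFun_convex hδ U (fun _ _ _ hw _ _ hzw => hzw.mem_open hU hw)

/-- dimension of the local ring via a dimension function -/
theorem stalk_dim_ge (hδ : Cyc.IsDimFun X δ) (x ξ : X) (h : ξ ⤳ x) :
    (((δ ξ - δ x).toNat : ℕ) : WithBot ℕ∞) ≤ ringKrullDim (X.presheaf.stalk x) := by
  rw [← Groth.Agent.S6462.part2 hδ x ξ h]
  exact ringKrullDim_quotient_le _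

theorem stalk_dim_exists [IsLocallyNoetherian X] (hδ : Cyc.IsDimFun X δ) (x : X) :
    ∃ ξ : X, (∀ ξ' : X, ξ' ⤳ ξ → ξ' = ξ) ∧ ξ ⤳ x ∧
      ringKrullDim (X.presheaf.stalk x) = (((δ ξ - δ x).toNat : ℕ) : WithBot ℕ∞) := by
  have hfin : ringKrullDim (X.presheaf.stalk x) < ⊤ := ringKrullDim_lt_top
  have hco := ringKrullDim_stalk_eq_coheight x
  obtain ⟨b, hb⟩ : ∃ b : ℕ, Order.coheight x = (b : ℕ∞) := by
    rw [hco] at hfin
    have : Order.coheight x ≠ ⊤ := by
      intro h
      rw [h] at hfin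
      exact lt_irrefl _ hfin
    exact ⟨(Order.coheight x).toNat, (ENat.natCast_toNat this).symm⟩
  obtain ⟨p, hp, hlen⟩ := Order.exists_series_of_coheight_eq_coe x hb
  have hd : StrictMono δ := fun a b hab => Groth.Agent.S6459.delta_lt hδ hab
  have h1 := series_lower' δ hd p (Fin.last _)
  simp only [Fin.val_last] at h1
  have hηx : p.last ⤳ x := by
    have : p.head ≤ p.last := LTSeries.head_le_last p
    rw [hp] at this
    exact this
  obtain ⟨U, hU, hxU, hUmax⟩ := Groth.Agent.S6460.exists_nhd X x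
  obtain ⟨ξ, hξmax, hξη, hξx⟩ := hUmax p.last (hηx.mem_open hU hxU)
  refine ⟨ξ, hξmax, hξx, ?_⟩
  apply le_antisymm _ (stalk_dim_ge hδ x ξ hξx)
  rw [hco, hb]
  have h2 := Groth.Agent.S6462.delta_le_of_specializes hδ hξη
  have h3 : δ (p 0) = δ x := by
    show δ p.head = δ x
    rw [hp]
  have h4 : b ≤ (δ ξ - δ x).toNat := by
    have : δ (p (Fin.last _)) = δ p.last := rfl
    omega
  exact_mod_cast h4

end Sch

variable (k : Type u) [Field k] (X : Scheme.{u}) [X.Over (Spec (CommRingCat.of k))]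

/-- the structure map `k → κ(s)` for a point `s` of `Spec k` -/
noncomputable def baseMap (s : Spec (CommRingCat.of k)) :
    k →+* (Spec (CommRingCat.of k)).residueField s :=
  ((Spec (CommRingCat.of k)).evaluation ⊤ s trivial).hom.comp
    (Scheme.ΓSpecIso (CommRingCat.of k)).inv.hom

theorem baseMap_bijective (s : Spec (CommRingCat.of k)) : Function.Bijective (baseMap k s) := by
  refine ⟨(baseMap k s).injective, ?_⟩
  intro l
  obtain ⟨b, t, ht, h⟩ := exists_evaluation_frac (isAffineOpen_top (Spec (CommRingCat.of k))) s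
    trivial l
  let e : Γ(Spec (CommRingCat.of k), ⊤) ≃+* k :=
    (Scheme.ΓSpecIso (CommRingCat.of k)).commRingCatIsoToRingEquiv
  have he : ∀ a, (Scheme.ΓSpecIso (CommRingCat.of k)).inv.hom (e a) = a := fun a =>
    e.symm_apply_apply a
  have ht0 : e t ≠ 0 := by
    intro h0
    apply ht
    rw [← he t, h0, map_zero, map_zero]
  refine ⟨e b * (e t)⁻¹, ?_⟩
  have h1 : baseMap k s (e t) = ((Spec (CommRingCat.of k)).evaluation ⊤ s trivial).hom t := by
    show ((Spec (CommRingCat.of k)).evaluation ⊤ s trivial).hom _ = _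
    rw [he]
  have h2 : baseMap k s (e b) = ((Spec (CommRingCat.of k)).evaluation ⊤ s trivial).hom b := by
    show ((Spec (CommRingCat.of k)).evaluation ⊤ s trivial).hom _ = _
    rw [he]
  rw [map_mul, map_inv₀, h1, h2, ← h]
  field_simp

/-- `k ≃ κ(s)` -/
noncomputable def baseEquiv (s : Spec (CommRingCat.of k)) :
    k ≃+* (Spec (CommRingCat.of k)).residueField s :=
  RingEquiv.ofBijective (baseMap k s) (baseMap_bijective k s)

theorem residueFieldMap_baseMap (x : X) (a : k) :
    ((X ↘ Spec (CommRingCat.of k)).residueFieldMap x).hom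
      (baseMap k ((X ↘ Spec (CommRingCat.of k)) x) a) = Curv2.resMap k X x a := by
  set f := X ↘ Spec (CommRingCat.of k) with hf
  have h1 := Scheme.Γevaluation_naturality_apply f x
    ((Scheme.ΓSpecIso (CommRingCat.of k)).inv.hom a)
  exact h1

/-- The transcendence degree of `κ(x)` over `k` agrees with the one over `κ(f x)`. -/
theorem trdeg_eq (x : X) :
    letI := Curv2.resAlgebra k X x
    letI := ((X ↘ Spec (CommRingCat.of k)).residueFieldMap x).hom.toAlgebra
    Algebra.trdeg k (X.residueField x) =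
      Algebra.trdeg ((Spec (CommRingCat.of k)).residueField ((X ↘ Spec (CommRingCat.of k)) x))
        (X.residueField x) := by
  letI := Curv2.resAlgebra k X x
  letI := ((X ↘ Spec (CommRingCat.of k)).residueFieldMap x).hom.toAlgebra
  exact trdeg_eq_of_ringEquiv (baseEquiv k _) (RingEquiv.refl _)
    (fun a => (residueFieldMap_baseMap k X x a).symm)

section lft

variable [LocallyOfFiniteType (X ↘ Spec (CommRingCat.of k))]

theorem trdeg_lt_aleph0 (x : X) :
    letI := Curv2.resAlgebra k X x
    Algebra.trdeg k (X.residueField x) < Cardinal.aleph0 := by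
  letI := Curv2.resAlgebra k X x
  rw [trdeg_eq]
  set f := X ↘ Spec (CommRingCat.of k) with hf
  obtain ⟨U, hU, hxU⟩ : ∃ U : X.Opens, IsAffineOpen U ∧ x ∈ U := by
    obtain ⟨_, ⟨V, hV, rfl⟩, hyV, -⟩ :=
      (X.isBasis_affineOpens).exists_subset_of_mem_open (Set.mem_univ x) isOpen_univ
    exact ⟨V, hV, hyV⟩
  have e : U ≤ f ⁻¹ᵁ ⊤ := le_top
  have hV := isAffineOpen_top (Spec (CommRingCat.of k))
  rw [trdeg_residueField_eq f hU hV e x hxU]
  letI := (f.appLE ⊤ U e).hom.toAlgebra
  haveI : Algebra.FiniteType Γ(Spec (CommRingCat.of k), ⊤) Γ(X, U) := f.finiteType_appLE hV hU e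
  haveI : Algebra.FiniteType Γ(Spec (CommRingCat.of k), ⊤)
      (Γ(X, U) ⧸ (hU.primeIdealOf ⟨x, hxU⟩).asIdeal) := inferInstance
  haveI : Algebra.FiniteType (Γ(Spec (CommRingCat.of k), ⊤) ⧸
      (hU.primeIdealOf ⟨x, hxU⟩).asIdeal.under Γ(Spec (CommRingCat.of k), ⊤))
      (Γ(X, U) ⧸ (hU.primeIdealOf ⟨x, hxU⟩).asIdeal) :=
    Algebra.FiniteType.of_restrictScalars_finiteType Γ(Spec (CommRingCat.of k), ⊤) _ _
  exact _root_.trdeg_lt_aleph0_of_finiteType

/-- transcendence degree of `κ(x)` over `k` as an integer -/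
noncomputable def td (x : X) : ℤ :=
  letI := Curv2.resAlgebra k X x
  ((Cardinal.toNat (Algebra.trdeg k (X.residueField x)) : ℕ) : ℤ)

omit [LocallyOfFiniteType (X ↘ Spec (CommRingCat.of k))] in
theorem td_nonneg (x : X) : 0 ≤ td k X x := Int.natCast_nonneg _

theorem trdeg_eq_td (x : X) :
    letI := Curv2.resAlgebra k X x
    Algebra.trdeg k (X.residueField x) = (((td k X x).toNat : ℕ) : Cardinal) := by
  letI := Curv2.resAlgebra k X x
  unfold td
  rw [Int.toNat_natCast, Cardinal.cast_toNat_of_lt_aleph0 (trdeg_lt_aleph0 k X x)]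

omit [LocallyOfFiniteType (X ↘ Spec (CommRingCat.of k))] in
theorem td_eq_of_trdeg_eq (x : X) (n : ℕ)
    (h : letI := Curv2.resAlgebra k X x; Algebra.trdeg k (X.residueField x) = n) :
    td k X x = n := by
  letI := Curv2.resAlgebra k X x
  unfold td
  rw [h, Cardinal.toNat_natCast]

theorem trdeg_eq_iff (x : X) (n : ℕ) :
    (letI := Curv2.resAlgebra k X x; Algebra.trdeg k (X.residueField x) = n) ↔ td k X x = n := by
  letI := Curv2.resAlgebra k X x
  refine ⟨td_eq_of_trdeg_eq k X x n, fun h => ?_⟩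
  rw [trdeg_eq_td, h, Int.toNat_natCast]

theorem isSetup_base : Cyc.IsSetup (Spec (CommRingCat.of k)) (fun _ => 0) := by
  refine ⟨inferInstance, fun s => ?_, ?_⟩
  · apply Groth.Agent.S12459.uc_stalk_of_affine (isAffineOpen_top _) ?_ s trivial
    refine Groth.Agent.S12459.uc_of_ringEquiv
      (Scheme.ΓSpecIso (CommRingCat.of k)).commRingCatIsoToRingEquiv.symm ?_
    haveI : LocCoh.IsCohenMacaulayRing k :=
      Groth.Agent.Lib.CMFieldExt33.isCohenMacaulayRing_of_krullDimLE_zero k
    exact Groth.Agent.Lib.CMCat33.isUniversallyCatenary_of_isCM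
  · intro x y hxy hne
    exact absurd (Subsingleton.elim x y) hne

theorem deltaCompat : Cyc.DeltaCompat (X ↘ Spec (CommRingCat.of k)) (td k X) (fun _ => 0) := by
  intro x
  refine ⟨(td k X x).toNat, ?_, ?_⟩
  · rw [← trdeg_eq k X x]
    exact trdeg_eq_td k X x
  · have := td_nonneg k X x
    show td k X x = (0 : ℤ) + (((td k X x).toNat : ℕ) : ℤ)
    omega

theorem isDimFun : Cyc.IsDimFun X (td k X) :=
  Groth.Agent.S9684.main (X ↘ Spec (CommRingCat.of k)) (fun _ => 0) (isSetup_base k) (td k X)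
    (deltaCompat k X)

include k in
theorem jacobsonSpace : JacobsonSpace X :=
  LocallyOfFiniteType.jacobsonSpace (X ↘ Spec (CommRingCat.of k))

include k in
theorem isLocallyNoetherian : IsLocallyNoetherian X :=
  LocallyOfFiniteType.isLocallyNoetherian (X ↘ Spec (CommRingCat.of k))

theorem td_eq_zero_of_isClosed (x : X) (hx : IsClosed ({x} : Set X)) : td k X x = 0 := by
  have h := Groth.Agent.Lib.ResTrdegJacobson.resTrdeg_eq_zero_of_isClosed
    (X ↘ Spec (CommRingCat.of k)) x hx
  unfold Dual3.resTrdeg at h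
  rw [← trdeg_eq k X x] at h
  exact_mod_cast td_eq_of_trdeg_eq k X x 0 (by exact_mod_cast h)

theorem isClosed_of_td_eq_zero (x : X) (hx : td k X x = 0) : IsClosed ({x} : Set X) := by
  rw [← closure_eq_iff_isClosed]
  apply Set.Subset.antisymm _ subset_closure
  intro y hy
  have hsp : x ⤳ y := specializes_iff_mem_closure.mpr hy
  by_contra hne
  have := (isDimFun k X x y hsp (fun h => hne (by rw [h]; rfl))).1
  have := td_nonneg k X y
  omega

include k in
/-- a closed point of `X` in `closure {x} ∩ U` -/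
theorem exists_closed_point (x : X) (U : Set X) (hU : IsOpen U) (hx : x ∈ U) :
    ∃ c : X, c ∈ U ∧ x ⤳ c ∧ IsClosed ({c} : Set X) := by
  haveI := jacobsonSpace k X
  have h1 := JacobsonSpace.closure_inter_closedPoints (X := X) (Z := closure {x}) isClosed_closure
  by_contra hcon
  push Not at hcon
  have h2 : closure ({x} : Set X) ∩ closedPoints X ⊆ Uᶜ := by
    rintro c ⟨hc1, hc2⟩ hcU
    exact hcon c hcU (specializes_iff_mem_closure.mpr hc1) hc2
  have h3 : closure ({x} : Set X) ⊆ Uᶜ := by
    rw [← h1]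
    exact closure_minimal h2 hU.isClosed_compl
  exact h3 (subset_closure rfl) hx

theorem le_dim_open (x : X) (U : Set X) (hU : IsOpen U) (hx : x ∈ U) :
    ringKrullDim (X.presheaf.stalk x) + (((td k X x).toNat : ℕ) : WithBot ℕ∞) ≤
      topologicalKrullDim ↥U := by
  haveI := isLocallyNoetherian k X
  have hδ := isDimFun k X
  obtain ⟨ξ, -, hξx, hdim⟩ := stalk_dim_exists hδ x
  obtain ⟨c, hcU, hxc, hc⟩ := exists_closed_point k X x U hU hx
  have hδc := td_eq_zero_of_isClosed k X c hc
  haveI : QuasiSober U := hU.isOpenEmbedding_subtypeVal.quasiSober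
  have hδU := isDimFun_open hδ U hU
  have hξU : ξ ∈ U := hξx.mem_open hU hx
  have h0 := le_krullDim _ hδU ⟨ξ, hξU⟩ ⟨c, hcU⟩
    ((subtype_specializes_iff _ _).mpr (hξx.trans hxc))
  refine le_trans ?_ h0
  rw [hdim]
  simp only [hδc, sub_zero]
  have h1 := td_nonneg k X x
  have h2 := Groth.Agent.S6462.delta_le_of_specializes hδ hξx
  have h3 : (td k X ξ - td k X x).toNat + (td k X x).toNat = (td k X ξ).toNat := by omega
  rw [← h3]
  push_cast
  exact le_rfl

theorem exists_open_dim_le (x : X) : ∃ U : Set X, IsOpen U ∧ x ∈ U ∧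
    topologicalKrullDim ↥U ≤
      ringKrullDim (X.presheaf.stalk x) + (((td k X x).toNat : ℕ) : WithBot ℕ∞) := by
  haveI := isLocallyNoetherian k X
  have hδ := isDimFun k X
  obtain ⟨U, hU, hxU, hUmax⟩ := Groth.Agent.S6460.exists_nhd X x
  refine ⟨U, hU, hxU, ?_⟩
  obtain ⟨ξ₀, -, hξ₀x, hdim⟩ := stalk_dim_exists hδ x
  rw [hdim]
  haveI : QuasiSober U := hU.isOpenEmbedding_subtypeVal.quasiSober
  have hδU := isDimFun_open hδ U hU
  have h1 := td_nonneg k X x
  have key := krullDim_le _ hδU (fun y => td_nonneg k X y.1)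
    ((td k X ξ₀ - td k X x).toNat + (td k X x).toNat) (by
      intro y
      obtain ⟨ξ, -, hξy, hξx⟩ := hUmax y.1 y.2
      have h2 := Groth.Agent.S6462.delta_le_of_specializes hδ hξy
      have h3 := stalk_dim_ge hδ x ξ hξx
      rw [hdim] at h3
      have h4 : (td k X ξ - td k X x).toNat ≤ (td k X ξ₀ - td k X x).toNat := by
        exact_mod_cast h3
      have h5 := Groth.Agent.S6462.delta_le_of_specializes hδ hξx
      show td k X y.1 ≤ _
      push_cast
      omega)
  refine le_trans key ?_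
  push_cast
  exact le_rfl

/-- **Local dimension** of a scheme locally of finite type over a field:
`dim_x X = dim O_{X,x} + trdeg_k κ(x)`. -/
theorem localDim_eq (x : X) :
    FlatMor.localDim X x =
      ringKrullDim (X.presheaf.stalk x) + (((td k X x).toNat : ℕ) : WithBot ℕ∞) := by
  apply le_antisymm
  · obtain ⟨U, hU, hxU, hle⟩ := exists_open_dim_le k X x
    exact le_trans (iInf_le _ ⟨⟨U, hU⟩, hxU⟩) hle
  · exact le_iInf fun U => le_dim_open k X x U.1.1 U.1.2 U.2

/-- every nonempty open of an irreducible scheme locally of finite type over `k` has dimension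
`trdeg_k κ(ξ)`, `ξ` the generic point -/
theorem krullDim_open_eq [IrreducibleSpace X] (U : Set X) (hU : IsOpen U) (hne : U.Nonempty) :
    topologicalKrullDim ↥U = (((td k X (genericPoint X)).toNat : ℕ) : WithBot ℕ∞) := by
  have hδ := isDimFun k X
  haveI : QuasiSober U := hU.isOpenEmbedding_subtypeVal.quasiSober
  have hδU := isDimFun_open hδ U hU
  have hξU : genericPoint X ∈ U := by
    obtain ⟨y, hy⟩ := hne
    exact (genericPoint_specializes y).mem_open hU hy
  obtain ⟨c, hcU, -, hc⟩ := exists_closed_point k X (genericPoint X) U hU hξU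
  exact Groth.Agent.S6462.krullDim_eq _ hδU (fun y => td_nonneg k X y.1) ⟨genericPoint X, hξU⟩
    (fun y => (subtype_specializes_iff _ _).mpr (genericPoint_specializes y.1)) ⟨c, hcU⟩
    (td_eq_zero_of_isClosed k X c hc)

theorem krullDim_eq_td [IrreducibleSpace X] :
    topologicalKrullDim X = (((td k X (genericPoint X)).toNat : ℕ) : WithBot ℕ∞) := by
  have hδ := isDimFun k X
  obtain ⟨c, -, -, hc⟩ := exists_closed_point k X (genericPoint X) Set.univ isOpen_univ trivial
  exact Groth.Agent.S6462.krullDim_eq _ (isDimensionFunction_of_isDimFun hδ)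
    (fun y => td_nonneg k X y) (genericPoint X) (fun y => genericPoint_specializes y) c
    (td_eq_zero_of_isClosed k X c hc)

end lft

end Groth.Agent.Lib.H30DimField
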