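import Mathlib
import Groth.Agent.Lib.H30DimField

/-!
# Dimension of dense opens and of affine schemes (helper8)

* `mem_of_dense_of_maximal`: a maximal point (under generization) of a locally Noetherian scheme
  lies in every dense open.
* `dim_dense_open`: for `X` locally of finite type over a field, a dense open has the dimension
  of `X`.
* `dim_affine`: `dim W = dim Γ(W, ⊤)` for affine `W`.
* `dim_affineSpace`: `dim 𝔸(ULift (Fin n); Spec k) = n`.
-/

set_option autoImplicit false
universe u
open CategoryTheory AlgebraicGeometry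

namespace Groth.Agent.Lib.H8DenseDim

open Groth.Agent.Lib.H30DimField TopologicalSpace Groth.Agent.S7577

theorem mem_of_dense_of_maximal {X : Scheme.{u}} [IsLocallyNoetherian X] (U : Set X)
    (hU : IsOpen U) (hd : Dense U) (ξ : X) (hξ : ∀ ξ' : X, ξ' ⤳ ξ → ξ' = ξ) : ξ ∈ U := by
  obtain ⟨W, hW, hξW, hWmax⟩ := Groth.Agent.S6460.exists_nhd X ξ
  obtain ⟨y, hyW, hyU⟩ := hd.inter_open_nonempty W hW ⟨ξ, hξW⟩
  obtain ⟨ξ', -, hξ'y, hξ'ξ⟩ := hWmax y hyW
  rw [hξ ξ' hξ'ξ] at hξ'y
  exact hξ'y.mem_open hU hyU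

section lft

variable (k : Type u) [Field k] (X : Scheme.{u}) [X.Over (Spec (CommRingCat.of k))]
  [LocallyOfFiniteType (X ↘ Spec (CommRingCat.of k))]

include k in
theorem dim_dense_open (U : Set X) (hU : IsOpen U) (hd : Dense U) :
    topologicalKrullDim ↥U = topologicalKrullDim X := by
  apply le_antisymm
  · exact Topology.IsInducing.subtypeVal.topologicalKrullDim_le
  · haveI := isLocallyNoetherian k X
    have hδ' := isDimFun k X
    have hδ := isDimensionFunction_of_isDimFun hδ'
    unfold topologicalKrullDim Order.krullDim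
    refine iSup_le fun p => ?_
    have h1 := series_lower _ (Groth.Agent.S6462.strictMono_gp (td k X) hδ) p (Fin.last _)
    simp only [Fin.val_last] at h1
    have h3 := td_nonneg k X (gp (p 0))
    obtain ⟨ξ, hξmax, hξx, -⟩ := stalk_dim_exists hδ' (gp (p (Fin.last _)))
    have h4 := Groth.Agent.S6462.delta_le_of_specializes hδ' hξx
    have hξU : ξ ∈ U := mem_of_dense_of_maximal U hU hd ξ hξmax
    have h5 := le_dim_open k X ξ U hU hξU
    have h6 : (0 : WithBot ℕ∞) ≤ ringKrullDim (X.presheaf.stalk ξ) :=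
      ringKrullDim_nonneg_of_nontrivial
    have h7 : (((td k X ξ).toNat : ℕ) : WithBot ℕ∞) ≤ topologicalKrullDim ↥U :=
      le_trans (le_add_of_nonneg_left h6) h5
    refine le_trans ?_ h7
    have h8 : p.length ≤ (td k X ξ).toNat := by omega
    exact_mod_cast h8

end lft

theorem dim_affine (W : Scheme.{u}) [IsAffine W] :
    topologicalKrullDim W = ringKrullDim Γ(W, ⊤) := by
  rw [← PrimeSpectrum.topologicalKrullDim_eq_ringKrullDim]
  exact IsHomeomorph.topologicalKrullDim_eq _ (Scheme.homeoOfIso W.isoSpec).isHomeomorph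

theorem dim_affineSpace (k : Type u) [Field k] (n : ℕ) :
    topologicalKrullDim 𝔸(ULift.{u} (Fin n); Spec (CommRingCat.of k)) = n := by
  have h1 := IsHomeomorph.topologicalKrullDim_eq _
    (Scheme.homeoOfIso (AffineSpace.SpecIso (ULift.{u} (Fin n)) (CommRingCat.of k))).isHomeomorph
  rw [h1]
  show topologicalKrullDim (PrimeSpectrum (MvPolynomial (ULift.{u} (Fin n)) k)) = n
  rw [PrimeSpectrum.topologicalKrullDim_eq_ringKrullDim,
    MvPolynomial.ringKrullDim_of_isNoetherianRing, ringKrullDim_eq_zero_of_field]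
  simp

end Groth.Agent.Lib.H8DenseDim
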