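import Groth.Prelude.Def_CohB1
import Mathlib.AlgebraicGeometry.ProjectiveSpectrum.Proper

/-!
# Properness of projective space (frozen `CohB1.ProjSpace`, `CohB1.ProjSpaceOver`)
-/

set_option autoImplicit false
universe u
open CategoryTheory CategoryTheory.Limits AlgebraicGeometry

namespace Groth.Agent.Lib.ProjSpaceProper

theorem isScalarTower_polyGrading (n : ℕ) (R : Type u) [CommRing R] :
    IsScalarTower R (CohB1.polyGrading n R 0) (MvPolynomial (Fin (n + 1)) R) := by
  constructor
  intro r a x
  exact smul_mul_assoc r a.1 x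

theorem finiteType_polyGrading (n : ℕ) (R : Type u) [CommRing R] :
    Algebra.FiniteType (CohB1.polyGrading n R 0) (MvPolynomial (Fin (n + 1)) R) :=
  have := isScalarTower_polyGrading n R
  Algebra.FiniteType.of_restrictScalars_finiteType R _ _

theorem bijective_algebraMap_polyGrading_zero (n : ℕ) (R : Type u) [CommRing R] :
    Function.Bijective (algebraMap R (CohB1.polyGrading n R 0)) := by
  constructor
  · intro a b h
    have h' := congrArg Subtype.val h
    exact MvPolynomial.C_injective _ _ h'
  · rintro ⟨x, hx⟩
    have hx' : x ∈ (1 : Submodule R (MvPolynomial (Fin (n + 1)) R)) := by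
      rw [← MvPolynomial.homogeneousSubmodule_zero]; exact hx
    rw [Submodule.mem_one] at hx'
    obtain ⟨r, rfl⟩ := hx'
    exact ⟨r, Subtype.ext rfl⟩

theorem isProper_toSpec (n : ℕ) (R : Type u) [CommRing R] :
    IsProper (CohB1.ProjSpace.toSpec n R) := by
  have := finiteType_polyGrading n R
  unfold CohB1.ProjSpace.toSpec
  have h1 : IsProper (Proj.toSpecZero (CohB1.polyGrading n R)) := inferInstance
  have h2 : IsIso (CommRingCat.ofHom (algebraMap R (CohB1.polyGrading n R 0))) := by
    rw [ConcreteCategory.isIso_iff_bijective]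
    exact bijective_algebraMap_polyGrading_zero n R
  have h3 : IsIso (Spec.map (CommRingCat.ofHom (algebraMap R (CohB1.polyGrading n R 0)))) :=
    inferInstance
  have h4 : IsProper (Spec.map (CommRingCat.ofHom (algebraMap R (CohB1.polyGrading n R 0)))) :=
    inferInstance
  exact MorphismProperty.comp_mem (W := @IsProper) _ _ h1 h4

theorem isProper_toBase (n : ℕ) (S : Scheme.{u}) :
    IsProper (CohB1.ProjSpaceOver.toBase n S) := by
  have := isProper_toSpec n (ULift.{u} ℤ)
  unfold CohB1.ProjSpaceOver.toBase
  exact MorphismProperty.pullback_snd (P := @IsProper) _ _ this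

end Groth.Agent.Lib.ProjSpaceProper
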