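/-
helper84: projective completion of a quasi-projective scheme of dimension `≤ 1` over a field:
the scheme-theoretic image `Y` of an immersion `X → P^n_k`; `X → Y` is a dense, schematically
dense open immersion whose complement is a finite set of closed points.
-/
import Mathlib
import Groth.Prelude.Def_CohB1
import Groth.Agent.Lib.H8DenseDim
import Groth.Agent.Lib.DimOneTop42
import Groth.Agent.Lib.ProjSpaceProper

set_option autoImplicit false
set_option maxHeartbeats 800000
set_option linter.style.haveILetI false
universe u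
open CategoryTheory AlgebraicGeometry Opposite

namespace Groth.Agent.Lib.ProjCompl84

/-- the canonical map to the scheme-theoretic image is injective on sections -/
theorem toImage_app_injective' {X Y : Scheme.{u}} (f : X ⟶ Y) [QuasiCompact f]
    (V : f.image.Opens) : Function.Injective (f.toImage.app V) := by
  rw [injective_iff_map_eq_zero]
  intro s hs
  refine TopCat.Presheaf.section_ext (f.image.sheaf) V s 0 (fun x hx => ?_)
  apply f.stalkFunctor_toImage_injective x
  have h1 := TopCat.Presheaf.stalkFunctor_map_germ_apply V x hx f.toImage.c s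
  have h2 := TopCat.Presheaf.stalkFunctor_map_germ_apply V x hx f.toImage.c 0
  refine h1.trans (Eq.trans ?_ h2.symm)
  congr 1
  exact hs.trans (map_zero _).symm

theorem isSchemeTheoreticallyDominant_toImage {X Y : Scheme.{u}} (f : X ⟶ Y) [QuasiCompact f] :
    IsSchemeTheoreticallyDominant f.toImage := by
  constructor
  apply Scheme.IdealSheafData.ext
  funext U
  rw [Scheme.Hom.ker_apply, Scheme.IdealSheafData.ideal_bot]
  exact (RingHom.injective_iff_ker_eq_bot _).mp (toImage_app_injective' f U.1)

/-- generic points of irreducible components lie in every dense open -/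
theorem genericPoints_subset_of_dense {Y : Scheme.{u}} [IsLocallyNoetherian Y] (U : Set Y)
    (hU : IsOpen U) (hd : Dense U) (y : Y) (hy : y ∈ genericPoints Y) : y ∈ U := by
  apply Groth.Agent.Lib.H8DenseDim.mem_of_dense_of_maximal U hU hd y
  intro ξ hξ
  have h1 : closure ({y} : Set Y) ⊆ closure {ξ} := by
    apply closure_minimal _ isClosed_closure
    rw [Set.singleton_subset_iff]
    exact specializes_iff_mem_closure.mp hξ
  have h2 : closure ({ξ} : Set Y) ⊆ closure {y} := hy.2 isIrreducible_singleton.closure h1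
  have h3 : ξ ⤳ y := hξ
  have h4 : y ⤳ ξ := specializes_iff_mem_closure.mpr (h2 (subset_closure rfl))
  exact (h3.antisymm h4).eq

theorem exists_completion_of_immersion (k : Type u) [Field k] (X : Scheme.{u})
    [X.Over (Spec (CommRingCat.of k))]
    [LocallyOfFiniteType (X ↘ (Spec (CommRingCat.of k)))]
    [QuasiCompact (X ↘ (Spec (CommRingCat.of k)))] (hdim : topologicalKrullDim X ≤ 1)
    (n : ℕ) (i : X ⟶ CohB1.ProjSpace n k) [IsImmersion i]
    (hi : i ≫ CohB1.ProjSpace.toSpec n k = X ↘ (Spec (CommRingCat.of k))) :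
    ∃ (Y : Scheme.{u}) (c : Y ⟶ CohB1.ProjSpace n k) (j : X ⟶ Y), IsClosedImmersion c ∧
      IsOpenImmersion j ∧
      j ≫ c ≫ CohB1.ProjSpace.toSpec n k = X ↘ (Spec (CommRingCat.of k)) ∧
      Dense (Set.range j.base) ∧ IsSchemeTheoreticallyDominant j ∧
      (Set.range j.base)ᶜ.Finite ∧ ∀ y ∈ (Set.range j.base)ᶜ, IsClosed ({y} : Set Y) := by
  haveI hproper : IsProper (CohB1.ProjSpace.toSpec n k) :=
    Groth.Agent.Lib.ProjSpaceProper.isProper_toSpec n k
  haveI : QuasiCompact (i ≫ CohB1.ProjSpace.toSpec n k) := hi ▸ inferInstance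
  haveI : QuasiCompact i := QuasiCompact.of_comp i (CohB1.ProjSpace.toSpec n k)
  let Y := i.image
  let c : Y ⟶ CohB1.ProjSpace n k := i.imageι
  let j : X ⟶ Y := i.toImage
  have hjc : j ≫ c = i := i.toImage_imageι
  letI : Y.Over (Spec (CommRingCat.of k)) := ⟨c ≫ CohB1.ProjSpace.toSpec n k⟩
  haveI : LocallyOfFiniteType (Y ↘ (Spec (CommRingCat.of k))) := by
    change LocallyOfFiniteType (c ≫ CohB1.ProjSpace.toSpec n k)
    infer_instance
  haveI : QuasiCompact (c ≫ CohB1.ProjSpace.toSpec n k) := inferInstance
  haveI : CompactSpace Y := QuasiCompact.compactSpace_of_compactSpace (c ≫ CohB1.ProjSpace.toSpec n k)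
  haveI : IsLocallyNoetherian Y :=
    LocallyOfFiniteType.isLocallyNoetherian (c ≫ CohB1.ProjSpace.toSpec n k)
  haveI : IsNoetherian Y := {}
  have hopen : IsOpen (Set.range j.base) := j.isOpenEmbedding.isOpen_range
  have hdense : Dense (Set.range j.base) := (inferInstance : IsDominant j).denseRange
  have hdimY : topologicalKrullDim Y ≤ 1 := by
    rw [← Groth.Agent.Lib.H8DenseDim.dim_dense_open k Y (Set.range j.base) hopen hdense]
    have e : X ≃ₜ Set.range j.base := j.isOpenEmbedding.isEmbedding.toHomeomorph
    rw [← e.isHomeomorph.topologicalKrullDim_eq]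
    exact hdim
  have hG : ∀ y ∈ (Set.range j.base)ᶜ ∩ Set.univ, y ∉ genericPoints Y := by
    rintro y ⟨hy, -⟩ hgen
    exact hy (genericPoints_subset_of_dense _ hopen hdense y hgen)
  refine ⟨Y, c, j, inferInstance, inferInstance, ?_, hdense,
    isSchemeTheoreticallyDominant_toImage i, ?_, ?_⟩
  · rw [← Category.assoc, hjc, hi]
  · have := Groth.Agent.Lib.DimOneTop42.finite_of_disjoint_genericPoints hdimY
      (Set.range j.base)ᶜ Set.univ hopen.isClosed_compl isOpen_univ hG
    rwa [Set.inter_univ] at this
  · intro y hy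
    exact Groth.Agent.Lib.DimOneTop42.isClosed_singleton_of_notMem_genericPoints hdimY y
      (hG y ⟨hy, trivial⟩)

end Groth.Agent.Lib.ProjCompl84
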