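/-
helper84: scheme-theoretic images: integrality, and quasi-compact immersions with closed range
are closed immersions.
-/
import Mathlib
import Groth.Agent.Lib.ProjCompl84

set_option autoImplicit false
set_option maxHeartbeats 800000
set_option linter.style.haveILetI false
universe u
open CategoryTheory AlgebraicGeometry Opposite

namespace Groth.Agent.Lib.ImageInt84

/-- the scheme-theoretic image of a quasi-compact morphism from an integral scheme is integral -/
theorem isIntegral_image {X Y : Scheme.{u}} (f : X ⟶ Y) [QuasiCompact f] [IsIntegral X] :
    IsIntegral f.image := by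
  haveI : IrreducibleSpace f.image := by
    have hd : DenseRange f.toImage.base := (inferInstance : IsDominant f.toImage).denseRange
    have h1 : IsIrreducible (Set.range f.toImage.base) := by
      rw [← Set.image_univ]
      exact (IrreducibleSpace.isIrreducible_univ X).image _ f.toImage.continuous.continuousOn
    have h2 := h1.closure
    rw [hd.closure_range] at h2
    exact (irreducibleSpace_def _).mpr h2
  haveI : IsReduced f.image := by
    refine ⟨fun V => ?_⟩
    exact isReduced_of_injective (f.toImage.app V).hom
      (Groth.Agent.Lib.ProjCompl84.toImage_app_injective' f V)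
  exact isIntegral_of_irreducibleSpace_of_isReduced _

/-- A quasi-compact immersion with closed range is a closed immersion. -/
theorem isClosedImmersion_of_isClosed_range {X Y : Scheme.{u}} (f : X ⟶ Y) [IsImmersion f]
    [QuasiCompact f] (hcl : IsClosed (Set.range f.base)) : IsClosedImmersion f := by
  have hd : DenseRange f.toImage.base := (inferInstance : IsDominant f.toImage).denseRange
  have hr : Set.range f.toImage.base = f.imageι.base ⁻¹' (Set.range f.base) := by
    ext y
    constructor
    · rintro ⟨x, rfl⟩
      refine ⟨x, ?_⟩
      rw [← Scheme.Hom.comp_apply, f.toImage_imageι]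
    · rintro ⟨x, hx⟩
      refine ⟨x, ?_⟩
      apply f.imageι.isEmbedding.injective
      rw [← hx, ← Scheme.Hom.comp_apply, f.toImage_imageι]
  have hcl' : IsClosed (Set.range f.toImage.base) := by
    rw [hr]
    exact hcl.preimage f.imageι.continuous
  have hsurj : Function.Surjective f.toImage.base := by
    rw [← Set.range_eq_univ, ← hcl'.closure_eq]
    exact hd.closure_range
  haveI : IsIso f.toImage :=
    (isIso_iff_isOpenImmersion_and_surjective _).mpr ⟨inferInstance, ⟨hsurj⟩⟩
  rw [← f.toImage_imageι]
  infer_instance

end Groth.Agent.Lib.ImageInt84
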