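import Groth.Agent.Lib.ProjBaseChange
import Groth.Prelude.Def_CohB1
import Mathlib.RingTheory.MvPolynomial.Ideal

/-!
# Base change of projective space: `P^N_B = P^N_A ×_A Spec B` (helper90, ProperFin K1-d / BC1)
-/

set_option autoImplicit false
universe u
open CategoryTheory CategoryTheory.Limits AlgebraicGeometry CohB1 MvPolynomial

namespace Groth.Agent.Lib.H90ProjBC

variable (N : ℕ) (A B : Type u) [CommRing A] [CommRing B] [Algebra A B]

attribute [local instance] MvPolynomial.algebraMvPolynomial

/-- the graded ring map `A[x₀..x_N] → B[x₀..x_N]` -/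
noncomputable def gmap : polyGrading N A →+*ᵍ polyGrading N B where
  toRingHom := MvPolynomial.map (algebraMap A B)
  map_mem := fun {i x} hx => by
    rw [mem_homogeneousSubmodule] at hx ⊢
    exact hx.map _

theorem gmap_apply (p : MvPolynomial (Fin (N + 1)) A) :
    gmap N A B p = MvPolynomial.map (algebraMap A B) p := rfl

theorem gmap_eq_algebraMap (p : MvPolynomial (Fin (N + 1)) A) :
    gmap N A B p = algebraMap (MvPolynomial (Fin (N + 1)) A) (MvPolynomial (Fin (N + 1)) B) p := rfl

theorem X_mem_irrelevant (R : Type u) [CommRing R] (t : Fin (N + 1)) :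
    (X t : MvPolynomial (Fin (N + 1)) R) ∈ HomogeneousIdeal.irrelevant (polyGrading N R) := by
  have h1 : (X t : MvPolynomial (Fin (N + 1)) R) ∈ polyGrading N R 1 := by
    rw [mem_homogeneousSubmodule]; exact isHomogeneous_X R t
  rw [HomogeneousIdeal.mem_irrelevant_iff, GradedRing.proj_apply,
    DirectSum.decompose_of_mem_ne (polyGrading N R) h1 one_ne_zero]

theorem irrelevant_le :
    HomogeneousIdeal.irrelevant (polyGrading N B) ≤
      (HomogeneousIdeal.irrelevant (polyGrading N A)).map (gmap N A B) := by
  intro p hp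
  have h0 : coeff 0 p = 0 := by
    rw [HomogeneousIdeal.mem_irrelevant_iff, GradedRing.proj_apply] at hp
    have h1 : ((DirectSum.decompose (polyGrading N B) p 0 : polyGrading N B 0) :
        MvPolynomial (Fin (N + 1)) B) = homogeneousComponent 0 p := by
      exact MvPolynomial.decomposition.decompose'_apply p 0
    rw [h1, homogeneousComponent_zero] at hp
    exact C_injective _ _ (by rw [hp, map_zero])
  have h2 : p ∈ Ideal.span (X '' (Set.univ : Set (Fin (N + 1))) : Set (MvPolynomial (Fin (N + 1)) B)) := by
    rw [MvPolynomial.mem_ideal_span_X_image]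
    intro m hm
    by_contra hne
    push Not at hne
    have hm0 : m = 0 := by
      ext i
      exact hne i (Set.mem_univ i)
    rw [hm0, mem_support_iff] at hm
    exact hm h0
  have h3 : Ideal.span (X '' (Set.univ : Set (Fin (N + 1))) : Set (MvPolynomial (Fin (N + 1)) B)) ≤
      ((HomogeneousIdeal.irrelevant (polyGrading N A)).map (gmap N A B)).toIdeal := by
    rw [Ideal.span_le]
    rintro _ ⟨t, -, rfl⟩
    have : (X t : MvPolynomial (Fin (N + 1)) B) = gmap N A B (X t) := by
      rw [gmap_apply, map_X]
    rw [this]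
    exact Ideal.mem_map_of_mem _ (X_mem_irrelevant N A t)
  exact h3 h2

/-- the base change morphism `P^N_B ⟶ P^N_A` -/
noncomputable def β : ProjSpace N B ⟶ ProjSpace N A :=
  Proj.map (gmap N A B) (irrelevant_le N A B)

/-- **`P^N_B = P^N_A ×_{Spec A} Spec B`** -/
theorem isPullback_β :
    IsPullback (β N A B) (ProjSpace.toSpec N B) (ProjSpace.toSpec N A)
      (Spec.map (CommRingCat.ofHom (algebraMap A B))) := by
  haveI : IsScalarTower A B (MvPolynomial (Fin (N + 1)) B) := inferInstance
  exact Groth.Agent.Lib.ProjBaseChange.isPullback_proj_baseChange (polyGrading N A) (polyGrading N B)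
    (gmap N A B) (gmap_eq_algebraMap N A B) (irrelevant_le N A B)

theorem β_toSpec :
    β N A B ≫ ProjSpace.toSpec N A =
      ProjSpace.toSpec N B ≫ Spec.map (CommRingCat.ofHom (algebraMap A B)) :=
  (isPullback_β N A B).w

end Groth.Agent.Lib.H90ProjBC
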