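import Mathlib.AlgebraicGeometry.ProjectiveSpectrum.Functor
import Mathlib.AlgebraicGeometry.Morphisms.ClosedImmersion

/-!
# `Proj.map` of a graded ring hom that is surjective / bijective in high degrees

* `away_map_surjective`: if `f : 𝒜 →+*ᵍ ℬ` is surjective in all degrees `≥ n₀`, then for `s`
  homogeneous of positive degree the map `Away 𝒜 s → Away ℬ (f s)` is surjective.
* `away_map_injective`: if `f` is injective in all degrees `≥ n₀` then it is injective.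
* `isClosedImmersion_map`, `isIso_map`: consequences for `Proj.map f hf`.
-/

set_option autoImplicit false

universe u

open HomogeneousIdeal HomogeneousLocalization CategoryTheory AlgebraicGeometry Graded
open scoped HomogeneousIdeal

namespace Groth.Agent.Lib.ProjMapImm

section ring

variable {A B σ τ : Type*} [CommRing A] [SetLike σ A] [AddSubgroupClass σ A]
  [CommRing B] [SetLike τ B] [AddSubgroupClass τ B]
  {𝒜 : ℕ → σ} {ℬ : ℕ → τ} [GradedRing 𝒜] [GradedRing ℬ]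
  (f : 𝒜 →+*ᵍ ℬ)

lemma away_mk_eq_of_mul {s : A} {d : ℕ} (hs : s ∈ 𝒜 d) (n N : ℕ) (b : A) (hb : b ∈ 𝒜 (n • d))
    (hb' : b * s ^ N ∈ 𝒜 ((n + N) • d)) :
    Away.mk 𝒜 hs (n + N) (b * s ^ N) hb' = Away.mk 𝒜 hs n b hb := by
  apply HomogeneousLocalization.val_injective
  rw [Away.val_mk, Away.val_mk, Localization.mk_eq_mk_iff, Localization.r_iff_exists]
  refine ⟨1, ?_⟩
  simp only [OneMemClass.coe_one, one_mul, pow_add]
  ring

lemma away_map_surjective (n₀ : ℕ) (hsurj : ∀ k, n₀ ≤ k → ∀ y ∈ ℬ k, ∃ x ∈ 𝒜 k, f x = y)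
    {s : A} {d : ℕ} (hd : 0 < d) (hs : s ∈ 𝒜 d) :
    Function.Surjective (Away.map f s) := by
  intro y
  obtain ⟨n, b, hb, rfl⟩ := Away.mk_surjective ℬ (map_mem f hs) y
  have hb' : b * (f s) ^ n₀ ∈ ℬ ((n + n₀) • d) := by
    rw [add_smul]
    exact SetLike.mul_mem_graded hb (SetLike.pow_mem_graded n₀ (map_mem f hs))
  have hle : n₀ ≤ (n + n₀) • d := by
    rw [smul_eq_mul]
    calc n₀ ≤ n + n₀ := Nat.le_add_left _ _
      _ = (n + n₀) * 1 := (mul_one _).symm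
      _ ≤ (n + n₀) * d := Nat.mul_le_mul_left _ hd
  obtain ⟨a, ha, hfa⟩ := hsurj _ hle _ hb'
  refine ⟨Away.mk 𝒜 hs (n + n₀) a ha, ?_⟩
  rw [Away.map_mk]
  simp only [hfa]
  exact away_mk_eq_of_mul (map_mem f hs) n n₀ b hb hb'

lemma away_mk_eq_zero_iff {s : A} {d : ℕ} (hs : s ∈ 𝒜 d) (n : ℕ) (a : A) (ha : a ∈ 𝒜 (n • d)) :
    Away.mk 𝒜 hs n a ha = 0 ↔ ∃ M : ℕ, s ^ M * a = 0 := by
  rw [← (HomogeneousLocalization.val_injective (𝒜 := 𝒜) (x := Submonoid.powers s)).eq_iff,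
    Away.val_mk, HomogeneousLocalization.val_zero,
    Localization.mk_eq_mk', IsLocalization.mk'_eq_zero_iff]
  constructor
  · rintro ⟨⟨_, M, rfl⟩, h⟩
    exact ⟨M, h⟩
  · rintro ⟨M, h⟩
    exact ⟨⟨_, M, rfl⟩, h⟩

lemma away_map_injective (n₀ : ℕ) (hinj : ∀ k, n₀ ≤ k → ∀ x ∈ 𝒜 k, f x = 0 → x = 0)
    {s : A} {d : ℕ} (hd : 0 < d) (hs : s ∈ 𝒜 d) :
    Function.Injective (Away.map f s) := by
  rw [injective_iff_map_eq_zero]
  intro x hx
  obtain ⟨n, a, ha, rfl⟩ := Away.mk_surjective 𝒜 hs x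
  rw [Away.map_mk, away_mk_eq_zero_iff] at hx
  obtain ⟨M, hM⟩ := hx
  rw [away_mk_eq_zero_iff]
  refine ⟨M + n₀, ?_⟩
  have hmem : s ^ (M + n₀) * a ∈ 𝒜 ((M + n₀) • d + n • d) :=
    SetLike.mul_mem_graded (SetLike.pow_mem_graded _ hs) ha
  apply hinj _ ?_ _ hmem
  · rw [map_mul, map_pow, pow_add, mul_right_comm, hM, zero_mul]
  · rw [smul_eq_mul, smul_eq_mul]
    calc n₀ ≤ M + n₀ := Nat.le_add_left _ _
      _ = (M + n₀) * 1 := (mul_one _).symm
      _ ≤ (M + n₀) * d := Nat.mul_le_mul_left _ hd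
      _ ≤ (M + n₀) * d + n * d := Nat.le_add_right _ _

lemma away_map_fromZero (s : A) (a₀ : 𝒜 0) (b₀ : ℬ 0) (h : f (a₀ : A) = (b₀ : B)) :
    Away.map f s (fromZeroRingHom 𝒜 _ a₀) = fromZeroRingHom ℬ _ b₀ := by
  have e1 : fromZeroRingHom 𝒜 (Submonoid.powers s) a₀ =
      HomogeneousLocalization.mk ⟨0, a₀, 1, one_mem _⟩ := rfl
  have e2 : fromZeroRingHom ℬ (Submonoid.powers (f s)) b₀ =
      HomogeneousLocalization.mk ⟨0, b₀, 1, one_mem _⟩ := rfl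
  rw [e1, e2, Away.map, HomogeneousLocalization.map_mk]
  apply HomogeneousLocalization.val_injective
  rw [HomogeneousLocalization.val_mk, HomogeneousLocalization.val_mk]
  show Localization.mk (f (a₀ : A)) ⟨f ((1 : 𝒜 0) : A), _⟩ =
    Localization.mk (b₀ : B) ⟨((1 : ℬ 0) : B), _⟩
  congr 1
  apply Subtype.ext
  show f ((1 : 𝒜 0) : A) = ((1 : ℬ 0) : B)
  rw [SetLike.GradeZero.coe_one, SetLike.GradeZero.coe_one, map_one]

end ring

section scheme

variable {A B σ τ : Type u} [CommRing A] [SetLike σ A] [AddSubgroupClass σ A]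
  [CommRing B] [SetLike τ B] [AddSubgroupClass τ B]
  {𝒜 : ℕ → σ} {ℬ : ℕ → τ} [GradedRing 𝒜] [GradedRing ℬ]
  (f : 𝒜 →+*ᵍ ℬ) (hf : ℬ₊ ≤ 𝒜₊.map f)

lemma iSup_basicOpen_pos :
    ⨆ s : (Σ i : PNat, 𝒜 i), Proj.basicOpen 𝒜 (s.2 : A) = ⊤ := by
  have h := (Proj.affineOpenCover 𝒜).openCover.iSup_opensRange
  rw [← h]
  refine iSup_congr fun s => ?_
  exact (Proj.opensRange_awayι 𝒜 _ s.2.2 s.1.2).symm

/-- The restriction of `Proj.map f hf` over `D₊(s)` is isomorphic (as an arrow) to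
`Spec` of `Away.map f s`. -/
lemma restrict_iso_spec {i : ℕ} (hi : 0 < i) (s : A) (hs : s ∈ 𝒜 i) :
    Nonempty (Arrow.mk (Proj.map f hf ∣_ Proj.basicOpen 𝒜 s) ≅
      Arrow.mk (Spec.map (CommRingCat.ofHom (Away.map f s)))) := by
  refine ⟨Arrow.isoMk ((Proj ℬ).isoOfEq (Proj.map_preimage_basicOpen f hf s) ≪≫
    Proj.basicOpenIsoSpec ℬ (f s) (map_mem f hs) hi)
    (Proj.basicOpenIsoSpec 𝒜 s hs hi) ?_⟩
  have h1 := Proj.awayι_comp_map f hf hi s hs
  simp only [Arrow.mk_left, Arrow.mk_right, Arrow.mk_hom, Iso.trans_hom]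
  rw [← cancel_mono (Proj.awayι 𝒜 s hs hi)]
  simp only [Category.assoc]
  rw [← h1]
  simp only [Proj.awayι, Category.assoc, Iso.hom_inv_id_assoc, Scheme.isoOfEq_hom_ι_assoc,
    morphismRestrict_ι]

lemma of_forall_away (P : MorphismProperty Scheme.{u}) [IsZariskiLocalAtTarget P]
    (H : ∀ (i : ℕ) (_ : 0 < i) (s : A) (_ : s ∈ 𝒜 i),
      P (Spec.map (CommRingCat.ofHom (Away.map f s)))) :
    P (Proj.map f hf) := by
  refine IsZariskiLocalAtTarget.of_iSup_eq_top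
    (fun s : (Σ i : PNat, 𝒜 i) => Proj.basicOpen 𝒜 (s.2 : A)) iSup_basicOpen_pos fun s => ?_
  obtain ⟨e⟩ := restrict_iso_spec f hf s.1.2 s.2 s.2.2
  exact (P.arrow_mk_iso_iff e).mpr (H _ s.1.2 _ s.2.2)

/-- `Proj.map` of a graded ring hom which is surjective in high degrees is a closed immersion. -/
theorem isClosedImmersion_map (n₀ : ℕ)
    (hsurj : ∀ k, n₀ ≤ k → ∀ y ∈ ℬ k, ∃ x ∈ 𝒜 k, f x = y) :
    IsClosedImmersion (Proj.map f hf) := by
  refine of_forall_away f hf @IsClosedImmersion fun i hi s hs => ?_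
  exact IsClosedImmersion.spec_of_surjective _ (away_map_surjective f n₀ hsurj hi hs)

/-- `Proj.map` of a graded ring hom which is bijective in high degrees is an isomorphism. -/
theorem isIso_map (n₀ : ℕ)
    (hsurj : ∀ k, n₀ ≤ k → ∀ y ∈ ℬ k, ∃ x ∈ 𝒜 k, f x = y)
    (hinj : ∀ k, n₀ ≤ k → ∀ x ∈ 𝒜 k, f x = 0 → x = 0) :
    IsIso (Proj.map f hf) := by
  refine of_forall_away f hf (MorphismProperty.isomorphisms Scheme.{u}) fun i hi s hs => ?_
  have : IsIso (CommRingCat.ofHom (Away.map f s)) := by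
    rw [ConcreteCategory.isIso_iff_bijective]
    exact ⟨away_map_injective f n₀ hinj hi hs, away_map_surjective f n₀ hsurj hi hs⟩
  show IsIso (Spec.map (CommRingCat.ofHom (Away.map f s)))
  infer_instance

lemma awayι_map_toSpecZero {R : CommRingCat.{u}} (a : R ⟶ .of (𝒜 0)) (b : R ⟶ .of (ℬ 0))
    (h : ∀ r, f ((a.hom r : 𝒜 0) : A) = ((b.hom r : ℬ 0) : B))
    {i : ℕ} (hi : 0 < i) (s : A) (hs : s ∈ 𝒜 i) :
    Proj.awayι ℬ (f s) (map_mem f hs) hi ≫ Proj.map f hf ≫ Proj.toSpecZero 𝒜 ≫ Spec.map a =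
      Proj.awayι ℬ (f s) (map_mem f hs) hi ≫ Proj.toSpecZero ℬ ≫ Spec.map b := by
  rw [Proj.awayι_comp_map_assoc f hf hi s hs, Proj.awayι_toSpecZero_assoc,
    Proj.awayι_toSpecZero_assoc, ← Spec.map_comp, ← Spec.map_comp, ← Spec.map_comp]
  congr 1
  refine CommRingCat.hom_ext (RingHom.ext fun r => ?_)
  exact away_map_fromZero f s _ _ (h r)

/-- Compatibility of `Proj.map` with the structure morphisms to the spectrum of a common base
ring mapping to the degree-zero parts. -/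
lemma map_toSpecZero {R : CommRingCat.{u}} (a : R ⟶ .of (𝒜 0)) (b : R ⟶ .of (ℬ 0))
    (h : ∀ r, f ((a.hom r : 𝒜 0) : A) = ((b.hom r : ℬ 0) : B)) :
    Proj.map f hf ≫ Proj.toSpecZero 𝒜 ≫ Spec.map a = Proj.toSpecZero ℬ ≫ Spec.map b := by
  refine (Proj.mapAffineOpenCover f hf).openCover.hom_ext _ _ fun (s : Σ i : ℕ+, 𝒜 i) => ?_
  exact awayι_map_toSpecZero f hf a b h s.1.2 s.2 s.2.2

end scheme

end Groth.Agent.Lib.ProjMapImm
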