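/-
Lib/ProjBaseChange (helper3): `Proj` commutes with base change.

Setting: `R' → R` rings, `ℬ` a graded `R'`-algebra structure on `B`, `𝒜` a graded `R`-algebra
structure on `A`, `A = R ⊗_{R'} B` (`Algebra.IsPushout R' R B A`), `φ : ℬ →+*ᵍ 𝒜` the graded hom
underlying `algebraMap B A`.

* `awayAlgMap 𝒜 f : R →+* Away 𝒜 f`, `awayAlgebra` (local instance candidate), `degMap 𝒜 hf k`
  (`a ↦ a_{kd}/f^k`, `R`-linear), `degMap_pow_mul`, `degMap_eq_zero_iff`, `exists_degMap_eq`.
* `awayLift_bijective` : `R ⊗_{R'} B_(f) → A_(φ f)` is bijective.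
* `isPushout_away` : the square `R' → R, R' → B_(f), R → A_(φ f), B_(f) → A_(φ f)` is a pushout in
  `CommRingCat`.
* `isPullback_awayι` : chart square of `Proj.map`.
* `isPullback_proj_baseChange` : `Proj 𝒜 = Proj ℬ ×_{Spec R'} Spec R`.
-/
import Groth.Agent.Lib.ProjMapImm
import Mathlib.RingTheory.IsTensorProduct
import Mathlib.AlgebraicGeometry.Pullbacks

set_option autoImplicit false
universe u
open HomogeneousLocalization CategoryTheory AlgebraicGeometry Graded
open scoped TensorProduct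

namespace Groth.Agent.Lib.ProjBaseChange

section one
variable {R A : Type u} [CommRing R] [CommRing A] [Algebra R A] (𝒜 : ℕ → Submodule R A)
  [GradedAlgebra 𝒜]

/-- The structure map `R → A_(f)`. -/
noncomputable def awayAlgMap (f : A) : R →+* Away 𝒜 f :=
  (fromZeroRingHom 𝒜 (Submonoid.powers f)).comp (algebraMap R (𝒜 0))

lemma val_awayAlgMap (f : A) (r : R) :
    (awayAlgMap 𝒜 f r).val = Localization.mk (algebraMap R A r) 1 := by
  rfl

/-- The `R`-algebra structure on `A_(f)` (local instance). -/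
@[reducible] noncomputable def awayAlgebra (f : A) : Algebra R (Away 𝒜 f) where
  toSMul := inferInstance
  algebraMap := awayAlgMap 𝒜 f
  commutes' r x := mul_comm _ _
  smul_def' r x := by
    apply HomogeneousLocalization.val_injective
    rw [HomogeneousLocalization.val_smul, HomogeneousLocalization.val_mul, val_awayAlgMap,
      Localization.mk_one_eq_algebraMap, ← IsScalarTower.algebraMap_apply, ← Algebra.smul_def]

attribute [local instance] awayAlgebra

lemma smul_eq (f : A) (r : R) (x : Away 𝒜 f) : r • x = awayAlgMap 𝒜 f r * x :=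
  Algebra.smul_def (A := Away 𝒜 f) r x

variable {d : ℕ} {f : A} (hf : f ∈ 𝒜 d)

/-- `a ↦ a_{kd} / f^k`. -/
noncomputable def degMap (k : ℕ) : A →ₗ[R] Away 𝒜 f where
  toFun a := Away.mk 𝒜 hf k (DirectSum.decompose 𝒜 a (k • d)) (SetLike.coe_mem _)
  map_add' a b := by
    apply HomogeneousLocalization.val_injective
    rw [HomogeneousLocalization.val_add, Away.val_mk, Away.val_mk, Away.val_mk,
      Localization.add_mk_self, DirectSum.decompose_add, DirectSum.add_apply]
    rfl
  map_smul' r a := by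
    simp only [RingHom.id_apply]
    rw [smul_eq]
    apply HomogeneousLocalization.val_injective
    rw [HomogeneousLocalization.val_mul, Away.val_mk,
      Away.val_mk, val_awayAlgMap, Localization.mk_mul, one_mul,
      DirectSum.decompose_smul, DirectSum.smul_apply, ← Algebra.smul_def]
    rfl

lemma degMap_apply (k : ℕ) (a : A) :
    degMap 𝒜 hf k a = Away.mk 𝒜 hf k (DirectSum.decompose 𝒜 a (k • d)) (SetLike.coe_mem _) := rfl

lemma degMap_of_mem (k : ℕ) (a : A) (ha : a ∈ 𝒜 (k • d)) :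
    degMap 𝒜 hf k a = Away.mk 𝒜 hf k a ha := by
  rw [degMap_apply]
  congr 1
  exact DirectSum.decompose_of_mem_same 𝒜 ha

lemma exists_degMap_eq (y : Away 𝒜 f) : ∃ (k : ℕ) (a : A), degMap 𝒜 hf k a = y := by
  obtain ⟨k, a, ha, rfl⟩ := Away.mk_surjective 𝒜 hf y
  exact ⟨k, a, degMap_of_mem 𝒜 hf k a ha⟩

lemma degMap_pow_mul (k N : ℕ) (a : A) :
    degMap 𝒜 hf (k + N) (f ^ N * a) = degMap 𝒜 hf k a := by
  rw [degMap_apply, degMap_apply]
  have h1 : (k + N) • d = N • d + k • d := by rw [add_smul, add_comm]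
  have h2 : ((DirectSum.decompose 𝒜 (f ^ N * a) ((k + N) • d) : 𝒜 ((k + N) • d)) : A) =
      (DirectSum.decompose 𝒜 a (k • d) : A) * f ^ N := by
    rw [h1, DirectSum.coe_decompose_mul_add_of_left_mem 𝒜 (SetLike.pow_mem_graded N hf), mul_comm]
  have h3 := Groth.Agent.Lib.ProjMapImm.away_mk_eq_of_mul hf k N
    (DirectSum.decompose 𝒜 a (k • d) : A) (SetLike.coe_mem _) (h2 ▸ SetLike.coe_mem _)
  rw [← h3]
  congr 1

lemma degMap_eq_zero_iff (k : ℕ) (a : A) :
    degMap 𝒜 hf k a = 0 ↔ ∃ N : ℕ, f ^ N * (DirectSum.decompose 𝒜 a (k • d) : A) = 0 := by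
  rw [degMap_apply, Groth.Agent.Lib.ProjMapImm.away_mk_eq_zero_iff]

end one


section two
variable {R R' A B : Type u} [CommRing R'] [CommRing R] [Algebra R' R]
  [CommRing B] [Algebra R' B] (ℬ : ℕ → Submodule R' B) [GradedAlgebra ℬ]
  [CommRing A] [Algebra R A] [Algebra R' A] [IsScalarTower R' R A]
  (𝒜 : ℕ → Submodule R A) [GradedAlgebra 𝒜]
  [Algebra B A] [IsScalarTower R' B A]
  (φ : ℬ →+*ᵍ 𝒜) (hφA : ∀ b : B, φ b = algebraMap B A b)
  {d : ℕ} {f : B} (hf : f ∈ ℬ d)

attribute [local instance] awayAlgebra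

include hφA in
lemma awayAlgMap_comp (c : R') :
    awayAlgMap 𝒜 (φ f) (algebraMap R' R c) = Away.map φ f (awayAlgMap ℬ f c) := by
  unfold awayAlgMap
  rw [RingHom.comp_apply, RingHom.comp_apply]
  symm
  apply Groth.Agent.Lib.ProjMapImm.away_map_fromZero
  rw [hφA]
  change algebraMap B A (algebraMap R' B c) = algebraMap R A (algebraMap R' R c)
  rw [← IsScalarTower.algebraMap_apply, ← IsScalarTower.algebraMap_apply]

/-- `R'`-algebra structure on `A_(φ f)`. -/
@[reducible] noncomputable def awayAlgebra' : Algebra R' (Away 𝒜 (φ f)) :=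
  ((awayAlgMap 𝒜 (φ f)).comp (algebraMap R' R)).toAlgebra

/-- `B_(f)`-algebra structure on `A_(φ f)`. -/
@[reducible] noncomputable def awayAlgebraMap : Algebra (Away ℬ f) (Away 𝒜 (φ f)) :=
  (Away.map φ f).toAlgebra

attribute [local instance] awayAlgebra' awayAlgebraMap

instance tower1 : IsScalarTower R' R (Away 𝒜 (φ f)) :=
  IsScalarTower.of_algebraMap_eq' (R := R') (S := R) (A := Away 𝒜 (φ f)) rfl

include hφA in
lemma tower2 : IsScalarTower R' (Away ℬ f) (Away 𝒜 (φ f)) := by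
  refine IsScalarTower.of_algebraMap_eq (R := R') (S := Away ℬ f) (A := Away 𝒜 (φ f)) ?_
  intro c
  exact awayAlgMap_comp ℬ 𝒜 φ hφA c

end two


section three
variable {R R' A B : Type u} [CommRing R'] [CommRing R] [Algebra R' R]
  [CommRing B] [Algebra R' B] (ℬ : ℕ → Submodule R' B) [GradedAlgebra ℬ]
  [CommRing A] [Algebra R A] [Algebra R' A] [IsScalarTower R' R A]
  (𝒜 : ℕ → Submodule R A) [GradedAlgebra 𝒜]
  [Algebra B A] [IsScalarTower R' B A] [Algebra.IsPushout R' R B A]
  (φ : ℬ →+*ᵍ 𝒜) (hφA : ∀ b : B, φ b = algebraMap B A b)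
  {d : ℕ} {f : B} (hf : f ∈ ℬ d)

attribute [local instance] awayAlgebra awayAlgebra' awayAlgebraMap

/-- `Away.map φ f` as an `R'`-linear map. -/
noncomputable def awayLin : Away ℬ f →ₗ[R'] Away 𝒜 (φ f) where
  toFun := Away.map φ f
  map_add' := map_add _
  map_smul' c x := by
    simp only [RingHom.id_apply]
    rw [smul_eq, map_mul]
    refine Eq.trans ?_ (Algebra.smul_def c _).symm
    congr 1
    exact (awayAlgMap_comp ℬ 𝒜 φ hφA c).symm

/-- The canonical map `R ⊗ B_(f) → A_(φ f)`. -/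
noncomputable def awayLift : R ⊗[R'] Away ℬ f →ₗ[R] Away 𝒜 (φ f) :=
  LinearMap.liftBaseChange R (awayLin ℬ 𝒜 φ hφA)

lemma awayLift_tmul (r : R) (x : Away ℬ f) :
    awayLift ℬ 𝒜 φ hφA (r ⊗ₜ x) = awayAlgMap 𝒜 (φ f) r * Away.map φ f x := by
  unfold awayLift
  rw [LinearMap.liftBaseChange_tmul, smul_eq]
  rfl

lemma E_tmul (r : R) (b : B) :
    Algebra.IsPushout.equiv R' R B A (r ⊗ₜ b) = algebraMap R A r * algebraMap B A b :=
  Algebra.IsPushout.equiv_tmul R' R B A r b

include hφA in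
lemma key (k : ℕ) (s : R ⊗[R'] B) :
    awayLift ℬ 𝒜 φ hφA ((degMap ℬ hf k).baseChange R s) =
      degMap 𝒜 (map_mem φ hf) k (Algebra.IsPushout.equiv R' R B A s) := by
  induction s using TensorProduct.induction_on with
  | zero => simp
  | add x y hx hy => rw [map_add, map_add, hx, hy, map_add, map_add]
  | tmul r b =>
    rw [LinearMap.baseChange_tmul, awayLift_tmul, E_tmul, ← Algebra.smul_def, map_smul]
    rw [smul_eq]
    congr 1
    rw [degMap_apply, degMap_apply, Away.map_mk]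
    congr 1
    rw [← hφA, GradedRingHom.map_directSumDecompose]

end three


section four
variable {R R' A B : Type u} [CommRing R'] [CommRing R] [Algebra R' R]
  [CommRing B] [Algebra R' B] (ℬ : ℕ → Submodule R' B) [GradedAlgebra ℬ]
  [CommRing A] [Algebra R A] [Algebra R' A] [IsScalarTower R' R A]
  (𝒜 : ℕ → Submodule R A) [GradedAlgebra 𝒜]
  [Algebra B A] [IsScalarTower R' B A] [Algebra.IsPushout R' R B A]
  (φ : ℬ →+*ᵍ 𝒜) (hφA : ∀ b : B, φ b = algebraMap B A b)
  {d : ℕ} {f : B} (hf : f ∈ ℬ d)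

attribute [local instance] awayAlgebra awayAlgebra' awayAlgebraMap

omit [GradedAlgebra ℬ] in
lemma E_mulLeft (c : B) (s : R ⊗[R'] B) :
    Algebra.IsPushout.equiv R' R B A ((LinearMap.mulLeft R' c).baseChange R s) =
      algebraMap B A c * Algebra.IsPushout.equiv R' R B A s := by
  induction s using TensorProduct.induction_on with
  | zero => simp
  | add x y hx hy => rw [map_add, map_add, hx, hy, map_add, mul_add]
  | tmul r b =>
    rw [LinearMap.baseChange_tmul, E_tmul, E_tmul, LinearMap.mulLeft_apply, map_mul]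
    ring

include hφA in
lemma E_proj (i : ℕ) (s : R ⊗[R'] B) :
    Algebra.IsPushout.equiv R' R B A ((GradedAlgebra.proj ℬ i).baseChange R s) =
      GradedAlgebra.proj 𝒜 i (Algebra.IsPushout.equiv R' R B A s) := by
  induction s using TensorProduct.induction_on with
  | zero => simp
  | add x y hx hy => rw [map_add, map_add, hx, hy, map_add, map_add]
  | tmul r b =>
    rw [LinearMap.baseChange_tmul, E_tmul, E_tmul, ← Algebra.smul_def, ← Algebra.smul_def,
      map_smul, GradedAlgebra.proj_apply, GradedAlgebra.proj_apply, ← hφA, ← hφA,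
      GradedRingHom.map_directSumDecompose]

lemma degMap_comp_proj (k : ℕ) :
    (degMap ℬ hf k) ∘ₗ (GradedAlgebra.proj ℬ (k • d)) = degMap ℬ hf k := by
  ext b
  rw [LinearMap.comp_apply, degMap_apply, degMap_apply]
  congr 1
  rw [GradedAlgebra.proj_apply, DirectSum.decompose_coe, DirectSum.of_eq_same]

lemma degMap_comp_mulLeft (k N : ℕ) :
    (degMap ℬ hf (k + N)) ∘ₗ (LinearMap.mulLeft R' (f ^ N)) = degMap ℬ hf k := by
  ext b
  rw [LinearMap.comp_apply, LinearMap.mulLeft_apply, degMap_pow_mul]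

lemma exists_rep (t : R ⊗[R'] Away ℬ f) :
    ∃ (k : ℕ) (s : R ⊗[R'] B), t = (degMap ℬ hf k).baseChange R s := by
  induction t using TensorProduct.induction_on with
  | zero => exact ⟨0, 0, by simp⟩
  | tmul r x =>
    obtain ⟨k, b, rfl⟩ := exists_degMap_eq ℬ hf x
    exact ⟨k, r ⊗ₜ b, by rw [LinearMap.baseChange_tmul]⟩
  | add x y hx hy =>
    obtain ⟨k₁, s₁, rfl⟩ := hx
    obtain ⟨k₂, s₂, rfl⟩ := hy
    refine ⟨k₁ + k₂, (LinearMap.mulLeft R' (f ^ k₂)).baseChange R s₁ +
      (LinearMap.mulLeft R' (f ^ k₁)).baseChange R s₂, ?_⟩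
    rw [map_add, ← LinearMap.comp_apply, ← LinearMap.comp_apply, ← LinearMap.baseChange_comp,
      ← LinearMap.baseChange_comp, degMap_comp_mulLeft]
    conv_rhs => rw [Nat.add_comm k₁ k₂, degMap_comp_mulLeft]

include hφA hf in
theorem awayLift_bijective : Function.Bijective (awayLift ℬ 𝒜 φ hφA (f := f)) := by
  constructor
  · rw [injective_iff_map_eq_zero]
    intro t ht
    obtain ⟨k, s, rfl⟩ := exists_rep ℬ hf t
    rw [key ℬ 𝒜 φ hφA hf, degMap_eq_zero_iff] at ht
    obtain ⟨N, hN⟩ := ht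
    -- move to degree `(k + N) d`
    have h1 : (degMap ℬ hf k).baseChange R s =
        (degMap ℬ hf (k + N)).baseChange R
          ((GradedAlgebra.proj ℬ ((k + N) • d)).baseChange R
            ((LinearMap.mulLeft R' (f ^ N)).baseChange R s)) := by
      rw [← LinearMap.comp_apply, ← LinearMap.comp_apply, ← LinearMap.baseChange_comp,
        ← LinearMap.baseChange_comp, degMap_comp_proj, degMap_comp_mulLeft]
    have h2 : (GradedAlgebra.proj ℬ ((k + N) • d)).baseChange R
            ((LinearMap.mulLeft R' (f ^ N)).baseChange R s) = 0 := by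
      apply (Algebra.IsPushout.equiv R' R B A).injective
      rw [E_proj ℬ 𝒜 φ hφA, E_mulLeft, map_zero, GradedAlgebra.proj_apply]
      have h3 : (k + N) • d = N • d + k • d := by rw [add_smul, add_comm]
      rw [h3, DirectSum.coe_decompose_mul_add_of_left_mem 𝒜
        (show algebraMap B A (f ^ N) ∈ 𝒜 (N • d) from by
          rw [← hφA]; exact map_mem φ (SetLike.pow_mem_graded N hf)), map_pow, ← hφA]
      exact hN
    rw [h1, h2, map_zero]
  · intro y
    obtain ⟨k, a, rfl⟩ := exists_degMap_eq 𝒜 (map_mem φ hf) y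
    refine ⟨(degMap ℬ hf k).baseChange R ((Algebra.IsPushout.equiv R' R B A).symm a), ?_⟩
    rw [key ℬ 𝒜 φ hφA hf, AlgEquiv.apply_symm_apply]

include hφA hf in
theorem isPushout_away :
    IsPushout (CommRingCat.ofHom (algebraMap R' R)) (CommRingCat.ofHom (awayAlgMap ℬ f))
      (CommRingCat.ofHom (awayAlgMap 𝒜 (φ f))) (CommRingCat.ofHom (Away.map φ f)) := by
  have := tower2 ℬ 𝒜 φ hφA (f := f)
  have hbc : IsBaseChange R (awayLin ℬ 𝒜 φ hφA (f := f)) :=
    IsBaseChange.of_equiv (LinearEquiv.ofBijective _ (awayLift_bijective ℬ 𝒜 φ hφA hf))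
      (fun x => by
        rw [LinearEquiv.ofBijective_apply]
        exact LinearMap.liftBaseChange_one_tmul _ _ _)
  have : Algebra.IsPushout R' R (Away ℬ f) (Away 𝒜 (φ f)) := ⟨hbc⟩
  exact CommRingCat.isPushout_of_isPushout R' R (Away ℬ f) (Away 𝒜 (φ f))

end four


section scheme
open Limits
variable {R R' A B : Type u} [CommRing R'] [CommRing R] [Algebra R' R]
  [CommRing B] [Algebra R' B] (ℬ : ℕ → Submodule R' B) [GradedAlgebra ℬ]
  [CommRing A] [Algebra R A] [Algebra R' A] [IsScalarTower R' R A]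
  (𝒜 : ℕ → Submodule R A) [GradedAlgebra 𝒜]
  [Algebra B A] [IsScalarTower R' B A] [Algebra.IsPushout R' R B A]
  (φ : ℬ →+*ᵍ 𝒜) (hφA : ∀ b : B, φ b = algebraMap B A b)
  (hφ : HomogeneousIdeal.irrelevant 𝒜 ≤ (HomogeneousIdeal.irrelevant ℬ).map φ)

omit [Algebra R' R] [Algebra R' A] [IsScalarTower R' R A] [Algebra B A] [IsScalarTower R' B A]
  [Algebra.IsPushout R' R B A] in
lemma isPullback_awayι {d : ℕ} {f : B} (hf : f ∈ ℬ d) (hd : 0 < d) :
    IsPullback (Spec.map (CommRingCat.ofHom (Away.map φ f)))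
      (Proj.awayι 𝒜 (φ f) (map_mem φ hf) hd) (Proj.awayι ℬ f hf hd) (Proj.map φ hφ) :=
  IsOpenImmersion.isPullback _ _ _ _ (Proj.awayι_comp_map φ hφ hd f hf)
    (by rw [Proj.opensRange_awayι, Proj.opensRange_awayι, Proj.map_preimage_basicOpen])

omit [GradedAlgebra 𝒜] in
lemma awayι_toSpec {R A : Type u} [CommRing R] [CommRing A] [Algebra R A]
    (𝒜 : ℕ → Submodule R A) [GradedAlgebra 𝒜] {d : ℕ} {f : A} (hf : f ∈ 𝒜 d) (hd : 0 < d) :
    Proj.awayι 𝒜 f hf hd ≫ Proj.toSpecZero 𝒜 ≫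
        Spec.map (CommRingCat.ofHom (algebraMap R (𝒜 0))) =
      Spec.map (CommRingCat.ofHom (awayAlgMap 𝒜 f)) := by
  rw [Proj.awayι_toSpecZero_assoc, ← Spec.map_comp]
  rfl

include hφA in
theorem isPullback_proj_baseChange :
    IsPullback (Proj.map φ hφ)
      (Proj.toSpecZero 𝒜 ≫ Spec.map (CommRingCat.ofHom (algebraMap R (𝒜 0))))
      (Proj.toSpecZero ℬ ≫ Spec.map (CommRingCat.ofHom (algebraMap R' (ℬ 0))))
      (Spec.map (CommRingCat.ofHom (algebraMap R' R))) := by
  refine Scheme.isPullback_of_openCover _ _ _ _ (Proj.affineOpenCover ℬ).openCover ?_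
  rintro ⟨⟨d, hd⟩, ⟨f, hfi⟩⟩
  have hd : 0 < d := hd
  have sq := (isPullback_awayι ℬ 𝒜 φ hφ hfi hd).flip
  have hchart : IsPullback (Spec.map (CommRingCat.ofHom (Away.map φ f)))
      (Spec.map (CommRingCat.ofHom (awayAlgMap 𝒜 (φ f))))
      (Spec.map (CommRingCat.ofHom (awayAlgMap ℬ f)))
      (Spec.map (CommRingCat.ofHom (algebraMap R' R))) :=
    (isPullback_SpecMap_of_isPushout _ _ _ _ (isPushout_away ℬ 𝒜 φ hφA hfi)).flip
  refine IsPullback.of_iso hchart sq.isoPullback (Iso.refl _) (Iso.refl _) (Iso.refl _) ?_ ?_ ?_ ?_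
  · exact (Category.comp_id _).trans sq.isoPullback_hom_snd.symm
  · refine (Category.comp_id _).trans ?_
    change _ = sq.isoPullback.hom ≫ pullback.fst _ _ ≫ _
    rw [sq.isoPullback_hom_fst_assoc]
    exact (awayι_toSpec 𝒜 (map_mem φ hfi) hd).symm
  · refine (Category.comp_id _).trans ((awayι_toSpec ℬ hfi hd).symm.trans (Category.id_comp _).symm)
  · exact (Category.comp_id _).trans (Category.id_comp _).symm

end scheme

end Groth.Agent.Lib.ProjBaseChange
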