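/-
Lib/ProjClosedSub (helper3): closed subschemes of `Proj 𝒜` (with `𝒜₊` generated by finitely many
degree-one elements) are `Proj` of a graded quotient.
Ring part: `theIdeal` (homogeneous ideal cut out by chart conditions), `exists_pow_mul_mem_iff`.
Scheme part: `rho` (chart maps), `rho_eventually_zero`.
Final: `kerIdeal 𝒜 s hs1 i`, `kerIdeal_isHomogeneous`, `irrelevant_le_map_mkGraded`,
`isClosedImmersion_map_mkGraded`, `ker_eq`, `exists_iso`.
-/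
import Groth.Agent.Lib.ProjBaseChange
import Groth.Agent.Lib.GradedQuot
import Groth.Agent.Lib.ProjMapImm

set_option autoImplicit false
set_option linter.unusedSectionVars false
universe u
open HomogeneousLocalization CategoryTheory AlgebraicGeometry Graded TopologicalSpace

namespace Groth.Agent.Lib.ProjClosedSub
open Groth.Agent.Lib.ProjBaseChange Groth.Agent.Lib.GradedQuot

section ring
variable {R A : Type u} [CommRing R] [CommRing A] [Algebra R A] (𝒜 : ℕ → Submodule R A)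
  [GradedAlgebra 𝒜]

attribute [local instance] awayAlgebra

variable {f : A} (hf : f ∈ 𝒜 1)

lemma degMap_mul_of_le {m k : ℕ} (hmk : m ≤ k) {c : A} (hc : c ∈ 𝒜 (m • 1)) (a : A) :
    degMap 𝒜 hf k (c * a) = Away.mk 𝒜 hf m c hc * degMap 𝒜 hf (k - m) a := by
  apply HomogeneousLocalization.val_injective
  rw [degMap_apply, degMap_apply, HomogeneousLocalization.val_mul, Away.val_mk, Away.val_mk,
    Away.val_mk, Localization.mk_mul]
  have h1 : m • 1 ≤ k • 1 := by simpa using hmk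
  have h2 : k • 1 - m • 1 = (k - m) • 1 := by simp
  rw [DirectSum.coe_decompose_mul_of_left_mem_of_le 𝒜 hc h1, h2]
  congr 1
  apply Subtype.ext
  change f ^ k = f ^ m * f ^ (k - m)
  rw [← pow_add, Nat.add_sub_cancel' hmk]

lemma degMap_mul_of_not_le {m k : ℕ} (hmk : ¬ m ≤ k) {c : A} (hc : c ∈ 𝒜 (m • 1)) (a : A) :
    degMap 𝒜 hf k (c * a) = 0 := by
  apply HomogeneousLocalization.val_injective
  have h1 : ¬ m • 1 ≤ k • 1 := by simpa using hmk
  rw [degMap_apply, Away.val_mk, DirectSum.coe_decompose_mul_of_left_mem_of_not_le 𝒜 hc h1,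
    HomogeneousLocalization.val_zero, Localization.mk_zero]

lemma degMap_of_mem_ne {n k : ℕ} (hnk : k • 1 ≠ n) {a : A} (ha : a ∈ 𝒜 n) :
    degMap 𝒜 hf k a = 0 := by
  apply HomogeneousLocalization.val_injective
  rw [degMap_apply, Away.val_mk, DirectSum.decompose_of_mem_ne 𝒜 ha (Ne.symm hnk),
    HomogeneousLocalization.val_zero, Localization.mk_zero]

lemma degMap_decompose (n k : ℕ) (a : A) :
    degMap 𝒜 hf k (DirectSum.decompose 𝒜 a n : A) =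
      if k • 1 = n then degMap 𝒜 hf k a else 0 := by
  split_ifs with h
  · subst h
    rw [degMap_apply, degMap_apply]
    congr 1
    rw [DirectSum.decompose_coe, DirectSum.of_eq_same]
  · exact degMap_of_mem_ne 𝒜 hf h (SetLike.coe_mem _)

end ring


section ideal
variable {R A : Type u} [CommRing R] [CommRing A] [Algebra R A] (𝒜 : ℕ → Submodule R A)
  [GradedAlgebra 𝒜] (s : Finset A) (hs1 : ∀ f ∈ s, f ∈ 𝒜 1)
  (C : A → Type u) [∀ f, CommRing (C f)] (ρ : ∀ f : A, Away 𝒜 f →+* C f)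

attribute [local instance] awayAlgebra

/-- The membership predicate of the ideal cut out by the chart conditions. -/
def P (a : A) : Prop := ∀ (f : A) (hf : f ∈ s) (k : ℕ), ρ f (degMap 𝒜 (hs1 f hf) k a) = 0

lemma P_zero : P 𝒜 s hs1 C ρ 0 := fun f hf k => by rw [map_zero, map_zero]

lemma P_add {a b : A} (ha : P 𝒜 s hs1 C ρ a) (hb : P 𝒜 s hs1 C ρ b) : P 𝒜 s hs1 C ρ (a + b) :=
  fun f hf k => by rw [map_add, map_add, ha f hf k, hb f hf k, add_zero]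

lemma P_mul (c : A) {a : A} (ha : P 𝒜 s hs1 C ρ a) : P 𝒜 s hs1 C ρ (c * a) := by
  induction c using DirectSum.Decomposition.inductionOn 𝒜 with
  | zero => rw [zero_mul]; exact P_zero 𝒜 s hs1 C ρ
  | homogeneous c =>
    rename_i m
    intro f hf k
    have hc : (c : A) ∈ 𝒜 (m • 1) := by simp
    by_cases hmk : m ≤ k
    · rw [degMap_mul_of_le 𝒜 (hs1 f hf) hmk hc, map_mul, ha f hf (k - m), mul_zero]
    · rw [degMap_mul_of_not_le 𝒜 (hs1 f hf) hmk hc, map_zero]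
  | add c c' hc hc' => rw [add_mul]; exact P_add 𝒜 s hs1 C ρ hc hc'

/-- The homogeneous ideal cut out by the chart conditions. -/
def theIdeal : Ideal A where
  carrier := {a | P 𝒜 s hs1 C ρ a}
  zero_mem' := P_zero 𝒜 s hs1 C ρ
  add_mem' := fun ha hb => P_add 𝒜 s hs1 C ρ ha hb
  smul_mem' := fun c _ ha => P_mul 𝒜 s hs1 C ρ c ha

lemma mem_theIdeal {a : A} : a ∈ theIdeal 𝒜 s hs1 C ρ ↔ P 𝒜 s hs1 C ρ a := Iff.rfl

lemma theIdeal_isHomogeneous : (theIdeal 𝒜 s hs1 C ρ).IsHomogeneous 𝒜 := by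
  intro n a ha f hf k
  rw [degMap_decompose]
  split_ifs with h
  · exact ha f hf k
  · exact map_zero _

lemma mem_theIdeal_of_homogeneous {n : ℕ} {a : A} (ha : a ∈ 𝒜 (n • 1))
    (h : ∀ (f : A) (hf : f ∈ s), ρ f (Away.mk 𝒜 (hs1 f hf) n a ha) = 0) :
    a ∈ theIdeal 𝒜 s hs1 C ρ := by
  intro f hf k
  by_cases hk : k = n
  · subst hk
    rw [degMap_of_mem 𝒜 (hs1 f hf) k a ha]
    exact h f hf
  · have : k • 1 ≠ n • 1 := by simpa using hk
    rw [degMap_of_mem_ne 𝒜 (hs1 f hf) this ha, map_zero]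

end ideal


section kernel
variable {R A : Type u} [CommRing R] [CommRing A] [Algebra R A] (𝒜 : ℕ → Submodule R A)
  [GradedAlgebra 𝒜] (s : Finset A) (hs1 : ∀ f ∈ s, f ∈ 𝒜 1)
  (C : A → Type u) [∀ f, CommRing (C f)] (ρ : ∀ f : A, Away 𝒜 f →+* C f)
  (hS : ∀ (f : A) (hf : f ∈ s) (g : A) (hg : g ∈ s) (n : ℕ) (a : A) (ha : a ∈ 𝒜 (n • 1)),
    ρ f (Away.mk 𝒜 (hs1 f hf) n a ha) = 0 →
    ∃ N₀ : ℕ, ∀ N, N₀ ≤ N → ∀ (h : f ^ N * a ∈ 𝒜 ((n + N) • 1)),
      ρ g (Away.mk 𝒜 (hs1 g hg) (n + N) (f ^ N * a) h) = 0)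

attribute [local instance] awayAlgebra

include hS in
theorem exists_pow_mul_mem_iff (f : A) (hf : f ∈ s) (n : ℕ) (a : A) (ha : a ∈ 𝒜 (n • 1)) :
    (∃ N : ℕ, f ^ N * a ∈ theIdeal 𝒜 s hs1 C ρ) ↔ ρ f (Away.mk 𝒜 (hs1 f hf) n a ha) = 0 := by
  classical
  constructor
  · rintro ⟨N, hN⟩
    have := hN f hf (n + N)
    rwa [degMap_pow_mul, degMap_of_mem 𝒜 (hs1 f hf) n a ha] at this
  · intro h
    choose N₀ hN₀ using fun (g : A) (hg : g ∈ s) => hS f hf g hg n a ha h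
    let N : ℕ := s.attach.sup fun g => N₀ g.1 g.2
    have ha' : f ^ N * a ∈ 𝒜 ((n + N) • 1) := by
      have h1 : f ^ N ∈ 𝒜 (N • 1) := SetLike.pow_mem_graded N (hs1 f hf)
      have h2 := SetLike.mul_mem_graded h1 ha
      have h3 : N • 1 + n • 1 = (n + N) • 1 := by rw [add_smul, add_comm]
      rwa [h3] at h2
    refine ⟨N, mem_theIdeal_of_homogeneous 𝒜 s hs1 C ρ ha' fun g hg => ?_⟩
    exact hN₀ g hg N (Finset.le_sup (f := fun g : {x // x ∈ s} => N₀ g.1 g.2)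
      (Finset.mem_attach s ⟨g, hg⟩)) ha'

end kernel

section scheme1
variable {R A : Type u} [CommRing R] [CommRing A] [Algebra R A] (𝒜 : ℕ → Submodule R A)
  [GradedAlgebra 𝒜]

/-- `awayι g ⁻¹ (X.basicOpen (τ_g y)) = D(y)`. -/
lemma awayι_preimage_basicOpen_awayToSection {d : ℕ} {g : A} (hg : g ∈ 𝒜 d) (hd : 0 < d)
    (y : Away 𝒜 g) :
    Proj.awayι 𝒜 g hg hd ⁻¹ᵁ (Proj 𝒜).basicOpen (Proj.awayToSection 𝒜 g y) =
      PrimeSpectrum.basicOpen y := by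
  have h1 : (Proj.basicOpenIsoSpec 𝒜 g hg hd).hom ⁻¹ᵁ
      (PrimeSpectrum.basicOpen y : (Spec (CommRingCat.of (Away 𝒜 g))).Opens) =
      (Proj.basicOpen 𝒜 g).ι ⁻¹ᵁ (Proj 𝒜).basicOpen (Proj.awayToSection 𝒜 g y) := by
    rw [← Scheme.Opens.toSpecΓ_preimage_basicOpen]
    rfl
  have h2 : Proj.awayι 𝒜 g hg hd ⁻¹ᵁ (Proj 𝒜).basicOpen (Proj.awayToSection 𝒜 g y) =
      (Proj.basicOpenIsoSpec 𝒜 g hg hd).inv ⁻¹ᵁ ((Proj.basicOpen 𝒜 g).ι ⁻¹ᵁ
        (Proj 𝒜).basicOpen (Proj.awayToSection 𝒜 g y)) := rfl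
  rw [h2, ← h1]
  have h3 := Scheme.Hom.comp_preimage (Proj.basicOpenIsoSpec 𝒜 g hg hd).inv
    (Proj.basicOpenIsoSpec 𝒜 g hg hd).hom
    (PrimeSpectrum.basicOpen y : (Spec (CommRingCat.of (Away 𝒜 g))).Opens)
  refine h3.symm.trans ?_
  rw [Iso.inv_hom_id]
  rfl

lemma basicOpen_awayToSection_le {d e : ℕ} {g f : A} (hg : g ∈ 𝒜 d) (hd : 0 < d)
    (hf : f ∈ 𝒜 e) (he : 0 < e) :
    (Proj 𝒜).basicOpen (Proj.awayToSection 𝒜 g (Away.isLocalizationElem hg hf)) ≤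
      Proj.basicOpen 𝒜 f := by
  have h1 := awayι_preimage_basicOpen_awayToSection 𝒜 hg hd (Away.isLocalizationElem hg hf)
  have h2 := Proj.awayι_preimage_basicOpen 𝒜 hg hd hf he
  have hB : (Proj 𝒜).basicOpen (Proj.awayToSection 𝒜 g (Away.isLocalizationElem hg hf)) ≤
      (Proj.awayι 𝒜 g hg hd).opensRange := by
    rw [Proj.opensRange_awayι]
    exact Scheme.basicOpen_le _ _
  intro x hx
  obtain ⟨z, rfl⟩ := hB hx
  have h3 : z ∈ Proj.awayι 𝒜 g hg hd ⁻¹ᵁ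
      (Proj 𝒜).basicOpen (Proj.awayToSection 𝒜 g (Away.isLocalizationElem hg hf)) := hx
  rw [h1, ← h2] at h3
  exact h3

end scheme1


section scheme2
variable {R A : Type u} [CommRing R] [CommRing A] [Algebra R A] (𝒜 : ℕ → Submodule R A)
  [GradedAlgebra 𝒜] {Z : Scheme.{u}} (i : Z ⟶ Proj 𝒜)

/-- The chart maps `A_(h) → Γ(Z, i⁻¹ D₊(h))`. -/
noncomputable def rho (h : A) : Away 𝒜 h →+* Γ(Z, i ⁻¹ᵁ Proj.basicOpen 𝒜 h) :=
  (Proj.awayToSection 𝒜 h ≫ i.app (Proj.basicOpen 𝒜 h)).hom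

lemma rho_apply (h : A) (y : Away 𝒜 h) :
    rho 𝒜 i h y = i.app (Proj.basicOpen 𝒜 h) (Proj.awayToSection 𝒜 h y) := rfl

lemma rho_awayMap {e : ℕ} {f g x : A} (hg : g ∈ 𝒜 e) (hx : x = f * g) (y : Away 𝒜 f) :
    rho 𝒜 i x (awayMap 𝒜 hg hx y) =
      Z.presheaf.map (homOfLE (i.preimage_mono
        (Proj.basicOpen_mono _ _ _ ⟨_, hx⟩))).op (rho 𝒜 i f y) := by
  have h1 := congrArg (fun φ => (φ ≫ i.app (Proj.basicOpen 𝒜 x)).hom y)
    (Proj.awayMap_awayToSection 𝒜 hg hx)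
  simp only [Category.assoc] at h1
  rw [i.naturality] at h1
  exact h1

end scheme2


section scheme3
variable {R A : Type u} [CommRing R] [CommRing A] [Algebra R A] (𝒜 : ℕ → Submodule R A)
  [GradedAlgebra 𝒜] {Z : Scheme.{u}} (i : Z ⟶ Proj 𝒜) [QuasiCompact i]

theorem rho_eventually_zero {f g : A} (hf : f ∈ 𝒜 1) (hg : g ∈ 𝒜 1) (n : ℕ) (a : A)
    (ha : a ∈ 𝒜 (n • 1)) (h0 : rho 𝒜 i f (Away.mk 𝒜 hf n a ha) = 0) :
    ∃ N₀ : ℕ, ∀ N, N₀ ≤ N → ∀ (h : f ^ N * a ∈ 𝒜 ((n + N) • 1)),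
      rho 𝒜 i g (Away.mk 𝒜 hg (n + N) (f ^ N * a) h) = 0 := by
  have hV : IsCompact ((i ⁻¹ᵁ Proj.basicOpen 𝒜 g : Z.Opens) : Set Z) :=
    QuasiCompact.isCompact_preimage (f := i) _ (Proj.basicOpen 𝒜 g).2
      (Proj.isAffineOpen_basicOpen 𝒜 g hg one_pos).isCompact
  let y : Away 𝒜 g := Away.isLocalizationElem hg hf
  let t := rho 𝒜 i g y
  let σ := rho 𝒜 i g (Away.mk 𝒜 hg n a ha)
  have hle : Z.basicOpen t ≤ i ⁻¹ᵁ Proj.basicOpen 𝒜 (g * f) := by
    change Z.basicOpen (i.app (Proj.basicOpen 𝒜 g) (Proj.awayToSection 𝒜 g y)) ≤ _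
    rw [← Scheme.preimage_basicOpen]
    apply i.preimage_mono
    rw [Proj.basicOpen_mul]
    exact le_inf (Scheme.basicOpen_le _ _) (basicOpen_awayToSection_le 𝒜 hg one_pos hf one_pos)
  have hWV : i ⁻¹ᵁ Proj.basicOpen 𝒜 (g * f) ≤ i ⁻¹ᵁ Proj.basicOpen 𝒜 g :=
    i.preimage_mono (Proj.basicOpen_mono _ _ _ ⟨_, rfl⟩)
  have hW : Z.presheaf.map (homOfLE hWV).op σ = 0 := by
    have h1 := rho_awayMap 𝒜 i hf (rfl : g * f = g * f) (Away.mk 𝒜 hg n a ha)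
    have h2 := rho_awayMap 𝒜 i hg (mul_comm g f) (Away.mk 𝒜 hf n a ha)
    rw [h0, map_zero] at h2
    rw [awayMap_mk] at h1 h2
    change _ = Z.presheaf.map (homOfLE hWV).op σ at h1
    rw [← h1]
    -- the identity in `A_(gf)`
    have hx2 : g * f ∈ 𝒜 (1 + 1) := SetLike.mul_mem_graded hg hf
    have hu : f ^ (2 * n) ∈ 𝒜 (n • (1 + 1)) := by
      have := SetLike.pow_mem_graded (2 * n) hf
      have e : (2 * n) • 1 = n • (1 + 1) := by simp; ring
      rwa [e] at this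
    have key : Away.mk 𝒜 hx2 n (a * f ^ n)
        (by rw [smul_add]; exact SetLike.mul_mem_graded ha (SetLike.pow_mem_graded n hf)) =
        Away.mk 𝒜 hx2 n (a * g ^ n)
          (by rw [smul_add]; exact SetLike.mul_mem_graded ha (SetLike.pow_mem_graded n hg)) *
          Away.mk 𝒜 hx2 n (f ^ (2 * n)) hu := by
      apply HomogeneousLocalization.val_injective
      rw [HomogeneousLocalization.val_mul, Away.val_mk, Away.val_mk, Away.val_mk,
        Localization.mk_mul, Localization.mk_eq_mk_iff, Localization.r_iff_exists]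
      refine ⟨1, ?_⟩
      simp only [OneMemClass.coe_one, one_mul, Submonoid.coe_mul]
      ring
    rw [key, map_mul, h2, zero_mul]
  have H : σ |_ (Z.basicOpen t) = 0 := by
    have h3 : Z.presheaf.map (homOfLE hle).op (Z.presheaf.map (homOfLE hWV).op σ) = 0 := by
      rw [hW, map_zero]
    rw [← ConcreteCategory.comp_apply, ← Functor.map_comp] at h3
    exact h3
  obtain ⟨N₀, hN₀⟩ :=
    exists_pow_mul_eq_zero_of_res_basicOpen_eq_zero_of_isCompact Z hV σ t H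
  refine ⟨N₀, fun N hN h => ?_⟩
  have e1 : Away.mk 𝒜 hg (n + N) (f ^ N * a) h = y ^ N * Away.mk 𝒜 hg n a ha := by
    apply HomogeneousLocalization.val_injective
    rw [HomogeneousLocalization.val_mul, HomogeneousLocalization.val_pow, Away.val_mk, Away.val_mk,
      Away.val_mk, Localization.mk_pow, Localization.mk_mul]
    congr 1
    · rw [pow_one]
    · apply Subtype.ext
      simp only [Submonoid.coe_mul, SubmonoidClass.coe_pow]
      rw [pow_one, ← pow_add, add_comm]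
  rw [e1, map_mul, map_pow]
  change t ^ N * σ = 0
  obtain ⟨k, rfl⟩ := Nat.exists_eq_add_of_le hN
  rw [pow_add, mul_comm (t ^ N₀), mul_assoc, hN₀, mul_zero]

end scheme3

section quot
variable {R A : Type u} [CommRing R] [CommRing A] [Algebra R A] (𝒜 : ℕ → Submodule R A)
  [GradedAlgebra 𝒜] (I : Ideal A) [GradedAlgebra (quotGrading 𝒜 I)]

lemma irrelevant_le_map_mkGraded :
    HomogeneousIdeal.irrelevant (quotGrading 𝒜 I) ≤
      (HomogeneousIdeal.irrelevant 𝒜).map (mkGraded 𝒜 (I := I)) := by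
  rw [HomogeneousIdeal.irrelevant_le]
  intro k hk b hb
  obtain ⟨a, ha, rfl⟩ := (mem_quotGrading 𝒜 I).1 hb
  exact Ideal.mem_map_of_mem _ (HomogeneousIdeal.mem_irrelevant_of_mem 𝒜 hk ha)

instance isClosedImmersion_map_mkGraded :
    IsClosedImmersion (Proj.map (mkGraded 𝒜 (I := I)) (irrelevant_le_map_mkGraded 𝒜 I)) :=
  Groth.Agent.Lib.ProjMapImm.isClosedImmersion_map _ _ 0
    fun _ _ _ hy => (mem_quotGrading 𝒜 I).1 hy

lemma away_map_mkGraded_eq_zero_iff {f : A} {d : ℕ} (hf : f ∈ 𝒜 d) (n : ℕ) (a : A)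
    (ha : a ∈ 𝒜 (n • d)) :
    Away.map (mkGraded 𝒜 (I := I)) f (Away.mk 𝒜 hf n a ha) = 0 ↔ ∃ N : ℕ, f ^ N * a ∈ I := by
  rw [Away.map_mk, Groth.Agent.Lib.ProjMapImm.away_mk_eq_zero_iff]
  refine exists_congr fun N => ?_
  rw [← map_pow, ← map_mul, mkGraded_eq_zero_iff]

lemma map_mkGraded_app_eq_zero_iff {f : A} (hf : f ∈ 𝒜 1) (y : Away 𝒜 f) :
    (Proj.map (mkGraded 𝒜 (I := I)) (irrelevant_le_map_mkGraded 𝒜 I)).app (Proj.basicOpen 𝒜 f)
      (Proj.awayToSection 𝒜 f y) = 0 ↔ Away.map (mkGraded 𝒜 (I := I)) f y = 0 := by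
  have h1 := congrArg (fun φ => φ.hom y)
    (Proj.awayToSection_comp_appLE (mkGraded 𝒜 (I := I)) (irrelevant_le_map_mkGraded 𝒜 I) hf)
  simp only [CommRingCat.hom_comp, RingHom.coe_comp, Function.comp_apply,
    CommRingCat.hom_ofHom] at h1
  have hinj : Function.Injective
      (Proj.awayToSection (quotGrading 𝒜 I) (mkGraded 𝒜 (I := I) f)) :=
    ((ConcreteCategory.isIso_iff_bijective _).1
      (Proj.basicOpenIsoAway (quotGrading 𝒜 I) (mkGraded 𝒜 (I := I) f)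
        (map_mem (mkGraded 𝒜 (I := I)) hf) one_pos).isIso_hom).1
  have h2 : (Proj.map (mkGraded 𝒜 (I := I)) (irrelevant_le_map_mkGraded 𝒜 I)).app
      (Proj.basicOpen 𝒜 f) (Proj.awayToSection 𝒜 f y) =
      (Proj.awayToSection (quotGrading 𝒜 I) (mkGraded 𝒜 (I := I) f)).hom
        (Away.map (mkGraded 𝒜 (I := I)) f y) := by
    rw [Scheme.Hom.app_eq_appLE]
    exact h1
  constructor
  · intro h
    apply hinj
    rw [map_zero]
    exact h2.symm.trans h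
  · intro h
    rw [h2, h, map_zero]
    rfl

end quot

section final
variable {R A : Type u} [CommRing R] [CommRing A] [Algebra R A] (𝒜 : ℕ → Submodule R A)
  [GradedAlgebra 𝒜] (s : Finset A) (hs1 : ∀ f ∈ s, f ∈ 𝒜 1)
  {Z : Scheme.{u}} (i : Z ⟶ Proj 𝒜)

/-- The homogeneous ideal of `A` cutting out the closed subscheme `i`. -/
noncomputable def kerIdeal : Ideal A :=
  theIdeal 𝒜 s hs1 (fun h => Γ(Z, i ⁻¹ᵁ Proj.basicOpen 𝒜 h)) (rho 𝒜 i)

lemma kerIdeal_isHomogeneous : (kerIdeal 𝒜 s hs1 i).IsHomogeneous 𝒜 :=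
  theIdeal_isHomogeneous 𝒜 s hs1 _ (rho 𝒜 i)

lemma exists_pow_mul_mem_kerIdeal_iff [QuasiCompact i] (f : A) (hf : f ∈ s) (n : ℕ) (a : A)
    (ha : a ∈ 𝒜 (n • 1)) :
    (∃ N : ℕ, f ^ N * a ∈ kerIdeal 𝒜 s hs1 i) ↔
      rho 𝒜 i f (Away.mk 𝒜 (hs1 f hf) n a ha) = 0 :=
  exists_pow_mul_mem_iff 𝒜 s hs1 _ (rho 𝒜 i)
    (fun f hf g hg n a ha h0 => rho_eventually_zero 𝒜 i (hs1 f hf) (hs1 g hg) n a ha h0)
    f hf n a ha

variable (hs : (HomogeneousIdeal.irrelevant 𝒜).toIdeal = Ideal.span (s : Set A))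
  [GradedAlgebra (quotGrading 𝒜 (kerIdeal 𝒜 s hs1 i))]

include hs in
theorem ker_eq [QuasiCompact i] :
    i.ker = (Proj.map (mkGraded 𝒜 (I := kerIdeal 𝒜 s hs1 i))
      (irrelevant_le_map_mkGraded 𝒜 _)).ker := by
  refine Scheme.IdealSheafData.ext_of_iSup_eq_top
    (fun f : s => (⟨Proj.basicOpen 𝒜 f.1,
      Proj.isAffineOpen_basicOpen 𝒜 f.1 (hs1 f.1 f.2) one_pos⟩ : (Proj 𝒜).affineOpens))
    (Proj.iSup_basicOpen_eq_top 𝒜 (fun f : s => f.1) ?_) fun f => ?_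
  · rw [hs]
    apply Ideal.span_mono
    intro x hx
    exact ⟨⟨x, hx⟩, rfl⟩
  · rw [Scheme.Hom.ker_apply, Scheme.Hom.ker_apply]
    ext x
    have hsurj : Function.Surjective (Proj.awayToSection 𝒜 f.1) :=
      ((ConcreteCategory.isIso_iff_bijective _).1
        (Proj.basicOpenIsoAway 𝒜 f.1 (hs1 f.1 f.2) one_pos).isIso_hom).2
    obtain ⟨y, rfl⟩ := hsurj x
    obtain ⟨n, a, ha, rfl⟩ := Away.mk_surjective 𝒜 (hs1 f.1 f.2) y
    rw [RingHom.mem_ker, RingHom.mem_ker]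
    refine Iff.trans ?_ (map_mkGraded_app_eq_zero_iff 𝒜 _ (hs1 f.1 f.2) _).symm
    rw [away_map_mkGraded_eq_zero_iff, exists_pow_mul_mem_kerIdeal_iff 𝒜 s hs1 i f.1 f.2 n a ha]
    rfl

include hs in
theorem exists_iso [IsClosedImmersion i] :
    ∃ e : Z ≅ Proj (quotGrading 𝒜 (kerIdeal 𝒜 s hs1 i)),
      e.hom ≫ Proj.map (mkGraded 𝒜 (I := kerIdeal 𝒜 s hs1 i))
        (irrelevant_le_map_mkGraded 𝒜 _) = i := by
  have h := ker_eq 𝒜 s hs1 i hs
  have := IsClosedImmersion.isIso_lift _ i h.symm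
  exact ⟨asIso (IsClosedImmersion.lift _ i h.symm.le), IsClosedImmersion.lift_fac _ _ _⟩

end final

end Groth.Agent.Lib.ProjClosedSub
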