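import Groth.Prelude.Def_ClSub2
import Mathlib.Algebra.Category.ModuleCat.Sheaf.Limits
import Mathlib.Algebra.Homology.ShortComplex.Ab
import Mathlib.Algebra.Homology.ShortComplex.ExactFunctor
import Mathlib.CategoryTheory.Limits.Preserves.Shapes.Zero
import Mathlib.CategoryTheory.Limits.Constructions.EpiMono
import Mathlib.CategoryTheory.Limits.FunctorCategory.Basic
import Mathlib.CategoryTheory.Sites.LocallySurjective
import Mathlib.CategoryTheory.Sites.EpiMono
import Mathlib.AlgebraicGeometry.IdealSheaf.Subscheme

/-!
# O_X-module facts about ideal sheaves (`ClSub.idealMod`, `ClSub.quotMod`, `ClSub.toSubscheme`)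

Project OXMod, item M7 (helper68).

* `secFunctor U : X.Modules ⥤ Ab`: sections over `U`, left exact.
* `sections_exact`: left exactness of sections in elementwise form.
* `epi_of_locally_surjective`: a morphism of O_X-modules that is locally surjective on sections is an epimorphism.
* `unitToPush_app`, `toSubscheme_app`: the components of `ClSub.unitToPush`.
* `epi_toSubscheme`, `idealMod_shortExact`, `idealModι_injective`, `mem_range_idealModι_iff`
  (sections of `idealMod I` over an open `U` = kernel of `Γ(X,U) → Γ(Z, i⁻¹U)`; `= I.ideal U` for `U` affine).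
* `pushforward_smul`, `killedByIdeal_quotMod`.
-/

set_option autoImplicit false
universe u

open CategoryTheory CategoryTheory.Limits AlgebraicGeometry Opposite

namespace Groth.Agent.Lib.IdealMod

variable {X : Scheme.{u}}

/-- Sections over `U` as a functor to abelian groups. -/
noncomputable def secFunctor (U : X.Opens) : X.Modules ⥤ Ab.{u} :=
  Scheme.Modules.toPresheaf X ⋙ (evaluation (TopologicalSpace.Opens ↥X)ᵒᵖ Ab.{u}).obj (op U)

noncomputable instance (U : X.Opens) : PreservesFiniteLimits (secFunctor U : X.Modules ⥤ Ab.{u}) := by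
  have h1 : PreservesFiniteLimits (Scheme.Modules.toPresheaf X) := inferInstance
  have h2 : PreservesFiniteLimits
    ((evaluation (TopologicalSpace.Opens ↥X)ᵒᵖ Ab.{u}).obj (op U)) := inferInstance
  exact comp_preservesFiniteLimits (Scheme.Modules.toPresheaf X) _

instance (U : X.Opens) : (secFunctor U : X.Modules ⥤ Ab.{u}).PreservesZeroMorphisms :=
  ⟨fun _ _ => rfl⟩

theorem secFunctor_map_apply (U : X.Opens) {M N : X.Modules} (f : M ⟶ N) (s : M.val.obj (op U)) :
    (secFunctor U).map f s = f.val.app (op U) s := rfl

/-- Sections over an open are left exact: for an exact short complex `S` of O_X-modules with `S.f` mono,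
`S.f` is injective on sections over `U` and its image is the kernel of `S.g` on sections. -/
theorem sections_exact {S : ShortComplex X.Modules} (hS : S.Exact) [Mono S.f] (U : X.Opens) :
    Function.Injective (S.f.val.app (op U)) ∧
      ∀ s : S.X₂.val.obj (op U), S.g.val.app (op U) s = 0 → ∃ t, S.f.val.app (op U) t = s := by
  have h1 : (S.map (secFunctor U)).Exact :=
    hS.map_of_mono_of_preservesKernel _ inferInstance inferInstance
  have h2 : Mono ((secFunctor U).map S.f) := inferInstance
  refine ⟨?_, ?_⟩
  · exact (AddCommGrpCat.mono_iff_injective _).1 h2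
  · intro s hs
    exact (ShortComplex.ab_exact_iff _).1 h1 s hs

/-- The kernel of a morphism of O_X-modules is computed on sections. -/
theorem kernel_sections {M N : X.Modules} (φ : M ⟶ N) (U : X.Opens) :
    Function.Injective ((kernel.ι φ).val.app (op U)) ∧
      ∀ s : M.val.obj (op U), φ.val.app (op U) s = 0 ↔ ∃ t, (kernel.ι φ).val.app (op U) t = s := by
  have hS : (ShortComplex.mk (kernel.ι φ) φ (kernel.condition φ)).Exact :=
    ShortComplex.exact_of_f_is_kernel _ (kernelIsKernel φ)
  have hmono : Mono (ShortComplex.mk (kernel.ι φ) φ (kernel.condition φ)).f :=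
    inferInstanceAs (Mono (kernel.ι φ))
  obtain ⟨h1, h2⟩ := sections_exact hS U
  refine ⟨h1, fun s => ⟨h2 s, ?_⟩⟩
  rintro ⟨t, rfl⟩
  have h4 : (secFunctor U).map (kernel.ι φ ≫ φ) t = 0 := by
    rw [kernel.condition]; rfl
  rw [Functor.map_comp] at h4
  exact h4

/-- A morphism of O_X-modules which is locally surjective on sections is an epimorphism. -/
theorem epi_of_locally_surjective {M N : X.Modules} (φ : M ⟶ N)
    (h : ∀ (U : X.Opens) (s : N.val.obj (op U)) (x : X), x ∈ U →
      ∃ (V : X.Opens) (hVU : V ≤ U), x ∈ V ∧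
        ∃ t : M.val.obj (op V), φ.val.app (op V) t = N.val.map (homOfLE hVU).op s) : Epi φ := by
  let ψ := (SheafOfModules.toSheaf X.ringCatSheaf).map φ
  have hls : Sheaf.IsLocallySurjective ψ := by
    refine ⟨fun {U} s => ?_⟩
    intro x hx
    obtain ⟨V, hVU, hxV, t, ht⟩ := h U s x hx
    exact ⟨V, homOfLE hVU, ⟨t, ht⟩, hxV⟩
  have hepi : Epi ψ := Sheaf.epi_of_isLocallySurjective ψ
  have hfaith : (SheafOfModules.toSheaf.{u} X.ringCatSheaf).Faithful := inferInstance
  have hre : (SheafOfModules.toSheaf.{u} X.ringCatSheaf).ReflectsEpimorphisms :=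
    Functor.reflectsEpimorphisms_of_faithful _
  exact hre.reflects φ hepi

section Ideal

variable {Y : Scheme.{u}}

theorem unitToPush_app (f : X ⟶ Y) (U : Y.Opens) (s : Γ(Y, U)) :
    (ClSub.unitToPush f).val.app (op U) s = (f.app U).hom s := rfl

/-- Scalar multiplication on the sections of a direct image. -/
theorem pushforward_smul (f : X ⟶ Y) (N : X.Modules) (U : Y.Opens) (a : Γ(Y, U))
    (m : ((Scheme.Modules.pushforward f).obj N).val.obj (op U)) :
    a • m = ((f.app U).hom a • (show N.val.obj (op (f ⁻¹ᵁ U)) from m) :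
      N.val.obj (op (f ⁻¹ᵁ U))) := rfl

variable (I : X.IdealSheafData)

theorem toSubscheme_app (U : X.Opens) (s : Γ(X, U)) :
    (ClSub.toSubscheme I).val.app (op U) s = (I.subschemeι.app U).hom s := rfl

theorem epi_toSubscheme : Epi (ClSub.toSubscheme I) := by
  apply epi_of_locally_surjective
  intro U s x hx
  obtain ⟨V, hV, hxV, hVU'⟩ := TopologicalSpace.Opens.isBasis_iff_nbhd.1 X.isBasis_affineOpens hx
  refine ⟨V, hVU', hxV, ?_⟩
  obtain ⟨t, ht⟩ := I.subschemeι_app_surjective ⟨V, hV⟩
    (((ClSub.quotMod I).val.map (homOfLE hVU').op) s)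
  exact ⟨t, ht⟩

/-- The short exact sequence `0 → I → O_X → i_* O_Z → 0`. -/
theorem idealMod_shortExact :
    (ShortComplex.mk (ClSub.idealModι I) (ClSub.toSubscheme I)
      (kernel.condition (ClSub.toSubscheme I))).ShortExact := by
  have hS : (ShortComplex.mk (ClSub.idealModι I) (ClSub.toSubscheme I)
      (kernel.condition (ClSub.toSubscheme I))).Exact :=
    ShortComplex.exact_of_f_is_kernel _ (kernelIsKernel (ClSub.toSubscheme I))
  have h1 : Mono (ClSub.idealModι I) := inferInstanceAs (Mono (kernel.ι (ClSub.toSubscheme I)))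
  have h2 : Epi (ClSub.toSubscheme I) := epi_toSubscheme I
  exact ShortComplex.ShortExact.mk' hS h1 h2

instance mono_idealModι : Mono (ClSub.idealModι I) :=
  inferInstanceAs (Mono (kernel.ι (ClSub.toSubscheme I)))

/-- `idealModι` is injective on sections. -/
theorem idealModι_injective (U : X.Opens) :
    Function.Injective ((ClSub.idealModι I).val.app (op U)) :=
  (kernel_sections (ClSub.toSubscheme I) U).1

/-- The sections of `idealMod I` over any open `U` are the functions on `U` that vanish on the closed subscheme. -/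
theorem mem_range_idealModι_iff (U : X.Opens) (s : Γ(X, U)) :
    (∃ t : (ClSub.idealMod I).val.obj (op U), (ClSub.idealModι I).val.app (op U) t = s) ↔
      (I.subschemeι.app U).hom s = 0 :=
  ((kernel_sections (ClSub.toSubscheme I) U).2 s).symm

/-- Over an affine open `U`, the sections of `idealMod I` are the ideal `I.ideal U`. -/
theorem mem_range_idealModι_iff_of_isAffineOpen (U : X.affineOpens) (s : Γ(X, U.1)) :
    (∃ t : (ClSub.idealMod I).val.obj (op U.1), (ClSub.idealModι I).val.app (op U.1) t = s) ↔
      s ∈ I.ideal U := by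
  rw [mem_range_idealModι_iff, ← I.ker_subschemeι_app U, RingHom.mem_ker]


/-- `O_X / I` is killed by `I`. -/
theorem killedByIdeal_quotMod : ClSub.KilledByIdeal I (ClSub.quotMod I) := by
  intro U a ha m
  rw [pushforward_smul]
  have h0 : (I.subschemeι.app U.1).hom a = 0 := by
    rw [← RingHom.mem_ker, I.ker_subschemeι_app U]; exact ha
  rw [h0, zero_smul]
  rfl


end Ideal

end Groth.Agent.Lib.IdealMod
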