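import Groth.Agent.Lib.H4TwistMul
import Groth.Agent.Lib.IdealMod

/-!
# Serre twists on `Proj`: global sections `a / 1`, non-vanishing loci, ampleness of `O(1)` (helper4, OXMod M6)

* `isIso_restrict_ofSection_iff` (any scheme): `ofSection t : O_X ⟶ L` restricts to an isomorphism over `U` iff
  `t|_U` is a free generator of `L` over `U`;
* `numSec a ha k hk : Γ(O(k), ⊤)` : the global section `a / 1`, `a ∈ 𝒜 i`, `k = i`;
* `isGen_numSec_iff` : `(f/1)|_U` is a free generator of `O(d)` over `U` iff `U ≤ D₊(f)`;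
* `genLocus_ofSection_numSec` : `CohB1.genLocus O(d) (f/1) = D₊(f)`;
* `compactSpace_proj`, `isAmple_twist_one` (S3584), `exists_epi_freeMod_twist` (S4401).
-/

set_option autoImplicit false
universe u
open CategoryTheory AlgebraicGeometry TopologicalSpace Opposite Twist
open Groth.Agent.Lib.H90Invertible Groth.Agent.Lib.H4TensorPair
open Groth.Agent.Lib.StructureModule

namespace Groth.Agent.Lib.H4Twist

section General

variable {X : Scheme.{u}} (L : X.Modules)

/-- `ofSection t : O_X ⟶ L` restricts to an isomorphism over `U` iff `t|_U` is a free generator over `U`. -/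
theorem isIso_restrict_ofSection_iff (t : Γ(L, ⊤)) (U : X.Opens) :
    IsIso ((Scheme.Modules.restrictFunctor U.ι).map (ofSection t)) ↔
      IsGen L U (L.presheaf.map (homOfLE le_top).op t) := by
  have key : ∀ W : X.Opens, ∀ hW : W ≤ U,
      (fun a : Γ(X, W) => a • L.presheaf.map (homOfLE hW).op (L.presheaf.map (homOfLE le_top).op t)) =
        fun a : Γ(X, W) => (ofSection t).app W (toSec W a) := by
    intro W hW
    funext a
    rw [ofSection_app]
    congr 1
    rw [← ConcreteCategory.comp_apply, ← Functor.map_comp]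
    rfl
  constructor
  · intro h W hW
    have h1 : IsIso ((ofSection t).app W) :=
      Groth.Agent.Lib.H90OXModLocal.isIso_app_of_isIso_restrict (ofSection t) W hW
    rw [key W hW]
    exact (ConcreteCategory.isIso_iff_bijective _).mp h1
  · intro h
    rw [Scheme.Modules.Hom.isIso_iff_isIso_app]
    intro V
    change IsIso ((ofSection t).app (U.ι ''ᵁ V))
    rw [ConcreteCategory.isIso_iff_bijective]
    have := h (U.ι ''ᵁ V) (Scheme.Opens.ι_image_le U V)
    rw [key _ (Scheme.Opens.ι_image_le U V)] at this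
    exact this

theorem genLocus_ofSection (t : Γ(L, ⊤)) :
    CohB1.genLocus L (ofSection t) =
      sSup {U : X.Opens | IsGen L U (L.presheaf.map (homOfLE le_top).op t)} := by
  unfold CohB1.genLocus
  congr 1
  ext U
  exact isIso_restrict_ofSection_iff L t U

end General

variable {R A : Type u} [CommRing R] [CommRing A] [Algebra R A] {𝒜 : ℕ → Submodule R A} [GradedAlgebra 𝒜]

/-- The global section `a / 1` of `O(k)` for `a ∈ 𝒜 i`, `k = i`. -/
def numSec {a : A} {i : ℕ} (ha : a ∈ 𝒜 i) (k : ℤ) (hk : k = i) : Γ(twist 𝒜 k, ⊤) :=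
  (⟨fun x => ⟨Localization.mk a 1,
      mk_mem_twistAt x.1 (n := k) (i := i) (j := 0) (by simp [hk]) ha SetLike.GradedOne.one_mem
        (one_notMem x.1)⟩,
    fun x => ⟨⊤, x.2, 𝟙 _, i, 0, ⟨a, ha⟩, ⟨1, SetLike.GradedOne.one_mem⟩, fun y => one_notMem y.1,
      Or.inl (by simp [hk]), fun _ => rfl⟩⟩ : sectN (𝒜 := 𝒜) k (op ⊤))

@[simp] theorem sval_numSec {a : A} {i : ℕ} (ha : a ∈ 𝒜 i) (k : ℤ) (hk : k = i)
    (x : (⊤ : (Proj 𝒜).Opens)) : sval (numSec ha k hk) x = Localization.mk a 1 := rfl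

/-- Over an open where `f` vanishes nowhere, `(f ^ n) / 1` is the free generator `genAt`. -/
theorem numSec_restrict {f : A} {d : ℕ} (hfd : f ∈ 𝒜 d) (n : ℕ) {a : A} (haf : a = f ^ n) {i : ℕ}
    (ha : a ∈ 𝒜 i) (hi : i = n * d) (k : ℤ) (hk : k = i)
    {U : (Proj 𝒜).Opens} (hU : ∀ x : U, f ∉ x.1.asHomogeneousIdeal) :
    (twist 𝒜 k).presheaf.map (homOfLE (le_top : U ≤ ⊤)).op (numSec ha k hk) =
      genAt hfd hU n k (by simp [hk, hi]) := by
  refine sec_ext fun x => ?_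
  rw [sval_map, sval_numSec, sval_genAt, zpow_natCast, Units.val_pow_eq_pow_val, fUnit_val,
    Localization.mk_pow, one_pow, haf]

theorem isGen_numSec_of_le {f : A} {d : ℕ} (hfd : f ∈ 𝒜 d) (n : ℕ) {a : A} (haf : a = f ^ n) {i : ℕ}
    (ha : a ∈ 𝒜 i) (hi : i = n * d) (k : ℤ) (hk : k = i)
    {U : (Proj 𝒜).Opens} (hU : U ≤ Proj.basicOpen 𝒜 f) :
    IsGen (twist 𝒜 k) U ((twist 𝒜 k).presheaf.map (homOfLE (le_top : U ≤ ⊤)).op (numSec ha k hk)) := by
  rw [numSec_restrict hfd n haf ha hi k hk (fun x => hU x.2)]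
  exact isGen_genAt hfd _ n k _

/-- If `(a/1)|_U` generates `O(k)` over `U`, `k = deg a`, and near every point of `U` some element of degree `k`
does not vanish, then `a` vanishes nowhere on `U`. -/
theorem le_basicOpen_of_isGen_numSec {a : A} {i : ℕ} (ha : a ∈ 𝒜 i) (k : ℤ) (hk : k = i)
    (hcov : ∀ x : ProjectiveSpectrum 𝒜, ∃ g ∈ 𝒜 i, g ∉ x.asHomogeneousIdeal)
    {U : (Proj 𝒜).Opens}
    (hgen : IsGen (twist 𝒜 k) U ((twist 𝒜 k).presheaf.map (homOfLE (le_top : U ≤ ⊤)).op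
      (numSec ha k hk))) : U ≤ Proj.basicOpen 𝒜 a := by
  intro x hxU
  obtain ⟨g, hgi, hgx⟩ := hcov x
  set W : (Proj 𝒜).Opens := U ⊓ Proj.basicOpen 𝒜 g with hW
  have hWg : ∀ y : W, g ∉ y.1.asHomogeneousIdeal := fun y => y.2.2
  obtain ⟨c, hc⟩ := (hgen W inf_le_left).2 (genAt hgi hWg 1 k (by simp [hk]))
  have h1 := congrArg (fun t : Γ(twist 𝒜 k, W) => sval t (⟨x, ⟨hxU, hgx⟩⟩ : W)) hc
  simp only [sval_smul, sval_map, sval_numSec, sval_genAt, zpow_one] at h1
  have hunit : IsUnit (Localization.mk a 1 : Loc 𝒜 x) := by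
    have : IsUnit (oval c (⟨x, ⟨hxU, hgx⟩⟩ : W) * (Localization.mk a 1 : Loc 𝒜 x)) := by
      rw [h1]; exact Units.isUnit _
    exact isUnit_of_mul_isUnit_right this
  rw [Localization.mk_one_eq_algebraMap,
    IsLocalization.AtPrime.isUnit_to_map_iff (Loc 𝒜 x) x.asHomogeneousIdeal.toIdeal] at hunit
  exact hunit

/-- `CohB1.genLocus O(d) (f/1) = D₊(f)` for `f ∈ 𝒜 d`, if the `D₊(g)`, `g ∈ 𝒜 d`, cover `Proj 𝒜`. -/
theorem genLocus_ofSection_numSec {f : A} {d : ℕ} (hfd : f ∈ 𝒜 d) (k : ℤ) (hk : k = d)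
    (hcov : ∀ x : ProjectiveSpectrum 𝒜, ∃ g ∈ 𝒜 d, g ∉ x.asHomogeneousIdeal) :
    CohB1.genLocus (twist 𝒜 k) (ofSection (numSec hfd k hk)) = Proj.basicOpen 𝒜 f := by
  rw [genLocus_ofSection]
  apply le_antisymm
  · exact sSup_le fun U hU => le_basicOpen_of_isGen_numSec hfd k hk hcov hU
  · exact le_sSup (isGen_numSec_of_le hfd 1 (pow_one f).symm hfd (one_mul d).symm k hk le_rfl)

section Finite

variable (𝒜) (s : Finset A) (hs1 : ∀ f ∈ s, f ∈ 𝒜 1)
  (hs : (HomogeneousIdeal.irrelevant 𝒜).toIdeal = Ideal.span (s : Set A))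

include hs1 hs in
theorem irrelevant_eq_span_one : (HomogeneousIdeal.irrelevant 𝒜).toIdeal = Ideal.span (𝒜 1 : Set A) := by
  apply le_antisymm
  · rw [hs]
    exact Ideal.span_mono fun f hf => hs1 f hf
  · rw [Ideal.span_le]
    intro f hf
    exact (HomogeneousIdeal.mem_irrelevant_of_mem 𝒜 one_pos) hf

include hs in
theorem exists_mem_finset_notMem (x : ProjectiveSpectrum 𝒜) : ∃ f ∈ s, f ∉ x.asHomogeneousIdeal := by
  by_contra H
  simp only [not_exists, not_and, not_not] at H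
  apply x.not_irrelevant_le
  intro z hz
  have hz' : z ∈ (HomogeneousIdeal.irrelevant 𝒜).toIdeal := hz
  rw [hs] at hz'
  exact (Ideal.span_le.2 fun y hy => H y hy) hz'

include hs1 hs in
theorem compactSpace_proj : CompactSpace (Proj 𝒜) := by
  have H : ∀ i : s, IsCompact ((Proj.basicOpen 𝒜 (i : A)) : Set (Proj 𝒜)) := fun i =>
    (Proj.isAffineOpen_basicOpen 𝒜 (i : A) (hs1 _ i.2) one_pos).isCompact
  have hcov : (⋃ i : s, ((Proj.basicOpen 𝒜 (i : A)) : Set (Proj 𝒜))) = Set.univ := by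
    apply Set.eq_univ_of_forall
    intro x
    obtain ⟨f, hf, hfx⟩ := exists_mem_finset_notMem 𝒜 s hs x
    exact Set.mem_iUnion.mpr ⟨⟨f, hf⟩, hfx⟩
  constructor
  rw [← hcov]
  exact isCompact_iUnion H

include hs1 hs in
/-- `O(1)` is ample on `Proj 𝒜` when the irrelevant ideal is generated by finitely many elements of degree
one (S3584). -/
theorem isAmple_twist_one : CohB1.IsAmple (twist 𝒜 1) := by
  have hgen := irrelevant_eq_span_one 𝒜 s hs1 hs
  refine ⟨isInvertible_twist 𝒜 hgen 1, compactSpace_proj 𝒜 s hs1 hs, fun x => ?_⟩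
  obtain ⟨f, hf, hfx⟩ := exists_mem_finset_notMem 𝒜 s hs x
  obtain ⟨e⟩ := nonempty_twistPowIso 𝒜 hgen 1
  have e1 : twist 𝒜 1 ≅ twist 𝒜 ((1 : ℕ) : ℤ) := eqToIso (by simp)
  have hloc : CohB1.genLocus (CohB1.tensorPow (twist 𝒜 1) (0 + 1))
      (ofSection (numSec (hs1 f hf) 1 (by simp)) ≫ (e1 ≪≫ e).hom) = Proj.basicOpen 𝒜 f := by
    rw [Groth.Agent.Lib.H78AmpleUnit.genLocus_comp_iso]
    exact genLocus_ofSection_numSec (hs1 f hf) 1 (by simp) (exists_degree_one_notMem hgen)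
  refine ⟨0, ofSection (numSec (hs1 f hf) 1 (by simp)) ≫ (e1 ≪≫ e).hom, ?_, ?_⟩
  · rw [hloc]; exact hfx
  · rw [hloc]; exact Proj.isAffineOpen_basicOpen 𝒜 f (hs1 f hf) one_pos

end Finite

end Groth.Agent.Lib.H4Twist
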