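import Groth.Agent.Lib.H78Atlas

/-!
# helper78: products and powers of sections of invertible modules via coordinates
(namespace `Groth.Agent.Lib.H78AtlasOps`): `exists_sec_mul`, `exists_sec_pow`.
-/

set_option autoImplicit false
universe u
open CategoryTheory CategoryTheory.Limits AlgebraicGeometry MonoidalCategory Opposite TopologicalSpace
open Groth.Agent.Lib.H90Invertible Groth.Agent.Lib.StructureModule Groth.Agent.Lib.H78TensorGen
open Groth.Agent.Lib.H78SecCoord Groth.Agent.Lib.H78Atlas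

namespace Groth.Agent.Lib.H78AtlasOps

variable {X : Scheme.{u}} {P P' P'' : X.Modules} {ι : Type*} {V : ι → X.Opens}

/-- **product of sections in coordinates**: if the transition functions of `B` are
`trans A ^ N * trans A' ^ N'`, then from sections `σ`, `σ'` one gets a section `τ` with coordinates
`co σ ^ N * co σ' ^ N'`; its generating locus is the intersection of those of `σ` and `σ'` (for `N, N' ≥ 1`). -/
theorem exists_sec_mul (hV : ⨆ i, V i = ⊤) (A : Atlas P V) (A' : Atlas P' V) (B : Atlas P'' V) (N N' : ℕ)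
    (hB : ∀ i j, B.trans i j = A.trans i j ^ N * A'.trans i j ^ N') (σ : Γ(P, ⊤)) (σ' : Γ(P', ⊤)) :
    ∃ τ : Γ(P'', ⊤), (∀ i, B.co τ i = A.co σ i ^ N * A'.co σ' i ^ N') ∧
      (0 < N → 0 < N' → CohB1.genLocus P'' (ofSection τ) =
        CohB1.genLocus P (ofSection σ) ⊓ CohB1.genLocus P' (ofSection σ')) := by
  obtain ⟨τ, hτ⟩ := B.exists_sec hV (fun i => A.co σ i ^ N * A'.co σ' i ^ N') (by
    intro i j
    rw [hB i j, rf, rf, map_mul, map_mul, map_pow, map_pow, map_pow, map_pow]
    have h1 := A.co_compat σ i j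
    have h2 := A'.co_compat σ' i j
    rw [rf, rf] at h1 h2
    rw [h1, h2]
    ring)
  refine ⟨τ, hτ, fun hN hN' => opens_eq_of_cover hV (fun i => ?_)⟩
  rw [B.genLocus_inf, hτ i, Scheme.basicOpen_mul, X.basicOpen_pow _ hN, X.basicOpen_pow _ hN',
    ← A.genLocus_inf, ← A'.genLocus_inf]
  ext x
  simp only [Opens.coe_inf, Set.mem_inter_iff, SetLike.mem_coe]
  tauto

/-- **power of a section in coordinates** -/
theorem exists_sec_pow (hV : ⨆ i, V i = ⊤) (A : Atlas P V) (B : Atlas P'' V) (N : ℕ)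
    (hB : ∀ i j, B.trans i j = A.trans i j ^ N) (σ : Γ(P, ⊤)) :
    ∃ τ : Γ(P'', ⊤), (∀ i, B.co τ i = A.co σ i ^ N) ∧
      (0 < N → CohB1.genLocus P'' (ofSection τ) = CohB1.genLocus P (ofSection σ)) := by
  obtain ⟨τ, hτ⟩ := B.exists_sec hV (fun i => A.co σ i ^ N) (by
    intro i j
    rw [hB i j, rf, rf, map_pow, map_pow]
    have h1 := A.co_compat σ i j
    rw [rf, rf] at h1
    rw [h1, mul_pow])
  refine ⟨τ, hτ, fun hN => opens_eq_of_cover hV (fun i => ?_)⟩
  rw [B.genLocus_inf, hτ i, X.basicOpen_pow _ hN, ← A.genLocus_inf]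

end Groth.Agent.Lib.H78AtlasOps
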