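import Groth.Agent.Lib.H78KeyLemma
import Groth.Agent.S2327

set_option autoImplicit false
universe u
open CategoryTheory CategoryTheory.Limits AlgebraicGeometry MonoidalCategory Opposite TopologicalSpace
open Groth.Agent.Lib.H90Invertible Groth.Agent.Lib.StructureModule Groth.Agent.Lib.H78TensorGen
open Groth.Agent.Lib.H78SecCoord Groth.Agent.Lib.H78Atlas Groth.Agent.Lib.H78KeyLemma

namespace Groth.Agent.Lib.H78AmpleBasis

variable {X : Scheme.{u}}

/-- a scheme with an ample invertible module is quasi-separated -/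
theorem quasiSeparatedSpace_of_isAmple {L : X.Modules} (h : CohB1.IsAmple L) : QuasiSeparatedSpace X := by
  obtain ⟨hL, -, h3⟩ := h
  choose n s hx haff using h3
  refine Scheme.quasiSeparatedSpace_of_isOpenCover (fun x => CohB1.genLocus _ (s x)) ?_ haff (fun i j => ?_)
  · exact top_le_iff.1 (fun x _ => Opens.mem_iSup.2 ⟨x, hx x⟩)
  · have := isAffineOpen_genLocus_inf (isInvertible_tensorPow hL (n i + 1)) (s i) (haff j)
    exact this.isCompact

/-- ampleness in terms of neighbourhoods -/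
theorem isAmple_iff_nbhd [CompactSpace X] {L : X.Modules} (hL : PicF.IsInvertible L) :
    CohB1.IsAmple L ↔ ∀ (x : X) (U : X.Opens), x ∈ U →
      ∃ (n : ℕ) (s : Coh.structureModule X ⟶ CohB1.tensorPow L (n + 1)),
        x ∈ CohB1.genLocus _ s ∧ CohB1.genLocus _ s ≤ U := by
  constructor
  · intro h x U hxU
    haveI := quasiSeparatedSpace_of_isAmple h
    obtain ⟨n, s, hx, haff⟩ := h.2.2 x
    -- a basic open of the affine `X_s` inside `U`
    obtain ⟨f, hfU, hxf⟩ := haff.exists_basicOpen_le (V := U) ⟨x, hxU⟩ hx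
    obtain ⟨m, y, hy⟩ := exists_sec_genLocus_eq_basicOpen (isInvertible_tensorPow hL (n + 1)) s f
    obtain ⟨V, hxV, -, ⟨A⟩⟩ := exists_atlas hL
    have hV := iSup_eq_top_of_mem hxV
    obtain ⟨k, hk⟩ : ∃ k, k + 1 = (n + 1) * (m + 1) := ⟨(n + 1) * (m + 1) - 1, by
      have : 0 < (n + 1) * (m + 1) := Nat.mul_pos (Nat.succ_pos n) (Nat.succ_pos m)
      omega⟩
    obtain ⟨t, ht⟩ := Groth.Agent.S2327.transfer hV ((A.pow (n + 1)).pow (m + 1)) (A.pow (k + 1)) 1 one_pos (by
      intro i j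
      rw [Atlas.pow_trans, Atlas.pow_trans, Atlas.pow_trans, pow_one, ← pow_mul, hk]) y
    refine ⟨k, t, ?_, ?_⟩
    · rw [ht, hy]; exact hxf
    · rw [ht, hy]; exact hfU
  · intro h
    refine ⟨hL, inferInstance, fun x => ?_⟩
    obtain ⟨W, hW, hxW, -⟩ := Opens.isBasis_iff_nbhd.1 X.isBasis_affineOpens (show x ∈ (⊤ : X.Opens) from trivial)
    obtain ⟨n, s, hx, hsW⟩ := h x W hxW
    refine ⟨n, s, hx, ?_⟩
    have := isAffineOpen_genLocus_inf (isInvertible_tensorPow hL (n + 1)) s hW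
    rwa [inf_eq_left.2 hsW] at this

end Groth.Agent.Lib.H78AmpleBasis
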