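import Groth.Agent.Lib.H78PullAmple2
import Groth.Agent.Lib.H78AmpleBasis

/-!
# helper78: pullback of ample modules along quasi-affine morphisms (namespace `Groth.Agent.Lib.H78PullAmple`)

* `isAmple_pullback_of_quasiAffine`: `q` quasi-compact with quasi-affine preimages of affine opens, `L` ample
  ⇒ `q^*L` ample.
* `isRelAmple_comp_pullback_of_quasiAffine` (= S2355).
-/

set_option autoImplicit false
universe u
open CategoryTheory CategoryTheory.Limits AlgebraicGeometry Opposite TopologicalSpace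
open Groth.Agent.Lib.H90Invertible Groth.Agent.Lib.H78Atlas Groth.Agent.Lib.H78KeyLemma
open Groth.Agent.Lib.H78TensorGen

namespace Groth.Agent.Lib.H78PullAmple

/-- a global function on the open subscheme `U` as a function on `U` -/
noncomputable def topSec {X : Scheme.{u}} (U : X.Opens) (r : Γ(U.toScheme, ⊤)) : Γ(X, U) :=
  U.topIso.hom r

lemma ι_image_basicOpen_topSec {X : Scheme.{u}} (U : X.Opens) (r : Γ(U.toScheme, ⊤)) :
    U.ι ''ᵁ U.toScheme.basicOpen r = X.basicOpen (topSec U r) := by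
  have h := Scheme.Opens.ι_image_basicOpen_topIso_inv (U := U) (topSec U r)
  rw [topSec, Iso.hom_inv_id_apply] at h
  exact h

theorem isAmple_pullback_of_quasiAffine {X X' : Scheme.{u}} (q : X' ⟶ X) [QuasiCompact q]
    (hq : ∀ W : X.Opens, IsAffineOpen W → Scheme.IsQuasiAffine (q ⁻¹ᵁ W : Scheme.{u}))
    {L : X.Modules} (hL : CohB1.IsAmple L) :
    CohB1.IsAmple ((Scheme.Modules.pullback q).obj L) := by
  haveI : CompactSpace X := hL.2.1
  haveI : CompactSpace X' := QuasiCompact.compactSpace_of_compactSpace q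
  haveI : QuasiSeparatedSpace X := Groth.Agent.Lib.H78AmpleBasis.quasiSeparatedSpace_of_isAmple hL
  haveI : QuasiSeparated q := by
    rw [HasAffineProperty.eq_targetAffineLocally (P := @QuasiSeparated)]
    intro U
    haveI := hq U.1 U.2
    change QuasiSeparatedSpace ↥((q ⁻¹ᵁ U.1 : X'.Opens) : Scheme.{u})
    infer_instance
  haveI : QuasiSeparatedSpace X' := quasiSeparatedSpace_of_quasiSeparated q
  have hinv := isInvertible_pullback q hL.1
  refine ⟨hinv, inferInstance, fun x' => ?_⟩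
  obtain ⟨n, s, hxs, haff⟩ := hL.2.2 (q x')
  obtain ⟨s', hs'⟩ := Groth.Agent.Lib.H78PullSec.exists_pull_sec q hL.1 (n + 1) s
  haveI := hq _ haff
  -- a basic affine open of the quasi-affine scheme `q⁻¹(X_s)` around `x'`
  obtain ⟨_, ⟨r, hr, rfl⟩, hxr, -⟩ := Opens.isBasis_iff_nbhd.1
    (Scheme.IsQuasiAffine.isBasis_basicOpen (q ⁻¹ᵁ CohB1.genLocus _ s : Scheme.{u}))
    (show (⟨x', hxs⟩ : ↥((q ⁻¹ᵁ CohB1.genLocus _ s : X'.Opens) : Scheme.{u})) ∈
      (⊤ : Scheme.Opens ((q ⁻¹ᵁ CohB1.genLocus _ s : X'.Opens) : Scheme.{u})) from trivial)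
  have hr' : IsAffineOpen ((q ⁻¹ᵁ CohB1.genLocus _ s).ι ''ᵁ
      (Scheme.basicOpen (q ⁻¹ᵁ CohB1.genLocus _ s : Scheme.{u}) r)) :=
    hr.image_of_isOpenImmersion _
  rw [ι_image_basicOpen_topSec] at hr'
  have hxr' : x' ∈ X'.basicOpen (topSec _ r) := by
    rw [← ι_image_basicOpen_topSec]
    exact ⟨⟨x', hxs⟩, hxr, rfl⟩
  have hle : CohB1.genLocus _ s' ≤ q ⁻¹ᵁ CohB1.genLocus _ s := le_of_eq hs'
  obtain ⟨m, y, hy⟩ := exists_sec_genLocus_eq_basicOpen (isInvertible_tensorPow hinv (n + 1)) s'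
    (rf hle (topSec _ r))
  have hy' : CohB1.genLocus _ y = X'.basicOpen (topSec _ r) := by
    rw [hy]
    change X'.basicOpen (X'.presheaf.map (homOfLE hle).op _) = _
    rw [Scheme.basicOpen_res, inf_eq_right]
    exact (X'.basicOpen_le _).trans (le_of_eq hs'.symm)
  obtain ⟨V, hxV, -, ⟨A⟩⟩ := exists_atlas hinv
  have hV := iSup_eq_top_of_mem hxV
  obtain ⟨k, hk⟩ : ∃ k, k + 1 = (n + 1) * (m + 1) := ⟨(n + 1) * (m + 1) - 1, by
    have : 0 < (n + 1) * (m + 1) := Nat.mul_pos (Nat.succ_pos n) (Nat.succ_pos m)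
    omega⟩
  obtain ⟨t, ht⟩ := Groth.Agent.S2327.transfer hV ((A.pow (n + 1)).pow (m + 1)) (A.pow (k + 1)) 1
    one_pos (by
      intro i j
      rw [Atlas.pow_trans, Atlas.pow_trans, Atlas.pow_trans, pow_one, ← pow_mul, hk]) y
  refine ⟨k, t, ?_, ?_⟩
  · rw [ht, hy']; exact hxr'
  · rw [ht, hy']; exact hr'

/-- criterion for `g^*L` to be ample relative to `g ≫ f`, in terms of `g ∣_ f⁻¹V` -/
theorem isRelAmple_comp_pullback' {X X' Y : Scheme.{u}} (f : X ⟶ Y) (g : X' ⟶ X)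
    [QuasiCompact (g ≫ f)] (L : X.Modules)
    (h : ∀ V : Y.affineOpens, CohB1.IsAmple ((Scheme.Modules.pullback
      (g ∣_ (f ⁻¹ᵁ V.1))).obj (L.restrict (f ⁻¹ᵁ V.1).ι))) :
    RelAmple.IsRelAmple (g ≫ f) ((Scheme.Modules.pullback g).obj L) :=
  ⟨inferInstance, fun V => Groth.Agent.Lib.H78AmpleUnit.isAmple_of_iso
    (Groth.Agent.Lib.ModPullback.restrictPullbackIso g (f ⁻¹ᵁ V.1) L).symm (h V)⟩

/-- **S2355**: the pullback of a relatively ample module along a quasi-affine morphism -/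
theorem isRelAmple_comp_pullback_of_quasiAffine {X X' Y : Scheme.{u}} (f : X ⟶ Y) [QuasiCompact f]
    (g : X' ⟶ X) [QuasiCompact g]
    (hg : ∀ V : X.Opens, IsAffineOpen V → Scheme.IsQuasiAffine (g ⁻¹ᵁ V : Scheme.{u}))
    (L : X.Modules) (hL : RelAmple.IsRelAmple f L) :
    RelAmple.IsRelAmple (g ≫ f) ((Scheme.Modules.pullback g).obj L) := by
  refine isRelAmple_comp_pullback' f g L (fun V => ?_)
  refine isAmple_pullback_of_quasiAffine (g ∣_ (f ⁻¹ᵁ V.1)) (fun W hW => ?_) (hL.2 V)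
  haveI := hg _ (hW.image_of_isOpenImmersion (f ⁻¹ᵁ V.1).ι)
  let φ : (((g ∣_ (f ⁻¹ᵁ V.1)) ⁻¹ᵁ W : Scheme.Opens _) : Scheme.{u}) ≅
      ((g ⁻¹ᵁ ((f ⁻¹ᵁ V.1).ι ''ᵁ W) : X'.Opens) : Scheme.{u}) :=
    ((g ⁻¹ᵁ (f ⁻¹ᵁ V.1)).ι.isoImage ((g ∣_ (f ⁻¹ᵁ V.1)) ⁻¹ᵁ W)) ≪≫
      X'.isoOfEq (image_morphismRestrict_preimage g (f ⁻¹ᵁ V.1) W)
  exact Scheme.IsQuasiAffine.of_isAffineHom φ.hom

end Groth.Agent.Lib.H78PullAmple
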