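import Groth.Agent.Lib.IdealMod
import Groth.Agent.Lib.H90Invertible
import Mathlib.Topology.Sheaves.SheafCondition.Sites
import Mathlib.AlgebraicGeometry.Morphisms.Flat
import Mathlib.RingTheory.Flat.TorsionFree

/-!
# More O_X-module tools (OXMod M7, part 2)

* `isIso_of_bijective_on_basis`: a morphism of O_X-modules which is bijective on sections over a basis of opens
  is an isomorphism.
* `isGen_top_of_basis`, `isGen_of_basis`: helper90's `IsGen L V s` (free generator over `V`) can be checked on the
  members of a basis of opens of `X` contained in `V`.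
* `map_mem_nonZeroDivisors`: restriction between affine opens preserves nonzerodivisors.
* `idealFn I U : Γ(idealMod I, U) → Γ(X, U)` (the function underlying a section of the ideal sheaf) with
  `idealFn_map/_smul/_add/_zero/_injective/_mem`, `exists_idealFn_eq`, `exists_idealFn_eq_iff`.
* `isGen_idealMod_of_span_singleton` / `span_singleton_of_isGen_idealMod`: over an affine open `U`, a section `s` of
  `idealMod I` is a free generator over `U` iff `idealFn s` is a nonzerodivisor generating `I.ideal U`.
-/

set_option autoImplicit false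
universe u

open CategoryTheory CategoryTheory.Limits AlgebraicGeometry Opposite TopologicalSpace
open Groth.Agent.Lib.H90Invertible Groth.Agent.Lib.StructureModule

namespace Groth.Agent.Lib.IdealMod

variable {X : Scheme.{u}}

/-- A morphism of O_X-modules which is bijective on sections over a basis of opens is an isomorphism. -/
theorem isIso_of_bijective_on_basis {M N : X.Modules} (φ : M ⟶ N) {ι : Type*} (B : ι → X.Opens)
    (hB : Opens.IsBasis (Set.range B))
    (h : ∀ i, Function.Bijective (φ.val.app (op (B i)))) : IsIso φ := by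
  let ψ : (SheafOfModules.toSheaf X.ringCatSheaf).obj M ⟶ (SheafOfModules.toSheaf X.ringCatSheaf).obj N :=
    (SheafOfModules.toSheaf X.ringCatSheaf).map φ
  have hψ : IsIso ψ := by
    refine TopCat.Sheaf.isIso_iff_isIso_basis (B := B) hB (fun i => ?_)
    exact (ConcreteCategory.isIso_iff_bijective _).2 (h i)
  have h1 : IsIso ((Scheme.Modules.toPresheaf X).map φ) := by
    have : IsIso ((sheafToPresheaf _ _).map ψ) := inferInstance
    exact this
  exact isIso_of_reflects_iso φ (Scheme.Modules.toPresheaf X)

/-- A global section which is a free generator over the members of a basis is a free generator. -/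
theorem isGen_top_of_basis (M : X.Modules) (s : Γ(M, ⊤)) (B : Set X.Opens) (hB : Opens.IsBasis B)
    (h : ∀ T ∈ B, Function.Bijective
      (fun a : Γ(X, T) => a • M.presheaf.map (homOfLE (le_top : T ≤ ⊤)).op s)) :
    IsGen M ⊤ s := by
  have hiso : IsIso (H90Invertible.ofSection s) := by
    refine isIso_of_bijective_on_basis _ (fun T : B => T.1) (by simpa using hB) (fun T => ?_)
    exact h T.1 T.2
  intro W hW
  have h1 : IsIso ((H90Invertible.ofSection s).app W) :=
    Scheme.Modules.Hom.isIso_iff_isIso_app.mp hiso W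
  exact (ConcreteCategory.isIso_iff_bijective _).mp h1

/-- `IsGen L V s` can be checked on the members of a basis of opens of `X` which are contained in `V`. -/
theorem isGen_of_basis (L : X.Modules) (V : X.Opens) (s : Γ(L, V)) (B : Set X.Opens)
    (hB : Opens.IsBasis B)
    (h : ∀ T ∈ B, ∀ hle : T ≤ V, Function.Bijective
      (fun a : Γ(X, T) => a • L.presheaf.map (homOfLE hle).op s)) :
    IsGen L V s := by
  have e : V.ι ''ᵁ ⊤ = V := by
    rw [Scheme.Hom.image_top_eq_opensRange, Scheme.Opens.opensRange_ι]
  let s' : Γ(L.restrict V.ι, ⊤) := L.presheaf.map (eqToHom e).op s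
  -- the basis of `↑V` consisting of the opens whose image is in `B`
  let B' : Set (↑V : Scheme.{u}).Opens := {W | V.ι ''ᵁ W ∈ B}
  have hle' : ∀ W : (↑V : Scheme.{u}).Opens, V.ι ''ᵁ W ≤ V := fun W =>
    (V.ι.image_mono le_top).trans e.le
  have hB' : Opens.IsBasis B' := by
    rw [Opens.isBasis_iff_nbhd]
    intro W y hy
    have hy' : V.ι y ∈ V.ι ''ᵁ W := ⟨y, hy, rfl⟩
    obtain ⟨T, hT, hyT, hTW⟩ := Opens.isBasis_iff_nbhd.mp hB hy'
    have hTV : T ≤ V := hTW.trans (hle' W)
    refine ⟨V.ι ⁻¹ᵁ T, ?_, hyT, ?_⟩
    · change V.ι ''ᵁ (V.ι ⁻¹ᵁ T) ∈ B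
      rw [H90OXModLocal.ι_image_preimage_of_le hTV]
      exact hT
    · intro z hz
      obtain ⟨z', hz', e'⟩ := hTW hz
      rwa [← V.ι.isOpenEmbedding.injective e']
  have hgen : IsGen (L.restrict V.ι) ⊤ s' := by
    refine isGen_top_of_basis _ s' B' hB' (fun W hW => ?_)
    have hle : V.ι ''ᵁ W ≤ V := hle' W
    have h1 := h (V.ι ''ᵁ W) hW hle
    have h2 : Function.Bijective (V.ι.appIso W).inv :=
      (ConcreteCategory.isIso_iff_bijective (V.ι.appIso W).inv).mp inferInstance
    have key : (fun a : Γ((↑V : Scheme.{u}), W) =>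
        a • (L.restrict V.ι).presheaf.map (homOfLE (le_top : W ≤ ⊤)).op s') =
        (fun b : Γ(X, V.ι ''ᵁ W) => b • L.presheaf.map (homOfLE hle).op s) ∘ (V.ι.appIso W).inv := by
      funext a
      simp only [Function.comp_apply]
      rw [H90Invertible.restrict_smul]
      change ((V.ι.appIso W).inv a : Γ(X, V.ι ''ᵁ W)) •
        L.presheaf.map (homOfLE (V.ι.image_mono (le_top : W ≤ ⊤))).op
          (L.presheaf.map (eqToHom e).op s) = _
      congr 1
      rw [← ConcreteCategory.comp_apply, ← Functor.map_comp]
      rfl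
    rw [key]
    exact h1.comp h2
  have h3 := ((isGen_restrict_iff V.ι L ⊤ s').mp hgen).of_eq e.symm
  convert h3 using 1
  change s = L.presheaf.map _ (L.presheaf.map _ s)
  rw [← ConcreteCategory.comp_apply, ← Functor.map_comp]
  have : (eqToHom e).op ≫ (eqToHom e.symm).op = 𝟙 (op V) := rfl
  rw [this, L.presheaf.map_id]
  rfl

/-- Restriction between affine opens preserves nonzerodivisors (it is flat). -/
theorem map_mem_nonZeroDivisors {U T : X.Opens} (hU : IsAffineOpen U) (hT : IsAffineOpen T)
    (h : T ≤ U) {f : Γ(X, U)} (hf : f ∈ nonZeroDivisors Γ(X, U)) :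
    (X.presheaf.map (homOfLE h).op).hom f ∈ nonZeroDivisors Γ(X, T) := by
  have hflat : (X.presheaf.map (homOfLE h).op).hom.Flat := by
    have := Scheme.Hom.flat_appLE (f := 𝟙 X) hU hT h
    have e : (𝟙 X : X ⟶ X).appLE U T h = X.presheaf.map (homOfLE h).op := by
      simp only [Scheme.Hom.appLE, Scheme.Hom.id_app]
      exact Category.id_comp _
    rwa [e] at this
  algebraize [(X.presheaf.map (homOfLE h).op).hom]
  have hreg := Module.Flat.isSMulRegular_of_nonZeroDivisors (M := Γ(X, T)) hf
  rw [mem_nonZeroDivisors_iff_right]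
  intro a ha
  apply hreg
  change f • a = f • (0 : Γ(X, T))
  rw [smul_zero, Algebra.smul_def, mul_comm]
  exact ha

section Ideal

variable (I : X.IdealSheafData)

/-- The function on `U` underlying a section of the ideal sheaf `idealMod I` (i.e. `idealModι` on sections,
with values viewed in `Γ(X, U)`). -/
noncomputable def idealFn (U : X.Opens) (s : Γ(ClSub.idealMod I, U)) : Γ(X, U) :=
  (ClSub.idealModι I).app U s

theorem idealFn_def (U : X.Opens) (s : Γ(ClSub.idealMod I, U)) :
    toSec U (idealFn I U s) = (ClSub.idealModι I).app U s := rfl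

/-- `idealFn` commutes with restriction. -/
theorem idealFn_map {U T : X.Opens} (h : T ≤ U) (s : Γ(ClSub.idealMod I, U)) :
    idealFn I T ((ClSub.idealMod I).presheaf.map (homOfLE h).op s) =
      (X.presheaf.map (homOfLE h).op).hom (idealFn I U s) :=
  NatTrans.naturality_apply (ClSub.idealModι I).mapPresheaf (homOfLE h).op s

theorem idealFn_smul {U : X.Opens} (a : Γ(X, U)) (s : Γ(ClSub.idealMod I, U)) :
    idealFn I U (a • s) = a * idealFn I U s :=
  Scheme.Modules.Hom.app_smul _ a s

theorem idealFn_add {U : X.Opens} (s t : Γ(ClSub.idealMod I, U)) :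
    idealFn I U (s + t) = idealFn I U s + idealFn I U t :=
  map_add ((ClSub.idealModι I).app U).hom s t

theorem idealFn_zero {U : X.Opens} : idealFn I U 0 = 0 :=
  map_zero ((ClSub.idealModι I).app U).hom

theorem idealFn_injective (U : X.Opens) : Function.Injective (idealFn I U) :=
  idealModι_injective I U

/-- Over an affine open, `idealFn s ∈ I.ideal U`. -/
theorem idealFn_mem (U : X.affineOpens) (t : Γ(ClSub.idealMod I, U.1)) :
    idealFn I U.1 t ∈ I.ideal U :=
  (mem_range_idealModι_iff_of_isAffineOpen I U _).mp ⟨t, rfl⟩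

theorem exists_idealFn_eq (U : X.affineOpens) {f : Γ(X, U.1)} (hf : f ∈ I.ideal U) :
    ∃ t : Γ(ClSub.idealMod I, U.1), idealFn I U.1 t = f :=
  (mem_range_idealModι_iff_of_isAffineOpen I U f).mpr hf

/-- Over any open, a function is `idealFn` of a section iff it vanishes on the closed subscheme. -/
theorem exists_idealFn_eq_iff (U : X.Opens) (f : Γ(X, U)) :
    (∃ t : Γ(ClSub.idealMod I, U), idealFn I U t = f) ↔ (I.subschemeι.app U).hom f = 0 :=
  mem_range_idealModι_iff I U f

/-- If `I.ideal U = (f)` with `f` a nonzerodivisor on the affine open `U`, then any section `s` of `idealMod I`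
over `U` with underlying function `f` is a free generator of `idealMod I` over `U`. -/
theorem isGen_idealMod_of_span_singleton (U : X.affineOpens) (f : Γ(X, U.1))
    (hf : f ∈ nonZeroDivisors Γ(X, U.1)) (h : I.ideal U = Ideal.span {f})
    (s : Γ(ClSub.idealMod I, U.1)) (hs : idealFn I U.1 s = f) :
    IsGen (ClSub.idealMod I) U.1 s := by
  refine isGen_of_basis _ _ s X.affineOpens X.isBasis_affineOpens (fun T hT hle => ?_)
  set fT := (X.presheaf.map (homOfLE hle).op).hom f with hfT
  have hnzd : fT ∈ nonZeroDivisors Γ(X, T) := map_mem_nonZeroDivisors U.2 hT hle hf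
  have hsT : idealFn I T ((ClSub.idealMod I).presheaf.map (homOfLE hle).op s) = fT := by
    rw [idealFn_map, hs]
  have hI : I.ideal ⟨T, hT⟩ = Ideal.span {fT} := by
    rw [← I.map_ideal (U := ⟨T, hT⟩) (V := U) hle, h, Ideal.map_span, Set.image_singleton]
    rfl
  constructor
  · intro a b hab
    have h1 : idealFn I T (a • (ClSub.idealMod I).presheaf.map (homOfLE hle).op s) =
        idealFn I T (b • (ClSub.idealMod I).presheaf.map (homOfLE hle).op s) := congrArg _ hab
    rw [idealFn_smul, idealFn_smul, hsT] at h1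
    have h2 : (a - b) * fT = 0 := by rw [sub_mul, h1, sub_self]
    exact sub_eq_zero.mp ((mem_nonZeroDivisors_iff_right.mp hnzd) _ h2)
  · intro t
    have h1 : idealFn I T t ∈ I.ideal ⟨T, hT⟩ := idealFn_mem I ⟨T, hT⟩ t
    rw [hI, Ideal.mem_span_singleton'] at h1
    obtain ⟨a, ha⟩ := h1
    refine ⟨a, idealFn_injective I T ?_⟩
    change idealFn I T (a • (ClSub.idealMod I).presheaf.map (homOfLE hle).op s) = _
    rw [idealFn_smul, hsT, ha]

/-- Conversely, if `s` is a free generator of `idealMod I` over an affine open `U`, then its underlying function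
`f` is a nonzerodivisor and `I.ideal U = (f)`. -/
theorem span_singleton_of_isGen_idealMod (U : X.affineOpens) (s : Γ(ClSub.idealMod I, U.1))
    (hs : IsGen (ClSub.idealMod I) U.1 s) :
    idealFn I U.1 s ∈ nonZeroDivisors Γ(X, U.1) ∧ I.ideal U = Ideal.span {idealFn I U.1 s} := by
  have hb := hs U.1 le_rfl
  have hid : (ClSub.idealMod I).presheaf.map (homOfLE (le_refl U.1)).op s = s := by
    have : (homOfLE (le_refl U.1)).op = 𝟙 (op U.1) := rfl
    rw [this, (ClSub.idealMod I).presheaf.map_id]
    rfl
  rw [hid] at hb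
  constructor
  · rw [mem_nonZeroDivisors_iff_right]
    intro a ha
    have h1 : idealFn I U.1 (a • s) = idealFn I U.1 ((0 : Γ(X, U.1)) • s) := by
      rw [idealFn_smul, idealFn_smul, ha, zero_mul]
    exact hb.1 (idealFn_injective I U.1 h1)
  · apply le_antisymm
    · intro g hg
      obtain ⟨t, ht⟩ := exists_idealFn_eq I U hg
      obtain ⟨a, ha⟩ := hb.2 t
      rw [Ideal.mem_span_singleton']
      refine ⟨a, ?_⟩
      rw [← ht, ← ha, idealFn_smul]
    · rw [Ideal.span_singleton_le_iff_mem]
      exact idealFn_mem I U s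

end Ideal

end Groth.Agent.Lib.IdealMod
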