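import Groth.Agent.Lib.ModPullback
import Groth.Agent.Lib.TildePullback
import Groth.Agent.Lib.H90OXModAffine

set_option autoImplicit false
universe u
open CategoryTheory CategoryTheory.Limits AlgebraicGeometry TopologicalSpace Opposite
open AlgebraicGeometry.Scheme AlgebraicGeometry.Scheme.Modules

namespace Groth.Agent.Lib.PullbackAffine

variable {X Y : Scheme.{u}}

set_option backward.isDefEq.respectTransparency false in
/-- Presentations pull back. -/
noncomputable def pullbackPresentation (g : X ⟶ Y) {N : Y.Modules} (P : N.Presentation) :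
    ((Scheme.Modules.pullback g).obj N).Presentation :=
  haveI : PreservesColimitsOfSize.{u, u} (Scheme.Modules.pullback g) :=
    (Scheme.Modules.pullbackPushforwardAdjunction g).leftAdjoint_preservesColimits
  P.map (Scheme.Modules.pullback g) (Groth.Agent.Lib.ModPullback.pullbackUnitIso g)

set_option backward.isDefEq.respectTransparency false in
/-- The pullback of a quasi-coherent module is quasi-coherent. -/
instance isQuasicoherent_pullback (f : X ⟶ Y) (G : Y.Modules) [G.IsQuasicoherent] :
    ((Scheme.Modules.pullback f).obj G).IsQuasicoherent := by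
  obtain ⟨ι, V, P, hV, -⟩ := G.exists_isOpenCover_presentation
  refine Groth.Agent.Lib.H90Invertible.isQuasicoherent_of_cover _ (fun i => f ⁻¹ᵁ V i) ?_
    fun i => ?_
  · exact hV.comap f.base.hom
  · exact (pullbackPresentation (f ∣_ V i) (P i)).ofIsIso
      (Groth.Agent.Lib.ModPullback.restrictPullbackIso f (V i) G).inv


section affine

open Groth.Agent.Lib.H90OXModAffine Groth.Agent.Lib.TildePullback TensorProduct

variable (f : X ⟶ Y) (G : Y.Modules) {U : X.Opens} {V : Y.Opens}
  (hU : IsAffineOpen U) (hV : IsAffineOpen V) (e : U ≤ f ⁻¹ᵁ V)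

/-- The restriction of `f^* G` to an affine chart `Spec Γ(X, U)`, where `f U ⊆ V` with `V` affine,
is the pullback along `Spec Γ(X, U) ⟶ Spec Γ(Y, V)` of the restriction of `G` to `Spec Γ(Y, V)`. -/
noncomputable def restrictPullbackFromSpecIso :
    ((Scheme.Modules.pullback f).obj G).restrict hU.fromSpec ≅
      (Scheme.Modules.pullback (Spec.map (f.appLE V U e))).obj (G.restrict hV.fromSpec) :=
  (restrictFunctorIsoPullback hU.fromSpec).app _ ≪≫
    (pullbackComp hU.fromSpec f).app G ≪≫
    (pullbackCongr (hV.SpecMap_appLE_fromSpec f hU e).symm).app G ≪≫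
    ((pullbackComp (Spec.map (f.appLE V U e)) hV.fromSpec).app G).symm ≪≫
    (Scheme.Modules.pullback (Spec.map (f.appLE V U e))).mapIso
      ((restrictFunctorIsoPullback hV.fromSpec).app G).symm

variable [G.IsQuasicoherent]

/-- The restriction of `f^* G` to an affine chart is the `tilde` of a base change. -/
noncomputable def restrictPullbackIsoTilde :
    ((Scheme.Modules.pullback f).obj G).restrict hU.fromSpec ≅
      tilde ((ModuleCat.extendScalars (f.appLE V U e).hom).obj (ΓSpec (G.restrict hV.fromSpec))) :=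
  restrictPullbackFromSpecIso f G hU hV e ≪≫
    (Scheme.Modules.pullback (Spec.map (f.appLE V U e))).mapIso
      (asIso (G.restrict hV.fromSpec).fromTildeΓ).symm ≪≫
    ((tildePullbackIso (f.appLE V U e)).app (ΓSpec (G.restrict hV.fromSpec))).symm

/-- Sections of `f^* G` over an affine `U` with `f U ⊆ V` affine, as the extension of scalars
of the global sections of `G|_{Spec Γ(Y,V)}`. -/
noncomputable def sectionsPullbackEquivExtend :
    Γ((Scheme.Modules.pullback f).obj G, U) ≃ₗ[Γ(X, U)]
      ((ModuleCat.extendScalars (f.appLE V U e).hom).obj (ΓSpec (G.restrict hV.fromSpec))) :=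
  sectionsEquiv _ hU ≪≫ₗ
    ((moduleSpecΓFunctor (R := Γ(X, U))).mapIso (restrictPullbackIsoTilde f G hU hV e) ≪≫
      (tilde.isoTop _).symm).toLinearEquiv

/-- **Sections of a pullback on affines are a base change.** For `f : X ⟶ Y`, `G` quasi-coherent on
`Y`, affine opens `U ⊆ X`, `V ⊆ Y` with `f U ⊆ V`: `Γ(f^* G, U) ≃ Γ(X, U) ⊗[Γ(Y, V)] Γ(G, V)`,
linearly over `Γ(X, U)`. -/
noncomputable def sectionsPullbackEquiv :
    letI := (f.appLE V U e).hom.toAlgebra
    Γ((Scheme.Modules.pullback f).obj G, U) ≃ₗ[Γ(X, U)] (Γ(X, U) ⊗[Γ(Y, V)] Γ(G, V)) :=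
  letI := (f.appLE V U e).hom.toAlgebra
  sectionsPullbackEquivExtend f G hU hV e ≪≫ₗ
    extendScalarsEquiv Γ(Y, V) Γ(X, U) (ΓSpec (G.restrict hV.fromSpec)) ≪≫ₗ
    TensorProduct.AlgebraTensorModule.congr (LinearEquiv.refl Γ(X, U) Γ(X, U))
      (sectionsEquiv G hV).symm

end affine

end Groth.Agent.Lib.PullbackAffine
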