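/-
helper3: pulling back sections of modules along `h : X ⟶ Y` (the unit of the pullback–pushforward adjunction,
`ProjUP.pullSec`), on top of helper42's `Lib/UnitBaseChange`.
* `unitV h G V : Γ(G, V) → Γ(h^*G, h⁻¹V)`, `pullSec_eq`, `unitV_smul`, `unitV_add`, `unitV_res`;
* `bijective_smul_unitSec`, `isGen_unitV`: a free generator `t` of the quasi-coherent `G` over `V` pulls back to a free
  generator `unitV t` of `h^*G` over `h⁻¹V` (helper90's `IsGen`);
* `IsGen.germ_bijective`: a free generator over `W` gives a basis of the stalk at each point of `W`;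
* algebra: `equivOfGen`, `smul_top_eq_map`, `smul_mem_smul_top_iff`, `span_image_smul`, `le_of_map_le`.
-/
import Groth.Agent.Lib.UnitBaseChange
import Groth.Agent.Lib.IdealMod2
import Groth.Agent.Lib.H90Invertible
import Groth.Agent.Lib.PullbackAffine
import Groth.Agent.Lib.QCohStalk
import Groth.Prelude.Def_ProjUP
import Mathlib

set_option autoImplicit false
set_option linter.style.haveILetI false
universe u
open CategoryTheory AlgebraicGeometry TopologicalSpace Opposite
open AlgebraicGeometry.Scheme.Modules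
open Groth.Agent.Lib.H90Invertible Groth.Agent.Lib.UnitBaseChange

namespace Groth.Agent.Lib.PullSecH3

variable {X Y : Scheme.{u}} (h : X ⟶ Y) (G : Y.Modules)

/-- The unit of the pullback–pushforward adjunction on sections over `V`. -/
noncomputable def unitV (V : Y.Opens) (m : Γ(G, V)) : Γ((pullback h).obj G, h ⁻¹ᵁ V) :=
  ((pullbackPushforwardAdjunction h).unit.app G).app V m

theorem pullSec_eq (s : ProjUP.Γm G) : ProjUP.pullSec h G s = unitV h G ⊤ s := rfl

theorem unitV_smul (V : Y.Opens) (r : Γ(Y, V)) (m : Γ(G, V)) :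
    unitV h G V (r • m) = (h.app V).hom r • unitV h G V m := by
  unfold unitV
  rw [Scheme.Modules.Hom.app_smul]
  rfl

theorem unitV_add (V : Y.Opens) (m m' : Γ(G, V)) :
    unitV h G V (m + m') = unitV h G V m + unitV h G V m' :=
  map_add (((pullbackPushforwardAdjunction h).unit.app G).app V).hom m m'

theorem unitV_res {V V' : Y.Opens} (hV : V' ≤ V) (m : Γ(G, V)) :
    unitV h G V' (G.presheaf.map (homOfLE hV).op m) =
      ((pullback h).obj G).presheaf.map (homOfLE (h.preimage_mono hV)).op (unitV h G V m) := by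
  unfold unitV
  exact (hom_naturality_apply ((pullbackPushforwardAdjunction h).unit.app G) (homOfLE hV) m).symm

open TensorProduct in
set_option backward.isDefEq.respectTransparency false in
/-- the unit carries free generators to free generators (affine step) -/
theorem bijective_smul_unitSec [G.IsQuasicoherent] {U : X.Opens} {V' : Y.Opens} (hU : IsAffineOpen U)
    (hV' : IsAffineOpen V') (hUV' : U ≤ h ⁻¹ᵁ V') (t' : Γ(G, V'))
    (ht' : Function.Bijective (fun a : Γ(Y, V') => a • t')) :
    Function.Bijective (fun b : Γ(X, U) => b • unitSec h G hUV' t') := by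
  letI : Algebra Γ(Y, V') Γ(X, U) := (h.appLE V' U hUV').hom.toAlgebra
  letI : Module Γ(Y, V') Γ((pullback h).obj G, U) := Module.compHom _ (h.appLE V' U hUV').hom
  haveI : IsScalarTower Γ(Y, V') Γ(X, U) Γ((pullback h).obj G, U) :=
    .of_algebraMap_smul fun _ _ => rfl
  have hbc := isBaseChange_unitSec h G hU hV' hUV'
  let e : Γ(Y, V') ≃ₗ[Γ(Y, V')] Γ(G, V') :=
    LinearEquiv.ofBijective (LinearMap.toSpanSingleton Γ(Y, V') Γ(G, V') t') ht'
  let E : Γ(X, U) ≃ₗ[Γ(X, U)] Γ((pullback h).obj G, U) :=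
    (AlgebraTensorModule.rid Γ(Y, V') Γ(X, U) Γ(X, U)).symm ≪≫ₗ
      (AlgebraTensorModule.congr (LinearEquiv.refl Γ(X, U) Γ(X, U)) e) ≪≫ₗ hbc.equiv
  have hE : ∀ b : Γ(X, U), E b = b • unitSec h G hUV' t' := by
    intro b
    simp only [E, LinearEquiv.trans_apply]
    have h1 : (AlgebraTensorModule.rid Γ(Y, V') Γ(X, U) Γ(X, U)).symm b = b ⊗ₜ[Γ(Y, V')] (1 : Γ(Y, V')) := by
      rw [LinearEquiv.symm_apply_eq]
      simp
    rw [h1, AlgebraTensorModule.congr_tmul, IsBaseChange.equiv_tmul]
    simp [e]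
  have : (fun b : Γ(X, U) => b • unitSec h G hUV' t') = E := by
    funext b
    exact (hE b).symm
  rw [this]
  exact E.bijective

/-- **Free generators pull back**: if `t` is a free generator of the quasi-coherent module `G` over `V`, then its
image under the unit is a free generator of `h^* G` over `h⁻¹ V`. -/
theorem isGen_unitV [G.IsQuasicoherent] {V : Y.Opens} {t : Γ(G, V)} (ht : IsGen G V t) :
    IsGen ((pullback h).obj G) (h ⁻¹ᵁ V) (unitV h G V t) := by
  refine Groth.Agent.Lib.IdealMod.isGen_of_basis _ _ _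
    {U : X.Opens | IsAffineOpen U ∧
      (U ≤ h ⁻¹ᵁ V → ∃ V' : Y.Opens, IsAffineOpen V' ∧ V' ≤ V ∧ U ≤ h ⁻¹ᵁ V')} ?_ ?_
  · rw [Opens.isBasis_iff_nbhd]
    intro W x hx
    by_cases hxV : h x ∈ V
    · obtain ⟨V', hV', hxV', hV'V⟩ := exists_isAffineOpen_mem_and_subset (x := h x) (U := V) hxV
      obtain ⟨U, hU, hxU, hUW⟩ := exists_isAffineOpen_mem_and_subset (x := x)
        (U := W ⊓ h ⁻¹ᵁ V') ⟨hx, hxV'⟩
      exact ⟨U, ⟨hU, fun _ => ⟨V', hV', hV'V, fun y hy => (hUW hy).2⟩⟩, hxU,
        fun y hy => (hUW hy).1⟩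
    · obtain ⟨U, hU, hxU, hUW⟩ := exists_isAffineOpen_mem_and_subset (x := x) (U := W) hx
      exact ⟨U, ⟨hU, fun hle => absurd (hle hxU) hxV⟩, hxU, hUW⟩
  · rintro U ⟨hU, hex⟩ hle
    obtain ⟨V', hV', hV'V, hUV'⟩ := hex hle
    have hb := bijective_smul_unitSec h G hU hV' hUV' (G.presheaf.map (homOfLE hV'V).op t)
      (ht V' hV'V)
    have he : unitSec h G hUV' (G.presheaf.map (homOfLE hV'V).op t) =
        ((pullback h).obj G).presheaf.map (homOfLE hle).op (unitV h G V t) := by
      rw [unitSec_apply]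
      have := unitV_res h G hV'V t
      unfold unitV at this
      rw [this]
      exact presheaf_map_map _ _ _ _ _
    rw [he] at hb
    exact hb

end Groth.Agent.Lib.PullSecH3

namespace Groth.Agent.Lib.PullSecH3

open Groth.Agent.Lib.QCohStalk

section Stalk

variable {X : Scheme.{u}} {L : X.Modules}

/-- A free generator over `W` induces a basis of the stalk at every point of `W`. -/
theorem IsGen.germ_bijective {W : X.Opens} {s : Γ(L, W)} (hs : IsGen L W s) (x : X) (hx : x ∈ W) :
    Function.Bijective (fun a : X.presheaf.stalk x => a • (L.presheaf.germ W x hx s : L.presheaf.stalk x)) := by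
  constructor
  · intro a b hab
    dsimp only at hab
    obtain ⟨Wa, hxa, a', rfl⟩ := TopCat.Presheaf.exists_germ_eq X.presheaf a
    obtain ⟨Wb, hxb, b', rfl⟩ := TopCat.Presheaf.exists_germ_eq X.presheaf b
    let W0 : X.Opens := Wa ⊓ Wb ⊓ W
    have hx0 : x ∈ W0 := ⟨⟨hxa, hxb⟩, hx⟩
    have hWa : W0 ≤ Wa := inf_le_left.trans inf_le_left
    have hWb : W0 ≤ Wb := inf_le_left.trans inf_le_right
    have hW : W0 ≤ W := inf_le_right
    let a0 : Γ(X, W0) := X.presheaf.map (homOfLE hWa).op a'
    let b0 : Γ(X, W0) := X.presheaf.map (homOfLE hWb).op b'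
    let s0 : Γ(L, W0) := L.presheaf.map (homOfLE hW).op s
    have ha0 : X.presheaf.germ W0 x hx0 a0 = X.presheaf.germ Wa x hxa a' :=
      TopCat.Presheaf.germ_res_apply X.presheaf (homOfLE hWa) x hx0 a'
    have hb0 : X.presheaf.germ W0 x hx0 b0 = X.presheaf.germ Wb x hxb b' :=
      TopCat.Presheaf.germ_res_apply X.presheaf (homOfLE hWb) x hx0 b'
    have hs0 : L.presheaf.germ W0 x hx0 s0 = L.presheaf.germ W x hx s :=
      TopCat.Presheaf.germ_res_apply L.presheaf (homOfLE hW) x hx0 s
    have hg : L.presheaf.germ W0 x hx0 (a0 • s0) = L.presheaf.germ W0 x hx0 (b0 • s0) := by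
      rw [germ_smul, germ_smul, ha0, hb0, hs0]
      exact hab
    obtain ⟨W1, hx1, i1, i2, h12⟩ := TopCat.Presheaf.germ_eq L.presheaf x hx0 hx0 _ _ hg
    have hi : i1 = i2 := Subsingleton.elim _ _
    subst hi
    have hW1 : W1 ≤ W0 := i1.le
    have h3 : X.presheaf.map (homOfLE hW1).op a0 • L.presheaf.map (homOfLE (hW1.trans hW)).op s =
        X.presheaf.map (homOfLE hW1).op b0 • L.presheaf.map (homOfLE (hW1.trans hW)).op s := by
      have e1 : L.presheaf.map (homOfLE (hW1.trans hW)).op s = L.presheaf.map (homOfLE hW1).op s0 :=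
        (presheaf_map_map L _ _ _ s).symm
      rw [e1, ← res_smul L hW1 a0 s0, ← res_smul L hW1 b0 s0]
      exact h12
    have h4 := (hs W1 (hW1.trans hW)).1 h3
    rw [← ha0, ← hb0]
    have h5 := congrArg (fun r => X.presheaf.germ W1 x hx1 r) h4
    dsimp only at h5
    rw [TopCat.Presheaf.germ_res_apply X.presheaf (homOfLE hW1) x hx1 a0,
      TopCat.Presheaf.germ_res_apply X.presheaf (homOfLE hW1) x hx1 b0] at h5
    exact h5
  · intro ξ
    obtain ⟨W', hxW', t, rfl⟩ := TopCat.Presheaf.exists_germ_eq L.presheaf ξ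
    obtain ⟨c, hc⟩ := (hs (W' ⊓ W) inf_le_right).2 (L.presheaf.map (homOfLE inf_le_left).op t)
    have hx' : x ∈ W' ⊓ W := ⟨hxW', hx⟩
    refine ⟨X.presheaf.germ (W' ⊓ W) x hx' c, ?_⟩
    dsimp only at hc ⊢
    have h1 : L.presheaf.germ W' x hxW' t =
        L.presheaf.germ (W' ⊓ W) x hx' (L.presheaf.map (homOfLE inf_le_left).op t) :=
      (TopCat.Presheaf.germ_res_apply L.presheaf (homOfLE inf_le_left) x hx' t).symm
    have h2 : L.presheaf.germ (W' ⊓ W) x hx' (L.presheaf.map (homOfLE inf_le_right).op s) =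
        L.presheaf.germ W x hx s :=
      TopCat.Presheaf.germ_res_apply L.presheaf (homOfLE inf_le_right) x hx' s
    rw [h1, ← hc, germ_smul, h2]

end Stalk

section Alg

variable {R M : Type*} [CommRing R] [AddCommGroup M] [Module R M] {g : M}

/-- the linear equivalence `R ≃ M` attached to a basis vector -/
noncomputable def equivOfGen (hg : Function.Bijective (fun a : R => a • g)) : R ≃ₗ[R] M :=
  LinearEquiv.ofBijective (LinearMap.toSpanSingleton R M g) hg

@[simp] theorem equivOfGen_apply (hg : Function.Bijective (fun a : R => a • g)) (a : R) :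
    equivOfGen hg a = a • g := rfl

theorem smul_top_eq_map (hg : Function.Bijective (fun a : R => a • g)) (I : Ideal R) :
    I • (⊤ : Submodule R M) = Submodule.map (equivOfGen hg).toLinearMap I := by
  have h1 : (⊤ : Submodule R M) = Submodule.map (equivOfGen hg).toLinearMap ⊤ := by
    rw [Submodule.map_top, LinearEquiv.range]
  rw [h1, ← Submodule.map_smul'']
  congr 1
  rw [smul_eq_mul, Ideal.mul_top]

theorem smul_mem_smul_top_iff (hg : Function.Bijective (fun a : R => a • g)) (I : Ideal R) (a : R) :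
    a • g ∈ I • (⊤ : Submodule R M) ↔ a ∈ I := by
  rw [smul_top_eq_map hg, ← equivOfGen_apply hg]
  constructor
  · rintro ⟨b, hb, hba⟩
    have := (equivOfGen hg).injective hba
    rwa [← this]
  · intro ha
    exact ⟨a, ha, rfl⟩

theorem span_image_smul (hg : Function.Bijective (fun a : R => a • g)) (S : Set R) :
    Submodule.span R ((fun a : R => a • g) '' S) =
      Submodule.map (equivOfGen hg).toLinearMap (Ideal.span S) := by
  rw [Ideal.span, Submodule.map_span]
  rfl

theorem le_of_map_le (hg : Function.Bijective (fun a : R => a • g)) {I J : Ideal R}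
    (h : Submodule.map (equivOfGen hg).toLinearMap I ≤ Submodule.map (equivOfGen hg).toLinearMap J) :
    I ≤ J :=
  (Submodule.map_le_map_iff_of_injective (equivOfGen hg).injective I J).mp h

end Alg

end Groth.Agent.Lib.PullSecH3
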