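/-
helper3: global sections generating an invertible module: the generating loci cover, and ratios of sections.
* `U s i` = locus where `s i` generates `L` (`CohB1.genLocus`), `isGen_U`, `le_U`,
  `iSup_U_eq_top` (if `L` is invertible and the `s i` generate `L` in the sense of `ProjUP.GeneratedBy`);
* `ratio s i k = s k / s i ∈ Γ(X, U s i)`, `ratio_spec`, `ratio_self`, `ratio_mul` (cocycle relation on `U i ⊓ U j`),
  `ratio_add`, `ratio_smul`.
-/
import Groth.Agent.Lib.PullSecH3
import Groth.Agent.Lib.H78Atlas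
import Groth.Prelude.Def_ProjUP

set_option autoImplicit false
set_option linter.style.haveILetI false
universe u
open CategoryTheory AlgebraicGeometry TopologicalSpace Opposite
open Groth.Agent.Lib.H90Invertible Groth.Agent.Lib.H78TensorGen Groth.Agent.Lib.H78SecCoord
open Groth.Agent.Lib.H78Atlas Groth.Agent.Lib.PullSecH3 Groth.Agent.Lib.QCohStalk

namespace Groth.Agent.Lib.GenCoverH3

variable {X : Scheme.{u}} {L : X.Modules} {ι : Type*} (s : ι → Γ(L, ⊤))

/-- the locus where `s i` generates `L` -/
noncomputable def U (i : ι) : X.Opens := CohB1.genLocus L (ofSection (s i))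

theorem isGen_U (i : ι) : IsGen L (U s i) (rs L le_top (s i)) := by
  have := isGen_genLocus (ofSection (s i))
  rwa [sec_ofSection] at this

theorem le_U {i : ι} {W : X.Opens} (h : IsGen L W (rs L le_top (s i))) : W ≤ U s i := by
  intro x hx
  exact (mem_genLocus_iff _ x).2 ⟨W, hx, by rwa [sec_ofSection]⟩

theorem iSup_U_eq_top (hL : PicF.IsInvertible L) (hs : ProjUP.GeneratedBy L s) : ⨆ i, U s i = ⊤ := by
  rw [eq_top_iff]
  intro x _
  obtain ⟨V, hxV, e, he⟩ := (isInvertible_iff_exists_isGen L).1 hL x
  let c : ι → Γ(X, V) := fun i => coord he le_rfl (rs L le_top (s i))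
  have hc : ∀ i, c i • e = rs L le_top (s i) := fun i => by
    have := coord_spec he le_rfl (rs L le_top (s i))
    rwa [rs_self] at this
  have hbij := IsGen.germ_bijective he x hxV
  -- some coordinate is a unit at `x`
  obtain ⟨i, hi⟩ : ∃ i, IsUnit (X.presheaf.germ V x hxV (c i)) := by
    by_contra hcon
    push Not at hcon
    have hgerm : ∀ i, (L.presheaf.germ ⊤ x trivial).hom (s i) =
        X.presheaf.germ V x hxV (c i) • (L.presheaf.germ V x hxV e : L.presheaf.stalk x) := by
      intro i
      have h1 := germ_res L (le_top : V ≤ ⊤) x hxV (s i)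
      have h2 := germ_smul L V x hxV (c i) e
      rw [hc i] at h2
      exact h1.symm.trans h2
    have hle : Submodule.span (X.presheaf.stalk x)
        (Set.range fun i => (L.presheaf.germ ⊤ x trivial).hom (s i)) ≤
        IsLocalRing.maximalIdeal (X.presheaf.stalk x) •
          (⊤ : Submodule (X.presheaf.stalk x) (L.presheaf.stalk x)) := by
      rw [Submodule.span_le]
      rintro _ ⟨i, rfl⟩
      change (L.presheaf.germ ⊤ x trivial).hom (s i) ∈ (IsLocalRing.maximalIdeal (X.presheaf.stalk x) •
          (⊤ : Submodule (X.presheaf.stalk x) (L.presheaf.stalk x)))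
      rw [hgerm i]
      exact (smul_mem_smul_top_iff hbij _ _).2 ((IsLocalRing.mem_maximalIdeal _).2 (hcon i))
    rw [hs x, top_le_iff] at hle
    have h1 : (1 : X.presheaf.stalk x) • (L.presheaf.germ V x hxV e : L.presheaf.stalk x) ∈
        IsLocalRing.maximalIdeal (X.presheaf.stalk x) •
          (⊤ : Submodule (X.presheaf.stalk x) (L.presheaf.stalk x)) := by
      rw [hle]; trivial
    rw [smul_mem_smul_top_iff hbij] at h1
    exact (IsLocalRing.maximalIdeal.isMaximal _).ne_top ((Ideal.eq_top_iff_one _).2 h1)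
  have hxW : x ∈ X.basicOpen (c i) := (Scheme.mem_basicOpen X (c i) x hxV).2 hi
  have hW : X.basicOpen (c i) ≤ V := X.basicOpen_le (c i)
  refine Opens.mem_iSup.2 ⟨i, le_U s ?_ hxW⟩
  have h1 : rs L (le_top : X.basicOpen (c i) ≤ ⊤) (s i) = rf hW (c i) • rs L hW e := by
    rw [← rs_smul, hc i, rs_rs]
  rw [h1]
  exact (isGen_smul_iff (he.mono hW) _).2 (RingedSpace.isUnit_res_basicOpen _ (c i))

/-- the ratio `s k / s i` on the generating locus of `s i` -/
noncomputable def ratio (i k : ι) : Γ(X, U s i) := coord (isGen_U s i) le_rfl (rs L le_top (s k))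

theorem ratio_spec (i k : ι) : rs L (le_top : U s i ≤ ⊤) (s k) = ratio s i k • rs L le_top (s i) := by
  have := coord_spec (isGen_U s i) le_rfl (rs L le_top (s k))
  rw [rs_self] at this
  exact this.symm

theorem ratio_unique (i k : ι) {a : Γ(X, U s i)} (h : rs L (le_top : U s i ≤ ⊤) (s k) = a • rs L le_top (s i)) :
    a = ratio s i k := by
  apply coord_unique
  rw [rs_self]
  exact h.symm

theorem ratio_self (i : ι) : ratio s i i = 1 :=
  (ratio_unique s i i (one_smul _ _).symm).symm

/-- restricted to `W ≤ U i`: `s k = ratio i k • s i` -/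
theorem ratio_spec_le (i k : ι) {W : X.Opens} (hW : W ≤ U s i) :
    rs L (le_top : W ≤ ⊤) (s k) = rf hW (ratio s i k) • rs L le_top (s i) := by
  have := congrArg (rs L hW) (ratio_spec s i k)
  rwa [rs_rs, rs_smul, rs_rs] at this

/-- cocycle relation: `s k / s j = (s k / s i) * (s i / s j)` on `U i ⊓ U j` -/
theorem ratio_mul (i j k : ι) :
    rf (inf_le_right : U s i ⊓ U s j ≤ U s j) (ratio s j k) =
      rf (inf_le_left : U s i ⊓ U s j ≤ U s i) (ratio s i k) *
        rf (inf_le_right : U s i ⊓ U s j ≤ U s j) (ratio s j i) := by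
  have hg : IsGen L (U s i ⊓ U s j) (rs L le_top (s j)) := by
    have : IsGen L (U s i ⊓ U s j) (rs L inf_le_right (rs L le_top (s j))) :=
      (isGen_U s j).mono (inf_le_right : U s i ⊓ U s j ≤ U s j)
    rwa [rs_rs] at this
  have h1 := ratio_spec_le s j k (inf_le_right : U s i ⊓ U s j ≤ U s j)
  have h2 := ratio_spec_le s i k (inf_le_left : U s i ⊓ U s j ≤ U s i)
  have h3 := ratio_spec_le s j i (inf_le_right : U s i ⊓ U s j ≤ U s j)
  rw [h3, ← mul_smul] at h2
  have h4 := h1.symm.trans h2
  have hinj : Function.Injective (fun a : Γ(X, U s i ⊓ U s j) => a • rs L le_rfl (rs L le_top (s j))) :=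
    (hg _ le_rfl).1
  apply hinj
  dsimp only
  rw [rs_self]
  exact h4

end Groth.Agent.Lib.GenCoverH3
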