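import Groth.Agent.Lib.H78SecCoord

/-!
# helper78: trivialising atlases of invertible modules (namespace `Groth.Agent.Lib.H78Atlas`)

* `Atlas P V`: generators `E i` of `P` over the opens `V i`; `trans i j` (transition functions), `co σ i`
  (coordinates of a global section), `co_compat`, `ext_co`, `exists_sec` (gluing a section from compatible
  coordinates), `genLocus_inf : genLocus P (ofSection σ) ⊓ V i = X.basicOpen (co σ i)`.
* `Atlas.pow`, `Atlas.tmul`, `Atlas.refine` with `pow_trans`, `tmul_trans`, `refine_trans`.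
* `exists_atlas`, `exists_atlas₂`: atlases over affine opens indexed by points.
* `isAffineHom_genLocus_ι`, `isAffineOpen_genLocus_inf`: for invertible `L`, `X_s → X` is affine.
-/

set_option autoImplicit false
universe u
open CategoryTheory CategoryTheory.Limits AlgebraicGeometry MonoidalCategory Opposite TopologicalSpace
open Groth.Agent.Lib.H90Invertible Groth.Agent.Lib.StructureModule Groth.Agent.Lib.H78TensorGen
open Groth.Agent.Lib.H78SecCoord

namespace Groth.Agent.Lib.H78Atlas

variable {X : Scheme.{u}}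

/-- restriction of functions along an inequality of opens -/
noncomputable abbrev rf {V W : X.Opens} (h : W ≤ V) (a : Γ(X, V)) : Γ(X, W) :=
  X.presheaf.map (homOfLE h).op a

lemma rf_rf {V W W' : X.Opens} (h : W ≤ V) (h' : W' ≤ W) (a : Γ(X, V)) :
    rf h' (rf h a) = rf (h'.trans h) a := by
  rw [rf, rf, ← CommRingCat.comp_apply, ← Functor.map_comp]
  rfl

lemma rf_self {V : X.Opens} (a : Γ(X, V)) : rf le_rfl a = a := by
  have : (homOfLE (le_refl V)).op = 𝟙 (op V) := rfl
  rw [rf, this, X.presheaf.map_id]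
  rfl

lemma rs_smul (P : X.Modules) {V W : X.Opens} (h : W ≤ V) (a : Γ(X, V)) (t : Γ(P, V)) :
    rs P h (a • t) = rf h a • rs P h t :=
  P.map_smul (homOfLE h) a t

/-- a trivialising atlas of a module over a family of opens -/
structure Atlas (P : X.Modules) {ι : Type*} (V : ι → X.Opens) where
  /-- the local generators -/
  E : ∀ i, Γ(P, V i)
  gen : ∀ i, IsGen P (V i) (E i)

namespace Atlas

variable {P P' : X.Modules} {ι : Type*} {V : ι → X.Opens} (A : Atlas P V)

/-- the transition functions: `E j = trans i j • E i` on `V i ⊓ V j` -/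
noncomputable def trans (i j : ι) : Γ(X, V i ⊓ V j) :=
  coord (A.gen i) inf_le_left (rs P inf_le_right (A.E j))

lemma trans_spec (i j : ι) :
    A.trans i j • rs P (inf_le_left : V i ⊓ V j ≤ V i) (A.E i) = rs P inf_le_right (A.E j) :=
  coord_spec (A.gen i) inf_le_left _

lemma trans_unique (i j : ι) {u : Γ(X, V i ⊓ V j)}
    (h : u • rs P (inf_le_left : V i ⊓ V j ≤ V i) (A.E i) = rs P inf_le_right (A.E j)) :
    u = A.trans i j :=
  coord_unique (A.gen i) inf_le_left h

/-- the coordinates of a global section -/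
noncomputable def co (σ : Γ(P, ⊤)) (i : ι) : Γ(X, V i) := coord (A.gen i) le_rfl (rs P le_top σ)

lemma co_spec (σ : Γ(P, ⊤)) (i : ι) : A.co σ i • A.E i = rs P le_top σ := by
  have := coord_spec (A.gen i) le_rfl (rs P le_top σ)
  rwa [rs_self] at this

lemma co_unique (σ : Γ(P, ⊤)) (i : ι) {a : Γ(X, V i)} (h : a • A.E i = rs P le_top σ) : a = A.co σ i := by
  apply coord_unique
  rwa [rs_self]

lemma co_compat (σ : Γ(P, ⊤)) (i j : ι) :
    rf (inf_le_left : V i ⊓ V j ≤ V i) (A.co σ i) = rf inf_le_right (A.co σ j) * A.trans i j := by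
  have h1 := congrArg (rs P (inf_le_left : V i ⊓ V j ≤ V i)) (A.co_spec σ i)
  have h2 := congrArg (rs P (inf_le_right : V i ⊓ V j ≤ V j)) (A.co_spec σ j)
  rw [rs_smul, rs_rs] at h1 h2
  rw [← A.trans_spec i j, ← mul_smul] at h2
  exact ((A.gen i).mono inf_le_left _ le_rfl).1 (by
    change rf _ _ • rs P le_rfl _ = (rf _ _ * _) • rs P le_rfl _
    rw [rs_self, h1, h2])

lemma ext_co (hV : ⨆ i, V i = ⊤) {σ σ' : Γ(P, ⊤)} (h : ∀ i, A.co σ i = A.co σ' i) : σ = σ' := by
  refine sec_ext P σ σ' (fun x _ => ?_)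
  have hx : x ∈ ⨆ i, V i := by rw [hV]; trivial
  obtain ⟨i, hi⟩ := Opens.mem_iSup.1 hx
  exact ⟨V i, le_top, hi, by rw [← A.co_spec σ i, ← A.co_spec σ' i, h i]⟩

/-- a family of local coordinates compatible with the transition functions glues to a global section -/
theorem exists_sec (hV : ⨆ i, V i = ⊤) (a : ∀ i, Γ(X, V i))
    (h : ∀ i j, rf (inf_le_left : V i ⊓ V j ≤ V i) (a i) = rf inf_le_right (a j) * A.trans i j) :
    ∃ σ : Γ(P, ⊤), ∀ i, A.co σ i = a i := by
  obtain ⟨σ, hσ⟩ := sec_glue P V (fun i => le_top) (by rw [hV]) (fun i => a i • A.E i) (by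
    intro i j
    rw [rs_smul, rs_smul, h i j, mul_smul, A.trans_spec])
  exact ⟨σ, fun i => (A.co_unique σ i (hσ i).symm).symm⟩

lemma genLocus_inf (σ : Γ(P, ⊤)) (i : ι) :
    CohB1.genLocus P (ofSection σ) ⊓ V i = X.basicOpen (A.co σ i) := by
  rw [genLocus_inf_eq (A.gen i), sec_ofSection]
  rfl

/-- the atlas of a tensor power -/
noncomputable def pow {L : X.Modules} (A : Atlas L V) (n : ℕ) : Atlas (CohB1.tensorPow L n) V where
  E i := epow (A.E i) n
  gen i := isGen_epow (A.gen i) n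

lemma pow_trans {L : X.Modules} (A : Atlas L V) (n : ℕ) (i j : ι) :
    (A.pow n).trans i j = (A.trans i j) ^ n := by
  symm
  apply trans_unique
  change _ • rs _ _ (epow (A.E i) n) = rs _ _ (epow (A.E j) n)
  rw [epow_rs, epow_rs, ← A.trans_spec i j, epow_smul]

/-- the atlas of a tensor product -/
noncomputable def tmul (A : Atlas P V) (A' : Atlas P' V) : Atlas (CohB1.tensorMod P P') V where
  E i := H78TensorGen.tmul (A.E i) (A'.E i)
  gen i := isGen_tmul (A.gen i) (A'.gen i)

lemma tmul_trans (A : Atlas P V) (A' : Atlas P' V) (i j : ι) :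
    (A.tmul A').trans i j = A.trans i j * A'.trans i j := by
  symm
  apply trans_unique
  change _ • rs _ _ (H78TensorGen.tmul (A.E i) (A'.E i)) = rs _ _ (H78TensorGen.tmul (A.E j) (A'.E j))
  rw [tmul_rs, tmul_rs, ← A.trans_spec i j, ← A'.trans_spec i j, smul_tmul, tmul_smul, smul_smul]

/-- refinement of an atlas -/
noncomputable def refine (A : Atlas P V) {κ : Type*} (f : κ → ι) (W : κ → X.Opens) (hW : ∀ k, W k ≤ V (f k)) :
    Atlas P W where
  E k := rs P (hW k) (A.E (f k))
  gen k := (A.gen (f k)).mono (hW k)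

lemma refine_trans (A : Atlas P V) {κ : Type*} (f : κ → ι) (W : κ → X.Opens) (hW : ∀ k, W k ≤ V (f k))
    (k l : κ) :
    (A.refine f W hW).trans k l =
      rf (inf_le_inf (hW k) (hW l) : W k ⊓ W l ≤ V (f k) ⊓ V (f l)) (A.trans (f k) (f l)) := by
  symm
  apply trans_unique
  change _ • rs P _ (rs P _ _) = rs P _ (rs P _ _)
  have h := congrArg (rs P (inf_le_inf (hW k) (hW l) : W k ⊓ W l ≤ V (f k) ⊓ V (f l)))
    (A.trans_spec (f k) (f l))
  rw [rs_smul, rs_rs, rs_rs] at h
  rw [rs_rs, rs_rs]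
  exact h

end Atlas

/-- two opens with the same trace on every member of a cover are equal -/
lemma opens_eq_of_cover {ι : Type*} {V : ι → X.Opens} (hV : ⨆ i, V i = ⊤) {G G' : X.Opens}
    (h : ∀ i, G ⊓ V i = G' ⊓ V i) : G = G' := by
  ext x
  have hx : x ∈ ⨆ i, V i := by rw [hV]; trivial
  obtain ⟨i, hi⟩ := Opens.mem_iSup.1 hx
  constructor
  · intro hxG
    have : x ∈ G ⊓ V i := ⟨hxG, hi⟩
    rw [h i] at this
    exact this.1
  · intro hxG
    have : x ∈ G' ⊓ V i := ⟨hxG, hi⟩
    rw [← h i] at this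
    exact this.1

/-- an invertible module has an atlas over affine opens, indexed by the points of `X` -/
theorem exists_atlas {L : X.Modules} (hL : PicF.IsInvertible L) :
    ∃ V : X → X.Opens, (∀ x, x ∈ V x) ∧ (∀ x, IsAffineOpen (V x)) ∧ Nonempty (Atlas L V) := by
  rw [isInvertible_iff_exists_isGen] at hL
  choose V₀ hxV₀ e he using hL
  have hB := X.isBasis_affineOpens
  have key : ∀ x : X, ∃ W : X.Opens, IsAffineOpen W ∧ x ∈ W ∧ W ≤ V₀ x := by
    intro x
    obtain ⟨W, hW, hxW, hWV⟩ := Opens.isBasis_iff_nbhd.1 hB (hxV₀ x)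
    exact ⟨W, hW, hxW, hWV⟩
  choose W hWaff hxW hWV using key
  exact ⟨W, hxW, hWaff, ⟨⟨fun x => rs L (hWV x) (e x), fun x => (he x).mono (hWV x)⟩⟩⟩

/-- two invertible modules have atlases over a common family of affine opens -/
theorem exists_atlas₂ {L L' : X.Modules} (hL : PicF.IsInvertible L) (hL' : PicF.IsInvertible L') :
    ∃ V : X → X.Opens, (∀ x, x ∈ V x) ∧ (∀ x, IsAffineOpen (V x)) ∧ Nonempty (Atlas L V) ∧
      Nonempty (Atlas L' V) := by
  rw [isInvertible_iff_exists_isGen] at hL hL'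
  choose V₀ hxV₀ e he using hL
  choose V₀' hxV₀' e' he' using hL'
  have hB := X.isBasis_affineOpens
  have key : ∀ x : X, ∃ W : X.Opens, IsAffineOpen W ∧ x ∈ W ∧ W ≤ V₀ x ⊓ V₀' x := by
    intro x
    obtain ⟨W, hW, hxW, hWV⟩ := Opens.isBasis_iff_nbhd.1 hB (show x ∈ V₀ x ⊓ V₀' x from ⟨hxV₀ x, hxV₀' x⟩)
    exact ⟨W, hW, hxW, hWV⟩
  choose W hWaff hxW hWV using key
  exact ⟨W, hxW, hWaff,
    ⟨⟨fun x => rs L ((hWV x).trans inf_le_left) (e x), fun x => (he x).mono _⟩⟩,
    ⟨⟨fun x => rs L' ((hWV x).trans inf_le_right) (e' x), fun x => (he' x).mono _⟩⟩⟩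

lemma iSup_eq_top_of_mem {V : X → X.Opens} (h : ∀ x, x ∈ V x) : ⨆ x, V x = ⊤ :=
  top_le_iff.1 (fun x _ => Opens.mem_iSup.2 ⟨x, h x⟩)

/-- for an invertible module, the inclusion of the generating locus of a section is an affine morphism -/
theorem isAffineHom_genLocus_ι {L : X.Modules} (hL : PicF.IsInvertible L) (s : Coh.structureModule X ⟶ L) :
    IsAffineHom (CohB1.genLocus L s).ι := by
  obtain ⟨V, hxV, hVaff, ⟨A⟩⟩ := exists_atlas hL
  refine isAffineHom_of_forall_exists_isAffineOpen _ (fun x => ⟨V x, hxV x, hVaff x, ?_⟩)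
  rw [← (CohB1.genLocus L s).ι.isAffineOpen_iff_of_isOpenImmersion,
    Scheme.Hom.image_preimage_eq_opensRange_inf, Scheme.Opens.opensRange_ι,
    genLocus_inf_eq (A.gen x)]
  exact (hVaff x).basicOpen _

/-- for an invertible module, the trace of a generating locus on an affine open is affine -/
theorem isAffineOpen_genLocus_inf {L : X.Modules} (hL : PicF.IsInvertible L) (s : Coh.structureModule X ⟶ L)
    {U : X.Opens} (hU : IsAffineOpen U) : IsAffineOpen (CohB1.genLocus L s ⊓ U) := by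
  have := isAffineHom_genLocus_ι hL s
  have h1 := hU.preimage (CohB1.genLocus L s).ι
  rwa [← (CohB1.genLocus L s).ι.isAffineOpen_iff_of_isOpenImmersion,
    Scheme.Hom.image_preimage_eq_opensRange_inf, Scheme.Opens.opensRange_ι] at h1

end Groth.Agent.Lib.H78Atlas
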