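import Groth.Agent.Lib.H78TensorGen

/-!
# helper78: sections of invertible modules in local coordinates (namespace `Groth.Agent.Lib.H78SecCoord`)

* `sec s : Γ(L, ⊤)` for `s : O ⟶ L`; `app_toSec`, `ofSection_sec`, `sec_ofSection` (helper90's `ofSection`).
* `coord he hV t : Γ(X, V)`: the coordinate of `t : Γ(L, V)` w.r.t. a free generator `e` over `U ≥ V`
  (`coord_spec`, `coord_unique`, `coord_smul`, `coord_add`, `coord_rs`, `coord_gen`, `coord_injective`).
* `isGen_smul_iff : IsGen L U (a • e) ↔ IsUnit a`; `isGen_of_cover` (being a generator is local).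
* `isIso_restrict_iff_isGen`, `mem_genLocus_iff`, `isGen_genLocus`: `CohB1.genLocus L s` is the largest open
  over which the section `sec s` is a free generator.
* `genLocus_inf_eq`: if `e` generates `L` over `U` and `s|_U = a • e` then `genLocus L s ⊓ U = X.basicOpen a`.
-/

set_option autoImplicit false
universe u
open CategoryTheory CategoryTheory.Limits AlgebraicGeometry MonoidalCategory Opposite TopologicalSpace
open Groth.Agent.Lib.H90Invertible Groth.Agent.Lib.StructureModule Groth.Agent.Lib.H78TensorGen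

namespace Groth.Agent.Lib.H78SecCoord

variable {X : Scheme.{u}} {L : X.Modules}

/-- the global section corresponding to a map `O ⟶ L` -/
noncomputable def sec (s : Coh.structureModule X ⟶ L) : Γ(L, ⊤) := s.app ⊤ (toSec ⊤ 1)

lemma toSec_rs {V W : X.Opens} (h : W ≤ V) (a : Γ(X, V)) :
    rs (Coh.structureModule X) h (toSec V a) = toSec W (X.presheaf.map (homOfLE h).op a) := rfl

lemma toSec_bijective (V : X.Opens) : Function.Bijective (toSec (X := X) V) :=
  ⟨toSec_injective V, fun y => ⟨y, rfl⟩⟩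

lemma app_rs {M N : X.Modules} (φ : M ⟶ N) {V W : X.Opens} (h : W ≤ V) (x : Γ(M, V)) :
    φ.app W (rs M h x) = rs N h (φ.app V x) :=
  NatTrans.naturality_apply φ.mapPresheaf (homOfLE h).op x

lemma app_toSec (s : Coh.structureModule X ⟶ L) (V : X.Opens) (a : Γ(X, V)) :
    s.app V (toSec V a) = a • rs L le_top (sec s) := by
  rw [toSec_eq_smul_one, Scheme.Modules.Hom.app_smul, sec, ← app_rs, toSec_rs, map_one]

lemma ofSection_sec (s : Coh.structureModule X ⟶ L) : ofSection (sec s) = s := by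
  ext V a
  exact (ofSection_app (sec s) V a).trans (app_toSec s V a).symm

lemma sec_ofSection (σ : Γ(L, ⊤)) : sec (ofSection σ) = σ := by
  rw [sec, ofSection_app, one_smul]
  exact rs_self L σ

section coord

variable {U : X.Opens} {e : Γ(L, U)} (he : IsGen L U e)

/-- the coordinate of a section `t` over `V ≤ U` with respect to the generator `e` over `U` -/
noncomputable def coord {V : X.Opens} (hV : V ≤ U) (t : Γ(L, V)) : Γ(X, V) :=
  Classical.choose ((he V hV).2 t)

lemma coord_spec {V : X.Opens} (hV : V ≤ U) (t : Γ(L, V)) : coord he hV t • rs L hV e = t :=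
  Classical.choose_spec ((he V hV).2 t)

lemma coord_unique {V : X.Opens} (hV : V ≤ U) {t : Γ(L, V)} {a : Γ(X, V)} (h : a • rs L hV e = t) :
    a = coord he hV t :=
  (he V hV).1 (h.trans (coord_spec he hV t).symm)

lemma coord_smul_gen {V : X.Opens} (hV : V ≤ U) (a : Γ(X, V)) : coord he hV (a • rs L hV e) = a :=
  (coord_unique he hV rfl).symm

lemma coord_gen {V : X.Opens} (hV : V ≤ U) : coord he hV (rs L hV e) = 1 :=
  (coord_unique he hV (one_smul _ _)).symm

lemma coord_smul {V : X.Opens} (hV : V ≤ U) (a : Γ(X, V)) (t : Γ(L, V)) :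
    coord he hV (a • t) = a * coord he hV t := by
  symm
  apply coord_unique
  rw [mul_smul, coord_spec]

lemma coord_add {V : X.Opens} (hV : V ≤ U) (t t' : Γ(L, V)) :
    coord he hV (t + t') = coord he hV t + coord he hV t' := by
  symm
  apply coord_unique
  rw [add_smul, coord_spec, coord_spec]

lemma coord_zero {V : X.Opens} (hV : V ≤ U) : coord he hV (0 : Γ(L, V)) = 0 :=
  (coord_unique he hV (zero_smul _ _)).symm

lemma coord_rs {V W : X.Opens} (hV : V ≤ U) (hW : W ≤ V) (t : Γ(L, V)) :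
    coord he (hW.trans hV) (rs L hW t) = X.presheaf.map (homOfLE hW).op (coord he hV t) := by
  symm
  apply coord_unique
  have := congrArg (rs L hW) (coord_spec he hV t)
  rw [← this, ← rs_rs L hV hW e]
  exact (L.map_smul (homOfLE hW) _ _).symm

lemma coord_injective {V : X.Opens} (hV : V ≤ U) : Function.Injective (coord he hV (V := V)) := by
  intro t t' h
  rw [← coord_spec he hV t, ← coord_spec he hV t', h]

include he in
lemma isGen_smul_iff (a : Γ(X, U)) : IsGen L U (a • e) ↔ IsUnit a := by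
  constructor
  · intro h
    obtain ⟨b, hb⟩ := (h U le_rfl).2 e
    have hb' : b • rs L le_rfl (a • e) = e := hb
    rw [rs_self, ← mul_smul] at hb'
    have h1 : (b * a) • rs L le_rfl e = (1 : Γ(X, U)) • rs L le_rfl e := by
      rw [rs_self, hb', one_smul]
    exact IsUnit.of_mul_eq_one _ ((mul_comm _ _).trans ((he U le_rfl).1 h1))
  · intro ha W hW
    have h1 := he W hW
    have hu : IsUnit (X.presheaf.map (homOfLE hW).op a) := ha.map _
    have h2 : Function.Bijective (fun b : Γ(X, W) => b * X.presheaf.map (homOfLE hW).op a) :=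
      ⟨fun b b' h => hu.mul_left_injective h, fun c => by
        obtain ⟨d, hd⟩ := hu.exists_left_inv
        exact ⟨c * d, by simp only [mul_assoc, hd, mul_one]⟩⟩
    convert h1.comp h2 using 1
    funext b
    change b • rs L hW (a • e) = (b * _) • rs L hW e
    rw [mul_smul]
    congr 1
    exact L.map_smul (homOfLE hW) _ _

end coord

lemma isIso_restrict_iff_isGen (s : Coh.structureModule X ⟶ L) (V : X.Opens) :
    IsIso ((Scheme.Modules.restrictFunctor V.ι).map s) ↔ IsGen L V (rs L le_top (sec s)) := by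
  constructor
  · intro h W hW
    have h1 : IsIso (s.app W) := Groth.Agent.Lib.H90OXModLocal.isIso_app_of_isIso_restrict s W hW
    rw [ConcreteCategory.isIso_iff_bijective] at h1
    have h2 : (fun a : Γ(X, W) => a • rs L hW (rs L le_top (sec s))) = (s.app W) ∘ (toSec W) := by
      funext a
      change a • rs L hW (rs L le_top (sec s)) = s.app W (toSec W a)
      rw [app_toSec, rs_rs]
    change Function.Bijective (fun a : Γ(X, W) => a • rs L hW (rs L le_top (sec s)))
    rw [h2]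
    exact h1.comp (toSec_bijective W)
  · intro h
    rw [Scheme.Modules.Hom.isIso_iff_isIso_app]
    intro W'
    change IsIso (s.app (V.ι ''ᵁ W'))
    rw [ConcreteCategory.isIso_iff_bijective]
    have hW : V.ι ''ᵁ W' ≤ V := Scheme.Opens.ι_image_le V W'
    have h1 := h _ hW
    have h2 : (fun a : Γ(X, V.ι ''ᵁ W') => a • rs L hW (rs L le_top (sec s))) =
        (s.app (V.ι ''ᵁ W')) ∘ (toSec (V.ι ''ᵁ W')) := by
      funext a
      change a • rs L hW (rs L le_top (sec s)) = s.app _ (toSec _ a)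
      rw [app_toSec, rs_rs]
    change Function.Bijective (fun a : Γ(X, V.ι ''ᵁ W') => a • rs L hW (rs L le_top (sec s))) at h1
    rw [h2] at h1
    exact (Function.Bijective.of_comp_iff _ (toSec_bijective _)).1 h1

lemma mem_genLocus_iff (s : Coh.structureModule X ⟶ L) (x : X) :
    x ∈ CohB1.genLocus L s ↔ ∃ V : X.Opens, x ∈ V ∧ IsGen L V (rs L le_top (sec s)) := by
  unfold CohB1.genLocus
  rw [Opens.mem_sSup]
  constructor
  · rintro ⟨V, hV, hxV⟩
    exact ⟨V, hxV, (isIso_restrict_iff_isGen s V).1 hV⟩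
  · rintro ⟨V, hxV, hV⟩
    exact ⟨V, (isIso_restrict_iff_isGen s V).2 hV, hxV⟩

/-- being a free generator is a local property -/
lemma isGen_of_cover {V : X.Opens} (σ : Γ(L, V)) {ι : Type*} (Vi : ι → X.Opens) (hVi : ∀ i, Vi i ≤ V)
    (hcov : V ≤ iSup Vi) (h : ∀ i, IsGen L (Vi i) (rs L (hVi i) σ)) : IsGen L V σ := by
  intro W hW
  have hinj : ∀ {W : X.Opens} (hW : W ≤ V), Function.Injective (fun a : Γ(X, W) => a • rs L hW σ) := by
    intro W hW a a' haa'
    refine sec_ext (Coh.structureModule X) (toSec W a) (toSec W a') (fun x hx => ?_)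
    obtain ⟨i, hi⟩ := Opens.mem_iSup.1 (hcov (hW hx))
    refine ⟨W ⊓ Vi i, inf_le_left, ⟨hx, hi⟩, ?_⟩
    have h1 := congrArg (rs L (inf_le_left : W ⊓ Vi i ≤ W)) haa'
    simp only [rs] at h1
    rw [L.map_smul, L.map_smul] at h1
    have h2 : L.presheaf.map (homOfLE (inf_le_left : W ⊓ Vi i ≤ W)).op (rs L hW σ) =
        rs L (inf_le_right : W ⊓ Vi i ≤ Vi i) (rs L (hVi i) σ) := by
      rw [rs_rs]; exact rs_rs L hW inf_le_left σ
    rw [h2] at h1
    exact (h i _ inf_le_right).1 h1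
  refine ⟨hinj hW, fun t => ?_⟩
  -- local coordinates of `t`
  have hloc : ∀ i, ∃ a : Γ(X, W ⊓ Vi i), a • rs L (inf_le_left.trans hW : W ⊓ Vi i ≤ V) σ =
      rs L (inf_le_left : W ⊓ Vi i ≤ W) t := by
    intro i
    obtain ⟨a, ha⟩ := (h i _ (inf_le_right : W ⊓ Vi i ≤ Vi i)).2 (rs L (inf_le_left : W ⊓ Vi i ≤ W) t)
    refine ⟨a, ?_⟩
    rw [← ha]
    change a • _ = a • rs L _ (rs L _ σ)
    rw [rs_rs]
  choose a ha using hloc
  obtain ⟨b, hb⟩ : ∃ b : Γ(X, W), ∀ i,
      X.presheaf.map (homOfLE (inf_le_left : W ⊓ Vi i ≤ W)).op b = a i := by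
    obtain ⟨b, hb⟩ := sec_glue (Coh.structureModule X) (fun i => W ⊓ Vi i) (fun i => inf_le_left)
      (fun x hx => by
        obtain ⟨i, hi⟩ := Opens.mem_iSup.1 (hcov (hW hx))
        exact Opens.mem_iSup.2 ⟨i, hx, hi⟩) (fun i => toSec _ (a i)) (by
        intro i j
        have hle : (W ⊓ Vi i) ⊓ (W ⊓ Vi j) ≤ V := inf_le_left.trans (inf_le_left.trans hW)
        apply hinj hle
        have k1 := L.map_smul (homOfLE (inf_le_left : (W ⊓ Vi i) ⊓ (W ⊓ Vi j) ≤ W ⊓ Vi i)) (a i)
          (rs L (inf_le_left.trans hW) σ)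
        have k2 := L.map_smul (homOfLE (inf_le_right : (W ⊓ Vi i) ⊓ (W ⊓ Vi j) ≤ W ⊓ Vi j)) (a j)
          (rs L (inf_le_left.trans hW) σ)
        rw [ha] at k1 k2
        have k3 : rs L (inf_le_left : (W ⊓ Vi i) ⊓ (W ⊓ Vi j) ≤ W ⊓ Vi i) (rs L inf_le_left t) =
            rs L (inf_le_right : (W ⊓ Vi i) ⊓ (W ⊓ Vi j) ≤ W ⊓ Vi j) (rs L inf_le_left t) := by
          rw [rs_rs, rs_rs]
        calc X.presheaf.map (homOfLE (inf_le_left : (W ⊓ Vi i) ⊓ (W ⊓ Vi j) ≤ W ⊓ Vi i)).op (a i) •
              rs L hle σ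
            = X.presheaf.map (homOfLE (inf_le_left : (W ⊓ Vi i) ⊓ (W ⊓ Vi j) ≤ W ⊓ Vi i)).op (a i) •
              rs L (inf_le_left : (W ⊓ Vi i) ⊓ (W ⊓ Vi j) ≤ W ⊓ Vi i) (rs L (inf_le_left.trans hW) σ) := by
                rw [rs_rs]
          _ = rs L (inf_le_left : (W ⊓ Vi i) ⊓ (W ⊓ Vi j) ≤ W ⊓ Vi i) (rs L inf_le_left t) := k1.symm
          _ = rs L (inf_le_right : (W ⊓ Vi i) ⊓ (W ⊓ Vi j) ≤ W ⊓ Vi j) (rs L inf_le_left t) := k3
          _ = X.presheaf.map (homOfLE (inf_le_right : (W ⊓ Vi i) ⊓ (W ⊓ Vi j) ≤ W ⊓ Vi j)).op (a j) •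
              rs L (inf_le_right : (W ⊓ Vi i) ⊓ (W ⊓ Vi j) ≤ W ⊓ Vi j) (rs L (inf_le_left.trans hW) σ) := k2
          _ = X.presheaf.map (homOfLE (inf_le_right : (W ⊓ Vi i) ⊓ (W ⊓ Vi j) ≤ W ⊓ Vi j)).op (a j) •
              rs L hle σ := by rw [rs_rs])
    exact ⟨b, hb⟩
  refine ⟨b, sec_ext L _ _ (fun x hx => ?_)⟩
  obtain ⟨i, hi⟩ := Opens.mem_iSup.1 (hcov (hW hx))
  refine ⟨W ⊓ Vi i, inf_le_left, ⟨hx, hi⟩, ?_⟩
  rw [← ha i, ← hb i]
  change L.presheaf.map _ (b • rs L hW σ) = _
  rw [L.map_smul]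
  congr 1
  exact rs_rs L hW inf_le_left σ

lemma isGen_genLocus (s : Coh.structureModule X ⟶ L) :
    IsGen L (CohB1.genLocus L s) (rs L le_top (sec s)) := by
  refine isGen_of_cover _ (fun V : {V : X.Opens // IsGen L V (rs L le_top (sec s))} => V.1)
    (fun V => ?_) ?_ (fun V => ?_)
  · intro x hx
    exact (mem_genLocus_iff s x).2 ⟨V.1, hx, V.2⟩
  · intro x hx
    obtain ⟨V, hxV, hV⟩ := (mem_genLocus_iff s x).1 hx
    exact Opens.mem_iSup.2 ⟨⟨V, hV⟩, hxV⟩
  · rw [rs_rs]; exact V.2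

lemma isUnit_map_iff {U W : X.Opens} (hW : W ≤ U) (a : Γ(X, U)) :
    IsUnit (X.presheaf.map (homOfLE hW).op a) ↔ W ≤ X.basicOpen a := by
  constructor
  · intro hu
    have := Scheme.basicOpen_of_isUnit X hu
    rw [Scheme.basicOpen_res] at this
    exact inf_eq_left.1 this
  · intro hle
    have h1 : IsUnit (X.presheaf.map (homOfLE (X.basicOpen_le a)).op a) :=
      RingedSpace.isUnit_res_basicOpen _ a
    have h2 : X.presheaf.map (homOfLE hW).op a =
        X.presheaf.map (homOfLE hle).op (X.presheaf.map (homOfLE (X.basicOpen_le a)).op a) := by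
      rw [← CommRingCat.comp_apply, ← Functor.map_comp]
      rfl
    rw [h2]
    exact h1.map _

/-- in terms of a local generator `e` of `L` over `U`, with `s|_U = a • e`: a sub-open `W ≤ U` lies in the
generating locus of `s` iff `a|_W` is a unit -/
lemma isGen_rs_sec_iff {U : X.Opens} {e : Γ(L, U)} (he : IsGen L U e) (s : Coh.structureModule X ⟶ L)
    {W : X.Opens} (hW : W ≤ U) :
    IsGen L W (rs L le_top (sec s)) ↔ W ≤ X.basicOpen (coord he le_rfl (rs L le_top (sec s))) := by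
  rw [← isUnit_map_iff hW, ← isGen_smul_iff (he.mono hW)]
  have h1 := congrArg (rs L hW) (coord_spec he le_rfl (rs L le_top (sec s)))
  rw [rs_rs] at h1
  rw [← h1]
  have h2 : rs L hW (coord he le_rfl (rs L le_top (sec s)) • rs L le_rfl e) =
      X.presheaf.map (homOfLE hW).op (coord he le_rfl (rs L le_top (sec s))) • rs L hW e := by
    rw [rs_self]
    exact L.map_smul (homOfLE hW) _ _
  rw [h2]

/-- **the generating locus in local coordinates**: if `e` generates `L` over `U` and `s|_U = a • e` then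
`X_s ∩ U = D(a)` -/
theorem genLocus_inf_eq {U : X.Opens} {e : Γ(L, U)} (he : IsGen L U e) (s : Coh.structureModule X ⟶ L) :
    CohB1.genLocus L s ⊓ U = X.basicOpen (coord he le_rfl (rs L le_top (sec s))) := by
  apply le_antisymm
  · intro x hx
    obtain ⟨V, hxV, hV⟩ := (mem_genLocus_iff s x).1 hx.1
    have h1 : IsGen L (V ⊓ U) (rs L le_top (sec s)) := by
      have := hV.mono (inf_le_left : V ⊓ U ≤ V)
      change IsGen L _ (rs L _ (rs L _ _)) at this
      rwa [rs_rs] at this
    exact (isGen_rs_sec_iff he s inf_le_right).1 h1 ⟨hxV, hx.2⟩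
  · intro x hx
    have hle := X.basicOpen_le (coord he le_rfl (rs L le_top (sec s)))
    exact ⟨(mem_genLocus_iff s x).2 ⟨_, hx, (isGen_rs_sec_iff he s hle).2 le_rfl⟩, hle hx⟩

end Groth.Agent.Lib.H78SecCoord
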