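import Groth.Prelude.Def_Coh
import Mathlib.AlgebraicGeometry.Modules.Sheaf
import Mathlib.Topology.Sheaves.SheafCondition.Sites

/-!
# OXMod M1 (core): morphisms of `O_X`-modules are local (helper90)

For `M N : X.Modules` and a family `U : ι → X.Opens` covering `X`, call an open `W` *small* if it is
contained in some `U i`.

* `hom_ext_of_small`: two morphisms `M ⟶ N` agreeing on all small opens are equal.
* `isIso_of_small`: a morphism which is an isomorphism on sections over all small opens is an isomorphism.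
* `exists_hom_of_small`: GLUING: a family of additive maps `Γ(M, W) ⟶ Γ(N, W)` for `W` small, natural for
  inclusions of small opens and `O(W)`-linear, extends uniquely to a morphism `M ⟶ N`.
* `restrictFunctor_map_app`, `hom_ext_of_isOpenCover`, `isIso_of_isOpenCover`: versions phrased with
  `Scheme.Modules.restrictFunctor (U i).ι`.
-/

set_option autoImplicit false
universe u

open CategoryTheory AlgebraicGeometry TopologicalSpace Opposite
open AlgebraicGeometry.Scheme AlgebraicGeometry.Scheme.Modules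

namespace Groth.Agent.Lib.H90OXModLocal

variable {X : Scheme.{u}} {M N : X.Modules}

section Small

variable {ι : Type*} (U : ι → X.Opens)

/-- The opens of `X` contained in some member of the family `U`. -/
def Small : Type u := {W : X.Opens // ∃ i, W ≤ U i}

/-- The inclusion of small opens into all opens. -/
def Small.val : Small U → TopologicalSpace.Opens X := fun W => W.1

variable {U}

theorem isBasis_small (hU : ⨆ i, U i = ⊤) : TopologicalSpace.Opens.IsBasis (Set.range (Small.val U)) := by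
  rw [TopologicalSpace.Opens.isBasis_iff_nbhd]
  intro V x hx
  have hx' : x ∈ ⨆ i, U i := by rw [hU]; trivial
  obtain ⟨i, hi⟩ := TopologicalSpace.Opens.mem_iSup.mp hx'
  exact ⟨V ⊓ U i, ⟨⟨V ⊓ U i, i, inf_le_right⟩, rfl⟩, ⟨hx, hi⟩, inf_le_left⟩

/-- Two morphisms of `O_X`-modules which agree on all small opens are equal. -/
theorem hom_ext_of_small (hU : ⨆ i, U i = ⊤) (f g : M ⟶ N)
    (h : ∀ W : X.Opens, (∃ i, W ≤ U i) → f.app W = g.app W) : f = g := by
  apply (toPresheaf X).map_injective
  exact TopCat.Sheaf.hom_ext (F := M.presheaf) (F' := ⟨N.presheaf, N.isSheaf⟩) (isBasis_small hU)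
    (fun W => h W.1 W.2)

/-- A morphism of `O_X`-modules which is an isomorphism on all small opens is an isomorphism. -/
theorem isIso_of_small (hU : ⨆ i, U i = ⊤) (f : M ⟶ N)
    (h : ∀ W : X.Opens, (∃ i, W ≤ U i) → IsIso (f.app W)) : IsIso f := by
  let F : TopCat.Sheaf Ab X := ⟨M.presheaf, M.isSheaf⟩
  let G : TopCat.Sheaf Ab X := ⟨N.presheaf, N.isSheaf⟩
  let φ : F ⟶ G := ⟨f.mapPresheaf⟩
  have hφ : IsIso φ := TopCat.Sheaf.isIso_iff_isIso_basis (isBasis_small hU) (fun W => h W.1 W.2)
  have h2 : IsIso ((toPresheaf X).map f) :=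
    inferInstanceAs (IsIso ((TopCat.Sheaf.forget Ab X).map φ))
  exact isIso_of_reflects_iso f (toPresheaf X)

/-- GLUING of morphisms of `O_X`-modules: a family of additive maps `φ W : Γ(M, W) ⟶ Γ(N, W)`,
`W` small, natural for inclusions of small opens and linear over functions, extends uniquely to a
morphism `M ⟶ N`. -/
theorem exists_hom_of_small (hU : ⨆ i, U i = ⊤)
    (φ : ∀ W : X.Opens, (∃ i, W ≤ U i) → (Γ(M, W) ⟶ Γ(N, W)))
    (nat : ∀ (W W' : X.Opens) (hW : ∃ i, W ≤ U i) (hW' : ∃ i, W' ≤ U i) (h : W' ≤ W)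
      (s : Γ(M, W)), N.presheaf.map (homOfLE h).op (φ W hW s) =
        φ W' hW' (M.presheaf.map (homOfLE h).op s))
    (lin : ∀ (W : X.Opens) (hW : ∃ i, W ≤ U i) (r : Γ(X, W)) (s : Γ(M, W)),
      φ W hW (r • s) = r • φ W hW s) :
    ∃ f : M ⟶ N, ∀ (W : X.Opens) (hW : ∃ i, W ≤ U i), f.app W = φ W hW := by
  have hB := isBasis_small hU
  let G : TopCat.Sheaf Ab X := ⟨N.presheaf, N.isSheaf⟩
  let α : (inducedFunctor (Small.val U)).op ⋙ M.presheaf ⟶
      (inducedFunctor (Small.val U)).op ⋙ G.1 :=
    { app := fun W => φ W.unop.1 W.unop.2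
      naturality := by
        intro W W' g
        ext s
        exact (nat W.unop.1 W'.unop.1 W.unop.2 W'.unop.2 (leOfHom ((inducedFunctor (Small.val U)).map g.unop)) s).symm }
  let β : M.presheaf ⟶ N.presheaf := TopCat.Sheaf.restrictHomEquivHom M.presheaf G hB α
  have hβ : ∀ (W : X.Opens) (hW : ∃ i, W ≤ U i), β.app (op W) = φ W hW := fun W hW =>
    TopCat.Sheaf.extend_hom_app M.presheaf G hB α ⟨W, hW⟩
  have hlin : ∀ (V : (TopologicalSpace.Opens X)ᵒᵖ) (r : X.ringCatSheaf.obj.obj V) (m : M.val.obj V),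
      β.app V (r • m) = (show N.val.obj V from r • (show N.val.obj V from β.app V m)) := by
    intro V r m
    obtain ⟨V⟩ := V
    refine TopCat.Sheaf.eq_of_locally_eq' G (fun i : ι => V ⊓ U i) V (fun i => homOfLE inf_le_left)
      ?_ _ _ ?_
    · intro x hx
      have hx' : x ∈ ⨆ i, U i := by rw [hU]; trivial
      obtain ⟨i, hi⟩ := TopologicalSpace.Opens.mem_iSup.mp hx'
      exact TopologicalSpace.Opens.mem_iSup.mpr ⟨i, hx, hi⟩
    · intro i
      have hW : ∃ j, V ⊓ U i ≤ U j := ⟨i, inf_le_right⟩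
      have n1 := fun t => NatTrans.naturality_apply β (homOfLE (inf_le_left : V ⊓ U i ≤ V)).op t
      let r' : Γ(X, V) := r
      let m' : Γ(M, V) := m
      change N.presheaf.map _ (β.app (op V) (r' • m')) = N.presheaf.map _ (r' • β.app (op V) m')
      erw [← n1, N.map_smul, ← n1, M.map_smul, hβ _ hW, lin]
  refine ⟨⟨PresheafOfModules.homMk β hlin⟩, fun W hW => ?_⟩
  rw [← hβ W hW]
  rfl

end Small

section Restrict

variable {Y : Scheme.{u}} (j : Y ⟶ X) [IsOpenImmersion j]

/-- Sections of a restricted morphism. -/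
theorem restrictFunctor_map_app (f : M ⟶ N) (W : Y.Opens) :
    ((restrictFunctor j).map f).app W = f.app (j ''ᵁ W) := rfl

theorem ι_image_preimage_of_le {V W : X.Opens} (hW : W ≤ V) : V.ι ''ᵁ (V.ι ⁻¹ᵁ W) = W := by
  simpa [Scheme.Hom.image_preimage_eq_opensRange_inf] using hW

/-- If the restrictions of `f` and `g` to `V` agree, then `f` and `g` agree on all opens inside `V`. -/
theorem app_eq_of_restrict_eq {V : X.Opens} (f g : M ⟶ N)
    (h : (restrictFunctor V.ι).map f = (restrictFunctor V.ι).map g) (W : X.Opens) (hW : W ≤ V) :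
    f.app W = g.app W := by
  have key : f.app (V.ι ''ᵁ (V.ι ⁻¹ᵁ W)) = g.app (V.ι ''ᵁ (V.ι ⁻¹ᵁ W)) :=
    congrArg (fun φ => Modules.Hom.app φ (V.ι ⁻¹ᵁ W)) h
  rwa [ι_image_preimage_of_le hW] at key

/-- If the restriction of `f` to `V` is an isomorphism, then `f` is an isomorphism on sections over all
opens inside `V`. -/
theorem isIso_app_of_isIso_restrict {V : X.Opens} (f : M ⟶ N)
    [h : IsIso ((restrictFunctor V.ι).map f)] (W : X.Opens) (hW : W ≤ V) : IsIso (f.app W) := by
  have key : IsIso (f.app (V.ι ''ᵁ (V.ι ⁻¹ᵁ W))) :=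
    inferInstanceAs (IsIso (((restrictFunctor V.ι).map f).app (V.ι ⁻¹ᵁ W)))
  rwa [ι_image_preimage_of_le hW] at key

variable {ι : Type*} {U : ι → X.Opens}

/-- Two morphisms of `O_X`-modules whose restrictions to the members of an open cover agree are equal. -/
theorem hom_ext_of_isOpenCover (hU : ⨆ i, U i = ⊤) (f g : M ⟶ N)
    (h : ∀ i, (restrictFunctor (U i).ι).map f = (restrictFunctor (U i).ι).map g) : f = g :=
  hom_ext_of_small hU f g (fun W ⟨i, hi⟩ => app_eq_of_restrict_eq f g (h i) W hi)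

/-- A morphism of `O_X`-modules whose restrictions to the members of an open cover are isomorphisms is an
isomorphism. -/
theorem isIso_of_isOpenCover (hU : ⨆ i, U i = ⊤) (f : M ⟶ N)
    (h : ∀ i, IsIso ((restrictFunctor (U i).ι).map f)) : IsIso f :=
  isIso_of_small hU f (fun W ⟨i, hi⟩ => by haveI := h i; exact isIso_app_of_isIso_restrict f W hi)

/-- A morphism is an isomorphism iff all its restrictions to an open cover are. -/
theorem isIso_iff_of_isOpenCover (hU : ⨆ i, U i = ⊤) (f : M ⟶ N) :
    IsIso f ↔ ∀ i, IsIso ((restrictFunctor (U i).ι).map f) :=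
  ⟨fun _ _ => inferInstance, isIso_of_isOpenCover hU f⟩

end Restrict

end Groth.Agent.Lib.H90OXModLocal
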