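/-
helper3: gluing an isomorphism of `O_X`-modules from matching local generators.
* `exists_iso_of_atlas`: `L'`, `L` with free generators `t i`, `e i` over an open cover `U i` and the same transition
  functions `g i j` (`t j = g i j • t i`, `e j = g i j • e i` on `U i ⊓ U j`) are isomorphic by an isomorphism carrying
  `t i` to `e i`.
* `exists_iso_of_ratios`: global sections `t k` of `L'`, `s k` of `L` such that `t i`, `s i` are free generators over
  `U i` and `t k = a i k • t i`, `s k = a i k • s i` on `U i` (same ratios): there is an isomorphism `L' ≅ L` with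
  `t k ↦ s k`.
-/
import Groth.Agent.Lib.H78SecCoord
import Groth.Agent.Lib.H78Atlas
import Groth.Agent.Lib.H90OXModLocal

set_option autoImplicit false
set_option linter.style.haveILetI false
universe u
open CategoryTheory AlgebraicGeometry TopologicalSpace Opposite
open Groth.Agent.Lib.H90Invertible Groth.Agent.Lib.H78TensorGen Groth.Agent.Lib.H78SecCoord
open Groth.Agent.Lib.H78Atlas

namespace Groth.Agent.Lib.ModIsoGlueH3

variable {X : Scheme.{u}} {L L' : X.Modules} {ι : Type*} {U : ι → X.Opens}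

section Atlas

variable {t : ∀ i, Γ(L', U i)} (ht : ∀ i, IsGen L' (U i) (t i))
  {e : ∀ i, Γ(L, U i)} (he : ∀ i, IsGen L (U i) (e i))
  {g : ∀ i j, Γ(X, U i ⊓ U j)}
  (htg : ∀ i j, rs L' (inf_le_right : U i ⊓ U j ≤ U j) (t j) =
    g i j • rs L' (inf_le_left : U i ⊓ U j ≤ U i) (t i))
  (heg : ∀ i j, rs L (inf_le_right : U i ⊓ U j ≤ U j) (e j) =
    g i j • rs L (inf_le_left : U i ⊓ U j ≤ U i) (e i))

include htg in
theorem rs_t {W : X.Opens} {i j : ι} (hi : W ≤ U i) (hj : W ≤ U j) :
    rs L' hj (t j) = rf (le_inf hi hj) (g i j) • rs L' hi (t i) := by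
  have h := congrArg (rs L' (le_inf hi hj)) (htg i j)
  rw [rs_rs, rs_smul, rs_rs] at h
  exact h

include ht htg heg in
/-- the local map does not depend on the chart -/
theorem indep {W : X.Opens} {i j : ι} (hi : W ≤ U i) (hj : W ≤ U j) (x : Γ(L', W)) :
    coord (ht i) hi x • rs L hi (e i) = coord (ht j) hj x • rs L hj (e j) := by
  have h1 := rs_t (L' := L') htg hi hj
  have h2 := rs_t (L' := L) heg hi hj
  have h3 : coord (ht j) hj x * rf (le_inf hi hj) (g i j) = coord (ht i) hi x := by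
    apply coord_unique
    rw [mul_smul, ← h1, coord_spec]
  rw [← h3, mul_smul, ← h2]

/-- the local map on a small open -/
noncomputable def locMap (e : ∀ i, Γ(L, U i)) (W : X.Opens) (hW : ∃ i, W ≤ U i) : Γ(L', W) →+ Γ(L, W) where
  toFun x := coord (ht hW.choose) hW.choose_spec x • rs L hW.choose_spec (e hW.choose)
  map_zero' := by rw [coord_zero, zero_smul]
  map_add' x y := by rw [coord_add, add_smul]

include htg heg in
theorem locMap_eq {W : X.Opens} {i : ι} (hi : W ≤ U i) (x : Γ(L', W)) :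
    locMap ht e W ⟨i, hi⟩ x = coord (ht i) hi x • rs L hi (e i) :=
  indep ht htg heg _ hi x

include he htg heg in
theorem locMap_bijective (W : X.Opens) (hW : ∃ i, W ≤ U i) :
    Function.Bijective (locMap ht e W hW) := by
  obtain ⟨i, hi⟩ := hW
  have h1 : (locMap ht e W ⟨i, hi⟩ : Γ(L', W) → Γ(L, W)) =
      (fun a : Γ(X, W) => a • rs L hi (e i)) ∘ (coord (ht i) hi) := by
    funext x
    exact locMap_eq ht htg heg hi x
  rw [h1]
  refine (he i W hi).comp ⟨coord_injective (ht i) hi, fun a => ⟨a • rs L' hi (t i), ?_⟩⟩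
  exact coord_smul_gen (ht i) hi a

include he htg heg in
/-- **Gluing an isomorphism from matching atlases.** -/
theorem exists_iso_of_atlas (hU : ⨆ i, U i = ⊤) :
    ∃ φ : L' ≅ L, ∀ (i : ι) (W : X.Opens) (hi : W ≤ U i) (x : Γ(L', W)),
      φ.hom.app W x = coord (ht i) hi x • rs L hi (e i) := by
  obtain ⟨f, hf⟩ := Groth.Agent.Lib.H90OXModLocal.exists_hom_of_small (U := U) hU (M := L') (N := L)
    (fun W hW => AddCommGrpCat.ofHom (locMap ht e W hW))
    (fun W W' hW hW' h x => by
      obtain ⟨i, hi⟩ := hW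
      change rs L h (locMap ht e W ⟨i, hi⟩ x) = locMap ht e W' hW' (rs L' h x)
      rw [locMap_eq ht htg heg hi, locMap_eq ht htg heg (h.trans hi), rs_smul, rs_rs, coord_rs])
    (fun W hW r x => by
      obtain ⟨i, hi⟩ := hW
      change locMap ht e W ⟨i, hi⟩ (r • x) = r • locMap ht e W ⟨i, hi⟩ x
      rw [locMap_eq ht htg heg hi, locMap_eq ht htg heg hi, coord_smul, mul_smul])
  have hiso : IsIso f := by
    refine Groth.Agent.Lib.H90OXModLocal.isIso_of_small hU f (fun W hW => ?_)
    rw [hf W hW]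
    exact (ConcreteCategory.isIso_iff_bijective _).mpr (locMap_bijective ht he htg heg W hW)
  refine ⟨asIso f, fun i W hi x => ?_⟩
  change f.app W x = _
  rw [hf W ⟨i, hi⟩]
  exact locMap_eq ht htg heg hi x

end Atlas

section Ratios

/-- **Gluing an isomorphism from global sections with the same ratios.** -/
theorem exists_iso_of_ratios (hU : ⨆ i, U i = ⊤) {t : ι → Γ(L', ⊤)} {s : ι → Γ(L, ⊤)}
    (ht : ∀ i, IsGen L' (U i) (rs L' le_top (t i))) (hs : ∀ i, IsGen L (U i) (rs L le_top (s i)))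
    (a : ∀ i : ι, ι → Γ(X, U i))
    (hta : ∀ i k, rs L' (le_top : U i ≤ ⊤) (t k) = a i k • rs L' le_top (t i))
    (hsa : ∀ i k, rs L (le_top : U i ≤ ⊤) (s k) = a i k • rs L le_top (s i)) :
    ∃ φ : L' ≅ L, ∀ k, φ.hom.app ⊤ (t k) = s k := by
  obtain ⟨φ, hφ⟩ := exists_iso_of_atlas ht hs
    (g := fun i j => rf (inf_le_left : U i ⊓ U j ≤ U i) (a i j))
    (fun i j => by
      rw [rs_rs, ← rs_rs L' (le_top : U i ≤ ⊤) (inf_le_left : U i ⊓ U j ≤ U i) (t j), hta i j, rs_smul])
    (fun i j => by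
      rw [rs_rs, ← rs_rs L (le_top : U i ≤ ⊤) (inf_le_left : U i ⊓ U j ≤ U i) (s j), hsa i j, rs_smul])
    hU
  refine ⟨φ, fun k => sec_ext L _ _ (fun x _ => ?_)⟩
  have hx : x ∈ ⨆ i, U i := by rw [hU]; trivial
  obtain ⟨i, hi⟩ := Opens.mem_iSup.1 hx
  refine ⟨U i, le_top, hi, ?_⟩
  rw [← app_rs, hφ i (U i) le_rfl, hsa i k]
  congr 1
  · symm
    apply coord_unique
    rw [rs_self, hta i k]
  · exact rs_self L _

end Ratios

end Groth.Agent.Lib.ModIsoGlueH3
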