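/-
helper3: morphisms to `Proj 𝒜` from ring maps out of the charts `A_(f)`, and their gluing.
* `chart 𝒜 hf hd U ψ : U ⟶ Proj 𝒜` for `ψ : Away 𝒜 f →+* Γ(X, U)`;
  `homOfLE_chart` (restriction), `chart_comp_awayMap` (passing to `D₊(fg)`), `chart_mem_basicOpen`,
  `chart_toSpecZero`, `appLE_of_ι_comp_eq_chart` (recovering `ψ` from a morphism restricting to the chart map),
  `awayToSection_comp_awayι`.
* `exists_glue`: opens `U i` covering `X`, ring maps `Φ i : A →+* Γ(X, U i)` with `Φ i (f i)` invertible, which on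
  overlaps differ by the graded rescaling by a unit, glue to `r : X ⟶ Proj 𝒜` restricting on `U i` to
  `chart (awayLift (f i) (Φ i))`.
-/
import Groth.Agent.Lib.AwayLiftH3
import Mathlib

set_option autoImplicit false
set_option linter.style.haveILetI false
universe u
open CategoryTheory CategoryTheory.Limits AlgebraicGeometry TopologicalSpace Opposite HomogeneousLocalization
open Groth.Agent.Lib.AwayLiftH3

namespace Groth.Agent.Lib.ProjChartH3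

section GlueOpens

variable {X Z : Scheme.{u}} {ι : Type*} (U : ι → X.Opens)

/-- Two morphisms agreeing on a family of opens covering `X` are equal (universe-polymorphic index). -/
theorem hom_ext_of_iSup_eq_top (hU : ⨆ i, U i = ⊤) (f g : X ⟶ Z)
    (h : ∀ i, (U i).ι ≫ f = (U i).ι ≫ g) : f = g := by
  refine Scheme.hom_ext_of_forall _ _ fun x => ?_
  have hx : x ∈ (⊤ : X.Opens) := trivial
  rw [← hU, Opens.mem_iSup] at hx
  obtain ⟨i, hi⟩ := hx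
  exact ⟨U i, hi, h i⟩

/-- Agreement on `U i ⊓ U j` gives agreement on the fibre product. -/
theorem fst_comp_eq_snd_comp (g : ∀ i, ((U i : X.Opens) : Scheme.{u}) ⟶ Z)
    (hg : ∀ (i j : ι), X.homOfLE (inf_le_left : U i ⊓ U j ≤ U i) ≫ g i =
        X.homOfLE (inf_le_right : U i ⊓ U j ≤ U j) ≫ g j) (i j : ι) :
    pullback.fst (U i).ι (U j).ι ≫ g i = pullback.snd (U i).ι (U j).ι ≫ g j := by
  let q : pullback (U i).ι (U j).ι ⟶ X := pullback.fst (U i).ι (U j).ι ≫ (U i).ι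
  have hq : q = pullback.snd (U i).ι (U j).ι ≫ (U j).ι := pullback.condition
  have hle : q.opensRange ≤ (U i ⊓ U j).ι.opensRange := by
    rw [Scheme.Opens.opensRange_ι]
    rintro _ ⟨y, rfl⟩
    refine ⟨?_, ?_⟩
    · change (pullback.fst (U i).ι (U j).ι ≫ (U i).ι) y ∈ U i
      rw [Scheme.Hom.comp_apply]
      exact (pullback.fst (U i).ι (U j).ι y).2
    · change q y ∈ U j
      rw [hq, Scheme.Hom.comp_apply]
      exact (pullback.snd (U i).ι (U j).ι y).2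
  let l : pullback (U i).ι (U j).ι ⟶ (U i ⊓ U j : X.Opens) := IsOpenImmersion.lift (U i ⊓ U j).ι q hle
  have hl : l ≫ (U i ⊓ U j).ι = q := IsOpenImmersion.lift_fac _ _ _
  have h1 : pullback.fst (U i).ι (U j).ι = l ≫ X.homOfLE inf_le_left := by
    rw [← cancel_mono (U i).ι]
    simp only [Category.assoc, Scheme.homOfLE_ι, hl]
    rfl
  have h2 : pullback.snd (U i).ι (U j).ι = l ≫ X.homOfLE inf_le_right := by
    rw [← cancel_mono (U j).ι]
    simp only [Category.assoc, Scheme.homOfLE_ι, hl]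
    rw [hq]
  rw [h1, h2, Category.assoc, Category.assoc, hg]

/-- Gluing morphisms along a family of opens covering `X` (universe-polymorphic index). -/
theorem exists_glue_opens (hU : ⨆ i, U i = ⊤) (g : ∀ i, ((U i : X.Opens) : Scheme.{u}) ⟶ Z)
    (hg : ∀ (i j : ι), X.homOfLE (inf_le_left : U i ⊓ U j ≤ U i) ≫ g i =
        X.homOfLE (inf_le_right : U i ⊓ U j ≤ U j) ≫ g j) :
    ∃ h : X ⟶ Z, ∀ i, (U i).ι ≫ h = g i := by
  have compat := fst_comp_eq_snd_comp U g hg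
  exact ⟨(X.openCoverOfIsOpenCover U hU).glueMorphisms g compat,
    fun i => (X.openCoverOfIsOpenCover U hU).ι_glueMorphisms g compat i⟩

end GlueOpens

variable {R A : Type u} [CommRing R] [CommRing A] [Algebra R A] (𝒜 : ℕ → Submodule R A) [GradedAlgebra 𝒜]
variable {X : Scheme.{u}}

/-- the morphism `U ⟶ D₊(f) ⊆ Proj 𝒜` attached to a ring map `A_(f) → Γ(X, U)` -/
noncomputable def chart {f : A} {d : ℕ} (hf : f ∈ 𝒜 d) (hd : 0 < d) (U : X.Opens)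
    (ψ : Away 𝒜 f →+* Γ(X, U)) : (U : Scheme.{u}) ⟶ Proj 𝒜 :=
  U.toSpecΓ ≫ Spec.map (CommRingCat.ofHom ψ) ≫ Proj.awayι 𝒜 f hf hd

variable {𝒜}

theorem homOfLE_chart {f : A} {d : ℕ} (hf : f ∈ 𝒜 d) (hd : 0 < d) {W U : X.Opens} (h : W ≤ U)
    (ψ : Away 𝒜 f →+* Γ(X, U)) :
    X.homOfLE h ≫ chart 𝒜 hf hd U ψ =
      chart 𝒜 hf hd W ((X.presheaf.map (homOfLE h).op).hom.comp ψ) := by
  unfold chart
  rw [← Scheme.Opens.toSpecΓ_SpecMap_presheaf_map_assoc, ← Spec.map_comp_assoc]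
  rfl

theorem chart_comp_awayMap {f g x : A} {d e : ℕ} (hf : f ∈ 𝒜 d) (hd : 0 < d) (hg : g ∈ 𝒜 e)
    (hx : x = f * g) (U : X.Opens) (ψ : Away 𝒜 x →+* Γ(X, U)) :
    chart 𝒜 hf hd U (ψ.comp (awayMap 𝒜 hg hx)) =
      chart 𝒜 (hx ▸ SetLike.mul_mem_graded hf hg : x ∈ 𝒜 (d + e)) (hd.trans_le (d.le_add_right e)) U ψ := by
  unfold chart
  rw [← Proj.SpecMap_awayMap_awayι 𝒜 hf hd hg hx, ← Spec.map_comp_assoc]
  rfl

theorem chart_mem_basicOpen {f : A} {d : ℕ} (hf : f ∈ 𝒜 d) (hd : 0 < d) (U : X.Opens)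
    (ψ : Away 𝒜 f →+* Γ(X, U)) (y : (U : Scheme.{u})) :
    chart 𝒜 hf hd U ψ y ∈ Proj.basicOpen 𝒜 f := by
  rw [← Proj.opensRange_awayι 𝒜 f hf hd]
  unfold chart
  rw [← Category.assoc, Scheme.Hom.comp_apply]
  exact ⟨_, rfl⟩

theorem chart_toSpecZero {f : A} {d : ℕ} (hf : f ∈ 𝒜 d) (hd : 0 < d) (U : X.Opens)
    (ψ : Away 𝒜 f →+* Γ(X, U)) :
    chart 𝒜 hf hd U ψ ≫ Proj.toSpecZero 𝒜 =
      U.toSpecΓ ≫ Spec.map (CommRingCat.ofHom (ψ.comp (fromZeroRingHom 𝒜 _))) := by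
  unfold chart
  rw [Category.assoc, Category.assoc, Proj.awayι_toSpecZero, ← Spec.map_comp]
  rfl

theorem awayToSection_comp_awayι {f : A} {d : ℕ} (hf : f ∈ 𝒜 d) (hd : 0 < d) :
    Spec.map (Proj.awayToSection 𝒜 f) ≫ Proj.awayι 𝒜 f hf hd =
      (Proj.isAffineOpen_basicOpen 𝒜 f hf hd).fromSpec := by
  have hA := Proj.isAffineOpen_basicOpen 𝒜 f hf hd
  unfold Proj.awayι IsAffineOpen.fromSpec
  rw [← Category.assoc]
  congr 1
  rw [Iso.comp_inv_eq, Proj.basicOpenIsoSpec_hom, Proj.basicOpenToSpec, ← Category.assoc]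
  have : hA.isoSpec.inv ≫ (Proj.basicOpen 𝒜 f).toSpecΓ = 𝟙 _ := by
    rw [← IsAffineOpen.isoSpec_hom hA, Iso.inv_hom_id]
  rw [this, Category.id_comp]

/-- `toSpecΓ ≫ Spec.map a` determines `a` -/
theorem eq_of_toSpecΓ_comp_eq {U : X.Opens} {B : CommRingCat.{u}} (a b : B ⟶ Γ(X, U))
    (h : U.toSpecΓ ≫ Spec.map a = U.toSpecΓ ≫ Spec.map b) : a = b := by
  have h2 := congrArg Scheme.Hom.appTop h
  rw [Scheme.Hom.comp_appTop, Scheme.Hom.comp_appTop, Scheme.Opens.toSpecΓ_appTop] at h2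
  have h3 : ∀ c : B ⟶ Γ(X, U), (Spec.map c).appTop =
      (Scheme.ΓSpecIso _).hom ≫ c ≫ (Scheme.ΓSpecIso _).inv := by
    intro c
    rw [← Scheme.ΓSpecIso_naturality_assoc, Iso.hom_inv_id, Category.comp_id]
  rw [h3, h3] at h2
  simp only [Category.assoc, Iso.inv_hom_id_assoc] at h2
  rw [cancel_epi] at h2
  exact (cancel_mono _).mp h2

/-- a morphism restricting on `U` to a chart map has the chart's ring map as its `appLE` -/
theorem appLE_of_ι_comp_eq_chart {f : A} {d : ℕ} (hf : f ∈ 𝒜 d) (hd : 0 < d) (U : X.Opens)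
    (ψ : Away 𝒜 f →+* Γ(X, U)) (r : X ⟶ Proj 𝒜) (hr : U.ι ≫ r = chart 𝒜 hf hd U ψ)
    (e : U ≤ r ⁻¹ᵁ Proj.basicOpen 𝒜 f) (z : Away 𝒜 f) :
    (r.appLE (Proj.basicOpen 𝒜 f) U e).hom ((Proj.awayToSection 𝒜 f).hom z) = ψ z := by
  have hA := Proj.isAffineOpen_basicOpen 𝒜 f hf hd
  have h1 : U.ι ≫ r = U.toSpecΓ ≫ Spec.map (r.appLE (Proj.basicOpen 𝒜 f) U e) ≫ hA.fromSpec := by
    rw [Scheme.Opens.toSpecΓ_SpecMap_appLE_assoc, hA.toSpecΓ_fromSpec, Scheme.Hom.resLE_comp_ι]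
  rw [hr, ← awayToSection_comp_awayι hf hd] at h1
  unfold chart at h1
  rw [← Category.assoc, ← Category.assoc (Spec.map _), ← Category.assoc U.toSpecΓ,
    cancel_mono, ← Spec.map_comp] at h1
  have h2 := eq_of_toSpecΓ_comp_eq _ _ h1
  have h3 := congrArg (fun φ => φ.hom z) h2
  exact h3.symm

theorem awayι_congr {f : A} {d d' : ℕ} (hf : f ∈ 𝒜 d) (hd : 0 < d) (hf' : f ∈ 𝒜 d') (hd' : 0 < d') :
    Proj.awayι 𝒜 f hf hd = Proj.awayι 𝒜 f hf' hd' := by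
  unfold Proj.awayι
  have : Proj.basicOpenIsoSpec 𝒜 f hf hd = Proj.basicOpenIsoSpec 𝒜 f hf' hd' := Iso.ext rfl
  rw [this]

theorem chart_congr {f : A} {d d' : ℕ} (hf : f ∈ 𝒜 d) (hd : 0 < d) (hf' : f ∈ 𝒜 d') (hd' : 0 < d')
    (U : X.Opens) {ψ ψ' : Away 𝒜 f →+* Γ(X, U)} (h : ψ = ψ') :
    chart 𝒜 hf hd U ψ = chart 𝒜 hf' hd' U ψ' := by
  subst h
  unfold chart
  rw [awayι_congr hf hd hf' hd']

/-- **Gluing chart maps.** -/
theorem exists_glue {ι : Type*} (U : ι → X.Opens) (hU : ⨆ i, U i = ⊤) (f : ι → A) (d : ι → ℕ)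
    (hf : ∀ i, f i ∈ 𝒜 (d i)) (hd : ∀ i, 0 < d i)
    (Φ : ∀ i, A →+* Γ(X, U i)) (hΦ : ∀ i, IsUnit (Φ i (f i)))
    (v : ∀ i j, Γ(X, U i ⊓ U j))
    (hscale : ∀ (i j : ι) (n : ℕ) (a : A), a ∈ 𝒜 n →
      (X.presheaf.map (homOfLE (inf_le_right : U i ⊓ U j ≤ U j)).op).hom (Φ j a) =
        v i j ^ n * (X.presheaf.map (homOfLE (inf_le_left : U i ⊓ U j ≤ U i)).op).hom (Φ i a)) :
    ∃ r : X ⟶ Proj 𝒜, ∀ i, (U i).ι ≫ r =
      chart 𝒜 (hf i) (hd i) (U i) (awayLift 𝒜 (f i) (Φ i) (hΦ i)) := by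
  refine exists_glue_opens U hU _ (fun i j => ?_)
  set ρi := (X.presheaf.map (homOfLE (inf_le_left : U i ⊓ U j ≤ U i)).op).hom with hρi
  set ρj := (X.presheaf.map (homOfLE (inf_le_right : U i ⊓ U j ≤ U j)).op).hom with hρj
  have hsc : ∀ (n : ℕ) (a : A), a ∈ 𝒜 n → (ρj.comp (Φ j)) a = v i j ^ n * (ρi.comp (Φ i)) a :=
    fun n a ha => hscale i j n a ha
  have hui : IsUnit ((ρi.comp (Φ i)) (f i)) := (hΦ i).map ρi
  have huj : IsUnit ((ρj.comp (Φ j)) (f j)) := (hΦ j).map ρj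
  have huij : IsUnit ((ρi.comp (Φ i)) (f j)) := by
    rw [hsc _ _ (hf j)] at huj
    exact isUnit_of_mul_isUnit_right huj
  have hux : IsUnit ((ρi.comp (Φ i)) (f i * f j)) := by
    rw [map_mul]; exact hui.mul huij
  have hux' : IsUnit ((ρj.comp (Φ j)) (f i * f j)) := by
    rw [hsc _ _ (SetLike.mul_mem_graded (hf i) (hf j))]
    rw [hsc _ _ (hf j)] at huj
    have hv : IsUnit (v i j ^ d j) := isUnit_of_mul_isUnit_left huj
    rcases Nat.eq_zero_or_pos (d i + d j) with h0 | h0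
    · have := hd i; omega
    · have hv' : IsUnit (v i j) := (isUnit_pow_iff (hd j).ne').mp hv
      exact (hv'.pow _).mul hux
  have hxf : f i * f j ∈ 𝒜 (d i + d j) := SetLike.mul_mem_graded (hf i) (hf j)
  have hxd : 0 < d i + d j := (hd i).trans_le (Nat.le_add_right _ _)
  have hL : X.homOfLE (inf_le_left : U i ⊓ U j ≤ U i) ≫
      chart 𝒜 (hf i) (hd i) (U i) (awayLift 𝒜 (f i) (Φ i) (hΦ i)) =
      chart 𝒜 hxf hxd (U i ⊓ U j) (awayLift 𝒜 (f i * f j) (ρi.comp (Φ i)) hux) := by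
    rw [homOfLE_chart, ← hρi, comp_awayLift ρi (Φ i) (hΦ i) (hf i),
      ← awayLift_comp_awayMap (hf i) (hf j) rfl (ρi.comp (Φ i)) hux hui, chart_comp_awayMap]
  have hR : X.homOfLE (inf_le_right : U i ⊓ U j ≤ U j) ≫
      chart 𝒜 (hf j) (hd j) (U j) (awayLift 𝒜 (f j) (Φ j) (hΦ j)) =
      chart 𝒜 hxf hxd (U i ⊓ U j) (awayLift 𝒜 (f i * f j) (ρj.comp (Φ j)) hux') := by
    rw [homOfLE_chart, ← hρj, comp_awayLift ρj (Φ j) (hΦ j) (hf j),
      ← awayLift_comp_awayMap (hf j) (hf i) (mul_comm (f i) (f j)) (ρj.comp (Φ j)) hux' huj,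
      chart_comp_awayMap]
    exact chart_congr _ _ _ _ _ rfl
  rw [hL, hR]
  exact chart_congr _ _ _ _ _ (awayLift_eq_of_scaling hxf _ _ (v i j) hsc hux' hux).symm

end Groth.Agent.Lib.ProjChartH3
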