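/-
helper3: uniqueness part of the universal property of projective space (EGA II 4.2.3 for the free module):
`hom_ext_of_iso`: two `R`-morphisms `r r' : X ⟶ P^n_R` with an isomorphism `r^*O(1) ≅ r'^*O(1)` carrying `r^*X_i` to
`r'^*X_i` are equal.  Intermediate: `preimage_D_le` (`r⁻¹D₊(X_j) ≤ r'⁻¹D₊(X_j)`), `appLE_τ_eq`, `appLE_eq`,
`pullSec_res_le`, `tau_s`; general: `IsGen.bijective_self`, `isUnit_of_isGen_smul`, `app_res`.
-/
import Groth.Agent.Lib.ProjSpacePullH3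
import Groth.Agent.Lib.AffAlgH3

set_option autoImplicit false
set_option linter.style.haveILetI false
universe u
open CategoryTheory AlgebraicGeometry TopologicalSpace Opposite Twist
open AlgebraicGeometry.Scheme.Modules
open Groth.Agent.Lib.H90Invertible Groth.Agent.Lib.H4Twist Groth.Agent.Lib
open Groth.Agent.Lib.PullSecH3 Groth.Agent.Lib.ProjSpaceCoordH3 Groth.Agent.Lib.QCohStalk
open Groth.Agent.Lib.ProjSpacePullH3

namespace Groth.Agent.Lib.ProjSpaceUniqH3

section General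

variable {X : Scheme.{u}} {L L' : X.Modules}

theorem IsGen.bijective_self {W : X.Opens} {s : Γ(L, W)} (hs : IsGen L W s) :
    Function.Bijective (fun a : Γ(X, W) => a • s) := by
  have h := hs W le_rfl
  have e : L.presheaf.map (homOfLE (le_refl W)).op s = s := res_self L s
  rw [e] at h
  exact h

/-- if `t = a • t'` with `t`, `t'` both free generators then `a` is a unit -/
theorem isUnit_of_isGen_smul {W : X.Opens} {t t' : Γ(L, W)} (ht : IsGen L W t)
    (a : Γ(X, W)) (h : t = a • t') : IsUnit a := by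
  obtain ⟨b, hb⟩ := (IsGen.bijective_self ht).2 t'
  dsimp only at hb
  have h1 : (a * b) • t = (1 : Γ(X, W)) • t := by
    rw [mul_smul, hb, ← h, one_smul]
  have h2 := (IsGen.bijective_self ht).1 h1
  exact IsUnit.of_mul_eq_one _ h2

theorem app_res (φ : L ⟶ L') {U V : X.Opens} (hVU : V ≤ U) (s : Γ(L, U)) :
    φ.app V (L.presheaf.map (homOfLE hVU).op s) = L'.presheaf.map (homOfLE hVU).op (φ.app U s) :=
  (Groth.Agent.Lib.UnitBaseChange.hom_naturality_apply φ (homOfLE hVU) s).symm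

end General

section Uniq

variable (n : ℕ) (R : Type u) [CommRing R] {X : Scheme.{u}}
  (r r' : X ⟶ Proj (CohB1.polyGrading n R))
  (θ : (pullback r).obj (twist (CohB1.polyGrading n R) 1) ≅
    (pullback r').obj (twist (CohB1.polyGrading n R) 1))
  (hθ : ∀ i, θ.hom.app ⊤ (ProjUP.pullSec r (twist (CohB1.polyGrading n R) 1) (ProjUP.coord n R i)) =
    ProjUP.pullSec r' (twist (CohB1.polyGrading n R) 1) (ProjUP.coord n R i))

local notation "𝒜" => CohB1.polyGrading n R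
local notation "O1" => twist (CohB1.polyGrading n R) 1

/-- `f^* X_i` restricted to any open `W ≤ f⁻¹ D_j` -/
theorem pullSec_res_le (f : X ⟶ Proj 𝒜) (i j : Fin (n + 1)) {W : X.Opens} (hW : W ≤ f ⁻¹ᵁ D n R j) :
    ((pullback f).obj O1).presheaf.map (homOfLE (le_top : W ≤ ⊤)).op
      (ProjUP.pullSec f O1 (ProjUP.coord n R i)) =
      (f.appLE (D n R j) W hW).hom (τ n R i j) •
        ((pullback f).obj O1).presheaf.map (homOfLE hW).op (s n R f j) := by
  have h1 := pullSec_coord_res n R f i j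
  have h2 := congrArg (((pullback f).obj O1).presheaf.map (homOfLE hW).op) h1
  rw [Groth.Agent.Lib.UnitBaseChange.presheaf_map_map _ _ _ (homOfLE (le_top : W ≤ ⊤))] at h2
  refine h2.trans ?_
  exact res_smul ((pullback f).obj O1) hW _ _

include hθ in
/-- the image under `θ` of the generator `r^* X_j` on `r⁻¹ D_j` is `r'^* X_j` -/
theorem tau_s (j : Fin (n + 1)) :
    θ.hom.app (r ⁻¹ᵁ D n R j) (s n R r j) =
      ((pullback r').obj O1).presheaf.map (homOfLE (le_top : r ⁻¹ᵁ D n R j ≤ ⊤)).op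
        (ProjUP.pullSec r' O1 (ProjUP.coord n R j)) := by
  have h1 : s n R r j = ((pullback r).obj O1).presheaf.map (homOfLE (le_top : r ⁻¹ᵁ D n R j ≤ ⊤)).op
      (ProjUP.pullSec r O1 (ProjUP.coord n R j)) :=
    unitV_res r O1 (le_top : D n R j ≤ ⊤) (ProjUP.coord n R j)
  rw [h1, app_res, hθ j]

include hθ in
theorem preimage_D_le (j : Fin (n + 1)) : r ⁻¹ᵁ D n R j ≤ r' ⁻¹ᵁ D n R j := by
  intro x hx
  obtain ⟨i, hi⟩ := exists_mem_D n R (r' x)
  have hxi : x ∈ r' ⁻¹ᵁ D n R i := hi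
  let W : X.Opens := r ⁻¹ᵁ D n R j ⊓ r' ⁻¹ᵁ D n R i
  have hxW : x ∈ W := ⟨hx, hxi⟩
  have hWj : W ≤ r ⁻¹ᵁ D n R j := inf_le_left
  have hWi : W ≤ r' ⁻¹ᵁ D n R i := inf_le_right
  -- generator coming from `r`
  have hgen : IsGen ((pullback r').obj O1) (r ⁻¹ᵁ D n R j) (θ.hom.app (r ⁻¹ᵁ D n R j) (s n R r j)) :=
    (isGen_s n R r j).of_iso θ
  have hgenW := hgen.mono hWj
  rw [tau_s n R r r' θ hθ j, Groth.Agent.Lib.UnitBaseChange.presheaf_map_map _ _ _
    (homOfLE (le_top : W ≤ ⊤))] at hgenW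
  have hu := isUnit_of_isGen_smul hgenW _ (pullSec_res_le n R r' j i hWi)
  -- so `x` lies in the non-vanishing locus of `r'^#(X_j / X_i)`
  have hx' : x ∈ X.basicOpen ((r'.appLE (D n R i) W hWi).hom (τ n R j i)) := by
    rw [Scheme.mem_basicOpen X _ x hxW]
    exact hu.map _
  rw [Scheme.basicOpen_appLE] at hx'
  exact (mem_basicOpen_τ n R j i ⟨r' x, hi⟩).mp hx'.2

include hθ in
theorem appLE_τ_eq (i j : Fin (n + 1)) :
    (r.app (D n R j)).hom (τ n R i j) =
      (r'.appLE (D n R j) (r ⁻¹ᵁ D n R j) (preimage_D_le n R r r' θ hθ j)).hom (τ n R i j) := by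
  have hle := preimage_D_le n R r r' θ hθ j
  have hgen : IsGen ((pullback r').obj O1) (r ⁻¹ᵁ D n R j) (θ.hom.app (r ⁻¹ᵁ D n R j) (s n R r j)) :=
    (isGen_s n R r j).of_iso θ
  apply (IsGen.bijective_self hgen).1
  dsimp only
  -- both sides compute `r'^* X_i` restricted to `r⁻¹ D_j`
  have h1 : θ.hom.app (r ⁻¹ᵁ D n R j)
      (((pullback r).obj O1).presheaf.map (homOfLE (le_top : r ⁻¹ᵁ D n R j ≤ ⊤)).op
        (ProjUP.pullSec r O1 (ProjUP.coord n R i))) =
      ((pullback r').obj O1).presheaf.map (homOfLE (le_top : r ⁻¹ᵁ D n R j ≤ ⊤)).op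
        (ProjUP.pullSec r' O1 (ProjUP.coord n R i)) := by
    rw [app_res, hθ i]
  rw [pullSec_coord_res n R r i j, Scheme.Modules.Hom.app_smul] at h1
  rw [h1, pullSec_res_le n R r' i j hle, tau_s n R r r' θ hθ j]
  congr 1
  have h2 := unitV_res r' O1 (le_top : D n R j ≤ ⊤) (ProjUP.coord n R j)
  have h3 : s n R r' j = ((pullback r').obj O1).presheaf.map
      (homOfLE (le_top : r' ⁻¹ᵁ D n R j ≤ ⊤)).op (ProjUP.pullSec r' O1 (ProjUP.coord n R j)) := h2
  rw [h3]
  exact Groth.Agent.Lib.UnitBaseChange.presheaf_map_map _ _ _ _ _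

include hθ in
theorem appLE_eq (hrr' : r ≫ (CohB1.ProjSpace.toSpec n R : Proj (CohB1.polyGrading n R) ⟶ _) =
      r' ≫ (CohB1.ProjSpace.toSpec n R : Proj (CohB1.polyGrading n R) ⟶ _)) (j : Fin (n + 1)) :
    r.appLE (D n R j) (r ⁻¹ᵁ D n R j) le_rfl =
      r'.appLE (D n R j) (r ⁻¹ᵁ D n R j) (preimage_D_le n R r r' θ hθ j) := by
  have hle := preimage_D_le n R r r' θ hθ j
  ext b
  refine induction_D n R j
    (fun b => (r.appLE (D n R j) (r ⁻¹ᵁ D n R j) le_rfl).hom b =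
      (r'.appLE (D n R j) (r ⁻¹ᵁ D n R j) hle).hom b) ?_ ?_ ?_ ?_ b
  · intro c
    rw [Scheme.Hom.appLE_eq_app]
    rw [← toGlobal_res n R r _ rfl j c]
    have h2 := toGlobal_res n R r' _ hrr'.symm j c
    have h3 := congrArg (X.presheaf.map (homOfLE hle).op).hom h2
    have h4 := resO_resO X hle (le_top : r' ⁻¹ᵁ D n R j ≤ ⊤)
      (ProjUP.toGlobal (r ≫ (CohB1.ProjSpace.toSpec n R : Proj (CohB1.polyGrading n R) ⟶ _)) c)
    exact h4.symm.trans h3
  · intro i
    rw [Scheme.Hom.appLE_eq_app]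
    exact appLE_τ_eq n R r r' θ hθ i j
  · intro a b ha hb
    rw [map_add, map_add, ha, hb]
  · intro a b ha hb
    rw [map_mul, map_mul, ha, hb]

include hθ in
/-- **Uniqueness in the universal property of `P^n_R`** (EGA II 4.2.3, free case): a morphism to `P^n_R` over `R` is
determined by `(r^*O(1), r^*X_0, …, r^*X_n)` up to isomorphism. -/
theorem hom_ext_of_iso (hrr' : r ≫ (CohB1.ProjSpace.toSpec n R : Proj (CohB1.polyGrading n R) ⟶ _) =
      r' ≫ (CohB1.ProjSpace.toSpec n R : Proj (CohB1.polyGrading n R) ⟶ _)) : r = r' := by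
  refine Scheme.hom_ext_of_forall _ _ fun x => ?_
  obtain ⟨j, hj⟩ := exists_mem_D n R (r x)
  refine ⟨r ⁻¹ᵁ D n R j, hj, ?_⟩
  rw [Groth.Agent.Lib.AffAlgH3.ι_comp_eq r (isAffineOpen_D n R j) (r ⁻¹ᵁ D n R j) le_rfl,
    Groth.Agent.Lib.AffAlgH3.ι_comp_eq r' (isAffineOpen_D n R j) (r ⁻¹ᵁ D n R j)
      (preimage_D_le n R r r' θ hθ j),
    appLE_eq n R r r' θ hθ hrr' j]

end Uniq

end Groth.Agent.Lib.ProjSpaceUniqH3
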