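/-
helper3: existence part of the universal property of projective space (EGA II 4.2.3 for the free module):
an invertible module `L` on an `R`-scheme `X` with generating global sections `s_0..s_n` gives an `R`-morphism
`r : X ⟶ P^n_R` and an isomorphism `r^*O(1) ≅ L` carrying `r^*X_i` to `s_i` (`exists_hom_iso`).
Intermediate: `ρ` (structure map `R → Γ(X, U)`), `Φ i` (`X_k ↦ s_k / s_i` on the generating locus of `s_i`),
`scale`, `ι_comp_eq_toSpecΓ`, `exists_hom` (the morphism with its charts).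
-/
import Groth.Agent.Lib.ProjChartH3
import Groth.Agent.Lib.GenCoverH3
import Groth.Agent.Lib.ModIsoGlueH3
import Groth.Agent.Lib.ProjSpaceUniqH3

set_option autoImplicit false
set_option linter.style.haveILetI false
universe u
open CategoryTheory AlgebraicGeometry TopologicalSpace Opposite Twist MvPolynomial HomogeneousLocalization
open AlgebraicGeometry.Scheme.Modules
open Groth.Agent.Lib.H90Invertible Groth.Agent.Lib.H4Twist Groth.Agent.Lib
open Groth.Agent.Lib.PullSecH3 Groth.Agent.Lib.ProjSpaceCoordH3 Groth.Agent.Lib.QCohStalk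
open Groth.Agent.Lib.ProjSpacePullH3 Groth.Agent.Lib.ProjSpaceUniqH3
open Groth.Agent.Lib.H78TensorGen Groth.Agent.Lib.H78SecCoord Groth.Agent.Lib.H78Atlas
open Groth.Agent.Lib.GenCoverH3 Groth.Agent.Lib.AwayLiftH3 Groth.Agent.Lib.ProjChartH3
open Groth.Agent.Lib.ModIsoGlueH3

namespace Groth.Agent.Lib.ProjSpaceExistH3

section General

variable {R : Type u} [CommRing R] {X : Scheme.{u}} (q : X ⟶ Spec (CommRingCat.of R))

/-- the structure map `R → Γ(X, U)` of an `R`-scheme -/
noncomputable def ρ (U : X.Opens) : R →+* Γ(X, U) :=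
  (X.presheaf.map (homOfLE (le_top : U ≤ ⊤)).op).hom.comp (ProjUP.toGlobal q)

theorem res_comp_ρ {W U : X.Opens} (h : W ≤ U) :
    (X.presheaf.map (homOfLE h).op).hom.comp (ρ q U) = ρ q W := by
  ext c
  simp only [ρ, RingHom.comp_apply]
  exact resO_resO X h le_top _

theorem eq_toSpecΓ_comp : q = X.toSpecΓ ≫ Spec.map (CommRingCat.ofHom (ProjUP.toGlobal q)) := by
  have h1 : q = q ≫ (Spec (CommRingCat.of R)).toSpecΓ ≫ Spec.map (Scheme.ΓSpecIso (CommRingCat.of R)).inv := by
    rw [toSpecΓ_SpecMap_ΓSpecIso_inv, Category.comp_id]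
  rw [Scheme.toSpecΓ_naturality_assoc, ← Spec.map_comp] at h1
  exact h1

theorem ι_comp_eq_toSpecΓ (U : X.Opens) :
    U.ι ≫ q = U.toSpecΓ ≫ Spec.map (CommRingCat.ofHom (ρ q U)) := by
  conv_lhs => rw [eq_toSpecΓ_comp q]
  rw [← Scheme.Opens.toSpecΓ_SpecMap_presheaf_map_top_assoc, ← Spec.map_comp]
  rfl

end General

variable (n : ℕ) (R : Type u) [CommRing R] {X : Scheme.{u}} (q : X ⟶ Spec (CommRingCat.of R))
  {L : X.Modules} (s : Fin (n + 1) → Γ(L, ⊤))

local notation "𝒜" => CohB1.polyGrading n R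
local notation "O1" => twist (CohB1.polyGrading n R) 1

/-- the ring map `R[X_0..X_n] → Γ(X, U_i)`, `X_k ↦ s_k / s_i` -/
noncomputable def Φ (i : Fin (n + 1)) : MvPolynomial (Fin (n + 1)) R →+* Γ(X, U s i) :=
  eval₂Hom (ρ q (U s i)) (ratio s i)

theorem Φ_X (i k : Fin (n + 1)) : Φ n R q s i (MvPolynomial.X k) = ratio s i k := eval₂Hom_X' _ _ _

theorem Φ_C (i : Fin (n + 1)) (c : R) : Φ n R q s i (C c) = ρ q (U s i) c := eval₂Hom_C _ _ _

theorem isUnit_Φ (i : Fin (n + 1)) : IsUnit (Φ n R q s i (MvPolynomial.X i)) := by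
  rw [Φ_X, ratio_self]; exact isUnit_one

theorem scale (i j : Fin (n + 1)) (m : ℕ) (a : MvPolynomial (Fin (n + 1)) R) (ha : a ∈ 𝒜 m) :
    (X.presheaf.map (homOfLE (inf_le_right : U s i ⊓ U s j ≤ U s j)).op).hom (Φ n R q s j a) =
      rf (inf_le_right : U s i ⊓ U s j ≤ U s j) (ratio s j i) ^ m *
        (X.presheaf.map (homOfLE (inf_le_left : U s i ⊓ U s j ≤ U s i)).op).hom (Φ n R q s i a) := by
  have hhom : a.IsHomogeneous m := (mem_homogeneousSubmodule m a).1 ha
  have h1 : (X.presheaf.map (homOfLE (inf_le_right : U s i ⊓ U s j ≤ U s j)).op).hom (Φ n R q s j a) =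
      eval₂ (ρ q (U s i ⊓ U s j)) (fun k => rf (inf_le_right : U s i ⊓ U s j ≤ U s j) (ratio s j i) *
        rf (inf_le_left : U s i ⊓ U s j ≤ U s i) (ratio s i k)) a := by
    rw [← RingHom.comp_apply, Φ, comp_eval₂Hom, res_comp_ρ]
    change eval₂ _ _ a = _
    congr 1
    funext k
    rw [mul_comm]
    exact ratio_mul s i j k
  have h2 : (X.presheaf.map (homOfLE (inf_le_left : U s i ⊓ U s j ≤ U s i)).op).hom (Φ n R q s i a) =
      eval₂ (ρ q (U s i ⊓ U s j)) (fun k => rf (inf_le_left : U s i ⊓ U s j ≤ U s i) (ratio s i k)) a := by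
    rw [← RingHom.comp_apply, Φ, comp_eval₂Hom, res_comp_ρ]
    rfl
  rw [h1, h2]
  exact eval₂_smul_of_isHomogeneous _ _ _ hhom

section Main

variable (hL : PicF.IsInvertible L) (hs : ProjUP.GeneratedBy L s)

include hL hs in
/-- the morphism to `P^n_R` glued from the charts -/
theorem exists_hom :
    ∃ r : X ⟶ Proj (CohB1.polyGrading n R), ∀ i, (U s i).ι ≫ r =
      chart (CohB1.polyGrading n R) (X_mem n R i) Nat.one_pos (U s i)
        (awayLift (CohB1.polyGrading n R) (MvPolynomial.X i) (Φ n R q s i) (isUnit_Φ n R q s i)) :=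
  exists_glue (U s) (iSup_U_eq_top s hL hs) (fun i => MvPolynomial.X i) (fun _ => 1) (X_mem n R)
    (fun _ => Nat.one_pos) (Φ n R q s) (isUnit_Φ n R q s)
    (fun i j => rf (inf_le_right : U s i ⊓ U s j ≤ U s j) (ratio s j i)) (scale n R q s)

variable (r : X ⟶ Proj (CohB1.polyGrading n R))
  (hr : ∀ i, (U s i).ι ≫ r =
      chart (CohB1.polyGrading n R) (X_mem n R i) Nat.one_pos (U s i)
        (awayLift (CohB1.polyGrading n R) (MvPolynomial.X i) (Φ n R q s i) (isUnit_Φ n R q s i)))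

include hr in
theorem le_preimage (i : Fin (n + 1)) : U s i ≤ r ⁻¹ᵁ D n R i := by
  intro x hx
  let y : ((U s i : X.Opens) : Scheme.{u}) := ⟨x, hx⟩
  have h1 := chart_mem_basicOpen (X_mem n R i) Nat.one_pos (U s i)
    (awayLift (CohB1.polyGrading n R) (MvPolynomial.X i) (Φ n R q s i) (isUnit_Φ n R q s i)) y
  rw [← hr i] at h1
  have h2 : ((U s i).ι ≫ r) y = r x := Scheme.Hom.comp_apply _ _ _
  rw [h2] at h1
  exact h1

include hr in
theorem appLE_τ (i k : Fin (n + 1)) :
    (r.appLE (D n R i) (U s i) (le_preimage n R q s r hr i)).hom (τ n R k i) = ratio s i k := by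
  have h1 := appLE_of_ι_comp_eq_chart (X_mem n R i) Nat.one_pos (U s i) _ r (hr i)
    (le_preimage n R q s r hr i) (Away.mk 𝒜 (X_mem n R i) 1 (MvPolynomial.X k) (X_mem' n R k))
  refine h1.trans ?_
  have h2 := awayLift_mk_mul (Φ n R q s i) (isUnit_Φ n R q s i) (X_mem n R i) 1 (MvPolynomial.X k)
    (X_mem' n R k)
  rw [Φ_X, Φ_X, ratio_self, one_pow, mul_one] at h2
  exact h2

include hL hs hr in
theorem comp_toSpec : r ≫ Proj.toSpecZero (CohB1.polyGrading n R) ≫
    Spec.map (CommRingCat.ofHom (algebraMap R (CohB1.polyGrading n R 0))) = q := by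
  refine hom_ext_of_iSup_eq_top (U s) (iSup_U_eq_top s hL hs) _ _ (fun i => ?_)
  rw [← Category.assoc, hr i, ι_comp_eq_toSpecΓ q (U s i)]
  rw [← Category.assoc, chart_toSpecZero, Category.assoc, ← Spec.map_comp]
  congr 2
  ext c
  change awayLift 𝒜 (MvPolynomial.X i) (Φ n R q s i) (isUnit_Φ n R q s i)
    (algebraMap (𝒜 0) (Away 𝒜 (MvPolynomial.X i)) (algebraMap R (𝒜 0) c)) = ρ q (U s i) c
  rw [awayLift_fromZero]
  exact Φ_C n R q s i c

include hL hs hr in
/-- **Existence in the universal property of `P^n_R`**: the isomorphism `r^*O(1) ≅ L`. -/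
theorem exists_iso :
    ∃ φ : (pullback r).obj O1 ≅ L, ∀ k,
      φ.hom.app ⊤ (ProjUP.pullSec r O1 (ProjUP.coord n R k)) = s k := by
  have hle := le_preimage n R q s r hr
  have hres : ∀ i k, rs ((pullback r).obj O1) (le_top : U s i ≤ ⊤)
      (ProjUP.pullSec r O1 (ProjUP.coord n R k)) =
      ratio s i k • rs ((pullback r).obj O1) (hle i) (ProjSpacePullH3.s n R r i) := by
    intro i k
    have := pullSec_res_le n R r k i (hle i)
    rw [appLE_τ n R q s r hr i k] at this
    exact this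
  have hgen : ∀ i, rs ((pullback r).obj O1) (le_top : U s i ≤ ⊤)
      (ProjUP.pullSec r O1 (ProjUP.coord n R i)) =
      rs ((pullback r).obj O1) (hle i) (ProjSpacePullH3.s n R r i) := by
    intro i
    rw [hres i i, ratio_self, one_smul]
  refine exists_iso_of_ratios (iSup_U_eq_top s hL hs)
    (t := fun k => ProjUP.pullSec r O1 (ProjUP.coord n R k)) (s := s) (fun i => ?_) (isGen_U s)
    (ratio s) (fun i k => ?_) (ratio_spec s)
  · rw [hgen i]
    exact (isGen_s n R r i).mono (hle i)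
  · rw [hres i k, hgen i]

end Main

end Groth.Agent.Lib.ProjSpaceExistH3
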