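/-
# Very ampleness via sections (helper3, keystone VeryAmple)

* `fstP n S`, `sndP n S`: the projections of `P^n_S = P^n_ℤ ×_ℤ S` (typed into `Proj (polyGrading n ZZ)`), `ZZ = ULift ℤ`;
* `exists_lift` (VA0): an invertible `L` on `X` with generating sections `s_0..s_n` and any `q : X ⟶ S` give
  `i : X ⟶ P^n_S` over `S` with `L ≅ i^*O(1)` (`Twist.twistOver n S 1`), together with the chart data of
  `r = i ≫ fstP` (`r⁻¹ D_k = X_{s_k}`, charts as in `ProjSpaceExistH3.exists_hom`);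
* `isImmersion_of_cover`: immersions can be detected on opens of the target whose preimages cover the source;
* `isClosedImmersion_restrict_of_surjective`;
* `isImmersion_of_closure` (VA1): immersion criterion over an affine base.
-/
import Groth.Agent.Lib.ProjSpaceExistH3
import Groth.Prelude.Def_LCI2

set_option autoImplicit false
set_option linter.style.haveILetI false
universe u
open CategoryTheory CategoryTheory.Limits AlgebraicGeometry TopologicalSpace Opposite Twist MvPolynomial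
  HomogeneousLocalization
open AlgebraicGeometry.Scheme.Modules
open Groth.Agent.Lib.H90Invertible Groth.Agent.Lib.H4Twist Groth.Agent.Lib
open Groth.Agent.Lib.PullSecH3 Groth.Agent.Lib.ProjSpaceCoordH3 Groth.Agent.Lib.QCohStalk
open Groth.Agent.Lib.ProjSpacePullH3 Groth.Agent.Lib.ProjSpaceUniqH3
open Groth.Agent.Lib.H78TensorGen Groth.Agent.Lib.H78SecCoord Groth.Agent.Lib.H78Atlas
open Groth.Agent.Lib.GenCoverH3 Groth.Agent.Lib.AwayLiftH3 Groth.Agent.Lib.ProjChartH3
open Groth.Agent.Lib.ModIsoGlueH3 Groth.Agent.Lib.ProjSpaceExistH3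

namespace Groth.Agent.Lib.VeryAmpleH3

/-- the integers in universe `u` -/
abbrev ZZ : Type u := ULift.{u} ℤ

/-- the projection `P^n_S ⟶ P^n_ℤ`, typed into `Proj` -/
noncomputable def fstP (n : ℕ) (S : Scheme.{u}) : CohB1.ProjSpaceOver n S ⟶ Proj (CohB1.polyGrading n ZZ.{u}) :=
  pullback.fst (CohB1.ProjSpace.toSpec n ZZ.{u}) (specULiftZIsTerminal.from S)

/-- the projection `P^n_S ⟶ S` -/
noncomputable def sndP (n : ℕ) (S : Scheme.{u}) : CohB1.ProjSpaceOver n S ⟶ S :=
  pullback.snd (CohB1.ProjSpace.toSpec n ZZ.{u}) (specULiftZIsTerminal.from S)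

theorem fstP_eq (n : ℕ) (S : Scheme.{u}) :
    fstP n S = pullback.fst (CohB1.ProjSpace.toSpec n ZZ.{u}) (specULiftZIsTerminal.from S) := rfl

theorem sndP_eq (n : ℕ) (S : Scheme.{u}) :
    sndP n S = pullback.snd (CohB1.ProjSpace.toSpec n ZZ.{u}) (specULiftZIsTerminal.from S) := rfl

set_option backward.isDefEq.respectTransparency.types false in
instance (n : ℕ) (S : Scheme.{u}) [IsAffine S] : IsAffineHom (fstP n S) := by
  rw [fstP_eq]
  exact MorphismProperty.pullback_fst (P := @IsAffineHom) _ _ inferInstance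

section Lift

variable {X S : Scheme.{u}} (q : X ⟶ S) (n : ℕ) {L : X.Modules} (s : Fin (n + 1) → Γ(L, ⊤))
  (hL : PicF.IsInvertible L) (hs : ProjUP.GeneratedBy L s)

/-- the structure map of `X` over `Spec ℤ` -/
noncomputable abbrev qZ (X : Scheme.{u}) : X ⟶ Spec (CommRingCat.of ZZ.{u}) := specULiftZIsTerminal.from X

include hL hs in
/-- **VA0**: the morphism `X ⟶ P^n_S` attached to generating sections of an invertible module. -/
theorem exists_lift :
    ∃ (r : X ⟶ Proj (CohB1.polyGrading n ZZ.{u})) (i : X ⟶ CohB1.ProjSpaceOver n S),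
      (∀ k, (U s k).ι ≫ r = chart (CohB1.polyGrading n ZZ.{u}) (X_mem n ZZ.{u} k) Nat.one_pos (U s k)
        (awayLift (CohB1.polyGrading n ZZ.{u}) (MvPolynomial.X k) (Φ n ZZ.{u} (qZ X) s k)
          (isUnit_Φ n ZZ.{u} (qZ X) s k))) ∧
      (∀ k, r ⁻¹ᵁ D n ZZ.{u} k = U s k) ∧
      i ≫ fstP n S = r ∧ i ≫ sndP n S = q ∧
      Nonempty (L ≅ (Scheme.Modules.pullback i).obj (Twist.twistOver n S 1)) := by
  obtain ⟨r, hr⟩ := ProjSpaceExistH3.exists_hom n ZZ.{u} (qZ X) s hL hs
  obtain ⟨φ, hφ⟩ := ProjSpaceExistH3.exists_iso n ZZ.{u} (qZ X) s hL hs r hr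
  have hcomp : r ≫ (CohB1.ProjSpace.toSpec n ZZ.{u} : Proj (CohB1.polyGrading n ZZ.{u}) ⟶ _) =
      q ≫ specULiftZIsTerminal.from S := specULiftZIsTerminal.hom_ext _ _
  let i : X ⟶ CohB1.ProjSpaceOver n S := pullback.lift r q hcomp
  have hfst : i ≫ fstP n S = r := pullback.lift_fst _ _ _
  have hsnd : i ≫ sndP n S = q := pullback.lift_snd _ _ _
  have hpre : ∀ k, r ⁻¹ᵁ D n ZZ.{u} k = U s k := by
    intro k
    refine le_antisymm ?_ (ProjSpaceExistH3.le_preimage n ZZ.{u} (qZ X) s r hr k)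
    apply le_U
    have hgen : IsGen L (r ⁻¹ᵁ D n ZZ.{u} k) (φ.hom.app (r ⁻¹ᵁ D n ZZ.{u} k) (ProjSpacePullH3.s n ZZ.{u} r k)) :=
      (isGen_s n ZZ.{u} r k).of_iso φ
    have h1 : ProjSpacePullH3.s n ZZ.{u} r k =
        ((Scheme.Modules.pullback r).obj (twist (CohB1.polyGrading n ZZ.{u}) 1)).presheaf.map
          (homOfLE (le_top : r ⁻¹ᵁ D n ZZ.{u} k ≤ ⊤)).op
        (ProjUP.pullSec r (twist (CohB1.polyGrading n ZZ.{u}) 1) (ProjUP.coord n ZZ.{u} k)) :=
      unitV_res r (twist (CohB1.polyGrading n ZZ.{u}) 1) (le_top : D n ZZ.{u} k ≤ ⊤) (ProjUP.coord n ZZ.{u} k)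
    rw [h1, app_res, hφ k] at hgen
    exact hgen
  refine ⟨r, i, hr, hpre, hfst, hsnd, ⟨?_⟩⟩
  refine φ.symm ≪≫ ?_
  exact ((Scheme.Modules.pullbackCongr hfst).symm ≪≫
    (Scheme.Modules.pullbackComp i (pullback.fst (CohB1.ProjSpace.toSpec n ZZ.{u})
      (specULiftZIsTerminal.from S))).symm).app (Twist.twistProjSpace n ZZ.{u} 1)

end Lift

section General

variable {X P : Scheme.{u}}

/-- a morphism is an immersion as soon as it is so over the members of a family of opens of the target whose preimages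
cover the source -/
theorem isImmersion_of_cover (i : X ⟶ P) {ι : Type*} (V : ι → P.Opens) (hcov : ∀ x : X, ∃ j, i x ∈ V j)
    (h : ∀ j, IsImmersion (i ∣_ V j)) : IsImmersion i := by
  let W : P.Opens := ⨆ j, V j
  have hrange : Set.range i ⊆ Set.range W.ι := by
    rintro _ ⟨x, rfl⟩
    obtain ⟨j, hj⟩ := hcov x
    rw [Scheme.Opens.range_ι]
    exact Opens.mem_iSup.2 ⟨j, hj⟩
  let i' : X ⟶ W := IsOpenImmersion.lift W.ι i hrange
  have hi' : i' ≫ W.ι = i := IsOpenImmersion.lift_fac _ _ _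
  suffices h' : IsImmersion i' by
    rw [← hi']
    infer_instance
  refine IsZariskiLocalAtTarget.of_iSup_eq_top (P := @IsImmersion) (fun j => W.ι ⁻¹ᵁ V j) ?_ (fun j => ?_)
  · rw [eq_top_iff]
    rintro ⟨x, hx⟩ -
    obtain ⟨j, hj⟩ := Opens.mem_iSup.1 hx
    exact Opens.mem_iSup.2 ⟨j, hj⟩
  · have h1 : IsImmersion ((i' ≫ W.ι) ∣_ V j) := by
      rw [hi']
      exact h j
    rw [morphismRestrict_comp] at h1
    exact @IsImmersion.of_comp _ _ _ (i' ∣_ W.ι ⁻¹ᵁ V j) (W.ι ∣_ V j) h1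

/-- restriction of a morphism to an affine open with affine preimage, surjective on sections, is a closed immersion -/
theorem isClosedImmersion_restrict_of_surjective (f : X ⟶ P) (V : P.Opens) (hV : IsAffineOpen V)
    (hU : IsAffineOpen (f ⁻¹ᵁ V)) (hsurj : Function.Surjective (f.app V)) : IsClosedImmersion (f ∣_ V) := by
  haveI : IsAffine (f ⁻¹ᵁ V).toScheme := hU
  haveI : IsAffine V.toScheme := hV
  apply IsClosedImmersion.of_surjective_of_isAffine
  rw [morphismRestrict_appTop]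
  have h1 : ∀ (V' : P.Opens) (_ : V' = V), Function.Surjective (f.app V') := by
    rintro V' rfl
    exact hsurj
  have h2 := h1 (V.ι ''ᵁ ⊤) (Scheme.Opens.ι_image_top V)
  have h3 : Function.Bijective (X.presheaf.map (eqToHom (image_morphismRestrict_preimage f V ⊤)).op) :=
    ConcreteCategory.bijective_of_isIso _
  exact h3.2.comp h2

end General

section Criterion

variable {X S : Scheme.{u}} [IsAffine S] (q : X ⟶ S) (n : ℕ) {L : X.Modules} (s : Fin (n + 1) → Γ(L, ⊤))
  (r : X ⟶ Proj (CohB1.polyGrading n ZZ.{u})) (i : X ⟶ CohB1.ProjSpaceOver n S)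
  (hr : ∀ k, (U s k).ι ≫ r = chart (CohB1.polyGrading n ZZ.{u}) (X_mem n ZZ.{u} k) Nat.one_pos (U s k)
        (awayLift (CohB1.polyGrading n ZZ.{u}) (MvPolynomial.X k) (Φ n ZZ.{u} (qZ X) s k)
          (isUnit_Φ n ZZ.{u} (qZ X) s k)))
  (hpre : ∀ k, r ⁻¹ᵁ D n ZZ.{u} k = U s k)
  (hfst : i ≫ fstP n S = r) (hsnd : i ≫ sndP n S = q)

theorem surjective_app_of_appLE {X P : Scheme.{u}} (f : X ⟶ P) (V : P.Opens) (W : X.Opens) (h : W = f ⁻¹ᵁ V)
    (hs : Function.Surjective (f.appLE V W h.le)) : Function.Surjective (f.app V) := by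
  subst h
  rwa [Scheme.Hom.appLE_eq_app] at hs

include hr hpre hfst hsnd in
/-- **VA1** (immersion criterion over an affine base): if a subfamily of the `X_{s_j}` consists of affine opens covering
`X` whose coordinate rings are generated by the ratios `s_k / s_j` and the functions coming from `S`, then the
morphism `X ⟶ P^n_S` attached to the `s_k` is an immersion. -/
theorem isImmersion_of_closure (J : Set (Fin (n + 1))) (hJ : ∀ x : X, ∃ j ∈ J, x ∈ U s j)
    (haff : ∀ j ∈ J, IsAffineOpen (U s j))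
    (hgen : ∀ j ∈ J, Subring.closure
      (Set.range (ratio s j) ∪ Set.range (q.appLE ⊤ (U s j) le_top).hom) = ⊤) :
    IsImmersion i := by
  set fst := fstP n S with hfstdef
  set snd := sndP n S with hsnddef
  refine isImmersion_of_cover i (fun j : J => fst ⁻¹ᵁ D n ZZ.{u} j.1) (fun x => ?_) (fun j => ?_)
  · obtain ⟨j, hj, hx⟩ := hJ x
    refine ⟨⟨j, hj⟩, ?_⟩
    rw [← hpre j, ← hfst] at hx
    exact hx
  · have hV : IsAffineOpen (fst ⁻¹ᵁ D n ZZ.{u} j.1) := (isAffineOpen_D n ZZ.{u} j.1).preimage (fstP n S)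
    have heq : U s j.1 = i ⁻¹ᵁ (fst ⁻¹ᵁ D n ZZ.{u} j.1) := by
      rw [← hpre j.1, ← hfst]
      rfl
    have hU : IsAffineOpen (i ⁻¹ᵁ (fst ⁻¹ᵁ D n ZZ.{u} j.1)) := heq ▸ haff j.1 j.2
    have : IsClosedImmersion (i ∣_ (fst ⁻¹ᵁ D n ZZ.{u} j.1)) := by
      refine isClosedImmersion_restrict_of_surjective i _ hV hU ?_
      refine surjective_app_of_appLE i _ (U s j.1) heq ?_
      -- the range contains the generators
      have hrange : Subring.closure
          (Set.range (ratio s j.1) ∪ Set.range (q.appLE ⊤ (U s j.1) le_top).hom) ≤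
          (i.appLE (fst ⁻¹ᵁ D n ZZ.{u} j.1) (U s j.1) heq.le).hom.range := by
        rw [Subring.closure_le]
        rintro y (⟨k, rfl⟩ | ⟨c, rfl⟩)
        · refine ⟨(fst.app (D n ZZ.{u} j.1)).hom (τ n ZZ.{u} k j.1), ?_⟩
          have h1 := ProjSpaceExistH3.appLE_τ n ZZ.{u} (qZ X) s r hr j.1 k
          rw [← h1]
          have h2 : (i ≫ fst).appLE (D n ZZ.{u} j.1) (U s j.1) heq.le =
              fst.app (D n ZZ.{u} j.1) ≫ i.appLE (fst ⁻¹ᵁ D n ZZ.{u} j.1) (U s j.1) heq.le :=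
            Scheme.Hom.comp_appLE i fst _ _ _
          have h3 : (i ≫ fst).appLE (D n ZZ.{u} j.1) (U s j.1) heq.le =
              r.appLE (D n ZZ.{u} j.1) (U s j.1) (ProjSpaceExistH3.le_preimage n ZZ.{u} (qZ X) s r hr j.1) := by
            subst hfst
            rfl
          rw [← h3, h2]
          rfl
        · have hle : fst ⁻¹ᵁ D n ZZ.{u} j.1 ≤ snd ⁻¹ᵁ ⊤ := le_top
          refine ⟨(snd.appLE ⊤ (fst ⁻¹ᵁ D n ZZ.{u} j.1) hle).hom c, ?_⟩
          have h2 : snd.appLE ⊤ (fst ⁻¹ᵁ D n ZZ.{u} j.1) hle ≫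
              i.appLE (fst ⁻¹ᵁ D n ZZ.{u} j.1) (U s j.1) heq.le =
              (i ≫ snd).appLE ⊤ (U s j.1) le_top := by
            rw [Scheme.Hom.appLE_comp_appLE]
          have h3 : (i ≫ snd).appLE ⊤ (U s j.1) le_top = q.appLE ⊤ (U s j.1) le_top := by
            subst hsnd
            rfl
          rw [← h3, ← h2]
          rfl
      rw [hgen j.1 j.2, top_le_iff, RingHom.range_eq_top] at hrange
      exact hrange
    infer_instance

end Criterion

end Groth.Agent.Lib.VeryAmpleH3
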