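/-
# Very ample ⇒ ample over an affine base (helper3, keystone VeryAmple)

* `isAmple_twist_one n R`: `O(1)` ample on `P^n_R` (light copy of helper48's `ProjSpaceFin.isAmple_twist_one`);
* `isAmple_twistOver n S`: `O(1)` on `P^n_S` is ample, `S` affine;
* `isAmple_of_isRelVeryAmplePn q h`: `S` affine, `q` quasi-compact, `M` very ample (P^n form) ⇒ `M` ample.
-/
import Groth.Agent.Lib.VeryAmpleH3
import Groth.Agent.Lib.H4TwistAmple
import Mathlib.RingTheory.MvPolynomial.Ideal
import Groth.Agent.Lib.H78PullAmple3
import Groth.Agent.Lib.H78AmpleBasis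

set_option autoImplicit false
set_option linter.style.haveILetI false
universe u
open CategoryTheory CategoryTheory.Limits AlgebraicGeometry TopologicalSpace Opposite Twist
open Groth.Agent.Lib.VeryAmpleH3

namespace Groth.Agent.Lib.VeryAmpleAmpleH3

section ProjSpace

variable (n : ℕ) (R : Type u) [CommRing R]

open MvPolynomial in
/-- The irrelevant ideal of the polynomial ring is generated by the variables (as in helper48's `ProjSpaceFin`). -/
theorem irrelevant_eq_span_X :
    (HomogeneousIdeal.irrelevant (CohB1.polyGrading n R)).toIdeal =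
      Ideal.span (X '' (Set.univ : Set (Fin (n + 1))) : Set (MvPolynomial (Fin (n + 1)) R)) := by
  apply le_antisymm
  · intro p hp
    have hp' : GradedRing.proj (CohB1.polyGrading n R) 0 p = 0 := hp
    have h0 : coeff 0 p = 0 := by
      have h1 : GradedRing.proj (CohB1.polyGrading n R) 0 p = homogeneousComponent 0 p :=
        decomposition.decompose'_apply p 0
      rw [h1, homogeneousComponent_zero] at hp'
      exact C_injective _ _ (hp'.trans C_0.symm)
    rw [mem_ideal_span_X_image]
    intro m hm
    have hm0 : m ≠ 0 := by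
      rintro rfl
      exact (mem_support_iff.mp hm) h0
    obtain ⟨i, hi⟩ := Finsupp.ne_iff.mp hm0
    exact ⟨i, Set.mem_univ i, by simpa using hi⟩
  · rw [Ideal.span_le]
    rintro _ ⟨i, -, rfl⟩
    exact HomogeneousIdeal.mem_irrelevant_of_mem (CohB1.polyGrading n R) one_pos
      (Groth.Agent.Lib.ProjSpaceCoordH3.X_mem n R i)

/-- `O(1)` is ample on `P^n_R`. -/
theorem isAmple_twist_one : CohB1.IsAmple (twist (CohB1.polyGrading n R) 1) := by
  classical
  refine Groth.Agent.Lib.H4Twist.isAmple_twist_one (CohB1.polyGrading n R)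
    (Finset.univ.image (MvPolynomial.X : Fin (n + 1) → MvPolynomial (Fin (n + 1)) R)) ?_ ?_
  · intro f hf
    obtain ⟨i, -, rfl⟩ := Finset.mem_image.mp hf
    exact Groth.Agent.Lib.ProjSpaceCoordH3.X_mem n R i
  · rw [Finset.coe_image, Finset.coe_univ]
    exact irrelevant_eq_span_X n R

end ProjSpace

/-- `O(1)` on `P^n_S` is ample for affine `S` -/
theorem isAmple_twistOver (n : ℕ) (S : Scheme.{u}) [IsAffine S] : CohB1.IsAmple (Twist.twistOver n S 1) := by
  have h := isAmple_twist_one n ZZ.{u}
  exact Groth.Agent.Lib.H78PullAmple.isAmple_pullback_of_isAffineHom (fstP n S) h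

/-- very ample (P^n form) over an affine base implies ample -/
theorem isAmple_of_isRelVeryAmplePn {X S : Scheme.{u}} [IsAffine S] (q : X ⟶ S) [QuasiCompact q]
    {M : X.Modules} (h : RelAmple.IsRelVeryAmplePn q M) : CohB1.IsAmple M := by
  obtain ⟨n, i, himm, hq, ⟨e⟩⟩ := h
  have hO := isAmple_twistOver n S
  haveI : CompactSpace X := QuasiCompact.compactSpace_of_compactSpace q
  haveI : QuasiSeparatedSpace (CohB1.ProjSpaceOver n S) :=
    Groth.Agent.Lib.H78AmpleBasis.quasiSeparatedSpace_of_isAmple hO
  haveI : QuasiCompact i := inferInstance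
  have hamp := Groth.Agent.Lib.H78PullAmple.isAmple_pullback_of_quasiAffine i (fun W hW => ?_) hO
  · exact Groth.Agent.Lib.H78AmpleUnit.isAmple_of_iso e.symm hamp
  · haveI : IsAffine W := hW
    haveI : CompactSpace (i ⁻¹ᵁ W : Scheme.{u}) :=
      isCompact_iff_compactSpace.1 (QuasiCompact.isCompact_preimage (f := i) _ W.2 hW.isCompact)
    exact Scheme.IsQuasiAffine.of_isImmersion (i ∣_ W)

end Groth.Agent.Lib.VeryAmpleAmpleH3
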