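import Groth.Agent.Lib.H78SecAdd
import Groth.Agent.Lib.H90InvertibleFP
import Groth.Agent.Lib.H90OXModQcqs
import Mathlib.AlgebraicGeometry.QuasiAffine

set_option autoImplicit false
universe u
open CategoryTheory CategoryTheory.Limits AlgebraicGeometry MonoidalCategory Opposite TopologicalSpace
open Groth.Agent.Lib.H90Invertible Groth.Agent.Lib.StructureModule Groth.Agent.Lib.H78TensorGen
open Groth.Agent.Lib.H78SecCoord Groth.Agent.Lib.H78Atlas Groth.Agent.Lib.H78KeyLemma
open Groth.Agent.Lib.H78AmpleBasis Groth.Agent.Lib.H78SecAdd Groth.Agent.Lib.H78AtlasOps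

namespace Groth.Agent.Lib.H78QAffine

variable {X : Scheme.{u}} {P : X.Modules}

/-- if `a • y` generates then `a` is a unit -/
lemma isUnit_of_isGen_smul {W : X.Opens} {a : Γ(X, W)} {y : Γ(P, W)} (h : IsGen P W (a • y)) : IsUnit a := by
  obtain ⟨c, hc⟩ := (h W le_rfl).2 y
  have hc' : c • rs P le_rfl (a • y) = y := hc
  rw [rs_self] at hc'
  have h1 : (a * c) • rs P le_rfl (a • y) = (1 : Γ(X, W)) • rs P le_rfl (a • y) := by
    rw [rs_self, one_smul, mul_smul, hc']
  have h2 : a * c = 1 := (h W le_rfl).1 h1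
  exact IsUnit.of_mul_eq_one _ h2

/-- **sections with prescribed generating locus `X_r`** on a qcqs scheme: if the invertible module `P` is
generated by `e` over `X_r`, `r` a global function, then some global section of `P` has generating locus
exactly `X_r`. -/
theorem exists_sec_genLocus_eq [CompactSpace X] [QuasiSeparatedSpace X] (hP : PicF.IsInvertible P)
    (r : Γ(X, ⊤)) (e : Γ(P, X.basicOpen r)) (he : IsGen P (X.basicOpen r) e) :
    ∃ t : Γ(P, ⊤), CohB1.genLocus P (ofSection t) = X.basicOpen r := by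
  haveI : P.IsQuasicoherent := isQCoh_of_isInvertible hP
  obtain ⟨n, t, ht⟩ := Groth.Agent.Lib.H90OXModQcqs.exists_pow_smul_eq_res_of_qcqs P
    (U := ⊤) (by simpa using isCompact_univ) (by simpa using isQuasiSeparated_univ) r e
  have ht' : rs P (X.basicOpen_le r) t = rf (X.basicOpen_le r) r ^ n • e := ht.symm
  refine ⟨r • t, le_antisymm ?_ ?_⟩
  · intro x hx
    obtain ⟨W, hxW, hW⟩ := (mem_genLocus_iff _ x).1 hx
    rw [sec_ofSection, rs_smul] at hW
    have hu := isUnit_of_isGen_smul hW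
    exact (isUnit_map_iff le_top r).1 hu hxW
  · intro x hx
    refine (mem_genLocus_iff _ x).2 ⟨X.basicOpen r, hx, ?_⟩
    rw [sec_ofSection]
    have h1 : rs P (le_top : X.basicOpen r ≤ ⊤) (r • t) = rf (X.basicOpen_le r) r ^ (n + 1) • e := by
      rw [rs_smul]
      change _ • rs P (X.basicOpen_le r) t = _
      rw [ht', ← mul_smul, pow_succ']
    rw [h1, isGen_smul_iff he]
    exact (RingedSpace.isUnit_res_basicOpen _ r).pow _

/-- on a quasi-affine scheme every invertible module is ample -/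
theorem isAmple_of_isQuasiAffine [X.IsQuasiAffine] {L : X.Modules} (hL : PicF.IsInvertible L) :
    CohB1.IsAmple L := by
  refine ⟨hL, inferInstance, fun x => ?_⟩
  obtain ⟨V₀, hxV₀, e, he⟩ := (isInvertible_iff_exists_isGen L).1 hL x
  obtain ⟨_, ⟨r, hr, rfl⟩, hxr, hrV⟩ := Opens.isBasis_iff_nbhd.1
    (Scheme.IsQuasiAffine.isBasis_basicOpen X) hxV₀
  obtain ⟨t, ht⟩ := exists_sec_genLocus_eq hL r (rs L hrV e) (he.mono hrV)
  obtain ⟨V, hxV, -, ⟨A⟩⟩ := exists_atlas hL
  have hV := iSup_eq_top_of_mem hxV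
  obtain ⟨s, hs⟩ := Groth.Agent.S2327.transfer hV A (A.pow (0 + 1)) 1 one_pos (by
      intro i j
      rw [Atlas.pow_trans]) (ofSection t)
  refine ⟨0, s, ?_, ?_⟩
  · rw [hs, ht]; exact hxr
  · rw [hs, ht]; exact hr

/-- if `L` and an inverse `L'` are both ample on a quasi-compact scheme, the scheme is quasi-affine -/
theorem isQuasiAffine_of_isAmple_inverse [CompactSpace X] {L L' : X.Modules}
    (e : CohB1.tensorMod L L' ≅ Coh.structureModule X) (hL : CohB1.IsAmple L) (hL' : CohB1.IsAmple L') :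
    X.IsQuasiAffine := by
  refine Scheme.IsQuasiAffine.of_forall_exists_mem_basicOpen X (fun x => ?_)
  obtain ⟨V, hxV, -, ⟨A⟩, ⟨A'⟩⟩ := exists_atlas₂ hL.1 hL'.1
  have hV := iSup_eq_top_of_mem hxV
  obtain ⟨n, s, hx, haff⟩ := hL.2.2 x
  obtain ⟨m, s', hx', -⟩ := hL'.2.2 x
  obtain ⟨τ, -, hτ⟩ := exists_sec_mul hV (A.pow (n + 1)) (A'.pow (m + 1))
    ((A.tmul A').pow ((n + 1) * (m + 1))) (m + 1) (n + 1) (by
      intro i j
      rw [Atlas.pow_trans, Atlas.pow_trans, Atlas.pow_trans, Atlas.tmul_trans, ← pow_mul, ← pow_mul,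
        mul_pow, mul_comm (m + 1) (n + 1)]) (sec s) (sec s')
  have hτ' := hτ (Nat.succ_pos m) (Nat.succ_pos n)
  rw [ofSection_sec, ofSection_sec] at hτ'
  let ψ : CohB1.tensorPow (CohB1.tensorMod L L') ((n + 1) * (m + 1)) ≅ Coh.structureModule X :=
    H78AmpleUnit.tensorPowIso e _ ≪≫ H78AmpleUnit.tensorPowUnitIso X _
  have key : X.basicOpen (H78AmpleUnit.fn (ofSection τ ≫ ψ.hom)) =
      CohB1.genLocus _ s ⊓ CohB1.genLocus _ s' := by
    rw [← H78AmpleUnit.genLocus_eq, H78AmpleUnit.genLocus_comp_iso, hτ']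
  refine ⟨H78AmpleUnit.fn (ofSection τ ≫ ψ.hom), ?_, ?_⟩
  · rw [key, inf_comm]
    exact isAffineOpen_genLocus_inf (isInvertible_tensorPow hL'.1 (m + 1)) s' haff
  · rw [key]
    exact ⟨hx, hx'⟩

end Groth.Agent.Lib.H78QAffine
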