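import Groth.Agent.Lib.ModStalk
import Groth.Agent.Lib.CohFinite
import Groth.Agent.Lib.H78QAffine

set_option autoImplicit false
universe v v' u u' w w'

open CategoryTheory CategoryTheory.Limits AlgebraicGeometry TopologicalSpace Opposite

namespace Groth.Agent.Lib.H78GlobGen

section ToSheaf

variable {C : Type u'} [Category.{v'} C] {J : GrothendieckTopology C} (R : Sheaf J RingCat.{u})
  [HasSheafify J AddCommGrpCat.{v}] [J.WEqualsLocallyBijective AddCommGrpCat.{v}]
  (K : Type w) [Category.{w'} K]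

/-- The forgetful functor from sheaves of modules to sheaves of abelian groups preserves colimits. -/
noncomputable instance preservesColimitsOfShape_toSheaf
    [HasColimitsOfShape K AddCommGrpCat.{v}] [HasColimitsOfShape K (PresheafOfModules.{v} R.obj)]
    [PreservesColimitsOfShape K (PresheafOfModules.toPresheaf.{v} R.obj)] :
    PreservesColimitsOfShape K (SheafOfModules.toSheaf.{v} R) where
  preservesColimit {F} := by
    let Φ := PresheafOfModules.sheafification.{v} (𝟙 R.obj)
    let Ψ := SheafOfModules.forget.{v} R ⋙ PresheafOfModules.restrictScalars (𝟙 R.obj)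
    let adj : Φ ⊣ Ψ := PresheafOfModules.sheafificationAdjunction (𝟙 R.obj)
    let e : F ≅ (F ⋙ Ψ) ⋙ Φ := Functor.isoWhiskerLeft F (asIso adj.counit).symm
    let H := Φ ⋙ SheafOfModules.toSheaf.{v} R
    have hH : PreservesColimit (F ⋙ Ψ) H :=
      inferInstanceAs (PreservesColimit (F ⋙ Ψ)
        (PresheafOfModules.toPresheaf R.obj ⋙ presheafToSheaf J AddCommGrpCat.{v}))
    have hΦ : PreservesColimit (F ⋙ Ψ) Φ :=
      adj.leftAdjoint_preservesColimits.preservesColimitsOfShape.preservesColimit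
    have h1 : PreservesColimit ((F ⋙ Ψ) ⋙ Φ) (SheafOfModules.toSheaf.{v} R) :=
      preservesColimit_of_preserves_colimit_cocone
        (isColimitOfPreserves Φ (colimit.isColimit (F ⋙ Ψ)))
        (isColimitOfPreserves H (colimit.isColimit (F ⋙ Ψ)))
    exact preservesColimit_of_iso_diagram _ e.symm

end ToSheaf


section Stalk

open Groth.Agent.Lib.ModStalk Groth.Agent.Lib.QCohStalk Groth.Agent.Lib.CohFinite

variable {Y : Scheme.{u}}

noncomputable instance (K : Type u) [Category.{u} K] : PreservesColimitsOfShape K (toSheafAb Y) :=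
  inferInstanceAs (PreservesColimitsOfShape K (SheafOfModules.toSheaf.{u} Y.ringCatSheaf))

noncomputable instance (K : Type u) [Category.{u} K] (y : Y) : PreservesColimitsOfShape K (stalkFunctor y) := by
  unfold stalkFunctor
  infer_instance

open SheafOfModules in
set_option backward.isDefEq.respectTransparency false in
/-- If `N` is generated by (arbitrarily many) global sections, then at every point their germs span
the stalk. -/
theorem span_germ_eq_top' (N : Y.Modules) (G : SheafOfModules.GeneratingSections N) (y : Y) :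
    Submodule.span (Y.presheaf.stalk y)
      (Set.range fun i : G.I => N.presheaf.germ ⊤ y trivial ((G.s i).val (op ⊤))) = ⊤ := by
  classical
  set S : Submodule (Y.presheaf.stalk y) (N.presheaf.stalk y) := Submodule.span (Y.presheaf.stalk y)
      (Set.range fun i : G.I => N.presheaf.germ ⊤ y trivial ((G.s i).val (op ⊤))) with hS
  let F := stalkFunctor y
  let q : F.obj N ⟶ AddCommGrpCat.of ((N.presheaf.stalk y) ⧸ S.toAddSubgroup) :=
    AddCommGrpCat.ofHom (QuotientAddGroup.mk' S.toAddSubgroup)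
  have hc : IsColimit (Cofan.mk (F.obj (free G.I)) fun j : G.I => F.map (ιFree (R := Y.ringCatSheaf) j)) :=
    isColimitCofanMkObjOfIsColimit F _ _ (isColimitFreeCofan (R := Y.ringCatSheaf) G.I)
  have hq : F.map G.π ≫ q = 0 := by
    apply Cofan.IsColimit.hom_ext hc
    intro i
    simp only [comp_zero]
    change F.map (ιFree i) ≫ F.map G.π ≫ q = 0
    have h1 : ιFree i ≫ G.π = (SheafOfModules.unitHomEquiv N).symm (G.s i) := by
      rw [← unitHomEquiv_symm_freeHomEquiv_apply, Equiv.apply_symm_apply]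
    rw [← Category.assoc, ← F.map_comp, h1]
    set φ : unitMod Y ⟶ N := (SheafOfModules.unitHomEquiv N).symm (G.s i) with hφ
    have h3 : φ.app ⊤ (1 : Γ(Y, ⊤)) = (G.s i).val (op ⊤) := by
      have := congrArg (fun t : N.sections => t.val (op ⊤))
        (Equiv.apply_symm_apply (SheafOfModules.unitHomEquiv N) (G.s i))
      exact this
    ext ζ
    have hmem := stalk_map_unit_mem N φ y ζ
    rw [h3] at hmem
    have hsub : ({N.presheaf.germ ⊤ y trivial ((G.s i).val (op ⊤))} : Set (N.presheaf.stalk y)) ⊆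
        Set.range fun i : G.I => N.presheaf.germ ⊤ y trivial ((G.s i).val (op ⊤)) := by
      rintro _ rfl
      exact ⟨i, rfl⟩
    have hS' : (show N.presheaf.stalk y from (stalkFunctor y).map φ ζ) ∈ S :=
      Submodule.span_mono hsub hmem
    exact (QuotientAddGroup.eq_zero_iff _).mpr hS'
  have hq0 : q = 0 := by
    have : Epi (F.map G.π) :=
      (AddCommGrpCat.epi_iff_surjective _).mpr
        (@stalk_surjective_of_epi Y (free G.I) N G.π G.epi y)
    exact (cancel_epi (F.map G.π)).mp (by rw [hq, comp_zero])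
  rw [eq_top_iff]
  intro ν _
  have := congrArg (fun g => g.hom ν) hq0
  exact (QuotientAddGroup.eq_zero_iff _).mp this

end Stalk


section Invertible

open MonoidalCategory
open Groth.Agent.Lib.H90Invertible Groth.Agent.Lib.StructureModule Groth.Agent.Lib.H78TensorGen
open Groth.Agent.Lib.H78SecCoord Groth.Agent.Lib.H78Atlas Groth.Agent.Lib.H78AtlasOps
open Groth.Agent.Lib.ModStalk Groth.Agent.Lib.QCohStalk


variable {X : Scheme.{u}} {L : X.Modules}

/-- the germ of a local generator spans the stalk -/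
lemma span_germ_gen_eq_top {V : X.Opens} {e : Γ(L, V)} (he : IsGen L V e) (x : X) (hx : x ∈ V) :
    Submodule.span (X.presheaf.stalk x) {L.presheaf.germ V x hx e} = ⊤ := by
  rw [eq_top_iff]
  intro ν _
  obtain ⟨W₀, hxW₀, z₀, rfl⟩ := TopCat.Presheaf.exists_germ_eq L.presheaf ν
  have hxW : x ∈ W₀ ⊓ V := ⟨hxW₀, hx⟩
  obtain ⟨a, ha⟩ := (he (W₀ ⊓ V) inf_le_right).2 (rs L inf_le_left z₀)
  have ha' : a • rs L (inf_le_right : W₀ ⊓ V ≤ V) e = rs L (inf_le_left : W₀ ⊓ V ≤ W₀) z₀ := ha
  have h1 := congrArg (L.presheaf.germ (W₀ ⊓ V) x hxW) ha'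
  rw [germ_smul] at h1
  have h2 : L.presheaf.germ (W₀ ⊓ V) x hxW (rs L (inf_le_right : W₀ ⊓ V ≤ V) e) =
      L.presheaf.germ V x hx e := germ_res L inf_le_right x hxW e
  have h3 : L.presheaf.germ (W₀ ⊓ V) x hxW (rs L (inf_le_left : W₀ ⊓ V ≤ W₀) z₀) =
      L.presheaf.germ W₀ x hxW₀ z₀ := germ_res L inf_le_left x hxW z₀
  rw [h2, h3] at h1
  rw [← h1]
  exact Submodule.smul_mem _ _ (Submodule.subset_span rfl)

/-- the germ of a local generator is nonzero -/
lemma germ_gen_ne_zero {V : X.Opens} {e : Γ(L, V)} (he : IsGen L V e) (x : X) (hx : x ∈ V) :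
    L.presheaf.germ V x hx e ≠ 0 := by
  intro h0
  have h0' : L.presheaf.germ V x hx e = L.presheaf.germ V x hx 0 := by rw [h0, map_zero]
  obtain ⟨W, hxW, iU, iV, hW⟩ := TopCat.Presheaf.germ_eq L.presheaf x hx hx e 0 h0'
  have h1 : rs L iU.le e = 0 := by
    change L.presheaf.map (homOfLE iU.le).op e = 0
    rw [show (homOfLE iU.le) = iU from rfl, hW, map_zero]
  have h2 : (1 : Γ(X, W)) • rs L iU.le e = (0 : Γ(X, W)) • rs L iU.le e := by
    rw [h1, smul_zero, smul_zero]
  have h3 : (1 : Γ(X, W)) = 0 := (he W iU.le).1 h2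
  have h4 : X.basicOpen (1 : Γ(X, W)) = W := X.basicOpen_of_isUnit isUnit_one
  rw [h3, Scheme.basicOpen_zero] at h4
  rw [← h4] at hxW
  exact hxW

/-- **global generation of an invertible module means that the `X_t` cover `X`** -/
theorem exists_sec_mem_genLocus (hL : PicF.IsInvertible L) (hg : Curv2.IsGloballyGenerated L) (x : X) :
    ∃ τ : Γ(L, ⊤), x ∈ CohB1.genLocus L (ofSection τ) := by
  obtain ⟨ι, p, hp⟩ := hg
  let G : SheafOfModules.GeneratingSections L :=
    { I := ι, s := L.freeHomEquiv p, epi := by rw [Equiv.symm_apply_apply]; exact hp }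
  have hspan := span_germ_eq_top' L G x
  obtain ⟨V, hxV, e, he⟩ := (isInvertible_iff_exists_isGen L).1 hL x
  by_contra hcon
  push Not at hcon
  haveI : IsLocalRing (X.presheaf.stalk x) := inferInstance
  have hle : Submodule.span (X.presheaf.stalk x)
      (Set.range fun i : G.I => L.presheaf.germ ⊤ x trivial ((G.s i).val (op ⊤))) ≤
      IsLocalRing.maximalIdeal (X.presheaf.stalk x) •
        Submodule.span (X.presheaf.stalk x) {L.presheaf.germ V x hxV e} := by
    rw [Submodule.span_le]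
    rintro _ ⟨i, rfl⟩
    change L.presheaf.germ ⊤ x trivial ((G.s i).val (op ⊤)) ∈ _
    obtain ⟨τ, hτ⟩ : ∃ τ : Γ(L, ⊤), τ = (G.s i).val (op ⊤) := ⟨_, rfl⟩
    rw [← hτ]
    have hc := coord_spec he le_rfl (rs L le_top τ)
    rw [rs_self] at hc
    have h1 : L.presheaf.germ ⊤ x trivial τ = L.presheaf.germ V x hxV (rs L le_top τ) :=
      (germ_res L le_top x hxV τ).symm
    rw [h1, ← hc, germ_smul, SetLike.mem_coe, Submodule.mem_smul_span_singleton]
    refine ⟨_, ?_, rfl⟩
    rw [IsLocalRing.mem_maximalIdeal, mem_nonunits_iff, ← Scheme.mem_basicOpen]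
    intro hx
    have h2 := genLocus_inf_eq he (ofSection τ)
    rw [sec_ofSection] at h2
    rw [← h2] at hx
    exact hcon τ hx.1
  rw [hspan, top_le_iff] at hle
  have hmem : L.presheaf.germ V x hxV e ∈ IsLocalRing.maximalIdeal (X.presheaf.stalk x) •
      Submodule.span (X.presheaf.stalk x) {L.presheaf.germ V x hxV e} := by
    rw [hle]; trivial
  obtain ⟨b, hb, hbe⟩ := Submodule.mem_smul_span_singleton.1 hmem
  have hu : IsUnit (1 - b) := by
    by_contra hnu
    have h1 : (1 - b) ∈ IsLocalRing.maximalIdeal (X.presheaf.stalk x) := hnu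
    have := Ideal.add_mem _ h1 hb
    rw [sub_add_cancel] at this
    exact (Ideal.ne_top_iff_one _).1 (IsLocalRing.maximalIdeal.isMaximal _).ne_top this
  have h3 : (1 - b) • L.presheaf.germ V x hxV e = 0 := by
    rw [sub_smul, one_smul, hbe, sub_self]
  have h4 : L.presheaf.germ V x hxV e = 0 := by
    have := congrArg (fun z => (hu.unit⁻¹ : (X.presheaf.stalk x)ˣ) • z) h3
    simpa [Units.smul_def, smul_smul] using this
  exact germ_gen_ne_zero he x hxV h4




/-- base-point freeness in terms of sections -/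
def IsBpf (M : X.Modules) : Prop := ∀ x : X, ∃ σ : Γ(M, ⊤), x ∈ CohB1.genLocus M (ofSection σ)

theorem isBpf_of_isGloballyGenerated {L : X.Modules} (hL : PicF.IsInvertible L)
    (hg : Curv2.IsGloballyGenerated L) : IsBpf L := exists_sec_mem_genLocus hL hg

theorem isBpf_unit (X : Scheme.{u}) : IsBpf (Coh.structureModule X) := by
  intro x
  refine ⟨sec (H78AmpleUnit.homOfFn 1), ?_⟩
  rw [ofSection_sec, H78AmpleUnit.genLocus_eq, H78AmpleUnit.fn_homOfFn, Scheme.basicOpen_of_isUnit _ isUnit_one]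
  trivial

/-- the product of two sections of invertible modules -/
theorem exists_sec_tmul {M M' : X.Modules} (hM : PicF.IsInvertible M) (hM' : PicF.IsInvertible M')
    (σ : Γ(M, ⊤)) (σ' : Γ(M', ⊤)) :
    ∃ τ : Γ(CohB1.tensorMod M M', ⊤), CohB1.genLocus _ (ofSection τ) =
      CohB1.genLocus M (ofSection σ) ⊓ CohB1.genLocus M' (ofSection σ') := by
  obtain ⟨V, hxV, -, ⟨A⟩, ⟨A'⟩⟩ := exists_atlas₂ hM hM'
  have hV := iSup_eq_top_of_mem hxV
  obtain ⟨τ, -, hτ⟩ := exists_sec_mul hV A A' (A.tmul A') 1 1 (by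
    intro i j
    rw [Atlas.tmul_trans, pow_one, pow_one]) σ σ'
  exact ⟨τ, hτ one_pos one_pos⟩

theorem IsBpf.tensorMod {M M' : X.Modules} (hM : PicF.IsInvertible M) (hM' : PicF.IsInvertible M')
    (h : IsBpf M) (h' : IsBpf M') : IsBpf (CohB1.tensorMod M M') := by
  intro x
  obtain ⟨σ, hσ⟩ := h x
  obtain ⟨σ', hσ'⟩ := h' x
  obtain ⟨τ, hτ⟩ := exists_sec_tmul hM hM' σ σ'
  exact ⟨τ, hτ ▸ ⟨hσ, hσ'⟩⟩

/-- `x` lies in an affine `X_σ` for a section `σ` of `M` -/
def HasAffSec (M : X.Modules) (x : X) : Prop :=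
  ∃ σ : Γ(M, ⊤), x ∈ CohB1.genLocus M (ofSection σ) ∧ IsAffineOpen (CohB1.genLocus M (ofSection σ))

theorem HasAffSec.tensorMod_left {M M' : X.Modules} (hM : PicF.IsInvertible M) (hM' : PicF.IsInvertible M')
    {x : X} (h : HasAffSec M x) (h' : IsBpf M') : HasAffSec (CohB1.tensorMod M M') x := by
  obtain ⟨σ, hσ, haff⟩ := h
  obtain ⟨σ', hσ'⟩ := h' x
  obtain ⟨τ, hτ⟩ := exists_sec_tmul hM hM' σ σ'
  refine ⟨τ, hτ ▸ ⟨hσ, hσ'⟩, ?_⟩
  rw [hτ, inf_comm]
  exact isAffineOpen_genLocus_inf hM' _ haff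

theorem HasAffSec.tensorMod_right {M M' : X.Modules} (hM : PicF.IsInvertible M) (hM' : PicF.IsInvertible M')
    {x : X} (h : IsBpf M) (h' : HasAffSec M' x) : HasAffSec (CohB1.tensorMod M M') x := by
  obtain ⟨σ, hσ⟩ := h x
  obtain ⟨σ', hσ', haff⟩ := h'
  obtain ⟨τ, hτ⟩ := exists_sec_tmul hM hM' σ σ'
  refine ⟨τ, hτ ▸ ⟨hσ, hσ'⟩, ?_⟩
  rw [hτ]
  exact isAffineOpen_genLocus_inf hM _ haff

/-- if every point has an affine `X_σ`, `σ` a section of the invertible `M` itself, then `M` is ample -/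
theorem isAmple_of_hasAffSec [CompactSpace X] {M : X.Modules} (hM : PicF.IsInvertible M)
    (h : ∀ x, HasAffSec M x) : CohB1.IsAmple M := by
  refine ⟨hM, inferInstance, fun x => ?_⟩
  obtain ⟨σ, hσ, haff⟩ := h x
  obtain ⟨V, hxV, -, ⟨A⟩⟩ := exists_atlas hM
  have hV := iSup_eq_top_of_mem hxV
  obtain ⟨s, hs⟩ := Groth.Agent.S2327.transfer hV A (A.pow (0 + 1)) 1 one_pos (by
      intro i j
      rw [Atlas.pow_trans]) (ofSection σ)
  exact ⟨0, s, hs ▸ hσ, hs ▸ haff⟩

/-- **a criterion for the existence of an ample module**: if `X` is quasi-compact and every point lies in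
an affine `X_s` with `s` a section of a globally generated invertible module, then `X` has an ample
invertible module (the tensor product of finitely many of the given ones). -/
theorem exists_isAmple_of_cover [CompactSpace X]
    (h : ∀ x : X, ∃ (L : X.Modules) (s : Coh.structureModule X ⟶ L), PicF.IsInvertible L ∧
      Curv2.IsGloballyGenerated L ∧ x ∈ CohB1.genLocus L s ∧ IsAffineOpen (CohB1.genLocus L s)) :
    ∃ M : X.Modules, CohB1.IsAmple M := by
  choose L s hinv hgg hx haff using h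
  obtain ⟨t, ht⟩ := isCompact_univ.elim_finite_subcover (fun y => (CohB1.genLocus (L y) (s y) : Set X))
    (fun y => (CohB1.genLocus (L y) (s y)).2) (fun x _ => Set.mem_iUnion.2 ⟨x, hx x⟩)
  -- induction over the list of chosen points
  have key : ∀ l : List X, ∃ M : X.Modules, PicF.IsInvertible M ∧ IsBpf M ∧
      ∀ x, (∃ y ∈ l, x ∈ CohB1.genLocus (L y) (s y)) → HasAffSec M x := by
    intro l
    induction l with
    | nil =>
      exact ⟨Coh.structureModule X, H78AmpleUnit.isInvertible_unit X, isBpf_unit X, by simp⟩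
    | cons y l ih =>
      obtain ⟨M, hM, hbpf, hM2⟩ := ih
      have hbpfy := isBpf_of_isGloballyGenerated (hinv y) (hgg y)
      refine ⟨CohB1.tensorMod (L y) M, isInvertible_tensorMod (hinv y) hM,
        hbpfy.tensorMod (hinv y) hM hbpf, ?_⟩
      rintro x ⟨z, hz, hxz⟩
      rcases List.mem_cons.1 hz with rfl | hz'
      · refine HasAffSec.tensorMod_left (hinv z) hM ⟨sec (s z), ?_, ?_⟩ hbpf
        · rw [ofSection_sec]; exact hxz
        · rw [ofSection_sec]; exact haff z
      · exact HasAffSec.tensorMod_right (hinv y) hM hbpfy (hM2 x ⟨z, hz', hxz⟩)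
  obtain ⟨M, hM, -, hM2⟩ := key t.toList
  refine ⟨M, isAmple_of_hasAffSec hM (fun x => hM2 x ?_)⟩
  obtain ⟨y, hy, hxy⟩ := Set.mem_iUnion₂.1 (ht (Set.mem_univ x))
  exact ⟨y, Finset.mem_toList.2 hy, hxy⟩


end Invertible

end Groth.Agent.Lib.H78GlobGen
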