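import Groth.Agent.Lib.H78KeyLemma

set_option autoImplicit false
universe u
open CategoryTheory CategoryTheory.Limits AlgebraicGeometry MonoidalCategory Opposite TopologicalSpace
open Groth.Agent.Lib.H90Invertible Groth.Agent.Lib.StructureModule Groth.Agent.Lib.H78TensorGen
open Groth.Agent.Lib.H78SecCoord Groth.Agent.Lib.H78Atlas Groth.Agent.Lib.H78KeyLemma

namespace Groth.Agent.Lib.H78KeyLemma2

variable {X : Scheme.{u}}

/-- **Key lemma, abstract coordinate form**.  `X` quasi-separated, finitely many affine opens `V i`,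
functions `a i` on `V i` with `a i = a k * h i k` on `V i ∩ V k`, further functions `w i k` on `V i ∩ V k`,
and sections `τ i` of the quasi-coherent `F` over `D(a i)` with `τ i = w i k • τ k` on `D(a i|V i ∩ V k)`.
Then for all large `q` there are sections `x i` of `F` over `V i` with `x i = a i ^ q • τ i` on `D(a i)` and
`x i = (h i k ^ q * w i k) • x k` on `V i ∩ V k`. -/
theorem key_ext_abs {F : X.Modules} (hF : QcLike F) [QuasiSeparatedSpace X] {ι : Type*}
    [Finite ι] {V : ι → X.Opens} (hVaff : ∀ i, IsAffineOpen (V i))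
    (a : ∀ i, Γ(X, V i)) (h w : ∀ i k, Γ(X, V i ⊓ V k))
    (hah : ∀ i k, rf (inf_le_left : V i ⊓ V k ≤ V i) (a i) = rf inf_le_right (a k) * h i k)
    (τ : ∀ i, Γ(F, X.basicOpen (a i)))
    (hτ : ∀ i k (Q : X.Opens) (hQi : Q ≤ X.basicOpen (a i)) (hQk : Q ≤ X.basicOpen (a k))
      (hQ : Q ≤ V i ⊓ V k), rs F hQi (τ i) = rf hQ (w i k) • rs F hQk (τ k)) :
    ∃ q₀ : ℕ, ∀ q, q₀ ≤ q → ∃ x : ∀ i, Γ(F, V i),
      (∀ i, rs F (X.basicOpen_le (a i)) (x i) = rf (X.basicOpen_le (a i)) (a i) ^ q • τ i) ∧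
      (∀ i k, rs F (inf_le_left : V i ⊓ V k ≤ V i) (x i) =
        (h i k ^ q * w i k) • rs F (inf_le_right : V i ⊓ V k ≤ V k) (x k)) := by
  cases nonempty_fintype ι
  -- Step 1: local extensions with a uniform exponent
  have h1 : ∀ i, ∃ (n : ℕ) (z : Γ(F, V i)), rs F (X.basicOpen_le (a i)) z =
      rf (X.basicOpen_le (a i)) (a i) ^ n • τ i :=
    fun i => hF.ext (hVaff i) (a i) (τ i)
  choose n₁ z₁ hz₁ using h1
  let N₀ := Finset.univ.sup n₁
  have hN₀ : ∀ i, n₁ i ≤ N₀ := fun i => Finset.le_sup (Finset.mem_univ i)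
  obtain ⟨x₀, hx₀def⟩ : ∃ x₀ : ∀ i, Γ(F, V i), ∀ i, x₀ i = a i ^ (N₀ - n₁ i) • z₁ i :=
    ⟨_, fun i => rfl⟩
  have hx₀ : ∀ i, rs F (X.basicOpen_le (a i)) (x₀ i) =
      rf (X.basicOpen_le (a i)) (a i) ^ N₀ • τ i := by
    intro i
    rw [hx₀def, rs_smul, hz₁ i, rf_pow, ← mul_smul, ← pow_add, Nat.sub_add_cancel (hN₀ i)]
  -- Step 2: the cocycle defect is killed by a power
  have h2 : ∀ p : ι × ι, ∃ m : ℕ,
      rf (inf_le_left : V p.1 ⊓ V p.2 ≤ V p.1) (a p.1) ^ m •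
        (rs F (inf_le_left : V p.1 ⊓ V p.2 ≤ V p.1) (x₀ p.1) -
          (h p.1 p.2 ^ N₀ * w p.1 p.2) • rs F (inf_le_right : V p.1 ⊓ V p.2 ≤ V p.2) (x₀ p.2)) = 0 := by
    rintro ⟨i, j⟩
    have hc : IsCompact ((V i ⊓ V j : X.Opens) : Set X) :=
      QuasiSeparatedSpace.inter_isCompact _ _ (V i).2 (hVaff i).isCompact (V j).2 (hVaff j).isCompact
    refine van_qc hF hc _ _ ?_
    have hcompat := hah i j
    have hQi : X.basicOpen (rf (inf_le_left : V i ⊓ V j ≤ V i) (a i)) ≤ X.basicOpen (a i) := by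
      rw [basicOpen_rf]; exact inf_le_right
    have hQj : X.basicOpen (rf (inf_le_left : V i ⊓ V j ≤ V i) (a i)) ≤ X.basicOpen (a j) := by
      rw [hcompat, Scheme.basicOpen_mul, basicOpen_rf]
      exact inf_le_left.trans inf_le_right
    have hQ : X.basicOpen (rf (inf_le_left : V i ⊓ V j ≤ V i) (a i)) ≤ V i ⊓ V j :=
      X.basicOpen_le _
    have e1 : rs F hQ (rs F (inf_le_left : V i ⊓ V j ≤ V i) (x₀ i)) =
        rf (hQ.trans inf_le_left) (a i) ^ N₀ • rs F hQi (τ i) := by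
      rw [rs_rs]
      have := congrArg (rs F hQi) (hx₀ i)
      rw [rs_rs, rs_smul, rf_pow, rf_rf] at this
      exact this
    have e2 : rs F hQ (rs F (inf_le_right : V i ⊓ V j ≤ V j) (x₀ j)) =
        rf (hQ.trans inf_le_right) (a j) ^ N₀ • rs F hQj (τ j) := by
      rw [rs_rs]
      have := congrArg (rs F hQj) (hx₀ j)
      rw [rs_rs, rs_smul, rf_pow, rf_rf] at this
      exact this
    change rs F hQ _ = 0
    rw [rs_sub, rs_smul F hQ (h i j ^ N₀ * w i j) _, e1, e2, hτ i j _ hQi hQj hQ, ← mul_smul, ← mul_smul,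
      sub_eq_zero]
    congr 1
    have h3 := congrArg (rf hQ) hcompat
    rw [rf_rf, rf_mul, rf_rf] at h3
    rw [h3, mul_pow, rf_mul, rf_pow]
    ring
  choose m hm using h2
  let M := Finset.univ.sup m
  have hM : ∀ p, m p ≤ M := fun p => Finset.le_sup (Finset.mem_univ p)
  refine ⟨N₀ + M, fun q hq => ?_⟩
  obtain ⟨M', rfl⟩ := Nat.exists_eq_add_of_le hq
  refine ⟨fun i => a i ^ (M + M') • x₀ i, fun i => ?_, fun i j => ?_⟩
  · rw [rs_smul, hx₀ i, rf_pow, ← mul_smul, ← pow_add]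
    congr 2
    omega
  · have hcompat := hah i j
    have hd := pow_smul_eq_zero_of_le (hm (i, j)) ((hM (i, j)).trans (Nat.le_add_right M M'))
    dsimp only at hd
    rw [smul_sub, sub_eq_zero] at hd
    rw [rs_smul, rs_smul, rf_pow, rf_pow, hd, ← mul_smul, ← mul_smul, hcompat]
    congr 1
    have : N₀ + M + M' = N₀ + (M + M') := by omega
    rw [this]
    ring


section Atlas

variable {P : X.Modules} {ι : Type*} {V : ι → X.Opens} (A : Atlas P V)

lemma _root_.Groth.Agent.Lib.H78Atlas.Atlas.trans_self (j : ι) : A.trans j j = 1 := by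
  symm
  apply A.trans_unique
  rw [one_smul]

/-- the cocycle identity for transition functions, on any open inside the triple intersection -/
lemma _root_.Groth.Agent.Lib.H78Atlas.Atlas.trans_cocycle (i j k : ι) {Q : X.Opens} (hij : Q ≤ V i ⊓ V j) (hik : Q ≤ V i ⊓ V k)
    (hkj : Q ≤ V k ⊓ V j) :
    rf hij (A.trans i j) = rf hik (A.trans i k) * rf hkj (A.trans k j) := by
  have hQi : Q ≤ V i := hij.trans inf_le_left
  have hQj : Q ≤ V j := hij.trans inf_le_right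
  have hQk : Q ≤ V k := hik.trans inf_le_right
  have e1 := congrArg (rs P hij) (A.trans_spec i j)
  have e2 := congrArg (rs P hik) (A.trans_spec i k)
  have e3 := congrArg (rs P hkj) (A.trans_spec k j)
  rw [rs_smul, rs_rs, rs_rs] at e1 e2 e3
  have hgen := ((A.gen i).mono hQi Q le_rfl).1
  apply hgen
  change rf hij (A.trans i j) • rs P le_rfl (rs P hQi (A.E i)) =
    (rf hik (A.trans i k) * rf hkj (A.trans k j)) • rs P le_rfl (rs P hQi (A.E i))
  rw [rs_self, e1, mul_comm, mul_smul, e2, e3]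

end Atlas

/-- **gluing twisted families**: sections `x i` of `F` over the `V i` with `x i = g_ik ^ n • x k` on overlaps glue
to a global section of `F ⊗ L^n` -/
theorem exists_glue_tw (F : X.Modules) {L : X.Modules} {ι : Type*} {V : ι → X.Opens} (hV : ⨆ i, V i = ⊤)
    (A : Atlas L V) (n : ℕ) (x : ∀ i, Γ(F, V i))
    (hx : ∀ i k, rs F (inf_le_left : V i ⊓ V k ≤ V i) (x i) =
      A.trans i k ^ n • rs F (inf_le_right : V i ⊓ V k ≤ V k) (x k)) :
    ∃ ξ : Γ(CohB1.tensorMod F (CohB1.tensorPow L n), ⊤),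
      ∀ i, rs _ (le_top : V i ≤ ⊤) ξ = tmul (x i) (epow (A.E i) n) := by
  refine sec_glue _ V (fun i => le_top) (by rw [hV]) (fun i => tmul (x i) (epow (A.E i) n)) ?_
  intro i k
  rw [tmul_rs, tmul_rs, hx i k, smul_tmul, epow_rs, epow_rs, ← A.trans_spec i k, epow_smul, tmul_smul]


/-- **twisted extension with arbitrary exponents**: if `X_σ = V j` for a section `σ` of `L^m`, and `τ` is a
section of `F` over `V j`, then for every residue `r` and all large `q` the section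
`τ ⊗ E_j^(m q + r)` of `F ⊗ L^(m q + r)` over `V j` extends, up to a unit, to a global section. -/
theorem ext_twist {F : X.Modules} (hF : QcLike F) [QuasiSeparatedSpace X] {L : X.Modules} {ι : Type*}
    [Finite ι] {V : ι → X.Opens} (hV : ⨆ i, V i = ⊤) (hVaff : ∀ i, IsAffineOpen (V i)) (A : Atlas L V)
    (j : ι) (m : ℕ) (σ : Γ(CohB1.tensorPow L m, ⊤))
    (hσ : CohB1.genLocus _ (ofSection σ) = V j) (r : ℕ) (τ : Γ(F, V j)) :
    ∃ q₀ : ℕ, ∀ q, q₀ ≤ q →
      ∃ (ξ : Γ(CohB1.tensorMod F (CohB1.tensorPow L (m * q + r)), ⊤)) (u : Γ(X, V j)),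
        IsUnit u ∧ rs _ (le_top : V j ≤ ⊤) ξ = tmul (u • τ) (epow (A.E j) (m * q + r)) := by
  obtain ⟨a, ha⟩ : ∃ a : ∀ i, Γ(X, V i), ∀ i, a i = (A.pow m).co σ i := ⟨_, fun i => rfl⟩
  have hB : ∀ i, X.basicOpen (a i) = V j ⊓ V i := fun i => by
    rw [ha, ← (A.pow m).genLocus_inf σ i, hσ]
  have hBle : ∀ i, X.basicOpen (a i) ≤ V i ⊓ V j := fun i => by
    rw [hB]; exact le_inf inf_le_right inf_le_left
  obtain ⟨τ', hτ'⟩ : ∃ τ' : ∀ i, Γ(F, X.basicOpen (a i)),
      ∀ i, τ' i = rs F (hBle i) (A.trans i j ^ r • rs F inf_le_right τ) := ⟨_, fun i => rfl⟩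
  have hah : ∀ i k, rf (inf_le_left : V i ⊓ V k ≤ V i) (a i) =
      rf inf_le_right (a k) * A.trans i k ^ m := by
    intro i k
    rw [ha, ha, ← Atlas.pow_trans]
    exact (A.pow m).co_compat σ i k
  obtain ⟨q₀, hq₀⟩ := key_ext_abs hF hVaff a (fun i k => A.trans i k ^ m) (fun i k => A.trans i k ^ r)
    hah τ' (by
      intro i k Q hQi hQk hQ
      have hQij : Q ≤ V i ⊓ V j := hQi.trans (hBle i)
      have hQkj : Q ≤ V k ⊓ V j := hQk.trans (hBle k)
      rw [hτ', hτ', rs_rs, rs_rs, rs_smul, rs_smul, rs_rs, rs_rs, rf_pow, rf_pow, rf_pow, ← mul_smul,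
        ← mul_pow, A.trans_cocycle i j k hQij hQ hQkj])
  refine ⟨q₀, fun q hq => ?_⟩
  obtain ⟨x, hx1, hx2⟩ := hq₀ q hq
  obtain ⟨ξ, hξ⟩ := exists_glue_tw F hV A (m * q + r) x (by
    intro i k
    rw [hx2 i k, pow_add, pow_mul])
  have hu : IsUnit (a j) := by
    have h1 : V j ≤ X.basicOpen (a j) := by rw [hB]; exact le_inf le_rfl le_rfl
    have h2 := (isUnit_map_iff (le_refl (V j)) (a j)).2 h1
    rwa [← rf, rf_self] at h2
  refine ⟨ξ, a j ^ q, hu.pow q, ?_⟩
  rw [hξ j]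
  congr 1
  refine sec_ext F _ _ (fun y hy => ⟨X.basicOpen (a j), X.basicOpen_le _, ?_, ?_⟩)
  · rw [hB]; exact ⟨hy, hy⟩
  · rw [hx1 j, rs_smul, rf_pow, hτ', A.trans_self, one_pow, one_smul, rs_rs]

end Groth.Agent.Lib.H78KeyLemma2
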