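import Groth.Agent.Lib.H78AmpleBasis

set_option autoImplicit false
universe u
open CategoryTheory CategoryTheory.Limits AlgebraicGeometry MonoidalCategory Opposite TopologicalSpace
open Groth.Agent.Lib.H90Invertible Groth.Agent.Lib.StructureModule Groth.Agent.Lib.H78TensorGen
open Groth.Agent.Lib.H78SecCoord Groth.Agent.Lib.H78Atlas Groth.Agent.Lib.H78KeyLemma
open Groth.Agent.Lib.H78AmpleBasis

namespace Groth.Agent.Lib.H78SecAdd

variable {X : Scheme.{u}} {P : X.Modules}

lemma rs_add (F : X.Modules) {V W : X.Opens} (h : W ≤ V) (z z' : Γ(F, V)) :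
    rs F h (z + z') = rs F h z + rs F h z' :=
  map_add (F.presheaf.map (homOfLE h).op).hom z z'

lemma rs_neg (F : X.Modules) {V W : X.Opens} (h : W ≤ V) (z : Γ(F, V)) :
    rs F h (-z) = - rs F h z :=
  map_neg (F.presheaf.map (homOfLE h).op).hom z

lemma co_add {ι : Type*} {V : ι → X.Opens} (A : Atlas P V) (σ τ : Γ(P, ⊤)) (i : ι) :
    A.co (σ + τ) i = A.co σ i + A.co τ i := by
  symm
  apply A.co_unique
  rw [add_smul, A.co_spec, A.co_spec, rs_add]

lemma co_neg {ι : Type*} {V : ι → X.Opens} (A : Atlas P V) (σ : Γ(P, ⊤)) (i : ι) :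
    A.co (-σ) i = - A.co σ i := by
  symm
  apply A.co_unique
  rw [neg_smul, A.co_spec, rs_neg]

lemma co_zero {ι : Type*} {V : ι → X.Opens} (A : Atlas P V) (i : ι) :
    A.co (0 : Γ(P, ⊤)) i = 0 := by
  symm
  apply A.co_unique
  rw [zero_smul, rs_zero]

lemma basicOpen_neg {U : X.Opens} (a : Γ(X, U)) : X.basicOpen (-a) = X.basicOpen a := by
  have : -a = (-1 : Γ(X, U)) * a := by ring
  rw [this, Scheme.basicOpen_mul, Scheme.basicOpen_of_isUnit _ (isUnit_one.neg), inf_eq_right]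
  exact X.basicOpen_le a

/-- the generating locus of the zero section is empty -/
theorem genLocus_zero (hP : PicF.IsInvertible P) :
    CohB1.genLocus P (ofSection (0 : Γ(P, ⊤))) = ⊥ := by
  obtain ⟨V, hxV, -, ⟨A⟩⟩ := exists_atlas hP
  refine opens_eq_of_cover (iSup_eq_top_of_mem hxV) (fun i => ?_)
  rw [A.genLocus_inf, co_zero, Scheme.basicOpen_zero, bot_inf_eq]

theorem genLocus_neg (hP : PicF.IsInvertible P) (σ : Γ(P, ⊤)) :
    CohB1.genLocus P (ofSection (-σ)) = CohB1.genLocus P (ofSection σ) := by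
  obtain ⟨V, hxV, -, ⟨A⟩⟩ := exists_atlas hP
  refine opens_eq_of_cover (iSup_eq_top_of_mem hxV) (fun i => ?_)
  rw [A.genLocus_inf, A.genLocus_inf, co_neg, basicOpen_neg]

/-- `X_{σ+τ} ⊆ X_σ ∪ X_τ` -/
theorem genLocus_add_le (hP : PicF.IsInvertible P) (σ τ : Γ(P, ⊤)) :
    CohB1.genLocus P (ofSection (σ + τ)) ≤
      CohB1.genLocus P (ofSection σ) ⊔ CohB1.genLocus P (ofSection τ) := by
  obtain ⟨V, hxV, -, ⟨A⟩⟩ := exists_atlas hP
  intro x hx
  have h1 : x ∈ CohB1.genLocus P (ofSection (σ + τ)) ⊓ V x := ⟨hx, hxV x⟩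
  rw [A.genLocus_inf, co_add] at h1
  rcases X.basicOpen_add_le _ _ h1 with h2 | h2
  · rw [← A.genLocus_inf] at h2
    exact Or.inl h2.1
  · rw [← A.genLocus_inf] at h2
    exact Or.inr h2.1

/-- if `σ` generates at `x` and `τ` does not, then `σ + τ` generates at `x` -/
theorem mem_genLocus_add (hP : PicF.IsInvertible P) (σ τ : Γ(P, ⊤)) {x : X}
    (hσ : x ∈ CohB1.genLocus P (ofSection σ)) (hτ : x ∉ CohB1.genLocus P (ofSection τ)) :
    x ∈ CohB1.genLocus P (ofSection (σ + τ)) := by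
  have h1 := genLocus_add_le hP (σ + τ) (-τ)
  rw [add_neg_cancel_right, genLocus_neg hP] at h1
  rcases h1 hσ with h2 | h2
  · exact h2
  · exact absurd h2 hτ

/-- if `X_σ` and `X_τ` are affine, so is `X_{σ+τ}` -/
theorem isAffineOpen_genLocus_add (hP : PicF.IsInvertible P) (σ τ : Γ(P, ⊤))
    (hσ : IsAffineOpen (CohB1.genLocus P (ofSection σ)))
    (hτ : IsAffineOpen (CohB1.genLocus P (ofSection τ))) :
    IsAffineOpen (CohB1.genLocus P (ofSection (σ + τ))) := by
  have he := isGen_genLocus (ofSection (σ + τ))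
  rw [sec_ofSection] at he
  obtain ⟨f, hf⟩ : ∃ f, f = coord he le_rfl (rs P le_top σ) := ⟨_, rfl⟩
  obtain ⟨g, hg⟩ : ∃ g, g = coord he le_rfl (rs P le_top τ) := ⟨_, rfl⟩
  have hfg : f + g = 1 := by
    rw [hf, hg, ← coord_add, ← rs_add]
    have := coord_gen he le_rfl
    rwa [rs_self] at this
  have h1 : X.basicOpen f = CohB1.genLocus P (ofSection σ) ⊓ CohB1.genLocus P (ofSection (σ + τ)) := by
    rw [hf, genLocus_inf_eq he (ofSection σ), sec_ofSection]
  have h2 : X.basicOpen g = CohB1.genLocus P (ofSection τ) ⊓ CohB1.genLocus P (ofSection (σ + τ)) := by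
    rw [hg, genLocus_inf_eq he (ofSection τ), sec_ofSection]
  refine isAffineOpen_of_isAffineOpen_basicOpen _ {f, g} ?_ ?_
  · rw [Ideal.eq_top_iff_one, ← hfg]
    exact Ideal.add_mem _ (Ideal.subset_span (by simp)) (Ideal.subset_span (by simp))
  · intro i hi
    rcases hi with rfl | rfl
    · rw [h1, inf_comm]
      exact isAffineOpen_genLocus_inf hP _ hσ
    · rw [h2, inf_comm]
      exact isAffineOpen_genLocus_inf hP _ hτ

/-- for an ample `L`, every neighbourhood of a point contains an affine `X_s` around the point -/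
theorem exists_sec_nbhd_affine [CompactSpace X] {L : X.Modules} (h : CohB1.IsAmple L) (x : X) (U : X.Opens)
    (hxU : x ∈ U) :
    ∃ (n : ℕ) (s : Coh.structureModule X ⟶ CohB1.tensorPow L (n + 1)),
      x ∈ CohB1.genLocus _ s ∧ CohB1.genLocus _ s ≤ U ∧ IsAffineOpen (CohB1.genLocus _ s) := by
  obtain ⟨W, hW, hxW, hWU⟩ := Opens.isBasis_iff_nbhd.1 X.isBasis_affineOpens hxU
  obtain ⟨n, s, hx, hsW⟩ := (isAmple_iff_nbhd h.1).1 h x W hxW
  refine ⟨n, s, hx, hsW.trans hWU, ?_⟩
  have := isAffineOpen_genLocus_inf (isInvertible_tensorPow h.1 (n + 1)) s hW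
  rwa [inf_eq_left.2 hsW] at this

/-- **EGA II 4.5.4**: for an ample `L` on a quasi-compact scheme, every finite set of points contained in
an open `U` is contained in an affine `X_s ⊆ U`. -/
theorem exists_sec_finset [CompactSpace X] {L : X.Modules} (hL : CohB1.IsAmple L) :
    ∀ (k : ℕ) (Z : Finset X), Z.card = k → ∀ U : X.Opens, (Z : Set X) ⊆ U →
    ∃ (n : ℕ) (s : Coh.structureModule X ⟶ CohB1.tensorPow L (n + 1)),
      (Z : Set X) ⊆ CohB1.genLocus _ s ∧ CohB1.genLocus _ s ≤ U ∧ IsAffineOpen (CohB1.genLocus _ s) := by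
  classical
  intro k
  induction k with
  | zero =>
    intro Z hZ U _
    rw [Finset.card_eq_zero] at hZ
    subst hZ
    refine ⟨0, ofSection 0, by simp, ?_, ?_⟩
    · rw [genLocus_zero (isInvertible_tensorPow hL.1 _)]; exact bot_le
    · rw [genLocus_zero (isInvertible_tensorPow hL.1 _)]; exact isAffineOpen_bot X
  | succ k ih =>
    intro Z hZ U hZU
    have hne : Z.Nonempty := by
      rw [← Finset.card_pos, hZ]; exact Nat.succ_pos k
    obtain ⟨z, hzZ, hzmax⟩ := Z.exists_maximalFor (fun z : X => closure ({z} : Set X)) hne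
    -- `z` is not in the closure of any other point of `Z`
    have hz' : ∀ z' ∈ Z, z ∈ closure ({z'} : Set X) → z' = z := by
      intro z' hz'Z hzz'
      have h1 : closure ({z} : Set X) ≤ closure ({z'} : Set X) :=
        closure_minimal (Set.singleton_subset_iff.2 hzz') isClosed_closure
      have h2 := hzmax hz'Z h1
      exact (inseparable_iff_closure_eq.2 (le_antisymm h2 h1)).eq
    obtain ⟨n', s', hZs', hs'U, hs'aff⟩ := ih (Z.erase z) (by rw [Finset.card_erase_of_mem hzZ, hZ]; rfl) U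
      (fun y hy => hZU (Finset.mem_of_mem_erase (Finset.mem_coe.1 hy)))
    by_cases hzs' : z ∈ CohB1.genLocus _ s'
    · refine ⟨n', s', ?_, hs'U, hs'aff⟩
      intro y hy
      by_cases hyz : y = z
      · rw [hyz]; exact hzs'
      · exact hZs' (Finset.mem_coe.2 (Finset.mem_erase.2 ⟨hyz, Finset.mem_coe.1 hy⟩))
    -- the closed set `C`, the closure of the other points
    have hCclosed : IsClosed (⋃ y ∈ (Z.erase z : Set X), closure ({y} : Set X)) :=
      (Z.erase z).finite_toSet.isClosed_biUnion (fun _ _ => isClosed_closure)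
    have hzC : z ∉ ⋃ y ∈ (Z.erase z : Set X), closure ({y} : Set X) := by
      intro hz
      obtain ⟨y, hy, hzy⟩ := Set.mem_iUnion₂.1 hz
      have hy' := Finset.mem_erase.1 (Finset.mem_coe.1 hy)
      exact hy'.1 (hz' y hy'.2 hzy)
    obtain ⟨m, t, hzt, htU', htaff⟩ := exists_sec_nbhd_affine hL z (U ⊓ ⟨_, hCclosed.isOpen_compl⟩)
      ⟨hZU (Finset.mem_coe.2 hzZ), hzC⟩
    have htZ : ∀ y ∈ Z.erase z, y ∉ CohB1.genLocus _ t := by
      intro y hy hyt
      exact (htU' hyt).2 (Set.mem_iUnion₂.2 ⟨y, Finset.mem_coe.2 hy, subset_closure rfl⟩)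
    -- bring both sections to the same power of `L`
    obtain ⟨V, hxV, -, ⟨A⟩⟩ := exists_atlas hL.1
    have hV := iSup_eq_top_of_mem hxV
    obtain ⟨N, hN⟩ : ∃ N, N + 1 = (n' + 1) * (m + 1) := ⟨(n' + 1) * (m + 1) - 1, by
      have : 0 < (n' + 1) * (m + 1) := Nat.mul_pos (Nat.succ_pos n') (Nat.succ_pos m)
      omega⟩
    obtain ⟨s'', hs''⟩ := Groth.Agent.S2327.transfer hV (A.pow (n' + 1)) (A.pow (N + 1)) (m + 1)
      (Nat.succ_pos m) (by
        intro i j
        rw [Atlas.pow_trans, Atlas.pow_trans, ← pow_mul, hN]) s'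
    obtain ⟨t'', ht''⟩ := Groth.Agent.S2327.transfer hV (A.pow (m + 1)) (A.pow (N + 1)) (n' + 1)
      (Nat.succ_pos n') (by
        intro i j
        rw [Atlas.pow_trans, Atlas.pow_trans, ← pow_mul, hN, mul_comm]) t
    have hP := isInvertible_tensorPow hL.1 (N + 1)
    have e1 : CohB1.genLocus _ (ofSection (sec s'')) = CohB1.genLocus _ s' := by rw [ofSection_sec, hs'']
    have e2 : CohB1.genLocus _ (ofSection (sec t'')) = CohB1.genLocus _ t := by rw [ofSection_sec, ht'']
    refine ⟨N, ofSection (sec s'' + sec t''), ?_, ?_, ?_⟩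
    · intro y hy
      by_cases hyz : y = z
      · rw [hyz, add_comm (sec s'') (sec t'')]
        refine mem_genLocus_add hP _ _ ?_ ?_
        · rw [e2]; exact hzt
        · rw [e1]; exact hzs'
      · have hy' : y ∈ Z.erase z := Finset.mem_erase.2 ⟨hyz, Finset.mem_coe.1 hy⟩
        refine mem_genLocus_add hP _ _ ?_ ?_
        · rw [e1]; exact hZs' (Finset.mem_coe.2 hy')
        · rw [e2]; exact htZ y hy'
    · refine (genLocus_add_le hP _ _).trans (sup_le ?_ ?_)
      · rw [e1]; exact hs'U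
      · rw [e2]; exact htU'.trans inf_le_left
    · refine isAffineOpen_genLocus_add hP _ _ ?_ ?_
      · rw [e1]; exact hs'aff
      · rw [e2]; exact htaff

theorem exists_sec_finite [CompactSpace X] {L : X.Modules} (hL : CohB1.IsAmple L)
    (Z : Set X) (hZ : Z.Finite) (U : X.Opens) (hZU : Z ⊆ U) :
    ∃ (n : ℕ) (s : Coh.structureModule X ⟶ CohB1.tensorPow L (n + 1)),
      Z ⊆ CohB1.genLocus _ s ∧ CohB1.genLocus _ s ≤ U ∧ IsAffineOpen (CohB1.genLocus _ s) := by
  have := exists_sec_finset hL hZ.toFinset.card hZ.toFinset rfl U (by simpa using hZU)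
  simpa using this

end Groth.Agent.Lib.H78SecAdd
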