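import Groth.Agent.Lib.H78GlobGen
import Groth.Agent.Lib.H78KeyLemma2
import Groth.Agent.Lib.H78SecAdd

set_option autoImplicit false
universe u
open CategoryTheory CategoryTheory.Limits AlgebraicGeometry MonoidalCategory Opposite TopologicalSpace
open Groth.Agent.Lib.H90Invertible Groth.Agent.Lib.StructureModule Groth.Agent.Lib.H78TensorGen
open Groth.Agent.Lib.H78SecCoord Groth.Agent.Lib.H78Atlas Groth.Agent.Lib.H78KeyLemma
open Groth.Agent.Lib.H78KeyLemma2 Groth.Agent.Lib.H78AmpleBasis Groth.Agent.Lib.H78SecAdd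

namespace Groth.Agent.Lib.H78GlobGen2

variable {X : Scheme.{u}}

/-- the free module, as an object of `X.Modules` -/
noncomputable abbrev freeM (X : Scheme.{u}) (K : Type u) : X.Modules := SheafOfModules.free K

/-- the inclusions of the free module -/
noncomputable def ιF {K : Type u} (k : K) : Coh.structureModule X ⟶ freeM X K := SheafOfModules.ιFree k

/-- the morphism `free K ⟶ G` attached to a family of global sections -/
noncomputable def ofSections (G : X.Modules) {K : Type u} (ξ : K → Γ(G, ⊤)) : freeM X K ⟶ G :=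
  (SheafOfModules.freeHomEquiv G).symm (fun k => SheafOfModules.unitHomEquiv G (ofSection (ξ k)))

lemma ιF_ofSections (G : X.Modules) {K : Type u} (ξ : K → Γ(G, ⊤)) (k : K) :
    ιF k ≫ ofSections G ξ = ofSection (ξ k) := by
  have := SheafOfModules.unitHomEquiv_symm_freeHomEquiv_apply (ofSections G ξ) k
  rw [ofSections, Equiv.apply_symm_apply, Equiv.symm_apply_apply] at this
  exact this.symm

lemma ofSections_app (G : X.Modules) {K : Type u} (ξ : K → Γ(G, ⊤)) (k : K) (W : X.Opens) (a : Γ(X, W)) :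
    (ofSections G ξ).app W ((ιF k).app W (toSec W a)) = a • rs G le_top (ξ k) := by
  have h := congrArg (fun φ : Coh.structureModule X ⟶ G => φ.app W (toSec W a)) (ιF_ofSections G ξ k)
  exact h.trans (ofSection_app (ξ k) W a)

lemma rs_sum (F : X.Modules) {V W : X.Opens} (h : W ≤ V) {κ : Type*} (S : Finset κ) (z : κ → Γ(F, V)) :
    rs F h (∑ k ∈ S, z k) = ∑ k ∈ S, rs F h (z k) :=
  map_sum (F.presheaf.map (homOfLE h).op).hom z S

/-- **criterion for global generation**: global sections `ξ k` whose restrictions span `Γ(G, V i)` over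
`Γ(O, V i)` for an affine open cover `V i` on which `G` has the extension property of quasi-coherent
modules generate `G`. -/
theorem isGloballyGenerated_of_span {G : X.Modules} {ι : Type*} (V : ι → X.Opens) (hV : ⨆ i, V i = ⊤)
    (hVaff : ∀ i, IsAffineOpen (V i))
    (hext : ∀ i (f : Γ(X, V i)) (t : Γ(G, X.basicOpen f)),
      ∃ (n : ℕ) (z : Γ(G, V i)), rs G (X.basicOpen_le f) z = rf (X.basicOpen_le f) f ^ n • t)
    {K : Type u} (ξ : K → Γ(G, ⊤))
    (hspan : ∀ i, Submodule.span Γ(X, V i) (Set.range fun k => rs G (le_top : V i ≤ ⊤) (ξ k)) = ⊤) :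
    Curv2.IsGloballyGenerated G := by
  refine ⟨K, ofSections G ξ, ?_⟩
  -- local surjectivity
  have hls : ∀ (U : X.Opens) (s : Γ(G, U)) (x : X), x ∈ U → ∃ (W : X.Opens) (hW : W ≤ U), x ∈ W ∧
      ∃ t : Γ(freeM X K, W), (ofSections G ξ).app W t = rs G hW s := by
    intro U s x hxU
    have hx : x ∈ ⨆ i, V i := by rw [hV]; trivial
    obtain ⟨i, hxi⟩ := Opens.mem_iSup.1 hx
    obtain ⟨f, hfU, hxf⟩ := (hVaff i).exists_basicOpen_le (V := U) ⟨x, hxU⟩ hxi
    refine ⟨X.basicOpen f, hfU, hxf, ?_⟩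
    obtain ⟨n, z, hz⟩ := hext i f (rs G hfU s)
    have hzmem : z ∈ Submodule.span Γ(X, V i) (Set.range fun k => rs G (le_top : V i ≤ ⊤) (ξ k)) := by
      rw [hspan i]; trivial
    obtain ⟨c, hc⟩ := (Finsupp.mem_span_range_iff_exists_finsupp).1 hzmem
    have hu : IsUnit (rf (X.basicOpen_le f) f ^ n) := (RingedSpace.isUnit_res_basicOpen _ f).pow n
    obtain ⟨v, hv⟩ := hu.exists_left_inv
    refine ⟨∑ k ∈ c.support, (ιF k).app (X.basicOpen f)
      (toSec _ (v * rf (X.basicOpen_le f) (c k))), ?_⟩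
    rw [map_sum]
    have h1 : rs G hfU s = v • rs G (X.basicOpen_le f) z := by
      rw [hz, ← mul_smul, hv, one_smul]
    rw [h1, ← hc, Finsupp.sum, rs_sum, Finset.smul_sum]
    refine Finset.sum_congr rfl (fun k _ => ?_)
    rw [ofSections_app]
    change _ = v • rs G (X.basicOpen_le f) (c k • rs G le_top (ξ k))
    rw [rs_smul, rs_rs, mul_smul]
  -- epi from local surjectivity
  haveI : (SheafOfModules.toSheaf.{u} X.ringCatSheaf).Faithful := inferInstance
  refine (SheafOfModules.toSheaf.{u} X.ringCatSheaf).epi_of_epi_map ?_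
  haveI : Sheaf.IsLocallySurjective ((SheafOfModules.toSheaf.{u} X.ringCatSheaf).map (ofSections G ξ)) := by
    refine ⟨fun {U} s => ?_⟩
    rw [Opens.mem_grothendieckTopology]
    intro x hx
    obtain ⟨W, hWU, hxW, t, ht⟩ := hls U s x hx
    exact ⟨W, homOfLE hWU, ⟨t, ht⟩, hxW⟩
  exact Sheaf.epi_of_isLocallySurjective _

lemma tmul_zero_left {M N : X.Modules} {V : X.Opens} (y : Γ(N, V)) : tmul (0 : Γ(M, V)) y = 0 := by
  have := smul_tmul (0 : Γ(X, V)) (0 : Γ(M, V)) y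
  rwa [zero_smul, zero_smul] at this

/-- extension property of `F ⊗ P` on an affine open where `P` has a generator -/
lemma ext_tensor {F : X.Modules} (hF : QcLike F) {P : X.Modules} {U : X.Opens} (hU : IsAffineOpen U)
    {e : Γ(P, U)} (he : IsGen P U e) (f : Γ(X, U)) (t : Γ(CohB1.tensorMod F P, X.basicOpen f)) :
    ∃ (n : ℕ) (z : Γ(CohB1.tensorMod F P, U)),
      rs _ (X.basicOpen_le f) z = rf (X.basicOpen_le f) f ^ n • t := by
  obtain ⟨t', ht'⟩ := (tmul_gen_bijective F he (X.basicOpen_le f)).2 t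
  have ht'' : tmul t' (rs P (X.basicOpen_le f) e) = t := ht'
  obtain ⟨n, z', hz'⟩ := hF.ext hU f t'
  refine ⟨n, tmul z' e, ?_⟩
  rw [tmul_rs, hz', smul_tmul, ht'']

/-- generation of `Γ(F ⊗ P, U)` from generation of `Γ(F, U)` -/
lemma span_tensor {F : X.Modules} {P : X.Modules} {U : X.Opens} {e : Γ(P, U)} (he : IsGen P U e)
    {K : Type*} (τ : K → Γ(F, U)) (hτ : Submodule.span Γ(X, U) (Set.range τ) = ⊤)
    (ζ : K → Γ(CohB1.tensorMod F P, U))
    (hζ : ∀ k, ∃ u : Γ(X, U), IsUnit u ∧ ζ k = tmul (u • τ k) e) :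
    Submodule.span Γ(X, U) (Set.range ζ) = ⊤ := by
  rw [eq_top_iff]
  intro y _
  obtain ⟨y', hy'⟩ := (tmul_gen_bijective F he le_rfl).2 y
  have hy'' : tmul y' e = y := by
    have : tmul y' (rs P le_rfl e) = y := hy'
    rwa [rs_self] at this
  have hmem : y' ∈ Submodule.span Γ(X, U) (Set.range τ) := by rw [hτ]; trivial
  rw [← hy'']
  clear hy' hy''
  induction hmem using Submodule.span_induction with
  | mem x hx =>
    obtain ⟨k, rfl⟩ := hx
    obtain ⟨u, hu, hk⟩ := hζ k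
    obtain ⟨v, hv⟩ := hu.exists_left_inv
    have : tmul (τ k) e = v • ζ k := by
      rw [hk, smul_tmul, ← mul_smul, hv, one_smul]
    rw [this]
    exact Submodule.smul_mem _ _ (Submodule.subset_span ⟨k, rfl⟩)
  | zero => rw [tmul_zero_left]; exact Submodule.zero_mem _
  | add x x' _ _ hx hx' => rw [tmul_add_left]; exact Submodule.add_mem _ hx hx'
  | smul a x _ hx => rw [smul_tmul]; exact Submodule.smul_mem _ _ hx


/-- global sections of `F ⊗ L^n` generating over `V j`, for all large `n` -/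
lemma exists_sections_twist {F : X.Modules} (hF : QcLike F) [QuasiSeparatedSpace X] {L : X.Modules}
    {ι : Type*} [Finite ι] {V : ι → X.Opens} (hV : ⨆ i, V i = ⊤) (hVaff : ∀ i, IsAffineOpen (V i))
    (A : Atlas L V) (j : ι) (m : ℕ) (hm : 0 < m) (σ : Γ(CohB1.tensorPow L m, ⊤))
    (hσ : CohB1.genLocus _ (ofSection σ) = V j) {K : Type*} [Finite K] (τ : K → Γ(F, V j)) :
    ∃ n₀ : ℕ, ∀ n, n₀ ≤ n → ∀ k, ∃ (ξ : Γ(CohB1.tensorMod F (CohB1.tensorPow L n), ⊤)) (u : Γ(X, V j)),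
      IsUnit u ∧ rs _ (le_top : V j ≤ ⊤) ξ = tmul (u • τ k) (epow (A.E j) n) := by
  cases nonempty_fintype K
  have h := fun (r : ℕ) (k : K) => ext_twist hF hV hVaff A j m σ hσ r (τ k)
  choose q₀ hq₀ using h
  let Q := (Finset.range m).sup (fun r => Finset.univ.sup (fun k => q₀ r k))
  have hQ : ∀ r k, r < m → q₀ r k ≤ Q := by
    intro r k hr
    exact (Finset.le_sup (f := fun k => q₀ r k) (Finset.mem_univ k)).trans
      (Finset.le_sup (f := fun r => Finset.univ.sup (fun k => q₀ r k)) (Finset.mem_range.2 hr))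
  refine ⟨m * Q, fun n hn k => ?_⟩
  have hr : n % m < m := Nat.mod_lt n hm
  have hq : Q ≤ n / m := (Nat.le_div_iff_mul_le hm).2 (by rw [mul_comm]; exact hn)
  have hnm : m * (n / m) + n % m = n := Nat.div_add_mod n m
  have key : ∀ n', n' = m * (n / m) + n % m →
      ∃ (ξ : Γ(CohB1.tensorMod F (CohB1.tensorPow L n'), ⊤)) (u : Γ(X, V j)),
        IsUnit u ∧ rs _ (le_top : V j ≤ ⊤) ξ = tmul (u • τ k) (epow (A.E j) n') := by
    rintro _ rfl
    exact hq₀ (n % m) k (n / m) ((hQ _ k hr).trans hq)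
  exact key n hnm.symm


/-- **Serre's theorem on global generation of twists** (EGA II 4.5.5): for an ample `L` on a quasi-compact
scheme and a quasi-coherent `F` of finite type, `F ⊗ L^n` is globally generated for all large `n`. -/
theorem isGloballyGenerated_twist [CompactSpace X] {L : X.Modules} (hL : CohB1.IsAmple L) (F : X.Modules)
    (hF : Coh.IsCoh F) :
    ∃ n₀ : ℕ, ∀ n, n₀ ≤ n → Curv2.IsGloballyGenerated (CohB1.tensorMod F (CohB1.tensorPow L n)) := by
  haveI := quasiSeparatedSpace_of_isAmple hL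
  haveI : F.IsQuasicoherent := hF.1
  haveI : F.IsFiniteType := hF.2
  have hQ : QcLike F := qcLike_of_isQuasicoherent F
  -- the cover by affine `X_s` on which `L` is trivial
  have h1 : ∀ x : X, ∃ (V₀ : X.Opens) (e : Γ(L, V₀)) (n : ℕ)
      (s : Coh.structureModule X ⟶ CohB1.tensorPow L (n + 1)), IsGen L V₀ e ∧
        x ∈ CohB1.genLocus _ s ∧ CohB1.genLocus _ s ≤ V₀ ∧ IsAffineOpen (CohB1.genLocus _ s) := by
    intro x
    obtain ⟨V₀, hxV₀, e, he⟩ := (isInvertible_iff_exists_isGen L).1 hL.1 x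
    obtain ⟨n, s, hx, hsV, haff⟩ := exists_sec_nbhd_affine hL x V₀ hxV₀
    exact ⟨V₀, e, n, s, he, hx, hsV, haff⟩
  choose V₀ e n s he hx hsV haff using h1
  obtain ⟨t, ht⟩ := isCompact_univ.elim_finite_subcover (fun y => (CohB1.genLocus _ (s y) : Set X))
    (fun y => (CohB1.genLocus _ (s y)).2) (fun x _ => Set.mem_iUnion.2 ⟨x, hx x⟩)
  obtain ⟨V, hVdef⟩ : ∃ V : t → X.Opens, ∀ i, V i = CohB1.genLocus _ (s i.1) := ⟨_, fun _ => rfl⟩
  have hV : ⨆ i, V i = ⊤ := by
    refine top_le_iff.1 (fun x _ => ?_)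
    obtain ⟨y, hy, hxy⟩ := Set.mem_iUnion₂.1 (ht (Set.mem_univ x))
    exact Opens.mem_iSup.2 ⟨⟨y, hy⟩, by rw [hVdef]; exact hxy⟩
  have hVaff : ∀ i, IsAffineOpen (V i) := fun i => by rw [hVdef]; exact haff i.1
  have hVle : ∀ i : t, V i ≤ V₀ i.1 := fun i => by rw [hVdef]; exact hsV i.1
  let A : Atlas L V := ⟨fun i => rs L (hVle i) (e i.1), fun i => (he i.1).mono (hVle i)⟩
  -- generators of `F` over the `V j`
  have h2 : ∀ j : t, ∃ (I : Type u) (_ : Finite I) (τ : I → Γ(F, V j)),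
      Submodule.span Γ(X, V j) (Set.range τ) = ⊤ := by
    intro j
    obtain ⟨I, hI, τ, hτ⟩ := Groth.Agent.Lib.CohFinite.exists_sections_span_stalk_affine F (hVaff j)
    exact ⟨I, hI, τ, Groth.Agent.Lib.CohFinite.span_eq_top_of_forall_span_germ_eq_top F (hVaff j) τ hτ⟩
  choose I hI τ hτ using h2
  -- the extension lemma for every `j`
  have h3 : ∀ j : t, ∃ n₀ : ℕ, ∀ n, n₀ ≤ n → ∀ k : I j,
      ∃ (ξ : Γ(CohB1.tensorMod F (CohB1.tensorPow L n), ⊤)) (u : Γ(X, V j)),
        IsUnit u ∧ rs _ (le_top : V j ≤ ⊤) ξ = tmul (u • τ j k) (epow (A.E j) n) := by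
    intro j
    haveI := hI j
    refine exists_sections_twist hQ hV hVaff A j (n j.1 + 1) (Nat.succ_pos _) (sec (s j.1)) ?_ (τ j)
    rw [ofSection_sec, hVdef]
  choose n₀ hn₀ using h3
  refine ⟨Finset.univ.sup n₀, fun N hN => ?_⟩
  have h4 : ∀ (p : Σ j : t, I j), ∃ (ξ : Γ(CohB1.tensorMod F (CohB1.tensorPow L N), ⊤)) (u : Γ(X, V p.1)),
      IsUnit u ∧ rs _ (le_top : V p.1 ≤ ⊤) ξ = tmul (u • τ p.1 p.2) (epow (A.E p.1) N) := fun p =>
    hn₀ p.1 N ((Finset.le_sup (Finset.mem_univ p.1)).trans hN) p.2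
  choose ξ u hu hξ using h4
  refine isGloballyGenerated_of_span V hV hVaff (fun i f t' => ?_) ξ (fun i => ?_)
  · exact ext_tensor hQ (hVaff i) (isGen_epow (A.gen i) N) f t'
  · have hsub : Submodule.span Γ(X, V i) (Set.range fun k : I i => rs _ (le_top : V i ≤ ⊤) (ξ ⟨i, k⟩)) ≤
        Submodule.span Γ(X, V i) (Set.range fun p => rs _ (le_top : V i ≤ ⊤) (ξ p)) := by
      apply Submodule.span_mono
      rintro _ ⟨k, rfl⟩
      exact ⟨⟨i, k⟩, rfl⟩
    refine top_le_iff.1 (le_trans (ge_of_eq ?_) hsub)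
    exact span_tensor (isGen_epow (A.gen i) N) (τ i) (hτ i) _ (fun k => ⟨u ⟨i, k⟩, hu ⟨i, k⟩, hξ ⟨i, k⟩⟩)

end Groth.Agent.Lib.H78GlobGen2
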