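import Groth.Agent.Lib.H78AmpleFamily
import Groth.Agent.Lib.H78GlobGen2
import Groth.Agent.Lib.H78GlobGen

/-!
# helper78: `L ⊗ f^*(K^n)` is ample for `L` `f`-ample and `K` ample (namespace `Groth.Agent.Lib.H78RelAmpleComp`)

* `isAmple_tensor_pullback_pow`: `f : X ⟶ Y` quasi-compact, `K` ample on `Y`, `L` ample relative to `f`; then
  `L ⊗ f^*(K^n)` is ample on `X` for all large `n` (EGA II 4.6.13 (ii), absolute case).
-/

set_option autoImplicit false
universe u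
open CategoryTheory CategoryTheory.Limits AlgebraicGeometry MonoidalCategory Opposite TopologicalSpace
open Groth.Agent.Lib.H90Invertible Groth.Agent.Lib.StructureModule Groth.Agent.Lib.H78TensorGen
open Groth.Agent.Lib.H78SecCoord Groth.Agent.Lib.H78Atlas Groth.Agent.Lib.H78Restrict
open Groth.Agent.Lib.H78KeyLemma Groth.Agent.Lib.H78GenOn Groth.Agent.Lib.H78SecTwist
open Groth.Agent.Lib.H78PullSec Groth.Agent.Lib.H78AtlasOps

namespace Groth.Agent.Lib.H78RelAmpleComp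

variable {X Y : Scheme.{u}} (f : X ⟶ Y)

/-- the atlas on the refined cover `V` of `X` pulled back from an atlas on the cover `W` of `Y` -/
noncomputable def pullRefine {M : Y.Modules} {W : Y → Y.Opens} (𝒜 : Atlas M W) (V : X → X.Opens)
    (hV : ∀ x, V x ≤ f ⁻¹ᵁ W (f x)) : Atlas ((Scheme.Modules.pullback f).obj M) V :=
  (pullAtlas f 𝒜).refine (fun x => f x) V hV

lemma pullRefine_trans_pow {M M' : Y.Modules} {W : Y → Y.Opens} (𝒜 : Atlas M W) (𝒜' : Atlas M' W)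
    (V : X → X.Opens) (hV : ∀ x, V x ≤ f ⁻¹ᵁ W (f x)) (N : ℕ)
    (h : ∀ i j, 𝒜'.trans i j = 𝒜.trans i j ^ N) (i j : X) :
    (pullRefine f 𝒜' V hV).trans i j = (pullRefine f 𝒜 V hV).trans i j ^ N := by
  unfold pullRefine
  rw [Atlas.refine_trans, Atlas.refine_trans, pullAtlas_trans, pullAtlas_trans, h, map_pow, rf, rf, map_pow]

/-- **EGA II 4.6.13 (ii), absolute case** -/
theorem isAmple_tensor_pullback_pow [QuasiCompact f] {K : Y.Modules} (hK : CohB1.IsAmple K)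
    {L : X.Modules} (hL : RelAmple.IsRelAmple f L) :
    ∃ n₀ : ℕ, 0 < n₀ ∧ ∀ n, n₀ ≤ n →
      CohB1.IsAmple (CohB1.tensorMod L ((Scheme.Modules.pullback f).obj (CohB1.tensorPow K n))) := by
  classical
  haveI : CompactSpace Y := hK.2.1
  haveI : CompactSpace X := QuasiCompact.compactSpace_of_compactSpace f
  haveI : QuasiSeparatedSpace Y := H78AmpleBasis.quasiSeparatedSpace_of_isAmple hK
  haveI : IsSeparated f := H78AmpleSep.isSeparated_of_isRelAmple f hL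
  haveI : QuasiSeparatedSpace X := quasiSeparatedSpace_of_quasiSeparated f
  have hLinv := H78AmpleFamily.isInvertible_of_isRelAmple f hL
  have hKinv := hK.1
  have hQinv : PicF.IsInvertible ((Scheme.Modules.pullback f).obj K) := isInvertible_pullback f hKinv
  -- atlases
  obtain ⟨W, hyW, -, ⟨AK⟩⟩ := exists_atlas hKinv
  have hW := iSup_eq_top_of_mem hyW
  obtain ⟨V₀, hxV₀, -, ⟨AL₀⟩⟩ := exists_atlas hLinv
  obtain ⟨V, hVdef⟩ : ∃ V : X → X.Opens, ∀ x, V x = V₀ x ⊓ f ⁻¹ᵁ W (f x) := ⟨_, fun x => rfl⟩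
  have hV1 : ∀ x, V x ≤ V₀ x := fun x => by rw [hVdef]; exact inf_le_left
  have hV2 : ∀ x, V x ≤ f ⁻¹ᵁ W (f x) := fun x => by rw [hVdef]; exact inf_le_right
  have hxV : ∀ x, x ∈ V x := fun x => by rw [hVdef]; exact ⟨hxV₀ x, hyW (f x)⟩
  have hV := iSup_eq_top_of_mem hxV
  obtain ⟨AL, hAL⟩ : ∃ AL : Atlas L V, AL = AL₀.refine id V hV1 := ⟨_, rfl⟩
  obtain ⟨AQ, hAQ⟩ : ∃ AQ : Atlas ((Scheme.Modules.pullback f).obj K) V, AQ = pullRefine f AK V hV2 := ⟨_, rfl⟩
  -- base point free sections on `Y`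
  obtain ⟨N₀, hN₀⟩ := H78GlobGen2.isGloballyGenerated_twist hK (Coh.structureModule Y)
    (isCoh_of_isInvertible (isInvertible_structureModule Y))
  -- local data at each point
  have hdata : ∀ x₀ : X, ∃ (q a k : ℕ)
      (ζ : Γ(CohB1.tensorMod (CohB1.tensorMod (CohB1.tensorPow L (a + 1))
        (CohB1.tensorPow (CohB1.tensorPow ((Scheme.Modules.pullback f).obj K) (q + 1)) k))
        (CohB1.tensorPow ((Scheme.Modules.pullback f).obj K) (q + 1)), ⊤)),
      x₀ ∈ CohB1.genLocus _ (ofSection ζ) ∧ IsAffineOpen (CohB1.genLocus _ (ofSection ζ)) := by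
    intro x₀
    obtain ⟨q, t, hy, haff⟩ := hK.2.2 (f x₀)
    obtain ⟨σ, hσ⟩ := exists_pull_sec f hKinv (q + 1) t
    obtain ⟨a, k, ζ, h1, h2, -⟩ := H78LocalAmple.exists_global_sec hLinv
      (isInvertible_tensorPow hQinv (q + 1)) σ _ hσ (hL.2 ⟨_, haff⟩) x₀ hy
    exact ⟨q, a, k, ζ, h1, h2⟩
  choose q a k ζ hxζ haffζ using hdata
  obtain ⟨S, hS⟩ := isCompact_univ.elim_finite_subcover
    (fun x₀ => (CohB1.genLocus _ (ofSection (ζ x₀)) : Set X)) (fun x₀ => (CohB1.genLocus _ _).2)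
    (fun x _ => Set.mem_iUnion.2 ⟨x, hxζ x⟩)
  refine ⟨N₀ + S.sup (fun x₀ => (q x₀ + 1) * (k x₀ + 1)) + 1, Nat.succ_pos _, fun n hn => ?_⟩
  have hTinv : PicF.IsInvertible (CohB1.tensorMod L ((Scheme.Modules.pullback f).obj (CohB1.tensorPow K n))) :=
    isInvertible_tensorMod hLinv (isInvertible_pullback f (isInvertible_tensorPow hKinv n))
  refine ⟨hTinv, inferInstance, fun x => ?_⟩
  obtain ⟨x₀, hx₀S, hxx₀⟩ := Set.mem_iUnion₂.1 (hS (Set.mem_univ x))
  have hle : (q x₀ + 1) * (k x₀ + 1) ≤ S.sup (fun x₀ => (q x₀ + 1) * (k x₀ + 1)) :=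
    Finset.le_sup (f := fun x₀ => (q x₀ + 1) * (k x₀ + 1)) hx₀S
  obtain ⟨N, hN, hrel⟩ : ∃ N, N₀ ≤ N ∧ (q x₀ + 1) * (k x₀ + 1) + N = n * (a x₀ + 1) := by
    have h1 : n ≤ n * (a x₀ + 1) := Nat.le_mul_of_pos_right _ (Nat.succ_pos _)
    generalize (q x₀ + 1) * (k x₀ + 1) = p at hle ⊢
    generalize n * (a x₀ + 1) = m at h1 ⊢
    generalize S.sup (fun x₀ => (q x₀ + 1) * (k x₀ + 1)) = s at hle hn
    exact ⟨m - p, by omega, by omega⟩
  -- a section of `O ⊗ K^N` not vanishing at `f x`, pulled back to `X`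
  have hGinv : PicF.IsInvertible (CohB1.tensorMod (Coh.structureModule Y) (CohB1.tensorPow K N)) :=
    isInvertible_tensorMod (isInvertible_structureModule Y) (isInvertible_tensorPow hKinv N)
  obtain ⟨β, hβ⟩ := H78GlobGen.exists_sec_mem_genLocus hGinv (hN₀ N hN) (f x)
  obtain ⟨AG, hAG⟩ : ∃ AG : Atlas (CohB1.tensorMod (Coh.structureModule Y) (CohB1.tensorPow K N)) W,
      ∀ i j, AG.trans i j = AK.trans i j ^ N := by
    refine ⟨(AK.pow 0).tmul (AK.pow N), fun i j => ?_⟩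
    refine (Atlas.tmul_trans (AK.pow 0) (AK.pow N) i j).trans ?_
    rw [Atlas.pow_trans, Atlas.pow_trans, pow_zero, one_mul]
  obtain ⟨β', -, hβ'⟩ := exists_sec_of_trans f AG (pullAtlas f AG) hW (pullAtlas_trans f AG) β
  have hxβ' : x ∈ CohB1.genLocus _ (ofSection β') := by rw [hβ']; exact hβ
  have hBG : ∀ i j, (pullRefine f AG V hV2).trans i j = AQ.trans i j ^ N := by
    intro i j; rw [hAQ]; exact pullRefine_trans_pow f AK AG V hV2 N hAG i j
  have hBn : ∀ i j, (pullRefine f (AK.pow n) V hV2).trans i j = AQ.trans i j ^ n := by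
    intro i j; rw [hAQ]
    exact pullRefine_trans_pow f AK (AK.pow n) V hV2 n (fun i j => Atlas.pow_trans AK n i j) i j
  obtain ⟨τ, -, hτ⟩ := exists_sec_mul hV
    (((AL.pow (a x₀ + 1)).tmul ((AQ.pow (q x₀ + 1)).pow (k x₀))).tmul (AQ.pow (q x₀ + 1)))
    (pullRefine f AG V hV2) ((AL.tmul (pullRefine f (AK.pow n) V hV2)).pow (a x₀ + 1)) 1 1 (by
      intro i j
      rw [Atlas.pow_trans, Atlas.tmul_trans, hBn, hBG, Atlas.tmul_trans, Atlas.tmul_trans, Atlas.pow_trans,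
        Atlas.pow_trans, Atlas.pow_trans, pow_one, pow_one, mul_pow, ← pow_mul, ← pow_mul, ← hrel,
        mul_assoc, mul_assoc, ← pow_add, ← pow_add]
      congr 2
      ring) (ζ x₀) β'
  refine ⟨a x₀, ofSection τ, ?_, ?_⟩
  · rw [hτ one_pos one_pos]; exact ⟨hxx₀, hxβ'⟩
  · rw [hτ one_pos one_pos, inf_comm]
    exact isAffineOpen_genLocus_inf (isInvertible_pullback f hGinv) _ (haffζ x₀)

end Groth.Agent.Lib.H78RelAmpleComp
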