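/-
# Very ampleness criteria over an arbitrary base (helper3, keystone VeryAmple)

* `isAffineOpen_inf`: `D_+(T_j) ×_ℤ V ⊆ P^n_S` affine for `V ⊆ S` affine;
* `isImmersion_of_closure`: immersion criterion, each affine `X_{s_j}` mapping into an affine open `VS j` of `S`;
* `isRelVeryAmplePn_of_closure`: finite family version.
-/
import Groth.Agent.Lib.VeryAmpleH3
import Groth.Agent.Lib.H78PullAmple

set_option autoImplicit false
set_option linter.style.haveILetI false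
universe u
open CategoryTheory CategoryTheory.Limits AlgebraicGeometry TopologicalSpace Opposite Twist MvPolynomial
  HomogeneousLocalization
open AlgebraicGeometry.Scheme.Modules
open Groth.Agent.Lib.H90Invertible Groth.Agent.Lib.H4Twist Groth.Agent.Lib
open Groth.Agent.Lib.PullSecH3 Groth.Agent.Lib.ProjSpaceCoordH3 Groth.Agent.Lib.QCohStalk
open Groth.Agent.Lib.ProjSpacePullH3 Groth.Agent.Lib.ProjSpaceUniqH3
open Groth.Agent.Lib.H78TensorGen Groth.Agent.Lib.H78SecCoord Groth.Agent.Lib.H78Atlas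
open Groth.Agent.Lib.GenCoverH3 Groth.Agent.Lib.AwayLiftH3 Groth.Agent.Lib.ProjChartH3
open Groth.Agent.Lib.ModIsoGlueH3 Groth.Agent.Lib.ProjSpaceExistH3 Groth.Agent.Lib.VeryAmpleH3

namespace Groth.Agent.Lib.VeryAmpleBaseH3

section Criterion

variable {X S : Scheme.{u}} (q : X ⟶ S) (n : ℕ) {L : X.Modules} (s : Fin (n + 1) → Γ(L, ⊤))
  (r : X ⟶ Proj (CohB1.polyGrading n ZZ.{u})) (i : X ⟶ CohB1.ProjSpaceOver n S)
  (hr : ∀ k, (U s k).ι ≫ r = chart (CohB1.polyGrading n ZZ.{u}) (X_mem n ZZ.{u} k) Nat.one_pos (U s k)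
        (awayLift (CohB1.polyGrading n ZZ.{u}) (MvPolynomial.X k) (Φ n ZZ.{u} (qZ X) s k)
          (isUnit_Φ n ZZ.{u} (qZ X) s k)))
  (hpre : ∀ k, r ⁻¹ᵁ D n ZZ.{u} k = U s k)
  (hfst : i ≫ fstP n S = r) (hsnd : i ≫ sndP n S = q)

/-- `D_+(T_j) ×_ℤ V` is an affine open of `P^n_S` for `V ⊆ S` affine -/
theorem isAffineOpen_inf (j : Fin (n + 1)) {V : S.Opens} (hV : IsAffineOpen V) :
    IsAffineOpen (fstP n S ⁻¹ᵁ D n ZZ.{u} j ⊓ sndP n S ⁻¹ᵁ V) :=
  Groth.Agent.Lib.H78PullAmple.isAffineOpen_pullback_inf (isAffineOpen_D n ZZ.{u} j) hV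
    (isAffineOpen_top (Spec (CommRingCat.of ZZ.{u}))) le_top le_top

include hr hpre hfst hsnd in
/-- **immersion criterion over an arbitrary base**: if a subfamily of the `X_{s_j}` consists of affine opens covering
`X`, each mapping into an affine open `VS j` of `S`, whose coordinate rings are generated by the ratios `s_k / s_j` and
the functions coming from `VS j`, then the morphism `X ⟶ P^n_S` attached to the `s_k` is an immersion. -/
theorem isImmersion_of_closure (J : Set (Fin (n + 1))) (hJ : ∀ x : X, ∃ j ∈ J, x ∈ U s j)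
    (haff : ∀ j ∈ J, IsAffineOpen (U s j)) (VS : Fin (n + 1) → S.Opens)
    (hVS : ∀ j ∈ J, IsAffineOpen (VS j)) (hle : ∀ j, U s j ≤ q ⁻¹ᵁ VS j)
    (hgen : ∀ j ∈ J, Subring.closure
      (Set.range (ratio s j) ∪ Set.range (q.appLE (VS j) (U s j) (hle j)).hom) = ⊤) :
    IsImmersion i := by
  set fst := fstP n S with hfstdef
  set snd := sndP n S with hsnddef
  refine isImmersion_of_cover i (fun j : J => fst ⁻¹ᵁ D n ZZ.{u} j.1 ⊓ snd ⁻¹ᵁ VS j.1) (fun x => ?_)
    (fun j => ?_)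
  · obtain ⟨j, hj, hx⟩ := hJ x
    refine ⟨⟨j, hj⟩, ?_, ?_⟩
    · rw [← hpre j, ← hfst] at hx
      exact hx
    · have := hle j hx
      rw [← hsnd] at this
      exact this
  · have hV : IsAffineOpen (fst ⁻¹ᵁ D n ZZ.{u} j.1 ⊓ snd ⁻¹ᵁ VS j.1) :=
      isAffineOpen_inf n j.1 (hVS j.1 j.2)
    have heq : U s j.1 = i ⁻¹ᵁ (fst ⁻¹ᵁ D n ZZ.{u} j.1 ⊓ snd ⁻¹ᵁ VS j.1) := by
      apply le_antisymm
      · intro x hx
        refine ⟨?_, ?_⟩
        · rw [← hpre j.1, ← hfst] at hx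
          exact hx
        · have := hle j.1 hx
          rw [← hsnd] at this
          exact this
      · intro x hx
        have := hx.1
        rw [← hpre j.1, ← hfst]
        exact this
    have hU : IsAffineOpen (i ⁻¹ᵁ (fst ⁻¹ᵁ D n ZZ.{u} j.1 ⊓ snd ⁻¹ᵁ VS j.1)) := heq ▸ haff j.1 j.2
    have : IsClosedImmersion (i ∣_ (fst ⁻¹ᵁ D n ZZ.{u} j.1 ⊓ snd ⁻¹ᵁ VS j.1)) := by
      refine isClosedImmersion_restrict_of_surjective i _ hV hU ?_
      refine surjective_app_of_appLE i _ (U s j.1) heq ?_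
      have hrange : Subring.closure
          (Set.range (ratio s j.1) ∪ Set.range (q.appLE (VS j.1) (U s j.1) (hle j.1)).hom) ≤
          (i.appLE (fst ⁻¹ᵁ D n ZZ.{u} j.1 ⊓ snd ⁻¹ᵁ VS j.1) (U s j.1) heq.le).hom.range := by
        rw [Subring.closure_le]
        rintro y (⟨k, rfl⟩ | ⟨c, rfl⟩)
        · have hO : fst ⁻¹ᵁ D n ZZ.{u} j.1 ⊓ snd ⁻¹ᵁ VS j.1 ≤ fst ⁻¹ᵁ D n ZZ.{u} j.1 := inf_le_left
          refine ⟨(fst.appLE (D n ZZ.{u} j.1) (fst ⁻¹ᵁ D n ZZ.{u} j.1 ⊓ snd ⁻¹ᵁ VS j.1) hO).hom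
            (τ n ZZ.{u} k j.1), ?_⟩
          have h1 := ProjSpaceExistH3.appLE_τ n ZZ.{u} (qZ X) s r hr j.1 k
          rw [← h1]
          have h2 : fst.appLE (D n ZZ.{u} j.1) (fst ⁻¹ᵁ D n ZZ.{u} j.1 ⊓ snd ⁻¹ᵁ VS j.1) hO ≫
              i.appLE (fst ⁻¹ᵁ D n ZZ.{u} j.1 ⊓ snd ⁻¹ᵁ VS j.1) (U s j.1) heq.le =
              (i ≫ fst).appLE (D n ZZ.{u} j.1) (U s j.1)
                (heq.le.trans ((Opens.map i.base).map (homOfLE hO)).le) := by
            rw [Scheme.Hom.appLE_comp_appLE]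
          have h3 : (i ≫ fst).appLE (D n ZZ.{u} j.1) (U s j.1)
              (heq.le.trans ((Opens.map i.base).map (homOfLE hO)).le) =
              r.appLE (D n ZZ.{u} j.1) (U s j.1) (ProjSpaceExistH3.le_preimage n ZZ.{u} (qZ X) s r hr j.1) := by
            subst hfst
            rfl
          rw [← h3, ← h2]
          rfl
        · have hO : fst ⁻¹ᵁ D n ZZ.{u} j.1 ⊓ snd ⁻¹ᵁ VS j.1 ≤ snd ⁻¹ᵁ VS j.1 := inf_le_right
          refine ⟨(snd.appLE (VS j.1) (fst ⁻¹ᵁ D n ZZ.{u} j.1 ⊓ snd ⁻¹ᵁ VS j.1) hO).hom c, ?_⟩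
          have h2 : snd.appLE (VS j.1) (fst ⁻¹ᵁ D n ZZ.{u} j.1 ⊓ snd ⁻¹ᵁ VS j.1) hO ≫
              i.appLE (fst ⁻¹ᵁ D n ZZ.{u} j.1 ⊓ snd ⁻¹ᵁ VS j.1) (U s j.1) heq.le =
              (i ≫ snd).appLE (VS j.1) (U s j.1)
                (heq.le.trans ((Opens.map i.base).map (homOfLE hO)).le) := by
            rw [Scheme.Hom.appLE_comp_appLE]
          have h3 : (i ≫ snd).appLE (VS j.1) (U s j.1)
              (heq.le.trans ((Opens.map i.base).map (homOfLE hO)).le) =
              q.appLE (VS j.1) (U s j.1) (hle j.1) := by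
            subst hsnd
            rfl
          rw [← h3, ← h2]
          rfl
      rw [hgen j.1 j.2, top_le_iff, RingHom.range_eq_top] at hrange
      exact hrange
    infer_instance

end Criterion

section Finite

variable {X S : Scheme.{u}}

/-- **very ampleness criterion, finite families, arbitrary base**: `M` invertible on `X`, a finite family of global
sections `sK k` and a subset `T` of indices such that the `X_{sK k}`, `k ∈ T`, are affine, cover `X`, each maps into an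
affine open `VS k` of `S`, and have coordinate rings generated by the ratios `sK k' / sK k` and the functions from
`VS k`. Then `M` is very ample relative to `q`. -/
theorem isRelVeryAmplePn_of_closure (q : X ⟶ S) {M : X.Modules} (hM : PicF.IsInvertible M)
    {K : Type*} [Finite K] (sK : K → Γ(M, ⊤)) (T : Set K)
    (hcov : ∀ x : X, ∃ k ∈ T, x ∈ U sK k) (haff : ∀ k ∈ T, IsAffineOpen (U sK k))
    (VS : K → S.Opens) (hVS : ∀ k ∈ T, IsAffineOpen (VS k)) (hle : ∀ k, U sK k ≤ q ⁻¹ᵁ VS k)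
    (hgen : ∀ k ∈ T, Subring.closure
      (Set.range (ratio sK k) ∪ Set.range (q.appLE (VS k) (U sK k) (hle k)).hom) = ⊤) :
    RelAmple.IsRelVeryAmplePn q M := by
  classical
  cases nonempty_fintype K
  let I := Option K
  let sc : I → Γ(M, ⊤) := fun o => o.elim 0 sK
  let VI : I → S.Opens := fun o => o.elim ⊤ VS
  have hleI : ∀ o : I, U sc o ≤ q ⁻¹ᵁ VI o := by
    rintro (_ | k)
    · exact le_top
    · exact hle k
  have hcard : 0 < Fintype.card I := Fintype.card_pos_iff.2 ⟨none⟩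
  obtain ⟨n, hn⟩ : ∃ n, Fintype.card I = n + 1 := ⟨Fintype.card I - 1, by omega⟩
  let e : Fin (n + 1) ≃ I := (Fintype.equivFinOfCardEq hn).symm
  let s : Fin (n + 1) → Γ(M, ⊤) := fun j => sc (e j)
  have hs : ProjUP.GeneratedBy M s := by
    apply Groth.Agent.Lib.H4Twist.generatedBy_of_isGen
    intro x
    obtain ⟨k, -, hx⟩ := hcov x
    refine ⟨e.symm (some k), U sK k, hx, ?_⟩
    have h1 : s (e.symm (some k)) = sK k := by
      change sc (e (e.symm _)) = _
      rw [e.apply_symm_apply]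
      rfl
    rw [h1]
    exact isGen_U sK k
  obtain ⟨r, i, hr, hpre, hfst, hsnd, hiso⟩ := exists_lift q n s hM hs
  refine ⟨n, i, ?_, hsnd, hiso⟩
  have key : ∀ (o : I) (k : K), o = some k → k ∈ T →
      IsAffineOpen (U sc o) ∧ IsAffineOpen (VI o) ∧ Subring.closure
        (Set.range (ratio sc o) ∪ Set.range (q.appLE (VI o) (U sc o) (hleI o)).hom) = ⊤ := by
    rintro _ k rfl hk
    refine ⟨haff k hk, hVS k hk, ?_⟩
    refine eq_top_iff.2 (le_trans (hgen k hk).ge ?_)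
    apply Subring.closure_mono
    rintro y (⟨k', rfl⟩ | ⟨c, rfl⟩)
    · exact Or.inl ⟨some k', rfl⟩
    · exact Or.inr ⟨c, rfl⟩
  refine isImmersion_of_closure q n s r i hr hpre hfst hsnd
    {j | ∃ k ∈ T, e j = some k} ?_ ?_ (fun j => VI (e j)) ?_ (fun j => hleI (e j)) ?_
  · intro x
    obtain ⟨k, hk, hx⟩ := hcov x
    refine ⟨e.symm (some k), ⟨k, hk, e.apply_symm_apply _⟩, ?_⟩
    change x ∈ U sc (e (e.symm _))
    rw [e.apply_symm_apply]
    exact hx
  · rintro j ⟨k, hk, hj⟩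
    exact (key (e j) k hj hk).1
  · rintro j ⟨k, hk, hj⟩
    exact (key (e j) k hj hk).2.1
  · rintro j ⟨k, hk, hj⟩
    have h2 := (key (e j) k hj hk).2.2
    refine eq_top_iff.2 (le_trans h2.ge ?_)
    apply Subring.closure_mono
    rintro y (⟨o, rfl⟩ | ⟨c, rfl⟩)
    · exact Or.inl ⟨e.symm o, by
        change ratio sc (e j) (e (e.symm o)) = _
        rw [e.apply_symm_apply]⟩
    · exact Or.inr ⟨c, rfl⟩

end Finite

end Groth.Agent.Lib.VeryAmpleBaseH3
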