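/-
# Ample ⇒ high tensor powers very ample, arbitrary base (helper3, keystone VeryAmple; Stacks 01VU / EGA II 4.6.11)

General-base versions of `VeryAmplePowH3`: `exists_finset_closure`, `exists_isRelVeryAmplePn_of_atlas`,
`exists_common_power`, and
`exists_forall_isRelVeryAmplePn_tensorPow q hL : ∃ n₀, ∀ n ≥ n₀, IsRelVeryAmplePn q (L^n)` for `L` ample on `X` and
ANY `q : X ⟶ S` locally of finite type.
-/
import Groth.Agent.Lib.VeryAmpleBaseH3
import Groth.Agent.Lib.VeryAmplePowH3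

set_option autoImplicit false
set_option linter.style.haveILetI false
universe u
open CategoryTheory CategoryTheory.Limits AlgebraicGeometry TopologicalSpace Opposite Twist
open AlgebraicGeometry.Scheme.Modules
open Groth.Agent.Lib.H90Invertible Groth.Agent.Lib.H4Twist Groth.Agent.Lib
open Groth.Agent.Lib.H78TensorGen Groth.Agent.Lib.H78SecCoord Groth.Agent.Lib.H78Atlas
open Groth.Agent.Lib.H78AtlasOps Groth.Agent.Lib.H78KeyLemma Groth.Agent.Lib.H78KeyLemma2
open Groth.Agent.Lib.GenCoverH3 Groth.Agent.Lib.VeryAmpleH3 Groth.Agent.Lib.StructureModule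
open Groth.Agent.Lib.VeryAmplePowH3

namespace Groth.Agent.Lib.VeryAmpleBase2H3

variable {X S : Scheme.{u}} (q : X ⟶ S) [LocallyOfFiniteType q]

/-- finitely many generators of the coordinate ring of an affine open over an affine open of the base -/
theorem exists_finset_closure (W : X.Opens) (hW : IsAffineOpen W) (VS : S.Opens) (hVS : IsAffineOpen VS)
    (hle : W ≤ q ⁻¹ᵁ VS) :
    ∃ G : Finset Γ(X, W),
      Subring.closure (Set.range (q.appLE VS W hle).hom ∪ (G : Set Γ(X, W))) = ⊤ := by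
  have hft : RingHom.FiniteType (q.appLE VS W hle).hom :=
    HasRingHomProperty.appLE (P := @LocallyOfFiniteType) q inferInstance ⟨VS, hVS⟩ ⟨W, hW⟩ hle
  letI := (q.appLE VS W hle).hom.toAlgebra
  obtain ⟨G, hG⟩ := (hft : Algebra.FiniteType Γ(S, VS) Γ(X, W)).out
  refine ⟨G, ?_⟩
  have := Algebra.adjoin_eq_ring_closure (R := Γ(S, VS)) (G : Set Γ(X, W))
  rw [hG] at this
  exact this.symm.trans Algebra.top_toSubring

/-- **high powers are very ample** (coordinate form, arbitrary base). -/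
theorem exists_isRelVeryAmplePn_of_atlas [QuasiSeparatedSpace X] {P : X.Modules} {ι : Type*} [Finite ι]
    {V : ι → X.Opens} (hV : ⨆ i, V i = ⊤) (hVaff : ∀ i, IsAffineOpen (V i)) (B : Atlas P V)
    {T : Type*} [Finite T] (σ : T → Γ(P, ⊤))
    (haff : ∀ x, IsAffineOpen (CohB1.genLocus P (ofSection (σ x))))
    (hcov : ∀ y : X, ∃ x, y ∈ CohB1.genLocus P (ofSection (σ x)))
    (VS : T → S.Opens) (hVS : ∀ x, IsAffineOpen (VS x))
    (hσle : ∀ x, CohB1.genLocus P (ofSection (σ x)) ≤ q ⁻¹ᵁ VS x) :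
    ∃ N₀ : ℕ, ∀ N, N₀ ≤ N → ∀ (Q : X.Modules) (_ : PicF.IsInvertible Q) (C : Atlas Q V),
      (∀ i j, C.trans i j = B.trans i j ^ N) → RelAmple.IsRelVeryAmplePn q Q := by
  classical
  cases nonempty_fintype T
  have hG : ∀ x : T, ∃ G : Finset Γ(X, CohB1.genLocus P (ofSection (σ x))),
      Subring.closure (Set.range (q.appLE (VS x) (CohB1.genLocus P (ofSection (σ x))) (hσle x)).hom ∪
        (G : Set Γ(X, CohB1.genLocus P (ofSection (σ x))))) = ⊤ :=
    fun x => exists_finset_closure q _ (haff x) (VS x) (hVS x) (hσle x)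
  choose G hG using hG
  have hD : ∀ x i, X.basicOpen (B.co (σ x) i) ≤ CohB1.genLocus P (ofSection (σ x)) := fun x i => by
    rw [← B.genLocus_inf]; exact inf_le_left
  have hext : ∀ p : (Σ x : T, {b // b ∈ G x}), ∃ N₀ : ℕ, ∀ N, N₀ ≤ N → ∃ c : ∀ i, Γ(X, V i),
      (∀ i, rf (X.basicOpen_le (B.co (σ p.1) i)) (c i) =
        rf (X.basicOpen_le (B.co (σ p.1) i)) (B.co (σ p.1) i) ^ N * rf (hD p.1 i) p.2.1) ∧
      (∀ i j, rf (inf_le_left : V i ⊓ V j ≤ V i) (c i) = rf inf_le_right (c j) * B.trans i j ^ N) :=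
    fun p => exists_coords hVaff B (σ p.1) (hD p.1) p.2.1
  choose n₀ hn₀ using hext
  refine ⟨1 + Finset.univ.sup n₀, fun N hN Q hQ C hC => ?_⟩
  have hNpos : 0 < N := by omega
  have hN' : ∀ p, n₀ p ≤ N := fun p => (Finset.le_sup (Finset.mem_univ p)).trans (by omega)
  have hz : ∀ x : T, ∃ z : Γ(Q, ⊤), (∀ i, C.co z i = B.co (σ x) i ^ N) ∧
      CohB1.genLocus Q (ofSection z) = CohB1.genLocus P (ofSection (σ x)) := by
    intro x
    obtain ⟨z, hz1, hz2⟩ := exists_sec_pow hV B C N hC (σ x)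
    exact ⟨z, hz1, hz2 hNpos⟩
  choose z hz1 hz2 using hz
  have hy : ∀ p : (Σ x : T, {b // b ∈ G x}), ∃ y : Γ(Q, ⊤),
      ∀ i, rf (X.basicOpen_le (B.co (σ p.1) i)) (C.co y i) =
        rf (X.basicOpen_le (B.co (σ p.1) i)) (B.co (σ p.1) i) ^ N * rf (hD p.1 i) p.2.1 := by
    intro p
    obtain ⟨c, hc1, hc2⟩ := hn₀ p N (hN' p)
    obtain ⟨y, hy⟩ := C.exists_sec hV c (by intro i j; rw [hC]; exact hc2 i j)
    exact ⟨y, fun i => by rw [hy i]; exact hc1 i⟩
  choose y hy using hy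
  let sK : T ⊕ (Σ x : T, {b // b ∈ G x}) → Γ(Q, ⊤) := Sum.elim z y
  let VK : T ⊕ (Σ x : T, {b // b ∈ G x}) → S.Opens := Sum.elim VS (fun _ => ⊤)
  have hleK : ∀ k, U sK k ≤ q ⁻¹ᵁ VK k := by
    rintro (x | p)
    · change CohB1.genLocus Q (ofSection (z x)) ≤ q ⁻¹ᵁ VS x
      rw [hz2]
      exact hσle x
    · exact le_top
  refine Groth.Agent.Lib.VeryAmpleBaseH3.isRelVeryAmplePn_of_closure q hQ sK (Set.range Sum.inl) ?_ ?_
    VK ?_ hleK ?_
  · intro pt
    obtain ⟨x, hx⟩ := hcov pt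
    refine ⟨Sum.inl x, ⟨x, rfl⟩, ?_⟩
    change pt ∈ CohB1.genLocus Q (ofSection (z x))
    rw [hz2]
    exact hx
  · rintro _ ⟨x, rfl⟩
    change IsAffineOpen (CohB1.genLocus Q (ofSection (z x)))
    rw [hz2]
    exact haff x
  · rintro _ ⟨x, rfl⟩
    exact hVS x
  · rintro _ ⟨x, rfl⟩
    have hle : U sK (Sum.inl x) ≤ CohB1.genLocus P (ofSection (σ x)) := (hz2 x).le
    have hge : CohB1.genLocus P (ofSection (σ x)) ≤ U sK (Sum.inl x) := (hz2 x).ge
    have hsub : Subring.closure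
        (Set.range (q.appLE (VS x) (CohB1.genLocus P (ofSection (σ x))) (hσle x)).hom ∪
        (G x : Set Γ(X, CohB1.genLocus P (ofSection (σ x))))) ≤
        (Subring.closure (Set.range (ratio sK (Sum.inl x)) ∪
          Set.range (q.appLE (VK (Sum.inl x)) (U sK (Sum.inl x)) (hleK (Sum.inl x))).hom)).comap
            (X.presheaf.map (homOfLE hle).op).hom := by
      rw [Subring.closure_le]
      rintro f (⟨c, rfl⟩ | hf)
      · refine Subring.subset_closure (Or.inr ⟨c, ?_⟩)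
        have := Scheme.Hom.appLE_map q (U := VS x) (V := CohB1.genLocus P (ofSection (σ x))) (hσle x)
          (homOfLE hle).op
        exact (congrArg (fun φ => φ.hom c) this).symm
      · refine Subring.subset_closure (Or.inl ⟨Sum.inr ⟨x, ⟨f, hf⟩⟩, ?_⟩)
        refine ratio_eq_of_co hV C sK _ _ _ (fun i => ?_)
        have hO : U sK (Sum.inl x) ⊓ V i ≤ X.basicOpen (B.co (σ x) i) := by
          rw [← B.genLocus_inf]
          exact inf_le_inf_right _ hle
        have h1 := congrArg (rf hO) (hy ⟨x, ⟨f, hf⟩⟩ i)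
        rw [rf_rf, rf_mul, rf_pow, rf_rf, rf_rf] at h1
        change rf _ (C.co (y ⟨x, ⟨f, hf⟩⟩) i) = rf _ (rf hle f) * rf _ (C.co (z x) i)
        rw [hz1, rf_pow, rf_rf, mul_comm]
        exact h1
    rw [eq_top_iff]
    intro f _
    have hf : rf hge f ∈ Subring.closure
        (Set.range (q.appLE (VS x) (CohB1.genLocus P (ofSection (σ x))) (hσle x)).hom ∪
          (G x : Set Γ(X, CohB1.genLocus P (ofSection (σ x))))) := by
      rw [hG x]; trivial
    have h2 := hsub hf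
    rw [Subring.mem_comap] at h2
    have e : (X.presheaf.map (homOfLE hle).op).hom (rf hge f) = f := by
      change rf hle (rf hge f) = f
      rw [rf_rf, rf_self]
    rwa [e] at h2

omit [LocallyOfFiniteType q] in
/-- **common power, relative to a base**: sections of a common power `L^d` with affine loci covering `X`, each mapping
into an affine open of `S`. -/
theorem exists_common_power [CompactSpace X] {L : X.Modules} (hL : CohB1.IsAmple L) {ι : Type*}
    {V : ι → X.Opens} (hV : ⨆ i, V i = ⊤) (A : Atlas L V) :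
    ∃ (d : ℕ) (_ : 0 < d) (T : Type u) (_ : Finite T) (σ : T → Γ(CohB1.tensorPow L d, ⊤))
      (VS : T → S.Opens),
      (∀ x, IsAffineOpen (CohB1.genLocus _ (ofSection (σ x)))) ∧
      (∀ y : X, ∃ x, y ∈ CohB1.genLocus _ (ofSection (σ x))) ∧
      (∀ x, IsAffineOpen (VS x)) ∧ (∀ x, CohB1.genLocus _ (ofSection (σ x)) ≤ q ⁻¹ᵁ VS x) := by
  classical
  have h0 : ∀ x : X, ∃ (W : S.Opens) (n : ℕ) (s : Coh.structureModule X ⟶ CohB1.tensorPow L (n + 1)),
      IsAffineOpen W ∧ x ∈ CohB1.genLocus _ s ∧ CohB1.genLocus _ s ≤ q ⁻¹ᵁ W ∧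
        IsAffineOpen (CohB1.genLocus _ s) := by
    intro x
    obtain ⟨W, hW, hxW, -⟩ := Opens.isBasis_iff_nbhd.1 S.isBasis_affineOpens
      (show q x ∈ (⊤ : S.Opens) from trivial)
    obtain ⟨n, s, hx, hsW, haff⟩ := Groth.Agent.Lib.H78SecAdd.exists_sec_nbhd_affine hL x (q ⁻¹ᵁ W) hxW
    exact ⟨W, n, s, hW, hx, hsW, haff⟩
  choose W n s hW hx hsW haff using h0
  obtain ⟨t, ht⟩ := isCompact_univ.elim_finite_subcover (fun y => (CohB1.genLocus _ (s y) : Set X))
    (fun y => (CohB1.genLocus _ (s y)).2) (fun x _ => Set.mem_iUnion.2 ⟨x, hx x⟩)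
  obtain ⟨d, hddef⟩ : ∃ d : ℕ, d = ∏ y ∈ t, (n y + 1) := ⟨_, rfl⟩
  have hd : 0 < d := by rw [hddef]; exact Finset.prod_pos (fun y _ => Nat.succ_pos _)
  have hτ : ∀ y : t, ∃ τ : Γ(CohB1.tensorPow L d, ⊤),
      CohB1.genLocus _ (ofSection τ) = CohB1.genLocus _ (s y.1) := by
    intro y
    obtain ⟨k, hkdef⟩ : ∃ k : ℕ, k = ∏ y' ∈ t.erase y.1, (n y' + 1) := ⟨_, rfl⟩
    have hk : 0 < k := by rw [hkdef]; exact Finset.prod_pos (fun _ _ => Nat.succ_pos _)
    have hdk : (n y.1 + 1) * k = d := by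
      rw [hkdef, hddef]
      exact Finset.mul_prod_erase t (fun y => n y + 1) y.2
    obtain ⟨τ, -, hτ⟩ := exists_sec_pow hV (A.pow (n y.1 + 1)) (A.pow d) k (by
      intro i j
      rw [Atlas.pow_trans, Atlas.pow_trans, ← pow_mul, hdk]) (sec (s y.1))
    exact ⟨τ, by rw [hτ hk, ofSection_sec]⟩
  choose τ hτ using hτ
  refine ⟨d, hd, t, inferInstance, τ, fun y => W y.1, fun y => by rw [hτ]; exact haff y.1, fun p => ?_,
    fun y => hW y.1, fun y => by rw [hτ]; exact hsW y.1⟩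
  obtain ⟨y, hy, hp⟩ := Set.mem_iUnion₂.1 (ht (Set.mem_univ p))
  exact ⟨⟨y, hy⟩, by rw [hτ]; exact hp⟩

/-- **ample ⇒ all high tensor powers are very ample**, relative to any `q : X ⟶ S` locally of finite type (EGA II 4.6.11 /
Stacks 01VU, `P^n_S` form). -/
theorem exists_forall_isRelVeryAmplePn_tensorPow {L : X.Modules} (hL : CohB1.IsAmple L) :
    ∃ n₀ : ℕ, ∀ n, n₀ ≤ n → RelAmple.IsRelVeryAmplePn q (CohB1.tensorPow L n) := by
  haveI : CompactSpace X := hL.2.1
  haveI := Groth.Agent.Lib.H78AmpleBasis.quasiSeparatedSpace_of_isAmple hL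
  obtain ⟨ι, _, V, hV, hVaff, ⟨A⟩⟩ := exists_finite_atlas hL.1
  obtain ⟨d, hd, T, _, σ, VS, haff, hcov, hVS, hσle⟩ := exists_common_power q hL hV A
  obtain ⟨N₀, hN₀⟩ := exists_isRelVeryAmplePn_of_atlas q hV hVaff (A.pow d) σ haff hcov VS hVS hσle
  obtain ⟨n₁, hn₁⟩ := exists_generatedBy_twist hL
  have hva : RelAmple.IsRelVeryAmplePn q (CohB1.tensorPow L (d * N₀)) :=
    hN₀ N₀ le_rfl _ (isInvertible_tensorPow hL.1 _) (A.pow (d * N₀)) (by
      intro i j
      rw [Atlas.pow_trans, Atlas.pow_trans, pow_mul])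
  refine ⟨d * N₀ + n₁, fun n hn => ?_⟩
  obtain ⟨k, rfl⟩ := Nat.exists_eq_add_of_le hn
  obtain ⟨m, s, hs⟩ := hn₁ (n₁ + k) (Nat.le_add_right _ _)
  have h1 := Groth.Agent.Lib.VeryAmpleTensorH3.isRelVeryAmplePn_tensor q hva
    (isInvertible_tensorMod (isInvertible_structureModule X) (isInvertible_tensorPow hL.1 _)) s hs
  refine Groth.Agent.Lib.VeryAmpleCritH3.isRelVeryAmplePn_of_iso q ?_ h1
  exact Groth.Agent.Lib.OXModTensor.tensorModIso (Iso.refl _) (Groth.Agent.Lib.OXModTensor.leftUnitor _) ≪≫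
    (Groth.Agent.Lib.OXModTensor.tensorPowAdd L (d * N₀) (n₁ + k)).symm ≪≫ eqToIso (by rw [add_assoc])

end Groth.Agent.Lib.VeryAmpleBase2H3
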