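import Groth.Agent.Lib.H78Restrict

set_option autoImplicit false
universe u
open CategoryTheory CategoryTheory.Limits AlgebraicGeometry MonoidalCategory Opposite TopologicalSpace
open Groth.Agent.Lib.H90Invertible Groth.Agent.Lib.StructureModule Groth.Agent.Lib.H78TensorGen
open Groth.Agent.Lib.H78SecCoord Groth.Agent.Lib.H78Atlas Groth.Agent.Lib.H78AtlasOps

/-! Operations on ample modules (no separatedness hypotheses), absolute and relative. -/

namespace Groth.Agent.Lib.H78AmpleOps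

variable {X : Scheme.{u}}

/-- `L` is ample iff `L^n` is, `n > 0` -/
theorem isAmple_tensorPow_iff [CompactSpace X] {L : X.Modules} (hL : PicF.IsInvertible L) {n : ℕ} (hn : 0 < n) :
    CohB1.IsAmple L ↔ CohB1.IsAmple (CohB1.tensorPow L n) := by
  obtain ⟨V, hxV, -, ⟨A⟩⟩ := exists_atlas hL
  have hV := iSup_eq_top_of_mem hxV
  constructor
  · intro h
    refine ⟨isInvertible_tensorPow hL n, inferInstance, fun x => ?_⟩
    obtain ⟨m, s, hx, haff⟩ := h.2.2 x
    obtain ⟨t, ht⟩ := Groth.Agent.S2327.transfer hV (A.pow (m + 1)) ((A.pow n).pow (m + 1)) n hn (by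
      intro i j
      rw [Atlas.pow_trans, Atlas.pow_trans, Atlas.pow_trans, ← pow_mul, ← pow_mul, mul_comm]) s
    exact ⟨m, t, ht ▸ hx, ht ▸ haff⟩
  · intro h
    refine ⟨hL, inferInstance, fun x => ?_⟩
    obtain ⟨k, t, hx, haff⟩ := h.2.2 x
    obtain ⟨m, hm⟩ : ∃ m, m + 1 = n * (k + 1) := ⟨n * (k + 1) - 1, by
      have : 0 < n * (k + 1) := Nat.mul_pos hn (Nat.succ_pos k)
      omega⟩
    obtain ⟨s, hs⟩ := Groth.Agent.S2327.transfer hV ((A.pow n).pow (k + 1)) (A.pow (m + 1)) 1 one_pos (by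
      intro i j
      rw [Atlas.pow_trans, Atlas.pow_trans, Atlas.pow_trans, pow_one, ← pow_mul, hm]) t
    exact ⟨m, s, hs ▸ hx, hs ▸ haff⟩

/-- ample ⊗ (invertible with enough sections of powers) is ample -/
theorem isAmple_tensorMod_of_sections {L L' : X.Modules} (hL : CohB1.IsAmple L) (hL' : PicF.IsInvertible L')
    (h : ∀ x : X, ∃ (n : ℕ) (s' : Coh.structureModule X ⟶ CohB1.tensorPow L' (n + 1)), x ∈ CohB1.genLocus _ s') :
    CohB1.IsAmple (CohB1.tensorMod L L') := by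
  haveI := hL.2.1
  obtain ⟨V, hxV, -, ⟨A⟩, ⟨A'⟩⟩ := exists_atlas₂ hL.1 hL'
  have hV := iSup_eq_top_of_mem hxV
  refine ⟨isInvertible_tensorMod hL.1 hL', inferInstance, fun x => ?_⟩
  obtain ⟨m, s, hx, haff⟩ := hL.2.2 x
  obtain ⟨n, s', hx'⟩ := h x
  obtain ⟨k, hk⟩ : ∃ k, k + 1 = (m + 1) * (n + 1) := ⟨(m + 1) * (n + 1) - 1, by
    have : 0 < (m + 1) * (n + 1) := Nat.mul_pos (Nat.succ_pos m) (Nat.succ_pos n)
    omega⟩
  obtain ⟨τ, -, hτ⟩ := exists_sec_mul hV (A.pow (m + 1)) (A'.pow (n + 1)) ((A.tmul A').pow (k + 1))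
    (n + 1) (m + 1) (by
      intro i j
      rw [Atlas.pow_trans, Atlas.pow_trans, Atlas.pow_trans, Atlas.tmul_trans, ← pow_mul, ← pow_mul, hk,
        mul_pow, mul_comm (n + 1) (m + 1)]) (sec s) (sec s')
  have hτ' := hτ (Nat.succ_pos n) (Nat.succ_pos m)
  rw [ofSection_sec, ofSection_sec] at hτ'
  refine ⟨k, ofSection τ, ?_, ?_⟩
  · rw [hτ']
    exact ⟨hx, hx'⟩
  · rw [hτ', inf_comm]
    exact isAffineOpen_genLocus_inf (isInvertible_tensorPow hL' (n + 1)) s' haff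

/-- the tensor product of two ample modules is ample -/
theorem isAmple_tensorMod {L L' : X.Modules} (hL : CohB1.IsAmple L) (hL' : CohB1.IsAmple L') :
    CohB1.IsAmple (CohB1.tensorMod L L') :=
  isAmple_tensorMod_of_sections hL hL'.1 (fun x => by
    obtain ⟨n, s, hx, -⟩ := hL'.2.2 x
    exact ⟨n, s, hx⟩)

end Groth.Agent.Lib.H78AmpleOps
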