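/-
helper42: restriction of scalars of presheaves of modules along a sectionwise surjective morphism of presheaves of
commutative rings is strong monoidal (rsμIso); algebra: M ⊗[A] N ≃ M ⊗[B] N for surjective A → B (toB_bijective).
-/
import Mathlib.Algebra.Category.ModuleCat.Monoidal.Adjunction
import Mathlib.Algebra.Category.ModuleCat.Presheaf.Monoidal
import Mathlib.Algebra.Category.ModuleCat.Presheaf.PushforwardZeroMonoidal

universe u
open CategoryTheory MonoidalCategory Opposite TensorProduct

namespace Groth.Agent.Lib.OXModRestrict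

section PureAlgebra

variable {A B : Type*} [CommRing A] [CommRing B] (f : A →+* B)
variable {M N : Type*} [AddCommGroup M] [AddCommGroup N] [Module B M] [Module B N]
  [Module A M] [Module A N]

lemma addHom_ext' {R : Type*} [CommSemiring R] {M N P : Type*} [AddCommMonoid M] [AddCommMonoid N]
    [AddCommMonoid P] [Module R M] [Module R N] {g h : M ⊗[R] N →+ P}
    (H : ∀ m n, g (m ⊗ₜ n) = h (m ⊗ₜ n)) : g = h := by
  ext t
  induction t using TensorProduct.induction_on with
  | zero => rw [map_zero, map_zero]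
  | tmul m n => exact H m n
  | add x y hx hy => rw [map_add, map_add, hx, hy]

/-- `M ⊗[A] N →+ M ⊗[B] N` when the `A`-action is induced by `f : A → B` -/
noncomputable def toB (hM : ∀ (a : A) (m : M), a • m = f a • m) (hN : ∀ (a : A) (n : N), a • n = f a • n) :
    M ⊗[A] N →+ M ⊗[B] N :=
  TensorProduct.liftAddHom
    { toFun := fun m =>
        { toFun := fun n => m ⊗ₜ[B] n
          map_zero' := TensorProduct.tmul_zero _ _
          map_add' := fun x y => TensorProduct.tmul_add _ _ _ }
      map_zero' := by ext n; exact TensorProduct.zero_tmul _ _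
      map_add' := fun x y => by ext n; exact TensorProduct.add_tmul _ _ _ }
    (by
      intro a m n
      change (a • m) ⊗ₜ[B] n = m ⊗ₜ[B] (a • n)
      rw [hM, hN, TensorProduct.smul_tmul])

/-- `M ⊗[B] N →+ M ⊗[A] N` when the `A`-action is induced by a surjective `f : A → B` -/
noncomputable def toA (hf : Function.Surjective f) (hM : ∀ (a : A) (m : M), a • m = f a • m)
    (hN : ∀ (a : A) (n : N), a • n = f a • n) :
    M ⊗[B] N →+ M ⊗[A] N :=
  TensorProduct.liftAddHom
    { toFun := fun m =>
        { toFun := fun n => m ⊗ₜ[A] n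
          map_zero' := TensorProduct.tmul_zero _ _
          map_add' := fun x y => TensorProduct.tmul_add _ _ _ }
      map_zero' := by ext n; exact TensorProduct.zero_tmul _ _
      map_add' := fun x y => by ext n; exact TensorProduct.add_tmul _ _ _ }
    (by
      intro b m n
      obtain ⟨a, rfl⟩ := hf b
      change (f a • m) ⊗ₜ[A] n = m ⊗ₜ[A] (f a • n)
      rw [← hM, ← hN, TensorProduct.smul_tmul])

lemma toA_toB (hf : Function.Surjective f) (hM : ∀ (a : A) (m : M), a • m = f a • m)
    (hN : ∀ (a : A) (n : N), a • n = f a • n) (t : M ⊗[A] N) :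
    toA f hf hM hN (toB f hM hN t) = t := by
  have : (toA f hf hM hN).comp (toB f hM hN) = AddMonoidHom.id _ :=
    addHom_ext' fun m n => rfl
  exact DFunLike.congr_fun this t

lemma toB_toA (hf : Function.Surjective f) (hM : ∀ (a : A) (m : M), a • m = f a • m)
    (hN : ∀ (a : A) (n : N), a • n = f a • n) (t : M ⊗[B] N) :
    toB f hM hN (toA f hf hM hN t) = t := by
  have : (toB f hM hN).comp (toA f hf hM hN) = AddMonoidHom.id _ :=
    addHom_ext' fun m n => rfl
  exact DFunLike.congr_fun this t

lemma toB_bijective (hf : Function.Surjective f) (hM : ∀ (a : A) (m : M), a • m = f a • m)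
    (hN : ∀ (a : A) (n : N), a • n = f a • n) : Function.Bijective (toB f hM hN) :=
  Function.bijective_iff_has_inverse.mpr ⟨toA f hf hM hN, toA_toB f hf hM hN, toB_toA f hf hM hN⟩

end PureAlgebra

section Algebra

variable {A B : Type u} [CommRing A] [CommRing B] (f : A →+* B)

open Functor.LaxMonoidal ModuleCat

lemma μ_eq_toB (M₁ M₂ : ModuleCat.{u} B)
    (t : ((restrictScalars f).obj M₁ ⊗ (restrictScalars f).obj M₂ : ModuleCat A)) :
    (μ (restrictScalars f) M₁ M₂).hom t =
      toB (M := ↑((restrictScalars f).obj M₁)) (N := ↑((restrictScalars f).obj M₂)) f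
        (fun _ _ => rfl) (fun _ _ => rfl) t := by
  have : (μ (restrictScalars f) M₁ M₂).hom.toAddMonoidHom =
      toB (M := ↑((restrictScalars f).obj M₁)) (N := ↑((restrictScalars f).obj M₂)) f
        (fun _ _ => rfl) (fun _ _ => rfl) :=
    addHom_ext' fun m n => restrictScalars_μ_tmul f M₁ M₂ m n
  exact DFunLike.congr_fun this t

lemma isIso_μ (hf : Function.Surjective f) (M₁ M₂ : ModuleCat.{u} B) :
    IsIso (μ (restrictScalars f) M₁ M₂) := by
  rw [ConcreteCategory.isIso_iff_bijective]
  have hb := toB_bijective (M := ↑((restrictScalars f).obj M₁)) (N := ↑((restrictScalars f).obj M₂)) f hf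
        (fun _ _ => rfl) (fun _ _ => rfl)
  constructor
  · intro x y hxy
    apply hb.1
    have hx := μ_eq_toB f M₁ M₂ x
    have hy := μ_eq_toB f M₁ M₂ y
    exact hx.symm.trans (hxy.trans hy)
  · intro y
    obtain ⟨x, hx⟩ := hb.2 y
    exact ⟨x, (μ_eq_toB f M₁ M₂ x).trans hx⟩

end Algebra

section Presheaf

variable {C : Type*} [Category C] {S R' : Cᵒᵖ ⥤ CommRingCat.{u}} (ψ : S ⟶ R')

open Functor.LaxMonoidal

/-- restriction of scalars along a morphism of presheaves of commutative rings -/
noncomputable abbrev rs : PresheafOfModules.{u} (R' ⋙ forget₂ _ RingCat) ⥤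
    PresheafOfModules.{u} (S ⋙ forget₂ _ RingCat) :=
  PresheafOfModules.restrictScalars (Functor.whiskerRight ψ (forget₂ CommRingCat RingCat))

variable (P Q : PresheafOfModules.{u} (R' ⋙ forget₂ _ RingCat))

/-- the lax monoidal structure map of restriction of scalars, for presheaves of modules -/
noncomputable def rsμ : (rs ψ).obj P ⊗ (rs ψ).obj Q ⟶ (rs ψ).obj (P ⊗ Q) where
  app X := μ (ModuleCat.restrictScalars (ψ.app X).hom) (P.obj X) (Q.obj X)
  naturality {X Y} g := by
    refine ModuleCat.MonoidalCategory.tensor_ext (fun m n => ?_)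
    have h1 : ((rs ψ).obj P ⊗ (rs ψ).obj Q).map g (m ⊗ₜ n) =
        ((rs ψ).obj P).map g m ⊗ₜ ((rs ψ).obj Q).map g n :=
      PresheafOfModules.Monoidal.tensorObj_map_tmul g m n
    have h2 := ModuleCat.restrictScalars_μ_tmul (ψ.app Y).hom (P.obj Y) (Q.obj Y)
      (P.map g m) (Q.map g n)
    have h3 := ModuleCat.restrictScalars_μ_tmul (ψ.app X).hom (P.obj X) (Q.obj X) m n
    have h4 := PresheafOfModules.Monoidal.tensorObj_map_tmul (M₁ := P) (M₂ := Q) g m n
    exact (congrArg (μ (ModuleCat.restrictScalars (ψ.app Y).hom) (P.obj Y) (Q.obj Y)) h1).trans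
      (h2.trans (h4.symm.trans (congrArg ((P ⊗ Q).map g) h3.symm)))

/-- when `ψ` is sectionwise surjective, restriction of scalars is strong monoidal -/
noncomputable def rsμIso (hψ : ∀ X, Function.Surjective (ψ.app X).hom) :
    (rs ψ).obj P ⊗ (rs ψ).obj Q ≅ (rs ψ).obj (P ⊗ Q) :=
  PresheafOfModules.isoMk
    (fun X => @asIso _ _ _ _ (μ (ModuleCat.restrictScalars (ψ.app X).hom) (P.obj X) (Q.obj X))
      (isIso_μ (ψ.app X).hom (hψ X) (P.obj X) (Q.obj X)))
    (fun X Y g => (rsμ ψ P Q).naturality g)

@[simp] lemma rsμIso_hom (hψ : ∀ X, Function.Surjective (ψ.app X).hom) :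
    (rsμIso ψ P Q hψ).hom = rsμ ψ P Q := rfl

end Presheaf

end Groth.Agent.Lib.OXModRestrict
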