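/-
helper42: abstract "monoidal reflective localization": a : C ⥤ D left adjoint with fully faithful right adjoint fg,
C symmetric monoidal, morphisms inverted by a stable under tensoring. Then D gets tensor M N := a (fg M ⊗ fg N) with
unit, symmetry, associativity isomorphisms and tensor powers. Instantiated for O_X-modules in Lib/OXModTensor.
-/
import Mathlib.CategoryTheory.Monoidal.Braided.Basic
import Mathlib.CategoryTheory.Adjunction.FullyFaithful

universe v₁ v₂ u₁ u₂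
open CategoryTheory MonoidalCategory

namespace Groth.Agent.Lib.MonLoc

/-- A reflective localization `a : C ⥤ D` of a symmetric monoidal category `C` whose inverted
morphisms are stable under tensoring. -/
structure LocData (C : Type u₁) (D : Type u₂) [Category.{v₁} C] [Category.{v₂} D] [MonoidalCategory C]
    [SymmetricCategory C] where
  a : C ⥤ D
  fg : D ⥤ C
  adj : a ⊣ fg
  counit_iso : IsIso adj.counit
  whisker : ∀ {P P' : C} (f : P ⟶ P') (Q : C), IsIso (a.map f) → IsIso (a.map (f ▷ Q))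
  unit : D
  unitIso : fg.obj unit ≅ 𝟙_ C

namespace LocData

variable {C : Type u₁} {D : Type u₂} [Category.{v₁} C] [Category.{v₂} D] [MonoidalCategory C]
    [SymmetricCategory C] (L : LocData C D)

instance : IsIso L.adj.counit := L.counit_iso

/-- the tensor product on `D` -/
abbrev tens (M N : D) : D := L.a.obj (L.fg.obj M ⊗ L.fg.obj N)

/-- unit of the adjunction -/
def η (P : C) : P ⟶ L.fg.obj (L.a.obj P) := L.adj.unit.app P

instance isIso_map_η (P : C) : IsIso (L.a.map (L.η P)) := by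
  have h : L.a.map (L.η P) ≫ L.adj.counit.app (L.a.obj P) = 𝟙 _ :=
    L.adj.left_triangle_components P
  have : IsIso (L.a.map (L.η P) ≫ L.adj.counit.app (L.a.obj P)) := by rw [h]; infer_instance
  exact IsIso.of_isIso_comp_right _ (L.adj.counit.app (L.a.obj P))

/-- `a (fg M) ≅ M` -/
noncomputable def counitIso (M : D) : L.a.obj (L.fg.obj M) ≅ M := asIso (L.adj.counit.app M)

lemma isIso_whiskerRight {P P' : C} (f : P ⟶ P') (Q : C) [hf : IsIso (L.a.map f)] :
    IsIso (L.a.map (f ▷ Q)) := L.whisker f Q hf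

lemma isIso_whiskerLeft {P P' : C} (f : P ⟶ P') (Q : C) [hf : IsIso (L.a.map f)] :
    IsIso (L.a.map (Q ◁ f)) := by
  have h : Q ◁ f = (β_ Q P).hom ≫ f ▷ Q ≫ (β_ P' Q).hom := by
    rw [BraidedCategory.braiding_naturality_left, SymmetricCategory.symmetry_assoc]
  rw [h, Functor.map_comp, Functor.map_comp]
  have := L.isIso_whiskerRight f Q
  infer_instance

lemma isIso_tensorHom {P P' Q Q' : C} (f : P ⟶ P') (g : Q ⟶ Q')
    [IsIso (L.a.map f)] [IsIso (L.a.map g)] : IsIso (L.a.map (f ⊗ₘ g)) := by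
  rw [tensorHom_def, Functor.map_comp]
  have := L.isIso_whiskerRight f Q
  have := L.isIso_whiskerLeft g P'
  infer_instance

/-- functoriality of the tensor product -/
def tensMap {M M' N N' : D} (f : M ⟶ M') (g : N ⟶ N') : L.tens M N ⟶ L.tens M' N' :=
  L.a.map (L.fg.map f ⊗ₘ L.fg.map g)

@[simp] lemma tensMap_id (M N : D) : L.tensMap (𝟙 M) (𝟙 N) = 𝟙 _ := by
  simp [tensMap, tens]

@[reassoc] lemma tensMap_comp {M M' M'' N N' N'' : D} (f : M ⟶ M') (f' : M' ⟶ M'')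
    (g : N ⟶ N') (g' : N' ⟶ N'') :
    L.tensMap (f ≫ f') (g ≫ g') = L.tensMap f g ≫ L.tensMap f' g' := by
  rw [tensMap, tensMap, tensMap, ← Functor.map_comp, tensorHom_comp_tensorHom, ← Functor.map_comp,
    ← Functor.map_comp]

/-- tensor product of isomorphisms -/
@[simps] def tensIso {M M' N N' : D} (e : M ≅ M') (e' : N ≅ N') : L.tens M N ≅ L.tens M' N' where
  hom := L.tensMap e.hom e'.hom
  inv := L.tensMap e.inv e'.inv
  hom_inv_id := by rw [← tensMap_comp]; simp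
  inv_hom_id := by rw [← tensMap_comp]; simp

/-- `a (P ⊗ Q) ≅ a P ⊗ a Q` -/
noncomputable def aTensIso (P Q : C) : L.a.obj (P ⊗ Q) ≅ L.tens (L.a.obj P) (L.a.obj Q) :=
  haveI := L.isIso_tensorHom (L.η P) (L.η Q)
  asIso (L.a.map (L.η P ⊗ₘ L.η Q))

/-- symmetry -/
def braiding (M N : D) : L.tens M N ≅ L.tens N M := L.a.mapIso (β_ (L.fg.obj M) (L.fg.obj N))

/-- left unit -/
noncomputable def leftUnitor (M : D) : L.tens L.unit M ≅ M :=
  L.a.mapIso (whiskerRightIso L.unitIso (L.fg.obj M) ≪≫ λ_ (L.fg.obj M)) ≪≫ L.counitIso M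

/-- right unit -/
noncomputable def rightUnitor (M : D) : L.tens M L.unit ≅ M :=
  L.a.mapIso (whiskerLeftIso (L.fg.obj M) L.unitIso ≪≫ ρ_ (L.fg.obj M)) ≪≫ L.counitIso M

/-- associativity -/
noncomputable def associator (M N K : D) : L.tens (L.tens M N) K ≅ L.tens M (L.tens N K) :=
  haveI := L.isIso_whiskerRight (L.η (L.fg.obj M ⊗ L.fg.obj N)) (L.fg.obj K)
  haveI := L.isIso_whiskerLeft (L.η (L.fg.obj N ⊗ L.fg.obj K)) (L.fg.obj M)
  (asIso (L.a.map (L.η (L.fg.obj M ⊗ L.fg.obj N) ▷ L.fg.obj K))).symm ≪≫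
    L.a.mapIso (α_ (L.fg.obj M) (L.fg.obj N) (L.fg.obj K)) ≪≫
    asIso (L.a.map (L.fg.obj M ◁ L.η (L.fg.obj N ⊗ L.fg.obj K)))

/-- tensor powers: `pow M 0 = unit`, `pow M (n+1) = pow M n ⊗ M` -/
def pow (M : D) : ℕ → D
  | 0 => L.unit
  | n + 1 => L.tens (pow M n) M

/-- `M^{⊗1} ≅ M` -/
noncomputable def powOne (M : D) : L.pow M 1 ≅ M := show L.tens L.unit M ≅ M from L.leftUnitor M

/-- `M^{⊗(m+n)} ≅ M^{⊗m} ⊗ M^{⊗n}` -/
noncomputable def powAdd (M : D) (m : ℕ) : ∀ n : ℕ, L.pow M (m + n) ≅ L.tens (L.pow M m) (L.pow M n)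
  | 0 => (L.rightUnitor _).symm
  | n + 1 => L.tensIso (powAdd M m n) (Iso.refl M) ≪≫ L.associator _ _ _

/-- powers of isomorphic objects -/
noncomputable def powIso {M M' : D} (e : M ≅ M') : ∀ n : ℕ, L.pow M n ≅ L.pow M' n
  | 0 => Iso.refl _
  | n + 1 => L.tensIso (powIso e n) e

/-- powers of the unit -/
noncomputable def powUnit : ∀ n : ℕ, L.pow L.unit n ≅ L.unit
  | 0 => Iso.refl _
  | n + 1 => L.tensIso (powUnit n) (Iso.refl _) ≪≫ L.leftUnitor _

/-- `(M ⊗ N) ⊗ (K ⊗ P) ≅ (M ⊗ K) ⊗ (N ⊗ P)` -/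
noncomputable def tensTensTens (M N K P : D) :
    L.tens (L.tens M N) (L.tens K P) ≅ L.tens (L.tens M K) (L.tens N P) :=
  L.associator M N (L.tens K P) ≪≫
    L.tensIso (Iso.refl M) ((L.associator N K P).symm ≪≫ L.tensIso (L.braiding N K) (Iso.refl P) ≪≫
      L.associator K N P) ≪≫
    (L.associator M K (L.tens N P)).symm

/-- `(M ⊗ N)^{⊗n} ≅ M^{⊗n} ⊗ N^{⊗n}` -/
noncomputable def powTens (M N : D) : ∀ n : ℕ, L.pow (L.tens M N) n ≅ L.tens (L.pow M n) (L.pow N n)
  | 0 => (L.leftUnitor _).symm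
  | n + 1 => L.tensIso (powTens M N n) (Iso.refl _) ≪≫ L.tensTensTens _ _ _ _

/-- `(M^{⊗m})^{⊗n} ≅ M^{⊗(m*n)}` -/
noncomputable def powMul (M : D) (m : ℕ) : ∀ n : ℕ, L.pow (L.pow M m) n ≅ L.pow M (m * n)
  | 0 => Iso.refl _
  | n + 1 => L.tensIso (powMul M m n) (Iso.refl _) ≪≫ (L.powAdd M (m * n) m).symm

end LocData

end Groth.Agent.Lib.MonLoc
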