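/-
helper42: OXMod M2 core, part W. Locally bijective morphisms of presheaves of modules (over a presheaf of
commutative rings on a topological space) remain locally bijective after tensoring; hence `CohB1.sheafifyMod`
inverts `f ▷ Q` whenever it inverts `f`.
-/
import Groth.Prelude.Def_CohB1
import Mathlib.Algebra.Category.ModuleCat.Presheaf.Monoidal
import Mathlib.Algebra.Category.ModuleCat.Sheaf.Localization
import Mathlib.Topology.Sheaves.Presheaf
import Mathlib.CategoryTheory.Sites.Spaces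
import Mathlib.LinearAlgebra.TensorProduct.Vanishing
import Mathlib.RingTheory.TensorProduct.DirectLimitFG

universe u
open CategoryTheory MonoidalCategory Opposite TopologicalSpace TensorProduct

namespace Groth.Agent.Lib.OXModTensorW

section Algebra
variable {A : Type*} [CommRing A] {M N : Type*} [AddCommGroup M] [Module A M]
  [AddCommGroup N] [Module A N]

/-- General equational criterion for vanishing (no spanning hypothesis): if `∑ m_i ⊗ n_i = 0`
then after adding finitely many auxiliary elements `g_l` of `M` (paired with `0`) the expression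
vanishes trivially. -/
theorem exists_vanishesTrivially_of_sum_tmul_eq_zero {ι : Type*} [Fintype ι] (m : ι → M) (n : ι → N)
    (h : ∑ i, m i ⊗ₜ[A] n i = 0) :
    ∃ (κ : Type) (_ : Fintype κ) (g : κ → M),
      VanishesTrivially A (Sum.elim m g) (Sum.elim n (fun _ => (0 : N))) := by
  classical
  set P : Submodule A M := Submodule.span A (Set.range m) with hP
  have hPfg : P.FG := Submodule.fg_span (Set.finite_range m)
  let m₀ : ι → P := fun i => ⟨m i, Submodule.subset_span ⟨i, rfl⟩⟩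
  let t : P ⊗[A] N := ∑ i, m₀ i ⊗ₜ[A] n i
  have ht : LinearMap.rTensor N P.subtype t = 0 := by
    simp only [t, map_sum, LinearMap.rTensor_tmul, Submodule.subtype_apply, m₀]
    exact h
  obtain ⟨Q, hPQ, hQfg, hQ⟩ := TensorProduct.eq_zero_of_fg_of_subtype_eq_zero hPfg ht
  obtain ⟨k, g, hg⟩ := Submodule.fg_iff_exists_fin_generating_family.mp hQfg
  let g' : Fin k → Q := fun l => ⟨g l, by rw [← hg]; exact Submodule.subset_span ⟨l, rfl⟩⟩
  let mQ : ι ⊕ Fin k → Q := Sum.elim (fun i => Submodule.inclusion hPQ (m₀ i)) g'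
  let nQ : ι ⊕ Fin k → N := Sum.elim n (fun _ => 0)
  have hspan : Submodule.span A (Set.range mQ) = ⊤ := by
    rw [eq_top_iff]
    rintro ⟨q, hq⟩ -
    have hq' := hq
    rw [← hg] at hq'
    induction hq' using Submodule.span_induction with
    | mem x hx =>
      obtain ⟨l, rfl⟩ := hx
      exact Submodule.subset_span ⟨Sum.inr l, rfl⟩
    | zero => exact Submodule.zero_mem _
    | add x y hx hy ihx ihy =>
      have hxQ : x ∈ Q := by rw [← hg]; exact hx
      have hyQ : y ∈ Q := by rw [← hg]; exact hy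
      have := Submodule.add_mem _ (ihx hxQ) (ihy hyQ)
      exact this
    | smul a x hx ihx =>
      have hxQ : x ∈ Q := by rw [← hg]; exact hx
      have := Submodule.smul_mem _ a (ihx hxQ)
      exact this
  have hsum : ∑ i, mQ i ⊗ₜ[A] nQ i = 0 := by
    rw [Fintype.sum_sum_type]
    simp only [mQ, nQ, Sum.elim_inl, Sum.elim_inr, tmul_zero, Finset.sum_const_zero, add_zero]
    have : LinearMap.rTensor N (Submodule.inclusion hPQ) t = ∑ i, Submodule.inclusion hPQ (m₀ i) ⊗ₜ[A] n i := by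
      simp only [t, map_sum, LinearMap.rTensor_tmul]
    rw [← this, hQ]
  obtain ⟨k', a, y, h₁, h₂⟩ := vanishesTrivially_of_sum_tmul_eq_zero A hspan hsum
  refine ⟨Fin k, inferInstance, g, k', a, y, ?_, ?_⟩
  · rintro (i | l)
    · simpa [nQ] using h₁ (Sum.inl i)
    · simpa [nQ] using h₁ (Sum.inr l)
  · intro j
    have := congrArg (Q.subtype) (h₂ j)
    simp only [map_sum, map_smul, map_zero] at this
    rw [Fintype.sum_sum_type] at this ⊢
    simpa [mQ, m₀, g'] using this

end Algebra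

variable {T : Type*} [TopologicalSpace T] {R : (Opens T)ᵒᵖ ⥤ CommRingCat.{u}}

/-- presheaves of modules over a presheaf of commutative rings on a space -/
abbrev PM (R : (Opens T)ᵒᵖ ⥤ CommRingCat.{u}) := PresheafOfModules.{u} (R ⋙ forget₂ _ RingCat)

variable (P Q : PM R)

/-- restriction of sections -/
noncomputable def res {U V : Opens T} (h : V ≤ U) (s : P.obj (op U)) : P.obj (op V) :=
  P.map (homOfLE h).op s

/-- restriction of functions -/
noncomputable def resR {U V : Opens T} (h : V ≤ U) (r : R.obj (op U)) : R.obj (op V) :=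
  R.map (homOfLE h).op r

variable {P Q}

@[simp] lemma res_zero {U V : Opens T} (h : V ≤ U) : res P h 0 = 0 := map_zero _
lemma res_add {U V : Opens T} (h : V ≤ U) (s t : P.obj (op U)) : res P h (s + t) = res P h s + res P h t :=
  map_add _ _ _
lemma res_sum {ι : Type*} (S : Finset ι) {U V : Opens T} (h : V ≤ U) (s : ι → P.obj (op U)) :
    res P h (∑ i ∈ S, s i) = ∑ i ∈ S, res P h (s i) := map_sum _ _ _
lemma res_smul {U V : Opens T} (h : V ≤ U) (r : R.obj (op U)) (s : P.obj (op U)) :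
    res P h (r • s) = resR h r • res P h s := P.map_smul _ r s
lemma res_res {U V W : Opens T} (h : V ≤ U) (h' : W ≤ V) (s : P.obj (op U)) :
    res P h' (res P h s) = res P (h'.trans h) s := by
  have := P.map_comp (homOfLE h).op (homOfLE h').op
  have h2 := congrArg (fun f => f s) this
  exact h2.symm
lemma res_self {U : Opens T} (s : P.obj (op U)) : res P le_rfl s = s := by
  have := P.map_id (op U)
  exact congrArg (fun f => f s) this
lemma res_tmul {U V : Opens T} (h : V ≤ U) (p : P.obj (op U)) (q : Q.obj (op U)) :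
    res (P ⊗ Q) h (p ⊗ₜ q) = res P h p ⊗ₜ res Q h q :=
  PresheafOfModules.Monoidal.tensorObj_map_tmul _ _ _
lemma app_res {P' : PM R} (f : P ⟶ P') {U V : Opens T} (h : V ≤ U) (s : P.obj (op U)) :
    f.app (op V) (res P h s) = res P' h (f.app (op U) s) :=
  PresheafOfModules.naturality_apply f _ s

/-- pointwise local injectivity -/
def LocInj {P P' : PM R} (f : P ⟶ P') : Prop :=
  ∀ (U : Opens T) (s : P.obj (op U)), f.app (op U) s = 0 → ∀ x ∈ U,
    ∃ (V : Opens T) (h : V ≤ U), x ∈ V ∧ res P h s = 0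

/-- pointwise local surjectivity -/
def LocSurj {P P' : PM R} (f : P ⟶ P') : Prop :=
  ∀ (U : Opens T) (s' : P'.obj (op U)), ∀ x ∈ U,
    ∃ (V : Opens T) (h : V ≤ U), x ∈ V ∧ ∃ s : P.obj (op V), f.app (op V) s = res P' h s'

lemma whiskerRight_app_tmul {P P' : PM R} (f : P ⟶ P') (Q : PM R) (U : Opens T)
    (p : P.obj (op U)) (q : Q.obj (op U)) :
    (f ▷ Q).app (op U) (p ⊗ₜ q) = f.app (op U) p ⊗ₜ q := rfl

theorem locSurj_whiskerRight {P P' : PM R} (f : P ⟶ P') (Q : PM R) (hf : LocSurj f) :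
    LocSurj (f ▷ Q) := by
  intro U t x hx
  refine TensorProduct.induction_on
    (motive := fun (t : ↑((P' ⊗ Q).obj (op U))) => ∃ (V : Opens T) (h : V ≤ U), x ∈ V ∧
      ∃ s : (P ⊗ Q).obj (op V), (f ▷ Q).app (op V) s = res (P' ⊗ Q) h t) t ?_ ?_ ?_
  · refine ⟨U, le_rfl, hx, 0, ?_⟩
    rw [map_zero]
    exact (res_zero _).symm
  · intro p' q
    obtain ⟨V, hVU, hxV, p, hp⟩ := hf U p' x hx
    refine ⟨V, hVU, hxV, p ⊗ₜ res Q hVU q, ?_⟩
    rw [whiskerRight_app_tmul, hp]
    exact (res_tmul hVU p' q).symm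
  · intro (t₁ : ↑((P' ⊗ Q).obj (op U))) (t₂ : ↑((P' ⊗ Q).obj (op U))) ih₁ ih₂
    obtain ⟨V₁, h₁, hx₁, s₁, hs₁⟩ := ih₁
    obtain ⟨V₂, h₂, hx₂, s₂, hs₂⟩ := ih₂
    refine ⟨V₁ ⊓ V₂, inf_le_left.trans h₁, ⟨hx₁, hx₂⟩,
      res (P ⊗ Q) inf_le_left s₁ + res (P ⊗ Q) inf_le_right s₂, ?_⟩
    rw [map_add, app_res, app_res, hs₁, hs₂, res_res, res_res]
    exact (res_add _ t₁ t₂).symm

/-- finitely many local conditions can be achieved simultaneously -/
lemma exists_common_nhd {κ : Type*} [Finite κ] (U : Opens T) (x : T) (hx : x ∈ U)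
    (Φ : κ → Opens T → Prop) (hmono : ∀ l V V', V' ≤ V → Φ l V → Φ l V')
    (h : ∀ l, ∃ V : Opens T, V ≤ U ∧ x ∈ V ∧ Φ l V) :
    ∃ V : Opens T, V ≤ U ∧ x ∈ V ∧ ∀ l, Φ l V := by
  classical
  have := Fintype.ofFinite κ
  choose V hVU hxV hΦ using h
  refine ⟨U ⊓ Finset.univ.inf V, inf_le_left, ⟨hx, ?_⟩, fun l => ?_⟩
  · rw [Opens.coe_finset_inf]
    simp [Finset.inf_eq_iInf, hxV]
  · exact hmono l _ _ (inf_le_right.trans (Finset.inf_le (Finset.mem_univ l))) (hΦ l)

lemma resR_zero {U V : Opens T} (h : V ≤ U) : resR (R := R) h 0 = 0 := map_zero _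

lemma res_tsum {ι : Type*} [Fintype ι] {U V : Opens T} (h : V ≤ U) (p : ι → P.obj (op U))
    (q : ι → Q.obj (op U)) :
    res (P ⊗ Q) h (∑ i, p i ⊗ₜ q i) = ∑ i, res P h (p i) ⊗ₜ res Q h (q i) := by
  exact (res_sum (P := P ⊗ Q) Finset.univ h
    (fun i => (p i ⊗ₜ q i : ↑((P ⊗ Q).obj (op U))))).trans
      (Finset.sum_congr rfl fun i _ => res_tmul h (p i) (q i))

lemma resR_resR {U V W : Opens T} (h : V ≤ U) (h' : W ≤ V) (r : R.obj (op U)) :
    resR h' (resR h r) = resR (h'.trans h) r := by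
  have := R.map_comp (homOfLE h).op (homOfLE h').op
  have h2 := congrArg (fun f => f r) this
  exact h2.symm

lemma whiskerRight_app_tsum {P P' : PM R} (f : P ⟶ P') (Q : PM R) {ι : Type*} [Fintype ι]
    {U : Opens T} (p : ι → P.obj (op U)) (q : ι → Q.obj (op U)) :
    (f ▷ Q).app (op U) (∑ i, p i ⊗ₜ q i) =
      (∑ i, f.app (op U) (p i) ⊗ₜ[↑(R.obj (op U))] q i :
        ↑(P'.obj (op U)) ⊗[↑(R.obj (op U))] ↑(Q.obj (op U))) :=
  (map_sum ((f ▷ Q).app (op U)).hom (fun i => (p i ⊗ₜ q i : ↑((P ⊗ Q).obj (op U)))) Finset.univ)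

theorem locInj_whiskerRight {P P' : PM R} (f : P ⟶ P') (Q : PM R) (hi : LocInj f)
    (hs : LocSurj f) : LocInj (f ▷ Q) := by
  classical
  intro U t ht x hx
  obtain ⟨S, hS⟩ := TensorProduct.exists_finset (R := ↑(R.obj (op U))) (M := ↑(P.obj (op U)))
    (N := ↑(Q.obj (op U))) t
  -- the finite family
  let p : S → P.obj (op U) := fun i => i.1.1
  let q : S → Q.obj (op U) := fun i => i.1.2
  have htsum : t = ∑ i : S, (p i ⊗ₜ q i : ↑((P ⊗ Q).obj (op U))) :=
    hS.trans (Finset.sum_coe_sort S (fun i => i.1 ⊗ₜ[↑(R.obj (op U))] i.2)).symm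
  have h0 : (∑ i : S, (f.app (op U) (p i)) ⊗ₜ[↑(R.obj (op U))] q i :
      ↑(P'.obj (op U)) ⊗[↑(R.obj (op U))] ↑(Q.obj (op U))) = 0 :=
    (whiskerRight_app_tsum f Q p q).symm.trans
      ((congrArg (fun s => (f ▷ Q).app (op U) s) htsum.symm).trans ht)
  obtain ⟨κ, _, g, k, a, y, h₁, h₂⟩ := exists_vanishesTrivially_of_sum_tmul_eq_zero
    (A := ↑(R.obj (op U))) (fun i => f.app (op U) (p i)) q h0
  -- lift the auxiliary elements locally
  obtain ⟨V₀, hV₀U, hxV₀, hV₀⟩ := exists_common_nhd U x hx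
    (fun (l : κ) V => ∃ (h : V ≤ U) (pt : P.obj (op V)), f.app (op V) pt = res P' h (g l))
    (by
      rintro l V V' hV' ⟨h, pt, hpt⟩
      exact ⟨hV'.trans h, res P hV' pt, by rw [app_res, hpt, res_res]⟩)
    (fun l => by
      obtain ⟨V, hVU, hxV, pt, hpt⟩ := hs U (g l) x hx
      exact ⟨V, hVU, hxV, hVU, pt, hpt⟩)
  choose hV₀' pt hpt using hV₀
  -- the family on V₀
  let m₀ : S ⊕ κ → P.obj (op V₀) := Sum.elim (fun i => res P hV₀U (p i)) pt
  let z : Fin k → P.obj (op V₀) := fun j => ∑ l, resR hV₀U (a l j) • m₀ l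
  have hz : ∀ j, f.app (op V₀) (z j) = 0 := by
    intro j
    have h2 := congrArg (res P' hV₀U) (h₂ j)
    rw [res_zero, res_sum] at h2
    rw [← h2, map_sum]
    refine Finset.sum_congr rfl fun l _ => ?_
    rw [map_smul, res_smul]
    congr 1
    rcases l with i | l
    · exact app_res f hV₀U (p i)
    · exact hpt l
  obtain ⟨W, hWV₀, hxW, hW⟩ := exists_common_nhd V₀ x hxV₀
    (fun (j : Fin k) W => ∃ (h : W ≤ V₀), res P h (z j) = 0)
    (by
      rintro j W W' hW' ⟨h, hz0⟩
      exact ⟨hW'.trans h, by rw [← res_res h hW', hz0, res_zero]⟩)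
    (fun j => by
      obtain ⟨W, hWV, hxW, hW⟩ := hi V₀ (z j) (hz j) x hxV₀
      exact ⟨W, hWV, hxW, hWV, hW⟩)
  refine ⟨W, hWV₀.trans hV₀U, hxW, ?_⟩
  -- on W everything vanishes trivially
  let mW : S ⊕ κ → P.obj (op W) := fun l => res P hWV₀ (m₀ l)
  let nW : S ⊕ κ → Q.obj (op W) :=
    fun l => res Q (hWV₀.trans hV₀U) (Sum.elim q (fun _ => (0 : Q.obj (op U))) l)
  have hvan : VanishesTrivially (↑(R.obj (op W))) mW nW := by
    refine ⟨k, fun l j => resR (hWV₀.trans hV₀U) (a l j), fun j => res Q (hWV₀.trans hV₀U) (y j),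
      fun l => ?_, fun j => ?_⟩
    · have := congrArg (res Q (hWV₀.trans hV₀U)) (h₁ l)
      rw [res_sum] at this
      refine this.trans ?_
      exact Finset.sum_congr rfl fun j _ => res_smul _ _ _
    · obtain ⟨h, hz0⟩ := hW j
      rw [← hz0]
      change _ = res P h (∑ l, resR hV₀U (a l j) • m₀ l)
      rw [res_sum]
      refine Finset.sum_congr rfl fun l _ => ?_
      rw [res_smul, resR_resR]
  have hsum := sum_tmul_eq_zero_of_vanishesTrivially _ hvan
  rw [Fintype.sum_sum_type] at hsum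
  have hκ : ∑ l : κ, mW (Sum.inr l) ⊗ₜ[↑(R.obj (op W))] nW (Sum.inr l) = 0 := by
    refine Finset.sum_eq_zero fun l _ => ?_
    change _ ⊗ₜ res Q _ 0 = _
    rw [res_zero, tmul_zero]
  rw [hκ, add_zero] at hsum
  rw [htsum]
  refine (res_tsum _ p q).trans (Eq.trans ?_ hsum)
  refine Finset.sum_congr rfl fun i _ => ?_
  change _ = res P hWV₀ (res P hV₀U (p i)) ⊗ₜ res Q _ (q i)
  rw [res_res]

section Bridge

variable {P P' : PM R} (f : P ⟶ P')

/-- the underlying map of presheaves of abelian groups -/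
noncomputable abbrev ab : P.presheaf ⟶ P'.presheaf := (PresheafOfModules.toPresheaf _).map f

theorem isLocallyInjective_iff :
    Presheaf.IsLocallyInjective (Opens.grothendieckTopology T) (ab f) ↔ LocInj f := by
  constructor
  · intro h U s hs x hx
    have hmem := h.equalizerSieve_mem (X := op U) (s : P.presheaf.obj (op U)) 0
      (by
        change f.app (op U) s = f.app (op U) 0
        rw [hs, map_zero])
    obtain ⟨V, i, hi, hxV⟩ := (Opens.mem_grothendieckTopology T).mp hmem x hx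
    refine ⟨V, leOfHom i, hxV, ?_⟩
    have : P.presheaf.map i.op s = P.presheaf.map i.op 0 := hi
    rw [map_zero] at this
    exact this
  · intro h
    refine ⟨fun {X} s t hst => ?_⟩
    obtain ⟨U⟩ := X
    rw [Opens.mem_grothendieckTopology]
    intro x hx
    let s' : P.obj (op U) := s
    let t' : P.obj (op U) := t
    have h0 : f.app (op U) (s' - t') = 0 := by
      have : f.app (op U) s' = f.app (op U) t' := hst
      rw [map_sub, this, sub_self]
    obtain ⟨V, hVU, hxV, hV⟩ := h U (s' - t') h0 x hx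
    refine ⟨V, homOfLE hVU, ?_, hxV⟩
    change res P hVU s' = res P hVU t'
    have h1 : res P hVU (s' - t') = res P hVU s' - res P hVU t' := map_sub _ _ _
    rw [h1, sub_eq_zero] at hV
    exact hV

theorem isLocallySurjective_iff :
    Presheaf.IsLocallySurjective (Opens.grothendieckTopology T) (ab f) ↔ LocSurj f := by
  constructor
  · intro h U s' x hx
    have hmem := h.imageSieve_mem (U := U) (s' : P'.presheaf.obj (op U))
    obtain ⟨V, i, ⟨t, ht⟩, hxV⟩ := (Opens.mem_grothendieckTopology T).mp hmem x hx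
    exact ⟨V, leOfHom i, hxV, t, ht⟩
  · intro h
    refine ⟨fun {U} s' => ?_⟩
    rw [Opens.mem_grothendieckTopology]
    intro x hx
    obtain ⟨V, hVU, hxV, t, ht⟩ := h U s' x hx
    exact ⟨V, homOfLE hVU, ⟨t, ht⟩, hxV⟩

end Bridge

section Scheme

open AlgebraicGeometry

variable {X : Scheme.{u}}

/-- `CohB1.sheafifyMod X`, typed on `CohB1.PMod X` (definitionally the same functor). -/
noncomputable def sh (X : Scheme.{u}) : CohB1.PMod X ⥤ X.Modules := CohB1.sheafifyMod X

theorem isIso_sh_map_iff {P P' : CohB1.PMod X} (f : P ⟶ P') :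
    IsIso ((sh X).map f) ↔ LocInj f ∧ LocSurj f := by
  have h := PresheafOfModules.inverseImage_W_toPresheaf_eq_inverseImage_isomorphisms.{u}
    (R := X.ringCatSheaf) (𝟙 X.ringCatSheaf.obj)
  have h1 : (Opens.grothendieckTopology X).W (ab f) ↔ IsIso ((sh X).map f) :=
    Iff.of_eq (congrFun (congrFun (congrFun h P) P') f)
  rw [← isLocallyInjective_iff, ← isLocallySurjective_iff, ← h1]
  exact GrothendieckTopology.WEqualsLocallyBijective.iff _

theorem isIso_sh_map_whiskerRight {P P' : CohB1.PMod X} (f : P ⟶ P') (Q : CohB1.PMod X)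
    (hf : IsIso ((sh X).map f)) : IsIso ((sh X).map (f ▷ Q)) := by
  rw [isIso_sh_map_iff] at hf ⊢
  exact ⟨locInj_whiskerRight f Q hf.1 hf.2, locSurj_whiskerRight f Q hf.2⟩

end Scheme

end Groth.Agent.Lib.OXModTensorW
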