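/-
helper42: OXMod M2 core API for `CohB1.tensorMod` / `CohB1.tensorPow` (sheafified tensor product of O_X-modules):
bifunctoriality, unit/symmetry/associativity isomorphisms, universal property, tensor powers.
All isomorphisms are built from Mathlib's symmetric monoidal structure on presheaves of modules and the key lemma
(Lib/OXModTensorW) that sheafification inverts `f ▷ Q` when it inverts `f`.
-/
import Groth.Agent.Lib.OXModTensorW
import Groth.Agent.Lib.MonLoc

universe u
open CategoryTheory MonoidalCategory Opposite TopologicalSpace AlgebraicGeometry CohB1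

namespace Groth.Agent.Lib.OXModTensor

open Groth.Agent.Lib.OXModTensorW Groth.Agent.Lib.MonLoc

variable {X : Scheme.{u}}

/-- the forgetful functor `X.Modules ⥤ PMod X` (object map is `toPMod`) -/
noncomputable def fg (X : Scheme.{u}) : X.Modules ⥤ PMod X :=
  SheafOfModules.forget X.ringCatSheaf ⋙ PresheafOfModules.restrictScalars (𝟙 X.ringCatSheaf.obj)

@[simp] lemma fg_obj (M : X.Modules) : (fg X).obj M = toPMod M := rfl

/-- The sheafification adjunction for O_X-modules (Mathlib's, for the identity of the structure presheaf). -/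
noncomputable def adj : sh X ⊣ fg X :=
  PresheafOfModules.sheafificationAdjunction.{u, u, u, u} (R := X.ringCatSheaf) (𝟙 X.ringCatSheaf.obj)

instance : IsIso (adj (X := X)).counit :=
  inferInstanceAs (IsIso (PresheafOfModules.sheafificationAdjunction.{u, u, u, u}
    (R := X.ringCatSheaf) (𝟙 X.ringCatSheaf.obj)).counit)

/-- the localization data for `O_X`-modules -/
noncomputable def locData (X : Scheme.{u}) : LocData (PMod X) X.Modules where
  a := sh X
  fg := fg X
  adj := adj
  counit_iso := inferInstance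
  whisker f Q hf := isIso_sh_map_whiskerRight f Q hf
  unit := Coh.structureModule X
  unitIso := Iso.refl _

lemma tensorMod_eq (M N : X.Modules) : tensorMod M N = (locData X).tens M N := rfl

lemma tensorPow_eq (L : X.Modules) (n : ℕ) : tensorPow L n = (locData X).pow L n := by
  induction n with
  | zero => rfl
  | succ n ih => 
    change tensorMod (tensorPow L n) L = (locData X).tens ((locData X).pow L n) L
    rw [ih]; rfl

/-- functoriality of `tensorMod` in both variables -/
noncomputable def tensorModMap {M M' N N' : X.Modules} (f : M ⟶ M') (g : N ⟶ N') :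
    tensorMod M N ⟶ tensorMod M' N' := (locData X).tensMap f g

@[simp] lemma tensorModMap_id (M N : X.Modules) : tensorModMap (𝟙 M) (𝟙 N) = 𝟙 _ :=
  (locData X).tensMap_id M N

lemma tensorModMap_comp {M M' M'' N N' N'' : X.Modules} (f : M ⟶ M') (f' : M' ⟶ M'')
    (g : N ⟶ N') (g' : N' ⟶ N'') :
    tensorModMap (f ≫ f') (g ≫ g') = tensorModMap f g ≫ tensorModMap f' g' :=
  (locData X).tensMap_comp f f' g g'

/-- `tensorMod` of isomorphisms -/
noncomputable def tensorModIso {M M' N N' : X.Modules} (e : M ≅ M') (e' : N ≅ N') :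
    tensorMod M N ≅ tensorMod M' N' := (locData X).tensIso e e'

@[simp] lemma tensorModIso_hom {M M' N N' : X.Modules} (e : M ≅ M') (e' : N ≅ N') :
    (tensorModIso e e').hom = tensorModMap e.hom e'.hom := rfl

@[simp] lemma tensorModIso_inv {M M' N N' : X.Modules} (e : M ≅ M') (e' : N ≅ N') :
    (tensorModIso e e').inv = tensorModMap e.inv e'.inv := rfl

/-- `O_X ⊗ M ≅ M` -/
noncomputable def leftUnitor (M : X.Modules) : tensorMod (Coh.structureModule X) M ≅ M :=
  (locData X).leftUnitor M

/-- `M ⊗ O_X ≅ M` -/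
noncomputable def rightUnitor (M : X.Modules) : tensorMod M (Coh.structureModule X) ≅ M :=
  (locData X).rightUnitor M

/-- `M ⊗ N ≅ N ⊗ M` -/
noncomputable def braiding (M N : X.Modules) : tensorMod M N ≅ tensorMod N M :=
  (locData X).braiding M N

/-- `(M ⊗ N) ⊗ K ≅ M ⊗ (N ⊗ K)` -/
noncomputable def associator (M N K : X.Modules) :
    tensorMod (tensorMod M N) K ≅ tensorMod M (tensorMod N K) :=
  (locData X).associator M N K

/-- `(M ⊗ N) ⊗ (K ⊗ P) ≅ (M ⊗ K) ⊗ (N ⊗ P)` -/
noncomputable def tensorTensorTensor (M N K P : X.Modules) :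
    tensorMod (tensorMod M N) (tensorMod K P) ≅ tensorMod (tensorMod M K) (tensorMod N P) :=
  (locData X).tensTensTens M N K P

/-- `a(P ⊗ Q) ≅ a(P) ⊗ a(Q)` for presheaves of modules -/
noncomputable def shTensorIso (P Q : PMod X) :
    (sh X).obj (P ⊗ Q) ≅ tensorMod ((sh X).obj P) ((sh X).obj Q) :=
  (locData X).aTensIso P Q

/-- `a(M.val) ≅ M` -/
noncomputable def counitIso (M : X.Modules) : (sh X).obj (toPMod M) ≅ M := (locData X).counitIso M

/-- unit of sheafification -/
noncomputable def η (P : PMod X) : P ⟶ toPMod ((sh X).obj P) := (locData X).η P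

instance isIso_map_η (P : PMod X) : IsIso ((sh X).map (η P)) := (locData X).isIso_map_η P

lemma locInj_η (P : PMod X) : LocInj (η P) := ((isIso_sh_map_iff (η P)).mp (isIso_map_η P)).1
lemma locSurj_η (P : PMod X) : LocSurj (η P) := ((isIso_sh_map_iff (η P)).mp (isIso_map_η P)).2

/-- universal property of sheafification -/
noncomputable def homEquiv (P : PMod X) (F : X.Modules) :
    ((sh X).obj P ⟶ F) ≃ (P ⟶ toPMod F) := adj.homEquiv P F

/-- universal property of `tensorMod` -/
noncomputable def tensorModHomEquiv (M N F : X.Modules) :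
    (tensorMod M N ⟶ F) ≃ (tensorPre M N ⟶ toPMod F) := homEquiv _ F

/-- a locally bijective map from a presheaf of modules to a sheaf of modules exhibits the latter as
the sheafification. -/
noncomputable def isoOfLocBij {P : PMod X} {F : X.Modules} (g : P ⟶ toPMod F) (hi : LocInj g)
    (hs : LocSurj g) : (sh X).obj P ≅ F :=
  haveI : IsIso ((sh X).map g) := (isIso_sh_map_iff g).mpr ⟨hi, hs⟩
  asIso ((sh X).map g) ≪≫ counitIso F

/-- tensor powers of isomorphic modules -/
noncomputable def tensorPowIso {L L' : X.Modules} (e : L ≅ L') : ∀ n : ℕ, tensorPow L n ≅ tensorPow L' n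
  | 0 => Iso.refl _
  | n + 1 => tensorModIso (tensorPowIso e n) e

/-- `L^{⊗1} ≅ L` -/
noncomputable def tensorPowOne (L : X.Modules) : tensorPow L 1 ≅ L := leftUnitor L

/-- `L^{⊗(m+n)} ≅ L^{⊗m} ⊗ L^{⊗n}` -/
noncomputable def tensorPowAdd (L : X.Modules) (m : ℕ) :
    ∀ n : ℕ, tensorPow L (m + n) ≅ tensorMod (tensorPow L m) (tensorPow L n)
  | 0 => (rightUnitor _).symm
  | n + 1 => tensorModIso (tensorPowAdd L m n) (Iso.refl L) ≪≫ associator _ _ _

/-- `O^{⊗n} ≅ O` -/
noncomputable def tensorPowUnit : ∀ n : ℕ, tensorPow (Coh.structureModule X) n ≅ Coh.structureModule X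
  | 0 => Iso.refl _
  | n + 1 => tensorModIso (tensorPowUnit n) (Iso.refl _) ≪≫ leftUnitor _

/-- `(M ⊗ N)^{⊗n} ≅ M^{⊗n} ⊗ N^{⊗n}` -/
noncomputable def tensorPowTensor (M N : X.Modules) :
    ∀ n : ℕ, tensorPow (tensorMod M N) n ≅ tensorMod (tensorPow M n) (tensorPow N n)
  | 0 => (leftUnitor _).symm
  | n + 1 => tensorModIso (tensorPowTensor M N n) (Iso.refl _) ≪≫ tensorTensorTensor _ _ _ _

/-- `(L^{⊗m})^{⊗n} ≅ L^{⊗(m*n)}` -/
noncomputable def tensorPowMul (L : X.Modules) (m : ℕ) :
    ∀ n : ℕ, tensorPow (tensorPow L m) n ≅ tensorPow L (m * n)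
  | 0 => Iso.refl _
  | n + 1 => tensorModIso (tensorPowMul L m n) (Iso.refl _) ≪≫ (tensorPowAdd L (m * n) m).symm

end Groth.Agent.Lib.OXModTensor
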