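/-
helper42: OXMod M2 part 2. Restriction of O_X-modules to an open subscheme commutes with sheafification (shResIso) and
with CohB1.tensorMod (restrictTensorIso); PicF.IsInvertible is stable under iso, restriction, tensorMod, tensorPow.
-/
import Groth.Agent.Lib.OXModTensor
import Groth.Agent.Lib.OXModRestrictAlg

universe u
open CategoryTheory MonoidalCategory Opposite TopologicalSpace AlgebraicGeometry CohB1

namespace Groth.Agent.Lib.OXModRestrict

open Groth.Agent.Lib.OXModTensorW Groth.Agent.Lib.OXModTensor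

variable {U X : Scheme.{u}} (f : U ⟶ X) [IsOpenImmersion f]

/-- the comparison of structure presheaves for an open immersion -/
noncomputable def ringMap : U.presheaf ⟶ f.opensFunctor.op ⋙ X.presheaf where
  app W := (f.appIso W.unop).inv
  naturality := by
    intro W W' i
    simp

/-- restriction of presheaves of modules along an open immersion -/
noncomputable def resPre : PMod X ⥤ PMod U :=
  PresheafOfModules.pushforward₀OfCommRingCat f.opensFunctor X.presheaf ⋙ rs (ringMap f)

lemma resPre_obj_val (M : X.Modules) : (resPre f).obj (toPMod M) = toPMod (M.restrict f) := rfl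

lemma ringMap_surjective (W : (Opens U)ᵒᵖ) : Function.Surjective ((ringMap f).app W).hom := by
  intro b
  refine ⟨(f.appIso W.unop).hom b, ?_⟩
  change ((f.appIso W.unop).hom ≫ (f.appIso W.unop).inv) b = b
  rw [Iso.hom_inv_id]
  rfl

/-- restriction of presheaves of modules to an open subscheme commutes with tensor products -/
noncomputable def resPreTensorIso (P Q : PMod X) :
    (resPre f).obj P ⊗ (resPre f).obj Q ≅ (resPre f).obj (P ⊗ Q) :=
  rsμIso (ringMap f) _ _ (ringMap_surjective f) ≪≫
    (rs (ringMap f)).mapIso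
      (Functor.Monoidal.μIso (PresheafOfModules.pushforward₀OfCommRingCat f.opensFunctor X.presheaf) P Q)

lemma resPre_map_app {P P' : PMod X} (g : P ⟶ P') (W : Opens U) (s : ((resPre f).obj P).obj (op W)) :
    ((resPre f).map g).app (op W) s = g.app (op (f ''ᵁ W)) s := rfl

lemma res_resPre (P : PMod X) {W W' : Opens U} (h : W' ≤ W) (s : ((resPre f).obj P).obj (op W)) :
    res ((resPre f).obj P) h s = res P (f.image_mono h) s := rfl

theorem locInj_resPre {P P' : PMod X} (g : P ⟶ P') (hg : LocInj g) : LocInj ((resPre f).map g) := by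
  intro W s hs x hx
  have hfx : f x ∈ f ''ᵁ W := ⟨x, hx, rfl⟩
  obtain ⟨V, hV, hxV, hres⟩ := hg (f ''ᵁ W) s hs (f x) hfx
  have hW' : f ⁻¹ᵁ V ≤ W := by
    have := f.preimage_mono hV
    rwa [f.preimage_image_eq] at this
  refine ⟨f ⁻¹ᵁ V, hW', hxV, ?_⟩
  rw [res_resPre]
  have h2 := res_res (P := P) hV (f.image_preimage_le V) s
  rw [hres, res_zero] at h2
  exact h2.symm

theorem locSurj_resPre {P P' : PMod X} (g : P ⟶ P') (hg : LocSurj g) :
    LocSurj ((resPre f).map g) := by
  intro W s' x hx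
  have hfx : f x ∈ f ''ᵁ W := ⟨x, hx, rfl⟩
  obtain ⟨V, hV, hxV, s, hs⟩ := hg (f ''ᵁ W) s' (f x) hfx
  have hW' : f ⁻¹ᵁ V ≤ W := by
    have := f.preimage_mono hV
    rwa [f.preimage_image_eq] at this
  refine ⟨f ⁻¹ᵁ V, hW', hxV, res P (f.image_preimage_le V) s, ?_⟩
  exact (app_res g (f.image_preimage_le V) s).trans
    ((congrArg (res P' (f.image_preimage_le V)) hs).trans
      (res_res (P := P') hV (f.image_preimage_le V) s'))

/-- sheafification commutes with restriction to an open subscheme -/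
noncomputable def shResIso (P : PMod X) :
    (sh U).obj ((resPre f).obj P) ≅ ((sh X).obj P).restrict f :=
  isoOfLocBij (F := ((sh X).obj P).restrict f) ((resPre f).map (η P))
    (locInj_resPre f _ (locInj_η P)) (locSurj_resPre f _ (locSurj_η P))

/-- restriction to an open subscheme commutes with the tensor product of O_X-modules -/
noncomputable def restrictTensorIso (M N : X.Modules) :
    (tensorMod M N).restrict f ≅ tensorMod (M.restrict f) (N.restrict f) :=
  (shResIso f (toPMod M ⊗ toPMod N)).symm ≪≫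
    (sh U).mapIso (resPreTensorIso f (toPMod M) (toPMod N)).symm

section Invertible

variable {X : Scheme.{u}}

/-- a trivialization on `U` restricts to a trivialization on any smaller open -/
noncomputable def trivOfLE {L : X.Modules} {U V : X.Opens} (h : V ≤ U)
    (e : L.restrict U.ι ≅ Coh.structureModule (↑U)) :
    L.restrict V.ι ≅ Coh.structureModule (↑V) :=
  (Scheme.Modules.restrictFunctorCongr (X.homOfLE_ι h).symm).app L ≪≫
    (Scheme.Modules.restrictFunctorComp (X.homOfLE h) U.ι).app L ≪≫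
    (Scheme.Modules.restrictFunctor (X.homOfLE h)).mapIso e ≪≫
    Scheme.Modules.restrictUnitIso (X.homOfLE h)

theorem isInvertible_of_iso {L L' : X.Modules} (e : L ≅ L') (hL : PicF.IsInvertible L) :
    PicF.IsInvertible L' := by
  intro y
  obtain ⟨U, hyU, ⟨t⟩⟩ := hL y
  exact ⟨U, hyU, ⟨(Scheme.Modules.restrictFunctor U.ι).mapIso e.symm ≪≫ t⟩⟩

/-- two invertible modules can be trivialized on a common neighbourhood -/
theorem exists_common_triv {L L' : X.Modules} (hL : PicF.IsInvertible L)
    (hL' : PicF.IsInvertible L') (y : X) :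
    ∃ U : X.Opens, y ∈ U ∧ Nonempty (L.restrict U.ι ≅ Coh.structureModule (↑U)) ∧
      Nonempty (L'.restrict U.ι ≅ Coh.structureModule (↑U)) := by
  obtain ⟨U, hyU, ⟨t⟩⟩ := hL y
  obtain ⟨U', hyU', ⟨t'⟩⟩ := hL' y
  exact ⟨U ⊓ U', ⟨hyU, hyU'⟩, ⟨trivOfLE inf_le_left t⟩, ⟨trivOfLE inf_le_right t'⟩⟩

theorem isInvertible_tensorMod {L L' : X.Modules} (hL : PicF.IsInvertible L)
    (hL' : PicF.IsInvertible L') : PicF.IsInvertible (tensorMod L L') := by
  intro y
  obtain ⟨U, hyU, ⟨t⟩, ⟨t'⟩⟩ := exists_common_triv hL hL' y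
  exact ⟨U, hyU, ⟨restrictTensorIso U.ι L L' ≪≫ tensorModIso t t' ≪≫ leftUnitor _⟩⟩

theorem isInvertible_tensorPow {L : X.Modules} (hL : PicF.IsInvertible L) (n : ℕ) :
    PicF.IsInvertible (tensorPow L n) := by
  induction n with
  | zero => exact fun _ => ⟨⊤, trivial, ⟨Scheme.Modules.restrictUnitIso _⟩⟩
  | succ n ih => exact isInvertible_tensorMod ih hL

theorem isInvertible_restrict {U X : Scheme.{u}} (f : U ⟶ X) [IsOpenImmersion f] {L : X.Modules}
    (hL : PicF.IsInvertible L) : PicF.IsInvertible (L.restrict f) := by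
  intro y
  obtain ⟨V, hyV, ⟨t⟩⟩ := hL (f y)
  refine ⟨f ⁻¹ᵁ V, hyV, ⟨?_⟩⟩
  have hg : (f ∣_ V) ≫ V.ι = (f ⁻¹ᵁ V).ι ≫ f := morphismRestrict_ι f V
  exact (Scheme.Modules.restrictFunctorComp (f ⁻¹ᵁ V).ι f).symm.app L ≪≫
    (Scheme.Modules.restrictFunctorCongr hg.symm).app L ≪≫
    (Scheme.Modules.restrictFunctorComp (f ∣_ V) V.ι).app L ≪≫
    (Scheme.Modules.restrictFunctor (f ∣_ V)).mapIso t ≪≫
    Scheme.Modules.restrictUnitIso (f ∣_ V)

end Invertible

end Groth.Agent.Lib.OXModRestrict
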