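import Groth.Agent.Lib.H78SecAdd
import Groth.Agent.Lib.OXModRestrict

set_option autoImplicit false
universe u
open CategoryTheory CategoryTheory.Limits AlgebraicGeometry MonoidalCategory Opposite TopologicalSpace
open Groth.Agent.Lib.H90Invertible Groth.Agent.Lib.StructureModule Groth.Agent.Lib.H78TensorGen
open Groth.Agent.Lib.H78SecCoord Groth.Agent.Lib.H78Atlas Groth.Agent.Lib.H78KeyLemma
open Groth.Agent.Lib.H78AmpleBasis Groth.Agent.Lib.H78SecAdd

namespace Groth.Agent.Lib.H78Restrict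

variable {X Y : Scheme.{u}} (j : Y ⟶ X) [IsOpenImmersion j]

/-- a section of `P` over `j ''ᵁ W` as a section of `P.restrict j` over `W` -/
def toR (P : X.Modules) (W : Y.Opens) (x : Γ(P, j ''ᵁ W)) : Γ(P.restrict j, W) := x

/-- restriction of a section `O_X ⟶ P` to `Y` -/
noncomputable def restrictSec {P : X.Modules} (s : Coh.structureModule X ⟶ P) :
    Coh.structureModule Y ⟶ P.restrict j :=
  (Scheme.Modules.restrictUnitIso j).inv ≫ (Scheme.Modules.restrictFunctor j).map s

lemma restrictSec_app_one {P : X.Modules} (s : Coh.structureModule X ⟶ P) (W : Y.Opens) :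
    (restrictSec j s).app W (toSec W 1) = toR j P W (s.app (j ''ᵁ W) (toSec (j ''ᵁ W) 1)) := by
  have h1 : (Scheme.Modules.restrictUnitIso j).inv.app W (toSec W 1) =
      toR j (Coh.structureModule X) W (toSec (j ''ᵁ W) 1) := by
    change (j.appIso W).inv (1 : Γ(Y, W)) = (1 : Γ(X, j ''ᵁ W))
    exact map_one (j.appIso W).inv.hom
  change ((Scheme.Modules.restrictFunctor j).map s).app W ((Scheme.Modules.restrictUnitIso j).inv.app W (toSec W 1)) = _
  rw [h1]
  rfl


/-- the restriction of `sec (restrictSec j s)` to `W` is the restriction of `sec s` to `j ''ᵁ W` -/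
lemma rs_sec_restrictSec {P : X.Modules} (s : Coh.structureModule X ⟶ P) (W : Y.Opens) :
    rs (P.restrict j) (le_top : W ≤ ⊤) (sec (restrictSec j s)) =
      toR j P W (rs P (le_top : j ''ᵁ W ≤ ⊤) (sec s)) := by
  have h1 := app_toSec (restrictSec j s) W 1
  rw [one_smul] at h1
  rw [← h1, restrictSec_app_one]
  have h2 := app_toSec s (j ''ᵁ W) 1
  rw [one_smul] at h2
  rw [h2]

theorem genLocus_restrictSec {P : X.Modules} (s : Coh.structureModule X ⟶ P) :
    CohB1.genLocus (P.restrict j) (restrictSec j s) = j ⁻¹ᵁ CohB1.genLocus P s := by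
  ext y
  rw [SetLike.mem_coe, SetLike.mem_coe, mem_genLocus_iff]
  change _ ↔ j y ∈ CohB1.genLocus P s
  rw [mem_genLocus_iff]
  constructor
  · rintro ⟨W, hyW, hW⟩
    rw [rs_sec_restrictSec] at hW
    exact ⟨j ''ᵁ W, ⟨y, hyW, rfl⟩, (isGen_restrict_iff j P W _).1 hW⟩
  · rintro ⟨V, hyV, hV⟩
    refine ⟨j ⁻¹ᵁ V, hyV, ?_⟩
    rw [rs_sec_restrictSec]
    refine (isGen_restrict_iff j P _ _).2 ?_
    have := hV.mono (j.image_preimage_le V)
    have h3 : rs P (j.image_preimage_le V) (rs P (le_top : V ≤ ⊤) (sec s)) =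
        rs P (le_top : j ''ᵁ j ⁻¹ᵁ V ≤ ⊤) (sec s) := rs_rs P _ _ _
    rw [← h3]
    exact this


/-- restriction to an open subscheme commutes with tensor powers -/
noncomputable def restrictTensorPowIso (L : X.Modules) :
    ∀ n : ℕ, (CohB1.tensorPow L n).restrict j ≅ CohB1.tensorPow (L.restrict j) n
  | 0 => Scheme.Modules.restrictUnitIso j
  | n + 1 => Groth.Agent.Lib.OXModRestrict.restrictTensorIso j (CohB1.tensorPow L n) L ≪≫
      H78AmpleUnit.tensorModIso (restrictTensorPowIso L n) (Iso.refl _)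

/-- **restriction of an ample module to a quasi-compact open subscheme is ample** -/
theorem isAmple_restrict [CompactSpace Y] {L : X.Modules} (hL : CohB1.IsAmple L) :
    CohB1.IsAmple (L.restrict j) := by
  haveI : CompactSpace X := hL.2.1
  refine ⟨isInvertible_restrict j hL.1, inferInstance, fun y => ?_⟩
  obtain ⟨W, hW, hyW, -⟩ := Opens.isBasis_iff_nbhd.1 Y.isBasis_affineOpens (show y ∈ (⊤ : Y.Opens) from trivial)
  have hW' : IsAffineOpen (j ''ᵁ W) := hW.image_of_isOpenImmersion j
  obtain ⟨n, s, hx, hsW, haff⟩ := exists_sec_nbhd_affine hL (j y) (j ''ᵁ W) ⟨y, hyW, rfl⟩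
  refine ⟨n, restrictSec j s ≫ (restrictTensorPowIso j L (n + 1)).hom, ?_, ?_⟩
  · rw [H78AmpleUnit.genLocus_comp_iso, genLocus_restrictSec]
    exact hx
  · rw [H78AmpleUnit.genLocus_comp_iso, genLocus_restrictSec,
      ← j.isAffineOpen_iff_of_isOpenImmersion, Scheme.Hom.image_preimage_eq_opensRange_inf]
    have : j.opensRange ⊓ CohB1.genLocus _ s = CohB1.genLocus _ s := by
      refine inf_eq_right.2 (hsW.trans ?_)
      rintro _ ⟨z, -, rfl⟩
      exact ⟨z, rfl⟩
    rw [this]
    exact haff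

end Groth.Agent.Lib.H78Restrict
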