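import Groth.Agent.Lib.VeryAmpleH3

set_option autoImplicit false
set_option linter.style.haveILetI false
universe u
open CategoryTheory CategoryTheory.Limits AlgebraicGeometry TopologicalSpace Opposite Twist MvPolynomial
  HomogeneousLocalization
open AlgebraicGeometry.Scheme.Modules
open Groth.Agent.Lib.H90Invertible Groth.Agent.Lib.H4Twist Groth.Agent.Lib
open Groth.Agent.Lib.H78TensorGen Groth.Agent.Lib.H78SecCoord Groth.Agent.Lib.H78Atlas
open Groth.Agent.Lib.GenCoverH3 Groth.Agent.Lib.VeryAmpleH3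

namespace Groth.Agent.Lib.VeryAmpleCritH3

variable {X S : Scheme.{u}}

/-- very ampleness is invariant under isomorphism -/
theorem isRelVeryAmplePn_of_iso (q : X ⟶ S) {M M' : X.Modules} (e : M ≅ M')
    (h : RelAmple.IsRelVeryAmplePn q M) : RelAmple.IsRelVeryAmplePn q M' := by
  obtain ⟨n, i, himm, hq, ⟨φ⟩⟩ := h
  exact ⟨n, i, himm, hq, ⟨e.symm ≪≫ φ⟩⟩

/-- **very ampleness criterion, finite families**: `S` affine, `M` invertible on `X`, a finite family of global sections
`sK k` and a subset `T` of indices such that the `X_{sK k}`, `k ∈ T`, are affine, cover `X`, and have coordinate rings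
generated by the ratios `sK k' / sK k` and the functions from `S`. Then `M` is very ample relative to `q`. -/
theorem isRelVeryAmplePn_of_closure [IsAffine S] (q : X ⟶ S) {M : X.Modules} (hM : PicF.IsInvertible M)
    {K : Type*} [Finite K] (sK : K → Γ(M, ⊤)) (T : Set K)
    (hcov : ∀ x : X, ∃ k ∈ T, x ∈ U sK k) (haff : ∀ k ∈ T, IsAffineOpen (U sK k))
    (hgen : ∀ k ∈ T, Subring.closure
      (Set.range (ratio sK k) ∪ Set.range (q.appLE ⊤ (U sK k) le_top).hom) = ⊤) :
    RelAmple.IsRelVeryAmplePn q M := by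
  classical
  cases nonempty_fintype K
  let I := Option K
  let sc : I → Γ(M, ⊤) := fun o => o.elim 0 sK
  have hcard : 0 < Fintype.card I := Fintype.card_pos_iff.2 ⟨none⟩
  obtain ⟨n, hn⟩ : ∃ n, Fintype.card I = n + 1 := ⟨Fintype.card I - 1, by omega⟩
  let e : Fin (n + 1) ≃ I := (Fintype.equivFinOfCardEq hn).symm
  let s : Fin (n + 1) → Γ(M, ⊤) := fun j => sc (e j)
  have hs : ProjUP.GeneratedBy M s := by
    apply Groth.Agent.Lib.H4Twist.generatedBy_of_isGen
    intro x
    obtain ⟨k, -, hx⟩ := hcov x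
    refine ⟨e.symm (some k), U sK k, hx, ?_⟩
    have h1 : s (e.symm (some k)) = sK k := by
      change sc (e (e.symm _)) = _
      rw [e.apply_symm_apply]
      rfl
    rw [h1]
    exact isGen_U sK k
  obtain ⟨r, i, hr, hpre, hfst, hsnd, hiso⟩ := exists_lift q n s hM hs
  refine ⟨n, i, ?_, hsnd, hiso⟩
  have key : ∀ (o : I) (k : K), o = some k → k ∈ T →
      IsAffineOpen (U sc o) ∧ Subring.closure
        (Set.range (ratio sc o) ∪ Set.range (q.appLE ⊤ (U sc o) le_top).hom) = ⊤ := by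
    rintro _ k rfl hk
    refine ⟨haff k hk, ?_⟩
    refine eq_top_iff.2 (le_trans (hgen k hk).ge ?_)
    apply Subring.closure_mono
    rintro y (⟨k', rfl⟩ | ⟨c, rfl⟩)
    · exact Or.inl ⟨some k', rfl⟩
    · exact Or.inr ⟨c, rfl⟩
  refine isImmersion_of_closure q n s r i hr hpre hfst hsnd
    {j | ∃ k ∈ T, e j = some k} ?_ ?_ ?_
  · intro x
    obtain ⟨k, hk, hx⟩ := hcov x
    refine ⟨e.symm (some k), ⟨k, hk, e.apply_symm_apply _⟩, ?_⟩
    change x ∈ U sc (e (e.symm _))
    rw [e.apply_symm_apply]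
    exact hx
  · rintro j ⟨k, hk, hj⟩
    exact (key (e j) k hj hk).1
  · rintro j ⟨k, hk, hj⟩
    have h2 := (key (e j) k hj hk).2
    refine eq_top_iff.2 (le_trans h2.ge ?_)
    apply Subring.closure_mono
    rintro y (⟨o, rfl⟩ | ⟨c, rfl⟩)
    · exact Or.inl ⟨e.symm o, by
        change ratio sc (e j) (e (e.symm o)) = _
        rw [e.apply_symm_apply]⟩
    · exact Or.inr ⟨c, rfl⟩

end Groth.Agent.Lib.VeryAmpleCritH3
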