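/-
helper3: ring homomorphisms out of a graded ring given degree by degree (Mathlib only).
* `gradedLift 𝒜 g hone hmul : A →+* B` from additive maps `g n : 𝒜 n →+ B` compatible with `1` and products;
  `gradedLift_of_mem`.
* `twistHom 𝒜 Φ v` (`a ↦ v ^ n * Φ a` on `𝒜 n`), `twistHom_of_mem`.
* `dehom 𝒜 hf : A →+* Away 𝒜 f` for `f ∈ 𝒜 1` (dehomogenisation `a ↦ a / f ^ n` on `𝒜 n`), `dehom_of_mem`, `dehom_self`,
  `eq_awayLift_dehom` (every ring map out of `Away 𝒜 f` is `awayLift` of its composite with `dehom`),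
  `Away.hom_ext_dehom`.
* for `A` generated over `R` by degree-one elements `f k`: `hom_ext_adjoin`, `scaling_of_gen`,
  `irrelevant_le_span`, `exists_notMem_of_gen`, `away_hom_ext_of_gen`.
-/
import Groth.Agent.Lib.AwayLiftH3

set_option autoImplicit false
open HomogeneousLocalization DirectSum
open Groth.Agent.Lib.AwayLiftH3

namespace Groth.Agent.Lib.GradedHomH3

variable {R A : Type*} [CommRing R] [CommRing A] [Algebra R A] (𝒜 : ℕ → Submodule R A) [GradedAlgebra 𝒜]
variable {B : Type*} [CommRing B]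

/-- a ring map out of a graded ring, given degree by degree -/
noncomputable def gradedLift (g : ∀ n, 𝒜 n →+ B) (hone : g 0 ⟨1, SetLike.GradedOne.one_mem⟩ = 1)
    (hmul : ∀ (i j : ℕ) (a : 𝒜 i) (b : 𝒜 j),
      g (i + j) ⟨a * b, SetLike.mul_mem_graded a.2 b.2⟩ = g i a * g j b) : A →+* B :=
  (DirectSum.toSemiring g hone (fun {i j} => hmul i j)).comp (DirectSum.decomposeRingEquiv 𝒜).toRingHom

theorem gradedLift_of_mem (g : ∀ n, 𝒜 n →+ B) (hone : g 0 ⟨1, SetLike.GradedOne.one_mem⟩ = 1)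
    (hmul : ∀ (i j : ℕ) (a : 𝒜 i) (b : 𝒜 j),
      g (i + j) ⟨a * b, SetLike.mul_mem_graded a.2 b.2⟩ = g i a * g j b) {n : ℕ} {a : A} (ha : a ∈ 𝒜 n) :
    gradedLift 𝒜 g hone hmul a = g n ⟨a, ha⟩ := by
  unfold gradedLift
  rw [RingHom.comp_apply]
  change DirectSum.toSemiring g hone (fun {i j} => hmul i j) (DirectSum.decompose 𝒜 a) = _
  rw [DirectSum.decompose_of_mem 𝒜 ha, DirectSum.toSemiring_of]

/-- the graded rescaling `a ↦ v ^ n * Φ a` for `a ∈ 𝒜 n` -/
noncomputable def twistHom (Φ : A →+* B) (v : B) : A →+* B :=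
  gradedLift 𝒜 (fun n => (AddMonoidHom.mulLeft (v ^ n)).comp
      (Φ.toAddMonoidHom.comp (𝒜 n).subtype.toAddMonoidHom))
    (by simp) (by intro i j a b; simp [pow_add]; ring)

theorem twistHom_of_mem (Φ : A →+* B) (v : B) {n : ℕ} {a : A} (ha : a ∈ 𝒜 n) :
    twistHom 𝒜 Φ v a = v ^ n * Φ a := by
  unfold twistHom
  rw [gradedLift_of_mem 𝒜 _ _ _ ha]
  rfl

section Dehom

variable {f : A} (hf : f ∈ 𝒜 1)

omit [GradedAlgebra 𝒜] in
theorem mem_smul_one {n : ℕ} {a : A} (ha : a ∈ 𝒜 n) : a ∈ 𝒜 (n • 1) := by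
  rwa [smul_eq_mul, mul_one]

/-- `a ↦ a / f ^ n` on `𝒜 n`, as an additive map -/
noncomputable def mkHom (n : ℕ) : 𝒜 n →+ Away 𝒜 f where
  toFun a := Away.mk 𝒜 hf n a (mem_smul_one 𝒜 a.2)
  map_zero' := by
    apply HomogeneousLocalization.val_injective
    rw [Away.val_mk, HomogeneousLocalization.val_zero]
    exact Localization.mk_zero _
  map_add' a b := by
    apply HomogeneousLocalization.val_injective
    rw [HomogeneousLocalization.val_add, Away.val_mk, Away.val_mk, Away.val_mk]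
    exact (Localization.add_mk_self _ _ _).symm

/-- dehomogenisation with respect to an element of degree one -/
noncomputable def dehom : A →+* Away 𝒜 f :=
  gradedLift 𝒜 (mkHom 𝒜 hf)
    (by
      apply HomogeneousLocalization.val_injective
      change (Away.mk 𝒜 hf 0 1 _).val = _
      rw [Away.val_mk, HomogeneousLocalization.val_one]
      simp only [pow_zero]
      exact Localization.mk_one)
    (by
      intro i j a b
      apply HomogeneousLocalization.val_injective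
      change (Away.mk 𝒜 hf (i + j) (a * b) _).val = ((Away.mk 𝒜 hf i a _) * (Away.mk 𝒜 hf j b _)).val
      rw [HomogeneousLocalization.val_mul, Away.val_mk, Away.val_mk, Away.val_mk, Localization.mk_mul]
      congr 1
      exact Subtype.ext (pow_add f i j))

theorem dehom_of_mem {n : ℕ} {a : A} (ha : a ∈ 𝒜 n) :
    dehom 𝒜 hf a = Away.mk 𝒜 hf n a (mem_smul_one 𝒜 ha) := by
  unfold dehom
  rw [gradedLift_of_mem 𝒜 _ _ _ ha]
  rfl

theorem dehom_self : dehom 𝒜 hf f = 1 := by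
  rw [dehom_of_mem 𝒜 hf hf]
  apply HomogeneousLocalization.val_injective
  rw [Away.val_mk, HomogeneousLocalization.val_one]
  convert Localization.mk_self (⟨f ^ 1, 1, rfl⟩ : Submonoid.powers f) using 2
  exact (pow_one f).symm

theorem isUnit_comp_dehom (ψ : Away 𝒜 f →+* B) : IsUnit ((ψ.comp (dehom 𝒜 hf)) f) := by
  rw [RingHom.comp_apply, dehom_self, map_one]
  exact isUnit_one

/-- every ring map out of `A_(f)` (`deg f = 1`) is induced by a ring map out of `A` -/
theorem eq_awayLift_dehom (ψ : Away 𝒜 f →+* B) :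
    ψ = awayLift 𝒜 f (ψ.comp (dehom 𝒜 hf)) (isUnit_comp_dehom 𝒜 hf ψ) := by
  refine awayLift_unique _ _ hf ψ (fun n a ha => ?_)
  rw [RingHom.comp_apply, RingHom.comp_apply, dehom_self, map_one, one_pow, mul_one]
  have ha' : a ∈ 𝒜 n := by rwa [smul_eq_mul, mul_one] at ha
  rw [dehom_of_mem 𝒜 hf ha']

theorem Away.hom_ext_dehom (ψ ψ' : Away 𝒜 f →+* B)
    (h : ψ.comp (dehom 𝒜 hf) = ψ'.comp (dehom 𝒜 hf)) : ψ = ψ' := by
  rw [eq_awayLift_dehom 𝒜 hf ψ, eq_awayLift_dehom 𝒜 hf ψ']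
  congr 1

/-- `awayLift` composed with dehomogenisation, for `Φ f = 1` -/
theorem awayLift_comp_dehom (Φ : A →+* B) (h1 : Φ f = 1) :
    (awayLift 𝒜 f Φ (h1 ▸ isUnit_one)).comp (dehom 𝒜 hf) = twistHom 𝒜 Φ 1 := by
  ext a
  induction a using DirectSum.Decomposition.inductionOn 𝒜 with
  | zero => simp
  | homogeneous a =>
    obtain ⟨a, ha⟩ := a
    rw [RingHom.comp_apply, dehom_of_mem 𝒜 hf ha, twistHom_of_mem 𝒜 Φ 1 ha, one_pow, one_mul]
    have := awayLift_mk_mul Φ (h1 ▸ isUnit_one) hf _ a (mem_smul_one 𝒜 ha)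
    have e : ∀ m : ℕ, Φ f ^ m = 1 := fun m => by rw [h1, one_pow]
    rwa [e, mul_one] at this
  | add a b ha hb => rw [map_add, map_add, ha, hb]

end Dehom

section Gen

variable {κ : Type*} (f : κ → A) (hgen : Algebra.adjoin R (Set.range f) = ⊤)

include hgen in
theorem hom_ext_adjoin (Φ Φ' : A →+* B) (h0 : ∀ c : R, Φ (algebraMap R A c) = Φ' (algebraMap R A c))
    (h1 : ∀ k, Φ (f k) = Φ' (f k)) : Φ = Φ' := by
  ext a
  have ha : a ∈ Algebra.adjoin R (Set.range f) := hgen ▸ Algebra.mem_top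
  induction ha using Algebra.adjoin_induction with
  | mem x hx => obtain ⟨k, rfl⟩ := hx; exact h1 k
  | algebraMap c => exact h0 c
  | add x y _ _ hx hy => rw [map_add, map_add, hx, hy]
  | mul x y _ _ hx hy => rw [map_mul, map_mul, hx, hy]

variable (hf : ∀ k, f k ∈ 𝒜 1)

include hgen hf in
/-- two ring maps agreeing on constants and differing by `v` on the degree-one generators differ by `v ^ n` in degree `n` -/
theorem scaling_of_gen (Φ Φ' : A →+* B) (v : B)
    (h0 : ∀ c : R, Φ' (algebraMap R A c) = Φ (algebraMap R A c))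
    (h1 : ∀ k, Φ' (f k) = v * Φ (f k)) (n : ℕ) (a : A) (ha : a ∈ 𝒜 n) : Φ' a = v ^ n * Φ a := by
  have : Φ' = twistHom 𝒜 Φ v := by
    refine hom_ext_adjoin f hgen _ _ (fun c => ?_) (fun k => ?_)
    · rw [twistHom_of_mem 𝒜 Φ v (SetLike.algebraMap_mem_graded 𝒜 c), pow_zero, one_mul, h0]
    · rw [twistHom_of_mem 𝒜 Φ v (hf k), pow_one, h1]
  rw [this, twistHom_of_mem 𝒜 Φ v ha]

include hgen hf in
theorem irrelevant_le_span :
    (HomogeneousIdeal.irrelevant 𝒜).toIdeal ≤ Ideal.span (Set.range f) := by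
  intro a ha
  set I := Ideal.span (Set.range f) with hI
  have key : Ideal.Quotient.mk I = (Ideal.Quotient.mk I).comp (GradedRing.projZeroRingHom 𝒜) := by
    refine hom_ext_adjoin f hgen _ _ (fun c => ?_) (fun k => ?_)
    · rw [RingHom.comp_apply, GradedRing.projZeroRingHom_apply,
        DirectSum.decompose_of_mem_same 𝒜 (SetLike.algebraMap_mem_graded 𝒜 c)]
    · rw [RingHom.comp_apply, GradedRing.projZeroRingHom_apply,
        DirectSum.decompose_of_mem_ne 𝒜 (hf k) one_ne_zero, map_zero, Ideal.Quotient.eq_zero_iff_mem]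
      exact Ideal.subset_span ⟨k, rfl⟩
  have h2 := congrArg (fun φ => φ a) key
  rw [RingHom.comp_apply, GradedRing.projZeroRingHom_apply] at h2
  have h3 : (DirectSum.decompose 𝒜 a 0 : A) = 0 := by
    have := (HomogeneousIdeal.mem_irrelevant_iff 𝒜 a).1 ha
    simpa [GradedRing.proj_apply] using this
  rw [h3, map_zero, Ideal.Quotient.eq_zero_iff_mem] at h2
  exact h2

include hgen hf in
theorem exists_notMem_of_gen (x : ProjectiveSpectrum 𝒜) : ∃ k, f k ∉ x.asHomogeneousIdeal := by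
  by_contra hcon
  push Not at hcon
  apply x.not_irrelevant_le
  intro a ha
  have h1 : Ideal.span (Set.range f) ≤ x.asHomogeneousIdeal.toIdeal := by
    rw [Ideal.span_le]
    rintro _ ⟨k, rfl⟩
    exact hcon k
  exact h1 (irrelevant_le_span 𝒜 f hgen hf ha)

include hgen hf in
/-- ring maps out of `A_(f i)` are determined by the constants and the `f k / f i` -/
theorem away_hom_ext_of_gen (i : κ) (ψ ψ' : Away 𝒜 (f i) →+* B)
    (h0 : ∀ c : R, ψ (algebraMap (𝒜 0) (Away 𝒜 (f i)) (algebraMap R (𝒜 0) c)) =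
      ψ' (algebraMap (𝒜 0) (Away 𝒜 (f i)) (algebraMap R (𝒜 0) c)))
    (h1 : ∀ k, ψ (Away.mk 𝒜 (hf i) 1 (f k) (mem_smul_one 𝒜 (hf k))) =
      ψ' (Away.mk 𝒜 (hf i) 1 (f k) (mem_smul_one 𝒜 (hf k)))) : ψ = ψ' := by
  refine Away.hom_ext_dehom 𝒜 (hf i) ψ ψ' (hom_ext_adjoin f hgen _ _ (fun c => ?_) (fun k => ?_))
  · rw [RingHom.comp_apply, RingHom.comp_apply,
      dehom_of_mem 𝒜 (hf i) (SetLike.algebraMap_mem_graded 𝒜 c)]
    have : Away.mk 𝒜 (hf i) 0 (algebraMap R A c) (mem_smul_one 𝒜 (SetLike.algebraMap_mem_graded 𝒜 c)) =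
        algebraMap (𝒜 0) (Away 𝒜 (f i)) (algebraMap R (𝒜 0) c) := by
      apply HomogeneousLocalization.val_injective
      rw [Away.val_mk]
      simp only [pow_zero]
      rfl
    rw [this]
    exact h0 c
  · rw [RingHom.comp_apply, RingHom.comp_apply, dehom_of_mem 𝒜 (hf i) (hf k)]
    exact h1 k

end Gen

end Groth.Agent.Lib.GradedHomH3
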