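import Groth.Agent.Lib.H4TwistAmple
import Groth.Agent.Lib.QCohStalk
import Groth.Agent.Lib.OXModTensor
import Groth.Prelude.Def_ProjUP

/-!
# Generation by global sections from local free generators; ampleness of `O(n)` (helper4)

* `generatedBy_of_isGen` (any scheme): global sections `s i` of `L` such that near every point some `s i` is a
  free generator generate `L` in the sense of `ProjUP.GeneratedBy` (germs span the stalks);
* `globalOf_eq_numSec`; `generatedBy_globalOf` (S13172); `isAmple_twist_of_cover` (S13173).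
-/

set_option autoImplicit false
universe u
open CategoryTheory AlgebraicGeometry TopologicalSpace Opposite Twist
open Groth.Agent.Lib.H90Invertible Groth.Agent.Lib.H4TensorPair

namespace Groth.Agent.Lib.H4Twist

section General

variable {X : Scheme.{u}} (L : X.Modules)

theorem generatedBy_of_isGen {ι : Type*} (s : ι → ProjUP.Γm L)
    (h : ∀ x : X, ∃ (i : ι) (V : X.Opens), x ∈ V ∧
      IsGen L V (L.presheaf.map (homOfLE le_top).op (s i))) : ProjUP.GeneratedBy L s := by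
  intro x
  rw [eq_top_iff]
  intro ξ _
  obtain ⟨W, hxW, t, rfl⟩ := TopCat.Presheaf.exists_germ_eq L.presheaf ξ
  obtain ⟨i, V, hxV, hgen⟩ := h x
  obtain ⟨c, hc⟩ := (hgen (W ⊓ V) inf_le_right).2 (L.presheaf.map (homOfLE inf_le_left).op t)
  have hx' : x ∈ W ⊓ V := ⟨hxW, hxV⟩
  have h1 : L.presheaf.germ W x hxW t =
      L.presheaf.germ (W ⊓ V) x hx' (L.presheaf.map (homOfLE inf_le_left).op t) :=
    (TopCat.Presheaf.germ_res_apply L.presheaf (homOfLE inf_le_left) x hx' t).symm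
  have h2 : L.presheaf.germ (W ⊓ V) x hx'
      (L.presheaf.map (homOfLE inf_le_right).op (L.presheaf.map (homOfLE le_top).op (s i))) =
      L.presheaf.germ ⊤ x trivial (s i) := by
    rw [TopCat.Presheaf.germ_res_apply L.presheaf (homOfLE inf_le_right) x hx',
      TopCat.Presheaf.germ_res_apply L.presheaf (homOfLE le_top) x hxV]
  rw [h1, ← hc]
  dsimp only
  rw [Groth.Agent.Lib.QCohStalk.germ_smul, h2]
  exact Submodule.smul_mem _ _ (Submodule.subset_span ⟨i, rfl⟩)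

end General

variable {R A : Type u} [CommRing R] [CommRing A] [Algebra R A] (𝒜 : ℕ → Submodule R A) [GradedAlgebra 𝒜]

theorem globalOf_eq_numSec {i : ℕ} (a : 𝒜 i) :
    (Twist.globalOf 𝒜 a : Γ(twist 𝒜 (i : ℤ), ⊤)) = numSec a.2 (i : ℤ) rfl := rfl

theorem pow_mem_of_one {g : A} (hg : g ∈ 𝒜 1) (n : ℕ) : g ^ n ∈ 𝒜 n := by
  have := SetLike.pow_mem_graded n hg
  rwa [smul_eq_mul, mul_one] at this

/-- If `Proj 𝒜` is covered by the `D₊(g)`, `g ∈ 𝒜 1`, then `O(n)` is generated by the sections `b/1`, `b ∈ 𝒜 n`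
(S13172). -/
theorem generatedBy_globalOf
    (hcov : ∀ x : ProjectiveSpectrum 𝒜, ∃ g ∈ 𝒜 1, g ∉ x.asHomogeneousIdeal) (n : ℕ) :
    ProjUP.GeneratedBy (twist 𝒜 (n : ℤ))
      (fun b : 𝒜 n => (Twist.globalOf 𝒜 b : ProjUP.Γm (twist 𝒜 (n : ℤ)))) := by
  apply generatedBy_of_isGen
  intro x
  obtain ⟨g, hg, hgx⟩ := hcov x
  refine ⟨⟨g ^ n, pow_mem_of_one 𝒜 hg n⟩, Proj.basicOpen 𝒜 g, hgx, ?_⟩
  exact isGen_numSec_of_le hg n rfl (pow_mem_of_one 𝒜 hg n) (mul_one n).symm (n : ℤ) rfl le_rfl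

/-- If `Proj 𝒜` is quasi-compact and covered by the `D₊(g)`, `g ∈ 𝒜 1`, then `O(n)` is ample for `n ≥ 1`
(S13173). -/
theorem isAmple_twist_of_cover
    (hcov : ∀ x : ProjectiveSpectrum 𝒜, ∃ g ∈ 𝒜 1, g ∉ x.asHomogeneousIdeal)
    [CompactSpace (Proj 𝒜)] (n : ℕ) (hn : 0 < n) : CohB1.IsAmple (twist 𝒜 (n : ℤ)) := by
  refine ⟨by simpa using isInvertible_twist_of_cover 𝒜 1 (n : ℤ) hcov, inferInstance, fun x => ?_⟩
  obtain ⟨g, hg, hgx⟩ := hcov x
  have hgn := pow_mem_of_one 𝒜 hg n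
  have hcovn : ∀ y : ProjectiveSpectrum 𝒜, ∃ g' ∈ 𝒜 n, g' ∉ y.asHomogeneousIdeal := fun y => by
    obtain ⟨g', hg', hg'y⟩ := hcov y
    exact ⟨g' ^ n, pow_mem_of_one 𝒜 hg' n, fun h => hg'y (y.isPrime.mem_of_pow_mem n h)⟩
  have e := (Groth.Agent.Lib.OXModTensor.tensorPowOne (twist 𝒜 (n : ℤ))).symm
  have hloc : CohB1.genLocus (CohB1.tensorPow (twist 𝒜 (n : ℤ)) (0 + 1))
      (ofSection (numSec hgn (n : ℤ) rfl) ≫ e.hom) = Proj.basicOpen 𝒜 (g ^ n) := by
    rw [Groth.Agent.Lib.H78AmpleUnit.genLocus_comp_iso]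
    exact genLocus_ofSection_numSec hgn (n : ℤ) rfl hcovn
  refine ⟨0, ofSection (numSec hgn (n : ℤ) rfl) ≫ e.hom, ?_, ?_⟩
  · rw [hloc]
    exact fun h => hgx (x.isPrime.mem_of_pow_mem n h)
  · rw [hloc]
    exact Proj.isAffineOpen_basicOpen 𝒜 (g ^ n) hgn hn

end Groth.Agent.Lib.H4Twist
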