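/-
# Sections of `P^n_R` over an affine base are determined by their relation module (helper3)

* `res_eq_ratio_smul`, `res_eq_ratio_smul_U`, `U_le_U`: over an affine scheme, if all linear relations among generating
  sections `t` of a quasi-coherent `L₁` hold among `t'` (sections of `L₂`), then `t' k = (t k / t i) • t' i` on `U t i`;
* `exists_iso_of_relations`: hence `L₁ ≅ L₂` carrying `t k` to `t' k` (both invertible, globally generated);
* `isInvertible_pullback_O1`, `generatedBy_pullSec`: for any `f : X ⟶ P^n_R`, `f^*O(1)` is invertible and generated by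
  the `f^* X_i`;
* `hom_ext_of_relations`: morphisms from an affine scheme to `P^n_R` with the same relations are equal.
-/
import Groth.Agent.Lib.GenCoverH3
import Groth.Agent.Lib.ModIsoGlueH3
import Groth.Agent.Lib.ProjSpaceUniqH3
import Groth.Agent.Lib.H4GenBy
import Groth.Agent.Lib.H90InvertiblePullback

set_option autoImplicit false
set_option linter.style.haveILetI false
universe u
open CategoryTheory AlgebraicGeometry TopologicalSpace Opposite
open Groth.Agent.Lib.H90Invertible Groth.Agent.Lib.H78TensorGen Groth.Agent.Lib.H78SecCoord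
open Groth.Agent.Lib.H78Atlas Groth.Agent.Lib.PullSecH3 Groth.Agent.Lib.QCohStalk
open Groth.Agent.Lib.GenCoverH3

namespace Groth.Agent.Lib.SecKernelH3

section Affine

variable {Y : Scheme.{u}} {L₁ L₂ : Y.Modules} {ι : Type} [Fintype ι] [DecidableEq ι]
  (t : ι → Γ(L₁, ⊤)) (t' : ι → Γ(L₂, ⊤))

theorem sum_single_sub (i k : ι) (x y : Γ(Y, ⊤)) (t : ι → Γ(L₁, ⊤)) :
    ∑ j, ((Pi.single k x : ι → Γ(Y, ⊤)) j - (Pi.single i y : ι → Γ(Y, ⊤)) j) • t j = x • t k - y • t i := by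
  simp only [sub_smul, Finset.sum_sub_distrib, Pi.single_apply, ite_smul, zero_smul,
    Finset.sum_ite_eq', Finset.mem_univ, if_true]

theorem rf_pow {V W : Y.Opens} (h : W ≤ V) (a : Γ(Y, V)) (n : ℕ) : rf h (a ^ n) = rf h a ^ n :=
  map_pow (Y.presheaf.map (homOfLE h).op).hom a n

theorem rf_mul {V W : Y.Opens} (h : W ≤ V) (a b : Γ(Y, V)) : rf h (a * b) = rf h a * rf h b :=
  map_mul (Y.presheaf.map (homOfLE h).op).hom a b

/-- key local lemma: a relation-preserving family has the same ratios on basic opens inside `U t i` -/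
theorem res_eq_ratio_smul (hY : IsAffineOpen (⊤ : Y.Opens)) [L₁.IsQuasicoherent]
    (H : ∀ c : ι → Γ(Y, ⊤), ∑ k, c k • t k = 0 → ∑ k, c k • t' k = 0)
    (i k : ι) (g : Γ(Y, ⊤)) (hg : Y.basicOpen g ≤ U t i) :
    rs L₂ (le_top : Y.basicOpen g ≤ ⊤) (t' k) = rf hg (ratio t i k) • rs L₂ le_top (t' i) := by
  have hloc := hY.isLocalization_basicOpen g
  set a : Γ(Y, Y.basicOpen g) := rf hg (ratio t i k) with ha
  obtain ⟨m, b, hb⟩ := IsLocalization.Away.surj g a
  have hb' : a * (rf (le_top : Y.basicOpen g ≤ ⊤) g) ^ m = rf le_top b := hb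
  -- the section σ vanishing on W
  have hσ : res L₁ (Y.basicOpen_le g) (g ^ m • t k - b • t i) = 0 := by
    change rs L₁ _ (g ^ m • t k - b • t i) = 0
    have h1 : rs L₁ (Y.basicOpen_le g) (g ^ m • t k - b • t i) =
        rs L₁ (Y.basicOpen_le g) (g ^ m • t k) - rs L₁ (Y.basicOpen_le g) (b • t i) :=
      map_sub (L₁.presheaf.map (homOfLE (Y.basicOpen_le g)).op).hom _ _
    rw [h1, rs_smul, rs_smul, ratio_spec_le t i k hg, ← mul_smul, rf_pow]
    have h2 : rf (Y.basicOpen_le g) b = a * (rf (le_top : Y.basicOpen g ≤ ⊤) g) ^ m := hb'.symm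
    rw [h2, mul_comm, sub_self]
  obtain ⟨m', hm'⟩ := exists_pow_smul_eq_zero L₁ hY g _ hσ
  have hrel : ∑ j, ((Pi.single k (g ^ (m' + m)) : ι → Γ(Y, ⊤)) j -
      (Pi.single i (g ^ m' * b) : ι → Γ(Y, ⊤)) j) • t j = 0 := by
    rw [sum_single_sub, pow_add, mul_smul, mul_smul, ← smul_sub]
    exact hm'
  have hrel' := H _ hrel
  rw [sum_single_sub] at hrel'
  have h3 := congrArg (rs L₂ (le_top : Y.basicOpen g ≤ ⊤)) hrel'
  have h4 : rs L₂ (le_top : Y.basicOpen g ≤ ⊤) (g ^ (m' + m) • t' k - (g ^ m' * b) • t' i) =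
      rs L₂ le_top (g ^ (m' + m) • t' k) - rs L₂ le_top ((g ^ m' * b) • t' i) :=
    map_sub (L₂.presheaf.map (homOfLE (le_top : Y.basicOpen g ≤ ⊤)).op).hom _ _
  have h5 : rs L₂ (le_top : Y.basicOpen g ≤ ⊤) (0 : Γ(L₂, ⊤)) = 0 :=
    map_zero (L₂.presheaf.map (homOfLE (le_top : Y.basicOpen g ≤ ⊤)).op).hom
  rw [h4, h5, rs_smul, rs_smul, sub_eq_zero, rf_mul, rf_pow, rf_pow, ← hb'] at h3
  have hu : IsUnit (rf (le_top : Y.basicOpen g ≤ ⊤) g) := RingedSpace.isUnit_res_basicOpen _ g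
  have hu' : IsUnit ((rf (le_top : Y.basicOpen g ≤ ⊤) g) ^ (m' + m)) := hu.pow _
  obtain ⟨v, hv⟩ := hu'
  have h6 : (rf (le_top : Y.basicOpen g ≤ ⊤) g) ^ m' * (a * (rf (le_top : Y.basicOpen g ≤ ⊤) g) ^ m) =
      (rf (le_top : Y.basicOpen g ≤ ⊤) g) ^ (m' + m) * a := by ring
  rw [h6, mul_smul, ← hv] at h3
  have h7 := congrArg (fun z => (↑v⁻¹ : Γ(Y, Y.basicOpen g)) • z) h3
  simpa only [smul_smul, Units.inv_mul, one_smul, ← mul_assoc, one_mul] using h7

/-- the ratios of `t'` agree with those of `t` on the whole generating locus `U t i` -/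
theorem res_eq_ratio_smul_U (hY : IsAffineOpen (⊤ : Y.Opens)) [L₁.IsQuasicoherent]
    (H : ∀ c : ι → Γ(Y, ⊤), ∑ k, c k • t k = 0 → ∑ k, c k • t' k = 0) (i k : ι) :
    rs L₂ (le_top : U t i ≤ ⊤) (t' k) = ratio t i k • rs L₂ le_top (t' i) := by
  refine sec_ext L₂ _ _ (fun x hx => ?_)
  obtain ⟨g, hg, hxg⟩ := hY.exists_basicOpen_le (⟨x, hx⟩ : U t i) trivial
  refine ⟨Y.basicOpen g, hg, hxg, ?_⟩
  rw [rs_rs, rs_smul, rs_rs]
  exact res_eq_ratio_smul t t' hY H i k g hg

/-- the generating locus of `t i` is contained in that of `t' i` -/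
theorem U_le_U (hY : IsAffineOpen (⊤ : Y.Opens)) [L₁.IsQuasicoherent]
    (hL₂ : PicF.IsInvertible L₂) (ht' : ProjUP.GeneratedBy L₂ t')
    (H : ∀ c : ι → Γ(Y, ⊤), ∑ k, c k • t k = 0 → ∑ k, c k • t' k = 0) (i : ι) :
    U t i ≤ U t' i := by
  apply le_U
  have hcov := iSup_U_eq_top t' hL₂ ht'
  refine isGen_of_cover _ (fun k => U t i ⊓ U t' k) (fun k => inf_le_left) ?_ (fun k => ?_)
  · intro x hx
    have hx' : x ∈ ⨆ k, U t' k := by rw [hcov]; trivial
    obtain ⟨k, hk⟩ := Opens.mem_iSup.1 hx'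
    exact Opens.mem_iSup.2 ⟨k, hx, hk⟩
  · rw [rs_rs]
    -- on `U t i ⊓ U t' k`, `t' k` generates and `t' k = ratio • t' i`
    have hgen : IsGen L₂ (U t i ⊓ U t' k) (rs L₂ le_top (t' k)) := by
      have : IsGen L₂ (U t i ⊓ U t' k) (rs L₂ inf_le_right (rs L₂ le_top (t' k))) :=
        (isGen_U t' k).mono (inf_le_right : U t i ⊓ U t' k ≤ U t' k)
      rwa [rs_rs] at this
    have h1 := congrArg (rs L₂ (inf_le_left : U t i ⊓ U t' k ≤ U t i)) (res_eq_ratio_smul_U t t' hY H i k)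
    rw [rs_rs, rs_smul, rs_rs] at h1
    have hu := Groth.Agent.Lib.ProjSpaceUniqH3.isUnit_of_isGen_smul hgen _ h1
    obtain ⟨v, hv⟩ := hu
    have h2 : rs L₂ (le_top : U t i ⊓ U t' k ≤ ⊤) (t' i) =
        (↑v⁻¹ : Γ(Y, U t i ⊓ U t' k)) • rs L₂ le_top (t' k) := by
      rw [h1, ← hv, smul_smul, Units.inv_mul, one_smul]
    rw [h2]
    exact (isGen_smul_iff hgen _).2 (Units.isUnit _)

/-- **Relations determine the pair (module, sections)**: over an affine scheme, if every linear relation among the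
generating sections `t` of the invertible module `L₁` also holds among the generating sections `t'` of the invertible
module `L₂`, there is an isomorphism `L₁ ≅ L₂` carrying `t k` to `t' k`. -/
theorem exists_iso_of_relations (hY : IsAffineOpen (⊤ : Y.Opens))
    (hL₁ : PicF.IsInvertible L₁) (ht : ProjUP.GeneratedBy L₁ t)
    (hL₂ : PicF.IsInvertible L₂) (ht' : ProjUP.GeneratedBy L₂ t')
    (H : ∀ c : ι → Γ(Y, ⊤), ∑ k, c k • t k = 0 → ∑ k, c k • t' k = 0) :
    ∃ φ : L₁ ≅ L₂, ∀ k, φ.hom.app ⊤ (t k) = t' k := by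
  haveI : L₁.IsQuasicoherent := isQCoh_of_isInvertible hL₁
  refine Groth.Agent.Lib.ModIsoGlueH3.exists_iso_of_ratios (U := U t) (iSup_U_eq_top t hL₁ ht)
    (fun i => isGen_U t i) (fun i => ?_) (fun i k => ratio t i k) (fun i k => ratio_spec t i k)
    (fun i k => res_eq_ratio_smul_U t t' hY H i k)
  have : IsGen L₂ (U t i) (rs L₂ (U_le_U t t' hY hL₂ ht' H i) (rs L₂ le_top (t' i))) :=
    (isGen_U t' i).mono (U_le_U t t' hY hL₂ ht' H i)
  rwa [rs_rs] at this

end Affine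

section Proj

open Twist AlgebraicGeometry.Scheme.Modules Groth.Agent.Lib.ProjSpaceCoordH3 Groth.Agent.Lib.ProjSpacePullH3

variable (n : ℕ) (R : Type u) [CommRing R] {X : Scheme.{u}} (f : X ⟶ Proj (CohB1.polyGrading n R))

local notation "𝒜" => CohB1.polyGrading n R
local notation "O1" => twist (CohB1.polyGrading n R) 1

theorem isInvertible_pullback_O1 : PicF.IsInvertible ((pullback f).obj O1) :=
  isInvertible_pullback f (isInvertible_O1 n R)

theorem generatedBy_pullSec :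
    ProjUP.GeneratedBy ((pullback f).obj O1) (fun i => ProjUP.pullSec f O1 (ProjUP.coord n R i)) := by
  apply Groth.Agent.Lib.H4Twist.generatedBy_of_isGen
  intro x
  obtain ⟨j, hj⟩ := exists_mem_D n R (f x)
  refine ⟨j, f ⁻¹ᵁ D n R j, hj, ?_⟩
  have h1 : s n R f j = ((pullback f).obj O1).presheaf.map (homOfLE (le_top : f ⁻¹ᵁ D n R j ≤ ⊤)).op
      (ProjUP.pullSec f O1 (ProjUP.coord n R j)) :=
    unitV_res f O1 (le_top : D n R j ≤ ⊤) (ProjUP.coord n R j)
  rw [← h1]
  exact isGen_s n R f j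

/-- two morphisms from an affine scheme to `P^n_R` over `R` such that every linear relation among the `r^* X_i` also
holds among the `r'^* X_i` are equal -/
theorem hom_ext_of_relations (hX : IsAffineOpen (⊤ : X.Opens)) (r r' : X ⟶ Proj (CohB1.polyGrading n R))
    (hrr' : r ≫ (CohB1.ProjSpace.toSpec n R : Proj (CohB1.polyGrading n R) ⟶ _) =
      r' ≫ (CohB1.ProjSpace.toSpec n R : Proj (CohB1.polyGrading n R) ⟶ _))
    (H : ∀ c : Fin (n + 1) → Γ(X, ⊤),
      ∑ k, c k • ProjUP.pullSec r O1 (ProjUP.coord n R k) = 0 →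
      ∑ k, c k • ProjUP.pullSec r' O1 (ProjUP.coord n R k) = 0) : r = r' := by
  obtain ⟨φ, hφ⟩ := exists_iso_of_relations
    (fun k => ProjUP.pullSec r O1 (ProjUP.coord n R k)) (fun k => ProjUP.pullSec r' O1 (ProjUP.coord n R k))
    hX (isInvertible_pullback_O1 n R r) (generatedBy_pullSec n R r)
    (isInvertible_pullback_O1 n R r') (generatedBy_pullSec n R r') H
  exact Groth.Agent.Lib.ProjSpaceUniqH3.hom_ext_of_iso n R r r' φ hφ hrr'

end Proj

end Groth.Agent.Lib.SecKernelH3
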