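/-
# Tensor product of a very ample module and a globally generated one (helper3, keystone VeryAmple)

* `resLE_comp_chart`, `isGen_preimage_D`;
* `exists_sections n i hiso`: a very ample structure `L ≅ i^*O(1)` yields generating sections `t_k` of `L` whose charts are those
  of `i ≫ fstP`;
* `tens t s`, `generatedBy_tens`, `U_tens_le_left`, `ratio_tens`, `ratio_tens'`: the products `t_k ⊗ s_l`;
* `generatedBy_comp_of_surjective`, `ZZ_hom_ext`;
* `isImmersion_restrict_of_ratio`: comparison of two projective morphisms through ratios of sections;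
* `isRelVeryAmplePn_tensor q hva hL' s hs`: `L` very ample (P^n form) and `L'` invertible generated by finitely many global
  sections ⇒ `L ⊗ L'` very ample (any base `S`).
-/
import Groth.Agent.Lib.VeryAmpleH3
import Groth.Agent.Lib.SecKernelH3
import Groth.Agent.Lib.GradedHomH3

set_option autoImplicit false
set_option linter.style.haveILetI false
universe u
open CategoryTheory CategoryTheory.Limits AlgebraicGeometry TopologicalSpace Opposite Twist MvPolynomial
  HomogeneousLocalization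
open AlgebraicGeometry.Scheme.Modules
open Groth.Agent.Lib.H90Invertible Groth.Agent.Lib.H4Twist Groth.Agent.Lib
open Groth.Agent.Lib.PullSecH3 Groth.Agent.Lib.ProjSpaceCoordH3 Groth.Agent.Lib.QCohStalk
open Groth.Agent.Lib.ProjSpacePullH3 Groth.Agent.Lib.ProjSpaceUniqH3
open Groth.Agent.Lib.H78TensorGen Groth.Agent.Lib.H78SecCoord Groth.Agent.Lib.H78Atlas
open Groth.Agent.Lib.GenCoverH3 Groth.Agent.Lib.AwayLiftH3 Groth.Agent.Lib.ProjChartH3
open Groth.Agent.Lib.ModIsoGlueH3 Groth.Agent.Lib.ProjSpaceExistH3 Groth.Agent.Lib.VeryAmpleH3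

namespace Groth.Agent.Lib.VeryAmpleTensorH3

section Chart

variable {R A : Type u} [CommRing R] [CommRing A] [Algebra R A] {𝒜 : ℕ → Submodule R A} [GradedAlgebra 𝒜]
variable {X Y : Scheme.{u}}

/-- composing a chart map with a restricted morphism -/
theorem resLE_comp_chart {f : A} {d : ℕ} (hf : f ∈ 𝒜 d) (hd : 0 < d) (g : Y ⟶ X) (U : X.Opens) (W : Y.Opens)
    (e : W ≤ g ⁻¹ᵁ U) (ψ : Away 𝒜 f →+* Γ(X, U)) :
    g.resLE U W e ≫ chart 𝒜 hf hd U ψ = chart 𝒜 hf hd W ((g.appLE U W e).hom.comp ψ) := by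
  unfold chart
  rw [← Scheme.Opens.toSpecΓ_SpecMap_appLE_assoc, ← Spec.map_comp_assoc]
  rfl

end Chart

section Sections

variable {X : Scheme.{u}} {L : X.Modules} (n : ℕ) (R : Type u) [CommRing R]

/-- the generating locus of `φ(r^* X_k)` contains `r⁻¹ D_k` -/
theorem isGen_preimage_D (r : X ⟶ Proj (CohB1.polyGrading n R))
    (φ : (Scheme.Modules.pullback r).obj (twist (CohB1.polyGrading n R) 1) ≅ L) (k : Fin (n + 1)) :
    IsGen L (r ⁻¹ᵁ D n R k) (rs L le_top (φ.hom.app ⊤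
      (ProjUP.pullSec r (twist (CohB1.polyGrading n R) 1) (ProjUP.coord n R k)))) := by
  have hgen : IsGen L (r ⁻¹ᵁ D n R k) (φ.hom.app (r ⁻¹ᵁ D n R k) (ProjSpacePullH3.s n R r k)) :=
    (isGen_s n R r k).of_iso φ
  have h1 : ProjSpacePullH3.s n R r k =
      ((Scheme.Modules.pullback r).obj (twist (CohB1.polyGrading n R) 1)).presheaf.map
        (homOfLE (le_top : r ⁻¹ᵁ D n R k ≤ ⊤)).op
      (ProjUP.pullSec r (twist (CohB1.polyGrading n R) 1) (ProjUP.coord n R k)) :=
    unitV_res r (twist (CohB1.polyGrading n R) 1) (le_top : D n R k ≤ ⊤) (ProjUP.coord n R k)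
  rw [h1, app_res] at hgen
  exact hgen

end Sections

section FromVeryAmple

variable {X S : Scheme.{u}} (n : ℕ) (i : X ⟶ CohB1.ProjSpaceOver n S) {L : X.Modules}

/-- **from a very ample structure to sections**: if `L ≅ i^*O(1)` for `i : X ⟶ P^n_S`, then `L` carries generating
sections `t_k` (the pulled back coordinates) whose associated charts are those of `i ≫ fstP`. -/
theorem exists_sections (hiso : L ≅ (Scheme.Modules.pullback i).obj (Twist.twistOver n S 1)) :
    ∃ t : Fin (n + 1) → Γ(L, ⊤), PicF.IsInvertible L ∧ ProjUP.GeneratedBy L t ∧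
      ∀ k, (U t k).ι ≫ (i ≫ fstP n S) =
        chart (CohB1.polyGrading n ZZ.{u}) (X_mem n ZZ.{u} k) Nat.one_pos (U t k)
          (awayLift (CohB1.polyGrading n ZZ.{u}) (MvPolynomial.X k) (Φ n ZZ.{u} (qZ X) t k)
            (isUnit_Φ n ZZ.{u} (qZ X) t k)) := by
  set r : X ⟶ Proj (CohB1.polyGrading n ZZ.{u}) := i ≫ fstP n S with hrdef
  let φ : (Scheme.Modules.pullback r).obj (twist (CohB1.polyGrading n ZZ.{u}) 1) ≅ L :=
    ((Scheme.Modules.pullbackComp i (fstP n S)).symm.app (twist (CohB1.polyGrading n ZZ.{u}) 1)) ≪≫ hiso.symm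
  have hLr := Groth.Agent.Lib.SecKernelH3.isInvertible_pullback_O1 n ZZ.{u} r
  have hL : PicF.IsInvertible L := isInvertible_of_iso φ hLr
  let t : Fin (n + 1) → Γ(L, ⊤) := fun k => φ.hom.app ⊤
    (ProjUP.pullSec r (twist (CohB1.polyGrading n ZZ.{u}) 1) (ProjUP.coord n ZZ.{u} k))
  have ht : ProjUP.GeneratedBy L t := by
    apply Groth.Agent.Lib.H4Twist.generatedBy_of_isGen
    intro x
    obtain ⟨j, hj⟩ := exists_mem_D n ZZ.{u} (r x)
    exact ⟨j, r ⁻¹ᵁ D n ZZ.{u} j, hj, isGen_preimage_D n ZZ.{u} r φ j⟩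
  refine ⟨t, hL, ht, ?_⟩
  obtain ⟨r', hr'⟩ := ProjSpaceExistH3.exists_hom n ZZ.{u} (qZ X) t hL ht
  obtain ⟨φ', hφ'⟩ := ProjSpaceExistH3.exists_iso n ZZ.{u} (qZ X) t hL ht r' hr'
  have heq : r' = r := by
    refine hom_ext_of_iso n ZZ.{u} r' r (φ' ≪≫ φ.symm) (fun k => ?_) (specULiftZIsTerminal.hom_ext _ _)
    change φ.inv.app ⊤ (φ'.hom.app ⊤ _) = _
    rw [hφ' k]
    change (φ.hom ≫ φ.inv).app ⊤ _ = _
    rw [Iso.hom_inv_id]
    rfl
  rw [← heq]
  exact hr'

end FromVeryAmple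

section TensorSections

variable {X : Scheme.{u}} {L L' : X.Modules} {ι κ : Type*} (t : ι → Γ(L, ⊤)) (s : κ → Γ(L', ⊤))

/-- the products `t_k ⊗ s_l` -/
noncomputable def tens : ι × κ → Γ(CohB1.tensorMod L L', ⊤) := fun p => tmul (t p.1) (s p.2)

theorem inf_le_U_tens (p : ι × κ) : U t p.1 ⊓ U s p.2 ≤ U (tens t s) p := by
  apply le_U
  have h1 : rs (CohB1.tensorMod L L') (le_top : U t p.1 ⊓ U s p.2 ≤ ⊤) (tens t s p) =
      tmul (rs L le_top (t p.1)) (rs L' le_top (s p.2)) := tmul_rs _ _ _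
  rw [h1]
  have h2 : IsGen L (U t p.1 ⊓ U s p.2) (rs L le_top (t p.1)) := by
    have : IsGen L (U t p.1 ⊓ U s p.2) (rs L inf_le_left (rs L le_top (t p.1))) :=
      (isGen_U t p.1).mono (inf_le_left : U t p.1 ⊓ U s p.2 ≤ U t p.1)
    rwa [rs_rs] at this
  have h3 : IsGen L' (U t p.1 ⊓ U s p.2) (rs L' le_top (s p.2)) := by
    have : IsGen L' (U t p.1 ⊓ U s p.2) (rs L' inf_le_right (rs L' le_top (s p.2))) :=
      (isGen_U s p.2).mono (inf_le_right : U t p.1 ⊓ U s p.2 ≤ U s p.2)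
    rwa [rs_rs] at this
  exact isGen_tmul h2 h3

theorem generatedBy_tens (hL : PicF.IsInvertible L) (hL' : PicF.IsInvertible L')
    (ht : ProjUP.GeneratedBy L t) (hs : ProjUP.GeneratedBy L' s) :
    ProjUP.GeneratedBy (CohB1.tensorMod L L') (tens t s) := by
  apply Groth.Agent.Lib.H4Twist.generatedBy_of_isGen
  intro x
  have h1 := iSup_U_eq_top t hL ht
  have h2 := iSup_U_eq_top s hL' hs
  obtain ⟨k, hk⟩ : ∃ k, x ∈ U t k := by
    have hx : x ∈ ⨆ k, U t k := by rw [h1]; trivial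
    exact Opens.mem_iSup.1 hx
  obtain ⟨l, hl⟩ : ∃ l, x ∈ U s l := by
    have hx : x ∈ ⨆ k, U s k := by rw [h2]; trivial
    exact Opens.mem_iSup.1 hx
  refine ⟨(k, l), U (tens t s) (k, l), inf_le_U_tens t s (k, l) ⟨hk, hl⟩, isGen_U (tens t s) (k, l)⟩

/-- `X_{t ⊗ s} ⊆ X_t` -/
theorem U_tens_le_left (hL : PicF.IsInvertible L) (hL' : PicF.IsInvertible L') (p : ι × κ) :
    U (tens t s) p ≤ U t p.1 := by
  intro x hx
  obtain ⟨V, hxV, e, he⟩ := (isInvertible_iff_exists_isGen L).1 hL x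
  obtain ⟨V', hxV', e', he'⟩ := (isInvertible_iff_exists_isGen L').1 hL' x
  set W := U (tens t s) p ⊓ (V ⊓ V') with hW
  have hxW : x ∈ W := ⟨hx, hxV, hxV'⟩
  have hWV : W ≤ V := inf_le_right.trans inf_le_left
  have hWV' : W ≤ V' := inf_le_right.trans inf_le_right
  have hWU : W ≤ U (tens t s) p := inf_le_left
  set a := coord he hWV (rs L le_top (t p.1)) with ha
  set b := coord he' hWV' (rs L' le_top (s p.2)) with hb
  have ha' : a • rs L hWV e = rs L le_top (t p.1) := coord_spec he hWV _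
  have hb' : b • rs L' hWV' e' = rs L' le_top (s p.2) := coord_spec he' hWV' _
  have hgen : IsGen (CohB1.tensorMod L L') W (rs _ le_top (tens t s p)) := by
    have : IsGen (CohB1.tensorMod L L') W (rs _ hWU (rs _ le_top (tens t s p))) :=
      (isGen_U (tens t s) p).mono hWU
    rwa [rs_rs] at this
  have h1 : rs (CohB1.tensorMod L L') (le_top : W ≤ ⊤) (tens t s p) =
      (a * b) • tmul (rs L hWV e) (rs L' hWV' e') := by
    have : rs (CohB1.tensorMod L L') (le_top : W ≤ ⊤) (tens t s p) =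
        tmul (rs L le_top (t p.1)) (rs L' le_top (s p.2)) := tmul_rs _ _ _
    rw [this, ← ha', ← hb', smul_tmul, tmul_smul, smul_smul]
  have hu : IsUnit (a * b) := isUnit_of_isGen_smul hgen _ h1
  have hua : IsUnit a := isUnit_of_mul_isUnit_left hu
  refine le_U t ?_ hxW
  rw [← ha']
  exact (isGen_smul_iff (he.mono hWV) _).2 hua

/-- the ratios of the products with the same second factor are the ratios of the first factors -/
theorem ratio_tens (hL : PicF.IsInvertible L) (hL' : PicF.IsInvertible L') (k k' : ι) (l : κ) :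
    ratio (tens t s) (k, l) (k', l) = rf (U_tens_le_left t s hL hL' (k, l)) (ratio t k k') := by
  symm
  apply ratio_unique
  have h1 : ∀ k'', rs (CohB1.tensorMod L L') (le_top : U (tens t s) (k, l) ≤ ⊤) (tens t s (k'', l)) =
      tmul (rs L le_top (t k'')) (rs L' le_top (s l)) := fun k'' => tmul_rs _ _ _
  rw [h1 k', h1 k, ratio_spec_le t k k' (U_tens_le_left t s hL hL' (k, l)), smul_tmul]


/-- restated with pairs, avoiding dependent rewriting of indices -/
theorem ratio_tens' (hL : PicF.IsInvertible L) (hL' : PicF.IsInvertible L') (p p' : ι × κ) (h : p'.2 = p.2) :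
    ratio (tens t s) p p' = rf (U_tens_le_left t s hL hL' p) (ratio t p.1 p'.1) := by
  obtain ⟨k, l⟩ := p
  obtain ⟨k', l'⟩ := p'
  simp only at h
  subst h
  exact ratio_tens t s hL hL' k k' l'

end TensorSections

section Reindex

theorem generatedBy_comp_of_surjective {X : Scheme.{u}} {M : X.Modules} {ι ι' : Type*} (f : ι → Γ(M, ⊤))
    (e : ι' → ι) (he : Function.Surjective e) (hf : ProjUP.GeneratedBy M f) :
    ProjUP.GeneratedBy M (fun j => f (e j)) := by
  intro x
  rw [← hf x]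
  congr 1
  exact he.range_comp (fun i => (M.presheaf.germ ⊤ x trivial).hom (f i))

/-- ring homs out of `ZZ` are unique -/
theorem ZZ_hom_ext {B : Type*} [NonAssocSemiring B] (f g : ZZ.{u} →+* B) : f = g := by
  have h : f.comp (ULift.ringEquiv (R := ℤ)).symm.toRingHom =
      g.comp (ULift.ringEquiv (R := ℤ)).symm.toRingHom := RingHom.ext_int _ _
  ext x
  exact RingHom.congr_fun h x.down

end Reindex

section Compare

variable {X S : Scheme.{u}} {L M : X.Modules} (n N : ℕ)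
  (t : Fin (n + 1) → Γ(L, ⊤)) (su : Fin (N + 1) → Γ(M, ⊤))
  (i : X ⟶ CohB1.ProjSpaceOver n S) (i' : X ⟶ CohB1.ProjSpaceOver N S)
  (hr : ∀ k, (U t k).ι ≫ (i ≫ fstP n S) =
    chart (CohB1.polyGrading n ZZ.{u}) (X_mem n ZZ.{u} k) Nat.one_pos (U t k)
      (awayLift (CohB1.polyGrading n ZZ.{u}) (MvPolynomial.X k) (Φ n ZZ.{u} (qZ X) t k)
        (isUnit_Φ n ZZ.{u} (qZ X) t k)))
  (hr' : ∀ j, (U su j).ι ≫ (i' ≫ fstP N S) =
    chart (CohB1.polyGrading N ZZ.{u}) (X_mem N ZZ.{u} j) Nat.one_pos (U su j)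
      (awayLift (CohB1.polyGrading N ZZ.{u}) (MvPolynomial.X j) (Φ N ZZ.{u} (qZ X) su j)
        (isUnit_Φ N ZZ.{u} (qZ X) su j)))
  (hpre' : ∀ j, (i' ≫ fstP N S) ⁻¹ᵁ D N ZZ.{u} j = U su j)
  (hsnd : i' ≫ sndP N S = i ≫ sndP n S)

include hr hr' hpre' hsnd in
/-- **comparison of projective embeddings**: if on `X_{su_j}` the ratios `su_{c k'} / su_j` restrict the ratios
`t_{k'} / t_k` of a system of sections defining an immersion, then the morphism defined by `su` is an immersion over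
`D_+(T_j)`. -/
theorem isImmersion_restrict_of_ratio [IsImmersion i] (j : Fin (N + 1)) (k : Fin (n + 1)) (hle : U su j ≤ U t k)
    (c : Fin (n + 1) → Fin (N + 1)) (hck : c k = j)
    (hc : ∀ k', ratio su j (c k') = rf hle (ratio t k k')) :
    IsImmersion (i' ∣_ (fstP N S ⁻¹ᵁ D N ZZ.{u} j)) := by
  set V : (CohB1.ProjSpaceOver N S).Opens := fstP N S ⁻¹ᵁ D N ZZ.{u} j with hV
  set W : X.Opens := U su j with hW
  have heq : W = i' ⁻¹ᵁ V := by rw [hW, ← hpre' j]; rfl
  let Ψ : MvPolynomial (Fin (n + 1)) ZZ.{u} →+* Γ(CohB1.ProjSpaceOver N S, V) :=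
    eval₂Hom (ρ (qZ (CohB1.ProjSpaceOver N S)) V)
      (fun k' => ((fstP N S).app (D N ZZ.{u} j)).hom (τ N ZZ.{u} (c k') j))
  have hΨX : ∀ k', Ψ (MvPolynomial.X k') = ((fstP N S).app (D N ZZ.{u} j)).hom (τ N ZZ.{u} (c k') j) :=
    fun k' => eval₂Hom_X' _ _ _
  have hΨk : Ψ (MvPolynomial.X k) = 1 := by
    rw [hΨX, hck, τ_self, map_one]
  have hΨu : IsUnit (Ψ (MvPolynomial.X k)) := hΨk ▸ isUnit_one
  let ψV := awayLift (CohB1.polyGrading n ZZ.{u}) (MvPolynomial.X k) Ψ hΨu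
  let g₁ : V.toScheme ⟶ Proj (CohB1.polyGrading n ZZ.{u}) :=
    chart (CohB1.polyGrading n ZZ.{u}) (X_mem n ZZ.{u} k) Nat.one_pos V ψV
  have hcomp : g₁ ≫ (CohB1.ProjSpace.toSpec n ZZ.{u} : Proj (CohB1.polyGrading n ZZ.{u}) ⟶ _) =
      (V.ι ≫ sndP N S) ≫ specULiftZIsTerminal.from S := specULiftZIsTerminal.hom_ext _ _
  let g : V.toScheme ⟶ CohB1.ProjSpaceOver n S := pullback.lift g₁ (V.ι ≫ sndP N S) hcomp
  have hg1 : g ≫ fstP n S = g₁ := pullback.lift_fst _ _ _
  have hg2 : g ≫ sndP n S = V.ι ≫ sndP N S := pullback.lift_snd _ _ _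
  have key : i'.resLE V W heq.le ≫ g = W.ι ≫ i := by
    apply pullback.hom_ext
    · change (i'.resLE V W heq.le ≫ g) ≫ fstP n S = (W.ι ≫ i) ≫ fstP n S
      rw [Category.assoc, hg1, Category.assoc]
      have h1 : W.ι = X.homOfLE hle ≫ (U t k).ι := (Scheme.homOfLE_ι X hle).symm
      rw [h1, Category.assoc, hr k, homOfLE_chart, resLE_comp_chart]
      refine chart_congr _ _ _ _ W ?_
      refine Groth.Agent.Lib.GradedHomH3.away_hom_ext_of_gen (CohB1.polyGrading n ZZ.{u}) (fun k => MvPolynomial.X k)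
        MvPolynomial.adjoin_range_X (X_mem n ZZ.{u}) k _ _ (fun z => ?_) (fun k' => ?_)
      · exact RingHom.congr_fun (ZZ_hom_ext
          (((i'.appLE V W heq.le).hom.comp ψV).comp
            ((algebraMap (CohB1.polyGrading n ZZ.{u} 0) (Away (CohB1.polyGrading n ZZ.{u}) (MvPolynomial.X k))).comp
              (algebraMap ZZ.{u} (CohB1.polyGrading n ZZ.{u} 0))))
          (((X.presheaf.map (homOfLE hle).op).hom.comp
              (awayLift (CohB1.polyGrading n ZZ.{u}) (MvPolynomial.X k) (Φ n ZZ.{u} (qZ X) t k)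
                (isUnit_Φ n ZZ.{u} (qZ X) t k))).comp
            ((algebraMap (CohB1.polyGrading n ZZ.{u} 0) (Away (CohB1.polyGrading n ZZ.{u}) (MvPolynomial.X k))).comp
              (algebraMap ZZ.{u} (CohB1.polyGrading n ZZ.{u} 0))))) z
      · rw [RingHom.comp_apply, RingHom.comp_apply]
        have h2 := awayLift_mk_mul Ψ hΨu (X_mem n ZZ.{u} k) 1 (MvPolynomial.X k')
          (Groth.Agent.Lib.GradedHomH3.mem_smul_one (CohB1.polyGrading n ZZ.{u}) (X_mem n ZZ.{u} k'))
        rw [hΨk, one_pow, mul_one, hΨX] at h2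
        have h3 := awayLift_mk_mul (Φ n ZZ.{u} (qZ X) t k) (isUnit_Φ n ZZ.{u} (qZ X) t k) (X_mem n ZZ.{u} k) 1
          (MvPolynomial.X k') (Groth.Agent.Lib.GradedHomH3.mem_smul_one (CohB1.polyGrading n ZZ.{u}) (X_mem n ZZ.{u} k'))
        rw [Φ_X, Φ_X, ratio_self, one_pow, mul_one] at h3
        rw [h3]
        change (i'.appLE V W heq.le).hom (ψV _) = _
        rw [h2]
        have h4 := ProjSpaceExistH3.appLE_τ N ZZ.{u} (qZ X) su (i' ≫ fstP N S) hr' j (c k')
        have h5 : (i' ≫ fstP N S).appLE (D N ZZ.{u} j) W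
            (ProjSpaceExistH3.le_preimage N ZZ.{u} (qZ X) su (i' ≫ fstP N S) hr' j) =
            (fstP N S).app (D N ZZ.{u} j) ≫ i'.appLE V W heq.le :=
          Scheme.Hom.comp_appLE i' (fstP N S) _ _ _
        rw [h5] at h4
        exact h4.trans (hc k')
    · change (i'.resLE V W heq.le ≫ g) ≫ sndP n S = (W.ι ≫ i) ≫ sndP n S
      rw [Category.assoc, hg2, Scheme.Hom.resLE_comp_ι_assoc, hsnd, Category.assoc]
  have h2 : IsImmersion (i'.resLE V W heq.le ≫ g) := by rw [key]; infer_instance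
  have h3 : IsImmersion (i'.resLE V W heq.le) := IsImmersion.of_comp _ g
  have h4 : i' ∣_ V = X.homOfLE heq.ge ≫ i'.resLE V W heq.le := by
    rw [Scheme.Hom.map_resLE, Scheme.Hom.resLE_eq_morphismRestrict]
  rw [h4]
  infer_instance

end Compare

section Main

variable {X S : Scheme.{u}} (q : X ⟶ S) {L L' : X.Modules}

/-- tensor product of a very ample module with a module generated by `m + 1` global sections -/
theorem isRelVeryAmplePn_tensor_succ (hva : RelAmple.IsRelVeryAmplePn q L) (hL' : PicF.IsInvertible L') {m : ℕ}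
    (s : Fin (m + 1) → Γ(L', ⊤)) (hs : ProjUP.GeneratedBy L' s) :
    RelAmple.IsRelVeryAmplePn q (CohB1.tensorMod L L') := by
  obtain ⟨n, i, himm, hq, ⟨hiso⟩⟩ := hva
  obtain ⟨t, hL, ht, hr⟩ := exists_sections n i hiso
  have hpos : 0 < (n + 1) * (m + 1) := Nat.mul_pos n.succ_pos m.succ_pos
  obtain ⟨N, hN⟩ : ∃ N, N + 1 = (n + 1) * (m + 1) := ⟨(n + 1) * (m + 1) - 1, Nat.sub_add_cancel hpos⟩
  let e : Fin (N + 1) ≃ Fin (n + 1) × Fin (m + 1) := (finCongr hN).trans finProdFinEquiv.symm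
  let su : Fin (N + 1) → Γ(CohB1.tensorMod L L', ⊤) := fun j => tens t s (e j)
  have hLL : PicF.IsInvertible (CohB1.tensorMod L L') := isInvertible_tensorMod hL hL'
  have hsu : ProjUP.GeneratedBy (CohB1.tensorMod L L') su :=
    generatedBy_comp_of_surjective (tens t s) e e.surjective (generatedBy_tens t s hL hL' ht hs)
  obtain ⟨r', i', hr', hpre', hfst', hsnd', hiso'⟩ := exists_lift q N su hLL hsu
  refine ⟨N, i', ?_, hsnd', hiso'⟩
  subst hfst'
  have hsnd : i' ≫ sndP N S = i ≫ sndP n S := hsnd'.trans hq.symm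
  refine isImmersion_of_cover i' (fun j => fstP N S ⁻¹ᵁ D N ZZ.{u} j) (fun x => ?_) (fun j => ?_)
  · obtain ⟨j, hj⟩ := exists_mem_D N ZZ.{u} ((i' ≫ fstP N S) x)
    exact ⟨j, hj⟩
  · have hle : U su j ≤ U t (e j).1 := U_tens_le_left t s hL hL' (e j)
    refine isImmersion_restrict_of_ratio n N t su i i' hr hr' hpre' hsnd j (e j).1 hle
      (fun k' => e.symm (k', (e j).2)) (e.symm_apply_apply j) (fun k' => ?_)
    have h1 := ratio_tens' t s hL hL' (e j) (e (e.symm (k', (e j).2)))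
      (by rw [Equiv.apply_symm_apply])
    have h2 : (e (e.symm (k', (e j).2))).1 = k' := by rw [Equiv.apply_symm_apply]
    rw [h2] at h1
    exact h1

/-- **tensor product of a very ample module with a finitely globally generated invertible module is very ample**
(relative to some `P^n_S`) -/
theorem isRelVeryAmplePn_tensor (hva : RelAmple.IsRelVeryAmplePn q L) (hL' : PicF.IsInvertible L') {m : ℕ}
    (s : Fin m → Γ(L', ⊤)) (hs : ProjUP.GeneratedBy L' s) :
    RelAmple.IsRelVeryAmplePn q (CohB1.tensorMod L L') := by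
  rcases m with _ | m
  · -- `X` is empty
    have hX : ∀ x : X, False := by
      intro x
      have h1 := iSup_U_eq_top s hL' hs
      have hx : x ∈ ⨆ k, U s k := by rw [h1]; trivial
      obtain ⟨k, -⟩ := Opens.mem_iSup.1 hx
      exact k.elim0
    exact isRelVeryAmplePn_tensor_succ q hva hL' (fun _ : Fin 1 => (0 : Γ(L', ⊤))) (fun x => (hX x).elim)
  · exact isRelVeryAmplePn_tensor_succ q hva hL' s hs

end Main

end Groth.Agent.Lib.VeryAmpleTensorH3
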