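/-
# Ample ⇒ high tensor powers very ample (helper3, keystone VeryAmple; EGA II 4.5.10 / 4.6.11 in P^n_S form)

* `ratio_eq_of_co`: ratios of sections computed through the coordinates of an atlas;
* `exists_coords`: extension of `a_i^N · b` (b a function on `X_σ`) to compatible coordinates, all large `N`;
* `exists_finset_closure`: finitely many ring generators of `Γ(X, W)` over `Γ(S)` for `q` locally of finite type;
* `exists_isRelVeryAmplePn_of_atlas`: `P` with finitely many sections with affine loci covering `X` ⇒ every `Q` with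
  transition functions `= (trans P)^N`, `N` large, is very ample (S affine, q lft, X quasi-separated);
* `exists_common_power`, `exists_generatedBy_twist` (finite global generation of `O ⊗ L^n`, `n` large);
* `exists_forall_isRelVeryAmplePn_tensorPow q hL : ∃ n₀, ∀ n ≥ n₀, IsRelVeryAmplePn q (L^n)` for `L` ample.
-/
import Groth.Agent.Lib.VeryAmpleH3
import Groth.Agent.Lib.H78KeyLemma2
import Groth.Agent.Lib.H78AtlasOps
import Groth.Agent.Lib.VeryAmpleTensorH3
import Groth.Agent.Lib.OXModTensor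
import Groth.Agent.Lib.H78AmpleBasis
import Groth.Agent.Lib.H78GlobGen2
import Groth.Agent.Lib.VeryAmpleCritH3

set_option autoImplicit false
set_option linter.style.haveILetI false
universe u
open CategoryTheory CategoryTheory.Limits AlgebraicGeometry TopologicalSpace Opposite Twist MvPolynomial
  HomogeneousLocalization
open AlgebraicGeometry.Scheme.Modules
open Groth.Agent.Lib.H90Invertible Groth.Agent.Lib.H4Twist Groth.Agent.Lib
open Groth.Agent.Lib.H78TensorGen Groth.Agent.Lib.H78SecCoord Groth.Agent.Lib.H78Atlas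
open Groth.Agent.Lib.H78AtlasOps Groth.Agent.Lib.H78KeyLemma Groth.Agent.Lib.H78KeyLemma2
open Groth.Agent.Lib.GenCoverH3 Groth.Agent.Lib.VeryAmpleH3 Groth.Agent.Lib.StructureModule

namespace Groth.Agent.Lib.VeryAmplePowH3

variable {X : Scheme.{u}}

/-- ratios through coordinates in an atlas -/
theorem ratio_eq_of_co {Q : X.Modules} {ι : Type*} {V : ι → X.Opens} (hV : ⨆ i, V i = ⊤) (C : Atlas Q V)
    {K : Type*} (s : K → Γ(Q, ⊤)) (k k' : K) (f : Γ(X, U s k))
    (h : ∀ i, rf (inf_le_right : U s k ⊓ V i ≤ V i) (C.co (s k') i) =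
      rf (inf_le_left : U s k ⊓ V i ≤ U s k) f * rf (inf_le_right : U s k ⊓ V i ≤ V i) (C.co (s k) i)) :
    ratio s k k' = f := by
  symm
  apply ratio_unique
  refine sec_ext Q _ _ (fun x hx => ?_)
  have hx' : x ∈ ⨆ i, V i := by rw [hV]; trivial
  obtain ⟨i, hi⟩ := Opens.mem_iSup.1 hx'
  refine ⟨U s k ⊓ V i, inf_le_left, ⟨hx, hi⟩, ?_⟩
  rw [rs_rs, rs_smul, rs_rs]
  have e1 : ∀ k'', rs Q (le_top : U s k ⊓ V i ≤ ⊤) (s k'') =
      rf (inf_le_right : U s k ⊓ V i ≤ V i) (C.co (s k'') i) •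
        rs Q (inf_le_right : U s k ⊓ V i ≤ V i) (C.E i) := by
    intro k''
    have := congrArg (rs Q (inf_le_right : U s k ⊓ V i ≤ V i)) (C.co_spec (s k'') i)
    rw [rs_smul, rs_rs] at this
    exact this.symm
  rw [e1 k', e1 k, h i, mul_smul]

/-- **extension in coordinates**: for a section `σ` of `P` with coordinates `a i` and a function `b` on an open `D`
containing the `D(a i)`, for all large `N` the family `a i ^ N * b` extends to coordinates compatible with the `N`-th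
powers of the transition functions. -/
theorem exists_coords [QuasiSeparatedSpace X] {P : X.Modules} {ι : Type*} [Finite ι] {V : ι → X.Opens}
    (hVaff : ∀ i, IsAffineOpen (V i)) (B : Atlas P V) (σ : Γ(P, ⊤)) {D : X.Opens}
    (hD : ∀ i, X.basicOpen (B.co σ i) ≤ D) (b : Γ(X, D)) :
    ∃ N₀ : ℕ, ∀ N, N₀ ≤ N → ∃ c : ∀ i, Γ(X, V i),
      (∀ i, rf (X.basicOpen_le (B.co σ i)) (c i) =
        rf (X.basicOpen_le (B.co σ i)) (B.co σ i) ^ N * rf (hD i) b) ∧
      (∀ i j, rf (inf_le_left : V i ⊓ V j ≤ V i) (c i) = rf inf_le_right (c j) * B.trans i j ^ N) := by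
  obtain ⟨n, x, hx1, hx2⟩ := key_ext (qcLike_structureModule X) hVaff B σ hD
    (Groth.Agent.Lib.H78AmpleUnit.toSec _ b)
  obtain ⟨xf, hxf⟩ : ∃ xf : ∀ i, Γ(X, V i), ∀ i, xf i = Groth.Agent.Lib.H78AmpleUnit.ofSec (V i) (x i) :=
    ⟨_, fun i => rfl⟩
  have h1 : ∀ i, rf (X.basicOpen_le (B.co σ i)) (xf i) =
      rf (X.basicOpen_le (B.co σ i)) (B.co σ i) ^ n * rf (hD i) b := by
    intro i; rw [hxf]; exact hx1 i
  have h2 : ∀ i j, rf (inf_le_left : V i ⊓ V j ≤ V i) (xf i) =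
      B.trans i j ^ n * rf (inf_le_right : V i ⊓ V j ≤ V j) (xf j) := by
    intro i j; rw [hxf, hxf]; exact hx2 i j
  refine ⟨n, fun N hN => ?_⟩
  obtain ⟨m, rfl⟩ := Nat.exists_eq_add_of_le hN
  refine ⟨fun i => B.co σ i ^ m * xf i, fun i => ?_, fun i j => ?_⟩
  · rw [rf_mul, rf_pow, h1, ← mul_assoc, ← pow_add, add_comm]
  · rw [rf_mul, rf_mul, rf_pow, rf_pow, h2, B.co_compat σ i j, mul_pow, pow_add]
    ring

section Main

variable {S : Scheme.{u}} [IsAffine S] (q : X ⟶ S) [LocallyOfFiniteType q]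

/-- finitely many generators of the coordinate ring of an affine open over an affine base -/
theorem exists_finset_closure (W : X.Opens) (hW : IsAffineOpen W) :
    ∃ G : Finset Γ(X, W),
      Subring.closure (Set.range (q.appLE ⊤ W le_top).hom ∪ (G : Set Γ(X, W))) = ⊤ := by
  have hft : RingHom.FiniteType (q.appLE ⊤ W le_top).hom :=
    HasRingHomProperty.appLE (P := @LocallyOfFiniteType) q inferInstance ⟨⊤, isAffineOpen_top S⟩ ⟨W, hW⟩ le_top
  letI := (q.appLE ⊤ W le_top).hom.toAlgebra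
  obtain ⟨G, hG⟩ := (hft : Algebra.FiniteType Γ(S, ⊤) Γ(X, W)).out
  refine ⟨G, ?_⟩
  have := Algebra.adjoin_eq_ring_closure (R := Γ(S, ⊤)) (G : Set Γ(X, W))
  rw [hG] at this
  exact this.symm.trans Algebra.top_toSubring

/-- **high powers are very ample** (coordinate form): `P` with a finite affine atlas `B` and finitely many global sections
`σ x` with affine `X_{σ x}` covering `X`; then every invertible `Q` whose transition functions are the `N`-th powers of
those of `P`, `N` large, is very ample relative to `q`. -/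
theorem exists_isRelVeryAmplePn_of_atlas [QuasiSeparatedSpace X] {P : X.Modules} {ι : Type*} [Finite ι]
    {V : ι → X.Opens} (hV : ⨆ i, V i = ⊤) (hVaff : ∀ i, IsAffineOpen (V i)) (B : Atlas P V)
    {T : Type*} [Finite T] (σ : T → Γ(P, ⊤))
    (haff : ∀ x, IsAffineOpen (CohB1.genLocus P (ofSection (σ x))))
    (hcov : ∀ y : X, ∃ x, y ∈ CohB1.genLocus P (ofSection (σ x))) :
    ∃ N₀ : ℕ, ∀ N, N₀ ≤ N → ∀ (Q : X.Modules) (_ : PicF.IsInvertible Q) (C : Atlas Q V),
      (∀ i j, C.trans i j = B.trans i j ^ N) → RelAmple.IsRelVeryAmplePn q Q := by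
  classical
  cases nonempty_fintype T
  have hG : ∀ x : T, ∃ G : Finset Γ(X, CohB1.genLocus P (ofSection (σ x))),
      Subring.closure (Set.range (q.appLE ⊤ (CohB1.genLocus P (ofSection (σ x))) le_top).hom ∪
        (G : Set Γ(X, CohB1.genLocus P (ofSection (σ x))))) = ⊤ :=
    fun x => exists_finset_closure q _ (haff x)
  choose G hG using hG
  have hD : ∀ x i, X.basicOpen (B.co (σ x) i) ≤ CohB1.genLocus P (ofSection (σ x)) := fun x i => by
    rw [← B.genLocus_inf]; exact inf_le_left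
  have hext : ∀ p : (Σ x : T, {b // b ∈ G x}), ∃ N₀ : ℕ, ∀ N, N₀ ≤ N → ∃ c : ∀ i, Γ(X, V i),
      (∀ i, rf (X.basicOpen_le (B.co (σ p.1) i)) (c i) =
        rf (X.basicOpen_le (B.co (σ p.1) i)) (B.co (σ p.1) i) ^ N * rf (hD p.1 i) p.2.1) ∧
      (∀ i j, rf (inf_le_left : V i ⊓ V j ≤ V i) (c i) = rf inf_le_right (c j) * B.trans i j ^ N) :=
    fun p => exists_coords hVaff B (σ p.1) (hD p.1) p.2.1
  choose n₀ hn₀ using hext
  refine ⟨1 + Finset.univ.sup n₀, fun N hN Q hQ C hC => ?_⟩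
  have hNpos : 0 < N := by omega
  have hN' : ∀ p, n₀ p ≤ N := fun p => (Finset.le_sup (Finset.mem_univ p)).trans (by omega)
  have hz : ∀ x : T, ∃ z : Γ(Q, ⊤), (∀ i, C.co z i = B.co (σ x) i ^ N) ∧
      CohB1.genLocus Q (ofSection z) = CohB1.genLocus P (ofSection (σ x)) := by
    intro x
    obtain ⟨z, hz1, hz2⟩ := exists_sec_pow hV B C N hC (σ x)
    exact ⟨z, hz1, hz2 hNpos⟩
  choose z hz1 hz2 using hz
  have hy : ∀ p : (Σ x : T, {b // b ∈ G x}), ∃ y : Γ(Q, ⊤),
      ∀ i, rf (X.basicOpen_le (B.co (σ p.1) i)) (C.co y i) =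
        rf (X.basicOpen_le (B.co (σ p.1) i)) (B.co (σ p.1) i) ^ N * rf (hD p.1 i) p.2.1 := by
    intro p
    obtain ⟨c, hc1, hc2⟩ := hn₀ p N (hN' p)
    obtain ⟨y, hy⟩ := C.exists_sec hV c (by intro i j; rw [hC]; exact hc2 i j)
    exact ⟨y, fun i => by rw [hy i]; exact hc1 i⟩
  choose y hy using hy
  let sK : T ⊕ (Σ x : T, {b // b ∈ G x}) → Γ(Q, ⊤) := Sum.elim z y
  refine Groth.Agent.Lib.VeryAmpleCritH3.isRelVeryAmplePn_of_closure q hQ sK (Set.range Sum.inl) ?_ ?_ ?_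
  · intro pt
    obtain ⟨x, hx⟩ := hcov pt
    refine ⟨Sum.inl x, ⟨x, rfl⟩, ?_⟩
    change pt ∈ CohB1.genLocus Q (ofSection (z x))
    rw [hz2]
    exact hx
  · rintro _ ⟨x, rfl⟩
    change IsAffineOpen (CohB1.genLocus Q (ofSection (z x)))
    rw [hz2]
    exact haff x
  · rintro _ ⟨x, rfl⟩
    have hle : U sK (Sum.inl x) ≤ CohB1.genLocus P (ofSection (σ x)) := (hz2 x).le
    have hge : CohB1.genLocus P (ofSection (σ x)) ≤ U sK (Sum.inl x) := (hz2 x).ge
    have hsub : Subring.closure (Set.range (q.appLE ⊤ (CohB1.genLocus P (ofSection (σ x))) le_top).hom ∪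
        (G x : Set Γ(X, CohB1.genLocus P (ofSection (σ x))))) ≤
        (Subring.closure (Set.range (ratio sK (Sum.inl x)) ∪
          Set.range (q.appLE ⊤ (U sK (Sum.inl x)) le_top).hom)).comap
            (X.presheaf.map (homOfLE hle).op).hom := by
      rw [Subring.closure_le]
      rintro f (⟨c, rfl⟩ | hf)
      · refine Subring.subset_closure (Or.inr ⟨c, ?_⟩)
        have := Scheme.Hom.appLE_map q (U := ⊤) (V := CohB1.genLocus P (ofSection (σ x))) le_top
          (homOfLE hle).op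
        exact (congrArg (fun φ => φ.hom c) this).symm
      · refine Subring.subset_closure (Or.inl ⟨Sum.inr ⟨x, ⟨f, hf⟩⟩, ?_⟩)
        refine ratio_eq_of_co hV C sK _ _ _ (fun i => ?_)
        have hO : U sK (Sum.inl x) ⊓ V i ≤ X.basicOpen (B.co (σ x) i) := by
          rw [← B.genLocus_inf]
          exact inf_le_inf_right _ hle
        have h1 := congrArg (rf hO) (hy ⟨x, ⟨f, hf⟩⟩ i)
        rw [rf_rf, rf_mul, rf_pow, rf_rf, rf_rf] at h1
        change rf _ (C.co (y ⟨x, ⟨f, hf⟩⟩) i) = rf _ (rf hle f) * rf _ (C.co (z x) i)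
        rw [hz1, rf_pow, rf_rf, mul_comm]
        exact h1
    rw [eq_top_iff]
    intro f _
    have hf : rf hge f ∈ Subring.closure
        (Set.range (q.appLE ⊤ (CohB1.genLocus P (ofSection (σ x))) le_top).hom ∪
          (G x : Set Γ(X, CohB1.genLocus P (ofSection (σ x))))) := by
      rw [hG x]; trivial
    have h2 := hsub hf
    rw [Subring.mem_comap] at h2
    have e : (X.presheaf.map (homOfLE hle).op).hom (rf hge f) = f := by
      change rf hle (rf hge f) = f
      rw [rf_rf, rf_self]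
    rwa [e] at h2

end Main

section Ample

/-- **common power**: an ample `L` on a quasi-compact scheme has a power `L^d`, `d > 0`, with finitely many global
sections whose loci are affine and cover `X`. -/
theorem exists_common_power [CompactSpace X] {L : X.Modules} (hL : CohB1.IsAmple L) {ι : Type*}
    {V : ι → X.Opens} (hV : ⨆ i, V i = ⊤) (A : Atlas L V) :
    ∃ (d : ℕ) (_ : 0 < d) (T : Type u) (_ : Finite T) (σ : T → Γ(CohB1.tensorPow L d, ⊤)),
      (∀ x, IsAffineOpen (CohB1.genLocus _ (ofSection (σ x)))) ∧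
      (∀ y : X, ∃ x, y ∈ CohB1.genLocus _ (ofSection (σ x))) := by
  classical
  choose n s hx haff using hL.2.2
  obtain ⟨t, ht⟩ := isCompact_univ.elim_finite_subcover (fun y => (CohB1.genLocus _ (s y) : Set X))
    (fun y => (CohB1.genLocus _ (s y)).2) (fun x _ => Set.mem_iUnion.2 ⟨x, hx x⟩)
  obtain ⟨d, hddef⟩ : ∃ d : ℕ, d = ∏ y ∈ t, (n y + 1) := ⟨_, rfl⟩
  have hd : 0 < d := by rw [hddef]; exact Finset.prod_pos (fun y _ => Nat.succ_pos _)
  have hτ : ∀ y : t, ∃ τ : Γ(CohB1.tensorPow L d, ⊤),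
      CohB1.genLocus _ (ofSection τ) = CohB1.genLocus _ (s y.1) := by
    intro y
    obtain ⟨k, hkdef⟩ : ∃ k : ℕ, k = ∏ y' ∈ t.erase y.1, (n y' + 1) := ⟨_, rfl⟩
    have hk : 0 < k := by rw [hkdef]; exact Finset.prod_pos (fun _ _ => Nat.succ_pos _)
    have hdk : (n y.1 + 1) * k = d := by
      rw [hkdef, hddef]
      exact Finset.mul_prod_erase t (fun y => n y + 1) y.2
    obtain ⟨τ, -, hτ⟩ := exists_sec_pow hV (A.pow (n y.1 + 1)) (A.pow d) k (by
      intro i j
      rw [Atlas.pow_trans, Atlas.pow_trans, ← pow_mul, hdk]) (sec (s y.1))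
    exact ⟨τ, by rw [hτ hk, ofSection_sec]⟩
  choose τ hτ using hτ
  refine ⟨d, hd, t, inferInstance, τ, fun y => by rw [hτ]; exact haff y.1, fun p => ?_⟩
  obtain ⟨y, hy, hp⟩ := Set.mem_iUnion₂.1 (ht (Set.mem_univ p))
  exact ⟨⟨y, hy⟩, by rw [hτ]; exact hp⟩

/-- **finite global generation of high powers**: for `L` ample on a quasi-compact scheme, `O ⊗ L^n` is generated by finitely
many global sections for all large `n`. -/
theorem exists_generatedBy_twist [CompactSpace X] {L : X.Modules} (hL : CohB1.IsAmple L) :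
    ∃ n₁ : ℕ, ∀ n, n₁ ≤ n → ∃ (m : ℕ)
      (s : Fin m → Γ(CohB1.tensorMod (Coh.structureModule X) (CohB1.tensorPow L n), ⊤)),
      ProjUP.GeneratedBy _ s := by
  haveI := Groth.Agent.Lib.H78AmpleBasis.quasiSeparatedSpace_of_isAmple hL
  have hQ : QcLike (Coh.structureModule X) := qcLike_structureModule X
  have h1 : ∀ x : X, ∃ (V₀ : X.Opens) (e : Γ(L, V₀)) (n : ℕ)
      (s : Coh.structureModule X ⟶ CohB1.tensorPow L (n + 1)), IsGen L V₀ e ∧
        x ∈ CohB1.genLocus _ s ∧ CohB1.genLocus _ s ≤ V₀ ∧ IsAffineOpen (CohB1.genLocus _ s) := by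
    intro x
    obtain ⟨V₀, hxV₀, e, he⟩ := (isInvertible_iff_exists_isGen L).1 hL.1 x
    obtain ⟨n, s, hx, hsV, haff⟩ := Groth.Agent.Lib.H78SecAdd.exists_sec_nbhd_affine hL x V₀ hxV₀
    exact ⟨V₀, e, n, s, he, hx, hsV, haff⟩
  choose V₀ e n s he hx hsV haff using h1
  obtain ⟨t, ht⟩ := isCompact_univ.elim_finite_subcover (fun y => (CohB1.genLocus _ (s y) : Set X))
    (fun y => (CohB1.genLocus _ (s y)).2) (fun x _ => Set.mem_iUnion.2 ⟨x, hx x⟩)
  obtain ⟨V, hVdef⟩ : ∃ V : t → X.Opens, ∀ i, V i = CohB1.genLocus _ (s i.1) := ⟨_, fun _ => rfl⟩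
  have hV : ⨆ i, V i = ⊤ := by
    refine top_le_iff.1 (fun x _ => ?_)
    obtain ⟨y, hy, hxy⟩ := Set.mem_iUnion₂.1 (ht (Set.mem_univ x))
    exact Opens.mem_iSup.2 ⟨⟨y, hy⟩, by rw [hVdef]; exact hxy⟩
  have hVaff : ∀ i, IsAffineOpen (V i) := fun i => by rw [hVdef]; exact haff i.1
  have hVle : ∀ i : t, V i ≤ V₀ i.1 := fun i => by rw [hVdef]; exact hsV i.1
  let A : Atlas L V := ⟨fun i => rs L (hVle i) (e i.1), fun i => (he i.1).mono (hVle i)⟩
  have h3 : ∀ j : t, ∃ n₀ : ℕ, ∀ n, n₀ ≤ n → ∀ _ : Unit,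
      ∃ (ξ : Γ(CohB1.tensorMod (Coh.structureModule X) (CohB1.tensorPow L n), ⊤)) (u : Γ(X, V j)),
        IsUnit u ∧ rs _ (le_top : V j ≤ ⊤) ξ =
          tmul (u • Groth.Agent.Lib.H78AmpleUnit.toSec (V j) 1) (epow (A.E j) n) := by
    intro j
    refine Groth.Agent.Lib.H78GlobGen2.exists_sections_twist hQ hV hVaff A j (n j.1 + 1) (Nat.succ_pos _)
      (sec (s j.1)) ?_ (fun _ : Unit => Groth.Agent.Lib.H78AmpleUnit.toSec (V j) 1)
    rw [ofSection_sec, hVdef]
  choose n₀ hn₀ using h3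
  refine ⟨Finset.univ.sup n₀, fun N hN => ?_⟩
  have h4 : ∀ j : t, ∃ (ξ : Γ(CohB1.tensorMod (Coh.structureModule X) (CohB1.tensorPow L N), ⊤)) (u : Γ(X, V j)),
      IsUnit u ∧ rs _ (le_top : V j ≤ ⊤) ξ =
        tmul (u • Groth.Agent.Lib.H78AmpleUnit.toSec (V j) 1) (epow (A.E j) N) := fun j =>
    hn₀ j N ((Finset.le_sup (Finset.mem_univ j)).trans hN) ()
  choose ξ u hu hξ using h4
  obtain ⟨m, ⟨em⟩⟩ := Finite.exists_equiv_fin t
  refine ⟨m, fun k => ξ (em.symm k), ?_⟩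
  apply Groth.Agent.Lib.H4Twist.generatedBy_of_isGen
  intro x
  have hx' : x ∈ ⨆ i, V i := by rw [hV]; trivial
  obtain ⟨j, hj⟩ := Opens.mem_iSup.1 hx'
  refine ⟨em j, V j, hj, ?_⟩
  rw [em.symm_apply_apply]
  change IsGen _ (V j) (rs _ (le_top : V j ≤ ⊤) (ξ j))
  rw [hξ j]
  exact isGen_tmul ((isGen_smul_iff (isGen_one (V j)) _).2 (hu j)) (isGen_epow (A.gen j) N)

end Ample

section Final

variable {S : Scheme.{u}} [IsAffine S] (q : X ⟶ S) [LocallyOfFiniteType q]

/-- **ample ⇒ all high tensor powers are very ample** (relative to `q : X ⟶ S` locally of finite type, `S` affine;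
EGA II 4.5.10 / 4.6.11, `P^n_S` form). -/
theorem exists_forall_isRelVeryAmplePn_tensorPow {L : X.Modules} (hL : CohB1.IsAmple L) :
    ∃ n₀ : ℕ, ∀ n, n₀ ≤ n → RelAmple.IsRelVeryAmplePn q (CohB1.tensorPow L n) := by
  haveI : CompactSpace X := hL.2.1
  haveI := Groth.Agent.Lib.H78AmpleBasis.quasiSeparatedSpace_of_isAmple hL
  obtain ⟨ι, _, V, hV, hVaff, ⟨A⟩⟩ := exists_finite_atlas hL.1
  obtain ⟨d, hd, T, _, σ, haff, hcov⟩ := exists_common_power hL hV A
  obtain ⟨N₀, hN₀⟩ := exists_isRelVeryAmplePn_of_atlas q hV hVaff (A.pow d) σ haff hcov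
  obtain ⟨n₁, hn₁⟩ := exists_generatedBy_twist hL
  have hva : RelAmple.IsRelVeryAmplePn q (CohB1.tensorPow L (d * N₀)) :=
    hN₀ N₀ le_rfl _ (isInvertible_tensorPow hL.1 _) (A.pow (d * N₀)) (by
      intro i j
      rw [Atlas.pow_trans, Atlas.pow_trans, pow_mul])
  refine ⟨d * N₀ + n₁, fun n hn => ?_⟩
  obtain ⟨k, rfl⟩ := Nat.exists_eq_add_of_le hn
  obtain ⟨m, s, hs⟩ := hn₁ (n₁ + k) (Nat.le_add_right _ _)
  have h1 := Groth.Agent.Lib.VeryAmpleTensorH3.isRelVeryAmplePn_tensor q hva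
    (isInvertible_tensorMod (isInvertible_structureModule X) (isInvertible_tensorPow hL.1 _)) s hs
  refine Groth.Agent.Lib.VeryAmpleCritH3.isRelVeryAmplePn_of_iso q ?_ h1
  exact Groth.Agent.Lib.OXModTensor.tensorModIso (Iso.refl _) (Groth.Agent.Lib.OXModTensor.leftUnitor _) ≪≫
    (Groth.Agent.Lib.OXModTensor.tensorPowAdd L (d * N₀) (n₁ + k)).symm ≪≫ eqToIso (by rw [add_assoc])

end Final

end Groth.Agent.Lib.VeryAmplePowH3
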