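/-
# Very ample ⇒ relatively ample; relative ampleness ⇔ locally some power very ample (helper3, keystone VeryAmple)

* `isAmple_twistOver_restrict n V D hD`: `O(1)|_{P^n_V over D}` ample for `D ⊆ V` affine open (any `V`);
* `isAmple_restrict_of_isRelVeryAmplePn g h D hD`, `isRelAmple_of_isRelVeryAmplePn g h` (any base, `g` quasi-compact);
* `isAmple_restrict_of_pow`;
* `isRelAmple_iff_locally_power f L hLinv` (f lft + qc): `IsRelAmple f L ⇔` the base is covered by opens `V` with some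
  `L^d|_{f⁻¹V}` very ample relative to `f∣_V` (P^n_V form).
-/
import Groth.Agent.Lib.VeryAmpleAmpleH3
import Groth.Agent.Lib.VeryAmpleBaseH3
import Groth.Agent.Lib.VeryAmplePowH3
import Groth.Agent.Lib.H78RelAmple
import Groth.Agent.Lib.H78Restrict
import Groth.Agent.Lib.H78AmpleOps

set_option autoImplicit false
set_option linter.style.haveILetI false
universe u
open CategoryTheory CategoryTheory.Limits AlgebraicGeometry TopologicalSpace Opposite Twist
open Groth.Agent.Lib.VeryAmpleH3 Groth.Agent.Lib.ProjSpaceCoordH3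

namespace Groth.Agent.Lib.VeryAmpleRelH3

/-- `O(1)` restricted to the part of `P^n_V` over an affine open `D ⊆ V` is ample -/
theorem isAmple_twistOver_restrict (n : ℕ) (V : Scheme.{u}) (Dv : V.Opens) (hD : IsAffineOpen Dv) :
    CohB1.IsAmple ((Twist.twistOver n V 1).restrict (sndP n V ⁻¹ᵁ Dv).ι) := by
  set W : (CohB1.ProjSpaceOver n V).Opens := sndP n V ⁻¹ᵁ Dv with hWdef
  haveI : IsAffineHom (W.ι ≫ fstP n V) := by
    refine isAffineHom_of_forall_exists_isAffineOpen _ (fun y => ?_)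
    obtain ⟨j, hj⟩ := exists_mem_D n ZZ.{u} y
    refine ⟨D n ZZ.{u} j, hj, isAffineOpen_D n ZZ.{u} j, ?_⟩
    rw [← W.ι.isAffineOpen_iff_of_isOpenImmersion]
    have : W.ι ''ᵁ ((W.ι ≫ fstP n V) ⁻¹ᵁ D n ZZ.{u} j) =
        fstP n V ⁻¹ᵁ D n ZZ.{u} j ⊓ sndP n V ⁻¹ᵁ Dv := by
      rw [Scheme.Hom.comp_preimage, Scheme.Hom.image_preimage_eq_opensRange_inf,
        Scheme.Opens.opensRange_ι, inf_comm]
    rw [this]
    exact Groth.Agent.Lib.VeryAmpleBaseH3.isAffineOpen_inf n j hD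
  have h1 := Groth.Agent.Lib.H78PullAmple.isAmple_pullback_of_isAffineHom (W.ι ≫ fstP n V)
    (Groth.Agent.Lib.VeryAmpleAmpleH3.isAmple_twist_one n ZZ.{u})
  refine Groth.Agent.Lib.H78AmpleUnit.isAmple_of_iso ?_ h1
  exact ((Scheme.Modules.pullbackComp W.ι (fstP n V)).symm.app (twist (CohB1.polyGrading n ZZ.{u}) 1)) ≪≫
    ((Scheme.Modules.restrictFunctorIsoPullback W.ι).symm.app
      ((Scheme.Modules.pullback (fstP n V)).obj (twist (CohB1.polyGrading n ZZ.{u}) 1)))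

/-- **very ample ⇒ relatively ample** (any base): the restriction of a very ample (`P^n_V` form) module to the preimage of
an affine open of the base is ample. -/
theorem isAmple_restrict_of_isRelVeryAmplePn {X' V : Scheme.{u}} (g : X' ⟶ V) [QuasiCompact g]
    {M : X'.Modules} (h : RelAmple.IsRelVeryAmplePn g M) (Dv : V.Opens) (hD : IsAffineOpen Dv) :
    CohB1.IsAmple (M.restrict (g ⁻¹ᵁ Dv).ι) := by
  obtain ⟨n, i, himm, hq, ⟨e⟩⟩ := h
  have hsnd : i ≫ sndP n V = g := hq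
  set W : (CohB1.ProjSpaceOver n V).Opens := sndP n V ⁻¹ᵁ Dv with hWdef
  have heq : g ⁻¹ᵁ Dv = i ⁻¹ᵁ W := by rw [← hsnd]; rfl
  have hW := isAmple_twistOver_restrict n V Dv hD
  haveI : CompactSpace (g ⁻¹ᵁ Dv : Scheme.{u}) :=
    isCompact_iff_compactSpace.1 (QuasiCompact.isCompact_preimage (f := g) _ Dv.2 hD.isCompact)
  haveI : QuasiSeparatedSpace (W : Scheme.{u}) :=
    Groth.Agent.Lib.H78AmpleBasis.quasiSeparatedSpace_of_isAmple hW
  haveI : IsImmersion (i.resLE W (g ⁻¹ᵁ Dv) heq.le) := by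
    delta Scheme.Hom.resLE
    infer_instance
  haveI : QuasiCompact (i.resLE W (g ⁻¹ᵁ Dv) heq.le) := inferInstance
  have hamp := Groth.Agent.Lib.H78PullAmple.isAmple_pullback_of_quasiAffine (i.resLE W (g ⁻¹ᵁ Dv) heq.le)
    (fun W' hW' => ?_) hW
  · refine Groth.Agent.Lib.H78AmpleUnit.isAmple_of_iso ?_ hamp
    exact (Groth.Agent.Lib.H78PullAmple.resLEPullbackIso i W (g ⁻¹ᵁ Dv) heq.le (Twist.twistOver n V 1)).symm ≪≫
      (Scheme.Modules.restrictFunctor (g ⁻¹ᵁ Dv).ι).mapIso e.symm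
  · haveI : IsAffine W' := hW'
    haveI : CompactSpace ((i.resLE W (g ⁻¹ᵁ Dv) heq.le) ⁻¹ᵁ W' : Scheme.{u}) :=
      isCompact_iff_compactSpace.1
        (QuasiCompact.isCompact_preimage (f := i.resLE W (g ⁻¹ᵁ Dv) heq.le) _ W'.2 hW'.isCompact)
    exact Scheme.IsQuasiAffine.of_isImmersion ((i.resLE W (g ⁻¹ᵁ Dv) heq.le) ∣_ W')

/-- very ample (`P^n` form) implies relatively ample -/
theorem isRelAmple_of_isRelVeryAmplePn {X' V : Scheme.{u}} (g : X' ⟶ V) [QuasiCompact g]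
    {M : X'.Modules} (h : RelAmple.IsRelVeryAmplePn g M) : RelAmple.IsRelAmple g M :=
  ⟨inferInstance, fun D => isAmple_restrict_of_isRelVeryAmplePn g h D.1 D.2⟩

section Local

variable {X S : Scheme.{u}} (f : X ⟶ S) [LocallyOfFiniteType f] [QuasiCompact f]

omit [LocallyOfFiniteType f] in
/-- if a power of `L` is very ample over an open `V` of the base, then `L` is ample over every affine open inside `V` -/
theorem isAmple_restrict_of_pow (L : X.Modules) (hLinv : PicF.IsInvertible L) (V : S.Opens) (d : ℕ) (hd : 0 < d)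
    (h : RelAmple.IsRelVeryAmplePn (f ∣_ V) ((CohB1.tensorPow L d).restrict (f ⁻¹ᵁ V).ι))
    (Dv : S.Opens) (hD : IsAffineOpen Dv) (hDV : Dv ≤ V) :
    CohB1.IsAmple (L.restrict (f ⁻¹ᵁ Dv).ι) := by
  haveI : CompactSpace (f ⁻¹ᵁ Dv : Scheme.{u}) :=
    isCompact_iff_compactSpace.1 (QuasiCompact.isCompact_preimage (f := f) _ Dv.2 hD.isCompact)
  have hD' : IsAffineOpen (V.ι ⁻¹ᵁ Dv) := by
    rw [← V.ι.isAffineOpen_iff_of_isOpenImmersion, Scheme.Hom.image_preimage_eq_opensRange_inf,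
      Scheme.Opens.opensRange_ι, inf_eq_right.2 hDV]
    exact hD
  have h1 := isAmple_restrict_of_isRelVeryAmplePn (f ∣_ V) h (V.ι ⁻¹ᵁ Dv) hD'
  rw [Groth.Agent.Lib.H78RelAmple.isAmple_restrict_restrict_iff] at h1
  have h2 : CohB1.IsAmple ((CohB1.tensorPow L d).restrict (f ⁻¹ᵁ Dv).ι) := by
    refine Groth.Agent.Lib.H78RelAmple.isAmple_restrict_of_range_subset (f ⁻¹ᵁ Dv).ι _ ?_ h1
    rintro _ ⟨⟨x, hx⟩, rfl⟩
    have hxV : x ∈ f ⁻¹ᵁ V := hDV hx
    refine ⟨⟨⟨x, hxV⟩, ?_⟩, rfl⟩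
    change (V.ι ⁻¹ᵁ Dv : Set _) ((f ∣_ V) ⟨x, hxV⟩)
    change ((f ∣_ V) ≫ V.ι) ⟨x, hxV⟩ ∈ Dv
    rw [morphismRestrict_ι]
    exact hx
  have h3 := Groth.Agent.Lib.H78AmpleUnit.isAmple_of_iso
    (Groth.Agent.Lib.H78Restrict.restrictTensorPowIso (f ⁻¹ᵁ Dv).ι L d) h2
  exact (Groth.Agent.Lib.H78AmpleOps.isAmple_tensorPow_iff
    (Groth.Agent.Lib.H90Invertible.isInvertible_restrict _ hLinv) hd).2 h3

/-- **relative ampleness ⇔ locally on the base some power is very ample** (`P^n` form; EGA II 4.6.x / Stacks 01VU-type). -/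
theorem isRelAmple_iff_locally_power (L : X.Modules) (hLinv : PicF.IsInvertible L) :
    RelAmple.IsRelAmple f L ↔
      ∃ (ι : Type u) (V : ι → S.Opens), (⨆ j, V j) = ⊤ ∧
        ∀ j, ∃ d : ℕ, 0 < d ∧
          RelAmple.IsRelVeryAmplePn (f ∣_ V j) ((CohB1.tensorPow L d).restrict (f ⁻¹ᵁ V j).ι) := by
  constructor
  · intro h
    refine ⟨S.affineOpens, fun j => j.1, AlgebraicGeometry.iSup_affineOpens_eq_top S, fun j => ?_⟩
    haveI : IsAffine (j.1 : Scheme.{u}) := j.2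
    have hamp := h.2 j
    obtain ⟨n₀, hn₀⟩ := Groth.Agent.Lib.VeryAmplePowH3.exists_forall_isRelVeryAmplePn_tensorPow (f ∣_ j.1) hamp
    refine ⟨n₀ + 1, Nat.succ_pos _, ?_⟩
    exact Groth.Agent.Lib.VeryAmpleCritH3.isRelVeryAmplePn_of_iso _
      (Groth.Agent.Lib.H78Restrict.restrictTensorPowIso (f ⁻¹ᵁ j.1).ι L (n₀ + 1)).symm
      (hn₀ _ (Nat.le_succ _))
  · rintro ⟨ι, V, hV, h⟩
    refine Groth.Agent.Lib.H78RelAmple.isRelAmple_of_local f L
      {Dv | IsAffineOpen Dv ∧ ∃ j, Dv ≤ V j} ?_ ?_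
    · rintro Dv ⟨hD, j, hDj⟩
      obtain ⟨d, hd, hva⟩ := h j
      exact isAmple_restrict_of_pow f L hLinv (V j) d hd hva Dv hD hDj
    · intro V' hV' y hy
      have hy' : y ∈ ⨆ j, V j := by rw [hV]; trivial
      obtain ⟨j, hj⟩ := Opens.mem_iSup.1 hy'
      obtain ⟨r, hle, hyr⟩ := hV'.exists_basicOpen_le (V := V j) ⟨y, hj⟩ hy
      exact ⟨r, hyr, hV'.basicOpen r, j, hle⟩

end Local

end Groth.Agent.Lib.VeryAmpleRelH3
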