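/-
# Projective space over a base with an ample module (helper3, keystone VeryAmple)

* `isRelVeryAmplePn_twistOver`, `isRelAmple_twistOver`: `O(1)` on `P^n_S` is very ample / relatively ample for the projection;
* instance `IsProper (sndP n S)`;
* `exists_isAmple_projSpaceOver n hN`: `N` ample on `S` ⇒ `O(1) ⊗ p^*N^a` ample on `P^n_S`, `a` large;
* `exists_qc_immersion_iff hS f`: over `S` with an ample invertible module, `f : X ⟶ S` is a quasi-compact immersion into some
  `P^n_S` over `S` iff `f` is of finite type and `X` has an ample invertible module.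
-/
import Groth.Agent.Lib.VeryAmpleRelH3
import Groth.Agent.Lib.VeryAmpleBase2H3
import Groth.Agent.Lib.H78RelAmpleComp
import Groth.Agent.Lib.ProjSpaceProper

set_option autoImplicit false
set_option linter.style.haveILetI false
universe u
open CategoryTheory CategoryTheory.Limits AlgebraicGeometry TopologicalSpace Opposite Twist
open Groth.Agent.Lib.VeryAmpleH3

namespace Groth.Agent.Lib.VeryAmpleProjH3

/-- `O(1)` is very ample on `P^n_S` relative to the projection -/
theorem isRelVeryAmplePn_twistOver (n : ℕ) (S : Scheme.{u}) :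
    RelAmple.IsRelVeryAmplePn (sndP n S) (Twist.twistOver n S 1) :=
  ⟨n, 𝟙 _, inferInstance, Category.id_comp _, ⟨(Scheme.Modules.pullbackId _).symm.app _⟩⟩

instance (n : ℕ) (S : Scheme.{u}) : IsProper (sndP n S) :=
  Groth.Agent.Lib.ProjSpaceProper.isProper_toBase n S

/-- `O(1)` is relatively ample on `P^n_S` -/
theorem isRelAmple_twistOver (n : ℕ) (S : Scheme.{u}) :
    RelAmple.IsRelAmple (sndP n S) (Twist.twistOver n S 1) :=
  Groth.Agent.Lib.VeryAmpleRelH3.isRelAmple_of_isRelVeryAmplePn (sndP n S) (isRelVeryAmplePn_twistOver n S)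

/-- if `S` carries an ample invertible module `N`, then `O(1) ⊗ p^* N^a` is ample on `P^n_S` for large `a` -/
theorem exists_isAmple_projSpaceOver (n : ℕ) {S : Scheme.{u}} {N : S.Modules} (hN : CohB1.IsAmple N) :
    ∃ n₀ : ℕ, 0 < n₀ ∧ ∀ a, n₀ ≤ a → CohB1.IsAmple (CohB1.tensorMod (Twist.twistOver n S 1)
      ((Scheme.Modules.pullback (sndP n S)).obj (CohB1.tensorPow N a))) :=
  Groth.Agent.Lib.H78RelAmpleComp.isAmple_tensor_pullback_pow (sndP n S) hN (isRelAmple_twistOver n S)

/-- **quasi-compact immersions into `P^n_S`** over a base with an ample invertible module (Stacks 0B45-type) -/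
theorem exists_qc_immersion_iff {X S : Scheme.{u}} (hS : ∃ N : S.Modules, CohB1.IsAmple N) (f : X ⟶ S) :
    (∃ (n : ℕ) (i : X ⟶ CohB1.ProjSpaceOver n S), IsImmersion i ∧ QuasiCompact i ∧ i ≫ sndP n S = f) ↔
      (LocallyOfFiniteType f ∧ QuasiCompact f ∧ ∃ L : X.Modules, CohB1.IsAmple L) := by
  obtain ⟨N, hN⟩ := hS
  haveI : CompactSpace S := hN.2.1
  haveI : QuasiSeparatedSpace S := Groth.Agent.Lib.H78AmpleBasis.quasiSeparatedSpace_of_isAmple hN
  constructor
  · rintro ⟨n, i, himm, hqc, rfl⟩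
    refine ⟨inferInstance, inferInstance, ?_⟩
    obtain ⟨n₀, -, hn₀⟩ := exists_isAmple_projSpaceOver n hN
    have hamp := hn₀ n₀ le_rfl
    refine ⟨_, Groth.Agent.Lib.H78PullAmple.isAmple_pullback_of_quasiAffine i (fun W hW => ?_) hamp⟩
    haveI : IsAffine W := hW
    haveI : CompactSpace (i ⁻¹ᵁ W : Scheme.{u}) :=
      isCompact_iff_compactSpace.1 (QuasiCompact.isCompact_preimage (f := i) _ W.2 hW.isCompact)
    exact Scheme.IsQuasiAffine.of_isImmersion (i ∣_ W)
  · rintro ⟨hft, hqc, L, hL⟩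
    obtain ⟨n₀, hn₀⟩ := Groth.Agent.Lib.VeryAmpleBase2H3.exists_forall_isRelVeryAmplePn_tensorPow f hL
    obtain ⟨n, i, himm, hi, -⟩ := hn₀ n₀ le_rfl
    have hi' : i ≫ sndP n S = f := hi
    refine ⟨n, i, himm, ?_, hi'⟩
    haveI : QuasiCompact (i ≫ sndP n S) := by rw [hi']; exact hqc
    exact QuasiCompact.of_comp i (sndP n S)

end Groth.Agent.Lib.VeryAmpleProjH3
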