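/-
# Proper + relatively ample over `Spec A` ⇒ `X ≅ Proj 𝒮` (helper3; EGA II 5.5.3 (i), S3585)

* `isAmple_of_isRelAmple_of_isAffine f h`: over an affine base, relatively ample ⇒ ample;
* `projSpaceIso N A : ProjSpace N A ≅ ProjSpaceOver N (Spec A)` with `projSpaceIso_hom_snd`;
* `exists_closedImmersion_projSpace f hamp`: `f` proper, `L` relatively ample ⇒ a closed immersion `X ⟶ P^N_A` over `A`;
* `exists_iso_proj f hamp`: the `Proj` form (S3585).
-/
import Groth.Agent.Lib.VeryAmplePowH3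
import Groth.Agent.Lib.VeryAmpleAmpleH3
import Groth.Agent.Lib.VeryAmpleProjH3
import Groth.Agent.Lib.H90ProjBC
import Groth.Agent.Lib.ProjClosedSub
import Groth.Agent.Lib.ProjMapImm
import Groth.Agent.Lib.H78RelAmple

set_option autoImplicit false
set_option linter.style.haveILetI false
universe u
open CategoryTheory CategoryTheory.Limits AlgebraicGeometry TopologicalSpace Opposite
open Groth.Agent.Lib.VeryAmpleH3

namespace Groth.Agent.Lib.ProjOfAmpleH3

/-- over an affine base, relatively ample implies ample -/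
theorem isAmple_of_isRelAmple_of_isAffine {X S : Scheme.{u}} [IsAffine S] (f : X ⟶ S) {L : X.Modules}
    (h : RelAmple.IsRelAmple f L) : CohB1.IsAmple L := by
  haveI : QuasiCompact f := h.1
  haveI : CompactSpace X := QuasiCompact.compactSpace_of_compactSpace f
  have h1 := h.2 ⟨⊤, isAffineOpen_top S⟩
  have h2 : CohB1.IsAmple (L.restrict (𝟙 X)) :=
    Groth.Agent.Lib.H78RelAmple.isAmple_restrict_of_range_subset (𝟙 X) (f ⁻¹ᵁ (⊤ : S.Opens)).ι
      (fun x _ => by
        rw [Scheme.Opens.range_ι]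
        trivial) h1
  exact Groth.Agent.Lib.H78AmpleUnit.isAmple_of_iso (Scheme.Modules.restrictFunctorId.app L) h2

section Iso

variable (N : ℕ) (A : Type u) [CommRing A]

attribute [local instance] ULift.algebra'

theorem isPullback_projSpace :
    IsPullback (Groth.Agent.Lib.H90ProjBC.β N ZZ.{u} A) (CohB1.ProjSpace.toSpec N A)
      (CohB1.ProjSpace.toSpec N ZZ.{u}) (specULiftZIsTerminal.from (Spec (CommRingCat.of A))) := by
  have h := Groth.Agent.Lib.H90ProjBC.isPullback_β N ZZ.{u} A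
  have e : Spec.map (CommRingCat.ofHom (algebraMap ZZ.{u} A)) =
      specULiftZIsTerminal.from (Spec (CommRingCat.of A)) := specULiftZIsTerminal.hom_ext _ _
  rwa [e] at h

/-- `P^N_A ≅ P^N_ℤ ×_ℤ Spec A` -/
noncomputable def projSpaceIso : CohB1.ProjSpace N A ≅ CohB1.ProjSpaceOver N (Spec (CommRingCat.of A)) :=
  (isPullback_projSpace N A).isoPullback

theorem projSpaceIso_hom_snd :
    (projSpaceIso N A).hom ≫ sndP N (Spec (CommRingCat.of A)) = CohB1.ProjSpace.toSpec N A :=
  (isPullback_projSpace N A).isoPullback_hom_snd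

theorem projSpaceIso_inv_toSpec :
    (projSpaceIso N A).inv ≫ CohB1.ProjSpace.toSpec N A = sndP N (Spec (CommRingCat.of A)) := by
  rw [Iso.inv_comp_eq, projSpaceIso_hom_snd]

end Iso

section Main

variable {A : Type u} [CommRing A] {X : Scheme.{u}} (f : X ⟶ Spec (CommRingCat.of A)) [IsProper f]
  {L : X.Modules} (hamp : RelAmple.IsRelAmple f L)

include hamp in
/-- proper + relatively ample over `Spec A` ⇒ closed immersion into some `P^N_A` -/
theorem exists_closedImmersion_projSpace :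
    ∃ (N : ℕ) (i : X ⟶ Proj (CohB1.polyGrading N A)), IsClosedImmersion i ∧
      i ≫ (CohB1.ProjSpace.toSpec N A : Proj (CohB1.polyGrading N A) ⟶ _) = f := by
  have hL := isAmple_of_isRelAmple_of_isAffine f hamp
  obtain ⟨n₀, hn₀⟩ := Groth.Agent.Lib.VeryAmplePowH3.exists_forall_isRelVeryAmplePn_tensorPow f hL
  obtain ⟨N, i, himm, hif, -⟩ := hn₀ n₀ le_rfl
  have hif' : i ≫ sndP N (Spec (CommRingCat.of A)) = f := hif
  haveI : UniversallyClosed (i ≫ sndP N (Spec (CommRingCat.of A))) := by rw [hif']; infer_instance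
  haveI : UniversallyClosed i := UniversallyClosed.of_comp_of_isSeparated i (sndP N _)
  haveI : IsClosedImmersion i := IsClosedImmersion.of_isPreimmersion i i.isClosedMap.isClosed_range
  refine ⟨N, i ≫ (projSpaceIso N A).inv, ?_, ?_⟩
  · change IsClosedImmersion (i ≫ (projSpaceIso N A).inv)
    infer_instance
  · change (i ≫ (projSpaceIso N A).inv) ≫ CohB1.ProjSpace.toSpec N A = f
    rw [Category.assoc, projSpaceIso_inv_toSpec, hif']

open MvPolynomial in
include hamp in
/-- **S3585** -/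
theorem exists_iso_proj :
    ∃ (S : Type u) (_ : CommRing S) (_ : Algebra A S) (𝒮 : ℕ → Submodule A S) (_ : GradedAlgebra 𝒮) (s : Finset S),
      Function.Surjective (algebraMap A (𝒮 0)) ∧ (∀ g ∈ s, g ∈ 𝒮 1) ∧
      (HomogeneousIdeal.irrelevant 𝒮).toIdeal = Ideal.span (s : Set S) ∧
      ∃ e : X ≅ Proj 𝒮, e.hom ≫ Proj.toSpecZero 𝒮 ≫ Spec.map (CommRingCat.ofHom (algebraMap A (𝒮 0))) = f := by
  classical
  obtain ⟨N, i, hi, hif⟩ := exists_closedImmersion_projSpace f hamp
  let 𝒜 := CohB1.polyGrading N A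
  let s : Finset (MvPolynomial (Fin (N + 1)) A) := Finset.univ.image (MvPolynomial.X (R := A))
  have hs1 : ∀ g ∈ s, g ∈ 𝒜 1 := by
    intro g hg
    obtain ⟨k, -, rfl⟩ := Finset.mem_image.1 hg
    exact (mem_homogeneousSubmodule _ _).2 (isHomogeneous_X A k)
  have hs : (HomogeneousIdeal.irrelevant 𝒜).toIdeal = Ideal.span (s : Set (MvPolynomial (Fin (N + 1)) A)) := by
    rw [Groth.Agent.Lib.VeryAmpleAmpleH3.irrelevant_eq_span_X N A]
    congr 1
    simp [s]
  let I : Ideal (MvPolynomial (Fin (N + 1)) A) := Groth.Agent.Lib.ProjClosedSub.kerIdeal 𝒜 s hs1 i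
  have hI : I.IsHomogeneous 𝒜 := Groth.Agent.Lib.ProjClosedSub.kerIdeal_isHomogeneous 𝒜 s hs1 i
  letI inst : GradedAlgebra (Groth.Agent.Lib.GradedQuot.quotGrading 𝒜 I) :=
    Groth.Agent.Lib.GradedQuot.gradedAlgebra 𝒜 hI
  obtain ⟨e, he⟩ := Groth.Agent.Lib.ProjClosedSub.exists_iso 𝒜 s hs1 i hs
  let φ := Groth.Agent.Lib.GradedQuot.mkGraded 𝒜 (I := I)
  refine ⟨MvPolynomial (Fin (N + 1)) A ⧸ I, inferInstance, inferInstance,
    Groth.Agent.Lib.GradedQuot.quotGrading 𝒜 I, inst, s.image (Ideal.Quotient.mk I), ?_, ?_, ?_, e, ?_⟩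
  · -- degree zero part
    rintro ⟨b, hb⟩
    obtain ⟨p, hp, rfl⟩ := (Groth.Agent.Lib.GradedQuot.mem_quotGrading 𝒜 I).1 hb
    have hp' : p.IsHomogeneous 0 := (mem_homogeneousSubmodule _ _).1 hp
    refine ⟨coeff 0 p, Subtype.ext ?_⟩
    rw [SetLike.GradeZero.coe_algebraMap]
    change algebraMap A (MvPolynomial (Fin (N + 1)) A ⧸ I) (coeff 0 p) = Ideal.Quotient.mk I p
    rw [IsScalarTower.algebraMap_apply A (MvPolynomial (Fin (N + 1)) A) (MvPolynomial (Fin (N + 1)) A ⧸ I),
      MvPolynomial.algebraMap_eq]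
    congr 1
    exact (totalDegree_eq_zero_iff_eq_C.1 ((totalDegree_zero_iff_isHomogeneous _).2 hp')).symm
  · intro g hg
    obtain ⟨g', hg', rfl⟩ := Finset.mem_image.1 hg
    exact Groth.Agent.Lib.GradedQuot.mk_mem_quotGrading 𝒜 I (hs1 g' hg')
  · apply le_antisymm
    · have h1 := Groth.Agent.Lib.ProjClosedSub.irrelevant_le_map_mkGraded 𝒜 I
      intro x hx
      have h2 : x ∈ Ideal.map φ (HomogeneousIdeal.irrelevant 𝒜).toIdeal := h1 hx
      rw [hs, Ideal.map_span] at h2
      rw [Finset.coe_image]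
      exact h2
    · rw [Ideal.span_le]
      intro g hg
      obtain ⟨g', hg', rfl⟩ := Finset.mem_image.1 (Finset.mem_coe.1 hg)
      exact HomogeneousIdeal.mem_irrelevant_of_mem _ Nat.one_pos
        (Groth.Agent.Lib.GradedQuot.mk_mem_quotGrading 𝒜 I (hs1 g' hg'))
  · rw [← hif, ← he, Category.assoc]
    congr 1
    exact (Groth.Agent.Lib.ProjMapImm.map_toSpecZero φ
      (Groth.Agent.Lib.ProjClosedSub.irrelevant_le_map_mkGraded 𝒜 I)
      (CommRingCat.ofHom (algebraMap A (𝒜 0)))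
      (CommRingCat.ofHom (algebraMap A (Groth.Agent.Lib.GradedQuot.quotGrading 𝒜 I 0)))
      (fun r => rfl)).symm

end Main

end Groth.Agent.Lib.ProjOfAmpleH3
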