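import Groth.Prelude.Def_Found
import Mathlib.RingTheory.Localization.Integral
import Mathlib.RingTheory.Localization.Ideal
import Mathlib.RingTheory.Localization.FractionRing
import Mathlib.RingTheory.Localization.Submodule
import Mathlib.RingTheory.Localization.Away.Basic
import Mathlib.RingTheory.Ideal.Operations

/-!
Finiteness of integral closures: passage to localizations, change of fraction field,
and local-to-global on a principal open cover. Used for the N-1 / N-2 statements.
-/

set_option autoImplicit false
universe u

namespace Groth.Agent.Lib.H87Japanese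

/-- If the integral closure of `R` in `L` is a finite `R`-module then the integral closure of a
localization `S` of `R` in `L` is a finite `S`-module. -/
theorem finite_integralClosure_of_isLocalization (R : Type u) [CommRing R] (M : Submonoid R)
    (S : Type u) [CommRing S] [Algebra R S] [IsLocalization M S]
    (L : Type u) [CommRing L] [Algebra R L] [Algebra S L] [IsScalarTower R S L]
    (hC : Module.Finite R (integralClosure R L)) : Module.Finite S (integralClosure S L) := by
  have hfg : (Subalgebra.toSubmodule (integralClosure R L)).FG := Module.Finite.iff_fg.mp hC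
  obtain ⟨T, hT⟩ := hfg
  refine (Module.Finite.iff_fg (N := Subalgebra.toSubmodule (integralClosure S L))).mpr ?_
  refine ⟨T, le_antisymm ?_ ?_⟩
  · rw [Submodule.span_le]
    intro t ht
    have h1 : t ∈ Subalgebra.toSubmodule (integralClosure R L) := by
      rw [← hT]; exact Submodule.subset_span ht
    have h2 : IsIntegral R t := h1
    exact h2.tower_top
  · intro x hx
    have hx' : IsIntegral S x := hx
    obtain ⟨m, hm⟩ := IsIntegral.exists_multiple_integral_of_isLocalization M x hx'
    have h1 : (m • x) ∈ Subalgebra.toSubmodule (integralClosure R L) := hm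
    rw [← hT] at h1
    have h2 : (m • x) ∈ Submodule.span S (T : Set L) :=
      Submodule.span_subset_span R S (T : Set L) h1
    obtain ⟨u, hu⟩ := IsLocalization.map_units S m
    have h3 : x = (↑u⁻¹ : S) • (m • x) := by
      rw [Submonoid.smul_def, ← algebraMap_smul S (m : R) x, ← hu, smul_smul,
        Units.inv_mul, one_smul]
    rw [h3]
    exact Submodule.smul_mem _ _ h2

/-- Finiteness of the integral closure of a domain in a fraction field does not depend on the
chosen fraction field. -/
theorem finite_integralClosure_of_isFractionRing (R : Type u) [CommRing R]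
    (L L' : Type u) [CommRing L] [Algebra R L] [IsFractionRing R L]
    [CommRing L'] [Algebra R L'] [IsFractionRing R L']
    (h : Module.Finite R (integralClosure R L)) :
    Module.Finite R (integralClosure R L') := by
  let e : L ≃ₐ[R] L' := IsLocalization.algEquiv (nonZeroDivisors R) L L'
  have hmap : (integralClosure R L).map (e : L →ₐ[R] L')
      = integralClosure R L' := integralClosure_map_algEquiv e
  rw [← hmap]
  exact Module.Finite.equiv
    ((integralClosure R L).equivMapOfInjective (e : L →ₐ[R] L')
      e.injective).toLinearEquiv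

/-- Local-to-global: if `f i` generate the unit ideal of `R` and the integral closure of each
`R[1/f i]` in `L` is finite, then the integral closure of `R` in `L` is finite. -/
theorem finite_integralClosure_of_span_eq_top (R : Type u) [CommRing R]
    {ι : Type u} [Finite ι] (f : ι → R) (hf : Ideal.span (Set.range f) = ⊤)
    (Rf : ι → Type u) [∀ i, CommRing (Rf i)] [∀ i, Algebra R (Rf i)]
    [∀ i, IsLocalization.Away (f i) (Rf i)]
    (L : Type u) [CommRing L] [Algebra R L] [∀ i, Algebra (Rf i) L]
    [∀ i, IsScalarTower R (Rf i) L]
    (h : ∀ i, Module.Finite (Rf i) (integralClosure (Rf i) L)) :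
    Module.Finite R (integralClosure R L) := by
  classical
  have := Fintype.ofFinite ι
  -- generators over each `Rf i`, chosen integral over `R`
  have key : ∀ i, ∃ T : Finset L, (∀ t ∈ T, IsIntegral R t) ∧
      ∀ x : L, IsIntegral (Rf i) x → x ∈ Submodule.span (Rf i) (T : Set L) := by
    intro i
    have hfg : (Subalgebra.toSubmodule (integralClosure (Rf i) L)).FG :=
      Module.Finite.iff_fg.mp (h i)
    obtain ⟨T, hT⟩ := hfg
    have hTint : ∀ t ∈ T, IsIntegral (Rf i) t := by
      intro t ht
      have : t ∈ Subalgebra.toSubmodule (integralClosure (Rf i) L) := by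
        rw [← hT]; exact Submodule.subset_span ht
      exact this
    have hch : ∀ t : L, ∃ m : Submonoid.powers (f i), t ∈ T → IsIntegral R (m • t) := by
      intro t
      by_cases ht : t ∈ T
      · obtain ⟨m, hm⟩ := IsIntegral.exists_multiple_integral_of_isLocalization
          (Submonoid.powers (f i)) t (hTint t ht)
        exact ⟨m, fun _ => hm⟩
      · exact ⟨1, fun h => absurd h ht⟩
    choose m hm using hch
    refine ⟨T.image (fun t => m t • t), ?_, ?_⟩
    · intro t' ht'
      rw [Finset.mem_image] at ht'
      obtain ⟨t, ht, rfl⟩ := ht'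
      exact hm t ht
    · intro x hx
      have hx' : x ∈ Submodule.span (Rf i) (T : Set L) := by
        rw [hT]; exact hx
      have hle : Submodule.span (Rf i) (T : Set L)
          ≤ Submodule.span (Rf i) ((T.image (fun t => m t • t) : Finset L) : Set L) := by
        rw [Submodule.span_le]
        intro t ht
        obtain ⟨u, hu⟩ := IsLocalization.map_units (Rf i) (m t)
        have h3 : t = (↑u⁻¹ : Rf i) • (m t • t) := by
          rw [Submonoid.smul_def, ← algebraMap_smul (Rf i) ((m t : R)) t, ← hu, smul_smul,
            Units.inv_mul, one_smul]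
        rw [SetLike.mem_coe, h3]
        refine Submodule.smul_mem _ _ (Submodule.subset_span ?_)
        rw [Finset.mem_coe, Finset.mem_image]
        exact ⟨t, ht, rfl⟩
      exact hle hx'
  choose T hTint hTspan using key
  let P : Submodule R L := Submodule.span R ((Finset.univ.biUnion T : Finset L) : Set L)
  refine (Module.Finite.iff_fg (N := Subalgebra.toSubmodule (integralClosure R L))).mpr ?_
  refine ⟨Finset.univ.biUnion T, le_antisymm ?_ ?_⟩
  · rw [Submodule.span_le]
    intro t ht
    rw [Finset.mem_coe, Finset.mem_biUnion] at ht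
    obtain ⟨i, -, hti⟩ := ht
    exact hTint i t hti
  · intro x hx
    have hxR : IsIntegral R x := hx
    refine Submodule.mem_of_span_eq_top_of_smul_pow_mem P (Set.range f) hf x ?_
    rintro ⟨_, i, rfl⟩
    have hxi : IsIntegral (Rf i) x := hxR.tower_top
    have h1 := hTspan i x hxi
    rw [IsLocalization.mem_span_iff (Submonoid.powers (f i)) (R := R)] at h1
    obtain ⟨y, hy, z, hz⟩ := h1
    obtain ⟨n, hn⟩ := z.2
    have hn' : (f i) ^ n = (z : R) := hn
    refine ⟨n, ?_⟩
    have h2 : ((f i) ^ n : R) • x = y := by
      rw [hz, ← algebraMap_smul (Rf i) ((f i) ^ n : R) (IsLocalization.mk' (Rf i) 1 z • y),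
        smul_smul, hn', IsLocalization.mk'_spec', map_one, one_smul]
    rw [h2]
    refine Submodule.span_mono ?_ hy
    intro t ht
    rw [Finset.mem_coe, Finset.mem_biUnion]
    exact ⟨i, Finset.mem_univ i, ht⟩

/-- A submonoid whose localization is a domain (over a domain) consists of nonzerodivisors. -/
theorem le_nonZeroDivisors_of_isDomain (R : Type u) [CommRing R] [IsDomain R] (M : Submonoid R)
    (S : Type u) [CommRing S] [Nontrivial S] [Algebra R S] [IsLocalization M S] :
    M ≤ nonZeroDivisors R := by
  intro m hm
  rw [mem_nonZeroDivisors_iff_ne_zero]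
  rintro rfl
  have hu := IsLocalization.map_units S (⟨0, hm⟩ : M)
  rw [map_zero] at hu
  exact not_isUnit_zero hu

/-- Finiteness over `K` gives finiteness over `K'` when the image of `K` lies in that of `K'`. -/
theorem finite_of_range_le {K K' L : Type*} [CommSemiring K] [CommSemiring K'] [Semiring L]
    [Algebra K L] [Algebra K' L]
    (hle : ∀ c : K, ∃ c' : K', algebraMap K' L c' = algebraMap K L c)
    (hfin : Module.Finite K L) : Module.Finite K' L := by
  obtain ⟨s, hs⟩ := hfin.fg_top
  refine ⟨⟨s, ?_⟩⟩
  rw [eq_top_iff]
  intro x _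
  have hx : x ∈ Submodule.span K (s : Set L) := by rw [hs]; trivial
  refine Submodule.span_induction ?_ ?_ ?_ ?_ hx
  · intro y hy; exact Submodule.subset_span hy
  · exact Submodule.zero_mem _
  · intro a b _ _ ha hb; exact Submodule.add_mem _ ha hb
  · intro c a _ ha
    obtain ⟨c', hc'⟩ := hle c
    rw [Algebra.smul_def, ← hc', ← Algebra.smul_def]
    exact Submodule.smul_mem _ c' ha

/-- The N-1 property, phrased for an arbitrary fraction field. -/
theorem finite_of_isN1 (R : Type u) [CommRing R] [IsDomain R] (h : CAlg.IsN1 R)
    (K : Type u) [Field K] [Algebra R K] [IsFractionRing R K] :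
    Module.Finite R (integralClosure R K) :=
  finite_integralClosure_of_isFractionRing R (FractionRing R) K h

/-- The N-1 property can be checked in an arbitrary fraction field. -/
theorem isN1_of_finite (R : Type u) [CommRing R] [IsDomain R]
    (K : Type u) [Field K] [Algebra R K] [IsFractionRing R K]
    (h : Module.Finite R (integralClosure R K)) : CAlg.IsN1 R :=
  finite_integralClosure_of_isFractionRing R K (FractionRing R) h

/-- The N-2 property, phrased for an arbitrary fraction field `K` and a finite extension `L`. -/
theorem finite_of_isN2 (R : Type u) [CommRing R] [IsDomain R] (h : CAlg.IsN2 R)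
    (K : Type u) [Field K] [Algebra R K] [IsFractionRing R K]
    (L : Type u) [Field L] [Algebra R L] [Algebra K L] [IsScalarTower R K L]
    (hfin : FiniteDimensional K L) : Module.Finite R (integralClosure R L) := by
  have hinj : Function.Injective (algebraMap R L) := by
    rw [IsScalarTower.algebraMap_eq R K L]
    exact (algebraMap K L).injective.comp (IsFractionRing.injective R K)
  have : FaithfulSMul R L := (faithfulSMul_iff_algebraMap_injective R L).mpr hinj
  let := FractionRing.liftAlgebra R L
  have := FractionRing.isScalarTower_liftAlgebra R L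
  refine h L (finite_of_range_le ?_ hfin)
  intro c
  obtain ⟨a, b, hb, rfl⟩ := IsFractionRing.div_surjective (A := R) c
  refine ⟨algebraMap R (FractionRing R) a / algebraMap R (FractionRing R) b, ?_⟩
  rw [map_div₀, map_div₀, ← IsScalarTower.algebraMap_apply, ← IsScalarTower.algebraMap_apply,
    ← IsScalarTower.algebraMap_apply, ← IsScalarTower.algebraMap_apply]

/-- N-1 is local on a finite principal open cover. -/
theorem isN1_of_span_eq_top (R : Type u) [CommRing R] [IsDomain R]
    {ι : Type u} [Finite ι] (f : ι → R) (hf : Ideal.span (Set.range f) = ⊤)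
    (Rf : ι → Type u) [∀ i, CommRing (Rf i)] [∀ i, IsDomain (Rf i)] [∀ i, Algebra R (Rf i)]
    [∀ i, IsLocalization.Away (f i) (Rf i)] (h : ∀ i, CAlg.IsN1 (Rf i)) : CAlg.IsN1 R := by
  have hM : ∀ i, Submonoid.powers (f i) ≤ nonZeroDivisors R := fun i =>
    le_nonZeroDivisors_of_isDomain R (Submonoid.powers (f i)) (Rf i)
  have hunits : ∀ i, ∀ y : Submonoid.powers (f i), IsUnit (algebraMap R (FractionRing R) y) :=
    fun i y => IsLocalization.map_units (FractionRing R) (⟨y.1, hM i y.2⟩ : nonZeroDivisors R)
  let _ : ∀ i, Algebra (Rf i) (FractionRing R) := fun i =>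
    (IsLocalization.lift (M := Submonoid.powers (f i)) (hunits i)).toAlgebra
  have : ∀ i, IsScalarTower R (Rf i) (FractionRing R) := fun i =>
    IsScalarTower.of_algebraMap_eq (fun x => (IsLocalization.lift_eq (hunits i) x).symm)
  have : ∀ i, IsFractionRing (Rf i) (FractionRing R) := fun i =>
    IsFractionRing.isFractionRing_of_isDomain_of_isLocalization (Submonoid.powers (f i)) (Rf i)
      (FractionRing R)
  have hi : ∀ i, Module.Finite (Rf i) (integralClosure (Rf i) (FractionRing R)) := fun i =>
    finite_of_isN1 (Rf i) (h i) (FractionRing R)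
  exact finite_integralClosure_of_span_eq_top R f hf Rf (FractionRing R) hi

/-- N-2 is local on a finite principal open cover. -/
theorem isN2_of_span_eq_top (R : Type u) [CommRing R] [IsDomain R]
    {ι : Type u} [Finite ι] (f : ι → R) (hf : Ideal.span (Set.range f) = ⊤)
    (Rf : ι → Type u) [∀ i, CommRing (Rf i)] [∀ i, IsDomain (Rf i)] [∀ i, Algebra R (Rf i)]
    [∀ i, IsLocalization.Away (f i) (Rf i)] (h : ∀ i, CAlg.IsN2 (Rf i)) : CAlg.IsN2 R := by
  intro L _ _ _ _ hfin
  have hM : ∀ i, Submonoid.powers (f i) ≤ nonZeroDivisors R := fun i =>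
    le_nonZeroDivisors_of_isDomain R (Submonoid.powers (f i)) (Rf i)
  have hunits : ∀ i, ∀ y : Submonoid.powers (f i), IsUnit (algebraMap R (FractionRing R) y) :=
    fun i y => IsLocalization.map_units (FractionRing R) (⟨y.1, hM i y.2⟩ : nonZeroDivisors R)
  let _ : ∀ i, Algebra (Rf i) (FractionRing R) := fun i =>
    (IsLocalization.lift (M := Submonoid.powers (f i)) (hunits i)).toAlgebra
  have : ∀ i, IsScalarTower R (Rf i) (FractionRing R) := fun i =>
    IsScalarTower.of_algebraMap_eq (fun x => (IsLocalization.lift_eq (hunits i) x).symm)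
  have : ∀ i, IsFractionRing (Rf i) (FractionRing R) := fun i =>
    IsFractionRing.isFractionRing_of_isDomain_of_isLocalization (Submonoid.powers (f i)) (Rf i)
      (FractionRing R)
  let _ : ∀ i, Algebra (Rf i) L := fun i =>
    ((algebraMap (FractionRing R) L).comp (algebraMap (Rf i) (FractionRing R))).toAlgebra
  have : ∀ i, IsScalarTower (Rf i) (FractionRing R) L := fun i =>
    IsScalarTower.of_algebraMap_eq (fun _ => rfl)
  have : ∀ i, IsScalarTower R (Rf i) L := fun i =>
    IsScalarTower.of_algebraMap_eq (fun x => by
      change algebraMap R L x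
        = algebraMap (FractionRing R) L (algebraMap (Rf i) (FractionRing R) (algebraMap R (Rf i) x))
      rw [← IsScalarTower.algebraMap_apply R (Rf i) (FractionRing R),
        ← IsScalarTower.algebraMap_apply R (FractionRing R) L])
  have hi : ∀ i, Module.Finite (Rf i) (integralClosure (Rf i) L) := fun i =>
    finite_of_isN2 (Rf i) (h i) (FractionRing R) L hfin
  exact finite_integralClosure_of_span_eq_top R f hf Rf L hi

/-- Dropping the zero members of a family does not change the ideal it spans. -/
theorem span_range_subtype_ne_zero {S : Type*} [CommRing S] {ι : Type*} (g : ι → S)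
    (hg : Ideal.span (Set.range g) = ⊤) :
    Ideal.span (Set.range (fun i : {i : ι // g i ≠ 0} => g i.1)) = ⊤ := by
  rw [← hg]
  refine le_antisymm (Ideal.span_mono ?_) ?_
  · rintro _ ⟨i, rfl⟩
    exact ⟨i.1, rfl⟩
  · rw [Ideal.span_le]
    rintro _ ⟨i, rfl⟩
    by_cases hi : g i = 0
    · rw [hi]; exact Ideal.zero_mem _
    · exact Ideal.subset_span ⟨⟨i, hi⟩, rfl⟩

/-- N-2 is local on a finite principal open cover; members of the family may vanish. -/
theorem isN2_of_span_eq_top' (R : Type u) [CommRing R] [IsDomain R]
    {ι : Type u} [Finite ι] (f : ι → R) (hf : Ideal.span (Set.range f) = ⊤)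
    (Rf : ι → Type u) [∀ i, CommRing (Rf i)] [∀ i, Algebra R (Rf i)]
    [∀ i, IsLocalization.Away (f i) (Rf i)]
    (h : ∀ i, f i ≠ 0 → ∃ hd : IsDomain (Rf i), @CAlg.IsN2 (Rf i) _ hd) : CAlg.IsN2 R := by
  have hd : ∀ i : {i : ι // f i ≠ 0}, IsDomain (Rf i.1) := fun i => (h i.1 i.2).choose
  exact isN2_of_span_eq_top R (fun i : {i : ι // f i ≠ 0} => f i.1)
    (span_range_subtype_ne_zero f hf) (fun i => Rf i.1) (fun i => (h i.1 i.2).choose_spec)

end Groth.Agent.Lib.H87Japanese
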