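import Groth.Prelude.Def_Found
import Groth.Agent.S0570
import Groth.Agent.S2114
import Groth.Agent.S9392
import Groth.Agent.Lib.H87Japanese
import Mathlib.RingTheory.NoetherNormalization

/-!
# Finite type domains over a field are N-2 (helper87)
-/

set_option autoImplicit false
universe u

namespace Groth.Agent.Lib.H87FieldN2

open Groth.Agent.Lib

/-- N-2 transports along ring isomorphisms. -/
theorem isN2_of_ringEquiv {R S : Type u} [CommRing R] [IsDomain R] [CommRing S] [IsDomain S]
    (e : R ≃+* S) (h : CAlg.IsN2 R) : CAlg.IsN2 S := by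
  letI : Algebra R S := e.toRingHom.toAlgebra
  haveI : IsLocalization (⊥ : Submonoid R) S := by
    refine ⟨⟨?_, ?_, ?_⟩⟩
    · rintro ⟨y, hy⟩
      rw [Submonoid.mem_bot] at hy
      subst hy
      simp
    · intro z
      refine ⟨⟨e.symm z, 1⟩, ?_⟩
      show z * e.toRingHom 1 = e.toRingHom (e.symm z)
      simp
    · intro x y hxy
      refine ⟨1, ?_⟩
      have : x = y := e.injective hxy
      rw [this]
  exact Groth.Agent.S9392.result R ⊥ S h

/-- A field is N-2. -/
theorem isN2_field (k : Type u) [Field k] : CAlg.IsN2 k := by
  intro L _ _ _ _ hfd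
  haveI := hfd
  haveI : Module.Finite k (FractionRing k) :=
    Module.Finite.of_surjective (FractionRing.algEquiv k k).symm.toLinearMap
      (FractionRing.algEquiv k k).symm.surjective
  haveI : Module.Finite k L := Module.Finite.trans (FractionRing k) L
  haveI : IsNoetherian k L := inferInstance
  exact Module.Finite.of_injective (Subalgebra.val _).toLinearMap Subtype.val_injective

/-- Polynomial rings in finitely many variables over a field are N-2. -/
theorem isN2_mvPolynomial_fin (k : Type u) [Field k] (n : ℕ) :
    CAlg.IsN2 (MvPolynomial (Fin n) k) := by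
  induction n with
  | zero =>
    exact isN2_of_ringEquiv (MvPolynomial.isEmptyRingEquiv k (Fin 0)).symm (isN2_field k)
  | succ n ih =>
    have h := (Groth.Agent.S0570.result (MvPolynomial (Fin n) k)).2 ih
    exact isN2_of_ringEquiv (MvPolynomial.finSuccEquiv k n).symm.toRingEquiv h

/-- A domain of finite type over a field is N-2. -/
theorem isN2_of_finiteType_field (k A : Type u) [Field k] [CommRing A] [IsDomain A] [Algebra k A]
    [Algebra.FiniteType k A] : CAlg.IsN2 A := by
  obtain ⟨s, g, hinj, hfin⟩ := exists_finite_inj_algHom_of_fg k A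
  letI : Algebra (MvPolynomial (Fin s) k) A := g.toRingHom.toAlgebra
  haveI : Module.Finite (MvPolynomial (Fin s) k) A := hfin
  haveI : IsScalarTower k (MvPolynomial (Fin s) k) A :=
    IsScalarTower.of_algebraMap_eq (fun r => (g.commutes r).symm)
  haveI : Algebra.FiniteType (MvPolynomial (Fin s) k) A :=
    Algebra.FiniteType.of_restrictScalars_finiteType k _ A
  exact Groth.Agent.S2114.result (R := MvPolynomial (Fin s) k) (S := A) hinj
    (isN2_mvPolynomial_fin k s)

end Groth.Agent.Lib.H87FieldN2
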