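import Groth.Agent.Lib.NormFieldFin85
import Groth.Agent.Lib.H87FieldN2
import Mathlib.AlgebraicGeometry.Morphisms.FiniteType

/-!
# Finiteness of normalization for integral schemes locally of finite type over a field (helper85)
-/

set_option autoImplicit false
universe u

open CategoryTheory CategoryTheory.Limits AlgebraicGeometry TopologicalSpace

namespace Groth.Agent.Lib.CurveNormFin85

open Groth.Agent.Lib

/-- Affine coordinate rings of an integral scheme locally of finite type over a field are N-2,
phrased with the function field as fraction field. -/
theorem finite_integralClosure_of_lft_field (k : Type u) [Field k] {X : Scheme.{u}}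
    (f : X ⟶ Spec (CommRingCat.of k)) [LocallyOfFiniteType f] [IsIntegral X]
    (V : X.Opens) (hV : IsAffineOpen V) [Nonempty V] (L : Type u) [Field L]
    [Algebra Γ(X, V) L] [Algebra X.functionField L]
    [IsScalarTower Γ(X, V) X.functionField L] (hfd : FiniteDimensional X.functionField L) :
    Module.Finite Γ(X, V) (integralClosure Γ(X, V) L) := by
  obtain ⟨φ, hφ⟩ := Spec.map_surjective (hV.fromSpec ≫ f)
  let _ : Algebra k Γ(X, V) := φ.hom.toAlgebra
  have hlft : LocallyOfFiniteType (Spec.map φ) := by rw [hφ]; infer_instance
  have hft : Algebra.FiniteType k Γ(X, V) :=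
    (HasRingHomProperty.Spec_iff (P := @LocallyOfFiniteType)).mp hlft
  have hfr : IsFractionRing Γ(X, V) X.functionField :=
    functionField_isFractionRing_of_isAffineOpen X V hV
  exact H87Japanese.finite_of_isN2 Γ(X, V) (H87FieldN2.isN2_of_finiteType_field k Γ(X, V))
    X.functionField L hfd

end Groth.Agent.Lib.CurveNormFin85
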