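import Groth.Agent.Lib.NormField85
import Mathlib.RingTheory.Localization.Integral
import Mathlib.RingTheory.FractionalIdeal.Operations
import Mathlib.AlgebraicGeometry.Morphisms.Finite

set_option autoImplicit false
universe u

open CategoryTheory CategoryTheory.Limits AlgebraicGeometry TopologicalSpace

namespace Groth.Agent.Lib.NormGenIso85

open Groth.Agent.Lib.NormField85

/-- If `s` is a universal denominator for the integral closure of `A` in `K = Frac A`, then the
localization `A_s` is integrally closed. -/
theorem isIntegrallyClosed_away_of_denominator {A K As : Type*} [CommRing A] [IsDomain A]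
    [Field K] [Algebra A K] [CommRing As] [IsDomain As] [Algebra A As] [Algebra As K]
    [IsScalarTower A As K] [IsFractionRing As K] (s : A) [IsLocalization.Away s As]
    (h : ∀ y : K, IsIntegral A y → ∃ a : A, algebraMap A K a = algebraMap A K s * y) :
    IsIntegrallyClosed As := by
  rw [isIntegrallyClosed_iff K]
  intro x hx
  obtain ⟨⟨_, n, rfl⟩, hm⟩ :=
    IsIntegral.exists_multiple_integral_of_isLocalization (Submonoid.powers s) x hx
  obtain ⟨a, ha⟩ := h _ hm
  have hu : IsUnit (algebraMap A As s) := IsLocalization.Away.algebraMap_isUnit s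
  obtain ⟨u, hu'⟩ := hu
  refine ⟨algebraMap A As a * ((u⁻¹ : Asˣ) : As) ^ (n + 1), ?_⟩
  have h1 : algebraMap As K (algebraMap A As s) = algebraMap A K s :=
    (IsScalarTower.algebraMap_apply A As K s).symm
  have h2 : algebraMap As K ((u⁻¹ : Asˣ) : As) * algebraMap A K s = 1 := by
    rw [← h1, ← hu', ← map_mul, Units.inv_mul, map_one]
  rw [map_mul, map_pow, ← IsScalarTower.algebraMap_apply A As K, ha, Submonoid.smul_def,
    Algebra.smul_def, map_pow]
  calc algebraMap A K s * (algebraMap A K s ^ n * x) * algebraMap As K ((u⁻¹ : Asˣ) : As) ^ (n + 1)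
      = (algebraMap As K ((u⁻¹ : Asˣ) : As) * algebraMap A K s) ^ (n + 1) * x := by ring
    _ = x := by rw [h2, one_pow, one_mul]

/-- A finitely generated submodule of the fraction field has a universal denominator. -/
theorem exists_denominator_of_fg {A K : Type*} [CommRing A] [IsDomain A]
    [Field K] [Algebra A K] [IsFractionRing A K] (I : Submodule A K) (hI : I.FG) :
    ∃ s : A, s ≠ 0 ∧ ∀ y ∈ I, ∃ a : A, algebraMap A K a = algebraMap A K s * y := by
  obtain ⟨s, hs, h⟩ := FractionalIdeal.isFractional_of_fg (S := nonZeroDivisors A) hI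
  refine ⟨s, nonZeroDivisors.ne_zero hs, fun y hy ↦ ?_⟩
  obtain ⟨a, ha⟩ := h y hy
  exact ⟨a, by rw [ha, Algebra.smul_def]⟩

section

variable (X : Scheme.{u}) [IsIntegral X]
  [QuasiCompact (X.fromSpecStalk (genericPoint X))]
  [QuasiSeparated (X.fromSpecStalk (genericPoint X))]

/-- The normalization morphism is an isomorphism over an affine open with integrally closed
coordinate ring. -/
theorem isIso_morphismRestrict_of_isIntegrallyClosed {V : X.Opens} (hV : IsAffineOpen V)
    [Nonempty V] (hic : IsIntegrallyClosed Γ(X, V)) :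
    IsIso ((X.fromSpecStalk (genericPoint X)).fromNormalization ∣_ V) := by
  set g := X.fromSpecStalk (genericPoint X) with hgdef
  have hR : IsField (X.presheaf.stalk (genericPoint X)) := isField_stalk_of_eq_genericPoint rfl
  have hg : g = Spec.map (𝟙 (X.presheaf.stalk (genericPoint X))) ≫
      X.fromSpecStalk (genericPoint X) := by simp [hgdef]
  have hint : IsIntegral g.normalization := isIntegral_normalization hR g
  have hξ : genericPoint X ∈ V :=
    ((genericPoint_spec X).mem_open_set_iff V.isOpen).mpr (by simpa using ‹Nonempty V›)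
  have hfζ := fromNormalization_toNormalization_closedPoint hR (𝟙 _) g hg
  have hζ : g.toNormalization (IsLocalRing.closedPoint (X.presheaf.stalk (genericPoint X))) ∈
      g.fromNormalization ⁻¹ᵁ V := by
    change g.fromNormalization _ ∈ V
    rw [hfζ]; exact hξ
  obtain ⟨c1, c2, -⟩ := chart_facts (𝟙 _) g hg hV hξ hζ
  have hτinj : Function.Injective (g.normalization.presheaf.germ (g.fromNormalization ⁻¹ᵁ V) _ hζ ≫
        Scheme.stalkClosedPointTo g.toNormalization).hom := by
    rw [CommRingCat.hom_comp, RingHom.coe_comp]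
    exact (injective_stalkClosedPointTo hR g).comp (germ_injective_of_isIntegral _ _ hζ)
  have hfr : IsFractionRing Γ(X, V) X.functionField :=
    functionField_isFractionRing_of_isAffineOpen X V hV
  rw [isIso_morphismRestrict_iff_isIso_app _ hV]
  refine (ConcreteCategory.isIso_iff_bijective _).mpr ⟨fun a a' h ↦ ?_, fun b ↦ ?_⟩
  · have h1 := c1 a
    have h2 := c1 a'
    have h3 : (g.fromNormalization.app V).hom a = (g.fromNormalization.app V).hom a' := h
    rw [h3, h2] at h1
    exact germ_injective_of_isIntegral X _ hξ h1.symm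
  · have hb : IsIntegral Γ(X, V) ((g.normalization.presheaf.germ (g.fromNormalization ⁻¹ᵁ V) _ hζ ≫
        Scheme.stalkClosedPointTo g.toNormalization).hom b : X.functionField) := c2 b
    obtain ⟨a, ha⟩ := IsIntegrallyClosed.algebraMap_eq_of_integral hb
    refine ⟨a, hτinj ?_⟩
    change _ = _ at ha
    rw [← ha]
    exact c1 a

/-- If the normalization morphism is finite, it is an isomorphism over a nonempty open. -/
theorem exists_isIso_morphismRestrict
    (hfin : IsFinite (X.fromSpecStalk (genericPoint X)).fromNormalization) :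
    ∃ V : X.Opens, (V : Set X).Nonempty ∧
      IsIso ((X.fromSpecStalk (genericPoint X)).fromNormalization ∣_ V) := by
  set g := X.fromSpecStalk (genericPoint X) with hgdef
  have hR : IsField (X.presheaf.stalk (genericPoint X)) := isField_stalk_of_eq_genericPoint rfl
  have hg : g = Spec.map (𝟙 (X.presheaf.stalk (genericPoint X))) ≫
      X.fromSpecStalk (genericPoint X) := by simp [hgdef]
  have hint : IsIntegral g.normalization := isIntegral_normalization hR g
  obtain ⟨_, ⟨U, hU', rfl⟩, hξ, -⟩ := X.isBasis_affineOpens.exists_subset_of_mem_open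
    (Set.mem_univ (genericPoint X)) isOpen_univ
  have hU : IsAffineOpen U := hU'
  have hne : Nonempty U := ⟨⟨_, hξ⟩⟩
  have hfζ := fromNormalization_toNormalization_closedPoint hR (𝟙 _) g hg
  have hζ : g.toNormalization (IsLocalRing.closedPoint (X.presheaf.stalk (genericPoint X))) ∈
      g.fromNormalization ⁻¹ᵁ U := by
    change g.fromNormalization _ ∈ U
    rw [hfζ]; exact hξ
  obtain ⟨c1, c2, c3⟩ := chart_facts (𝟙 _) g hg hU hξ hζ
  have hfr : IsFractionRing Γ(X, U) X.functionField :=
    functionField_isFractionRing_of_isAffineOpen X U hU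
  have hfinU : (g.fromNormalization.app U).hom.Finite := IsFinite.finite_app _ U hU
  let _ : Algebra Γ(X, U) Γ(g.normalization, g.fromNormalization ⁻¹ᵁ U) :=
    (g.fromNormalization.app U).hom.toAlgebra
  have hmf : Module.Finite Γ(X, U) Γ(g.normalization, g.fromNormalization ⁻¹ᵁ U) := hfinU
  let τ : Γ(g.normalization, g.fromNormalization ⁻¹ᵁ U) →ₐ[Γ(X, U)] X.functionField :=
    { (g.normalization.presheaf.germ (g.fromNormalization ⁻¹ᵁ U) _ hζ ≫
        Scheme.stalkClosedPointTo g.toNormalization).hom with
      commutes' := c1 }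
  obtain ⟨s, hs0, hs⟩ := exists_denominator_of_fg (K := X.functionField)
    (Submodule.map τ.toLinearMap ⊤) (Module.Finite.fg_top.map _)
  have hsξ : genericPoint X ∈ X.basicOpen s := by
    rw [Scheme.mem_basicOpen _ _ _ hξ]
    have : X.presheaf.germ U (genericPoint X) hξ s ≠ 0 := by
      intro h0
      apply hs0
      apply germ_injective_of_isIntegral X _ hξ
      rw [h0, map_zero]
    exact isUnit_iff_ne_zero.mpr this
  have hneV : Nonempty (X.basicOpen s) := ⟨⟨_, hsξ⟩⟩
  have hV : IsAffineOpen (X.basicOpen s) := hU.basicOpen s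
  have hloc : IsLocalization.Away s Γ(X, X.basicOpen s) := hU.isLocalization_basicOpen s
  have hfrV : IsFractionRing Γ(X, X.basicOpen s) X.functionField :=
    functionField_isFractionRing_of_isAffineOpen X _ hV
  have hst : IsScalarTower Γ(X, U) Γ(X, X.basicOpen s) X.functionField := by
    refine .of_algebraMap_eq' ?_
    change (X.germToFunctionField U).hom = (X.germToFunctionField (X.basicOpen s)).hom.comp
      (X.presheaf.map (homOfLE (X.basicOpen_le s)).op).hom
    rw [← CommRingCat.hom_comp]
    congr 1
    exact (TopCat.Presheaf.germ_res _ _ _ _).symm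
  have hic : IsIntegrallyClosed Γ(X, X.basicOpen s) := by
    refine isIntegrallyClosed_away_of_denominator (K := X.functionField) s fun y hy ↦ ?_
    obtain ⟨b, hb⟩ := c3 y hy
    exact hs y ⟨b, trivial, hb⟩
  exact ⟨X.basicOpen s, ⟨_, hsξ⟩, isIso_morphismRestrict_of_isIntegrallyClosed X hV hic⟩

end

end Groth.Agent.Lib.NormGenIso85
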