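import Mathlib.AlgebraicGeometry.FunctionField
import Mathlib.AlgebraicGeometry.Normalization
import Mathlib.RingTheory.IntegralClosure.IntegrallyClosed

set_option autoImplicit false
universe u

open CategoryTheory CategoryTheory.Limits AlgebraicGeometry TopologicalSpace

namespace Groth.Agent.Lib.NormalizationIntegral

/-- The integral closure of a domain `A` in a ring isomorphic (over `A`) to its fraction field is
integrally closed. -/
theorem isIntegrallyClosed_integralClosure_of_equiv {A L K : Type*} [CommRing A] [IsDomain A]
    [CommRing L] [Algebra A L] [Field K] [Algebra A K] [IsFractionRing A K] (e : L ≃+* K)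
    (he : ∀ a, e (algebraMap A L a) = algebraMap A K a) :
    IsIntegrallyClosed (integralClosure A L) := by
  let e' : L ≃ₐ[A] K := AlgEquiv.ofRingEquiv (f := e) he
  have h1 : IsIntegrallyClosed (integralClosure A K) :=
    integralClosure.isIntegrallyClosedOfFiniteExtension (R := A) K (L := K)
  exact IsIntegrallyClosed.of_equiv (e'.mapIntegralClosure.symm.toRingEquiv)

section

variable (X : Scheme.{u}) [IsIntegral X]

/-- For a nonempty affine open `V` of an integral scheme, the integral closure of `Γ(X, V)` in the
sections of the spectrum of the function field over the preimage of `V` is integrally closed. -/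
theorem isIntegrallyClosed_integralClosure_sections {V : X.Opens} (hV : IsAffineOpen V)
    [hne : Nonempty V] :
    letI := ((X.fromSpecStalk (genericPoint X)).app V).hom.toAlgebra
    IsIntegrallyClosed (integralClosure Γ(X, V)
      Γ(Spec (X.presheaf.stalk (genericPoint X)), (X.fromSpecStalk (genericPoint X)) ⁻¹ᵁ V)) := by
  let _ := ((X.fromSpecStalk (genericPoint X)).app V).hom.toAlgebra
  have hηV : genericPoint X ∈ V :=
    ((genericPoint_spec X).mem_open_set_iff V.isOpen).mpr (by simpa using hne)
  have htop : (X.fromSpecStalk (genericPoint X)) ⁻¹ᵁ V = ⊤ := by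
    rw [← top_le_iff]
    intro p _
    have : Subsingleton (Spec (X.presheaf.stalk (genericPoint X))) :=
      inferInstanceAs (Subsingleton (PrimeSpectrum X.functionField))
    have hsp : IsLocalRing.closedPoint (X.presheaf.stalk (genericPoint X)) = p :=
      Subsingleton.elim _ _
    change (X.fromSpecStalk (genericPoint X)).base p ∈ V
    rw [← hsp, Scheme.fromSpecStalk_closedPoint]
    exact hηV
  let ρ : X.presheaf.stalk (genericPoint X) ⟶
      Γ(Spec (X.presheaf.stalk (genericPoint X)), (X.fromSpecStalk (genericPoint X)) ⁻¹ᵁ V) :=
    (Scheme.ΓSpecIso (X.presheaf.stalk (genericPoint X))).inv ≫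
      (Spec (X.presheaf.stalk (genericPoint X))).presheaf.map (homOfLE le_top).op
  have hρ : IsIso ρ := by
    have : IsIso ((Spec (X.presheaf.stalk (genericPoint X))).presheaf.map
        (homOfLE (le_top : (X.fromSpecStalk (genericPoint X)) ⁻¹ᵁ V ≤ ⊤)).op) := by
      rw [show homOfLE (le_top : (X.fromSpecStalk (genericPoint X)) ⁻¹ᵁ V ≤ ⊤) = eqToHom htop
        from rfl]
      infer_instance
    infer_instance
  have happ : (X.fromSpecStalk (genericPoint X)).app V = X.germToFunctionField V ≫ ρ :=
    Scheme.fromSpecStalk_app hηV
  have hfr : IsFractionRing Γ(X, V) X.functionField :=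
    functionField_isFractionRing_of_isAffineOpen X V hV
  refine isIntegrallyClosed_integralClosure_of_equiv (K := X.functionField)
    (asIso ρ).symm.commRingCatIsoToRingEquiv fun a ↦ ?_
  change (inv ρ).hom (((X.fromSpecStalk (genericPoint X)).app V).hom a) = _
  rw [happ]
  change (X.germToFunctionField V ≫ ρ ≫ inv ρ).hom a = _
  rw [IsIso.hom_inv_id, Category.comp_id]
  rfl

omit [IsIntegral X] in
/-- The stalk map of a morphism equal to `X.fromSpecStalk x` at the closed point is surjective. -/
theorem stalkMap_closedPoint_surjective (x : X)
    [IsLocalRing (X.presheaf.stalk x)] (g : Spec (X.presheaf.stalk x) ⟶ X)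
    (hg : g = X.fromSpecStalk x) :
    Function.Surjective (g.stalkMap (IsLocalRing.closedPoint (X.presheaf.stalk x))) := by
  subst hg
  have h := Scheme.stalkClosedPointTo_fromSpecStalk x
  have h2 : (X.fromSpecStalk x).stalkMap (IsLocalRing.closedPoint (X.presheaf.stalk x)) =
      (X.presheaf.stalkCongr (by rw [Scheme.fromSpecStalk_closedPoint]; rfl)).hom ≫
        (stalkClosedPointIso (X.presheaf.stalk x)).inv := by
    rw [← h, Scheme.stalkClosedPointTo, Category.assoc, Iso.hom_inv_id, Category.comp_id]
  rw [h2]
  exact (ConcreteCategory.bijective_of_isIso _).2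

variable [QuasiCompact (X.fromSpecStalk (genericPoint X))]
  [QuasiSeparated (X.fromSpecStalk (genericPoint X))]

/-- The stalks of the normalization of an integral scheme in its function field are integrally
closed. -/
theorem isIntegrallyClosed_stalk_normalization
    (z : (X.fromSpecStalk (genericPoint X)).normalization) :
    IsIntegrallyClosed ((X.fromSpecStalk (genericPoint X)).normalization.presheaf.stalk z) := by
  set f := X.fromSpecStalk (genericPoint X) with hf
  obtain ⟨_, ⟨V, hV, rfl⟩, hzV, -⟩ := X.isBasis_affineOpens.exists_subset_of_mem_open
    (Set.mem_univ (f.fromNormalization.base z)) isOpen_univ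
  have hne : Nonempty V := ⟨⟨_, hzV⟩⟩
  have hW : IsAffineOpen (f.fromNormalization ⁻¹ᵁ V) := hV.preimage f.fromNormalization
  have hzW : z ∈ f.fromNormalization ⁻¹ᵁ V := hzV
  have hneW : Nonempty (f.fromNormalization ⁻¹ᵁ V : f.normalization.Opens) := ⟨⟨z, hzW⟩⟩
  have h1 := isIntegrallyClosed_integralClosure_sections X hV
  have h2 : IsIntegrallyClosed Γ(f.normalization, f.fromNormalization ⁻¹ᵁ V) :=
    IsIntegrallyClosed.of_equiv (f.normalizationObjIso hV).symm.commRingCatIsoToRingEquiv
  let _ := TopCat.Presheaf.algebra_section_stalk f.normalization.presheaf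
    (U := f.fromNormalization ⁻¹ᵁ V) ⟨z, hzW⟩
  have hloc := hW.isLocalization_stalk ⟨z, hzW⟩
  exact isIntegrallyClosed_of_isLocalization (R := Γ(f.normalization, f.fromNormalization ⁻¹ᵁ V)) _
    (hW.primeIdealOf ⟨z, hzW⟩).asIdeal.primeCompl
    (Ideal.primeCompl_le_nonZeroDivisors (hW.primeIdealOf ⟨z, hzW⟩).asIdeal)

/-- The closed point of the spectrum of the function field maps to the generic point of the
normalization. -/
theorem toNormalization_closedPoint :
    (X.fromSpecStalk (genericPoint X)).toNormalization.base
      (IsLocalRing.closedPoint (X.presheaf.stalk (genericPoint X))) =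
      genericPoint (X.fromSpecStalk (genericPoint X)).normalization := by
  set f := X.fromSpecStalk (genericPoint X) with hf
  have : Subsingleton (Spec (X.presheaf.stalk (genericPoint X))) :=
    inferInstanceAs (Subsingleton (PrimeSpectrum X.functionField))
  refine ((genericPoint_spec f.normalization).eq ?_).symm
  rw [isGenericPoint_def]
  have hd : DenseRange f.toNormalization.base := f.toNormalization.denseRange
  have hrange : Set.range f.toNormalization.base =
      {f.toNormalization.base (IsLocalRing.closedPoint (X.presheaf.stalk (genericPoint X)))} := by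
    ext z
    simp only [Set.mem_range, Set.mem_singleton_iff]
    constructor
    · rintro ⟨p, rfl⟩
      rw [Subsingleton.elim p (IsLocalRing.closedPoint (X.presheaf.stalk (genericPoint X)))]
    · rintro rfl
      exact ⟨_, rfl⟩
  rw [← hrange]
  exact hd.closure_range

theorem surjective_fromNormalization :
    Function.Surjective (X.fromSpecStalk (genericPoint X)).fromNormalization.base := by
  set f := X.fromSpecStalk (genericPoint X) with hf
  have hcl : IsClosed (Set.range f.fromNormalization.base) :=
    f.fromNormalization.isClosedMap.isClosed_range
  have hη : genericPoint X ∈ Set.range f.fromNormalization.base := by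
    refine ⟨f.toNormalization.base (IsLocalRing.closedPoint (X.presheaf.stalk (genericPoint X))), ?_⟩
    rw [← Scheme.Hom.comp_apply, f.toNormalization_fromNormalization, hf,
      Scheme.fromSpecStalk_closedPoint]
  have : closure {genericPoint X} ⊆ Set.range f.fromNormalization.base :=
    hcl.closure_subset_iff.mpr (Set.singleton_subset_iff.mpr hη)
  rw [(genericPoint_spec X).def] at this
  exact Set.range_eq_univ.mp (Set.univ_subset_iff.mp this)

theorem fromNormalization_genericPoint :
    (X.fromSpecStalk (genericPoint X)).fromNormalization.base
      (genericPoint (X.fromSpecStalk (genericPoint X)).normalization) = genericPoint X := by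
  set f := X.fromSpecStalk (genericPoint X) with hf
  rw [← toNormalization_closedPoint, ← Scheme.Hom.comp_apply, f.toNormalization_fromNormalization,
    hf, Scheme.fromSpecStalk_closedPoint]

theorem bijective_residueFieldMap_fromNormalization :
    Function.Bijective ((X.fromSpecStalk (genericPoint X)).fromNormalization.residueFieldMap
      (genericPoint (X.fromSpecStalk (genericPoint X)).normalization)).hom := by
  set f := X.fromSpecStalk (genericPoint X) with hf
  suffices H : ∀ z : f.normalization,
      z = f.toNormalization.base (IsLocalRing.closedPoint (X.presheaf.stalk (genericPoint X))) →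
      Function.Bijective (f.fromNormalization.residueFieldMap z).hom from
    H _ (toNormalization_closedPoint X).symm
  rintro z rfl
  let pt : Spec (X.presheaf.stalk (genericPoint X)) :=
    IsLocalRing.closedPoint (X.presheaf.stalk (genericPoint X))
  change Function.Bijective
    (f.fromNormalization.residueFieldMap (f.toNormalization.base pt)).hom
  refine ⟨RingHom.injective _, ?_⟩
  -- the composite is surjective on residue fields
  have hs : Function.Surjective ((f.toNormalization ≫ f.fromNormalization).stalkMap pt) :=
    stalkMap_closedPoint_surjective X (genericPoint X) _ f.toNormalization_fromNormalization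
  have hc : Function.Surjective
      ((f.toNormalization ≫ f.fromNormalization).residueFieldMap pt).hom := by
    have e := Scheme.residue_residueFieldMap (f.toNormalization ≫ f.fromNormalization) pt
    have hsurj : Function.Surjective
        (((Spec (X.presheaf.stalk (genericPoint X))).residue pt).hom ∘
          ((f.toNormalization ≫ f.fromNormalization).stalkMap pt).hom) :=
      (Scheme.residue_surjective _ _).comp hs
    have hsurj' : Function.Surjective
        (((f.toNormalization ≫ f.fromNormalization).residueFieldMap pt).hom ∘
          (X.residue ((f.toNormalization ≫ f.fromNormalization).base pt)).hom) := by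
      have e' := congrArg (fun φ ↦ (φ.hom : _ → _)) e
      simp only [CommRingCat.hom_comp, RingHom.coe_comp] at e'
      rw [e']
      exact hsurj
    exact Function.Surjective.of_comp hsurj'
  have hcomp := Scheme.residueFieldMap_comp f.toNormalization f.fromNormalization pt
  rw [hcomp] at hc
  have hc' : Function.Surjective ((f.toNormalization.residueFieldMap pt).hom ∘
      (f.fromNormalization.residueFieldMap (f.toNormalization.base pt)).hom) := hc
  have hbinj : Function.Injective (f.toNormalization.residueFieldMap pt).hom :=
    RingHom.injective _
  intro y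
  obtain ⟨x, hx⟩ := hc' ((f.toNormalization.residueFieldMap pt).hom y)
  exact ⟨x, hbinj hx⟩

end

end Groth.Agent.Lib.NormalizationIntegral
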