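import Groth.Agent.Lib.LocalIsoSpread

/-!
Variants of `Lib/LocalIsoSpread.exists_iso_opens`:
* `exists_iso_opens_of_spread`: the local-inverse argument given already spread-out morphisms in both
  directions (only needs `LocallyOfFiniteType`);
* `exists_iso_opens_of_isGermInjective`: for `S`-schemes locally of finite type which are germ-injective
  at the points (e.g. integral or locally Noetherian schemes), using Mathlib's
  `spread_out_of_isGermInjective` for existence.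
-/

set_option autoImplicit false
universe u

open AlgebraicGeometry CategoryTheory

namespace Groth.Agent.Lib.LocalIsoSpread

set_option backward.isDefEq.respectTransparency false in
/-- The local-inverse argument: given spread-out morphisms `f1`, `g1` of `φ` and `inv φ`, there are
open neighbourhoods on which `f1` restricts to an isomorphism. -/
theorem exists_iso_opens_of_spread {X Y S : Scheme.{u}} (sX : X ⟶ S) (sY : Y ⟶ S)
    [LocallyOfFiniteType sX] [LocallyOfFiniteType sY]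
    {x : X} {y : Y} (φ : Y.presheaf.stalk y ⟶ X.presheaf.stalk x) [IsIso φ]
    (U1 : X.Opens) (hxU1 : x ∈ U1) (f1 : U1.toScheme ⟶ Y)
    (hf1 : Spec.map φ ≫ Y.fromSpecStalk y = U1.fromSpecStalkOfMem x hxU1 ≫ f1)
    (hf1S : f1 ≫ sY = U1.ι ≫ sX)
    (V1 : Y.Opens) (hyV1 : y ∈ V1) (g1 : V1.toScheme ⟶ X)
    (hg1 : Spec.map (inv φ) ≫ X.fromSpecStalk x = V1.fromSpecStalkOfMem y hyV1 ≫ g1)
    (hg1S : g1 ≫ sX = V1.ι ≫ sY) :
    ∃ (U : X.Opens) (hxU : x ∈ U) (V : Y.Opens) (_ : y ∈ V) (f : U.toScheme ⟶ V.toScheme),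
      IsIso f ∧ Spec.map φ ≫ Y.fromSpecStalk y = U.fromSpecStalkOfMem x hxU ≫ f ≫ V.ι ∧
        f ≫ V.ι ≫ sY = U.ι ≫ sX := by
  have hloc1 : IsLocalHom φ.hom := inferInstance
  have hloc2 : IsLocalHom (inv φ).hom := inferInstance
  obtain ⟨U3, hU3le, F3, hxU3, hF3, hF3g⟩ := exists_opens_comp_eq_ι sX sY φ (inv φ)
    (IsIso.inv_hom_id φ) U1 hxU1 f1 hf1 hf1S V1 hyV1 g1 hg1 hg1S
  obtain ⟨V3, hV3le, G3, hyV3, hG3, hG3f⟩ := exists_opens_comp_eq_ι sY sX (inv φ) φ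
    (IsIso.hom_inv_id φ) V1 hyV1 g1 hg1 hg1S U1 hxU1 f1 hf1 hf1S
  -- the two partial morphisms
  let a : U3.toScheme ⟶ Y := X.homOfLE hU3le ≫ f1
  let b : V3.toScheme ⟶ X := Y.homOfLE hV3le ≫ g1
  have ha : F3 ≫ V1.ι = a := hF3
  have hb : G3 ≫ U1.ι = b := hG3
  have H1 : a.resLE V3 (a ⁻¹ᵁ V3) le_rfl ≫ b = (a ⁻¹ᵁ V3).ι ≫ U3.ι := by
    have h1 : a.resLE V3 (a ⁻¹ᵁ V3) le_rfl ≫ Y.homOfLE hV3le = (a ⁻¹ᵁ V3).ι ≫ F3 := by
      rw [← cancel_mono V1.ι, Category.assoc, Scheme.homOfLE_ι, Scheme.Hom.resLE_comp_ι,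
        Category.assoc, ha]
    show _ ≫ Y.homOfLE hV3le ≫ g1 = _
    rw [← Category.assoc, h1, Category.assoc, hF3g]
  have H2 : b.resLE U3 (b ⁻¹ᵁ U3) le_rfl ≫ a = (b ⁻¹ᵁ U3).ι ≫ V3.ι := by
    have h1 : b.resLE U3 (b ⁻¹ᵁ U3) le_rfl ≫ X.homOfLE hU3le = (b ⁻¹ᵁ U3).ι ≫ G3 := by
      rw [← cancel_mono U1.ι, Category.assoc, Scheme.homOfLE_ι, Scheme.Hom.resLE_comp_ι,
        Category.assoc, hb]
    show _ ≫ X.homOfLE hU3le ≫ f1 = _
    rw [← Category.assoc, h1, Category.assoc, hG3f]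
  obtain ⟨f, g, hfg, hgf, hfι, hgι⟩ := exists_mutual_inverse U3 V3 a b H1 H2
  -- the points
  have hax : a ⟨x, hxU3⟩ = y := by
    refine apply_eq_of_fromSpecStalk φ U3 hxU3 a ?_
    show _ = _ ≫ X.homOfLE hU3le ≫ f1
    rw [← Category.assoc, fromSpecStalkOfMem_homOfLE, hf1]
  have hby : b ⟨y, hyV3⟩ = x := by
    refine apply_eq_of_fromSpecStalk (inv φ) V3 hyV3 b ?_
    show _ = _ ≫ Y.homOfLE hV3le ≫ g1
    rw [← Category.assoc, fromSpecStalkOfMem_homOfLE, hg1]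
  have hxA : (⟨x, hxU3⟩ : U3.toScheme) ∈ a ⁻¹ᵁ V3 := by
    show a ⟨x, hxU3⟩ ∈ V3
    rw [hax]; exact hyV3
  have hyB : (⟨y, hyV3⟩ : V3.toScheme) ∈ b ⁻¹ᵁ U3 := by
    show b ⟨y, hyV3⟩ ∈ U3
    rw [hby]; exact hxU3
  let U : X.Opens := U3.ι ''ᵁ (a ⁻¹ᵁ V3)
  let V : Y.Opens := V3.ι ''ᵁ (b ⁻¹ᵁ U3)
  have hxU : x ∈ U := ⟨⟨x, hxU3⟩, hxA, rfl⟩
  have hyV : y ∈ V := ⟨⟨y, hyV3⟩, hyB, rfl⟩
  let iU := U3.ι.isoImage (a ⁻¹ᵁ V3)
  let iV := V3.ι.isoImage (b ⁻¹ᵁ U3)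
  have hfV : (iU.inv ≫ f ≫ iV.hom) ≫ V.ι = X.homOfLE ((U3.ι_image_le _).trans hU3le) ≫ f1 := by
    simp only [Category.assoc]
    rw [Scheme.Hom.isoImage_hom_ι, reassoc_of% hfι, Scheme.Hom.resLE_comp_ι,
      ← Category.assoc, Scheme.Opens.isoImage_ι_inv_ι]
    show _ ≫ X.homOfLE hU3le ≫ f1 = _
    rw [Scheme.homOfLE_homOfLE_assoc]
  refine ⟨U, hxU, V, hyV, iU.inv ≫ f ≫ iV.hom, ?_, ?_, ?_⟩
  · refine ⟨iV.inv ≫ g ≫ iU.hom, ?_, ?_⟩
    · simp only [Category.assoc, Iso.hom_inv_id_assoc]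
      rw [reassoc_of% hfg, Iso.inv_hom_id]
    · simp only [Category.assoc, Iso.hom_inv_id_assoc]
      rw [reassoc_of% hgf, Iso.inv_hom_id]
  · rw [hfV, ← Category.assoc, fromSpecStalkOfMem_homOfLE, hf1]
  · rw [← Category.assoc, hfV, Category.assoc, hf1S, Scheme.homOfLE_ι_assoc]


/-- Spreading out an isomorphism of local rings for germ-injective schemes locally of finite type. -/
theorem exists_iso_opens_of_isGermInjective {X Y S : Scheme.{u}} (sX : X ⟶ S) (sY : Y ⟶ S)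
    [LocallyOfFiniteType sX] [LocallyOfFiniteType sY]
    {x : X} {y : Y} [X.IsGermInjectiveAt x] [Y.IsGermInjectiveAt y] (e : sX x = sY y)
    (φ : Y.presheaf.stalk y ⟶ X.presheaf.stalk x) [IsIso φ]
    (h : sY.stalkMap y ≫ φ =
      S.presheaf.stalkSpecializes (Inseparable.of_eq e).specializes ≫ sX.stalkMap x) :
    ∃ (U : X.Opens) (hxU : x ∈ U) (V : Y.Opens) (_ : y ∈ V) (f : U.toScheme ⟶ V.toScheme),
      IsIso f ∧ Spec.map φ ≫ Y.fromSpecStalk y = U.fromSpecStalkOfMem x hxU ≫ f ≫ V.ι ∧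
        f ≫ V.ι ≫ sY = U.ι ≫ sX := by
  obtain ⟨U1, hxU1, f1, hf1, hf1S⟩ := spread_out_of_isGermInjective sX sY e φ h
  have h' : sX.stalkMap x ≫ inv φ =
      S.presheaf.stalkSpecializes (Inseparable.of_eq e.symm).specializes ≫ sY.stalkMap y := by
    rw [IsIso.comp_inv_eq, Category.assoc, h, ← Category.assoc,
      TopCat.Presheaf.stalkSpecializes_comp]
    simp
  obtain ⟨V1, hyV1, g1, hg1, hg1S⟩ := spread_out_of_isGermInjective sY sX e.symm (inv φ) h'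
  exact exists_iso_opens_of_spread sX sY φ U1 hxU1 f1 hf1 hf1S V1 hyV1 g1 hg1 hg1S

end Groth.Agent.Lib.LocalIsoSpread
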