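import Mathlib.AlgebraicGeometry.SpreadingOut
import Mathlib.AlgebraicGeometry.Morphisms.FinitePresentation
import Mathlib.RingTheory.FinitePresentation

/-!
# Spreading out morphisms from local rings, finite presentation version (helper25)

Mathlib's `AlgebraicGeometry.spread_out_of_isGermInjective` needs the source to be germ-injective
at the point.  When the target is locally of finite presentation over the base, no condition on the
source is needed (the TODO in Mathlib's `SpreadingOut.lean`).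

* `exists_lift_of_finitePresentation`: finite presentation analogue of
  `AlgebraicGeometry.exists_lift_of_germInjective`.
* `spread_out_of_locallyOfFinitePresentation`: EGA I 6.5.1 / Stacks 0BX6 without conditions on `X`.
-/

set_option autoImplicit false
universe u
open CategoryTheory AlgebraicGeometry Topology TopologicalSpace Opposite

namespace Groth.Agent.Lib.SpreadOutFP

/-- Finite presentation version of `AlgebraicGeometry.exists_lift_of_germInjective`: no condition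
on the scheme is needed. -/
theorem exists_lift_of_finitePresentation {X : Scheme.{u}} {R A : CommRingCat.{u}} {x : X}
    {U : X.Opens} (hxU : x ∈ U)
    (φ : A ⟶ X.presheaf.stalk x) (φRA : R ⟶ A) (φRX : R ⟶ Γ(X, U))
    (hφRA : RingHom.FinitePresentation φRA.hom)
    (e : φRA ≫ φ = φRX ≫ X.presheaf.germ U x hxU) :
    ∃ (V : X.Opens) (hxV : x ∈ V) (φ' : A ⟶ Γ(X, V)) (i : V ≤ U), IsAffineOpen V ∧
      φ = φ' ≫ X.presheaf.germ V x hxV ∧ φRX ≫ X.presheaf.map i.hom.op = φRA ≫ φ' := by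
  classical
  algebraize [φRA.hom]
  obtain ⟨n, f, hfsurj, s, hs⟩ := Algebra.FinitePresentation.out (R := R) (A := A)
  -- lift the images of the variables
  choose W hxW a ha using fun i : Fin n => X.presheaf.exists_germ_eq (φ (f (MvPolynomial.X i)))
  let W₀ : X.Opens := (Finset.univ.inf W) ⊓ U
  have hxW₀ : x ∈ W₀ := by
    refine ⟨?_, hxU⟩
    rw [SetLike.mem_coe, ← SetLike.mem_coe, TopologicalSpace.Opens.coe_finset_inf]
    simpa using fun i => hxW i
  have hW₀W : ∀ i, W₀ ≤ W i := fun i => inf_le_left.trans (Finset.inf_le (Finset.mem_univ i))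
  have hW₀U : W₀ ≤ U := inf_le_right
  let b : Fin n → Γ(X, W₀) := fun i => X.presheaf.map (homOfLE (hW₀W i)).op (a i)
  let ρ₀ : R →+* Γ(X, W₀) := (φRX ≫ X.presheaf.map (homOfLE hW₀U).op).hom
  let ψ₀ : MvPolynomial (Fin n) R →+* Γ(X, W₀) := MvPolynomial.eval₂Hom ρ₀ b
  have hψ₀ : (X.presheaf.germ W₀ x hxW₀).hom.comp ψ₀ = φ.hom.comp f.toRingHom := by
    apply MvPolynomial.ringHom_ext
    · intro r
      simp only [RingHom.coe_comp, Function.comp_apply, ψ₀, MvPolynomial.coe_eval₂Hom,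
        MvPolynomial.eval₂_C, ρ₀]
      have h1 : (X.presheaf.germ W₀ x hxW₀).hom
          ((φRX ≫ X.presheaf.map (homOfLE hW₀U).op).hom r) =
          (φRX ≫ X.presheaf.germ U x hxU).hom r := by
        change (X.presheaf.germ W₀ x hxW₀).hom ((X.presheaf.map (homOfLE hW₀U).op).hom (φRX.hom r)) = _
        exact TopCat.Presheaf.germ_res_apply X.presheaf (homOfLE hW₀U) x hxW₀ (φRX.hom r)
      rw [h1, ← e]
      change φ.hom (φRA.hom r) = φ.hom (f (MvPolynomial.C r))
      congr 1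
      exact (f.commutes r).symm
    · intro i
      simp only [RingHom.coe_comp, Function.comp_apply, ψ₀, MvPolynomial.coe_eval₂Hom,
        MvPolynomial.eval₂_X, b]
      exact (TopCat.Presheaf.germ_res_apply X.presheaf (homOfLE (hW₀W i)) x hxW₀ (a i)).trans (ha i)
  -- kill the relations
  have key : ∀ g : s, ∃ (W' : X.Opens) (_ : x ∈ W') (_ : W' ≤ W₀),
      X.presheaf.map (homOfLE ‹W' ≤ W₀›).op (ψ₀ g.1) = 0 := by
    intro g
    have hg : g.1 ∈ RingHom.ker f.toRingHom := by rw [← hs]; exact Ideal.subset_span g.2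
    have h0 : X.presheaf.germ W₀ x hxW₀ (ψ₀ g.1) = X.presheaf.germ W₀ x hxW₀ 0 := by
      have := congrArg (fun h : MvPolynomial (Fin n) R →+* _ => h g.1) hψ₀
      simp only [RingHom.coe_comp, Function.comp_apply] at this
      rw [map_zero]
      change (X.presheaf.germ W₀ x hxW₀).hom (ψ₀ g.1) = 0
      rw [this, (RingHom.mem_ker).mp hg, map_zero]
    obtain ⟨W', hxW', i₁, i₂, h⟩ := X.presheaf.germ_eq x hxW₀ hxW₀ _ _ h0
    refine ⟨W', hxW', i₁.le, ?_⟩
    rw [map_zero] at h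
    exact h
  choose W' hxW' hW'W₀ hW' using key
  let V₀ : X.Opens := (s.attach.inf W') ⊓ W₀
  have hxV₀ : x ∈ V₀ := by
    refine ⟨?_, hxW₀⟩
    rw [SetLike.mem_coe, ← SetLike.mem_coe, TopologicalSpace.Opens.coe_finset_inf]
    simpa using fun g hg => hxW' ⟨g, hg⟩
  have hV₀W₀ : V₀ ≤ W₀ := inf_le_right
  have hV₀W' : ∀ g : s, V₀ ≤ W' g := fun g => inf_le_left.trans (Finset.inf_le (Finset.mem_attach s g))
  let ψ₁ : MvPolynomial (Fin n) R →+* Γ(X, V₀) := (X.presheaf.map (homOfLE hV₀W₀).op).hom.comp ψ₀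
  have hker : RingHom.ker f.toRingHom ≤ RingHom.ker ψ₁ := by
    rw [← hs, Ideal.span_le]
    intro g hg
    rw [SetLike.mem_coe, RingHom.mem_ker]
    have h1 : ψ₁ g = X.presheaf.map (homOfLE (hV₀W' ⟨g, hg⟩)).op
        (X.presheaf.map (homOfLE (hW'W₀ ⟨g, hg⟩)).op (ψ₀ g)) := by
      change (X.presheaf.map (homOfLE hV₀W₀).op).hom (ψ₀ g) = _
      rw [← ConcreteCategory.comp_apply, ← X.presheaf.map_comp]
      rfl
    rw [h1, hW' ⟨g, hg⟩, map_zero]
  let φ'₀ : A →+* Γ(X, V₀) := f.toRingHom.liftOfSurjective hfsurj ⟨ψ₁, hker⟩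
  have hφ'₀ : φ'₀.comp f.toRingHom = ψ₁ := RingHom.liftOfRightInverse_comp _ _ _ _
  have hgerm : (X.presheaf.germ V₀ x hxV₀).hom.comp φ'₀ = φ.hom := by
    apply RingHom.cancel_right (f := f.toRingHom) hfsurj |>.mp
    rw [RingHom.comp_assoc, hφ'₀, ← hψ₀]
    refine RingHom.ext fun p => ?_
    simp only [RingHom.coe_comp, Function.comp_apply, ψ₁]
    exact TopCat.Presheaf.germ_res_apply X.presheaf (homOfLE hV₀W₀) x hxV₀ (ψ₀ p)
  obtain ⟨V, hV, hxV, hVV₀⟩ := exists_isAffineOpen_mem_and_subset (U := V₀) (x := x) hxV₀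
  have hVV₀' : V ≤ V₀ := hVV₀
  refine ⟨V, hxV, CommRingCat.ofHom φ'₀ ≫ X.presheaf.map (homOfLE hVV₀').op,
    hVV₀'.trans (hV₀W₀.trans hW₀U), hV, ?_, ?_⟩
  · ext t
    change φ.hom t = (X.presheaf.germ V x hxV).hom ((X.presheaf.map (homOfLE hVV₀').op).hom (φ'₀ t))
    rw [← hgerm]
    exact (TopCat.Presheaf.germ_res_apply X.presheaf (homOfLE hVV₀') x hxV (φ'₀ t)).symm
  · ext r
    change (X.presheaf.map (homOfLE (hVV₀'.trans (hV₀W₀.trans hW₀U))).op).hom (φRX.hom r) =
      (X.presheaf.map (homOfLE hVV₀').op).hom (φ'₀ (φRA.hom r))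
    have h1 : φRA.hom r = f.toRingHom (MvPolynomial.C r) := (f.commutes r).symm
    have h2 : φ'₀ (f.toRingHom (MvPolynomial.C r)) = ψ₁ (MvPolynomial.C r) := by
      rw [← hφ'₀]; rfl
    rw [h1, h2]
    simp only [RingHom.coe_comp, Function.comp_apply, ψ₁, ψ₀, MvPolynomial.coe_eval₂Hom,
      MvPolynomial.eval₂_C, ρ₀]
    have hres : ∀ t : Γ(X, U), (X.presheaf.map (homOfLE hVV₀').op).hom
        ((X.presheaf.map (homOfLE hV₀W₀).op).hom ((X.presheaf.map (homOfLE hW₀U).op).hom t)) =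
        (X.presheaf.map (homOfLE (hVV₀'.trans (hV₀W₀.trans hW₀U))).op).hom t := by
      intro t
      simp only [← CommRingCat.comp_apply, ← Functor.map_comp]
      rfl
    exact (hres (φRX.hom r)).symm

set_option backward.isDefEq.respectTransparency.types false in
/-- Spreading out a morphism of local rings to an open neighbourhood, when the target is locally of
finite presentation over the base. -/
theorem spread_out_of_locallyOfFinitePresentation
    {X Y S : Scheme.{u}} (sX : X ⟶ S) (sY : Y ⟶ S) [LocallyOfFinitePresentation sY]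
    {x : X} {y : Y} (e : sX x = sY y)
    (φ : Y.presheaf.stalk y ⟶ X.presheaf.stalk x)
    (h : sY.stalkMap y ≫ φ =
      S.presheaf.stalkSpecializes (Inseparable.of_eq e).specializes ≫ sX.stalkMap x) :
    ∃ (U : X.Opens) (hxU : x ∈ U) (f : U.toScheme ⟶ Y),
      Spec.map φ ≫ Y.fromSpecStalk y = U.fromSpecStalkOfMem x hxU ≫ f ∧
        f ≫ sY = U.ι ≫ sX := by
  obtain ⟨_, ⟨U, hU, rfl⟩, hxU, -⟩ :=
    S.isBasis_affineOpens.exists_subset_of_mem_open (Set.mem_univ (sX x)) isOpen_univ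
  have hyU : sY y ∈ U := e ▸ hxU
  obtain ⟨_, ⟨V : Y.Opens, hV, rfl⟩, hyV, iVU⟩ :=
    Y.isBasis_affineOpens.exists_subset_of_mem_open hyU (sY ⁻¹ᵁ U).2
  have : sY.appLE U V iVU ≫ Y.presheaf.germ V y hyV ≫ φ =
      sX.app U ≫ X.presheaf.germ (sX ⁻¹ᵁ U) x hxU := by
    rw [Scheme.Hom.appLE, Category.assoc, Y.presheaf.germ_res_assoc,
      ← Scheme.Hom.germ_stalkMap_assoc, h]
    simp
  obtain ⟨W, hxW, φ', i, hW, h₁, h₂⟩ :=
    exists_lift_of_finitePresentation (R := Γ(S, U)) (A := Γ(Y, V)) (U := sX ⁻¹ᵁ U) (x := x) hxU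
    (Y.presheaf.germ _ y hyV ≫ φ) (sY.appLE U V iVU) (sX.app U)
    (sY.finitePresentation_appLE hU hV _) this
  refine ⟨W, hxW, W.toSpecΓ ≫ Spec.map φ' ≫ hV.fromSpec, ?_, ?_⟩
  · rw [W.fromSpecStalkOfMem_toSpecΓ_assoc x hxW, ← Spec.map_comp_assoc, ← h₁,
      Spec.map_comp, Category.assoc, ← IsAffineOpen.fromSpecStalk,
      IsAffineOpen.fromSpecStalk_eq_fromSpecStalk]
  · simp only [Category.assoc]
    rw [← IsAffineOpen.SpecMap_appLE_fromSpec sY hU hV iVU, ← Spec.map_comp_assoc, ← h₂,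
      ← Scheme.Hom.appLE, ← hW.isoSpec_hom, IsAffineOpen.SpecMap_appLE_fromSpec sX hU hW i,
      ← Iso.eq_inv_comp, IsAffineOpen.isoSpec_inv_ι_assoc]

end Groth.Agent.Lib.SpreadOutFP
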