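import Groth.Agent.Lib.SpreadOutLFT
import Groth.Agent.Lib.SpreadOutFP

/-!
EGA I 6.5.4 / Stacks 0BX6-type statement: an isomorphism of local rings `𝒪_{Y,y} ≅ 𝒪_{X,x}` of two
`S`-schemes locally of finite presentation spreads out to an `S`-isomorphism of open neighbourhoods.
Uses helper25's existence of spreading out (`Lib/SpreadOutFP`) and uniqueness without germ-injectivity
(`Lib/SpreadOutLFT`).
-/

set_option autoImplicit false
universe u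

open AlgebraicGeometry CategoryTheory

namespace Groth.Agent.Lib.LocalIsoSpread

theorem fromSpecStalkOfMem_homOfLE {X : Scheme.{u}} {U U' : X.Opens} (h : U ≤ U') (x : X)
    (hx : x ∈ U) :
    U.fromSpecStalkOfMem x hx ≫ X.homOfLE h = U'.fromSpecStalkOfMem x (h hx) := by
  rw [← cancel_mono U'.ι, Category.assoc, Scheme.homOfLE_ι, Scheme.Opens.fromSpecStalkOfMem_ι,
    Scheme.Opens.fromSpecStalkOfMem_ι]

set_option backward.isDefEq.respectTransparency false in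
theorem fromSpecStalkOfMem_closedPoint {X : Scheme.{u}} (U : X.Opens) (x : X) (hx : x ∈ U) :
    U.fromSpecStalkOfMem x hx (IsLocalRing.closedPoint (X.presheaf.stalk x)) = ⟨x, hx⟩ := by
  apply Subtype.ext
  have := congr($(U.fromSpecStalkOfMem_ι x hx) (IsLocalRing.closedPoint (X.presheaf.stalk x)))
  simp only [Scheme.Hom.comp_apply, Scheme.fromSpecStalk_closedPoint] at this
  exact this

set_option backward.isDefEq.respectTransparency false in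
/-- If `Spec φ` followed by `Spec 𝒪_y ⟶ Y` equals `Spec 𝒪_x ⟶ U ⟶ Y` for a local `φ`, then the
morphism sends `x` to `y`. -/
theorem apply_eq_of_fromSpecStalk {X Y : Scheme.{u}} {x : X} {y : Y}
    (φ : Y.presheaf.stalk y ⟶ X.presheaf.stalk x) [IsLocalHom φ.hom] (U : X.Opens) (hx : x ∈ U)
    (f : U.toScheme ⟶ Y)
    (hf : Spec.map φ ≫ Y.fromSpecStalk y = U.fromSpecStalkOfMem x hx ≫ f) : f ⟨x, hx⟩ = y := by
  have := congr($hf (IsLocalRing.closedPoint (X.presheaf.stalk x)))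
  simp only [Scheme.Hom.comp_apply, fromSpecStalkOfMem_closedPoint] at this
  rw [← this]
  have h2 : Spec.map φ (IsLocalRing.closedPoint (X.presheaf.stalk x)) =
      IsLocalRing.closedPoint (Y.presheaf.stalk y) := IsLocalRing.comap_closedPoint φ.hom
  rw [h2, Scheme.fromSpecStalk_closedPoint]

set_option backward.isDefEq.respectTransparency false in
/-- Uniqueness of spreading out for morphisms defined on an open subscheme, with conclusion an open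
of the ambient scheme. -/
theorem exists_opens_homOfLE_comp_eq {S X Y : Scheme.{u}} (p : Y ⟶ S) [LocallyOfFiniteType p]
    (U : X.Opens) (a b : U.toScheme ⟶ Y) (hab : a ≫ p = b ≫ p) (x : X) (hx : x ∈ U)
    (e : U.fromSpecStalkOfMem x hx ≫ a = U.fromSpecStalkOfMem x hx ≫ b) :
    ∃ (U' : X.Opens) (hle : U' ≤ U), x ∈ U' ∧ X.homOfLE hle ≫ a = X.homOfLE hle ≫ b := by
  have e' : U.toScheme.fromSpecStalk ⟨x, hx⟩ ≫ a = U.toScheme.fromSpecStalk ⟨x, hx⟩ ≫ b := by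
    simp only [Scheme.Opens.fromSpecStalkOfMem, Category.assoc] at e
    have : IsIso (Spec.map (inv (U.ι.stalkMap ⟨x, hx⟩))) := inferInstance
    exact (cancel_epi _).1 e
  obtain ⟨W, hxW, hW⟩ := Groth.Agent.Lib.SpreadOutLFT.spread_out_unique_of_locallyOfFiniteType'
    p a b hab e'
  refine ⟨U.ι ''ᵁ W, U.ι_image_le W, ⟨⟨x, hx⟩, hxW, rfl⟩, ?_⟩
  rw [← Scheme.Opens.isoImage_ι_inv_ι, Category.assoc, Category.assoc, hW]


set_option backward.isDefEq.respectTransparency false in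
/-- One half of the local-inverse argument: if `g1 ∘ f1` induces the identity on `Spec 𝒪_x`, then it
is the inclusion on a neighbourhood of `x`. -/
theorem exists_opens_comp_eq_ι {S X Y : Scheme.{u}} (sX : X ⟶ S) (sY : Y ⟶ S)
    [LocallyOfFiniteType sX] {x : X} {y : Y}
    (φ : Y.presheaf.stalk y ⟶ X.presheaf.stalk x) (ψ : X.presheaf.stalk x ⟶ Y.presheaf.stalk y)
    (hψφ : ψ ≫ φ = 𝟙 _) [IsLocalHom φ.hom]
    (U1 : X.Opens) (hxU1 : x ∈ U1) (f1 : U1.toScheme ⟶ Y)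
    (hf1 : Spec.map φ ≫ Y.fromSpecStalk y = U1.fromSpecStalkOfMem x hxU1 ≫ f1)
    (hf1S : f1 ≫ sY = U1.ι ≫ sX)
    (V1 : Y.Opens) (hyV1 : y ∈ V1) (g1 : V1.toScheme ⟶ X)
    (hg1 : Spec.map ψ ≫ X.fromSpecStalk x = V1.fromSpecStalkOfMem y hyV1 ≫ g1)
    (hg1S : g1 ≫ sX = V1.ι ≫ sY) :
    ∃ (U3 : X.Opens) (hle : U3 ≤ U1) (F3 : U3.toScheme ⟶ V1.toScheme), x ∈ U3 ∧
      F3 ≫ V1.ι = X.homOfLE hle ≫ f1 ∧ F3 ≫ g1 = U3.ι := by
  have hfx : f1 ⟨x, hxU1⟩ = y := apply_eq_of_fromSpecStalk φ U1 hxU1 f1 hf1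
  let W0 : U1.toScheme.Opens := f1 ⁻¹ᵁ V1
  let U2 : X.Opens := U1.ι ''ᵁ W0
  have hU2le : U2 ≤ U1 := U1.ι_image_le W0
  have hxU2 : x ∈ U2 := ⟨⟨x, hxU1⟩, by show f1 ⟨x, hxU1⟩ ∈ V1; rw [hfx]; exact hyV1, rfl⟩
  let fU2 : U2.toScheme ⟶ V1.toScheme := (U1.ι.isoImage W0).inv ≫ f1.resLE V1 W0 le_rfl
  have hfU2 : fU2 ≫ V1.ι = X.homOfLE hU2le ≫ f1 := by
    rw [Category.assoc, Scheme.Hom.resLE_comp_ι, ← Category.assoc, Scheme.Opens.isoImage_ι_inv_ι]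
  have hab : (fU2 ≫ g1) ≫ sX = U2.ι ≫ sX := by
    rw [Category.assoc, hg1S, ← Category.assoc, hfU2, Category.assoc, hf1S, Scheme.homOfLE_ι_assoc]
  have hspec : U2.fromSpecStalkOfMem x hxU2 ≫ fU2 = Spec.map φ ≫ V1.fromSpecStalkOfMem y hyV1 := by
    rw [← cancel_mono V1.ι, Category.assoc, hfU2, ← Category.assoc, fromSpecStalkOfMem_homOfLE,
      ← hf1, Category.assoc, Scheme.Opens.fromSpecStalkOfMem_ι]
  have he : U2.fromSpecStalkOfMem x hxU2 ≫ (fU2 ≫ g1) = U2.fromSpecStalkOfMem x hxU2 ≫ U2.ι := by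
    rw [← Category.assoc, hspec, Category.assoc, ← hg1, ← Category.assoc, ← Spec.map_comp, hψφ,
      Spec.map_id, Category.id_comp, Scheme.Opens.fromSpecStalkOfMem_ι]
  obtain ⟨U3, hU3le, hxU3, hU3⟩ := exists_opens_homOfLE_comp_eq sX U2 (fU2 ≫ g1) U2.ι hab x hxU2 he
  refine ⟨U3, hU3le.trans hU2le, X.homOfLE hU3le ≫ fU2, hxU3, ?_, ?_⟩
  · rw [Category.assoc, hfU2, Scheme.homOfLE_homOfLE_assoc]
  · rw [Category.assoc, hU3, Scheme.homOfLE_ι]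


/-- A morphism into `Y` whose preimage of the open `V` is everything factors through `V`. -/
theorem range_subset_range_ι_of_preimage_eq_top {T Y : Scheme.{u}} (a : T ⟶ Y) (V : Y.Opens)
    (h : a ⁻¹ᵁ V = ⊤) : Set.range a ⊆ Set.range V.ι := by
  rw [Scheme.Opens.range_ι]
  rintro _ ⟨t, rfl⟩
  have : t ∈ a ⁻¹ᵁ V := by rw [h]; trivial
  exact this

/-- Abstract local-inverse lemma: if `a` and `b` are mutually inverse where defined, they induce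
mutually inverse isomorphisms between `a⁻¹(V3)` and `b⁻¹(U3)`. -/
theorem exists_mutual_inverse {X Y : Scheme.{u}} (U3 : X.Opens) (V3 : Y.Opens)
    (a : U3.toScheme ⟶ Y) (b : V3.toScheme ⟶ X)
    (H1 : a.resLE V3 (a ⁻¹ᵁ V3) le_rfl ≫ b = (a ⁻¹ᵁ V3).ι ≫ U3.ι)
    (H2 : b.resLE U3 (b ⁻¹ᵁ U3) le_rfl ≫ a = (b ⁻¹ᵁ U3).ι ≫ V3.ι) :
    ∃ (f : (a ⁻¹ᵁ V3).toScheme ⟶ (b ⁻¹ᵁ U3).toScheme)
      (g : (b ⁻¹ᵁ U3).toScheme ⟶ (a ⁻¹ᵁ V3).toScheme),
      f ≫ g = 𝟙 _ ∧ g ≫ f = 𝟙 _ ∧ f ≫ (b ⁻¹ᵁ U3).ι = a.resLE V3 (a ⁻¹ᵁ V3) le_rfl ∧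
        g ≫ (a ⁻¹ᵁ V3).ι = b.resLE U3 (b ⁻¹ᵁ U3) le_rfl := by
  have hR1 : (a.resLE V3 (a ⁻¹ᵁ V3) le_rfl) ⁻¹ᵁ (b ⁻¹ᵁ U3) = ⊤ := by
    rw [← Scheme.Hom.comp_preimage, H1, Scheme.Hom.comp_preimage, Scheme.Opens.ι_preimage_self,
      Scheme.Hom.preimage_top]
  have hR2 : (b.resLE U3 (b ⁻¹ᵁ U3) le_rfl) ⁻¹ᵁ (a ⁻¹ᵁ V3) = ⊤ := by
    rw [← Scheme.Hom.comp_preimage, H2, Scheme.Hom.comp_preimage, Scheme.Opens.ι_preimage_self,
      Scheme.Hom.preimage_top]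
  refine ⟨IsOpenImmersion.lift (b ⁻¹ᵁ U3).ι _ (range_subset_range_ι_of_preimage_eq_top _ _ hR1),
    IsOpenImmersion.lift (a ⁻¹ᵁ V3).ι _ (range_subset_range_ι_of_preimage_eq_top _ _ hR2),
    ?_, ?_, IsOpenImmersion.lift_fac _ _ _, IsOpenImmersion.lift_fac _ _ _⟩
  · rw [← cancel_mono (a ⁻¹ᵁ V3).ι, ← cancel_mono U3.ι]
    simp only [Category.assoc, Category.id_comp, IsOpenImmersion.lift_fac_assoc]
    rw [Scheme.Hom.resLE_comp_ι, IsOpenImmersion.lift_fac_assoc, H1]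
  · rw [← cancel_mono (b ⁻¹ᵁ U3).ι, ← cancel_mono V3.ι]
    simp only [Category.assoc, Category.id_comp, IsOpenImmersion.lift_fac_assoc]
    rw [Scheme.Hom.resLE_comp_ι, IsOpenImmersion.lift_fac_assoc, H2]


set_option backward.isDefEq.respectTransparency false in
/-- Stacks 0BX6-type statement (EGA I 6.5.4): an isomorphism of local rings of two `S`-schemes locally
of finite presentation spreads out to an isomorphism of open neighbourhoods. -/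
theorem exists_iso_opens {X Y S : Scheme.{u}} (sX : X ⟶ S) (sY : Y ⟶ S)
    [LocallyOfFinitePresentation sX] [LocallyOfFinitePresentation sY]
    {x : X} {y : Y} (e : sX x = sY y)
    (φ : Y.presheaf.stalk y ⟶ X.presheaf.stalk x) [IsIso φ]
    (h : sY.stalkMap y ≫ φ =
      S.presheaf.stalkSpecializes (Inseparable.of_eq e).specializes ≫ sX.stalkMap x) :
    ∃ (U : X.Opens) (hxU : x ∈ U) (V : Y.Opens) (_ : y ∈ V) (f : U.toScheme ⟶ V.toScheme),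
      IsIso f ∧ Spec.map φ ≫ Y.fromSpecStalk y = U.fromSpecStalkOfMem x hxU ≫ f ≫ V.ι ∧
        f ≫ V.ι ≫ sY = U.ι ≫ sX := by
  obtain ⟨U1, hxU1, f1, hf1, hf1S⟩ :=
    Groth.Agent.Lib.SpreadOutFP.spread_out_of_locallyOfFinitePresentation sX sY e φ h
  have h' : sX.stalkMap x ≫ inv φ =
      S.presheaf.stalkSpecializes (Inseparable.of_eq e.symm).specializes ≫ sY.stalkMap y := by
    rw [IsIso.comp_inv_eq, Category.assoc, h, ← Category.assoc,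
      TopCat.Presheaf.stalkSpecializes_comp]
    simp
  obtain ⟨V1, hyV1, g1, hg1, hg1S⟩ :=
    Groth.Agent.Lib.SpreadOutFP.spread_out_of_locallyOfFinitePresentation sY sX e.symm (inv φ) h'
  have hloc1 : IsLocalHom φ.hom := inferInstance
  have hloc2 : IsLocalHom (inv φ).hom := inferInstance
  obtain ⟨U3, hU3le, F3, hxU3, hF3, hF3g⟩ := exists_opens_comp_eq_ι sX sY φ (inv φ)
    (IsIso.inv_hom_id φ) U1 hxU1 f1 hf1 hf1S V1 hyV1 g1 hg1 hg1S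
  obtain ⟨V3, hV3le, G3, hyV3, hG3, hG3f⟩ := exists_opens_comp_eq_ι sY sX (inv φ) φ
    (IsIso.hom_inv_id φ) V1 hyV1 g1 hg1 hg1S U1 hxU1 f1 hf1 hf1S
  -- the two partial morphisms
  let a : U3.toScheme ⟶ Y := X.homOfLE hU3le ≫ f1
  let b : V3.toScheme ⟶ X := Y.homOfLE hV3le ≫ g1
  have ha : F3 ≫ V1.ι = a := hF3
  have hb : G3 ≫ U1.ι = b := hG3
  have H1 : a.resLE V3 (a ⁻¹ᵁ V3) le_rfl ≫ b = (a ⁻¹ᵁ V3).ι ≫ U3.ι := by
    have h1 : a.resLE V3 (a ⁻¹ᵁ V3) le_rfl ≫ Y.homOfLE hV3le = (a ⁻¹ᵁ V3).ι ≫ F3 := by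
      rw [← cancel_mono V1.ι, Category.assoc, Scheme.homOfLE_ι, Scheme.Hom.resLE_comp_ι,
        Category.assoc, ha]
    show _ ≫ Y.homOfLE hV3le ≫ g1 = _
    rw [← Category.assoc, h1, Category.assoc, hF3g]
  have H2 : b.resLE U3 (b ⁻¹ᵁ U3) le_rfl ≫ a = (b ⁻¹ᵁ U3).ι ≫ V3.ι := by
    have h1 : b.resLE U3 (b ⁻¹ᵁ U3) le_rfl ≫ X.homOfLE hU3le = (b ⁻¹ᵁ U3).ι ≫ G3 := by
      rw [← cancel_mono U1.ι, Category.assoc, Scheme.homOfLE_ι, Scheme.Hom.resLE_comp_ι,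
        Category.assoc, hb]
    show _ ≫ X.homOfLE hU3le ≫ f1 = _
    rw [← Category.assoc, h1, Category.assoc, hG3f]
  obtain ⟨f, g, hfg, hgf, hfι, hgι⟩ := exists_mutual_inverse U3 V3 a b H1 H2
  -- the points
  have hax : a ⟨x, hxU3⟩ = y := by
    refine apply_eq_of_fromSpecStalk φ U3 hxU3 a ?_
    show _ = _ ≫ X.homOfLE hU3le ≫ f1
    rw [← Category.assoc, fromSpecStalkOfMem_homOfLE, hf1]
  have hby : b ⟨y, hyV3⟩ = x := by
    refine apply_eq_of_fromSpecStalk (inv φ) V3 hyV3 b ?_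
    show _ = _ ≫ Y.homOfLE hV3le ≫ g1
    rw [← Category.assoc, fromSpecStalkOfMem_homOfLE, hg1]
  have hxA : (⟨x, hxU3⟩ : U3.toScheme) ∈ a ⁻¹ᵁ V3 := by
    show a ⟨x, hxU3⟩ ∈ V3
    rw [hax]; exact hyV3
  have hyB : (⟨y, hyV3⟩ : V3.toScheme) ∈ b ⁻¹ᵁ U3 := by
    show b ⟨y, hyV3⟩ ∈ U3
    rw [hby]; exact hxU3
  let U : X.Opens := U3.ι ''ᵁ (a ⁻¹ᵁ V3)
  let V : Y.Opens := V3.ι ''ᵁ (b ⁻¹ᵁ U3)
  have hxU : x ∈ U := ⟨⟨x, hxU3⟩, hxA, rfl⟩
  have hyV : y ∈ V := ⟨⟨y, hyV3⟩, hyB, rfl⟩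
  let iU := U3.ι.isoImage (a ⁻¹ᵁ V3)
  let iV := V3.ι.isoImage (b ⁻¹ᵁ U3)
  have hfV : (iU.inv ≫ f ≫ iV.hom) ≫ V.ι = X.homOfLE ((U3.ι_image_le _).trans hU3le) ≫ f1 := by
    simp only [Category.assoc]
    rw [Scheme.Hom.isoImage_hom_ι, reassoc_of% hfι, Scheme.Hom.resLE_comp_ι,
      ← Category.assoc, Scheme.Opens.isoImage_ι_inv_ι]
    show _ ≫ X.homOfLE hU3le ≫ f1 = _
    rw [Scheme.homOfLE_homOfLE_assoc]
  refine ⟨U, hxU, V, hyV, iU.inv ≫ f ≫ iV.hom, ?_, ?_, ?_⟩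
  · refine ⟨iV.inv ≫ g ≫ iU.hom, ?_, ?_⟩
    · simp only [Category.assoc, Iso.hom_inv_id_assoc]
      rw [reassoc_of% hfg, Iso.inv_hom_id]
    · simp only [Category.assoc, Iso.hom_inv_id_assoc]
      rw [reassoc_of% hgf, Iso.inv_hom_id]
  · rw [hfV, ← Category.assoc, fromSpecStalkOfMem_homOfLE, hf1]
  · rw [← Category.assoc, hfV, Category.assoc, hf1S, Scheme.homOfLE_ι_assoc]

end Groth.Agent.Lib.LocalIsoSpread
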