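import Groth.Prelude.Def_Curv2
import Groth.Prelude.Def_Pi1
import Groth.Agent.Lib.NormalizationIntegral
import Groth.Agent.S4809

/-!
# Characterisation of the normalization of an integral scheme (helper37)

`overIso_normalization_iff_birational`: `Y ≅ X^ν` over `X` iff `Y` is normal, `Y ⟶ X` is integral and
birational (EGA II 6.3.x / Stacks 035I-type statements).  Also the variant with an isomorphism over a
dense open (`overIso_normalization_iff_isIso_over_dense_open`).
-/

set_option autoImplicit false
universe u
open CategoryTheory CategoryTheory.Limits AlgebraicGeometry TopologicalSpace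

namespace Groth.Agent.Lib.NormalizationChar


variable (X : Scheme.{u}) [IsIntegral X]
    [QuasiCompact (X.fromSpecStalk (genericPoint X))] [QuasiSeparated (X.fromSpecStalk (genericPoint X))]

instance : IsIntegral (Curv2.normalization X) := by
  unfold Curv2.normalization
  have : IsIntegral (Spec (X.presheaf.stalk (genericPoint X))) :=
    inferInstanceAs (IsIntegral (Spec X.functionField))
  infer_instance

instance : IsIntegralHom (Curv2.normalizationι X) := by
  exact inferInstanceAs (IsIntegralHom (X.fromSpecStalk (genericPoint X)).fromNormalization)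

/-- The fibre of an integral morphism of integral schemes over the generic point contains at most
the generic point. -/
lemma eq_genericPoint_of_integral {N V : Scheme.{u}} [IsIntegral N] [IsIntegral V] (g : N ⟶ V)
    [IsIntegralHom g] (z : N) (hz : g z = genericPoint V) : z = genericPoint N := by
  obtain ⟨_, ⟨W, hW', rfl⟩, hzW, -⟩ :=
    V.isBasis_affineOpens.exists_subset_of_mem_open (Set.mem_univ (g z)) isOpen_univ
  have hW : IsAffineOpen W := hW'
  have hU : IsAffineOpen (g ⁻¹ᵁ W) := hW.preimage g
  have hzU : z ∈ g ⁻¹ᵁ W := hzW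
  have hneU : Nonempty (g ⁻¹ᵁ W : N.Opens) := ⟨⟨z, hzU⟩⟩
  have hneW : Nonempty W := ⟨⟨g z, hzW⟩⟩
  have hint : (g.app W).hom.IsIntegral := IsIntegralHom.isIntegral_app g W hW
  obtain ⟨q, hqz⟩ : ∃ q : ↥(Spec Γ(N, g ⁻¹ᵁ W)), hU.fromSpec q = z :=
    ⟨hU.primeIdealOf ⟨z, hzU⟩, hU.fromSpec_primeIdealOf ⟨z, hzU⟩⟩
  have hsq : Spec.map (g.app W) ≫ hW.fromSpec = hU.fromSpec ≫ g := by
    rw [Scheme.Hom.app_eq_appLE]
    exact IsAffineOpen.SpecMap_appLE_fromSpec g hW hU le_rfl
  have h1 : hW.fromSpec (Spec.map (g.app W) q) = hW.fromSpec (genericPoint (Spec Γ(V, W))) := by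
    have h0 : (Spec.map (g.app W) ≫ hW.fromSpec) q = (hU.fromSpec ≫ g) q := by rw [hsq]
    rw [Scheme.Hom.comp_apply, Scheme.Hom.comp_apply, hqz, hz] at h0
    rw [h0]
    exact (genericPoint_eq_of_isOpenImmersion hW.fromSpec).symm
  have h2 : Spec.map (g.app W) q = genericPoint (Spec Γ(V, W)) :=
    hW.fromSpec.isOpenEmbedding.injective h1
  rw [genericPoint_eq_bot_of_affine] at h2
  algebraize [(g.app W).hom]
  have h3 : q.asIdeal.comap (algebraMap Γ(V, W) Γ(N, g ⁻¹ᵁ W)) = ⊥ := by
    have := congrArg PrimeSpectrum.asIdeal h2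
    exact this
  have h4 : q.asIdeal = ⊥ := Ideal.eq_bot_of_comap_eq_bot h3
  have h5 : q = genericPoint (Spec Γ(N, g ⁻¹ᵁ W)) := by
    rw [genericPoint_eq_bot_of_affine]
    exact PrimeSpectrum.ext h4
  rw [← hqz, h5]
  exact genericPoint_eq_of_isOpenImmersion hU.fromSpec

lemma bijective_residue_of_isField {R : Type*} [CommRing R] [IsLocalRing R] (h : IsField R) :
    Function.Bijective (IsLocalRing.residue R) := by
  refine ⟨?_, IsLocalRing.residue_surjective⟩
  rw [RingHom.injective_iff_ker_eq_bot, IsLocalRing.ker_residue]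
  exact IsLocalRing.isField_iff_maximalIdeal_eq.mp h

lemma isIso_stalkMap_of_bijective_residueFieldMap {N V : Scheme.{u}} (g : N ⟶ V) (z : N)
    (hN : IsField (N.presheaf.stalk z)) (hV : IsField (V.presheaf.stalk (g z)))
    (hb : Function.Bijective (g.residueFieldMap z).hom) : IsIso (g.stalkMap z) := by
  rw [ConcreteCategory.isIso_iff_bijective]
  have e := Scheme.residue_residueFieldMap g z
  have h1 : Function.Bijective (V.residue (g z) ≫ g.residueFieldMap z).hom := by
    rw [CommRingCat.hom_comp, RingHom.coe_comp]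
    exact hb.comp (bijective_residue_of_isField hV)
  rw [e, CommRingCat.hom_comp, RingHom.coe_comp] at h1
  have h2 : Function.Bijective (N.residue z).hom := bijective_residue_of_isField hN
  exact (Function.Bijective.of_comp_iff' h2 _).mp h1

omit [QuasiCompact (X.fromSpecStalk (genericPoint X))]
  [QuasiSeparated (X.fromSpecStalk (genericPoint X))] in
lemma isField_stalk_of_eq_genericPoint (x : X) (hx : x = genericPoint X) :
    IsField (X.presheaf.stalk x) := by
  subst hx
  exact Field.toIsField X.functionField

lemma normalizationι_genericPoint :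
    (Curv2.normalizationι X) (genericPoint (Curv2.normalization X)) = genericPoint X :=
  Groth.Agent.Lib.NormalizationIntegral.fromNormalization_genericPoint X

lemma isIso_stalkMap_normalizationι :
    IsIso ((Curv2.normalizationι X).stalkMap (genericPoint (Curv2.normalization X))) := by
  refine isIso_stalkMap_of_bijective_residueFieldMap _ _
    (isField_stalk_of_eq_genericPoint (Curv2.normalization X) _ rfl)
    (isField_stalk_of_eq_genericPoint X _ (normalizationι_genericPoint X)) ?_
  exact Groth.Agent.Lib.NormalizationIntegral.bijective_residueFieldMap_fromNormalization X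

omit [IsIntegral X] [QuasiCompact (X.fromSpecStalk (genericPoint X))]
  [QuasiSeparated (X.fromSpecStalk (genericPoint X))] in
lemma exists_lift_of_isIso_stalkMap {Y : Scheme.{u}} (f : Y ⟶ X) (y : Y) (x : X) (hy : f y = x)
    (h : IsIso (f.stalkMap y)) :
    ∃ f₁ : Spec (X.presheaf.stalk x) ⟶ Y, f₁ ≫ f = X.fromSpecStalk x := by
  subst hy
  refine ⟨Spec.map (inv (f.stalkMap y)) ≫ Y.fromSpecStalk y, ?_⟩
  rw [Category.assoc, ← Scheme.SpecMap_stalkMap_fromSpecStalk, ← Spec.map_comp_assoc,
    IsIso.hom_inv_id, Spec.map_id, Category.id_comp]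

lemma isIso_stalkMap_of_eq {X Y : Scheme.{u}} {f g : X ⟶ Y} (h : f = g) {x x' : X} (hx : x = x')
    (hf : IsIso (f.stalkMap x)) : IsIso (g.stalkMap x') := by
  subst h hx; exact hf

/-- The core "if" direction: a normal integral scheme, integral and birational over `X`, is the
normalization. -/
theorem exists_iso_of_birational {Y : Scheme.{u}} (f : Y ⟶ X) (hn : Pi1.IsNormalScheme Y)
    [IsIntegralHom f] [IrreducibleSpace Y]
    (hfib : f.base ⁻¹' {genericPoint X} = {genericPoint Y})
    (hiso : IsIso (f.stalkMap (genericPoint Y))) :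
    ∃ e : Y ≅ Curv2.normalization X, e.hom ≫ Curv2.normalizationι X = f := by
  have : ∀ y : Y, _root_.IsReduced (Y.presheaf.stalk y) := fun y ↦ by
    have := (hn y).1
    infer_instance
  have hYred : IsReduced Y := isReduced_of_isReduced_stalk Y
  have hYint : IsIntegral Y := isIntegral_of_irreducibleSpace_of_isReduced Y
  have hfy : f (genericPoint Y) = genericPoint X := by
    have : genericPoint Y ∈ f.base ⁻¹' {genericPoint X} := hfib ▸ rfl
    exact this
  obtain ⟨f₁, hf₁⟩ := exists_lift_of_isIso_stalkMap X f _ _ hfy hiso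
  let d : Curv2.normalization X ⟶ Y :=
    (X.fromSpecStalk (genericPoint X)).normalizationDesc f₁ f hf₁.symm
  have hd : d ≫ f = Curv2.normalizationι X :=
    (X.fromSpecStalk (genericPoint X)).normalizationDesc_comp f₁ f hf₁.symm
  have hdint : IsIntegralHom d :=
    inferInstanceAs (IsIntegralHom ((X.fromSpecStalk (genericPoint X)).normalizationDesc f₁ f hf₁.symm))
  have hdη : d (genericPoint (Curv2.normalization X)) = genericPoint Y := by
    have h1 : f (d (genericPoint (Curv2.normalization X))) = genericPoint X := by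
      rw [← Scheme.Hom.comp_apply, hd, normalizationι_genericPoint]
    have : d (genericPoint (Curv2.normalization X)) ∈ f.base ⁻¹' {genericPoint X} := h1
    rw [hfib] at this
    exact this
  have hdiso : IsIso (d.stalkMap (genericPoint (Curv2.normalization X))) := by
    have h1 : IsIso ((d ≫ f).stalkMap (genericPoint (Curv2.normalization X))) :=
      isIso_stalkMap_of_eq hd.symm rfl (isIso_stalkMap_normalizationι X)
    rw [Scheme.Hom.stalkMap_comp] at h1
    have h2 : IsIso (f.stalkMap (d (genericPoint (Curv2.normalization X)))) :=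
      isIso_stalkMap_of_eq rfl hdη.symm hiso
    exact @IsIso.of_isIso_comp_left _ _ _ _ _
      (f.stalkMap (d (genericPoint (Curv2.normalization X)))) _ h2 h1
  have hdIso : IsIso d :=
    Groth.Agent.S4809.isIso_of_integral_birational (fun y ↦ (hn y).2) d _ hdη hdiso
  exact ⟨(asIso d).symm, by simp [← hd]⟩

/-- The "only if" direction for the normalization itself. -/
theorem normalization_props :
    Pi1.IsNormalScheme (Curv2.normalization X) ∧
      (Curv2.normalizationι X).base ⁻¹' {genericPoint X} = {genericPoint (Curv2.normalization X)} := by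
  refine ⟨fun z ↦ ⟨inferInstance,
    Groth.Agent.Lib.NormalizationIntegral.isIntegrallyClosed_stalk_normalization X z⟩, ?_⟩
  ext z
  simp only [Set.mem_preimage, Set.mem_singleton_iff]
  constructor
  · intro hz
    exact eq_genericPoint_of_integral (Curv2.normalizationι X) z hz
  · rintro rfl
    exact normalizationι_genericPoint X

omit [QuasiCompact (X.fromSpecStalk (genericPoint X))]
  [QuasiSeparated (X.fromSpecStalk (genericPoint X))] in
/-- Transport of the conditions along an isomorphism over `X`. -/
theorem props_of_iso {Y Z : Scheme.{u}} (e : Y ≅ Z) (ν : Z ⟶ X) [IsIntegral Z]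
    (hZ : Pi1.IsNormalScheme Z) (hν : IsIntegralHom ν)
    (hfib : ν.base ⁻¹' {genericPoint X} = {genericPoint Z})
    (hiso : IsIso (ν.stalkMap (genericPoint Z))) :
    Pi1.IsNormalScheme Y ∧ IsIntegralHom (e.hom ≫ ν) ∧
        ∃ _ : IrreducibleSpace ↥Y, (e.hom ≫ ν).base ⁻¹' {genericPoint X} = {genericPoint Y} ∧
          IsIso ((e.hom ≫ ν).stalkMap (genericPoint Y)) := by
  have hne : Nonempty Y := ⟨e.inv (genericPoint Z)⟩
  have hYint : IsIntegral Y := isIntegral_of_isOpenImmersion e.hom
  have hgen : e.hom (genericPoint Y) = genericPoint Z := genericPoint_eq_of_isOpenImmersion e.hom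
  refine ⟨fun y ↦ ?_, inferInstance, inferInstance, ?_, ?_⟩
  · have hZy := hZ (e.hom y)
    let ε := (asIso (e.hom.stalkMap y)).commRingCatIsoToRingEquiv
    have := hZy.1
    have := hZy.2
    exact ⟨ε.symm.toMulEquiv.isDomain _, IsIntegrallyClosed.of_equiv ε⟩
  · ext y
    simp only [Set.mem_preimage, Set.mem_singleton_iff]
    constructor
    · intro hy
      rw [Scheme.Hom.comp_apply] at hy
      have h1 : e.hom y ∈ ν.base ⁻¹' {genericPoint X} := hy
      rw [hfib] at h1
      have h2 : e.hom y = e.hom (genericPoint Y) := by rw [hgen]; exact h1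
      exact e.hom.isOpenEmbedding.injective h2
    · rintro rfl
      rw [Scheme.Hom.comp_apply, hgen]
      have : genericPoint Z ∈ ν.base ⁻¹' {genericPoint X} := hfib ▸ rfl
      exact this
  · rw [Scheme.Hom.stalkMap_comp]
    have h1 : IsIso (ν.stalkMap (e.hom (genericPoint Y))) :=
      isIso_stalkMap_of_eq rfl hgen.symm hiso
    have h2 : IsIso (e.hom.stalkMap (genericPoint Y)) := inferInstance
    exact @IsIso.comp_isIso _ _ _ _ _ _ _ h1 h2


theorem overIso_normalization_iff_birational {Y : Scheme.{u}} (f : Y ⟶ X) :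
    (∃ e : Y ≅ Curv2.normalization X, e.hom ≫ Curv2.normalizationι X = f) ↔
      Pi1.IsNormalScheme Y ∧ IsIntegralHom f ∧
        ∃ _ : IrreducibleSpace ↥Y, f.base ⁻¹' {genericPoint X} = {genericPoint Y} ∧
          IsIso (f.stalkMap (genericPoint Y)) := by
  constructor
  · rintro ⟨e, rfl⟩
    exact props_of_iso X e (Curv2.normalizationι X) (normalization_props X).1 inferInstance
      (normalization_props X).2 (isIso_stalkMap_normalizationι X)
  · rintro ⟨hn, hint, hirr, hfib, hiso⟩
    exact exists_iso_of_birational X f hn hfib hiso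

end Groth.Agent.Lib.NormalizationChar
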