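/-
helper84: S19492 — an affine integral variety is an open subvariety of an integral projective variety
(normal if the affine variety is normal). `exists_closedImmersion_of_isAffineHom`: a proper A-scheme with an
affine morphism to some P^n_A is a closed subscheme of some P^N_A (ample pullback + helper3 very ample powers).
-/
import Groth.Prelude.Def_Pi1
import Groth.Agent.S1585
import Groth.Agent.Lib.AffineFTImm
import Groth.Agent.Lib.ProjOfAmpleH3
import Groth.Agent.Lib.H78PullAmple
import Groth.Agent.Lib.ProjSpaceFin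
import Groth.Agent.Lib.IntegralSection
import Groth.Agent.Lib.ImageInt84
import Groth.Agent.Lib.ProjSpaceProper

set_option autoImplicit false
set_option maxHeartbeats 800000
set_option linter.style.haveILetI false
universe u
open CategoryTheory CategoryTheory.Limits AlgebraicGeometry

namespace Groth.Agent.Lib.AffineProjCompl84

open Groth.Agent.Lib.VeryAmpleH3 in
/-- a proper `A`-scheme admitting an affine morphism to some `P^n_A` is a closed subscheme of some `P^N_A` -/
theorem exists_closedImmersion_of_isAffineHom (A : Type u) [CommRing A] {Y : Scheme.{u}}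
    (g : Y ⟶ Spec (CommRingCat.of A)) [IsProper g] (n : ℕ) (h : Y ⟶ CohB1.ProjSpace n A)
    [IsAffineHom h] :
    ∃ (N : ℕ) (i : Y ⟶ CohB1.ProjSpace N A), IsClosedImmersion i ∧
      i ≫ CohB1.ProjSpace.toSpec N A = g := by
  have hO1 := Groth.Agent.Lib.ProjSpaceFin.isAmple_twist_one n A
  have hL := Groth.Agent.Lib.H78PullAmple.isAmple_pullback_of_isAffineHom h hO1
  obtain ⟨n₀, hn₀⟩ :=
    Groth.Agent.Lib.VeryAmplePowH3.exists_forall_isRelVeryAmplePn_tensorPow g hL
  obtain ⟨N, i, himm, hif, -⟩ := hn₀ n₀ le_rfl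
  have hif' : i ≫ sndP N (Spec (CommRingCat.of A)) = g := hif
  haveI : UniversallyClosed (i ≫ sndP N (Spec (CommRingCat.of A))) := by rw [hif']; infer_instance
  haveI : UniversallyClosed i := UniversallyClosed.of_comp_of_isSeparated i (sndP N _)
  haveI : IsClosedImmersion i := IsClosedImmersion.of_isPreimmersion i i.isClosedMap.isClosed_range
  refine ⟨N, i ≫ (Groth.Agent.Lib.ProjOfAmpleH3.projSpaceIso N A).inv, ?_, ?_⟩
  · infer_instance
  · rw [Category.assoc, Groth.Agent.Lib.ProjOfAmpleH3.projSpaceIso_inv_toSpec, hif']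

end Groth.Agent.Lib.AffineProjCompl84

namespace Groth.Agent.Lib.AffineProjCompl84

theorem main (k : Type u) [Field k]
    (X : Scheme.{u}) (f : X ⟶ Spec (CommRingCat.of k)) [IsAffine X]
    [AlgebraicGeometry.IsIntegral X] [LocallyOfFiniteType f] :
    ∃ (Y : Scheme.{u}) (g : Y ⟶ Spec (CommRingCat.of k)) (n : ℕ) (c : Y ⟶ CohB1.ProjSpace n k)
      (j : X ⟶ Y), AlgebraicGeometry.IsIntegral Y ∧ IsClosedImmersion c ∧
      c ≫ CohB1.ProjSpace.toSpec n k = g ∧ IsOpenImmersion j ∧ j ≫ g = f ∧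
      (Pi1.IsNormalScheme X → Pi1.IsNormalScheme Y) := by
  obtain ⟨n, i, hi, hicomp⟩ := Groth.Agent.Lib.AffineFTImm.exists_immersion_of_isAffine k f
  haveI := hi
  haveI hproper : IsProper (CohB1.ProjSpace.toSpec n k) :=
    Groth.Agent.Lib.ProjSpaceProper.isProper_toSpec n k
  haveI : QuasiCompact (i ≫ CohB1.ProjSpace.toSpec n k) := by
    rw [hicomp]; infer_instance
  haveI : QuasiCompact i := QuasiCompact.of_comp i (CohB1.ProjSpace.toSpec n k)
  let Yb := i.image
  let c : Yb ⟶ CohB1.ProjSpace n k := i.imageι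
  let j : X ⟶ Yb := i.toImage
  have hjc : j ≫ c = i := i.toImage_imageι
  haveI : IsIntegral Yb := Groth.Agent.Lib.ImageInt84.isIntegral_image i
  let sb : Yb ⟶ Spec (CommRingCat.of k) := c ≫ CohB1.ProjSpace.toSpec n k
  have hjsb : j ≫ sb = f := by
    change j ≫ c ≫ _ = f
    rw [← Category.assoc, hjc, hicomp]
  haveI : IsOpenImmersion j := inferInstanceAs (IsOpenImmersion i.toImage)
  by_cases hN : Pi1.IsNormalScheme X
  · -- normal case
    letI : Yb.Over (Spec (CommRingCat.of k)) := ⟨sb⟩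
    haveI : LocallyOfFiniteType (Yb ↘ (Spec (CommRingCat.of k))) :=
      inferInstanceAs (LocallyOfFiniteType (c ≫ CohB1.ProjSpace.toSpec n k))
    haveI : IsProper sb := inferInstanceAs (IsProper (c ≫ CohB1.ProjSpace.toSpec n k))
    haveI : QuasiCompact (Yb.fromSpecStalk (genericPoint Yb)) := inferInstance
    haveI : QuasiSeparated (Yb.fromSpecStalk (genericPoint Yb)) := inferInstance
    obtain ⟨hfin, -, -, hint, hnorm⟩ := Groth.Agent.S1585.result k Yb
    let Y := Curv2.normalization Yb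
    let ν : Y ⟶ Yb := Curv2.normalizationι Yb
    haveI := hfin
    haveI := hint
    let V : Yb.Opens := j.opensRange
    have hV : IsAffineOpen V := isAffineOpen_opensRange j
    haveI : Nonempty V := ⟨⟨j.base (Classical.arbitrary X), ⟨_, rfl⟩⟩⟩
    have hic : IsIntegrallyClosed Γ(Yb, V) := by
      haveI : Nonempty (⊤ : X.Opens) := ⟨⟨Classical.arbitrary X, trivial⟩⟩
      haveI h1 : IsIntegrallyClosed Γ(X, ⊤) :=
        Groth.Agent.Lib.IntegralSection.isIntegrallyClosed_sections (fun x => (hN x).2)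
          (isAffineOpen_top X)
      have e : Γ(Yb, j ''ᵁ ⊤) ≅ Γ(X, ⊤) := j.appIso ⊤
      have hVeq : j ''ᵁ ⊤ = V := j.image_top_eq_opensRange
      rw [← hVeq]
      exact IsIntegrallyClosed.of_equiv e.commRingCatIsoToRingEquiv.symm
    haveI hiso : IsIso (ν ∣_ V) :=
      Groth.Agent.Lib.NormGenIso85.isIso_morphismRestrict_of_isIntegrallyClosed Yb hV hic
    let jY : X ⟶ Y := j.isoOpensRange.hom ≫ inv (ν ∣_ V) ≫ (ν ⁻¹ᵁ V).ι
    have hjY : jY ≫ ν = j := by
      change (j.isoOpensRange.hom ≫ inv (ν ∣_ V) ≫ (ν ⁻¹ᵁ V).ι) ≫ ν = j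
      rw [Category.assoc, Category.assoc, ← morphismRestrict_ι, IsIso.inv_hom_id_assoc,
        Scheme.Hom.isoOpensRange_hom_ι]
    let gY : Y ⟶ Spec (CommRingCat.of k) := ν ≫ sb
    haveI : IsProper gY := inferInstanceAs (IsProper (ν ≫ sb))
    haveI : IsAffineHom (ν ≫ c) := inferInstance
    obtain ⟨N, cY, hcY, hcYcomp⟩ := exists_closedImmersion_of_isAffineHom k gY n (ν ≫ c)
    refine ⟨Y, gY, N, cY, jY, hint, hcY, hcYcomp, inferInstance, ?_, fun _ => hnorm⟩
    change jY ≫ ν ≫ sb = f
    rw [← Category.assoc, hjY, hjsb]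
  · exact ⟨Yb, sb, n, c, j, inferInstance, inferInstance, rfl, inferInstance, hjsb,
      fun h => absurd h hN⟩

end Groth.Agent.Lib.AffineProjCompl84
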