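import Groth.Agent.Lib.H90OXModAffine
import Groth.Agent.Lib.CohFinite

set_option autoImplicit false
universe u

open CategoryTheory CategoryTheory.Limits AlgebraicGeometry TopologicalSpace Opposite
open AlgebraicGeometry.Scheme AlgebraicGeometry.Scheme.Modules

namespace Groth.Agent.Lib.H90OXModAffineFT

open Groth.Agent.Lib.H90OXModAffine Groth.Agent.Lib.H90Invertible Groth.Agent.Lib.H90RestrictEquiv

variable {X : Scheme.{u}}

set_option backward.isDefEq.respectTransparency false in
/-- Generating sections of `M.restrict f` obtained by restricting generating sections of `M`. -/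
noncomputable def generatingSectionsRestrict {X Y : Scheme.{u}} (f : Y ⟶ X) [IsOpenImmersion f]
    {M : X.Modules} (G : M.GeneratingSections) : (M.restrict f).GeneratingSections :=
  have : PreservesColimitsOfSize.{u, u} (Scheme.Modules.restrictFunctor f) := inferInstance
  G.map (Scheme.Modules.restrictFunctor.{u} f) (Scheme.Modules.restrictUnitIso _).symm

set_option backward.isDefEq.respectTransparency false in
theorem isFiniteType_generatingSectionsRestrict {X Y : Scheme.{u}} (f : Y ⟶ X) [IsOpenImmersion f]
    {M : X.Modules} (G : M.GeneratingSections) [G.IsFiniteType] :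
    (generatingSectionsRestrict f G).IsFiniteType :=
  ⟨inferInstanceAs (Finite G.I)⟩

set_option backward.isDefEq.respectTransparency false in
/-- Generating sections of `M|_V` give generating sections of `M.over V`. -/
noncomputable def generatingSectionsOver (M : X.Modules) (V : X.Opens)
    (G : (M.restrict V.ι).GeneratingSections) : (SheafOfModules.over M V).GeneratingSections :=
  haveI : PreservesColimitsOfSize.{u, u} (overEquiv V).inverse :=
    (overEquiv V).symm.toAdjunction.leftAdjoint_preservesColimits
  (G.map (overEquiv V).inverse
    (TopologicalSpace.Opens.sheafOfModulesEquivOverInverseUnit V X.ringCatSheaf).symm).ofEpi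
      (overIso M V).hom

set_option backward.isDefEq.respectTransparency false in
theorem isFiniteType_generatingSectionsOver (M : X.Modules) (V : X.Opens)
    (G : (M.restrict V.ι).GeneratingSections) [G.IsFiniteType] :
    (generatingSectionsOver M V G).IsFiniteType :=
  ⟨inferInstanceAs (Finite G.I)⟩

/-- Local generators data from generating sections of the restrictions to an open cover. -/
noncomputable def localGeneratorsDataOfCover (M : X.Modules) {ι : Type u} (U : ι → X.Opens)
    (hU : ⨆ i, U i = ⊤) (G : ∀ i, (M.restrict (U i).ι).GeneratingSections) :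
    SheafOfModules.LocalGeneratorsData.{u} (R := X.ringCatSheaf) M where
  I := ι
  X := U
  coversTop := (_root_.Opens.coversTop_iff _ U).mpr hU
  generators i := generatingSectionsOver M (U i) (G i)

set_option backward.isDefEq.respectTransparency false in
/-- A module with finitely many generating sections on each member of an open cover is of finite
type. -/
theorem isFiniteType_of_cover (M : X.Modules) {ι : Type u} (U : ι → X.Opens)
    (hU : ⨆ i, U i = ⊤) (G : ∀ i, (M.restrict (U i).ι).GeneratingSections)
    [∀ i, (G i).IsFiniteType] :
    SheafOfModules.IsFiniteType (R := X.ringCatSheaf) M := by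
  have h : (localGeneratorsDataOfCover M U hU G).IsFiniteType := by
    constructor
    intro i
    exact isFiniteType_generatingSectionsOver M (U i) (G i)
  constructor
  exact ⟨localGeneratorsDataOfCover M U hU G, h⟩

end Groth.Agent.Lib.H90OXModAffineFT

namespace Groth.Agent.Lib.H90OXModAffineFT

open Groth.Agent.Lib.H90OXModAffine Groth.Agent.Lib.H90Invertible Groth.Agent.Lib.H90RestrictEquiv

variable {R : CommRingCat.{u}}

set_option backward.isDefEq.respectTransparency false in
/-- A quasi-coherent module on `Spec R` with finitely generated global sections has finitely many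
generating sections. -/
theorem exists_generatingSections_of_finite (N : (Spec R).Modules) [N.IsQuasicoherent]
    (h : Module.Finite R (ΓSpec N)) : ∃ G : N.GeneratingSections, G.IsFiniteType := by
  obtain ⟨s, hs⟩ := h.fg_top
  let S : Set (ΓSpec N) := ↑s
  let T : Set (↥S →₀ R) :=
    ↑(LinearMap.ker (Finsupp.linearCombination R ((↑) : ↥S → ΓSpec N)))
  have hT : Submodule.span R T = LinearMap.ker (Finsupp.linearCombination R ((↑) : ↥S → ΓSpec N)) :=
    Submodule.span_eq _
  let P0 : (tilde (ΓSpec N)).Presentation := presentationTilde.{u} (ΓSpec N) S hs T hT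
  have hfin : P0.generators.IsFiniteType := ⟨inferInstanceAs (Finite ↥s)⟩
  haveI : IsIso N.fromTildeΓ := Scheme.Modules.isIso_fromTildeΓ_of_isQuasicoherent N
  exact ⟨P0.generators.ofEpi N.fromTildeΓ, inferInstance⟩

end Groth.Agent.Lib.H90OXModAffineFT

namespace Groth.Agent.Lib.H90OXModAffineFT

open Groth.Agent.Lib.H90OXModAffine Groth.Agent.Lib.H90Invertible Groth.Agent.Lib.H90RestrictEquiv

variable {X : Scheme.{u}}

set_option backward.isDefEq.respectTransparency false in
/-- AFFINE CRITERION (local form): if `M` is quasi-coherent and `Γ(M, U)` is finitely generated over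
`Γ(X, U)` for an affine open `U`, then `M|_U` has finitely many generating sections. -/
theorem exists_generatingSections_restrict_of_finite (M : X.Modules) [M.IsQuasicoherent]
    {U : X.Opens} (hU : IsAffineOpen U) (h : Module.Finite Γ(X, U) Γ(M, U)) :
    ∃ G : (M.restrict U.ι).GeneratingSections, G.IsFiniteType := by
  have h1 : Module.Finite Γ(X, U) (ΓSpec (M.restrict hU.fromSpec)) :=
    Module.Finite.equiv (sectionsEquiv M hU)
  obtain ⟨G, hG⟩ := exists_generatingSections_of_finite (M.restrict hU.fromSpec) h1
  let e : (M.restrict hU.fromSpec).restrict hU.isoSpec.hom ≅ M.restrict U.ι :=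
    ((restrictCompIso hU.isoSpec.hom hU.fromSpec U.ι hU.isoSpec_hom_fromSpec).app M).symm
  haveI := isFiniteType_generatingSectionsRestrict hU.isoSpec.hom G
  exact ⟨(generatingSectionsRestrict hU.isoSpec.hom G).ofEpi e.hom, inferInstance⟩

set_option backward.isDefEq.respectTransparency false in
/-- AFFINE CRITERION for finite type: a quasi-coherent module whose sections over the members of
an affine open cover are finitely generated is of finite type. -/
theorem isFiniteType_of_affine_cover (M : X.Modules) [M.IsQuasicoherent] {ι : Type u}
    (U : ι → X.Opens) (hU : ⨆ i, U i = ⊤) (hA : ∀ i, IsAffineOpen (U i))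
    (h : ∀ i, Module.Finite Γ(X, U i) Γ(M, U i)) :
    SheafOfModules.IsFiniteType (R := X.ringCatSheaf) M := by
  choose G hG using fun i => exists_generatingSections_restrict_of_finite M (hA i) (h i)
  haveI := hG
  exact isFiniteType_of_cover M U hU G

/-- A quasi-coherent module whose sections over all affine opens are finitely generated is of finite
type. -/
theorem isFiniteType_of_forall_affine (M : X.Modules) [M.IsQuasicoherent]
    (h : ∀ U : X.affineOpens, Module.Finite Γ(X, U.1) Γ(M, U.1)) :
    SheafOfModules.IsFiniteType (R := X.ringCatSheaf) M :=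
  isFiniteType_of_affine_cover M (fun U : X.affineOpens => U.1)
    (AlgebraicGeometry.iSup_affineOpens_eq_top X) (fun U => U.2) h

/-- For a quasi-coherent module: finite type iff the sections over every affine open are a finitely
generated module. -/
theorem isFiniteType_iff_forall_affine (M : X.Modules) [M.IsQuasicoherent] :
    SheafOfModules.IsFiniteType (R := X.ringCatSheaf) M ↔
      ∀ U : X.affineOpens, Module.Finite Γ(X, U.1) Γ(M, U.1) :=
  ⟨fun h U => haveI : M.IsFiniteType := h
    Groth.Agent.Lib.CohFinite.finite_sections_of_isAffineOpen M U.2,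
    isFiniteType_of_forall_affine M⟩

/-- `Coh.IsCoh M` iff `M` is quasi-coherent and its sections over every affine open form a finitely
generated module. -/
theorem isCoh_iff_forall_affine (M : X.Modules) :
    Coh.IsCoh M ↔ M.IsQuasicoherent ∧ ∀ U : X.affineOpens, Module.Finite Γ(X, U.1) Γ(M, U.1) := by
  constructor
  · rintro ⟨h1, h2⟩
    haveI : M.IsQuasicoherent := h1
    exact ⟨h1, (isFiniteType_iff_forall_affine M).mp h2⟩
  · rintro ⟨h1, h2⟩
    haveI : M.IsQuasicoherent := h1
    exact ⟨h1, (isFiniteType_iff_forall_affine M).mpr h2⟩

/-- Affine-cover version. -/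
theorem isCoh_of_affine_cover (M : X.Modules) [M.IsQuasicoherent] {ι : Type u}
    (U : ι → X.Opens) (hU : ⨆ i, U i = ⊤) (hA : ∀ i, IsAffineOpen (U i))
    (h : ∀ i, Module.Finite Γ(X, U i) Γ(M, U i)) : Coh.IsCoh M :=
  ⟨inferInstance, isFiniteType_of_affine_cover M U hU hA h⟩

end Groth.Agent.Lib.H90OXModAffineFT
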