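import Groth.Agent.Lib.H90OXModAffineIso
import Groth.Agent.Lib.H90OXModPush
import Groth.Agent.Lib.H90OXModQcqs
import Groth.Agent.Lib.IdealMod
import Groth.Agent.Lib.RestrictExact
import Groth.Agent.Lib.H60TildeExact

set_option autoImplicit false
universe u

open CategoryTheory CategoryTheory.Limits AlgebraicGeometry TopologicalSpace Opposite
open AlgebraicGeometry.Scheme AlgebraicGeometry.Scheme.Modules

namespace Groth.Agent.Lib.H90OXModExact

open Groth.Agent.Lib.H90OXModAffine Groth.Agent.Lib.H90OXModAffineIso

variable {R : CommRingCat.{u}}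

set_option backward.isDefEq.respectTransparency false in
/-- An epimorphism of quasi-coherent modules on `Spec R` is surjective on global sections. -/
theorem surjective_app_top_of_epi {N N' : (Spec R).Modules} [N.IsQuasicoherent]
    [N'.IsQuasicoherent] (φ : N ⟶ N') [Epi φ] : Function.Surjective (φ.app ⊤) := by
  have nat := (fromTildeΓNatTrans (R := R)).naturality φ
  haveI : IsIso N.fromTildeΓ := Scheme.Modules.isIso_fromTildeΓ_of_isQuasicoherent N
  haveI : IsIso N'.fromTildeΓ := Scheme.Modules.isIso_fromTildeΓ_of_isQuasicoherent N'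
  have e : (tilde.functor R).map (moduleSpecΓFunctor.map φ) =
      N.fromTildeΓ ≫ φ ≫ inv N'.fromTildeΓ := by
    rw [← Category.assoc, IsIso.eq_comp_inv]
    exact nat
  haveI : Epi ((tilde.functor R).map (moduleSpecΓFunctor.map φ)) := by
    rw [e]; infer_instance
  haveI : Epi (moduleSpecΓFunctor.map φ) := (tilde.functor R).epi_of_epi_map inferInstance
  exact (ModuleCat.epi_iff_surjective (moduleSpecΓFunctor.map φ)).mp inferInstance

end Groth.Agent.Lib.H90OXModExact

namespace Groth.Agent.Lib.H90OXModExact

open Groth.Agent.Lib.H90OXModAffine Groth.Agent.Lib.H90OXModAffineIso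
  Groth.Agent.Lib.H90OXModLocal

variable {X : Scheme.{u}}

theorem surjective_app_congr {N N' : X.Modules} (φ : N ⟶ N') :
    ∀ (A B : X.Opens), A = B → Function.Surjective (φ.app A) → Function.Surjective (φ.app B) := by
  rintro A _ rfl h
  exact h

set_option backward.isDefEq.respectTransparency false in
/-- An epimorphism of quasi-coherent modules is surjective on sections over every affine open. -/
theorem surjective_app_of_epi {N N' : X.Modules} [N.IsQuasicoherent] [N'.IsQuasicoherent]
    (φ : N ⟶ N') [Epi φ] {U : X.Opens} (hU : IsAffineOpen U) : Function.Surjective (φ.app U) := by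
  haveI : ((restrictFunctor hU.fromSpec).obj N).IsQuasicoherent :=
    Scheme.Modules.isQuasicoherent_restrictFunctor _ _
  haveI : ((restrictFunctor hU.fromSpec).obj N').IsQuasicoherent :=
    Scheme.Modules.isQuasicoherent_restrictFunctor _ _
  haveI : Epi ((restrictFunctor hU.fromSpec).map φ) := inferInstance
  have h := surjective_app_top_of_epi ((restrictFunctor hU.fromSpec).map φ)
  rw [restrictFunctor_map_app] at h
  exact surjective_app_congr φ _ _ (fromSpec_image_top hU) h

end Groth.Agent.Lib.H90OXModExact

namespace Groth.Agent.Lib.H90OXModExact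

open Groth.Agent.Lib.H90OXModAffine Groth.Agent.Lib.H90OXModAffineIso
  Groth.Agent.Lib.H90OXModLocal Groth.Agent.Lib.H90RestrictEquiv Groth.Agent.Lib.H90Invertible
  Groth.Agent.Lib.H90OXModPush

variable {X : Scheme.{u}}

set_option backward.isDefEq.respectTransparency false in
/-- If the restriction of `M` to `Spec Γ(X, V)` is quasi-coherent (`V` affine), then `M|_V` has a
global presentation. -/
theorem nonempty_presentation_restrict_of_isQuasicoherent (M : X.Modules) {V : X.Opens}
    (hV : IsAffineOpen V) (h : (M.restrict hV.fromSpec).IsQuasicoherent) :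
    Nonempty (M.restrict V.ι).Presentation := by
  haveI : IsIso (M.restrict hV.fromSpec).fromTildeΓ :=
    Scheme.Modules.isIso_fromTildeΓ_of_isQuasicoherent _
  obtain ⟨P⟩ := nonempty_presentation_of_isIso_fromTildeΓ (M.restrict hV.fromSpec)
  let e : (M.restrict hV.fromSpec).restrict hV.isoSpec.hom ≅ M.restrict V.ι :=
    ((restrictCompIso hV.isoSpec.hom hV.fromSpec V.ι hV.isoSpec_hom_fromSpec).app M).symm
  exact ⟨(Scheme.Modules.presentationRestrict hV.isoSpec.hom P).ofIsIso e.hom⟩

/-- Quasi-coherence is local: it can be checked after restriction to the spectra of the members of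
an affine open cover. -/
theorem isQuasicoherent_of_forall_restrict (M : X.Modules) {ι : Type u} (U : ι → X.Opens)
    (hU : ⨆ i, U i = ⊤) (hA : ∀ i, IsAffineOpen (U i))
    (h : ∀ i, (M.restrict (hA i).fromSpec).IsQuasicoherent) : M.IsQuasicoherent :=
  isQuasicoherent_of_cover M U hU fun i =>
    (nonempty_presentation_restrict_of_isQuasicoherent M (hA i) (h i)).some

set_option backward.isDefEq.respectTransparency false in
/-- The kernel of a morphism of quasi-coherent modules is quasi-coherent. -/
theorem isQuasicoherent_kernel {M N : X.Modules} [M.IsQuasicoherent] [N.IsQuasicoherent]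
    (φ : M ⟶ N) : (kernel φ).IsQuasicoherent := by
  refine isQuasicoherent_of_forall_restrict (kernel φ) (fun U : X.affineOpens => U.1)
    (AlgebraicGeometry.iSup_affineOpens_eq_top X) (fun U => U.2) fun U => ?_
  haveI : ((restrictFunctor U.2.fromSpec).obj M).IsQuasicoherent :=
    Scheme.Modules.isQuasicoherent_restrictFunctor _ _
  haveI : ((restrictFunctor U.2.fromSpec).obj N).IsQuasicoherent :=
    Scheme.Modules.isQuasicoherent_restrictFunctor _ _
  have e : (restrictFunctor U.2.fromSpec).obj (kernel φ) ≅
      kernel ((restrictFunctor U.2.fromSpec).map φ) :=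
    PreservesKernel.iso (restrictFunctor U.2.fromSpec) φ
  exact (SheafOfModules.isQuasicoherent (Spec Γ(X, U.1)).ringCatSheaf).prop_of_iso e.symm
    (Groth.Agent.Lib.H60TildeExact.isQuasicoherent_kernel _)

set_option backward.isDefEq.respectTransparency false in
/-- The cokernel of a morphism of quasi-coherent modules is quasi-coherent. -/
theorem isQuasicoherent_cokernel {M N : X.Modules} [M.IsQuasicoherent] [N.IsQuasicoherent]
    (φ : M ⟶ N) : (cokernel φ).IsQuasicoherent := by
  refine isQuasicoherent_of_forall_restrict (cokernel φ) (fun U : X.affineOpens => U.1)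
    (AlgebraicGeometry.iSup_affineOpens_eq_top X) (fun U => U.2) fun U => ?_
  haveI : ((restrictFunctor U.2.fromSpec).obj M).IsQuasicoherent :=
    Scheme.Modules.isQuasicoherent_restrictFunctor _ _
  haveI : ((restrictFunctor U.2.fromSpec).obj N).IsQuasicoherent :=
    Scheme.Modules.isQuasicoherent_restrictFunctor _ _
  have e : (restrictFunctor U.2.fromSpec).obj (cokernel φ) ≅
      cokernel ((restrictFunctor U.2.fromSpec).map φ) :=
    PreservesCokernel.iso (restrictFunctor U.2.fromSpec) φ
  exact (SheafOfModules.isQuasicoherent (Spec Γ(X, U.1)).ringCatSheaf).prop_of_iso e.symm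
    (Groth.Agent.Lib.H60TildeExact.isQuasicoherent_cokernel _)

set_option backward.isDefEq.respectTransparency false in
/-- The (abelian) image of a morphism of quasi-coherent modules is quasi-coherent. -/
theorem isQuasicoherent_abelianImage {M N : X.Modules} [M.IsQuasicoherent] [N.IsQuasicoherent]
    (φ : M ⟶ N) : (Abelian.image φ).IsQuasicoherent := by
  haveI := isQuasicoherent_cokernel φ
  exact isQuasicoherent_kernel (cokernel.π φ)

set_option backward.isDefEq.respectTransparency false in
/-- SECTIONS OVER AN AFFINE OPEN ARE EXACT ON QUASI-COHERENT MODULES. -/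
theorem sections_exact_of_isAffineOpen {S : ShortComplex X.Modules} (hS : S.Exact)
    [S.X₁.IsQuasicoherent] [S.X₂.IsQuasicoherent] [S.X₃.IsQuasicoherent] {U : X.Opens}
    (hU : IsAffineOpen U) (s : Γ(S.X₂, U)) (hs : S.g.app U s = 0) : ∃ t, S.f.app U t = s := by
  haveI := isQuasicoherent_kernel S.g
  haveI : Epi (kernel.lift S.g S.f S.zero) := S.exact_iff_epi_kernel_lift.mp hS
  obtain ⟨t', ht'⟩ := ((Groth.Agent.Lib.IdealMod.kernel_sections S.g U).2 s).mp hs
  obtain ⟨t, ht⟩ := surjective_app_of_epi (kernel.lift S.g S.f S.zero) hU t'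
  refine ⟨t, ?_⟩
  have h1 : S.f = kernel.lift S.g S.f S.zero ≫ kernel.ι S.g := (kernel.lift_ι _ _ _).symm
  rw [h1, Scheme.Modules.Hom.comp_app]
  change (kernel.ι S.g).app U ((kernel.lift S.g S.f S.zero).app U t) = s
  rw [ht]
  exact ht'

/-- A morphism of quasi-coherent modules is an epimorphism iff it is surjective on sections over
every affine open. -/
theorem epi_iff_forall_affine {N N' : X.Modules} [N.IsQuasicoherent] [N'.IsQuasicoherent]
    (φ : N ⟶ N') : Epi φ ↔ ∀ U : X.affineOpens, Function.Surjective (φ.app U.1) := by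
  constructor
  · intro h U
    exact surjective_app_of_epi φ U.2
  · intro h
    apply Groth.Agent.Lib.IdealMod.epi_of_locally_surjective
    intro U s x hx
    obtain ⟨_, ⟨V, hV, rfl⟩, hxV, hVU⟩ :=
      X.isBasis_affineOpens.exists_subset_of_mem_open hx U.2
    obtain ⟨t, ht⟩ := h ⟨V, hV⟩ (N'.val.map (homOfLE hVU).op s)
    exact ⟨V, hVU, hxV, t, ht⟩

/-- A morphism of `O_X`-modules is a monomorphism iff it is injective on sections over every affine
open. -/
theorem mono_iff_forall_affine {N N' : X.Modules} (φ : N ⟶ N') :
    Mono φ ↔ ∀ U : X.affineOpens, Function.Injective (φ.app U.1) := by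
  constructor
  · intro h U
    exact Groth.Agent.Lib.H90OXModSections.injective_app_of_mono φ U.1
  · intro h
    have hinj : ∀ W : X.Opens, Function.Injective (φ.app W) := by
      intro W
      rw [injective_iff_map_eq_zero]
      intro s hs
      obtain ⟨Us, hUs, hW⟩ := Opens.isBasis_iff_cover.mp X.isBasis_affineOpens W
      have hle : ∀ V : Us, V.1 ≤ W := fun V => by rw [hW]; exact le_sSup V.2
      apply Groth.Agent.Lib.H90OXModQcqs.res_ext N W (fun V : Us => V.1) hle
        (by rw [hW, sSup_eq_iSup'])
      intro V
      rw [Groth.Agent.Lib.QCohStalk.res_zero]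
      apply h ⟨V.1, hUs V.2⟩
      rw [map_zero]
      have nat := congr($(φ.mapPresheaf.naturality (homOfLE (hle V)).op) s)
      change φ.app V.1 (N.presheaf.map (homOfLE (hle V)).op s) =
        N'.presheaf.map (homOfLE (hle V)).op (φ.app W s) at nat
      rw [hs, map_zero] at nat
      exact nat
    haveI : Mono ((Scheme.Modules.toPresheaf X).map φ) := by
      apply (config := { allowSynthFailures := true }) NatTrans.mono_of_mono_app
      intro W
      exact (AddCommGrpCat.mono_iff_injective _).mpr (hinj W.unop)
    exact (Scheme.Modules.toPresheaf X).mono_of_mono_map inferInstance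


open Groth.Agent.Lib.H90OXModAffineFT Groth.Agent.Lib.H90OXModSections in
/-- A quasi-coherent quotient of a coherent (qcoh of finite type) module is coherent. -/
theorem isCoh_of_epi {M N : X.Modules} (φ : M ⟶ N) [Epi φ] (hM : Coh.IsCoh M)
    (hN : N.IsQuasicoherent) : Coh.IsCoh N := by
  haveI : M.IsQuasicoherent := hM.1
  rw [isCoh_iff_forall_affine]
  refine ⟨hN, fun U => ?_⟩
  haveI : Module.Finite Γ(X, U.1) Γ(M, U.1) :=
    Groth.Agent.Lib.CohFinite.finite_sections_of_isCoh M hM U.2
  exact Module.Finite.of_surjective (appLin φ U.1) (surjective_app_of_epi φ U.2)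

/-- The cokernel of a morphism from a quasi-coherent module to a coherent module is coherent. -/
theorem isCoh_cokernel {M N : X.Modules} (φ : M ⟶ N) [M.IsQuasicoherent] (hN : Coh.IsCoh N) :
    Coh.IsCoh (cokernel φ) := by
  haveI : N.IsQuasicoherent := hN.1
  exact isCoh_of_epi (cokernel.π φ) hN (isQuasicoherent_cokernel φ)

open Groth.Agent.Lib.H90OXModAffineFT Groth.Agent.Lib.H90OXModSections in
/-- On a locally Noetherian scheme, the kernel of a morphism from a coherent module to a
quasi-coherent module is coherent. -/
theorem isCoh_kernel [IsLocallyNoetherian X] {M N : X.Modules} (φ : M ⟶ N) (hM : Coh.IsCoh M)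
    [N.IsQuasicoherent] : Coh.IsCoh (kernel φ) := by
  haveI : M.IsQuasicoherent := hM.1
  haveI := isQuasicoherent_kernel φ
  rw [isCoh_iff_forall_affine]
  refine ⟨inferInstance, fun U => ?_⟩
  haveI : IsNoetherianRing Γ(X, U.1) := IsLocallyNoetherian.component_noetherian U
  haveI : Module.Finite Γ(X, U.1) Γ(M, U.1) :=
    Groth.Agent.Lib.CohFinite.finite_sections_of_isCoh M hM U.2
  haveI : _root_.IsNoetherian Γ(X, U.1) Γ(M, U.1) := isNoetherian_of_isNoetherianRing_of_finite _ _
  exact Module.Finite.of_injective (appLin (kernel.ι φ) U.1)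
    (injective_appLin_of_mono (kernel.ι φ) U.1)

end Groth.Agent.Lib.H90OXModExact
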