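import Groth.Agent.Lib.FinLocFree
import Groth.Prelude.Def_DCoh2
import Mathlib.Algebra.Homology.DerivedCategory.ExactFunctor
import Mathlib.Data.Int.Interval

/-!
# Perfect complexes are locally bounded complexes of finite free modules
-/

set_option autoImplicit false
universe u

open CategoryTheory CategoryTheory.Limits AlgebraicGeometry

namespace Groth.Agent.Lib.PerfectLocal

open Groth.Agent.Lib.FreeModSch Groth.Agent.Lib.FinLocFree

variable {X : Scheme.{u}}

/-- An open immersion landing in `U` factors through `U.ι` by an open immersion. -/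
theorem exists_factor_ι {Y : Scheme.{u}} (j : Y ⟶ X) [IsOpenImmersion j] (U : X.Opens)
    (h : j.opensRange ≤ U) : ∃ (j' : Y ⟶ U) (_ : IsOpenImmersion j'), j' ≫ U.ι = j := by
  have hjU : Set.range j ⊆ Set.range U.ι := by
    intro y hy
    have := h hy
    simpa using this
  let j' : Y ⟶ U := IsOpenImmersion.lift U.ι j hjU
  have hj' : j' ≫ U.ι = j := IsOpenImmersion.lift_fac _ _ _
  have : IsOpenImmersion (j' ≫ U.ι) := by rw [hj']; infer_instance
  exact ⟨j', IsOpenImmersion.of_comp j' U.ι, hj'⟩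

/-- Restriction along a composite. -/
noncomputable def restrictFactorIso {A B C : Scheme.{u}} (f : A ⟶ B) (g : B ⟶ C) (k : A ⟶ C)
    [IsOpenImmersion f] [IsOpenImmersion g] [IsOpenImmersion k] (h : f ≫ g = k) :
    Scheme.Modules.restrictFunctor g ⋙ Scheme.Modules.restrictFunctor f ≅
      Scheme.Modules.restrictFunctor k :=
  (Scheme.Modules.restrictFunctorComp f g).symm ≪≫ Scheme.Modules.restrictFunctorCongr h

theorem isFinLocFree_freeMod (Y : Scheme.{u}) (n : ℕ) :
    FlatMod.IsFinLocFree (FlatMod.freeMod Y n) :=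
  fun _ => ⟨⊤, n, trivial, ⟨restrictFreeModIso _ n⟩⟩

/-- The free module of rank zero is a zero object. -/
theorem isZero_freeMod_zero (Y : Scheme.{u}) : IsZero (FlatMod.freeMod Y 0) := by
  rw [IsZero.iff_id_eq_zero]
  exact Sigma.hom_ext _ _ (fun i => i.elim0)

/-- Flexible form of local freeness: on a neighbourhood `V` of `x`, the restriction of `M` along
any open immersion landing in `V` is free (of a fixed rank). -/
theorem exists_forall_restrict_iso_freeMod {M : X.Modules} (hM : FlatMod.IsFinLocFree M) (x : X) :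
    ∃ V : X.Opens, x ∈ V ∧ ∃ n : ℕ, ∀ {Y : Scheme.{u}} (j : Y ⟶ X) [IsOpenImmersion j],
      j.opensRange ≤ V → Nonempty (M.restrict j ≅ FlatMod.freeMod Y n) := by
  obtain ⟨U, n, hxU, ⟨e⟩⟩ := hM x
  refine ⟨U, hxU, n, fun {Y} j _ hj => ?_⟩
  obtain ⟨j', _, hj'⟩ := exists_factor_ι j U hj
  exact ⟨((restrictFactorIso j' U.ι j hj').app M).symm ≪≫
    (Scheme.Modules.restrictFunctor j').mapIso e ≪≫ restrictFreeModIso j' n⟩


/-- Finitely many opens containing `x` have a common lower bound containing `x`. -/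
theorem exists_le_of_finset {ι : Type*} (s : Finset ι) (V : ι → X.Opens) (x : X)
    (hV : ∀ i ∈ s, x ∈ V i) : ∃ W : X.Opens, x ∈ W ∧ ∀ i ∈ s, W ≤ V i := by
  classical
  induction s using Finset.induction_on with
  | empty => exact ⟨⊤, trivial, fun i hi => absurd hi (Finset.notMem_empty i)⟩
  | insert a s ha ih =>
    obtain ⟨W, hxW, hW⟩ := ih (fun i hi => hV i (Finset.mem_insert_of_mem hi))
    refine ⟨W ⊓ V a, ⟨hxW, hV a (Finset.mem_insert_self a s)⟩, fun i hi => ?_⟩
    rcases Finset.mem_insert.mp hi with rfl | hi'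
    · exact inf_le_right
    · exact inf_le_left.trans (hW i hi')

/-- A strictly perfect complex is, near any point, termwise free after restriction along any open
immersion landing in a fixed neighbourhood. -/
theorem exists_forall_term_free {E : CochainComplex X.Modules ℤ} (hE : DCoh.IsStrictlyPerfect E)
    (x : X) :
    ∃ V : X.Opens, x ∈ V ∧ ∀ {Y : Scheme.{u}} (j : Y ⟶ X) [IsOpenImmersion j],
      j.opensRange ≤ V → ∀ i : ℤ, ∃ n : ℕ, Nonempty ((E.X i).restrict j ≅ FlatMod.freeMod Y n) := by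
  obtain ⟨⟨a, b, hab⟩, hfree⟩ := hE
  choose V hxV n hV using fun i => exists_forall_restrict_iso_freeMod (hfree i) x
  obtain ⟨W, hxW, hW⟩ := exists_le_of_finset (Finset.Icc a b) V x (fun i _ => hxV i)
  refine ⟨W, hxW, fun {Y} j _ hj i => ?_⟩
  by_cases hi : i ∈ Finset.Icc a b
  · exact ⟨n i, hV i j (hj.trans (hW i hi))⟩
  · refine ⟨0, ⟨IsZero.iso ?_ (isZero_freeMod_zero Y)⟩⟩
    refine (Scheme.Modules.restrictFunctor j).map_isZero (hab i ?_)
    rw [Finset.mem_Icc] at hi
    omega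


section Derived

attribute [local instance] HasDerivedCategory.standard

open Groth.Agent.Lib.RestrictExact

/-- Restricting a complex to `V` and then to `V' ≤ V` is restricting to `V'`. -/
noncomputable def restrictCxIso {V' V : X.Opens} (h : V' ≤ V) (F : CochainComplex X.Modules ℤ) :
    ((Scheme.Modules.restrictFunctor (X.homOfLE h)).mapHomologicalComplex (ComplexShape.up ℤ)).obj
      ((DCoh.restrictCx V).obj F) ≅ (DCoh.restrictCx V').obj F :=
  HomologicalComplex.Hom.isoOfComponents (fun i => (restrictRestrictIso h).app (F.X i))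
    (fun i j _ => ((restrictRestrictIso h).hom.naturality (F.d i j)).symm)

theorem isPerfect_iff_locally_finite_free_complex (K : DCoh.D X) :
    DCoh.IsPerfect K ↔ ∀ x : X, ∃ V : X.Opens, x ∈ V ∧
      ∀ F : CochainComplex X.Modules ℤ, Nonempty (DCoh.toD X F ≅ K) →
        ∃ (P : CochainComplex (V : Scheme.{u}).Modules ℤ) (a b : ℤ), DCoh.VanishesOutside P a b ∧
          (∀ i : ℤ, ∃ n : ℕ, Nonempty (P.X i ≅ FlatMod.freeMod (V : Scheme.{u}) n)) ∧
          Nonempty (DerivedCategory.Q.obj ((DCoh.restrictCx V).obj F) ≅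
            DerivedCategory.Q.obj P) := by
  constructor
  · intro hK x
    obtain ⟨V, hxV, hV⟩ := hK x
    -- fix one representative
    obtain ⟨F₀, ⟨iF₀⟩⟩ : ∃ F₀ : CochainComplex X.Modules ℤ, Nonempty (DCoh.toD X F₀ ≅ K) :=
      ⟨_, ⟨DerivedCategory.Q.objObjPreimageIso K⟩⟩
    obtain ⟨E₀, hE₀, ⟨e₀⟩⟩ := hV F₀ ⟨iF₀⟩
    obtain ⟨a, b, hab⟩ := hE₀.1
    obtain ⟨V'', hxV'', hfree⟩ := exists_forall_term_free hE₀ ⟨x, hxV⟩
    have hle : V.ι ''ᵁ V'' ≤ V := V.ι_image_le V''
    refine ⟨V.ι ''ᵁ V'', ⟨⟨x, hxV⟩, hxV'', rfl⟩, fun F ⟨iF⟩ => ?_⟩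
    let ρ := Scheme.Modules.restrictFunctor (X.homOfLE hle)
    let R' := Scheme.Modules.restrictFunctor (V.ι ''ᵁ V'').ι
    refine ⟨(ρ.mapHomologicalComplex (ComplexShape.up ℤ)).obj E₀, a, b, ?_, ?_, ⟨?_⟩⟩
    · intro i hi
      exact ρ.map_isZero (hab i hi)
    · exact hfree (X.homOfLE hle) (by
        rw [Scheme.opensRange_homOfLE, Scheme.Hom.preimage_image_eq])
    · exact (R'.mapDerivedCategoryFactors.app F).symm ≪≫
        R'.mapDerivedCategory.mapIso (iF ≪≫ iF₀.symm) ≪≫
        R'.mapDerivedCategoryFactors.app F₀ ≪≫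
        DerivedCategory.Q.mapIso (restrictCxIso hle F₀).symm ≪≫
        (ρ.mapDerivedCategoryFactors.app ((DCoh.restrictCx V).obj F₀)).symm ≪≫
        ρ.mapDerivedCategory.mapIso e₀ ≪≫
        ρ.mapDerivedCategoryFactors.app E₀
  · intro h x
    obtain ⟨V, hxV, hV⟩ := h x
    refine ⟨V, hxV, fun F hF => ?_⟩
    obtain ⟨P, a, b, hab, hfree, hiso⟩ := hV F hF
    refine ⟨P, ⟨⟨a, b, hab⟩, fun i => ?_⟩, hiso⟩
    obtain ⟨n, ⟨e⟩⟩ := hfree i
    exact isFinLocFree_of_iso e.symm (isFinLocFree_freeMod _ n)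

end Derived

end Groth.Agent.Lib.PerfectLocal
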