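import Groth.Agent.Lib.RestrictExact
import Groth.Agent.Lib.PerfectLocal
import Groth.Agent.Lib.H90OXModExact
import Groth.Agent.Lib.H90OXModAffineFT
import Groth.Agent.Lib.H90InvertibleFP
import Groth.Agent.Lib.CohFinite
import Groth.Prelude.Def_DCoh2

/-!
# Coherence is local; homology of strictly perfect complexes is coherent

* `isQuasicoherent_of_forall_restrict_opens`, `isCoh_of_forall_restrict_opens`: quasi-coherence
  and coherence (`Coh.IsCoh`) can be checked on an arbitrary open cover.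
* `restrictHomologyIso`: restriction of complexes to an open commutes with homology.
* `isCoh_homology_of_isStrictlyPerfect`: on a locally Noetherian scheme the homology of a strictly
  perfect complex is coherent.
-/

set_option autoImplicit false
universe u

open CategoryTheory CategoryTheory.Limits AlgebraicGeometry TopologicalSpace Opposite

namespace Groth.Agent.Lib.CohLocal

open Groth.Agent.Lib.PerfectLocal

variable {X : Scheme.{u}}

/-- Quasi-coherence can be checked on an arbitrary open cover. -/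
theorem isQuasicoherent_of_forall_restrict_opens (M : X.Modules)
    (h : ∀ x : X, ∃ V : X.Opens, x ∈ V ∧ (M.restrict V.ι).IsQuasicoherent) :
    M.IsQuasicoherent := by
  choose V hxV hV using h
  let ι : Type u := {U : X.affineOpens // ∃ x, U.1 ≤ V x}
  have hU : ⨆ i : ι, i.1.1 = ⊤ := by
    rw [eq_top_iff]
    intro x _
    obtain ⟨_, ⟨W, hW, rfl⟩, hxW, hWV⟩ :=
      X.isBasis_affineOpens.exists_subset_of_mem_open (hxV x) (V x).isOpen
    exact Opens.mem_iSup.mpr ⟨⟨⟨W, hW⟩, x, hWV⟩, hxW⟩
  refine Groth.Agent.Lib.H90OXModExact.isQuasicoherent_of_forall_restrict M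
    (fun i : ι => i.1.1) hU (fun i => i.1.2) fun i => ?_
  obtain ⟨x, hle⟩ := i.2
  obtain ⟨j', _, hj'⟩ := exists_factor_ι i.1.2.fromSpec (V x)
    (by rw [IsAffineOpen.opensRange_fromSpec]; exact hle)
  have := hV x
  have hq : ((Scheme.Modules.restrictFunctor j').obj (M.restrict (V x).ι)).IsQuasicoherent :=
    Scheme.Modules.isQuasicoherent_restrictFunctor _ _
  exact (SheafOfModules.isQuasicoherent (Spec Γ(X, i.1.1)).ringCatSheaf).prop_of_iso
    ((restrictFactorIso j' (V x).ι i.1.2.fromSpec hj').app M) hq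

/-- If `R'` acts on `N` through a map `τ : R' → S'` and `N` is finite over `R'`, it is finite
over `S'`. -/
theorem finite_of_smul_eq {R' S' N : Type*} [Semiring R'] [Semiring S'] [AddCommMonoid N]
    [Module R' N] [Module S' N] (τ : R' → S') (h : ∀ (r : R') (x : N), r • x = τ r • x)
    [hfin : Module.Finite R' N] : Module.Finite S' N := by
  obtain ⟨T, hT⟩ := hfin.fg_top
  refine ⟨⟨T, ?_⟩⟩
  rw [eq_top_iff]
  rintro x -
  have hx : x ∈ Submodule.span R' (T : Set N) := hT ▸ trivial
  induction hx using Submodule.span_induction with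
  | mem y hy => exact Submodule.subset_span hy
  | zero => exact zero_mem _
  | add a b _ _ ha hb => exact add_mem ha hb
  | smul r a _ ha => rw [h]; exact Submodule.smul_mem _ _ ha

/-- The `Γ(Y, W)`-module structure on `Γ(M, j ''ᵁ W) = Γ(M.restrict j, W)`. -/
@[reducible] noncomputable def moduleImage {Y : Scheme.{u}} (j : Y ⟶ X) [IsOpenImmersion j]
    (M : X.Modules) (W : Y.Opens) : Module Γ(Y, W) Γ(M, j ''ᵁ W) :=
  inferInstanceAs (Module Γ(Y, W) Γ(M.restrict j, W))

/-- Sections of a restriction over `W`, as a module over `Γ(X, j ''ᵁ W)`. -/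
theorem finite_sections_image {Y : Scheme.{u}} (j : Y ⟶ X) [IsOpenImmersion j] (M : X.Modules)
    (W : Y.Opens) (h : Module.Finite Γ(Y, W) Γ(M.restrict j, W)) :
    Module.Finite Γ(X, j ''ᵁ W) Γ(M, j ''ᵁ W) := by
  have h' : @Module.Finite Γ(Y, W) Γ(M, j ''ᵁ W) _ _ (moduleImage j M W) := h
  exact @finite_of_smul_eq Γ(Y, W) Γ(X, j ''ᵁ W) Γ(M, j ''ᵁ W) _ _ _ (moduleImage j M W) _
    (fun r => (j.appIso W).inv r) (fun _ _ => rfl) h'

/-- Coherence (quasi-coherent of finite type) can be checked on an arbitrary open cover. -/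
theorem isCoh_of_forall_restrict_opens (M : X.Modules)
    (h : ∀ x : X, ∃ V : X.Opens, x ∈ V ∧ Coh.IsCoh (M.restrict V.ι)) : Coh.IsCoh M := by
  haveI : M.IsQuasicoherent := isQuasicoherent_of_forall_restrict_opens M fun x => by
    obtain ⟨V, hxV, hV⟩ := h x
    exact ⟨V, hxV, hV.1⟩
  choose V hxV hV using h
  let ι : Type u := Σ x : X, (V x).toScheme.affineOpens
  let U : ι → X.Opens := fun i => (V i.1).ι ''ᵁ i.2.1
  have hU : ⨆ i : ι, U i = ⊤ := by
    rw [eq_top_iff]
    intro x _
    obtain ⟨_, ⟨W, hW, rfl⟩, hxW, -⟩ :=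
      (V x).toScheme.isBasis_affineOpens.exists_subset_of_mem_open
        (Set.mem_univ (⟨x, hxV x⟩ : (V x).toScheme)) isOpen_univ
    exact Opens.mem_iSup.mpr ⟨⟨x, ⟨W, hW⟩⟩, ⟨⟨x, hxV x⟩, hxW, rfl⟩⟩
  have hA : ∀ i, IsAffineOpen (U i) := fun i => i.2.2.image_of_isOpenImmersion (V i.1).ι
  refine ⟨inferInstance, Groth.Agent.Lib.H90OXModAffineFT.isFiniteType_of_affine_cover M U hU hA
    fun i => ?_⟩
  exact finite_sections_image (V i.1).ι M i.2.1
    (Groth.Agent.Lib.CohFinite.finite_sections_of_isCoh (M.restrict (V i.1).ι) (hV i.1) i.2.2)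

/-- Coherence is invariant under isomorphism. -/
theorem isCoh_of_iso {M N : X.Modules} (e : M ≅ N) (hM : Coh.IsCoh M) : Coh.IsCoh N :=
  Groth.Agent.Lib.H90OXModExact.isCoh_of_epi e.hom hM
    ((SheafOfModules.isQuasicoherent X.ringCatSheaf).prop_of_iso e hM.1)

/-- Restriction of complexes to an open commutes with homology. -/
noncomputable def restrictHomologyIso (V : X.Opens) (F : CochainComplex X.Modules ℤ) (i : ℤ) :
    ((DCoh.restrictCx V).obj F).homology i ≅ (F.homology i).restrict V.ι :=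
  (F.sc i).mapHomologyIso (Scheme.Modules.restrictFunctor V.ι)

/-- On a locally Noetherian scheme, the homology of a complex with coherent terms is coherent. -/
theorem isCoh_homology [IsLocallyNoetherian X] (E : CochainComplex X.Modules ℤ)
    (hE : ∀ i, Coh.IsCoh (E.X i)) (i : ℤ) : Coh.IsCoh (E.homology i) := by
  let S := E.sc i
  have h1 : Coh.IsCoh S.X₁ := hE _
  have h2 : Coh.IsCoh S.X₂ := hE _
  have h3 : Coh.IsCoh S.X₃ := hE _
  haveI : S.X₁.IsQuasicoherent := h1.1
  haveI : S.X₃.IsQuasicoherent := h3.1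
  have hk : Coh.IsCoh (kernel S.g) := Groth.Agent.Lib.H90OXModExact.isCoh_kernel S.g h2
  have hc : Coh.IsCoh (cokernel (kernel.lift S.g S.f S.zero)) :=
    Groth.Agent.Lib.H90OXModExact.isCoh_cokernel _ hk
  exact isCoh_of_iso S.homologyIsoCokernelLift.symm hc

theorem isCoh_homology_of_isStrictlyPerfect [IsLocallyNoetherian X]
    (E : CochainComplex X.Modules ℤ) (hE : DCoh.IsStrictlyPerfect E) (i : ℤ) :
    Coh.IsCoh (E.homology i) :=
  isCoh_homology E (fun j => Groth.Agent.Lib.H90Invertible.isCoh_of_isFinLocFree (hE.2 j)) i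

end Groth.Agent.Lib.CohLocal
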