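import Mathlib
import Groth.Agent.Lib.H90OXModExact
import Groth.Agent.Lib.H90Invertible

/-!
# Coherence is invariant under isomorphism and restriction to opens
-/

set_option autoImplicit false
universe u

open AlgebraicGeometry CategoryTheory TopologicalSpace Opposite
open Groth.Agent.Lib.QCohStalk

namespace Groth.Agent.Lib.H90CohRestrict

variable {X : Scheme.{u}}

theorem isQuasicoherent_of_iso {M N : X.Modules} (e : M ≅ N) [M.IsQuasicoherent] :
    N.IsQuasicoherent :=
  (SheafOfModules.isQuasicoherent X.ringCatSheaf).prop_of_iso e inferInstance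

theorem isCoh_of_iso {M N : X.Modules} (e : M ≅ N) (hM : Coh.IsCoh M) : Coh.IsCoh N := by
  haveI := hM.1
  exact Groth.Agent.Lib.H90OXModExact.isCoh_of_epi e.hom hM (isQuasicoherent_of_iso e)

variable {Y : Scheme.{u}} (j : Y ⟶ X) [IsOpenImmersion j]

set_option backward.isDefEq.respectTransparency false in
theorem finite_sections_restrict (L : X.Modules) (W : Y.Opens)
    (h : Module.Finite Γ(X, j ''ᵁ W) Γ(L, j ''ᵁ W)) :
    Module.Finite Γ(Y, W) Γ(L.restrict j, W) := by
  obtain ⟨G, hG⟩ := h.fg_top
  let G' : Finset Γ(L.restrict j, W) := G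
  refine ⟨⟨G', ?_⟩⟩
  rw [eq_top_iff]
  intro x _
  have key : ∀ y : Γ(L, j ''ᵁ W), y ∈ Submodule.span Γ(X, j ''ᵁ W) (G : Set Γ(L, j ''ᵁ W)) →
      (show Γ(L.restrict j, W) from y) ∈
        Submodule.span Γ(Y, W) (G' : Set Γ(L.restrict j, W)) := by
    intro y hy
    induction hy using Submodule.span_induction with
    | mem y hy => exact Submodule.subset_span hy
    | zero => exact Submodule.zero_mem _
    | add a b _ _ ha hb => exact Submodule.add_mem _ ha hb
    | smul r a _ ha =>
      have e : (show Γ(L.restrict j, W) from r • a) =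
          ((j.appIso W).hom r : Γ(Y, W)) • (show Γ(L.restrict j, W) from a) := by
        rw [Groth.Agent.Lib.H90Invertible.restrict_smul, Iso.hom_inv_id_apply]
      change (show Γ(L.restrict j, W) from r • a) ∈ _
      rw [e]
      exact Submodule.smul_mem _ _ ha
  exact key x (by rw [hG]; exact Submodule.mem_top)

theorem isCoh_restrict (L : X.Modules) (hL : Coh.IsCoh L) : Coh.IsCoh (L.restrict j) := by
  haveI := hL.1
  rw [Groth.Agent.Lib.H90OXModAffineFT.isCoh_iff_forall_affine]
  refine ⟨inferInstance, fun W => ?_⟩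
  apply finite_sections_restrict
  exact Groth.Agent.Lib.CohFinite.finite_sections_of_isCoh L hL (W.2.image_of_isOpenImmersion j)

end Groth.Agent.Lib.H90CohRestrict
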