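import Groth.Agent.Lib.DeltaUniv

/-!
# Two universal delta-functors with isomorphic degree-zero parts are isomorphic
-/

set_option autoImplicit false

open CategoryTheory CategoryTheory.Limits DeltaF

universe v u v' u'

namespace Groth.Agent.Lib.DeltaIso

variable {A : Type u} [Category.{v} A] [Abelian A] {B : Type u'} [Category.{v'} B] [Abelian B]

/-- two universal delta-functors with isomorphic `F 0` are isomorphic as delta-functors -/
theorem nonempty_iso_of_isUniversal (T T' : CohDeltaFunctor A B ℕ) (hT : T.IsUniversal)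
    (hT' : T'.IsUniversal) (e : T.F 0 ≅ T'.F 0) :
    ∃ i : T ≅ T', i.hom.app 0 = e.hom := by
  obtain ⟨τ, hτ, -⟩ := hT T' e.hom
  obtain ⟨τ', hτ', -⟩ := hT' T e.inv
  have h1 : τ ≫ τ' = 𝟙 T := by
    obtain ⟨σ, -, hσ⟩ := hT T (𝟙 _)
    rw [hσ (τ ≫ τ') (by
        change (τ ≫ τ').app 0 = _
        rw [CohDeltaFunctor.comp_app, hτ, hτ', e.hom_inv_id]),
      hσ (𝟙 T) (CohDeltaFunctor.id_app T 0)]
  have h2 : τ' ≫ τ = 𝟙 T' := by
    obtain ⟨σ, -, hσ⟩ := hT' T' (𝟙 _)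
    rw [hσ (τ' ≫ τ) (by
        change (τ' ≫ τ).app 0 = _
        rw [CohDeltaFunctor.comp_app, hτ, hτ', e.inv_hom_id]),
      hσ (𝟙 T') (CohDeltaFunctor.id_app T' 0)]
  exact ⟨⟨τ, τ', h1, h2⟩, hτ⟩

/-- degreewise natural isomorphisms -/
theorem nonempty_natIso_of_isUniversal (T T' : CohDeltaFunctor A B ℕ) (hT : T.IsUniversal)
    (hT' : T'.IsUniversal) (e : T.F 0 ≅ T'.F 0) (n : ℕ) :
    Nonempty (T.F n ≅ T'.F n) := by
  obtain ⟨i, -⟩ := nonempty_iso_of_isUniversal T T' hT hT' e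
  refine ⟨⟨i.hom.app n, i.inv.app n, ?_, ?_⟩⟩
  · rw [← CohDeltaFunctor.comp_app, i.hom_inv_id, CohDeltaFunctor.id_app]
  · rw [← CohDeltaFunctor.comp_app, i.inv_hom_id, CohDeltaFunctor.id_app]

end Groth.Agent.Lib.DeltaIso
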