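import Groth.Prelude.Def_RDerDelta
import Mathlib.Algebra.Homology.ShortComplex.Abelian
import Mathlib.Algebra.Homology.ShortComplex.Limits
import Mathlib.Algebra.Homology.ShortComplex.PreservesHomology
import Mathlib.CategoryTheory.Abelian.Injective.Resolution

set_option autoImplicit false

open CategoryTheory CategoryTheory.Limits

universe v u

namespace Groth.Agent.Lib.SESResLift

section General

variable {V : Type u} [Category.{v} V] [Abelian V]

/-- descent of a morphism `Z ⟶ K⁰` killed by `d` along an exact augmented complex `Z ⟶ P` to a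
cochain map `P ⟶ K` into a complex of injectives -/
theorem exists_desc_of_exact {Z : V} (P K : CochainComplex V ℕ) (ε : Z ⟶ P.X 0) [Mono ε]
    (hε : ε ≫ P.d 0 1 = 0) (h₀ : (ShortComplex.mk ε (P.d 0 1) hε).Exact)
    (hsucc : ∀ n, (ShortComplex.mk (P.d n (n + 1)) (P.d (n + 1) (n + 2))
      (P.d_comp_d _ _ _)).Exact)
    (hK : ∀ n, Injective (K.X n)) (b : Z ⟶ K.X 0) (hb : b ≫ K.d 0 1 = 0) :
    ∃ θ : P ⟶ K, ε ≫ θ.f 0 = b := by
  let z : P.X 0 ⟶ K.X 0 := Injective.factorThru b ε
  have hz : ε ≫ z = b := Injective.comp_factorThru _ _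
  let o : P.X 1 ⟶ K.X 1 := h₀.descToInjective (z ≫ K.d 0 1) (by
    dsimp
    rw [← Category.assoc, hz, hb])
  have ho : P.d 0 1 ≫ o = z ≫ K.d 0 1 := h₀.comp_descToInjective _ _
  refine ⟨CochainComplex.mkHom _ _ z o ho.symm (fun n p =>
    ⟨(hsucc n).descToInjective (p.2.1 ≫ K.d (n + 1) (n + 2)) (by
        dsimp
        rw [← Category.assoc, ← p.2.2, Category.assoc, K.d_comp_d, comp_zero]),
     ((hsucc n).comp_descToInjective _ _).symm⟩), ?_⟩
  rw [CochainComplex.mkHom_f_0]
  exact hz

end General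

variable {C : Type u} [Category.{v} C] [Abelian C]

/-- a morphism of short complexes with monic components is monic -/
lemma mono_of_mono_τ {A B : ShortComplex C} (m : A ⟶ B) [Mono m.τ₁] [Mono m.τ₂] [Mono m.τ₃] :
    Mono m := by
  apply Preadditive.mono_of_cancel_zero
  intro P g hg
  ext
  · have h := congr_arg ShortComplex.Hom.τ₁ hg
    rw [ShortComplex.comp_τ₁, ShortComplex.zero_τ₁] at h
    rw [ShortComplex.zero_τ₁]
    exact (cancel_mono m.τ₁).mp (h.trans zero_comp.symm)
  · have h := congr_arg ShortComplex.Hom.τ₂ hg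
    rw [ShortComplex.comp_τ₂, ShortComplex.zero_τ₂] at h
    rw [ShortComplex.zero_τ₂]
    exact (cancel_mono m.τ₂).mp (h.trans zero_comp.symm)
  · have h := congr_arg ShortComplex.Hom.τ₃ hg
    rw [ShortComplex.comp_τ₃, ShortComplex.zero_τ₃] at h
    rw [ShortComplex.zero_τ₃]
    exact (cancel_mono m.τ₃).mp (h.trans zero_comp.symm)

/-- a split short complex with injective outer terms is an injective object of `ShortComplex C` -/
theorem injective_of_splitting (Q : ShortComplex C) (s : Q.Splitting) [Injective Q.X₁]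
    [Injective Q.X₃] : Injective Q where
  factors {A B} u m _ := by
    have : Mono m.τ₂ := (inferInstance : Mono (ShortComplex.π₂.map m))
    have : Mono m.τ₃ := (inferInstance : Mono (ShortComplex.π₃.map m))
    let w : B.X₂ ⟶ Q.X₁ := Injective.factorThru (u.τ₂ ≫ s.r) m.τ₂
    have hw : m.τ₂ ≫ w = u.τ₂ ≫ s.r := Injective.comp_factorThru _ _
    let w₃ : B.X₃ ⟶ Q.X₃ := Injective.factorThru u.τ₃ m.τ₃
    have hw₃ : m.τ₃ ≫ w₃ = u.τ₃ := Injective.comp_factorThru _ _
    refine ⟨⟨B.f ≫ w, w ≫ Q.f + B.g ≫ w₃ ≫ s.s, w₃, ?_, ?_⟩, ?_⟩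
    · simp
    · simp
    · ext
      · dsimp
        rw [m.comm₁₂_assoc, hw, ← u.comm₁₂_assoc, s.f_r, Category.comp_id]
      · dsimp
        rw [Preadditive.comp_add, ← Category.assoc, hw, m.comm₂₃_assoc, reassoc_of% hw₃,
          ← u.comm₂₃_assoc, Category.assoc, ← Preadditive.comp_add, s.id, Category.comp_id]
      · exact hw₃

/-- exactness in `ShortComplex C` can be checked componentwise -/
lemma exact_of_exact_π (W : ShortComplex (ShortComplex C))
    (h₁ : (W.map ShortComplex.π₁).Exact) (h₂ : (W.map ShortComplex.π₂).Exact)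
    (h₃ : (W.map ShortComplex.π₃).Exact) : W.Exact := by
  rw [ShortComplex.exact_iff_isZero_homology] at h₁ h₂ h₃ ⊢
  have z₁ : IsZero (ShortComplex.π₁.obj W.homology) := h₁.of_iso (W.mapHomologyIso _).symm
  have z₂ : IsZero (ShortComplex.π₂.obj W.homology) := h₂.of_iso (W.mapHomologyIso _).symm
  have z₃ : IsZero (ShortComplex.π₃.obj W.homology) := h₃.of_iso (W.mapHomologyIso _).symm
  rw [IsZero.iff_id_eq_zero]
  ext
  · exact z₁.eq_of_src _ _
  · exact z₂.eq_of_src _ _
  · exact z₃.eq_of_src _ _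

section ToCx

/-- a short complex of cochain complexes, seen as a cochain complex of short complexes -/
@[simps]
def toCx (K : ShortComplex (CochainComplex C ℕ)) : CochainComplex (ShortComplex C) ℕ where
  X n := K.map (HomologicalComplex.eval C _ n)
  d i j :=
    { τ₁ := K.X₁.d i j
      τ₂ := K.X₂.d i j
      τ₃ := K.X₃.d i j
      comm₁₂ := (K.f.comm i j).symm
      comm₂₃ := (K.g.comm i j).symm }
  shape i j h := by
    ext
    · exact K.X₁.shape i j h
    · exact K.X₂.shape i j h
    · exact K.X₃.shape i j h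
  d_comp_d' i j k _ _ := by
    ext
    · exact K.X₁.d_comp_d i j k
    · exact K.X₂.d_comp_d i j k
    · exact K.X₃.d_comp_d i j k

/-- a cochain map between the associated complexes of short complexes gives back a morphism of
short complexes of complexes -/
@[simps]
def ofCxHom {K K' : ShortComplex (CochainComplex C ℕ)} (Ψ : toCx K ⟶ toCx K') : K ⟶ K' where
  τ₁ := { f := fun n => (Ψ.f n).τ₁
          comm' := fun i j _ => congr_arg ShortComplex.Hom.τ₁ (Ψ.comm i j) }
  τ₂ := { f := fun n => (Ψ.f n).τ₂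
          comm' := fun i j _ => congr_arg ShortComplex.Hom.τ₂ (Ψ.comm i j) }
  τ₃ := { f := fun n => (Ψ.f n).τ₃
          comm' := fun i j _ => congr_arg ShortComplex.Hom.τ₃ (Ψ.comm i j) }
  comm₁₂ := by
    ext n
    exact (Ψ.f n).comm₁₂
  comm₂₃ := by
    ext n
    exact (Ψ.f n).comm₂₃

end ToCx

section Lift

variable {S S' : ShortComplex C}

/-- the augmentation of an injective resolution of a short complex, as a morphism of short
complexes -/
@[simps]
def aug (T : RDer.SESRes S) : S ⟶ (toCx T.cx).X 0 where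
  τ₁ := T.I₁.ι.f 0
  τ₂ := T.I₂.ι.f 0
  τ₃ := T.I₃.ι.f 0
  comm₁₂ := by
    have := HomologicalComplex.congr_hom T.ι_f 0
    simp only [HomologicalComplex.comp_f, CochainComplex.single₀_map_f_zero] at this
    exact this
  comm₂₃ := by
    have := HomologicalComplex.congr_hom T.ι_g 0
    simp only [HomologicalComplex.comp_f, CochainComplex.single₀_map_f_zero] at this
    exact this

lemma aug_d (T : RDer.SESRes S) : aug T ≫ (toCx T.cx).d 0 1 = 0 := by
  ext
  · exact T.I₁.ι_f_zero_comp_complex_d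
  · exact T.I₂.ι_f_zero_comp_complex_d
  · exact T.I₃.ι_f_zero_comp_complex_d

instance (T : RDer.SESRes S) : Mono (aug T) := by
  have : Mono (aug T).τ₁ := (inferInstance : Mono (T.I₁.ι.f 0))
  have : Mono (aug T).τ₂ := (inferInstance : Mono (T.I₂.ι.f 0))
  have : Mono (aug T).τ₃ := (inferInstance : Mono (T.I₃.ι.f 0))
  exact mono_of_mono_τ _

/-- **Lifting**: a morphism of short complexes lifts to a morphism between any injective resolutions
of them (in the sense of `RDer.SESRes`), compatibly with the augmentations. -/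
theorem exists_lift (T : RDer.SESRes S) (T' : RDer.SESRes S') (φ : S ⟶ S') :
    ∃ Φ : T.cx ⟶ T'.cx,
      T.I₁.ι ≫ Φ.τ₁ = (CochainComplex.single₀ C).map φ.τ₁ ≫ T'.I₁.ι ∧
      T.I₂.ι ≫ Φ.τ₂ = (CochainComplex.single₀ C).map φ.τ₂ ≫ T'.I₂.ι ∧
      T.I₃.ι ≫ Φ.τ₃ = (CochainComplex.single₀ C).map φ.τ₃ ≫ T'.I₃.ι := by
  have h₀ : (ShortComplex.mk (aug T) ((toCx T.cx).d 0 1) (aug_d T)).Exact :=
    exact_of_exact_π _ T.I₁.exact₀ T.I₂.exact₀ T.I₃.exact₀
  have hsucc : ∀ n, (ShortComplex.mk ((toCx T.cx).d n (n + 1)) ((toCx T.cx).d (n + 1) (n + 2))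
      ((toCx T.cx).d_comp_d _ _ _)).Exact := fun n =>
    exact_of_exact_π _ (T.I₁.exact_succ n) (T.I₂.exact_succ n) (T.I₃.exact_succ n)
  have hK : ∀ n, Injective ((toCx T'.cx).X n) := fun n => by
    have : Injective ((toCx T'.cx).X n).X₁ := T'.I₁.injective n
    have : Injective ((toCx T'.cx).X n).X₃ := T'.I₃.injective n
    exact injective_of_splitting _ (T'.splitting n)
  obtain ⟨Ψ, hΨ⟩ := exists_desc_of_exact (toCx T.cx) (toCx T'.cx) (aug T) (aug_d T) h₀ hsucc hK
    (φ ≫ aug T') (by rw [Category.assoc, aug_d, comp_zero])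
  refine ⟨ofCxHom Ψ, ?_, ?_, ?_⟩
  · apply HomologicalComplex.from_single_hom_ext
    have := congr_arg ShortComplex.Hom.τ₁ hΨ
    simp only [ShortComplex.comp_τ₁, aug_τ₁] at this
    simp only [HomologicalComplex.comp_f, CochainComplex.single₀_map_f_zero, ofCxHom_τ₁_f]
    exact this
  · apply HomologicalComplex.from_single_hom_ext
    have := congr_arg ShortComplex.Hom.τ₂ hΨ
    simp only [ShortComplex.comp_τ₂, aug_τ₂] at this
    simp only [HomologicalComplex.comp_f, CochainComplex.single₀_map_f_zero, ofCxHom_τ₂_f]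
    exact this
  · apply HomologicalComplex.from_single_hom_ext
    have := congr_arg ShortComplex.Hom.τ₃ hΨ
    simp only [ShortComplex.comp_τ₃, aug_τ₃] at this
    simp only [HomologicalComplex.comp_f, CochainComplex.single₀_map_f_zero, ofCxHom_τ₃_f]
    exact this

end Lift

end Groth.Agent.Lib.SESResLift
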