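import Groth.Agent.Lib.Horseshoe
import Groth.Agent.Lib.SESResLift

set_option autoImplicit false

open CategoryTheory CategoryTheory.Limits

universe v u v' u'

namespace Groth.Agent.Lib.DerivedLES

variable {C : Type u} [Category.{v} C] [Abelian C] [HasInjectiveResolutions C]
  {D : Type u'} [Category.{v'} D] [Abelian D] (F : C ⥤ D) [F.Additive]

open RDer

section

variable {S S' : ShortComplex C}

omit [HasInjectiveResolutions C] in
lemma ι_f_zero_of_comm {X Y : C} {f : X ⟶ Y} {I : InjectiveResolution X}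
    {J : InjectiveResolution Y} {φ : I.cocomplex ⟶ J.cocomplex}
    (comm : I.ι ≫ φ = (CochainComplex.single₀ C).map f ≫ J.ι) :
    I.ι.f 0 ≫ φ.f 0 = f ≫ J.ι.f 0 := by
  have := HomologicalComplex.congr_hom comm 0
  simp only [HomologicalComplex.comp_f, CochainComplex.single₀_map_f_zero] at this
  exact this

omit [HasInjectiveResolutions C] [Abelian C] [Abelian D] in
lemma comm_aux {a a' b b' c c' : D} (A : a ⟶ a') (i₃' : a' ⟶ b') (δ' : b' ⟶ c') (i₃ : a ⟶ b)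
    (H₃ : b ⟶ b') (δ : b ⟶ c) (H₁ : c ⟶ c') (e₃ : A ≫ i₃' = i₃ ≫ H₃)
    (nat : δ ≫ H₁ = H₃ ≫ δ') : A ≫ i₃' ≫ δ' = (i₃ ≫ δ) ≫ H₁ := by
  rw [← Category.assoc, e₃, Category.assoc, Category.assoc, nat]

omit [HasInjectiveResolutions C] [Abelian C] in
lemma zero_aux {a a' b b' c' : D} (A : a ⟶ a') (i' : a' ⟶ b') (δ' : b' ⟶ c') (i : a ⟶ b)
    (H : b ⟶ b') (e : A ≫ i' = i ≫ H) (z : H ≫ δ' = 0) : A ≫ i' ≫ δ' = 0 := by
  rw [← Category.assoc, e, Category.assoc, z, comp_zero]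

omit [HasInjectiveResolutions C] [Abelian C] in
lemma zero_aux' {a b b' c e : D} (δT : a ⟶ b) (i₁ : b ⟶ c) (H : c ⟶ e) (i₃ : a ⟶ b')
    (δ : b' ⟶ c) (d : δT ≫ i₁ = i₃ ≫ δ) (z : δ ≫ H = 0) : δT ≫ i₁ ≫ H = 0 := by
  rw [← Category.assoc, d, Category.assoc, z, comp_zero]

/-- naturality of the connecting morphisms computed from injective resolutions of short complexes -/
theorem delta_naturality (T : SESRes S) (T' : SESRes S') (φ : S ⟶ S')
    (n₀ n₁ : ℕ) (h : n₀ + 1 = n₁) :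
    (F.rightDerived n₀).map φ.τ₃ ≫ T'.delta F n₀ n₁ h =
      T.delta F n₀ n₁ h ≫ (F.rightDerived n₁).map φ.τ₁ := by
  obtain ⟨Φ, h₁, -, h₃⟩ := SESResLift.exists_lift T T' φ
  have h' : (ComplexShape.up ℕ).Rel n₀ n₁ := h
  have nat := HomologicalComplex.HomologySequence.δ_naturality
    ((F.mapHomologicalComplex (ComplexShape.up ℕ)).mapShortComplex.map Φ)
    (T.map_shortExact F) (T'.map_shortExact F) n₀ n₁ h'
  have e₁ := InjectiveResolution.isoRightDerivedObj_hom_naturality φ.τ₁ T.I₁ T'.I₁ Φ.τ₁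
    (ι_f_zero_of_comm h₁) F n₁
  have e₃ := InjectiveResolution.isoRightDerivedObj_hom_naturality φ.τ₃ T.I₃ T'.I₃ Φ.τ₃
    (ι_f_zero_of_comm h₃) F n₀
  have d : T.delta F n₀ n₁ h ≫ (T.I₁.isoRightDerivedObj F n₁).hom =
      (T.I₃.isoRightDerivedObj F n₀).hom ≫ (T.map_shortExact F).δ n₀ n₁ h' :=
    T.delta_comp_isoRightDerivedObj_hom F n₀ n₁ h
  have d' : T'.delta F n₀ n₁ h ≫ (T'.I₁.isoRightDerivedObj F n₁).hom =
      (T'.I₃.isoRightDerivedObj F n₀).hom ≫ (T'.map_shortExact F).δ n₀ n₁ h' :=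
    T'.delta_comp_isoRightDerivedObj_hom F n₀ n₁ h
  rw [← cancel_mono (T'.I₁.isoRightDerivedObj F n₁).hom, Category.assoc, Category.assoc, d', e₁,
    reassoc_of% d]
  exact comm_aux _ _ _ _ _ _ _ e₃ nat

/-- the connecting morphism does not depend on the resolution -/
theorem delta_eq (T T' : SESRes S) (n₀ n₁ : ℕ) (h : n₀ + 1 = n₁) :
    T.delta F n₀ n₁ h = T'.delta F n₀ n₁ h := by
  have := delta_naturality F T T' (𝟙 S) n₀ n₁ h
  simpa using this.symm

lemma iso_f (T : SESRes S) (n : ℕ) :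
    (F.rightDerived n).map S.f ≫ (T.I₂.isoRightDerivedObj F n).hom =
      (T.I₁.isoRightDerivedObj F n).hom ≫
        HomologicalComplex.homologyMap ((F.mapHomologicalComplex (ComplexShape.up ℕ)).map T.f) n :=
  InjectiveResolution.isoRightDerivedObj_hom_naturality S.f T.I₁ T.I₂ T.f
    (ι_f_zero_of_comm T.ι_f) F n

lemma iso_g (T : SESRes S) (n : ℕ) :
    (F.rightDerived n).map S.g ≫ (T.I₃.isoRightDerivedObj F n).hom =
      (T.I₂.isoRightDerivedObj F n).hom ≫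
        HomologicalComplex.homologyMap ((F.mapHomologicalComplex (ComplexShape.up ℕ)).map T.g) n :=
  InjectiveResolution.isoRightDerivedObj_hom_naturality S.g T.I₂ T.I₃ T.g
    (ι_f_zero_of_comm T.ι_g) F n

theorem exact₂ (T : SESRes S) (n : ℕ) :
    (ShortComplex.mk ((F.rightDerived n).map S.f) ((F.rightDerived n).map S.g)
      (by rw [← Functor.map_comp, S.zero, Functor.map_zero])).Exact := by
  refine ShortComplex.exact_of_iso ?_ ((T.map_shortExact F).homology_exact₂ n)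
  exact (ShortComplex.isoMk (T.I₁.isoRightDerivedObj F n) (T.I₂.isoRightDerivedObj F n)
    (T.I₃.isoRightDerivedObj F n) (iso_f F T n).symm (iso_g F T n).symm).symm

theorem comp_delta (T : SESRes S) (n₀ n₁ : ℕ) (h : n₀ + 1 = n₁) :
    (F.rightDerived n₀).map S.g ≫ T.delta F n₀ n₁ h = 0 := by
  have h' : (ComplexShape.up ℕ).Rel n₀ n₁ := h
  have d : T.delta F n₀ n₁ h ≫ (T.I₁.isoRightDerivedObj F n₁).hom =
      (T.I₃.isoRightDerivedObj F n₀).hom ≫ (T.map_shortExact F).δ n₀ n₁ h' :=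
    T.delta_comp_isoRightDerivedObj_hom F n₀ n₁ h
  rw [← cancel_mono (T.I₁.isoRightDerivedObj F n₁).hom, Category.assoc, d, zero_comp]
  have z := (T.map_shortExact F).comp_δ n₀ n₁ h'
  have e := iso_g F T n₀
  exact zero_aux _ _ _ _ _ e z

theorem delta_comp (T : SESRes S) (n₀ n₁ : ℕ) (h : n₀ + 1 = n₁) :
    T.delta F n₀ n₁ h ≫ (F.rightDerived n₁).map S.f = 0 := by
  have h' : (ComplexShape.up ℕ).Rel n₀ n₁ := h
  have d : T.delta F n₀ n₁ h ≫ (T.I₁.isoRightDerivedObj F n₁).hom =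
      (T.I₃.isoRightDerivedObj F n₀).hom ≫ (T.map_shortExact F).δ n₀ n₁ h' :=
    T.delta_comp_isoRightDerivedObj_hom F n₀ n₁ h
  rw [← cancel_mono (T.I₂.isoRightDerivedObj F n₁).hom, Category.assoc, iso_f F T n₁, zero_comp]
  have z := (T.map_shortExact F).δ_comp n₀ n₁ h'
  exact zero_aux' _ _ _ _ _ d z

theorem exact₃ (T : SESRes S) (n₀ n₁ : ℕ) (h : n₀ + 1 = n₁) :
    (ShortComplex.mk _ _ (comp_delta F T n₀ n₁ h)).Exact := by
  have h' : (ComplexShape.up ℕ).Rel n₀ n₁ := h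
  have d : T.delta F n₀ n₁ h ≫ (T.I₁.isoRightDerivedObj F n₁).hom =
      (T.I₃.isoRightDerivedObj F n₀).hom ≫ (T.map_shortExact F).δ n₀ n₁ h' :=
    T.delta_comp_isoRightDerivedObj_hom F n₀ n₁ h
  refine ShortComplex.exact_of_iso ?_ ((T.map_shortExact F).homology_exact₃ n₀ n₁ h')
  exact (ShortComplex.isoMk (T.I₂.isoRightDerivedObj F n₀) (T.I₃.isoRightDerivedObj F n₀)
    (T.I₁.isoRightDerivedObj F n₁) (iso_g F T n₀).symm d.symm).symm

theorem exact₁ (T : SESRes S) (n₀ n₁ : ℕ) (h : n₀ + 1 = n₁) :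
    (ShortComplex.mk _ _ (delta_comp F T n₀ n₁ h)).Exact := by
  have h' : (ComplexShape.up ℕ).Rel n₀ n₁ := h
  have d : T.delta F n₀ n₁ h ≫ (T.I₁.isoRightDerivedObj F n₁).hom =
      (T.I₃.isoRightDerivedObj F n₀).hom ≫ (T.map_shortExact F).δ n₀ n₁ h' :=
    T.delta_comp_isoRightDerivedObj_hom F n₀ n₁ h
  refine ShortComplex.exact_of_iso ?_ ((T.map_shortExact F).homology_exact₁ n₀ n₁ h')
  exact (ShortComplex.isoMk (T.I₃.isoRightDerivedObj F n₀) (T.I₁.isoRightDerivedObj F n₁)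
    (T.I₂.isoRightDerivedObj F n₁) d.symm (iso_f F T n₁).symm).symm

end

/-- **The long exact sequence of right derived functors**: the connecting morphisms computed from
horseshoe resolutions form a `RDer.DerivedLES`. -/
noncomputable def derivedLES : RDer.DerivedLES F where
  δ _ hS n₀ n₁ h := (Horseshoe.nonempty_sesRes hS).some.delta F n₀ n₁ h
  δ_eq _ _ T n₀ n₁ h := delta_eq F _ T n₀ n₁ h
  δ_natural _ _ φ n₀ n₁ h := delta_naturality F _ _ φ n₀ n₁ h
  exact₂ _ hS n := exact₂ F (Horseshoe.nonempty_sesRes hS).some n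
  comp_δ _ _ n₀ n₁ h := comp_delta F _ n₀ n₁ h
  exact₃ _ _ n₀ n₁ h := exact₃ F _ n₀ n₁ h
  δ_comp _ _ n₀ n₁ h := delta_comp F _ n₀ n₁ h
  exact₁ _ _ n₀ n₁ h := exact₁ F _ n₀ n₁ h

end Groth.Agent.Lib.DerivedLES
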