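import Groth.Prelude.Def_DeltaF
import Mathlib.Algebra.Homology.DerivedCategory.Ext.ExactSequences
import Mathlib.Algebra.Homology.ShortComplex.ExactFunctor

/-!
# `Ext^n(X, -)` as a cohomological delta-functor, and precomposition of a delta-functor with an
exact functor
-/

set_option autoImplicit false

universe u

open CategoryTheory Limits Opposite DeltaF Abelian

namespace Groth.Agent.Lib.ExtDelta

section Precomp

variable {A' : Type*} [Category A'] [Abelian A'] {A : Type*} [Category A] [Abelian A]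
  {B : Type*} [Category B] [Abelian B]
  (G : A' ⥤ A) [G.Additive] [PreservesFiniteLimits G] [PreservesFiniteColimits G]
  (T : CohDeltaFunctor A B ℕ)

/-- precomposition of a delta-functor with an exact functor -/
noncomputable def precomp : CohDeltaFunctor A' B ℕ where
  F n := G ⋙ T.F n
  additive _ := inferInstance
  δ S hS n₀ n₁ h := T.δ (S.map G) (hS.map_of_exact G) n₀ n₁ h
  δ_natural hS hS' φ n₀ n₁ h :=
    T.δ_natural (hS.map_of_exact G) (hS'.map_of_exact G) (G.mapShortComplex.map φ) n₀ n₁ h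
  exact₂ S hS n := T.exact₂ (S.map G) (hS.map_of_exact G) n
  comp_δ S hS n₀ n₁ h := T.comp_δ (S.map G) (hS.map_of_exact G) n₀ n₁ h
  exact₃ S hS n₀ n₁ h := T.exact₃ (S.map G) (hS.map_of_exact G) n₀ n₁ h
  δ_comp S hS n₀ n₁ h := T.δ_comp (S.map G) (hS.map_of_exact G) n₀ n₁ h
  exact₁ S hS n₀ n₁ h := T.exact₁ (S.map G) (hS.map_of_exact G) n₀ n₁ h

lemma precomp_F (n : ℕ) : (precomp G T).F n = G ⋙ T.F n := rfl

lemma precomp_δ (S : ShortComplex A') (hS : S.ShortExact) (n₀ n₁ : ℕ) (h : n₀ + 1 = n₁) :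
    (precomp G T).δ S hS n₀ n₁ h = T.δ (S.map G) (hS.map_of_exact G) n₀ n₁ h := rfl

end Precomp

section Gen

variable {A : Type*} [Category A] [Abelian A] [HasExt.{u} A] (X : A)

/-- `Ext^n(X, -)` -/
noncomputable abbrev hF (n : ℕ) : A ⥤ AddCommGrpCat.{u} := (extFunctor n).obj (op X)

lemma hF_map_apply (n : ℕ) {F G : A} (ψ : F ⟶ G) (x : Ext X F n) :
    (hF X n).map ψ x = x.comp (Ext.mk₀ ψ) (add_zero n) := rfl

instance hF_additive (n : ℕ) : (hF X n).Additive where
  map_add {F G ψ ψ'} := by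
    ext (x : Ext X F n)
    change (hF X n).map (ψ + ψ') x = (hF X n).map ψ x + (hF X n).map ψ' x
    rw [hF_map_apply, hF_map_apply, hF_map_apply, Ext.mk₀_add, Ext.comp_add]
    rfl

variable {X}
variable {S : ShortComplex A} (hS : S.ShortExact)

/-- the connecting map -/
noncomputable def hδ (n₀ n₁ : ℕ) (h : n₀ + 1 = n₁) :
    (hF X n₀).obj S.X₃ ⟶ (hF X n₁).obj S.X₁ :=
  AddCommGrpCat.ofHom (hS.extClass.postcomp X h)

lemma hδ_apply (n₀ n₁ : ℕ) (h : n₀ + 1 = n₁) (x : Ext X S.X₃ n₀) :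
    hδ (X := X) hS n₀ n₁ h x = x.comp hS.extClass h := rfl

variable (X) in
/-- `Ext^n(X, -)` as a cohomological delta-functor -/
noncomputable def extDelta : CohDeltaFunctor A AddCommGrpCat.{u} ℕ where
  F n := hF X n
  additive n := hF_additive X n
  δ _ hS n₀ n₁ h := hδ hS n₀ n₁ h
  δ_natural {S S'} hS hS' φ n₀ n₁ h := by
    ext (x : Ext X S.X₃ n₀)
    change hδ hS' n₀ n₁ h ((hF X n₀).map φ.τ₃ x) = (hF X n₁).map φ.τ₁ (hδ hS n₀ n₁ h x)
    rw [hF_map_apply, hδ_apply, hδ_apply, hF_map_apply]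
    rw [Ext.comp_assoc_of_second_deg_zero, Ext.comp_assoc_of_third_deg_zero,
      ShortComplex.ShortExact.extClass_naturality hS hS' φ]
  exact₂ _ hS n := Ext.covariant_sequence_exact₂' X hS n
  comp_δ _ hS n₀ n₁ h := by
    ext (x : Ext X _ n₀)
    change hδ hS n₀ n₁ h ((hF X n₀).map _ x) = 0
    rw [hF_map_apply, hδ_apply, Ext.comp_assoc_of_second_deg_zero,
      ShortComplex.ShortExact.comp_extClass, Ext.comp_zero]
    rfl
  exact₃ _ hS n₀ n₁ h := Ext.covariant_sequence_exact₃' X hS n₀ n₁ h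
  δ_comp _ hS n₀ n₁ h := by
    ext (x : Ext X _ n₀)
    change (hF X n₁).map _ (hδ hS n₀ n₁ h x) = 0
    rw [hδ_apply]
    refine (hF_map_apply X n₁ _ _).trans ?_
    rw [Ext.comp_assoc_of_third_deg_zero, ShortComplex.ShortExact.extClass_comp, Ext.comp_zero]
    rfl
  exact₁ _ hS n₀ n₁ h := Ext.covariant_sequence_exact₁' X hS n₀ n₁ h

lemma extDelta_F (n : ℕ) : (extDelta X).F n = hF X n := rfl

lemma extDelta_δ (n₀ n₁ : ℕ) (h : n₀ + 1 = n₁) :
    (extDelta X).δ S hS n₀ n₁ h = hδ hS n₀ n₁ h := rfl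

end Gen

end Groth.Agent.Lib.ExtDelta
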