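import Groth.Agent.Lib.DeltaPostcomp
import Groth.Agent.Lib.ExtDelta
import Groth.Agent.Lib.DeltaIso
import Groth.Agent.Lib.DerivedLES

/-!
# Base change for right derived functors along exact functors, acyclic version (helper10)

`Φ : A ⥤ B`, `Φ' : A' ⥤ B'` left exact additive, `R : A ⥤ A'`, `S : B ⥤ B'` exact, `e : Φ ⋙ S ≅ R ⋙ Φ'`,
and `R` sends injectives to `Φ'`-acyclic objects.  Then `M ↦ S (RⁿΦ M)` and `M ↦ RⁿΦ' (R M)` are
isomorphic (universal) delta-functors; in particular `RⁿΦ ⋙ S ≅ R ⋙ RⁿΦ'`.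
(Unlike `Lib/DerivedBaseChange`, no left adjoint of `R` is needed.)
-/

set_option autoImplicit false

open CategoryTheory CategoryTheory.Limits DeltaF

universe v₁ v₂ v₃ v₄ u₁ u₂ u₃ u₄

namespace Groth.Agent.Lib.DerivedBCAcyc

variable {A : Type u₁} [Category.{v₁} A] [Abelian A] [HasInjectiveResolutions A]
  {B : Type u₂} [Category.{v₂} B] [Abelian B]
  {A' : Type u₃} [Category.{v₃} A'] [Abelian A'] [HasInjectiveResolutions A']
  {B' : Type u₄} [Category.{v₄} B'] [Abelian B']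
  (Φ : A ⥤ B) [Φ.Additive] (Φ' : A' ⥤ B') [Φ'.Additive]
  (R : A ⥤ A') [R.Additive] [PreservesFiniteLimits R] [PreservesFiniteColimits R]
  (S : B ⥤ B') [S.Additive] [PreservesFiniteLimits S] [PreservesFiniteColimits S]

/-- the delta-functor `M ↦ S (RⁿΦ M)` -/
noncomputable abbrev T1 : CohDeltaFunctor A B' ℕ :=
  Groth.Agent.Lib.DeltaPostcomp.postcomp
    (Groth.Agent.Lib.DerivedLES.derivedLES Φ).toCohDeltaFunctor S

/-- the delta-functor `M ↦ RⁿΦ' (R M)` -/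
noncomputable abbrev T2 : CohDeltaFunctor A B' ℕ :=
  Groth.Agent.Lib.ExtDelta.precomp R
    (Groth.Agent.Lib.DerivedLES.derivedLES Φ').toCohDeltaFunctor

lemma T1_F (n : ℕ) : (T1 Φ S).F n = Φ.rightDerived n ⋙ S := rfl

lemma T2_F (n : ℕ) : (T2 Φ' R).F n = R ⋙ Φ'.rightDerived n := rfl

theorem T1_eff : (T1 Φ S).IsEffaceable := by
  intro n M
  let I := injectiveResolution M
  have hm : Mono (I.ι.f 0) := inferInstance
  refine ⟨I.cocomplex.X 0, I.ι.f 0, hm, ?_⟩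
  change S.map ((Φ.rightDerived (n + 1)).map (I.ι.f 0)) = 0
  rw [(Functor.isZero_rightDerived_obj_injective_succ Φ n (I.cocomplex.X 0)).eq_of_tgt
    ((Φ.rightDerived (n + 1)).map (I.ι.f 0)) 0, Functor.map_zero]

theorem T1_univ : (T1 Φ S).IsUniversal :=
  Groth.Agent.Lib.DeltaUniv.isUniversal_of_isEffaceable _ (T1_eff Φ S)

variable {Φ' R} in
theorem T2_eff
    (h : ∀ (I : A), Injective I → ∀ q : ℕ, IsZero ((Φ'.rightDerived (q + 1)).obj (R.obj I))) :
    (T2 Φ' R).IsEffaceable := by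
  intro n M
  let I := injectiveResolution M
  have hm : Mono (I.ι.f 0) := inferInstance
  refine ⟨I.cocomplex.X 0, I.ι.f 0, hm, ?_⟩
  exact (h (I.cocomplex.X 0) inferInstance n).eq_of_tgt _ _

variable {Φ' R} in
theorem T2_univ
    (h : ∀ (I : A), Injective I → ∀ q : ℕ, IsZero ((Φ'.rightDerived (q + 1)).obj (R.obj I))) :
    (T2 Φ' R).IsUniversal :=
  Groth.Agent.Lib.DeltaUniv.isUniversal_of_isEffaceable _ (T2_eff h)

variable {Φ Φ' R S}

/-- the degree zero comparison -/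
noncomputable def e0 [PreservesFiniteLimits Φ] [PreservesFiniteLimits Φ'] (e : Φ ⋙ S ≅ R ⋙ Φ') :
    (T1 Φ S).F 0 ≅ (T2 Φ' R).F 0 :=
  Functor.isoWhiskerRight Φ.rightDerivedZeroIsoSelf S ≪≫ e ≪≫
    Functor.isoWhiskerLeft R Φ'.rightDerivedZeroIsoSelf.symm

/-- **Acyclic base change**: an isomorphism of delta-functors extending the degree zero comparison. -/
theorem exists_deltaIso [PreservesFiniteLimits Φ] [PreservesFiniteLimits Φ'] (e : Φ ⋙ S ≅ R ⋙ Φ')
    (h : ∀ (I : A), Injective I → ∀ q : ℕ, IsZero ((Φ'.rightDerived (q + 1)).obj (R.obj I))) :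
    ∃ i : T1 Φ S ≅ T2 Φ' R, i.hom.app 0 = (e0 e).hom :=
  Groth.Agent.Lib.DeltaIso.nonempty_iso_of_isUniversal _ _ (T1_univ Φ S) (T2_univ h) (e0 e)

/-- **Acyclic base change**, degreewise natural isomorphisms. -/
theorem nonempty_natIso [PreservesFiniteLimits Φ] [PreservesFiniteLimits Φ'] (e : Φ ⋙ S ≅ R ⋙ Φ')
    (h : ∀ (I : A), Injective I → ∀ q : ℕ, IsZero ((Φ'.rightDerived (q + 1)).obj (R.obj I)))
    (p : ℕ) : Nonempty (Φ.rightDerived p ⋙ S ≅ R ⋙ Φ'.rightDerived p) :=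
  Groth.Agent.Lib.DeltaIso.nonempty_natIso_of_isUniversal _ _ (T1_univ Φ S) (T2_univ h) (e0 e) p

end Groth.Agent.Lib.DerivedBCAcyc
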