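/-
Groth.Agent.Lib.DerivedBaseChange (helper49)

`rightDerivedBaseChangeIso`: for additive functors `Φ : A ⥤ B`, `Φ' : A' ⥤ B'`, exact functors
`R : A ⥤ A'`, `S : B ⥤ B'` with `Φ ⋙ S ≅ R ⋙ Φ'`, where `R` has a left adjoint preserving
monomorphisms (so `R` preserves injectives): `S (R^p Φ F) ≅ R^p Φ' (R F)`.
Also `isZero_rightDerived_succ_of_exact`: higher derived functors of an exact functor vanish.
-/
import Groth.Agent.Lib.ExtAdjunction
import Groth.Agent.Lib.AcyclicClass
import Mathlib.Algebra.Homology.ShortComplex.ExactFunctor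
import Mathlib.Algebra.Homology.ShortComplex.PreservesHomology
import Mathlib.Algebra.Homology.HomologicalComplexAbelian

set_option autoImplicit false
set_option linter.unusedSectionVars false
universe v₁ v₂ v₃ v₄ u₁ u₂ u₃ u₄

namespace Groth.Agent.Lib.DerivedBaseChange

open CategoryTheory CategoryTheory.Limits

variable {A : Type u₁} [Category.{v₁} A] [Abelian A] [HasInjectiveResolutions A]
  {B : Type u₂} [Category.{v₂} B] [Abelian B]
  {A' : Type u₃} [Category.{v₃} A'] [Abelian A'] [HasInjectiveResolutions A']
  {B' : Type u₄} [Category.{v₄} B'] [Abelian B']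

/-- The higher right derived functors of an exact functor vanish. -/
lemma isZero_rightDerived_succ_of_exact (R : A ⥤ A') [R.Additive] [PreservesFiniteLimits R]
    [PreservesFiniteColimits R] (F : A) (q : ℕ) : IsZero ((R.rightDerived (q + 1)).obj F) :=
  Groth.Agent.Lib.AcyclicClass.isZero_rightDerived_succ R (fun _ => True)
    (fun _ _ _ _ => trivial) (fun _ _ => trivial) (fun _ _ _ _ => trivial)
    (fun S hS _ => by
      have := hS.epi_g
      infer_instance) F trivial q

variable (Φ : A ⥤ B) [Φ.Additive] (Φ' : A' ⥤ B') [Φ'.Additive]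
  (R : A ⥤ A') [R.Additive] [PreservesFiniteLimits R] [PreservesFiniteColimits R]
  (S : B ⥤ B') [S.Additive] [PreservesFiniteLimits S] [PreservesFiniteColimits S]
  {L : A' ⥤ A} (adj : L ⊣ R) [L.PreservesMonomorphisms]
  (e : Φ ⋙ S ≅ R ⋙ Φ')

/-- Base change for right derived functors along exact functors `R`, `S`, where `R` has a
left adjoint preserving monomorphisms (so `R` preserves injectives). -/
noncomputable def rightDerivedBaseChangeIso (F : A) (p : ℕ) :
    S.obj ((Φ.rightDerived p).obj F) ≅ (Φ'.rightDerived p).obj (R.obj F) := by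
  let I : InjectiveResolution F := injectiveResolution F
  let I' : InjectiveResolution (R.obj F) :=
    Groth.Agent.Lib.ExtAdjunction.pushRes adj I (isZero_rightDerived_succ_of_exact R F)
  let K := (Φ.mapHomologicalComplex (ComplexShape.up ℕ)).obj I.cocomplex
  have : S.PreservesHomology := inferInstance
  refine S.mapIso (I.isoRightDerivedObj Φ p) ≪≫ ?_ ≪≫ (I'.isoRightDerivedObj Φ' p).symm
  refine ((K.sc p).mapHomologyIso S).symm ≪≫ ?_
  let K₁ := (S.mapHomologicalComplex (ComplexShape.up ℕ)).obj K
  let K₂ := (Φ'.mapHomologicalComplex (ComplexShape.up ℕ)).obj I'.cocomplex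
  let α : K₁ ≅ K₂ := HomologicalComplex.Hom.isoOfComponents
    (fun i => e.app (I.cocomplex.X i)) (by
      intro i j _
      exact (e.hom.naturality (I.cocomplex.d i j)).symm)
  exact (HomologicalComplex.homologyFunctor B' (ComplexShape.up ℕ) p).mapIso α

end Groth.Agent.Lib.DerivedBaseChange
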