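import Mathlib.Algebra.Homology.DerivedCategory.Ext.ExactSequences
import Mathlib.Algebra.Homology.DerivedCategory.Ext.EnoughInjectives
import Mathlib.CategoryTheory.Preadditive.Injective.Resolution
import Mathlib.Algebra.Homology.ShortComplex.HomologicalComplex

/-!
# Dimension shifting along an injective resolution

For an object `X` and an injective resolution `I` of `Z` in an abelian category with `Ext`:
if `Ext^(q+1)(X, Z) = 0` then `Hom(X, I^q) → Hom(X, I^(q+1)) → Hom(X, I^(q+2))` is exact.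
-/

universe w v u

open CategoryTheory Limits Abelian

namespace Groth.Agent.Lib.InjRes

variable {A : Type u} [Category.{v} A] [Abelian A]

/-- The short complex `Z^q → K^q → Z^(q+1)` of a cochain complex. -/
noncomputable def cyclesSC (K : CochainComplex A ℕ) (q : ℕ) : ShortComplex A :=
  ShortComplex.mk (K.iCycles q) (K.toCycles q (q + 1))
    (by simp [← cancel_mono (K.iCycles (q + 1))])

lemma cyclesSC_shortExact (K : CochainComplex A ℕ) (q : ℕ) (h : K.ExactAt (q + 1)) :
    (cyclesSC K q).ShortExact := by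
  have hm : Mono (cyclesSC K q).f := by dsimp [cyclesSC]; infer_instance
  have he : Epi (cyclesSC K q).g := by
    dsimp [cyclesSC]
    rw [HomologicalComplex.exactAt_iff_isZero_homology] at h
    exact Preadditive.epi_of_isZero_cokernel' _
      (K.homologyIsCokernel q (q + 1) (by simp)) h
  refine ShortComplex.ShortExact.mk' ?_ hm he
  apply ShortComplex.exact_of_f_is_kernel
  exact isKernelOfComp (K.iCycles (q + 1)) (K.d q (q + 1))
    (K.cyclesIsKernel q (q + 1) (by simp)) _ (by simp [cyclesSC])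

variable [HasExt.{w} A]

lemma ext_eq_zero_of_iso {X Y Y' : A} (e : Y ≅ Y') {n : ℕ}
    (h : ∀ x : Ext X Y n, x = 0) (x : Ext X Y' n) : x = 0 := by
  have h1 := h (x.comp (Ext.mk₀ e.inv) (add_zero n))
  have h2 := congrArg (fun w => w.comp (Ext.mk₀ e.hom) (add_zero n)) h1
  simpa [Ext.comp_assoc_of_third_deg_zero] using h2

/-- dimension shifting: vanishing of `Ext^(n+q+1)(X, Z^0)` gives vanishing of
`Ext^(n+1)(X, Z^q)`. -/
lemma ext_cycles_eq_zero (X : A) (K : CochainComplex A ℕ) [∀ n, Injective (K.X n)]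
    (hK : ∀ n, K.ExactAt (n + 1)) :
    ∀ (q n m : ℕ), m = n + q + 1 → (∀ x : Ext X (K.cycles 0) m, x = 0) →
      ∀ x : Ext X (K.cycles q) (n + 1), x = 0 := by
  intro q
  induction q with
  | zero =>
    intro n m hm h x
    obtain rfl : m = n + 1 := by omega
    exact h x
  | succ q ih =>
    intro n m hm h x
    have hS := cyclesSC_shortExact K q (hK q)
    have h0 : ∀ y : Ext X (K.cycles q) (n + 1 + 1), y = 0 :=
      ih (n + 1) m (by omega) h
    obtain ⟨x₂, hx₂⟩ := Ext.covariant_sequence_exact₃ X hS x (n₁ := n + 1 + 1) rfl (h0 _)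
    have : x₂ = 0 := Ext.eq_zero_of_injective (I := K.X q) x₂
    subst this
    exact hx₂.symm.trans (Ext.zero_comp X (n + 1) (Ext.mk₀ (cyclesSC K q).g) (n + 1) (add_zero _))

/-- exactness of `Hom(X, K^•)` at `q+1` from vanishing of `Ext^(q+1)(X, Z^0)`. -/
lemma exists_lift_of_ext_cycles_zero (X : A) (K : CochainComplex A ℕ) [∀ n, Injective (K.X n)]
    (hK : ∀ n, K.ExactAt (n + 1)) (q : ℕ)
    (h : ∀ x : Ext X (K.cycles 0) (q + 1), x = 0)
    (f : X ⟶ K.X (q + 1)) (hf : f ≫ K.d (q + 1) (q + 2) = 0) :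
    ∃ g : X ⟶ K.X q, g ≫ K.d q (q + 1) = f := by
  have hS := cyclesSC_shortExact K q (hK q)
  have h1 : ∀ y : Ext X (K.cycles q) (0 + 1), y = 0 :=
    ext_cycles_eq_zero X K hK q 0 (q + 1) (by omega) h
  let f' : X ⟶ K.cycles (q + 1) := K.liftCycles f (q + 2) (by simp) hf
  obtain ⟨x₂, hx₂⟩ := Ext.covariant_sequence_exact₃ X hS (Ext.mk₀ f') (n₁ := 0 + 1) rfl (h1 _)
  obtain ⟨g, rfl⟩ := (Ext.mk₀_bijective X (K.X q)).2 x₂
  refine ⟨g, ?_⟩
  change (Ext.mk₀ g).comp (Ext.mk₀ (K.toCycles q (q + 1))) _ = _ at hx₂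
  rw [Ext.mk₀_comp_mk₀] at hx₂
  have := (Ext.mk₀_bijective X _).1 hx₂
  have h3 := congrArg (fun w => w ≫ K.iCycles (q + 1)) this
  simpa [f'] using h3

/-- For an injective resolution `I` of `Z`: if `Ext^(q+1)(X, Z) = 0`, every `f : X ⟶ I^(q+1)`
killed by the differential lifts to `I^q`. -/
theorem exists_lift_of_ext_zero {X Z : A} (I : InjectiveResolution Z) (q : ℕ)
    (h : ∀ x : Ext X Z (q + 1), x = 0)
    (f : X ⟶ I.cocomplex.X (q + 1)) (hf : f ≫ I.cocomplex.d (q + 1) (q + 2) = 0) :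
    ∃ g : X ⟶ I.cocomplex.X q, g ≫ I.cocomplex.d q (q + 1) = f := by
  have e : Z ≅ I.cocomplex.cycles 0 :=
    IsLimit.conePointUniqueUpToIso I.isLimitKernelFork (I.cocomplex.cyclesIsKernel 0 1 (by simp))
  exact exists_lift_of_ext_cycles_zero X I.cocomplex I.cocomplex_exactAt_succ q
    (ext_eq_zero_of_iso e h) f hf

end Groth.Agent.Lib.InjRes
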