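import Groth.Prelude.Def_CohSite
import Groth.Agent.Lib.InjRes
import Mathlib.CategoryTheory.Sites.Adjunction
import Mathlib.CategoryTheory.Sites.LocallySurjective
import Mathlib.CategoryTheory.Sites.EpiMono

/-!
# Helper lemmas on cohomology of abelian sheaves on a small site
-/

universe u

open CategoryTheory Limits Opposite Abelian

namespace Groth.Agent.Lib.SiteCoh

variable {C : Type u} [SmallCategory C] {J : GrothendieckTopology C}

/-- The free abelian sheaf on the representable presheaf of `U`. -/
noncomputable abbrev freeYoneda (J : GrothendieckTopology C) (U : C) : Sheaf J AddCommGrpCat.{u} :=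
  (presheafToSheaf J AddCommGrpCat.{u}).obj (yoneda.obj U ⋙ AddCommGrpCat.free.{u})

/-- Morphisms out of the free abelian sheaf on `h_U` are sections over `U`. -/
noncomputable def freeYonedaHomEquiv (U : C) (G : Sheaf J AddCommGrpCat.{u}) :
    (freeYoneda J U ⟶ G) ≃ G.obj.obj (op U) :=
  ((sheafificationAdjunction J AddCommGrpCat.{u}).homEquiv _ _).trans
    (((AddCommGrpCat.adj.{u}.whiskerRight Cᵒᵖ).homEquiv _ _).trans yonedaEquiv)

lemma freeYonedaHomEquiv_comp (U : C) {G G' : Sheaf J AddCommGrpCat.{u}}
    (f : freeYoneda J U ⟶ G) (φ : G ⟶ G') :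
    freeYonedaHomEquiv U G' (f ≫ φ) = φ.hom.app (op U) (freeYonedaHomEquiv U G f) := by
  simp only [freeYonedaHomEquiv, Equiv.trans_apply, Adjunction.homEquiv_naturality_right]
  erw [Adjunction.homEquiv_naturality_right]
  rw [yonedaEquiv_comp]
  rfl

lemma freeYonedaHomEquiv_zero (U : C) (G : Sheaf J AddCommGrpCat.{u}) :
    freeYonedaHomEquiv U G 0 = 0 := by
  have h := freeYonedaHomEquiv_comp U (0 : freeYoneda J U ⟶ G) (0 : G ⟶ G)
  rw [comp_zero] at h
  rw [h]
  rfl

/-- If `H^(q+1)(U, F) = 0` then the sections over `U` of an injective resolution of `F` are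
exact in degree `q+1`. -/
theorem exists_section_lift {F : Sheaf J AddCommGrpCat.{u}} (I : InjectiveResolution F) (U : C)
    (q : ℕ) (h : Subsingleton (CohSite.HU F (q + 1) U))
    (s : (I.cocomplex.X (q + 1)).obj.obj (op U))
    (hs : (I.cocomplex.d (q + 1) (q + 2)).hom.app (op U) s = 0) :
    ∃ t : (I.cocomplex.X q).obj.obj (op U), (I.cocomplex.d q (q + 1)).hom.app (op U) t = s := by
  have h' : ∀ x : Ext (freeYoneda J U) F (q + 1), x = 0 := fun x => h.elim x 0
  obtain ⟨g, hg⟩ := Groth.Agent.Lib.InjRes.exists_lift_of_ext_zero I q h'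
    ((freeYonedaHomEquiv U _).symm s) (by
      apply (freeYonedaHomEquiv U _).injective
      rw [freeYonedaHomEquiv_comp, Equiv.apply_symm_apply, hs, freeYonedaHomEquiv_zero])
  refine ⟨freeYonedaHomEquiv U _ g, ?_⟩
  rw [← freeYonedaHomEquiv_comp, hg, Equiv.apply_symm_apply]

/-- A monomorphism of abelian sheaves is injective on sections. -/
lemma injective_app_of_mono {F G : Sheaf J AddCommGrpCat.{u}} (φ : F ⟶ G) [Mono φ] (U : C) :
    Function.Injective (φ.hom.app (op U)) := by
  have h1 : Mono ((sheafToPresheaf J AddCommGrpCat.{u}).map φ) := inferInstance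
  have h2 : Mono (((sheafToPresheaf J AddCommGrpCat.{u}).map φ).app (op U)) := inferInstance
  exact (AddCommGrpCat.mono_iff_injective _).1 h2

/-- A short complex of abelian sheaves which is locally exact on sections is exact. -/
theorem shortComplex_exact_of_locally (S : ShortComplex (Sheaf J AddCommGrpCat.{u}))
    (hloc : ∀ (U : C) (s : S.X₂.obj.obj (op U)), S.g.hom.app (op U) s = 0 →
      ∃ T ∈ J U, ∀ (V : C) (i : V ⟶ U), T i →
        ∃ t : S.X₁.obj.obj (op V), S.f.hom.app (op V) t = S.X₂.obj.map i.op s) :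
    S.Exact := by
  rw [S.exact_iff_epi_kernel_lift]
  have : Sheaf.IsLocallySurjective (kernel.lift S.g S.f S.zero) := by
    constructor
    intro U k
    have hk : S.g.hom.app (op U) ((kernel.ι S.g).hom.app (op U) k) = 0 := by
      have h1 := kernel.condition S.g
      have h2 := congrArg (fun φ => φ.hom.app (op U) k) h1
      simp only [ObjectProperty.FullSubcategory.comp_hom, NatTrans.comp_app,
        ConcreteCategory.comp_apply] at h2
      rw [h2]
      rfl
    obtain ⟨T, hT, hT'⟩ := hloc U _ hk
    refine J.superset_covering ?_ hT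
    intro V i hi
    obtain ⟨t, ht⟩ := hT' V i hi
    refine ⟨t, ?_⟩
    apply injective_app_of_mono (kernel.ι S.g) V
    have h3 : (kernel.lift S.g S.f S.zero) ≫ kernel.ι S.g = S.f := kernel.lift_ι _ _ _
    have h4 := congrArg (fun φ => φ.hom.app (op V) t) h3
    have h5 := ConcreteCategory.congr_hom ((kernel.ι S.g).hom.naturality i.op) k
    simp only [ObjectProperty.FullSubcategory.comp_hom, NatTrans.comp_app,
      ConcreteCategory.comp_apply] at h4 h5
    rw [h4, ht, h5]
  infer_instance

/-- A short complex of abelian sheaves which is exact on sections over every object is exact. -/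
theorem shortComplex_exact_of_sectionwise (S : ShortComplex (Sheaf J AddCommGrpCat.{u}))
    (h : ∀ (U : C) (s : S.X₂.obj.obj (op U)), S.g.hom.app (op U) s = 0 →
      ∃ t : S.X₁.obj.obj (op U), S.f.hom.app (op U) t = s) :
    S.Exact := by
  apply shortComplex_exact_of_locally
  intro U s hs
  obtain ⟨t, ht⟩ := h U s hs
  refine ⟨⊤, J.top_mem U, fun V i _ => ⟨S.X₁.obj.map i.op t, ?_⟩⟩
  rw [← ht]
  exact ConcreteCategory.congr_hom (S.f.hom.naturality i.op) t

end Groth.Agent.Lib.SiteCoh
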