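import Groth.Prelude.Def_Coh
import Groth.Agent.Lib.ModStalk
import Mathlib.Algebra.Homology.DerivedCategory.Ext.ExactSequences

/-!
# Long exact sequence of `Coh.HH` for a short exact sequence of `O_X`-modules

For `S : ShortComplex X.Modules` short exact, `Coh.toAb` (forgetting to abelian sheaves) keeps it short
exact (`Lib/ModStalk`), and Mathlib's covariant long exact `Ext` sequence gives the long exact sequence of
`Coh.HH X · n = Sheaf.H (Coh.toAb ·) n`.  Everything is stated elementwise:
`map φ n`, `δ hS n`, `map_g_map_f`, `δ_map_g`, `map_f_δ`, `exact₁/₂/₃`, `map_f_injective_zero`,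
`subsingleton_mid/left/right`, `map_g_surjective`, `map_f_injective_succ`, `δ_bijective`, `mapEquiv`.
-/

set_option autoImplicit false
universe u

open CategoryTheory CategoryTheory.Limits AlgebraicGeometry TopologicalSpace Opposite Abelian

namespace Groth.Agent.Lib.CohLES

variable {X : Scheme.{u}}

/-- The forgetful functor from `O_X`-modules to abelian sheaves (`Coh.toAb` as a functor). -/
noncomputable abbrev toAbF (X : Scheme.{u}) :
    X.Modules ⥤ Sheaf (Opens.grothendieckTopology X) AddCommGrpCat.{u} :=
  SheafOfModules.toSheaf.{u} X.ringCatSheaf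

theorem toAbF_obj (M : X.Modules) : (toAbF X).obj M = Coh.toAb M := rfl

noncomputable instance : PreservesFiniteLimits (toAbF X) :=
  inferInstanceAs (PreservesFiniteLimits (SheafOfModules.toSheaf.{u} X.ringCatSheaf))

noncomputable instance : PreservesFiniteColimits (toAbF X) :=
  inferInstanceAs (PreservesFiniteColimits (SheafOfModules.toSheaf.{u} X.ringCatSheaf))

instance : (toAbF X).Additive :=
  inferInstanceAs (SheafOfModules.toSheaf.{u} X.ringCatSheaf).Additive

/-- The map on cohomology induced by a morphism of `O_X`-modules. -/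
noncomputable def map {M N : X.Modules} (φ : M ⟶ N) (n : ℕ) : Coh.HH X M n →+ Coh.HH X N n :=
  Sheaf.H.map ((toAbF X).map φ) n

theorem map_apply {M N : X.Modules} (φ : M ⟶ N) (n : ℕ) (x : Coh.HH X M n) :
    map φ n x = x.comp (Ext.mk₀ ((toAbF X).map φ)) (add_zero n) := rfl

theorem map_id (M : X.Modules) (n : ℕ) (x : Coh.HH X M n) : map (𝟙 M) n x = x := by
  rw [map, (toAbF X).map_id]
  exact Sheaf.H.map_id_apply x

theorem map_comp {M N P : X.Modules} (φ : M ⟶ N) (ψ : N ⟶ P) (n : ℕ) (x : Coh.HH X M n) :
    map (φ ≫ ψ) n x = map ψ n (map φ n x) := by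
  rw [map, (toAbF X).map_comp]
  exact Sheaf.H.map_comp_apply _ _ x

theorem map_zero' {M N : X.Modules} (n : ℕ) (x : Coh.HH X M n) : map (0 : M ⟶ N) n x = 0 := by
  rw [map_apply, (toAbF X).map_zero, Ext.mk₀_zero, Ext.comp_zero]

theorem map_add' {M N : X.Modules} (φ ψ : M ⟶ N) (n : ℕ) (x : Coh.HH X M n) :
    map (φ + ψ) n x = map φ n x + map ψ n x := by
  rw [map, (toAbF X).map_add]
  exact Sheaf.H.map_add_apply _ _ x

/-- An isomorphism of modules induces an additive equivalence on cohomology. -/
noncomputable def mapEquiv {M N : X.Modules} (e : M ≅ N) (n : ℕ) : Coh.HH X M n ≃+ Coh.HH X N n where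
  toFun := map e.hom n
  invFun := map e.inv n
  left_inv x := by rw [← map_comp, e.hom_inv_id, map_id]
  right_inv x := by rw [← map_comp, e.inv_hom_id, map_id]
  map_add' := (map e.hom n).map_add

theorem subsingleton_of_iso {M N : X.Modules} (e : M ≅ N) (n : ℕ) [Subsingleton (Coh.HH X N n)] :
    Subsingleton (Coh.HH X M n) :=
  (mapEquiv e n).toEquiv.subsingleton

/-- The image of a short exact sequence of `O_X`-modules in abelian sheaves is short exact. -/
theorem shortExact_toAb {S : ShortComplex X.Modules} (hS : S.ShortExact) :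
    (S.map (toAbF X)).ShortExact :=
  hS.map_of_exact (toAbF X)

end Groth.Agent.Lib.CohLES
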