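import Groth.Prelude.Def_DeltaF
import Mathlib.Algebra.Homology.ShortComplex.ExactFunctor

/-!
# Postcomposition of a cohomological delta-functor with an exact functor (helper10)
-/

set_option autoImplicit false

open CategoryTheory CategoryTheory.Limits DeltaF

namespace Groth.Agent.Lib.DeltaPostcomp

variable {A : Type*} [Category A] [Abelian A] {B : Type*} [Category B] [Abelian B]
  {B' : Type*} [Category B'] [Abelian B']
  (T : CohDeltaFunctor A B ℕ)
  (G : B ⥤ B') [G.Additive] [PreservesFiniteLimits G] [PreservesFiniteColimits G]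

/-- postcomposition of a delta-functor with an exact functor -/
noncomputable def postcomp : CohDeltaFunctor A B' ℕ where
  F n := T.F n ⋙ G
  additive _ := inferInstance
  δ S hS n₀ n₁ h := G.map (T.δ S hS n₀ n₁ h)
  δ_natural hS hS' φ n₀ n₁ h := by
    dsimp only [Functor.comp_map]
    rw [← G.map_comp, ← G.map_comp, T.δ_natural hS hS' φ n₀ n₁ h]
  exact₂ S hS n := (T.exact₂ S hS n).map G
  comp_δ S hS n₀ n₁ h := by
    dsimp only [Functor.comp_map]
    rw [← G.map_comp, T.comp_δ S hS n₀ n₁ h, G.map_zero]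
  exact₃ S hS n₀ n₁ h := (T.exact₃ S hS n₀ n₁ h).map G
  δ_comp S hS n₀ n₁ h := by
    dsimp only [Functor.comp_map]
    rw [← G.map_comp, T.δ_comp S hS n₀ n₁ h, G.map_zero]
  exact₁ S hS n₀ n₁ h := (T.exact₁ S hS n₀ n₁ h).map G

lemma postcomp_F (n : ℕ) : (postcomp T G).F n = T.F n ⋙ G := rfl

lemma postcomp_δ (S : ShortComplex A) (hS : S.ShortExact) (n₀ n₁ : ℕ) (h : n₀ + 1 = n₁) :
    (postcomp T G).δ S hS n₀ n₁ h = G.map (T.δ S hS n₀ n₁ h) := rfl

end Groth.Agent.Lib.DeltaPostcomp
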