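import Groth.Agent.Lib.PushRestrict
import Groth.Agent.Lib.DerivedBCAcyc
import Groth.Agent.Lib.RestrictExact
import Groth.Agent.S0854
import Groth.Agent.S0865
import Groth.Agent.S11319
import Groth.Agent.S0485
import Groth.Agent.Lib.ModAcyc

/-!
# Higher direct images of `O`-modules commute with restriction to opens of the base (helper10)

`(R^p f_* M)|_V ≅ R^p (f|_V)_* (M|_{f⁻¹V})` in `V.Modules`, naturally in `M` (`nonempty_natIso`).
Also: `hasInjectiveResolutions X : HasInjectiveResolutions X.Modules` (from S0485), and the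
vanishing `R^{q+1} (f|_V)_* (I|_{f⁻¹V}) = 0` for `I` an injective `O_X`-module.
-/

set_option autoImplicit false
universe u

open CategoryTheory CategoryTheory.Limits AlgebraicGeometry TopologicalSpace Opposite

namespace Groth.Agent.Lib.RpushRestrict

/-- `X.Modules` has injective resolutions (not an instance: statements carry it as a binder). -/
theorem hasInjectiveResolutions (X : Scheme.{u}) : HasInjectiveResolutions X.Modules := by
  have : EnoughInjectives X.Modules :=
    Groth.Agent.S0485.result (Opens.grothendieckTopology X) X.ringCatSheaf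
  infer_instance

variable {X S : Scheme.{u}} (f : X ⟶ S) (V : S.Opens)

theorem base_eq : (f ∣_ V).base = Groth.Agent.S0854.gV f.base V := by
  ext x
  exact Subtype.ext (morphismRestrict_base_coe f V x)

/-- abelian level: higher direct images of the restriction of an injective module vanish -/
theorem isZero_RpushAb_restrict (I : X.Modules) [Injective I] (q : ℕ) :
    IsZero ((Coh.RpushAb (f ∣_ V) (q + 1)).obj (Coh.toAb (I.restrict (f ⁻¹ᵁ V).ι))) := by
  have h1 : IsZero ((Coh.RpushAb f (q + 1)).obj (Coh.toAb I)) :=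
    Groth.Agent.S0865.result (Opens.grothendieckTopology X) (Opens.grothendieckTopology S)
      (TopologicalSpace.Opens.map f.base) (Coh.toAb I)
      (@Groth.Agent.Lib.ModAcyc.isTotallyAcyclic_of_injective _ _ _ X.ringCatSheaf I ‹_›) q
  obtain ⟨e⟩ := Groth.Agent.S0854.result f.base (Coh.toAb I) V (q + 1)
  have h2 : IsZero (CohTop.restr ((CohTop.Rpush f.base (q + 1)).obj (Coh.toAb I)) V) :=
    (CohTop.restrFunctor V).map_isZero h1
  have h3 := h2.of_iso e.symm
  change IsZero ((CohTop.Rpush (f ∣_ V).base (q + 1)).obj _)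
  rw [base_eq]
  exact h3

/-- a module whose underlying abelian sheaf is zero is zero -/
theorem isZero_of_isZero_toAb {Y : Scheme.{u}} (N : Y.Modules) (h : IsZero (Coh.toAb N)) :
    IsZero N := by
  rw [IsZero.iff_id_eq_zero]
  apply (SheafOfModules.toSheaf Y.ringCatSheaf).map_injective
  exact h.eq_of_src _ _

/-- module level: higher direct images of the restriction of an injective module vanish -/
theorem isZero_Rpush_restrict [HasInjectiveResolutions (f ⁻¹ᵁ V).toScheme.Modules]
    (I : X.Modules) [Injective I] (q : ℕ) :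
    IsZero ((Coh.Rpush (f ∣_ V) (q + 1)).obj (I.restrict (f ⁻¹ᵁ V).ι)) := by
  apply isZero_of_isZero_toAb
  obtain ⟨e⟩ := Groth.Agent.S11319.result (f ∣_ V) (I.restrict (f ⁻¹ᵁ V).ι) (q + 1)
  exact (isZero_RpushAb_restrict f V I q).of_iso e

instance : PreservesFiniteLimits (Scheme.Modules.pushforward f) := by
  have : (Scheme.Modules.pushforward f).IsRightAdjoint :=
    (Scheme.Modules.pullbackPushforwardAdjunction f).isRightAdjoint
  infer_instance

instance {U Y : Scheme.{u}} (j : U ⟶ Y) [IsOpenImmersion j] :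
    (Scheme.Modules.restrictFunctor j).Additive :=
  (Scheme.Modules.restrictAdjunction j).left_adjoint_additive

open Groth.Agent.Lib.RestrictExact in
/-- **`(R^p f_* -)|_V ≅ R^p (f|_V)_* (-|_{f⁻¹V})`** as functors `X.Modules ⥤ V.Modules`. -/
theorem nonempty_natIso [HasInjectiveResolutions X.Modules]
    [HasInjectiveResolutions (f ⁻¹ᵁ V).toScheme.Modules] (p : ℕ) :
    Nonempty (Coh.Rpush f p ⋙ Scheme.Modules.restrictFunctor V.ι ≅
      Scheme.Modules.restrictFunctor (f ⁻¹ᵁ V).ι ⋙ Coh.Rpush (f ∣_ V) p) :=
  Groth.Agent.Lib.DerivedBCAcyc.nonempty_natIso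
    (Groth.Agent.Lib.PushRestrict.pushRestrictIso f V)
    (fun I _ q => isZero_Rpush_restrict f V I q) p

/-- objectwise form -/
theorem nonempty_iso [HasInjectiveResolutions X.Modules]
    [HasInjectiveResolutions (f ⁻¹ᵁ V).toScheme.Modules] (M : X.Modules) (p : ℕ) :
    Nonempty (((Coh.Rpush f p).obj M).restrict V.ι ≅
      (Coh.Rpush (f ∣_ V) p).obj (M.restrict (f ⁻¹ᵁ V).ι)) := by
  obtain ⟨e⟩ := nonempty_natIso f V p
  exact ⟨e.app M⟩

end Groth.Agent.Lib.RpushRestrict
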