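import Groth.Agent.Lib.RpushSections
import Groth.Agent.Lib.RpushRestrict
import Groth.Agent.Lib.H90OXModPush
import Groth.Agent.Lib.CohLocal
import Groth.Agent.Lib.H90CohRestrict

/-!
# Higher direct images of quasi-coherent modules along qcqs morphisms are quasi-coherent (helper10)
-/

set_option autoImplicit false
universe u

open CategoryTheory CategoryTheory.Limits AlgebraicGeometry TopologicalSpace Opposite

namespace Groth.Agent.Lib.RpushQCoh

open Groth.Agent.Lib Groth.Agent.Lib.CohLocPush Groth.Agent.Lib.LocMap Groth.Agent.Lib.CohLoc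
  Groth.Agent.Lib.HUInst Groth.Agent.Lib.RpushSections Groth.Agent.Lib.QCohStalk
  Groth.Agent.Lib.AssPush

variable {X S : Scheme.{u}} (f : X ⟶ S) (M : X.Modules) (q : ℕ)

/-- the localization formula for `⊤ ⊇ D(g)` -/
theorem isLocMap_top [QuasiCompact f] [QuasiSeparated f] [IsAffine S] (hM : Coh.IsQCoh M)
    (g : Γ(S, ⊤)) :
    IsLocMap (gact M (pullFn f g) q (f ⁻¹ᵁ ⊤)) (gact M (pullFn f g) q (f ⁻¹ᵁ (S.basicOpen g)))
      (resH (Coh.toAb M) q (f.preimage_mono (le_top : S.basicOpen g ≤ ⊤))) := by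
  have : QuasiSeparatedSpace X := quasiSeparatedSpace_of_quasiSeparated f
  have h1 : LocAtG M (pullFn f g) (f ⁻¹ᵁ ⊤) :=
    locAtG_of_isCompact' hM (f ⁻¹ᵁ ⊤) (f.isCompact_preimage isCompact_univ)
  have e : f ⁻¹ᵁ ⊤ ⊓ X.basicOpen (show Γ(X, ⊤) from pullFn f g) = f ⁻¹ᵁ (S.basicOpen g) := by
    rw [preimage_inf_basicOpen, top_inf_eq]
  exact LocAt.congr h1 e _ q

/-- iterates of the action of a global function on sections of a module -/
theorem iterate_smulAb {Y : Scheme.{u}} (N : Y.Modules) (r : Coh.Γtop Y) (U : (Opens Y)ᵒᵖ) (k : ℕ)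
    (t : (Coh.toAb N).obj.obj U) :
    ((Coh.smulAb N r).hom.app U)^[k] t =
      @HSMul.hSMul (Y.ringCatSheaf.obj.obj U) (N.val.obj U) (N.val.obj U) _
        ((Coh.resTop Y U r) ^ k) t := by
  induction k with
  | zero => simp
  | succ k ih =>
    rw [Function.iterate_succ_apply', ih, Coh.smulAb_app, pow_succ', mul_smul]

/-- compatibility of the sections equivalences with iterates of the actions -/
theorem iterate_compat {A B : Type*} (Θ : A → B) (a : A → A) (b : B → B)
    (h : ∀ t, Θ (a t) = b (Θ t)) (k : ℕ) (t : A) : Θ (a^[k] t) = b^[k] (Θ t) := by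
  induction k generalizing t with
  | zero => rfl
  | succ k ih => rw [Function.iterate_succ_apply, Function.iterate_succ_apply, ih, h]

/-- `R^q f_* M` is localizing on `⊤` when the base is affine -/
theorem isLocalizingOn_top [HasInjectiveResolutions X.Modules] [QuasiCompact f] [QuasiSeparated f]
    [IsAffine S] (hM : Coh.IsQCoh M) : IsLocalizingOn (N f M q) (⊤ : S.Opens) := by
  obtain ⟨Θ, hres, hact⟩ := exists_sections_equiv f M q hM
  have htop : (⊤ : Opens S) ∈ Set.range (S.basicOpen : Γ(S, ⊤) → Opens S) :=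
    ⟨1, S.basicOpen_of_isUnit isUnit_one⟩
  have hD : ∀ g : Γ(S, ⊤), S.basicOpen g ∈ Set.range (S.basicOpen : Γ(S, ⊤) → Opens S) :=
    fun g => ⟨g, rfl⟩
  constructor
  · intro g t
    have L := isLocMap_top f M q hM g
    obtain ⟨k, y, hy⟩ := L.surj (Θ _ (hD g) t)
    refine ⟨k, (Θ _ htop).symm y, ?_⟩
    apply (Θ _ (hD g)).injective
    have h1 := iterate_compat (Θ _ (hD g)) _ _ (hact _ (hD g) g) k t
    have h2 := hres ⊤ (S.basicOpen g) htop (hD g) le_top ((Θ _ htop).symm y)
    rw [AddEquiv.apply_symm_apply] at h2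
    rw [iterate_smulAb] at h1
    exact h1.trans (hy.trans h2.symm)
  · intro g s hs
    have L := isLocMap_top f M q hM g
    have h2 := hres ⊤ (S.basicOpen g) htop (hD g) le_top s
    have hs' : (Coh.toAb (N f M q)).obj.map (homOfLE (le_top : S.basicOpen g ≤ ⊤)).op s = 0 := hs
    rw [hs', map_zero] at h2
    obtain ⟨k, hk⟩ := L.ker _ h2.symm
    refine ⟨k, ?_⟩
    have h1 := iterate_compat (Θ _ htop) _ _ (hact _ htop g) k s
    rw [iterate_smulAb, hk] at h1
    have h3 := (AddEquiv.map_eq_zero_iff (Θ _ htop)).1 h1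
    have h4 : Coh.resTop S (op ⊤) g = g := by
      change (S.ringCatSheaf.obj.map (𝟙 _)).hom g = g
      rw [S.ringCatSheaf.obj.map_id]
      rfl
    rw [h4] at h3
    exact h3

/-- **`R^q f_* M` is quasi-coherent when the base is affine** (`f` qcqs, `M` quasi-coherent). -/
theorem isQuasicoherent_Rpush_of_isAffine [HasInjectiveResolutions X.Modules] [QuasiCompact f]
    [QuasiSeparated f] [IsAffine S] (hM : Coh.IsQCoh M) :
    ((Coh.Rpush f q).obj M).IsQuasicoherent :=
  H90OXModPush.isQuasicoherent_of_isLocalizingOn_cover (N f M q)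
    (fun _ : PUnit.{u + 1} => (⊤ : S.Opens)) (by simp) (fun _ => isAffineOpen_top S)
    (fun _ => isLocalizingOn_top f M q hM)

/-- **`R^q f_* M` is quasi-coherent** for `f` quasi-compact quasi-separated and `M` quasi-coherent. -/
theorem isQuasicoherent_Rpush [HasInjectiveResolutions X.Modules] [QuasiCompact f]
    [QuasiSeparated f] (hM : Coh.IsQCoh M) :
    ((Coh.Rpush f q).obj M).IsQuasicoherent := by
  apply Groth.Agent.Lib.CohLocal.isQuasicoherent_of_forall_restrict_opens
  intro x
  obtain ⟨V, hV, hxV, -⟩ := exists_isAffineOpen_mem_and_subset (x := x) (U := ⊤) trivial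
  refine ⟨V, hxV, ?_⟩
  have : HasInjectiveResolutions (f ⁻¹ᵁ V).toScheme.Modules :=
    RpushRestrict.hasInjectiveResolutions _
  obtain ⟨e⟩ := RpushRestrict.nonempty_iso f V M q
  have : IsAffine V.toScheme := hV
  have : (M.restrict (f ⁻¹ᵁ V).ι).IsQuasicoherent := by
    have : M.IsQuasicoherent := hM
    infer_instance
  have := isQuasicoherent_Rpush_of_isAffine (f ∣_ V) (M.restrict (f ⁻¹ᵁ V).ι) q this
  exact Groth.Agent.Lib.H90CohRestrict.isQuasicoherent_of_iso e.symm

end Groth.Agent.Lib.RpushQCoh
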