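import Groth.Agent.Lib.CechAcyc1
import Mathlib.Algebra.Homology.ShortComplex.ExactFunctor
import Mathlib.GroupTheory.QuotientGroup.Basic

/-!
# Comparison of `Ext` groups along an exact functor (helper95)

`U : ℬ ⥤ 𝒜` exact between abelian categories, `ℬ` with enough injectives, `A : 𝒜`, `B : ℬ`
and `ι : A ⟶ U B` such that `φ ↦ ι ≫ U φ` is a bijection `(B ⟶ F) ≃ (A ⟶ U F)` for all `F`
(i.e. `B` is the free `ℬ`-object on `A`).  If `U` sends injectives to `Ext(A, -)`-acyclic objects,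
then `Ext^p(B, F) ≃+ Ext^p(A, U F)` for all `p` and `F`.
-/

universe w w' v v' u u'

open CategoryTheory Limits Opposite Abelian

set_option linter.unusedSectionVars false

namespace Groth.Agent.Lib.ExtCompare95

open Groth.Agent.Lib.CechAcyc1

section Group

variable {M M' E E' : Type*} [AddCommGroup M] [AddCommGroup M'] [AddCommGroup E] [AddCommGroup E']

lemma nonempty_addEquiv_of_surjective (δ : M →+ E) (δ' : M' →+ E')
    (hδ : Function.Surjective δ) (hδ' : Function.Surjective δ') (e : M ≃+ M')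
    (h : ∀ x, δ x = 0 ↔ δ' (e x) = 0) : Nonempty (E ≃+ E') := by
  have he : δ.ker.map (e : M →+ M') = δ'.ker := by
    ext y
    constructor
    · rintro ⟨x, hx, rfl⟩
      exact (h x).1 hx
    · intro hy
      refine ⟨e.symm y, ?_, by simp⟩
      apply (h _).2
      simpa using hy
  exact ⟨(QuotientAddGroup.quotientKerEquivOfSurjective δ hδ).symm.trans
    ((QuotientAddGroup.congr δ.ker δ'.ker e he).trans
      (QuotientAddGroup.quotientKerEquivOfSurjective δ' hδ'))⟩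

end Group

section Delta

variable {C : Type u} [Category.{v} C] [Abelian C] [HasExt.{w} C]
  {S : ShortComplex C} (hS : S.ShortExact) (X : C)

/-- the connecting homomorphism -/
noncomputable abbrev δ (n : ℕ) : Ext.{w} X S.X₃ n →+ Ext.{w} X S.X₁ (n + 1) :=
  hS.extClass.postcomp X rfl

lemma δ_apply (n : ℕ) (x : Ext.{w} X S.X₃ n) : δ hS X n x = x.comp hS.extClass rfl := rfl

lemma δ_surjective (n : ℕ) (h : Subsingleton (Ext.{w} X S.X₂ (n + 1))) :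
    Function.Surjective (δ hS X n) := by
  intro x
  obtain ⟨x₃, hx₃⟩ := Ext.covariant_sequence_exact₁ X hS x (h.elim _ _) rfl
  exact ⟨x₃, hx₃⟩

lemma δ_injective (n : ℕ) (h : Subsingleton (Ext.{w} X S.X₂ n)) :
    Function.Injective (δ hS X n) := by
  rw [injective_iff_map_eq_zero]
  intro x hx
  obtain ⟨x₂, rfl⟩ := Ext.covariant_sequence_exact₃ X hS x rfl hx
  rw [h.elim x₂ 0, Ext.zero_comp]

lemma δ_eq_zero_iff (φ : X ⟶ S.X₃) :
    δ hS X 0 (Ext.mk₀ φ) = 0 ↔ ∃ ψ : X ⟶ S.X₂, ψ ≫ S.g = φ := by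
  constructor
  · intro h
    obtain ⟨x₂, hx₂⟩ := Ext.covariant_sequence_exact₃ X hS (Ext.mk₀ φ) rfl h
    obtain ⟨ψ, rfl⟩ := (Ext.mk₀_bijective _ _).2 x₂
    rw [Ext.mk₀_comp_mk₀] at hx₂
    exact ⟨ψ, (Ext.mk₀_bijective _ _).1 hx₂⟩
  · rintro ⟨ψ, rfl⟩
    rw [δ_apply, ← Ext.mk₀_comp_mk₀, Ext.comp_assoc_of_second_deg_zero, hS.comp_extClass,
      Ext.comp_zero]

end Delta

section Main

variable {𝒜 : Type u} [Category.{v} 𝒜] [Abelian 𝒜] [HasExt.{w} 𝒜]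
  {ℬ : Type u'} [Category.{v'} ℬ] [Abelian ℬ] [HasExt.{w'} ℬ] [EnoughInjectives ℬ]
  (U : ℬ ⥤ 𝒜) [U.Additive] [PreservesFiniteLimits U] [PreservesFiniteColimits U]
  {A : 𝒜} {B : ℬ} (ι : A ⟶ U.obj B)
  (hι : ∀ F : ℬ, Function.Bijective (fun φ : B ⟶ F => ι ≫ U.map φ))
  (hacyc : ∀ (I : ℬ), Injective I → ∀ p : ℕ, Subsingleton (Ext.{w} A (U.obj I) (p + 1)))

/-- the comparison in degree `0` -/
noncomputable def e₀ (F : ℬ) : Ext.{w'} B F 0 ≃+ Ext.{w} A (U.obj F) 0 :=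
  Ext.addEquiv₀.trans ((AddEquiv.ofBijective
    (AddMonoidHom.mk' (fun φ : B ⟶ F => ι ≫ U.map φ) (by intros; simp)) (hι F)).trans
      Ext.addEquiv₀.symm)

lemma e₀_mk₀ (F : ℬ) (φ : B ⟶ F) : e₀ U ι hι F (Ext.mk₀ φ) = Ext.mk₀ (ι ≫ U.map φ) := by
  have h : Ext.addEquiv₀ (Ext.mk₀ φ) = φ := Ext.addEquiv₀.apply_symm_apply φ
  simp [e₀, h]

include hι hacyc in
lemma nonempty_addEquiv_one {S : ShortComplex ℬ} (hS : S.ShortExact) [Injective S.X₂] :
    Nonempty (Ext.{w'} B S.X₁ (0 + 1) ≃+ Ext.{w} A (U.obj S.X₁) (0 + 1)) := by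
  have hS' : (S.map U).ShortExact := hS.map_of_exact U
  have h1 : Subsingleton (Ext.{w'} B S.X₂ (0 + 1)) :=
    ⟨fun a b => (Ext.eq_zero_of_injective a).trans (Ext.eq_zero_of_injective b).symm⟩
  refine nonempty_addEquiv_of_surjective (δ hS B 0) (δ hS' A 0) (δ_surjective hS B 0 h1)
    (δ_surjective hS' A 0 (hacyc S.X₂ inferInstance 0)) (e₀ U ι hι S.X₃) ?_
  intro x
  obtain ⟨φ, rfl⟩ := (Ext.mk₀_bijective _ _).2 x
  have e1 : e₀ U ι hι S.X₃ (Ext.mk₀ φ) = Ext.mk₀ (ι ≫ U.map φ) := e₀_mk₀ U ι hι S.X₃ φ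
  have e2 : δ hS' A 0 (e₀ U ι hι S.X₃ (Ext.mk₀ φ)) = δ hS' A 0 (Ext.mk₀ (ι ≫ U.map φ)) :=
    congrArg _ e1
  have h2 := (iff_of_eq (congrArg (· = 0) e2)).trans (δ_eq_zero_iff hS' A (ι ≫ U.map φ))
  refine (δ_eq_zero_iff hS B φ).trans (Iff.trans ?_ h2.symm)
  constructor
  · rintro ⟨ψ, rfl⟩
    refine ⟨ι ≫ U.map ψ, ?_⟩
    change (ι ≫ U.map ψ) ≫ U.map S.g = _
    rw [U.map_comp, Category.assoc]
    rfl
  · rintro ⟨ψ', hψ'⟩
    obtain ⟨ψ, rfl⟩ := (hι S.X₂).2 ψ'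
    refine ⟨ψ, (hι S.X₃).1 ?_⟩
    change ι ≫ U.map (ψ ≫ S.g) = ι ≫ U.map φ
    rw [U.map_comp, ← Category.assoc]
    exact hψ'

include hι hacyc in
lemma nonempty_addEquiv_succ_succ (p : ℕ) {S : ShortComplex ℬ} (hS : S.ShortExact) [Injective S.X₂]
    (e : Ext.{w'} B S.X₃ (p + 1) ≃+ Ext.{w} A (U.obj S.X₃) (p + 1)) :
    Nonempty (Ext.{w'} B S.X₁ (p + 1 + 1) ≃+ Ext.{w} A (U.obj S.X₁) (p + 1 + 1)) := by
  have hS' : (S.map U).ShortExact := hS.map_of_exact U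
  have hB : ∀ n, Subsingleton (Ext.{w'} B S.X₂ (n + 1)) := fun n =>
    ⟨fun a b => (Ext.eq_zero_of_injective a).trans (Ext.eq_zero_of_injective b).symm⟩
  have b1 : Function.Bijective (δ hS B (p + 1)) :=
    ⟨δ_injective hS B (p + 1) (hB p), δ_surjective hS B (p + 1) (hB (p + 1))⟩
  have b2 : Function.Bijective (δ hS' A (p + 1)) :=
    ⟨δ_injective hS' A (p + 1) (hacyc _ inferInstance p),
      δ_surjective hS' A (p + 1) (hacyc _ inferInstance (p + 1))⟩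
  exact ⟨(AddEquiv.ofBijective _ b1).symm.trans (e.trans (AddEquiv.ofBijective _ b2))⟩

include hι hacyc in
/-- **comparison of `Ext` groups** -/
theorem nonempty_addEquiv_succ (p : ℕ) :
    ∀ F : ℬ, Nonempty (Ext.{w'} B F (p + 1) ≃+ Ext.{w} A (U.obj F) (p + 1)) := by
  induction p with
  | zero => exact fun F => nonempty_addEquiv_one U ι hι hacyc (injSC_shortExact F)
  | succ p ih =>
    intro F
    obtain ⟨e⟩ := ih (injSC F).X₃
    exact nonempty_addEquiv_succ_succ U ι hι hacyc p (injSC_shortExact F) e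

include hι hacyc in
theorem nonempty_addEquiv (p : ℕ) (F : ℬ) :
    Nonempty (Ext.{w'} B F p ≃+ Ext.{w} A (U.obj F) p) := by
  cases p with
  | zero => exact ⟨e₀ U ι hι F⟩
  | succ p => exact nonempty_addEquiv_succ U ι hι hacyc p F

end Main

end Groth.Agent.Lib.ExtCompare95
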