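import Groth.Agent.Lib.LocGenHyper31
import Groth.Agent.Lib.RlimTrunc31
import Groth.Agent.Lib.ExtCompare95

/-!
# `E ≅ R lim τ_{≥ -n} E` in `D(𝒜)` for an abelian category with local generators (helper31)

Generic version of `RlimTrunc31.isRlimVia_truncTower` (S0881) for an abelian category `𝒜` with
an exact faithful functor `Γ : 𝒜 ⥤ Sheaf J Ab` and local generators `𝒢 : Gen Γ` such that `Γ`
sends injectives to objects acyclic for all `H^p(U, -)`.
-/

set_option autoImplicit false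
set_option linter.unusedSectionVars false

open CategoryTheory CategoryTheory.Limits Opposite Pretriangulated DerivedCategory

universe w u

namespace Groth.Agent.LocGen31

open Groth.Agent.SingleMaps31 Groth.Agent.HomologySheafLocal31 Groth.Agent.RlimTower31
  Groth.Agent.TruncStep31 Groth.Agent.RlimTrunc31

variable {C : Type u} [SmallCategory C] {J : GrothendieckTopology C}
  {𝒜 : Type (u + 1)} [Category.{u} 𝒜] [Abelian 𝒜]
  {Γ : 𝒜 ⥤ Sheaf J AddCommGrpCat.{u}} [Γ.Additive] [PreservesFiniteLimits Γ]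
  [PreservesFiniteColimits Γ] (𝒢 : Gen Γ)

namespace Gen

/-- the canonical map from the free abelian sheaf on `U` to the abelian sheaf underlying `Z U` -/
noncomputable def ι (U : C) : CohCx.freeSheaf J U ⟶ Γ.obj (𝒢.Z U) :=
  (Groth.Agent.FreeSheaf31.homEquiv U _).symm (𝒢.gen U)

lemma bijective_ι (U : C) (F : 𝒜) :
    Function.Bijective (fun φ : 𝒢.Z U ⟶ F => 𝒢.ι U ≫ Γ.map φ) := by
  have h : (fun φ : 𝒢.Z U ⟶ F => 𝒢.ι U ≫ Γ.map φ) =
      (Groth.Agent.FreeSheaf31.homEquiv U (Γ.obj F)).symm ∘ 𝒢.e U F := by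
    funext φ
    apply (Groth.Agent.FreeSheaf31.homEquiv U (Γ.obj F)).injective
    change Groth.Agent.FreeSheaf31.homEquiv U (Γ.obj F) (𝒢.ι U ≫ Γ.map φ) =
      Groth.Agent.FreeSheaf31.homEquiv U (Γ.obj F)
        ((Groth.Agent.FreeSheaf31.homEquiv U (Γ.obj F)).symm (𝒢.e U F φ))
    rw [Equiv.apply_symm_apply, Groth.Agent.FreeSheaf31.homEquiv_comp, ι,
      Equiv.apply_symm_apply, 𝒢.e_eq]
  rw [h]
  exact (Groth.Agent.FreeSheaf31.homEquiv U (Γ.obj F)).symm.bijective.comp (𝒢.e U F).bijective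

variable [EnoughInjectives 𝒜]

/-- vanishing of `Ext^k(Z U, G)` from vanishing of `H^k(U, Γ G)` -/
theorem subsingleton_ext [HasExt.{w} 𝒜]
    (hacyc : ∀ (I : 𝒜), Injective I → ∀ (U : C) (p : ℕ),
      Subsingleton (CohSite.HU (Γ.obj I) (p + 1) U))
    (U : C) (G : 𝒜) (k : ℕ) (h : Subsingleton (CohSite.HU (Γ.obj G) k U)) :
    Subsingleton (Abelian.Ext.{w} (𝒢.Z U) G k) := by
  have h' : Subsingleton (Abelian.Ext (CohCx.freeSheaf J U) (Γ.obj G) k) := h
  obtain ⟨e⟩ := Groth.Agent.Lib.ExtCompare95.nonempty_addEquiv Γ (𝒢.ι U) (𝒢.bijective_ι U)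
    (fun I hI p => hacyc I hI U p) k G
  exact e.toEquiv.subsingleton

variable [HasDerivedCategory.{w} 𝒜]

lemma subsingleton_hom_ZD_single_nat
    (hacyc : ∀ (I : 𝒜), Injective I → ∀ (U : C) (p : ℕ),
      Subsingleton (CohSite.HU (Γ.obj I) (p + 1) U))
    (U : C) (G : 𝒜) (k : ℕ) (h : Subsingleton (CohSite.HU (Γ.obj G) k U)) :
    Subsingleton (𝒢.ZD U ⟶ (shiftFunctor _ ((k : ℕ) : ℤ)).obj ((singleFunctor 𝒜 0).obj G)) := by
  have := hasExt_of_hasDerivedCategory.{w} 𝒜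
  have h' := 𝒢.subsingleton_ext.{w} hacyc U G k h
  exact (Abelian.Ext.homEquiv (X := 𝒢.Z U) (Y := G) (n := k)).symm.subsingleton

lemma hom_ZD_single_neg (U : C) (G : 𝒜) (j : ℤ) (hj : j < 0)
    (ξ : 𝒢.ZD U ⟶ (shiftFunctor _ j).obj ((singleFunctor 𝒜 0).obj G)) : ξ = 0 :=
  RlimHeart31.hom_single_shift_neg_eq_zero (𝒢.Z U) G j hj ξ

lemma fiber_vanish
    (hacyc : ∀ (I : 𝒜), Injective I → ∀ (U : C) (p : ℕ),
      Subsingleton (CohSite.HU (Γ.obj I) (p + 1) U))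
    (E : DerivedCategory 𝒜) (a : ℤ) (X₁ : DerivedCategory 𝒜)
    (e : X₁ ≅ (singleFunctor 𝒜 a).obj ((homologyFunctor 𝒜 a).obj E)) (Y' : C) (m : ℤ)
    (h : ∀ k : ℕ, m - k = a →
      Subsingleton (CohSite.HU (Γ.obj ((homologyFunctor 𝒜 (m - k)).obj E)) k Y'))
    (ξ : 𝒢.ZD Y' ⟶ (shiftFunctor _ m).obj X₁) : ξ = 0 := by
  by_cases hk : m - a < 0
  · let i : (shiftFunctor _ m).obj X₁ ≅ (shiftFunctor _ (m - a)).obj
        ((singleFunctor 𝒜 0).obj ((homologyFunctor 𝒜 a).obj E)) :=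
      (shiftFunctor _ m).mapIso e ≪≫ singleShiftIso _ a m (m - a) (by omega)
    rw [← cancel_mono i.hom, zero_comp]
    exact 𝒢.hom_ZD_single_neg Y' _ (m - a) hk _
  · obtain ⟨k, hk'⟩ : ∃ k : ℕ, a = m - k := ⟨(m - a).toNat, by omega⟩
    subst hk'
    let i : (shiftFunctor _ m).obj X₁ ≅ (shiftFunctor _ ((k : ℕ) : ℤ)).obj
        ((singleFunctor 𝒜 0).obj ((homologyFunctor 𝒜 (m - k)).obj E)) :=
      (shiftFunctor _ m).mapIso e ≪≫ singleShiftIso _ (m - k) m k (by omega)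
    rw [← cancel_mono i.hom, zero_comp]
    have := 𝒢.subsingleton_hom_ZD_single_nat hacyc Y' _ k (h k rfl)
    exact Subsingleton.elim _ _

lemma local_conditions
    (hacyc : ∀ (I : 𝒜), Injective I → ∀ (U : C) (p : ℕ),
      Subsingleton (CohSite.HU (Γ.obj I) (p + 1) U))
    (E : DerivedCategory 𝒜) (Y' : C) (m p : ℤ)
    (h : ∀ k : ℕ, p < k →
      Subsingleton (CohSite.HU (Γ.obj ((homologyFunctor 𝒜 (m - k)).obj E)) k Y')) :
    CohCx.LimOneIsZero (fun n => (𝒢.ZD Y' ⟶ (shiftFunctor _ (m - 1)).obj (CohCx.truncTower E n)))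
        (fun n => Preadditive.rightComp (𝒢.ZD Y')
          ((shiftFunctor _ (m - 1)).map (CohCx.truncTowerMap E n))) ∧
      ∀ nV, (p - m).toNat ≤ nV → ∀ k : ℕ, Function.Injective
        (Preadditive.rightComp (𝒢.ZD Y') ((shiftFunctor _ m).map
          (CohCx.transition (CohCx.truncTower E) (CohCx.truncTowerMap E) nV k))) := by
  apply tower_conditions
  intro n hn
  obtain ⟨X₁, f, g, hT, ⟨e⟩⟩ := exists_fiber E n
  refine ⟨X₁, f, g, hT, 𝒢.fiber_vanish hacyc E _ X₁ e Y' m (fun k hk => h k ?_)⟩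
  push_cast at hk
  omega

variable [Γ.Faithful]

/-- a morphism of `𝒜` which is injective on sections over a covering class is mono -/
lemma mono_of_injective_on {B : Set C} (hB : Covers J B) {A A' : 𝒜} (ψ : A ⟶ A')
    (h : ∀ V ∈ B, Function.Injective ((Γ.map ψ).hom.app (op V))) : Mono ψ := by
  have : Mono (Γ.map ψ) := RlimTrunc31.mono_of_injective_on hB (Γ.map ψ) h
  exact Γ.mono_of_mono_map this

omit [Γ.Additive] [PreservesFiniteLimits Γ] [PreservesFiniteColimits Γ] [EnoughInjectives 𝒜]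
  [Γ.Faithful] in
lemma injective_comp_iso (Φ : 𝒜 ⥤ AddCommGrpCat.{u}) {A A' A'' : 𝒜} (f : A ⟶ A') (g : A' ⟶ A'')
    [IsIso g] (hf : Function.Injective (Φ.map f)) : Function.Injective (Φ.map (f ≫ g)) := by
  intro x y hxy
  apply hf
  apply (ConcreteCategory.bijective_of_isIso (Φ.map g)).1
  rw [Φ.map_comp] at hxy
  exact hxy

include 𝒢 in
/-- **generic S0881** -/
theorem isRlimVia_truncTower
    (hacyc : ∀ (I : 𝒜), Injective I → ∀ (U : C) (p : ℕ),
      Subsingleton (CohSite.HU (Γ.obj I) (p + 1) U))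
    (E : DerivedCategory 𝒜) [HasProduct (CohCx.truncTower E)] (B : Set C) (hB : Covers J B)
    (h : ∀ V ∈ B, ∃ p : ℤ → ℤ, ∀ T ∈ J V, ∃ (ι : Type u) (Y : ι → C) (f : ∀ i, Y i ⟶ V),
      (∀ i, T.arrows (f i)) ∧ Sieve.ofArrows Y f ∈ J V ∧
      ∀ (i : ι) (m : ℤ) (k : ℕ), p m < k →
        Subsingleton (CohSite.HU (Γ.obj ((homologyFunctor 𝒜 (m - k)).obj E)) k (Y i))) :
    CohCx.IsRlimVia (CohCx.truncTower E) (CohCx.truncTowerMap E) E (CohCx.toTruncTower E) := by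
  obtain ⟨L, a, c, hT⟩ := distinguished_cocone_triangle₁
    (Pi.lift fun n => Pi.π (CohCx.truncTower E) n -
      Pi.π (CohCx.truncTower E) (n + 1) ≫ CohCx.truncTowerMap E n)
  obtain ⟨u, hu⟩ := exists_lift (CohCx.truncTower E) (CohCx.truncTowerMap E)
    (CohCx.toTruncTower E) (toTruncTower_succ E) a c hT
  have hRV := RlimHeart31.isRlimVia_of_triangle (CohCx.truncTower E) (CohCx.truncTowerMap E) a c hT
  suffices IsIso u from isRlimVia_of_isIso _ _ _ a c hT u hu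
  apply isIso_of_homology_mono
  intro m
  let n₀ : ℕ := (-m).toNat
  refine ⟨CohCx.truncTower E n₀, a ≫ Pi.π _ n₀, ?_, ?_⟩
  · apply Gen.mono_of_injective_on (Γ := Γ) hB
    intro V hV
    obtain ⟨p, hp⟩ := h V hV
    let N : ℕ := (p m - m).toNat
    have hinj : Function.Injective ((Γ.map ((homologyFunctor 𝒜 m).map
        (a ≫ Pi.π (CohCx.truncTower E) (n₀ + N)))).hom.app (op V)) := by
      refine 𝒢.injective_of_local_shift _ m V (fun T hT' => ?_)
      obtain ⟨ι, Y', f, hf, hcov, hvan⟩ := hp T hT'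
      refine ⟨ι, Y', f, hf, hcov, fun i ξ hξ => ?_⟩
      obtain ⟨hl1, hl2⟩ := 𝒢.local_conditions hacyc E (Y' i) m (p m) (hvan i m)
      exact RlimTri31.eq_zero_of_comp_eq_zero _ _ L _ hRV (𝒢.ZD (Y' i)) m (n₀ + N) hl1
        (hl2 (n₀ + N) (by omega)) ξ hξ
    have hfac : a ≫ Pi.π (CohCx.truncTower E) n₀ =
        (a ≫ Pi.π (CohCx.truncTower E) (n₀ + N)) ≫
          CohCx.transition (CohCx.truncTower E) (CohCx.truncTowerMap E) n₀ N :=
      (RlimTri31.a_transition _ _ L _ hRV n₀ N).symm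
    rw [hfac, Functor.map_comp]
    have := isIso_homologyMap_transition E n₀ N m (by omega)
    exact Gen.injective_comp_iso (Γ ⋙ sheafToPresheaf J AddCommGrpCat.{u} ⋙ ev V) _ _ hinj
  · have : u ≫ a ≫ Pi.π (CohCx.truncTower E) n₀ = CohCx.toTruncTower E n₀ := by
      rw [← Category.assoc, hu, Pi.lift_π]
    rw [this]
    exact isIso_homologyMap_toTruncTower E n₀ m (by omega)

omit [Γ.Additive] [PreservesFiniteLimits Γ] [PreservesFiniteColimits Γ] [EnoughInjectives 𝒜]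
  [Γ.Faithful] [HasDerivedCategory.{w} 𝒜] in
/-- every covering sieve of `V` contains a covering family with members in a covering class -/
lemma exists_family_of_covers {B : Set C} (hB : Covers J B) (V : C) (T : Sieve V) (hT : T ∈ J V) :
    ∃ (ι : Type u) (Y : ι → C) (f : ∀ i, Y i ⟶ V), (∀ i, T.arrows (f i)) ∧
      Sieve.ofArrows Y f ∈ J V ∧ ∀ i, Y i ∈ B := by
  choose ι₀ Y₀ f₀ hcov₀ hmem₀ using hB
  let A : Type u := Σ (W : C), {g : W ⟶ V // T.arrows g}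
  refine ⟨Σ (x : A), ι₀ x.1, fun i => Y₀ i.1.1 i.2, fun i => f₀ i.1.1 i.2 ≫ i.1.2.1,
    fun i => T.downward_closed i.1.2.2 _, ?_, fun i => hmem₀ i.1.1 i.2⟩
  refine J.transitive hT _ (fun W g hg => ?_)
  refine J.superset_covering ?_ (hcov₀ W)
  rw [Sieve.ofArrows, Sieve.generate_le_iff]
  rintro Z k ⟨j⟩
  exact Sieve.ofArrows_mk _ (fun i : Σ (x : A), ι₀ x.1 => f₀ i.1.1 i.2 ≫ i.1.2.1)
    (⟨⟨W, ⟨g, hg⟩⟩, j⟩ : Σ (x : A), ι₀ x.1)

include 𝒢 in
/-- **generic S9042**: vanishing over a covering class of objects -/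
theorem isRlimVia_truncTower_of_class
    (hacyc : ∀ (I : 𝒜), Injective I → ∀ (U : C) (p : ℕ),
      Subsingleton (CohSite.HU (Γ.obj I) (p + 1) U))
    (E : DerivedCategory 𝒜) [HasProduct (CohCx.truncTower E)] (B : Set C) (hB : Covers J B)
    (p : ℤ → ℤ)
    (h : ∀ V ∈ B, ∀ (m : ℤ) (k : ℕ), p m < k →
      Subsingleton (CohSite.HU (Γ.obj ((homologyFunctor 𝒜 (m - k)).obj E)) k V)) :
    CohCx.IsRlimVia (CohCx.truncTower E) (CohCx.truncTowerMap E) E (CohCx.toTruncTower E) := by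
  refine 𝒢.isRlimVia_truncTower hacyc E B hB (fun V _ => ⟨p, fun T hT => ?_⟩)
  obtain ⟨ι, Y, f, hf, hcov, hmem⟩ := exists_family_of_covers hB V T hT
  exact ⟨ι, Y, f, hf, hcov, fun i m k hk => h (Y i) (hmem i) m k hk⟩

end Gen

end Groth.Agent.LocGen31
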