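import Groth.Agent.Lib.RFBdd31
import Groth.Agent.Lib.LocGenConst31
import Groth.Agent.Lib.RlimTrunc31

/-!
# The tower `RF(τ_{≥ -n} X)` (helper31)

If `R^pF(H^q X) = 0` for `p > N`, then `H^j(RF τ_{≥ -(n+1)} X) ⟶ H^j(RF τ_{≥ -n} X)` is an
isomorphism for `j ≥ N - n`; consequently, if `H^j(RF X) ⟶ H^j(RF τ_{≥ -n} X)` is an isomorphism
for `n` large, it is one for all `n` with `j ≥ N - n`.
-/

set_option autoImplicit false

open CategoryTheory Limits Pretriangulated DerivedCategory DerivedCategory.TStructure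

namespace Groth.Agent.RFTower31

open Groth.Agent.RlimRFVia31 Groth.Agent.RFBdd31

universe w w' v' u u'

variable {A : Type (u + 1)} [Category.{u} A] [Abelian A] [IsGrothendieckAbelian.{u} A]
  [HasDerivedCategory.{w} A]
  {B : Type u'} [Category.{v'} B] [Abelian B] [HasDerivedCategory.{w'} B]
  (F : A ⥤ B) [F.Additive]
  [(Φ F).HasRightDerivedFunctor (HomotopyCategory.quasiIso A (ComplexShape.up ℤ))]
  [HasInjectiveResolutions A]

lemma isIso_homology_RF_truncTowerMap (X : DerivedCategory A) (N : ℤ)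
    (hN : ∀ (q : ℤ) (p : ℕ), N < (p : ℤ) →
      IsZero ((F.rightDerived p).obj ((homologyFunctor A q).obj X)))
    (n : ℕ) (j : ℤ) (hj : N - (n : ℤ) ≤ j) :
    IsIso ((homologyFunctor B j).map ((RF F).map (CohCx.truncTowerMap X n))) :=
  isIso_homology_RF_ν F X (-((n + 1 : ℕ) : ℤ)) (-(n : ℤ)) (by push_cast; omega)
    (by push_cast; omega) N j (hN _) (by push_cast; omega)

lemma toTruncTower_transition (X : DerivedCategory A) (n k : ℕ) :
    CohCx.toTruncTower X (n + k) ≫
      CohCx.transition (CohCx.truncTower X) (CohCx.truncTowerMap X) n k =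
        CohCx.toTruncTower X n := by
  induction k with
  | zero => exact Category.comp_id _
  | succ k ih =>
    change CohCx.toTruncTower X (n + k + 1) ≫ CohCx.truncTowerMap X (n + k) ≫
      CohCx.transition (CohCx.truncTower X) (CohCx.truncTowerMap X) n k = _
    rw [← Category.assoc, Groth.Agent.RlimTrunc31.toTruncTower_succ, ih]

/-- if `H^j(RF X) ⟶ H^j(RF τ_{≥ -n} X)` is eventually an isomorphism, it is one as soon as
`j ≥ N - n` -/
theorem isIso_homology_RF_toTruncTower (X : DerivedCategory A) (N : ℤ)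
    (hN : ∀ (q : ℤ) (p : ℕ), N < (p : ℤ) →
      IsZero ((F.rightDerived p).obj ((homologyFunctor A q).obj X)))
    (j : ℤ)
    (hev : ∃ n₀ : ℕ, ∀ n, n₀ ≤ n →
      IsIso ((homologyFunctor B j).map ((RF F).map (CohCx.toTruncTower X n))))
    (n : ℕ) (hj : N - (n : ℤ) ≤ j) :
    IsIso ((homologyFunctor B j).map ((RF F).map (CohCx.toTruncTower X n))) := by
  obtain ⟨n₀, hn₀⟩ := hev
  obtain ⟨k, hk⟩ : ∃ k : ℕ, n₀ ≤ n + k := ⟨n₀, by omega⟩
  have h1 := hn₀ (n + k) hk
  have h2 : IsIso ((RF F ⋙ homologyFunctor B j).map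
      (CohCx.transition (CohCx.truncTower X) (CohCx.truncTowerMap X) n k)) :=
    Groth.Agent.LocGen31.isIso_map_transition (CohCx.truncTower X) (CohCx.truncTowerMap X)
      (RF F ⋙ homologyFunctor B j) n
      (fun n' hn' => isIso_homology_RF_truncTowerMap F X N hN n' j (by
        have : (n : ℤ) ≤ n' := by exact_mod_cast hn'
        omega)) k
  have h3 : (homologyFunctor B j).map ((RF F).map (CohCx.toTruncTower X n)) =
      (homologyFunctor B j).map ((RF F).map (CohCx.toTruncTower X (n + k))) ≫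
        (RF F ⋙ homologyFunctor B j).map
          (CohCx.transition (CohCx.truncTower X) (CohCx.truncTowerMap X) n k) := by
    rw [Functor.comp_map, ← Functor.map_comp, ← Functor.map_comp, toTruncTower_transition]
  rw [h3]
  infer_instance

end Groth.Agent.RFTower31
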