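import Groth.Agent.Lib.RlimRF31
import Groth.Prelude.Def_CohCx

/-!
# Right derived functors commute with derived limits, given products (helper31)

Variant of `RlimRF31.isRlim_RF` in which the exactness of countable products in the target is
replaced by the hypothesis `hprod` that `Q(F(∏ I n))` is the product of the `Q(F(I n))` for
K-injective complexes `I n`; both the `DCoh.IsRlim` form and the `CohCx.IsRlimVia` form (with the
maps `RF(a n)`).
-/

set_option autoImplicit false

open CategoryTheory Limits Pretriangulated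

namespace Groth.Agent.RlimRFVia31

open Groth.Agent.RlimRF31 (isLimitFanOfIsos)

section General

variable {T : Type*} [Category* T] [Preadditive T] [HasZeroObject T] [HasShift T ℤ]
  [∀ n : ℤ, (shiftFunctor T n).Additive] [Pretriangulated T]

/-- criterion for being a derived limit through given maps, in terms of any product cone -/
lemma isRlimVia_of_triangle (K : ℕ → T) (t : ∀ n, K (n + 1) ⟶ K n) [HasProduct K]
    {X X' P : T} (eX : X' ≅ X) (p : ∀ n, P ⟶ K n) (hp : IsLimit (Fan.mk P p))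
    (a : X ⟶ P) (ψ : P ⟶ P) (c : P ⟶ X⟦(1 : ℤ)⟧) (hT : Triangle.mk a ψ c ∈ distTriang T)
    (hψ : ∀ n, ψ ≫ p n = p n - p (n + 1) ≫ t n)
    (b : ∀ n, X' ⟶ K n) (hb : ∀ n, b n = eX.hom ≫ a ≫ p n) :
    CohCx.IsRlimVia K t X' b := by
  obtain rfl : b = fun n => eX.hom ≫ a ≫ p n := funext hb
  let e : P ≅ ∏ᶜ K := hp.conePointUniqueUpToIso (limit.isLimit _)
  have he : ∀ n, e.hom ≫ Pi.π K n = p n := fun n =>
    hp.conePointUniqueUpToIso_hom_comp (limit.isLimit _) ⟨n⟩
  have hcomm : e.hom ≫ (Pi.lift fun n => Pi.π K n - Pi.π K (n + 1) ≫ t n) = ψ ≫ e.hom := by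
    apply Pi.hom_ext
    intro n
    rw [Category.assoc, Category.assoc, Pi.lift_π, Preadditive.comp_sub, he,
      reassoc_of% (he (n + 1)), hψ]
  have ha : Pi.lift (fun n => eX.hom ≫ a ≫ p n) = eX.hom ≫ a ≫ e.hom := by
    apply Pi.hom_ext
    intro n
    rw [Pi.lift_π, Category.assoc, Category.assoc, he]
  refine ⟨e.inv ≫ c ≫ eX.inv⟦(1 : ℤ)⟧', ?_⟩
  rw [ha]
  refine isomorphic_distinguished _ hT _ (Triangle.isoMk _ _ eX e.symm e.symm ?_ ?_ ?_)
  · change (eX.hom ≫ a ≫ e.hom) ≫ e.inv = eX.hom ≫ a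
    rw [Category.assoc, Category.assoc, Iso.hom_inv_id, Category.comp_id]
  · change (Pi.lift fun n => Pi.π K n - Pi.π K (n + 1) ≫ t n) ≫ e.inv = e.inv ≫ ψ
    rw [← cancel_epi e.hom, Iso.hom_inv_id_assoc, reassoc_of% hcomm, Iso.hom_inv_id,
      Category.comp_id]
  · change (e.inv ≫ c ≫ eX.inv⟦(1 : ℤ)⟧') ≫ eX.hom⟦(1 : ℤ)⟧' = e.inv ≫ c
    rw [Category.assoc, Category.assoc, ← Functor.map_comp, Iso.inv_hom_id,
      CategoryTheory.Functor.map_id, Category.comp_id]

/-- derived limits through given maps are unique up to an isomorphism compatible with the maps -/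
lemma IsRlimVia.exists_iso (K : ℕ → T) (t : ∀ n, K (n + 1) ⟶ K n) [HasProduct K] {L L' : T}
    {a : ∀ n, L ⟶ K n} {a' : ∀ n, L' ⟶ K n}
    (h : CohCx.IsRlimVia K t L a) (h' : CohCx.IsRlimVia K t L' a') :
    ∃ θ : L ≅ L', ∀ n, θ.hom ≫ a' n = a n := by
  obtain ⟨c, hT⟩ := h
  obtain ⟨c', hT'⟩ := h'
  obtain ⟨f, hf₁, hf₃⟩ := complete_distinguished_triangle_morphism₁ _ _ hT hT' (𝟙 _) (𝟙 _)
    ((Category.comp_id _).trans (Category.id_comp _).symm)
  let φ : Triangle.mk (Pi.lift a) (Pi.lift fun n => Pi.π K n - Pi.π K (n + 1) ≫ t n) c ⟶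
      Triangle.mk (Pi.lift a') (Pi.lift fun n => Pi.π K n - Pi.π K (n + 1) ≫ t n) c' :=
    { hom₁ := f
      hom₂ := 𝟙 _
      hom₃ := 𝟙 _
      comm₁ := hf₁
      comm₂ := (Category.comp_id _).trans (Category.id_comp _).symm
      comm₃ := hf₃ }
  have h2 : IsIso φ.hom₂ := by
    change IsIso (𝟙 (∏ᶜ K))
    infer_instance
  have h3 : IsIso φ.hom₃ := by
    change IsIso (𝟙 (∏ᶜ K))
    infer_instance
  have h1 : IsIso φ.hom₁ := isIso₁_of_isIso₂₃ φ hT hT' h2 h3
  let f' : L ⟶ L' := f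
  have h1' : IsIso f' := h1
  have h4 : Pi.lift a ≫ 𝟙 (∏ᶜ K) = f' ≫ Pi.lift a' := hf₁
  refine ⟨asIso f', fun n => ?_⟩
  calc f' ≫ a' n = f' ≫ Pi.lift a' ≫ Pi.π K n := by rw [Pi.lift_π]
    _ = (Pi.lift a ≫ 𝟙 (∏ᶜ K)) ≫ Pi.π K n := by rw [h4, Category.assoc]
    _ = a n := by rw [Category.comp_id, Pi.lift_π]

lemma isRlim_of_isRlimVia (K : ℕ → T) (t : ∀ n, K (n + 1) ⟶ K n) [HasProduct K] {L : T}
    {a : ∀ n, L ⟶ K n} (h : CohCx.IsRlimVia K t L a) : DCoh.IsRlim K t L := by
  obtain ⟨c, hT⟩ := h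
  exact ⟨_, c, hT⟩

lemma exists_isRlimVia_of_isRlim (K : ℕ → T) (t : ∀ n, K (n + 1) ⟶ K n) [HasProduct K] {L : T}
    (h : DCoh.IsRlim K t L) : ∃ a : ∀ n, L ⟶ K n, CohCx.IsRlimVia K t L a := by
  obtain ⟨a, c, hT⟩ := h
  refine ⟨fun n => a ≫ Pi.π K n, c, ?_⟩
  have : Pi.lift (fun n => a ≫ Pi.π K n) = a := by
    apply Pi.hom_ext
    intro n
    rw [Pi.lift_π]
  rw [this]
  exact hT

end General

section Main

universe w w' v v' u u'

variable {A : Type u} [Category.{v} A] [Abelian A] [IsGrothendieckAbelian.{v} A]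
  [HasDerivedCategory.{w} A]
  {B : Type u'} [Category.{v'} B] [Abelian B] [HasDerivedCategory.{w'} B]
  (F : A ⥤ B) [F.Additive]

open Groth.Agent.DProd31 DerivedCategory

/-- the functor to be derived -/
noncomputable abbrev Φ : HomotopyCategory A (ComplexShape.up ℤ) ⥤ DerivedCategory B :=
  F.mapHomotopyCategory (ComplexShape.up ℤ) ⋙ DerivedCategory.Qh

variable [(Φ F).HasRightDerivedFunctor (HomotopyCategory.quasiIso A (ComplexShape.up ℤ))]

/-- the total right derived functor -/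
noncomputable abbrev RF : DerivedCategory A ⥤ DerivedCategory B :=
  (Φ F).totalRightDerived DerivedCategory.Qh (HomotopyCategory.quasiIso A (ComplexShape.up ℤ))

/-- the unit -/
noncomputable abbrev η : Φ F ⟶ DerivedCategory.Qh ⋙ RF F :=
  (Φ F).totalRightDerivedUnit DerivedCategory.Qh (HomotopyCategory.quasiIso A (ComplexShape.up ℤ))

omit [HasDerivedCategory.{w} A] in
lemma hKinj (X : CochainComplex A ℤ) : ∃ (I : CochainComplex A ℤ) (f : X ⟶ I),
    I.IsKInjective ∧ QuasiIso f := by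
  obtain ⟨I, f, h1, h2, -, -⟩ := Groth.Agent.KInjMain31.exists_kinjective_resolution X
  exact ⟨I, f, h1, h2⟩

lemma isIso_η (I : CochainComplex A ℤ) [I.IsKInjective] :
    IsIso ((η F).app ((HomotopyCategory.quotient A (ComplexShape.up ℤ)).obj I)) :=
  Groth.Agent.KInjComp31.isIso_totalRightDerivedUnit_app hKinj (Φ F) I

/-- `RF` at a K-injective complex -/
noncomputable def ρ (I : CochainComplex A ℤ) [I.IsKInjective] :
    (Φ F).obj ((HomotopyCategory.quotient A (ComplexShape.up ℤ)).obj I) ≅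
      (RF F).obj (Q.obj I) :=
  haveI := isIso_η F I
  (asIso ((η F).app ((HomotopyCategory.quotient A (ComplexShape.up ℤ)).obj I)) :
    (Φ F).obj ((HomotopyCategory.quotient A (ComplexShape.up ℤ)).obj I) ≅
      (DerivedCategory.Qh ⋙ RF F).obj ((HomotopyCategory.quotient A (ComplexShape.up ℤ)).obj I))

lemma ρ_hom (I : CochainComplex A ℤ) [I.IsKInjective] :
    (ρ F I).hom = (η F).app ((HomotopyCategory.quotient A (ComplexShape.up ℤ)).obj I) := rfl

lemma ρ_naturality {I I' : CochainComplex A ℤ} [I.IsKInjective] [I'.IsKInjective] (f : I ⟶ I') :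
    (Φ F).map ((HomotopyCategory.quotient A (ComplexShape.up ℤ)).map f) ≫ (ρ F I').hom =
      (ρ F I).hom ≫ (RF F).map (Q.map f) := by
  rw [ρ_hom, ρ_hom]
  exact (η F).naturality ((HomotopyCategory.quotient A (ComplexShape.up ℤ)).map f)

omit [HasDerivedCategory.{w} A] in
lemma hasProductsOfShape_nat : HasProductsOfShape ℕ A := by
  have : HasLimitsOfSize.{0, 0} A := hasLimitsOfSizeShrink.{0, 0, v, v} A
  infer_instance

lemma ρ_naturality' {I I' : CochainComplex A ℤ} [I.IsKInjective] [I'.IsKInjective]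
    (g : (HomotopyCategory.quotient A (ComplexShape.up ℤ)).obj I ⟶
      (HomotopyCategory.quotient A (ComplexShape.up ℤ)).obj I') :
    (Φ F).map g ≫ (ρ F I').hom = (ρ F I).hom ≫ (RF F).map (Qh.map g) := by
  rw [ρ_hom, ρ_hom]
  exact (η F).naturality g

lemma maps_eq {X₀ P I' : CochainComplex A ℤ} [X₀.IsKInjective] [I'.IsKInjective]
    {L Kn : DerivedCategory A} (θ : L ≅ Q.obj X₀)
    (a' : (HomotopyCategory.quotient A (ComplexShape.up ℤ)).obj X₀ ⟶
      (HomotopyCategory.quotient A (ComplexShape.up ℤ)).obj P) (π : P ⟶ I')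
    (e : Q.obj I' ≅ Kn) (an : L ⟶ Kn)
    (hθ : θ.hom ≫ Qh.map a' ≫ Q.map π ≫ e.hom = an) :
    (RF F).map an = ((RF F).map θ.hom ≫ (ρ F X₀).inv) ≫ (Φ F).map a' ≫
      (Φ F).map ((HomotopyCategory.quotient A (ComplexShape.up ℤ)).map π) ≫
        ((ρ F I').hom ≫ (RF F).map e.hom) := by
  have hn := ρ_naturality' F (I := X₀) (I' := I')
    (a' ≫ (HomotopyCategory.quotient A (ComplexShape.up ℤ)).map π)
  have h6 : (ρ F X₀).inv ≫ (Φ F).map a' ≫
      (Φ F).map ((HomotopyCategory.quotient A (ComplexShape.up ℤ)).map π) ≫ (ρ F I').hom =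
      (RF F).map (Qh.map (a' ≫ (HomotopyCategory.quotient A (ComplexShape.up ℤ)).map π)) := by
    rw [← Functor.map_comp_assoc, hn]
    exact Iso.inv_hom_id_assoc _ _
  have h7 : Qh.map (a' ≫ (HomotopyCategory.quotient A (ComplexShape.up ℤ)).map π) =
      Qh.map a' ≫ Q.map π := Qh.map_comp _ _
  have h8 : an = θ.hom ≫
      Qh.map (a' ≫ (HomotopyCategory.quotient A (ComplexShape.up ℤ)).map π) ≫ e.hom :=
    hθ.symm.trans (congrArg (fun z => θ.hom ≫ z)
      ((Category.assoc _ _ _).symm.trans (congrArg (fun z => z ≫ e.hom) h7.symm)))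
  calc (RF F).map an
      = (RF F).map θ.hom ≫ (RF F).map
          (Qh.map (a' ≫ (HomotopyCategory.quotient A (ComplexShape.up ℤ)).map π)) ≫
            (RF F).map e.hom :=
        (congrArg (RF F).map h8).trans (((RF F).map_comp _ _).trans
          (congrArg (fun z => (RF F).map θ.hom ≫ z) ((RF F).map_comp _ _)))
    _ = (RF F).map θ.hom ≫ ((ρ F X₀).inv ≫ (Φ F).map a' ≫
          (Φ F).map ((HomotopyCategory.quotient A (ComplexShape.up ℤ)).map π) ≫ (ρ F I').hom) ≫
            (RF F).map e.hom :=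
        congrArg (fun z => (RF F).map θ.hom ≫ z ≫ (RF F).map e.hom) h6.symm
    _ = _ := by
        simp only [Category.assoc]

/-- **`RF` commutes with derived limits through given maps**, provided it commutes with countable
products of K-injective complexes. -/
theorem isRlimVia_RF
    (hprod : ∀ (I : ℕ → CochainComplex A ℤ) [∀ j : ℤ, HasProduct (fun n => (I n).X j)],
      (∀ n, (I n).IsKInjective) → Nonempty (IsLimit (Fan.mk
        (Q.obj ((F.mapHomologicalComplex (ComplexShape.up ℤ)).obj (prodCx I)))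
        (fun n => Q.map ((F.mapHomologicalComplex (ComplexShape.up ℤ)).map (prodπ I n))) :
        Fan fun n => (Q.obj ((F.mapHomologicalComplex (ComplexShape.up ℤ)).obj (I n)) :
          DerivedCategory B))))
    (K : ℕ → DerivedCategory A) (t : ∀ n, K (n + 1) ⟶ K n) (L : DerivedCategory A)
    [HasProduct K] [HasProduct fun n => (RF F).obj (K n)] (a : ∀ n, L ⟶ K n)
    (hL : CohCx.IsRlimVia K t L a) :
    CohCx.IsRlimVia (fun n => (RF F).obj (K n)) (fun n => (RF F).map (t n)) ((RF F).obj L)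
      (fun n => (RF F).map (a n)) := by
  haveI : HasProductsOfShape ℕ A := hasProductsOfShape_nat
  -- K-injective models
  have hmodel : ∀ n, ∃ (I : CochainComplex A ℤ), I.IsKInjective ∧ Nonempty (Q.obj I ≅ K n) := by
    intro n
    obtain ⟨I, f, hI, hf⟩ := hKinj (Q.objPreimage (K n))
    have : IsIso (Q.map f) := by rw [isIso_Q_map_iff_quasiIso]; exact hf
    exact ⟨I, hI, ⟨(asIso (Q.map f)).symm ≪≫ Q.objObjPreimageIso (K n)⟩⟩
  choose I hI he using hmodel
  let e : ∀ n, Q.obj (I n) ≅ K n := fun n => (he n).some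
  have hτ : ∀ n, ∃ τ : I (n + 1) ⟶ I n, Q.map τ = (e (n + 1)).hom ≫ t n ≫ (e n).inv :=
    fun n => exists_Q_map_eq _ _ _
  choose τ hτ using hτ
  have hτ' : ∀ n, Q.map (τ n) ≫ (e n).hom = (e (n + 1)).hom ≫ t n := fun n => by
    rw [hτ, Category.assoc, Category.assoc, Iso.inv_hom_id, Category.comp_id]
  -- the product complex and the shift map
  let ψ : prodCx I ⟶ prodCx I := prodLift (fun n => prodπ I n - prodπ I (n + 1) ≫ τ n)
  have hψ : ∀ n, ψ ≫ prodπ I n = prodπ I n - prodπ I (n + 1) ≫ τ n := fun n => prodLift_π _ n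
  haveI : (prodCx I).IsKInjective := isKInjective_prodCx I
  -- a distinguished triangle in `K(A)`
  obtain ⟨Xh, a', c, hT⟩ :=
    distinguished_cocone_triangle₁ ((HomotopyCategory.quotient A (.up ℤ)).map ψ)
  obtain ⟨X₀, rfl⟩ := HomotopyCategory.quotient_obj_surjective Xh
  haveI hX : CochainComplex.IsKInjective X₀ := by
    rw [CochainComplex.isKInjective_iff_rightOrthogonal]
    exact ObjectProperty.ext_of_isTriangulatedClosed₁ _ _ hT
      (CochainComplex.IsKInjective.rightOrthogonal (prodCx I))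
      (CochainComplex.IsKInjective.rightOrthogonal (prodCx I))
  -- the derived limit in `D(A)`
  have h1 : CohCx.IsRlimVia K t (Q.obj X₀)
      (fun n => Qh.map a' ≫ Q.map (prodπ I n) ≫ (e n).hom) := by
    have hT₁ := Qh.map_distinguished _ hT
    refine isRlimVia_of_triangle K t (Iso.refl _)
      (fun n => Q.map (prodπ I n) ≫ (e n).hom) (isLimitFanOfIsos _ (isLimitFan I) e)
      _ _ _ hT₁ (fun n => ?_) _ (fun n => (Category.id_comp _).symm)
    change Q.map ψ ≫ Q.map (prodπ I n) ≫ (e n).hom =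
      Q.map (prodπ I n) ≫ (e n).hom - (Q.map (prodπ I (n + 1)) ≫ (e (n + 1)).hom) ≫ t n
    rw [← Functor.map_comp_assoc, hψ, Functor.map_sub, Functor.map_comp, Preadditive.sub_comp,
      Category.assoc, hτ', Category.assoc]
  obtain ⟨θ, hθ⟩ := IsRlimVia.exists_iso K t hL h1
  -- the derived limit in `D(B)`
  have hT₂ := (Φ F).map_distinguished _ hT
  obtain ⟨hlim⟩ := hprod I hI
  refine isRlimVia_of_triangle (fun n => (RF F).obj (K n)) (fun n => (RF F).map (t n))
    ((RF F).mapIso θ ≪≫ (ρ F X₀).symm)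
    (fun n => Q.map ((F.mapHomologicalComplex (ComplexShape.up ℤ)).map (prodπ I n)) ≫
      ((ρ F (I n)).hom ≫ (RF F).map (e n).hom))
    (isLimitFanOfIsos _ hlim (fun n => ρ F (I n) ≪≫ (RF F).mapIso (e n)))
    _ _ _ hT₂ (fun n => ?_) _ (fun n => ?_)
  rotate_left
  · -- identify the maps
    exact maps_eq F θ a' (prodπ I n) (e n) (a n) (hθ n)
  · change (Φ F).map ((HomotopyCategory.quotient A (.up ℤ)).map ψ) ≫
        (Φ F).map ((HomotopyCategory.quotient A (.up ℤ)).map (prodπ I n)) ≫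
          ((ρ F (I n)).hom ≫ (RF F).map (e n).hom) =
      (Φ F).map ((HomotopyCategory.quotient A (.up ℤ)).map (prodπ I n)) ≫
          ((ρ F (I n)).hom ≫ (RF F).map (e n).hom) -
        ((Φ F).map ((HomotopyCategory.quotient A (.up ℤ)).map (prodπ I (n + 1))) ≫
          ((ρ F (I (n + 1))).hom ≫ (RF F).map (e (n + 1)).hom)) ≫ (RF F).map (t n)
    rw [← Functor.map_comp_assoc, ← Functor.map_comp, hψ, Functor.map_sub, Functor.map_sub,
      Functor.map_comp, Functor.map_comp, Preadditive.sub_comp]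
    congr 1
    have hn := ρ_naturality F (τ n)
    have h5 : (RF F).map (Q.map (τ n)) ≫ (RF F).map (e n).hom =
        (RF F).map (e (n + 1)).hom ≫ (RF F).map (t n) := by
      rw [← Functor.map_comp, hτ', Functor.map_comp]
    calc _ = (Φ F).map ((HomotopyCategory.quotient A (.up ℤ)).map (prodπ I (n + 1))) ≫
          ((Φ F).map ((HomotopyCategory.quotient A (.up ℤ)).map (τ n)) ≫ (ρ F (I n)).hom) ≫
            (RF F).map (e n).hom := by simp only [Category.assoc]
      _ = (Φ F).map ((HomotopyCategory.quotient A (.up ℤ)).map (prodπ I (n + 1))) ≫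
          ((ρ F (I (n + 1))).hom ≫ (RF F).map (Q.map (τ n))) ≫ (RF F).map (e n).hom := by rw [hn]
      _ = _ := by simp only [Category.assoc, h5]

/-- `DCoh.IsRlim` form -/
theorem isRlim_RF'
    (hprod : ∀ (I : ℕ → CochainComplex A ℤ) [∀ j : ℤ, HasProduct (fun n => (I n).X j)],
      (∀ n, (I n).IsKInjective) → Nonempty (IsLimit (Fan.mk
        (Q.obj ((F.mapHomologicalComplex (ComplexShape.up ℤ)).obj (prodCx I)))
        (fun n => Q.map ((F.mapHomologicalComplex (ComplexShape.up ℤ)).map (prodπ I n))) :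
        Fan fun n => (Q.obj ((F.mapHomologicalComplex (ComplexShape.up ℤ)).obj (I n)) :
          DerivedCategory B))))
    (K : ℕ → DerivedCategory A) (t : ∀ n, K (n + 1) ⟶ K n) (L : DerivedCategory A)
    [HasProduct K] [HasProduct fun n => (RF F).obj (K n)] (hL : DCoh.IsRlim K t L) :
    DCoh.IsRlim (fun n => (RF F).obj (K n)) (fun n => (RF F).map (t n)) ((RF F).obj L) := by
  obtain ⟨a, ha⟩ := exists_isRlimVia_of_isRlim K t hL
  exact isRlim_of_isRlimVia _ _ (isRlimVia_RF F hprod K t L a ha)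

end Main

end Groth.Agent.RlimRFVia31
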