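import Groth.Agent.Lib.PushLocalE31
import Groth.Agent.Lib.RlimRFVia31
import Groth.Agent.S0484

/-!
# `Rf_*` commutes with derived limits for a morphism of ringed sites (helper31)

* `hasProduct_Q_obj` : in the derived category of a Grothendieck abelian category (any model), any
  family `Q(M i)` has a product.
* `hprod_push` : the hypothesis of `RlimRFVia31.isRlimVia_RF` for `f_*`.
* `isRlimVia_RpushD`, `isRlim_RpushD` : `Rf_*` sends derived limits to derived limits.
-/

set_option autoImplicit false

open CategoryTheory CategoryTheory.Limits DerivedCategory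

universe w w' v u' u

namespace Groth.Agent.PushLocalF31

open Groth.Agent.DProd31

section

variable {B : Type u'} [Category.{v} B] [Abelian B] [IsGrothendieckAbelian.{v} B]
  [HasDerivedCategory.{w} B] {ι : Type w'} [HasProductsOfShape ι B]

/-- products of arbitrary families of complexes exist in `D(B)` -/
lemma hasProduct_Q_obj (M : ι → CochainComplex B ℤ) :
    HasProduct (fun i => (Q.obj (M i) : DerivedCategory B)) := by
  have key : ∀ i : ι, ∃ (L : CochainComplex B ℤ) (_ : L.IsKInjective),
      Nonempty (Q.obj (M i) ≅ Q.obj L) := by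
    intro i
    obtain ⟨I, f, hI, hf, _, _⟩ := Groth.Agent.KInjMain31.exists_kinjective_resolution (M i)
    have : IsIso (Q.map f) := by
      rw [isIso_Q_map_iff_quasiIso]; exact hf
    exact ⟨I, hI, ⟨asIso (Q.map f)⟩⟩
  choose I hI e using key
  have := Groth.Agent.DProd31.hasProduct_Q_obj I
  exact Limits.hasLimit_of_iso
    (F := Discrete.functor fun i => (Q.obj (I i) : DerivedCategory B))
    (Discrete.natIso (fun i => (e i.as).some.symm))

end

variable {C : Type u} [SmallCategory C] {J : GrothendieckTopology C} {O_C : Sheaf J CommRingCat.{u}}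
  {D : Type u} [SmallCategory D] {K : GrothendieckTopology D} {O_D : Sheaf K CommRingCat.{u}}
  (f : ModSite.RMor O_C O_D) [HasDerivedCategory.{w} (ModSite.Mod O_D)]

/-- `Q(f_*(∏ I n))` is the product of the `Q(f_*(I n))` for K-injective complexes `I n` -/
theorem hprod_push (I : ℕ → CochainComplex (ModSite.Mod O_C) ℤ)
    [∀ j : ℤ, HasProduct (fun n => (I n).X j)] (hI : ∀ n, (I n).IsKInjective) :
    Nonempty (IsLimit (Fan.mk
      (Q.obj ((f.push.mapHomologicalComplex (ComplexShape.up ℤ)).obj (prodCx I)))
      (fun n => Q.map ((f.push.mapHomologicalComplex (ComplexShape.up ℤ)).map (prodπ I n))) :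
      Fan fun n => (Q.obj ((f.push.mapHomologicalComplex (ComplexShape.up ℤ)).obj (I n)) :
        DerivedCategory (ModSite.Mod O_D)))) := by
  haveI : IsGrothendieckAbelian.{u} (ModSite.Mod O_D) :=
    Groth.Agent.S0484.result K (ModSite.ringSh O_D)
  haveI := hasProduct_Q_obj
    (fun n => (f.push.mapHomologicalComplex (ComplexShape.up ℤ)).obj (I n))
  exact Groth.Agent.PushLocalE31.isLimitFanQ_push f I

variable [HasDerivedCategory.{w'} (ModSite.Mod O_C)]
  [(f.push.mapHomotopyCategory (ComplexShape.up ℤ) ⋙ DerivedCategory.Qh).HasRightDerivedFunctor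
    (HomotopyCategory.quasiIso (ModSite.Mod O_C) (ComplexShape.up ℤ))]

/-- **`Rf_*` commutes with derived limits (through given maps)** -/
theorem isRlimVia_RpushD
    (E : ℕ → DerivedCategory (ModSite.Mod O_C)) (t : ∀ n, E (n + 1) ⟶ E n) [HasProduct E]
    (L : DerivedCategory (ModSite.Mod O_C)) (a : ∀ n, L ⟶ E n) (hL : CohCx.IsRlimVia E t L a)
    [HasProduct fun n => (Groth.Agent.RlimRFVia31.RF f.push).obj (E n)] :
    CohCx.IsRlimVia (fun n => (Groth.Agent.RlimRFVia31.RF f.push).obj (E n))
      (fun n => (Groth.Agent.RlimRFVia31.RF f.push).map (t n))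
      ((Groth.Agent.RlimRFVia31.RF f.push).obj L)
      (fun n => (Groth.Agent.RlimRFVia31.RF f.push).map (a n)) := by
  haveI : IsGrothendieckAbelian.{u} (ModSite.Mod O_C) :=
    Groth.Agent.S0484.result J (ModSite.ringSh O_C)
  exact Groth.Agent.RlimRFVia31.isRlimVia_RF f.push (fun I _ hI => hprod_push f I hI) E t L a hL

/-- **`Rf_*` commutes with derived limits** -/
theorem isRlim_RpushD
    (E : ℕ → DerivedCategory (ModSite.Mod O_C)) (t : ∀ n, E (n + 1) ⟶ E n) [HasProduct E]
    (L : DerivedCategory (ModSite.Mod O_C)) (hL : DCoh.IsRlim E t L)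
    [HasProduct fun n => (Groth.Agent.RlimRFVia31.RF f.push).obj (E n)] :
    DCoh.IsRlim (fun n => (Groth.Agent.RlimRFVia31.RF f.push).obj (E n))
      (fun n => (Groth.Agent.RlimRFVia31.RF f.push).map (t n))
      ((Groth.Agent.RlimRFVia31.RF f.push).obj L) := by
  haveI : IsGrothendieckAbelian.{u} (ModSite.Mod O_C) :=
    Groth.Agent.S0484.result J (ModSite.ringSh O_C)
  exact Groth.Agent.RlimRFVia31.isRlim_RF' f.push (fun I _ hI => hprod_push f I hI) E t L hL

end Groth.Agent.PushLocalF31
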