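/-
helper11: scheme-level bridge to S9065/S9066 (helper31): for a morphism of schemes `f : X ⟶ S` whose higher direct
images preserve quasi-coherence and vanish above `N` on quasi-coherent modules, `Rf_*` preserves `D_QCoh` and
`H^j(Rf_* K) ≅ H^j(Rf_* τ_{≥ -n} K)` for `j ≥ N - n`.  Also the affine-open covering hypotheses `hB`, `hA`.
-/
import Groth.Agent.S9065
import Groth.Agent.Lib.QCohWeakSerre11
import Groth.Agent.Lib.AffVan
import Groth.Agent.Lib.RpushRestrict
import Groth.Prelude.Def_DCoh2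
import Groth.Prelude.Def_FSch6

set_option autoImplicit false
universe u
open CategoryTheory CategoryTheory.Limits AlgebraicGeometry TopologicalSpace

namespace Groth.Agent.Lib.RpushQCohD11

attribute [local instance] HasDerivedCategory.standard

open Groth.Agent.Lib.QCohWeakSerre11

/-- affine opens cover every open -/
lemma hB (X : Scheme.{u}) : ∀ U : X.Opens, ∃ (ι : Type u) (Y : ι → X.Opens) (g : ∀ i, Y i ⟶ U),
    Sieve.ofArrows Y g ∈ Opens.grothendieckTopology X U ∧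
      ∀ i, Y i ∈ {V : X.Opens | IsAffineOpen V} := by
  intro U
  refine ⟨{V : X.Opens // IsAffineOpen V ∧ V ≤ U}, fun i => i.1, fun i => homOfLE i.2.2, ?_,
    fun i => i.2.1⟩
  intro x hx
  obtain ⟨V, hV, hxV, hVU⟩ := exists_isAffineOpen_mem_and_subset (x := x) (U := U) hx
  exact ⟨V, homOfLE hVU, Sieve.ofArrows_mk _ _ (⟨V, hV, hVU⟩ : {V : X.Opens // IsAffineOpen V ∧ V ≤ U}), hxV⟩

/-- cofinal affine refinements with vanishing higher cohomology of quasi-coherent modules -/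
lemma hA (X : Scheme.{u}) : ∀ V ∈ {V : X.Opens | IsAffineOpen V}, ∃ d : ℕ,
    ∀ T ∈ Opens.grothendieckTopology X V, ∃ (ι : Type u) (Y : ι → X.Opens) (g : ∀ i, Y i ⟶ V),
      (∀ i, T.arrows (g i)) ∧ Sieve.ofArrows Y g ∈ Opens.grothendieckTopology X V ∧
      ∀ (i : ι) (F : ModSite.Mod X.sheaf), QC X F → ∀ k : ℕ, d < k →
        Subsingleton (ModSite.HU X.sheaf F k (Y i)) := by
  intro V _
  refine ⟨0, fun T hT => ?_⟩
  refine ⟨{W : X.Opens // IsAffineOpen W ∧ ∃ h : W ≤ V, T.arrows (homOfLE h)}, fun i => i.1,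
    fun i => homOfLE i.2.2.choose, fun i => i.2.2.choose_spec, ?_, ?_⟩
  · intro x hx
    obtain ⟨W', g', hg', hxW'⟩ := hT x hx
    obtain ⟨W, hW, hxW, hWW'⟩ := exists_isAffineOpen_mem_and_subset (x := x) (U := W') hxW'
    have hWV : W ≤ V := hWW'.trans (leOfHom g')
    have hTW : T.arrows (homOfLE hWV) := by
      have := T.downward_closed hg' (homOfLE hWW')
      have e : homOfLE hWV = homOfLE hWW' ≫ g' := Subsingleton.elim _ _
      rw [e]; exact this
    exact ⟨W, homOfLE hWV, Sieve.ofArrows_mk _ _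
      (⟨W, hW, hWV, hTW⟩ : {W : X.Opens // IsAffineOpen W ∧ ∃ h : W ≤ V, T.arrows (homOfLE h)}), hxW⟩
  · intro i F hF k hk
    obtain ⟨n, rfl⟩ : ∃ n, k = n + 1 := ⟨k - 1, by omega⟩
    have h0 := Groth.Agent.Lib.AffVan.HU_eq_zero_of_isAffineOpen (X := X) F hF n i.2.1
    exact ⟨fun a b => (h0 a).trans (h0 b).symm⟩

/-- **scheme-level form of S9065**: if `R^p f_*` preserves quasi-coherence and vanishes above `N` on quasi-coherent
modules, then `Rf_*` preserves `D_QCoh` and `H^j(Rf_* K) ≅ H^j(Rf_* τ_{≥ -n} K)` for `j ≥ N - n`. -/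
theorem bridge {X S : Scheme.{u}} (f : X ⟶ S) [DCoh.HasRpush f] [HasInjectiveResolutions X.Modules]
    (N : ℤ)
    (h3 : ∀ F : X.Modules, Coh.IsQCoh F → ∀ p : ℕ, Coh.IsQCoh ((Coh.Rpush f p).obj F))
    (h4 : ∀ F : X.Modules, Coh.IsQCoh F → ∀ p : ℕ, N < (p : ℤ) → IsZero ((Coh.Rpush f p).obj F))
    (K : DCoh.D X) (hK : DCoh.IsQCohD K) :
    DCoh.IsQCohD ((DCoh.Rpush f).obj K) ∧
      ∀ (n : ℕ) (j : ℤ), N - (n : ℤ) ≤ j →
        IsIso ((DerivedCategory.homologyFunctor S.Modules j).map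
          ((DCoh.Rpush f).map ((DerivedCategory.TStructure.t.truncGEπ (-(n : ℤ))).app K))) := by
  have i1 : SiteCmp.HasRpushD (ModSite.RMor.ofScheme f) := ‹DCoh.HasRpush f›
  have i2 : HasInjectiveResolutions (ModSite.Mod X.sheaf) := ‹HasInjectiveResolutions X.Modules›
  exact @Groth.Agent.S9065.result _ _ _ X.sheaf _ _ _ S.sheaf (ModSite.RMor.ofScheme f) i2 i1
    (QC X) (qcWS X) (QC S) (qcWS S) {V : X.Opens | IsAffineOpen V} {V : S.Opens | IsAffineOpen V}
    (hB X) (hA X) (hB S) (hA S) N h3 h4 K hK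

end Groth.Agent.Lib.RpushQCohD11
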