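import Mathlib.RingTheory.Flat.Basic
import Mathlib.LinearAlgebra.TensorProduct.RightExactness

set_option autoImplicit false
universe u v

namespace Groth.Agent.Lib.FlatKer

open TensorProduct

variable {A : Type u} [CommRing A]

/-- Diagram chase on the 3×3 tensor diagram. -/
theorem rTensor_injective_of_exact {K F G R L N : Type*} [AddCommGroup K] [Module A K]
    [AddCommGroup F] [Module A F] [AddCommGroup G] [Module A G] [AddCommGroup R] [Module A R]
    [AddCommGroup L] [Module A L] [AddCommGroup N] [Module A N]
    (ι : K →ₗ[A] F) (f : F →ₗ[A] G) (j : R →ₗ[A] L) (π : L →ₗ[A] N)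
    (hιf : Function.Exact ι f) (hf : Function.Surjective f)
    (hjπ : Function.Exact j π) (hπ : Function.Surjective π)
    (injKL : Function.Injective (ι.rTensor L)) (injGR : Function.Injective (j.lTensor G)) :
    Function.Injective (ι.rTensor N) := by
  have colF : Function.Exact (j.lTensor F) (π.lTensor F) := lTensor_exact F hjπ hπ
  have rowR : Function.Exact (ι.rTensor R) (f.rTensor R) := rTensor_exact R hιf hf
  have surjK : Function.Surjective (π.lTensor K) := LinearMap.lTensor_surjective K hπ
  rw [injective_iff_map_eq_zero]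
  intro x hx
  obtain ⟨x', rfl⟩ := surjK x
  have h1 : (π.lTensor F) ((ι.rTensor L) x') = 0 := by
    rw [← LinearMap.comp_apply, LinearMap.lTensor_comp_rTensor, ← LinearMap.rTensor_comp_lTensor,
      LinearMap.comp_apply]
    exact hx
  obtain ⟨z, hz⟩ := (colF _).mp h1
  have hfι : f ∘ₗ ι = 0 := LinearMap.ext fun k => hιf.apply_apply_eq_zero k
  have hπj : π ∘ₗ j = 0 := LinearMap.ext fun r => hjπ.apply_apply_eq_zero r
  have h2 : (j.lTensor G) ((f.rTensor R) z) = 0 := by
    rw [← LinearMap.comp_apply, LinearMap.lTensor_comp_rTensor, ← LinearMap.rTensor_comp_lTensor,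
      LinearMap.comp_apply, hz, ← LinearMap.comp_apply, ← LinearMap.rTensor_comp, hfι,
      LinearMap.rTensor_zero, LinearMap.zero_apply]
  have h3 : (f.rTensor R) z = 0 := (injective_iff_map_eq_zero _).mp injGR _ h2
  obtain ⟨w, hw⟩ := (rowR _).mp h3
  have h4 : (ι.rTensor L) ((j.lTensor K) w) = (ι.rTensor L) x' := by
    rw [← LinearMap.comp_apply, LinearMap.rTensor_comp_lTensor, ← LinearMap.lTensor_comp_rTensor,
      LinearMap.comp_apply, hw, hz]
  have h5 : (j.lTensor K) w = x' := injKL h4
  rw [← h5, ← LinearMap.comp_apply, ← LinearMap.lTensor_comp, hπj, LinearMap.lTensor_zero,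
    LinearMap.zero_apply]

variable {F G : Type v} [AddCommGroup F] [Module A F] [AddCommGroup G] [Module A G]

/-- Purity: if `G = F/K` is flat then `K ⊗ N → F ⊗ N` is injective for every `N`. -/
theorem rTensor_subtype_ker_injective [Module.Flat A G] (f : F →ₗ[A] G)
    (hf : Function.Surjective f) (N : Type*) [AddCommGroup N] [Module A N] :
    Function.Injective ((LinearMap.ker f).subtype.rTensor N) := by
  let π : (N →₀ A) →ₗ[A] N := Finsupp.linearCombination A (id : N → N)
  have hπ : Function.Surjective π := Finsupp.linearCombination_id_surjective A N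
  have h1 : Function.Injective ((LinearMap.ker f).subtype.rTensor (N →₀ A)) :=
    Module.Flat.rTensor_preserves_injective_linearMap _ (Submodule.subtype_injective _)
  have h2 : Function.Injective ((LinearMap.ker π).subtype.lTensor G) :=
    Module.Flat.lTensor_preserves_injective_linearMap _ (Submodule.subtype_injective _)
  have key := rTensor_injective_of_exact (A := A) (K := LinearMap.ker f) (F := F) (G := G)
    (R := LinearMap.ker π) (L := N →₀ A) (N := N)
    (LinearMap.ker f).subtype f (LinearMap.ker π).subtype π
    (LinearMap.exact_subtype_ker_map f) hf (LinearMap.exact_subtype_ker_map π) hπ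
  exact key h1 h2

/-- The kernel of a surjection between flat modules is flat. -/
theorem flat_ker_of_surjective [Module.Flat A F] [Module.Flat A G] (f : F →ₗ[A] G)
    (hf : Function.Surjective f) : Module.Flat A (LinearMap.ker f) := by
  rw [Module.Flat.iff_lTensor_preserves_injective_linearMap]
  intro N N' _ _ _ _ g hg
  -- (ι ⊗ N') ∘ (K ⊗ g) = (F ⊗ g) ∘ (ι ⊗ N)
  have h1 : Function.Injective ((g.lTensor F) ∘ₗ ((LinearMap.ker f).subtype.rTensor N)) :=
    (Module.Flat.lTensor_preserves_injective_linearMap g hg).comp
      (rTensor_subtype_ker_injective f hf N)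
  rw [LinearMap.lTensor_comp_rTensor, ← LinearMap.rTensor_comp_lTensor] at h1
  exact Function.Injective.of_comp h1

end Groth.Agent.Lib.FlatKer
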