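/-
helper66: (1) coproducts of short exact sequences are short exact under AB4 (arbitrary colimit cofans);
(2) two-out-of-three for acyclicity in a short exact sequence of complexes.
-/
import Mathlib

universe v v' u u'
open CategoryTheory Limits

namespace Groth.Agent.Lib.SESAcyclic66

section pointwise
variable {A : Type u} [Category.{v} A] [Abelian A] {J : Type u'} [Category.{v'} J]

/-- exactness in a functor category can be checked pointwise -/
theorem exact_of_pointwise (S : ShortComplex (J ⥤ A))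
    (h : ∀ j, (S.map ((evaluation J A).obj j)).Exact) : S.Exact := by
  simp only [ShortComplex.exact_iff_isZero_homology] at h ⊢
  rw [IsZero.iff_id_eq_zero]
  ext j
  apply (IsZero.of_iso (h j) (S.mapHomologyIso ((evaluation J A).obj j)).symm).eq_of_src

end pointwise

section cofans
variable {A : Type u} [Category.{v} A] [Abelian A] {ι : Type u'}
  [HasColimitsOfShape (Discrete ι) A] [HasExactColimitsOfShape (Discrete ι) A]

/-- AB4: a coproduct of short exact sequences is short exact (for arbitrary colimit cofans). -/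
theorem shortExact_of_cofans {X₁ X₂ X₃ : ι → A} (f : ∀ i, X₁ i ⟶ X₂ i) (g : ∀ i, X₂ i ⟶ X₃ i)
    (w : ∀ i, f i ≫ g i = 0) (h : ∀ i, (ShortComplex.mk (f i) (g i) (w i)).ShortExact)
    {c₁ : Cofan X₁} {c₂ : Cofan X₂} {c₃ : Cofan X₃}
    (hc₁ : IsColimit c₁) (hc₂ : IsColimit c₂) (hc₃ : IsColimit c₃)
    (φ : c₁.pt ⟶ c₂.pt) (ψ : c₂.pt ⟶ c₃.pt)
    (hφ : ∀ i, c₁.inj i ≫ φ = f i ≫ c₂.inj i) (hψ : ∀ i, c₂.inj i ≫ ψ = g i ≫ c₃.inj i)
    (w' : φ ≫ ψ = 0) : (ShortComplex.mk φ ψ w').ShortExact := by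
  let S : ShortComplex (Discrete ι ⥤ A) :=
    ShortComplex.mk (Discrete.natTrans (F := Discrete.functor X₁) (G := Discrete.functor X₂)
        (fun i => f i.as))
      (Discrete.natTrans (F := Discrete.functor X₂) (G := Discrete.functor X₃) (fun i => g i.as))
      (by ext ⟨i⟩; exact w i)
  have hS : S.Exact := exact_of_pointwise S (fun ⟨i⟩ => (h i).exact)
  have hm : Mono S.f := by
    have : ∀ j, Mono (S.f.app j) := fun ⟨i⟩ => (h i).mono_f
    exact NatTrans.mono_of_mono_app _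
  have he : ∀ j, Epi (S.g.app j) := fun ⟨i⟩ => (h i).epi_g
  have hf' : ∀ j, c₁.ι.app j ≫ φ = S.f.app j ≫ c₂.ι.app j := fun ⟨i⟩ => hφ i
  have hg' : ∀ j, c₂.ι.app j ≫ ψ = S.g.app j ≫ c₃.ι.app j := fun ⟨i⟩ => hψ i
  have hmono : Mono φ := colim.map_mono' S.f hc₁ hc₂ φ hf'
  have hepi : Epi ψ := colim.map_epi' S.g c₂ hc₃ ψ hg'
  have hex := colim.exact_mapShortComplex (S := S) hS hc₁ hc₂ hc₃ φ ψ hf' hg'
  exact ShortComplex.ShortExact.mk' hex hmono hepi

end cofans

section twoOfThree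
variable {A : Type u} [Category.{v} A] [Abelian A] {ι : Type*} {c : ComplexShape ι}
  (S : ShortComplex (HomologicalComplex A c)) (hS : S.ShortExact)
include hS

theorem acyclic_X₂ (h₁ : ∀ i, IsZero (S.X₁.homology i)) (h₃ : ∀ i, IsZero (S.X₃.homology i)) :
    ∀ i, IsZero (S.X₂.homology i) := fun i =>
  (hS.homology_exact₂ i).isZero_of_both_isZero (h₁ i) (h₃ i)

theorem acyclic_X₃_up (h₁ : ∀ i, IsZero (S.X₁.homology i)) (h₂ : ∀ i, IsZero (S.X₂.homology i))
    (i j : ι) (hij : c.Rel i j) : IsZero (S.X₃.homology i) :=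
  (hS.homology_exact₃ i j hij).isZero_of_both_isZero (h₂ i) (h₁ j)

theorem acyclic_X₁_up (h₂ : ∀ i, IsZero (S.X₂.homology i)) (h₃ : ∀ i, IsZero (S.X₃.homology i))
    (i j : ι) (hij : c.Rel i j) : IsZero (S.X₁.homology j) :=
  (hS.homology_exact₁ i j hij).isZero_of_both_isZero (h₃ i) (h₂ j)

end twoOfThree

end Groth.Agent.Lib.SESAcyclic66
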