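import Groth.Agent.Lib.KFlat35
import Groth.Agent.Lib.SESAcyclic66
import Mathlib.RingTheory.Flat.Equalizer
import Mathlib.Algebra.Category.ModuleCat.AB

/-!
# K-flat complexes of modules in short exact sequences (helper35)

`tensorObj F -` applied to a short exact sequence of complexes with termwise flat third term is
short exact (after helper66's `ModSiteKFlatSES66`), and the resulting two-out-of-three property for
K-flatness.
-/

set_option autoImplicit false

universe u

namespace Groth.Agent.Lib.KFlatSES35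

open CategoryTheory CategoryTheory.Limits MonoidalCategory HomologicalComplex
open Groth.Agent.Lib.KFlat35

variable {R : Type u} [CommRing R]

/-- AB4 for coproducts indexed by types in universe 0. -/
theorem ab4 (I : Type) : HasExactColimitsOfShape (Discrete I) (ModuleCat.{u} R) := by
  have : HasExactColimitsOfShape (Discrete (ULift.{u} I)) (ModuleCat.{u} R) := inferInstance
  exact HasExactColimitsOfShape.of_domain_equivalence (ModuleCat.{u} R)
    (Discrete.equivalence (Equiv.ulift.{u, 0} : ULift.{u} I ≃ I))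

/-- `G ⊗ -` applied to a short exact sequence with flat cokernel is short exact. -/
theorem shortExact_map_of_flat (S : ShortComplex (ModuleCat.{u} R)) (hS : S.ShortExact)
    (hF : Module.Flat R S.X₃) (G : ModuleCat.{u} R) :
    (S.map ((curriedTensor (ModuleCat.{u} R)).obj G)).ShortExact := by
  have hex : Function.Exact S.f.hom S.g.hom :=
    (ShortComplex.ShortExact.moduleCat_exact_iff_function_exact S).1 hS.exact
  have hinj : Function.Injective S.f.hom := (ModuleCat.mono_iff_injective S.f).1 hS.mono_f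
  have hsurj : Function.Surjective S.g.hom := (ModuleCat.epi_iff_surjective S.g).1 hS.epi_g
  refine ShortComplex.ShortExact.mk' ?_ ?_ ?_
  · rw [ShortComplex.ShortExact.moduleCat_exact_iff_function_exact]
    change Function.Exact (G ◁ S.f).hom (G ◁ S.g).hom
    rw [ModuleCat.hom_whiskerLeft, ModuleCat.hom_whiskerLeft]
    exact lTensor_exact G hex hsurj
  · rw [ModuleCat.mono_iff_injective]
    change Function.Injective (G ◁ S.f).hom
    rw [ModuleCat.hom_whiskerLeft]
    exact LinearMap.lTensor_injective_of_exact_of_flat S.g.hom hsurj S.f.hom hinj hex G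
  · rw [ModuleCat.epi_iff_surjective]
    change Function.Surjective (G ◁ S.g).hom
    rw [ModuleCat.hom_whiskerLeft]
    exact LinearMap.lTensor_surjective G hsurj

lemma whiskerLeft_zero' (F K L : CochainComplex (ModuleCat.{u} R) ℤ) :
    F ◁ (0 : K ⟶ L) = 0 := by
  refine HomologicalComplex.hom_ext _ _ (fun n => ?_)
  apply HomologicalComplex.mapBifunctor.hom_ext
  intro p q h
  have := HomologicalComplex.ι_mapBifunctorMap (𝟙 F) (0 : K ⟶ L) (curriedTensor (ModuleCat.{u} R))
    (ComplexShape.up ℤ) p q n h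
  refine this.trans ?_
  simp only [HomologicalComplex.zero_f, Functor.map_zero, zero_comp, comp_zero]

/-- `F ⊗ -` applied to a short exact sequence of complexes whose third term is termwise flat is
short exact. -/
theorem tensorLeft_shortExact (F : CochainComplex (ModuleCat.{u} R) ℤ)
    (S : ShortComplex (CochainComplex (ModuleCat.{u} R) ℤ)) (hS : S.ShortExact)
    (h3 : ∀ n : ℤ, Module.Flat R (S.X₃.X n)) :
    (ShortComplex.mk (F ◁ S.f) (F ◁ S.g)
      (by rw [← MonoidalCategory.whiskerLeft_comp, S.zero, whiskerLeft_zero'])).ShortExact := by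
  apply HomologicalComplex.shortExact_of_degreewise_shortExact
  intro n
  have := ab4 (R := R)
    ((ComplexShape.π (ComplexShape.up ℤ) (ComplexShape.up ℤ) (ComplexShape.up ℤ)) ⁻¹' {n})
  have hq : ∀ q : ℤ, (S.map (HomologicalComplex.eval _ _ q)).ShortExact := fun q =>
    (HomologicalComplex.shortExact_iff_degreewise_shortExact S).1 hS q
  refine Groth.Agent.Lib.SESAcyclic66.shortExact_of_cofans
    (ι := (ComplexShape.π (ComplexShape.up ℤ) (ComplexShape.up ℤ) (ComplexShape.up ℤ)) ⁻¹' {n})
    (X₁ := fun i => ((curriedTensor (ModuleCat.{u} R)).obj (F.X i.1.1)).obj (S.X₁.X i.1.2))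
    (X₂ := fun i => ((curriedTensor (ModuleCat.{u} R)).obj (F.X i.1.1)).obj (S.X₂.X i.1.2))
    (X₃ := fun i => ((curriedTensor (ModuleCat.{u} R)).obj (F.X i.1.1)).obj (S.X₃.X i.1.2))
    (fun i => ((curriedTensor (ModuleCat.{u} R)).obj (F.X i.1.1)).map (S.f.f i.1.2))
    (fun i => ((curriedTensor (ModuleCat.{u} R)).obj (F.X i.1.1)).map (S.g.f i.1.2))
    (fun i => ((S.map (HomologicalComplex.eval _ _ i.1.2)).map
      ((curriedTensor (ModuleCat.{u} R)).obj (F.X i.1.1))).zero)
    (fun i => shortExact_map_of_flat _ (hq i.1.2) (h3 i.1.2) (F.X i.1.1))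
    (GradedObject.isColimitCofanMapObj
      ((((curriedTensor (ModuleCat.{u} R)).mapBifunctorHomologicalComplex _ _).obj F).obj
        S.X₁).toGradedObject
      (ComplexShape.π (ComplexShape.up ℤ) (ComplexShape.up ℤ) (ComplexShape.up ℤ)) n)
    (GradedObject.isColimitCofanMapObj
      ((((curriedTensor (ModuleCat.{u} R)).mapBifunctorHomologicalComplex _ _).obj F).obj
        S.X₂).toGradedObject
      (ComplexShape.π (ComplexShape.up ℤ) (ComplexShape.up ℤ) (ComplexShape.up ℤ)) n)
    (GradedObject.isColimitCofanMapObj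
      ((((curriedTensor (ModuleCat.{u} R)).mapBifunctorHomologicalComplex _ _).obj F).obj
        S.X₃).toGradedObject
      (ComplexShape.π (ComplexShape.up ℤ) (ComplexShape.up ℤ) (ComplexShape.up ℤ)) n) _ _ ?_ ?_ _
  · rintro ⟨⟨p, q⟩, h⟩
    have h' : (ComplexShape.up ℤ).π (ComplexShape.up ℤ) (ComplexShape.up ℤ) (p, q) = n := h
    have := HomologicalComplex.ι_mapBifunctorMap (𝟙 F) S.f (curriedTensor (ModuleCat.{u} R))
      (ComplexShape.up ℤ) p q n h'
    refine this.trans ?_
    rw [HomologicalComplex.id_f, CategoryTheory.Functor.map_id, NatTrans.id_app, Category.id_comp]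
    rfl
  · rintro ⟨⟨p, q⟩, h⟩
    have h' : (ComplexShape.up ℤ).π (ComplexShape.up ℤ) (ComplexShape.up ℤ) (p, q) = n := h
    have := HomologicalComplex.ι_mapBifunctorMap (𝟙 F) S.g (curriedTensor (ModuleCat.{u} R))
      (ComplexShape.up ℤ) p q n h'
    refine this.trans ?_
    rw [HomologicalComplex.id_f, CategoryTheory.Functor.map_id, NatTrans.id_app, Category.id_comp]
    rfl

section TwoOfThree

variable (S : ShortComplex (CochainComplex (ModuleCat.{u} R) ℤ)) (hS : S.ShortExact)
  (h3 : ∀ n : ℤ, Module.Flat R (S.X₃.X n))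
include hS h3

theorem isKFlat_X₃ (h1 : IsKFlat S.X₁) (h2 : IsKFlat S.X₂) : IsKFlat S.X₃ := by
  intro L hL
  rw [acyclic_iff_isZero_homology]
  intro i
  exact Groth.Agent.Lib.SESAcyclic66.acyclic_X₃_up _ (tensorLeft_shortExact L S hS h3)
    ((acyclic_iff_isZero_homology _).1 (h1 L hL)) ((acyclic_iff_isZero_homology _).1 (h2 L hL))
    i (i + 1) rfl

theorem isKFlat_X₂ (h1 : IsKFlat S.X₁) (h3' : IsKFlat S.X₃) : IsKFlat S.X₂ := by
  intro L hL
  rw [acyclic_iff_isZero_homology]
  exact Groth.Agent.Lib.SESAcyclic66.acyclic_X₂ _ (tensorLeft_shortExact L S hS h3)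
    ((acyclic_iff_isZero_homology _).1 (h1 L hL)) ((acyclic_iff_isZero_homology _).1 (h3' L hL))

theorem isKFlat_X₁ (h2 : IsKFlat S.X₂) (h3' : IsKFlat S.X₃) : IsKFlat S.X₁ := by
  intro L hL
  rw [acyclic_iff_isZero_homology]
  intro i
  have := Groth.Agent.Lib.SESAcyclic66.acyclic_X₁_up _ (tensorLeft_shortExact L S hS h3)
    ((acyclic_iff_isZero_homology _).1 (h2 L hL)) ((acyclic_iff_isZero_homology _).1 (h3' L hL))
    (i - 1) i (by simp)
  exact this

end TwoOfThree

end Groth.Agent.Lib.KFlatSES35
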