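import Groth.Agent.Lib.LDerivedGen
import Groth.Prelude.Def_DRing4
import Mathlib.Algebra.Homology.BifunctorHomotopy

/-!
# `K ⊗^L E` (derived tensor product with a complex) on K-projective complexes

For a commutative ring `A`, a complex `E` with `[DRing.HasLTensorCx A E]` and a K-projective complex `P`:
`ltcIso A E P : (DRing.LTensorCx A E).obj (Q.obj P) ≅ Q.obj (P ⊗ E)` (the counit of the abstract total left derived
functor), natural in `P` for chain maps between K-projective complexes (`ltcIso_hom_naturality`).  No hypothesis on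
`E` at all.
-/

set_option autoImplicit false
universe u

open CategoryTheory CategoryTheory.Limits Category MonoidalCategory

attribute [local instance] HasDerivedCategory.standard

namespace Groth.Agent.Lib.LTensorCxKProj

open DerivedCategory

variable (A : Type u) [CommRing A] (E : DRing.Cx A)

/-- `- ⊗ E` identifies homotopic maps after passing to `D(A)`. -/
lemma tensorCxQ_map_eq_of_homotopy {X Y : DRing.Cx A} (f g : X ⟶ Y) (h : Homotopy f g) :
    (DRing.tensorCxQ A E).map f = (DRing.tensorCxQ A E).map g := by
  have h' : Homotopy (f ▷ E) (g ▷ E) :=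
    HomologicalComplex.mapBifunctorMapHomotopy₁ h (𝟙 E) (curriedTensor (ModuleCat.{u} A))
      (ComplexShape.up ℤ)
  exact DerivedCategory.Q_map_eq_of_homotopy _ h'

variable [DRing.HasLTensorCx A E]

/-- The counit of the abstract derived tensor product. -/
noncomputable abbrev counit : Q ⋙ DRing.LTensorCx A E ⟶ DRing.tensorCxQ A E :=
  (DRing.tensorCxQ A E).totalLeftDerivedCounit Q
    (HomologicalComplex.quasiIso (ModuleCat.{u} A) (ComplexShape.up ℤ))

instance : (DRing.LTensorCx A E).IsRightKanExtension (counit A E) :=
  Functor.IsLeftDerivedFunctor.isRightKanExtension _ _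
    (HomologicalComplex.quasiIso (ModuleCat.{u} A) (ComplexShape.up ℤ))

theorem isIso_counit_app (P : DRing.Cx A) [P.IsKProjective] : IsIso ((counit A E).app P) :=
  Groth.Agent.Lib.LDerivedGen.isIso_counit_app (DRing.tensorCxQ A E)
    (fun f g h => tensorCxQ_map_eq_of_homotopy A E f g h) (DRing.LTensorCx A E) (counit A E) P

/-- `K ⊗^L E` for `K` the class of a K-projective complex `P` is the class of `P ⊗ E`. -/
noncomputable def ltcIso (P : DRing.Cx A) [P.IsKProjective] :
    (DRing.LTensorCx A E).obj (Q.obj P) ≅ Q.obj (P ⊗ E) :=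
  have := isIso_counit_app A E P
  asIso ((counit A E).app P)

lemma ltcIso_hom_naturality {P₀ P₁ : DRing.Cx A} [P₀.IsKProjective] [P₁.IsKProjective]
    (f : P₀ ⟶ P₁) :
    (DRing.LTensorCx A E).map (Q.map f) ≫ (ltcIso A E P₁).hom =
      (ltcIso A E P₀).hom ≫ Q.map (f ▷ E) :=
  (counit A E).naturality f

end Groth.Agent.Lib.LTensorCxKProj
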