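import Groth.Agent.Lib.DTenMix35
import Groth.Agent.Lib.LTensorCxKProj
import Groth.Agent.Lib.FlatKer
import Groth.Agent.Lib.KFlatSES35
import Groth.Prelude.Def_DRing4

/-!
# Tor amplitude `≥ a` and K-flat representatives (helper35)
-/

set_option autoImplicit false
universe u

open CategoryTheory CategoryTheory.Limits Category MonoidalCategory

attribute [local instance] HasDerivedCategory.standard

namespace Groth.Agent.Lib.TorAmpKFlat35

open DerivedCategory Groth.Agent.Lib.KFlat35 Groth.Agent.Lib.TensorCxZ35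
  Groth.Agent.Lib.TensorCxPure35 HomologicalComplex Groth.Agent.Lib.DTenBaseFlat35

section Single

variable {R : Type u} [CommRing R] (M : ModuleCat.{u} R) (C : CochainComplex (ModuleCat.{u} R) ℤ)

lemma eq_zero_of_isZero_right' (X Z : ModuleCat.{u} R) (hZ : IsZero Z)
    (x : (X ⊗ Z : ModuleCat.{u} R)) : x = 0 := by
  haveI : Subsingleton Z := ModuleCat.subsingleton_of_isZero hZ
  have key : ∀ y : TensorProduct R X Z, y = 0 := by
    intro y
    induction y using TensorProduct.induction_on with
    | zero => rfl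
    | tmul m n => rw [Subsingleton.elim n 0, TensorProduct.tmul_zero]
    | add a b ha hb => rw [ha, hb, add_zero]
  exact key x

/-- `M[0]` -/
noncomputable abbrev sg : CochainComplex (ModuleCat.{u} R) ℤ :=
  (single (ModuleCat.{u} R) (ComplexShape.up ℤ) 0).obj M

lemma isZero_sg_X (i : ℤ) (hi : i ≠ 0) : IsZero ((sg M).X i) :=
  isZero_single_obj_X (ComplexShape.up ℤ) 0 M i hi

/-- every element of `(M[0] ⊗ C)ᵐ` comes from the summand `(0, m)` -/
lemma dec (m : ℤ) (v : (HomologicalComplex.tensorObj (sg M) C).X m) :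
    v = (ι (sg M) C 0 m m (zero_add m)).hom ((pr (sg M) C 0 m m (zero_add m)).hom v) := by
  rw [← sub_eq_zero]
  refine eq_zero_of_pr_eq_zero _ (fun i j hij => ?_)
  by_cases hi : i = 0
  · subst hi
    obtain rfl : j = m := by omega
    rw [map_sub, pr_ι_apply, sub_self]
  · exact eq_zero_of_isZero_left _ _ (isZero_sg_X M i hi) _

lemma isZero_tensor_X (m : ℤ) (h : IsZero (C.X m)) :
    IsZero ((HomologicalComplex.tensorObj (sg M) C).X m) := by
  haveI : Subsingleton ((HomologicalComplex.tensorObj (sg M) C).X m) := by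
    refine ⟨fun v w => ?_⟩
    rw [dec M C m v, dec M C m w]
    congr 1
    exact (eq_zero_of_isZero_right' _ _ h _).trans (eq_zero_of_isZero_right' _ _ h _).symm
  exact ModuleCat.isZero_of_subsingleton _

/-- If `M[0] ⊗ C` is exact in degree `n + 1`, then `M ⊗ C^•` is exact in degree `n + 1`. -/
theorem exact_whiskerLeft_of_exact (n : ℤ)
    (H : Function.Exact ((HomologicalComplex.tensorObj (sg M) C).d n (n + 1)).hom
      ((HomologicalComplex.tensorObj (sg M) C).d (n + 1) (n + 1 + 1)).hom) :
    Function.Exact (M ◁ C.d n (n + 1)).hom (M ◁ C.d (n + 1) (n + 1 + 1)).hom := by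
  set S := sg M with hS
  let e : S.X 0 ≅ M := singleObjXSelf (ComplexShape.up ℤ) 0 M
  have hS0 : ∀ i : ℤ, i ≠ 0 → IsZero (S.X i) := isZero_sg_X M
  intro z
  constructor
  · intro hz
    set z' : (S.X 0 ⊗ C.X (n + 1) : ModuleCat.{u} R) := (e.inv ▷ C.X (n + 1)).hom z with hz'
    have hz'0 : (S.X 0 ◁ C.d (n + 1) (n + 1 + 1)).hom z' = 0 := by
      have := whisker_exchange_apply' e.inv (C.d (n + 1) (n + 1 + 1)) z
      rw [hz']
      rw [← this, hz, map_zero]
    have hw : ((HomologicalComplex.tensorObj S C).d (n + 1) (n + 1 + 1)).hom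
        ((ι S C 0 (n + 1) (n + 1) (zero_add _)).hom z') = 0 := by
      rw [d_ι_apply, hz'0, map_zero, smul_zero, add_zero]
      rw [eq_zero_of_isZero_left _ _ (hS0 (0 + 1) (by omega))
        ((S.d 0 (0 + 1) ▷ C.X (n + 1)).hom z'), map_zero]
    obtain ⟨v, hv⟩ := (H _).1 hw
    set v₀ := (pr S C 0 n n (zero_add n)).hom v with hv₀
    rw [dec M C n v, d_ι_apply] at hv
    have hv' := congrArg (pr S C 0 (n + 1) (n + 1) (zero_add _)).hom hv
    rw [map_add, pr_ι_apply_ne S C 0 (n + 1) (0 + 1) n (n + 1) (zero_add _) (by omega) (by omega),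
      zero_add, pr_ι_apply] at hv'
    simp only [Int.negOnePow_zero, one_smul] at hv'
    have hv'' : (S.X 0 ◁ C.d n (n + 1)).hom v₀ = z' := by
      rw [← hv']
      exact (pr_ι_apply S C 0 (n + 1) (n + 1) (zero_add _) _).symm
    refine ⟨(e.hom ▷ C.X n).hom v₀, ?_⟩
    have h1 := whisker_exchange_apply' e.hom (C.d n (n + 1)) v₀
    rw [← h1, hv'', hz']
    have h2 : (e.inv ▷ C.X (n + 1)) ≫ (e.hom ▷ C.X (n + 1)) = 𝟙 _ := by
      rw [← comp_whiskerRight, e.inv_hom_id, id_whiskerRight]
    exact congrArg (fun f => f.hom z) h2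
  · rintro ⟨w, rfl⟩
    have h2 : (M ◁ C.d n (n + 1)) ≫ (M ◁ C.d (n + 1) (n + 1 + 1)) = 0 := by
      rw [← MonoidalCategory.whiskerLeft_comp, C.d_comp_d, MonoidalPreadditive.whiskerLeft_zero]
    exact congrArg (fun f => f.hom w) h2

/-- homology vanishing version -/
theorem exact_whiskerLeft_of_isZero_homology (n : ℤ)
    (h : IsZero ((HomologicalComplex.tensorObj (sg M) C).homology (n + 1))) :
    Function.Exact (M ◁ C.d n (n + 1)).hom (M ◁ C.d (n + 1) (n + 1 + 1)).hom := by
  apply exact_whiskerLeft_of_exact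
  have h1 : (HomologicalComplex.tensorObj (sg M) C).ExactAt (n + 1) :=
    (HomologicalComplex.exactAt_iff_isZero_homology _ _).2 h
  have := ((HomologicalComplex.tensorObj (sg M) C).exactAt_iff' n (n + 1) (n + 1 + 1)
    (by simp) (by simp)).1 h1
  exact (ShortComplex.ShortExact.moduleCat_exact_iff_function_exact _).1 this

end Single

section Pure

open TensorProduct LinearMap

variable {R : Type u} [CommRing R] {F Z B : Type u} [AddCommGroup F] [Module R F]
  [AddCommGroup Z] [Module R Z] [AddCommGroup B] [Module R B]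

lemma comm_sq {M N P Q : Type*} [AddCommGroup M] [Module R M] [AddCommGroup N] [Module R N]
    [AddCommGroup P] [Module R P] [AddCommGroup Q] [Module R Q]
    (f : M →ₗ[R] P) (g : N →ₗ[R] Q) (x : M ⊗[R] N) :
    f.rTensor Q (g.lTensor M x) = g.lTensor P (f.rTensor N x) := by
  have h1 := LinearMap.rTensor_comp_lTensor M f g
  have h2 := LinearMap.lTensor_comp_rTensor M f g
  exact (congrArg (fun h => h x) h1).trans (congrArg (fun h => h x) h2).symm

theorem flat_of_pure (j : B →ₗ[R] F) (q : F →ₗ[R] Z) (hex : Function.Exact j q)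
    (hq : Function.Surjective q) [Module.Flat R F]
    (hpure : ∀ I : Ideal R, Function.Injective (LinearMap.lTensor (R ⧸ I) j)) :
    Module.Flat R Z := by
  rw [Module.Flat.iff_rTensor_injective']
  intro I
  rw [injective_iff_map_eq_zero]
  intro x hx
  obtain ⟨y, rfl⟩ := LinearMap.lTensor_surjective I hq x
  have h2 : q.lTensor R (I.subtype.rTensor F y) = 0 := by
    rw [← comm_sq]; exact hx
  obtain ⟨b, hb⟩ := (lTensor_exact R hex hq _).1 h2
  have h3 : j.lTensor (R ⧸ I) (I.mkQ.rTensor B b) = 0 := by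
    rw [← comm_sq, hb, ← LinearMap.rTensor_comp_apply]
    have : I.mkQ ∘ₗ I.subtype = 0 := by
      ext ⟨a, ha⟩
      simpa using (Submodule.Quotient.mk_eq_zero I).2 ha
    rw [this, LinearMap.rTensor_zero, LinearMap.zero_apply]
  have h4 : I.mkQ.rTensor B b = 0 := (injective_iff_map_eq_zero _).1 (hpure I) _ h3
  obtain ⟨b', hb'⟩ := (rTensor_exact B (LinearMap.exact_subtype_mkQ I)
    (Submodule.mkQ_surjective I) _).1 h4
  have h5 : j.lTensor I b' = y := by
    apply Module.Flat.rTensor_preserves_injective_linearMap (M := F) I.subtype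
      Subtype.val_injective
    rw [comm_sq, hb', hb]
  rw [← h5, ← LinearMap.lTensor_comp_apply]
  have : q ∘ₗ j = 0 := by
    ext z
    exact hex.apply_apply_eq_zero z
  rw [this, LinearMap.lTensor_zero, LinearMap.zero_apply]

end Pure

section TruncAPI

variable {C : Type*} [Category C] [Abelian C]

set_option backward.isDefEq.respectTransparency false in
/-- At the boundary degree, `πTruncGE` is `pOpcycles` followed by an isomorphism. -/
lemma exists_πTruncGE_f_eq (K : CochainComplex C ℤ) (n : ℤ) :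
    ∃ γ : K.opcycles n ≅ (K.truncGE n).X n, (K.πTruncGE n).f n = K.pOpcycles n ≫ γ.hom := by
  have hi' : (ComplexShape.embeddingUpIntGE n).f 0 = n := by simp
  have hb : (ComplexShape.embeddingUpIntGE n).BoundaryGE 0 := by
    rw [ComplexShape.boundaryGE_embeddingUpIntGE_iff]
  refine ⟨(K.truncGE'XIsoOpcycles (ComplexShape.embeddingUpIntGE n) hi' hb).symm ≪≫
    ((K.truncGE' (ComplexShape.embeddingUpIntGE n)).extendXIso
      (ComplexShape.embeddingUpIntGE n) hi').symm, ?_⟩
  dsimp [CochainComplex.πTruncGE, HomologicalComplex.πTruncGE]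
  rw [(ComplexShape.embeddingUpIntGE n).liftExtend_f _ _ hi',
    K.restrictionToTruncGE'_f_eq_iso_hom_pOpcycles_iso_inv _ hi' hb]
  simp

lemma isIso_πTruncGE_f_int (K : CochainComplex C ℤ) (n i : ℤ) (hi : n < i) :
    IsIso ((K.πTruncGE n).f i) := by
  obtain ⟨k, hk⟩ : ∃ k : ℕ, n + k = i := ⟨(i - n).toNat, by omega⟩
  have := Groth.Agent.Lib.TensorCxPure35.isIso_πTruncGE_f K (ComplexShape.embeddingUpIntGE n) k (by
    rw [ComplexShape.boundaryGE_embeddingUpIntGE_iff]; omega)
  subst hk
  exact this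

end TruncAPI

section Trunc

open TensorProduct LinearMap

variable {R : Type u} [CommRing R] (F : DRing.Cx R) (n : ℤ)

/-- purity of the boundaries in degree `n + 2` when `M ⊗ F` is exact in degree `n + 1` -/
lemma lTensor_range_subtype_injective (M : Type u) [AddCommGroup M] [Module R M]
    (hex : Function.Exact ((F.d n (n + 1)).hom.lTensor M)
      ((F.d (n + 1) (n + 1 + 1)).hom.lTensor M)) :
    Function.Injective ((LinearMap.range (F.d (n + 1) (n + 1 + 1)).hom).subtype.lTensor M) := by
  set d1 := (F.d n (n + 1)).hom with hd1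
  set d2 := (F.d (n + 1) (n + 1 + 1)).hom with hd2
  have h21 : d2 ∘ₗ d1 = 0 := by
    have := F.d_comp_d n (n + 1) (n + 1 + 1)
    rw [hd1, hd2, ← ModuleCat.hom_comp, this]
    rfl
  have he : d2.rangeRestrict ∘ₗ d1 = 0 := by
    apply LinearMap.ext
    intro x
    apply Subtype.ext
    exact congrArg (fun f => f x) h21
  rw [injective_iff_map_eq_zero]
  intro x hx
  obtain ⟨y, rfl⟩ := LinearMap.lTensor_surjective M d2.surjective_rangeRestrict x
  rw [← LinearMap.lTensor_comp_apply] at hx
  have hs : (LinearMap.range d2).subtype ∘ₗ d2.rangeRestrict = d2 := LinearMap.ext (fun _ => rfl)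
  rw [hs] at hx
  obtain ⟨w, rfl⟩ := (hex y).1 hx
  rw [← LinearMap.lTensor_comp_apply, he, LinearMap.lTensor_zero, LinearMap.zero_apply]

lemma exact_d_pOpcycles (i j : ℤ) (hij : i + 1 = j) :
    Function.Exact (F.d i j).hom (F.pOpcycles j).hom := by
  have hprev : (ComplexShape.up ℤ).prev j = i := by
    rw [CochainComplex.prev]; omega
  have h := (ShortComplex.mk (F.d i j) (F.pOpcycles j) (F.d_pOpcycles i j)).exact_of_g_is_cokernel
    (F.opcyclesIsCokernel i j hprev)
  exact (ShortComplex.ShortExact.moduleCat_exact_iff_function_exact _).1 h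

lemma surjective_pOpcycles (j : ℤ) : Function.Surjective (F.pOpcycles j).hom :=
  (ModuleCat.epi_iff_surjective _).1 inferInstance

/-- The cokernel of `F^{n+1} → F^{n+2}` is flat if `F^{n+2}` is flat and `R/I ⊗ F` is exact in degree
`n + 1` for all ideals `I`. -/
theorem flat_opcycles [Module.Flat R (F.X (n + 1 + 1))]
    (hex : ∀ I : Ideal R, Function.Exact ((F.d n (n + 1)).hom.lTensor (R ⧸ I))
      ((F.d (n + 1) (n + 1 + 1)).hom.lTensor (R ⧸ I))) :
    Module.Flat R (F.opcycles (n + 1 + 1)) := by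
  refine flat_of_pure (LinearMap.range (F.d (n + 1) (n + 1 + 1)).hom).subtype
    (F.pOpcycles (n + 1 + 1)).hom ?_ (surjective_pOpcycles F _)
    (fun I => lTensor_range_subtype_injective F n (R ⧸ I) (hex I))
  intro y
  rw [(exact_d_pOpcycles F (n + 1) (n + 1 + 1) rfl) y]
  constructor
  · rintro ⟨x, rfl⟩
    exact ⟨⟨_, x, rfl⟩, rfl⟩
  · rintro ⟨⟨_, x, rfl⟩, rfl⟩
    exact ⟨x, rfl⟩

end Trunc

section Main

variable {R : Type u} [CommRing R]

/-- A bounded above complex with flat terms is K-flat. -/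
theorem isKFlat_of_flat_of_bddAbove (G : DRing.Cx R) (hfl : ∀ i, Module.Flat R (G.X i)) (b : ℤ)
    (hb : ∀ i, b < i → IsZero (G.X i)) : IsKFlat G := by
  intro L hL
  exact acyclic_of_iso (DTen.braidCx G L) (acyclic_tensorObj_of_flat G L hfl b hb hL)

lemma flat_of_isZero (X : ModuleCat.{u} R) (h : IsZero X) : Module.Flat R X := by
  haveI : Subsingleton X := ModuleCat.subsingleton_of_isZero h
  exact Module.Flat.of_linearEquiv (M := PUnit.{u + 1}) (R := R)
    { toFun := fun _ => PUnit.unit
      invFun := fun _ => 0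
      map_add' := fun _ _ => rfl
      map_smul' := fun _ _ => rfl
      left_inv := fun _ => Subsingleton.elim _ _
      right_inv := fun _ => rfl }

theorem exists_truncated_rep (F : DRing.Cx R) (hF : IsKFlat F) (hfl : ∀ i, Module.Flat R (F.X i))
    (n : ℤ)
    (hex : ∀ (M : ModuleCat.{u} R) (i : ℤ), i < n + 1 + 1 →
      IsZero ((HomologicalComplex.tensorObj (sg M) F).homology i)) :
    ∃ E : DRing.Cx R, IsKFlat E ∧ (∀ i, Module.Flat R (E.X i)) ∧
      (∀ i, i < n + 1 + 1 → IsZero (E.X i)) ∧ Nonempty (Q.obj E ≅ Q.obj F) := by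
  -- `F` is exact below `n + 2`
  have hGE : F.IsGE (n + 1 + 1) := by
    rw [CochainComplex.isGE_iff]
    intro i hi
    rw [HomologicalComplex.exactAt_iff_isZero_homology]
    exact (hex (𝟙_ (ModuleCat.{u} R)) i hi).of_iso
      ((HomologicalComplex.homologyFunctor _ _ i).mapIso (λ_ F)).symm
  haveI := hGE
  let E := F.truncGE (n + 1 + 1)
  let π : F ⟶ E := F.πTruncGE (n + 1 + 1)
  have hz : ∀ i, i < n + 1 + 1 → IsZero (E.X i) := fun i hi =>
    CochainComplex.isZero_of_isStrictlyGE E (n + 1 + 1) i hi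
  have hiso : ∀ i, n + 1 + 1 < i → IsIso (π.f i) := fun i hi =>
    isIso_πTruncGE_f_int F (n + 1 + 1) i hi
  -- flat terms
  have hEfl : ∀ i, Module.Flat R (E.X i) := by
    intro i
    rcases lt_trichotomy i (n + 1 + 1) with hi | hi | hi
    · exact flat_of_isZero _ (hz i hi)
    · subst hi
      obtain ⟨γ, -⟩ := exists_πTruncGE_f_eq F (n + 1 + 1)
      haveI := hfl (n + 1 + 1)
      haveI : Module.Flat R (F.opcycles (n + 1 + 1)) := by
        refine flat_opcycles F n (fun I => ?_)
        exact exact_whiskerLeft_of_isZero_homology (ModuleCat.of R (R ⧸ I)) F n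
          (hex _ (n + 1) (by omega))
      exact Module.Flat.of_linearEquiv γ.symm.toLinearEquiv
    · haveI := hiso i hi
      haveI := hfl i
      exact Module.Flat.of_linearEquiv (asIso (π.f i)).symm.toLinearEquiv
  refine ⟨E, ?_, hEfl, hz, ⟨(asIso (Q.map π)).symm⟩⟩
  -- K-flatness through the short exact sequence `0 → ker π → F → E → 0`
  let S : ShortComplex (CochainComplex (ModuleCat.{u} R) ℤ) :=
    ShortComplex.mk (kernel.ι π) π (kernel.condition π)
  have hS : S.ShortExact :=
    { exact := ShortComplex.exact_of_f_is_kernel S (kernelIsKernel π)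
      mono_f := inferInstanceAs (Mono (kernel.ι π))
      epi_g := by
        change Epi (HomologicalComplex.πTruncGE F (ComplexShape.embeddingUpIntGE (n + 1 + 1)))
        infer_instance }
  have hq : ∀ q : ℤ, (S.map (HomologicalComplex.eval _ _ q)).ShortExact := fun q =>
    (HomologicalComplex.shortExact_iff_degreewise_shortExact S).1 hS q
  -- the kernel is bounded above with flat terms
  have hK1 : ∀ i, n + 1 + 1 < i → IsZero ((kernel π).X i) := by
    intro i hi
    have hm : Mono (S.map (HomologicalComplex.eval _ _ i)).f := (hq i).mono_f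
    have h0 : (S.map (HomologicalComplex.eval _ _ i)).f = 0 := by
      have hzero := (S.map (HomologicalComplex.eval _ _ i)).zero
      have hI : IsIso (S.map (HomologicalComplex.eval _ _ i)).g := hiso i hi
      rw [← cancel_mono (S.map (HomologicalComplex.eval _ _ i)).g, hzero, zero_comp]
    rw [IsZero.iff_id_eq_zero]
    apply (cancel_mono (S.map (HomologicalComplex.eval _ _ i)).f).1
    rw [h0, comp_zero, comp_zero]
  have hK2 : ∀ i, Module.Flat R ((kernel π).X i) := by
    intro i
    haveI : Module.Flat R (S.map (HomologicalComplex.eval _ _ i)).X₂ := hfl i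
    haveI : Module.Flat R (S.map (HomologicalComplex.eval _ _ i)).X₃ := hEfl i
    have hex' := (ShortComplex.ShortExact.moduleCat_exact_iff_function_exact _).1 (hq i).exact
    have hinj : Function.Injective (S.map (HomologicalComplex.eval _ _ i)).f.hom :=
      (ModuleCat.mono_iff_injective _).1 (hq i).mono_f
    have hsurj : Function.Surjective (S.map (HomologicalComplex.eval _ _ i)).g.hom :=
      (ModuleCat.epi_iff_surjective _).1 (hq i).epi_g
    have hfk := Groth.Agent.Lib.FlatKer.flat_ker_of_surjective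
      (S.map (HomologicalComplex.eval _ _ i)).g.hom hsurj
    -- `(kernel π).X i ≃ ker`
    let e : (kernel π).X i ≃ₗ[R] LinearMap.ker (S.map (HomologicalComplex.eval _ _ i)).g.hom :=
      LinearEquiv.ofBijective
        (LinearMap.codRestrict _ (S.map (HomologicalComplex.eval _ _ i)).f.hom (fun x => by
          rw [LinearMap.mem_ker]
          exact (hex' _).2 ⟨x, rfl⟩))
        ⟨fun x y hxy => hinj (congrArg Subtype.val hxy), fun ⟨y, hy⟩ => by
          obtain ⟨x, hx⟩ := (hex' y).1 hy
          exact ⟨x, Subtype.ext hx⟩⟩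
    exact Module.Flat.of_linearEquiv e
  exact Groth.Agent.Lib.KFlatSES35.isKFlat_X₃ S hS hEfl
    (isKFlat_of_flat_of_bddAbove _ hK2 (n + 1 + 1) hK1) hF

end Main

section Value

variable {R : Type u} [CommRing R] (K : DRing.Cx R) [DRing.HasLTensorCx R K]

/-- The value of `- ⊗^L K` at the class of any complex `X`, computed through a K-flat complex `E`
isomorphic to `K` in the derived category. -/
theorem nonempty_iso_of_kflat_rep (E : DRing.Cx R) (hE : IsKFlat E) (e : Q.obj E ≅ Q.obj K)
    (X : DRing.Cx R) :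
    Nonempty ((DRing.LTensorCx R K).obj (Q.obj X) ≅ Q.obj (X ⊗ E)) := by
  obtain ⟨P, r, hP, hPf, -, hr, -⟩ :=
    Groth.Agent.Lib.SemiFreeKProj35.exists_kprojective_resolution X
  obtain ⟨PK, s, hPK, hPKf, -, hs, -⟩ :=
    Groth.Agent.Lib.SemiFreeKProj35.exists_kprojective_resolution K
  haveI := hP
  haveI := hPK
  haveI := hr
  haveI := hs
  obtain ⟨t, ht⟩ := Groth.Agent.Lib.DCopower.exists_Q_map_eq PK E (Q.map s ≫ e.inv)
  haveI : IsIso (Q.map t) := by
    rw [ht]
    infer_instance
  haveI : QuasiIso t := (DerivedCategory.isIso_Q_map_iff_quasiIso (φ := t)).1 inferInstance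
  haveI := Groth.Agent.Lib.DTenMix35.quasiIso_whiskerLeft_of_isKFlat' hPf s
  haveI := Groth.Agent.Lib.DTenMix35.quasiIso_whiskerLeft_of_isKFlat' hPf t
  haveI : QuasiIso (r ▷ E) := by
    have := quasiIso_tensorHom_right hE r
    exact this
  exact ⟨(DRing.LTensorCx R K).mapIso (asIso (Q.map r)).symm ≪≫
    Groth.Agent.Lib.LTensorCxKProj.ltcIso R K P ≪≫ (asIso (Q.map (P ◁ s))).symm ≪≫
    asIso (Q.map (P ◁ t)) ≪≫ asIso (Q.map (r ▷ E))⟩

/-- The cohomology of `X ⊗^L K` computed through a K-flat representative. -/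
theorem nonempty_homology_iso (E : DRing.Cx R) (hE : IsKFlat E) (e : Q.obj E ≅ Q.obj K)
    (X : DRing.Cx R) (i : ℤ) :
    Nonempty ((DerivedCategory.homologyFunctor (ModuleCat.{u} R) i).obj
      ((DRing.LTensorCx R K).obj (Q.obj X)) ≅ (X ⊗ E).homology i) := by
  obtain ⟨j⟩ := nonempty_iso_of_kflat_rep K E hE e X
  exact ⟨(DerivedCategory.homologyFunctor (ModuleCat.{u} R) i).mapIso j ≪≫
    (DerivedCategory.homologyFunctorFactors (ModuleCat.{u} R) i).app (X ⊗ E)⟩

end Value

end Groth.Agent.Lib.TorAmpKFlat35
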