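/-
helper11: derived direct image along affine morphisms on complexes of quasi-coherent modules (S7245):
`isZero_Rpush_of_affine`, `isIso_truncGE_map`, `qcoh_truncGE`, `prop_homology`, `isQCohD_Q_obj`,
`isIso_unit_of_qcoh`, `isIso_unit_of_affine`.
-/
import Groth.Agent.Lib.RpushQCohD11
import Groth.Agent.Lib.AcycHocolimMain31
import Groth.Agent.Lib.TorAmpKFlat35
import Groth.Agent.Lib.RpushQCoh
import Groth.Agent.Lib.AffMorAcyclic
import Groth.Agent.Lib.DWayOut
import Groth.Agent.S11319
import Groth.Agent.S0484

set_option autoImplicit false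
universe u
open CategoryTheory CategoryTheory.Limits AlgebraicGeometry TopologicalSpace

namespace Groth.Agent.Lib.AffinePushD11

attribute [local instance] HasDerivedCategory.standard

open Groth.Agent.Lib.QCohWeakSerre11 DerivedCategory

noncomputable local instance (X : Scheme.{u}) : IsGrothendieckAbelian.{u} X.Modules :=
  Groth.Agent.S0484.result _ X.ringCatSheaf

section Affine

variable {X S : Scheme.{u}} (f : X ⟶ S) [IsAffineHom f]

/-- higher direct images of quasi-coherent modules along an affine morphism vanish (module level) -/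
lemma isZero_Rpush_of_affine [HasInjectiveResolutions X.Modules] (G : X.Modules) (hG : Coh.IsQCoh G)
    (p : ℕ) (hp : 0 < p) : IsZero ((Coh.Rpush f p).obj G) := by
  obtain ⟨q, rfl⟩ : ∃ q, p = q + 1 := ⟨p - 1, by omega⟩
  apply Groth.Agent.Lib.RpushRestrict.isZero_of_isZero_toAb
  obtain ⟨e⟩ := Groth.Agent.S11319.result f G (q + 1)
  exact (Groth.Agent.Lib.AffMorAcyclic.isZero_RpushAb_succ _
    (Groth.Agent.Lib.AffMorAcyclic.isAcyclicOver_toAb (f := f) G hG) q).of_iso e

end Affine

section Trunc

variable {A : Type*} [Category A] [Abelian A] [HasDerivedCategory A]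

/-- `τ_{≥ a} φ` is an isomorphism when `H^i φ` is an isomorphism for all `i ≥ a` -/
lemma isIso_truncGE_map {K L : DerivedCategory A} (φ : K ⟶ L) (a : ℤ)
    (h : ∀ i : ℤ, a ≤ i → IsIso ((homologyFunctor A i).map φ)) :
    IsIso ((TStructure.t.truncGE a).map φ) := by
  rw [DerivedCategory.isIso_iff]
  intro i
  by_cases hi : a ≤ i
  · have hnat : (TStructure.t.truncGEπ a).app K ≫ (TStructure.t.truncGE a).map φ =
        φ ≫ (TStructure.t.truncGEπ a).app L := ((TStructure.t.truncGEπ a).naturality φ).symm
    have h1 := Groth.Agent.Lib.DWayOut.isIso_homologyMap_truncGEπ K a i hi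
    have h2 := Groth.Agent.Lib.DWayOut.isIso_homologyMap_truncGEπ L a i hi
    have h3 := h i hi
    have h4 : (homologyFunctor A i).map ((TStructure.t.truncGEπ a).app K) ≫
        (homologyFunctor A i).map ((TStructure.t.truncGE a).map φ) =
        (homologyFunctor A i).map φ ≫ (homologyFunctor A i).map ((TStructure.t.truncGEπ a).app L) := by
      rw [← Functor.map_comp, ← Functor.map_comp, hnat]
    have h5 : IsIso ((homologyFunctor A i).map ((TStructure.t.truncGEπ a).app K) ≫
        (homologyFunctor A i).map ((TStructure.t.truncGE a).map φ)) := by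
      rw [h4]; infer_instance
    exact IsIso.of_isIso_comp_left ((homologyFunctor A i).map ((TStructure.t.truncGEπ a).app K)) _
  · have z1 : IsZero ((homologyFunctor A i).obj ((TStructure.t.truncGE a).obj K)) :=
      isZero_of_isGE _ a i (by omega)
    have z2 : IsZero ((homologyFunctor A i).obj ((TStructure.t.truncGE a).obj L)) :=
      isZero_of_isGE _ a i (by omega)
    exact ⟨⟨z2.to_ _, z1.eq_of_src _ _, z2.eq_of_src _ _⟩⟩

end Trunc

section Main

open Groth.Agent.AcycHocolim31 Groth.Agent.RDPlus31

variable {X S : Scheme.{u}} (f : X ⟶ S) [DCoh.HasRpush f]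

/-- terms of the canonical truncation of a complex of quasi-coherent modules are quasi-coherent -/
lemma qcoh_truncGE (F : CochainComplex X.Modules ℤ) (hq : ∀ n : ℤ, Coh.IsQCoh (F.X n)) (a i : ℤ) :
    Coh.IsQCoh ((F.truncGE a).X i) := by
  rcases lt_trichotomy i a with h | h | h
  · exact (QC X).prop_of_isZero (CochainComplex.isZero_of_isStrictlyGE (F.truncGE a) a i h)
  · subst h
    refine QC_of_iso ((F.truncGEXIsoOpcycles i).symm) ?_
    refine QC_of_iso ((F.sc i).opcyclesIsoCokernel.symm) ?_
    exact (QC X).prop_cokernel _ (hq _) (hq _)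
  · exact QC_of_iso (F.truncGEXIso a i h).symm (hq i)

/-- homology of a short complex with terms in a weak Serre subcategory -/
lemma prop_homology {C : Type*} [Category C] [Abelian C] (P : ObjectProperty C) [WSerre.IsWeakSerre P]
    (T : ShortComplex C) (h1 : P T.X₁) (h2 : P T.X₂) (h3 : P T.X₃) : P T.homology :=
  P.prop_of_iso T.homologyIsoCokernelLift.symm (P.prop_cokernel _ h1 (P.prop_kernel _ h2 h3))

/-- a complex of quasi-coherent modules has quasi-coherent cohomology sheaves -/
lemma isQCohD_Q_obj (F : CochainComplex X.Modules ℤ) (hq : ∀ n : ℤ, Coh.IsQCoh (F.X n)) :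
    DCoh.IsQCohD (DerivedCategory.Q.obj F) := by
  intro i
  refine QC_of_iso (((DerivedCategory.homologyFunctorFactors X.Modules i).app F).symm) ?_
  exact prop_homology (QC X) (F.sc i) (hq _) (hq _) (hq _)

/-- **the unit `f_* F ⟶ Rf_* F` is an isomorphism** for a complex `F` of quasi-coherent modules, when all
quasi-coherent modules are `f_*`-acyclic (e.g. `f` affine) and `R^p f_*` preserves quasi-coherence. -/
theorem isIso_unit_of_qcoh [HasInjectiveResolutions X.Modules]
    (h3 : ∀ G : X.Modules, Coh.IsQCoh G → ∀ p : ℕ, Coh.IsQCoh ((Coh.Rpush f p).obj G))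
    (h4 : ∀ G : X.Modules, Coh.IsQCoh G → ∀ p : ℕ, (0 : ℤ) < (p : ℤ) → IsZero ((Coh.Rpush f p).obj G))
    (F : CochainComplex X.Modules ℤ) (hq : ∀ n : ℤ, Coh.IsQCoh (F.X n)) :
    IsIso (((DCoh.pushKh f).totalRightDerivedUnit DerivedCategory.Qh
      (HomotopyCategory.quasiIso X.Modules (ComplexShape.up ℤ))).app
      ((HomotopyCategory.quotient X.Modules (ComplexShape.up ℤ)).obj F)) := by
  let P := Scheme.Modules.pushforward f
  let RF := DCoh.Rpush f
  let η : Φ P ⟶ DerivedCategory.Qh ⋙ RF := (DCoh.pushKh f).totalRightDerivedUnit DerivedCategory.Qh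
      (HomotopyCategory.quasiIso X.Modules (ComplexShape.up ℤ))
  haveI : RF.IsRightDerivedFunctor η (HomotopyCategory.quasiIso X.Modules (ComplexShape.up ℤ)) := by
    dsimp only [RF, η]; infer_instance
  haveI : (Φ P).HasPointwiseRightDerivedFunctor
      (HomotopyCategory.quasiIso X.Modules (ComplexShape.up ℤ)) :=
    Groth.Agent.KInjDerived31.hasPointwiseRightDerivedFunctor (Φ P) hKinj
  change IsIso (η.app ((HomotopyCategory.quotient X.Modules (ComplexShape.up ℤ)).obj F))
  rw [DerivedCategory.isIso_iff]
  intro j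
  -- the truncation level
  obtain ⟨n, hn⟩ : ∃ n : ℕ, -(n : ℤ) < j - 1 := ⟨(2 - j).toNat, by omega⟩
  let a : ℤ := -(n : ℤ)
  let F' := F.truncGE a
  let g : F ⟶ F' := F.πTruncGE a
  have hF' : ∀ i, UAcyc P (F'.X i) := fun i => by
    rw [uAcyc_iff]
    intro p hp
    exact h4 _ (qcoh_truncGE F hq a i) p (by exact_mod_cast hp)
  have i1 : IsIso (η.app ((HomotopyCategory.quotient X.Modules (ComplexShape.up ℤ)).obj F')) :=
    isIso_η_of_uAcyc P RF η F' a hF'
  have i2 : IsIso ((DerivedCategory.homologyFunctor S.Modules j).map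
      ((Φ P).map ((HomotopyCategory.quotient X.Modules (ComplexShape.up ℤ)).map g))) :=
    isIso_homology_Φ_map P g j
      (Groth.Agent.Lib.TorAmpKFlat35.isIso_πTruncGE_f_int F a (j - 1) (by omega))
      (Groth.Agent.Lib.TorAmpKFlat35.isIso_πTruncGE_f_int F a j (by omega))
      (Groth.Agent.Lib.TorAmpKFlat35.isIso_πTruncGE_f_int F a (j + 1) (by omega))
  -- `H^j(Rf_* (Q g))` is an isomorphism
  have hK : DCoh.IsQCohD (DerivedCategory.Q.obj F) := isQCohD_Q_obj F hq
  have hK' : DCoh.IsQCohD (DerivedCategory.Q.obj F') :=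
    isQCohD_Q_obj F' (fun i => qcoh_truncGE F hq a i)
  have b1 := (Groth.Agent.Lib.RpushQCohD11.bridge f 0 h3 h4 _ hK).2 n j (by omega)
  have b2 := (Groth.Agent.Lib.RpushQCohD11.bridge f 0 h3 h4 _ hK').2 n j (by omega)
  have hτ : IsIso ((TStructure.t.truncGE a).map (DerivedCategory.Q.map g)) := by
    apply isIso_truncGE_map
    intro i hi
    rw [Groth.Agent.Lib.PCohStupid.isIso_homologyFunctor_map_Q_iff]
    have := F.quasiIsoAt_πTruncGE a i hi
    rwa [quasiIsoAt_iff_isIso_homologyMap] at this
  have hnat : (TStructure.t.truncGEπ a).app (DerivedCategory.Q.obj F) ≫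
      (TStructure.t.truncGE a).map (DerivedCategory.Q.map g) =
      DerivedCategory.Q.map g ≫ (TStructure.t.truncGEπ a).app (DerivedCategory.Q.obj F') :=
    ((TStructure.t.truncGEπ a).naturality (DerivedCategory.Q.map g)).symm
  have i3 : IsIso ((DerivedCategory.homologyFunctor S.Modules j).map
      (RF.map (DerivedCategory.Q.map g))) := by
    have e1 : (DerivedCategory.homologyFunctor S.Modules j).map
          (RF.map ((TStructure.t.truncGEπ a).app (DerivedCategory.Q.obj F))) ≫
        (DerivedCategory.homologyFunctor S.Modules j).map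
          (RF.map ((TStructure.t.truncGE a).map (DerivedCategory.Q.map g))) =
        (DerivedCategory.homologyFunctor S.Modules j).map (RF.map (DerivedCategory.Q.map g)) ≫
        (DerivedCategory.homologyFunctor S.Modules j).map
          (RF.map ((TStructure.t.truncGEπ a).app (DerivedCategory.Q.obj F'))) := by
      rw [← Functor.map_comp, ← Functor.map_comp, ← Functor.map_comp, ← Functor.map_comp, hnat]
    have e2 : IsIso ((DerivedCategory.homologyFunctor S.Modules j).map
        (RF.map (DerivedCategory.Q.map g)) ≫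
        (DerivedCategory.homologyFunctor S.Modules j).map
          (RF.map ((TStructure.t.truncGEπ a).app (DerivedCategory.Q.obj F')))) := by
      rw [← e1]
      exact IsIso.comp_isIso' b1 inferInstance
    exact IsIso.of_isIso_comp_right _ ((DerivedCategory.homologyFunctor S.Modules j).map
          (RF.map ((TStructure.t.truncGEπ a).app (DerivedCategory.Q.obj F'))))
  -- conclude by naturality of `η`
  have hη := η.naturality ((HomotopyCategory.quotient X.Modules (ComplexShape.up ℤ)).map g)
  have e3 : (DerivedCategory.homologyFunctor S.Modules j).map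
        ((Φ P).map ((HomotopyCategory.quotient X.Modules (ComplexShape.up ℤ)).map g)) ≫
      (DerivedCategory.homologyFunctor S.Modules j).map
        (η.app ((HomotopyCategory.quotient X.Modules (ComplexShape.up ℤ)).obj F')) =
      (DerivedCategory.homologyFunctor S.Modules j).map
        (η.app ((HomotopyCategory.quotient X.Modules (ComplexShape.up ℤ)).obj F)) ≫
      (DerivedCategory.homologyFunctor S.Modules j).map (RF.map (DerivedCategory.Q.map g)) := by
    rw [← Functor.map_comp, ← Functor.map_comp]
    exact congrArg (DerivedCategory.homologyFunctor S.Modules j).map hη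
  have e4 : IsIso ((DerivedCategory.homologyFunctor S.Modules j).map
        (η.app ((HomotopyCategory.quotient X.Modules (ComplexShape.up ℤ)).obj F)) ≫
      (DerivedCategory.homologyFunctor S.Modules j).map (RF.map (DerivedCategory.Q.map g))) := by
    rw [← e3]
    exact IsIso.comp_isIso' i2 (Functor.map_isIso (DerivedCategory.homologyFunctor S.Modules j) _)
  exact @IsIso.of_isIso_comp_right _ _ _ _ _ _
    ((DerivedCategory.homologyFunctor S.Modules j).map (RF.map (DerivedCategory.Q.map g))) i3 e4

/-- **S7245**: for an affine morphism the unit `f_* F ⟶ Rf_* F` is an isomorphism at complexes of quasi-coherent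
modules. -/
theorem isIso_unit_of_affine [IsAffineHom f]
    (F : CochainComplex X.Modules ℤ) (hq : ∀ n : ℤ, Coh.IsQCoh (F.X n)) :
    IsIso (((DCoh.pushKh f).totalRightDerivedUnit DerivedCategory.Qh
      (HomotopyCategory.quasiIso X.Modules (ComplexShape.up ℤ))).app
      ((HomotopyCategory.quotient X.Modules (ComplexShape.up ℤ)).obj F)) := by
  haveI := Groth.Agent.Lib.RpushRestrict.hasInjectiveResolutions X
  exact isIso_unit_of_qcoh f
    (fun G hG p => Groth.Agent.Lib.RpushQCoh.isQuasicoherent_Rpush f G p hG)
    (fun G hG p hp => isZero_Rpush_of_affine f G hG p (by exact_mod_cast hp)) F hq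

end Main

end Groth.Agent.Lib.AffinePushD11
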