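import Groth.Agent.Lib.H90OXModAffineFT

set_option autoImplicit false
universe u

open CategoryTheory CategoryTheory.Limits AlgebraicGeometry TopologicalSpace Opposite
open AlgebraicGeometry.Scheme AlgebraicGeometry.Scheme.Modules

namespace Groth.Agent.Lib.H90OXModSections

variable {X : Scheme.{u}}

set_option backward.isDefEq.respectTransparency false in
/-- A monomorphism of `O_X`-modules is injective on sections over every open. -/
theorem injective_app_of_mono {M N : X.Modules} (i : N ⟶ M) [Mono i] (U : X.Opens) :
    Function.Injective (i.app U) := by
  have h : Mono ((SheafOfModules.evaluation X.ringCatSheaf (op U)).map i) := inferInstance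
  exact (ModuleCat.mono_iff_injective _).mp h

end Groth.Agent.Lib.H90OXModSections

namespace Groth.Agent.Lib.H90OXModSections

variable {X : Scheme.{u}}

/-- The map on sections over `U` induced by a morphism of `O_X`-modules, as a `Γ(X, U)`-linear
map. -/
noncomputable def appLin {M N : X.Modules} (φ : M ⟶ N) (U : X.Opens) :
    Γ(M, U) →ₗ[Γ(X, U)] Γ(N, U) where
  toFun := φ.app U
  map_add' := map_add _
  map_smul' r x := Scheme.Modules.Hom.app_smul φ r x

@[simp] theorem appLin_apply {M N : X.Modules} (φ : M ⟶ N) (U : X.Opens) (x : Γ(M, U)) :
    appLin φ U x = φ.app U x := rfl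

theorem injective_appLin_of_mono {M N : X.Modules} (i : N ⟶ M) [Mono i] (U : X.Opens) :
    Function.Injective (appLin i U) := injective_app_of_mono i U

end Groth.Agent.Lib.H90OXModSections
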