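import Groth.Agent.Lib.H90OXModAffineFT
import Groth.Agent.Lib.H90OXModSections
import Groth.Agent.Lib.H90OXModLocal

set_option autoImplicit false
universe u

open CategoryTheory CategoryTheory.Limits AlgebraicGeometry TopologicalSpace Opposite
open AlgebraicGeometry.Scheme AlgebraicGeometry.Scheme.Modules

namespace Groth.Agent.Lib.H90OXModAffineIso

open Groth.Agent.Lib.H90OXModAffine Groth.Agent.Lib.H90RestrictEquiv

variable {R : CommRingCat.{u}}

set_option backward.isDefEq.respectTransparency false in
/-- A morphism of quasi-coherent modules on `Spec R` which is bijective on global sections is an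
isomorphism. -/
theorem isIso_of_bijective_app_top {N N' : (Spec R).Modules} [N.IsQuasicoherent]
    [N'.IsQuasicoherent] (φ : N ⟶ N') (h : Function.Bijective (φ.app ⊤)) : IsIso φ := by
  haveI : IsIso (moduleSpecΓFunctor.map φ) := by
    rw [ConcreteCategory.isIso_iff_bijective]
    exact h
  have nat := (fromTildeΓNatTrans (R := R)).naturality φ
  haveI : IsIso N.fromTildeΓ := Scheme.Modules.isIso_fromTildeΓ_of_isQuasicoherent N
  haveI : IsIso N'.fromTildeΓ := Scheme.Modules.isIso_fromTildeΓ_of_isQuasicoherent N'
  have e : φ = inv N.fromTildeΓ ≫ (tilde.functor R).map (moduleSpecΓFunctor.map φ) ≫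
      N'.fromTildeΓ := by
    rw [IsIso.eq_inv_comp]
    exact nat.symm
  rw [e]
  infer_instance

end Groth.Agent.Lib.H90OXModAffineIso

namespace Groth.Agent.Lib.H90OXModAffineIso

open Groth.Agent.Lib.H90OXModAffine Groth.Agent.Lib.H90RestrictEquiv Groth.Agent.Lib.H90OXModLocal

variable {X : Scheme.{u}}

theorem bijective_app_congr {N N' : X.Modules} (φ : N ⟶ N') :
    ∀ (A B : X.Opens), A = B → Function.Bijective (φ.app A) → Function.Bijective (φ.app B) := by
  rintro A _ rfl h
  exact h

set_option backward.isDefEq.respectTransparency false in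
/-- A morphism of quasi-coherent modules which is bijective on sections over an affine open `U`
restricts to an isomorphism on `U`. -/
theorem isIso_restrict_of_bijective_app {N N' : X.Modules} [N.IsQuasicoherent]
    [N'.IsQuasicoherent] (φ : N ⟶ N') {U : X.Opens} (hU : IsAffineOpen U)
    (h : Function.Bijective (φ.app U)) : IsIso ((restrictFunctor U.ι).map φ) := by
  have h1 : IsIso ((restrictFunctor hU.fromSpec).map φ) := by
    haveI : ((restrictFunctor hU.fromSpec).obj N).IsQuasicoherent :=
      Scheme.Modules.isQuasicoherent_restrictFunctor _ _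
    haveI : ((restrictFunctor hU.fromSpec).obj N').IsQuasicoherent :=
      Scheme.Modules.isQuasicoherent_restrictFunctor _ _
    apply isIso_of_bijective_app_top
    rw [restrictFunctor_map_app]
    exact bijective_app_congr φ _ _ (fromSpec_image_top hU).symm h
  have θ := restrictCompIso hU.isoSpec.hom hU.fromSpec U.ι hU.isoSpec_hom_fromSpec
  rw [NatIso.isIso_map_iff θ φ]
  exact Functor.map_isIso (restrictFunctor hU.isoSpec.hom) ((restrictFunctor hU.fromSpec).map φ)

set_option backward.isDefEq.respectTransparency false in
/-- A morphism of quasi-coherent modules which is bijective on sections over the members of an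
affine open cover is an isomorphism. -/
theorem isIso_of_bijective_app_affine_cover {N N' : X.Modules} [N.IsQuasicoherent]
    [N'.IsQuasicoherent] (φ : N ⟶ N') {ι : Type*} (U : ι → X.Opens) (hU : ⨆ i, U i = ⊤)
    (hA : ∀ i, IsAffineOpen (U i)) (h : ∀ i, Function.Bijective (φ.app (U i))) : IsIso φ :=
  isIso_of_isOpenCover hU φ fun i => isIso_restrict_of_bijective_app φ (hA i) (h i)

/-- A morphism of quasi-coherent modules is an isomorphism iff it is bijective on sections over every
affine open. -/
theorem isIso_iff_forall_affine {N N' : X.Modules} [N.IsQuasicoherent]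
    [N'.IsQuasicoherent] (φ : N ⟶ N') :
    IsIso φ ↔ ∀ U : X.affineOpens, Function.Bijective (φ.app U.1) := by
  constructor
  · intro h U
    have : IsIso (φ.app U.1) := inferInstance
    exact (ConcreteCategory.isIso_iff_bijective _).mp this
  · intro h
    exact isIso_of_bijective_app_affine_cover φ (fun U : X.affineOpens => U.1)
      (AlgebraicGeometry.iSup_affineOpens_eq_top X) (fun U => U.2) h

end Groth.Agent.Lib.H90OXModAffineIso
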