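import Groth.Agent.Lib.Sib65Ext

/-!
# Dévissage: a triangulated functor on `D^b(A)` which is fully faithful on shifted single objects
is fully faithful
-/

universe w v u v' u'

open CategoryTheory Category Limits DerivedCategory Pretriangulated

namespace Groth.Agent.Lib.Sib65

section General

variable {T : Type u} [Category.{v} T] [Preadditive T] [HasZeroObject T] [HasShift T ℤ]
  [∀ n : ℤ, (shiftFunctor T n).Additive] [Pretriangulated T]
  {D : Type u'} [Category.{v'} D] [Preadditive D] [HasZeroObject D] [HasShift D ℤ]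
  [∀ n : ℤ, (shiftFunctor D n).Additive] [Pretriangulated D]
  (G : T ⥤ D) [G.CommShift ℤ] [G.IsTriangulated]

/-- `G` is bijective on `Hom(K, L)`. -/
def BijOn (K L : T) : Prop :=
  Function.Bijective (G.map : (K ⟶ L) → (G.obj K ⟶ G.obj L))

variable {G}

omit [HasZeroObject T] [∀ n : ℤ, (shiftFunctor T n).Additive] [Pretriangulated T]
  [HasZeroObject D] [∀ n : ℤ, (shiftFunctor D n).Additive] [Pretriangulated D]
  [G.CommShift ℤ] [G.IsTriangulated] [Preadditive T] [Preadditive D] [HasShift T ℤ]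
  [HasShift D ℤ] in
lemma bijOn_of_iso_left {K K' L : T} (e : K ≅ K') (h : BijOn G K L) : BijOn G K' L := by
  constructor
  · intro u u' huu'
    have := h.1 (show G.map (e.hom ≫ u) = G.map (e.hom ≫ u') by
      rw [G.map_comp, G.map_comp, huu'])
    exact (cancel_epi e.hom).1 this
  · intro c
    obtain ⟨u, hu⟩ := h.2 (G.map e.hom ≫ c)
    refine ⟨e.inv ≫ u, ?_⟩
    rw [G.map_comp, hu, ← G.map_comp_assoc, Iso.inv_hom_id, G.map_id, id_comp]

omit [HasZeroObject T] [∀ n : ℤ, (shiftFunctor T n).Additive] [Pretriangulated T]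
  [HasZeroObject D] [∀ n : ℤ, (shiftFunctor D n).Additive] [Pretriangulated D]
  [G.CommShift ℤ] [G.IsTriangulated] [Preadditive T] [Preadditive D] [HasShift T ℤ]
  [HasShift D ℤ] in
lemma bijOn_of_iso_right {K L L' : T} (e : L ≅ L') (h : BijOn G K L) : BijOn G K L' := by
  constructor
  · intro u u' huu'
    have := h.1 (show G.map (u ≫ e.inv) = G.map (u' ≫ e.inv) by
      rw [G.map_comp, G.map_comp, huu'])
    exact (cancel_mono e.inv).1 this
  · intro c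
    obtain ⟨u, hu⟩ := h.2 (c ≫ G.map e.inv)
    refine ⟨u ≫ e.hom, ?_⟩
    rw [G.map_comp, hu, assoc, ← G.map_comp, Iso.inv_hom_id, G.map_id, comp_id]

lemma bijOn_of_isZero_left {K L : T} (hK : IsZero K) : BijOn G K L :=
  ⟨fun _ _ _ => hK.eq_of_src _ _, fun _ => ⟨0, (G.map_isZero hK).eq_of_src _ _⟩⟩

lemma bijOn_of_isZero_right {K L : T} (hL : IsZero L) : BijOn G K L :=
  ⟨fun _ _ _ => hL.eq_of_tgt _ _, fun _ => ⟨0, (G.map_isZero hL).eq_of_tgt _ _⟩⟩

lemma injective_iff_map_eq_zero (K L : T) :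
    Function.Injective (G.map : (K ⟶ L) → (G.obj K ⟶ G.obj L)) ↔
      ∀ u : K ⟶ L, G.map u = 0 → u = 0 := by
  constructor
  · intro h u hu
    exact h (by rw [hu, G.map_zero])
  · intro h u u' huu'
    rw [← sub_eq_zero]
    apply h
    rw [G.map_sub, huu', sub_self]

set_option backward.defeqAttrib.useBackward true in
/-- Four lemma (covariant variable). -/
lemma bijOn_of_triangle_right (X : T) {A₁ L C : T} (g : A₁ ⟶ L) (w : L ⟶ C)
    (ξ : C ⟶ A₁⟦(1 : ℤ)⟧) (hT : Triangle.mk g w ξ ∈ distTriang T)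
    (h1 : BijOn G X A₁) (h3 : BijOn G X C) (h1' : BijOn G X (A₁⟦(1 : ℤ)⟧))
    (h3' : BijOn G (X⟦(1 : ℤ)⟧) C) : BijOn G X L := by
  have hT' := G.map_distinguished _ hT
  have i1 := (injective_iff_map_eq_zero (G := G) X A₁).1 h1.1
  have i3 := (injective_iff_map_eq_zero (G := G) X C).1 h3.1
  have i1' := (injective_iff_map_eq_zero (G := G) X (A₁⟦(1 : ℤ)⟧)).1 h1'.1
  constructor
  · rw [injective_iff_map_eq_zero]
    intro u hu
    have hw : u ≫ w = 0 := i3 _ (by rw [G.map_comp, hu, zero_comp])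
    obtain ⟨v, hv⟩ : ∃ v : X ⟶ A₁, u = v ≫ g := Triangle.coyoneda_exact₂ _ hT u hw
    have hvg : G.map v ≫ G.map g = 0 := by rw [← G.map_comp, ← hv, hu]
    have hvg' : (G.map v)⟦(1 : ℤ)⟧' ≫ (G.map g)⟦(1 : ℤ)⟧' = 0 := by
      rw [← Functor.map_comp, hvg, CategoryTheory.Functor.map_zero]
    obtain ⟨z, hz⟩ : ∃ z : (G.obj X)⟦(1 : ℤ)⟧ ⟶ G.obj C,
        (G.map v)⟦(1 : ℤ)⟧' = z ≫ G.map ξ ≫ (G.commShiftIso (1 : ℤ)).hom.app A₁ :=
      Triangle.coyoneda_exact₁ _ hT' ((G.map v)⟦(1 : ℤ)⟧') hvg'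
    obtain ⟨y, hy⟩ := h3'.2 ((G.commShiftIso (1 : ℤ)).hom.app X ≫ z)
    obtain ⟨y', hy'⟩ := (shiftFunctor T (1 : ℤ)).map_surjective (y ≫ ξ)
    have hvy : G.map v = G.map y' := by
      apply (shiftFunctor D (1 : ℤ)).map_injective
      rw [hz, ← cancel_epi ((G.commShiftIso (1 : ℤ)).hom.app X), ← assoc, ← hy,
        ← G.map_comp_assoc, ← hy']
      exact G.commShiftIso_hom_naturality y' (1 : ℤ)
    have hvy' : v = y' := h1.1 hvy
    apply (shiftFunctor T (1 : ℤ)).map_injective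
    have hξg : ξ ≫ g⟦(1 : ℤ)⟧' = 0 := comp_distTriang_mor_zero₃₁ _ hT
    rw [hv, hvy', Functor.map_comp, hy', assoc, CategoryTheory.Functor.map_zero, hξg, comp_zero]
  · intro c
    obtain ⟨y, hy⟩ := h3.2 (c ≫ G.map w)
    have hwξ : w ≫ ξ = 0 := comp_distTriang_mor_zero₂₃ _ hT
    have hyξ : y ≫ ξ = 0 := i1' _ (by
      rw [G.map_comp, hy, assoc, ← G.map_comp, hwξ, G.map_zero, comp_zero])
    obtain ⟨u₀, hu₀⟩ : ∃ u₀ : X ⟶ L, y = u₀ ≫ w := Triangle.coyoneda_exact₃ _ hT y hyξ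
    obtain ⟨z, hz⟩ : ∃ z : G.obj X ⟶ G.obj A₁, c - G.map u₀ = z ≫ G.map g :=
      Triangle.coyoneda_exact₂ _ hT' (c - G.map u₀) (show (c - G.map u₀) ≫ G.map w = 0 by
        rw [Preadditive.sub_comp, ← G.map_comp, ← hu₀, hy, sub_self])
    obtain ⟨v, hv⟩ := h1.2 z
    refine ⟨u₀ + v ≫ g, ?_⟩
    rw [G.map_add, G.map_comp, hv, ← hz]
    abel

set_option backward.defeqAttrib.useBackward true in
/-- Four lemma (contravariant variable). -/
lemma bijOn_of_triangle_left (L : T) {A₁ K C : T} (g : A₁ ⟶ K) (w : K ⟶ C)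
    (ξ : C ⟶ A₁⟦(1 : ℤ)⟧) (hT : Triangle.mk g w ξ ∈ distTriang T)
    (h1 : BijOn G A₁ L) (h3 : BijOn G C L) (h1' : BijOn G (A₁⟦(1 : ℤ)⟧) L)
    (h3' : BijOn G C (L⟦(1 : ℤ)⟧)) : BijOn G K L := by
  have hT' := G.map_distinguished _ hT
  have i1 := (injective_iff_map_eq_zero (G := G) A₁ L).1 h1.1
  have i3 := (injective_iff_map_eq_zero (G := G) C L).1 h3.1
  have i3' := (injective_iff_map_eq_zero (G := G) C (L⟦(1 : ℤ)⟧)).1 h3'.1
  have hwξ : w ≫ ξ = 0 := comp_distTriang_mor_zero₂₃ _ hT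
  constructor
  · rw [injective_iff_map_eq_zero]
    intro u hu
    have hg : g ≫ u = 0 := i1 _ (by rw [G.map_comp, hu, comp_zero])
    obtain ⟨v, hv⟩ : ∃ v : C ⟶ L, u = w ≫ v := Triangle.yoneda_exact₂ _ hT u hg
    have hwv : G.map w ≫ G.map v = 0 := by rw [← G.map_comp, ← hv, hu]
    obtain ⟨z, hz⟩ : ∃ z : (G.obj A₁)⟦(1 : ℤ)⟧ ⟶ G.obj L,
        G.map v = (G.map ξ ≫ (G.commShiftIso (1 : ℤ)).hom.app A₁) ≫ z :=
      Triangle.yoneda_exact₃ _ hT' (G.map v) hwv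
    obtain ⟨y, hy⟩ := h1'.2 ((G.commShiftIso (1 : ℤ)).hom.app A₁ ≫ z)
    have hvy : v = ξ ≫ y := h3.1 (by rw [hz, G.map_comp, hy, assoc])
    rw [hv, hvy, reassoc_of% hwξ, zero_comp]
  · intro c
    obtain ⟨y, hy⟩ := h1.2 (G.map g ≫ c)
    have hξy : ξ ≫ y⟦(1 : ℤ)⟧' = 0 := i3' _ (by
      have h1 : G.map (y⟦(1 : ℤ)⟧') = (G.commShiftIso (1 : ℤ)).hom.app A₁ ≫
          (G.map g ≫ c)⟦(1 : ℤ)⟧' ≫ (G.commShiftIso (1 : ℤ)).inv.app L := by
        rw [← hy, ← G.commShiftIso_hom_naturality_assoc, Iso.hom_inv_id_app]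
        exact (comp_id _).symm
      have h2 : (G.map ξ ≫ (G.commShiftIso (1 : ℤ)).hom.app A₁) ≫ (G.map g)⟦(1 : ℤ)⟧' = 0 :=
        comp_distTriang_mor_zero₃₁ _ hT'
      rw [G.map_comp, h1, Functor.map_comp]
      simp only [assoc] at h2 ⊢
      rw [reassoc_of% h2, zero_comp])
    obtain ⟨u', hu'⟩ : ∃ u' : K⟦(1 : ℤ)⟧ ⟶ L⟦(1 : ℤ)⟧, y⟦(1 : ℤ)⟧' = (-g⟦(1 : ℤ)⟧') ≫ u' :=
      Triangle.yoneda_exact₃ _ (rot_of_distTriang _ hT) (y⟦(1 : ℤ)⟧') hξy
    obtain ⟨u₁, hu₁⟩ := (shiftFunctor T (1 : ℤ)).map_surjective u'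
    have hy' : y = g ≫ (-u₁) := by
      apply (shiftFunctor T (1 : ℤ)).map_injective
      rw [hu', ← hu₁, Functor.map_comp, Functor.map_neg, Preadditive.neg_comp,
        Preadditive.comp_neg]
    obtain ⟨z, hz⟩ : ∃ z : G.obj C ⟶ G.obj L, c - G.map (-u₁) = G.map w ≫ z :=
      Triangle.yoneda_exact₂ _ hT' (c - G.map (-u₁))
        (show G.map g ≫ (c - G.map (-u₁)) = 0 by
          rw [Preadditive.comp_sub, ← G.map_comp, ← hy', hy, sub_self])
    obtain ⟨v, hv⟩ := h3.2 z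
    refine ⟨-u₁ + w ≫ v, ?_⟩
    rw [G.map_add, G.map_comp, hv, ← hz]
    abel

end General

section Bounded

variable {A : Type u} [Category.{v} A] [Abelian A] [HasDerivedCategory.{w} A]
  {D : Type u'} [Category.{v'} D] [Preadditive D] [HasZeroObject D] [HasShift D ℤ]
  [∀ n : ℤ, (shiftFunctor D n).Additive] [Pretriangulated D]
  {G : DerivedCategory.Bounded A ⥤ D} [G.CommShift ℤ] [G.IsTriangulated]

lemma bijOn_σ_left (hσ : ∀ (s t : ℤ) (N M : A), BijOn G ((σ A s).obj N) ((σ A t).obj M))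
    (L : DerivedCategory.Bounded A) : ∀ (s : ℤ) (N : A), BijOn G ((σ A s).obj N) L := by
  refine bounded_induction (fun L => ∀ (s : ℤ) (N : A), BijOn G ((σ A s).obj N) L) ?_ ?_ ?_ L
  · intro L hL s N
    exact bijOn_of_isZero_right hL
  · intro L b _ _ s N
    obtain ⟨M, ⟨θ⟩⟩ := exists_iso_σ L (-b) b (by omega)
    exact bijOn_of_iso_right θ.symm (hσ s (-b) N M)
  · intro L a b s₁ _ h _ _ N₁ g C w ξ hT _ _ _ hC s N
    exact bijOn_of_triangle_right ((σ A s).obj N) g w ξ hT (hσ s s₁ N N₁) (hC s N)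
      (bijOn_of_iso_right (σShift s₁ (s₁ + 1) rfl N₁) (hσ s (s₁ + 1) N N₁))
      (bijOn_of_iso_left (σShift s (s + 1) rfl N) (hC (s + 1) N))

theorem bijOn_of_σ (hσ : ∀ (s t : ℤ) (N M : A), BijOn G ((σ A s).obj N) ((σ A t).obj M))
    (K : DerivedCategory.Bounded A) : ∀ L, BijOn G K L := by
  refine bounded_induction (fun K => ∀ L, BijOn G K L) ?_ ?_ ?_ K
  · intro K hK L
    exact bijOn_of_isZero_left hK
  · intro K b _ _ L
    obtain ⟨M, ⟨θ⟩⟩ := exists_iso_σ K (-b) b (by omega)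
    exact bijOn_of_iso_left θ.symm (bijOn_σ_left hσ L (-b) M)
  · intro K a b s₁ _ h _ _ N₁ g C w ξ hT _ _ _ hC L
    exact bijOn_of_triangle_left L g w ξ hT (bijOn_σ_left hσ L s₁ N₁) (hC L)
      (bijOn_of_iso_left (σShift s₁ (s₁ + 1) rfl N₁) (bijOn_σ_left hσ L (s₁ + 1) N₁))
      (hC (L⟦(1 : ℤ)⟧))

theorem full_faithful_of_σ
    (hσ : ∀ (s t : ℤ) (N M : A), BijOn G ((σ A s).obj N) ((σ A t).obj M)) :
    G.Full ∧ G.Faithful :=
  ⟨⟨fun {K L} => (bijOn_of_σ hσ K L).2⟩, ⟨fun {K L} => (bijOn_of_σ hσ K L).1⟩⟩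

end Bounded

section Sibling

variable {A : Type u} [Category.{v} A] [Abelian A] [HasDerivedCategory.{w} A]
  {D : Type u'} [Category.{v'} D] [Preadditive D] [HasZeroObject D] [HasShift D ℤ]
  [∀ n : ℤ, (shiftFunctor D n).Additive] [Pretriangulated D]
  {F F' : DerivedCategory.Bounded A ⥤ D} [F.CommShift ℤ] [F.IsTriangulated]
  [F'.CommShift ℤ] [F'.IsTriangulated]

omit [F.CommShift ℤ] [F.IsTriangulated] [HasZeroObject D] [HasShift D ℤ]
  [∀ n : ℤ, (shiftFunctor D n).Additive] [Pretriangulated D] in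
lemma negVanishing_of_full [F.Full] [F.PreservesZeroMorphisms] : NegVanishing F := by
  intro s t hst N M ψ
  obtain ⟨u, rfl⟩ := F.map_surjective ψ
  have := σ_isLE s (-s) (by omega) N
  rw [hom_to_σ_eq_zero _ t (-t) (by omega) M (-s) (by omega) u, F.map_zero]

theorem sibling_full_faithful (α : DEquiv.singleB A ⋙ F ≅ DEquiv.singleB A ⋙ F')
    [F.Full] [F.Faithful] : F'.Full ∧ F'.Faithful := by
  have hF : NegVanishing F := negVanishing_of_full
  apply full_faithful_of_σ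
  intro s t N M
  have hc : ∀ e : (σ A s).obj N ⟶ (σ A t).obj M,
      F'.map e = (αsApp F F' α s N).inv ≫ F.map e ≫ (αsApp F F' α t M).hom := by
    intro e
    have := compat (α := α) hF s t N M e
    dsimp only [Compat] at this
    rw [this, Iso.inv_hom_id_assoc]
  constructor
  · intro e e' hee'
    rw [hc, hc] at hee'
    apply F.map_injective
    simpa using hee'
  · intro c
    obtain ⟨e, he⟩ := F.map_surjective ((αsApp F F' α s N).hom ≫ c ≫ (αsApp F F' α t M).inv)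
    refine ⟨e, ?_⟩
    rw [hc, he]
    simp

end Sibling

end Groth.Agent.Lib.Sib65
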