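import Groth.Agent.Lib.DAdjEquiv11
import Groth.Agent.Lib.Sib65FF

/-!
# Bounded dévissage: an exact functor inducing an equivalence on weak Serre subcategories and
bijections on all `Ext` groups between their objects induces an equivalence `D^b_{A₁} → D^b_{A₂}`
-/

set_option autoImplicit false
universe w v u
open CategoryTheory CategoryTheory.Limits Pretriangulated Triangulated

namespace Groth.Agent.Lib.DBddEquiv11

set_option linter.unusedSectionVars false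

open Groth.Agent.Lib.Sib65 Groth.Agent.Lib.DAdjEquiv11 ZeroObject

section General

variable {T : Type u} [Category.{v} T] [Preadditive T] [HasZeroObject T] [HasShift T ℤ]
  [∀ n : ℤ, (shiftFunctor T n).Additive] [Pretriangulated T]
  {D : Type u} [Category.{v} D] [Preadditive D] [HasZeroObject D] [HasShift D ℤ]
  [∀ n : ℤ, (shiftFunctor D n).Additive] [Pretriangulated D]
  {G : T ⥤ D} [G.CommShift ℤ] [G.IsTriangulated]

lemma bijOn_shift {K L : T} (a : ℤ) (h : BijOn G K L) : BijOn G (K⟦a⟧) (L⟦a⟧) := by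
  have key : ∀ v : K ⟶ L, G.map (v⟦a⟧') = (G.commShiftIso a).hom.app K ≫ (G.map v)⟦a⟧' ≫
      (G.commShiftIso a).inv.app L := by
    intro v
    have := G.commShiftIso_hom_naturality v a
    rw [← Category.assoc, ← this, Category.assoc, Iso.hom_inv_id_app]
    exact (Category.comp_id _).symm
  constructor
  · intro u u' huu'
    obtain ⟨v, rfl⟩ := (shiftFunctor T a).map_surjective u
    obtain ⟨v', rfl⟩ := (shiftFunctor T a).map_surjective u'
    rw [key, key] at huu'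
    have h1 : (G.map v)⟦a⟧' = (G.map v')⟦a⟧' := by
      have := congrArg (fun z => (G.commShiftIso a).inv.app K ≫ z ≫ (G.commShiftIso a).hom.app L) huu'
      simpa using this
    have h2 : G.map v = G.map v' := (shiftFunctor D a).map_injective h1
    rw [h.1 h2]
  · intro c
    obtain ⟨w, hw⟩ := (shiftFunctor D a).map_surjective
      ((G.commShiftIso a).inv.app K ≫ c ≫ (G.commShiftIso a).hom.app L)
    obtain ⟨v, hv⟩ := h.2 w
    refine ⟨v⟦a⟧', ?_⟩
    rw [key, hv, hw]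
    simp

lemma bijOn_shift_right_one {K L : T} (h : BijOn G (K⟦(-1 : ℤ)⟧) L) : BijOn G K (L⟦(1 : ℤ)⟧) := by
  have h1 := bijOn_shift (G := G) (1 : ℤ) h
  exact bijOn_of_iso_left ((shiftFunctorCompIsoId T (-1 : ℤ) 1 (by lia)).app K) h1

lemma bijOn_shift_left_one {K L : T} (h : BijOn G K (L⟦(-1 : ℤ)⟧)) : BijOn G (K⟦(1 : ℤ)⟧) L := by
  have h1 := bijOn_shift (G := G) (1 : ℤ) h
  exact bijOn_of_iso_right ((shiftFunctorCompIsoId T (-1 : ℤ) 1 (by lia)).app L) h1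

end General

section CohInShift

variable {C : Type u} [Category.{v} C] [Abelian C] [HasDerivedCategory.{w} C]

open DerivedCategory DerivedCategory.TStructure

lemma cohIn_shift (A : ObjectProperty C) [A.IsClosedUnderIsomorphisms] (L : DerivedCategory C)
    (n : ℤ) (hL : WSerre.cohIn A L) : WSerre.cohIn A (L⟦n⟧) := by
  intro i
  exact A.prop_of_iso (((homologyFunctor C 0).shiftIso n i (n + i) rfl).app L).symm (hL (n + i))

lemma cohInBdd_shift (A : ObjectProperty C) [A.IsClosedUnderIsomorphisms] (L : DerivedCategory C)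
    (n : ℤ) (hL : WSerre.cohInBdd A L) : WSerre.cohInBdd A (L⟦n⟧) := by
  obtain ⟨h1, ⟨a, ha⟩, ⟨b, hb⟩⟩ := hL
  refine ⟨cohIn_shift A L n h1, ⟨a - n, ?_⟩, ⟨b - n, ?_⟩⟩
  · exact t.isGE_shift L a n (a - n) (by lia)
  · exact t.isLE_shift L b n (b - n) (by lia)

lemma cohIn_truncLE (A : ObjectProperty C) [WSerre.IsWeakSerre A] (M : DerivedCategory C) (a : ℤ)
    (hM : WSerre.cohIn A M) : WSerre.cohIn A ((t.truncLE a).obj M) := by
  intro j
  by_cases hj : j ≤ a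
  · have := Groth.Agent.Lib.DWayOut.isIso_homologyMap_truncLEι M a j hj
    exact A.prop_of_iso (asIso ((homologyFunctor C j).map ((t.truncLEι a).app M))).symm (hM j)
  · exact A.prop_of_isZero (isZero_of_isLE ((t.truncLE a).obj M) a j (by lia))

lemma cohIn_truncGE (A : ObjectProperty C) [WSerre.IsWeakSerre A] (M : DerivedCategory C) (a : ℤ)
    (hM : WSerre.cohIn A M) : WSerre.cohIn A ((t.truncGE a).obj M) := by
  intro j
  by_cases hj : a ≤ j
  · have := Groth.Agent.Lib.DWayOut.isIso_homologyMap_truncGEπ M a j hj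
    exact A.prop_of_iso (asIso ((homologyFunctor C j).map ((t.truncGEπ a).app M))) (hM j)
  · exact A.prop_of_isZero (isZero_of_isGE ((t.truncGE a).obj M) a j (by lia))

/-- shifted single objects with value in `A`. -/
def Sgl (A : ObjectProperty C) : ObjectProperty (DerivedCategory C) :=
  fun X => ∃ (F : C) (s : ℤ), A F ∧ Nonempty (X ≅ ((singleFunctor C 0).obj F)⟦s⟧)

lemma sgl_shift (A : ObjectProperty C) {X : DerivedCategory C} (hX : Sgl A X) (a : ℤ) :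
    Sgl A (X⟦a⟧) := by
  obtain ⟨F, s, hF, ⟨e⟩⟩ := hX
  exact ⟨F, s + a, hF, ⟨(shiftFunctor _ a).mapIso e ≪≫
    ((shiftFunctorAdd' (DerivedCategory C) s a (s + a) rfl).app _).symm⟩⟩

lemma sgl_single (A : ObjectProperty C) (F : C) (hF : A F) (j : ℤ) :
    Sgl A ((singleFunctor C j).obj F) :=
  ⟨F, -j, hF, ⟨(((DerivedCategory.singleFunctors C).shiftIso (-j) j 0 (by lia)).app F).symm⟩⟩

end CohInShift

section Main

attribute [local instance] HasDerivedCategory.standard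

variable {C₁ C₂ : Type (u+1)} [Category.{u} C₁] [Category.{u} C₂] [Abelian C₁] [Abelian C₂]
  (G : C₁ ⥤ C₂) [G.Additive] [PreservesFiniteLimits G] [PreservesFiniteColimits G]
  (A₁ : ObjectProperty C₁) [WSerre.IsWeakSerre A₁] (A₂ : ObjectProperty C₂) [WSerre.IsWeakSerre A₂]

open DerivedCategory DerivedCategory.TStructure

lemma cohInBdd_map (h1 : ∀ F, A₁ F → A₂ (G.obj F)) (K : DerivedCategory C₁)
    (hK : WSerre.cohInBdd A₁ K) : WSerre.cohInBdd A₂ (G.mapDerivedCategory.obj K) := by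
  obtain ⟨hc, ⟨a, ha⟩, ⟨b, hb⟩⟩ := hK
  have : K.IsGE a := ha
  have : K.IsLE b := hb
  exact ⟨cohIn_map G A₁ A₂ h1 K hc, ⟨a, isGE_map G K a⟩, ⟨b, isLE_map G K b⟩⟩

variable (h2 : ∀ (F F' : C₁), A₁ F → A₁ F' → ∀ n : ℤ,
  BijOn G.mapDerivedCategory ((singleFunctor C₁ 0).obj F) (((singleFunctor C₁ 0).obj F')⟦n⟧))

include h2 in
lemma bijOn_sgl {X Y : DerivedCategory C₁} (hX : Sgl A₁ X) (hY : Sgl A₁ Y) :
    BijOn G.mapDerivedCategory X Y := by
  obtain ⟨F, s, hF, ⟨e⟩⟩ := hX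
  obtain ⟨F', s', hF', ⟨e'⟩⟩ := hY
  have h := bijOn_shift (G := G.mapDerivedCategory) s (h2 F F' hF hF' (s' - s))
  have e'' : (((singleFunctor C₁ 0).obj F')⟦s' - s⟧)⟦s⟧ ≅ ((singleFunctor C₁ 0).obj F')⟦s'⟧ :=
    ((shiftFunctorAdd' (DerivedCategory C₁) (s' - s) s s' (by lia)).app _).symm
  exact bijOn_of_iso_left e.symm (bijOn_of_iso_right (e'' ≪≫ e'.symm) h)

include h2 in
lemma bijOn_sgl_left (L : DerivedCategory C₁) (hL : WSerre.cohInBdd A₁ L) :
    ∀ X, Sgl A₁ X → BijOn G.mapDerivedCategory X L := by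
  obtain ⟨hc, ⟨a, ha⟩, ⟨b, hb⟩⟩ := hL
  have : L.IsGE a := ha
  have : L.IsLE b := hb
  let W : ObjectProperty (DerivedCategory C₁) :=
    fun L => ∀ X, Sgl A₁ X → BijOn G.mapDerivedCategory X L
  have hW : W.IsClosedUnderIsomorphisms :=
    ⟨fun {L L'} e h X hX => bijOn_of_iso_right e (h X hX)⟩
  refine Groth.Agent.Lib.DDevissage.devissage W ?_ ?_ L a b ?_
  · intro T hT h₁ h₃ X hX
    exact bijOn_of_triangle_right X T.mor₁ T.mor₂ T.mor₃ hT (h₁ X hX) (h₃ X hX)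
      (bijOn_shift_right_one (h₁ _ (sgl_shift A₁ hX (-1)))) (h₃ _ (sgl_shift A₁ hX 1))
  · intro Z hZ X hX
    exact bijOn_of_isZero_right hZ
  · intro j _ _ X hX
    exact bijOn_sgl G A₁ h2 hX (sgl_single A₁ _ (hc j) j)

include h2 in
/-- `G.mapDerivedCategory` is fully faithful on `D^b_{A₁}`. -/
theorem bijOn_of_cohInBdd (K L : DerivedCategory C₁) (hK : WSerre.cohInBdd A₁ K)
    (hL : WSerre.cohInBdd A₁ L) : BijOn G.mapDerivedCategory K L := by
  obtain ⟨hc, ⟨a, ha⟩, ⟨b, hb⟩⟩ := hK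
  have : K.IsGE a := ha
  have : K.IsLE b := hb
  let W : ObjectProperty (DerivedCategory C₁) :=
    fun K => ∀ L, WSerre.cohInBdd A₁ L → BijOn G.mapDerivedCategory K L
  have hW : W.IsClosedUnderIsomorphisms :=
    ⟨fun {K K'} e h L hL => bijOn_of_iso_left e (h L hL)⟩
  refine Groth.Agent.Lib.DDevissage.devissage W ?_ ?_ K a b ?_ L hL
  · intro T hT h₁ h₃ L hL
    exact bijOn_of_triangle_left L T.mor₁ T.mor₂ T.mor₃ hT (h₁ L hL) (h₃ L hL)
      (bijOn_shift_left_one (h₁ _ (cohInBdd_shift A₁ L (-1) hL)))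
      (h₃ _ (cohInBdd_shift A₁ L 1 hL))
  · intro Z hZ L hL
    exact bijOn_of_isZero_left hZ
  · intro j _ _ L hL
    exact bijOn_sgl_left G A₁ h2 L hL _ (sgl_single A₁ _ (hc j) j)

variable (hes : ∀ M : C₂, A₂ M → ∃ F : C₁, A₁ F ∧ Nonempty (G.obj F ≅ M))

include hes in
lemma exists_preimage_single (M : DerivedCategory C₂) (a : ℤ) [M.IsGE a] [M.IsLE a]
    (hM : WSerre.cohIn A₂ M) :
    ∃ K : DerivedCategory C₁, WSerre.cohInBdd A₁ K ∧ K.IsGE a ∧ K.IsLE a ∧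
      Nonempty (G.mapDerivedCategory.obj K ≅ M) := by
  obtain ⟨e⟩ := Groth.Agent.Lib.DDevissage.nonempty_iso_single_homology M a
  obtain ⟨F, hF, ⟨eF⟩⟩ := hes _ (hM a)
  refine ⟨(singleFunctor C₁ a).obj F, ⟨cohIn_single A₁ F hF a, ⟨a, inferInstance⟩,
    ⟨a, inferInstance⟩⟩, inferInstance, inferInstance, ⟨?_⟩⟩
  exact (G.mapDerivedCategorySingleFunctor a).app F ≪≫ (singleFunctor C₂ a).mapIso eF ≪≫ e.symm

include h2 hes in
theorem exists_preimage_aux (n : ℕ) : ∀ (M : DerivedCategory C₂) (a : ℤ) [M.IsGE a]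
    [M.IsLE (a + n)] (_ : WSerre.cohIn A₂ M),
    ∃ K : DerivedCategory C₁, WSerre.cohInBdd A₁ K ∧ Nonempty (G.mapDerivedCategory.obj K ≅ M) := by
  induction n with
  | zero =>
    intro M a _ _ hM
    have : M.IsLE a := by
      have h : M.IsLE (a + (0 : ℕ)) := inferInstance
      simpa using h
    obtain ⟨K, hK, _, _, e⟩ := exists_preimage_single G A₁ A₂ hes M a hM
    exact ⟨K, hK, e⟩
  | succ n ih =>
    intro M a _ _ hM
    have hMle : M.IsLE ((a + 1) + n) := by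
      have h : M.IsLE (a + ((n + 1 : ℕ) : ℤ)) := inferInstance
      have e : a + ((n + 1 : ℕ) : ℤ) = (a + 1) + n := by push_cast; ring
      rwa [e] at h
    let L := (t.truncLE a).obj M
    let R := (t.truncGE (a + 1)).obj M
    have hT := t.triangleLEGE_distinguished a (a + 1) rfl M
    have i1 : L.IsLE a := by dsimp [L]; infer_instance
    have i1' : L.IsGE a := by dsimp [L]; infer_instance
    have i3 : R.IsGE (a + 1) := by dsimp [R]; infer_instance
    have i3' : R.IsLE ((a + 1) + n) := by dsimp [R]; infer_instance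
    obtain ⟨K₁, hK₁, _, _, ⟨e₁⟩⟩ := exists_preimage_single G A₁ A₂ hes L a (cohIn_truncLE A₂ M a hM)
    obtain ⟨K₃, hK₃, ⟨e₃⟩⟩ := ih R (a + 1) (cohIn_truncGE A₂ M (a + 1) hM)
    let δ : R ⟶ L⟦(1 : ℤ)⟧ := (t.truncGEδLE a (a + 1) rfl).app M
    let δ' : G.mapDerivedCategory.obj K₃ ⟶ G.mapDerivedCategory.obj (K₁⟦(1 : ℤ)⟧) :=
      e₃.hom ≫ δ ≫ (e₁.inv)⟦(1 : ℤ)⟧' ≫ (G.mapDerivedCategory.commShiftIso (1 : ℤ)).inv.app K₁
    obtain ⟨d, hd⟩ := (bijOn_of_cohInBdd G A₁ h2 K₃ (K₁⟦(1 : ℤ)⟧) hK₃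
      (cohInBdd_shift A₁ K₁ 1 hK₁)).2 δ'
    obtain ⟨K, f, g, hK⟩ := distinguished_cocone_triangle₂ d
    have hGK := G.mapDerivedCategory.map_distinguished _ hK
    have comm : (G.mapDerivedCategory.map d ≫
        (G.mapDerivedCategory.commShiftIso (1 : ℤ)).hom.app K₁) ≫ e₁.hom⟦(1 : ℤ)⟧' =
        e₃.hom ≫ δ := by
      rw [hd]
      dsimp only [δ']
      simp only [Category.assoc, Iso.inv_hom_id_app_assoc]
      rw [← Functor.map_comp, e₁.inv_hom_id, CategoryTheory.Functor.map_id, Category.comp_id]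
    obtain ⟨b, hb1, hb2⟩ := complete_distinguished_triangle_morphism₂ _ _ hGK hT e₁.hom e₃.hom comm
    let φ : G.mapDerivedCategory.mapTriangle.obj (Triangle.mk f g d) ⟶
        (t.triangleLEGE a (a + 1) rfl).obj M :=
      { hom₁ := e₁.hom, hom₂ := b, hom₃ := e₃.hom, comm₁ := hb1, comm₂ := hb2, comm₃ := comm }
    have hb : IsIso b := isIso₂_of_isIso₁₃ φ hGK hT (by dsimp [φ]; infer_instance)
      (by dsimp [φ]; infer_instance)
    refine ⟨K, ⟨cohIn_ext A₁ _ hK hK₁.1 hK₃.1, ?_, ?_⟩, ⟨@asIso _ _ _ _ b hb⟩⟩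
    · obtain ⟨a₁, ha₁⟩ := hK₁.2.1
      obtain ⟨a₃, ha₃⟩ := hK₃.2.1
      have : K₁.IsGE a₁ := ha₁
      have : K₃.IsGE a₃ := ha₃
      exact ⟨min a₁ a₃, t.isGE₂ _ hK _ (t.isGE_of_ge K₁ (min a₁ a₃) a₁ (min_le_left _ _))
        (t.isGE_of_ge K₃ (min a₁ a₃) a₃ (min_le_right _ _))⟩
    · obtain ⟨b₁, hb₁⟩ := hK₁.2.2
      obtain ⟨b₃, hb₃⟩ := hK₃.2.2
      have : K₁.IsLE b₁ := hb₁
      have : K₃.IsLE b₃ := hb₃
      exact ⟨max b₁ b₃, t.isLE₂ _ hK _ (t.isLE_of_le K₁ b₁ (max b₁ b₃) (le_max_left _ _))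
        (t.isLE_of_le K₃ b₃ (max b₁ b₃) (le_max_right _ _))⟩

include h2 hes in
/-- `G.mapDerivedCategory : D^b_{A₁} → D^b_{A₂}` is essentially surjective. -/
theorem exists_preimage (M : DerivedCategory C₂) (hM : WSerre.cohInBdd A₂ M) :
    ∃ K : DerivedCategory C₁, WSerre.cohInBdd A₁ K ∧ Nonempty (G.mapDerivedCategory.obj K ≅ M) := by
  obtain ⟨hc, ⟨a, ha⟩, ⟨b, hb⟩⟩ := hM
  have : M.IsGE a := ha
  have : M.IsLE b := hb
  by_cases hab : b < a
  · have hZ : IsZero M := t.isZero M b a hab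
    refine ⟨0, ⟨cohIn_of_isZero A₁ _ (isZero_zero _), ⟨0, t.isGE_of_isZero (isZero_zero _) 0⟩,
      ⟨0, t.isLE_of_isZero (isZero_zero _) 0⟩⟩, ⟨?_⟩⟩
    exact (G.mapDerivedCategory.map_isZero (isZero_zero _)).iso hZ
  · obtain ⟨n, rfl⟩ : ∃ n : ℕ, b = a + n := ⟨(b - a).toNat, by lia⟩
    exact exists_preimage_aux G A₁ A₂ h2 hes n M a hc

end Main

end Groth.Agent.Lib.DBddEquiv11
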