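import Groth.Agent.Lib.RDPlusLeray31

/-!
# The long exact sequence of the classical right derived functors `F.rightDerived n` (helper31)

We identify `F.rightDerived n` with the hyper-derived functor `X ↦ Hⁿ(R⁺F(X[0]))` and deduce
the long exact sequence attached to a short exact sequence (no horseshoe lemma needed).
-/

set_option autoImplicit false

open CategoryTheory Limits

namespace Groth.Agent.RDPlus31

section HomIso

variable {A B : Type*} [Category* A] [Category* B] [Abelian A] [Abelian B]
  [HasDerivedCategory B] (F : A ⥤ B) [F.Additive]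

/-- `Hⁿ(Q⁺(F K))` is the homology of the complex `F K`. -/
noncomputable def homIso (K : CochainComplex.Plus A) (n : ℤ) :
    (DerivedCategory.Plus.homologyFunctor B n).obj (DerivedCategory.Plus.Qh.obj
      (F.mapHomotopyCategoryPlus.obj ((HomotopyCategory.Plus.quotient A).obj K))) ≅
    ((F.mapHomologicalComplex (.up ℤ)).obj K.obj).homology n :=
  (DerivedCategory.homologyFunctorFactorsh B n).app
      ((HomotopyCategory.quotient B (.up ℤ)).obj ((F.mapHomologicalComplex (.up ℤ)).obj K.obj)) ≪≫
    (HomotopyCategory.homologyFunctorFactors B (.up ℤ) n).app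
      ((F.mapHomologicalComplex (.up ℤ)).obj K.obj)

lemma homIso_hom_naturality {K L : CochainComplex.Plus A} (f : K ⟶ L) (n : ℤ) :
    (DerivedCategory.Plus.homologyFunctor B n).map (DerivedCategory.Plus.Qh.map
      (F.mapHomotopyCategoryPlus.map ((HomotopyCategory.Plus.quotient A).map f))) ≫
        (homIso F L n).hom =
    (homIso F K n).hom ≫
      HomologicalComplex.homologyMap ((F.mapHomologicalComplex (.up ℤ)).map f.hom) n := by
  have h1 := (DerivedCategory.homologyFunctorFactorsh B n).hom.naturality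
    ((HomotopyCategory.quotient B (.up ℤ)).map ((F.mapHomologicalComplex (.up ℤ)).map f.hom))
  have h2 := (HomotopyCategory.homologyFunctorFactors B (.up ℤ) n).hom.naturality
    ((F.mapHomologicalComplex (.up ℤ)).map f.hom)
  dsimp only [Functor.comp_map] at h1 h2
  dsimp only [homIso, Iso.trans_hom, Iso.app_hom]
  show (DerivedCategory.homologyFunctor B n).map (DerivedCategory.Qh.map
    ((HomotopyCategory.quotient B (.up ℤ)).map ((F.mapHomologicalComplex (.up ℤ)).map f.hom))) ≫
    _ ≫ _ = _
  rw [reassoc_of% h1, Category.assoc]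
  congr 1

end HomIso

section HypIso

variable {A B : Type*} [Category* A] [Category* B] [Abelian A] [Abelian B]
  [HasDerivedCategory A] [HasDerivedCategory B] [EnoughInjectives A]
  (F : A ⥤ B) [F.Additive]

omit [EnoughInjectives A] in
instance isIso_Qh_map_quotient_map {K L : CochainComplex.Plus A} (s : K ⟶ L) [QuasiIso s.hom] :
    IsIso (DerivedCategory.Plus.Qh.map ((HomotopyCategory.Plus.quotient A).map s)) := by
  apply Localization.inverts DerivedCategory.Plus.Qh (HomotopyCategory.Plus.quasiIso A)
  show HomotopyCategory.quasiIso A _ ((HomotopyCategory.quotient A (.up ℤ)).map s.hom)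
  rw [HomotopyCategory.quotient_map_mem_quasiIso_iff, HomologicalComplex.mem_quasiIso_iff]
  infer_instance

/-- The map `X[0] ⟶ Y[0]` in `CochainComplex.Plus A`. -/
noncomputable def singlePlusMap {X Y : A} (f : X ⟶ Y) : singlePlus X ⟶ singlePlus Y :=
  ObjectProperty.homMk ((CochainComplex.singleFunctor A 0).map f)

omit [HasDerivedCategory A] [EnoughInjectives A] in
lemma singleFunctor_map_eq {X Y : A} (f : X ⟶ Y) :
    (HomotopyCategory.Plus.singleFunctor A 0).map f =
      (HomotopyCategory.Plus.quotient A).map (singlePlusMap f) := rfl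

/-- The morphism `R ⟶ R'` in `CochainComplex.Plus A` induced by a morphism of injective
resolutions. -/
noncomputable def resPlusMap {X X' : A} {R : InjectiveResolution X} {R' : InjectiveResolution X'}
    {f : X ⟶ X'} (φ : InjectiveResolution.Hom R R' f) : resPlus R ⟶ resPlus R' :=
  ObjectProperty.homMk φ.hom'

omit [HasDerivedCategory A] [EnoughInjectives A] in
lemma ιPlus_comp_resPlusMap {X X' : A} {R : InjectiveResolution X} {R' : InjectiveResolution X'}
    {f : X ⟶ X'} (φ : InjectiveResolution.Hom R R' f) :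
    ιPlus R ≫ resPlusMap φ = singlePlusMap f ≫ ιPlus R' := by
  apply ObjectProperty.hom_ext
  exact InjectiveResolution.Hom.ι'_comp_hom' φ

instance instInjectiveResPlus {X : A} (R : InjectiveResolution X) (n : ℤ) :
    Injective ((resPlus R).obj.X n) :=
  inferInstanceAs (Injective (R.cochainComplex.X n))

instance instQuasiIsoιPlus {X : A} (R : InjectiveResolution X) : QuasiIso (ιPlus R).hom :=
  inferInstanceAs (QuasiIso R.ι')

instance instIsIsoUnitResPlus {X : A} (R : InjectiveResolution X) :
    IsIso (F.rightDerivedFunctorPlusUnit.app ((HomotopyCategory.Plus.quotient A).obj (resPlus R))) :=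
  inferInstance

/-- `R⁺F(X[0]) ≅ Q⁺(F(R))` for an injective resolution `R` of `X`. -/
noncomputable def rfSingleIso {X : A} (R : InjectiveResolution X) :
    F.rightDerivedFunctorPlus.obj (DerivedCategory.Plus.Qh.obj
      ((HomotopyCategory.Plus.quotient A).obj (singlePlus X))) ≅
    DerivedCategory.Plus.Qh.obj
      (F.mapHomotopyCategoryPlus.obj ((HomotopyCategory.Plus.quotient A).obj (resPlus R))) :=
  F.rightDerivedFunctorPlus.mapIso
      (asIso (DerivedCategory.Plus.Qh.map ((HomotopyCategory.Plus.quotient A).map (ιPlus R)))) ≪≫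
    (asIso (F.rightDerivedFunctorPlusUnit.app
      ((HomotopyCategory.Plus.quotient A).obj (resPlus R)))).symm

lemma rfSingleIso_hom_naturality {X X' : A} {R : InjectiveResolution X}
    {R' : InjectiveResolution X'} {f : X ⟶ X'} (φ : InjectiveResolution.Hom R R' f) :
    F.rightDerivedFunctorPlus.map (DerivedCategory.Plus.Qh.map
      ((HomotopyCategory.Plus.quotient A).map (singlePlusMap f))) ≫ (rfSingleIso F R').hom =
    (rfSingleIso F R).hom ≫ DerivedCategory.Plus.Qh.map
      (F.mapHomotopyCategoryPlus.map ((HomotopyCategory.Plus.quotient A).map (resPlusMap φ))) := by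
  have nat := F.rightDerivedFunctorPlusUnit.naturality
    ((HomotopyCategory.Plus.quotient A).map (resPlusMap φ))
  dsimp only [Functor.comp_map] at nat
  have h1 : F.rightDerivedFunctorPlus.map (DerivedCategory.Plus.Qh.map
      ((HomotopyCategory.Plus.quotient A).map (ιPlus R))) ≫
      F.rightDerivedFunctorPlus.map (DerivedCategory.Plus.Qh.map
        ((HomotopyCategory.Plus.quotient A).map (resPlusMap φ))) =
      F.rightDerivedFunctorPlus.map (DerivedCategory.Plus.Qh.map
        ((HomotopyCategory.Plus.quotient A).map (singlePlusMap f))) ≫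
      F.rightDerivedFunctorPlus.map (DerivedCategory.Plus.Qh.map
        ((HomotopyCategory.Plus.quotient A).map (ιPlus R'))) := by
    rw [← Functor.map_comp, ← Functor.map_comp, ← Functor.map_comp, ← Functor.map_comp,
      ← Functor.map_comp, ← Functor.map_comp, ιPlus_comp_resPlusMap]
  dsimp only [rfSingleIso, Iso.trans_hom, Functor.mapIso_hom, asIso_hom, Iso.symm_hom, asIso_inv]
  rw [← Category.assoc, ← h1, Category.assoc, Category.assoc]
  congr 1
  rw [IsIso.comp_inv_eq, Category.assoc, IsIso.eq_inv_comp, nat]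

omit [HasDerivedCategory A] [HasDerivedCategory B] [EnoughInjectives A] in
/-- `Hᵏ(F(K_ℤ)) ≅ Hᵏ(F(K))` for a cochain complex `K` indexed by `ℕ`. -/
noncomputable def extHomIso (K : CochainComplex A ℕ) (k : ℕ) :
    ((F.mapHomologicalComplex (.up ℤ)).obj
      (K.extend ComplexShape.embeddingUpNat)).homology (k : ℤ) ≅
      ((F.mapHomologicalComplex (.up ℕ)).obj K).homology k :=
  HomologicalComplex.homologyMapIso (mapExtendIso F K ComplexShape.embeddingUpNat) (k : ℤ) ≪≫
    HomologicalComplex.extendHomologyIso ((F.mapHomologicalComplex (.up ℕ)).obj K)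
      ComplexShape.embeddingUpNat (j := k) (j' := (k : ℤ)) rfl

omit [HasDerivedCategory A] [HasDerivedCategory B] [EnoughInjectives A] in
lemma extHomIso_hom_naturality {K L : CochainComplex A ℕ} (g : K ⟶ L) (k : ℕ) :
    HomologicalComplex.homologyMap ((F.mapHomologicalComplex (.up ℤ)).map
      (HomologicalComplex.extendMap g ComplexShape.embeddingUpNat)) (k : ℤ) ≫
      (extHomIso F L k).hom =
    (extHomIso F K k).hom ≫
      HomologicalComplex.homologyMap ((F.mapHomologicalComplex (.up ℕ)).map g) k := by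
  have h1 : HomologicalComplex.homologyMap ((F.mapHomologicalComplex (.up ℤ)).map
      (HomologicalComplex.extendMap g ComplexShape.embeddingUpNat)) (k : ℤ) ≫
      HomologicalComplex.homologyMap
        (mapExtendIso F L ComplexShape.embeddingUpNat).hom (k : ℤ) =
      HomologicalComplex.homologyMap
        (mapExtendIso F K ComplexShape.embeddingUpNat).hom (k : ℤ) ≫
      HomologicalComplex.homologyMap (HomologicalComplex.extendMap
        ((F.mapHomologicalComplex (.up ℕ)).map g) ComplexShape.embeddingUpNat) (k : ℤ) := by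
    rw [← HomologicalComplex.homologyMap_comp, ← HomologicalComplex.homologyMap_comp,
      mapExtendIso_hom_naturality]
  have h2 := HomologicalComplex.extendHomologyIso_hom_naturality
    ((F.mapHomologicalComplex (.up ℕ)).map g) ComplexShape.embeddingUpNat
    (j := k) (j' := (k : ℤ)) rfl
  show _ ≫ (HomologicalComplex.homologyMap _ _ ≫ _) =
    (HomologicalComplex.homologyMap _ _ ≫ _) ≫ _
  rw [reassoc_of% h1, h2, Category.assoc]

omit [HasDerivedCategory A] [HasDerivedCategory B] in
/-- `Hᵏ(F(R)) ≅ RᵏF X` for an injective resolution `R` of `X` (viewed as a `ℤ`-indexed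
complex). -/
noncomputable def resHomologyIso {X : A} (R : InjectiveResolution X) (k : ℕ) :
    ((F.mapHomologicalComplex (.up ℤ)).obj (resPlus R).obj).homology (k : ℤ) ≅
      (F.rightDerived k).obj X :=
  extHomIso F R.cocomplex k ≪≫ (R.isoRightDerivedObj F k).symm

omit [HasDerivedCategory A] [HasDerivedCategory B] in
lemma resHomologyIso_hom_naturality {X X' : A} {R : InjectiveResolution X}
    {R' : InjectiveResolution X'} {f : X ⟶ X'} (φ : InjectiveResolution.Hom R R' f) (k : ℕ) :
    HomologicalComplex.homologyMap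
        ((F.mapHomologicalComplex (.up ℤ)).map (resPlusMap φ).hom) (k : ℤ) ≫
      (resHomologyIso F R' k).hom =
    (resHomologyIso F R k).hom ≫ (F.rightDerived k).map f := by
  have h1 := extHomIso_hom_naturality F φ.hom k
  have h3 := InjectiveResolution.isoRightDerivedObj_inv_naturality f R R' φ.hom
    (by simpa using φ.ι_f_zero_comp_hom_f_zero) F k
  dsimp only [Functor.comp_map, HomologicalComplex.homologyFunctor_map] at h3
  show HomologicalComplex.homologyMap ((F.mapHomologicalComplex (.up ℤ)).map
      (HomologicalComplex.extendMap φ.hom ComplexShape.embeddingUpNat)) (k : ℤ) ≫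
      (extHomIso F R'.cocomplex k).hom ≫ (R'.isoRightDerivedObj F k).inv =
    ((extHomIso F R.cocomplex k).hom ≫ (R.isoRightDerivedObj F k).inv) ≫ _
  rw [reassoc_of% h1, Category.assoc]
  congr 1
  exact h3.symm

/-- `Hᵏ(R⁺F(X[0])) ≅ RᵏF X`, constructed from an injective resolution `R` of `X`. -/
noncomputable def hypIso {X : A} (R : InjectiveResolution X) (k : ℕ) :
    (hyp F (k : ℤ)).obj X ≅ (F.rightDerived k).obj X :=
  (DerivedCategory.Plus.homologyFunctor B (k : ℤ)).mapIso (rfSingleIso F R) ≪≫
    homIso F (resPlus R) (k : ℤ) ≪≫ resHomologyIso F R k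

lemma hypIso_hom_naturality {X X' : A} {R : InjectiveResolution X}
    {R' : InjectiveResolution X'} {f : X ⟶ X'} (φ : InjectiveResolution.Hom R R' f) (k : ℕ) :
    (hyp F (k : ℤ)).map f ≫ (hypIso F R' k).hom =
      (hypIso F R k).hom ≫ (F.rightDerived k).map f := by
  have h1 : (DerivedCategory.Plus.homologyFunctor B (k : ℤ)).map
      (F.rightDerivedFunctorPlus.map (DerivedCategory.Plus.Qh.map
        ((HomotopyCategory.Plus.quotient A).map (singlePlusMap f)))) ≫
      (DerivedCategory.Plus.homologyFunctor B (k : ℤ)).map (rfSingleIso F R').hom =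
      (DerivedCategory.Plus.homologyFunctor B (k : ℤ)).map (rfSingleIso F R).hom ≫
      (DerivedCategory.Plus.homologyFunctor B (k : ℤ)).map (DerivedCategory.Plus.Qh.map
        (F.mapHomotopyCategoryPlus.map ((HomotopyCategory.Plus.quotient A).map
          (resPlusMap φ)))) := by
    rw [← Functor.map_comp, ← Functor.map_comp, rfSingleIso_hom_naturality]
  have h2 := homIso_hom_naturality F (resPlusMap φ) (k : ℤ)
  have h3 := resHomologyIso_hom_naturality F φ k
  show (DerivedCategory.Plus.homologyFunctor B (k : ℤ)).map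
      (F.rightDerivedFunctorPlus.map (DerivedCategory.Plus.Qh.map
        ((HomotopyCategory.Plus.quotient A).map (singlePlusMap f)))) ≫
      ((DerivedCategory.Plus.homologyFunctor B (k : ℤ)).map (rfSingleIso F R').hom ≫
        (homIso F (resPlus R') (k : ℤ)).hom ≫ (resHomologyIso F R' k).hom) =
    ((DerivedCategory.Plus.homologyFunctor B (k : ℤ)).map (rfSingleIso F R).hom ≫
        (homIso F (resPlus R) (k : ℤ)).hom ≫ (resHomologyIso F R k).hom) ≫ _
  rw [reassoc_of% h1, reassoc_of% h2, h3, Category.assoc, Category.assoc]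

/-- The natural isomorphism between the hyper-derived functor `X ↦ Hᵏ(R⁺F(X[0]))` and the
classical right derived functor `RᵏF`. -/
noncomputable def hypNatIso (k : ℕ) : hyp F (k : ℤ) ≅ F.rightDerived k :=
  NatIso.ofComponents (fun X => hypIso F (injectiveResolution X) k) (fun {X Y} f => by
    let φ : InjectiveResolution.Hom (injectiveResolution X) (injectiveResolution Y) f :=
      { hom := InjectiveResolution.desc f _ _
        ι_f_zero_comp_hom_f_zero := by
          simpa using InjectiveResolution.desc_commutes_zero f _ _ }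
    exact hypIso_hom_naturality F φ k)

end HypIso
section LES

variable {A B : Type*} [Category* A] [Category* B] [Abelian A] [Abelian B]
  [EnoughInjectives A] (F : A ⥤ B) [F.Additive]

/-- **The long exact sequence of right derived functors** attached to a short exact sequence
`0 ⟶ X₁ ⟶ X₂ ⟶ X₃ ⟶ 0`: there are connecting morphisms `δ n : RⁿF X₃ ⟶ Rⁿ⁺¹F X₁` such that
`RⁿF X₁ ⟶ RⁿF X₂ ⟶ RⁿF X₃ ⟶ Rⁿ⁺¹F X₁ ⟶ Rⁿ⁺¹F X₂` is exact, and `R⁰F X₁ ⟶ R⁰F X₂` is a mono. -/
theorem rightDerived_les {S : ShortComplex A} (hS : S.ShortExact) :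
    ∃ δ : ∀ n : ℕ, (F.rightDerived n).obj S.X₃ ⟶ (F.rightDerived (n + 1)).obj S.X₁,
      Mono ((F.rightDerived 0).map S.f) ∧ ∀ n : ℕ,
      (∃ w, (ShortComplex.mk ((F.rightDerived n).map S.f) ((F.rightDerived n).map S.g) w).Exact) ∧
      (∃ w, (ShortComplex.mk ((F.rightDerived n).map S.g) (δ n) w).Exact) ∧
      (∃ w, (ShortComplex.mk (δ n) ((F.rightDerived (n + 1)).map S.f) w).Exact) := by
  have : HasDerivedCategory A := HasDerivedCategory.standard A
  have : HasDerivedCategory B := HasDerivedCategory.standard B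
  obtain ⟨δ, hδ⟩ := hyp_les F hS
  let e : ∀ (n : ℕ) (X : A), (hyp F (n : ℤ)).obj X ≅ (F.rightDerived n).obj X :=
    fun n X => (hypNatIso F n).app X
  let e' : ∀ (n : ℕ) (X : A), (hyp F ((n : ℤ) + 1)).obj X ≅ (F.rightDerived (n + 1)).obj X :=
    fun n X => (hypNatIso F (n + 1)).app X
  have nat : ∀ (n : ℕ) {X Y : A} (f : X ⟶ Y),
      (hyp F (n : ℤ)).map f ≫ (e n Y).hom = (e n X).hom ≫ (F.rightDerived n).map f :=
    fun n {X Y} f => (hypNatIso F n).hom.naturality f
  have nat' : ∀ (n : ℕ) {X Y : A} (f : X ⟶ Y),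
      (hyp F ((n : ℤ) + 1)).map f ≫ (e' n Y).hom = (e' n X).hom ≫ (F.rightDerived (n + 1)).map f :=
    fun n {X Y} f => (hypNatIso F (n + 1)).hom.naturality f
  refine ⟨fun n => (e n S.X₃).inv ≫ δ (n : ℤ) ≫ (e' n S.X₁).hom, ?_, fun n => ⟨?_, ?_, ?_⟩⟩
  · obtain ⟨w, hw⟩ := (hδ (-1)).2.2
    have h0 : δ (-1) = 0 := (isZero_hyp_of_neg F S.X₃ (-1) (by omega)).eq_of_src _ _
    have hm : Mono ((hyp F ((0 : ℕ) : ℤ)).map S.f) := hw.mono_g h0
    have h1 : Mono ((e 0 S.X₁).hom ≫ (F.rightDerived 0).map S.f) := by
      rw [← nat 0 S.f]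
      infer_instance
    have : (F.rightDerived 0).map S.f =
        (e 0 S.X₁).inv ≫ (e 0 S.X₁).hom ≫ (F.rightDerived 0).map S.f :=
      (Iso.inv_hom_id_assoc _ _).symm
    rw [this]
    infer_instance
  · obtain ⟨w, hw⟩ := (hδ (n : ℤ)).1
    have w' : (F.rightDerived n).map S.f ≫ (F.rightDerived n).map S.g = 0 := by
      rw [← cancel_epi (e n S.X₁).hom, ← Category.assoc, ← nat n S.f, Category.assoc, ← nat n S.g,
        ← Category.assoc, w, zero_comp, comp_zero]
    refine ⟨w', (ShortComplex.exact_iff_of_iso (ShortComplex.isoMk (e n S.X₁) (e n S.X₂) (e n S.X₃)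
      ?_ ?_)).1 hw⟩
    · exact (nat n S.f).symm
    · exact (nat n S.g).symm
  · obtain ⟨w, hw⟩ := (hδ (n : ℤ)).2.1
    have c₂₃ : δ (n : ℤ) ≫ (e' n S.X₁).hom =
        (e n S.X₃).hom ≫ (e n S.X₃).inv ≫ δ (n : ℤ) ≫ (e' n S.X₁).hom := by
      rw [Iso.hom_inv_id_assoc]
    have w' : (F.rightDerived n).map S.g ≫ (e n S.X₃).inv ≫ δ (n : ℤ) ≫ (e' n S.X₁).hom = 0 := by
      rw [← cancel_epi (e n S.X₂).hom, ← Category.assoc, ← nat n S.g, Category.assoc,
        Iso.hom_inv_id_assoc, ← Category.assoc, w, zero_comp, comp_zero]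
    refine ⟨w', (ShortComplex.exact_iff_of_iso (ShortComplex.isoMk (e n S.X₂) (e n S.X₃)
      (e' n S.X₁) ?_ ?_)).1 hw⟩
    · exact (nat n S.g).symm
    · exact c₂₃.symm
  · obtain ⟨w, hw⟩ := (hδ (n : ℤ)).2.2
    have c₁₂ : δ (n : ℤ) ≫ (e' n S.X₁).hom =
        (e n S.X₃).hom ≫ (e n S.X₃).inv ≫ δ (n : ℤ) ≫ (e' n S.X₁).hom := by
      rw [Iso.hom_inv_id_assoc]
    have w' : ((e n S.X₃).inv ≫ δ (n : ℤ) ≫ (e' n S.X₁).hom) ≫
        (F.rightDerived (n + 1)).map S.f = 0 := by
      rw [Category.assoc, Category.assoc, ← nat' n S.f, ← Category.assoc (δ (n : ℤ)), w, zero_comp,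
        comp_zero]
    refine ⟨w', (ShortComplex.exact_iff_of_iso (ShortComplex.isoMk (e n S.X₃) (e' n S.X₁)
      (e' n S.X₂) ?_ ?_)).1 hw⟩
    · exact c₁₂.symm
    · exact (nat' n S.f).symm

instance rightDerived_additive (n : ℕ) : (F.rightDerived n).Additive where
  map_add {X Y f g} := by
    rw [F.rightDerived_map_eq n (f + g) (P := injectiveResolution X) (Q := injectiveResolution Y)
        (InjectiveResolution.desc f _ _ + InjectiveResolution.desc g _ _)
        (by rw [Preadditive.comp_add, InjectiveResolution.desc_commutes,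
          InjectiveResolution.desc_commutes, Functor.map_add, Preadditive.add_comp]),
      F.rightDerived_map_eq n f (InjectiveResolution.desc f _ _)
        (InjectiveResolution.desc_commutes f _ _),
      F.rightDerived_map_eq n g (InjectiveResolution.desc g _ _)
        (InjectiveResolution.desc_commutes g _ _),
      Functor.map_add, Preadditive.add_comp, Preadditive.comp_add]

/-- `R⁰F` is left exact, for any additive functor `F`. -/
instance preservesFiniteLimits_rightDerived_zero : PreservesFiniteLimits (F.rightDerived 0) := by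
  rw [Functor.preservesFiniteLimits_iff_forall_exact_map_and_mono]
  intro S hS
  obtain ⟨δ, hm, h⟩ := rightDerived_les F hS
  obtain ⟨w, hw⟩ := (h 0).1
  exact ⟨hw, hm⟩

end LES

end Groth.Agent.RDPlus31
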