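import Mathlib.Algebra.Homology.DerivedCategory.KInjective
import Mathlib.CategoryTheory.Functor.Derived.PointwiseRightDerived

/-!
# Right derived functors on `D(A)` via K-injective resolutions (helper31)

Any functor `F : K(A) ⥤ H` has a pointwise right derived functor (w.r.t. quasi-isomorphisms) at
every K-injective complex, with unit an isomorphism there; hence if every complex has a
K-injective resolution, `F` has a right derived functor.
-/

set_option autoImplicit false

open CategoryTheory Limits

namespace Groth.Agent.KInjDerived31

variable {A : Type*} [Category* A] [Abelian A] [HasDerivedCategory A]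
  {H : Type*} [Category* H]

/-- For `I` K-injective, `(I, 𝟙)` is terminal in the category of objects of `K(A)` over
`Qh(I)`. -/
noncomputable def isTerminalMkId (I : CochainComplex A ℤ) [I.IsKInjective] :
    IsTerminal (CostructuredArrow.mk (S := DerivedCategory.Qh)
      (Y := (HomotopyCategory.quotient A (.up ℤ)).obj I)
      (𝟙 (DerivedCategory.Qh.obj ((HomotopyCategory.quotient A (.up ℤ)).obj I)))) := by
  refine IsTerminal.ofUniqueHom (fun X => CostructuredArrow.homMk
    ((CochainComplex.IsKInjective.Qh_map_bijective X.left I).surjective X.hom).choose ?_)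
    (fun X m => ?_)
  · dsimp
    rw [Category.comp_id]
    exact ((CochainComplex.IsKInjective.Qh_map_bijective X.left I).surjective X.hom).choose_spec
  · apply CostructuredArrow.hom_ext
    apply (CochainComplex.IsKInjective.Qh_map_bijective X.left I).injective
    have h1 := CostructuredArrow.w m
    dsimp at h1 ⊢
    rw [Category.comp_id] at h1
    rw [h1]
    exact ((CochainComplex.IsKInjective.Qh_map_bijective X.left I).surjective
      X.hom).choose_spec.symm

variable (F : HomotopyCategory A (ComplexShape.up ℤ) ⥤ H)

lemma hasPointwiseRightDerivedFunctorAt_of_isKInjective (I : CochainComplex A ℤ)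
    [I.IsKInjective] :
    F.HasPointwiseRightDerivedFunctorAt (HomotopyCategory.quasiIso A (ComplexShape.up ℤ))
      ((HomotopyCategory.quotient A (.up ℤ)).obj I) := by
  rw [F.hasPointwiseRightDerivedFunctorAt_iff DerivedCategory.Qh
    (HomotopyCategory.quasiIso A (ComplexShape.up ℤ))]
  exact ⟨⟨_, colimitOfDiagramTerminal (isTerminalMkId I) _⟩⟩

/-- If every complex admits a quasi-isomorphism to a K-injective complex, every functor on
`K(A)` has a pointwise right derived functor with respect to quasi-isomorphisms. -/
lemma hasPointwiseRightDerivedFunctor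
    (hKinj : ∀ K : CochainComplex A ℤ, ∃ (I : CochainComplex A ℤ) (f : K ⟶ I),
      I.IsKInjective ∧ QuasiIso f) :
    F.HasPointwiseRightDerivedFunctor (HomotopyCategory.quasiIso A (ComplexShape.up ℤ)) := by
  intro K
  obtain ⟨K, rfl⟩ := HomotopyCategory.quotient_obj_surjective K
  obtain ⟨I, f, hI, hf⟩ := hKinj K
  rw [F.hasPointwiseRightDerivedFunctorAt_iff_of_mem
    (HomotopyCategory.quasiIso A (ComplexShape.up ℤ))
    ((HomotopyCategory.quotient A (.up ℤ)).map f)
    (by rwa [HomotopyCategory.quotient_map_mem_quasiIso_iff, HomologicalComplex.mem_quasiIso_iff])]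
  exact hasPointwiseRightDerivedFunctorAt_of_isKInjective F I

/-- The unit of a right derived functor of `F` is an isomorphism at K-injective complexes
(when `F` has a pointwise right derived functor). -/
lemma isIso_unit_app_of_isKInjective
    [F.HasPointwiseRightDerivedFunctor (HomotopyCategory.quasiIso A (ComplexShape.up ℤ))]
    (RF : DerivedCategory A ⥤ H) (α : F ⟶ DerivedCategory.Qh ⋙ RF)
    [RF.IsRightDerivedFunctor α (HomotopyCategory.quasiIso A (ComplexShape.up ℤ))]
    (I : CochainComplex A ℤ) [I.IsKInjective] :
    IsIso (α.app ((HomotopyCategory.quotient A (.up ℤ)).obj I)) := by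
  have h := Functor.isPointwiseLeftKanExtensionOfHasPointwiseRightDerivedFunctor
    (F' := RF) (α := α) (HomotopyCategory.quasiIso A (ComplexShape.up ℤ))
  have := (h (DerivedCategory.Qh.obj ((HomotopyCategory.quotient A (.up ℤ)).obj I))
    ).isIso_ι_app_of_isTerminal _ (isTerminalMkId I)
  have h2 : ((Functor.LeftExtension.mk RF α).coconeAt
      (DerivedCategory.Qh.obj ((HomotopyCategory.quotient A (.up ℤ)).obj I))).ι.app
      (CostructuredArrow.mk (𝟙 (DerivedCategory.Qh.obj
        ((HomotopyCategory.quotient A (.up ℤ)).obj I)))) =
      α.app ((HomotopyCategory.quotient A (.up ℤ)).obj I) := by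
    simp
  rw [h2] at this
  exact this

end Groth.Agent.KInjDerived31
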