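import Groth.Agent.Lib.TriangDesc31
import Groth.Agent.Lib.KInjDerived31
import Mathlib.Algebra.Homology.DerivedCategory.KInjective
import Mathlib.CategoryTheory.Triangulated.Subcategory

/-!
# Unbounded right derived functors are additive and preserve distinguished triangles (helper31)

`Φ : K(A) ⥤ 𝒟'` triangulated, enough K-injectives in `A`, `(RΦ, u)` a right derived functor of
`Φ` with respect to quasi-isomorphisms.  Then `RΦ` is additive and sends distinguished triangles
to distinguished triangles (with a suitable third morphism).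
-/

set_option autoImplicit false

open CategoryTheory Limits Pretriangulated

universe w v u

namespace Groth.Agent.RFTriang31

variable (A : Type u) [Category.{v} A] [Abelian A]

/-- the property of being K-injective, on the homotopy category -/
abbrev KI : ObjectProperty (HomotopyCategory A (ComplexShape.up ℤ)) :=
  (HomotopyCategory.subcategoryAcyclic A).rightOrthogonal

variable [HasDerivedCategory.{w} A]

/-- `K(K-inj) ⥤ D(A)` -/
noncomputable abbrev E : (KI A).FullSubcategory ⥤ DerivedCategory A :=
  (KI A).ι ⋙ DerivedCategory.Qh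

variable {A}

lemma isKInjective_of_KI (X : HomotopyCategory A (ComplexShape.up ℤ)) (hX : KI A X) :
    CochainComplex.IsKInjective X.as := by
  rw [CochainComplex.isKInjective_iff_rightOrthogonal]
  exact hX

instance full_E : (E A).Full where
  map_surjective {X Y} f := by
    haveI := isKInjective_of_KI Y.obj Y.property
    obtain ⟨g, hg⟩ := (CochainComplex.IsKInjective.Qh_map_bijective X.obj Y.obj.as).2 f
    exact ⟨(KI A).fullyFaithfulι.preimage g, by
      change DerivedCategory.Qh.map ((KI A).ι.map ((KI A).fullyFaithfulι.preimage g)) = f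
      rw [Functor.FullyFaithful.map_preimage]
      exact hg⟩

variable (hKinj : ∀ K : CochainComplex A ℤ, ∃ (I : CochainComplex A ℤ) (f : K ⟶ I),
  I.IsKInjective ∧ QuasiIso f)

include hKinj in
lemma essSurj_E : (E A).EssSurj where
  mem_essImage X := by
    let K := DerivedCategory.Q.objPreimage X
    obtain ⟨I, f, hI, hf⟩ := hKinj K
    have : IsIso (DerivedCategory.Q.map f) := by
      rw [DerivedCategory.isIso_Q_map_iff_quasiIso]; exact hf
    refine ⟨⟨(HomotopyCategory.quotient A (ComplexShape.up ℤ)).obj I,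
      CochainComplex.IsKInjective.rightOrthogonal I⟩, ⟨?_⟩⟩
    exact (asIso (DerivedCategory.Q.map f)).symm ≪≫ DerivedCategory.Q.objObjPreimageIso X

variable {𝒟' : Type*} [Category* 𝒟'] [Preadditive 𝒟'] [HasZeroObject 𝒟'] [HasShift 𝒟' ℤ]
  [∀ n : ℤ, (shiftFunctor 𝒟' n).Additive] [Pretriangulated 𝒟']
  (Φ : HomotopyCategory A (ComplexShape.up ℤ) ⥤ 𝒟') [Φ.CommShift ℤ] [Φ.IsTriangulated]
  (RΦ : DerivedCategory A ⥤ 𝒟') (α : Φ ⟶ DerivedCategory.Qh ⋙ RΦ)
  [RΦ.IsRightDerivedFunctor α (HomotopyCategory.quasiIso A (ComplexShape.up ℤ))]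

include hKinj in
lemma isIso_α_app (X : (KI A).FullSubcategory) : IsIso (α.app X.obj) := by
  haveI := isKInjective_of_KI X.obj X.property
  haveI := Groth.Agent.KInjDerived31.hasPointwiseRightDerivedFunctor Φ hKinj
  exact Groth.Agent.KInjDerived31.isIso_unit_app_of_isKInjective Φ RΦ α X.obj.as

/-- `Φ` restricted to K-injectives is `RΦ` -/
noncomputable def θ : (KI A).ι ⋙ Φ ≅ E A ⋙ RΦ :=
  haveI := fun X => isIso_α_app hKinj Φ RΦ α X
  NatIso.ofComponents (fun X => asIso (α.app X.obj)) (fun {X Y} f => α.naturality f.hom)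

include hKinj α in
/-- the derived functor is additive -/
theorem additive : RΦ.Additive :=
  haveI := essSurj_E hKinj
  Groth.Agent.TriangDesc31.additive (E A) ((KI A).ι ⋙ Φ) RΦ (θ hKinj Φ RΦ α)

include hKinj α in
/-- the derived functor sends distinguished triangles to distinguished triangles -/
theorem exists_distinguished (T : Triangle (DerivedCategory A))
    (hT : T ∈ distTriang (DerivedCategory A)) :
    ∃ δ : RΦ.obj T.obj₃ ⟶ (shiftFunctor 𝒟' (1 : ℤ)).obj (RΦ.obj T.obj₁),
      Triangle.mk (RΦ.map T.mor₁) (RΦ.map T.mor₂) δ ∈ distTriang 𝒟' :=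
  haveI := essSurj_E hKinj
  Groth.Agent.TriangDesc31.exists_distinguished (E A) ((KI A).ι ⋙ Φ) RΦ (θ hKinj Φ RΦ α) T hT

end Groth.Agent.RFTriang31
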