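import Groth.Agent.Lib.RlimRFVia31
import Groth.Agent.Lib.RFTriang31
import Groth.Agent.Lib.RDLES31
import Groth.Agent.Lib.TruncStep31
import Groth.Prelude.Def_WeakSerre

/-!
# Unbounded right derived functors on bounded below objects (helper31)

`F : A ⥤ B` additive, `A` Grothendieck abelian, `RF` the unbounded total right derived functor
(under its existence binder).
* `isGE_RF_obj`: `RF` is left t-exact.
* `nonempty_RF_shift_iso`: `RF(X⟦s⟧) ≅ (RF X)⟦s⟧`.
* `nonempty_homology_RF_single`: `H^q(RF(M[-a])) ≅ R^pF(M)` for `a + p = q`.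
* dévissage: `isIso_homology_RF_ν`, `prop_homology_RF`.
-/

set_option autoImplicit false

open CategoryTheory Limits Pretriangulated DerivedCategory DerivedCategory.TStructure

namespace Groth.Agent.RFBdd31

open Groth.Agent.RlimRFVia31

universe w w' v v' u u'

variable {A : Type u} [Category.{v} A] [Abelian A] [IsGrothendieckAbelian.{v} A]
  [HasDerivedCategory.{w} A]
  {B : Type u'} [Category.{v'} B] [Abelian B] [HasDerivedCategory.{w'} B]
  (F : A ⥤ B) [F.Additive]
  [(Φ F).HasRightDerivedFunctor (HomotopyCategory.quasiIso A (ComplexShape.up ℤ))]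

/-- `RF (Q I) ≅ Q (F I)` for K-injective `I` -/
noncomputable def RFQIso (I : CochainComplex A ℤ) [I.IsKInjective] :
    (RF F).obj (Q.obj I) ≅ Q.obj ((F.mapHomologicalComplex (ComplexShape.up ℤ)).obj I) :=
  (ρ F I).symm

/-- every object is `Q` of a K-injective complex -/
lemma exists_kinj_model (X : DerivedCategory A) :
    ∃ (I : CochainComplex A ℤ), I.IsKInjective ∧ Nonempty (X ≅ Q.obj I) := by
  obtain ⟨I, f, hI, hf⟩ := hKinj (Q.objPreimage X)
  have : IsIso (Q.map f) := by rw [isIso_Q_map_iff_quasiIso]; exact hf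
  exact ⟨I, hI, ⟨(Q.objObjPreimageIso X).symm ≪≫ asIso (Q.map f)⟩⟩

/-- `RF` is left t-exact -/
lemma isGE_RF_obj (X : DerivedCategory A) (a : ℤ) [X.IsGE a] : ((RF F).obj X).IsGE a := by
  obtain ⟨M, hM, ⟨e⟩⟩ := exists_iso_Q_obj_of_isGE X a
  obtain ⟨J, i, hi, hJ, hJb⟩ :=
    CochainComplex.Plus.modelCategoryQuillen.exists_quasiIso_injective M a
  haveI : J.IsKInjective := CochainComplex.isKInjective_of_injective J a
  have : IsIso (Q.map i) := by rw [isIso_Q_map_iff_quasiIso]; exact hi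
  let e' : (RF F).obj X ≅ Q.obj ((F.mapHomologicalComplex (ComplexShape.up ℤ)).obj J) :=
    (RF F).mapIso (e ≪≫ asIso (Q.map i)) ≪≫ RFQIso F J
  have h1 : CochainComplex.IsStrictlyGE ((F.mapHomologicalComplex (ComplexShape.up ℤ)).obj J) a :=
    inferInstance
  have h2 : (Q.obj ((F.mapHomologicalComplex (ComplexShape.up ℤ)).obj J)).IsGE a :=
    inferInstance
  exact t.isGE_of_iso e'.symm a

/-- `RF` commutes with shifts (non-naturally) -/
lemma nonempty_RF_shift_iso (X : DerivedCategory A) (s : ℤ) :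
    Nonempty ((RF F).obj (X⟦s⟧) ≅ ((RF F).obj X)⟦s⟧) := by
  obtain ⟨I, hI, ⟨e⟩⟩ := exists_kinj_model X
  let e₁ : X⟦s⟧ ≅ Q.obj (I⟦s⟧) :=
    (shiftFunctor _ s).mapIso e ≪≫ ((Q.commShiftIso s).app I).symm
  let e₂ : Q.obj (((F.mapHomologicalComplex (ComplexShape.up ℤ)).obj I)⟦s⟧) ≅
      (Q.obj ((F.mapHomologicalComplex (ComplexShape.up ℤ)).obj I))⟦s⟧ :=
    (Q.commShiftIso s).app _
  let e₃ : (F.mapHomologicalComplex (ComplexShape.up ℤ)).obj (I⟦s⟧) ≅
      ((F.mapHomologicalComplex (ComplexShape.up ℤ)).obj I)⟦s⟧ :=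
    ((F.mapHomologicalComplex (ComplexShape.up ℤ)).commShiftIso s).app I
  exact ⟨(RF F).mapIso e₁ ≪≫ RFQIso F (I⟦s⟧) ≪≫ Q.mapIso e₃ ≪≫ e₂ ≪≫
    (shiftFunctor _ s).mapIso ((RFQIso F I).symm ≪≫ (RF F).mapIso e.symm)⟩

/-- `H^p(RF(M[0])) ≅ R^pF(M)` -/
lemma nonempty_homology_RF_single_zero [HasInjectiveResolutions A] (M : A) (p : ℕ) :
    Nonempty ((homologyFunctor B (p : ℤ)).obj ((RF F).obj ((singleFunctor A 0).obj M)) ≅
      (F.rightDerived p).obj M) := by
  haveI : EnoughInjectives A := inferInstance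
  let R := injectiveResolution M
  haveI : R.cochainComplex.IsKInjective := CochainComplex.isKInjective_of_injective _ 0
  have : IsIso (Q.map R.ι') := by rw [isIso_Q_map_iff_quasiIso]; infer_instance
  let e₁ : (singleFunctor A 0).obj M ≅ Q.obj R.cochainComplex :=
    (singleFunctorIsoCompQ A 0).app M ≪≫ asIso (Q.map R.ι')
  let e₂ : (RF F).obj ((singleFunctor A 0).obj M) ≅
      Q.obj ((F.mapHomologicalComplex (ComplexShape.up ℤ)).obj R.cochainComplex) :=
    (RF F).mapIso e₁ ≪≫ RFQIso F R.cochainComplex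
  let e₃ := (homologyFunctorFactors B (p : ℤ)).app
    ((F.mapHomologicalComplex (ComplexShape.up ℤ)).obj R.cochainComplex)
  exact ⟨(homologyFunctor B (p : ℤ)).mapIso e₂ ≪≫ e₃ ≪≫
    Groth.Agent.RDPlus31.resHomologyIso F R p⟩

/-- `H^q(RF(M[-a])) ≅ R^pF(M)` for `a + p = q` -/
lemma nonempty_homology_RF_single [HasInjectiveResolutions A] (M : A) (a q : ℤ) (p : ℕ)
    (h : a + p = q) :
    Nonempty ((homologyFunctor B q).obj ((RF F).obj ((singleFunctor A a).obj M)) ≅
      (F.rightDerived p).obj M) := by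
  let e₁ : ((singleFunctor A 0).obj M)⟦-a⟧ ≅ (singleFunctor A a).obj M :=
    ((singleFunctors A).shiftIso (-a) a 0 (by omega)).app M
  obtain ⟨e₂⟩ := nonempty_RF_shift_iso F ((singleFunctor A 0).obj M) (-a)
  obtain ⟨e₃⟩ := nonempty_homology_RF_single_zero F M p
  let e₄ := ((homologyFunctor B 0).shiftIso (-a) q p (by omega)).app
    ((RF F).obj ((singleFunctor A 0).obj M))
  exact ⟨(homologyFunctor B q).mapIso ((RF F).mapIso e₁.symm ≪≫ e₂) ≪≫ e₄ ≪≫ e₃⟩

lemma isZero_homology_RF_single_of_lt (M : A) (a q : ℤ) (h : q < a) :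
    IsZero ((homologyFunctor B q).obj ((RF F).obj ((singleFunctor A a).obj M))) := by
  haveI := isGE_RF_obj F ((singleFunctor A a).obj M) a
  exact isZero_of_isGE _ a q h

lemma isZero_homology_RF_single [HasInjectiveResolutions A] (M : A) (a N q : ℤ)
    (hN : ∀ p : ℕ, N < (p : ℤ) → IsZero ((F.rightDerived p).obj M)) (hq : N + a < q) :
    IsZero ((homologyFunctor B q).obj ((RF F).obj ((singleFunctor A a).obj M))) := by
  by_cases h : q < a
  · exact isZero_homology_RF_single_of_lt F M a q h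
  · obtain ⟨p, hp⟩ : ∃ p : ℕ, (p : ℤ) = q - a := ⟨(q - a).toNat, by omega⟩
    obtain ⟨e⟩ := nonempty_homology_RF_single F M a q p (by omega)
    exact (hN p (by omega)).of_iso e

section Five

/-- the middle term of a five term exact sequence whose outer terms lie in a weak Serre
subcategory lies in it -/
lemma prop_of_five_exact (P' : ObjectProperty B) [WSerre.IsWeakSerre P'] {A₁ A₂ X A₄ A₅ : B}
    (f₁ : A₁ ⟶ A₂) (f₂ : A₂ ⟶ X) (f₃ : X ⟶ A₄) (f₄ : A₄ ⟶ A₅)
    (w₁ : f₁ ≫ f₂ = 0) (w₂ : f₂ ≫ f₃ = 0) (w₃ : f₃ ≫ f₄ = 0)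
    (h₁ : (ShortComplex.mk f₁ f₂ w₁).Exact) (h₂ : (ShortComplex.mk f₂ f₃ w₂).Exact)
    (h₃ : (ShortComplex.mk f₃ f₄ w₃).Exact)
    (p₁ : P' A₁) (p₂ : P' A₂) (p₄ : P' A₄) (p₅ : P' A₅) : P' X := by
  have pC : P' (cokernel f₁) := P'.prop_cokernel f₁ p₁ p₂
  have pK : P' (kernel f₄) := P'.prop_kernel f₄ p₄ p₅
  let i : cokernel f₁ ⟶ X := cokernel.desc f₁ f₂ w₁
  let g : X ⟶ kernel f₄ := kernel.lift f₄ f₃ w₃
  have hi : Mono i := h₁.mono_cokernelDesc
  have hg : Epi g := h₃.epi_kernelLift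
  have w : i ≫ g = 0 := by
    rw [← cancel_epi (cokernel.π f₁), ← cancel_mono (kernel.ι f₄)]
    simp [i, g, w₂]
  have w' : f₂ ≫ g = 0 := by
    rw [← cancel_mono (kernel.ι f₄)]
    simp [g, w₂]
  have e1 : (ShortComplex.mk f₂ g w').Exact := by
    let φ : ShortComplex.mk f₂ g w' ⟶ ShortComplex.mk f₂ f₃ w₂ :=
      { τ₁ := 𝟙 _
        τ₂ := 𝟙 _
        τ₃ := kernel.ι f₄
        comm₁₂ := by simp
        comm₂₃ := by simp [g] }
    haveI : Epi φ.τ₁ := by change Epi (𝟙 A₂); infer_instance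
    haveI : IsIso φ.τ₂ := by change IsIso (𝟙 X); infer_instance
    haveI : Mono φ.τ₃ := by change Mono (kernel.ι f₄); infer_instance
    exact (ShortComplex.exact_iff_of_epi_of_isIso_of_mono φ).2 h₂
  have e2 : (ShortComplex.mk i g w).Exact := by
    let φ : ShortComplex.mk f₂ g w' ⟶ ShortComplex.mk i g w :=
      { τ₁ := cokernel.π f₁
        τ₂ := 𝟙 _
        τ₃ := 𝟙 _
        comm₁₂ := by simp [i]
        comm₂₃ := by simp }
    haveI : Epi φ.τ₁ := by change Epi (cokernel.π f₁); infer_instance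
    haveI : IsIso φ.τ₂ := by change IsIso (𝟙 X); infer_instance
    haveI : Mono φ.τ₃ := by change Mono (𝟙 (kernel f₄)); infer_instance
    exact (ShortComplex.exact_iff_of_epi_of_isIso_of_mono φ).1 e1
  exact P'.prop_X₂_of_shortExact (ShortComplex.ShortExact.mk' e2 hi hg) pC pK

end Five

/-- `RF` sends distinguished triangles to distinguished triangles -/
lemma exists_distinguished_RF (T : Triangle (DerivedCategory A))
    (hT : T ∈ distTriang (DerivedCategory A)) :
    ∃ δ : (RF F).obj T.obj₃ ⟶ ((RF F).obj T.obj₁)⟦(1 : ℤ)⟧,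
      Triangle.mk ((RF F).map T.mor₁) ((RF F).map T.mor₂) δ ∈ distTriang (DerivedCategory B) :=
  Groth.Agent.RFTriang31.exists_distinguished hKinj (Φ F) (RF F) (η F) T hT

/-- **the truncation tower of `RF` is constant in high degrees** -/
theorem isIso_homology_RF_ν [HasInjectiveResolutions A] (E : DerivedCategory A) (a b : ℤ)
    (h : a + 1 = b) (hab : a ≤ b) (N j : ℤ)
    (hN : ∀ p : ℕ, N < (p : ℤ) →
      IsZero ((F.rightDerived p).obj ((homologyFunctor A a).obj E)))
    (hj : N + a < j) :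
    IsIso ((homologyFunctor B j).map
      ((RF F).map (Groth.Agent.TruncStep31.ν E a b hab))) := by
  obtain ⟨X₁, f, g, hT⟩ := distinguished_cocone_triangle₁ (Groth.Agent.TruncStep31.ν E a b hab)
  obtain ⟨e⟩ := Groth.Agent.TruncStep31.fiber_iso E a b h hab f g hT
  obtain ⟨δ, hδ⟩ := exists_distinguished_RF F _ hT
  have hz : ∀ q, N + a < q → IsZero ((homologyFunctor B q).obj ((RF F).obj X₁)) := fun q hq =>
    (isZero_homology_RF_single F _ a N q hN hq).of_iso
      ((homologyFunctor B q).mapIso ((RF F).mapIso e))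
  have hmono : Mono ((homologyFunctor B j).map
      ((RF F).map (Groth.Agent.TruncStep31.ν E a b hab))) :=
    (HomologySequence.mono_homologyMap_mor₂_iff _ hδ j).2 ((hz j hj).eq_of_src _ _)
  have hepi : Epi ((homologyFunctor B j).map
      ((RF F).map (Groth.Agent.TruncStep31.ν E a b hab))) :=
    (HomologySequence.epi_homologyMap_mor₂_iff _ hδ j (j + 1) rfl).2
      ((hz (j + 1) (by omega)).eq_of_tgt _ _)
  exact isIso_of_mono_of_epi _

lemma prop_homology_truncGE' (P : ObjectProperty A) [P.IsClosedUnderIsomorphisms]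
    [P.ContainsZero] (X : DerivedCategory A) (hX : ∀ q, P ((homologyFunctor A q).obj X))
    (b q : ℤ) : P ((homologyFunctor A q).obj ((t.truncGE b).obj X)) := by
  by_cases hq : b ≤ q
  · have := Groth.Agent.Lib.DWayOut.isIso_homologyMap_truncGEπ X b q hq
    exact P.prop_of_iso (asIso ((homologyFunctor A q).map ((t.truncGEπ b).app X))) (hX q)
  · exact P.prop_of_isZero (isZero_of_isGE ((t.truncGE b).obj X) b q (by omega))

/-- **`RF` preserves bounded below objects with cohomology in a weak Serre class** (auxiliary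
induction) -/
theorem prop_homology_RF_aux [HasInjectiveResolutions A] (P : ObjectProperty A)
    [P.IsClosedUnderIsomorphisms] [P.ContainsZero]
    (P' : ObjectProperty B) [WSerre.IsWeakSerre P']
    (h3 : ∀ M, P M → ∀ p : ℕ, P' ((F.rightDerived p).obj M)) (k : ℕ) :
    ∀ (a : ℤ) (X : DerivedCategory A), X.IsGE a → (∀ q, P ((homologyFunctor A q).obj X)) →
      ∀ j : ℤ, j < a + k → P' ((homologyFunctor B j).obj ((RF F).obj X)) := by
  induction k with
  | zero =>
    intro a X hGE hX j hj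
    haveI := isGE_RF_obj F X a
    exact P'.prop_of_isZero (isZero_of_isGE _ a j (by simpa using hj))
  | succ k ih =>
    intro a X hGE hX j hj
    have hT := t.triangleLEGE_distinguished a (a + 1) rfl X
    obtain ⟨δ, hδ⟩ := exists_distinguished_RF F _ hT
    -- the fibre is concentrated in degree `a`
    have h1 : t.IsGE ((t.truncLE a).obj X) a := inferInstance
    have h2 : t.IsLE ((t.truncLE a).obj X) a := inferInstance
    obtain ⟨e⟩ := Groth.Agent.TruncStep31.nonempty_iso_single_homology ((t.truncLE a).obj X) a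
    have hM : P ((homologyFunctor A a).obj ((t.truncLE a).obj X)) := by
      have := Groth.Agent.Lib.DWayOut.isIso_homologyMap_truncLEι X a a le_rfl
      exact P.prop_of_iso (asIso ((homologyFunctor A a).map ((t.truncLEι a).app X))).symm (hX a)
    have hfib : ∀ q, P' ((homologyFunctor B q).obj ((RF F).obj ((t.truncLE a).obj X))) := by
      intro q
      refine P'.prop_of_iso ((homologyFunctor B q).mapIso ((RF F).mapIso e)).symm ?_
      by_cases hq : q < a
      · exact P'.prop_of_isZero (isZero_homology_RF_single_of_lt F _ a q hq)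
      · obtain ⟨p, hp⟩ : ∃ p : ℕ, (p : ℤ) = q - a := ⟨(q - a).toNat, by omega⟩
        obtain ⟨e'⟩ := nonempty_homology_RF_single F
          ((homologyFunctor A a).obj ((t.truncLE a).obj X)) a q p (by omega)
        exact P'.prop_of_iso e'.symm (h3 _ hM p)
    -- the truncation
    have h4 : t.IsGE ((t.truncGE (a + 1)).obj X) (a + 1) := inferInstance
    have hY : ∀ j' : ℤ, j' < a + 1 + k →
        P' ((homologyFunctor B j').obj ((RF F).obj ((t.truncGE (a + 1)).obj X))) :=
      ih (a + 1) _ h4 (prop_homology_truncGE' P X hX (a + 1))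
    have hj' : j < a + 1 + k := by push_cast at hj; omega
    exact prop_of_five_exact P' _ _ _ _ _ _ _
      (HomologySequence.exact₁ _ hδ (j - 1) j (by omega))
      (HomologySequence.exact₂ _ hδ j)
      (HomologySequence.exact₃ _ hδ j (j + 1) rfl)
      (hY (j - 1) (by omega)) (hfib j) (hY j hj') (hfib (j + 1))

/-- **`RF` preserves bounded below objects with cohomology in a weak Serre class** -/
theorem prop_homology_RF [HasInjectiveResolutions A] (P : ObjectProperty A)
    [P.IsClosedUnderIsomorphisms] [P.ContainsZero]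
    (P' : ObjectProperty B) [WSerre.IsWeakSerre P']
    (h3 : ∀ M, P M → ∀ p : ℕ, P' ((F.rightDerived p).obj M))
    (X : DerivedCategory A) (a : ℤ) [X.IsGE a] (hX : ∀ q, P ((homologyFunctor A q).obj X))
    (j : ℤ) : P' ((homologyFunctor B j).obj ((RF F).obj X)) := by
  refine prop_homology_RF_aux F P P' h3 ((j - a).toNat + 1) a X inferInstance hX j ?_
  push_cast
  omega

end Groth.Agent.RFBdd31
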