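/-
helper11: conservativity of unbounded right derived functors on objects with cohomology in a class `P` on which `F`
is conservative: `isZero_F_lowest` (lowest-degree cohomology of `RF X` is `F(H^a X)`, zero version),
`isGE_add_of_isZero_RF`, `isZero_of_isZero_RF`, `isIso_of_isIso_RF`.
-/
import Groth.Agent.Lib.RFBdd31
import Groth.Agent.Lib.DAdjEquiv11
import Groth.Agent.Lib.DBddEquiv11

set_option autoImplicit false

open CategoryTheory Limits Pretriangulated DerivedCategory DerivedCategory.TStructure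

namespace Groth.Agent.Lib.RFConserv11

open Groth.Agent.RlimRFVia31 Groth.Agent.RFBdd31

universe w w' v v' u u'

variable {A : Type u} [Category.{v} A] [Abelian A] [IsGrothendieckAbelian.{v} A]
  [HasDerivedCategory.{w} A]
  {B : Type u'} [Category.{v'} B] [Abelian B] [HasDerivedCategory.{w'} B]
  (F : A ⥤ B) [F.Additive] [PreservesFiniteLimits F]
  [(Φ F).HasRightDerivedFunctor (HomotopyCategory.quasiIso A (ComplexShape.up ℤ))]

/-- **lowest degree**: for `X ∈ D^{≥ a}`, if `H^a(RF X) = 0` then `F(H^a X) = 0` -/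
lemma isZero_F_lowest [HasInjectiveResolutions A] (X : DerivedCategory A) (a : ℤ) [X.IsGE a]
    (h : IsZero ((homologyFunctor B a).obj ((RF F).obj X))) :
    IsZero (F.obj ((homologyFunctor A a).obj X)) := by
  have hT := t.triangleLEGE_distinguished a (a + 1) rfl X
  obtain ⟨δ, hδ⟩ := exists_distinguished_RF F _ hT
  have h1 : t.IsGE ((t.truncLE a).obj X) a := inferInstance
  have h2 : t.IsLE ((t.truncLE a).obj X) a := inferInstance
  obtain ⟨e⟩ := Groth.Agent.TruncStep31.nonempty_iso_single_homology ((t.truncLE a).obj X) a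
  have e0 : (homologyFunctor A a).obj ((t.truncLE a).obj X) ≅ (homologyFunctor A a).obj X := by
    have := Groth.Agent.Lib.DWayOut.isIso_homologyMap_truncLEι X a a le_rfl
    exact asIso ((homologyFunctor A a).map ((t.truncLEι a).app X))
  -- `H^a(RF τ_{≤a} X) = 0`
  have hex := HomologySequence.exact₁ _ hδ (a - 1) a (by omega)
  haveI : ((RF F).obj ((t.truncGE (a + 1)).obj X)).IsGE (a + 1) := isGE_RF_obj F _ (a + 1)
  have z1 : IsZero ((homologyFunctor B (a - 1)).obj ((RF F).obj ((t.truncGE (a + 1)).obj X))) :=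
    isZero_of_isGE _ (a + 1) (a - 1) (by omega)
  have z2 : IsZero ((homologyFunctor B a).obj ((RF F).obj ((t.truncLE a).obj X))) :=
    hex.isZero_of_both_zeros (z1.eq_of_src _ _) (h.eq_of_tgt _ _)
  obtain ⟨e'⟩ := nonempty_homology_RF_single F
    ((homologyFunctor A a).obj ((t.truncLE a).obj X)) a a 0 (by simp)
  have z3 : IsZero ((F.rightDerived 0).obj ((homologyFunctor A a).obj ((t.truncLE a).obj X))) :=
    (z2.of_iso ((homologyFunctor B a).mapIso ((RF F).mapIso e)).symm).of_iso e'.symm
  exact (z3.of_iso ((F.rightDerivedZeroIsoSelf).app _).symm).of_iso (F.mapIso e0).symm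

/-- bounded below objects killed by `RF` are pushed arbitrarily far to the right -/
lemma isGE_add_of_isZero_RF [HasInjectiveResolutions A] (P : ObjectProperty A)
    (hcons : ∀ G, P G → IsZero (F.obj G) → IsZero G)
    (M : DerivedCategory A) (hM : ∀ q, P ((homologyFunctor A q).obj M)) (a : ℤ) [M.IsGE a]
    (hz : ∀ j : ℤ, a ≤ j → IsZero ((homologyFunctor B j).obj ((RF F).obj M))) (k : ℕ) :
    M.IsGE (a + k) := by
  induction k with
  | zero => simpa using (inferInstance : M.IsGE a)
  | succ k ih =>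
    haveI := ih
    have z : IsZero ((homologyFunctor A (a + k)).obj M) :=
      hcons _ (hM _) (isZero_F_lowest F M (a + k) (hz _ (by omega)))
    rw [DerivedCategory.isGE_iff]
    intro i hi
    by_cases h : i < a + k
    · exact isZero_of_isGE M (a + k) i h
    · obtain rfl : i = a + k := by push_cast at hi; omega
      exact z

/-- **objects with cohomology in `P` killed by `RF` vanish**, when `F` is conservative on `P` and the truncation
tower of `RF` is eventually constant with bound `N = 0` -/
theorem isZero_of_isZero_RF [HasInjectiveResolutions A] (P : ObjectProperty A)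
    [P.IsClosedUnderIsomorphisms] [P.ContainsZero]
    (hcons : ∀ G, P G → IsZero (F.obj G) → IsZero G)
    (C : DerivedCategory A) (hC : ∀ q, P ((homologyFunctor A q).obj C))
    (hb : ∀ (n : ℕ) (j : ℤ), -(n : ℤ) ≤ j → IsIso ((homologyFunctor B j).map
      ((RF F).map ((t.truncGEπ (-(n : ℤ))).app C))))
    (hz : IsZero ((RF F).obj C)) : IsZero C := by
  have key : ∀ i : ℤ, IsZero ((homologyFunctor A i).obj C) := by
    intro i
    obtain ⟨n, hn⟩ : ∃ n : ℕ, -(n : ℤ) ≤ i := ⟨(-i).toNat, by omega⟩
    let M := (t.truncGE (-(n : ℤ))).obj C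
    haveI : M.IsGE (-(n : ℤ)) := (inferInstance : ((t.truncGE (-(n : ℤ))).obj C).IsGE _)
    have hM : ∀ q, P ((homologyFunctor A q).obj M) := prop_homology_truncGE' P C hC _
    have hzM : ∀ j : ℤ, -(n : ℤ) ≤ j → IsZero ((homologyFunctor B j).obj ((RF F).obj M)) := by
      intro j hj
      have := hb n j hj
      exact ((homologyFunctor B j).map_isZero hz).of_iso
        (asIso ((homologyFunctor B j).map ((RF F).map ((t.truncGEπ (-(n : ℤ))).app C)))).symm
    obtain ⟨k, hk⟩ : ∃ k : ℕ, i < -(n : ℤ) + k := ⟨(i + n + 1).toNat, by omega⟩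
    haveI := isGE_add_of_isZero_RF F P hcons M hM (-(n : ℤ)) hzM k
    have z : IsZero ((homologyFunctor A i).obj M) := isZero_of_isGE M (-(n : ℤ) + k) i hk
    have := Groth.Agent.Lib.DWayOut.isIso_homologyMap_truncGEπ C (-(n : ℤ)) i hn
    exact z.of_iso (asIso ((homologyFunctor A i).map ((t.truncGEπ (-(n : ℤ))).app C)))
  rw [IsZero.iff_id_eq_zero]
  haveI : IsIso (0 : C ⟶ C) := by
    rw [DerivedCategory.isIso_iff]
    intro i
    exact ⟨⟨0, (key i).eq_of_src _ _, (key i).eq_of_src _ _⟩⟩
  rw [← cancel_mono (0 : C ⟶ C)]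
  simp

/-- **`RF` reflects isomorphisms between objects with cohomology in a weak Serre class `P`**, when `F` is conservative
on `P` and the truncation tower of `RF` is eventually constant with bound `N = 0` on such objects -/
theorem isIso_of_isIso_RF [HasInjectiveResolutions A] (P : ObjectProperty A) [WSerre.IsWeakSerre P]
    (hcons : ∀ G, P G → IsZero (F.obj G) → IsZero G)
    (hb : ∀ (C : DerivedCategory A), WSerre.cohIn P C → ∀ (n : ℕ) (j : ℤ), -(n : ℤ) ≤ j →
      IsIso ((homologyFunctor B j).map ((RF F).map ((t.truncGEπ (-(n : ℤ))).app C))))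
    {E E' : DerivedCategory A} (hE : WSerre.cohIn P E) (hE' : WSerre.cohIn P E') (α : E ⟶ E')
    (hα : IsIso ((RF F).map α)) : IsIso α := by
  obtain ⟨Z, g, h, hT⟩ := distinguished_cocone_triangle α
  have hZ : WSerre.cohIn P Z :=
    Groth.Agent.Lib.DAdjEquiv11.cohIn_ext P _ (rot_of_distTriang _ hT) hE'
      (Groth.Agent.Lib.DBddEquiv11.cohIn_shift P E 1 hE)
  obtain ⟨δ, hδ⟩ := exists_distinguished_RF F _ hT
  have hz : IsZero ((RF F).obj Z) := (Triangle.isZero₃_iff_isIso₁ _ hδ).2 hα
  have := isZero_of_isZero_RF F P hcons Z hZ (hb Z hZ) hz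
  exact (Triangle.isZero₃_iff_isIso₁ _ hT).1 this

end Groth.Agent.Lib.RFConserv11
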