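/-
helper11: `f_*` is conservative on quasi-coherent modules for affine `f` (`isZero_of_isZero_push`), and `Rf_*` reflects
isomorphisms on `D_QCoh` (`isIso_of_isIso_Rpush`, S7257).
-/
import Groth.Agent.Lib.AffinePushD11
import Groth.Agent.Lib.RFConserv11
import Groth.Agent.Lib.H90OXModAffineIso

set_option autoImplicit false
universe u
open CategoryTheory CategoryTheory.Limits AlgebraicGeometry TopologicalSpace

namespace Groth.Agent.Lib.AffinePushConserv11

attribute [local instance] HasDerivedCategory.standard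

open Groth.Agent.Lib.QCohWeakSerre11 DerivedCategory ZeroObject

noncomputable local instance (X : Scheme.{u}) : IsGrothendieckAbelian.{u} X.Modules :=
  Groth.Agent.S0484.result _ X.ringCatSheaf

variable {X S : Scheme.{u}} (f : X ⟶ S) [IsAffineHom f]

lemma subsingleton_sections_of_isZero {Y : Scheme.{u}} (M : Y.Modules) (hM : IsZero M) (U : Y.Opens) :
    Subsingleton Γ(M, U) := by
  have h0 : (𝟙 M : M ⟶ M) = 0 := hM.eq_of_src _ _
  refine ⟨fun a b => ?_⟩
  have ha : a = 0 := by
    have := congrArg (fun φ : M ⟶ M => (φ.app U) a) h0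
    simpa using this
  have hb : b = 0 := by
    have := congrArg (fun φ : M ⟶ M => (φ.app U) b) h0
    simpa using this
  rw [ha, hb]

/-- `f_*` is conservative on quasi-coherent modules for affine `f` -/
lemma isZero_of_isZero_push (G : X.Modules) (hG : Coh.IsQCoh G)
    (hz : IsZero ((Scheme.Modules.pushforward f).obj G)) : IsZero G := by
  haveI : G.IsQuasicoherent := hG
  haveI : (0 : X.Modules).IsQuasicoherent := (QC X).prop_of_isZero (isZero_zero _)
  have : IsIso (0 : G ⟶ 0) := by
    refine Groth.Agent.Lib.H90OXModAffineIso.isIso_of_bijective_app_affine_cover (0 : G ⟶ 0)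
      (fun V : S.affineOpens => f ⁻¹ᵁ V.1) ?_ (fun V => V.2.preimage f) ?_
    · ext x
      simp only [Opens.coe_iSup, Set.mem_iUnion, Opens.coe_top, Set.mem_univ, iff_true]
      obtain ⟨V, hV, hxV, -⟩ := exists_isAffineOpen_mem_and_subset (x := f x) (U := ⊤) trivial
      exact ⟨⟨V, hV⟩, hxV⟩
    · intro V
      haveI : Subsingleton Γ(G, f ⁻¹ᵁ V.1) :=
        subsingleton_sections_of_isZero _ hz V.1
      haveI : Subsingleton Γ((0 : X.Modules), f ⁻¹ᵁ V.1) :=
        subsingleton_sections_of_isZero _ (isZero_zero _) _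
      exact ⟨fun a b _ => Subsingleton.elim a b, fun b => ⟨0, Subsingleton.elim _ _⟩⟩
  exact (isZero_zero _).of_iso (asIso (0 : G ⟶ 0))

/-- **S7257**: `Rf_*` reflects isomorphisms on `D_QCoh` for affine `f` -/
theorem isIso_of_isIso_Rpush [DCoh.HasRpush f] {E F : DCoh.D X} (hE : DCoh.IsQCohD E)
    (hF : DCoh.IsQCohD F) (α : E ⟶ F) (hα : IsIso ((DCoh.Rpush f).map α)) : IsIso α := by
  haveI := Groth.Agent.Lib.RpushRestrict.hasInjectiveResolutions X
  exact Groth.Agent.Lib.RFConserv11.isIso_of_isIso_RF (Scheme.Modules.pushforward f) (QC X)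
    (fun G hG hz => isZero_of_isZero_push f G hG hz)
    (fun C hC n j hj => (Groth.Agent.Lib.RpushQCohD11.bridge f 0
      (fun G hG p => Groth.Agent.Lib.RpushQCoh.isQuasicoherent_Rpush f G p hG)
      (fun G hG p hp => Groth.Agent.Lib.AffinePushD11.isZero_Rpush_of_affine f G hG p
        (by exact_mod_cast hp)) C hC).2 n j (by omega)) hE hF α hα

end Groth.Agent.Lib.AffinePushConserv11
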