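import Groth.Agent.Lib.OmegaDer81B

set_option autoImplicit false
set_option linter.style.haveILetI false
universe u

open CategoryTheory AlgebraicGeometry TopologicalSpace Opposite

namespace Groth.Agent.Lib.OmegaDer81

open Groth.Agent.Lib.QCohStalk

section kaehler

theorem existsUnique_lift_kaehler {A B N : Type*} [CommRing A] [CommRing B] [Algebra A B]
    [AddCommGroup N] [Module B N] (δ : B →+ N) (hδ : IsLeibniz δ)
    (h0 : ∀ a, δ (algebraMap A B a) = 0) :
    ∃! ℓ : Ω[B⁄A] →ₗ[B] N, ∀ b, ℓ (KaehlerDifferential.D A B b) = δ b := by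
  letI : Module A N := Module.compHom N (algebraMap A B)
  haveI : IsScalarTower A B N := IsScalarTower.of_algebraMap_smul (fun _ _ => rfl)
  let D' : Derivation A B N :=
    { toFun := δ
      map_add' := δ.map_add
      map_smul' := by
        intro a b
        change δ (a • b) = algebraMap A B a • δ b
        rw [Algebra.smul_def, hδ, h0, smul_zero, add_zero]
      map_one_eq_zero' := by
        change δ 1 = 0
        have := hδ 1 1
        simp only [mul_one, one_smul] at this
        exact left_eq_add.mp this
      leibniz' := fun a b => hδ a b }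
  refine ⟨D'.liftKaehlerDifferential, fun b => D'.liftKaehlerDifferential_comp_D b, ?_⟩
  intro ℓ' hℓ'
  apply Derivation.liftKaehlerDifferential_unique
  ext b
  change ℓ' (KaehlerDifferential.D A B b) = D'.liftKaehlerDifferential (KaehlerDifferential.D A B b)
  rw [hℓ', D'.liftKaehlerDifferential_comp_D]
  rfl

end kaehler

section spec

variable (A B : Type u) [CommRing A] [CommRing B] [Algebra A B]

/-- the morphism `Spec B ⟶ Spec A` -/
noncomputable abbrev specMap : Spec (CommRingCat.of B) ⟶ Spec (CommRingCat.of A) :=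
  Spec.map (CommRingCat.ofHom (algebraMap A B))

theorem specMap_appTop (a : A) :
    (specMap A B).appTop ((Scheme.ΓSpecIso (CommRingCat.of A)).inv a) =
      (Scheme.ΓSpecIso (CommRingCat.of B)).inv (algebraMap A B a) := by
  have := Scheme.ΓSpecIso_inv_naturality (CommRingCat.ofHom (algebraMap A B))
  exact congr($this a).symm

theorem ΓSpecIso_hom_specMap_appTop (c : Γ(Spec (CommRingCat.of A), ⊤)) :
    (Scheme.ΓSpecIso (CommRingCat.of B)).hom ((specMap A B).appTop c) =
      algebraMap A B ((Scheme.ΓSpecIso (CommRingCat.of A)).hom c) := by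
  have := Scheme.ΓSpecIso_naturality (CommRingCat.ofHom (algebraMap A B))
  exact congr($this c)

/-- the `B`-module structure on sections of a module over `Spec B` (Mathlib's, for `B` a type) -/
noncomputable instance instModuleSections {B : Type u} [CommRing B]
    (G : (Spec (CommRingCat.of B)).Modules) (U : (Spec (CommRingCat.of B)).Opens) :
    Module B Γ(G, U) :=
  Scheme.Modules.instModuleCarrierCarrierObjOppositeOpensCarrierCarrierCommRingCatSpecAbPresheafOp
    (R := CommRingCat.of B) (M := G) (U := U)

variable {B} in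
theorem smul_top_eq (G : (Spec (CommRingCat.of B)).Modules) (b : B) (x : Γ(G, ⊤)) :
    b • x = ((Scheme.ΓSpecIso (CommRingCat.of B)).inv b) • x := by
  change ((Spec (CommRingCat.of B)).presheaf.map
    (⊤ : (Spec (CommRingCat.of B)).Opens).leTop.op) ((Scheme.ΓSpecIso (CommRingCat.of B)).inv b) • x = _
  congr 1

variable {B} in
theorem smul_top_eq' (G : (Spec (CommRingCat.of B)).Modules) (s : Γ(Spec (CommRingCat.of B), ⊤))
    (x : Γ(G, ⊤)) : s • x = ((Scheme.ΓSpecIso (CommRingCat.of B)).hom s) • x := by
  rw [smul_top_eq]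
  congr 1
  exact (congr($((Scheme.ΓSpecIso (CommRingCat.of B)).hom_inv_id) s)).symm

/-- the Leibniz map on global sections of `Spec B` induced by a `Der` -/
noncomputable def derTop {G : (Spec (CommRingCat.of B)).Modules} (D : OmegaSh.Der (specMap A B) G) :
    B →+ Γ(G, ⊤) :=
  (D.app ⊤).comp (Scheme.ΓSpecIso (CommRingCat.of B)).inv.hom.toAddMonoidHom

theorem derTop_apply {G : (Spec (CommRingCat.of B)).Modules} (D : OmegaSh.Der (specMap A B) G)
    (b : B) : derTop A B D b = D.app ⊤ ((Scheme.ΓSpecIso (CommRingCat.of B)).inv b) := rfl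

theorem derTop_leibniz {G : (Spec (CommRingCat.of B)).Modules} (D : OmegaSh.Der (specMap A B) G) :
    IsLeibniz (derTop A B D) := by
  intro a b
  rw [derTop_apply, map_mul, der_app_mul, smul_top_eq, smul_top_eq]
  rfl

theorem derTop_algebraMap {G : (Spec (CommRingCat.of B)).Modules}
    (D : OmegaSh.Der (specMap A B) G) (a : A) : derTop A B D (algebraMap A B a) = 0 := by
  rw [derTop_apply, ← specMap_appTop]
  exact der_app_app D ⊤ _

end spec


section specDer

variable (A B : Type u) [CommRing A] [CommRing B] [Algebra A B]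
variable (L : Type u) [AddCommGroup L] [Module B L]

/-- tilde of a `B`-module -/
noncomputable abbrev tildeOf : (Spec (CommRingCat.of B)).Modules :=
  tilde (ModuleCat.of (CommRingCat.of B) L)

/-- the canonical linear map `L → Γ(L~, ⊤)` -/
noncomputable def toTop : L →ₗ[B] Γ(tildeOf B L, ⊤) where
  toFun l := (tilde.isoTop (ModuleCat.of (CommRingCat.of B) L)).hom l
  map_add' a b := map_add _ a b
  map_smul' r a := ((tilde.isoTop (ModuleCat.of (CommRingCat.of B) L)).hom.hom).map_smul r a

theorem toTop_apply (l : L) :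
    toTop B L l = (tilde.isoTop (ModuleCat.of (CommRingCat.of B) L)).hom l := rfl

theorem toTop_bijective : Function.Bijective (toTop B L) :=
  (ConcreteCategory.isIso_iff_bijective
    (tilde.isoTop (ModuleCat.of (CommRingCat.of B) L)).hom).mp inferInstance

variable {B L} in
/-- the sheaf derivation `O_{Spec B} → L~` induced by a Leibniz map `B → L` killing `A` -/
noncomputable def specDer (δ : B →+ L) (hδ : IsLeibniz δ) (h0 : ∀ a, δ (algebraMap A B a) = 0) :
    OmegaSh.Der (specMap A B) (tildeOf B L) :=
  mkDer (specMap A B) (tildeOf B L)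
    (((toTop B L).toAddMonoidHom.comp δ).comp
      (Scheme.ΓSpecIso (CommRingCat.of B)).hom.hom.toAddMonoidHom)
    (show IsLeibniz _ from by
      intro a b
      change toTop B L (δ ((Scheme.ΓSpecIso (CommRingCat.of B)).hom (a * b))) = _
      rw [map_mul, hδ, map_add, map_smul, map_smul, ← smul_top_eq', ← smul_top_eq']
      rfl)
    (by
      intro c
      change toTop B L (δ ((Scheme.ΓSpecIso (CommRingCat.of B)).hom ((specMap A B).appTop c))) = 0
      rw [ΓSpecIso_hom_specMap_appTop, h0, map_zero])

variable {B L} in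
theorem specDer_app_top (δ : B →+ L) (hδ : IsLeibniz δ) (h0 : ∀ a, δ (algebraMap A B a) = 0)
    (s : Γ(Spec (CommRingCat.of B), ⊤)) :
    (specDer A δ hδ h0).app ⊤ s = toTop B L (δ ((Scheme.ΓSpecIso (CommRingCat.of B)).hom s)) := by
  rw [specDer, mkDer_app_top]
  rfl

end specDer


section universal

variable (A B : Type u) [CommRing A] [CommRing B] [Algebra A B]

set_option backward.isDefEq.respectTransparency false in
/-- a linear map into global sections as a morphism of `ModuleCat` -/
noncomputable def toΓHom {B : Type u} [CommRing B] {L : Type u} [AddCommGroup L] [Module B L]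
    (G : (Spec (CommRingCat.of B)).Modules) (ℓ : L →ₗ[B] Γ(G, ⊤)) :
    ModuleCat.of (CommRingCat.of B) L ⟶ moduleSpecΓFunctor.obj G :=
  ModuleCat.ofHom (Y := Γ(G, ⊤)) ℓ

set_option backward.isDefEq.respectTransparency false in
/-- a morphism of `ModuleCat` into global sections as a linear map -/
noncomputable def ofΓHom {B : Type u} [CommRing B] {L : Type u} [AddCommGroup L] [Module B L]
    (G : (Spec (CommRingCat.of B)).Modules)
    (ℓ : ModuleCat.of (CommRingCat.of B) L ⟶ moduleSpecΓFunctor.obj G) : L →ₗ[B] Γ(G, ⊤) := ℓ.hom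

set_option backward.isDefEq.respectTransparency false in
theorem ofΓHom_toΓHom {B : Type u} [CommRing B] {L : Type u} [AddCommGroup L] [Module B L]
    (G : (Spec (CommRingCat.of B)).Modules) (ℓ : L →ₗ[B] Γ(G, ⊤)) :
    ofΓHom G (toΓHom G ℓ) = ℓ := rfl

set_option backward.isDefEq.respectTransparency false in
theorem toΓHom_ofΓHom {B : Type u} [CommRing B] {L : Type u} [AddCommGroup L] [Module B L]
    (G : (Spec (CommRingCat.of B)).Modules)
    (ℓ : ModuleCat.of (CommRingCat.of B) L ⟶ moduleSpecΓFunctor.obj G) :
    toΓHom G (ofΓHom G ℓ) = ℓ := rfl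

set_option backward.isDefEq.respectTransparency false in
/-- the tilde-Gamma adjunction, for `B` a type -/
noncomputable def tildeHomEquiv {B : Type u} [CommRing B] (L : Type u) [AddCommGroup L] [Module B L]
    (G : (Spec (CommRingCat.of B)).Modules) : (tildeOf B L ⟶ G) ≃ (L →ₗ[B] Γ(G, ⊤)) where
  toFun α := ofΓHom G ((tilde.adjunction.homEquiv (ModuleCat.of (CommRingCat.of B) L) G) α)
  invFun ℓ := (tilde.adjunction.homEquiv (ModuleCat.of (CommRingCat.of B) L) G).symm (toΓHom G ℓ)
  left_inv α :=
    Equiv.symm_apply_apply (tilde.adjunction.homEquiv (ModuleCat.of (CommRingCat.of B) L) G) α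
  right_inv ℓ :=
    congrArg (ofΓHom G) (Equiv.apply_symm_apply
      (tilde.adjunction.homEquiv (ModuleCat.of (CommRingCat.of B) L) G) (toΓHom G ℓ))

set_option backward.isDefEq.respectTransparency false in
theorem tildeHomEquiv_apply {B : Type u} [CommRing B] (L : Type u) [AddCommGroup L] [Module B L]
    (G : (Spec (CommRingCat.of B)).Modules) (α : tildeOf B L ⟶ G) (m : L) :
    tildeHomEquiv L G α m = α.app ⊤ (toTop B L m) := by
  change ((tilde.adjunction.homEquiv (ModuleCat.of (CommRingCat.of B) L) G) α).hom m = _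
  rw [Adjunction.homEquiv_unit]
  rfl

/-- the universal derivation on `Spec B` over `Spec A` -/
noncomputable def dSpec : OmegaSh.Der (specMap A B) (tildeOf B Ω[B⁄A]) :=
  specDer A (KaehlerDifferential.D A B).toLinearMap.toAddMonoidHom
    (fun a b => (KaehlerDifferential.D A B).leibniz a b)
    (fun a => (KaehlerDifferential.D A B).map_algebraMap a)

theorem dSpec_app_top (s : Γ(Spec (CommRingCat.of B), ⊤)) :
    (dSpec A B).app ⊤ s =
      toTop B Ω[B⁄A] (KaehlerDifferential.D A B ((Scheme.ΓSpecIso (CommRingCat.of B)).hom s)) :=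
  specDer_app_top A _ _ _ s

theorem isUniversal_dSpec : OmegaSh.IsUniversal (dSpec A B) := by
  intro G D'
  obtain ⟨ℓ, hℓ, hℓu⟩ := existsUnique_lift_kaehler (A := A) (derTop A B D') (derTop_leibniz A B D')
    (derTop_algebraMap A B D')
  refine ⟨(tildeHomEquiv Ω[B⁄A] G).symm ℓ, ?_, ?_⟩
  · apply der_ext
    ext s
    rw [postcomp_app, dSpec_app_top, ← tildeHomEquiv_apply, Equiv.apply_symm_apply, hℓ,
      derTop_apply]
    congr 1
    exact congr($((Scheme.ΓSpecIso (CommRingCat.of B)).hom_inv_id) s)
  · intro α' hα'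
    have h3 : tildeHomEquiv Ω[B⁄A] G α' = ℓ := by
      apply hℓu
      intro b
      rw [tildeHomEquiv_apply]
      have h4 := congrArg (fun D => OmegaSh.Der.app D ⊤
        ((Scheme.ΓSpecIso (CommRingCat.of B)).inv b)) hα'
      simp only [postcomp_app, dSpec_app_top] at h4
      rw [derTop_apply, ← h4]
      congr 3
      exact (congr($((Scheme.ΓSpecIso (CommRingCat.of B)).inv_hom_id) b)).symm
    rw [← h3, Equiv.symm_apply_apply]

end universal

end Groth.Agent.Lib.OmegaDer81
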