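/-
helper81: morphisms out of a quasi-coherent module on an AFFINE scheme from linear maps on global sections.
counitOf / counitOf_app_top (tilde-Gamma counit on Spec B, B a type), exists_hom_spec (Spec B),
pushSpec / smul_pushSpec, exists_hom_of_isAffine (X affine, P qcoh, G arbitrary: every Γ(X,⊤)-linear
Γ(P,⊤) → Γ(G,⊤) is α.app ⊤ for some α : P ⟶ G).
-/
import Groth.Agent.Lib.OmegaDer81C
import Groth.Agent.Lib.H90OXModPush

set_option autoImplicit false
set_option linter.style.haveILetI false
set_option linter.unusedSectionVars false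
universe u

open CategoryTheory CategoryTheory.Limits AlgebraicGeometry TopologicalSpace Opposite TensorProduct

namespace Groth.Agent.Lib.AffineQCohHom81

open Groth.Agent.Lib.OmegaDer81

section spec

variable {B : Type u} [CommRing B]

set_option backward.isDefEq.respectTransparency false in
/-- the counit `Γ(P,⊤)~ ⟶ P` with source written as `tildeOf` -/
noncomputable def counitOf (P : (Spec (CommRingCat.of B)).Modules) : tildeOf B Γ(P, ⊤) ⟶ P :=
  Scheme.Modules.fromTildeΓ (R := CommRingCat.of B) P

set_option backward.isDefEq.respectTransparency false in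
instance (P : (Spec (CommRingCat.of B)).Modules) [P.IsQuasicoherent] : IsIso (counitOf P) :=
  Scheme.Modules.isIso_fromTildeΓ_of_isQuasicoherent (R := CommRingCat.of B) P

set_option backward.isDefEq.respectTransparency false in
theorem counitOf_app_top (P : (Spec (CommRingCat.of B)).Modules) (x : Γ(P, ⊤)) :
    (counitOf P).app ⊤ (toTop B Γ(P, ⊤) x) = x := by
  have h := (tilde.adjunction (R := CommRingCat.of B)).right_triangle_components P
  have h2 := congrArg (fun ψ => ψ.hom x) h
  exact h2

theorem inv_app_hom_app {X : Scheme.{u}} {P Q : X.Modules} (φ : P ⟶ Q) [IsIso φ] (U : X.Opens)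
    (x : Γ(P, U)) : (inv φ).app U (φ.app U x) = x := by
  have h := congrArg (fun ψ => Scheme.Modules.Hom.app ψ U x) (IsIso.hom_inv_id φ)
  exact h

/-- on `Spec B`: a linear map on global sections out of a quasi-coherent module is induced by a morphism -/
theorem exists_hom_spec (P G : (Spec (CommRingCat.of B)).Modules) [P.IsQuasicoherent]
    (ℓ : Γ(P, ⊤) →ₗ[B] Γ(G, ⊤)) : ∃ α : P ⟶ G, ∀ x, α.app ⊤ x = ℓ x := by
  refine ⟨inv (counitOf P) ≫ (tildeHomEquiv Γ(P, ⊤) G).symm ℓ, fun x => ?_⟩
  have h1 : (inv (counitOf P)).app ⊤ x = toTop B Γ(P, ⊤) x := by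
    conv_lhs => rw [← counitOf_app_top P x]
    exact inv_app_hom_app (counitOf P) ⊤ _
  rw [Scheme.Modules.Hom.comp_app, ConcreteCategory.comp_apply, h1, ← tildeHomEquiv_apply,
    Equiv.apply_symm_apply]

end spec

section affine

variable {X : Scheme.{u}} [IsAffine X]

/-- pushforward to `Spec Γ(X,⊤)`, as a module over `Spec (CommRingCat.of Γ(X,⊤))` -/
noncomputable abbrev pushSpec (M : X.Modules) : (Spec (CommRingCat.of Γ(X, ⊤))).Modules :=
  (Scheme.Modules.pushforward X.toSpecΓ).obj M

set_option backward.isDefEq.respectTransparency false in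
omit [IsAffine X] in
theorem smul_pushSpec (M : X.Modules) (b : Γ(X, ⊤)) (x : Γ(M, ⊤)) :
    (b • (show Γ(pushSpec M, ⊤) from x)) = (show Γ(pushSpec M, ⊤) from (b • x)) := by
  rw [smul_top_eq]
  change (X.toSpecΓ.appTop.hom ((Scheme.ΓSpecIso (CommRingCat.of Γ(X, ⊤))).inv b)) • x = _
  rw [Scheme.toSpecΓ_appTop]
  congr 1
  exact congr($((Scheme.ΓSpecIso Γ(X, ⊤)).inv_hom_id) b)

set_option backward.isDefEq.respectTransparency false in
/-- on an affine scheme: a linear map on global sections out of a quasi-coherent module is induced by a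
morphism of modules -/
theorem exists_hom_of_isAffine (P G : X.Modules) [P.IsQuasicoherent]
    (v : Γ(P, ⊤) →ₗ[Γ(X, ⊤)] Γ(G, ⊤)) : ∃ α : P ⟶ G, ∀ x, α.app ⊤ x = v x := by
  let P' : (Spec (CommRingCat.of Γ(X, ⊤))).Modules := pushSpec P
  let G' : (Spec (CommRingCat.of Γ(X, ⊤))).Modules := pushSpec G
  haveI : P'.IsQuasicoherent :=
    Groth.Agent.Lib.H90OXModPush.isQuasicoherent_pushforward X.toSpecΓ P
  let ℓ : Γ(P', ⊤) →ₗ[Γ(X, ⊤)] Γ(G', ⊤) :=
    { toFun := fun x => v x
      map_add' := fun x y => map_add v x y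
      map_smul' := fun b x => by
        have h1 := smul_pushSpec P b x
        have h2 := smul_pushSpec G b (v x)
        exact (congrArg v h1).trans ((map_smul v b (show Γ(P, ⊤) from x)).trans h2.symm) }
  obtain ⟨α, hα⟩ := exists_hom_spec P' G' ℓ
  refine ⟨(Scheme.Modules.pushforward X.toSpecΓ).preimage α, fun x => ?_⟩
  have h1 : (Scheme.Modules.pushforward X.toSpecΓ).map
      ((Scheme.Modules.pushforward X.toSpecΓ).preimage α) = α := Functor.map_preimage _ _
  have h2 := congrArg (fun ψ : P' ⟶ G' => Scheme.Modules.Hom.app ψ ⊤ (show Γ(P', ⊤) from x)) h1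
  exact h2.trans (hα x)

end affine

end Groth.Agent.Lib.AffineQCohHom81
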