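import Mathlib.AlgebraicGeometry.IdealSheaf.Subscheme
import Mathlib.AlgebraicGeometry.Noetherian
import Mathlib.AlgebraicGeometry.Morphisms.FiniteType
import Mathlib.RingTheory.Filtration

/-!
Two morphisms `f g : X ⟶ Y` over `S` (`Y` locally of finite type over `S`, `X` locally Noetherian)
which agree on all infinitesimal neighbourhoods `V(J^(n+1))` agree on an open neighbourhood of
`V(J)` (EGA I 10.9.4-type statement).  The proof is pointwise: Krull's intersection theorem on an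
affine open plus finite generation.
-/

set_option autoImplicit false
universe u

open AlgebraicGeometry CategoryTheory

namespace Groth.Agent.Lib.AgreeNbhd

/-- Ring-theoretic core: two maps agreeing modulo all powers of `I`, out of a finite type algebra,
agree after inverting an element congruent to `1` modulo `I`. -/
theorem ring_core {R0 R1 R : Type u} [CommRing R0] [CommRing R1] [CommRing R] [IsNoetherianRing R]
    (a : R0 →+* R1) (ha : a.FiniteType) (φ γ : R1 →+* R) (hφγ : φ.comp a = γ.comp a)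
    (I : Ideal R) (hI : ∀ t n, φ t - γ t ∈ I ^ n) :
    ∃ h0 : R, (1 - h0) ∈ I ∧ ∀ (R' : Type u) [CommRing R'] (ρ : R →+* R'), IsUnit (ρ h0) →
      ρ.comp φ = ρ.comp γ := by
  classical
  let _ := a.toAlgebra
  obtain ⟨s, hs⟩ := (ha : Algebra.FiniteType R0 R1).out
  have hr : ∀ t : R1, ∃ r : R, r ∈ I ∧ r * (φ t - γ t) = φ t - γ t := by
    intro t
    have hmem : (φ t - γ t) ∈ (⨅ i : ℕ, I ^ i • ⊤ : Submodule R R) := by
      rw [Submodule.mem_iInf]
      intro n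
      rw [smul_eq_mul, Ideal.mul_top]
      exact hI t n
    obtain ⟨r, hr⟩ := (I.mem_iInf_smul_pow_eq_bot_iff (φ t - γ t)).1 hmem
    exact ⟨r.1, r.2, hr⟩
  choose r hrI hrd using hr
  refine ⟨∏ t ∈ s, (1 - r t), ?_, ?_⟩
  · rw [← Ideal.Quotient.eq, map_one, map_prod]
    symm
    apply Finset.prod_eq_one
    intro t _
    rw [map_sub, map_one, Ideal.Quotient.eq_zero_iff_mem.2 (hrI t), sub_zero]
  · intro R' _ ρ hu
    have hzero : ∀ t ∈ s, ρ (φ t) = ρ (γ t) := by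
      intro t ht
      have h1 : (∏ t ∈ s, (1 - r t)) * (φ t - γ t) = 0 := by
        rw [← Finset.mul_prod_erase s _ ht, mul_comm (1 - r t), mul_assoc, sub_mul, one_mul,
          hrd t, sub_self, mul_zero]
      have h2 := congrArg ρ h1
      rw [map_mul, map_zero] at h2
      have h3 := (hu.mul_right_eq_zero).1 h2
      rwa [map_sub, sub_eq_zero] at h3
    let _ : Algebra R0 R' := (ρ.comp (φ.comp a)).toAlgebra
    let φ' : R1 →ₐ[R0] R' := { ρ.comp φ with commutes' := fun _ => rfl }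
    let γ' : R1 →ₐ[R0] R' := { ρ.comp γ with
      commutes' := fun x => by
        show ρ (γ (a x)) = ρ (φ (a x))
        have := congrArg (fun k => k x) hφγ
        simp only [RingHom.comp_apply] at this
        rw [this] }
    have : φ' = γ' := AlgHom.ext_of_adjoin_eq_top hs (fun t ht => hzero t ht)
    ext t
    exact congrArg (fun k => k t) this

theorem appLE_congr_hom {X Y : Scheme.{u}} {a b : X ⟶ Y} (hab : a = b) (V : Y.Opens) (U : X.Opens)
    (e1 : U ≤ a ⁻¹ᵁ V) (e2 : U ≤ b ⁻¹ᵁ V) : a.appLE V U e1 = b.appLE V U e2 := by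
  subst hab; rfl

theorem local_agree {S X Y : Scheme.{u}} [IsLocallyNoetherian X] (p : Y ⟶ S)
    [LocallyOfFiniteType p] (f g : X ⟶ Y) (hfg : f ≫ p = g ≫ p)
    (J : X.IdealSheafData)
    (h : ∀ n : ℕ, (J ^ (n + 1)).subschemeι ≫ f = (J ^ (n + 1)).subschemeι ≫ g)
    (x : X) (hx : x ∈ J.support) : ∃ U : X.Opens, x ∈ U ∧ U.ι ≫ f = U.ι ≫ g := by
  have hfx : f x = g x := by
    have h0 := h 0
    have hx' : x ∈ Set.range (J ^ (0 + 1)).subschemeι := by
      rw [Scheme.IdealSheafData.range_subschemeι]; simpa using hx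
    obtain ⟨z, rfl⟩ := hx'
    rw [← Scheme.Hom.comp_apply, ← Scheme.Hom.comp_apply, h0]
  obtain ⟨_, ⟨W, hW, rfl⟩, hsW, -⟩ := S.isBasis_affineOpens.exists_subset_of_mem_open
    (Set.mem_univ (p (f x))) isOpen_univ
  have hyW : f x ∈ p ⁻¹ᵁ W := hsW
  obtain ⟨_, ⟨V, hV, rfl⟩, hyV, hVW⟩ := Y.isBasis_affineOpens.exists_subset_of_mem_open hyW
    (p ⁻¹ᵁ W).isOpen
  have hxfg : x ∈ f ⁻¹ᵁ V ⊓ g ⁻¹ᵁ V := ⟨hyV, by show g x ∈ V; rw [← hfx]; exact hyV⟩
  obtain ⟨_, ⟨U0, hU0, rfl⟩, hxU0, hU0fg⟩ := X.isBasis_affineOpens.exists_subset_of_mem_open hxfg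
    (f ⁻¹ᵁ V ⊓ g ⁻¹ᵁ V).isOpen
  have eW : V ≤ p ⁻¹ᵁ W := hVW
  have ef : U0 ≤ f ⁻¹ᵁ V := fun z hz => (hU0fg hz).1
  have eg : U0 ≤ g ⁻¹ᵁ V := fun z hz => (hU0fg hz).2
  have : IsNoetherianRing Γ(X, U0) := IsLocallyNoetherian.component_noetherian ⟨U0, hU0⟩
  have hbase : (f.appLE V U0 ef).hom.comp (p.appLE W V eW).hom =
      (g.appLE V U0 eg).hom.comp (p.appLE W V eW).hom := by
    rw [← CommRingCat.hom_comp, ← CommRingCat.hom_comp, Scheme.Hom.appLE_comp_appLE,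
      Scheme.Hom.appLE_comp_appLE]
    exact congrArg _ (appLE_congr_hom hfg W U0 _ _)
  have hpow : ∀ (t : Γ(Y, V)) (n : ℕ),
      (f.appLE V U0 ef).hom t - (g.appLE V U0 eg).hom t ∈ (J.ideal ⟨U0, hU0⟩) ^ n := by
    intro t n
    cases n with
    | zero => simp
    | succ m =>
      have hk := (J ^ (m + 1)).ker_subschemeι_app ⟨U0, hU0⟩
      rw [Scheme.IdealSheafData.ideal_pow, Pi.pow_apply] at hk
      rw [← hk, RingHom.mem_ker, map_sub, sub_eq_zero]
      have e1 : (J ^ (m + 1)).subschemeι ⁻¹ᵁ U0 ≤ ((J ^ (m + 1)).subschemeι ≫ f) ⁻¹ᵁ V := by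
        intro z hz
        exact ef hz
      have e2 : (J ^ (m + 1)).subschemeι ⁻¹ᵁ U0 ≤ ((J ^ (m + 1)).subschemeι ≫ g) ⁻¹ᵁ V := by
        intro z hz
        exact eg hz
      have h1 : f.appLE V U0 ef ≫ (J ^ (m + 1)).subschemeι.app U0 =
          ((J ^ (m + 1)).subschemeι ≫ f).appLE V ((J ^ (m + 1)).subschemeι ⁻¹ᵁ U0) e1 := by
        rw [← Scheme.Hom.appLE_eq_app, Scheme.Hom.appLE_comp_appLE]
      have h2 : g.appLE V U0 eg ≫ (J ^ (m + 1)).subschemeι.app U0 =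
          ((J ^ (m + 1)).subschemeι ≫ g).appLE V ((J ^ (m + 1)).subschemeι ⁻¹ᵁ U0) e2 := by
        rw [← Scheme.Hom.appLE_eq_app, Scheme.Hom.appLE_comp_appLE]
      have h3 := appLE_congr_hom (h m) V ((J ^ (m + 1)).subschemeι ⁻¹ᵁ U0) e1 e2
      rw [← h1, ← h2] at h3
      have := congrArg (fun k => k.hom t) h3
      simpa using this
  obtain ⟨h0, hh0, hρ⟩ := ring_core (p.appLE W V eW).hom
    (LocallyOfFiniteType.finiteType_appLE p hW hV eW)
    (f.appLE V U0 ef).hom (g.appLE V U0 eg).hom hbase (J.ideal ⟨U0, hU0⟩) hpow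
  refine ⟨X.basicOpen h0, ?_, ?_⟩
  · rw [Scheme.mem_basicOpen _ _ x hxU0]
    have hz := Scheme.IdealSheafData.mem_support_iff.1 hx ⟨U0, hU0⟩
    rw [Scheme.mem_zeroLocus_iff] at hz
    have hnu := hz (1 - h0) hh0
    rw [Scheme.mem_basicOpen _ _ x hxU0] at hnu
    have := IsLocalRing.isUnit_one_sub_self_of_mem_nonunits _ hnu
    rw [← map_one (X.presheaf.germ U0 x hxU0).hom, ← map_sub, sub_sub_cancel] at this
    exact this
  · have hle : X.basicOpen h0 ≤ U0 := X.basicOpen_le h0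
    have e'f : X.basicOpen h0 ≤ f ⁻¹ᵁ V := hle.trans ef
    have e'g : X.basicOpen h0 ≤ g ⁻¹ᵁ V := hle.trans eg
    rw [← Scheme.Hom.resLE_comp_ι f e'f, ← Scheme.Hom.resLE_comp_ι g e'g]
    congr 1
    have : IsAffine V := hV
    apply ext_of_isAffine
    rw [Scheme.Hom.appTop, Scheme.Hom.appTop, Scheme.Hom.resLE_app_top, Scheme.Hom.resLE_app_top]
    congr 2
    have hu : IsUnit ((X.presheaf.map (homOfLE hle).op).hom h0) :=
      X.toRingedSpace.isUnit_res_basicOpen h0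
    have key := hρ _ (X.presheaf.map (homOfLE hle).op).hom hu
    rw [← Scheme.Hom.appLE_map f ef (homOfLE hle).op, ← Scheme.Hom.appLE_map g eg (homOfLE hle).op]
    ext1
    rw [CommRingCat.hom_comp, CommRingCat.hom_comp]
    exact key

/-- Gluing: if `f` and `g` agree on an open neighbourhood of every point of `Z`, they agree on an
open set containing `Z`. -/
theorem exists_opens_of_local {X Y : Scheme.{u}} (f g : X ⟶ Y) (Z : Set X)
    (hloc : ∀ x ∈ Z, ∃ U : X.Opens, x ∈ U ∧ U.ι ≫ f = U.ι ≫ g) :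
    ∃ U : X.Opens, Z ⊆ U ∧ U.ι ≫ f = U.ι ≫ g := by
  choose Ux hxU hU using hloc
  refine ⟨⨆ z : Z, Ux z.1 z.2, ?_, ?_⟩
  · intro x hx
    exact TopologicalSpace.Opens.mem_iSup.2 ⟨⟨x, hx⟩, hxU x hx⟩
  · refine (Scheme.Opens.iSupOpenCover (fun z : Z => Ux z.1 z.2)).hom_ext _ _ fun z => ?_
    dsimp [Scheme.Opens.iSupOpenCover]
    rw [Scheme.homOfLE_ι_assoc, Scheme.homOfLE_ι_assoc]
    exact hU z.1 z.2

/-- The statement of S2301 in a form that only needs `f ≫ p = g ≫ p`. -/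
theorem agree_nbhd {S X Y : Scheme.{u}} [IsLocallyNoetherian X] (p : Y ⟶ S)
    [LocallyOfFiniteType p] (f g : X ⟶ Y) (hfg : f ≫ p = g ≫ p)
    (J : X.IdealSheafData)
    (h : ∀ n : ℕ, (J ^ (n + 1)).subschemeι ≫ f = (J ^ (n + 1)).subschemeι ≫ g) :
    ∃ U : X.Opens, (J.support : Set X) ⊆ U ∧ U.ι ≫ f = U.ι ≫ g :=
  exists_opens_of_local f g _ fun x hx => local_agree p f g hfg J h x hx

end Groth.Agent.Lib.AgreeNbhd
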