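import Groth.Agent.Lib.AlgClosedTensor
import Mathlib.AlgebraicGeometry.Geometrically.Irreducible
import Mathlib.AlgebraicGeometry.Geometrically.Connected

/-!
# Base change over an algebraically closed field

For `k` algebraically closed and `K` any field extension, `Spec K ⟶ Spec k` is geometrically irreducible
(hence geometrically connected) and universally open.  Consequently projections `X ⊗_k K ⟶ X` have these
properties for every `k`-scheme `X`.
-/

set_option autoImplicit false
universe u
open TensorProduct CategoryTheory AlgebraicGeometry CategoryTheory.Limits

namespace Groth.Agent.Lib.AlgClosedGeom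

open Groth.Agent.Lib.AlgClosedTensor

variable {k : Type u} [Field k] [IsAlgClosed k] (K : Type u) [Field K] [Algebra k K]

theorem geometricallyIrreducible_SpecMap :
    GeometricallyIrreducible (Spec.map (CommRingCat.ofHom (algebraMap k K))) := by
  refine ⟨?_⟩
  rw [geometrically_iff_of_commRing_of_isClosedUnderIsomorphisms]
  intro L _ _
  have : IsDomain (K ⊗[k] L) := isDomain_tensor_right k K L
  have : IrreducibleSpace (Spec (CommRingCat.of (K ⊗[k] L))) := inferInstance
  exact (pullbackSpecIso k K L).hom.homeomorph.irreducibleSpace_iff.2 this


theorem geometricallyConnected_SpecMap :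
    GeometricallyConnected (Spec.map (CommRingCat.ofHom (algebraMap k K))) := by
  refine ⟨?_⟩
  rw [geometrically_iff_of_commRing_of_isClosedUnderIsomorphisms]
  intro L _ _
  have : IsDomain (K ⊗[k] L) := isDomain_tensor_right k K L
  have : IrreducibleSpace (Spec (CommRingCat.of (K ⊗[k] L))) := inferInstance
  have : IrreducibleSpace ↥(pullback (Spec.map (CommRingCat.ofHom (algebraMap k K)))
      (Spec.map (CommRingCat.ofHom (algebraMap k L)))) :=
    (pullbackSpecIso k K L).hom.homeomorph.irreducibleSpace_iff.2 this
  infer_instance

/-- Over an algebraically closed field, every irreducible scheme is geometrically irreducible. -/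
theorem geometricallyIrreducible_of_irreducibleSpace {X : Scheme.{u}}
    (f : X ⟶ Spec (CommRingCat.of k)) [IrreducibleSpace X] : GeometricallyIrreducible f := by
  refine ⟨?_⟩
  rw [geometrically_iff_of_commRing_of_isClosedUnderIsomorphisms]
  intro L _ _
  have := geometricallyIrreducible_SpecMap (k := k) L
  infer_instance

/-- Over an algebraically closed field, every connected scheme is geometrically connected. -/
theorem geometricallyConnected_of_connectedSpace {X : Scheme.{u}}
    (f : X ⟶ Spec (CommRingCat.of k)) [ConnectedSpace X] : GeometricallyConnected f := by
  refine ⟨?_⟩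
  rw [geometrically_iff_of_commRing_of_isClosedUnderIsomorphisms]
  intro L _ _
  have := geometricallyConnected_SpecMap (k := k) L
  infer_instance

end Groth.Agent.Lib.AlgClosedGeom
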