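import Mathlib.RingTheory.Jacobson.Ring
import Mathlib.FieldTheory.IsAlgClosed.Basic
import Mathlib.RingTheory.TensorProduct.Free
import Mathlib.RingTheory.Adjoin.FGBaseChange
import Mathlib.RingTheory.Flat.Basic
import Mathlib.LinearAlgebra.Basis.VectorSpace

/-!
# Tensor products over an algebraically closed field

Main result: if `k` is algebraically closed, `D` is a `k`-algebra which is a domain and `K` is a field
extension of `k`, then `D ⊗[k] K` and `K ⊗[k] D` are domains.
-/

set_option autoImplicit false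
universe u
open TensorProduct

namespace Groth.Agent.Lib.AlgClosedTensor

/-- Nullstellensatz: a nonzero element of a finitely generated domain over an algebraically closed field
is nonzero at some `k`-point. -/
theorem exists_algHom_ne_zero {k D : Type*} [Field k] [IsAlgClosed k] [CommRing D] [IsDomain D]
    [Algebra k D] [Algebra.FiniteType k D] (d : D) (hd : d ≠ 0) : ∃ ψ : D →ₐ[k] k, ψ d ≠ 0 := by
  have hJ : IsJacobsonRing D := isJacobsonRing_of_finiteType (A := k)
  have hjac : (⊥ : Ideal D).jacobson = ⊥ := hJ.out (Ideal.radical_eq_iff.1 (by simp))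
  have hd' : d ∉ (⊥ : Ideal D).jacobson := by rw [hjac]; simpa using hd
  rw [Ideal.jacobson, Ideal.mem_sInf] at hd'
  push Not at hd'
  obtain ⟨m, ⟨-, hm⟩, hdm⟩ := hd'
  let _ : Field (D ⧸ m) := Ideal.Quotient.field m
  have hfin : Module.Finite k (D ⧸ m) := finite_of_finite_type_of_isJacobsonRing k (D ⧸ m)
  have hbij : Function.Bijective (algebraMap k (D ⧸ m)) :=
    IsAlgClosed.algebraMap_bijective_of_isIntegral
  let e : k ≃ₐ[k] (D ⧸ m) := AlgEquiv.ofBijective (Algebra.ofId k (D ⧸ m)) hbij
  refine ⟨e.symm.toAlgHom.comp (Ideal.Quotient.mkₐ k m), ?_⟩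
  intro h
  apply hdm
  have : (Ideal.Quotient.mkₐ k m) d = 0 := by
    have := congrArg e h
    simpa using this
  exact Ideal.Quotient.eq_zero_iff_mem.1 this


/-- Finitely generated case: no zero divisors in `D ⊗[k] K`. -/
theorem mul_eq_zero_of_finiteType {k D K : Type*} [Field k] [IsAlgClosed k] [CommRing D] [IsDomain D]
    [Algebra k D] [Algebra.FiniteType k D] [Field K] [Algebra k K] (x y : D ⊗[k] K)
    (hxy : x * y = 0) : x = 0 ∨ y = 0 := by
  by_contra hcon
  push Not at hcon
  obtain ⟨hx, hy⟩ := hcon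
  let β := Module.Basis.ofVectorSpace k K
  let B := Algebra.TensorProduct.basis D β
  have hx' : B.repr x ≠ 0 := fun h => hx (B.repr.map_eq_zero_iff.1 h)
  have hy' : B.repr y ≠ 0 := fun h => hy (B.repr.map_eq_zero_iff.1 h)
  obtain ⟨i, hi⟩ := Finsupp.ne_iff.1 hx'
  obtain ⟨j, hj⟩ := Finsupp.ne_iff.1 hy'
  simp only [Finsupp.coe_zero, Pi.zero_apply] at hi hj
  obtain ⟨ψ, hψ⟩ := exists_algHom_ne_zero (k := k) (B.repr x i * B.repr y j) (mul_ne_zero hi hj)
  let Ψ : D ⊗[k] K →ₐ[k] K := Algebra.TensorProduct.lift ((Algebra.ofId k K).comp ψ) (AlgHom.id k K)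
    (fun _ _ => Commute.all _ _)
  have key : ∀ (l : _) (z : D ⊗[k] K), β.repr (Ψ z) l = ψ (B.repr z l) := by
    intro l z
    induction z using TensorProduct.induction_on with
    | zero => simp
    | tmul d κ =>
      have h1 : Ψ (d ⊗ₜ[k] κ) = ψ d • κ := by
        simp [Ψ, Algebra.smul_def]
      rw [h1, map_smul]
      simp [B]
    | add a b ha hb => simp [map_add, ha, hb]
  have hΨ : Ψ x * Ψ y = 0 := by rw [← map_mul, hxy, map_zero]
  rcases mul_eq_zero.1 hΨ with h | h
  · apply hψ
    rw [map_mul, ← key i x, h]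
    simp
  · apply hψ
    rw [map_mul, ← key j y, h]
    simp


theorem baseChange_mono' {R A B : Type*} [CommSemiring R] [Semiring A] [CommSemiring B] [Algebra R A]
    [Algebra R B] {C₁ C₂ : Subalgebra R A} (h : C₁ ≤ C₂) : C₁.baseChange B ≤ C₂.baseChange B := by
  rintro _ ⟨z, rfl⟩
  refine ⟨Algebra.TensorProduct.map (AlgHom.id B B) (Subalgebra.inclusion h) z, ?_⟩
  induction z using TensorProduct.induction_on with
  | zero => simp
  | tmul b c => simp
  | add a b ha hb => simp only [map_add, ha, hb]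

/-- If `k` is algebraically closed, `D` is a domain over `k` and `K` a field extension of `k`, then
`K ⊗[k] D` has no zero divisors. -/
theorem mul_eq_zero_tensor {k D K : Type*} [Field k] [IsAlgClosed k] [CommRing D] [IsDomain D]
    [Algebra k D] [Field K] [Algebra k K] (x y : K ⊗[k] D) (hxy : x * y = 0) : x = 0 ∨ y = 0 := by
  obtain ⟨C₁, hC₁, hx⟩ := exists_fg_and_mem_baseChange x
  obtain ⟨C₂, hC₂, hy⟩ := exists_fg_and_mem_baseChange y
  obtain ⟨x₀, rfl⟩ := baseChange_mono' (B := K) (le_sup_left : C₁ ≤ C₁ ⊔ C₂) hx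
  obtain ⟨y₀, rfl⟩ := baseChange_mono' (B := K) (le_sup_right : C₂ ≤ C₁ ⊔ C₂) hy
  have hfg : (C₁ ⊔ C₂).FG := hC₁.sup hC₂
  have : Algebra.FiniteType k ↥(C₁ ⊔ C₂) := (Subalgebra.fg_iff_finiteType _).1 hfg
  have h_inj : Function.Injective
      (Algebra.TensorProduct.map (AlgHom.id K K) (C₁ ⊔ C₂).val) :=
    Module.Flat.lTensor_preserves_injective_linearMap _ Subtype.val_injective
  have h0 : x₀ * y₀ = 0 := by
    apply h_inj
    rw [map_mul, map_zero]
    exact hxy
  let e : K ⊗[k] ↥(C₁ ⊔ C₂) ≃ₐ[k] ↥(C₁ ⊔ C₂) ⊗[k] K := Algebra.TensorProduct.comm k K _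
  have h1 : e x₀ * e y₀ = 0 := by rw [← map_mul, h0, map_zero]
  rcases mul_eq_zero_of_finiteType _ _ h1 with h | h
  · left
    rw [e.map_eq_zero_iff.1 h, map_zero]
  · right
    rw [e.map_eq_zero_iff.1 h, map_zero]

/-- If `k` is algebraically closed, `D` is a domain over `k` and `K` a field extension of `k`, then
`K ⊗[k] D` is a domain. -/
theorem isDomain_tensor_left (k D K : Type*) [Field k] [IsAlgClosed k] [CommRing D] [IsDomain D]
    [Algebra k D] [Field K] [Algebra k K] : IsDomain (K ⊗[k] D) := by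
  have : Nontrivial (K ⊗[k] D) :=
    (Algebra.TensorProduct.includeRight_injective (R := k) (A := K) (B := D)
      (FaithfulSMul.algebraMap_injective k K)).nontrivial
  have : NoZeroDivisors (K ⊗[k] D) := ⟨fun {a b} h => mul_eq_zero_tensor a b h⟩
  exact NoZeroDivisors.to_isDomain _

/-- If `k` is algebraically closed, `D` is a domain over `k` and `K` a field extension of `k`, then
`D ⊗[k] K` is a domain. -/
theorem isDomain_tensor_right (k D K : Type*) [Field k] [IsAlgClosed k] [CommRing D] [IsDomain D]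
    [Algebra k D] [Field K] [Algebra k K] : IsDomain (D ⊗[k] K) := by
  have := isDomain_tensor_left k D K
  exact (Algebra.TensorProduct.comm k D K).toMulEquiv.isDomain _

end Groth.Agent.Lib.AlgClosedTensor
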