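import Mathlib.RingTheory.Jacobson.Ring
import Mathlib.FieldTheory.IsAlgClosed.Basic
import Mathlib.RingTheory.TensorProduct.Free
import Mathlib.RingTheory.Adjoin.FGBaseChange
import Mathlib.RingTheory.Flat.Basic
import Mathlib.RingTheory.Nilpotent.Lemmas

/-!
# Tensor products over an algebraically closed field

For an algebraically closed field `k`:
* `exists_algHom_apply_ne_zero`: a nonzero element of a reduced finitely generated `k`-algebra is
  nonzero at some `k`-point.
* `isDomain_tensorProduct`: the tensor product of two `k`-algebras that are domains is a domain.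
* `isReduced_tensorProduct`: the tensor product of two reduced `k`-algebras is reduced.
-/

set_option autoImplicit false
open TensorProduct
universe u v w

namespace Groth.Agent.Lib.AlgClosedTensor2

section Points

variable {k : Type u} [Field k] [IsAlgClosed k] {A : Type v} [CommRing A] [Algebra k A]

/-- A maximal ideal of a finitely generated algebra over an algebraically closed field gives a
`k`-point. -/
theorem exists_algHom_ker_eq [Algebra.FiniteType k A] (m : Ideal A) [hm : m.IsMaximal] :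
    ∃ ψ : A →ₐ[k] k, RingHom.ker ψ.toRingHom = m := by
  let _ := Ideal.Quotient.field m
  have : Algebra.FiniteType k (A ⧸ m) :=
    Algebra.FiniteType.of_surjective (Ideal.Quotient.mkₐ k m) (Ideal.Quotient.mkₐ_surjective k m)
  have : Module.Finite k (A ⧸ m) := finite_of_finite_type_of_isJacobsonRing k (A ⧸ m)
  have hbij : Function.Bijective (algebraMap k (A ⧸ m)) :=
    IsAlgClosed.algebraMap_bijective_of_isIntegral
  let e : k ≃ₐ[k] (A ⧸ m) := AlgEquiv.ofBijective (Algebra.ofId k (A ⧸ m)) hbij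
  refine ⟨(e.symm : (A ⧸ m) →ₐ[k] k).comp (Ideal.Quotient.mkₐ k m), ?_⟩
  ext a
  simp only [RingHom.mem_ker, AlgHom.toRingHom_eq_coe, RingHom.coe_coe, AlgHom.coe_comp,
    AlgEquiv.coe_toAlgHom, Function.comp_apply, Ideal.Quotient.mkₐ_eq_mk]
  rw [EmbeddingLike.map_eq_zero_iff, Ideal.Quotient.eq_zero_iff_mem]

/-- A nonzero element of a reduced finitely generated algebra over an algebraically closed field
is nonzero at some `k`-point. -/
theorem exists_algHom_apply_ne_zero [Algebra.FiniteType k A] [IsReduced A] {a : A} (ha : a ≠ 0) :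
    ∃ ψ : A →ₐ[k] k, ψ a ≠ 0 := by
  have : IsJacobsonRing A := isJacobsonRing_of_finiteType (A := k)
  have h1 : (⊥ : Ideal A).jacobson = ⊥ := by
    rw [← Ideal.radical_eq_jacobson, Ideal.radical_bot_of_isReduced]
  have h2 : a ∉ (⊥ : Ideal A).jacobson := by rw [h1]; simpa using ha
  rw [Ideal.jacobson, Ideal.mem_sInf] at h2
  push Not at h2
  obtain ⟨m, ⟨-, hm⟩, ham⟩ := h2
  obtain ⟨ψ, hψ⟩ := exists_algHom_ker_eq (k := k) m
  refine ⟨ψ, fun h => ham ?_⟩
  rw [← hψ]
  exact h

end Points

section Eval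

variable {k : Type u} [Field k] {A : Type v} [CommRing A] [Algebra k A]
  {B : Type w} [CommRing B] [Algebra k B]

/-- Evaluation of the left factor of a tensor product at a `k`-point. -/
noncomputable def evalLeft (ψ : A →ₐ[k] k) : A ⊗[k] B →ₐ[k] B :=
  (Algebra.TensorProduct.lid k B).toAlgHom.comp (Algebra.TensorProduct.map ψ (AlgHom.id k B))

@[simp]
theorem evalLeft_tmul (ψ : A →ₐ[k] k) (a : A) (b : B) :
    evalLeft (B := B) ψ (a ⊗ₜ b) = ψ a • b := by
  simp [evalLeft]

theorem repr_evalLeft {ι : Type*} (𝔟 : Module.Basis ι k B) (ψ : A →ₐ[k] k) (x : A ⊗[k] B) (i : ι) :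
    𝔟.repr (evalLeft ψ x) i = ψ ((Algebra.TensorProduct.basis A 𝔟).repr x i) := by
  induction x using TensorProduct.induction_on with
  | zero => simp
  | tmul a b =>
    rw [evalLeft_tmul, map_smul, Finsupp.smul_apply, Algebra.TensorProduct.basis_repr_tmul]
    simp
  | add x y hx hy => simp [hx, hy]

theorem exists_repr_ne_zero {ι : Type*} {R M : Type*} [CommRing R] [AddCommGroup M] [Module R M]
    (𝔠 : Module.Basis ι R M) {x : M} (hx : x ≠ 0) : ∃ i, 𝔠.repr x i ≠ 0 := by
  by_contra hcon
  push Not at hcon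
  exact hx (𝔠.repr.map_eq_zero_iff.mp (Finsupp.ext hcon))

theorem evalLeft_ne_zero {ι : Type*} (𝔟 : Module.Basis ι k B) (ψ : A →ₐ[k] k) (x : A ⊗[k] B)
    (i : ι) (h : ψ ((Algebra.TensorProduct.basis A 𝔟).repr x i) ≠ 0) : evalLeft ψ x ≠ 0 := by
  intro h0
  apply h
  rw [← repr_evalLeft 𝔟 ψ x i, h0]
  simp

variable [IsAlgClosed k]

theorem noZeroDivisors_of_finiteType_left [Algebra.FiniteType k A] [IsDomain A] [IsDomain B] :
    NoZeroDivisors (A ⊗[k] B) := by
  constructor
  intro x y hxy
  by_contra h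
  push Not at h
  obtain ⟨hx, hy⟩ := h
  let 𝔟 := Module.Free.chooseBasis k B
  let 𝔠 := Algebra.TensorProduct.basis A 𝔟
  obtain ⟨i, hi⟩ := exists_repr_ne_zero 𝔠 hx
  obtain ⟨j, hj⟩ := exists_repr_ne_zero 𝔠 hy
  obtain ⟨ψ, hψ⟩ := exists_algHom_apply_ne_zero (k := k) (mul_ne_zero hi hj)
  rw [map_mul] at hψ
  have h1 : evalLeft ψ x ≠ 0 := evalLeft_ne_zero 𝔟 ψ x i (left_ne_zero_of_mul hψ)
  have h2 : evalLeft ψ y ≠ 0 := evalLeft_ne_zero 𝔟 ψ y j (right_ne_zero_of_mul hψ)
  have h3 : evalLeft ψ x * evalLeft ψ y = 0 := by rw [← map_mul, hxy, map_zero]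
  exact (mul_ne_zero h1 h2) h3

theorem isReduced_of_finiteType_left [Algebra.FiniteType k A] [IsReduced A] [IsReduced B] :
    IsReduced (A ⊗[k] B) := by
  constructor
  intro x hx
  by_contra hx0
  let 𝔟 := Module.Free.chooseBasis k B
  let 𝔠 := Algebra.TensorProduct.basis A 𝔟
  obtain ⟨i, hi⟩ := exists_repr_ne_zero 𝔠 hx0
  obtain ⟨ψ, hψ⟩ := exists_algHom_apply_ne_zero (k := k) hi
  have h1 : evalLeft ψ x ≠ 0 := evalLeft_ne_zero 𝔟 ψ x i hψ
  exact h1 (hx.map (evalLeft ψ)).eq_zero

end Eval

section General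

variable {k : Type u} [Field k] {A : Type v} [CommRing A] [Algebra k A]
  {B : Type w} [CommRing B] [Algebra k B]

theorem baseChange_le {C₁ C₂ : Subalgebra k B} (h : C₁ ≤ C₂) :
    C₁.baseChange A ≤ C₂.baseChange A := by
  rintro _ ⟨z, rfl⟩
  refine ⟨Algebra.TensorProduct.map (AlgHom.id A A) (Subalgebra.inclusion h) z, ?_⟩
  induction z using TensorProduct.induction_on with
  | zero => simp
  | tmul a c => simp
  | add x y hx hy => simp only [map_add, hx, hy]

theorem finiteType_of_fg {C : Subalgebra k B} (hC : C.FG) : Algebra.FiniteType k C :=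
  ⟨C.fg_top.mpr hC⟩

variable [IsAlgClosed k]

/-- Over an algebraically closed field, the tensor product of two domains is a domain. -/
theorem isDomain_tensorProduct [IsDomain A] [IsDomain B] : IsDomain (A ⊗[k] B) := by
  have hnt : Nontrivial (A ⊗[k] B) :=
    (Algebra.TensorProduct.includeLeft_injective (S := k) (A := A)
      (algebraMap k B).injective).nontrivial
  have hnzd : NoZeroDivisors (A ⊗[k] B) := by
    constructor
    intro x y hxy
    obtain ⟨C₁, hC₁, hx⟩ := exists_fg_and_mem_baseChange x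
    obtain ⟨C₂, hC₂, hy⟩ := exists_fg_and_mem_baseChange y
    have hC : (C₁ ⊔ C₂).FG := hC₁.sup hC₂
    obtain ⟨x', rfl⟩ := baseChange_le (A := A) (le_sup_left : C₁ ≤ C₁ ⊔ C₂) hx
    obtain ⟨y', rfl⟩ := baseChange_le (A := A) (le_sup_right : C₂ ≤ C₁ ⊔ C₂) hy
    have hφ : Function.Injective
        (Algebra.TensorProduct.map (AlgHom.id A A) (C₁ ⊔ C₂).val) :=
      Module.Flat.lTensor_preserves_injective_linearMap _ Subtype.val_injective
    have : Algebra.FiniteType k ↥(C₁ ⊔ C₂) := finiteType_of_fg hC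
    have h1 : NoZeroDivisors (↥(C₁ ⊔ C₂) ⊗[k] A) := noZeroDivisors_of_finiteType_left
    have h2 : NoZeroDivisors (A ⊗[k] ↥(C₁ ⊔ C₂)) :=
      (Algebra.TensorProduct.comm k A ↥(C₁ ⊔ C₂)).toMulEquiv.noZeroDivisors
    rw [← map_mul] at hxy
    have h3 : x' * y' = 0 := hφ (hxy.trans (map_zero _).symm)
    rcases mul_eq_zero.mp h3 with h | h
    · left; rw [h, map_zero]
    · right; rw [h, map_zero]
  exact NoZeroDivisors.to_isDomain _

/-- Over an algebraically closed field, the tensor product of two reduced algebras is reduced. -/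
theorem isReduced_tensorProduct [IsReduced A] [IsReduced B] : IsReduced (A ⊗[k] B) := by
  apply IsReduced.tensorProduct_of_flat_of_forall_fg
  intro C hC
  have : Algebra.FiniteType k ↥C := finiteType_of_fg hC
  have : IsReduced ↥C := isReduced_of_injective C.val Subtype.val_injective
  have h1 : IsReduced (↥C ⊗[k] A) := isReduced_of_finiteType_left
  exact isReduced_of_injective (Algebra.TensorProduct.comm k A ↥C)
    (Algebra.TensorProduct.comm k A ↥C).injective

end General

end Groth.Agent.Lib.AlgClosedTensor2
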