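/-
helper26: algebraically closed fields of the same transcendence degree over a common subring are
isomorphic *over that subring* (Mathlib's `IsAlgClosed.equivOfTranscendenceBasis` only records a
ring isomorphism).
-/
import Mathlib.FieldTheory.IsAlgClosed.Classification
import Mathlib.RingTheory.AlgebraicIndependent.TranscendenceBasis

set_option autoImplicit false

namespace Groth.Agent.Lib.AlgClosedTrdeg

open Cardinal Algebra

universe u

/-- Two algebraically closed fields containing a common ring `R` with the same transcendence
degree over `R` are isomorphic compatibly with the maps from `R`. -/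
theorem exists_ringEquiv_of_trdeg_eq {R K L : Type u} [CommRing R] [Field K] [Field L]
    [Algebra R K] [Algebra R L] [IsAlgClosed K] [IsAlgClosed L]
    [FaithfulSMul R K] [FaithfulSMul R L] (h : trdeg R K = trdeg R L) :
    ∃ e : K ≃+* L, ∀ r : R, e (algebraMap R K r) = algebraMap R L r := by
  have : Nontrivial R := RingHom.domain_nontrivial (algebraMap R K)
  obtain ⟨s, hs⟩ := exists_isTranscendenceBasis R K
  obtain ⟨t, ht⟩ := exists_isTranscendenceBasis R L
  have hcard : #s = #t := by
    rw [hs.cardinalMk_eq_trdeg, ht.cardinalMk_eq_trdeg, h]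
  obtain ⟨e₀⟩ := Cardinal.eq.mp hcard
  have := IsAlgClosed.isAlgClosure_of_transcendence_basis _ hs
  have := IsAlgClosed.isAlgClosure_of_transcendence_basis _ ht
  let e1 : Algebra.adjoin R (Set.range ((↑) : s → K)) ≃ₐ[R]
      Algebra.adjoin R (Set.range ((↑) : t → L)) :=
    hs.1.aevalEquiv.symm.trans ((MvPolynomial.renameEquiv R e₀).trans ht.1.aevalEquiv)
  refine ⟨IsAlgClosure.equivOfEquiv K L e1.toRingEquiv, fun r => ?_⟩
  have h1 : algebraMap R K r = algebraMap (Algebra.adjoin R (Set.range ((↑) : s → K))) K
      (algebraMap R _ r) := rfl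
  rw [h1, IsAlgClosure.equivOfEquiv_algebraMap]
  have h2 : e1.toRingEquiv (algebraMap R _ r) = algebraMap R _ r := e1.commutes r
  rw [h2]
  rfl

/-- Ring-hom version of `exists_ringEquiv_of_trdeg_eq` (avoids putting `Algebra` instances on
concrete types, where they may create diamonds). -/
theorem exists_ringEquiv_of_ringHom {R K L : Type u} [CommRing R] [Field K] [Field L]
    [IsAlgClosed K] [IsAlgClosed L] (g : R →+* K) (h : R →+* L)
    (hg : Function.Injective g) (hh : Function.Injective h)
    (htr : @trdeg R K _ _ g.toAlgebra = @trdeg R L _ _ h.toAlgebra) :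
    ∃ e : K ≃+* L, ∀ r : R, e (g r) = h r := by
  letI := g.toAlgebra
  letI := h.toAlgebra
  have : FaithfulSMul R K := (faithfulSMul_iff_algebraMap_injective R K).mpr hg
  have : FaithfulSMul R L := (faithfulSMul_iff_algebraMap_injective R L).mpr hh
  exact exists_ringEquiv_of_trdeg_eq htr

end Groth.Agent.Lib.AlgClosedTrdeg
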