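import Groth.Agent.Lib.AlgSpProper
import Groth.Agent.S10277
import Groth.Agent.S9922

/-!
# Proper morphisms of algebraic spaces II: closed immersions, cancellation, diagonals (owner: helper91)

Namespace `Groth.Agent.Lib.AlgSpProper` (continues `Lib/AlgSpProper.lean`).  Append-only please.
-/

set_option autoImplicit false
universe u
open CategoryTheory CategoryTheory.Limits AlgebraicGeometry Opposite Topology

namespace Groth.Agent.Lib.AlgSpProper

open AlgSp Groth.Agent.Lib.AlgSpPoints Groth.Agent.Lib.AlgSpQC Groth.Agent.Lib.AlgSpFibre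
  Groth.Agent.Lib.AlgSpDescent Groth.Agent.Lib.H69AlgSp Groth.Agent.Lib.H69AlgSpMor
  Groth.Agent.Lib.AlgSpLocP Groth.Agent.Lib.AlgSpBasic Groth.Agent.Lib.AlgSpFpqc

variable {S : Scheme.{u}}

/-- A representable closed immersion of algebraic spaces is proper (sheaf-level form of S10277). -/
theorem isProperMor_of_repWith_isClosedImmersion {X Y : Sp S} (hX : IsAlgSpace X) (hY : IsAlgSpace Y)
    {i : X ⟶ Y} (hi : RepWith @IsClosedImmersion i) : IsProperMor i :=
  Groth.Agent.S10277.result (X := ⟨X, hX⟩) (Y := ⟨Y, hY⟩) (ObjectProperty.homMk i) hi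

/-- For a representable morphism of algebraic spaces, universally closed on points is the same as representable
universally closed (sheaf-level form of S9922). -/
theorem repWith_universallyClosed_iff {X Y : Sp S} (hX : IsAlgSpace X) (hY : IsAlgSpace Y)
    {f : X ⟶ Y} (hf : Representable f) : RepWith @UniversallyClosed f ↔ IsUnivClosedMor f :=
  Groth.Agent.S9922.result (X := ⟨X, hX⟩) (Y := ⟨Y, hY⟩) (ObjectProperty.homMk f) hf

/-- The graph `X ⟶ X ×_B Y` of `f : X ⟶ Y` over a separated `q : Y ⟶ B` is a representable closed immersion. -/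
theorem repWith_isClosedImmersion_graph {X Y B : Sp S} (f : X ⟶ Y) (q : Y ⟶ B)
    (hq : IsSeparatedMor q) :
    RepWith @IsClosedImmersion (pullback.lift (𝟙 X) f (by simp) : X ⟶ pullback (f ≫ q) q) :=
  (RepWith (S := S) @IsClosedImmersion).of_isPullback (pullback_lift_diagonal_isPullback f q) hq

/-- Cancellation: if `f ≫ q` is proper and `q` is separated then `f` is proper. -/
theorem isProperMor_of_comp {X Y B : Sp S} (hX : IsAlgSpace X) (hY : IsAlgSpace Y) (hB : IsAlgSpace B)
    {f : X ⟶ Y} {q : Y ⟶ B} (hq : IsSeparatedMor q) (h : IsProperMor (f ≫ q)) : IsProperMor f := by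
  have sqP := IsPullback.of_hasPullback (f ≫ q) q
  have hP : IsAlgSpace (pullback (f ≫ q) q) := isAlgSpace_of_isPullback hB.diag hX hY sqP
  have h1 := isProperMor_of_repWith_isClosedImmersion hX hP (repWith_isClosedImmersion_graph f q hq)
  have h2 : IsProperMor (pullback.snd (f ≫ q) q) := isProperMor_of_isPullback hX hB hY sqP h
  have key := isProperMor_comp hX hP hY h1 h2
  have e : (pullback.lift (𝟙 X) f (by simp) : X ⟶ pullback (f ≫ q) q) ≫ pullback.snd (f ≫ q) q = f :=
    pullback.lift_snd _ _ _
  rwa [e] at key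

/-- Cancellation: if `f ≫ q` is universally closed and `q` is separated then `f` is universally closed. -/
theorem isUnivClosedMor_of_comp {X Y B : Sp S} (hX : IsAlgSpace X) (hY : IsAlgSpace Y)
    (hB : IsAlgSpace B) {f : X ⟶ Y} {q : Y ⟶ B} (hq : IsSeparatedMor q)
    (h : IsUnivClosedMor (f ≫ q)) : IsUnivClosedMor f := by
  have sqP := IsPullback.of_hasPullback (f ≫ q) q
  have hP : IsAlgSpace (pullback (f ≫ q) q) := isAlgSpace_of_isPullback hB.diag hX hY sqP
  have h1 := (isProperMor_of_repWith_isClosedImmersion hX hP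
    (repWith_isClosedImmersion_graph f q hq)).2.2
  have h2 : IsUnivClosedMor (pullback.snd (f ≫ q) q) := univSp_of_isPullback sqP h
  have key := isUnivClosedMor_comp hP hY.diag h1 h2
  have e : (pullback.lift (𝟙 X) f (by simp) : X ⟶ pullback (f ≫ q) q) ≫ pullback.snd (f ≫ q) q = f :=
    pullback.lift_snd _ _ _
  rwa [e] at key

/-- The image of a universally closed morphism to an algebraic space is closed. -/
theorem isClosed_range_of_isUnivClosedMor {X Y : Sp S} (hY : IsAlgSpace Y) {f : X ⟶ Y}
    (h : IsUnivClosedMor f) : IsClosed (Set.range (Points.map f)) :=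
  (isClosedMor_of_isUnivClosedMor hY h).isClosed_range

/-- A morphism of algebraic spaces is separated iff its diagonal is universally closed. -/
theorem isSeparatedMor_iff_isUnivClosedMor_diagonal {X Y : Sp S} (hX : IsAlgSpace X)
    (hY : IsAlgSpace Y) (f : X ⟶ Y) : IsSeparatedMor f ↔ IsUnivClosedMor (pullback.diagonal f) := by
  have hP : IsAlgSpace (pullback f f) :=
    isAlgSpace_of_isPullback hY.diag hX hX (IsPullback.of_hasPullback f f)
  have hrep : Representable (pullback.diagonal f) :=
    Groth.Agent.Lib.AlgSpFpqc.representable_diagonal hX.diag f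
  change RepWith @IsClosedImmersion (pullback.diagonal f) ↔ _
  rw [repWith_isClosedImmersion_diagonal_iff hX hY f]
  exact repWith_universallyClosed_iff hX hP hrep

/-- A morphism of algebraic spaces is separated iff its diagonal is proper. -/
theorem isSeparatedMor_iff_isProperMor_diagonal {X Y : Sp S} (hX : IsAlgSpace X)
    (hY : IsAlgSpace Y) (f : X ⟶ Y) : IsSeparatedMor f ↔ IsProperMor (pullback.diagonal f) := by
  have hP : IsAlgSpace (pullback f f) :=
    isAlgSpace_of_isPullback hY.diag hX hX (IsPullback.of_hasPullback f f)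
  exact ⟨fun h => isProperMor_of_repWith_isClosedImmersion hX hP h,
    fun h => (isSeparatedMor_iff_isUnivClosedMor_diagonal hX hY f).2 h.2.2⟩

end Groth.Agent.Lib.AlgSpProper
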