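import Groth.Agent.Lib.AlgSpUnivClosedQC
import Groth.Agent.S9915

/-!
# Separation descends along surjective universally closed morphisms of algebraic spaces (owner: helper91)

Namespace `Groth.Agent.Lib.AlgSpProper` (continues `Lib/AlgSpUnivClosedQC.lean`).  Append-only please.
-/

set_option autoImplicit false
universe u
open CategoryTheory CategoryTheory.Limits AlgebraicGeometry Opposite Topology

namespace Groth.Agent.Lib.AlgSpProper

open AlgSp Groth.Agent.Lib.AlgSpPoints Groth.Agent.Lib.AlgSpQC Groth.Agent.Lib.AlgSpFibre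
  Groth.Agent.Lib.AlgSpDescent Groth.Agent.Lib.H69AlgSp Groth.Agent.Lib.H69AlgSpMor
  Groth.Agent.Lib.AlgSpLocP Groth.Agent.Lib.AlgSpBasic Groth.Agent.Lib.AlgSpFpqc

variable {S : Scheme.{u}}

/-- If `g` is surjective on points and `g ≫ f` is universally closed, then `f` is universally closed. -/
theorem isUnivClosedMor_of_surjective_comp {W X Y : Sp S} {g : W ⟶ X} {f : X ⟶ Y}
    (hg : IsSurjectiveMor g) (h : IsUnivClosedMor (g ≫ f)) : IsUnivClosedMor f := by
  intro Z Z' hZ k fst' snd' sq'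
  have sq'' := IsPullback.of_hasPullback fst' g
  have big : IsPullback (pullback.snd fst' g) (pullback.fst fst' g ≫ snd') (g ≫ f) k :=
    sq''.flip.paste_vert sq'
  have hsurj : Function.Surjective (Points.map (pullback.fst fst' g)) :=
    isSurjectiveMor_of_isPullback sq''.flip hg
  have hcl : IsClosedMap (Points.map (pullback.fst fst' g ≫ snd')) := h hZ k _ _ big
  intro C hC
  have e : Points.map snd' '' C =
      Points.map (pullback.fst fst' g ≫ snd') '' (Points.map (pullback.fst fst' g) ⁻¹' C) := by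
    ext z
    constructor
    · rintro ⟨c, hc, rfl⟩
      obtain ⟨w, rfl⟩ := hsurj c
      exact ⟨w, hc, Points.map_comp _ _ w⟩
    · rintro ⟨w, hw, rfl⟩
      exact ⟨_, hw, (Points.map_comp _ _ w).symm⟩
  rw [e]
  exact hcl _ (hC.preimage (Points.continuous_map _))

/-- If `g` is surjective on points and `g ≫ f` is quasi-compact, then `f` is quasi-compact (sheaf-level S9915). -/
theorem isQuasiCompactMor_of_surjective_comp {W X Y : Sp S} (hW : IsAlgSpace W) (hX : IsAlgSpace X)
    (hY : IsAlgSpace Y) {g : W ⟶ X} {f : X ⟶ Y} (hg : IsSurjectiveMor g)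
    (h : IsQuasiCompactMor (g ≫ f)) : IsQuasiCompactMor f :=
  Groth.Agent.S9915.result (X := ⟨W, hW⟩) (Y := ⟨X, hX⟩) (Z := ⟨Y, hY⟩) (ObjectProperty.homMk g)
    (ObjectProperty.homMk (g ≫ f)) (ObjectProperty.homMk f) rfl hg h

section ProdMap

variable {X Y B : Sp S} (f : X ⟶ Y) (q : Y ⟶ B)

/-- `X ×_B X ⟶ Y ×_B X`. -/
noncomputable def prodMap₁ : pullback (f ≫ q) (f ≫ q) ⟶ pullback q (f ≫ q) :=
  pullback.map (f ≫ q) (f ≫ q) q (f ≫ q) f (𝟙 X) (𝟙 B) (by simp) (by simp)

/-- `Y ×_B X ⟶ Y ×_B Y`. -/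
noncomputable def prodMap₂ : pullback q (f ≫ q) ⟶ pullback q q :=
  pullback.map q (f ≫ q) q q (𝟙 Y) f (𝟙 B) (by simp) (by simp)

theorem prodMap₁_fst :
    prodMap₁ f q ≫ pullback.fst q (f ≫ q) = pullback.fst (f ≫ q) (f ≫ q) ≫ f := by
  unfold prodMap₁ pullback.map
  rw [pullback.lift_fst]

theorem prodMap₁_snd :
    prodMap₁ f q ≫ pullback.snd q (f ≫ q) = pullback.snd (f ≫ q) (f ≫ q) := by
  unfold prodMap₁ pullback.map
  rw [pullback.lift_snd, Category.comp_id]

theorem prodMap₂_fst : prodMap₂ f q ≫ pullback.fst q q = pullback.fst q (f ≫ q) := by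
  unfold prodMap₂ pullback.map
  rw [pullback.lift_fst, Category.comp_id]

theorem prodMap₂_snd : prodMap₂ f q ≫ pullback.snd q q = pullback.snd q (f ≫ q) ≫ f := by
  unfold prodMap₂ pullback.map
  rw [pullback.lift_snd]

theorem isPullback_prodMap₁ :
    IsPullback (prodMap₁ f q) (pullback.fst (f ≫ q) (f ≫ q)) (pullback.fst q (f ≫ q)) f := by
  refine IsPullback.of_right (h₁₂ := pullback.snd q (f ≫ q)) (h₂₂ := q) (v₁₃ := f ≫ q) ?_
    (prodMap₁_fst f q) (IsPullback.of_hasPullback q (f ≫ q)).flip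
  rw [prodMap₁_snd]
  exact (IsPullback.of_hasPullback (f ≫ q) (f ≫ q)).flip

theorem isPullback_prodMap₂ :
    IsPullback (prodMap₂ f q) (pullback.snd q (f ≫ q)) (pullback.snd q q) f := by
  refine IsPullback.of_right (h₁₂ := pullback.fst q q) (h₂₂ := q) (v₁₃ := q) ?_
    (prodMap₂_snd f q) (IsPullback.of_hasPullback q q)
  rw [prodMap₂_fst]
  exact IsPullback.of_hasPullback q (f ≫ q)

theorem diagonal_prodMap :
    pullback.diagonal (f ≫ q) ≫ prodMap₁ f q ≫ prodMap₂ f q = f ≫ pullback.diagonal q := by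
  apply pullback.hom_ext
  · rw [Category.assoc, Category.assoc, prodMap₂_fst, prodMap₁_fst, pullback.diagonal_fst_assoc,
      Category.assoc, pullback.diagonal_fst, Category.comp_id]
  · rw [Category.assoc, Category.assoc, prodMap₂_snd, ← Category.assoc (prodMap₁ f q), prodMap₁_snd,
      pullback.diagonal_snd_assoc, Category.assoc, pullback.diagonal_snd, Category.comp_id]

end ProdMap

/-- For `f : X ⟶ Y` surjective and universally closed over `B`, the map `X ×_B X ⟶ Y ×_B Y` is universally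
closed. -/
theorem isUnivClosedMor_prodMap {X Y B : Sp S} (hX : IsAlgSpace X) (hY : IsAlgSpace Y)
    (hB : IsAlgSpace B) (f : X ⟶ Y) (q : Y ⟶ B) (hc : IsUnivClosedMor f) :
    IsUnivClosedMor (prodMap₁ f q ≫ prodMap₂ f q) := by
  have hP2 : IsAlgSpace (pullback q (f ≫ q)) :=
    isAlgSpace_of_isPullback hB.diag hY hX (IsPullback.of_hasPullback _ _)
  have hP3 : IsAlgSpace (pullback q q) :=
    isAlgSpace_of_isPullback hB.diag hY hY (IsPullback.of_hasPullback _ _)
  exact isUnivClosedMor_comp hP2 hP3.diag (univSp_of_isPullback (isPullback_prodMap₁ f q).flip hc)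
    (univSp_of_isPullback (isPullback_prodMap₂ f q).flip hc)

/-- Universal closedness of the diagonal descends along a surjective universally closed morphism. -/
theorem isUnivClosedMor_diagonal_of_surjective_univClosed {X Y B : Sp S} (hX : IsAlgSpace X)
    (hY : IsAlgSpace Y) (hB : IsAlgSpace B) (f : X ⟶ Y) (q : Y ⟶ B) (hs : IsSurjectiveMor f)
    (hc : IsUnivClosedMor f) (h : IsUnivClosedMor (pullback.diagonal (f ≫ q))) :
    IsUnivClosedMor (pullback.diagonal q) := by
  have hP1 : IsAlgSpace (pullback (f ≫ q) (f ≫ q)) :=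
    isAlgSpace_of_isPullback hB.diag hX hX (IsPullback.of_hasPullback _ _)
  have hP3 : IsAlgSpace (pullback q q) :=
    isAlgSpace_of_isPullback hB.diag hY hY (IsPullback.of_hasPullback _ _)
  have key := isUnivClosedMor_comp hP1 hP3.diag h (isUnivClosedMor_prodMap hX hY hB f q hc)
  rw [diagonal_prodMap] at key
  exact isUnivClosedMor_of_surjective_comp hs key

/-- Separatedness descends along a surjective universally closed morphism. -/
theorem isSeparatedMor_of_surjective_univClosed {X Y B : Sp S} (hX : IsAlgSpace X)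
    (hY : IsAlgSpace Y) (hB : IsAlgSpace B) (f : X ⟶ Y) (q : Y ⟶ B) (hs : IsSurjectiveMor f)
    (hc : IsUnivClosedMor f) (h : IsSeparatedMor (f ≫ q)) : IsSeparatedMor q :=
  (isSeparatedMor_iff_isUnivClosedMor_diagonal hY hB q).2
    (isUnivClosedMor_diagonal_of_surjective_univClosed hX hY hB f q hs hc
      ((isSeparatedMor_iff_isUnivClosedMor_diagonal hX hB (f ≫ q)).1 h))

/-- Quasi-separatedness descends along a surjective universally closed morphism. -/
theorem isQuasiSeparatedMor_of_surjective_univClosed {X Y B : Sp S} (hX : IsAlgSpace X)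
    (hY : IsAlgSpace Y) (hB : IsAlgSpace B) (f : X ⟶ Y) (q : Y ⟶ B) (hs : IsSurjectiveMor f)
    (hc : IsUnivClosedMor f) (h : IsQuasiSeparatedMor (f ≫ q)) : IsQuasiSeparatedMor q := by
  have hP1 : IsAlgSpace (pullback (f ≫ q) (f ≫ q)) :=
    isAlgSpace_of_isPullback hB.diag hX hX (IsPullback.of_hasPullback _ _)
  have hP3 : IsAlgSpace (pullback q q) :=
    isAlgSpace_of_isPullback hB.diag hY hY (IsPullback.of_hasPullback _ _)
  have h1 : IsQuasiCompactMor (pullback.diagonal (f ≫ q)) := isQuasiCompactMor_of_repWith h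
  have h2 : IsQuasiCompactMor (prodMap₁ f q ≫ prodMap₂ f q) :=
    isQuasiCompactMor_of_isUnivClosedMor hP1 hP3 (isUnivClosedMor_prodMap hX hY hB f q hc)
  have key := isQuasiCompactMor_comp hP1 hP3.diag h1 h2
  rw [diagonal_prodMap] at key
  have h3 : IsQuasiCompactMor (pullback.diagonal q) :=
    isQuasiCompactMor_of_surjective_comp hX hY hP3 hs key
  exact repWith_quasiCompact_of_isQuasiCompactMor
    (Groth.Agent.Lib.AlgSpFpqc.representable_diagonal hY.diag q) h3

end Groth.Agent.Lib.AlgSpProper
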