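import Groth.Agent.Lib.UnivClosedAffineSpace
import Groth.Agent.Lib.AlgSpProper2
import Groth.Agent.Lib.AlgSpSepDescend

/-!
# Affine spaces over algebraic spaces and universal closedness (owner: helper91)

Namespace `Groth.Agent.Lib.AlgSpAffineSpace`.  Append-only please.

Port of helper85's `Lib/UnivClosedAffineSpace` (Stacks 05JX) to algebraic spaces: a quasi-compact morphism of algebraic
spaces is universally closed as soon as `X ×_Y 𝔸ⁿ_V ⟶ 𝔸ⁿ_V` is closed on points for all `n`, for one etale atlas `V` of `Y`.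
-/

set_option autoImplicit false
universe u
open CategoryTheory CategoryTheory.Limits AlgebraicGeometry Opposite Topology

namespace Groth.Agent.Lib.AlgSpAffineSpace

open AlgSp Groth.Agent.Lib.AlgSpPoints Groth.Agent.Lib.AlgSpQC Groth.Agent.Lib.AlgSpFibre
  Groth.Agent.Lib.AlgSpDescent Groth.Agent.Lib.H69AlgSp Groth.Agent.Lib.H69AlgSpMor
  Groth.Agent.Lib.AlgSpLocP Groth.Agent.Lib.AlgSpBasic Groth.Agent.Lib.AlgSpFpqc
  Groth.Agent.Lib.AlgSpProper Groth.Agent.Lib.UnivClosedAffineSpace

open AlgebraicGeometry.AffineSpace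

section Schemes

/-- Descent to finitely many variables, for a quasi-compact scheme over an affine scheme. -/
theorem exists_finset_forall_notMem_of_compact {U W : Scheme.{u}} [CompactSpace U] [IsAffine W]
    (φ : U ⟶ W) (τ : Type u) (Z : Set 𝔸(τ; U)) (hZ : IsClosed Z) (s : 𝔸(τ; W))
    (hs : s ∉ map τ φ '' Z) :
    ∃ σ₀ : Finset τ, ∀ (σ : Type u) (i : σ → τ), Function.Injective i → (↑σ₀ ⊆ Set.range i) →
      reindex i W s ∉ map σ φ '' closure (reindex i U '' Z) := by
  classical
  let 𝒰 := U.affineOpenCover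
  obtain ⟨t, ht⟩ := isCompact_univ.elim_finite_subcover (fun x : 𝒰.I₀ ↦ Set.range (𝒰.f x))
    (fun x ↦ (𝒰.f x).isOpenEmbedding.isOpen_range)
    (fun x _ ↦ Set.mem_iUnion.mpr ⟨𝒰.idx x, 𝒰.covers x⟩)
  let e := W.isoSpec
  have key : ∀ j, ∃ σ₀ : Finset τ, ∀ (σ : Type u) (i : σ → τ), Function.Injective i →
      ↑σ₀ ⊆ Set.range i → reindex i (Spec Γ(W, ⊤)) (map τ e.hom s) ∉ map σ (𝒰.f j ≫ φ ≫ e.hom) ''
        closure (reindex i (Spec (𝒰.X j)) '' (map τ (𝒰.f j) ⁻¹' Z)) := by
    intro j
    obtain ⟨ψ, hψ⟩ : ∃ ψ : Γ(W, ⊤) ⟶ 𝒰.X j, Spec.map ψ = 𝒰.f j ≫ φ ≫ e.hom :=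
      ⟨Spec.preimage _, Spec.map_preimage _⟩
    rw [← hψ]
    apply exists_finset_forall_notMem_Spec ψ τ _ (hZ.preimage (map τ (𝒰.f j)).continuous)
    rintro ⟨z, hz, hzs⟩
    refine hs ⟨map τ (𝒰.f j) z, hz, ?_⟩
    have hinj : Function.Injective (map τ e.hom) := by
      have : IsIso (map τ e.hom) := by
        refine ⟨map τ e.inv, ?_, ?_⟩ <;> rw [← map_comp] <;> simp [map_id]
      exact (TopCat.homeoOfIso (Scheme.forgetToTop.mapIso (asIso (map τ e.hom)))).injective
    apply hinj
    rw [← hzs, hψ, map_comp, map_comp, Scheme.Hom.comp_apply, Scheme.Hom.comp_apply]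
  choose σ₀ hσ₀ using key
  refine ⟨t.biUnion σ₀, fun σ i hi hσ => ?_⟩
  rintro ⟨z', hz', hz's⟩
  obtain ⟨j, hjt, y, hy⟩ : ∃ j ∈ t, ∃ y, 𝒰.f j y = (𝔸(σ; U) ↘ U) z' := by
    have := ht (Set.mem_univ ((𝔸(σ; U) ↘ U) z'))
    simp only [Set.mem_iUnion] at this
    obtain ⟨j, hj, y, hy⟩ := this
    exact ⟨j, hj, y, hy⟩
  obtain ⟨w, hw, -⟩ := Scheme.exists_preimage_of_isPullback
    (isPullback_map (n := σ) (𝒰.f j)) z' y hy.symm
  apply hσ₀ j σ i hi (subset_trans (by
    intro x hx
    exact Finset.mem_biUnion.mpr ⟨j, hjt, hx⟩) hσ)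
  refine ⟨w, ?_, ?_⟩
  · have hopen : IsOpenMap (map σ (𝒰.f j)) := (map σ (𝒰.f j)).isOpenEmbedding.isOpenMap
    have hmem : w ∈ map σ (𝒰.f j) ⁻¹' closure (reindex i U '' Z) := by
      rw [Set.mem_preimage, hw]; exact hz'
    rw [hopen.preimage_closure_eq_closure_preimage (map σ (𝒰.f j)).continuous] at hmem
    refine closure_mono ?_ hmem
    rintro w' ⟨z, hz, hzw⟩
    obtain ⟨v, hv1, hv2⟩ := Scheme.exists_preimage_of_isPullback
      (isPullback_map_reindex i (𝒰.f j)) z w' hzw
    exact ⟨v, by rwa [Set.mem_preimage, hv1], hv2⟩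
  · rw [map_comp, map_comp, Scheme.Hom.comp_apply, Scheme.Hom.comp_apply, hw, hz's,
      ← Scheme.Hom.comp_apply, ← Scheme.Hom.comp_apply, map_reindex]

/-- Every morphism of affine schemes factors as a closed immersion into an affine space over the target followed by the
projection. -/
theorem exists_closedImmersion_factor_of_isAffine {T W : Scheme.{u}} [IsAffine T] [IsAffine W] (γ : T ⟶ W) :
    ∃ (τ : Type u) (j : T ⟶ 𝔸(τ; W)), IsClosedImmersion j ∧ j ≫ 𝔸(τ; W) ↘ W = γ := by
  obtain ⟨τ, j', hj', hj'γ⟩ := exists_closedImmersion_factor (T.isoSpec.inv ≫ γ ≫ W.isoSpec.hom)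
  have : IsIso (map τ W.isoSpec.inv) := by
    refine ⟨map τ W.isoSpec.hom, ?_, ?_⟩ <;> rw [← map_comp] <;> simp [map_id]
  refine ⟨τ, T.isoSpec.hom ≫ j' ≫ map τ W.isoSpec.inv, inferInstance, ?_⟩
  rw [Category.assoc, Category.assoc, map_over, reassoc_of% hj'γ]
  simp

end Schemes

variable {S : Scheme.{u}}

/-- A square in `Over S` whose underlying square of schemes is a pullback gives a pullback of sheaves. -/
theorem isPullback_yon_of_left {A B C D : Over S} {f : A ⟶ B} {g : A ⟶ C} {h : B ⟶ D} {k : C ⟶ D}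
    (H : IsPullback f.left g.left h.left k.left) :
    IsPullback ((yon S).map f) ((yon S).map g) ((yon S).map h) ((yon S).map k) :=
  (IsPullback.of_map_of_faithful (Over.forget S) H).map (yon S)

section AS

/-- Affine space over a scheme over `S`, as a scheme over `S`. -/
noncomputable def AS (τ : Type u) (W : Over S) : Over S :=
  Over.mk ((𝔸(τ; W.left) ↘ W.left) ≫ W.hom)

/-- The projection `𝔸^τ_W ⟶ W` over `S`. -/
noncomputable def AS.proj (τ : Type u) (W : Over S) : AS τ W ⟶ W :=
  Over.homMk (𝔸(τ; W.left) ↘ W.left) rfl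

/-- Functoriality of affine space in the base. -/
noncomputable def AS.map (τ : Type u) {W' W : Over S} (φ : W' ⟶ W) : AS τ W' ⟶ AS τ W :=
  Over.homMk (AffineSpace.map τ φ.left) (by
    change AffineSpace.map τ φ.left ≫ (𝔸(τ; W.left) ↘ W.left) ≫ W.hom = (𝔸(τ; W'.left) ↘ W'.left) ≫ W'.hom
    rw [← Category.assoc, map_over, Category.assoc, Over.w φ])

/-- Forgetting variables. -/
noncomputable def AS.reindex {σ τ : Type u} (i : σ → τ) (W : Over S) : AS τ W ⟶ AS σ W :=
  Over.homMk (AffineSpace.reindex i W.left) (by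
    change AffineSpace.reindex i W.left ≫ (𝔸(σ; W.left) ↘ W.left) ≫ W.hom = (𝔸(τ; W.left) ↘ W.left) ≫ W.hom
    rw [← Category.assoc, reindex_over])

@[simp] theorem AS.proj_left (τ : Type u) (W : Over S) : (AS.proj τ W).left = 𝔸(τ; W.left) ↘ W.left := rfl
@[simp] theorem AS.map_left (τ : Type u) {W' W : Over S} (φ : W' ⟶ W) :
    (AS.map τ φ).left = AffineSpace.map τ φ.left := rfl
@[simp] theorem AS.reindex_left {σ τ : Type u} (i : σ → τ) (W : Over S) :
    (AS.reindex i W).left = AffineSpace.reindex i W.left := rfl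

theorem AS.map_proj (τ : Type u) {W' W : Over S} (φ : W' ⟶ W) :
    AS.map τ φ ≫ AS.proj τ W = AS.proj τ W' ≫ φ := by
  ext; exact map_over (n := τ) φ.left

theorem AS.reindex_proj {σ τ : Type u} (i : σ → τ) (W : Over S) :
    AS.reindex i W ≫ AS.proj σ W = AS.proj τ W := by
  ext; exact reindex_over i W.left

theorem AS.map_reindex {σ τ : Type u} (i : σ → τ) {W' W : Over S} (φ : W' ⟶ W) :
    AS.map τ φ ≫ AS.reindex i W = AS.reindex i W' ≫ AS.map σ φ := by
  ext; exact AffineSpace.map_reindex i φ.left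

theorem AS.isPullback_map (τ : Type u) {W' W : Over S} (φ : W' ⟶ W) :
    IsPullback ((yon S).map (AS.map τ φ)) ((yon S).map (AS.proj τ W')) ((yon S).map (AS.proj τ W))
      ((yon S).map φ) :=
  isPullback_yon_of_left (AffineSpace.isPullback_map (n := τ) φ.left)

end AS

section Charts

variable {X : Sp S} {W U : Over S} {f : X ⟶ (yon S).obj W} {p : (yon S).obj U ⟶ X} {φ : U ⟶ W}
  (hφ : (yon S).map φ = p ≫ f)
  {τ : Type u} {Pτ : Sp S} {fstτ : Pτ ⟶ X} {sndτ : Pτ ⟶ (yon S).obj (AS τ W)}
  (sqτ : IsPullback fstτ sndτ f ((yon S).map (AS.proj τ W)))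

/-- The chart `𝔸^τ_U ⟶ X ×_W 𝔸^τ_W` induced by a chart `U ⟶ X`. -/
noncomputable def chart : (yon S).obj (AS τ U) ⟶ Pτ :=
  sqτ.lift ((yon S).map (AS.proj τ U) ≫ p) ((yon S).map (AS.map τ φ)) (by
    rw [Category.assoc, ← hφ, ← Functor.map_comp, ← Functor.map_comp, AS.map_proj])

theorem chart_fst : chart hφ sqτ ≫ fstτ = (yon S).map (AS.proj τ U) ≫ p := sqτ.lift_fst _ _ _

theorem chart_snd : chart hφ sqτ ≫ sndτ = (yon S).map (AS.map τ φ) := sqτ.lift_snd _ _ _

theorem isPullback_chart : IsPullback (chart hφ sqτ) ((yon S).map (AS.proj τ U)) fstτ p := by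
  refine IsPullback.of_right ?_ (chart_fst hφ sqτ) sqτ.flip
  rw [chart_snd, ← hφ]
  exact AS.isPullback_map τ φ

variable {σ : Type u} (i : σ → τ) {Pσ : Sp S} {fstσ : Pσ ⟶ X} {sndσ : Pσ ⟶ (yon S).obj (AS σ W)}
  (sqσ : IsPullback fstσ sndσ f ((yon S).map (AS.proj σ W)))

/-- The morphism `X ×_W 𝔸^τ_W ⟶ X ×_W 𝔸^σ_W` forgetting variables. -/
noncomputable def reindexP : Pτ ⟶ Pσ :=
  sqσ.lift fstτ (sndτ ≫ (yon S).map (AS.reindex i W)) (by
    rw [Category.assoc, ← Functor.map_comp, AS.reindex_proj]; exact sqτ.w)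

theorem reindexP_fst : reindexP sqτ i sqσ ≫ fstσ = fstτ := sqσ.lift_fst _ _ _

theorem reindexP_snd : reindexP sqτ i sqσ ≫ sndσ = sndτ ≫ (yon S).map (AS.reindex i W) :=
  sqσ.lift_snd _ _ _

theorem chart_reindexP :
    chart hφ sqτ ≫ reindexP sqτ i sqσ = (yon S).map (AS.reindex i U) ≫ chart hφ sqσ := by
  apply sqσ.hom_ext
  · rw [Category.assoc, reindexP_fst, chart_fst, Category.assoc, chart_fst, ← Category.assoc,
      ← Functor.map_comp, AS.reindex_proj]
  · rw [Category.assoc, reindexP_snd, ← Category.assoc, chart_snd, Category.assoc, chart_snd,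
      ← Functor.map_comp, ← Functor.map_comp, AS.map_reindex]

theorem isPullback_chart_reindex :
    IsPullback ((yon S).map (AS.reindex i U)) (chart hφ sqτ) (chart hφ sqσ) (reindexP sqτ i sqσ) := by
  refine IsPullback.of_right ?_ (chart_reindexP hφ sqτ i sqσ).symm (isPullback_chart hφ sqσ).flip
  rw [← Functor.map_comp, AS.reindex_proj, reindexP_fst]
  exact (isPullback_chart hφ sqτ).flip

end Charts

section Points

theorem ofPt_yon_map {T T' : Over S} (ψ : T ⟶ T') (z : ↥T.left) :
    Points.ofPt ((yon S).map ψ) z = Points.schemeHomeo T' (ψ.left z) := by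
  have := ofPt_yon_map_comp ψ (𝟙 _) z
  rw [Category.comp_id] at this
  exact this

theorem ofPt_eq_map_schemeHomeo {F : Sp S} {T : Over S} (g : (yon S).obj T ⟶ F) (z : ↥T.left) :
    Points.ofPt g z = Points.map g (Points.schemeHomeo T z) :=
  Points.ofPt_eq_map_ofScheme g z

end Points

section StepD

/-- **Step D for algebraic spaces.** Over an affine base `W`, for a sheaf `X` with a quasi-compact etale surjective chart: if
`X ×_W 𝔸^σ_W ⟶ 𝔸^σ_W` is closed on points for all finite `σ`, then it is closed for all index types. -/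
theorem isClosedMap_snd_of_forall_finite {X : Sp S} {W U : Over S} [IsAffine W.left] [CompactSpace ↥U.left]
    (f : X ⟶ (yon S).obj W) (p : (yon S).obj U ⟶ X) (hpe : RepWith @Etale p) (hps : RepWith @Surjective p)
    (H : ∀ (σ : Type u) [Finite σ],
      IsClosedMap (Points.map (pullback.snd f ((yon S).map (AS.proj σ W)))))
    (τ : Type u) {Pτ : Sp S} {fstτ : Pτ ⟶ X} {sndτ : Pτ ⟶ (yon S).obj (AS τ W)}
    (sqτ : IsPullback fstτ sndτ f ((yon S).map (AS.proj τ W))) :
    IsClosedMap (Points.map sndτ) := by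
  classical
  obtain ⟨φ, hφ⟩ := (yon S).map_surjective (p ≫ f)
  have hcomp : ∀ {ρ : Type u} {Pρ : Sp S} {fstρ : Pρ ⟶ X} {sndρ : Pρ ⟶ (yon S).obj (AS ρ W)}
      (sqρ : IsPullback fstρ sndρ f ((yon S).map (AS.proj ρ W))) (z : ↥(AS ρ U).left),
      Points.map sndρ (Points.ofPt (chart hφ sqρ) z) =
        Points.schemeHomeo (AS ρ W) ((AS.map ρ φ).left z) := by
    intro ρ Pρ fstρ sndρ sqρ z
    rw [Points.map_ofPt, chart_snd, ofPt_yon_map]
  intro C hC
  rw [← (Points.schemeHomeo (AS τ W)).isClosed_preimage, ← isOpen_compl_iff, isOpen_iff_forall_mem_open]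
  intro s' hs'
  let Z : Set ↥(AS τ U).left := Points.ofPt (chart hφ sqτ) ⁻¹' C
  have hZ : IsClosed Z := hC.preimage (Points.continuous_ofPt _)
  have hsZ : s' ∉ (AS.map τ φ).left '' Z := by
    rintro ⟨z, hz, rfl⟩
    exact hs' ⟨Points.ofPt (chart hφ sqτ) z, hz, hcomp sqτ z⟩
  obtain ⟨σ₀, hσ₀⟩ := exists_finset_forall_notMem_of_compact φ.left τ Z hZ s' hsZ
  have hnot := hσ₀ (↥σ₀) Subtype.val Subtype.val_injective (by intro x hx; exact ⟨⟨x, hx⟩, rfl⟩)
  have sqσ := IsPullback.of_hasPullback f ((yon S).map (AS.proj (↥σ₀) W))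
  have hcl : IsClosed (Points.map (pullback.snd f ((yon S).map (AS.proj (↥σ₀) W))) ''
      closure (Points.map (reindexP sqτ Subtype.val sqσ) '' C)) := H (↥σ₀) _ isClosed_closure
  refine ⟨(AS.reindex (Subtype.val : ↥σ₀ → τ) W).left ⁻¹' (Points.schemeHomeo (AS (↥σ₀) W) ⁻¹'
    (Points.map (pullback.snd f ((yon S).map (AS.proj (↥σ₀) W))) ''
      closure (Points.map (reindexP sqτ Subtype.val sqσ) '' C)))ᶜ, ?_, ?_, ?_⟩
  · rintro t ht ⟨c, hc, hct⟩
    apply ht
    refine ⟨Points.map (reindexP sqτ Subtype.val sqσ) c, subset_closure ⟨c, hc, rfl⟩, ?_⟩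
    rw [← Points.map_comp, reindexP_snd, Points.map_comp, hct]
    exact Points.map_yon_map_apply (AS.reindex Subtype.val W) t
  · exact ((hcl.preimage (Points.schemeHomeo _).continuous).isOpen_compl).preimage
      (AS.reindex (Subtype.val : ↥σ₀ → τ) W).left.continuous
  · rintro ⟨z', hz', hz's⟩
    have hsurj : Function.Surjective (Points.ofPt (chart hφ sqσ)) :=
      surjective_ofPt_of_repWith_surjective
        ((RepWith (S := S) @Surjective).of_isPullback (isPullback_chart hφ sqσ).flip hps)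
    have hopen : IsOpenMap (Points.ofPt (chart hφ sqσ)) :=
      isOpenMap_ofPt_of_repWith_etale
        ((RepWith (S := S) @Etale).of_isPullback (isPullback_chart hφ sqσ).flip hpe)
    obtain ⟨w, rfl⟩ := hsurj z'
    apply hnot
    refine ⟨w, ?_, ?_⟩
    · have hmem : w ∈ Points.ofPt (chart hφ sqσ) ⁻¹'
          closure (Points.map (reindexP sqτ Subtype.val sqσ) '' C) := hz'
      rw [hopen.preimage_closure_eq_closure_preimage (Points.continuous_ofPt _)] at hmem
      refine closure_mono ?_ hmem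
      rintro w' ⟨c, hc, hcw⟩
      have hcw' : Points.map (chart hφ sqσ) (Points.schemeHomeo _ w') =
          Points.map (reindexP sqτ Subtype.val sqσ) c := by
        rw [← ofPt_eq_map_schemeHomeo]; exact hcw.symm
      obtain ⟨v, hv1, hv2⟩ := exists_point_of_isPullback
        (isPullback_chart_reindex hφ sqτ Subtype.val sqσ) (Points.schemeHomeo _ w') c hcw'
      obtain ⟨v', rfl⟩ := (Points.schemeHomeo _).surjective v
      refine ⟨v', ?_, ?_⟩
      · change Points.ofPt (chart hφ sqτ) v' ∈ C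
        rw [ofPt_eq_map_schemeHomeo, hv2]; exact hc
      · apply (Points.schemeHomeo (AS (↥σ₀) U)).injective
        rw [← hv1]
        exact (Points.map_yon_map_apply (AS.reindex Subtype.val U) v').symm
    · apply (Points.schemeHomeo (AS (↥σ₀) W)).injective
      exact (hcomp sqσ w).symm.trans hz's

end StepD

section Inducing

/-- A representable closed immersion is a closed embedding on points. -/
theorem isClosedEmbedding_map_of_repWith_isClosedImmersion {F G : Sp S} {a : F ⟶ G}
    (ha : RepWith @IsClosedImmersion a) : IsClosedEmbedding (Points.map a) := by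
  refine IsClosedEmbedding.of_continuous_injective_isClosedMap (Points.continuous_map a) ?_ ?_
  · exact injective_map_of_representable ha.rep fun T g => by
      have : IsClosedImmersion (ha.rep.snd g).left := ha.property_snd g
      exact (ha.rep.snd g).left.isClosedEmbedding.injective
  · exact isClosedMap_map_of_representable ha.rep fun T g => by
      have : IsClosedImmersion (ha.rep.snd g).left := ha.property_snd g
      exact (ha.rep.snd g).left.isClosedEmbedding.isClosedMap

/-- A representable open immersion is an open embedding on points. -/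
theorem isOpenEmbedding_map_of_repWith_isOpenImmersion {F G : Sp S} {a : F ⟶ G}
    (ha : RepWith @IsOpenImmersion a) : IsOpenEmbedding (Points.map a) := by
  refine IsOpenEmbedding.of_continuous_injective_isOpenMap (Points.continuous_map a) ?_ ?_
  · exact injective_map_of_representable ha.rep fun T g => by
      have : IsOpenImmersion (ha.rep.snd g).left := ha.property_snd g
      exact (ha.rep.snd g).left.isOpenEmbedding.injective
  · exact isOpenMap_map_of_representable ha.rep fun T g => by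
      have : IsOpenImmersion (ha.rep.snd g).left := ha.property_snd g
      exact (ha.rep.snd g).left.isOpenEmbedding.isOpenMap

/-- Closedness on points is inherited by a base change whose top arrow is inducing on points. -/
theorem isClosedMap_of_isPullback_of_isInducing {P X' T A : Sp S} {a : P ⟶ X'} {b : P ⟶ T} {g : X' ⟶ A}
    {j : T ⟶ A} (sq : IsPullback a b g j) (ha : IsInducing (Points.map a))
    (hg : IsClosedMap (Points.map g)) : IsClosedMap (Points.map b) := by
  intro C hC
  obtain ⟨D, hD, rfl⟩ := ha.isClosed_iff.mp hC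
  rw [← preimage_image_eq_of_isPullback' sq]
  exact (hg _ hD).preimage (Points.continuous_map j)

/-- Closedness on points can be checked locally on every chart of the target. -/
theorem isClosedMap_map_of_local_base_change {Z Z' : Sp S} (snd : Z' ⟶ Z)
    (H : ∀ (T : Over S) (g : (yon S).obj T ⟶ Z) (t : ↥T.left), ∃ O : T.left.Opens, t ∈ O ∧
      IsClosedMap (Points.map (pullback.snd snd (restrictChart g O)))) :
    IsClosedMap (Points.map snd) := by
  intro W hW
  rw [← isOpen_compl_iff, Points.isOpen_iff]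
  intro T g
  rw [Set.preimage_compl, isOpen_compl_iff]
  choose O hO hcl using H T g
  have hcov : TopologicalSpace.IsOpenCover O := by
    rw [TopologicalSpace.IsOpenCover, eq_top_iff]
    intro t _
    exact TopologicalSpace.Opens.mem_iSup.2 ⟨t, hO t⟩
  rw [hcov.isClosed_iff_coe_preimage]
  intro t
  have e : ((↑) ⁻¹' (Points.ofPt g ⁻¹' (Points.map snd '' W)) : Set ↥(O t)) =
      Points.ofPt (restrictChart g (O t)) ⁻¹' (Points.map snd '' W) := by
    ext v
    change Points.ofPt g v.1 ∈ Points.map snd '' W ↔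
      Points.ofPt (restrictChart g (O t)) v ∈ Points.map snd '' W
    rw [ofPt_restrictChart]
  rw [e, preimage_image_eq_of_isPullback (IsPullback.of_hasPullback snd (restrictChart g (O t)))]
  refine IsClosed.preimage (Points.schemeHomeo _).continuous ?_
  exact hcl t _ (hW.preimage (Points.continuous_map _))

end Inducing

section AffineBase

theorem AS.isIso_reindex {σ σ' : Type u} (e : σ ≃ σ') (W : Over S) : IsIso (AS.reindex (⇑e) W) := by
  refine ⟨AS.reindex (⇑e.symm) W, ?_, ?_⟩
  · ext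
    simp only [Over.comp_left, AS.reindex_left, Over.id_left]
    refine (reindex_comp' (⇑e.symm) (⇑e) W.left).trans ?_
    rw [show (⇑e ∘ ⇑e.symm) = id from by ext x; simp, reindex_id]
    rfl
  · ext
    simp only [Over.comp_left, AS.reindex_left, Over.id_left]
    refine (reindex_comp' (⇑e) (⇑e.symm) W.left).trans ?_
    rw [show (⇑e.symm ∘ ⇑e) = id from by ext x; simp, reindex_id]
    rfl

theorem isClosedMap_map_yon_map_of_isIso {T T' : Over S} (ψ : T ⟶ T') [IsIso ψ] :
    IsClosedMap (Points.map ((yon S).map ψ)) := by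
  rw [isClosedMap_map_yon_map_iff]
  have : IsIso ψ.left := (inferInstance : IsIso ((Over.forget S).map ψ))
  exact ψ.left.homeomorph.isClosedMap

/-- Over an affine base `W`: a quasi-compact sheaf `X` over `W` such that `X ×_W 𝔸ⁿ_W ⟶ 𝔸ⁿ_W` is closed for all `n` has closed
base changes along all morphisms from affine schemes. -/
theorem isClosedMap_snd_of_affine {X : Sp S} {W : Over S} [IsAffine W.left] (f : X ⟶ (yon S).obj W)
    (hX : IsQuasiCompactSp X)
    (H : ∀ (n : ℕ) (P : Sp S) (fst : P ⟶ X) (snd : P ⟶ (yon S).obj (AS (ULift.{u} (Fin n)) W)),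
      IsPullback fst snd f ((yon S).map (AS.proj _ W)) → IsClosedMap (Points.map snd))
    {T : Over S} [IsAffine T.left] (γ : T ⟶ W) {P : Sp S} {a : P ⟶ X} {b : P ⟶ (yon S).obj T}
    (sq : IsPullback a b f ((yon S).map γ)) : IsClosedMap (Points.map b) := by
  obtain ⟨U, p, hpe, hps, hU⟩ := hX
  have : CompactSpace ↥U.left := hU
  have Hfin : ∀ (σ : Type u) [Finite σ],
      IsClosedMap (Points.map (pullback.snd f ((yon S).map (AS.proj σ W)))) := by
    intro σ _
    obtain ⟨n, ⟨e⟩⟩ := Finite.exists_equiv_fin σ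
    let e' : σ ≃ ULift.{u} (Fin n) := e.trans Equiv.ulift.symm
    have hE : IsIso (AS.reindex (⇑e'.symm) W) := AS.isIso_reindex e'.symm W
    have sq' : IsPullback (pullback.fst f ((yon S).map (AS.proj σ W)))
        (pullback.snd f ((yon S).map (AS.proj σ W)) ≫ (yon S).map (AS.reindex (⇑e'.symm) W)) f
        ((yon S).map (AS.proj (ULift.{u} (Fin n)) W)) :=
      IsPullback.of_iso (IsPullback.of_hasPullback f ((yon S).map (AS.proj σ W))) (Iso.refl _) (Iso.refl _)
        ((yon S).mapIso (asIso (AS.reindex (⇑e'.symm) W))) (Iso.refl _) (by simp) (by simp) (by simp)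
        (by simp [← Functor.map_comp, AS.reindex_proj])
    have h1 := H n _ _ _ sq'
    have e1 : pullback.snd f ((yon S).map (AS.proj σ W)) =
        (pullback.snd f ((yon S).map (AS.proj σ W)) ≫ (yon S).map (AS.reindex (⇑e'.symm) W)) ≫
          (yon S).map (inv (AS.reindex (⇑e'.symm) W)) := by
      rw [Category.assoc, ← Functor.map_comp, IsIso.hom_inv_id, (yon S).map_id, Category.comp_id]
    rw [e1, show Points.map ((pullback.snd f ((yon S).map (AS.proj σ W)) ≫
        (yon S).map (AS.reindex (⇑e'.symm) W)) ≫ (yon S).map (inv (AS.reindex (⇑e'.symm) W))) =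
        Points.map ((yon S).map (inv (AS.reindex (⇑e'.symm) W))) ∘
          Points.map (pullback.snd f ((yon S).map (AS.proj σ W)) ≫
            (yon S).map (AS.reindex (⇑e'.symm) W)) from funext (Points.map_comp _ _)]
    exact (isClosedMap_map_yon_map_of_isIso _).comp h1
  obtain ⟨τ, j, hj, hjγ⟩ := exists_closedImmersion_factor_of_isAffine γ.left
  let J : T ⟶ AS τ W := Over.homMk j (by
    change j ≫ (𝔸(τ; W.left) ↘ W.left) ≫ W.hom = T.hom
    rw [← Category.assoc, hjγ, Over.w])
  have hJ : J ≫ AS.proj τ W = γ := by ext; exact hjγ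
  have hτ := isClosedMap_snd_of_forall_finite f p hpe hps Hfin τ
    (IsPullback.of_hasPullback f ((yon S).map (AS.proj τ W)))
  let l : P ⟶ pullback f ((yon S).map (AS.proj τ W)) :=
    pullback.lift a (b ≫ (yon S).map J) (by
      rw [Category.assoc, ← Functor.map_comp, hJ]; exact sq.w)
  have sqL : IsPullback l b (pullback.snd f ((yon S).map (AS.proj τ W))) ((yon S).map J) := by
    refine IsPullback.of_right ?_ (pullback.lift_snd _ _ _) (IsPullback.of_hasPullback f _)
    rw [pullback.lift_fst, ← Functor.map_comp, hJ]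
    exact sq
  have hJc : RepWith @IsClosedImmersion ((yon S).map J) := (repWith_yon_map_iff _ J).2 hj
  have hl : RepWith @IsClosedImmersion l :=
    (RepWith (S := S) @IsClosedImmersion).of_isPullback sqL.flip hJc
  exact isClosedMap_of_isPullback_of_isInducing sqL
    (isClosedEmbedding_map_of_repWith_isClosedImmersion hl).isInducing hτ

end AffineBase

section Main

/-- The hypothesis on `𝔸ⁿ_V` restricts to an affine open `W ⊆ V`. -/
theorem isClosedMap_snd_restrict {X Y : Sp S} (f : X ⟶ Y) {V W : Over S} (p : (yon S).obj V ⟶ Y)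
    (ι : W ⟶ V) [IsOpenImmersion ι.left]
    (H : ∀ (n : ℕ) (P : Sp S) (fst : P ⟶ X) (snd : P ⟶ (yon S).obj (AS (ULift.{u} (Fin n)) V)),
      IsPullback fst snd f ((yon S).map (AS.proj _ V) ≫ p) → IsClosedMap (Points.map snd))
    (n : ℕ) (P : Sp S) (fst : P ⟶ pullback f ((yon S).map ι ≫ p))
    (snd : P ⟶ (yon S).obj (AS (ULift.{u} (Fin n)) W))
    (sq : IsPullback fst snd (pullback.snd f ((yon S).map ι ≫ p)) ((yon S).map (AS.proj _ W))) :
    IsClosedMap (Points.map snd) := by
  have hcomm : (yon S).map (AS.proj (ULift.{u} (Fin n)) W) ≫ (yon S).map ι ≫ p =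
      (yon S).map (AS.map (ULift.{u} (Fin n)) ι) ≫ (yon S).map (AS.proj _ V) ≫ p := by
    rw [← Category.assoc, ← Functor.map_comp, ← AS.map_proj, Functor.map_comp, Category.assoc]
  have big : IsPullback (fst ≫ pullback.fst f ((yon S).map ι ≫ p)) snd f
      ((yon S).map (AS.map (ULift.{u} (Fin n)) ι) ≫ (yon S).map (AS.proj _ V) ≫ p) := by
    rw [← hcomm]
    exact (sq.flip.paste_vert (IsPullback.of_hasPullback f ((yon S).map ι ≫ p)).flip).flip
  let l : P ⟶ pullback f ((yon S).map (AS.proj (ULift.{u} (Fin n)) V) ≫ p) :=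
    pullback.lift (fst ≫ pullback.fst f ((yon S).map ι ≫ p))
      (snd ≫ (yon S).map (AS.map (ULift.{u} (Fin n)) ι)) (by rw [Category.assoc]; exact big.w)
  have sqL : IsPullback l snd (pullback.snd f ((yon S).map (AS.proj (ULift.{u} (Fin n)) V) ≫ p))
      ((yon S).map (AS.map (ULift.{u} (Fin n)) ι)) := by
    refine IsPullback.of_right ?_ (pullback.lift_snd _ _ _) (IsPullback.of_hasPullback f _)
    rw [pullback.lift_fst]
    exact big
  have hιo : IsOpenImmersion (AS.map (ULift.{u} (Fin n)) ι).left := by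
    change IsOpenImmersion (AffineSpace.map (ULift.{u} (Fin n)) ι.left)
    exact MorphismProperty.of_isPullback (P := @IsOpenImmersion)
      (AffineSpace.isPullback_map (n := ULift.{u} (Fin n)) ι.left).flip inferInstance
  have hJo : RepWith @IsOpenImmersion ((yon S).map (AS.map (ULift.{u} (Fin n)) ι)) :=
    (repWith_yon_map_iff _ _).2 hιo
  have hl : RepWith @IsOpenImmersion l :=
    (RepWith (S := S) @IsOpenImmersion).of_isPullback sqL.flip hJo
  exact isClosedMap_of_isPullback_of_isInducing sqL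
    (isOpenEmbedding_map_of_repWith_isOpenImmersion hl).isInducing
    (H n _ _ _ (IsPullback.of_hasPullback f _))

/-- **Stacks 05JX for algebraic spaces** (hard direction): a quasi-compact morphism `f : X ⟶ Y` of algebraic spaces such
that, for one etale atlas `V ⟶ Y`, all maps `|X ×_Y 𝔸ⁿ_V| ⟶ |𝔸ⁿ_V|` are closed, is universally closed. -/
theorem isUnivClosedMor_of_forall_isClosedMap_affineSpace {X Y : Sp S} (hX : IsAlgSpace X)
    (hY : IsAlgSpace Y) (f : X ⟶ Y) (hq : IsQuasiCompactMor f) {V : Over S} (p : (yon S).obj V ⟶ Y)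
    (hpe : RepWith @Etale p) (hps : RepWith @Surjective p)
    (H : ∀ (n : ℕ) (P : Sp S) (fst : P ⟶ X) (snd : P ⟶ (yon S).obj (AS (ULift.{u} (Fin n)) V)),
      IsPullback fst snd f ((yon S).map (AS.proj _ V) ≫ p) → IsClosedMap (Points.map snd)) :
    IsUnivClosedMor f := by
  have sqV := IsPullback.of_hasPullback f p
  apply of_etale_chart isLocalOnBase_fpqc_isUnivClosedMor hX hY f hpe hps sqV
  intro Z Z' hZ g fst snd sqZ
  apply isClosedMap_map_of_local_base_change snd
  intro T gT t
  obtain ⟨γ, hγ⟩ := (yon S).map_surjective (gT ≫ g)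
  obtain ⟨(V' : V.left.Opens), hV'aff, hV'mem, -⟩ := (TopologicalSpace.Opens.isBasis_iff_nbhd.mp V.left.isBasis_affineOpens)
    (show γ.left t ∈ (⊤ : V.left.Opens) from trivial)
  obtain ⟨(O : T.left.Opens), hOaff, htO, hOle⟩ := (TopologicalSpace.Opens.isBasis_iff_nbhd.mp T.left.isBasis_affineOpens)
    (show t ∈ γ.left ⁻¹ᵁ V' from hV'mem)
  refine ⟨O, htO, ?_⟩
  let W : Over S := Over.mk (V'.ι ≫ V.hom)
  let ιW : W ⟶ V := Over.homMk V'.ι rfl
  let TO : Over S := Over.mk (O.ι ≫ T.hom)
  let ιO : TO ⟶ T := Over.homMk O.ι rfl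
  have hrange : Set.range (O.ι ≫ γ.left) ⊆ Set.range V'.ι := by
    rintro _ ⟨x, rfl⟩
    rw [Scheme.Opens.range_ι]
    exact hOle x.2
  let γ₀ : O.toScheme ⟶ V'.toScheme := IsOpenImmersion.lift V'.ι (O.ι ≫ γ.left) hrange
  have hγ₀ : γ₀ ≫ V'.ι = O.ι ≫ γ.left := IsOpenImmersion.lift_fac _ _ _
  let γO : TO ⟶ W := Over.homMk γ₀ (by
    change γ₀ ≫ V'.ι ≫ V.hom = O.ι ≫ T.hom
    rw [← Category.assoc, hγ₀, Category.assoc, Over.w γ])
  have hγO : γO ≫ ιW = ιO ≫ γ := by ext; exact hγ₀
  have : IsAffine W.left := hV'aff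
  have : IsAffine TO.left := hOaff
  have : IsOpenImmersion ιW.left := (inferInstance : IsOpenImmersion V'.ι)
  -- the pullback square over `W`
  have hcomm : (restrictChart gT O ≫ g) ≫ p = (yon S).map γO ≫ (yon S).map ιW ≫ p := by
    rw [← Category.assoc ((yon S).map γO), ← Functor.map_comp, hγO, Functor.map_comp, hγ]
    simp only [Category.assoc]
    rfl
  have big : IsPullback (pullback.fst snd (restrictChart gT O) ≫ fst ≫ pullback.fst f p)
      (pullback.snd snd (restrictChart gT O)) f ((yon S).map γO ≫ (yon S).map ιW ≫ p) := by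
    rw [← hcomm]
    have h1 := ((IsPullback.of_hasPullback snd (restrictChart gT O)).flip.paste_vert sqZ.flip)
    have h2 := (h1.paste_vert sqV.flip).flip
    simpa only [Category.assoc] using h2
  let a' : pullback snd (restrictChart gT O) ⟶ pullback f ((yon S).map ιW ≫ p) :=
    pullback.lift (pullback.fst snd (restrictChart gT O) ≫ fst ≫ pullback.fst f p)
      (pullback.snd snd (restrictChart gT O) ≫ (yon S).map γO) (by rw [Category.assoc]; exact big.w)
  have sqW : IsPullback a' (pullback.snd snd (restrictChart gT O))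
      (pullback.snd f ((yon S).map ιW ≫ p)) ((yon S).map γO) := by
    refine IsPullback.of_right ?_ (pullback.lift_snd _ _ _) (IsPullback.of_hasPullback f _)
    rw [pullback.lift_fst]
    exact big
  have hXW : IsQuasiCompactSp (pullback f ((yon S).map ιW ≫ p)) :=
    hq (IsAlgSpace.yon_obj W) ((isQuasiCompactSp_yon_iff W).2 inferInstance) _ _ _
      (IsPullback.of_hasPullback f ((yon S).map ιW ≫ p))
  exact isClosedMap_snd_of_affine (pullback.snd f ((yon S).map ιW ≫ p)) hXW
    (isClosedMap_snd_restrict f p ιW H) γO sqW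

end Main

end Groth.Agent.Lib.AlgSpAffineSpace
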