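import Groth.Agent.Lib.AlgSpBasic
import Groth.Agent.Lib.AlgSpPoints

/-!
# AlgSp toolkit, part 2 (helper46): statements involving `AlgSp.Points`

Uses helper78's `Lib/AlgSpPoints`.
-/

universe u

open CategoryTheory CategoryTheory.Limits AlgebraicGeometry Opposite

namespace Groth.Agent.Lib.AlgSpBasic

open AlgSp

variable {S : Scheme.{u}}

/-- Universal injectivity descends along a base change which is surjective on points, from an
algebraic space. -/
theorem isUnivInjectiveMor_of_surjective_cover {X Y : Sp S}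
    (hY : ∀ ⦃U : Over S⦄ (a : (yon S).obj U ⟶ Y), Representable a) (f : X ⟶ Y) {Z : Sp S}
    (hZ : IsAlgSpace Z) (g : Z ⟶ Y) (hg : IsSurjectiveMor g) {P : Sp S} {fst : P ⟶ X}
    {snd : P ⟶ Z} (sq : IsPullback fst snd f g) (h : IsUnivInjectiveMor snd) :
    IsUnivInjectiveMor f := by
  intro T T' hT k fst' snd' sq'
  have sq1 := IsPullback.of_hasPullback k g
  have hT1 : IsAlgSpace (pullback k g) := isAlgSpace_of_isPullback hT hZ hY sq1
  have hp1 : IsSurjectiveMor (pullback.fst k g) :=
    Groth.Agent.Lib.AlgSpPoints.isSurjectiveMor_of_isPullback sq1.flip hg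
  have sq2 := IsPullback.of_hasPullback snd' (pullback.fst k g)
  have big : IsPullback (pullback.fst snd' (pullback.fst k g) ≫ fst')
      (pullback.snd snd' (pullback.fst k g)) f (pullback.fst k g ≫ k) := sq2.paste_horiz sq'
  have hcomm : (pullback.fst snd' (pullback.fst k g) ≫ fst') ≫ f =
      (pullback.snd snd' (pullback.fst k g) ≫ pullback.snd k g) ≫ g := by
    rw [big.w, Category.assoc, pullback.condition]
  set l := sq.lift _ _ hcomm with hl
  have e1 : l ≫ fst = pullback.fst snd' (pullback.fst k g) ≫ fst' := sq.lift_fst _ _ _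
  have e2 : l ≫ snd = pullback.snd snd' (pullback.fst k g) ≫ pullback.snd k g :=
    sq.lift_snd _ _ _
  have tgt : IsPullback l (pullback.snd snd' (pullback.fst k g)) snd (pullback.snd k g) := by
    refine IsPullback.of_right ?_ e2 sq
    rw [e1, ← pullback.condition]; exact big
  have hinj : Function.Injective (Points.map (pullback.snd snd' (pullback.fst k g))) :=
    h hT1 _ _ _ tgt
  intro x1 x2 hx
  obtain ⟨t1, ht1⟩ := hp1 (Points.map snd' x1)
  obtain ⟨y1, hy1, hy1'⟩ :=
    Groth.Agent.Lib.AlgSpPoints.exists_point_of_isPullback sq2 x1 t1 ht1.symm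
  obtain ⟨y2, hy2, hy2'⟩ :=
    Groth.Agent.Lib.AlgSpPoints.exists_point_of_isPullback sq2 x2 t1 (hx ▸ ht1.symm)
  have : y1 = y2 := hinj (hy1'.trans hy2'.symm)
  rw [← hy1, ← hy2, this]

end Groth.Agent.Lib.AlgSpBasic
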