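import Groth.Agent.Lib.AlgSpBasic2
import Groth.Agent.Lib.H80DecentPt

/-!
# AlgSp toolkit, part 3 (helper46): universally injective morphisms of sheaves

Uses helper80's `Lib/H80DecentPt` (`FieldPt.ofHom`, `rel_iff_toHom`, `isIso_of_mono_of_field`).
-/

universe u

open CategoryTheory CategoryTheory.Limits AlgebraicGeometry Opposite

namespace Groth.Agent.Lib.AlgSpBasic

open AlgSp Groth.Agent.Lib.H80DecentPt

variable {S : Scheme.{u}}

/-- Injectivity on field-valued points (for all fields over `S`). -/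
def FieldInj {X Y : Sp S} (f : X ⟶ Y) : Prop :=
  ∀ (K : Type u) [Field K] (str : Spec (CommRingCat.of K) ⟶ S),
    Function.Injective (fun a : (yon S).obj (Over.mk str) ⟶ X => a ≫ f)

/-- Equality of the images of two points under a morphism, in terms of morphisms. -/
theorem map_mk_eq_map_mk_iff {F G : Sp S} (f : F ⟶ G) (p q : FieldPt F) :
    Points.map f (Points.mk p) = Points.map f (Points.mk q) ↔
      ∃ (Ω : Type u) (_ : Field Ω) (w : Spec (CommRingCat.of Ω) ⟶ S) (a : Over.mk w ⟶ p.pt)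
        (b : Over.mk w ⟶ q.pt), (yon S).map a ≫ p.toHom ≫ f = (yon S).map b ≫ q.toHom ≫ f := by
  rw [Points.map_mk, Points.map_mk, Points.mk_eq_mk_iff, rel_iff_toHom]
  constructor
  · rintro ⟨Ω, _, w, a, b, hab⟩
    refine ⟨Ω, inferInstance, w, a, b, ?_⟩
    rw [FieldPt.toHom_map, FieldPt.toHom_map] at hab
    exact hab
  · rintro ⟨Ω, _, w, a, b, hab⟩
    refine ⟨Ω, inferInstance, w, a, b, ?_⟩
    rw [FieldPt.toHom_map, FieldPt.toHom_map]
    exact hab

/-- Equality of two points, in terms of morphisms. -/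
theorem mk_eq_mk_iff_toHom {F : Sp S} (p q : FieldPt F) :
    Points.mk p = Points.mk q ↔
      ∃ (Ω : Type u) (_ : Field Ω) (w : Spec (CommRingCat.of Ω) ⟶ S) (a : Over.mk w ⟶ p.pt)
        (b : Over.mk w ⟶ q.pt), (yon S).map a ≫ p.toHom = (yon S).map b ≫ q.toHom := by
  rw [Points.mk_eq_mk_iff, rel_iff_toHom]

/-- Equality of two points given by morphisms. -/
theorem mk_ofHom_eq_mk_ofHom_iff {F : Sp S} {K L : Type u} [Field K] [Field L]
    (str : Spec (CommRingCat.of K) ⟶ S) (str' : Spec (CommRingCat.of L) ⟶ S)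
    (m1 : (yon S).obj (Over.mk str) ⟶ F) (m2 : (yon S).obj (Over.mk str') ⟶ F) :
    Points.mk (ofHom str m1) = Points.mk (ofHom str' m2) ↔
      ∃ (Ω : Type u) (_ : Field Ω) (w : Spec (CommRingCat.of Ω) ⟶ S)
        (a : Over.mk w ⟶ Over.mk str) (b : Over.mk w ⟶ Over.mk str'),
        (yon S).map a ≫ m1 = (yon S).map b ≫ m2 := by
  rw [mk_eq_mk_iff_toHom]
  constructor
  · rintro ⟨Ω, _, w, a, b, hab⟩
    refine ⟨Ω, inferInstance, w, a, b, ?_⟩
    rw [toHom_ofHom, toHom_ofHom] at hab
    exact hab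
  · rintro ⟨Ω, _, w, a, b, hab⟩
    refine ⟨Ω, inferInstance, w, a, b, ?_⟩
    rw [toHom_ofHom, toHom_ofHom]
    exact hab

/-- Injective on field points implies universally injective. -/
theorem isUnivInjectiveMor_of_fieldInj {X Y : Sp S} (f : X ⟶ Y) (h : FieldInj f) :
    IsUnivInjectiveMor f := by
  intro T T' _ k fst' snd' sq' x1 x2
  induction x1 using Points.ind with
  | h p1 =>
  induction x2 using Points.ind with
  | h p2 =>
  intro hx
  rw [map_mk_eq_map_mk_iff] at hx
  obtain ⟨Ω, _, w, a, b, hab⟩ := hx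
  rw [mk_eq_mk_iff_toHom]
  have e1 : ∀ (A : (yon S).obj (Over.mk w) ⟶ T'), (A ≫ fst') ≫ f = (A ≫ snd') ≫ k := fun A => by
    rw [Category.assoc, sq'.w, Category.assoc]
  have hab' : ((yon S).map a ≫ p1.toHom) ≫ snd' = ((yon S).map b ≫ p2.toHom) ≫ snd' := by
    rw [Category.assoc, Category.assoc]; exact hab
  refine ⟨Ω, inferInstance, w, a, b, sq'.hom_ext ?_ hab'⟩
  apply h Ω w
  change (((yon S).map a ≫ p1.toHom) ≫ fst') ≫ f = (((yon S).map b ≫ p2.toHom) ≫ fst') ≫ f
  rw [e1, e1, hab']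

/-- Universally injective implies the diagonal is surjective on points. -/
theorem isSurjectiveMor_diagonal_of_isUnivInjectiveMor {X Y : Sp S} (f : X ⟶ Y)
    (h : IsUnivInjectiveMor f) : IsSurjectiveMor (pullback.diagonal f) := by
  intro z
  induction z using Points.ind with
  | h r =>
  obtain ⟨x1, hx1⟩ : ∃ x1 : (yon S).obj r.pt ⟶ X, x1 = r.toHom ≫ pullback.fst f f := ⟨_, rfl⟩
  obtain ⟨x2, hx2⟩ : ∃ x2 : (yon S).obj r.pt ⟶ X, x2 = r.toHom ≫ pullback.snd f f := ⟨_, rfl⟩
  have hx12 : x1 ≫ f = x2 ≫ f := by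
    rw [hx1, hx2, Category.assoc, Category.assoc, pullback.condition]
  have sq' := IsPullback.of_hasPullback f (x1 ≫ f)
  have hinj : Function.Injective (Points.map (pullback.snd f (x1 ≫ f))) :=
    h (IsAlgSpace.yon_obj r.pt) (x1 ≫ f) _ _ sq'
  obtain ⟨m1, hm1f, hm1s⟩ : ∃ m1 : (yon S).obj r.pt ⟶ pullback f (x1 ≫ f),
      m1 ≫ pullback.fst _ _ = x1 ∧ m1 ≫ pullback.snd _ _ = 𝟙 _ :=
    ⟨pullback.lift x1 (𝟙 _) (by simp), pullback.lift_fst _ _ _, pullback.lift_snd _ _ _⟩
  obtain ⟨m2, hm2f, hm2s⟩ : ∃ m2 : (yon S).obj r.pt ⟶ pullback f (x1 ≫ f),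
      m2 ≫ pullback.fst _ _ = x2 ∧ m2 ≫ pullback.snd _ _ = 𝟙 _ :=
    ⟨pullback.lift x2 (𝟙 _) (by simp [hx12]), pullback.lift_fst _ _ _, pullback.lift_snd _ _ _⟩
  have e : Points.mk (ofHom r.str m1) = Points.mk (ofHom r.str m2) := by
    apply hinj
    rw [Points.map_mk, Points.map_mk, map_ofHom, map_ofHom, hm1s, hm2s]
  rw [mk_ofHom_eq_mk_ofHom_iff] at e
  obtain ⟨Ω, _, w, a, b, hab⟩ := e
  have hab2 : (yon S).map a = (yon S).map b := by
    have := hab =≫ pullback.snd f (x1 ≫ f)
    rwa [Category.assoc, Category.assoc, hm1s, hm2s, Category.comp_id, Category.comp_id] at this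
  have hab1 : (yon S).map a ≫ x1 = (yon S).map a ≫ x2 := by
    have := hab =≫ pullback.fst f (x1 ≫ f)
    rwa [Category.assoc, Category.assoc, hm1f, hm2f, ← hab2] at this
  have key : ((yon S).map a ≫ x1) ≫ pullback.diagonal f = (yon S).map a ≫ r.toHom := by
    apply pullback.hom_ext
    · simp only [Category.assoc, pullback.diagonal_fst, Category.comp_id, hx1]
    · simp only [Category.assoc, pullback.diagonal_snd, Category.comp_id]
      rw [hab1, hx2]
  refine ⟨Points.mk (ofHom w ((yon S).map a ≫ x1)), ?_⟩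
  rw [Points.map_mk, map_ofHom]
  exact mk_eq_of_toHom_eq r _ a ((toHom_ofHom _ _).trans key)

/-- If the diagonal is surjective on points and the source has representable diagonal, then the
morphism is injective on field-valued points. -/
theorem fieldInj_of_isSurjectiveMor_diagonal {X Y : Sp S} (hX : Representable (Limits.diag X))
    (f : X ⟶ Y) (h : IsSurjectiveMor (pullback.diagonal f)) : FieldInj f := by
  intro K _ str a1 a2 (h12 : a1 ≫ f = a2 ≫ f)
  obtain ⟨r, r1, r2⟩ : ∃ r : (yon S).obj (Over.mk str) ⟶ pullback f f,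
      r ≫ pullback.fst f f = a1 ∧ r ≫ pullback.snd f f = a2 :=
    ⟨pullback.lift a1 a2 h12, pullback.lift_fst _ _ _, pullback.lift_snd _ _ _⟩
  have d1 : pullback.diagonal f ≫ pullback.fst f f = 𝟙 X := pullback.diagonal_fst f
  have d2 : pullback.diagonal f ≫ pullback.snd f f = 𝟙 X := pullback.diagonal_snd f
  obtain ⟨x, hx⟩ := h (Points.mk (ofHom str r))
  induction x using Points.ind with
  | h p =>
  rw [Points.map_mk, map_eq_ofHom, mk_ofHom_eq_mk_ofHom_iff] at hx
  obtain ⟨Ω, _, w, a, b, hab⟩ := hx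
  have hb1 : (yon S).map a ≫ p.toHom = (yon S).map b ≫ a1 := by
    have := hab =≫ pullback.fst f f
    rwa [Category.assoc, Category.assoc, Category.assoc, d1, Category.comp_id, r1] at this
  have hb2 : (yon S).map a ≫ p.toHom = (yon S).map b ≫ a2 := by
    have := hab =≫ pullback.snd f f
    rwa [Category.assoc, Category.assoc, Category.assoc, d2, Category.comp_id, r2] at this
  have hb : (yon S).map b ≫ a1 = (yon S).map b ≫ a2 := hb1.symm.trans hb2
  -- the equalizer of `a1`, `a2`
  have hΔ : Representable (pullback.diagonal f) := representable_diagonal hX f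
  have sqV := hΔ.isPullback r
  have hmono : Mono ((yon S).map (hΔ.snd r)) := sqV.mono_snd_of_mono
  have hmono' : Mono (hΔ.snd r) := (yon S).mono_of_mono_map hmono
  have hmono'' : Mono (hΔ.snd r).left := inferInstance
  have hc : ((yon S).map b ≫ a1) ≫ pullback.diagonal f = (yon S).map b ≫ r := by
    apply pullback.hom_ext
    · rw [Category.assoc, Category.assoc, d1, Category.comp_id, Category.assoc, r1]
    · rw [Category.assoc, Category.assoc, d2, Category.comp_id, Category.assoc, r2, hb]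
  let c : Over.mk w ⟶ hΔ.pullback r := hΔ.lift ((yon S).map b ≫ a1) b hc
  have hne : Nonempty ↥(hΔ.pullback r).left := ⟨c.left (IsLocalRing.closedPoint Ω)⟩
  have hiso : IsIso (hΔ.snd r).left := isIso_of_mono_of_field (K := K) (hΔ.snd r).left
  have hiso' : IsIso (hΔ.snd r) := by
    have : IsIso ((Over.forget S).map (hΔ.snd r)) := hiso
    exact isIso_of_reflects_iso (hΔ.snd r) (Over.forget S)
  have e1 : hΔ.fst r = (yon S).map (hΔ.snd r) ≫ a1 := by
    have := sqV.w =≫ pullback.fst f f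
    rwa [Category.assoc, d1, Category.comp_id, Category.assoc, r1] at this
  have e2 : hΔ.fst r = (yon S).map (hΔ.snd r) ≫ a2 := by
    have := sqV.w =≫ pullback.snd f f
    rwa [Category.assoc, d2, Category.comp_id, Category.assoc, r2] at this
  have e3 : (yon S).map (hΔ.snd r) ≫ a1 = (yon S).map (hΔ.snd r) ≫ a2 := e1.symm.trans e2
  exact (cancel_epi ((yon S).map (hΔ.snd r))).1 e3

/-- Stacks 03MV-type equivalences for a morphism of sheaves whose source has representable
diagonal: injective on field points ↔ universally injective ↔ diagonal surjective on points. -/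
theorem univInjective_tfae {X Y : Sp S} (hX : Representable (Limits.diag X)) (f : X ⟶ Y) :
    (FieldInj f ↔ IsUnivInjectiveMor f) ∧
      (IsUnivInjectiveMor f ↔ IsSurjectiveMor (pullback.diagonal f)) :=
  ⟨⟨isUnivInjectiveMor_of_fieldInj f, fun h => fieldInj_of_isSurjectiveMor_diagonal hX f
      (isSurjectiveMor_diagonal_of_isUnivInjectiveMor f h)⟩,
    ⟨isSurjectiveMor_diagonal_of_isUnivInjectiveMor f, fun h =>
      isUnivInjectiveMor_of_fieldInj f (fieldInj_of_isSurjectiveMor_diagonal hX f h)⟩⟩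

end Groth.Agent.Lib.AlgSpBasic
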