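import Groth.Prelude.Def_AlgSp2
import Mathlib.AlgebraicGeometry.Morphisms.UniversallyOpen

/-!
# helper86: foundations for `AlgSp.Points`

* `ofPt_map_comp`: `ofPt (h_φ ≫ g) t = ofPt g (φ t)`.
* `FieldPt.toHom`, `mk_eq_ofPt_toHom`.
* `exists_of_isPullback`: points lift to fibre products of sheaves.
* `ofPt_surjective`: `RepWith @Surjective p → Surjective (ofPt p)`.
* `isOpenMap_ofPt_of_repWith`: `RepWith P a`, `P ≤ open maps` gives `IsOpenMap (ofPt a)`.
-/

set_option autoImplicit false
set_option linter.style.haveILetI false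
universe u
open CategoryTheory CategoryTheory.Limits AlgebraicGeometry Opposite

namespace Groth.Agent.Lib.H86AlgSpPoints

open AlgSp

variable {S : Scheme.{u}} {F G H : Sp S}

/-- The point of `h_T'` defined by `t : T` and `h_φ` is the point `φ t` of `T'`. -/
theorem ofPt_yon_map {T T' : Over S} (φ : T ⟶ T') (t : ↥T.left) :
    Points.ofPt ((yon S).map φ) t = Points.ofScheme T' (φ.left t) := by
  have h : Points.toScheme T' (Points.ofPt ((yon S).map φ) t) =
      Points.toScheme T' (Points.ofScheme T' (φ.left t)) := by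
    rw [Points.toScheme_ofPt, Points.toScheme_ofScheme]
  have h2 := congrArg (Points.ofScheme T') h
  rwa [Points.ofScheme_toScheme, Points.ofScheme_toScheme] at h2

/-- `ofPt (h_φ ≫ g) t = ofPt g (φ t)`. -/
theorem ofPt_map_comp {T T' : Over S} (φ : T ⟶ T') (g : (yon S).obj T' ⟶ F) (t : ↥T.left) :
    Points.ofPt ((yon S).map φ ≫ g) t = Points.ofPt g (φ.left t) := by
  rw [← Points.map_ofPt, ofPt_yon_map, ← Points.ofPt_eq_map_ofScheme]

/-- Yoneda for `yon S`, universes fixed. -/
noncomputable def yE {T : Over S} : ((yon S).obj T ⟶ F) ≃ F.obj.obj (op T) :=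
  GrothendieckTopology.uliftYonedaEquiv.{u + 1} (J S)

theorem yE_apply {T : Over S} (f : (yon S).obj T ⟶ F) : yE f = f.hom.app (op T) ⟨𝟙 T⟩ :=
  GrothendieckTopology.uliftYonedaEquiv_apply.{u + 1} (J S) f

theorem yE_comp {T : Over S} (α : (yon S).obj T ⟶ F) (β : F ⟶ G) :
    yE (α ≫ β) = β.hom.app _ (yE α) :=
  GrothendieckTopology.uliftYonedaEquiv_comp.{u + 1} (J S) α β

theorem yE_symm_comp {T : Over S} (x : F.obj.obj (op T)) (f : F ⟶ G) :
    yE.symm x ≫ f = yE.symm (f.hom.app _ x) :=
  GrothendieckTopology.uliftYonedaEquiv_symm_naturality_right.{u + 1} (J S) T f x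

theorem yE_map {T T' : Over S} (g : T' ⟶ T) (f : (yon S).obj T ⟶ F) :
    F.obj.map g.op (yE f) = yE ((yon S).map g ≫ f) :=
  GrothendieckTopology.uliftYonedaEquiv_naturality.{u + 1} (J S) f g

theorem yE_yon_map {T T' : Over S} (g : T ⟶ T') : yE ((yon S).map g) = ⟨g⟩ :=
  GrothendieckTopology.uliftYonedaEquiv_uliftYoneda_map.{u + 1} (J S) g

theorem yon_map_comp_yE_symm {T T' : Over S} (g : T' ⟶ T) (x : F.obj.obj (op T)) :
    (yon S).map g ≫ yE.symm x = yE.symm (F.obj.map g.op x) :=
  GrothendieckTopology.uliftYonedaEquiv_symm_naturality_left.{u + 1} (J S) g F x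

/-- The morphism `h_{Spec K} ⟶ F` defined by a field-valued point. -/
noncomputable def toHom (p : FieldPt F) : (yon S).obj p.pt ⟶ F := yE.symm p.val

theorem toHom_app_id (p : FieldPt F) : (toHom p).hom.app (op p.pt) ⟨𝟙 _⟩ = p.val := by
  rw [← yE_apply]
  exact Equiv.apply_symm_apply _ _

/-- Every point is `ofPt` of the closed point of `Spec K` along the corresponding morphism. -/
theorem mk_eq_ofPt_toHom (p : FieldPt F) :
    Points.mk p = Points.ofPt (toHom p) (IsLocalRing.closedPoint p.K) := by
  rw [Points.ofPt_eq_map_ofScheme]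
  have h := Points.ofScheme_apply_eq_mk p.pt (K := p.K) (str := p.str) (𝟙 _) (Category.id_comp _)
  have h' : (𝟙 (Spec (CommRingCat.of p.K)) : _ ⟶ _) (IsLocalRing.closedPoint p.K) =
      IsLocalRing.closedPoint p.K := rfl
  rw [h'] at h
  rw [h, Points.map_mk]
  congr 1
  obtain ⟨K, str, val⟩ := p
  change _ = FieldPt.mk K str _
  congr 1
  exact (toHom_app_id (F := F) ⟨K, str, val⟩).symm

/-- Restricting a field-valued point along a morphism of spectra of fields gives the same point. -/
theorem mk_restrict (p : FieldPt F) {Ω : Type u} [Field Ω] (w : Spec (CommRingCat.of Ω) ⟶ S)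
    (a : Over.mk w ⟶ p.pt) :
    Points.mk (⟨Ω, w, F.obj.map a.op p.val⟩ : FieldPt F) = Points.mk p :=
  Points.sound ⟨Ω, inferInstance, w, 𝟙 _, a, by
    change F.obj.map (𝟙 _) _ = _
    rw [F.obj.map_id]; rfl⟩

/-- Points lift to fibre products of sheaves. -/
theorem exists_of_isPullback {W : Sp S} {fst : W ⟶ F} {snd : W ⟶ G} {f : F ⟶ H} {g : G ⟶ H}
    (h : IsPullback fst snd f g) (x : Points F) (y : Points G)
    (e : Points.map f x = Points.map g y) :
    ∃ w : Points W, Points.map fst w = x ∧ Points.map snd w = y := by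
  induction x using Points.ind with | h p => ?_
  induction y using Points.ind with | h q => ?_
  rw [Points.map_mk, Points.map_mk, Points.mk_eq_mk_iff] at e
  obtain ⟨Ω, _, w, a, b, hab⟩ := e
  -- sections over `Spec Ω`
  let p' : F.obj.obj (op (Over.mk w)) := F.obj.map a.op p.val
  let q' : G.obj.obj (op (Over.mk w)) := G.obj.map b.op q.val
  have hpq : yE.symm p' ≫ f = yE.symm q' ≫ g := by
    rw [yE_symm_comp, yE_symm_comp]
    congr 1
    change f.hom.app _ (F.obj.map a.op p.val) = g.hom.app _ (G.obj.map b.op q.val)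
    rw [NatTrans.naturality_apply, NatTrans.naturality_apply]
    exact hab
  let l : (yon S).obj (Over.mk w) ⟶ W := h.lift _ _ hpq
  let w' : W.obj.obj (op (Over.mk w)) := yE l
  refine ⟨Points.mk ⟨Ω, w, w'⟩, ?_, ?_⟩
  · rw [Points.map_mk, ← mk_restrict p w a]
    congr 1
    change FieldPt.mk Ω w _ = _
    congr 1
    change fst.hom.app _ (yE l) = p'
    rw [← yE_comp, h.lift_fst, Equiv.apply_symm_apply]
  · rw [Points.map_mk, ← mk_restrict q w b]
    congr 1
    change FieldPt.mk Ω w _ = _
    congr 1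
    change snd.hom.app _ (yE l) = q'
    rw [← yE_comp, h.lift_snd, Equiv.apply_symm_apply]

/-- A representable surjective morphism of sheaves is surjective on points. -/
theorem map_surjective_of_repWith {f : F ⟶ G} (hs : RepWith @Surjective f) :
    Function.Surjective (Points.map f) := by
  intro x
  induction x using Points.ind with | h q => ?_
  obtain ⟨V, snd, fst, hpb⟩ := hs.1 (toHom q)
  have h2 : Surjective snd.left := hs.2 _ fst snd hpb
  obtain ⟨v, hv⟩ := h2.surj (IsLocalRing.closedPoint q.K)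
  refine ⟨Points.ofPt fst v, ?_⟩
  rw [Points.map_ofPt, hpb.w, ofPt_map_comp, hv, ← mk_eq_ofPt_toHom]

/-- For a representable surjective `p : h_U ⟶ F`, the map `|U| → |F|` is surjective. -/
theorem ofPt_surjective {U : Over S} {p : (yon S).obj U ⟶ F} (hs : RepWith @Surjective p) :
    Function.Surjective (Points.ofPt p) := by
  intro x
  obtain ⟨y, rfl⟩ := map_surjective_of_repWith hs x
  refine ⟨Points.toScheme U y, ?_⟩
  rw [Points.ofPt_eq_map_ofScheme, Points.ofScheme_toScheme]

/-- A morphism of sheaves representable by open maps of schemes is open on points. -/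
theorem isOpenMap_map_of_repWith {P : MorphismProperty Scheme.{u}}
    (hP : ∀ {X Y : Scheme.{u}} (f : X ⟶ Y), P f → IsOpenMap f) {f : F ⟶ G}
    (hf : RepWith P f) : IsOpenMap (Points.map f) := by
  intro W' hW'
  rw [Points.isOpen_iff]
  intro T g
  obtain ⟨V, snd, fst, hpb⟩ := hf.1 g
  have h2 : P snd.left := hf.2 _ fst snd hpb
  have key : Points.ofPt g ⁻¹' (Points.map f '' W') = snd.left '' (Points.ofPt fst ⁻¹' W') := by
    ext t
    constructor
    · rintro ⟨y, hy, hyt⟩
      obtain ⟨w, hw1, hw2⟩ := exists_of_isPullback hpb y (Points.ofScheme T t)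
        (by rw [hyt, Points.ofPt_eq_map_ofScheme])
      refine ⟨Points.toScheme V w, ?_, ?_⟩
      · change Points.ofPt fst _ ∈ W'
        rw [Points.ofPt_eq_map_ofScheme, Points.ofScheme_toScheme, hw1]
        exact hy
      · have h3 := hw2
        rw [← Points.ofScheme_toScheme V w, ← Points.ofPt_eq_map_ofScheme, ofPt_yon_map] at h3
        exact (Points.schemeEquiv T).injective h3
    · rintro ⟨v, hv, rfl⟩
      refine ⟨Points.ofPt fst v, hv, ?_⟩
      rw [Points.map_ofPt, hpb.w, ofPt_map_comp]
  rw [key]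
  exact hP _ h2 _ ((Points.continuous_ofPt fst).isOpen_preimage _ hW')

theorem isOpenMap_of_etale {X Y : Scheme.{u}} (f : X ⟶ Y) (hf : Etale f) : IsOpenMap f :=
  f.isOpenMap

/-- A representable etale morphism of sheaves is open on points. -/
theorem isOpenMap_map_of_etale {f : F ⟶ G} (hf : RepWith @Etale f) : IsOpenMap (Points.map f) :=
  isOpenMap_map_of_repWith (fun f hf => isOpenMap_of_etale f hf) hf

/-- For a representable etale `a : h_U ⟶ F`, the map `|U| → |F|` is open. -/
theorem isOpenMap_ofPt {U : Over S} {a : (yon S).obj U ⟶ F} (ha : RepWith @Etale a) :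
    IsOpenMap (Points.ofPt a) := by
  have : Points.ofPt a = Points.map a ∘ (Points.schemeHomeo U) :=
    funext fun t => Points.ofPt_eq_map_ofScheme a t
  rw [this]
  exact (isOpenMap_map_of_etale ha).comp (Points.schemeHomeo U).isOpenMap

end Groth.Agent.Lib.H86AlgSpPoints
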