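import Groth.Agent.Lib.H86CartierChart
import Groth.Agent.Lib.AlgSpPoints
import Groth.Agent.Lib.H86AlgSpPoints

/-!
# More chart lemmas for closed subspaces and effective Cartier divisors

* `exists_ideal_chart`: a morphism representable by closed immersions is cut out, in every chart, by an ideal sheaf.
* `exists_scheme_point_of_isPullback`: points of a fibre product of charts.
* `exists_generator_of_notMem_support`: an ideal sheaf is the unit ideal near a point outside its support.
-/

set_option autoImplicit false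
set_option linter.style.haveILetI false
universe u
open CategoryTheory CategoryTheory.Limits AlgebraicGeometry
open AlgSp

namespace Groth.Agent.Lib.H86CartierChart2

open Groth.Agent.Lib.H86CartierChart

variable {S : Scheme.{u}}

set_option backward.isDefEq.respectTransparency false in
/-- A morphism representable by closed immersions is cut out by an ideal sheaf in every chart. -/
theorem exists_ideal_chart {X D : Sp S} (i : D ⟶ X) (hi : RepWith @IsClosedImmersion i) {V : Over S}
    (φ : (yon S).obj V ⟶ X) :
    ∃ (I : V.left.IdealSheafData) (fst : (yon S).obj (subOver V I) ⟶ D),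
      IsPullback fst ((yon S).map (subOverι V I)) i φ := by
  have sqZ := hi.rep.isPullback φ
  haveI hc : IsClosedImmersion (hi.rep.snd φ).left := hi.property_snd φ
  set c := (hi.rep.snd φ).left with hcdef
  have hεw : inv c.toImage ≫ (hi.rep.pullback φ).hom = c.ker.subschemeι ≫ V.hom := by
    rw [IsIso.inv_comp_eq, ← Over.w (hi.rep.snd φ), ← hcdef, ← Category.assoc]
    congr 1
    exact c.toImage_imageι.symm
  let ε : subOver V c.ker ⟶ hi.rep.pullback φ := Over.homMk (inv c.toImage) hεw
  haveI : IsIso ε := by
    haveI : IsIso ((Over.forget S).map ε) := by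
      change IsIso (inv c.toImage); infer_instance
    exact isIso_of_reflects_iso ε (Over.forget S)
  have hεc : ε ≫ hi.rep.snd φ = subOverι V c.ker := by
    ext
    change inv c.toImage ≫ c = c.ker.subschemeι
    rw [IsIso.inv_comp_eq]
    exact c.toImage_imageι.symm
  have sq0 : IsPullback ((yon S).map ε) ((yon S).map (subOverι V c.ker))
      ((yon S).map (hi.rep.snd φ)) (𝟙 _) :=
    IsPullback.of_horiz_isIso ⟨by rw [Category.comp_id, ← Functor.map_comp, hεc]⟩
  have sq1 := sq0.paste_horiz sqZ
  rw [Category.id_comp] at sq1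
  exact ⟨c.ker, (yon S).map ε ≫ hi.rep.fst φ, sq1⟩

/-- Scheme points of a fibre product of two charts. -/
theorem exists_scheme_point_of_isPullback {X : Sp S} {U V W : Over S} {wV : W ⟶ V} {wU : W ⟶ U}
    {φ : (yon S).obj V ⟶ X} {a : (yon S).obj U ⟶ X}
    (sq : IsPullback ((yon S).map wV) ((yon S).map wU) φ a) (v : ↥V.left) (u : ↥U.left)
    (h : Points.ofPt φ v = Points.ofPt a u) : ∃ w : ↥W.left, wV.left w = v ∧ wU.left w = u := by
  rw [Points.ofPt_eq_map_ofScheme, Points.ofPt_eq_map_ofScheme] at h
  obtain ⟨p, hp1, hp2⟩ := Groth.Agent.Lib.AlgSpPoints.exists_point_of_isPullback sq _ _ h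
  refine ⟨Points.toScheme W p, ?_, ?_⟩
  · apply (Points.schemeEquiv V).injective
    change Points.ofScheme V _ = Points.ofScheme V v
    rw [← hp1, ← Groth.Agent.Lib.H86AlgSpPoints.ofPt_yon_map, Points.ofPt_eq_map_ofScheme,
      Points.ofScheme_toScheme]
  · apply (Points.schemeEquiv U).injective
    change Points.ofScheme U _ = Points.ofScheme U u
    rw [← hp2, ← Groth.Agent.Lib.H86AlgSpPoints.ofPt_yon_map, Points.ofPt_eq_map_ofScheme,
      Points.ofScheme_toScheme]

/-- Near a point outside its support, an ideal sheaf is generated by `1`. -/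
theorem exists_generator_of_notMem_support {V : Scheme.{u}} (I : V.IdealSheafData) (v : V)
    (hv : v ∉ I.support) :
    ∃ U : V.affineOpens, v ∈ U.1 ∧ ∃ f : Γ(V, U.1), f ∈ nonZeroDivisors Γ(V, U.1) ∧
      I.ideal U = Ideal.span {f} := by
  obtain ⟨V₀, hV₀, hvV₀, -⟩ :=
    exists_isAffineOpen_mem_and_subset (x := v) (U := (⊤ : V.Opens)) trivial
  rw [Scheme.IdealSheafData.mem_support_iff_of_mem (U := ⟨V₀, hV₀⟩) hvV₀,
    Scheme.mem_zeroLocus_iff] at hv
  push Not at hv
  obtain ⟨g, hg, hvg⟩ := hv
  refine ⟨V.affineBasicOpen g, hvg, 1, one_mem _, ?_⟩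
  rw [Ideal.span_singleton_one, ← I.map_ideal_basicOpen ⟨V₀, hV₀⟩ g]
  exact Ideal.eq_top_of_isUnit_mem _ (Ideal.mem_map_of_mem _ hg)
    (V.toRingedSpace.isUnit_res_basicOpen g)

end Groth.Agent.Lib.H86CartierChart2
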