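import Groth.Agent.S10791
import Groth.Agent.S1685
import Groth.Agent.Lib.H86CartierChart2
import Groth.Agent.Lib.AlgSpBasic

/-!
# Effective Cartier divisors on algebraic spaces: transfer of chart-wise properties (helper36)

`etaleLocally_of_isEffCartierSub`: if `X` has an etale surjective chart `U` with `Q U`, and `R`
is a property of schemes such that the closed subscheme of every effective Cartier ideal on a
scheme with `Q` has `R`, then an effective Cartier divisor `D ⟶ X` has `R` etale locally.
-/

set_option autoImplicit false
set_option linter.style.haveILetI false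
universe u
open CategoryTheory CategoryTheory.Limits AlgebraicGeometry Opposite

namespace Groth.Agent.Lib.AlgSpCartierSk36

open AlgSp Groth.Agent.Lib.AlgSpBasic Groth.Agent.Lib.H86CartierChart

variable {S : Scheme.{u}}

/-- Transfer of chart-wise properties to an effective Cartier divisor. -/
theorem etaleLocally_of_isEffCartierSub {Q R : Scheme.{u} → Prop}
    (hQR : ∀ (U : Scheme.{u}) (I : U.IdealSheafData), Q U → BlowUp.IsEffCartierIdeal I →
      R I.subscheme)
    (X D : Space S) (hX : EtaleLocally Q X.obj) (i : D ⟶ X) (hD : IsEffCartierSub i.hom) :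
    EtaleLocally R D.obj := by
  obtain ⟨U, a, hae, has, hU⟩ := hX
  obtain ⟨I, fst, sq⟩ := Groth.Agent.Lib.H86CartierChart2.exists_ideal_chart i.hom hD.1 a
  have hI : BlowUp.IsEffCartierIdeal I :=
    (Groth.Agent.S10791.result X D i hD.1).1 hD U a hae I fst sq
  exact ⟨subOver U I, fst, repWith_fst_of_isPullback _ sq hae, repWith_fst_of_isPullback _ sq has,
    hQR U.left I hU hI⟩

end Groth.Agent.Lib.AlgSpCartierSk36
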