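import Mathlib
import Groth.Agent.Lib.AlgSpSrcCover

set_option autoImplicit false

universe u
open CategoryTheory CategoryTheory.Limits AlgebraicGeometry
open AlgSp Groth.Agent.Lib.AlgSpBasic Groth.Agent.Lib.SrcLocal Groth.Agent.Lib.AlgSpLocP

namespace Groth.Agent.Lib.AlgSpUnram

variable {S : Scheme.{u}}

/-- A functor preserving the pullback of `(k, k)` maps the diagonal to the diagonal. -/
theorem map_diagonal_comp_iso {C D : Type*} [Category C] [Category D] (F : C ⥤ D) {A B : C}
    (k : A ⟶ B) [HasPullback k k] [HasPullback (F.map k) (F.map k)]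
    [PreservesLimit (cospan k k) F] :
    F.map (pullback.diagonal k) ≫ (PreservesPullback.iso F k k).hom =
      pullback.diagonal (F.map k) := by
  apply pullback.hom_ext
  · rw [Category.assoc, PreservesPullback.iso_hom_fst, ← F.map_comp, pullback.diagonal_fst,
      F.map_id, pullback.diagonal_fst]
  · rw [Category.assoc, PreservesPullback.iso_hom_snd, ← F.map_comp, pullback.diagonal_snd,
      F.map_id, pullback.diagonal_snd]

/-- The diagonal of `h_k` is `RepWith P` iff the diagonal of the underlying morphism of schemes
has `P`. -/
theorem repWith_diagonal_yon_map_iff (P : MorphismProperty Scheme.{u}) [P.IsStableUnderBaseChange]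
    {A B : Over S} (k : A ⟶ B) :
    RepWith P (pullback.diagonal ((yon S).map k)) ↔ P (pullback.diagonal k.left) := by
  have : P.RespectsIso := MorphismProperty.IsStableUnderBaseChange.respectsIso
  have e1 := map_diagonal_comp_iso (yon S) k
  have e2 := map_diagonal_comp_iso (Over.forget S) k
  rw [← e1, MorphismProperty.cancel_right_of_respectsIso (P := RepWith (S := S) P),
    repWith_yon_map_iff]
  change P ((Over.forget S).map (pullback.diagonal k)) ↔ _
  rw [← MorphismProperty.cancel_right_of_respectsIso (P := P)
    ((Over.forget S).map (pullback.diagonal k))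
    (PreservesPullback.iso (Over.forget S) k k).hom, e2]
  rfl

/-- For a monomorphism `m`, `x` is the base change of `x ≫ m` along `m`. -/
theorem isPullback_of_comp_mono {C : Type*} [Category C] {A B D : C} (x : A ⟶ B) (m : B ⟶ D)
    [Mono m] : IsPullback (𝟙 A) x (x ≫ m) m :=
  IsPullback.of_isLimit (PullbackCone.IsLimit.mk (by simp) (fun s => s.fst)
    (fun s => by simp)
    (fun s => by
      rw [← cancel_mono m, Category.assoc, ← s.condition])
    (fun s l h1 _ => by simpa using h1))

end Groth.Agent.Lib.AlgSpUnram
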