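import Groth.Agent.Lib.ProperLqfFinite46
import Groth.Agent.Lib.AlgSpBasic3
import Groth.Agent.Lib.AlgSpProper2
import Groth.Agent.S10262

/-!
# Closed immersions of algebraic spaces = universally closed, unramified, universally injective (helper36)

Sheaf-level form of Stacks 05W7 (1) ⇔ (4), built on helper46's "separated + locally quasi-finite ⇒ representable".
-/

set_option autoImplicit false
set_option linter.style.haveILetI false
universe u
open CategoryTheory CategoryTheory.Limits AlgebraicGeometry Opposite

namespace Groth.Agent.Lib.AlgSpClosedImm36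

open AlgSp Groth.Agent.Lib.AlgSpBasic Groth.Agent.Lib.AlgSpLocP Groth.Agent.Lib.AlgSpQC

variable {S : Scheme.{u}}

/-- Unramified morphisms (formally unramified, locally of finite type) are locally quasi-finite. -/
theorem locallyQuasiFinite_of_unramified {X Y : Scheme.{u}} (f : X ⟶ Y)
    [h1 : LocallyOfFiniteType f] [h2 : FormallyUnramified f] : LocallyQuasiFinite f := by
  refine ⟨fun {U} hU {V} hV e => ?_⟩
  have hft : (f.appLE U V e).hom.FiniteType := h1.finiteType_appLE hU hV e
  have hfu : (f.appLE U V e).hom.FormallyUnramified := h2.formallyUnramified_appLE hU hV e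
  algebraize [(f.appLE U V e).hom]
  have : Algebra.EssFiniteType Γ(Y, U) Γ(X, V) := inferInstance
  show Algebra.QuasiFinite Γ(Y, U) Γ(X, V)
  infer_instance

/-- Scheme level: universally closed + unramified + universally injective ⇒ closed immersion. -/
theorem isClosedImmersion_of_unramified_univInjective_univClosed {A B : Scheme.{u}} (g : A ⟶ B)
    [LocallyOfFiniteType g] [FormallyUnramified g] [UniversallyInjective g] [UniversallyClosed g] :
    IsClosedImmersion g := by
  have h1 : IsOpenImmersion (pullback.diagonal g) := inferInstance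
  have h2 : Surjective (pullback.diagonal g) := (UniversallyInjective.iff_diagonal g).1 inferInstance
  have h3 : IsIso (pullback.diagonal g) := (isIso_iff_isOpenImmersion_and_surjective _).2 ⟨h1, h2⟩
  have h4 : Mono g := (pullback.isIso_diagonal_iff g).1 h3
  have h5 : IsSeparated g := inferInstance
  have h6 : IsProper g := {}
  exact (IsClosedImmersion.iff_isProper_and_mono g).2 ⟨h6, h4⟩

theorem isClosedImmersion_le_unramified :
    (@IsClosedImmersion : MorphismProperty Scheme.{u}) ≤
      (@LocallyOfFiniteType ⊓ @FormallyUnramified : MorphismProperty Scheme.{u}) := by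
  intro A B g hg
  have : IsClosedImmersion g := hg
  exact ⟨inferInstance, inferInstance⟩

theorem isClosedImmersion_le_universallyInjective :
    (@IsClosedImmersion : MorphismProperty Scheme.{u}) ≤
      (@UniversallyInjective : MorphismProperty Scheme.{u}) := by
  intro A B g hg
  have : IsClosedImmersion g := hg
  exact (inferInstance : UniversallyInjective g)

/-- A representable closed immersion is unramified. -/
theorem locP_unramified_of_repWith_isClosedImmersion {X Y : Sp S} (hX : IsAlgSpace X) {f : X ⟶ Y}
    (hf : RepWith @IsClosedImmersion f) : LocP (@LocallyOfFiniteType ⊓ @FormallyUnramified) f :=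
  locP_of_repWith _ etLocalClass_lft_unramified.pre (fun _ c => hX.representable_from_yon c)
    (repWith_mono isClosedImmersion_le_unramified hf)

/-- A representable closed immersion is universally injective. -/
theorem isUnivInjectiveMor_of_repWith_isClosedImmersion {X Y : Sp S} (hX : IsAlgSpace X) {f : X ⟶ Y}
    (hf : RepWith @IsClosedImmersion f) : IsUnivInjectiveMor f :=
  (univInjective_tfae hX.diag f).1.1 ((repWith_universallyInjective_iff hf.rep).1
    (repWith_mono isClosedImmersion_le_universallyInjective hf))

/-- An unramified universally injective morphism of algebraic spaces is separated. -/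
theorem isSeparatedMor_of_unramified_univInjective {X Y : Sp S} (hX : IsAlgSpace X) (hY : IsAlgSpace Y)
    (f : X ⟶ Y) (hunr : LocP (@LocallyOfFiniteType ⊓ @FormallyUnramified) f)
    (hinj : IsUnivInjectiveMor f) : IsSeparatedMor f := by
  have hΔ : RepWith @IsOpenImmersion (pullback.diagonal f) :=
    (Groth.Agent.S10262.result (X := ⟨X, hX⟩) (Y := ⟨Y, hY⟩) (ObjectProperty.homMk f)).1 hunr
  have hΔs : IsSurjectiveMor (pullback.diagonal f) := (univInjective_tfae hX.diag f).2.1 hinj
  have hΔs' : RepWith @Surjective (pullback.diagonal f) :=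
    repWith_surjective_of_isSurjectiveMor hΔ.rep hΔs
  refine repWith_mono (P := @IsOpenImmersion ⊓ @Surjective) ?_
    ((repWith_inf_iff _ _ _).2 ⟨hΔ, hΔs'⟩)
  rintro A B g ⟨h1, h2⟩
  have : IsIso g := (isIso_iff_isOpenImmersion_and_surjective _).2 ⟨h1, h2⟩
  exact (inferInstance : IsClosedImmersion g)

/-- **Stacks 05W7 (4) ⇒ (1).** A universally closed, unramified, universally injective morphism of algebraic
spaces is a (representable) closed immersion. -/
theorem repWith_isClosedImmersion_of_unramified_univInjective {X Y : Sp S} (hX : IsAlgSpace X)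
    (hY : IsAlgSpace Y) (f : X ⟶ Y) (hunr : LocP (@LocallyOfFiniteType ⊓ @FormallyUnramified) f)
    (hinj : IsUnivInjectiveMor f) (huc : IsUnivClosedMor f) : RepWith @IsClosedImmersion f := by
  have hsep := isSeparatedMor_of_unramified_univInjective hX hY f hunr hinj
  have hlqf : LocP (@LocallyQuasiFinite ⊓ @LocallyOfFiniteType) f := by
    intro U V a b k ha hb comm
    obtain ⟨h1, h2⟩ := hunr a b k ha hb comm
    have : LocallyOfFiniteType k.left := h1
    have : FormallyUnramified k.left := h2
    exact ⟨locallyQuasiFinite_of_unramified k.left, h1⟩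
  have hrep : Representable f :=
    Groth.Agent.Lib.ProperLqfFinite46.representable_of_sep_lqf hX hY f hlqf hsep
  have h1 : RepWith (@LocallyOfFiniteType ⊓ @FormallyUnramified) f :=
    repWith_of_locP etLocalClass_lft_unramified hY hrep hunr
  have h2 : RepWith @UniversallyInjective f :=
    (repWith_universallyInjective_iff hrep).2 ((univInjective_tfae hX.diag f).1.2 hinj)
  have h3 : RepWith @UniversallyClosed f :=
    (Groth.Agent.Lib.AlgSpProper.repWith_universallyClosed_iff hX hY hrep).2 huc
  refine repWith_mono (P := (@LocallyOfFiniteType ⊓ @FormallyUnramified) ⊓ @UniversallyInjective ⊓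
    @UniversallyClosed) ?_ ((repWith_inf_iff _ _ _).2 ⟨(repWith_inf_iff _ _ _).2 ⟨h1, h2⟩, h3⟩)
  rintro A B g ⟨⟨⟨hl, hu⟩, hi⟩, hc⟩
  have : LocallyOfFiniteType g := hl
  have : FormallyUnramified g := hu
  have : UniversallyInjective g := hi
  have : UniversallyClosed g := hc
  exact isClosedImmersion_of_unramified_univInjective_univClosed g

/-- **Stacks 05W7 (1) ⇔ (4)** for a universally closed morphism. -/
theorem repWith_isClosedImmersion_iff {X Y : Sp S} (hX : IsAlgSpace X) (hY : IsAlgSpace Y) (f : X ⟶ Y)
    (huc : IsUnivClosedMor f) :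
    RepWith @IsClosedImmersion f ↔
      (LocP (@LocallyOfFiniteType ⊓ @FormallyUnramified) f ∧ IsUnivInjectiveMor f) :=
  ⟨fun h => ⟨locP_unramified_of_repWith_isClosedImmersion hX h,
    isUnivInjectiveMor_of_repWith_isClosedImmersion hX h⟩,
   fun h => repWith_isClosedImmersion_of_unramified_univInjective hX hY f h.1 h.2 huc⟩

end Groth.Agent.Lib.AlgSpClosedImm36
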