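import Mathlib
import Groth.Agent.Lib.SpectralBaire

/-!
# helper91: descent of constructibility along spectral surjections (Mathlib only)

If `f : T → Y` is a continuous map from a spectral space with quasi-compact open image into a
`T0`, prespectral, quasi-separated space, such that preimages of quasi-compact opens are
quasi-compact, then a subset `E` of `Y` with constructible preimage has `E ∩ range f`
constructible.  The proof uses the compactness of the constructible topology on `T`.
-/

set_option autoImplicit false
open Topology TopologicalSpace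

namespace Groth.Agent.Lib.SpectralConstr91

open Groth.Agent.Lib.SpectralBaire

variable {T Y : Type*} [TopologicalSpace T] [TopologicalSpace Y]

/-- A constructible subset of a quasi-compact space is open and closed in the constructible
topology. -/
theorem isOpen_isClosed_constructibleTopology_of_isConstructible [CompactSpace T] {s : Set T}
    (hs : IsConstructible s) :
    IsOpen[constructibleTopology T] s ∧ IsClosed[constructibleTopology T] s := by
  induction hs using IsConstructible.empty_union_induction with
  | open_retrocompact U hUopen hUcomp =>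
    exact ⟨hUcomp.isCompact.isOpen_constructibleTopology_of_isOpen hUopen,
      isClosed_constructible_of_isCompact_isOpen hUopen hUcomp.isCompact⟩
  | union s hs t ht hs' ht' =>
    exact ⟨@IsOpen.union T s t (constructibleTopology T) hs'.1 ht'.1,
      @IsClosed.union T s t (constructibleTopology T) hs'.2 ht'.2⟩
  | compl s hs hs' =>
    exact ⟨(@isOpen_compl_iff T s (constructibleTopology T)).2 hs'.2,
      (@isClosed_compl_iff T (constructibleTopology T) s).2 hs'.1⟩

/-- In a `T0`, prespectral, quasi-separated space distinct points are separated by a constructible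
set. -/
theorem exists_isConstructible_mem_not_mem [T0Space Y] [PrespectralSpace Y] [QuasiSeparatedSpace Y]
    {y y' : Y} (h : y ≠ y') : ∃ C : Set Y, IsConstructible C ∧ y ∈ C ∧ y' ∉ C := by
  obtain ⟨U, hU, hx⟩ := exists_isOpen_xor_mem h
  rcases hx with ⟨hy, hy'⟩ | ⟨hy', hy⟩
  · obtain ⟨V, ⟨hVo, hVc⟩, hyV, hVU⟩ :=
      (PrespectralSpace.isTopologicalBasis (X := Y)).exists_subset_of_mem_open hy hU
    exact ⟨V, hVc.isConstructible hVo, hyV, fun h' => hy' (hVU h')⟩
  · obtain ⟨V, ⟨hVo, hVc⟩, hyV, hVU⟩ :=
      (PrespectralSpace.isTopologicalBasis (X := Y)).exists_subset_of_mem_open hy' hU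
    exact ⟨Vᶜ, (hVc.isConstructible hVo).compl, fun h' => hy (hVU h'), fun h' => h' hyV⟩

/-- **Descent of constructibility along a spectral map with quasi-compact open image.** -/
theorem isConstructible_inter_range [CompactSpace T] [QuasiSober T] [PrespectralSpace T]
    [QuasiSeparatedSpace T] [T0Space Y] [PrespectralSpace Y] [QuasiSeparatedSpace Y]
    (f : T → Y) (hf : Continuous f) (hfo : IsOpen (Set.range f))
    (hfc : ∀ O : Set Y, IsOpen O → IsCompact O → IsCompact (f ⁻¹' O))
    (E : Set Y) (hE : IsConstructible (f ⁻¹' E)) : IsConstructible (E ∩ Set.range f) := by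
  classical
  have hc : @CompactSpace T (constructibleTopology T) := compactSpace_constructible
  have hrc : IsCompact (Set.range f) := isCompact_range hf
  -- preimages of constructible sets are constructible
  have hpre : ∀ C : Set Y, IsConstructible C → IsConstructible (f ⁻¹' C) := by
    intro C hC
    refine hC.preimage hf (fun s hso hsr => ?_)
    have h1 : f ⁻¹' s = f ⁻¹' (s ∩ Set.range f) := by
      ext t; simp
    rw [h1]
    exact (hfc _ (hso.inter hfo) (hsr hrc hfo)).isRetrocompact ((hso.inter hfo).preimage hf)
  have hclopen : ∀ C : Set Y, IsConstructible C →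
      IsOpen[constructibleTopology T] (f ⁻¹' C) ∧ IsClosed[constructibleTopology T] (f ⁻¹' C) :=
    fun C hC => isOpen_isClosed_constructibleTopology_of_isConstructible (hpre C hC)
  -- Step B
  have stepB : ∀ x ∈ E, ∃ D : Set Y, IsConstructible D ∧ x ∈ D ∧ D ∩ Set.range f ⊆ E := by
    intro x hx
    have hA₂ : @IsCompact T (constructibleTopology T) (f ⁻¹' E)ᶜ :=
      @IsClosed.isCompact T (constructibleTopology T) _ hc
        ((@isClosed_compl_iff T (constructibleTopology T) _).2
          (isOpen_isClosed_constructibleTopology_of_isConstructible hE).1)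
    have hsep : ∀ i : {t : T // t ∈ (f ⁻¹' E)ᶜ}, ∃ C : Set Y, IsConstructible C ∧ x ∈ C ∧
        f i.1 ∉ C := by
      rintro ⟨t, ht⟩
      exact exists_isConstructible_mem_not_mem (fun h => ht (by rw [Set.mem_preimage, ← h]; exact hx))
    choose C hCc hxC hfC using hsep
    obtain ⟨J, hJ⟩ := @IsCompact.elim_finite_subcover T (constructibleTopology T) _ _ hA₂
      (fun i => f ⁻¹' (C i)ᶜ)
      (fun i => (hclopen _ (hCc i).compl).1)
      (fun t ht => Set.mem_iUnion.2 ⟨⟨t, ht⟩, hfC ⟨t, ht⟩⟩)
    refine ⟨⋂ i ∈ J, C i, IsConstructible.biInter J.finite_toSet (fun i _ => hCc i), ?_, ?_⟩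
    · simp only [Set.mem_iInter]
      exact fun i _ => hxC i
    · rintro _ ⟨hD, t, rfl⟩
      by_contra hn
      have := hJ (show t ∈ (f ⁻¹' E)ᶜ from hn)
      simp only [Set.mem_iUnion, exists_prop] at this
      obtain ⟨i, hi, hti⟩ := this
      simp only [Set.mem_iInter] at hD
      exact hti (hD i hi)
  -- Step C
  have hA₁ : @IsCompact T (constructibleTopology T) (f ⁻¹' E) :=
    @IsClosed.isCompact T (constructibleTopology T) _ hc
      (isOpen_isClosed_constructibleTopology_of_isConstructible hE).2
  have hD' : ∀ i : {t : T // t ∈ f ⁻¹' E}, ∃ D : Set Y, IsConstructible D ∧ f i.1 ∈ D ∧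
      D ∩ Set.range f ⊆ E := fun i => stepB _ i.2
  choose D hDc hfD hDE using hD'
  obtain ⟨J, hJ⟩ := @IsCompact.elim_finite_subcover T (constructibleTopology T) _ _ hA₁
    (fun i => f ⁻¹' (D i))
    (fun i => (hclopen _ (hDc i)).1)
    (fun t ht => Set.mem_iUnion.2 ⟨⟨t, ht⟩, hfD ⟨t, ht⟩⟩)
  have heq : E ∩ Set.range f = (⋃ i ∈ J, D i) ∩ Set.range f := by
    ext y
    constructor
    · rintro ⟨hy, t, rfl⟩
      refine ⟨?_, t, rfl⟩
      have := hJ (show t ∈ f ⁻¹' E from hy)
      simpa only [Set.mem_iUnion, exists_prop, Set.mem_preimage] using this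
    · rintro ⟨hy, hyr⟩
      simp only [Set.mem_iUnion, exists_prop] at hy
      obtain ⟨i, -, hyi⟩ := hy
      exact ⟨hDE i ⟨hyi, hyr⟩, hyr⟩
  rw [heq]
  exact (IsConstructible.biUnion J.finite_toSet (fun i _ => hDc i)).inter
    (hrc.isConstructible hfo)

end Groth.Agent.Lib.SpectralConstr91
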