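import Groth.Agent.Lib.AlgSpSober91b
import Groth.Agent.Lib.SpectralConstr91

set_option autoImplicit false
universe u
open CategoryTheory CategoryTheory.Limits AlgebraicGeometry Opposite Topology
open Set.Notation

namespace Groth.Agent.Lib.AlgSpConstr91

open AlgSp Groth.Agent.Lib.H80DecentPt Groth.Agent.Lib.AlgSpDecentPt91 Groth.Agent.Lib.AlgSpPoints
  Groth.Agent.Lib.AlgSpDecentSpec Groth.Agent.Lib.AlgSpSober91

variable {S : Scheme.{u}}

/-- For étale charts `a₁, a₂` with quasi-compact sources of a quasi-separated algebraic space, the preimage under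
`a₁` of the image of `a₂` is quasi-compact. -/
theorem isCompact_preimage_range [QuasiSeparatedSpace ↥S] {X : Sp S} (hX : IsQuasiSeparatedSp X)
    {U₁ U₂ : Over S} (a₁ : (yon S).obj U₁ ⟶ X) (a₂ : (yon S).obj U₂ ⟶ X)
    (h₂ : RepWith @Etale a₂) [CompactSpace ↥U₁.left] [CompactSpace ↥U₂.left] :
    IsCompact (Points.ofPt a₁ ⁻¹' Set.range (Points.ofPt a₂)) := by
  have hq₂ : QuasiCompact U₂.hom := inferInstance
  have hrep₂ : RepWith @QuasiCompact a₂ :=
    repWith_quasiCompact_of_isQuasiSeparatedSp hX hq₂ _ ((repWith_iff _ _).1 h₂).1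
  have hr := ((repWith_iff _ _).1 hrep₂).1
  have sq := hr.isPullback' a₁
  have hqc : QuasiCompact (hr.snd a₁).left := ((repWith_iff _ _).1 hrep₂).2 _ _ _ sq
  have hP : CompactSpace ↥(hr.pullback a₁).left :=
    QuasiCompact.compactSpace_of_compactSpace (hr.snd a₁).left
  have heq : Points.ofPt a₁ ⁻¹' Set.range (Points.ofPt a₂) = Set.range (hr.snd a₁).left := by
    ext u
    constructor
    · rintro ⟨k, hk⟩
      obtain ⟨p, -, hp⟩ := exists_point_of_ofPt_eq sq k u hk
      exact ⟨p, hp⟩
    · rintro ⟨p, rfl⟩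
      refine ⟨(hr.fst' a₁).left p, ?_⟩
      rw [← ofPt_yon_map_comp, sq.w, ofPt_yon_map_comp]
  rw [heq]
  exact isCompact_range (hr.snd a₁).left.continuous


/-- The space of points of a quasi-separated algebraic space over a quasi-separated base is `T0`, prespectral and
quasi-separated. -/
theorem t0_prespectral_quasiSeparated [QuasiSeparatedSpace ↥S] {X : Sp S} (hA : IsAlgSpace X)
    (hX : IsQuasiSeparatedSp X) :
    T0Space (Points X) ∧ PrespectralSpace (Points X) ∧ QuasiSeparatedSpace (Points X) := by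
  obtain ⟨V, b, hb, hbs⟩ := hA.atlas
  have hopen := Groth.Agent.Lib.H86AlgSpPoints.isOpenMap_ofPt hb
  have hcont := Points.continuous_ofPt b
  have hsurj := Groth.Agent.Lib.H86AlgSpPoints.ofPt_surjective hbs
  refine ⟨Groth.Agent.S10338.result ⟨X, hA⟩ (isDecent_of_isQuasiSeparatedSp hA hX), ?_, ?_⟩
  · refine PrespectralSpace.of_isTopologicalBasis
      (B := {O | ∃ G : V.left.Opens, IsAffineOpen G ∧ O = Points.ofPt b '' (G : Set ↥V.left)}) ?_ ?_
    · refine TopologicalSpace.isTopologicalBasis_of_isOpen_of_nhds ?_ ?_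
      · rintro _ ⟨G, -, rfl⟩
        exact hopen _ G.isOpen
      · intro x O hxO hO
        obtain ⟨v, rfl⟩ := hsurj x
        obtain ⟨_, ⟨G, hG, rfl⟩, hvG, hGO⟩ :=
          (V.left.isBasis_affineOpens).exists_subset_of_mem_open
            (show v ∈ Points.ofPt b ⁻¹' O from hxO) (hO.preimage hcont)
        exact ⟨_, ⟨G, hG, rfl⟩, ⟨v, hvG, rfl⟩, Set.image_subset_iff.2 hGO⟩
    · rintro _ ⟨G, hG, rfl⟩
      exact hG.isCompact.image hcont
  · refine ⟨fun O₁ O₂ ho₁ hc₁ ho₂ hc₂ => ?_⟩
    obtain ⟨G₁, hG₁, rfl⟩ := exists_compact_opens_image_eq b hb hbs O₁ ho₁ hc₁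
    obtain ⟨G₂, hG₂, rfl⟩ := exists_compact_opens_image_eq b hb hbs O₂ ho₂ hc₂
    exact isCompact_image_inter_image hX b hb G₁ G₂ hG₁ hG₂

/-- For an étale chart with quasi-compact source of a quasi-separated algebraic space, preimages of quasi-compact opens of
`|X|` are quasi-compact. -/
theorem isCompact_preimage_of_isCompact [QuasiSeparatedSpace ↥S] {X : Sp S} (hA : IsAlgSpace X)
    (hX : IsQuasiSeparatedSp X) {U : Over S} (a : (yon S).obj U ⟶ X) [CompactSpace ↥U.left]
    (O : Set (Points X)) (hO : IsOpen O) (hOc : IsCompact O) : IsCompact (Points.ofPt a ⁻¹' O) := by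
  obtain ⟨V, b, hb, hbs⟩ := hA.atlas
  obtain ⟨G, hG, rfl⟩ := exists_compact_opens_image_eq b hb hbs O hO hOc
  have hc : CompactSpace ↥(restrictOver V G).left := isCompact_iff_compactSpace.1 hG
  have hrange : Points.ofPt b '' (G : Set ↥V.left) =
      Set.range (Points.ofPt ((yon S).map (restrictOverι V G) ≫ b)) := by
    ext x
    constructor
    · rintro ⟨g, hg, rfl⟩
      refine ⟨(⟨g, hg⟩ : ↥G), ?_⟩
      rw [ofPt_yon_map_comp]
      rfl
    · rintro ⟨t, rfl⟩
      rw [ofPt_yon_map_comp]
      exact ⟨_, (show ↥G from t).2, rfl⟩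
  rw [hrange]
  exact isCompact_preimage_range hX a _ (repWith_etale_restrict b hb G)


theorem range_ofPt_restrict {X : Sp S} {V : Over S} (b : (yon S).obj V ⟶ X) (G : V.left.Opens) :
    Set.range (Points.ofPt ((yon S).map (restrictOverι V G) ≫ b)) =
      Points.ofPt b '' (G : Set ↥V.left) := by
  ext x
  constructor
  · rintro ⟨t, rfl⟩
    rw [ofPt_yon_map_comp]
    exact ⟨_, (show ↥G from t).2, rfl⟩
  · rintro ⟨g, hg, rfl⟩
    refine ⟨(⟨g, hg⟩ : ↥G), ?_⟩
    rw [ofPt_yon_map_comp]
    rfl

/-- The preimage of a locally constructible subset of `|X|` in an étale chart with quasi-compact and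
quasi-separated underlying space is constructible. -/
theorem isConstructible_preimage_of_isLocallyConstructible [QuasiSeparatedSpace ↥S] (X : AlgSp.Space S)
    (hX : IsQuasiSeparatedSp X.obj) (E : Set (Points X.obj)) (hE : IsLocallyConstructible E)
    {U : Over S} (a : (yon S).obj U ⟶ X.obj) (ha : RepWith @Etale a) [CompactSpace ↥U.left]
    [QuasiSeparatedSpace ↥U.left] : IsConstructible (Points.ofPt a ⁻¹' E) := by
  obtain ⟨h0, h1, h2⟩ := t0_prespectral_quasiSeparated X.property hX
  have hfcont : Continuous (Points.ofPt a) := Points.continuous_ofPt _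
  have hfo : IsOpen (Set.range (Points.ofPt a)) :=
    (Groth.Agent.Lib.H86AlgSpPoints.isOpenMap_ofPt ha).isOpen_range
  have hrc : IsCompact (Set.range (Points.ofPt a)) := isCompact_range hfcont
  have h3 : Points.ofPt a ⁻¹' E = Points.ofPt a ⁻¹' (E ∩ Set.range (Points.ofPt a)) := by
    ext t; simp
  rw [h3]
  refine (hE.inter_of_isOpen_isCompact hfo hrc).preimage hfcont (fun s hso hsr => ?_)
  have h4 : Points.ofPt a ⁻¹' s = Points.ofPt a ⁻¹' (s ∩ Set.range (Points.ofPt a)) := by
    ext t; simp
  rw [h4]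
  exact (isCompact_preimage_of_isCompact X.property hX _ _ (hso.inter hfo)
    (hsr hrc hfo)).isRetrocompact ((hso.inter hfo).preimage hfcont)

/-- **Étale-locally constructible subsets of a quasi-separated algebraic space are the locally constructible
subsets of its space of points.** -/
theorem isLocallyConstructible_iff [QuasiSeparatedSpace ↥S] (X : AlgSp.Space S)
    (hX : IsQuasiSeparatedSp X.obj) (E : Set (Points X.obj)) :
    (∀ (U : Over S) (a : (yon S).obj U ⟶ X.obj), RepWith @Etale a →
        IsLocallyConstructible (Points.ofPt a ⁻¹' E)) ↔ IsLocallyConstructible E := by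
  obtain ⟨h0, h1, h2⟩ := t0_prespectral_quasiSeparated X.property hX
  constructor
  · intro hE
    obtain ⟨V, b, hb, hbs⟩ := X.property.atlas
    have hopen := Groth.Agent.Lib.H86AlgSpPoints.isOpenMap_ofPt hb
    have hcont := Points.continuous_ofPt b
    have hsurj := Groth.Agent.Lib.H86AlgSpPoints.ofPt_surjective hbs
    let W : V.left.affineOpens → TopologicalSpace.Opens (Points X.obj) :=
      fun G => ⟨Points.ofPt b '' (G.1 : Set ↥V.left), hopen _ G.1.isOpen⟩
    have hcov : TopologicalSpace.IsOpenCover W := by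
      refine TopologicalSpace.IsOpenCover.mk (top_le_iff.1 ?_)
      intro x _
      obtain ⟨v, rfl⟩ := hsurj x
      obtain ⟨_, ⟨G, hG, rfl⟩, hvG, -⟩ :=
        (V.left.isBasis_affineOpens).exists_subset_of_mem_open (Set.mem_univ v) isOpen_univ
      exact TopologicalSpace.Opens.mem_iSup.2 ⟨⟨G, hG⟩, v, hvG, rfl⟩
    rw [IsLocallyConstructible.iff_isConstructible_of_isOpenCover hcov
      (fun G => G.2.isCompact.image hcont)]
    intro G
    have ha : RepWith @Etale ((yon S).map (restrictOverι V G.1) ≫ b) :=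
      repWith_etale_restrict b hb G.1
    have : IsAffine (restrictOver V G.1).left := G.2
    have hrange := range_ofPt_restrict b G.1
    have := Groth.Agent.Lib.SpectralConstr91.isConstructible_inter_range
      (Points.ofPt ((yon S).map (restrictOverι V G.1) ≫ b)) (Points.continuous_ofPt _)
      (by rw [hrange]; exact (W G).2)
      (fun O hO hOc => isCompact_preimage_of_isCompact X.property hX _ O hO hOc) E
      ((hE _ _ ha).isConstructible)
    rwa [hrange] at this
  · intro hE U a ha
    refine IsLocallyConstructible.of_isOpenCover (U := fun G : U.left.affineOpens => G.1)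
      (TopologicalSpace.IsOpenCover.mk (iSup_affineOpens_eq_top U.left)) (fun G => ?_)
    have : IsAffine (restrictOver U G.1).left := G.2
    have key := isConstructible_preimage_of_isLocallyConstructible X hX E hE
      ((yon S).map (restrictOverι U G.1) ≫ a) (repWith_etale_restrict a ha G.1)
    refine IsConstructible.isLocallyConstructible ?_
    have hpre : ((G.1 : TopologicalSpace.Opens ↥U.left) : Set ↥U.left) ↓∩ (Points.ofPt a ⁻¹' E) =
        (Points.ofPt ((yon S).map (restrictOverι U G.1) ≫ a) ⁻¹' E :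
          Set ↥(restrictOver U G.1).left) := by
      ext t
      have := ofPt_yon_map_comp (restrictOverι U G.1) a t
      show Points.ofPt a t.1 ∈ E ↔ Points.ofPt ((yon S).map (restrictOverι U G.1) ≫ a) t ∈ E
      rw [this]; rfl
    rw [hpre]
    exact key

end Groth.Agent.Lib.AlgSpConstr91
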