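import Mathlib

/-!
# Smoothness at a point via flatness and smoothness of the fibre (ring-level core)

`isSmoothAt_of_flat_of_fiber` is the local variant of Mathlib's
`Algebra.IsSmoothAt.of_formallySmooth_fiber`: only flatness of `A_p → B_q` and formal smoothness of
`κ(p) ⊗[A_p] B_q` are assumed.
-/

open TensorProduct IsLocalRing

namespace Groth.Agent.Lib.H80SmoothFiber

section Ring

local notation "𝓀[" R "]" => ResidueField R

/-- Local variant of `Algebra.IsSmoothAt.of_formallySmooth_fiber`. -/
theorem isSmoothAt_of_flat_of_fiber {R S : Type*} [CommRing R] [CommRing S] [Algebra R S]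
    [Algebra.FinitePresentation R S] (p : Ideal R) (q : Ideal S)
    [p.IsPrime] [q.IsPrime] [q.LiesOver p]
    (hflat : letI := Localization.AtPrime.algebraOfLiesOver p q
      Module.Flat (Localization.AtPrime p) (Localization.AtPrime q))
    (hfib : letI := Localization.AtPrime.algebraOfLiesOver p q
      Algebra.FormallySmooth 𝓀[Localization.AtPrime p]
        (𝓀[Localization.AtPrime p] ⊗[Localization.AtPrime p] Localization.AtPrime q)) :
    Algebra.IsSmoothAt R q := by
  let Rp := Localization.AtPrime p
  let Sp := Localization (Algebra.algebraMapSubmonoid S p.primeCompl)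
  let Sq := Localization.AtPrime q
  let := Localization.AtPrime.algebraOfLiesOver p q
  let f : Sp →ₐ[S] Sq := IsLocalization.liftAlgHom (M := Algebra.algebraMapSubmonoid S p.primeCompl)
        (f := Algebra.ofId _ _) (by
      rintro ⟨_, x, hx, rfl⟩
      simpa using! IsLocalization.map_units (M := q.primeCompl) Sq ⟨algebraMap _ _ x,
        by simp_all [q.over_def p]⟩)
  algebraize [f.toRingHom]
  have : IsScalarTower R Sp Sq := .to₁₃₄ _ S _ _
  have : IsScalarTower Rp Sp Sq := .of_algebraMap_eq' <| by
    apply IsLocalization.ringHom_ext p.primeCompl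
    simp only [RingHom.comp_assoc, ← IsScalarTower.algebraMap_eq]
  have : IsLocalization (Algebra.algebraMapSubmonoid Sp q.primeCompl) Sq :=
    .isLocalization_of_submonoid_le _ _ (Algebra.algebraMapSubmonoid S p.primeCompl) _
    (by rintro _ ⟨x, hx, rfl⟩; simp_all [q.over_def p])
  have : Algebra.FinitePresentation Rp Sp := by
    have : Algebra.IsPushout R Rp S Sp :=
      .symm <| Algebra.isPushout_of_isLocalization p.primeCompl _ _ _
    exact .equiv (Algebra.IsPushout.equiv R Rp S Sp)
  have : Module.Flat Rp Sq := hflat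
  have : Algebra.FormallySmooth 𝓀[Rp] (𝓀[Rp] ⊗[Rp] Sq) := hfib
  have := Algebra.FormallySmooth.of_formallySmooth_residueField_tensor
    (R := Rp) (S := Sq) (P := Sp) (Algebra.algebraMapSubmonoid _ q.primeCompl)
  exact .comp R Rp Sq

/-- If `π : S → T` is surjective with kernel `𝔪_R S`, and `R → S → T` factors as
`R ↠ K → T` with `K` a field and `K → T` formally smooth, then `κ(R) ⊗[R] S` is formally
smooth over `κ(R)`. -/
theorem formallySmooth_residueField_tensor_of_surjective
    {R S T K : Type*} [CommRing R] [IsLocalRing R] [CommRing S] [Algebra R S] [CommRing T]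
    [CommRing K] (hK : IsField K)
    (π : S →+* T) (hπ : Function.Surjective π)
    (hker : RingHom.ker π = (maximalIdeal R).map (algebraMap R S))
    (ρ : R →+* K) (hρ : Function.Surjective ρ) (χ : K →+* T) (hχ : χ.FormallySmooth)
    (hcomm : χ.comp ρ = π.comp (algebraMap R S)) :
    Algebra.FormallySmooth 𝓀[R] (𝓀[R] ⊗[R] S) := by
  have hkerρ : RingHom.ker ρ = maximalIdeal R := by
    apply IsLocalRing.eq_maximalIdeal
    apply Ideal.Quotient.maximal_of_isField
    exact MulEquiv.isField hK (RingHom.quotientKerEquivOfSurjective hρ).toMulEquiv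
  let θ : 𝓀[R] ≃+* K :=
    (Ideal.quotEquivOfEq hkerρ.symm).trans (RingHom.quotientKerEquivOfSurjective hρ)
  let e : (S ⧸ (maximalIdeal R).map (algebraMap R S)) ≃+* T :=
    (Ideal.quotEquivOfEq hker.symm).trans (RingHom.quotientKerEquivOfSurjective hπ)
  have h1 : Algebra.FormallySmooth (R ⧸ maximalIdeal R)
      (S ⧸ (maximalIdeal R).map (algebraMap R S)) := by
    rw [← RingHom.formallySmooth_algebraMap]
    have h2 : algebraMap (R ⧸ maximalIdeal R) (S ⧸ (maximalIdeal R).map (algebraMap R S)) =
        e.symm.toRingHom.comp (χ.comp θ.toRingHom) := by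
      apply Ideal.Quotient.ringHom_ext
      ext r
      have h0 : χ (ρ r) = π (algebraMap R S r) := congr($hcomm r)
      have hθ : θ (Ideal.Quotient.mk _ r) = ρ r := rfl
      have he : e (Ideal.Quotient.mk _ (algebraMap R S r)) = π (algebraMap R S r) := rfl
      change algebraMap (R ⧸ maximalIdeal R) (S ⧸ (maximalIdeal R).map (algebraMap R S))
        (Ideal.Quotient.mk _ r) = e.symm (χ (θ (Ideal.Quotient.mk _ r)))
      rw [RingEquiv.eq_symm_apply, hθ, h0, ← he]
      rfl
    rw [h2]
    exact (RingHom.FormallySmooth.of_bijective θ.bijective).comp hχ |>.comp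
      (RingHom.FormallySmooth.of_bijective e.symm.bijective)
  have h3 : Algebra.FormallySmooth (R ⧸ maximalIdeal R) ((R ⧸ maximalIdeal R) ⊗[R] S) :=
    Algebra.FormallySmooth.of_equiv
      (Algebra.TensorProduct.quotIdealMapEquivQuotTensor S (maximalIdeal R))
  exact h3

end Ring

end Groth.Agent.Lib.H80SmoothFiber
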