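import Mathlib

/-!
# Descent of (formal) unramifiedness along a flat local homomorphism (helper45)

`A → B → C` local homomorphisms of local rings, `A → C` formally unramified and essentially of finite
type, `A → B` essentially of finite type, `B → C` flat. Then `A → B` is formally unramified.
-/

set_option autoImplicit false
universe u
open IsLocalRing

namespace Groth.Agent.Lib.UnramDescend45

theorem formallyUnramified_of_comp_of_flat (A B C : Type*) [CommRing A] [CommRing B] [CommRing C]
    [Algebra A B] [Algebra B C] [Algebra A C] [IsScalarTower A B C]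
    [IsLocalRing A] [IsLocalRing B] [IsLocalRing C]
    [IsLocalHom (algebraMap A B)] [IsLocalHom (algebraMap B C)]
    [Algebra.EssFiniteType A B] [Algebra.EssFiniteType A C]
    [Algebra.FormallyUnramified A C] [Module.Flat B C] : Algebra.FormallyUnramified A B := by
  have hloc : IsLocalHom (algebraMap A C) := by
    rw [IsScalarTower.algebraMap_eq A B C]
    exact RingHom.isLocalHom_comp _ _
  have hff : Module.FaithfullyFlat B C := Module.FaithfullyFlat.of_flat_of_isLocalHom
  have hC : (maximalIdeal A).map (algebraMap A C) = maximalIdeal C :=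
    Algebra.FormallyUnramified.map_maximalIdeal
  have hsepC : Algebra.IsSeparable (ResidueField A) (ResidueField C) := inferInstance
  have hsepB : Algebra.IsSeparable (ResidueField A) (ResidueField B) :=
    Algebra.isSeparable_tower_bot_of_isSeparable _ _ (ResidueField C)
  apply Algebra.FormallyUnramified.of_map_maximalIdeal
  have h1 : (maximalIdeal A).map (algebraMap A B) ≤ maximalIdeal B :=
    ((local_hom_TFAE (algebraMap A B)).out 0 2 rfl rfl).mp ‹_›
  have h2 : ((maximalIdeal A).map (algebraMap A B)).map (algebraMap B C) =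
      (maximalIdeal B).map (algebraMap B C) := by
    apply le_antisymm (Ideal.map_mono h1)
    rw [Ideal.map_map, ← IsScalarTower.algebraMap_eq, hC]
    exact ((local_hom_TFAE (algebraMap B C)).out 0 2 rfl rfl).mp ‹_›
  have h3 := congrArg (Ideal.comap (algebraMap B C)) h2
  rwa [Ideal.comap_map_eq_self_of_faithfullyFlat, Ideal.comap_map_eq_self_of_faithfullyFlat] at h3

end Groth.Agent.Lib.UnramDescend45

namespace Groth.Agent.Lib.UnramDescend45

/-- `RingHom` version of `formallyUnramified_of_comp_of_flat`. -/
theorem ringHom_formallyUnramified_of_comp_of_flat {A B C : Type u} [CommRing A] [CommRing B]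
    [CommRing C] [IsLocalRing A] [IsLocalRing B] [IsLocalRing C]
    (f : A →+* B) (g : B →+* C) [IsLocalHom f] [IsLocalHom g] (hf : f.EssFiniteType)
    (hgf : (g.comp f).EssFiniteType) (hu : (g.comp f).FormallyUnramified) (hg : g.Flat) :
    f.FormallyUnramified := by
  algebraize_only [f, g, g.comp f]
  have : IsLocalHom (algebraMap A B) := ‹IsLocalHom f›
  have : IsLocalHom (algebraMap B C) := ‹IsLocalHom g›
  have : Algebra.EssFiniteType A B := hf
  have : Algebra.EssFiniteType A C := hgf
  have : Algebra.FormallyUnramified A C := hu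
  have : Module.Flat B C := hg
  exact formallyUnramified_of_comp_of_flat A B C

open AlgebraicGeometry CategoryTheory

variable {X Y S : Scheme.{u}}

/-- If `h` is formally unramified on an open neighbourhood of `x`, its stalk map at `x` is formally
unramified. -/
theorem stalkMap_formallyUnramified_of_nhd (h : X ⟶ S) (x : X) (U : X.Opens) (hx : x ∈ U)
    [FormallyUnramified (U.ι ≫ h)] : (h.stalkMap x).hom.FormallyUnramified := by
  have h1 := FormallyUnramified.stalkMap (U.ι ≫ h) ⟨x, hx⟩
  rw [Scheme.Hom.stalkMap_comp] at h1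
  exact (RingHom.FormallyUnramified.respectsIso.cancel_right_isIso (h.stalkMap (U.ι ⟨x, hx⟩))
    (U.ι.stalkMap ⟨x, hx⟩)).mp h1

lemma formallyUnramified_stalkMap_iff {f : X ⟶ Y} {x : X} (U : Y.Opens)
    (hU : IsAffineOpen U) (V : X.Opens) (hV : IsAffineOpen V) (hVU : V ≤ f ⁻¹ᵁ U)
    (hx : x ∈ V) :
    letI := (f.appLE U V hVU).hom.toAlgebra
    (f.stalkMap x).hom.FormallyUnramified ↔
      Algebra.IsUnramifiedAt Γ(Y, U) (hV.primeIdealOf ⟨x, hx⟩).asIdeal := by
  let := (f.appLE U V hVU).hom.toAlgebra
  let p := (hU.primeIdealOf ⟨f x, hVU hx⟩).asIdeal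
  let q := (hV.primeIdealOf ⟨x, hx⟩).asIdeal
  have : q.LiesOver p :=
    ⟨congr($(IsAffineOpen.comap_primeIdealOf_appLE U hU V hV hVU hx).1).symm⟩
  let := Localization.AtPrime.algebraOfLiesOver p q
  trans Algebra.FormallyUnramified (Localization.AtPrime p) (Localization.AtPrime q)
  · rw [← RingHom.formallyUnramified_algebraMap]
    exact RingHom.FormallyUnramified.respectsIso.arrow_mk_iso_iff
      (IsAffineOpen.arrowStalkMapIso f U hU V hV hVU hx)
  · exact ⟨fun _ ↦ Algebra.FormallyUnramified.comp _ (Localization.AtPrime p) _,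
      fun _ ↦ .of_restrictScalars Γ(Y, U) _ _⟩

set_option backward.defeqAttrib.useBackward true in
set_option backward.isDefEq.respectTransparency false in
lemma exists_appLE_formallyUnramified_of_stalk
    (f : X ⟶ Y) [LocallyOfFiniteType f]
    (x : X) (H : (f.stalkMap x).hom.FormallyUnramified) :
    ∃ (U : Y.Opens) (_ : IsAffineOpen U) (V : X.Opens) (_ : IsAffineOpen V) (hVU : V ≤ f ⁻¹ᵁ U),
      x ∈ V ∧ (f.appLE U V hVU).hom.FormallyUnramified := by
  obtain ⟨_, ⟨U, hU, rfl⟩, hxU, -⟩ :=
    Y.isBasis_affineOpens.exists_subset_of_mem_open (Set.mem_univ (f x)) isOpen_univ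
  obtain ⟨_, ⟨V, hV, rfl⟩, hxV, hVU⟩ :=
    X.isBasis_affineOpens.exists_subset_of_mem_open hxU (U.2.preimage f.continuous)
  have := f.finiteType_appLE hU hV hVU
  algebraize [(f.appLE U V hVU).hom]
  have : Algebra.IsUnramifiedAt _ _ := (formallyUnramified_stalkMap_iff U hU V hV hVU hxV).mp H
  obtain ⟨r, hrx, hr⟩ := Algebra.exists_formallyUnramified_of_isUnramifiedAt (R := Γ(Y, U))
    (hV.primeIdealOf ⟨x, hxV⟩).asIdeal
  refine ⟨_, hU, _, hV.basicOpen r, (X.basicOpen_le r).trans hVU, ?_, ?_⟩
  · rwa [← PrimeSpectrum.mem_basicOpen, IsAffineOpen.primeIdealOf,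
      ← hV.fromSpec_preimage_basicOpen, Scheme.Hom.mem_preimage, ← Scheme.Hom.comp_apply,
      IsAffineOpen.isoSpec_hom, IsAffineOpen.toSpecΓ_fromSpec] at hrx
  · have := hV.isLocalization_basicOpen r
    rw [← RingHom.formallyUnramified_algebraMap] at hr
    convert!
      RingHom.FormallyUnramified.respectsIso.1 _
        (IsLocalization.algEquiv (.powers r) _ Γ(X, X.basicOpen r)).toRingEquiv hr
    ext
    dsimp
    simp only [IsScalarTower.algebraMap_apply Γ(Y, U) Γ(X, V) (Localization _),
      IsLocalization.map_eq]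
    simp only [RingHom.algebraMap_toAlgebra, RingHomCompTriple.comp_apply,
      ← ConcreteCategory.comp_apply, Scheme.Hom.appLE_map]

/-- If the stalk map at `x` is formally unramified (and `f` is locally of finite type), then `f` is
formally unramified on an open neighbourhood of `x`. -/
theorem exists_nhd_formallyUnramified_of_stalk (f : X ⟶ Y) [LocallyOfFiniteType f]
    (x : X) (H : (f.stalkMap x).hom.FormallyUnramified) :
    ∃ V : X.Opens, x ∈ V ∧ FormallyUnramified (V.ι ≫ f) := by
  obtain ⟨U, hU, V, hV, hVU, hxV, H⟩ := exists_appLE_formallyUnramified_of_stalk f x H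
  refine ⟨V, hxV, ?_⟩
  have : IsAffine _ := hU
  have : IsAffine _ := hV
  have h1 : FormallyUnramified (f.resLE U V hVU) := by
    rw [HasRingHomProperty.iff_of_isAffine (P := @FormallyUnramified)]
    exact (RingHom.FormallyUnramified.respectsIso.arrow_mk_iso_iff
      (arrowResLEAppIso f U V hVU)).mpr H
  rw [← Scheme.Hom.resLE_comp_ι f hVU]
  have h2 : FormallyUnramified U.ι := inferInstance
  exact MorphismProperty.comp_mem _ _ _ h1 h2

end Groth.Agent.Lib.UnramDescend45
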