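import Mathlib
import Groth.Agent.Lib.UnramDescend45
import Groth.Agent.Lib.H80SmoothFiber

/-!
# Étale neighbourhoods from stalk conditions, and descent along flat local homomorphisms (helper45)
-/

set_option autoImplicit false
universe u
open IsLocalRing TensorProduct

namespace Groth.Agent.Lib.EtaleDescend45

/-- If `C` is `A`-flat and faithfully flat over the `A`-algebra `B`, then `B` is `A`-flat. -/
theorem flat_of_flat_of_faithfullyFlat (A B C : Type u) [CommRing A] [CommRing B] [CommRing C]
    [Algebra A B] [Algebra B C] [Algebra A C] [IsScalarTower A B C]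
    [Module.Flat A C] [Module.FaithfullyFlat B C] : Module.Flat A B := by
  rw [Module.Flat.iff_lTensor_preserves_injective_linearMap]
  intro N N' _ _ _ _ f hf
  have h1 : Function.Injective (TensorProduct.AlgebraTensorModule.lTensor B B f) →
      Function.Injective (f.lTensor B) := fun h => h
  apply h1
  rw [← Module.FaithfullyFlat.lTensor_injective_iff_injective B C]
  have h2 := TensorProduct.AlgebraTensorModule.lTensor_comp_cancelBaseChange
    (R := A) (A := B) (B := C) (M := C) f
  have h3 : Function.Injective (TensorProduct.AlgebraTensorModule.lTensor C C f) :=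
    Module.Flat.lTensor_preserves_injective_linearMap (M := C) f hf
  have h4 : Function.Injective
      ((TensorProduct.AlgebraTensorModule.cancelBaseChange A B C C N').toLinearMap ∘ₗ
      TensorProduct.AlgebraTensorModule.lTensor C C
        (TensorProduct.AlgebraTensorModule.lTensor B B f)) := by
    rw [← h2]
    exact h3.comp (TensorProduct.AlgebraTensorModule.cancelBaseChange A B C C N).injective
  intro a b hab
  apply h4
  change (TensorProduct.AlgebraTensorModule.cancelBaseChange A B C C N')
    ((LinearMap.lTensor C ((AlgebraTensorModule.lTensor B B) f)) a) =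
    (TensorProduct.AlgebraTensorModule.cancelBaseChange A B C C N')
    ((LinearMap.lTensor C ((AlgebraTensorModule.lTensor B B) f)) b)
  rw [hab]

/-- `RingHom` version for local rings. -/
theorem ringHom_flat_of_comp_of_flat {A B C : Type u} [CommRing A] [CommRing B]
    [CommRing C] [IsLocalRing B] [IsLocalRing C]
    (f : A →+* B) (g : B →+* C) [IsLocalHom g]
    (hgf : (g.comp f).Flat) (hg : g.Flat) : f.Flat := by
  algebraize_only [f, g, g.comp f]
  have : IsLocalHom (algebraMap B C) := ‹IsLocalHom g›
  have : Module.Flat A C := hgf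
  have : Module.Flat B C := hg
  have : Module.FaithfullyFlat B C := Module.FaithfullyFlat.of_flat_of_isLocalHom
  exact flat_of_flat_of_faithfullyFlat A B C

/-- The closed fibre of a formally unramified local homomorphism (essentially of finite type) is
formally smooth over the residue field. -/
theorem formallySmooth_fiber_of_formallyUnramified (R S : Type*) [CommRing R] [CommRing S]
    [Algebra R S] [IsLocalRing R] [IsLocalRing S] [IsLocalHom (algebraMap R S)]
    [Algebra.EssFiniteType R S] [Algebra.FormallyUnramified R S] :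
    Algebra.FormallySmooth (ResidueField R) (ResidueField R ⊗[R] S) := by
  refine Groth.Agent.Lib.H80SmoothFiber.formallySmooth_residueField_tensor_of_surjective
    (K := ResidueField R) (T := ResidueField S) (Field.toIsField _) (residue S)
    residue_surjective ?_ (residue R) residue_surjective
    (algebraMap (ResidueField R) (ResidueField S)) ?_ ?_
  · rw [ker_residue, Algebra.FormallyUnramified.map_maximalIdeal]
  · rw [RingHom.formallySmooth_algebraMap]
    have : Algebra.FormallyEtale (ResidueField R) (ResidueField S) :=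
      Algebra.FormallyEtale.of_isSeparable _ _
    infer_instance
  · ext r
    simp

open AlgebraicGeometry CategoryTheory

variable {X Y : Scheme.{u}}

/-- Flat + formally unramified stalk map (for `f` locally of finite presentation) implies smooth at
the point. -/
theorem mem_smoothLocus_of_flat_of_formallyUnramified (f : X ⟶ Y)
    [LocallyOfFinitePresentation f] (x : X) (hfl : (f.stalkMap x).hom.Flat)
    (hun : (f.stalkMap x).hom.FormallyUnramified) : x ∈ f.smoothLocus := by
  obtain ⟨_, ⟨U, hU, rfl⟩, hxU, -⟩ :=
    Y.isBasis_affineOpens.exists_subset_of_mem_open (Set.mem_univ (f x)) isOpen_univ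
  obtain ⟨_, ⟨V, hV, rfl⟩, hxV, hVU⟩ :=
    X.isBasis_affineOpens.exists_subset_of_mem_open hxU (U.2.preimage f.continuous)
  have := f.finitePresentation_appLE hU hV hVU
  algebraize [(f.appLE U V hVU).hom]
  rw [Scheme.Hom.mem_smoothLocus, formallySmooth_stalkMap_iff U hU V hV hVU hxV]
  let p := (hU.primeIdealOf ⟨f x, hVU hxV⟩).asIdeal
  let q := (hV.primeIdealOf ⟨x, hxV⟩).asIdeal
  have : q.LiesOver p :=
    ⟨congr($(IsAffineOpen.comap_primeIdealOf_appLE U hU V hV hVU hxV).1).symm⟩
  change Algebra.IsSmoothAt Γ(Y, U) q
  let _ := Localization.AtPrime.algebraOfLiesOver p q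
  have hfl' : Module.Flat (Localization.AtPrime p) (Localization.AtPrime q) := by
    rw [← RingHom.flat_algebraMap_iff]
    exact (RingHom.Flat.respectsIso.arrow_mk_iso_iff
      (IsAffineOpen.arrowStalkMapIso f U hU V hV hVU hxV)).mp hfl
  have hun' : Algebra.FormallyUnramified (Localization.AtPrime p) (Localization.AtPrime q) := by
    rw [← RingHom.formallyUnramified_algebraMap]
    exact (RingHom.FormallyUnramified.respectsIso.arrow_mk_iso_iff
      (IsAffineOpen.arrowStalkMapIso f U hU V hV hVU hxV)).mp hun
  have hess : Algebra.EssFiniteType (Localization.AtPrime p) (Localization.AtPrime q) :=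
    .of_comp Γ(Y, U) _ _
  have hloc : IsLocalHom (algebraMap (Localization.AtPrime p) (Localization.AtPrime q)) :=
    Localization.isLocalHom_localRingHom _ _ _ Ideal.LiesOver.over
  exact Groth.Agent.Lib.H80SmoothFiber.isSmoothAt_of_flat_of_fiber p q hfl'
    (formallySmooth_fiber_of_formallyUnramified _ _)

/-- Flat + formally unramified stalk map implies étale on an open neighbourhood. -/
theorem exists_nhd_etale_of_stalk (f : X ⟶ Y) [LocallyOfFinitePresentation f] (x : X)
    (hfl : (f.stalkMap x).hom.Flat) (hun : (f.stalkMap x).hom.FormallyUnramified) :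
    ∃ V : X.Opens, x ∈ V ∧ Etale (V.ι ≫ f) := by
  have hsm := mem_smoothLocus_of_flat_of_formallyUnramified f x hfl hun
  obtain ⟨V₁, hxV₁, hV₁⟩ :=
    Groth.Agent.Lib.UnramDescend45.exists_nhd_formallyUnramified_of_stalk f x hun
  refine ⟨f.smoothLocus ⊓ V₁, ⟨hsm, hxV₁⟩, ?_⟩
  have h1 : Smooth ((f.smoothLocus ⊓ V₁).ι ≫ f) := by
    rw [← Scheme.Hom.smoothLocus_eq_top_iff, ← Scheme.Hom.preimage_smoothLocus_eq]
    rw [← top_le_iff]
    rintro y -
    exact y.2.1
  have h2 : FormallyUnramified ((f.smoothLocus ⊓ V₁).ι ≫ f) := by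
    rw [← X.homOfLE_ι (inf_le_right : f.smoothLocus ⊓ V₁ ≤ V₁), Category.assoc]
    have h3 : FormallyUnramified (X.homOfLE (inf_le_right : f.smoothLocus ⊓ V₁ ≤ V₁)) :=
      inferInstance
    exact MorphismProperty.comp_mem _ _ _ h3 hV₁
  have h4 : Flat ((f.smoothLocus ⊓ V₁).ι ≫ f) := inferInstance
  exact Etale.of_formallyUnramified_of_flat _

/-- If `h` is flat on an open neighbourhood of `x`, its stalk map at `x` is flat. -/
theorem stalkMap_flat_of_nhd {S : Scheme.{u}} (h : X ⟶ S) (x : X) (U : X.Opens) (hx : x ∈ U)
    [Flat (U.ι ≫ h)] : (h.stalkMap x).hom.Flat := by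
  have h1 := Flat.stalkMap (U.ι ≫ h) ⟨x, hx⟩
  rw [Scheme.Hom.stalkMap_comp] at h1
  exact (RingHom.Flat.respectsIso.cancel_right_isIso (h.stalkMap (U.ι ⟨x, hx⟩))
    (U.ι.stalkMap ⟨x, hx⟩)).mp h1

end Groth.Agent.Lib.EtaleDescend45
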