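import Groth.Agent.Lib.UnramifiedLocusBC
import Groth.Agent.Lib.EtaleDescend45

/-!
# Pointwise flatness and base change; descent of étale neighbourhoods along a base change that is
flat at a point (helper37)

* `flat_localization_of_isPushout` (ring level): `B = S ⊗[R] A`, `q` over `p ⊂ S`, `S_p` flat over
  `R` implies `B_q` flat over `A`.
* `flat_stalkMap_fst_of_isPullback`: in a pullback square, if `g` is flat at `snd p` then `fst` is
  flat at `p`.
* `flat_stalkMap_of_isPullback`: descent of pointwise flatness along such a base change.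
* `exists_nhds_etale_of_isPullback_of_flat`: EGA IV 17.7.1-type descent of étale neighbourhoods.
-/

set_option autoImplicit false
universe u

open CategoryTheory Limits AlgebraicGeometry

namespace Groth.Agent.Lib.EtaleLocusBC

open Algebra in
/-- Pointwise base change of flatness: if `B = S ⊗[R] A`, `q` is a prime of `B` over the prime `p` of
`S` and `S_p` is flat over `R`, then `B_q` is flat over `A`. -/
theorem flat_localization_of_isPushout (R S A B : Type*) [CommRing R] [CommRing S]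
    [Algebra R S] [CommRing A] [CommRing B] [Algebra R A] [Algebra R B] [Algebra A B] [Algebra S B]
    [IsScalarTower R A B] [IsScalarTower R S B] [Algebra.IsPushout R S A B]
    (p : Ideal S) [p.IsPrime] (q : Ideal B) [q.IsPrime] [q.LiesOver p]
    [Module.Flat R (Localization.AtPrime p)] : Module.Flat A (Localization.AtPrime q) := by
  let Sp := Localization.AtPrime p
  let Bp := Localization (algebraMapSubmonoid B p.primeCompl)
  let Bq := Localization.AtPrime q
  let f : Bp →ₐ[B] Bq := IsLocalization.liftAlgHom (M := algebraMapSubmonoid B p.primeCompl)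
        (f := Algebra.ofId _ _) (by
      rintro ⟨_, x, hx, rfl⟩
      simpa using! IsLocalization.map_units (M := q.primeCompl) Bq ⟨algebraMap _ _ x,
        by simp_all [q.over_def p]⟩)
  algebraize [f.toRingHom]
  have : IsScalarTower A Bp Bq := .to₁₃₄ _ B _ _
  have : IsLocalization (algebraMapSubmonoid Bp q.primeCompl) Bq :=
    .isLocalization_of_submonoid_le _ _ (algebraMapSubmonoid B p.primeCompl) _
    (by rintro _ ⟨x, hx, rfl⟩; simp_all [q.over_def p])
  have : IsScalarTower R Sp Bp := .to₁₃₄ R S Sp Bp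
  have h1 : Algebra.IsPushout S Sp B Bp :=
    .symm <| Algebra.isPushout_of_isLocalization p.primeCompl _ _ _
  have h2 : Algebra.IsPushout R Sp A Bp := (Algebra.IsPushout.comp_iff R S A B).mpr h1
  have h3 : Algebra.IsPushout R A Sp Bp := h2.symm
  have h4 : Module.Flat A Bp := Module.Flat.isBaseChange R A Sp Bp h3.out
  have h5 : Module.Flat Bp Bq := IsLocalization.flat Bq (algebraMapSubmonoid Bp q.primeCompl)
  exact Module.Flat.trans A Bp Bq

/-- On affine charts, flatness of the stalk map of `f` at `x` is flatness of the localization at the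
prime of `x` over the base ring. -/
lemma flat_stalkMap_iff {X Y : Scheme.{u}} {f : X ⟶ Y} {x : X} (U : Y.Opens)
    (hU : IsAffineOpen U) (V : X.Opens) (hV : IsAffineOpen V) (hVU : V ≤ f ⁻¹ᵁ U)
    (hx : x ∈ V) :
    letI := (f.appLE U V hVU).hom.toAlgebra
    (f.stalkMap x).hom.Flat ↔
      Module.Flat Γ(Y, U) (Localization.AtPrime (hV.primeIdealOf ⟨x, hx⟩).asIdeal) := by
  let := (f.appLE U V hVU).hom.toAlgebra
  let p := (hU.primeIdealOf ⟨f x, hVU hx⟩).asIdeal
  let q := (hV.primeIdealOf ⟨x, hx⟩).asIdeal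
  have : q.LiesOver p :=
    ⟨congr($(IsAffineOpen.comap_primeIdealOf_appLE U hU V hV hVU hx).1).symm⟩
  let := Localization.AtPrime.algebraOfLiesOver p q
  trans Module.Flat (Localization.AtPrime p) (Localization.AtPrime q)
  · rw [← RingHom.flat_algebraMap_iff]
    exact RingHom.Flat.respectsIso.arrow_mk_iso_iff
      (IsAffineOpen.arrowStalkMapIso f U hU V hV hVU hx)
  · exact Module.flat_iff_of_isLocalization (Localization.AtPrime p) p.primeCompl _

/-- In a pullback square, if `g` is flat at `snd p` then `fst` is flat at `p`. -/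
theorem flat_stalkMap_fst_of_isPullback {P X Y Z : Scheme.{u}} {fst : P ⟶ X}
    {snd : P ⟶ Y} {f : X ⟶ Z} {g : Y ⟶ Z} (h : IsPullback fst snd f g) (p : P)
    (hg : (g.stalkMap (snd p)).hom.Flat) : (fst.stalkMap p).hom.Flat := by
  obtain ⟨_, ⟨V, hV, rfl⟩, hzV, -⟩ :=
    Z.isBasis_affineOpens.exists_subset_of_mem_open (Set.mem_univ (f (fst p))) isOpen_univ
  obtain ⟨_, ⟨W, hW, rfl⟩, hxW, hWV⟩ :=
    X.isBasis_affineOpens.exists_subset_of_mem_open hzV (V.2.preimage f.continuous)
  have hg' : g (snd p) ∈ V := by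
    have : g (snd p) = f (fst p) := by
      rw [← Scheme.Hom.comp_apply, ← h.w, Scheme.Hom.comp_apply]
    rw [this]; exact hzV
  obtain ⟨_, ⟨V', hV', rfl⟩, hyV', hV'V⟩ :=
    Y.isBasis_affineOpens.exists_subset_of_mem_open hg' (V.2.preimage g.continuous)
  let W' : P.Opens := fst ⁻¹ᵁ W ⊓ snd ⁻¹ᵁ V'
  have hpW' : p ∈ W' := ⟨hxW, hyV'⟩
  have hW' : IsAffineOpen W' := by
    have : IsAffine V := hV
    have : IsAffine V' := hV'
    have : IsAffine W := hW
    exact .of_isIso (Scheme.Hom.isPullback_resLE h hV'V hWV rfl).isoPullback.hom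
  have hW'W : W' ≤ fst ⁻¹ᵁ W := inf_le_left
  have hW'V' : W' ≤ snd ⁻¹ᵁ V' := inf_le_right
  have hpo : IsPushout (f.appLE V W hWV) (g.appLE V V' hV'V) (fst.appLE W W' hW'W)
      (snd.appLE V' W' hW'V') :=
    (isIso_pushoutSection_iff h hV'V hWV rfl).mp
      (isIso_pushoutSection_of_isAffineOpen h hV'V hWV rfl hV hV' hW)
  rw [flat_stalkMap_iff W hW W' hW' hW'W hpW']
  rw [flat_stalkMap_iff V hV V' hV' hV'V hyV'] at hg
  let := (f.appLE V W hWV).hom.toAlgebra
  let := (g.appLE V V' hV'V).hom.toAlgebra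
  let := (fst.appLE W W' hW'W).hom.toAlgebra
  let := (snd.appLE V' W' hW'V').hom.toAlgebra
  let : Algebra Γ(Z, V) Γ(P, W') := ((f.appLE V W hWV) ≫ (fst.appLE W W' hW'W)).hom.toAlgebra
  have : IsScalarTower Γ(Z, V) Γ(X, W) Γ(P, W') := .of_algebraMap_eq' rfl
  have : IsScalarTower Γ(Z, V) Γ(Y, V') Γ(P, W') := .of_algebraMap_eq' congr(($hpo.w).hom)
  have : Algebra.IsPushout Γ(Z, V) Γ(Y, V') Γ(X, W) Γ(P, W') :=
    CommRingCat.isPushout_iff_isPushout.mp hpo.flip
  have : (hW'.primeIdealOf ⟨p, hpW'⟩).asIdeal.LiesOver (hV'.primeIdealOf ⟨snd p, hyV'⟩).asIdeal :=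
    ⟨congr($(IsAffineOpen.comap_primeIdealOf_appLE V' hV' W' hW' hW'V' hpW').1).symm⟩
  have : Module.Flat Γ(Z, V) (Localization.AtPrime (hV'.primeIdealOf ⟨snd p, hyV'⟩).asIdeal) := hg
  exact flat_localization_of_isPushout Γ(Z, V) Γ(Y, V') Γ(X, W) Γ(P, W')
    (hV'.primeIdealOf ⟨snd p, hyV'⟩).asIdeal (hW'.primeIdealOf ⟨p, hpW'⟩).asIdeal

theorem flat_stalkMap_congr {P Y : Scheme.{u}} {a b : P ⟶ Y} (e : a = b) (p : P) :
    (a.stalkMap p).hom.Flat ↔ (b.stalkMap p).hom.Flat := by
  subst e; rfl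

/-- Descent of pointwise flatness along a base change `g` that is flat at `snd p`. -/
theorem flat_stalkMap_of_isPullback {P X Y Z : Scheme.{u}} {fst : P ⟶ X}
    {snd : P ⟶ Y} {f : X ⟶ Z} {g : Y ⟶ Z} (h : IsPullback fst snd f g) (p : P)
    (hg : (g.stalkMap (snd p)).hom.Flat) (hsnd : (snd.stalkMap p).hom.Flat) :
    (f.stalkMap (fst p)).hom.Flat := by
  have h1 : ((snd ≫ g).stalkMap p).hom.Flat := by
    rw [Scheme.Hom.stalkMap_comp]
    exact RingHom.Flat.comp hg hsnd
  have h2 : ((fst ≫ f).stalkMap p).hom.Flat := (flat_stalkMap_congr h.w p).mpr h1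
  rw [Scheme.Hom.stalkMap_comp] at h2
  replace h2 : ((fst.stalkMap p).hom.comp (f.stalkMap (fst p)).hom).Flat := h2
  have hfst := flat_stalkMap_fst_of_isPullback h p hg
  exact Groth.Agent.Lib.EtaleDescend45.ringHom_flat_of_comp_of_flat
    (f.stalkMap (fst p)).hom (fst.stalkMap p).hom h2 hfst

/-- Descent of étale neighbourhoods along a base change `g` that is flat at the image point
(EGA IV 17.7.1 (ii), étale case). -/
theorem exists_nhds_etale_of_isPullback_of_flat {P X Y Z : Scheme.{u}} {fst : P ⟶ X}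
    {snd : P ⟶ Y} {f : X ⟶ Z} {g : Y ⟶ Z} (h : IsPullback fst snd f g)
    [LocallyOfFinitePresentation f] (p : P) (hg : (g.stalkMap (snd p)).hom.Flat)
    (hp : ∃ U' : P.Opens, p ∈ U' ∧ Etale (U'.ι ≫ snd)) :
    ∃ U : X.Opens, fst p ∈ U ∧ Etale (U.ι ≫ f) := by
  obtain ⟨U', hpU', hU'⟩ := hp
  have : LocallyOfFiniteType snd := MorphismProperty.of_isPullback h inferInstance
  have hfl : (snd.stalkMap p).hom.Flat :=
    Groth.Agent.Lib.EtaleDescend45.stalkMap_flat_of_nhd snd p U' hpU'
  have hun : (snd.stalkMap p).hom.FormallyUnramified :=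
    (Groth.Agent.Lib.UnramifiedLocusBC.exists_nhds_formallyUnramified_iff snd p).mp
      ⟨U', hpU', inferInstance⟩
  exact Groth.Agent.Lib.EtaleDescend45.exists_nhd_etale_of_stalk f (fst p)
    (flat_stalkMap_of_isPullback h p hg hfl)
    ((Groth.Agent.Lib.UnramifiedLocusBC.formallyUnramified_stalkMap_iff_of_isPullback h p).mp hun)

end Groth.Agent.Lib.EtaleLocusBC
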