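import Mathlib.AlgebraicGeometry.Fiber
import Mathlib.AlgebraicGeometry.Stalk
import Mathlib.AlgebraicGeometry.ResidueField
import Mathlib.AlgebraicGeometry.Morphisms.Preimmersion
import Mathlib.RingTheory.Ideal.Quotient.Operations
import Mathlib.Tactic

/-!
# The local ring of a fibre (helper33)

For `f : X ⟶ S` and `x : X`, the stalk of the scheme-theoretic fibre `f.fiber (f x)` at the point
`f.asFiber x` is `𝒪_{X,x} ⧸ 𝔪_{f x} 𝒪_{X,x}`.
-/

set_option autoImplicit false
universe u

open AlgebraicGeometry CategoryTheory Limits IsLocalRing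

namespace Groth.Agent.Lib.FibreStalk33

variable {X S : Scheme.{u}} (f : X ⟶ S)

section General

variable (s : S) (z : f.fiber s)

/-- The structure morphism `Spec 𝒪_{F,z} ⟶ Spec κ(s)` is `Spec` of a ring map. -/
noncomputable def resToStalk : S.residueField s ⟶ (f.fiber s).presheaf.stalk z :=
  Spec.preimage ((f.fiber s).fromSpecStalk z ≫ f.fiberToSpecResidueField s)

lemma SpecMap_resToStalk :
    Spec.map (resToStalk f s z) = (f.fiber s).fromSpecStalk z ≫ f.fiberToSpecResidueField s :=
  Spec.map_preimage _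

lemma morphism_eq :
    Spec.map (f.stalkMap (f.fiberι s z) ≫ (f.fiberι s).stalkMap z) ≫
        S.fromSpecStalk (f (f.fiberι s z)) =
      Spec.map (S.residue s ≫ resToStalk f s z) ≫ S.fromSpecStalk s := by
  rw [Spec.map_comp, Category.assoc, Scheme.SpecMap_stalkMap_fromSpecStalk,
    Scheme.SpecMap_stalkMap_fromSpecStalk_assoc, Scheme.Hom.fiber_fac, Spec.map_comp,
    SpecMap_resToStalk, Category.assoc, Category.assoc]
  rfl

instance : IsLocalHom (resToStalk f s z).hom := by
  have : IsLocalHom ((resToStalk f s z).hom : S.residueField s →+* _) := inferInstance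
  exact this

instance : IsLocalHom (S.residue s ≫ resToStalk f s z).hom := by
  have h1 : IsLocalHom (S.residue s).hom :=
    inferInstanceAs (IsLocalHom (IsLocalRing.residue (S.presheaf.stalk s)))
  exact CommRingCat.isLocalHom_comp _ _

lemma exists_stalkMap_eq :
    ∃ h : f (f.fiberι s z) = s,
      f.stalkMap (f.fiberι s z) ≫ (f.fiberι s).stalkMap z =
        (S.presheaf.stalkCongr (.of_eq h)).hom ≫ S.residue s ≫ resToStalk f s z := by
  have h := morphism_eq f s z
  have key := (SpecToEquivOfLocalRing S ((f.fiber s).presheaf.stalk z)).symm.injective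
    (a₁ := ⟨f (f.fiberι s z), f.stalkMap (f.fiberι s z) ≫ (f.fiberι s).stalkMap z, inferInstance⟩)
    (a₂ := ⟨s, S.residue s ≫ resToStalk f s z, inferInstance⟩) h
  obtain ⟨h₁, h₂⟩ := SpecToEquivOfLocalRing_eq_iff.mp key
  exact ⟨h₁, h₂⟩

/-- Elements of the maximal ideal of the base local ring die in the local ring of the fibre. -/
lemma stalkMap_eq_zero_of_mem_maximalIdeal (a : S.presheaf.stalk (f (f.fiberι s z)))
    (ha : a ∈ maximalIdeal (S.presheaf.stalk (f (f.fiberι s z)))) :
    (f.fiberι s).stalkMap z (f.stalkMap (f.fiberι s z) a) = 0 := by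
  obtain ⟨h, e⟩ := exists_stalkMap_eq f s z
  have e' := congr($e a)
  simp only [CommRingCat.comp_apply] at e'
  rw [e']
  have hloc : IsLocalHom (S.presheaf.stalkCongr (.of_eq h)).hom.hom :=
    isLocalHom_of_isIso _
  have hmem : (S.presheaf.stalkCongr (.of_eq h)).hom a ∈ maximalIdeal (S.presheaf.stalk s) := by
    rw [mem_maximalIdeal, mem_nonunits_iff] at ha ⊢
    intro hu
    exact ha ((isUnit_map_iff (S.presheaf.stalkCongr (.of_eq h)).hom.hom a).mp hu)
  have hres : S.residue s ((S.presheaf.stalkCongr (.of_eq h)).hom a) = 0 :=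
    (IsLocalRing.residue_eq_zero_iff _).mpr hmem
  rw [hres, map_zero]

end General

section Point

variable (x : X)

/-- The ideal `𝔪_{f x} 𝒪_{X,x}` of the local ring of `X` at `x`. -/
noncomputable def fibreIdeal : Ideal (X.presheaf.stalk x) :=
  Ideal.map (f.stalkMap x).hom (maximalIdeal (S.presheaf.stalk (f x)))

lemma fibreIdeal_ne_top : fibreIdeal f x ≠ ⊤ :=
  (map_maximalIdeal_lt_top (f.stalkMap x).hom).ne

instance : Nontrivial (X.presheaf.stalk x ⧸ fibreIdeal f x) :=
  Ideal.Quotient.nontrivial_iff.mpr (fibreIdeal_ne_top f x)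

instance : IsLocalRing (X.presheaf.stalk x ⧸ fibreIdeal f x) :=
  IsLocalRing.of_surjective' (Ideal.Quotient.mk (fibreIdeal f x)) Ideal.Quotient.mk_surjective

/-- The quotient `𝒪_{X,x} ⧸ 𝔪_{f x} 𝒪_{X,x}` as an object of `CommRingCat`. -/
noncomputable abbrev Q : CommRingCat.{u} := CommRingCat.of (X.presheaf.stalk x ⧸ fibreIdeal f x)

/-- The quotient map. -/
noncomputable def q : X.presheaf.stalk x ⟶ Q f x :=
  CommRingCat.ofHom (Ideal.Quotient.mk (fibreIdeal f x))

instance : IsLocalHom (q f x).hom :=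
  IsLocalHom.of_surjective _ Ideal.Quotient.mk_surjective

/-- `κ(f x) ⟶ 𝒪_{X,x} ⧸ 𝔪_{f x} 𝒪_{X,x}`. -/
noncomputable def resToQ : S.residueField (f x) ⟶ Q f x :=
  CommRingCat.ofHom (Ideal.Quotient.lift (maximalIdeal (S.presheaf.stalk (f x)))
    ((Ideal.Quotient.mk (fibreIdeal f x)).comp (f.stalkMap x).hom) (by
      intro a ha
      rw [RingHom.comp_apply, Ideal.Quotient.eq_zero_iff_mem]
      exact Ideal.mem_map_of_mem _ ha))

lemma residue_resToQ : S.residue (f x) ≫ resToQ f x = f.stalkMap x ≫ q f x := by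
  ext a
  rfl

/-- `Spec (𝒪_{X,x} ⧸ 𝔪_{f x} 𝒪_{X,x}) ⟶ X`. -/
noncomputable def u : Spec (Q f x) ⟶ X := Spec.map (q f x) ≫ X.fromSpecStalk x

lemma u_comp : u f x ≫ f = Spec.map (resToQ f x) ≫ S.fromSpecResidueField (f x) := by
  rw [u, Category.assoc, ← Scheme.SpecMap_stalkMap_fromSpecStalk, ← Spec.map_comp_assoc,
    ← residue_resToQ, Spec.map_comp_assoc]
  rfl

/-- The induced morphism to the fibre. -/
noncomputable def g : Spec (Q f x) ⟶ f.fiber (f x) :=
  pullback.lift (u f x) (Spec.map (resToQ f x)) (u_comp f x)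

lemma g_fiberι : g f x ≫ f.fiberι (f x) = u f x := pullback.lift_fst _ _ _

set_option backward.isDefEq.respectTransparency false in
lemma u_closedPoint : u f x (closedPoint (Q f x)) = x := by
  rw [u, Scheme.Hom.comp_apply, Spec_closedPoint, Scheme.fromSpecStalk_closedPoint]

set_option backward.isDefEq.respectTransparency false in
lemma g_closedPoint : g f x (closedPoint (Q f x)) = f.asFiber x := by
  apply (f.fiberι (f x)).isEmbedding.injective
  rw [← Scheme.Hom.comp_apply, g_fiberι, u_closedPoint, Scheme.Hom.fiberι_asFiber]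

set_option backward.isDefEq.respectTransparency false in
lemma u_eq :
    Spec.map ((f.fiberι (f x)).stalkMap (g f x (closedPoint (Q f x))) ≫
        Scheme.stalkClosedPointTo (g f x)) ≫
      X.fromSpecStalk (f.fiberι (f x) (g f x (closedPoint (Q f x)))) =
    Spec.map (q f x) ≫ X.fromSpecStalk x := by
  rw [Spec.map_comp, Category.assoc, Scheme.SpecMap_stalkMap_fromSpecStalk,
    Scheme.Spec_stalkClosedPointTo_fromSpecStalk_assoc, g_fiberι]
  rfl

set_option backward.isDefEq.respectTransparency false in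
lemma exists_stalkClosedPointTo_eq :
    ∃ h : f.fiberι (f x) (g f x (closedPoint (Q f x))) = x,
      (f.fiberι (f x)).stalkMap (g f x (closedPoint (Q f x))) ≫
        Scheme.stalkClosedPointTo (g f x) =
      (X.presheaf.stalkCongr (.of_eq h)).hom ≫ q f x := by
  have h := u_eq f x
  have hloc : IsLocalHom ((f.fiberι (f x)).stalkMap (g f x (closedPoint (Q f x))) ≫
        Scheme.stalkClosedPointTo (g f x)).hom := by
    have h2 : IsLocalHom (Scheme.stalkClosedPointTo (g f x)).hom :=
      Scheme.isLocalHom_stalkClosedPointTo (g f x)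
    exact CommRingCat.isLocalHom_comp _ _
  have key := (SpecToEquivOfLocalRing X (Q f x)).symm.injective
    (a₁ := ⟨f.fiberι (f x) (g f x (closedPoint (Q f x))),
      (f.fiberι (f x)).stalkMap (g f x (closedPoint (Q f x))) ≫
        Scheme.stalkClosedPointTo (g f x), hloc⟩)
    (a₂ := ⟨x, q f x, inferInstance⟩) h
  obtain ⟨h₁, h₂⟩ := SpecToEquivOfLocalRing_eq_iff.mp key
  exact ⟨h₁, h₂⟩

/-- The canonical map `𝒪_{X,x} ⟶ 𝒪_{F,x}` to the local ring of the fibre through `x`. -/
noncomputable def toFibreStalk :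
    X.presheaf.stalk x ⟶ (f.fiber (f x)).presheaf.stalk (f.asFiber x) :=
  (X.presheaf.stalkCongr (.of_eq (f.fiberι_asFiber x))).inv ≫
    (f.fiberι (f x)).stalkMap (f.asFiber x)

lemma toFibreStalk_surjective : Function.Surjective (toFibreStalk f x) := by
  have h1 : Function.Surjective ((f.fiberι (f x)).stalkMap (f.asFiber x)) :=
    (f.fiberι (f x)).stalkMap_surjective _
  have h2 : Function.Surjective (X.presheaf.stalkCongr (.of_eq (f.fiberι_asFiber x))).inv :=
    (ConcreteCategory.bijective_of_isIso _).2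
  rw [toFibreStalk]
  intro c
  obtain ⟨b, hb⟩ := h1 c
  obtain ⟨a, ha⟩ := h2 b
  exact ⟨a, by rw [CommRingCat.comp_apply, ha, hb]⟩

lemma fibreIdeal_le_ker : fibreIdeal f x ≤ RingHom.ker (toFibreStalk f x).hom := by
  rw [fibreIdeal, Ideal.map_le_iff_le_comap]
  intro a ha
  rw [Ideal.mem_comap, RingHom.mem_ker]
  have hpt := Scheme.Hom.stalkMap_congr_point f (f.fiberι (f x) (f.asFiber x)) x
    (f.fiberι_asFiber x)
  have hpt' : f.stalkMap x ≫ (X.presheaf.stalkCongr (.of_eq (f.fiberι_asFiber x))).inv =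
      (S.presheaf.stalkCongr (.of_eq (by rw [f.fiberι_asFiber x]))).inv ≫
        f.stalkMap (f.fiberι (f x) (f.asFiber x)) := by
    rw [Iso.eq_inv_comp, ← Category.assoc, Iso.comp_inv_eq]
    exact hpt.symm
  have e : (toFibreStalk f x).hom ((f.stalkMap x).hom a) =
      (f.fiberι (f x)).stalkMap (f.asFiber x) (f.stalkMap (f.fiberι (f x) (f.asFiber x))
        ((S.presheaf.stalkCongr (.of_eq (by rw [f.fiberι_asFiber x]))).inv a)) := by
    have := congr($hpt' a)
    simp only [CommRingCat.comp_apply] at this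
    rw [← this]
    rfl
  rw [e]
  apply stalkMap_eq_zero_of_mem_maximalIdeal
  have hloc : IsLocalHom (S.presheaf.stalkCongr (.of_eq
      (show f (f.fiberι (f x) (f.asFiber x)) = f x by rw [f.fiberι_asFiber x]))).inv.hom :=
    isLocalHom_of_isIso _
  rw [mem_maximalIdeal, mem_nonunits_iff] at ha ⊢
  intro hu
  exact ha ((isUnit_map_iff (S.presheaf.stalkCongr (.of_eq
      (show f (f.fiberι (f x) (f.asFiber x)) = f x by rw [f.fiberι_asFiber x]))).inv.hom a).mp hu)

omit f in
lemma transport {F : Scheme.{u}} (ι : F ⟶ X) {z₁ z₂ : F} (hz : z₁ = z₂) {x : X}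
    (h₁ : ι z₁ = x) (h₂ : ι z₂ = x) (b : X.presheaf.stalk x)
    (h0 : ι.stalkMap z₁ ((X.presheaf.stalkCongr (.of_eq h₁)).inv b) = 0) :
    ι.stalkMap z₂ ((X.presheaf.stalkCongr (.of_eq h₂)).inv b) = 0 := by
  subst hz; exact h0

set_option backward.isDefEq.respectTransparency false in
lemma ker_le_fibreIdeal : RingHom.ker (toFibreStalk f x).hom ≤ fibreIdeal f x := by
  intro b hb
  rw [RingHom.mem_ker] at hb
  obtain ⟨h, e⟩ := exists_stalkClosedPointTo_eq f x
  have hb0 : (f.fiberι (f x)).stalkMap (f.asFiber x)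
      ((X.presheaf.stalkCongr (.of_eq (f.fiberι_asFiber x))).inv b) = 0 := hb
  have hb' := transport (f.fiberι (f x)) (g_closedPoint f x).symm (f.fiberι_asFiber x) h b hb0
  have e' : (Scheme.stalkClosedPointTo (g f x))
      ((f.fiberι (f x)).stalkMap (g f x (closedPoint (Q f x)))
        ((X.presheaf.stalkCongr (.of_eq h)).inv b)) =
      (q f x) ((X.presheaf.stalkCongr (.of_eq h)).hom
        ((X.presheaf.stalkCongr (.of_eq h)).inv b)) :=
    congr($e ((X.presheaf.stalkCongr (.of_eq h)).inv b))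
  rw [hb', map_zero] at e'
  have e'' : (q f x) b = 0 := by
    have hinv : (X.presheaf.stalkCongr (.of_eq h)).hom ((X.presheaf.stalkCongr (.of_eq h)).inv b)
        = b := by
      rw [← CommRingCat.comp_apply, Iso.inv_hom_id]; rfl
    rw [hinv] at e'
    exact e'.symm
  exact Ideal.Quotient.eq_zero_iff_mem.mp e''

lemma ker_toFibreStalk : RingHom.ker (toFibreStalk f x).hom = fibreIdeal f x :=
  le_antisymm (ker_le_fibreIdeal f x) (fibreIdeal_le_ker f x)

/-- **The local ring of the fibre**: `𝒪_{X,x} ⧸ 𝔪_{f x} 𝒪_{X,x} ≃+* 𝒪_{X_{f x}, x}`. -/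
noncomputable def fibreStalkEquiv :
    (X.presheaf.stalk x ⧸ Ideal.map (f.stalkMap x).hom (maximalIdeal (S.presheaf.stalk (f x)))) ≃+*
      (f.fiber (f x)).presheaf.stalk (f.asFiber x) :=
  (Ideal.quotEquivOfEq (ker_toFibreStalk f x).symm).trans
    (RingHom.quotientKerEquivOfSurjective (toFibreStalk_surjective f x))

lemma fibreStalkEquiv_mk (b : X.presheaf.stalk x) :
    fibreStalkEquiv f x (Ideal.Quotient.mk _ b) = toFibreStalk f x b := rfl

end Point

end Groth.Agent.Lib.FibreStalk33
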