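import Groth.Agent.Lib.FlatLimModel88
import Mathlib.RingTheory.Extension.Presentation.Core

/-!
# Openness of the flat locus: finitely presented algebra and module over an arbitrary ring
(helper88)
-/

set_option autoImplicit false
set_option maxHeartbeats 400000

namespace Groth.Agent.Lib.FlatLimFP88

open TensorProduct Function Groth.Agent.Lib.FlatLimStage88 Groth.Agent.Lib.FlatLimModel88
  Groth.Agent.Lib.FlatLimOpenBC88
open scoped Groth.Agent.Lib.FlatLimStage88

universe u

/-- Transport of flatness at a prime along a semilinear isomorphism (with an explicit prime). -/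
theorem flat_transport {R C₁ C₂ X₁ X₂ : Type u} [CommRing R] [CommRing C₁] [CommRing C₂]
    [Algebra R C₁] [Algebra R C₂]
    [AddCommGroup X₁] [Module C₁ X₁] [Module R X₁] [IsScalarTower R C₁ X₁]
    [AddCommGroup X₂] [Module C₂ X₂] [Module R X₂] [IsScalarTower R C₂ X₂]
    (e : C₁ ≃+* C₂) (ε : X₁ ≃ₗ[R] X₂)
    (hε : ∀ (c : C₁) (x : X₁), ε (c • x) = e c • ε x) (P₁ : Ideal C₁) [P₁.IsPrime]
    (P₂ : Ideal C₂) [P₂.IsPrime] (hP : P₂.comap e = P₁)
    (h : Module.Flat R (LocalizedModule P₁.primeCompl X₁)) :
    Module.Flat R (LocalizedModule P₂.primeCompl X₂) := by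
  subst hP
  exact flat_localizedModule_of_semilinearEquiv e ε hε P₂ h

/-- Openness of the flat locus from a Noetherian model of the algebra together with lifts of the
module relations. -/
theorem isOpen_of_model {k R S₀ S M : Type u} [CommRing k] [IsNoetherianRing k] [CommRing R]
    [Algebra k R] [CommRing S₀] [Algebra k S₀] [Algebra.FiniteType k S₀]
    [CommRing S] [Algebra R S] [AddCommGroup M] [Module S M] [Module R M] [IsScalarTower R S M]
    [Module k M] [IsScalarTower k R M]
    (e : R ⊗[k] S₀ ≃ₐ[R] S) {n m : ℕ} (f : (Fin n → S) →ₗ[S] M)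
    (u : Fin m → Fin n → S) (ub : Fin m → Fin n → S₀)
    (hub : ∀ j i, iota0 e (ub j i) = u j i)
    (hu : LinearMap.ker f = Submodule.span S (Set.range u)) (hf : Surjective f) :
    IsOpen {q : PrimeSpectrum S | Module.Flat R (LocalizedModule q.asIdeal.primeCompl M)} := by
  -- the module model
  let ε := modelEquiv e f u hub hu hf
  have hε : ∀ (c : R ⊗[k] S₀) (y : R ⊗[k] Model0 ub), ε (c • y) = e c • ε y :=
    modelEquiv_smul e f u hub hu hf
  have hε' : ∀ (s : S) (x : M), ε.symm (s • x) = e.symm s • ε.symm x := by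
    intro s x
    apply ε.injective
    rw [hε, ε.apply_symm_apply, e.apply_symm_apply, ε.apply_symm_apply]
  rw [isOpen_iff_forall_mem_open]
  intro q hq
  have hq' : Module.Flat R (LocalizedModule q.asIdeal.primeCompl M) := hq
  have hP : (q.asIdeal.comap e).comap e.symm.toRingEquiv = q.asIdeal := by
    ext x
    simp [Ideal.mem_comap]
  have h0 : Module.Flat R (LocalizedModule (q.asIdeal.comap e).primeCompl (R ⊗[k] Model0 ub)) :=
    flat_transport e.symm.toRingEquiv ε.symm hε' q.asIdeal (q.asIdeal.comap e) hP hq'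
  obtain ⟨g₀, hg₀, hall⟩ := exists_notMem_forall_flat_tensor (k := k) (S₀ := S₀)
    (M₀ := Model0 ub) (q.asIdeal.comap e)
  refine ⟨PrimeSpectrum.basicOpen (e g₀), ?_, (PrimeSpectrum.basicOpen _).isOpen, hg₀⟩
  intro q' hq'
  have h1 := hall (q'.asIdeal.comap e) hq'
  exact flat_localizedModule_of_semilinearEquiv e.toRingEquiv ε hε q'.asIdeal h1

/-- **Openness of the flat locus** (Stacks 00RC): `R → S` of finite presentation, `M` a finitely
presented `S`-module; the set of primes `q` of `S` with `M_q` flat over `R` is open. -/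
theorem isOpen_module_flat_locus {R S M : Type u} [CommRing R] [CommRing S] [Algebra R S]
    [Algebra.FinitePresentation R S] [AddCommGroup M] [Module S M] [Module R M]
    [IsScalarTower R S M] [Module.FinitePresentation S M] :
    IsOpen {q : PrimeSpectrum S | Module.Flat R (LocalizedModule q.asIdeal.primeCompl M)} := by
  classical
  -- presentations
  let P := Algebra.Presentation.ofFinitePresentation R S
  obtain ⟨n, m, f, g, hf, hex⟩ := Module.FinitePresentation.exists_fin' S M
  let u : Fin m → Fin n → S := fun j => g (Pi.single j 1)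
  have hu : LinearMap.ker f = Submodule.span S (Set.range u) := by
    rw [(LinearMap.exact_iff).mp hex, LinearMap.range_eq_map, ← (Pi.basisFun S (Fin m)).span_eq,
      Submodule.map_span, ← Set.range_comp]
    congr 2
    funext j
    simp [u, Pi.basisFun_apply]
  -- lifts of the entries of the relations to polynomials
  choose ut hut using fun (j : Fin m) (i : Fin n) => P.algebraMap_surjective (u j i)
  let s : Set R := ⋃ j, ⋃ i, ((ut j i).coeffs : Set R)
  have hs : s.Finite :=
    Set.finite_iUnion fun j => Set.finite_iUnion fun i => Finset.finite_toSet _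
  -- the Noetherian base ring
  let k := Algebra.adjoin P.Core s
  have : Algebra.FiniteType P.Core k := (Subalgebra.fg_iff_finiteType _).mp
    (Subalgebra.fg_def.mpr ⟨s, hs, rfl⟩)
  have : Algebra.FiniteType ℤ k := Algebra.FiniteType.trans (S := P.Core) inferInstance inferInstance
  have : IsNoetherianRing k := Algebra.FiniteType.isNoetherianRing ℤ k
  -- lifts to the base ring
  have hv : ∀ j i, ∃ v : MvPolynomial _ k, MvPolynomial.map (algebraMap k R) v = ut j i := by
    intro j i
    have : ut j i ∈ Set.range (MvPolynomial.map (algebraMap k R)) := by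
      rw [MvPolynomial.mem_range_map_iff_coeffs_subset]
      intro c hc
      have hcs : c ∈ s := Set.mem_iUnion.mpr ⟨j, Set.mem_iUnion.mpr ⟨i, hc⟩⟩
      exact ⟨⟨c, Algebra.subset_adjoin hcs⟩, rfl⟩
    exact this
  choose v hv using hv
  let S₀ := P.ModelOfHasCoeffs k
  let e : R ⊗[k] S₀ ≃ₐ[R] S := P.tensorModelOfHasCoeffsEquiv k
  let ub : Fin m → Fin n → S₀ := fun j i => Ideal.Quotient.mk _ (v j i)
  have hub : ∀ j i, Groth.Agent.Lib.FlatLimModel88.iota0 e (ub j i) = u j i := by
    intro j i
    rw [Groth.Agent.Lib.FlatLimModel88.iota0_apply]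
    change P.tensorModelOfHasCoeffsEquiv k ((1 : R) ⊗ₜ[k] Ideal.Quotient.mk _ (v j i)) = _
    rw [Algebra.Presentation.tensorModelOfHasCoeffsEquiv_tmul, map_one, one_mul,
      ← MvPolynomial.aeval_map_algebraMap R, hv, ← hut j i, Algebra.Generators.algebraMap_apply]
  exact isOpen_of_model (k := k) (S₀ := S₀) e f u ub hub hu hf

end Groth.Agent.Lib.FlatLimFP88
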