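import Groth.Agent.Lib.CritFibSch88
import Groth.Agent.Lib.FibreStalk33
import Groth.Agent.Lib.AlgSpBasic
import Groth.Agent.Lib.FlatLimFP88
import Groth.Agent.Lib.EtaleLocusBC
import Groth.Prelude.Def_MoreMor

set_option autoImplicit false
set_option maxHeartbeats 400000
set_option linter.style.haveILetI false
set_option linter.unusedSectionVars false

open TensorProduct Function CategoryTheory AlgebraicGeometry Limits
open Groth.Agent.Lib.FibreStalk33

/-!
# Critère de platitude par fibres for the structure sheaf, with the fibre map (helper88)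

* `stalkMap_toFibreStalk`: the square relating `f.stalkMap x` and the stalk map of the induced map
  of fibres `X_s → Y_s`, through helper33's `toFibreStalk`.
* `fibre_stalkMap_flat_iff`: the fibre map is flat at `x` iff `O_{X,x}/𝔪_s` is flat over
  `O_{Y,y}/𝔪_s`.
* `critere_platitude_par_fibres`: the pointwise equivalence and the openness of the locus.
-/

universe u

namespace Groth.Agent.Lib.CritFibFib88

theorem germ_inv_stalkMap {F X : Scheme.{u}} (ι : F ⟶ X) (z : F) (x : X) (h : ι z = x)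
    (U : X.Opens) (hx : x ∈ U) (hz : z ∈ ι ⁻¹ᵁ U) :
    X.presheaf.germ U x hx ≫ (X.presheaf.stalkCongr (.of_eq h)).inv ≫ ι.stalkMap z =
      ι.app U ≫ F.presheaf.germ (ι ⁻¹ᵁ U) z hz := by
  subst h
  simp [TopCat.Presheaf.stalkCongr]

theorem germ_stalkCongr_inv {X : Scheme.{u}} (y' y : X) (h : y' = y) (U : X.Opens) (hy : y ∈ U)
    (hy' : y' ∈ U) :
    X.presheaf.germ U y hy ≫ (X.presheaf.stalkCongr (.of_eq h)).inv = X.presheaf.germ U y' hy' := by
  subst h
  simp [TopCat.Presheaf.stalkCongr]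

theorem app_germ_congr {F X : Scheme.{u}} (p q : F ⟶ X) (h : p = q) (U : X.Opens) (z : F)
    (hp : z ∈ p ⁻¹ᵁ U) (hq : z ∈ q ⁻¹ᵁ U) :
    p.app U ≫ F.presheaf.germ (p ⁻¹ᵁ U) z hp = q.app U ≫ F.presheaf.germ (q ⁻¹ᵁ U) z hq := by
  subst h
  rfl

variable {X Y S : Scheme.{u}} (f : X ⟶ Y) (g : Y ⟶ S)

theorem fiberMap_fiberι (s : S) :
    MoreMor.fiberMap f g s ≫ g.fiberι s = (f ≫ g).fiberι s ≫ f :=
  pullback.lift_fst _ _ _

theorem fiberMap_asFiber (x : X) :
    MoreMor.fiberMap f g (g (f x)) ((f ≫ g).asFiber x) = g.asFiber (f x) := by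
  apply (g.fiberι (g (f x))).isEmbedding.injective
  have h1 : g.fiberι (g (f x)) (MoreMor.fiberMap f g (g (f x)) ((f ≫ g).asFiber x)) =
      (MoreMor.fiberMap f g (g (f x)) ≫ g.fiberι (g (f x))) ((f ≫ g).asFiber x) := rfl
  rw [h1, fiberMap_fiberι, g.fiberι_asFiber]
  exact congrArg f ((f ≫ g).fiberι_asFiber x)

/-- The commutative square relating the stalk map of `f` and the stalk map of the fibre map. -/
theorem stalkMap_toFibreStalk (x : X) :
    f.stalkMap x ≫ toFibreStalk (f ≫ g) x =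
      toFibreStalk g (f x) ≫
        ((g.fiber (g (f x))).presheaf.stalkCongr (.of_eq (fiberMap_asFiber f g x))).inv ≫
          (MoreMor.fiberMap f g (g (f x))).stalkMap ((f ≫ g).asFiber x) := by
  refine TopCat.Presheaf.stalk_hom_ext _ (fun V hV => ?_)
  set ιX := (f ≫ g).fiberι (g (f x)) with hιX
  set ιY := g.fiberι (g (f x)) with hιY
  set φ := MoreMor.fiberMap f g (g (f x)) with hφ
  set x' : (f ≫ g).fiber (g (f x)) := (f ≫ g).asFiber x with hx'
  set y'' := g.asFiber (f x) with hy''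
  have hxV : x ∈ f ⁻¹ᵁ V := hV
  have hιx : ιX x' = x := (f ≫ g).fiberι_asFiber x
  have hιy : ιY y'' = f x := g.fiberι_asFiber (f x)
  have hx'V : x' ∈ ιX ⁻¹ᵁ (f ⁻¹ᵁ V) := by
    change ιX x' ∈ f ⁻¹ᵁ V
    rw [hιx]; exact hxV
  have hy''V : y'' ∈ ιY ⁻¹ᵁ V := by
    change ιY y'' ∈ V
    rw [hιy]; exact hV
  have hφx : φ x' = y'' := fiberMap_asFiber f g x
  have hφV : φ x' ∈ ιY ⁻¹ᵁ V := by rw [hφx]; exact hy''V
  have hx'φ : x' ∈ φ ⁻¹ᵁ (ιY ⁻¹ᵁ V) := hφV
  -- LHS
  have L1 : Y.presheaf.germ V (f x) hV ≫ f.stalkMap x ≫ toFibreStalk (f ≫ g) x =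
      f.app V ≫ ιX.app (f ⁻¹ᵁ V) ≫
        ((f ≫ g).fiber (g (f x))).presheaf.germ (ιX ⁻¹ᵁ (f ⁻¹ᵁ V)) x' hx'V := by
    rw [Scheme.Hom.germ_stalkMap_assoc]
    congr 1
    exact germ_inv_stalkMap ιX x' x hιx (f ⁻¹ᵁ V) hxV hx'V
  have R1 : Y.presheaf.germ V (f x) hV ≫ toFibreStalk g (f x) ≫
        ((g.fiber (g (f x))).presheaf.stalkCongr (.of_eq (fiberMap_asFiber f g x))).inv ≫
          φ.stalkMap x' =
      ιY.app V ≫ φ.app (ιY ⁻¹ᵁ V) ≫
        ((f ≫ g).fiber (g (f x))).presheaf.germ (φ ⁻¹ᵁ (ιY ⁻¹ᵁ V)) x' hx'φ := by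
    have e1 := germ_inv_stalkMap ιY y'' (f x) hιy V hV hy''V
    have e2 := germ_stalkCongr_inv (φ x') y'' hφx (ιY ⁻¹ᵁ V) hy''V hφV
    have e3 := Scheme.Hom.germ_stalkMap φ (ιY ⁻¹ᵁ V) x' hφV
    calc Y.presheaf.germ V (f x) hV ≫ toFibreStalk g (f x) ≫
          ((g.fiber (g (f x))).presheaf.stalkCongr (.of_eq (fiberMap_asFiber f g x))).inv ≫
            φ.stalkMap x'
        = (Y.presheaf.germ V (f x) hV ≫ (Y.presheaf.stalkCongr (.of_eq hιy)).inv ≫
            ιY.stalkMap y'') ≫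
          ((g.fiber (g (f x))).presheaf.stalkCongr (.of_eq (fiberMap_asFiber f g x))).inv ≫
            φ.stalkMap x' := by
          simp only [toFibreStalk, Category.assoc]
          rfl
      _ = ιY.app V ≫ ((g.fiber (g (f x))).presheaf.germ (ιY ⁻¹ᵁ V) y'' hy''V ≫
          ((g.fiber (g (f x))).presheaf.stalkCongr (.of_eq (fiberMap_asFiber f g x))).inv) ≫
            φ.stalkMap x' := by
          rw [e1]
          simp only [Category.assoc]
      _ = ιY.app V ≫ (g.fiber (g (f x))).presheaf.germ (ιY ⁻¹ᵁ V) (φ x') hφV ≫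
            φ.stalkMap x' := by
          rw [e2]
      _ = _ := by rw [e3]
  refine L1.trans (Eq.trans ?_ R1.symm)
  exact (app_germ_congr (φ ≫ ιY) (ιX ≫ f) (fiberMap_fiberι f g (g (f x))) V x' hx'φ hx'V).symm


open Groth.Agent.Lib.CritFibA88 in
/-- Flatness of the stalk map of the fibre map in terms of the quotient of the stalk map of `f`. -/
theorem fibre_stalkMap_flat_iff (x : X) :
    letI := (f.stalkMap x).hom.toAlgebra
    ((MoreMor.fiberMap f g (g (f x))).stalkMap ((f ≫ g).asFiber x)).hom.Flat ↔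
      Module.Flat (Y.presheaf.stalk (f x) ⧸
          Ideal.map (g.stalkMap (f x)).hom (IsLocalRing.maximalIdeal (S.presheaf.stalk (g (f x)))))
        (X.presheaf.stalk x ⧸ (Ideal.map (g.stalkMap (f x)).hom
          (IsLocalRing.maximalIdeal (S.presheaf.stalk (g (f x))))) •
            (⊤ : Submodule (Y.presheaf.stalk (f x)) (X.presheaf.stalk x))) := by
  letI algST : Algebra (Y.presheaf.stalk (f x)) (X.presheaf.stalk x) := (f.stalkMap x).hom.toAlgebra
  set I := Ideal.map (g.stalkMap (f x)).hom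
    (IsLocalRing.maximalIdeal (S.presheaf.stalk (g (f x)))) with hIdef
  -- the maps
  let a := toFibreStalk g (f x)
  let b : X.presheaf.stalk x ⟶
      ((f ≫ g).fiber (g (f x))).presheaf.stalk ((f ≫ g).asFiber x) := toFibreStalk (f ≫ g) x
  let iso := ((g.fiber (g (f x))).presheaf.stalkCongr (.of_eq (fiberMap_asFiber f g x))).inv
  let φs := (MoreMor.fiberMap f g (g (f x))).stalkMap ((f ≫ g).asFiber x)
  have CS : f.stalkMap x ≫ b = a ≫ iso ≫ φs := stalkMap_toFibreStalk f g x
  have CS' : ∀ s, b.hom ((f.stalkMap x).hom s) = (iso ≫ φs).hom (a.hom s) := by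
    intro s
    exact congr($CS s)
  -- Step 1
  have h1 : φs.hom.Flat ↔ (iso ≫ φs).hom.Flat :=
    (RingHom.Flat.respectsIso.cancel_left_isIso iso φs).symm
  rw [h1]
  -- Step 2
  letI algSB : Algebra (Y.presheaf.stalk (f x)) ((g.fiber (g (f x))).presheaf.stalk (g.asFiber (f x))) :=
    a.hom.toAlgebra
  letI algBN : Algebra ((g.fiber (g (f x))).presheaf.stalk (g.asFiber (f x)))
      (((f ≫ g).fiber (g (f x))).presheaf.stalk ((f ≫ g).asFiber x)) := (iso ≫ φs).hom.toAlgebra
  letI algSN : Algebra (Y.presheaf.stalk (f x))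
      (((f ≫ g).fiber (g (f x))).presheaf.stalk ((f ≫ g).asFiber x)) :=
    ((iso ≫ φs).hom.comp a.hom).toAlgebra
  haveI : IsScalarTower (Y.presheaf.stalk (f x))
      ((g.fiber (g (f x))).presheaf.stalk (g.asFiber (f x)))
      (((f ≫ g).fiber (g (f x))).presheaf.stalk ((f ≫ g).asFiber x)) :=
    IsScalarTower.of_algebraMap_eq (fun _ => rfl)
  let l : X.presheaf.stalk x →ₗ[Y.presheaf.stalk (f x)]
      (((f ≫ g).fiber (g (f x))).presheaf.stalk ((f ≫ g).asFiber x)) :=
    { toFun := b.hom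
      map_add' := map_add _
      map_smul' := fun s t => by
        show b.hom ((f.stalkMap x).hom s * t) = (iso ≫ φs).hom (a.hom s) * b.hom t
        rw [map_mul, CS'] }
  have hl : Surjective l := toFibreStalk_surjective (f ≫ g) x
  have hs : Surjective (algebraMap (Y.presheaf.stalk (f x))
      ((g.fiber (g (f x))).presheaf.stalk (g.asFiber (f x)))) := toFibreStalk_surjective g (f x)
  have hI : RingHom.ker (algebraMap (Y.presheaf.stalk (f x))
      ((g.fiber (g (f x))).presheaf.stalk (g.asFiber (f x)))) = I := ker_toFibreStalk g (f x)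
  have hker : ∀ t, l t = 0 ↔ t ∈ I • (⊤ : Submodule (Y.presheaf.stalk (f x)) (X.presheaf.stalk x)) := by
    intro t
    rw [Ideal.smul_top_eq_map]
    change t ∈ RingHom.ker (toFibreStalk (f ≫ g) x).hom ↔ t ∈ I.map (f.stalkMap x).hom
    rw [ker_toFibreStalk, fibreIdeal, hIdef, Ideal.map_map]
    have : ((f ≫ g).stalkMap x).hom = (f.stalkMap x).hom.comp (g.stalkMap (f x)).hom := by
      rw [Scheme.Hom.stalkMap_comp]
      rfl
    rw [this]
    exact Iff.rfl
  have h2 := flat_iff_of_surjective_ker hs I hI l hl hker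
  have h3 : (iso ≫ φs).hom.Flat ↔ Module.Flat ((g.fiber (g (f x))).presheaf.stalk (g.asFiber (f x)))
      (((f ≫ g).fiber (g (f x))).presheaf.stalk ((f ≫ g).asFiber x)) := Iff.rfl
  rw [h3, h2]
  -- Step 3
  let e0 := TensorProduct.quotTensorEquivQuotSMul (X.presheaf.stalk x) I
  let e1 : (Y.presheaf.stalk (f x) ⧸ I) ⊗[Y.presheaf.stalk (f x)] (X.presheaf.stalk x)
      ≃ₗ[Y.presheaf.stalk (f x) ⧸ I]
      (X.presheaf.stalk x) ⧸ (I • (⊤ : Submodule (Y.presheaf.stalk (f x)) (X.presheaf.stalk x))) :=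
    LinearEquiv.extendScalarsOfSurjective Ideal.Quotient.mk_surjective e0
  exact Module.Flat.equiv_iff e1


/-- Openness of the flat locus of a morphism locally of finite presentation. -/
theorem isOpen_flat_locus {X S : Scheme.{u}} (f : X ⟶ S) [LocallyOfFinitePresentation f] :
    IsOpen {x : X | (f.stalkMap x).hom.Flat} := by
  refine isOpen_iff_forall_mem_open.mpr fun x hx => ?_
  obtain ⟨_, ⟨U, hU, rfl⟩, hxU, -⟩ :=
    S.isBasis_affineOpens.exists_subset_of_mem_open (Set.mem_univ (f x)) isOpen_univ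
  obtain ⟨_, ⟨V, hV, rfl⟩, hxV, hVU⟩ :=
    X.isBasis_affineOpens.exists_subset_of_mem_open hxU (U.2.preimage f.continuous)
  have := f.finitePresentation_appLE hU hV hVU
  algebraize [(f.appLE U V hVU).hom]
  have hopen := Groth.Agent.Lib.FlatLimFP88.isOpen_module_flat_locus
    (R := Γ(S, U)) (S := Γ(X, V)) (M := Γ(X, V))
  have hq : hV.primeIdealOf ⟨x, hxV⟩ ∈ {q : PrimeSpectrum Γ(X, V) |
      Module.Flat Γ(S, U) (LocalizedModule q.asIdeal.primeCompl Γ(X, V))} :=
    (Groth.Agent.Lib.EtaleLocusBC.flat_stalkMap_iff U hU V hV hVU hxV).mp hx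
  obtain ⟨_, ⟨r, rfl⟩, hrx, hr⟩ :=
    PrimeSpectrum.isTopologicalBasis_basic_opens.exists_subset_of_mem_open hq hopen
  refine ⟨X.basicOpen r, fun y hy => ?_, (X.basicOpen r).2,
    (Groth.Agent.Lib.UnramifiedLocusBC.mem_basicOpen_iff_primeIdealOf hV r hxV).mpr hrx⟩
  have hyV : y ∈ V := X.basicOpen_le r hy
  change (f.stalkMap y).hom.Flat
  rw [Groth.Agent.Lib.EtaleLocusBC.flat_stalkMap_iff U hU V hV hVU hyV]
  exact hr ((Groth.Agent.Lib.UnramifiedLocusBC.mem_basicOpen_iff_primeIdealOf hV r hyV).mp hy)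

theorem flat_comp_stalkMap (x : X) (hg : (g.stalkMap (f x)).hom.Flat)
    (hf : (f.stalkMap x).hom.Flat) : ((f ≫ g).stalkMap x).hom.Flat := by
  rw [Scheme.Hom.stalkMap_comp]
  exact RingHom.Flat.comp hg hf

/-- Faithfully flat descent at a point: if `f ≫ g` and `f` are flat at `x` then `g` is flat at
`f x`. -/
theorem flat_stalkMap_of_comp (x : X) (hfg : ((f ≫ g).stalkMap x).hom.Flat)
    (hf : (f.stalkMap x).hom.Flat) : (g.stalkMap (f x)).hom.Flat := by
  letI algRS : Algebra (S.presheaf.stalk (g (f x))) (Y.presheaf.stalk (f x)) :=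
    (g.stalkMap (f x)).hom.toAlgebra
  letI algST : Algebra (Y.presheaf.stalk (f x)) (X.presheaf.stalk x) := (f.stalkMap x).hom.toAlgebra
  letI algRT : Algebra (S.presheaf.stalk (g (f x))) (X.presheaf.stalk x) :=
    ((f ≫ g).stalkMap x).hom.toAlgebra
  haveI : IsScalarTower (S.presheaf.stalk (g (f x))) (Y.presheaf.stalk (f x))
      (X.presheaf.stalk x) := IsScalarTower.of_algebraMap_eq (fun a => by
    change ((f ≫ g).stalkMap x).hom a = (f.stalkMap x).hom ((g.stalkMap (f x)).hom a)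
    rw [Scheme.Hom.stalkMap_comp]
    rfl)
  haveI : IsLocalHom (algebraMap (Y.presheaf.stalk (f x)) (X.presheaf.stalk x)) :=
    show IsLocalHom (f.stalkMap x).hom from inferInstance
  haveI : Module.Flat (Y.presheaf.stalk (f x)) (X.presheaf.stalk x) := hf
  haveI : Module.Flat (S.presheaf.stalk (g (f x))) (X.presheaf.stalk x) := hfg
  haveI : Module.FaithfullyFlat (Y.presheaf.stalk (f x)) (X.presheaf.stalk x) :=
    Module.FaithfullyFlat.of_flat_of_isLocalHom
  exact Groth.Agent.Lib.FlatCrit.flat_of_faithfullyFlat_of_flat (Y.presheaf.stalk (f x))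
    (N := X.presheaf.stalk x)

/-- **Critère de platitude par fibres** for the structure sheaf, with openness. -/
theorem critere_platitude_par_fibres [LocallyOfFinitePresentation (f ≫ g)]
    [LocallyOfFiniteType g] :
    (∀ x : X, ((f ≫ g).stalkMap x).hom.Flat ∧
        ((MoreMor.fiberMap f g (g (f x))).stalkMap ((f ≫ g).asFiber x)).hom.Flat ↔
        (g.stalkMap (f x)).hom.Flat ∧ (f.stalkMap x).hom.Flat) ∧
      IsOpen {x : ↑X | (g.stalkMap (f x)).hom.Flat ∧ (f.stalkMap x).hom.Flat} := by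
  constructor
  · intro x
    letI algST : Algebra (Y.presheaf.stalk (f x)) (X.presheaf.stalk x) :=
      (f.stalkMap x).hom.toAlgebra
    letI algRT : Algebra (S.presheaf.stalk (g (f x))) (X.presheaf.stalk x) :=
      ((f ≫ g).stalkMap x).hom.toAlgebra
    have hY : ∀ (b : Y.presheaf.stalk (f x)) (n : X.presheaf.stalk x),
        b • n = (f.stalkMap x).hom b • n := fun _ _ => rfl
    have hS : ∀ (a : S.presheaf.stalk (g (f x))) (n : X.presheaf.stalk x),
        a • n = (g.stalkMap (f x)).hom a • n := by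
      intro a n
      change ((f ≫ g).stalkMap x).hom a * n = (f.stalkMap x).hom ((g.stalkMap (f x)).hom a) * n
      rw [Scheme.Hom.stalkMap_comp]
      rfl
    constructor
    · rintro ⟨h1, h2⟩
      have h2' := (fibre_stalkMap_flat_iff f g x).mp h2
      exact Groth.Agent.Lib.CritFibSch88.critere_stalk f g x (N := X.presheaf.stalk x) hY hS h1 h2'
    · rintro ⟨h1, h2⟩
      refine ⟨flat_comp_stalkMap f g x h1 h2, (fibre_stalkMap_flat_iff f g x).mpr ?_⟩
      letI algRS : Algebra (S.presheaf.stalk (g (f x))) (Y.presheaf.stalk (f x)) :=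
        (g.stalkMap (f x)).hom.toAlgebra
      haveI : IsScalarTower (S.presheaf.stalk (g (f x))) (Y.presheaf.stalk (f x))
          (X.presheaf.stalk x) := IsScalarTower.of_algebraMap_smul (fun a n => (hS a n).symm)
      exact (Groth.Agent.Lib.CritFibSch88.easy_direction h1 h2 _).2
  · haveI : LocallyOfFinitePresentation f :=
      Groth.Agent.Lib.AlgSpBasic.locallyOfFinitePresentation_of_comp f g inferInstance inferInstance
    have hset : {x : ↑X | (g.stalkMap (f x)).hom.Flat ∧ (f.stalkMap x).hom.Flat} =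
        {x : X | ((f ≫ g).stalkMap x).hom.Flat} ∩ {x : X | (f.stalkMap x).hom.Flat} := by
      ext x
      constructor
      · rintro ⟨h1, h2⟩
        exact ⟨flat_comp_stalkMap f g x h1 h2, h2⟩
      · rintro ⟨h1, h2⟩
        exact ⟨flat_stalkMap_of_comp f g x h1 h2, h2⟩
    rw [hset]
    exact (isOpen_flat_locus (f ≫ g)).inter (isOpen_flat_locus f)

end Groth.Agent.Lib.CritFibFib88
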