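import Groth.Agent.Lib.AlgSpFibreChart36
import Groth.Agent.Lib.CritFibFib88

/-!
# Critère de platitude par fibres for algebraic spaces: scheme-level inputs and the chart reduction (helper36)
-/

set_option autoImplicit false
set_option linter.style.haveILetI false
universe u
open CategoryTheory CategoryTheory.Limits AlgebraicGeometry Opposite

namespace Groth.Agent.Lib.AlgSpCritFib36

open AlgSp Groth.Agent.Lib.AlgSpBasic Groth.Agent.Lib.AlgSpLocP Groth.Agent.Lib.AlgSpFibreChart36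

/-- Scheme-level fibrewise criterion (finite presentation form), globalised. -/
theorem flat_of_fibrewise_flat_lfp {U V W : Scheme.{u}} (k₁ : U ⟶ V) (k₂ : V ⟶ W)
    [LocallyOfFinitePresentation (k₁ ≫ k₂)] [LocallyOfFiniteType k₂] [Flat (k₁ ≫ k₂)]
    (hfib : ∀ w : W, Flat (MoreMor.fiberMap k₁ k₂ w)) :
    Flat k₁ ∧ (Surjective k₁ → Flat k₂) := by
  have key := (Groth.Agent.Lib.CritFibFib88.critere_platitude_par_fibres k₁ k₂).1
  have hx : ∀ x : U, (k₂.stalkMap (k₁ x)).hom.Flat ∧ (k₁.stalkMap x).hom.Flat := by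
    intro x
    have := hfib (k₂ (k₁ x))
    exact (key x).1 ⟨Flat.stalkMap (k₁ ≫ k₂) x, Flat.stalkMap _ _⟩
  refine ⟨Flat.of_stalkMap _ fun x => (hx x).2, fun hs => Flat.of_stalkMap _ fun y => ?_⟩
  obtain ⟨x, rfl⟩ := hs.surj y
  exact (hx x).1

variable {S : Scheme.{u}}

/-- The morphism of fibres is the canonical map of pullbacks. -/
theorem fiberMap_eq {U V W : Scheme.{u}} (k₁ : U ⟶ V) (k₂ : V ⟶ W) (w : W) :
    MoreMor.fiberMap k₁ k₂ w =
      (pullback.lift (pullback.fst (k₁ ≫ k₂) (W.fromSpecResidueField w) ≫ k₁)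
        (pullback.snd (k₁ ≫ k₂) (W.fromSpecResidueField w))
        (by rw [Category.assoc]; exact pullback.condition) :
        pullback (k₁ ≫ k₂) (W.fromSpecResidueField w) ⟶ pullback k₂ (W.fromSpecResidueField w)) :=
  rfl

/-- The chart reduction: fibrewise `LocP P` of the maps of fibres over field points gives `P` of all scheme fibre
maps of a two-level chart diagram. -/
theorem fiberMap_of_hfib {P : MorphismProperty Scheme.{u}} {X Y Z : Sp S}
    (hZ : ∀ ⦃U : Over S⦄ (a : (yon S).obj U ⟶ Z), Representable a)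
    (f : X ⟶ Y) (h : Y ⟶ Z) {U V W : Over S}
    (a : (yon S).obj U ⟶ X) (b : (yon S).obj V ⟶ Y) (c : (yon S).obj W ⟶ Z)
    (ha : RepWith @Etale a) (hb : RepWith @Etale b) (hc : RepWith @Etale c)
    (k₁ : U ⟶ V) (k₂ : V ⟶ W) (comm₁ : a ≫ f = (yon S).map k₁ ≫ b)
    (comm₂ : b ≫ h = (yon S).map k₂ ≫ c)
    (hfib : ∀ (K : Type u) [Field K] (sK : Spec (CommRingCat.of K) ⟶ S)
      (z : (AlgSp.yon S).obj (Over.mk sK) ⟶ Z) (Xz Yz : AlgSp.Sp S)
      (pX : Xz ⟶ X) (qX : Xz ⟶ (AlgSp.yon S).obj (Over.mk sK))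
      (pY : Yz ⟶ Y) (qY : Yz ⟶ (AlgSp.yon S).obj (Over.mk sK)) (fz : Xz ⟶ Yz),
      IsPullback pX qX (f ≫ h) z → IsPullback pY qY h z → fz ≫ pY = pX ≫ f → fz ≫ qY = qX →
      AlgSp.LocP P fz) (w : ↥W.left) :
    P (MoreMor.fiberMap k₁.left k₂.left w) := by
  let K : Type u := W.left.residueField w
  let sK : Spec (CommRingCat.of K) ⟶ S := W.left.fromSpecResidueField w ≫ W.hom
  let T : Over S := Over.mk sK
  let t : T ⟶ W := Over.homMk (W.left.fromSpecResidueField w) rfl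
  have sqX := IsPullback.of_hasPullback (f ≫ h) ((yon S).map t ≫ c)
  have sqY := IsPullback.of_hasPullback h ((yon S).map t ≫ c)
  let fz : pullback (f ≫ h) ((yon S).map t ≫ c) ⟶ pullback h ((yon S).map t ≫ c) :=
    pullback.lift (pullback.fst _ _ ≫ f) (pullback.snd _ _)
      (by rw [Category.assoc]; exact pullback.condition)
  have hloc : LocP P fz := hfib K sK ((yon S).map t ≫ c) _ _ _ _ _ _ fz sqX sqY
    (pullback.lift_fst _ _ _) (pullback.lift_snd _ _ _)
  rw [fiberMap_eq]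
  exact locP_fibre_chart hZ f h a b c ha hb hc k₁ k₂ comm₁ comm₂ t sqX sqY
    (pullback.lift_fst _ _ _) (pullback.lift_snd _ _ _) hloc

end Groth.Agent.Lib.AlgSpCritFib36
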