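import Groth.Agent.Lib.AlgSpCritFib36
import Groth.Agent.S0392

/-!
# Critère de platitude par fibres, locally Noetherian form, for schemes (helper36)

Globalised scheme form of the Noetherian local criterion `S0392`, through helper88's
`fibre_stalkMap_flat_iff`.
-/

set_option autoImplicit false
set_option linter.style.haveILetI false
universe u
open CategoryTheory CategoryTheory.Limits AlgebraicGeometry Opposite TensorProduct

namespace Groth.Agent.Lib.AlgSpCritFibNoeth36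

/-- Pointwise Noetherian fibrewise criterion for schemes. -/
theorem flat_stalkMap_of_fibre_flat_noeth {U V W : Scheme.{u}} [IsLocallyNoetherian U]
    [IsLocallyNoetherian V] [IsLocallyNoetherian W] (k₁ : U ⟶ V) (k₂ : V ⟶ W) (x : U)
    (h1 : ((k₁ ≫ k₂).stalkMap x).hom.Flat)
    (h2 : ((MoreMor.fiberMap k₁ k₂ (k₂ (k₁ x))).stalkMap ((k₁ ≫ k₂).asFiber x)).hom.Flat) :
    (k₂.stalkMap (k₁ x)).hom.Flat ∧ (k₁.stalkMap x).hom.Flat := by
  letI algRS : Algebra (W.presheaf.stalk (k₂ (k₁ x))) (V.presheaf.stalk (k₁ x)) :=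
    (k₂.stalkMap (k₁ x)).hom.toAlgebra
  letI algST : Algebra (V.presheaf.stalk (k₁ x)) (U.presheaf.stalk x) :=
    (k₁.stalkMap x).hom.toAlgebra
  letI algRT : Algebra (W.presheaf.stalk (k₂ (k₁ x))) (U.presheaf.stalk x) :=
    ((k₁ ≫ k₂).stalkMap x).hom.toAlgebra
  haveI : IsScalarTower (W.presheaf.stalk (k₂ (k₁ x))) (V.presheaf.stalk (k₁ x))
      (U.presheaf.stalk x) := IsScalarTower.of_algebraMap_eq (fun a => by
    change ((k₁ ≫ k₂).stalkMap x).hom a = (k₁.stalkMap x).hom ((k₂.stalkMap (k₁ x)).hom a)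
    rw [Scheme.Hom.stalkMap_comp]
    rfl)
  haveI : IsLocalHom (algebraMap (W.presheaf.stalk (k₂ (k₁ x))) (V.presheaf.stalk (k₁ x))) :=
    show IsLocalHom (k₂.stalkMap (k₁ x)).hom from inferInstance
  haveI : IsLocalHom (algebraMap (V.presheaf.stalk (k₁ x)) (U.presheaf.stalk x)) :=
    show IsLocalHom (k₁.stalkMap x).hom from inferInstance
  haveI : Module.Flat (W.presheaf.stalk (k₂ (k₁ x))) (U.presheaf.stalk x) := h1
  have h2' := (Groth.Agent.Lib.CritFibFib88.fibre_stalkMap_flat_iff k₁ k₂ x).mp h2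
  set I := Ideal.map (algebraMap (W.presheaf.stalk (k₂ (k₁ x))) (V.presheaf.stalk (k₁ x)))
    (IsLocalRing.maximalIdeal (W.presheaf.stalk (k₂ (k₁ x)))) with hI
  let e0 := TensorProduct.quotTensorEquivQuotSMul (U.presheaf.stalk x) I
  let e1 : (V.presheaf.stalk (k₁ x) ⧸ I) ⊗[V.presheaf.stalk (k₁ x)] (U.presheaf.stalk x)
      ≃ₗ[V.presheaf.stalk (k₁ x) ⧸ I]
      (U.presheaf.stalk x) ⧸ (I • (⊤ : Submodule (V.presheaf.stalk (k₁ x)) (U.presheaf.stalk x))) :=
    LinearEquiv.extendScalarsOfSurjective Ideal.Quotient.mk_surjective e0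
  have h3 : Module.Flat (V.presheaf.stalk (k₁ x) ⧸ I)
      ((V.presheaf.stalk (k₁ x) ⧸ I) ⊗[V.presheaf.stalk (k₁ x)] (U.presheaf.stalk x)) :=
    (Module.Flat.equiv_iff e1).2 h2'
  exact Groth.Agent.S0392.result (R := W.presheaf.stalk (k₂ (k₁ x))) (S := V.presheaf.stalk (k₁ x))
    (S' := U.presheaf.stalk x) (M := U.presheaf.stalk x) h3

/-- Scheme-level fibrewise criterion (locally Noetherian form), globalised. -/
theorem flat_of_fibrewise_flat_noeth {U V W : Scheme.{u}} [IsLocallyNoetherian U]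
    [IsLocallyNoetherian V] [IsLocallyNoetherian W] (k₁ : U ⟶ V) (k₂ : V ⟶ W) [Flat (k₁ ≫ k₂)]
    (hfib : ∀ w : W, Flat (MoreMor.fiberMap k₁ k₂ w)) :
    Flat k₁ ∧ (Surjective k₁ → Flat k₂) := by
  have hx : ∀ x : U, (k₂.stalkMap (k₁ x)).hom.Flat ∧ (k₁.stalkMap x).hom.Flat := by
    intro x
    have := hfib (k₂ (k₁ x))
    exact flat_stalkMap_of_fibre_flat_noeth k₁ k₂ x (Flat.stalkMap (k₁ ≫ k₂) x) (Flat.stalkMap _ _)
  refine ⟨Flat.of_stalkMap _ fun x => (hx x).2, fun hs => Flat.of_stalkMap _ fun y => ?_⟩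
  obtain ⟨x, rfl⟩ := hs.surj y
  exact (hx x).1

end Groth.Agent.Lib.AlgSpCritFibNoeth36
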