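import Mathlib
import Groth.Agent.Lib.AlgSpBasic
import Groth.Agent.Lib.H80DecentPt

set_option autoImplicit false

universe u
open CategoryTheory CategoryTheory.Limits AlgebraicGeometry Opposite

namespace Groth.Agent.Lib.DiscreteClosedImm

/-- A nonempty reduced scheme with at most one point is the spectrum of a field. -/
theorem exists_iso_spec_field_of_subsingleton (Z : Scheme.{u}) [IsReduced Z] [Subsingleton ↥Z]
    [Nonempty ↥Z] : ∃ (k : Type u) (_ : Field k), Nonempty (Spec (CommRingCat.of k) ≅ Z) := by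
  have : IsAffine Z := Groth.Agent.Lib.H80DecentPt.isAffine_of_subsingleton Z
  have e : Z ≅ Spec Γ(Z, ⊤) := Z.isoSpec
  have hsub : Subsingleton (PrimeSpectrum Γ(Z, ⊤)) := by
    have hinj : Function.Injective e.inv := e.inv.isOpenEmbedding.injective
    exact hinj.subsingleton
  have hne : Nonempty (PrimeSpectrum Γ(Z, ⊤)) := ⟨e.hom (Classical.arbitrary ↥Z)⟩
  have hnt : Nontrivial Γ(Z, ⊤) := (PrimeSpectrum.nonempty_iff_nontrivial).1 hne
  have hf : IsField Γ(Z, ⊤) := PrimeSpectrum.subsingleton_iff_isField_of_isReduced.1 hsub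
  let _ := hf.toField
  exact ⟨↥Γ(Z, ⊤), inferInstance, ⟨e.symm⟩⟩

/-- A scheme etale over a field is reduced (affine one-point case suffices for us; here: affine). -/
theorem isReduced_of_etale_field_of_isAffine {Z : Scheme.{u}} [IsAffine Z] {K : Type u} [Field K]
    (e : Z ⟶ Spec (CommRingCat.of K)) [Etale e] : IsReduced Z := by
  have h1 : (e.appTop).hom.Etale :=
    (HasRingHomProperty.iff_of_isAffine (P := @Etale)).1 inferInstance
  let φ : CommRingCat.of K ⟶ Γ(Z, ⊤) := (Scheme.ΓSpecIso (CommRingCat.of K)).inv ≫ e.appTop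
  have h2 : φ.hom.Etale := by
    have : φ.hom = (e.appTop).hom.comp (Scheme.ΓSpecIso (CommRingCat.of K)).inv.hom := rfl
    rw [this]
    exact RingHom.Etale.respectsIso.2 _ (Scheme.ΓSpecIso (CommRingCat.of K)).symm.commRingCatIsoToRingEquiv h1
  algebraize [φ.hom]
  have : _root_.IsReduced Γ(Z, ⊤) := Algebra.FormallyUnramified.isReduced_of_field K Γ(Z, ⊤)
  exact isReduced_of_isAffine_isReduced Z

/-- One-point case: a monomorphism from a one-point scheme etale over a field onto a closed point is a closed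
immersion. -/
theorem isClosedImmersion_of_subsingleton {Z O : Scheme.{u}} [Subsingleton ↥Z] [Nonempty ↥Z]
    {K : Type u} [Field K] (e : Z ⟶ Spec (CommRingCat.of K)) [Etale e] (g : Z ⟶ O) [Mono g]
    (z : ↥Z) (hz : IsClosed ({g z} : Set ↥O)) : IsClosedImmersion g := by
  have : IsAffine Z := Groth.Agent.Lib.H80DecentPt.isAffine_of_subsingleton Z
  have : IsReduced Z := isReduced_of_etale_field_of_isAffine e
  obtain ⟨L, hL, ⟨i⟩⟩ := exists_iso_spec_field_of_subsingleton Z
  have hfac := Scheme.descResidueField_stalkClosedPointTo_fromSpecResidueField L O (i.hom ≫ g)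
  have hpt : (i.hom ≫ g) (IsLocalRing.closedPoint L) = g z := by
    change g (i.hom (IsLocalRing.closedPoint L)) = g z
    rw [Subsingleton.elim (i.hom (IsLocalRing.closedPoint L)) z]
  have hci : IsClosedImmersion (O.fromSpecResidueField ((i.hom ≫ g) (IsLocalRing.closedPoint L))) := by
    rw [hpt]
    exact isClosed_singleton_iff_isClosedImmersion.1 hz
  have hmono : Mono (i.hom ≫ g) := mono_comp _ _
  have hmono2 : Mono (Spec.map (Scheme.descResidueField (Scheme.stalkClosedPointTo (i.hom ≫ g))) ≫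
      O.fromSpecResidueField ((i.hom ≫ g) (IsLocalRing.closedPoint L))) := by
    rw [hfac]; exact hmono
  have hmono3 : Mono (Spec.map (Scheme.descResidueField (Scheme.stalkClosedPointTo (i.hom ≫ g)))) :=
    mono_of_mono _ (O.fromSpecResidueField ((i.hom ≫ g) (IsLocalRing.closedPoint L)))
  have hiso : IsIso (Spec.map (Scheme.descResidueField (Scheme.stalkClosedPointTo (i.hom ≫ g)))) :=
    Groth.Agent.Lib.H80DecentPt.isIso_of_mono_of_field
      (K := ↥(O.residueField ((i.hom ≫ g) (IsLocalRing.closedPoint L)))) _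
  have h1 : IsClosedImmersion (i.hom ≫ g) := by
    rw [← hfac]
    infer_instance
  have h2 : g = i.inv ≫ (i.hom ≫ g) := by simp
  rw [h2]
  infer_instance

/-- A quasi-compact monomorphism from a scheme etale over a field, whose image is a closed set of closed points,
is a closed immersion. -/
theorem isClosedImmersion_of_mono_of_etale_field {F U : Scheme.{u}} {K : Type u} [Field K]
    (e : F ⟶ Spec (CommRingCat.of K)) [Etale e] (g : F ⟶ U) [Mono g] [QuasiCompact g]
    (hT : IsClosed (Set.range g)) (hcl : ∀ f : ↥F, IsClosed ({g f} : Set ↥U)) :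
    IsClosedImmersion g := by
  classical
  have hinj : Function.Injective g := g.injective
  -- `F` is discrete
  have hlqf : LocallyQuasiFinite e := Groth.Agent.Lib.AlgSpBasic.locallyQuasiFinite_of_etale e
  have hdisc : _root_.IsDiscrete (e ⁻¹' {IsLocalRing.closedPoint K}) :=
    e.isDiscrete_preimage_singleton _
  have huniv : e ⁻¹' {IsLocalRing.closedPoint K} = Set.univ := by
    ext z
    simp only [Set.mem_preimage, Set.mem_univ, iff_true]
    exact Subsingleton.elim _ _
  rw [huniv, isDiscrete_univ_iff] at hdisc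
  -- neighbourhoods
  have hO : ∀ f : ↥F, ∃ O : U.Opens, g f ∈ O ∧ ∀ v ∈ O, v ∈ Set.range g → v = g f := by
    intro f
    obtain ⟨_, ⟨(A : U.Opens), hA, rfl⟩, hfA, -⟩ :=
      U.isBasis_affineOpens.exists_subset_of_mem_open (Set.mem_univ (g f)) isOpen_univ
    have hcomp : IsCompact (g ⁻¹' (A : Set ↥U)) :=
      QuasiCompact.isCompact_preimage (f := g) _ A.2 hA.isCompact
    have hfin : (g ⁻¹' (A : Set ↥U)).Finite := hcomp.finite_of_discrete
    let C : Set ↥U := ⋃ y ∈ (g ⁻¹' (A : Set ↥U)) \ {f}, {g y}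
    have hC : IsClosed C := (hfin.subset Set.sdiff_subset).isClosed_biUnion (fun y _ => hcl y)
    refine ⟨⟨(A : Set ↥U) ∩ Cᶜ, A.2.inter hC.isOpen_compl⟩, ⟨hfA, ?_⟩, ?_⟩
    · intro h
      simp only [C, Set.mem_iUnion, Set.mem_singleton_iff] at h
      obtain ⟨y, hy, hgy⟩ := h
      exact hy.2 (hinj hgy).symm
    · rintro _ ⟨hvA, hvC⟩ ⟨y, rfl⟩
      by_contra hne
      apply hvC
      simp only [C, Set.mem_iUnion, Set.mem_singleton_iff]
      exact ⟨y, ⟨hvA, fun h => hne (by rw [h])⟩, rfl⟩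
  choose O hO1 hO2 using hO
  let cov : Option ↥F → U.Opens := fun i =>
    match i with
    | none => ⟨(Set.range g)ᶜ, hT.isOpen_compl⟩
    | some f => O f
  have hcov : iSup cov = ⊤ := by
    rw [eq_top_iff]
    intro v _
    rw [TopologicalSpace.Opens.mem_iSup]
    by_cases hv : v ∈ Set.range g
    · obtain ⟨f, rfl⟩ := hv
      exact ⟨some f, hO1 f⟩
    · exact ⟨none, hv⟩
  refine IsZariskiLocalAtTarget.of_iSup_eq_top (P := @IsClosedImmersion) cov hcov ?_
  rintro (_ | f)
  · have hempty : IsEmpty ↥(g ⁻¹ᵁ cov none).toScheme := by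
      refine ⟨fun y => ?_⟩
      have h1 : (g ⁻¹ᵁ cov none).ι y ∈ g ⁻¹ᵁ cov none := by
        have : (g ⁻¹ᵁ cov none).ι y ∈ Set.range (g ⁻¹ᵁ cov none).ι := ⟨y, rfl⟩
        rwa [Scheme.Opens.range_ι] at this
      exact h1 ⟨_, rfl⟩
    infer_instance
  · have hmem : ∀ y : ↥(g ⁻¹ᵁ cov (some f)).toScheme, (g ⁻¹ᵁ cov (some f)).ι y = f := by
      intro y
      have h1 : (g ⁻¹ᵁ cov (some f)).ι y ∈ g ⁻¹ᵁ cov (some f) := by
        have : (g ⁻¹ᵁ cov (some f)).ι y ∈ Set.range (g ⁻¹ᵁ cov (some f)).ι := ⟨y, rfl⟩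
        rwa [Scheme.Opens.range_ι] at this
      exact hinj (hO2 f _ h1 ⟨_, rfl⟩)
    have hsub : Subsingleton ↥(g ⁻¹ᵁ cov (some f)).toScheme :=
      ⟨fun y z => (g ⁻¹ᵁ cov (some f)).ι.isOpenEmbedding.injective (by rw [hmem y, hmem z])⟩
    have hfmem : f ∈ g ⁻¹ᵁ cov (some f) := hO1 f
    have hne : Nonempty ↥(g ⁻¹ᵁ cov (some f)).toScheme := ⟨⟨f, hfmem⟩⟩
    have hmono : Mono (g ∣_ cov (some f)) :=
      MorphismProperty.of_isPullback (P := MorphismProperty.monomorphisms Scheme.{u})
        (isPullback_morphismRestrict g (cov (some f))).flip (inferInstanceAs (Mono g))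
    have het : Etale ((g ⁻¹ᵁ cov (some f)).ι ≫ e) := inferInstance
    refine isClosedImmersion_of_subsingleton ((g ⁻¹ᵁ cov (some f)).ι ≫ e) (g ∣_ cov (some f))
      ⟨f, hfmem⟩ ?_
    -- the image point is closed in the open
    have hpt : (cov (some f)).ι ((g ∣_ cov (some f)) ⟨f, hfmem⟩) = g f := by
      rw [← Scheme.Hom.comp_apply, morphismRestrict_ι]
      rfl
    have hemb := (cov (some f)).ι.isOpenEmbedding
    have : ({(g ∣_ cov (some f)) ⟨f, hfmem⟩} : Set ↥(cov (some f)).toScheme) =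
        (cov (some f)).ι ⁻¹' {g f} := by
      ext w
      simp only [Set.mem_singleton_iff, Set.mem_preimage]
      rw [← hpt]
      exact ⟨fun h => by rw [h], fun h => hemb.injective h⟩
    rw [this]
    exact (hcl f).preimage (cov (some f)).ι.continuous

end Groth.Agent.Lib.DiscreteClosedImm
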