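import Groth.Prelude
import Groth.Agent.Lib.AlgSpDecentFibre3
import Groth.Agent.Lib.DiscreteClosedImm
import Groth.Agent.Lib.FpqcDescent

set_option autoImplicit false

universe u
open CategoryTheory CategoryTheory.Limits AlgebraicGeometry Opposite
open AlgSp

namespace Groth.Agent.Lib.AlgSpDecentClosed
open Groth.Agent.Lib.AlgSpLocP Groth.Agent.Lib.AlgSpBasic Groth.Agent.Lib.AlgSpAtPt
  Groth.Agent.Lib.AlgSpQC Groth.Agent.Lib.AlgSpPoints Groth.Agent.Lib.AlgSpFtPt

variable {S : Scheme.{u}}

/-- A quasi-compact monomorphic field point of a decent space whose point is closed is a closed immersion. -/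
theorem repWith_isClosedImmersion_of_isClosed {X : Sp S} (hX : IsAlgSpace X) (hd : IsDecent X)
    (pt : FieldPt X) (hm : Mono pt.toHom) (hq : RepWith @QuasiCompact pt.toHom)
    (hx : IsClosed ({Points.mk pt} : Set (Points X))) : RepWith @IsClosedImmersion pt.toHom := by
  obtain ⟨U, a, hae, has⟩ := hX.atlas
  have sq := hq.rep.isPullback' a
  have hfe : Etale (hq.rep.fst' a).left := hae.property _ _ _ sq.flip
  have hqc : QuasiCompact (hq.rep.snd a).left := hq.property_snd a
  have hm1 : Mono ((yon S).map (hq.rep.snd a)) := sq.mono_snd_of_mono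
  have hm2 : Mono (hq.rep.snd a) := (yon S).mono_of_mono_map hm1
  have hm3 : Mono (hq.rep.snd a).left := inferInstance
  have hrange : Set.range (hq.rep.snd a).left = Points.ofPt a ⁻¹' {Points.mk pt} := by
    ext v
    constructor
    · rintro ⟨z, rfl⟩
      rw [Set.mem_preimage, Set.mem_singleton_iff, ← ofPt_yon_map_comp, ← sq.w, ofPt_yon_map_comp,
        Points.ofPt_toHom]
    · intro hv
      obtain ⟨z, hz, -⟩ := exists_of_isPullback_yon sq
        (Points.ofScheme pt.pt (IsLocalRing.closedPoint pt.K)) v
        (by rw [← Points.ofPt_eq_map_ofScheme, Points.ofPt_toHom]; exact hv.symm)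
      exact ⟨z, hz⟩
  have hT : IsClosed (Set.range (hq.rep.snd a).left) := by
    rw [hrange]; exact hx.preimage (Points.continuous_ofPt a)
  have hcl : ∀ z : ↥(hq.rep.pullback a).left, IsClosed ({(hq.rep.snd a).left z} : Set ↥U.left) := by
    intro z
    have hz : Points.ofPt a ((hq.rep.snd a).left z) = Points.mk pt := by
      have : (hq.rep.snd a).left z ∈ Set.range (hq.rep.snd a).left := ⟨z, rfl⟩
      rw [hrange] at this
      exact this
    rw [← closure_subset_iff_isClosed]
    intro y hy
    have hyT : y ∈ Set.range (hq.rep.snd a).left :=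
      (hT.closure_subset_iff.2 (Set.singleton_subset_iff.2 ⟨z, rfl⟩)) hy
    rw [hrange] at hyT
    rw [← specializes_iff_mem_closure] at hy
    exact Groth.Agent.Lib.AlgSpDecentFibre.eq_of_specializes_of_ofPt_eq hd a hae y _
      (by rw [hz]; exact hyT) hy
  have hci : IsClosedImmersion (hq.rep.snd a).left :=
    Groth.Agent.Lib.DiscreteClosedImm.isClosedImmersion_of_mono_of_etale_field
      (K := pt.K) (hq.rep.fst' a).left (hq.rep.snd a).left hT hcl
  have h1 : RepWith @IsClosedImmersion ((yon S).map (hq.rep.snd a)) :=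
    (repWith_yon_map_iff _ _).2 hci
  exact repWith_of_fppfCov @IsClosedImmersion hq.1 (repWith_fppfCov_of_etale_surjective hae has) sq h1

/-- Stacks 0BB? : closed points of decent spaces are represented by closed immersions. -/
theorem exists_closedImmersion_fieldPt_of_isClosed {X : Sp S} (hX : IsAlgSpace X) (hd : IsDecent X)
    (x : Points X) (hx : IsClosed ({x} : Set (Points X))) :
    ∃ p : FieldPt X, Points.mk p = x ∧ RepWith @IsClosedImmersion p.toHom := by
  obtain ⟨pt, hpt, hm, hq⟩ := hd x
  subst hpt
  exact ⟨pt, rfl, repWith_isClosedImmersion_of_isClosed hX hd pt hm hq hx⟩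

end Groth.Agent.Lib.AlgSpDecentClosed
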