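import Groth.Agent.Lib.AlgSpFieldQuot
import Groth.Agent.Lib.H80DecentPt

set_option autoImplicit false
universe u
open CategoryTheory CategoryTheory.Limits AlgebraicGeometry Opposite Topology

namespace Groth.Agent.Lib.AlgSpDecentPt91

open AlgSp Groth.Agent.Lib.H80DecentPt

/-- A monomorphism from the spectrum of a field is locally quasi-finite. -/
theorem locallyQuasiFinite_of_mono_field {K : Type u} [Field K] {Y : Scheme.{u}}
    (f : Spec (.of K) ⟶ Y) [Mono f] : LocallyQuasiFinite f := by
  apply LocallyQuasiFinite.of_fiberToSpecResidueField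
  intro y
  have hm : Mono (f.fiberToSpecResidueField y) := by
    unfold Scheme.Hom.fiberToSpecResidueField
    exact pullback.snd_of_mono
  by_cases hne : Nonempty ↥(f.fiber y)
  · have : IsIso (f.fiberToSpecResidueField y) :=
      isIso_of_mono_of_field (K := Y.residueField y) (f.fiberToSpecResidueField y)
    infer_instance
  · have : IsEmpty ↥(f.fiber y) := not_nonempty_iff.1 hne
    infer_instance

instance locallyQuasiFinite_fromSpecResidueField {Y : Scheme.{u}} (y : Y) :
    LocallyQuasiFinite (Y.fromSpecResidueField y) :=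
  locallyQuasiFinite_of_mono_field (K := Y.residueField y) (Y.fromSpecResidueField y)

/-- If `f` is surjective and `f ≫ g` is quasi-compact then `g` is quasi-compact. -/
theorem quasiCompact_of_surjective_comp {X Y Z : Scheme.{u}} (f : X ⟶ Y) (g : Y ⟶ Z)
    (hf : Surjective f) (hfg : QuasiCompact (f ≫ g)) : QuasiCompact g := by
  constructor
  intro U hU hUc
  have h1 : IsCompact ((f ≫ g) ⁻¹' U) := hfg.isCompact_preimage U hU hUc
  have h2 : g ⁻¹' U = f '' ((f ≫ g) ⁻¹' U) := by
    ext y
    constructor
    · intro hy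
      obtain ⟨x, rfl⟩ := hf.surj y
      exact ⟨x, by simpa using hy, rfl⟩
    · rintro ⟨x, hx, rfl⟩
      simpa using hx
  rw [h2]
  exact h1.image f.continuous

variable {S : Scheme.{u}} {F : Sp S}

/-- If `c : V ⟶ W` is surjective and `h_c ≫ g` is representable quasi-compact, with `g` representable, then `g` is representable
quasi-compact. -/
theorem repWith_quasiCompact_of_surjective_comp {V W : Over S} (c : V ⟶ W) (hc : Surjective c.left)
    (g : (yon S).obj W ⟶ F) (hg : Representable g) (h : RepWith @QuasiCompact ((yon S).map c ≫ g)) :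
    RepWith @QuasiCompact g := by
  refine ⟨hg, ?_⟩
  intro U P t fst snd sq
  obtain ⟨f1, rfl⟩ := (yon S).map_surjective fst
  have sq0 : IsPullback (pullback.fst f1 c) (pullback.snd f1 c) f1 c := IsPullback.of_hasPullback f1 c
  have sq1 : IsPullback ((yon S).map (pullback.snd f1 c)) ((yon S).map (pullback.fst f1 c))
      ((yon S).map c) ((yon S).map f1) := (sq0.map (yon S)).flip
  have sq2 := sq1.paste_vert sq
  rw [← Functor.map_comp] at sq2
  have hqc : QuasiCompact (pullback.fst f1 c ≫ snd).left := h.2 t _ _ sq2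
  have hsurj : Surjective (pullback.fst f1 c).left := by
    have sq3 := sq0.map (Over.forget S)
    exact MorphismProperty.of_isPullback (P := @Surjective) sq3.flip hc
  rw [Over.comp_left] at hqc
  exact quasiCompact_of_surjective_comp _ _ hsurj hqc

/-- Any morphism from a nonempty scheme to the spectrum of a field is surjective. -/
theorem surjective_of_field {K : Type u} [Field K] {Z : Scheme.{u}} (f : Z ⟶ Spec (.of K)) (z : Z) :
    Surjective f := by
  refine ⟨fun y => ⟨z, ?_⟩⟩
  have : Subsingleton (PrimeSpectrum K) := inferInstance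
  exact Subsingleton.elim (α := PrimeSpectrum K) _ _

/-- **Main lemma.** A residue-field point `Spec κ(u) ⟶ U ⟶ X` of an étale chart of an algebraic space whose morphism is
representable quasi-compact factors through a monomorphism `Spec k₀ ⟶ X`, with `κ(u) / k₀` finite. -/
theorem exists_mono_factor_of_chart {X : Sp S} {U : Over S} (b : (yon S).obj U ⟶ X)
    (hb : RepWith @Etale b) (u : ↥U.left) (hqc : RepWith @QuasiCompact (FieldPt.ofPt b u).toHom) :
    ∃ (k₀ : Type u) (_ : Field k₀) (str₀ : Spec (.of k₀) ⟶ S)
      (c : (FieldPt.ofPt b u).pt ⟶ Over.mk str₀) (m : (yon S).obj (Over.mk str₀) ⟶ X),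
      (yon S).map c ≫ m = (FieldPt.ofPt b u).toHom ∧ Mono m ∧ IsFinite c.left ∧ Surjective c.left ∧
        Flat c.left := by
  have hpu := FieldPt.toHom_ofPt b u
  have hlqf : RepWith @LocallyQuasiFinite (FieldPt.ofPt b u).toHom := by
    rw [hpu]
    refine (RepWith @LocallyQuasiFinite).comp_mem _ _ ((repWith_yon_map_iff _ _).2 ?_)
      ((repWith_iff _ _).2 ⟨hb.1, fun _ _ g fst snd sq => ?_⟩)
    · exact locallyQuasiFinite_fromSpecResidueField u
    · have : Etale snd.left := hb.2 g fst snd sq
      exact Groth.Agent.Lib.AlgSpBasic.locallyQuasiFinite_of_etale _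
  have hr := hqc.1
  have h1 : LocallyQuasiFinite (hr.snd (FieldPt.ofPt b u).toHom).left :=
    hlqf.2 _ _ _ (hr.isPullback (FieldPt.ofPt b u).toHom)
  have h2 : QuasiCompact (hr.snd (FieldPt.ofPt b u).toHom).left :=
    hqc.2 _ _ _ (hr.isPullback (FieldPt.ofPt b u).toHom)
  have h3 : IsLocallyArtinian (FieldPt.ofPt b u).pt.left := by
    change IsLocallyArtinian (Spec (.of (U.left.residueField u)))
    infer_instance
  have hfin : IsFinite (hr.snd (FieldPt.ofPt b u).toHom).left := IsFinite.of_locallyQuasiFinite _
  exact Groth.Agent.Lib.AlgSpFieldQuot.exists_mono_factor (K := U.left.residueField u)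
    (FieldPt.ofPt b u).str (FieldPt.ofPt b u).toHom _ _
    (hr.isPullback' (FieldPt.ofPt b u).toHom).flip hfin

/-- The point of an étale chart of an algebraic space whose residue-field morphism is representable quasi-compact is the
class of a representable quasi-compact monomorphism from the spectrum of a field. -/
theorem exists_mono_point_of_chart {X : Sp S} (hX : IsAlgSpace X) {U : Over S} (b : (yon S).obj U ⟶ X)
    (hb : RepWith @Etale b) (u : ↥U.left) (hqc : RepWith @QuasiCompact (FieldPt.ofPt b u).toHom) :
    ∃ p : FieldPt X, Points.mk p = Points.ofPt b u ∧ Mono p.toHom ∧ RepWith @QuasiCompact p.toHom := by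
  obtain ⟨k₀, _, str₀, c, m, hcm, hm, -, hcs, -⟩ := exists_mono_factor_of_chart b hb u hqc
  refine ⟨ofHom str₀ m, ?_, ?_, ?_⟩
  · exact (mk_eq_of_toHom_eq (ofHom str₀ m) (FieldPt.ofPt b u) c (by rw [toHom_ofHom]; exact hcm.symm)).symm
  · rw [toHom_ofHom]; exact hm
  · rw [toHom_ofHom]
    refine repWith_quasiCompact_of_surjective_comp c hcs m (hX.representable_from_yon m) ?_
    rw [hcm]; exact hqc

/-- If two field-valued points of an algebraic space define the same point and one of them is representable quasi-compact, so is the other. -/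
theorem repWith_quasiCompact_of_mk_eq {X : Sp S} (hX : IsAlgSpace X) (p q : FieldPt X)
    (h : Points.mk p = Points.mk q) (hq : RepWith @QuasiCompact q.toHom) :
    RepWith @QuasiCompact p.toHom := by
  obtain ⟨Ω, _, w, a, b', hab⟩ := (rel_iff_toHom p q).1 (Points.mk_eq_mk_iff.1 h)
  have hs : Surjective a.left :=
    surjective_of_field (K := p.K) a.left (IsLocalRing.closedPoint Ω)
  refine repWith_quasiCompact_of_surjective_comp a hs p.toHom (hX.representable_from_yon _) ?_
  rw [hab]
  refine (RepWith @QuasiCompact).comp_mem _ _ ((repWith_yon_map_iff _ _).2 ?_) hq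
  have h1 : IsAffine (Over.mk w).left := (inferInstance : IsAffine (Spec (.of Ω)))
  have h2 : IsAffine q.pt.left := (inferInstance : IsAffine (Spec (.of q.K)))
  change QuasiCompact b'.left
  infer_instance

/-- (5) ⇒ (4). -/
theorem exists_mono_point_of_repWith_quasiCompact {X : Sp S} (hX : IsAlgSpace X) (q : FieldPt X)
    (hq : RepWith @QuasiCompact q.toHom) :
    ∃ p : FieldPt X, Points.mk p = Points.mk q ∧ Mono p.toHom ∧ RepWith @QuasiCompact p.toHom := by
  obtain ⟨U, b, hb, hbs⟩ := hX.atlas
  obtain ⟨u, hu⟩ := Groth.Agent.Lib.H86AlgSpPoints.ofPt_surjective hbs (Points.mk q)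
  have hqc : RepWith @QuasiCompact (FieldPt.ofPt b u).toHom :=
    repWith_quasiCompact_of_mk_eq hX _ q hu hq
  obtain ⟨p, hp, hm, hpq⟩ := exists_mono_point_of_chart hX b hb u hqc
  exact ⟨p, hp.trans hu, hm, hpq⟩

end Groth.Agent.Lib.AlgSpDecentPt91
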