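import Groth.Agent.Lib.H86AlgSpOpen

/-!
# helper86: fibre products over a sheaf as base changes of its diagonal
-/

set_option autoImplicit false
set_option linter.style.haveILetI false
universe u
open CategoryTheory CategoryTheory.Limits AlgebraicGeometry Opposite

namespace Groth.Agent.Lib.H86AlgSpDiag

open AlgSp Groth.Agent.Lib.H86AlgSpPoints Groth.Agent.Lib.H86AlgSpSub Groth.Agent.Lib.H86AlgSpOpen

/-- A fibre product `A ×_X B` is the base change of the diagonal of `X` along `a × b`. -/
theorem isPullback_diag {C : Type*} [Category C] [HasBinaryProducts C] {P A B X : C}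
    {fst : P ⟶ A} {snd : P ⟶ B} {a : A ⟶ X} {b : B ⟶ X} (h : IsPullback fst snd a b) :
    IsPullback (fst ≫ a) (prod.lift fst snd) (Limits.diag X) (prod.map a b) := by
  have hs : ∀ s : PullbackCone (Limits.diag X) (prod.map a b),
      s.fst = s.snd ≫ prod.fst ≫ a ∧ s.fst = s.snd ≫ prod.snd ≫ b := by
    intro s
    have h1 := s.condition =≫ prod.fst
    have h2 := s.condition =≫ prod.snd
    simp only [Category.assoc, prod.map_fst, prod.map_snd, Limits.diag, prod.lift_fst,
      prod.lift_snd, Category.comp_id] at h1 h2
    exact ⟨h1, h2⟩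
  refine ⟨⟨?_⟩, ⟨PullbackCone.IsLimit.mk _
    (fun s => h.lift (s.snd ≫ prod.fst) (s.snd ≫ prod.snd) ?_) ?_ ?_ ?_⟩⟩
  · apply Limits.prod.hom_ext
    · simp only [Category.assoc, prod.map_fst, prod.lift_fst_assoc, Limits.diag, prod.lift_fst,
        Category.comp_id]
    · simp only [Category.assoc, prod.map_snd, prod.lift_snd_assoc, Limits.diag, prod.lift_snd,
        Category.comp_id, h.w]
  · rw [Category.assoc, Category.assoc, ← (hs s).1, ← (hs s).2]
  · intro s
    rw [← Category.assoc, h.lift_fst, Category.assoc, ← (hs s).1]
  · intro s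
    apply Limits.prod.hom_ext
    · simp only [Category.assoc, prod.lift_fst, h.lift_fst]
    · simp only [Category.assoc, prod.lift_snd, h.lift_snd]
  · intro s m h1 h2
    apply h.hom_ext
    · rw [h.lift_fst, ← h2]; simp only [Category.assoc, prod.lift_fst]
    · rw [h.lift_snd, ← h2]; simp only [Category.assoc, prod.lift_snd]

variable {S : Scheme.{u}}

/-- The fibre product `h_P = h_U ×_F h_V` as a base change of the diagonal of `F` along a map from
the representable `h_{U × V}`. -/
theorem isPullback_diag_yon {F : Sp S} {U V P : Over S} {a : (yon S).obj U ⟶ F}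
    {b : (yon S).obj V ⟶ F} {fst : P ⟶ U} {snd : P ⟶ V}
    (h : IsPullback ((yon S).map fst) ((yon S).map snd) a b) :
    IsPullback ((yon S).map fst ≫ a) ((yon S).map (prod.lift fst snd)) (Limits.diag F)
      (prodComparison (yon S) U V ≫ prod.map a b) := by
  have h1 := isPullback_diag h
  have h2 : IsPullback (𝟙 ((yon S).obj P)) ((yon S).map (prod.lift fst snd))
      (prod.lift ((yon S).map fst) ((yon S).map snd)) (prodComparison (yon S) U V) := by
    apply IsPullback.of_horiz_isIso
    constructor
    apply Limits.prod.hom_ext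
    · simp only [Category.assoc, prodComparison_fst, ← Functor.map_comp, prod.lift_fst,
        Category.id_comp]
    · simp only [Category.assoc, prodComparison_snd, ← Functor.map_comp, prod.lift_snd,
        Category.id_comp]
  have h3 := h2.paste_horiz h1
  rwa [Category.id_comp] at h3

end Groth.Agent.Lib.H86AlgSpDiag
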