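import Groth.Agent.Lib.AlgSpDecentPt91
import Groth.Agent.Lib.H86AlgSpDiag

set_option autoImplicit false
universe u
open CategoryTheory CategoryTheory.Limits AlgebraicGeometry Opposite Topology

namespace Groth.Agent.Lib.AlgSpDecentPt91

open AlgSp Groth.Agent.Lib.H80DecentPt

variable {S : Scheme.{u}}

/-- The second projection `U × V ⟶ V` in `Over S` is quasi-compact when `U ⟶ S` is. -/
theorem quasiCompact_prod_snd_left (U V : Over S) (hU : QuasiCompact U.hom) :
    QuasiCompact (prod.snd : U ⨯ V ⟶ V).left := by
  rw [← Over.prodLeftIsoPullback_hom_snd]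
  infer_instance

/-- Every representable morphism from a scheme quasi-compact over `S` to a sheaf quasi-separated over `S` is representable
quasi-compact. -/
theorem repWith_quasiCompact_of_isQuasiSeparatedSp {X : Sp S} (hX : IsQuasiSeparatedSp X) {U : Over S}
    (hU : QuasiCompact U.hom) (a : (yon S).obj U ⟶ X) (ha : Representable a) :
    RepWith @QuasiCompact a := by
  refine (repWith_iff _ _).2 ⟨ha, fun V P t fst snd sq => ?_⟩
  obtain ⟨f1, rfl⟩ := (yon S).map_surjective fst
  have H := Groth.Agent.Lib.H86AlgSpDiag.isPullback_diag_yon sq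
  have h1 : QuasiCompact (prod.lift f1 snd).left := hX.2 _ _ _ H
  have h2 := quasiCompact_prod_snd_left U V hU
  have h3 : snd.left = (prod.lift f1 snd).left ≫ (prod.snd : U ⨯ V ⟶ V).left := by
    rw [← Over.comp_left, prod.lift_snd]
  rw [h3]
  infer_instance

/-- Field-valued points of a sheaf quasi-separated over `S` are representable quasi-compact as soon as they are
representable. -/
theorem repWith_quasiCompact_fieldPt_of_isQuasiSeparatedSp {X : Sp S} (hX : IsQuasiSeparatedSp X)
    (q : FieldPt X) (hq : Representable q.toHom) : RepWith @QuasiCompact q.toHom := by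
  refine repWith_quasiCompact_of_isQuasiSeparatedSp hX ?_ _ hq
  have : Finite ↥(Spec (CommRingCat.of q.K)) := by
    have : Subsingleton (PrimeSpectrum q.K) := inferInstance
    exact (inferInstance : Finite (PrimeSpectrum q.K))
  exact quasiCompact_of_finite_source (X := Spec (CommRingCat.of q.K)) q.str

/-- A quasi-separated algebraic space is decent. -/
theorem isDecent_of_isQuasiSeparatedSp {X : Sp S} (hA : IsAlgSpace X) (hX : IsQuasiSeparatedSp X) :
    IsDecent X := by
  intro x
  obtain ⟨q, rfl⟩ := Points.mk_surjective x
  exact exists_mono_point_of_repWith_quasiCompact hA q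
    (repWith_quasiCompact_fieldPt_of_isQuasiSeparatedSp hX q (hA.representable_from_yon _))

end Groth.Agent.Lib.AlgSpDecentPt91
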