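import Groth.Agent.Lib.AlgSpFibre
import Groth.Agent.Lib.AlgSpQC

/-!
# Descent of "universal" properties of morphisms of algebraic spaces along etale surjective charts (owner: helper91)

Namespace `Groth.Agent.Lib.AlgSpDescent`.  Append-only please.
-/

set_option autoImplicit false

universe u

open CategoryTheory CategoryTheory.Limits AlgebraicGeometry Opposite Topology

namespace Groth.Agent.Lib.AlgSpDescent

open AlgSp Groth.Agent.Lib.AlgSpPoints Groth.Agent.Lib.AlgSpQC Groth.Agent.Lib.AlgSpFibre

variable {S : Scheme.{u}}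

/-- A representable etale surjective morphism is a quotient map on points. -/
theorem isQuotientMap_map_of_etale_surjective {F G : Sp S} {π : F ⟶ G} (he : RepWith @Etale π)
    (hs : RepWith @Surjective π) : IsQuotientMap (Points.map π) :=
  (isOpenMap_map_of_repWith_etale he).isQuotientMap (Points.continuous_map π)
    (surjective_map_of_repWith_surjective hs)

/-- `UnivSp Q` is stable under base change. -/
theorem univSp_of_isPullback {Q : MorphismProperty (Sp S)} {X Y V P : Sp S}
    {f : X ⟶ Y} {p : V ⟶ Y} {fst : P ⟶ X} {snd : P ⟶ V} (sq : IsPullback fst snd f p)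
    (h : UnivSp Q f) : UnivSp Q snd :=
  fun _ _ hZ g _ _ sq' => h hZ (g ≫ p) _ _ (sq'.paste_horiz sq)

/-- Descent of `UnivSp Q` along a representable etale surjective base change `p : V ⟶ Y` of algebraic spaces, for a
property `Q` of morphisms that descends along base changes that are quotient maps on points. -/
theorem univSp_of_etale_chart {Q : MorphismProperty (Sp S)}
    (hQ : ∀ ⦃Z Z' ZV Z'V : Sp S⦄ ⦃snd' : Z' ⟶ Z⦄ ⦃π : ZV ⟶ Z⦄ ⦃a : Z'V ⟶ Z'⦄ ⦃b : Z'V ⟶ ZV⦄,
      IsPullback a b snd' π → IsQuotientMap (Points.map π) → Q b → Q snd')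
    {X Y V P : Sp S} (hY : Representable (Limits.diag Y)) (hV : IsAlgSpace V) {f : X ⟶ Y} {p : V ⟶ Y}
    (hp : RepWith @Etale p) (hps : RepWith @Surjective p) {fst : P ⟶ X} {snd : P ⟶ V}
    (sq : IsPullback fst snd f p) (h : UnivSp Q snd) : UnivSp Q f := by
  intro Z Z' hZ g fst' snd' sq'
  have sqV := IsPullback.of_hasPullback g p
  have hZV : IsAlgSpace (pullback g p) := isAlgSpace_of_isPullback hY hZ hV sqV
  have hπe : RepWith @Etale (pullback.fst g p) := (RepWith @Etale).of_isPullback sqV.flip hp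
  have hπs : RepWith @Surjective (pullback.fst g p) := (RepWith @Surjective).of_isPullback sqV.flip hps
  have sqb := IsPullback.of_hasPullback snd' (pullback.fst g p)
  have outer : IsPullback (pullback.fst snd' (pullback.fst g p) ≫ fst')
      (pullback.snd snd' (pullback.fst g p)) f (pullback.fst g p ≫ g) := sqb.paste_horiz sq'
  have e : (pullback.fst snd' (pullback.fst g p) ≫ fst') ≫ f =
      (pullback.snd snd' (pullback.fst g p) ≫ pullback.snd g p) ≫ p := by
    rw [outer.w, Category.assoc, pullback.condition]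
  have left : IsPullback (sq.lift _ _ e) (pullback.snd snd' (pullback.fst g p)) snd (pullback.snd g p) := by
    apply IsPullback.of_right (h₁₂ := fst) (v₁₃ := f) (h₂₂ := p) ?_ (sq.lift_snd _ _ _) sq
    rw [sq.lift_fst, ← pullback.condition]
    exact outer
  exact hQ sqb (isQuotientMap_map_of_etale_surjective hπe hπs) (h hZV _ _ _ left)

theorem isUnivOpenMor_of_etale_chart {X Y V P : Sp S} (hY : Representable (Limits.diag Y))
    (hV : IsAlgSpace V) {f : X ⟶ Y} {p : V ⟶ Y} (hp : RepWith @Etale p) (hps : RepWith @Surjective p)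
    {fst : P ⟶ X} {snd : P ⟶ V} (sq : IsPullback fst snd f p) (h : IsUnivOpenMor snd) :
    IsUnivOpenMor f :=
  univSp_of_etale_chart (Q := IsOpenMor)
    (fun _ _ _ _ _ _ _ _ s hπ hb => isOpenMap_of_isPullback_of_isQuotientMap s hπ hb) hY hV hp hps sq h

theorem isUnivClosedMor_of_etale_chart {X Y V P : Sp S} (hY : Representable (Limits.diag Y))
    (hV : IsAlgSpace V) {f : X ⟶ Y} {p : V ⟶ Y} (hp : RepWith @Etale p) (hps : RepWith @Surjective p)
    {fst : P ⟶ X} {snd : P ⟶ V} (sq : IsPullback fst snd f p) (h : IsUnivClosedMor snd) :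
    IsUnivClosedMor f :=
  univSp_of_etale_chart (Q := IsClosedMor)
    (fun _ _ _ _ _ _ _ _ s hπ hb => isClosedMap_of_isPullback_of_isQuotientMap s hπ hb) hY hV hp hps sq h

/-- If a chart `r : h_V ⟶ Z` is open and surjective on points and `|Z|` is quasi-compact, some quasi-compact open
subscheme of `V` still surjects onto `|Z|`. -/
theorem exists_compact_open_of_isOpenMap {V : Over S} {Z : Sp S} (r : (yon S).obj V ⟶ Z)
    (hopen : IsOpenMap (Points.ofPt r)) (hsurj : Function.Surjective (Points.ofPt r))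
    [CompactSpace (Points Z)] :
    ∃ V' : V.left.Opens, IsCompact (V' : Set ↥V.left) ∧
      Function.Surjective (Points.ofPt (restrictChart r V')) := by
  obtain ⟨t, ht⟩ := isCompact_univ.elim_finite_subcover
    (fun W : V.left.affineOpens => Points.ofPt r '' (W.1 : Set ↥V.left))
    (fun W => hopen _ W.1.isOpen) (by
      intro y _
      obtain ⟨v, rfl⟩ := hsurj y
      obtain ⟨_, ⟨W, hW, rfl⟩, hvW, -⟩ := (V.left.isBasis_affineOpens).exists_subset_of_mem_open
        (Set.mem_univ v) isOpen_univ
      exact Set.mem_iUnion.2 ⟨⟨W, hW⟩, v, hvW, rfl⟩)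
  refine ⟨⨆ W ∈ t, (W : V.left.affineOpens).1, ?_, ?_⟩
  · have : ((⨆ W ∈ t, (W : V.left.affineOpens).1 : V.left.Opens) : Set ↥V.left) =
        ⋃ W ∈ t, ((W : V.left.affineOpens).1 : Set ↥V.left) := by simp
    rw [this]
    exact t.finite_toSet.isCompact_biUnion fun W _ => W.2.isCompact
  · intro y
    have := ht (Set.mem_univ y)
    simp only [Set.mem_iUnion, Set.mem_image] at this
    obtain ⟨W, hW, v, hv, rfl⟩ := this
    have hvV' : v ∈ (⨆ W ∈ t, (W : V.left.affineOpens).1 : V.left.Opens) := by
      simp only [TopologicalSpace.Opens.mem_iSup]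
      exact ⟨W, hW, hv⟩
    exact ⟨⟨v, hvV'⟩, ofPt_restrictChart r _ ⟨v, hvV'⟩⟩

/-- The restriction of a representable etale chart to an open subscheme is representable etale. -/
theorem repWith_etale_restrictChart {V : Over S} {Z : Sp S} {r : (yon S).obj V ⟶ Z}
    (hr : RepWith @Etale r) (V' : V.left.Opens) : RepWith @Etale (restrictChart r V') := by
  have hje : RepWith @Etale ((yon S).map (Over.homMk V'.ι rfl : Over.mk (V'.ι ≫ V.hom) ⟶ V)) :=
    (repWith_yon_map_iff @Etale _).2 (by change Etale V'.ι; infer_instance)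
  exact (RepWith @Etale).comp_mem _ _ hje hr

/-- Quasi-compactness of morphisms of algebraic spaces descends along a base change that is universally open and
surjective. -/
theorem isQuasiCompactMor_of_isPullback_of_univOpen_surjective {X Y Y' X' : Sp S} (hX : IsAlgSpace X)
    (hY : IsAlgSpace Y) (hY' : IsAlgSpace Y') {f : X ⟶ Y} {g : Y' ⟶ Y} {fst : X' ⟶ X} {f' : X' ⟶ Y'}
    (sq : IsPullback fst f' f g) (hg : IsUnivOpenMor g) (hgs : IsSurjectiveMor g)
    (hf' : IsQuasiCompactMor f') : IsQuasiCompactMor f := by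
  intro Z ZX hZ hZqc h a b sq0
  have hZX : IsAlgSpace ZX := isAlgSpace_of_isPullback hY.diag hX hZ sq0
  have sqZ' := IsPullback.of_hasPullback h g
  have hZ' : IsAlgSpace (pullback h g) := isAlgSpace_of_isPullback hY.diag hZ hY' sqZ'
  have hπo : IsOpenMap (Points.map (pullback.fst h g)) := hg hZ h _ _ sqZ'.flip
  have hπs : Function.Surjective (Points.map (pullback.fst h g)) :=
    isSurjectiveMor_of_isPullback sqZ'.flip hgs
  obtain ⟨W, q, hqe, hqs⟩ := hZ'.atlas
  have hcZ := compactSpace_points_of_isQuasiCompactSp hZqc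
  have e0 : Points.ofPt (q ≫ pullback.fst h g) = Points.map (pullback.fst h g) ∘ Points.ofPt q := by
    funext w; rfl
  obtain ⟨W₀, hW₀c, hW₀s⟩ := exists_compact_open_of_isOpenMap (q ≫ pullback.fst h g)
    (by rw [e0]; exact hπo.comp (isOpenMap_ofPt_of_repWith_etale hqe))
    (by rw [e0]; exact hπs.comp (surjective_ofPt_of_repWith_surjective hqs))
  -- the quasi-compact chart `c : h_{W₀} ⟶ Z'`
  have hc0 : restrictChart (q ≫ pullback.fst h g) W₀ = restrictChart q W₀ ≫ pullback.fst h g :=
    (Category.assoc _ _ _).symm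
  have hW₀qc : IsQuasiCompactSp ((yon S).obj (Over.mk (W₀.ι ≫ W.hom))) :=
    (isQuasiCompactSp_yon_iff _).2 (isCompact_iff_compactSpace.1 hW₀c)
  -- the fibre product `h_{W₀} ×_Z ZX`
  have sq2 := IsPullback.of_hasPullback b (restrictChart q W₀ ≫ pullback.fst h g)
  have outer : IsPullback (pullback.fst b (restrictChart q W₀ ≫ pullback.fst h g) ≫ a)
      (pullback.snd b (restrictChart q W₀ ≫ pullback.fst h g)) f
      ((restrictChart q W₀ ≫ pullback.fst h g) ≫ h) := sq2.paste_horiz sq0
  have e : (pullback.fst b (restrictChart q W₀ ≫ pullback.fst h g) ≫ a) ≫ f =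
      (pullback.snd b (restrictChart q W₀ ≫ pullback.fst h g) ≫ restrictChart q W₀ ≫ pullback.snd h g) ≫
        g := by
    rw [outer.w]
    simp only [Category.assoc]
    rw [pullback.condition]
  have left : IsPullback (sq.lift _ _ e) (pullback.snd b (restrictChart q W₀ ≫ pullback.fst h g)) f'
      (restrictChart q W₀ ≫ pullback.snd h g) := by
    apply IsPullback.of_right (h₁₂ := fst) (v₁₃ := f) (h₂₂ := g) ?_ (sq.lift_snd _ _ _) sq
    rw [sq.lift_fst]
    have : (restrictChart q W₀ ≫ pullback.snd h g) ≫ g = (restrictChart q W₀ ≫ pullback.fst h g) ≫ h := by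
      simp only [Category.assoc]
      rw [pullback.condition]
    rw [this]
    exact outer
  have hqc2 : IsQuasiCompactSp (pullback b (restrictChart q W₀ ≫ pullback.fst h g)) :=
    hf' (IsAlgSpace.yon_obj _) hW₀qc _ _ _ left
  have hc2 := compactSpace_points_of_isQuasiCompactSp hqc2
  have hs2 : Function.Surjective (Points.map (pullback.fst b (restrictChart q W₀ ≫ pullback.fst h g))) := by
    refine isSurjectiveMor_of_isPullback sq2.flip ?_
    intro z
    obtain ⟨w, hw⟩ := hW₀s z
    refine ⟨Points.ofScheme _ w, ?_⟩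
    rw [← Points.ofPt_eq_map_ofScheme, ← hc0]
    exact hw
  have : CompactSpace (Points ZX) := Function.Surjective.compactSpace (Points.continuous_map _) hs2
  exact isQuasiCompactSp_of_compactSpace_points hZX

/-- If `q ≫ g` is open on points and `q` is surjective on points, `g` is open on points. -/
theorem isOpenMap_map_of_comp {F G H : Sp S} {q : F ⟶ G} {g : G ⟶ H}
    (hq : Function.Surjective (Points.map q)) (h : IsOpenMap (Points.map (q ≫ g))) :
    IsOpenMap (Points.map g) := by
  intro W hW
  have : Points.map g '' W = Points.map (q ≫ g) '' (Points.map q ⁻¹' W) := by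
    ext y
    constructor
    · rintro ⟨x, hx, rfl⟩
      obtain ⟨z, rfl⟩ := hq x
      exact ⟨z, hx, Points.map_comp q g z⟩
    · rintro ⟨z, hz, rfl⟩
      exact ⟨Points.map q z, hz, (Points.map_comp q g z).symm⟩
  rw [this]
  exact h _ ((Points.continuous_map q).isOpen_preimage _ hW)

/-- An etale morphism of algebraic spaces (in the sense of `AlgSp.IsEtaleMor`) is universally open. -/
theorem isUnivOpenMor_of_isEtaleMor {Y' Y : Sp S} (hY' : IsAlgSpace Y') (hY : Representable (Limits.diag Y))
    {g : Y' ⟶ Y} (hg : IsEtaleMor g) : IsUnivOpenMor g := by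
  intro Z Z' hZ h fst' snd' sq'
  obtain ⟨V, qV, hVe, hVs⟩ := hY'.atlas
  obtain ⟨A, qA, hAe, hAs⟩ := hZ.atlas
  obtain ⟨W, q, wV, wA, hqe, hqs, -, e2, sqW⟩ :=
    exists_atlas_of_isPullback hY sq' qV qA hVe hVs hAe hAs
  have h1 : RepWith @Etale ((yon S).map wA) := (RepWith @Etale).of_isPullback sqW (hg qV hVe)
  have h2 : RepWith @Etale (q ≫ snd') := by
    rw [e2]
    exact (RepWith @Etale).comp_mem _ _ h1 hAe
  exact isOpenMap_map_of_comp (surjective_map_of_repWith_surjective hqs)
    (isOpenMap_map_of_repWith_etale h2)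

/-- Quasi-compact morphisms are stable under base change. -/
theorem isQuasiCompactMor_of_isPullback {X Y V P : Sp S} {f : X ⟶ Y} {p : V ⟶ Y} {fst : P ⟶ X}
    {snd : P ⟶ V} (sq : IsPullback fst snd f p) (h : IsQuasiCompactMor f) : IsQuasiCompactMor snd :=
  fun _ _ hZ hZqc g _ _ sq' => h hZ hZqc (g ≫ p) _ _ (sq'.paste_horiz sq)

/-- Quasi-compact morphisms compose, when the middle object is an algebraic space and the target has representable
diagonal. -/
theorem isQuasiCompactMor_comp {F G H : Sp S} (hG : IsAlgSpace G) (hH : Representable (Limits.diag H))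
    {f : F ⟶ G} {g : G ⟶ H} (hf : IsQuasiCompactMor f) (hg : IsQuasiCompactMor g) :
    IsQuasiCompactMor (f ≫ g) := by
  intro Z Z₂ hZ hZqc h a b sq
  have sq1 := IsPullback.of_hasPullback g h
  have hZ₁ : IsAlgSpace (pullback g h) := isAlgSpace_of_isPullback hH hG hZ sq1
  have hZ₁qc : IsQuasiCompactSp (pullback g h) := hg hZ hZqc h _ _ sq1
  have e : (a ≫ f) ≫ g = b ≫ h := by rw [Category.assoc, sq.w]
  have left : IsPullback a (sq1.lift _ _ e) f (pullback.fst g h) := by
    apply IsPullback.of_bot ?_ (sq1.lift_fst _ _ e).symm sq1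
    rw [sq1.lift_snd]
    exact sq
  exact hf hZ₁ hZ₁qc _ _ _ left

/-- If `f ≫ g` is quasi-compact and `g` is quasi-separated, then `f` is quasi-compact (for algebraic spaces). -/
theorem isQuasiCompactMor_of_comp {X Y Z : Sp S} (hX : IsAlgSpace X) (hY : IsAlgSpace Y)
    (hZ : Representable (Limits.diag Z)) {f : X ⟶ Y} {g : Y ⟶ Z}
    (hgf : IsQuasiCompactMor (f ≫ g)) (hg : IsQuasiSeparatedMor g) : IsQuasiCompactMor f := by
  have sqΓ := pullback_lift_diagonal_isPullback f g
  have hΓ : RepWith @QuasiCompact (pullback.lift (𝟙 X) f (by simp) : X ⟶ pullback (f ≫ g) g) :=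
    (RepWith @QuasiCompact).of_isPullback sqΓ hg
  have sqP := IsPullback.of_hasPullback (f ≫ g) g
  have hP : IsAlgSpace (pullback (f ≫ g) g) := isAlgSpace_of_isPullback hZ hX hY sqP
  have h2 : IsQuasiCompactMor (pullback.snd (f ≫ g) g) := isQuasiCompactMor_of_isPullback sqP hgf
  have key := isQuasiCompactMor_comp hP hY.diag (isQuasiCompactMor_of_repWith hΓ) h2
  have e : (pullback.lift (𝟙 X) f (by simp) : X ⟶ pullback (f ≫ g) g) ≫ pullback.snd (f ≫ g) g = f :=
    pullback.lift_snd _ _ _
  rwa [e] at key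

/-- If `q` is surjective on points and `q ≫ f` is universally open, then `f` is universally open. -/
theorem isUnivOpenMor_of_comp {W X Y : Sp S} {q : W ⟶ X} {f : X ⟶ Y} (hq : IsSurjectiveMor q)
    (h : IsUnivOpenMor (q ≫ f)) : IsUnivOpenMor f := by
  intro Z Z' hZ g fst' snd' sq'
  have sq'' := IsPullback.of_hasPullback fst' q
  have big : IsPullback (pullback.snd fst' q) (pullback.fst fst' q ≫ snd') (q ≫ f) g :=
    sq''.flip.paste_vert sq'
  exact isOpenMap_map_of_comp (isSurjectiveMor_of_isPullback sq''.flip hq) (h hZ g _ _ big)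

/-- `LocP P` is stable under base change along a representable etale morphism. -/
theorem locP_of_isPullback_etale {P : MorphismProperty Scheme.{u}} {X Y V X' : Sp S} {f : X ⟶ Y}
    {p : V ⟶ Y} {fst : X' ⟶ X} {snd : X' ⟶ V} (sq : IsPullback fst snd f p) (hp : RepWith @Etale p)
    (hf : LocP P f) : LocP P snd := by
  intro U' V' a' b' h ha' hb' e
  have hfst : RepWith @Etale fst := (RepWith @Etale).of_isPullback sq.flip hp
  refine hf (a' ≫ fst) (b' ≫ p) h ((RepWith @Etale).comp_mem _ _ ha' hfst)
    ((RepWith @Etale).comp_mem _ _ hb' hp) ?_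
  rw [Category.assoc, sq.w, ← Category.assoc, e, Category.assoc]

/-- A morphism of algebraic spaces that is flat and locally of finite presentation (etale locally on source and
target) is universally open. -/
theorem isUnivOpenMor_of_locP_flat_lfp {X Y : Sp S} (hX : IsAlgSpace X) (hY : IsAlgSpace Y) {f : X ⟶ Y}
    (hfl : LocP @Flat f) (hfp : LocP @LocallyOfFinitePresentation f) : IsUnivOpenMor f := by
  obtain ⟨V, qV, hVe, hVs⟩ := hY.atlas
  have sq := IsPullback.of_hasPullback f qV
  have hXV : IsAlgSpace (pullback f qV) := isAlgSpace_of_isPullback hY.diag hX (IsAlgSpace.yon_obj V) sq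
  refine isUnivOpenMor_of_etale_chart hY.diag (IsAlgSpace.yon_obj V) hVe hVs sq ?_
  obtain ⟨U, qU, hUe, hUs⟩ := hXV.atlas
  obtain ⟨h₀, hh₀⟩ := (yon S).map_surjective (qU ≫ pullback.snd f qV)
  have e : qU ≫ pullback.snd f qV = (yon S).map h₀ ≫ 𝟙 _ := by rw [hh₀, Category.comp_id]
  have h1 : Flat h₀.left :=
    locP_of_isPullback_etale sq hVe hfl qU (𝟙 _) h₀ hUe (Groth.Agent.Lib.AlgSpQC.repWith_id _ V) e
  have h2 : LocallyOfFinitePresentation h₀.left :=
    locP_of_isPullback_etale sq hVe hfp qU (𝟙 _) h₀ hUe (Groth.Agent.Lib.AlgSpQC.repWith_id _ V) e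
  have h3 : UniversallyOpen h₀.left := inferInstance
  have h4 : RepWith @UniversallyOpen ((yon S).map h₀) := (repWith_yon_map_iff @UniversallyOpen h₀).2 h3
  have h5 : IsUnivOpenMor ((yon S).map h₀) :=
    univSp_of_repWith (Q := IsOpenMor) (P := @UniversallyOpen) (fun F G f hf => by
      refine isOpenMap_map_of_representable hf.rep fun T g => ?_
      have : UniversallyOpen (hf.rep.snd g).left := hf.property_snd g
      exact (hf.rep.snd g).left.isOpenMap) h4
  rw [hh₀] at h5
  exact isUnivOpenMor_of_comp (surjective_map_of_repWith_surjective hUs) h5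

/-- A universally open morphism from an algebraic space is open on points. -/
theorem isOpenMor_of_isUnivOpenMor {X Y : Sp S} (hY : IsAlgSpace Y) {f : X ⟶ Y} (h : IsUnivOpenMor f) :
    IsOpenMor f :=
  h hY (𝟙 Y) (𝟙 X) f (IsPullback.of_horiz_isIso ⟨by simp⟩)

/-- Openness on points can be checked on a jointly surjective family over the source. -/
theorem isOpenMor_of_jointly_surjective {ι : Type*} {X Y : Sp S} {Xi : ι → Sp S} (g : ∀ i, Xi i ⟶ X)
    (hg : ∀ x : Points X, ∃ i, x ∈ Set.range (Points.map (g i))) {f : X ⟶ Y}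
    (h : ∀ i, IsOpenMor (g i ≫ f)) : IsOpenMor f := by
  intro W hW
  have : Points.map f '' W = ⋃ i, Points.map (g i ≫ f) '' (Points.map (g i) ⁻¹' W) := by
    ext y
    simp only [Set.mem_image, Set.mem_iUnion, Set.mem_preimage]
    constructor
    · rintro ⟨x, hx, rfl⟩
      obtain ⟨i, z, rfl⟩ := hg x
      exact ⟨i, z, hx, Points.map_comp _ _ z⟩
    · rintro ⟨i, z, hz, rfl⟩
      exact ⟨Points.map (g i) z, hz, (Points.map_comp _ _ z).symm⟩
  rw [this]
  exact isOpen_iUnion fun i => h i _ ((Points.continuous_map _).isOpen_preimage _ hW)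

/-- Universally open morphisms compose (the middle object being an algebraic space, the target with representable
diagonal). -/
theorem isUnivOpenMor_comp {F G H : Sp S} (hG : IsAlgSpace G) (hH : Representable (Limits.diag H))
    {f : F ⟶ G} {g : G ⟶ H} (hf : IsUnivOpenMor f) (hg : IsUnivOpenMor g) : IsUnivOpenMor (f ≫ g) := by
  intro Z Z₂ hZ h a b sq
  have sq1 := IsPullback.of_hasPullback g h
  have hZ₁ : IsAlgSpace (pullback g h) := isAlgSpace_of_isPullback hH hG hZ sq1
  have e : (a ≫ f) ≫ g = b ≫ h := by rw [Category.assoc, sq.w]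
  have left : IsPullback a (sq1.lift _ _ e) f (pullback.fst g h) := by
    apply IsPullback.of_bot ?_ (sq1.lift_fst _ _ e).symm sq1
    rw [sq1.lift_snd]
    exact sq
  have h1 : IsOpenMap (Points.map (sq1.lift _ _ e)) := hf hZ₁ _ _ _ left
  have h2 : IsOpenMap (Points.map (pullback.snd g h)) := hg hZ h _ _ sq1
  have e2 : Points.map b = Points.map (pullback.snd g h) ∘ Points.map (sq1.lift _ _ e) := by
    funext x
    rw [Function.comp_apply, ← Points.map_comp, sq1.lift_snd]
  change IsOpenMap (Points.map b)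
  rw [e2]
  exact h2.comp h1

/-- Universal openness can be checked on a jointly surjective family over the source. -/
theorem isUnivOpenMor_of_jointly_surjective {ι : Type*} {X Y : Sp S} {Xi : ι → Sp S} (g : ∀ i, Xi i ⟶ X)
    (hg : ∀ x : Points X, ∃ i, x ∈ Set.range (Points.map (g i))) {f : X ⟶ Y}
    (h : ∀ i, IsUnivOpenMor (g i ≫ f)) : IsUnivOpenMor f := by
  intro Z Z' hZ k fst' snd' sq'
  refine isOpenMor_of_jointly_surjective (fun i => pullback.fst fst' (g i)) ?_ fun i => ?_
  · intro z'
    obtain ⟨i, x, hx⟩ := hg (Points.map fst' z')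
    obtain ⟨p, hp, -⟩ := exists_point_of_isPullback (IsPullback.of_hasPullback fst' (g i)) z' x hx.symm
    exact ⟨i, p, hp⟩
  · have sq'' := IsPullback.of_hasPullback fst' (g i)
    have big : IsPullback (pullback.snd fst' (g i)) (pullback.fst fst' (g i) ≫ snd') (g i ≫ f) k :=
      sq''.flip.paste_vert sq'
    exact h i hZ k _ _ big

end Groth.Agent.Lib.AlgSpDescent
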