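import Groth.Agent.Lib.AlgSpDecentPt91b
import Groth.Agent.Lib.AlgSpDescent
import Groth.Prelude.Def_AlgSpEt

set_option autoImplicit false
universe u
open CategoryTheory CategoryTheory.Limits AlgebraicGeometry Opposite Topology

namespace Groth.Agent.Lib.AlgSpDecentPt91

open AlgSp Groth.Agent.Lib.H80DecentPt Groth.Agent.Lib.AlgSpPoints Groth.Agent.Lib.AlgSpQC
  Groth.Agent.Lib.AlgSpDescent

variable {S : Scheme.{u}}

/-- A commutative square of charts commutes on points. -/
theorem ofPt_eq_of_comm {X : Sp S} {P U V : Over S} (f1 : P ⟶ U) (f2 : P ⟶ V) (a : (yon S).obj U ⟶ X)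
    (b : (yon S).obj V ⟶ X) (h : (yon S).map f1 ≫ a = (yon S).map f2 ≫ b) (w : ↥P.left) :
    Points.ofPt a (f1.left w) = Points.ofPt b (f2.left w) := by
  rw [← ofPt_yon_map_comp, ← ofPt_yon_map_comp, h]

/-- A monomorphic field-valued point `p` of an algebraic space is representable quasi-compact as soon as, for an étale atlas `V`, every
affine open of `V` contains only finitely many points over the point defined by `p`. -/
theorem repWith_quasiCompact_of_mono_of_finite_fibres {X : Sp S} (hX : IsAlgSpace X) (p : FieldPt X)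
    (hm : Mono p.toHom) {V : Over S} (b : (yon S).obj V ⟶ X) (hb : RepWith @Etale b)
    (hbs : RepWith @Surjective b)
    (hfin : ∀ W : V.left.Opens, IsAffineOpen W →
      ((Points.ofPt b ⁻¹' {Points.mk p}) ∩ (W : Set ↥V.left)).Finite) :
    RepWith @QuasiCompact p.toHom := by
  have hr : Representable p.toHom := hX.representable_from_yon _
  have sq := hr.isPullback' b
  have het : Etale (hr.fst' b).left := hb.2 _ _ _ sq.flip
  have hlqf : LocallyQuasiFinite (hr.fst' b).left :=
    Groth.Agent.Lib.AlgSpBasic.locallyQuasiFinite_of_etale _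
  have hart : IsLocallyArtinian p.pt.left := by
    change IsLocallyArtinian (Spec (.of p.K))
    infer_instance
  have hart' : IsLocallyArtinian (hr.pullback b).left :=
    IsLocallyArtinian.of_locallyQuasiFinite (hr.fst' b).left
  have hdisc : DiscreteTopology ↥(hr.pullback b).left := inferInstance
  have hmono1 : Mono ((yon S).map (hr.snd b)) := sq.mono_snd_of_mono
  have hmono2 : Mono (hr.snd b) := (yon S).mono_of_mono_map hmono1
  have hmono3 : Mono (hr.snd b).left := inferInstance
  have hinj : Function.Injective (hr.snd b).left := (hr.snd b).left.injective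
  have hmem : ∀ w : ↥(hr.pullback b).left,
      (hr.snd b).left w ∈ Points.ofPt b ⁻¹' {Points.mk p} := by
    intro w
    have h1 := ofPt_eq_of_comm (hr.fst' b) (hr.snd b) p.toHom b sq.w w
    rw [Set.mem_preimage, Set.mem_singleton_iff, ← h1]
    exact Points.ofPt_toHom p _
  have hqc : QuasiCompact (hr.snd b).left := by
    rw [quasiCompact_iff_forall_isAffineOpen]
    intro W hW
    have h2 : ((hr.snd b).left ⁻¹' ((Points.ofPt b ⁻¹' {Points.mk p}) ∩ (W : Set ↥V.left))).Finite :=
      (hfin W hW).preimage hinj.injOn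
    exact (h2.subset (fun w hw => ⟨hmem w, hw⟩)).isCompact
  have hqc' : RepWith @QuasiCompact ((yon S).map (hr.snd b)) := (repWith_yon_map_iff _ _).2 hqc
  have h3 : IsQuasiCompactMor ((yon S).map (hr.snd b)) := isQuasiCompactMor_of_repWith hqc'
  have h4 : IsQuasiCompactMor p.toHom :=
    isQuasiCompactMor_of_isPullback_of_univOpen_surjective (IsAlgSpace.yon_obj _) hX
      (IsAlgSpace.yon_obj V) sq
      (isUnivOpenMor_of_isEtaleMor (IsAlgSpace.yon_obj V) hX.diag (AlgSp.isEtaleMor_of_repWith b hb))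
      (surjective_map_of_repWith_surjective hbs) h3
  exact repWith_quasiCompact_of_isQuasiCompactMor hr h4

/-- Variant of `exists_mono_factor_of_chart`: it suffices that `Spec κ(u) ×_X Spec κ(u)` be quasi-compact. -/
theorem exists_mono_factor_of_chart_of_compact {X : Sp S} {U : Over S} (b : (yon S).obj U ⟶ X)
    (hb : RepWith @Etale b) (u : ↥U.left) (hr : Representable (FieldPt.ofPt b u).toHom)
    (hc : CompactSpace ↥(hr.pullback (FieldPt.ofPt b u).toHom).left) :
    ∃ (k₀ : Type u) (_ : Field k₀) (str₀ : Spec (.of k₀) ⟶ S)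
      (c : (FieldPt.ofPt b u).pt ⟶ Over.mk str₀) (m : (yon S).obj (Over.mk str₀) ⟶ X),
      (yon S).map c ≫ m = (FieldPt.ofPt b u).toHom ∧ Mono m ∧ IsFinite c.left ∧ Surjective c.left ∧
        Flat c.left := by
  have hpu := FieldPt.toHom_ofPt b u
  have hlqf : RepWith @LocallyQuasiFinite (FieldPt.ofPt b u).toHom := by
    rw [hpu]
    refine (RepWith @LocallyQuasiFinite).comp_mem _ _ ((repWith_yon_map_iff _ _).2 ?_)
      ((repWith_iff _ _).2 ⟨hb.1, fun _ _ g fst snd sq => ?_⟩)
    · exact locallyQuasiFinite_fromSpecResidueField u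
    · have : Etale snd.left := hb.2 g fst snd sq
      exact Groth.Agent.Lib.AlgSpBasic.locallyQuasiFinite_of_etale _
  have h1 : LocallyQuasiFinite (hr.snd (FieldPt.ofPt b u).toHom).left :=
    hlqf.2 _ _ _ (hr.isPullback (FieldPt.ofPt b u).toHom)
  have haff : IsAffine (FieldPt.ofPt b u).pt.left := by
    change IsAffine (Spec (.of (U.left.residueField u)))
    infer_instance
  have h2 : QuasiCompact (hr.snd (FieldPt.ofPt b u).toHom).left :=
    HasAffineProperty.iff_of_isAffine.mpr hc
  have h3 : IsLocallyArtinian (FieldPt.ofPt b u).pt.left := by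
    change IsLocallyArtinian (Spec (.of (U.left.residueField u)))
    infer_instance
  have hfin : IsFinite (hr.snd (FieldPt.ofPt b u).toHom).left := IsFinite.of_locallyQuasiFinite _
  exact Groth.Agent.Lib.AlgSpFieldQuot.exists_mono_factor (K := U.left.residueField u)
    (FieldPt.ofPt b u).str (FieldPt.ofPt b u).toHom _ _
    (hr.isPullback' (FieldPt.ofPt b u).toHom).flip hfin

/-- `Spec κ(u) ×_X Spec κ(u)` has finitely many points if the fibre of `|U ×_X U| → |X|` over the image of `u` is finite. -/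
theorem finite_pullback_residue_of_finite_fibre {X : Sp S} {U : Over S} (φ : (yon S).obj U ⟶ X)
    (u : ↥U.left) {R : Over S} (s t : R ⟶ U)
    (sqR : IsPullback ((yon S).map t) ((yon S).map s) φ φ)
    (hfin : (Points.ofPt ((yon S).map t ≫ φ) ⁻¹' {Points.ofPt φ u}).Finite)
    (hr : Representable (FieldPt.ofPt φ u).toHom) :
    Finite ↥(hr.pullback (FieldPt.ofPt φ u).toHom).left := by
  have hpu := FieldPt.toHom_ofPt φ u
  obtain ⟨i_u, hi_u⟩ : ∃ i_u : (FieldPt.ofPt φ u).pt ⟶ U,
      i_u = Over.homMk (U.left.fromSpecResidueField u) rfl := ⟨_, rfl⟩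
  rw [← hi_u] at hpu
  have hmi : Mono ((yon S).map i_u) := by
    rw [hi_u]; exact mono_yon_map_fromSpecResidueField U u
  have squ := hr.isPullback' (FieldPt.ofPt φ u).toHom
  have e : (yon S).map (hr.fst' (FieldPt.ofPt φ u).toHom ≫ i_u) ≫ φ =
      (yon S).map (hr.snd (FieldPt.ofPt φ u).toHom ≫ i_u) ≫ φ := by
    rw [Functor.map_comp, Functor.map_comp, Category.assoc, Category.assoc, ← hpu]
    exact squ.w
  obtain ⟨j, hj⟩ := (yon S).map_surjective (sqR.lift _ _ e)
  have hjt : j ≫ t = hr.fst' (FieldPt.ofPt φ u).toHom ≫ i_u :=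
    (yon S).map_injective (by rw [Functor.map_comp, hj, sqR.lift_fst])
  have hjs : j ≫ s = hr.snd (FieldPt.ofPt φ u).toHom ≫ i_u :=
    (yon S).map_injective (by rw [Functor.map_comp, hj, sqR.lift_snd])
  have hmj : Mono ((yon S).map j) := by
    constructor
    intro Z a b hab
    apply squ.hom_ext
    · rw [← cancel_mono ((yon S).map i_u), Category.assoc, Category.assoc, ← Functor.map_comp, ← hjt,
        Functor.map_comp, ← Category.assoc, hab, Category.assoc]
    · rw [← cancel_mono ((yon S).map i_u), Category.assoc, Category.assoc, ← Functor.map_comp, ← hjs,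
        Functor.map_comp, ← Category.assoc, hab, Category.assoc]
  have hmj2 : Mono j := (yon S).mono_of_mono_map hmj
  have hmj3 : Mono j.left := inferInstance
  have hinj : Function.Injective j.left := j.left.injective
  have hmem : ∀ w : ↥(hr.pullback (FieldPt.ofPt φ u).toHom).left,
      j.left w ∈ Points.ofPt ((yon S).map t ≫ φ) ⁻¹' {Points.ofPt φ u} := by
    intro w
    rw [Set.mem_preimage, Set.mem_singleton_iff, ofPt_yon_map_comp]
    have h1 : t.left (j.left w) = (j ≫ t).left w := by rw [Over.comp_left]; rfl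
    have h2 : i_u.left ((hr.fst' (FieldPt.ofPt φ u).toHom).left w) = u := by
      rw [hi_u]
      exact Scheme.fromSpecResidueField_apply (X := U.left) u _
    rw [h1, hjt]
    change Points.ofPt φ (i_u.left ((hr.fst' (FieldPt.ofPt φ u).toHom).left w)) = _
    rw [h2]
  exact Set.finite_univ_iff.1 ((hfin.preimage hinj.injOn).subset fun w _ => hmem w)

open Groth.Agent.Lib.AlgSpDecentSpec in
/-- (1) ⇒ (4): if all étale charts from affine schemes have finite fibres (of `|U|` and of `|U ×_X U|`) over `x`, then `x` is the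
class of a representable quasi-compact monomorphism from the spectrum of a field. -/
theorem exists_mono_point_of_finite_fibres {X : Sp S} (hX : IsAlgSpace X) (x : Points X)
    (H : ∀ (U : Over S) (φ : (yon S).obj U ⟶ X), IsAffine U.left → RepWith @Etale φ →
        ∀ (R : Over S) (s t : R ⟶ U), IsPullback ((yon S).map t) ((yon S).map s) φ φ →
          (Points.ofPt φ ⁻¹' {x}).Finite ∧ (Points.ofPt ((yon S).map t ≫ φ) ⁻¹' {x}).Finite) :
    ∃ p : FieldPt X, Points.mk p = x ∧ Mono p.toHom ∧ RepWith @QuasiCompact p.toHom := by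
  obtain ⟨V, b, hb, hbs⟩ := hX.atlas
  obtain ⟨v, hv⟩ := Groth.Agent.Lib.H86AlgSpPoints.ofPt_surjective hbs x
  have hfinV : ∀ W : V.left.Opens, IsAffineOpen W →
      ((Points.ofPt b ⁻¹' {x}) ∩ (W : Set ↥V.left)).Finite := by
    intro W hW
    have hφ := repWith_etale_restrict b hb W
    have h1 := (H (restrictOver V W) _ hW hφ _ _ _ (hφ.1.isPullback' _)).1
    refine (h1.image (restrictOverι V W).left).subset ?_
    rintro w ⟨hw1, hw2⟩
    refine ⟨(⟨w, hw2⟩ : ↥W), ?_, rfl⟩
    rw [Set.mem_preimage, ofPt_yon_map_comp]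
    exact hw1
  obtain ⟨W, hW, hvW⟩ : ∃ W : V.left.Opens, IsAffineOpen W ∧ v ∈ W := by
    obtain ⟨_, ⟨W, hW, rfl⟩, hvW, -⟩ :=
      (V.left.isBasis_affineOpens).exists_subset_of_mem_open (Set.mem_univ v) isOpen_univ
    exact ⟨W, hW, hvW⟩
  have hφ := repWith_etale_restrict b hb W
  obtain ⟨φ, hφdef⟩ : ∃ φ, φ = (yon S).map (restrictOverι V W) ≫ b := ⟨_, rfl⟩
  rw [← hφdef] at hφ
  let u : ↥(restrictOver V W).left := (⟨v, hvW⟩ : ↥W)
  have hu : Points.ofPt φ u = x := by
    rw [hφdef, ofPt_yon_map_comp]; exact hv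
  have hR := (H (restrictOver V W) φ hW hφ _ _ _ (hφ.1.isPullback' φ)).2
  have hr : Representable (FieldPt.ofPt φ u).toHom := hX.representable_from_yon _
  have hfinR := finite_pullback_residue_of_finite_fibre φ u _ _ (hφ.1.isPullback' φ)
    (by rw [hu]; exact hR) hr
  have hcR : CompactSpace ↥(hr.pullback (FieldPt.ofPt φ u).toHom).left := inferInstance
  obtain ⟨k₀, _, str₀, c, m, hcm, hm, -, hcs, -⟩ :=
    exists_mono_factor_of_chart_of_compact φ hφ u hr hcR
  have hmk : Points.mk (ofHom str₀ m) = x := by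
    rw [← hu]
    exact (mk_eq_of_toHom_eq (ofHom str₀ m) (FieldPt.ofPt φ u) c
      (by rw [toHom_ofHom]; exact hcm.symm)).symm
  refine ⟨ofHom str₀ m, hmk, ?_, ?_⟩
  · rw [toHom_ofHom]; exact hm
  · refine repWith_quasiCompact_of_mono_of_finite_fibres hX _ (by rw [toHom_ofHom]; exact hm) b hb hbs ?_
    rw [hmk]; exact hfinV

/-- Let `φ : h_U ⟶ X` be an étale chart from a quasi-compact scheme, `R = U ×_X U`, and `u` a point of `U` whose residue-field
morphism to `X` is representable quasi-compact.  Then the fibre of the projection `t : R ⟶ U` over `u` is finite. -/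
theorem finite_preimage_of_qc_point {X : Sp S} {U : Over S} [CompactSpace ↥U.left]
    (φ : (yon S).obj U ⟶ X) (hφ : RepWith @Etale φ) {R : Over S} (s t : R ⟶ U)
    (sqR : IsPullback ((yon S).map t) ((yon S).map s) φ φ) (u : ↥U.left)
    (hqc : RepWith @QuasiCompact (FieldPt.ofPt φ u).toHom) : (t.left ⁻¹' {u}).Finite := by
  have hpu := FieldPt.toHom_ofPt φ u
  obtain ⟨i_u, hi_u⟩ : ∃ i_u : (FieldPt.ofPt φ u).pt ⟶ U,
      i_u = Over.homMk (U.left.fromSpecResidueField u) rfl := ⟨_, rfl⟩
  rw [← hi_u] at hpu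
  have sq0 : IsPullback (pullback.fst i_u t) (pullback.snd i_u t) i_u t := IsPullback.of_hasPullback i_u t
  have sq1 := (sq0.map (yon S)).paste_vert sqR
  rw [← hpu, ← Functor.map_comp] at sq1
  have h1 : QuasiCompact (pullback.snd i_u t ≫ s).left := hqc.2 _ _ _ sq1
  have hQc : CompactSpace ↥(pullback i_u t).left :=
    QuasiCompact.compactSpace_of_compactSpace (pullback.snd i_u t ≫ s).left
  have ht : Etale t.left := hφ.2 _ _ _ sqR.flip
  have sq2 := sq0.map (Over.forget S)
  have het : Etale (pullback.fst i_u t).left :=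
    MorphismProperty.of_isPullback (P := @Etale) sq2.flip ht
  have hlqf : LocallyQuasiFinite (pullback.fst i_u t).left :=
    Groth.Agent.Lib.AlgSpBasic.locallyQuasiFinite_of_etale _
  have haff : IsAffine (FieldPt.ofPt φ u).pt.left := by
    change IsAffine (Spec (.of (U.left.residueField u)))
    infer_instance
  have hqc1 : QuasiCompact (pullback.fst i_u t).left := HasAffineProperty.iff_of_isAffine.mpr hQc
  have hsub : Subsingleton ↥(FieldPt.ofPt φ u).pt.left :=
    (inferInstance : Subsingleton (PrimeSpectrum (U.left.residueField u)))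
  have hfinQ : Finite ↥(pullback i_u t).left := by
    have := (pullback.fst i_u t).left.finite_preimage_singleton
      (IsLocalRing.closedPoint (U.left.residueField u) : ↥(FieldPt.ofPt φ u).pt.left)
    rw [show (pullback.fst i_u t).left ⁻¹' {_} = Set.univ from
      Set.eq_univ_of_forall fun w => Subsingleton.elim _ _] at this
    exact Set.finite_univ_iff.mp this
  refine (Set.finite_range (pullback.snd i_u t).left).subset ?_
  intro r hr
  have hr' : t.left r = u := hr
  obtain ⟨z, -, hz⟩ := AlgebraicGeometry.Scheme.exists_preimage_of_isPullback sq2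
    (IsLocalRing.closedPoint (U.left.residueField u) : ↥(FieldPt.ofPt φ u).pt.left) r (by
      change i_u.left _ = t.left r
      rw [hr', hi_u]
      exact Scheme.fromSpecResidueField_apply (X := U.left) u _)
  exact ⟨z, hz⟩

/-- (4) ⇒ (1). -/
theorem finite_fibres_of_mono_point {X : Sp S} (hX : IsAlgSpace X) (p : FieldPt X)
    (hqc : RepWith @QuasiCompact p.toHom) {U : Over S} [CompactSpace ↥U.left]
    (φ : (yon S).obj U ⟶ X) (hφ : RepWith @Etale φ) {R : Over S} (s t : R ⟶ U)
    (sqR : IsPullback ((yon S).map t) ((yon S).map s) φ φ) :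
    (Points.ofPt φ ⁻¹' {Points.mk p}).Finite ∧
      (Points.ofPt ((yon S).map t ≫ φ) ⁻¹' {Points.mk p}).Finite := by
  have h1 := Groth.Agent.Lib.AlgSpDecentSpec.finite_fibre_of_repWith_quasiCompact p hqc φ hφ
  refine ⟨h1, ?_⟩
  have h2 : Points.ofPt ((yon S).map t ≫ φ) ⁻¹' {Points.mk p} =
      t.left ⁻¹' (Points.ofPt φ ⁻¹' {Points.mk p}) := by
    ext r
    simp only [Set.mem_preimage, Set.mem_singleton_iff, ofPt_yon_map_comp]
  rw [h2]
  refine h1.preimage' fun u hu => ?_
  exact finite_preimage_of_qc_point φ hφ s t sqR u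
    (repWith_quasiCompact_of_mk_eq hX _ p hu hqc)

end Groth.Agent.Lib.AlgSpDecentPt91
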