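import Groth.Agent.Lib.AlgSpDecentPt91c

set_option autoImplicit false
universe u
open CategoryTheory CategoryTheory.Limits AlgebraicGeometry Opposite Topology

namespace Groth.Agent.Lib.AlgSpDecentPt91

open AlgSp Groth.Agent.Lib.H80DecentPt Groth.Agent.Lib.AlgSpPoints Groth.Agent.Lib.AlgSpQC
  Groth.Agent.Lib.AlgSpDescent

variable {S : Scheme.{u}}

/-- If `f : X ⟶ Y` is an étale morphism of algebraic spaces and the point `f(x)` of `Y` is the class of a representable
quasi-compact field-valued point, then `x` is the class of a representable quasi-compact monomorphism. -/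
theorem exists_mono_point_of_isEtaleMor {X Y : Sp S} (hX : IsAlgSpace X) (hY : IsAlgSpace Y) (f : X ⟶ Y)
    (hf : IsEtaleMor f) (x : Points X) (p : FieldPt Y) (hp : Points.mk p = Points.map f x)
    (hqc : RepWith @QuasiCompact p.toHom) :
    ∃ q : FieldPt X, Points.mk q = x ∧ Mono q.toHom ∧ RepWith @QuasiCompact q.toHom := by
  apply exists_mono_point_of_finite_fibres hX x
  intro U φ hU hφ R s t sqR
  have : CompactSpace ↥U.left := inferInstance
  have hφ' : RepWith @Etale (φ ≫ f) := hf φ hφ
  have sqR' := hφ'.1.isPullback' (φ ≫ f)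
  obtain ⟨hfin1, hfin2⟩ := finite_fibres_of_mono_point hY p hqc (φ ≫ f) hφ' _ _ sqR'
  rw [hp] at hfin1 hfin2
  constructor
  · refine hfin1.subset ?_
    intro u hu
    rw [Set.mem_preimage, Set.mem_singleton_iff] at hu ⊢
    rw [← hu]; rfl
  · have e : (yon S).map t ≫ φ ≫ f = (yon S).map s ≫ φ ≫ f := by
      rw [← Category.assoc, sqR.w, Category.assoc]
    obtain ⟨j, hj⟩ := (yon S).map_surjective (sqR'.lift _ _ e)
    have hjt : j ≫ hφ'.1.fst' (φ ≫ f) = t :=
      (yon S).map_injective (by rw [Functor.map_comp, hj, sqR'.lift_fst])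
    have hjs : j ≫ hφ'.1.snd (φ ≫ f) = s :=
      (yon S).map_injective (by rw [Functor.map_comp, hj, sqR'.lift_snd])
    have hmj : Mono ((yon S).map j) := by
      constructor
      intro Z a b hab
      apply sqR.hom_ext
      · rw [← hjt, Functor.map_comp, ← Category.assoc, hab, Category.assoc]
      · rw [← hjs, Functor.map_comp, ← Category.assoc, hab, Category.assoc]
    have hmj2 : Mono j := (yon S).mono_of_mono_map hmj
    have hmj3 : Mono j.left := inferInstance
    have hinj : Function.Injective j.left := j.left.injective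
    refine (hfin2.preimage hinj.injOn).subset ?_
    intro r hr
    rw [Set.mem_preimage, Set.mem_singleton_iff, ofPt_yon_map_comp] at hr
    rw [Set.mem_preimage, Set.mem_preimage, Set.mem_singleton_iff, ofPt_yon_map_comp]
    have h1 : (hφ'.1.fst' (φ ≫ f)).left (j.left r) = t.left r := by
      rw [← hjt, Over.comp_left]; rfl
    rw [h1, ← hr]; rfl

/-- The source of an étale morphism to a decent algebraic space is decent. -/
theorem isDecent_of_isEtaleMor {X Y : Sp S} (hX : IsAlgSpace X) (hY : IsAlgSpace Y) (f : X ⟶ Y)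
    (hf : IsEtaleMor f) (hd : IsDecent Y) : IsDecent X := by
  intro x
  obtain ⟨p, hp, -, hqc⟩ := hd (Points.map f x)
  exact exists_mono_point_of_isEtaleMor hX hY f hf x p hp hqc

end Groth.Agent.Lib.AlgSpDecentPt91
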