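import Groth.Agent.Lib.AlgSpDecentPt91d

set_option autoImplicit false
universe u
open CategoryTheory CategoryTheory.Limits AlgebraicGeometry Opposite Topology

namespace Groth.Agent.Lib.AlgSpDecentPt91

open AlgSp Groth.Agent.Lib.H80DecentPt Groth.Agent.Lib.AlgSpPoints Groth.Agent.Lib.AlgSpQC
  Groth.Agent.Lib.AlgSpDescent

variable {S : Scheme.{u}}

/-- The target of a quasi-compact surjective morphism of algebraic spaces with decent source is decent. -/
theorem isDecent_of_isQuasiCompactMor_surjective {X Y : Sp S} (hX : IsAlgSpace X) (hY : IsAlgSpace Y)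
    (f : X ⟶ Y) (hq : IsQuasiCompactMor f) (hs : IsSurjectiveMor f) (hd : IsDecent X) : IsDecent Y := by
  intro y
  obtain ⟨x, rfl⟩ := hs y
  obtain ⟨p, rfl, -, hqc⟩ := hd x
  have h1 : IsQuasiCompactMor (p.toHom ≫ f) :=
    isQuasiCompactMor_comp hX hY.diag (isQuasiCompactMor_of_repWith hqc) hq
  have h2 : RepWith @QuasiCompact (p.map f).toHom := by
    rw [FieldPt.toHom_map]
    exact repWith_quasiCompact_of_isQuasiCompactMor (hY.representable_from_yon _) h1
  obtain ⟨q, hq1, hq2, hq3⟩ := exists_mono_point_of_repWith_quasiCompact hY (p.map f) h2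
  exact ⟨q, by rw [hq1, Points.map_mk], hq2, hq3⟩

end Groth.Agent.Lib.AlgSpDecentPt91
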