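import Groth.Agent.Lib.AlgSpDecentPt91e
import Groth.Agent.Lib.AlgSpAtPt
import Groth.Agent.Lib.H86AlgSpOpen

set_option autoImplicit false
universe u
open CategoryTheory CategoryTheory.Limits AlgebraicGeometry Opposite Topology

namespace Groth.Agent.Lib.AlgSpDecentPt91

open AlgSp Groth.Agent.Lib.H80DecentPt Groth.Agent.Lib.AlgSpPoints Groth.Agent.Lib.AlgSpQC
  Groth.Agent.Lib.AlgSpDescent Groth.Agent.Lib.AlgSpDecentSpec

variable {S : Scheme.{u}}

/-- In a compact space, a set which is finite near every point is finite. -/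
theorem finite_of_locally_finite {α : Type*} [TopologicalSpace α] [CompactSpace α] (E : Set α)
    (h : ∀ a : α, ∃ O ∈ 𝓝 a, (E ∩ O).Finite) : E.Finite := by
  choose O hO hfin using h
  obtain ⟨t, ht⟩ := CompactSpace.elim_nhds_subcover O hO
  have h1 : E ⊆ ⋃ a ∈ t, E ∩ O a := by
    intro e he
    have : e ∈ ⋃ a ∈ t, O a := by rw [ht]; trivial
    simp only [Set.mem_iUnion] at this ⊢
    obtain ⟨a, hat, hea⟩ := this
    exact ⟨a, hat, he, hea⟩
  exact (t.finite_toSet.biUnion fun a _ => hfin a).subset h1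

/-- **Fibres of étale charts are finite Zariski-locally.**  If `X` is covered by open subspaces `X_i` which are decent, then every étale
chart of `X` from a quasi-compact scheme has finite fibres. -/
theorem finite_fibre_of_zarCover {X : Sp S} {ι : Type u} (Xi : ι → Sp S) (j : ∀ i, Xi i ⟶ X)
    (hj : IsZarCover Xi j) (hd : ∀ i, IsDecent (Xi i)) {W : Over S} [CompactSpace ↥W.left]
    (a : (yon S).obj W ⟶ X) (ha : RepWith @Etale a) (x : Points X) :
    (Points.ofPt a ⁻¹' {x}).Finite := by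
  apply finite_of_locally_finite
  intro w
  obtain ⟨i, xi, hxi⟩ := hj.2 (Points.ofPt a w)
  have hji := hj.1 i
  have sq := hji.1.isPullback a
  obtain ⟨wi, hwi1, hwi2⟩ := Groth.Agent.Lib.H86AlgSpOpen.exists_of_isPullback_rep sq xi w hxi
  have hopen : IsOpenImmersion (hji.1.snd a).left := hji.2 _ _ _ sq
  have hfst : RepWith @Etale (hji.1.fst a) := (RepWith @Etale).of_isPullback sq.flip ha
  obtain ⟨N, hN, hwiN⟩ : ∃ N : (hji.1.pullback a).left.Opens, IsAffineOpen N ∧ wi ∈ N := by
    obtain ⟨_, ⟨N, hN, rfl⟩, hwN, -⟩ :=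
      ((hji.1.pullback a).left.isBasis_affineOpens).exists_subset_of_mem_open (Set.mem_univ wi)
        isOpen_univ
    exact ⟨N, hN, hwN⟩
  refine ⟨(hji.1.snd a).left '' (N : Set ↥(hji.1.pullback a).left), ?_, ?_⟩
  · refine IsOpen.mem_nhds ((hji.1.snd a).left.isOpenEmbedding.isOpenMap _ N.isOpen) ?_
    exact ⟨wi, hwiN, hwi2⟩
  · have haN := repWith_etale_restrict (hji.1.fst a) hfst N
    have : IsAffine (restrictOver (hji.1.pullback a) N).left := hN
    have : CompactSpace ↥(restrictOver (hji.1.pullback a) N).left := inferInstance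
    have hsub : (Points.map (j i) ⁻¹' {x}).Finite :=
      (Set.subsingleton_singleton.preimage
        (Groth.Agent.Lib.AlgSpAtPt.injective_map_of_repWith_isOpenImmersion hji)).finite
    have hfin : (Points.ofPt ((yon S).map (restrictOverι (hji.1.pullback a) N) ≫ hji.1.fst a) ⁻¹'
        (Points.map (j i) ⁻¹' {x})).Finite :=
      hsub.preimage' fun xi' _ =>
        Groth.Agent.Lib.AlgSpValuative.finite_fibre_of_isDecent (hd i) _ haN xi'
    refine (hfin.image (fun n => (hji.1.snd a).left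
      ((restrictOverι (hji.1.pullback a) N).left n))).subset ?_
    rintro _ ⟨hw', n, hnN, rfl⟩
    refine ⟨(⟨n, hnN⟩ : ↥N), ?_, rfl⟩
    rw [Set.mem_preimage, Set.mem_preimage, Set.mem_singleton_iff, ofPt_yon_map_comp,
      Groth.Agent.Lib.H86AlgSpOpen.map_ofPt_fst sq.w]
    exact hw'

/-- Decency is Zariski local: an algebraic space covered by decent open subspaces is decent. -/
theorem isDecent_of_zarCover {X : Sp S} (hX : IsAlgSpace X) {ι : Type u} (Xi : ι → Sp S)
    (j : ∀ i, Xi i ⟶ X) (hj : IsZarCover Xi j) (hd : ∀ i, IsDecent (Xi i)) : IsDecent X := by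
  intro x
  obtain ⟨i, xi, rfl⟩ := hj.2 x
  obtain ⟨p, rfl, hm, -⟩ := hd i xi
  have hmj : Mono (j i) := Groth.Agent.Lib.H69AlgSp.mono_of_repWith_isOpenImmersion (hj.1 i)
  have hm' : Mono (p.map (j i)).toHom := by
    rw [FieldPt.toHom_map]; exact @mono_comp _ _ _ _ _ _ hm _ hmj
  refine ⟨p.map (j i), (Points.map_mk _ _).symm, hm', ?_⟩
  obtain ⟨V, b, hb, hbs⟩ := hX.atlas
  refine repWith_quasiCompact_of_mono_of_finite_fibres hX _ hm' b hb hbs ?_
  intro W hW
  have hφ := repWith_etale_restrict b hb W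
  have : IsAffine (restrictOver V W).left := hW
  have : CompactSpace ↥(restrictOver V W).left := inferInstance
  have h1 := finite_fibre_of_zarCover Xi j hj hd _ hφ (Points.mk (p.map (j i)))
  refine (h1.image (restrictOverι V W).left).subset ?_
  rintro w ⟨hw1, hw2⟩
  refine ⟨(⟨w, hw2⟩ : ↥W), ?_, rfl⟩
  rw [Set.mem_preimage, ofPt_yon_map_comp]
  exact hw1

end Groth.Agent.Lib.AlgSpDecentPt91
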