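import Groth.Agent.Lib.AlgSpDecentPt91f
import Groth.Agent.Lib.H69AlgSp

set_option autoImplicit false
universe u
open CategoryTheory CategoryTheory.Limits AlgebraicGeometry Opposite Topology

namespace Groth.Agent.Lib.AlgSpDecentPt91

open AlgSp Groth.Agent.Lib.H80DecentPt Groth.Agent.Lib.AlgSpPoints Groth.Agent.Lib.AlgSpQC
  Groth.Agent.Lib.AlgSpDescent Groth.Agent.Lib.AlgSpDecentSpec

variable {S : Scheme.{u}}

/-- An algebraic space quasi-separated over `S` which admits an étale surjective map from the spectrum of a field `k` is the spectrum of a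
field `k'`, with `k / k'` finite separable. -/
theorem exists_iso_spec_field_of_etale_surjective {X : Sp S} (hA : IsAlgSpace X)
    (hX : IsQuasiSeparatedSp X) (k : Type u) [Field k] (str : Spec (CommRingCat.of k) ⟶ S)
    (p : (yon S).obj (Over.mk str) ⟶ X) (hp : RepWith @Etale p) (hs : RepWith @Surjective p) :
    ∃ (k' : Type u) (_ : Field k') (str' : Spec (CommRingCat.of k') ⟶ S)
      (e : (yon S).obj (Over.mk str') ≅ X) (c : Over.mk str ⟶ Over.mk str'),
      (yon S).map c ≫ e.hom = p ∧ IsFinite c.left ∧ Etale c.left := by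
  have hqcstr : QuasiCompact (Over.mk str).hom := by
    have : Finite ↥(Spec (CommRingCat.of k)) := by
      have : Subsingleton (PrimeSpectrum k) := inferInstance
      exact (inferInstance : Finite (PrimeSpectrum k))
    exact quasiCompact_of_finite_source (X := Spec (CommRingCat.of k)) str
  have hqc : RepWith @QuasiCompact p := repWith_quasiCompact_of_isQuasiSeparatedSp hX hqcstr p hp.1
  have hr := hp.1
  have sq := hr.isPullback' p
  have het : Etale (hr.snd p).left := hp.2 _ _ _ (hr.isPullback p)
  have h1 : LocallyQuasiFinite (hr.snd p).left :=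
    Groth.Agent.Lib.AlgSpBasic.locallyQuasiFinite_of_etale _
  have h2 : QuasiCompact (hr.snd p).left := hqc.2 _ _ _ (hr.isPullback p)
  have h3 : IsLocallyArtinian (Over.mk str).left := by
    change IsLocallyArtinian (Spec (.of k))
    infer_instance
  have hfin : IsFinite (hr.snd p).left := IsFinite.of_locallyQuasiFinite _
  obtain ⟨k₀, _, str₀, c, m, hcm, hm, hcf, hcs, -⟩ :=
    Groth.Agent.Lib.AlgSpFieldQuot.exists_mono_factor (K := k) str p _ _ sq.flip hfin
  have hpe : Epi p := by
    have := Groth.Agent.Lib.H69AlgSp.isLocallySurjective_of_etale_surjective p hp hs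
    infer_instance
  have hme : Epi m := by
    rw [← hcm] at hpe
    exact epi_of_epi ((yon S).map c) m
  have hmi : IsIso m := isIso_of_mono_of_epi m
  refine ⟨k₀, inferInstance, str₀, asIso m, c, hcm, hcf, ?_⟩
  have h4 : RepWith @Etale ((yon S).map c) := by
    have : (yon S).map c = p ≫ inv m := by rw [← hcm, Category.assoc, IsIso.hom_inv_id, Category.comp_id]
    rw [this]
    exact MorphismProperty.RespectsIso.postcomp _ _ _ hp
  exact (repWith_yon_map_iff _ _).1 h4

end Groth.Agent.Lib.AlgSpDecentPt91
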