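import Groth.Agent.Lib.AlgSpDecentPt91g
import Groth.Agent.Lib.AlgSpFibre

set_option autoImplicit false
universe u
open CategoryTheory CategoryTheory.Limits AlgebraicGeometry Opposite Topology

namespace Groth.Agent.Lib.AlgSpDecentPt91

open AlgSp Groth.Agent.Lib.H80DecentPt Groth.Agent.Lib.AlgSpPoints Groth.Agent.Lib.AlgSpQC
  Groth.Agent.Lib.AlgSpDescent Groth.Agent.Lib.AlgSpDecentSpec

variable {S : Scheme.{u}}

/-- The target of a jointly surjective family of quasi-compact morphisms of algebraic spaces with decent sources is decent. -/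
theorem isDecent_of_isQuasiCompactMor_family {Y : Sp S} (hY : IsAlgSpace Y) {ι : Type*}
    (Xa : ι → Sp S) (hXa : ∀ a, IsAlgSpace (Xa a)) (fa : ∀ a, Xa a ⟶ Y)
    (hq : ∀ a, IsQuasiCompactMor (fa a))
    (hs : ∀ y : Points Y, ∃ a, y ∈ Set.range (Points.map (fa a)))
    (hd : ∀ a, IsDecent (Xa a)) : IsDecent Y := by
  intro y
  obtain ⟨a, x, rfl⟩ := hs y
  obtain ⟨p, rfl, -, hqc⟩ := hd a x
  have h1 : IsQuasiCompactMor (p.toHom ≫ fa a) :=
    isQuasiCompactMor_comp (hXa a) hY.diag (isQuasiCompactMor_of_repWith hqc) (hq a)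
  have h2 : RepWith @QuasiCompact (p.map (fa a)).toHom := by
    rw [FieldPt.toHom_map]
    exact repWith_quasiCompact_of_isQuasiCompactMor (hY.representable_from_yon _) h1
  obtain ⟨q, hq1, hq2, hq3⟩ := exists_mono_point_of_repWith_quasiCompact hY (p.map (fa a)) h2
  exact ⟨q, by rw [hq1, Points.map_mk], hq2, hq3⟩

/-- Lifting a point of a sheaf to the base change along a chart containing its image. -/
theorem exists_point_pullback_yon {F' : Sp S} {T N : Over S} (snd' : F' ⟶ (yon S).obj T) (ν : N ⟶ T)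
    (z : Points F') (n : ↥N.left)
    (hn : ν.left n = Points.toScheme T (Points.map snd' z)) :
    z ∈ Set.range (Points.map (pullback.fst snd' ((yon S).map ν))) := by
  have sq := IsPullback.of_hasPullback snd' ((yon S).map ν)
  obtain ⟨w, hw, -⟩ := exists_of_isPullback sq z (Points.schemeHomeo N n) (by
    rw [Points.map_yon_map_apply, hn]
    exact (Points.ofScheme_toScheme T _).symm)
  exact ⟨w, hw⟩

/-- Pasting: the base change of `F' = X ×_Y T` along `N ⟶ T` is `X ×_Y N`. -/
theorem isPullback_pullback_fst_comp {X Y F' : Sp S} {f : X ⟶ Y} {T N : Over S} {g : (yon S).obj T ⟶ Y}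
    {fst' : F' ⟶ X} {snd' : F' ⟶ (yon S).obj T} (sq' : IsPullback fst' snd' f g) (ν : N ⟶ T) :
    IsPullback (pullback.fst snd' ((yon S).map ν) ≫ fst') (pullback.snd snd' ((yon S).map ν)) f
      ((yon S).map ν ≫ g) :=
  (IsPullback.of_hasPullback snd' ((yon S).map ν)).paste_horiz sq'

/-- Decency of the base change to an affine scheme, given decency after base change to an étale atlas. -/
theorem isDecent_pullback_of_affine {X Y : Sp S} (hX : IsAlgSpace X) (hY : IsAlgSpace Y) (f : X ⟶ Y)
    {V : Over S} (p : (yon S).obj V ⟶ Y) (hp : RepWith @Etale p) (hps : RepWith @Surjective p)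
    {X' : Sp S} (fst : X' ⟶ X) (snd : X' ⟶ (yon S).obj V) (hsq : IsPullback fst snd f p)
    (h : IsDecentMor snd) {T : Over S} (hT : IsAffine T.left) (g : (yon S).obj T ⟶ Y) {F' : Sp S}
    (fst' : F' ⟶ X) (snd' : F' ⟶ (yon S).obj T) (sq' : IsPullback fst' snd' f g) : IsDecent F' := by
  have hF' : IsAlgSpace F' :=
    Groth.Agent.Lib.AlgSpFibre.isAlgSpace_of_isPullback hY.diag hX (IsAlgSpace.yon_obj T) sq'
  have sqW := hp.1.isPullback' g
  have hsurj : Surjective (hp.1.snd g).left := hps.2 _ _ _ (hp.1.isPullback g)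
  -- the family indexed by affine opens of `W = V ×_Y T`
  let W := hp.1.pullback g
  let nT : ∀ N : W.left.affineOpens, restrictOver W N.1 ⟶ T := fun N => restrictOverι W N.1 ≫ hp.1.snd g
  let nV : ∀ N : W.left.affineOpens, restrictOver W N.1 ⟶ V := fun N => restrictOverι W N.1 ≫ hp.1.fst' g
  have hcompat : ∀ N, (yon S).map (nV N) ≫ p = (yon S).map (nT N) ≫ g := by
    intro N
    simp only [nV, nT, Functor.map_comp, Category.assoc]
    rw [sqW.w]
  refine isDecent_of_isQuasiCompactMor_family hF'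
    (fun N : W.left.affineOpens => pullback snd' ((yon S).map (nT N))) ?_
    (fun N => pullback.fst snd' ((yon S).map (nT N))) ?_ ?_ ?_
  · intro N
    exact Groth.Agent.Lib.AlgSpFibre.isAlgSpace_of_isPullback (IsAlgSpace.yon_obj T).diag hF'
      (IsAlgSpace.yon_obj _) (IsPullback.of_hasPullback snd' ((yon S).map (nT N)))
  · intro N
    have hN : IsAffine (restrictOver W N.1).left := N.2
    have hqc : QuasiCompact (nT N).left := inferInstance
    have h1 : IsQuasiCompactMor ((yon S).map (nT N)) :=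
      isQuasiCompactMor_of_repWith ((repWith_yon_map_iff _ _).2 hqc)
    exact isQuasiCompactMor_of_isPullback (IsPullback.of_hasPullback snd' ((yon S).map (nT N))).flip h1
  · intro z
    obtain ⟨w, hw⟩ := hsurj.surj (Points.toScheme T (Points.map snd' z))
    obtain ⟨N, hN, hwN⟩ : ∃ N : W.left.Opens, IsAffineOpen N ∧ w ∈ N := by
      obtain ⟨_, ⟨N, hN, rfl⟩, hwN, -⟩ :=
        (W.left.isBasis_affineOpens).exists_subset_of_mem_open (Set.mem_univ w) isOpen_univ
      exact ⟨N, hN, hwN⟩
    refine ⟨⟨N, hN⟩, ?_⟩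
    exact exists_point_pullback_yon snd' (nT ⟨N, hN⟩) z (⟨w, hwN⟩ : ↥N) hw
  · intro N
    have outer := isPullback_pullback_fst_comp sq' (nT N)
    rw [← hcompat N] at outer
    have e : (pullback.fst snd' ((yon S).map (nT N)) ≫ fst') ≫ f =
        (pullback.snd snd' ((yon S).map (nT N)) ≫ (yon S).map (nV N)) ≫ p := by
      rw [Category.assoc, Category.assoc]; exact outer.w
    have hl1 : hsq.lift _ _ e ≫ fst = pullback.fst snd' ((yon S).map (nT N)) ≫ fst' :=
      hsq.lift_fst _ _ e
    have hl2 : hsq.lift _ _ e ≫ snd = pullback.snd snd' ((yon S).map (nT N)) ≫ (yon S).map (nV N) :=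
      hsq.lift_snd _ _ e
    have left : IsPullback (hsq.lift _ _ e) (pullback.snd snd' ((yon S).map (nT N))) snd
        ((yon S).map (nV N)) := by
      refine IsPullback.of_right ?_ hl2 hsq
      rw [hl1]; exact outer
    exact h _ _ _ left

/-- (5) ⇒ (1): a morphism of algebraic spaces which becomes decent after base change to an étale atlas of the target is decent. -/
theorem isDecentMor_of_atlas {X Y : Sp S} (hX : IsAlgSpace X) (hY : IsAlgSpace Y) (f : X ⟶ Y)
    {V : Over S} (p : (yon S).obj V ⟶ Y) (hp : RepWith @Etale p) (hps : RepWith @Surjective p)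
    {X' : Sp S} (fst : X' ⟶ X) (snd : X' ⟶ (yon S).obj V) (hsq : IsPullback fst snd f p)
    (h : IsDecentMor snd) : IsDecentMor f := by
  intro T F' g fst' snd' sq'
  have hF' : IsAlgSpace F' :=
    Groth.Agent.Lib.AlgSpFibre.isAlgSpace_of_isPullback hY.diag hX (IsAlgSpace.yon_obj T) sq'
  refine isDecent_of_zarCover hF'
    (fun A : T.left.affineOpens => pullback snd' ((yon S).map (restrictOverι T A.1)))
    (fun A => pullback.fst snd' ((yon S).map (restrictOverι T A.1))) ⟨?_, ?_⟩ ?_
  · intro A
    have h1 : RepWith @IsOpenImmersion ((yon S).map (restrictOverι T A.1)) :=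
      (repWith_yon_map_iff _ _).2 (inferInstance : IsOpenImmersion A.1.ι)
    exact (RepWith @IsOpenImmersion).of_isPullback
      (IsPullback.of_hasPullback snd' ((yon S).map (restrictOverι T A.1))).flip h1
  · intro z
    obtain ⟨A, hA, hzA⟩ : ∃ A : T.left.Opens, IsAffineOpen A ∧
        Points.toScheme T (Points.map snd' z) ∈ A := by
      obtain ⟨_, ⟨A, hA, rfl⟩, hzA, -⟩ :=
        (T.left.isBasis_affineOpens).exists_subset_of_mem_open
          (Set.mem_univ (Points.toScheme T (Points.map snd' z))) isOpen_univ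
      exact ⟨A, hA, hzA⟩
    refine ⟨⟨A, hA⟩, ?_⟩
    exact exists_point_pullback_yon snd' (restrictOverι T A) z
      (⟨Points.toScheme T (Points.map snd' z), hzA⟩ : ↥A) rfl
  · intro A
    exact isDecent_pullback_of_affine hX hY f p hp hps fst snd hsq h (T := restrictOver T A.1) A.2
      ((yon S).map (restrictOverι T A.1) ≫ g) _ _ (isPullback_pullback_fst_comp sq' _)

end Groth.Agent.Lib.AlgSpDecentPt91
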