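import Groth.Agent.Lib.AlgSpFibre
import Groth.Agent.Lib.AlgSpQC
import Groth.Agent.Lib.H86AlgSpDiag

/-!
# helper86: quasi-compactness of fibre products of algebraic spaces over a quasi-separated base

* `compactSpace_prod_left`: over a quasi-separated base `S`, the product in `Over S` of two quasi-compact
  schemes is quasi-compact.
* `isQuasiCompactSp_of_isPullback_of_quasiSeparated`: a fibre product `X ×_Y Z` of quasi-compact sheaves
  (with étale charts) over `Y` with representable, quasi-compact diagonal over `S` is quasi-compact.
-/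

set_option autoImplicit false
set_option linter.style.haveILetI false
universe u
open CategoryTheory CategoryTheory.Limits AlgebraicGeometry Opposite

namespace Groth.Agent.Lib.H86QcProd

open AlgSp

variable {S : Scheme.{u}}

/-- Over a quasi-separated base, the product of two quasi-compact schemes over `S` is quasi-compact. -/
theorem compactSpace_prod_left [QuasiSeparatedSpace ↥S] (U V : Over S) [CompactSpace ↥U.left]
    [CompactSpace ↥V.left] : CompactSpace ↥(U ⨯ V).left := by
  have h1 : QuasiCompact U.hom := inferInstance
  have h2 : QuasiCompact (pullback.snd U.hom V.hom) := inferInstance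
  have h3 : QuasiCompact ((Over.prodLeftIsoPullback U V).hom ≫ pullback.snd U.hom V.hom) :=
    inferInstance
  exact QuasiCompact.compactSpace_of_compactSpace
    ((Over.prodLeftIsoPullback U V).hom ≫ pullback.snd U.hom V.hom)

/-- Over a quasi-separated base: a fibre product `X ×_Y Z` of quasi-compact sheaves over a sheaf `Y`
quasi-separated over `S` is quasi-compact. -/
theorem isQuasiCompactSp_of_isPullback_of_quasiSeparated [QuasiSeparatedSpace ↥S] {X Y Z P : Sp S}
    (hY : IsQuasiSeparatedSp Y) {f : X ⟶ Y} {g : Z ⟶ Y} {fst : P ⟶ X} {snd : P ⟶ Z}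
    (sq : IsPullback fst snd f g) (hX : IsQuasiCompactSp X) (hZ : IsQuasiCompactSp Z) :
    IsQuasiCompactSp P := by
  obtain ⟨U, p, hpe, hps, hU⟩ := hX
  obtain ⟨V, q, hqe, hqs, hV⟩ := hZ
  obtain ⟨W, r, wU, wV, hre, hrs, -, -, sqW⟩ :=
    AlgSpFibre.exists_atlas_of_isPullback hY.1 sq p q hpe hps hqe hqs
  refine ⟨W, r, hre, hrs, ?_⟩
  have h1 := H86AlgSpDiag.isPullback_diag_yon sqW
  have hqc : QuasiCompact (prod.lift wU wV).left := hY.2 _ _ _ h1
  have : CompactSpace ↥U.left := hU
  have : CompactSpace ↥V.left := hV
  have : CompactSpace ↥(U ⨯ V).left := compactSpace_prod_left U V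
  exact QuasiCompact.compactSpace_of_compactSpace (prod.lift wU wV).left

section Diagonal

variable (P : MorphismProperty Scheme.{u})

/-- `RepWith P (diag F)` (the absolute-over-`S` separation conditions of the Prelude) is the relative
condition `(RepWith P).diagonal` for the morphism to the terminal sheaf. -/
theorem repWith_diag_iff_diagonal_terminal (F : Sp S) :
    RepWith P (Limits.diag F) ↔ (RepWith (S := S) P).diagonal (terminal.from F) := by
  have e : Limits.diag F ≫ (prodIsoPullback F F).hom = pullback.diagonal (terminal.from F) := by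
    apply pullback.hom_ext
    · simp [prodIsoPullback_hom_fst, Limits.diag, prod.lift_fst]
    · simp [prodIsoPullback_hom_snd, Limits.diag, prod.lift_snd]
  rw [MorphismProperty.diagonal_iff, ← e]
  exact (MorphismProperty.cancel_right_of_respectsIso (RepWith (S := S) P) _ _).symm

/-- Cancellation: if `f ≫ g` has `(RepWith P).diagonal` then so has `f`. -/
theorem diagonal_of_comp [P.IsStableUnderBaseChange] [P.IsMultiplicative] {F G H : Sp S} (f : F ⟶ G)
    (g : G ⟶ H) (h : (RepWith (S := S) P).diagonal (f ≫ g)) : (RepWith (S := S) P).diagonal f := by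
  have : (RepWith (S := S) P).diagonal.HasOfPostcompProperty ⊤ := by
    rw [MorphismProperty.hasOfPostcompProperty_iff_le_diagonal]
    intro A B k _
    rw [MorphismProperty.diagonal_iff, MorphismProperty.diagonal_iff]
    have : IsIso (pullback.diagonal (pullback.diagonal k)) :=
      (pullback.isIso_diagonal_iff _).2 inferInstance
    exact MorphismProperty.of_isIso _ _
  exact MorphismProperty.of_postcomp (W := (RepWith (S := S) P).diagonal) (W' := ⊤) f g trivial h

/-- If `X` and `Z` satisfy the separation condition `RepWith P (diag -)` over `S`, so does every fibre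
product `X ×_Y Z`. -/
theorem repWith_diag_of_isPullback [P.IsStableUnderBaseChange] [P.IsMultiplicative] {X Y Z Q : Sp S}
    {f : X ⟶ Y} {g : Z ⟶ Y} {fst : Q ⟶ X} {snd : Q ⟶ Z} (sq : IsPullback fst snd f g)
    (hX : RepWith P (Limits.diag X)) (hZ : RepWith P (Limits.diag Z)) :
    RepWith P (Limits.diag Q) := by
  rw [repWith_diag_iff_diagonal_terminal] at hX hZ ⊢
  have hf : (RepWith (S := S) P).diagonal f :=
    diagonal_of_comp P f (terminal.from Y) (by rwa [terminal.comp_from])
  have hsnd : (RepWith (S := S) P).diagonal snd :=
    MorphismProperty.of_isPullback (P := (RepWith (S := S) P).diagonal) sq hf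
  have := (RepWith (S := S) P).diagonal.comp_mem _ _ hsnd hZ
  rwa [terminal.comp_from] at this

end Diagonal

end Groth.Agent.Lib.H86QcProd
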