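import Groth.Agent.Lib.AlgSpDecentPt91h
import Groth.Agent.Lib.H80DecentPt2
import Groth.Agent.Lib.H86QcProd

set_option autoImplicit false
universe u
open CategoryTheory CategoryTheory.Limits AlgebraicGeometry Opposite Topology

namespace Groth.Agent.Lib.AlgSpDecentPt91

open AlgSp Groth.Agent.Lib.H80DecentPt Groth.Agent.Lib.AlgSpPoints Groth.Agent.Lib.AlgSpQC
  Groth.Agent.Lib.AlgSpDescent Groth.Agent.Lib.AlgSpDecentSpec

variable {S : Scheme.{u}}

/-- An algebraic space over a scheme `T` is decent if its restrictions to the affine opens of `T` are. -/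
theorem isDecent_of_affine_opens {F' : Sp S} (hF' : IsAlgSpace F') {T : Over S}
    (snd' : F' ⟶ (yon S).obj T)
    (H : ∀ A : T.left.affineOpens, IsDecent (pullback snd' ((yon S).map (restrictOverι T A.1)))) :
    IsDecent F' := by
  refine isDecent_of_zarCover hF'
    (fun A : T.left.affineOpens => pullback snd' ((yon S).map (restrictOverι T A.1)))
    (fun A => pullback.fst snd' ((yon S).map (restrictOverι T A.1))) ⟨?_, ?_⟩ H
  · intro A
    have h1 : RepWith @IsOpenImmersion ((yon S).map (restrictOverι T A.1)) :=
      (repWith_yon_map_iff _ _).2 (inferInstance : IsOpenImmersion A.1.ι)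
    exact (RepWith @IsOpenImmersion).of_isPullback
      (IsPullback.of_hasPullback snd' ((yon S).map (restrictOverι T A.1))).flip h1
  · intro z
    obtain ⟨A, hA, hzA⟩ : ∃ A : T.left.Opens, IsAffineOpen A ∧
        Points.toScheme T (Points.map snd' z) ∈ A := by
      obtain ⟨_, ⟨A, hA, rfl⟩, hzA, -⟩ :=
        (T.left.isBasis_affineOpens).exists_subset_of_mem_open
          (Set.mem_univ (Points.toScheme T (Points.map snd' z))) isOpen_univ
      exact ⟨A, hA, hzA⟩
    refine ⟨⟨A, hA⟩, ?_⟩
    exact exists_point_pullback_yon snd' (restrictOverι T A) z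
      (⟨Points.toScheme T (Points.map snd' z), hzA⟩ : ↥A) rfl

/-- A sheaf with a quasi-separated morphism to an affine scheme over `S` is quasi-separated over `S`. -/
theorem isQuasiSeparatedSp_of_isQuasiSeparatedMor_affine {F : Sp S} {T : Over S} (hT : IsAffine T.left)
    (c : F ⟶ (yon S).obj T) (hc : IsQuasiSeparatedMor c) : IsQuasiSeparatedSp F := by
  have h1 : (RepWith (S := S) @QuasiCompact).diagonal c := by
    rw [MorphismProperty.diagonal_iff]; exact hc
  have h2 : (RepWith (S := S) @QuasiCompact).diagonal (terminal.from ((yon S).obj T)) := by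
    rw [← Groth.Agent.Lib.H86QcProd.repWith_diag_iff_diagonal_terminal, repWith_diag_yon_iff]
    have : QuasiSeparated T.hom := inferInstance
    infer_instance
  have h3 := (RepWith (S := S) @QuasiCompact).diagonal.comp_mem _ _ h1 h2
  rw [terminal.comp_from] at h3
  exact (Groth.Agent.Lib.H86QcProd.repWith_diag_iff_diagonal_terminal _ F).2 h3

/-- A quasi-separated morphism of algebraic spaces is decent. -/
theorem isDecentMor_of_isQuasiSeparatedMor {X Y : Sp S} (hX : IsAlgSpace X) (hY : IsAlgSpace Y)
    (f : X ⟶ Y) (hf : IsQuasiSeparatedMor f) : IsDecentMor f := by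
  intro T F' g fst' snd' sq'
  have hF' : IsAlgSpace F' :=
    Groth.Agent.Lib.AlgSpFibre.isAlgSpace_of_isPullback hY.diag hX (IsAlgSpace.yon_obj T) sq'
  refine isDecent_of_affine_opens hF' snd' fun A => ?_
  have sqA := isPullback_pullback_fst_comp sq' (restrictOverι T A.1)
  have hA : IsAlgSpace (pullback snd' ((yon S).map (restrictOverι T A.1))) :=
    Groth.Agent.Lib.AlgSpFibre.isAlgSpace_of_isPullback hY.diag hX (IsAlgSpace.yon_obj _) sqA
  have h1 : (RepWith (S := S) @QuasiCompact).diagonal f := by
    rw [MorphismProperty.diagonal_iff]; exact hf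
  have h2 : (RepWith (S := S) @QuasiCompact).diagonal
      (pullback.snd snd' ((yon S).map (restrictOverι T A.1))) :=
    MorphismProperty.of_isPullback (P := (RepWith (S := S) @QuasiCompact).diagonal) sqA h1
  have h3 : IsQuasiSeparatedMor (pullback.snd snd' ((yon S).map (restrictOverι T A.1))) := by
    rw [MorphismProperty.diagonal_iff] at h2; exact h2
  exact isDecent_of_isQuasiSeparatedSp hA
    (isQuasiSeparatedSp_of_isQuasiSeparatedMor_affine (T := restrictOver T A.1) A.2 _ h3)

/-- (3) ⇔ (4): a point of an algebraic space is represented by a monomorphism from the spectrum of a field iff it is represented by a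
field-valued point whose self-fibre-product has étale quasi-compact projections. -/
theorem exists_mono_iff_exists_etale_qc_selfprod {X : Sp S} (hX : IsAlgSpace X) (x : Points X) :
    (∃ p : FieldPt X, Points.mk p = x ∧ Mono p.toHom) ↔
      ∃ q : FieldPt X, Points.mk q = x ∧
        ∀ (P : Sp S) (fst snd : P ⟶ (yon S).obj q.pt), IsPullback fst snd q.toHom q.toHom →
          RepWith @Etale fst ∧ RepWith @QuasiCompact fst := by
  constructor
  · rintro ⟨p, hp, hm⟩
    refine ⟨p, hp, fun P fst snd sq => ?_⟩
    have hk : IsKernelPair p.toHom fst snd := sq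
    have : IsIso fst := hk.isIso_of_mono
    exact ⟨MorphismProperty.of_isIso (RepWith @Etale) fst,
      MorphismProperty.of_isIso (RepWith @QuasiCompact) fst⟩
  · rintro ⟨q, hq, H⟩
    have hr : Representable q.toHom := hX.representable_from_yon _
    have sq := hr.isPullback' q.toHom
    obtain ⟨h1, h2⟩ := H _ _ _ sq
    have het : Etale (hr.fst' q.toHom).left := (repWith_yon_map_iff _ _).1 h1
    have hqc : QuasiCompact (hr.fst' q.toHom).left := (repWith_yon_map_iff _ _).1 h2
    have hlqf : LocallyQuasiFinite (hr.fst' q.toHom).left :=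
      Groth.Agent.Lib.AlgSpBasic.locallyQuasiFinite_of_etale _
    have h3 : IsLocallyArtinian q.pt.left := by
      change IsLocallyArtinian (Spec (.of q.K))
      infer_instance
    have hfin : IsFinite (hr.fst' q.toHom).left := IsFinite.of_locallyQuasiFinite _
    obtain ⟨k₀, _, str₀, c, m, hcm, hm, -, -, -⟩ :=
      Groth.Agent.Lib.AlgSpFieldQuot.exists_mono_factor (K := q.K) q.str q.toHom _ _ sq hfin
    refine ⟨ofHom str₀ m, ?_, by rw [toHom_ofHom]; exact hm⟩
    rw [← hq]
    exact (mk_eq_of_toHom_eq (ofHom str₀ m) q c (by rw [toHom_ofHom]; exact hcm.symm)).symm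

end Groth.Agent.Lib.AlgSpDecentPt91
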