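import Groth.Agent.Lib.AlgSpDecentPt91i
import Groth.Prelude.Def_W4decUnivBdd

set_option autoImplicit false
universe u
open CategoryTheory CategoryTheory.Limits AlgebraicGeometry Opposite Topology

namespace Groth.Agent.Lib.AlgSpDecentPt91

open AlgSp Groth.Agent.Lib.H80DecentPt Groth.Agent.Lib.AlgSpPoints Groth.Agent.Lib.AlgSpQC
  Groth.Agent.Lib.AlgSpDescent Groth.Agent.Lib.AlgSpDecentSpec

variable {S : Scheme.{u}}

/-- **Criterion.** A point `x` of an algebraic space is the class of a representable quasi-compact monomorphism from the spectrum of a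
field as soon as (i) for some étale atlas `V`, every affine open of `V` has finitely many points over `x`, and (ii) for some étale chart
`(U, u)` over `x`, the scheme `Spec κ(u) ×_X Spec κ(u)` has finitely many points. -/
theorem exists_mono_point_of_atlas_finite {X : Sp S} (hX : IsAlgSpace X) (x : Points X)
    {V : Over S} (b : (yon S).obj V ⟶ X) (hb : RepWith @Etale b) (hbs : RepWith @Surjective b)
    (hfinV : ∀ W : V.left.Opens, IsAffineOpen W → ((Points.ofPt b ⁻¹' {x}) ∩ (W : Set ↥V.left)).Finite)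
    {U : Over S} (φ : (yon S).obj U ⟶ X) (hφ : RepWith @Etale φ) (u : ↥U.left)
    (hu : Points.ofPt φ u = x) (hr : Representable (FieldPt.ofPt φ u).toHom)
    (hfinR : Finite ↥(hr.pullback (FieldPt.ofPt φ u).toHom).left) :
    ∃ p : FieldPt X, Points.mk p = x ∧ Mono p.toHom ∧ RepWith @QuasiCompact p.toHom := by
  have hcR : CompactSpace ↥(hr.pullback (FieldPt.ofPt φ u).toHom).left := inferInstance
  obtain ⟨k₀, _, str₀, c, m, hcm, hm, -, hcs, -⟩ :=
    exists_mono_factor_of_chart_of_compact φ hφ u hr hcR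
  have hmk : Points.mk (ofHom str₀ m) = x := by
    rw [← hu]
    exact (mk_eq_of_toHom_eq (ofHom str₀ m) (FieldPt.ofPt φ u) c
      (by rw [toHom_ofHom]; exact hcm.symm)).symm
  refine ⟨ofHom str₀ m, hmk, ?_, ?_⟩
  · rw [toHom_ofHom]; exact hm
  · refine repWith_quasiCompact_of_mono_of_finite_fibres hX _ (by rw [toHom_ofHom]; exact hm) b hb hbs ?_
    rw [hmk]; exact hfinV

/-- Transfer of finiteness of the fibre from the restricted chart to the affine open. -/
theorem finite_inter_of_finite_restrict {X : Sp S} {V : Over S} (b : (yon S).obj V ⟶ X) (x : Points X)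
    (W : V.left.Opens)
    (h1 : (Points.ofPt ((yon S).map (restrictOverι V W) ≫ b) ⁻¹' {x}).Finite) :
    ((Points.ofPt b ⁻¹' {x}) ∩ (W : Set ↥V.left)).Finite := by
  refine (h1.image (restrictOverι V W).left).subset ?_
  rintro w ⟨hw1, hw2⟩
  refine ⟨(⟨w, hw2⟩ : ↥W), ?_, rfl⟩
  rw [Set.mem_preimage, ofPt_yon_map_comp]
  exact hw1

/-- If the base change of a chart `φ : h_U ⟶ X` to a field-valued point `q` has finitely many points, the fibre of `|U| → |X|` over the
point of `q` is finite. -/
theorem finite_fibre_of_finite_pullback {X : Sp S} (q : FieldPt X) {U T : Over S}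
    (φ : (yon S).obj U ⟶ X) (c : T ⟶ q.pt) (g : T ⟶ U)
    (sq : IsPullback ((yon S).map c) ((yon S).map g) q.toHom φ) (hT : Finite ↥T.left) :
    (Points.ofPt φ ⁻¹' {Points.mk q}).Finite := by
  refine (Set.finite_range g.left).subset ?_
  intro w hw
  rw [Set.mem_preimage, Set.mem_singleton_iff] at hw
  obtain ⟨t, -, ht⟩ := exists_point_of_ofPt_eq sq
    (IsLocalRing.closedPoint q.K : ↥q.pt.left) w (by rw [hw]; exact Points.ofPt_toHom q _)
  exact ⟨t, ht⟩

/-- A finite morphism to the spectrum of a field has a finite source. -/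
theorem finite_of_isFinite_to_field {K : Type u} [Field K] {T : Scheme.{u}} (c : T ⟶ Spec (.of K))
    [IsFinite c] : Finite ↥T := by
  have hsub : Subsingleton ↥(Spec (.of K)) := (inferInstance : Subsingleton (PrimeSpectrum K))
  have h1 := c.finite_preimage_singleton (IsLocalRing.closedPoint K : ↥(Spec (.of K)))
  exact Set.finite_univ_iff.mp (h1.subset fun w _ => Subsingleton.elim (α := ↥(Spec (.of K))) _ _)

/-- The canonical monomorphism `Spec κ(u) ×_X Spec κ(u) ⟶ Spec κ(u) ×_X U` is injective on points. -/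
theorem finite_pullback_residue_of_finite_pullback_chart {X : Sp S} {U : Over S}
    (φ : (yon S).obj U ⟶ X) (u : ↥U.left) (hr : Representable (FieldPt.ofPt φ u).toHom)
    (hF : Finite ↥(hr.pullback φ).left) :
    Finite ↥(hr.pullback (FieldPt.ofPt φ u).toHom).left := by
  have hpu := FieldPt.toHom_ofPt φ u
  obtain ⟨i_u, hi_u⟩ : ∃ i_u : (FieldPt.ofPt φ u).pt ⟶ U,
      i_u = Over.homMk (U.left.fromSpecResidueField u) rfl := ⟨_, rfl⟩
  rw [← hi_u] at hpu
  have hmi : Mono ((yon S).map i_u) := by
    rw [hi_u]; exact mono_yon_map_fromSpecResidueField U u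
  have squ := hr.isPullback' (FieldPt.ofPt φ u).toHom
  have sqF := hr.isPullback' φ
  have e : (yon S).map (hr.fst' (FieldPt.ofPt φ u).toHom) ≫ (FieldPt.ofPt φ u).toHom =
      (yon S).map (hr.snd (FieldPt.ofPt φ u).toHom ≫ i_u) ≫ φ := by
    rw [Functor.map_comp, Category.assoc, ← hpu]
    exact squ.w
  obtain ⟨j, hj⟩ := (yon S).map_surjective (sqF.lift _ _ e)
  have hj1 : j ≫ hr.fst' φ = hr.fst' (FieldPt.ofPt φ u).toHom :=
    (yon S).map_injective (by rw [Functor.map_comp, hj, sqF.lift_fst])
  have hj2 : j ≫ hr.snd φ = hr.snd (FieldPt.ofPt φ u).toHom ≫ i_u :=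
    (yon S).map_injective (by rw [Functor.map_comp, hj, sqF.lift_snd])
  have hmj : Mono ((yon S).map j) := by
    constructor
    intro Z a b hab
    apply squ.hom_ext
    · rw [← hj1, Functor.map_comp, ← Category.assoc, hab, Category.assoc]
    · rw [← cancel_mono ((yon S).map i_u), Category.assoc, Category.assoc, ← Functor.map_comp, ← hj2,
        Functor.map_comp, ← Category.assoc, hab, Category.assoc]
  have hmj2 : Mono j := (yon S).mono_of_mono_map hmj
  have hmj3 : Mono j.left := inferInstance
  exact Finite.of_injective j.left j.left.injective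

/-- If every étale chart from an affine scheme has universally bounded fibres, the algebraic space is decent. -/
theorem isDecent_of_univBddFibres {X : Sp S} (hX : IsAlgSpace X)
    (h : ∀ (U : Over S) (φ : (yon S).obj U ⟶ X), IsAffine U.left → RepWith @Etale φ →
      W4dec.HasUnivBddFibres φ) : IsDecent X := by
  intro x
  obtain ⟨q, rfl⟩ := Points.mk_surjective x
  obtain ⟨V, b, hb, hbs⟩ := hX.atlas
  obtain ⟨v, hv⟩ := Groth.Agent.Lib.H86AlgSpPoints.ofPt_surjective hbs (Points.mk q)
  have hfinV : ∀ W : V.left.Opens, IsAffineOpen W →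
      ((Points.ofPt b ⁻¹' {Points.mk q}) ∩ (W : Set ↥V.left)).Finite := by
    intro W hW
    apply finite_inter_of_finite_restrict
    have hφ := repWith_etale_restrict b hb W
    obtain ⟨n, hn⟩ := h (restrictOver V W) _ hW hφ
    have hrq := hX.representable_from_yon q.toHom
    have sq := hrq.isPullback' ((yon S).map (restrictOverι V W) ≫ b)
    have hfin : IsFinite (hrq.fst' ((yon S).map (restrictOverι V W) ≫ b)).left := (hn q _ _ _ sq).1
    exact finite_fibre_of_finite_pullback q _ _ _ sq
      (finite_of_isFinite_to_field (K := q.K) (hrq.fst' ((yon S).map (restrictOverι V W) ≫ b)).left)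
  obtain ⟨W, hW, hvW⟩ : ∃ W : V.left.Opens, IsAffineOpen W ∧ v ∈ W := by
    obtain ⟨_, ⟨W, hW, rfl⟩, hvW, -⟩ :=
      (V.left.isBasis_affineOpens).exists_subset_of_mem_open (Set.mem_univ v) isOpen_univ
    exact ⟨W, hW, hvW⟩
  have hφ := repWith_etale_restrict b hb W
  obtain ⟨φ, hφdef⟩ : ∃ φ, φ = (yon S).map (restrictOverι V W) ≫ b := ⟨_, rfl⟩
  rw [← hφdef] at hφ
  let u : ↥(restrictOver V W).left := (⟨v, hvW⟩ : ↥W)
  have hu : Points.ofPt φ u = Points.mk q := by
    rw [hφdef, ofPt_yon_map_comp]; exact hv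
  have hr : Representable (FieldPt.ofPt φ u).toHom := hX.representable_from_yon _
  obtain ⟨n, hn⟩ := h (restrictOver V W) φ hW hφ
  have hfinF : IsFinite (hr.fst' φ).left := (hn (FieldPt.ofPt φ u) _ _ _ (hr.isPullback' φ)).1
  have hF : Finite ↥(hr.pullback φ).left :=
    finite_of_isFinite_to_field (K := (FieldPt.ofPt φ u).K) (hr.fst' φ).left
  exact exists_mono_point_of_atlas_finite hX _ b hb hbs hfinV φ hφ u hu hr
    (finite_pullback_residue_of_finite_pullback_chart φ u hr hF)

end Groth.Agent.Lib.AlgSpDecentPt91
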