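import Groth.Agent.Lib.AlgSpDecentPt91j

set_option autoImplicit false
universe u
open CategoryTheory CategoryTheory.Limits AlgebraicGeometry Opposite Topology

namespace Groth.Agent.Lib.AlgSpDecentPt91

open AlgSp Groth.Agent.Lib.H80DecentPt Groth.Agent.Lib.AlgSpPoints Groth.Agent.Lib.AlgSpQC
  Groth.Agent.Lib.AlgSpDescent Groth.Agent.Lib.AlgSpDecentSpec

variable {S : Scheme.{u}}

/-- Let `p` be a monomorphic field-valued point of an algebraic space such that `F = Spec k ×_X U` is finite over `k` for the étale chart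
`φ : h_U ⟶ X`.  Then for `R = U ×_X U` and `u` over the point of `p`, the fibre of `t : R ⟶ U` over `u` is finite. -/
theorem finite_preimage_of_finite_pullback {X : Sp S} (hX : IsAlgSpace X) (p : FieldPt X)
    (hm : Mono p.toHom) {U T : Over S} (φ : (yon S).obj U ⟶ X) (c : T ⟶ p.pt) (g : T ⟶ U)
    (sq : IsPullback ((yon S).map c) ((yon S).map g) p.toHom φ) (hc : IsFinite c.left)
    {R : Over S} (s t : R ⟶ U) (sqR : IsPullback ((yon S).map t) ((yon S).map s) φ φ)
    (u : ↥U.left) (hu : Points.ofPt φ u = Points.mk p) : (t.left ⁻¹' {u}).Finite := by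
  have hpu := FieldPt.toHom_ofPt φ u
  obtain ⟨i_u, hi_u⟩ : ∃ i_u : (FieldPt.ofPt φ u).pt ⟶ U,
      i_u = Over.homMk (U.left.fromSpecResidueField u) rfl := ⟨_, rfl⟩
  rw [← hi_u] at hpu
  -- `Spec κ(u) ⟶ X` factors through `p`
  obtain ⟨n, hn⟩ := exists_factor_of_mk_eq p (FieldPt.ofPt φ u) hm (hX.representable_from_yon _) hu
  -- `Q' = Spec κ(u) ×_{Spec k} F`
  have sq0 : IsPullback (pullback.fst n c) (pullback.snd n c) n c := IsPullback.of_hasPullback n c
  have sq1 := ((sq0.map (yon S)).flip.paste_horiz sq.flip).flip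
  rw [← hn, ← Functor.map_comp] at sq1
  -- finiteness of `Q'`
  have sq2 := sq0.map (Over.forget S)
  have hfin1 : IsFinite (pullback.fst n c).left :=
    MorphismProperty.of_isPullback (P := @IsFinite) sq2.flip hc
  have hQ : Finite ↥(pullback n c).left :=
    finite_of_isFinite_to_field (K := (FieldPt.ofPt φ u).K) (pullback.fst n c).left
  -- the map `Q' ⟶ R`
  have e : (yon S).map (pullback.fst n c ≫ i_u) ≫ φ = (yon S).map (pullback.snd n c ≫ g) ≫ φ := by
    rw [Functor.map_comp, Category.assoc, ← hpu]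
    exact sq1.w
  obtain ⟨j, hj⟩ := (yon S).map_surjective (sqR.lift _ _ e)
  have hjt : (yon S).map j ≫ (yon S).map t = (yon S).map (pullback.fst n c) ≫ (yon S).map i_u := by
    rw [hj, sqR.lift_fst, Functor.map_comp]
  have hjs : (yon S).map j ≫ (yon S).map s = (yon S).map (pullback.snd n c ≫ g) := by
    rw [hj, sqR.lift_snd]
  have top : IsPullback ((yon S).map (pullback.fst n c)) ((yon S).map j) ((yon S).map i_u)
      ((yon S).map t) := by
    refine IsPullback.of_bot ?_ hjt.symm sqR
    rw [hjs, ← hpu]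
    exact sq1
  refine (Set.finite_range j.left).subset ?_
  intro r hr
  have hr' : t.left r = u := hr
  obtain ⟨w, -, hw⟩ := exists_point_of_ofPt_eq top
    (IsLocalRing.closedPoint (U.left.residueField u) : ↥(FieldPt.ofPt φ u).pt.left) r (by
      rw [Groth.Agent.Lib.H86AlgSpPoints.ofPt_yon_map, Groth.Agent.Lib.H86AlgSpPoints.ofPt_yon_map, hr', hi_u]
      congr 1
      exact Scheme.fromSpecResidueField_apply (X := U.left) u _)
  exact ⟨w, hw⟩

/-- For an étale chart `φ : h_U ⟶ X` of an algebraic space and `x ∈ |X|`: the point `x` is in the image of `|U|` with finite fibres of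
`|U| → |X|` and `|U ×_X U| → |X|` over `x` iff `x` is represented by a monomorphism `Spec k ⟶ X` with `Spec k ×_X U` nonempty and finite
over `k`. -/
theorem finite_fibres_iff_exists_mono_finite {X : Sp S} (hX : IsAlgSpace X) (x : Points X) {U : Over S}
    (φ : (yon S).obj U ⟶ X) (hφ : RepWith @Etale φ) :
    (x ∈ Set.range (Points.ofPt φ) ∧ (Points.ofPt φ ⁻¹' {x}).Finite ∧
        ∀ (R : Over S) (s t : R ⟶ U), IsPullback ((yon S).map t) ((yon S).map s) φ φ →
          (Points.ofPt ((yon S).map t ≫ φ) ⁻¹' {x}).Finite) ↔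
      ∃ p : FieldPt X, Points.mk p = x ∧ Mono p.toHom ∧
        ∀ (T : Over S) (c : T ⟶ p.pt) (snd : (yon S).obj T ⟶ (yon S).obj U),
          IsPullback ((yon S).map c) snd p.toHom φ → Nonempty ↥T.left ∧ IsFinite c.left := by
  constructor
  · rintro ⟨⟨u, hu⟩, hfinU, hfinR⟩
    have hr := hX.representable_from_yon (FieldPt.ofPt φ u).toHom
    have sqR := hφ.1.isPullback' φ
    have hR := hfinR _ _ _ sqR
    have hfinRu := finite_pullback_residue_of_finite_fibre φ u _ _ sqR (by rw [hu]; exact hR) hr
    have hcR : CompactSpace ↥(hr.pullback (FieldPt.ofPt φ u).toHom).left := inferInstance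
    obtain ⟨k₀, _, str₀, c, m, hcm, hm, -, -, -⟩ :=
      exists_mono_factor_of_chart_of_compact φ hφ u hr hcR
    have hmk : Points.mk (ofHom str₀ m) = x := by
      rw [← hu]
      exact (mk_eq_of_toHom_eq (ofHom str₀ m) (FieldPt.ofPt φ u) c
        (by rw [toHom_ofHom]; exact hcm.symm)).symm
    have hm' : Mono (ofHom str₀ m).toHom := by rw [toHom_ofHom]; exact hm
    refine ⟨ofHom str₀ m, hmk, hm', ?_⟩
    intro T c' snd sq
    obtain ⟨g, rfl⟩ := (yon S).map_surjective snd
    constructor
    · obtain ⟨t0, -, -⟩ := exists_point_of_ofPt_eq sq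
        (IsLocalRing.closedPoint k₀ : ↥(ofHom str₀ m).pt.left) u (by
          rw [hu, ← hmk]; exact Points.ofPt_toHom _ _)
      exact ⟨t0⟩
    · have het : Etale c'.left := hφ.2 _ _ _ sq.flip
      have hlqf : LocallyQuasiFinite c'.left := Groth.Agent.Lib.AlgSpBasic.locallyQuasiFinite_of_etale _
      have hmono1 : Mono ((yon S).map g) := sq.mono_snd_of_mono
      have hmono2 : Mono g := (yon S).mono_of_mono_map hmono1
      have hmono3 : Mono g.left := inferInstance
      have hinj : Function.Injective g.left := g.left.injective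
      have hmem : ∀ t : ↥T.left, g.left t ∈ Points.ofPt φ ⁻¹' {x} := by
        intro t
        rw [Set.mem_preimage, Set.mem_singleton_iff, ← ofPt_eq_of_comm c' g _ φ sq.w t, ← hmk]
        exact Points.ofPt_toHom _ _
      have hT : Finite ↥T.left :=
        Set.finite_univ_iff.1 ((hfinU.preimage hinj.injOn).subset fun t _ => hmem t)
      have hTc : CompactSpace ↥T.left := inferInstance
      have haff : IsAffine (ofHom str₀ m).pt.left := by
        change IsAffine (Spec (.of k₀))
        infer_instance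
      have hqc : QuasiCompact c'.left := HasAffineProperty.iff_of_isAffine.mpr hTc
      have hart : IsLocallyArtinian (ofHom str₀ m).pt.left := by
        change IsLocallyArtinian (Spec (.of k₀))
        infer_instance
      exact IsFinite.of_locallyQuasiFinite _
  · rintro ⟨p, rfl, hm, H⟩
    have hr := hX.representable_from_yon p.toHom
    have sq := hr.isPullback' φ
    obtain ⟨hne, hfin⟩ := H _ _ _ sq
    have hT : Finite ↥(hr.pullback φ).left :=
      finite_of_isFinite_to_field (K := p.K) (hr.fst' φ).left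
    have hfinU := finite_fibre_of_finite_pullback p φ _ _ sq hT
    refine ⟨?_, hfinU, ?_⟩
    · obtain ⟨t0⟩ := hne
      refine ⟨(hr.snd φ).left t0, ?_⟩
      rw [← ofPt_eq_of_comm _ _ _ _ sq.w t0]
      exact Points.ofPt_toHom p _
    · intro R s t sqR
      have h2 : Points.ofPt ((yon S).map t ≫ φ) ⁻¹' {Points.mk p} =
          t.left ⁻¹' (Points.ofPt φ ⁻¹' {Points.mk p}) := by
        ext r
        simp only [Set.mem_preimage, Set.mem_singleton_iff, ofPt_yon_map_comp]
      rw [h2]
      exact hfinU.preimage' fun u hu =>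
        finite_preimage_of_finite_pullback hX p hm φ _ _ sq hfin s t sqR u hu

end Groth.Agent.Lib.AlgSpDecentPt91
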