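import Groth.Agent.Lib.AlgSpDecentPt91k

set_option autoImplicit false
universe u
open CategoryTheory CategoryTheory.Limits AlgebraicGeometry Opposite Topology

namespace Groth.Agent.Lib.AlgSpDecentPt91

open AlgSp Groth.Agent.Lib.H80DecentPt Groth.Agent.Lib.AlgSpPoints Groth.Agent.Lib.AlgSpQC
  Groth.Agent.Lib.AlgSpDescent Groth.Agent.Lib.AlgSpDecentSpec

variable {S : Scheme.{u}}

/-- The residue-field point of an étale chart is representable locally quasi-finite. -/
theorem repWith_locallyQuasiFinite_ofPt {X : Sp S} {U : Over S} (b : (yon S).obj U ⟶ X)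
    (hb : RepWith @Etale b) (u : ↥U.left) :
    RepWith @LocallyQuasiFinite (FieldPt.ofPt b u).toHom := by
  rw [FieldPt.toHom_ofPt b u]
  refine (RepWith @LocallyQuasiFinite).comp_mem _ _ ((repWith_yon_map_iff _ _).2 ?_)
    ((repWith_iff _ _).2 ⟨hb.1, fun _ _ g fst snd sq => ?_⟩)
  · exact locallyQuasiFinite_fromSpecResidueField u
  · have : Etale snd.left := hb.2 g fst snd sq
    exact Groth.Agent.Lib.AlgSpBasic.locallyQuasiFinite_of_etale _

/-- `Spec κ(u') ×_X Spec κ(u)` has finitely many points if the fibre of `|U ×_X U|` over `(u, u')` is finite. -/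
theorem finite_pullback_residue_pair {X : Sp S} {U : Over S} (φ : (yon S).obj U ⟶ X)
    (u u' : ↥U.left) {R : Over S} (s t : R ⟶ U)
    (sqR : IsPullback ((yon S).map t) ((yon S).map s) φ φ)
    (hfin : {r : ↥R.left | s.left r = u ∧ t.left r = u'}.Finite)
    (hr' : Representable (FieldPt.ofPt φ u').toHom) :
    Finite ↥(hr'.pullback (FieldPt.ofPt φ u).toHom).left := by
  have hpu := FieldPt.toHom_ofPt φ u
  have hpu' := FieldPt.toHom_ofPt φ u'
  obtain ⟨i_u, hi_u⟩ : ∃ i_u : (FieldPt.ofPt φ u).pt ⟶ U,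
      i_u = Over.homMk (U.left.fromSpecResidueField u) rfl := ⟨_, rfl⟩
  obtain ⟨i_u', hi_u'⟩ : ∃ i_u' : (FieldPt.ofPt φ u').pt ⟶ U,
      i_u' = Over.homMk (U.left.fromSpecResidueField u') rfl := ⟨_, rfl⟩
  rw [← hi_u] at hpu
  rw [← hi_u'] at hpu'
  have hmi : Mono ((yon S).map i_u) := by
    rw [hi_u]; exact mono_yon_map_fromSpecResidueField U u
  have hmi' : Mono ((yon S).map i_u') := by
    rw [hi_u']; exact mono_yon_map_fromSpecResidueField U u'
  have sqF := hr'.isPullback' (FieldPt.ofPt φ u).toHom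
  have e : (yon S).map (hr'.fst' (FieldPt.ofPt φ u).toHom ≫ i_u') ≫ φ =
      (yon S).map (hr'.snd (FieldPt.ofPt φ u).toHom ≫ i_u) ≫ φ := by
    rw [Functor.map_comp, Functor.map_comp, Category.assoc, Category.assoc, ← hpu, ← hpu']
    exact sqF.w
  obtain ⟨j, hj⟩ := (yon S).map_surjective (sqR.lift _ _ e)
  have hjt : j ≫ t = hr'.fst' (FieldPt.ofPt φ u).toHom ≫ i_u' :=
    (yon S).map_injective (by rw [Functor.map_comp, hj, sqR.lift_fst])
  have hjs : j ≫ s = hr'.snd (FieldPt.ofPt φ u).toHom ≫ i_u :=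
    (yon S).map_injective (by rw [Functor.map_comp, hj, sqR.lift_snd])
  have hmj : Mono ((yon S).map j) := by
    constructor
    intro Z a b hab
    apply sqF.hom_ext
    · rw [← cancel_mono ((yon S).map i_u'), Category.assoc, Category.assoc, ← Functor.map_comp, ← hjt,
        Functor.map_comp, ← Category.assoc, hab, Category.assoc]
    · rw [← cancel_mono ((yon S).map i_u), Category.assoc, Category.assoc, ← Functor.map_comp, ← hjs,
        Functor.map_comp, ← Category.assoc, hab, Category.assoc]
  have hmj2 : Mono j := (yon S).mono_of_mono_map hmj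
  have hmj3 : Mono j.left := inferInstance
  have hinj : Function.Injective j.left := j.left.injective
  have hmem : ∀ w : ↥(hr'.pullback (FieldPt.ofPt φ u).toHom).left,
      j.left w ∈ {r : ↥R.left | s.left r = u ∧ t.left r = u'} := by
    intro w
    constructor
    · have h1 : s.left (j.left w) = (j ≫ s).left w := by rw [Over.comp_left]; rfl
      rw [h1, hjs, hi_u]
      exact Scheme.fromSpecResidueField_apply (X := U.left) u _
    · have h1 : t.left (j.left w) = (j ≫ t).left w := by rw [Over.comp_left]; rfl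
      rw [h1, hjt, hi_u']
      exact Scheme.fromSpecResidueField_apply (X := U.left) u' _
  exact Set.finite_univ_iff.1 ((hfin.preimage hinj.injOn).subset fun w _ => hmem w)

/-- If `Spec κ(u') ×_X Spec κ(u)` is finite and nonempty (that is `u`, `u'` lie over the same point) then `Spec κ(u) ×_X Spec κ(u)` is
finite. -/
theorem finite_pullback_residue_of_pair {X : Sp S} {U : Over S} (φ : (yon S).obj U ⟶ X)
    (hφ : RepWith @Etale φ) (u u' : ↥U.left) (he : Points.ofPt φ u = Points.ofPt φ u')
    (hr : Representable (FieldPt.ofPt φ u).toHom) (hr' : Representable (FieldPt.ofPt φ u').toHom)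
    (hF : Finite ↥(hr'.pullback (FieldPt.ofPt φ u).toHom).left) :
    Finite ↥(hr.pullback (FieldPt.ofPt φ u).toHom).left := by
  have sqF := hr'.isPullback' (FieldPt.ofPt φ u).toHom
  have squ := hr.isPullback' (FieldPt.ofPt φ u).toHom
  -- `f_t : F ⟶ Spec κ(u')` is finite
  have hlqf : LocallyQuasiFinite (hr'.fst' (FieldPt.ofPt φ u).toHom).left :=
    (repWith_locallyQuasiFinite_ofPt φ hφ u).2 _ _ _ sqF.flip
  have hFc : CompactSpace ↥(hr'.pullback (FieldPt.ofPt φ u).toHom).left := inferInstance
  have haff : IsAffine (FieldPt.ofPt φ u').pt.left := by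
    change IsAffine (Spec (.of (U.left.residueField u')))
    infer_instance
  have hqc : QuasiCompact (hr'.fst' (FieldPt.ofPt φ u).toHom).left :=
    HasAffineProperty.iff_of_isAffine.mpr hFc
  have hart : IsLocallyArtinian (FieldPt.ofPt φ u').pt.left := by
    change IsLocallyArtinian (Spec (.of (U.left.residueField u')))
    infer_instance
  have hfin : IsFinite (hr'.fst' (FieldPt.ofPt φ u).toHom).left := IsFinite.of_locallyQuasiFinite _
  -- `G = F ×_{Spec κ(u')} F`
  obtain ⟨f_t, hf_t⟩ : ∃ f_t, f_t = hr'.fst' (FieldPt.ofPt φ u).toHom := ⟨_, rfl⟩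
  obtain ⟨f_s, hf_s⟩ : ∃ f_s, f_s = hr'.snd (FieldPt.ofPt φ u).toHom := ⟨_, rfl⟩
  rw [← hf_t, ← hf_s] at sqF
  rw [← hf_t] at hfin
  have sqG : IsPullback (pullback.fst f_t f_t) (pullback.snd f_t f_t) f_t f_t :=
    IsPullback.of_hasPullback f_t f_t
  have sqG' := sqG.map (Over.forget S)
  have hfin1 : IsFinite (pullback.fst f_t f_t).left :=
    MorphismProperty.of_isPullback (P := @IsFinite) sqG'.flip hfin
  have hG : Finite ↥(pullback f_t f_t).left := by
    have := (pullback.fst f_t f_t).left.finite_preimage (Set.finite_univ (α := ↥(hr'.pullback (FieldPt.ofPt φ u).toHom).left))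
    rw [Set.preimage_univ] at this
    exact Set.finite_univ_iff.1 this
  -- the map `γ : G ⟶ R_u`
  have e : (yon S).map (pullback.fst f_t f_t ≫ f_s) ≫ (FieldPt.ofPt φ u).toHom =
      (yon S).map (pullback.snd f_t f_t ≫ f_s) ≫ (FieldPt.ofPt φ u).toHom := by
    rw [Functor.map_comp, Functor.map_comp, Category.assoc, Category.assoc, ← sqF.w, ← Category.assoc,
      ← Category.assoc, ← Functor.map_comp, ← Functor.map_comp, sqG.w]
  obtain ⟨γ, hγ⟩ := (yon S).map_surjective (squ.lift _ _ e)
  have hγ1 : (yon S).map γ ≫ (yon S).map (hr.fst' (FieldPt.ofPt φ u).toHom) =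
      (yon S).map (pullback.fst f_t f_t ≫ f_s) := by rw [hγ, squ.lift_fst]
  have hγ2 : (yon S).map γ ≫ (yon S).map (hr.snd (FieldPt.ofPt φ u).toHom) =
      (yon S).map (pullback.snd f_t f_t ≫ f_s) := by rw [hγ, squ.lift_snd]
  have hγ1' : γ ≫ hr.fst' (FieldPt.ofPt φ u).toHom = pullback.fst f_t f_t ≫ f_s :=
    (yon S).map_injective (by rw [Functor.map_comp, hγ1])
  have hγ2' : γ ≫ hr.snd (FieldPt.ofPt φ u).toHom = pullback.snd f_t f_t ≫ f_s :=
    (yon S).map_injective (by rw [Functor.map_comp, hγ2])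
  -- `G = R_u ×_X Spec κ(u')`
  have key : IsPullback ((yon S).map γ) ((yon S).map (pullback.fst f_t f_t ≫ f_t))
      ((yon S).map (hr.fst' (FieldPt.ofPt φ u).toHom) ≫ (FieldPt.ofPt φ u).toHom)
      (FieldPt.ofPt φ u').toHom := by
    refine Groth.Agent.Lib.H69AlgSp.isPullback_of_yon ?_ ?_ ?_
    · rw [← Category.assoc, hγ1, Functor.map_comp, Functor.map_comp, Category.assoc, Category.assoc,
        sqF.w]
    · intro T a a' h1 h2
      obtain ⟨a, rfl⟩ := (yon S).map_surjective a
      obtain ⟨a', rfl⟩ := (yon S).map_surjective a'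
      congr 1
      have h2' : a ≫ pullback.fst f_t f_t ≫ f_t = a' ≫ pullback.fst f_t f_t ≫ f_t :=
        (yon S).map_injective (by rw [Functor.map_comp, Functor.map_comp]; exact h2)
      have h1' : a ≫ γ = a' ≫ γ :=
        (yon S).map_injective (by rw [Functor.map_comp, Functor.map_comp]; exact h1)
      have h11 : a ≫ pullback.fst f_t f_t ≫ f_s = a' ≫ pullback.fst f_t f_t ≫ f_s := by
        rw [← hγ1', ← Category.assoc, h1', Category.assoc]
      have h12 : a ≫ pullback.snd f_t f_t ≫ f_s = a' ≫ pullback.snd f_t f_t ≫ f_s := by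
        rw [← hγ2', ← Category.assoc, h1', Category.assoc]
      apply sqG.hom_ext
      · apply (yon S).map_injective
        apply sqF.hom_ext
        · rw [← Functor.map_comp, ← Functor.map_comp, Category.assoc, Category.assoc, h2']
        · rw [← Functor.map_comp, ← Functor.map_comp, Category.assoc, Category.assoc, h11]
      · apply (yon S).map_injective
        apply sqF.hom_ext
        · rw [← Functor.map_comp, ← Functor.map_comp, Category.assoc, Category.assoc, ← sqG.w, h2']
        · rw [← Functor.map_comp, ← Functor.map_comp, Category.assoc, Category.assoc, h12]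
    · intro T ρ y hρy
      have e1 : y ≫ (FieldPt.ofPt φ u').toHom =
          (ρ ≫ (yon S).map (hr.fst' (FieldPt.ofPt φ u).toHom)) ≫ (FieldPt.ofPt φ u).toHom := by
        rw [Category.assoc]; exact hρy.symm
      have e2 : y ≫ (FieldPt.ofPt φ u').toHom =
          (ρ ≫ (yon S).map (hr.snd (FieldPt.ofPt φ u).toHom)) ≫ (FieldPt.ofPt φ u).toHom := by
        rw [Category.assoc, ← squ.w]; exact hρy.symm
      obtain ⟨a1, ha1⟩ := (yon S).map_surjective (sqF.lift _ _ e1)
      obtain ⟨a2, ha2⟩ := (yon S).map_surjective (sqF.lift _ _ e2)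
      have hc : a1 ≫ f_t = a2 ≫ f_t := by
        apply (yon S).map_injective
        rw [Functor.map_comp, Functor.map_comp, ha1, ha2, sqF.lift_fst, sqF.lift_fst]
      refine ⟨(yon S).map (sqG.lift a1 a2 hc), ?_, ?_⟩
      · apply squ.hom_ext
        · rw [Category.assoc, hγ1, ← Functor.map_comp, ← Category.assoc, sqG.lift_fst, Functor.map_comp,
            ha1, sqF.lift_snd]
        · rw [Category.assoc, hγ2, ← Functor.map_comp, ← Category.assoc, sqG.lift_snd, Functor.map_comp,
            ha2, sqF.lift_snd]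
      · rw [← Functor.map_comp, ← Category.assoc, sqG.lift_fst, Functor.map_comp, ha1, sqF.lift_fst]
  -- surjectivity of `γ` on points
  refine Finite.of_surjective γ.left ?_
  intro ρ
  obtain ⟨w, hw, -⟩ := exists_point_of_ofPt_eq key ρ
    (IsLocalRing.closedPoint (U.left.residueField u') : ↥(FieldPt.ofPt φ u').pt.left) (by
      rw [ofPt_yon_map_comp, Points.ofPt_toHom, Points.ofPt_toHom]
      exact he)
  exact ⟨w, hw⟩

/-- (1) ⇒ (4): if for an étale chart `U` and points `u`, `u'` of `U` over the same point `x` the fibre of `|U ×_X U|` over `(u, u')` is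
finite, then `x` is represented by a monomorphism from the spectrum of a field. -/
theorem exists_mono_point_of_finite_pair {X : Sp S} (hX : IsAlgSpace X) {U : Over S}
    (φ : (yon S).obj U ⟶ X) (hφ : RepWith @Etale φ) (u u' : ↥U.left)
    (he : Points.ofPt φ u = Points.ofPt φ u')
    (hfin : ∀ (R : Over S) (s t : R ⟶ U), IsPullback ((yon S).map t) ((yon S).map s) φ φ →
      {r : ↥R.left | s.left r = u ∧ t.left r = u'}.Finite) :
    ∃ p : FieldPt X, Points.mk p = Points.ofPt φ u ∧ Mono p.toHom := by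
  have hr := hX.representable_from_yon (FieldPt.ofPt φ u).toHom
  have hr' := hX.representable_from_yon (FieldPt.ofPt φ u').toHom
  have sqR := hφ.1.isPullback' φ
  have hF := finite_pullback_residue_pair φ u u' _ _ sqR (hfin _ _ _ sqR) hr'
  have hRu := finite_pullback_residue_of_pair φ hφ u u' he hr hr' hF
  have hcR : CompactSpace ↥(hr.pullback (FieldPt.ofPt φ u).toHom).left := inferInstance
  obtain ⟨k₀, _, str₀, c, m, hcm, hm, -, -, -⟩ :=
    exists_mono_factor_of_chart_of_compact φ hφ u hr hcR
  refine ⟨ofHom str₀ m, ?_, by rw [toHom_ofHom]; exact hm⟩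
  exact (mk_eq_of_toHom_eq (ofHom str₀ m) (FieldPt.ofPt φ u) c
    (by rw [toHom_ofHom]; exact hcm.symm)).symm

end Groth.Agent.Lib.AlgSpDecentPt91
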