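import Groth.Agent.Lib.AlgSpAtPt
import Groth.Agent.S10262

/-!
# The diagonal maps the unramified locus onto an open subset of `X ×_Y X` (helper36)
-/

set_option autoImplicit false
set_option linter.style.haveILetI false
universe u
open CategoryTheory CategoryTheory.Limits AlgebraicGeometry Opposite

namespace Groth.Agent.Lib.AlgSpDiagUnrOpen36

open AlgSp Groth.Agent.Lib.AlgSpBasic Groth.Agent.Lib.AlgSpAtPt Groth.Agent.Lib.AlgSpLocP
  Groth.Agent.Lib.AlgSpQC

variable {S : Scheme.{u}}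

theorem sevenClass_unramified :
    SevenClass (@LocallyOfFiniteType ⊓ @FormallyUnramified : MorphismProperty Scheme.{u}) :=
  Or.inr (Or.inr (Or.inr (Or.inr (Or.inr (Or.inr (fun _ _ _ => Iff.rfl))))))

theorem repWith_etale_of_isOpenImmersion {F G : Sp S} {j : F ⟶ G}
    (hj : RepWith @IsOpenImmersion j) : RepWith @Etale j :=
  repWith_mono (fun _ _ g hg => by
    have : IsOpenImmersion g := hg
    exact (inferInstance : Etale g)) hj

/-- The image under the diagonal of the unramified locus of `f` is open in `|X ×_Y X|`. -/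
theorem isOpen_image_diagonal_unramifiedLocus {X Y XX : Sp S} (hX : IsAlgSpace X) (hY : IsAlgSpace Y)
    (f : X ⟶ Y) {pr0 pr1 : XX ⟶ X} (hXX : IsPullback pr0 pr1 f f) (Δ : X ⟶ XX)
    (hΔ0 : Δ ≫ pr0 = 𝟙 X) (hΔ1 : Δ ≫ pr1 = 𝟙 X) :
    IsOpen (Points.map Δ '' {x : Points X |
      HasAtMor (NbhdQ (@LocallyOfFiniteType ⊓ @FormallyUnramified)) f x}) := by
  rw [isOpen_iff_forall_mem_open]
  rintro _ ⟨x₀, hx₀, rfl⟩
  obtain ⟨X₀, j, hX₀, hj, ⟨x₀', rfl⟩, hloc⟩ :=
    exists_open_of_hasAtMor sevenClass_unramified hX hY f x₀ hx₀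
  set f₀ := j ≫ f with hf₀
  have hΔ₀ : RepWith @IsOpenImmersion (pullback.diagonal f₀) :=
    (Groth.Agent.S10262.result (X := ⟨X₀, hX₀⟩) (Y := ⟨Y, hY⟩) (ObjectProperty.homMk f₀)).1 hloc
  -- `n : X₀ ×_Y X ⟶ XX`
  let n : pullback f₀ f ⟶ XX := hXX.lift (pullback.fst f₀ f ≫ j) (pullback.snd f₀ f)
    (by rw [Category.assoc]; exact pullback.condition)
  have n0 : n ≫ pr0 = pullback.fst f₀ f ≫ j := hXX.lift_fst _ _ _
  have n1 : n ≫ pr1 = pullback.snd f₀ f := hXX.lift_snd _ _ _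
  have sq_n : IsPullback n (pullback.fst f₀ f) pr0 j := by
    refine IsPullback.of_right ?_ n0 hXX.flip
    rw [n1]
    exact (IsPullback.of_hasPullback f₀ f).flip
  have hn : RepWith @IsOpenImmersion n := repWith_fst_of_isPullback _ sq_n hj
  -- `m' : X₀ ×_Y X₀ ⟶ X₀ ×_Y X`
  let m' : pullback f₀ f₀ ⟶ pullback f₀ f :=
    pullback.lift (pullback.fst f₀ f₀) (pullback.snd f₀ f₀ ≫ j)
      (by rw [Category.assoc]; exact pullback.condition)
  have m0 : m' ≫ pullback.fst f₀ f = pullback.fst f₀ f₀ := pullback.lift_fst _ _ _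
  have m1 : m' ≫ pullback.snd f₀ f = pullback.snd f₀ f₀ ≫ j := pullback.lift_snd _ _ _
  have sq_m : IsPullback m' (pullback.snd f₀ f₀) (pullback.snd f₀ f) j := by
    refine IsPullback.of_right ?_ m1 (IsPullback.of_hasPullback f₀ f)
    rw [m0]
    exact IsPullback.of_hasPullback f₀ f₀
  have hm : RepWith @IsOpenImmersion m' := repWith_fst_of_isPullback _ sq_m hj
  have hd : RepWith @Etale (pullback.diagonal f₀ ≫ m' ≫ n) :=
    MorphismProperty.comp_mem _ _ _ (repWith_etale_of_isOpenImmersion hΔ₀)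
      (MorphismProperty.comp_mem _ _ _ (repWith_etale_of_isOpenImmersion hm)
        (repWith_etale_of_isOpenImmersion hn))
  have hd_eq : pullback.diagonal f₀ ≫ m' ≫ n = j ≫ Δ := by
    apply hXX.hom_ext
    · rw [Category.assoc, Category.assoc, n0, ← Category.assoc m', m0, ← Category.assoc,
        pullback.diagonal_fst, Category.id_comp, Category.assoc, hΔ0, Category.comp_id]
    · rw [Category.assoc, Category.assoc, n1, m1, ← Category.assoc,
        pullback.diagonal_snd, Category.id_comp, Category.assoc, hΔ1, Category.comp_id]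
  refine ⟨Set.range (Points.map (pullback.diagonal f₀ ≫ m' ≫ n)), ?_,
    (isOpenMap_map_of_repWith_etale hd).isOpen_range, ?_⟩
  · rintro _ ⟨t, rfl⟩
    refine ⟨Points.map j t, ?_, ?_⟩
    · exact hasAtMor_of_open sevenClass_unramified hY f _ j hX₀ hj ⟨t, rfl⟩ hloc
    · rw [hd_eq, Points.map_comp]
  · refine ⟨x₀', ?_⟩
    rw [hd_eq, Points.map_comp]

end Groth.Agent.Lib.AlgSpDiagUnrOpen36
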