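import Mathlib.Topology.KrullDimension
import Mathlib.Topology.Sober
import Mathlib.Topology.Inseparable

set_option autoImplicit false
open Topology TopologicalSpace Order

namespace Groth.Agent.Lib.SpecDim

section
variable {A B : Type*} [TopologicalSpace A] [TopologicalSpace B]

attribute [local instance] specializationOrder

/-- For a quasi-sober `T0` space the topological Krull dimension is the Krull dimension
of the specialization order. -/
lemma topologicalKrullDim_eq_krullDim [QuasiSober A] [T0Space A] :
    topologicalKrullDim A = krullDim A :=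
  krullDim_eq_of_orderIso (irreducibleSetEquivPoints (α := A))

lemma lt_iff_specializes {a b : A} [T0Space A] : a < b ↔ b ⤳ a ∧ ¬ a ⤳ b := Iff.rfl

/-- A continuous surjective generalizing map all of whose fibres carry no nontrivial
specializations preserves the topological Krull dimension. -/
theorem topologicalKrullDim_eq_of_generalizingMap [QuasiSober A] [T0Space A] [QuasiSober B]
    [T0Space B] (φ : A → B) (hc : Continuous φ) (hs : Function.Surjective φ)
    (hg : GeneralizingMap φ) (hfib : ∀ a a' : A, a ⤳ a' → φ a = φ a' → a = a') :
    topologicalKrullDim A = topologicalKrullDim B := by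
  rw [topologicalKrullDim_eq_krullDim, topologicalKrullDim_eq_krullDim]
  have hmono : StrictMono φ := by
    intro a b hab
    obtain ⟨h1, h2⟩ := hab
    refine ⟨h1.map hc, fun h3 => h2 ?_⟩
    have : φ a = φ b := (h3.antisymm (h1.map hc)).eq
    have := hfib b a h1 this.symm
    rw [this]
  have hlift : ∀ a : A, ∀ b : B, φ a < b → ∃ a' : A, a < a' ∧ φ a' = b := by
    intro a b hab
    obtain ⟨a', ha', rfl⟩ := hg hab.1
    refine ⟨a', ⟨ha', fun h => hab.2 (h.map hc)⟩, rfl⟩
  have hco : ∀ a : A, coheight a = coheight (φ a) :=
    coheight_eq_of_strictMono φ hmono hlift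
  rw [krullDim_eq_iSup_coheight, krullDim_eq_iSup_coheight]
  rw [← hs.iSup_comp]
  simp only [hco]

end

end Groth.Agent.Lib.SpecDim
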