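import Groth.Agent.Lib.AlgSpDecentSpec
import Groth.Agent.Lib.SpecDim

/-!
# Dimension of algebraic spaces and locally quasi-finite morphisms (owner: helper91)

Namespace `Groth.Agent.Lib.AlgSpDim91`.  Append-only please.
-/

set_option autoImplicit false
universe u
open CategoryTheory CategoryTheory.Limits AlgebraicGeometry Opposite Topology Order

namespace Groth.Agent.Lib.AlgSpDim91

open AlgSp Groth.Agent.Lib.AlgSpPoints Groth.Agent.Lib.AlgSpQC Groth.Agent.Lib.AlgSpBasic
  Groth.Agent.Lib.AlgSpDecentSpec

section Top
variable {A B : Type*} [TopologicalSpace A] [TopologicalSpace B]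

attribute [local instance] specializationOrder

/-- A continuous map between quasi-sober `T0` spaces all of whose fibres carry no nontrivial specializations does not lower the
topological Krull dimension. -/
theorem topologicalKrullDim_le_of_fibres [QuasiSober A] [T0Space A] [QuasiSober B] [T0Space B]
    (φ : A → B) (hc : Continuous φ) (hfib : ∀ a a' : A, a ⤳ a' → φ a = φ a' → a = a') :
    topologicalKrullDim A ≤ topologicalKrullDim B := by
  rw [Groth.Agent.Lib.SpecDim.topologicalKrullDim_eq_krullDim,
    Groth.Agent.Lib.SpecDim.topologicalKrullDim_eq_krullDim]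
  have hmono : StrictMono φ := by
    intro a b hab
    obtain ⟨h1, h2⟩ := hab
    refine ⟨h1.map hc, fun h3 => h2 ?_⟩
    have : φ a = φ b := (h3.antisymm (h1.map hc)).eq
    have := hfib b a h1 this.symm
    rw [this]
  exact krullDim_le_of_strictMono φ hmono

end Top

/-- The dimension does not drop along a locally quasi-finite morphism of schemes. -/
theorem topologicalKrullDim_le_of_locallyQuasiFinite {W V : Scheme.{u}} (t : W ⟶ V)
    [LocallyQuasiFinite t] : topologicalKrullDim ↥W ≤ topologicalKrullDim ↥V :=
  topologicalKrullDim_le_of_fibres t t.continuous fun _ _ h he =>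
    eq_of_specializes_of_locallyQuasiFinite t h he

/-- An etale surjective morphism of schemes preserves the dimension. -/
theorem topologicalKrullDim_eq_of_etale_surjective {W U : Scheme.{u}} (s : W ⟶ U) [Etale s]
    [Surjective s] : topologicalKrullDim ↥W = topologicalKrullDim ↥U := by
  have : LocallyQuasiFinite s := locallyQuasiFinite_of_etale _
  exact Groth.Agent.Lib.SpecDim.topologicalKrullDim_eq_of_generalizingMap s s.continuous s.surjective
    (Flat.generalizingMap s) fun _ _ h he => eq_of_specializes_of_locallyQuasiFinite s h he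

variable {S : Scheme.{u}}

/-- The dimension of an etale chart is bounded by the dimension of the sheaf. -/
theorem topologicalKrullDim_le_dim {F : Sp S} {U : Over S} (a : (yon S).obj U ⟶ F)
    (ha : RepWith @Etale a) : topologicalKrullDim ↥U.left ≤ AlgSp.dim F :=
  le_iSup_of_le U (le_iSup_of_le a (le_iSup_of_le ha le_rfl))

/-- A locally quasi-finite morphism of algebraic spaces does not raise the dimension. -/
theorem dim_le_of_locP_locallyQuasiFinite {X Y : Sp S} (hY : IsAlgSpace Y) (f : X ⟶ Y)
    (hf : LocP (@LocallyQuasiFinite ⊓ @LocallyOfFiniteType) f) : AlgSp.dim X ≤ AlgSp.dim Y := by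
  refine iSup_le fun U => iSup_le fun a => iSup_le fun ha => ?_
  obtain ⟨V, b, hbe, hbs⟩ := hY.atlas
  obtain ⟨W, s, t, hse, hss, sq⟩ := Groth.Agent.Lib.H69AlgSpReduced.exists_chart f a b hbe hbs
  have hse' : RepWith @Etale ((yon S).map s) := (repWith_yon_map_iff _ _).2 hse
  have hae : RepWith @Etale ((yon S).map s ≫ a) := MorphismProperty.comp_mem _ _ _ hse' ha
  have hw : ((yon S).map s ≫ a) ≫ f = (yon S).map t ≫ b := by
    rw [Category.assoc]; exact sq.w.symm
  have hlqf : LocallyQuasiFinite t.left := (hf ((yon S).map s ≫ a) b t hae hbe hw).1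
  have : Etale s.left := hse
  have : Surjective s.left := hss
  calc topologicalKrullDim ↥U.left = topologicalKrullDim ↥W.left :=
        (topologicalKrullDim_eq_of_etale_surjective s.left).symm
    _ ≤ topologicalKrullDim ↥V.left := topologicalKrullDim_le_of_locallyQuasiFinite t.left
    _ ≤ AlgSp.dim Y := topologicalKrullDim_le_dim b hbe

section Coheight

/-- A map with the lifting property for strict upper bounds does not raise the coheight. -/
theorem coheight_apply_le_of_lift {α β : Type*} [Preorder α] [Preorder β] (f : α → β)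
    (h : ∀ a : α, ∀ b : β, f a < b → ∃ (a' : α), a < a' ∧ f a' = b) (a : α) :
    coheight (f a) ≤ coheight a := by
  refine coheight_le_iff'.mpr fun p hp ↦ ?_
  induction p using RelSeries.inductionOn generalizing a with
  | singleton x => simp
  | cons p x hx ih =>
    simp only [RelSeries.head_cons] at hp
    obtain ⟨a', haa', ha'⟩ := h a p.head (by grind)
    grw [RelSeries.cons_length, Nat.cast_add, Nat.cast_one, ih a' ha'.symm]
    exact coheight_add_one_le haa'

/-- Along a locally quasi-finite morphism of schemes the codimension of a point does not drop. -/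
theorem coheight_le_of_locallyQuasiFinite {W V : Scheme.{u}} (t : W ⟶ V) [LocallyQuasiFinite t]
    (w : ↥W) : coheight w ≤ coheight (t w) := by
  refine coheight_le_coheight_apply_of_strictMono (fun w : ↥W => t w) ?_ w
  intro a b hab
  refine lt_of_le_not_ge (Specializes.map hab.le t.continuous) fun h3 => hab.not_ge ?_
  have h1 : b ⤳ a := hab.le
  have he : t b = t a := (Specializes.antisymm (h1.map t.continuous) h3).eq
  have := eq_of_specializes_of_locallyQuasiFinite t h1 he
  rw [this]

/-- Along a flat morphism of schemes the codimension of a point does not rise. -/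
theorem coheight_le_of_flat {W V : Scheme.{u}} (t : W ⟶ V) [Flat t] (w : ↥W) :
    coheight (t w) ≤ coheight w := by
  refine coheight_apply_le_of_lift (fun w : ↥W => t w) ?_ w
  intro a b hab
  obtain ⟨a', ha', rfl⟩ := (Flat.generalizingMap t) hab.le
  exact ⟨a', lt_of_le_not_ge ha' fun h => hab.not_ge (Specializes.map h t.continuous), rfl⟩

/-- Etale morphisms of schemes preserve the codimension of points. -/
theorem coheight_eq_of_etale {W U : Scheme.{u}} (s : W ⟶ U) [Etale s] (w : ↥W) :
    coheight (s w) = coheight w := by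
  have : LocallyQuasiFinite s := locallyQuasiFinite_of_etale _
  exact le_antisymm (coheight_le_of_flat s w) (coheight_le_of_locallyQuasiFinite s w)

theorem ringKrullDim_stalk_le_of_locallyQuasiFinite {W V : Scheme.{u}} (t : W ⟶ V)
    [LocallyQuasiFinite t] (w : ↥W) :
    ringKrullDim (W.presheaf.stalk w) ≤ ringKrullDim (V.presheaf.stalk (t w)) := by
  rw [ringKrullDim_stalk_eq_coheight, ringKrullDim_stalk_eq_coheight]
  exact_mod_cast coheight_le_of_locallyQuasiFinite t w

theorem ringKrullDim_stalk_le_of_flat {W V : Scheme.{u}} (t : W ⟶ V) [Flat t] (w : ↥W) :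
    ringKrullDim (V.presheaf.stalk (t w)) ≤ ringKrullDim (W.presheaf.stalk w) := by
  rw [ringKrullDim_stalk_eq_coheight, ringKrullDim_stalk_eq_coheight]
  exact_mod_cast coheight_le_of_flat t w

theorem ringKrullDim_stalk_eq_of_etale {W U : Scheme.{u}} (s : W ⟶ U) [Etale s] (w : ↥W) :
    ringKrullDim (U.presheaf.stalk (s w)) = ringKrullDim (W.presheaf.stalk w) := by
  rw [ringKrullDim_stalk_eq_coheight, ringKrullDim_stalk_eq_coheight, coheight_eq_of_etale]

end Coheight

/-- A common chart for a morphism `f : X ⟶ Y` through a point `u` of a chart of `X` and a point `v` of a chart of `Y` over the same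
point of `Y`. -/
theorem exists_chart_through_points {X Y : Sp S} (f : X ⟶ Y) {U V : Over S}
    (a : (yon S).obj U ⟶ X) (ha : RepWith @Etale a) (b : (yon S).obj V ⟶ Y) (hb : RepWith @Etale b)
    (u : ↥U.left) (v : ↥V.left) (h : Points.ofPt b v = Points.map f (Points.ofPt a u)) :
    ∃ (W : Over S) (s : W ⟶ U) (t : W ⟶ V) (w : ↥W.left), Etale s.left ∧
      RepWith @Etale ((yon S).map s ≫ a) ∧ ((yon S).map s ≫ a) ≫ f = (yon S).map t ≫ b ∧
      s.left w = u ∧ t.left w = v := by
  have sq := hb.rep.isPullback' (a ≫ f)
  have hse : Etale (hb.rep.snd (a ≫ f)).left := hb.property_snd (a ≫ f)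
  have hse' : RepWith @Etale ((yon S).map (hb.rep.snd (a ≫ f))) := (repWith_yon_map_iff _ _).2 hse
  obtain ⟨w, hw1, hw2⟩ := exists_point_of_ofPt_eq sq v u (by rw [h, Points.map_ofPt])
  refine ⟨_, hb.rep.snd (a ≫ f), hb.rep.fst' (a ≫ f), w, hse,
    MorphismProperty.comp_mem _ _ _ hse' ha, ?_, hw2, hw1⟩
  rw [Category.assoc]
  exact sq.w.symm

end Groth.Agent.Lib.AlgSpDim91
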