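import Groth.Agent.Lib.AlgSpEtField91

set_option autoImplicit false
universe u
open CategoryTheory CategoryTheory.Limits AlgebraicGeometry Opposite Topology

namespace Groth.Agent.Lib.AlgSpElemNbhd91

open AlgSp Groth.Agent.Lib.H80DecentPt Groth.Agent.Lib.AlgSpDecentPt91 Groth.Agent.Lib.AlgSpPoints
  Groth.Agent.Lib.AlgSpDecentSpec

variable {S : Scheme.{u}}

/-- A morphism from the spectrum of a field hitting the point `x` factors through `Spec κ(x)`. -/
theorem exists_factor_fromSpecResidueField {K : Type u} [Field K] {X : Scheme.{u}}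
    (b : Spec (.of K) ⟶ X) (x : ↥X) (h : b (IsLocalRing.closedPoint K) = x) :
    ∃ β : Spec (.of K) ⟶ Spec (X.residueField x), β ≫ X.fromSpecResidueField x = b := by
  subst h
  exact ⟨Spec.map (Scheme.SpecToEquivOfField K X b).2, (Scheme.SpecToEquivOfField K X).left_inv b⟩

/-- The canonical morphism over `S` from the spectrum of the residue field at a point of a chart. -/
noncomputable abbrev resPt {X : Sp S} {U : Over S} (a : (yon S).obj U ⟶ X) (u : ↥U.left) :
    (FieldPt.ofPt a u).pt ⟶ U := Over.homMk (U.left.fromSpecResidueField u) rfl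

theorem toHom_ofPt' {X : Sp S} {U : Over S} (a : (yon S).obj U ⟶ X) (u : ↥U.left) :
    (FieldPt.ofPt a u).toHom = (yon S).map (resPt a u) ≫ a := FieldPt.toHom_ofPt a u

/-- A morphism over `S` from a field point `q.pt` to `U` hitting `u` factors through `resPt a u`. -/
theorem exists_factor_resPt {X : Sp S} {U : Over S} (a : (yon S).obj U ⟶ X) (u : ↥U.left)
    {K : Type u} [Field K] {str : Spec (.of K) ⟶ S} (b : Over.mk str ⟶ U)
    (h : b.left (IsLocalRing.closedPoint K) = u) :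
    ∃ β : Over.mk str ⟶ (FieldPt.ofPt a u).pt, β ≫ resPt a u = b := by
  obtain ⟨β, hβ⟩ := exists_factor_fromSpecResidueField b.left u h
  refine ⟨Over.homMk β ?_, Over.OverMorphism.ext hβ⟩
  have := Over.w b
  change β ≫ U.left.fromSpecResidueField u ≫ U.hom = str
  rw [← Category.assoc, hβ]
  exact this

theorem resPt_left_apply {X : Sp S} {U : Over S} (a : (yon S).obj U ⟶ X) (u : ↥U.left)
    (s : ↥(FieldPt.ofPt a u).pt.left) : (resPt a u).left s = u :=
  Scheme.fromSpecResidueField_apply u s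

/-- Mono criterion for the point of a fibre product of two elementary étale neighbourhoods. -/
theorem mono_toHom_ofPt_of_isPullback {X : Sp S} {x : Points X} {U₁ U₂ P : Over S}
    {a₁ : (yon S).obj U₁ ⟶ X} {a₂ : (yon S).obj U₂ ⟶ X} {u₁ : ↥U₁.left} {u₂ : ↥U₂.left}
    (h₁ : IsElemEtaleNbhd a₁ u₁ x) (h₂ : IsElemEtaleNbhd a₂ u₂ x) {fst : P ⟶ U₁} {snd : P ⟶ U₂}
    (sq : IsPullback ((yon S).map fst) ((yon S).map snd) a₁ a₂) (v : ↥P.left)
    (hv1 : fst.left v = u₁) (hv2 : snd.left v = u₂) :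
    Mono (FieldPt.ofPt ((yon S).map fst ≫ a₁) v).toHom := by
  obtain ⟨a, ha⟩ : ∃ a, a = (yon S).map fst ≫ a₁ := ⟨_, rfl⟩
  rw [← ha, toHom_ofPt']
  obtain ⟨β₁, hβ₁⟩ := exists_factor_resPt a₁ u₁ (resPt a v ≫ fst) (by
    rw [Over.comp_left, Scheme.Hom.comp_apply, resPt_left_apply]; exact hv1)
  obtain ⟨β₂, hβ₂⟩ := exists_factor_resPt a₂ u₂ (resPt a v ≫ snd) (by
    rw [Over.comp_left, Scheme.Hom.comp_apply, resPt_left_apply]; exact hv2)
  have hm1 := h₁.mono
  have hm2 := h₂.mono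
  rw [toHom_ofPt'] at hm1 hm2
  have hiv : Mono ((yon S).map (resPt a v)) := mono_yon_map_fromSpecResidueField P v
  constructor
  intro Z α β hαβ
  rw [← cancel_mono ((yon S).map (resPt a v))]
  apply sq.hom_ext
  · have h3 : α ≫ (yon S).map β₁ = β ≫ (yon S).map β₁ := by
      rw [← cancel_mono ((yon S).map (resPt a₁ u₁) ≫ a₁)]
      rw [Category.assoc, Category.assoc, ← Category.assoc ((yon S).map β₁),
        ← Functor.map_comp, hβ₁, Functor.map_comp, Category.assoc, ← ha]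
      exact hαβ
    rw [Category.assoc, Category.assoc, ← Functor.map_comp, ← hβ₁, Functor.map_comp,
      ← Category.assoc, h3, Category.assoc]
  · have h3 : α ≫ (yon S).map β₂ = β ≫ (yon S).map β₂ := by
      rw [← cancel_mono ((yon S).map (resPt a₂ u₂) ≫ a₂)]
      rw [Category.assoc, Category.assoc, ← Category.assoc ((yon S).map β₂),
        ← Functor.map_comp, hβ₂, Functor.map_comp, Category.assoc, ← sq.w, ← ha]
      exact hαβ
    rw [Category.assoc, Category.assoc, ← Functor.map_comp, ← hβ₂, Functor.map_comp,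
      ← Category.assoc, h3, Category.assoc]

/-- Two elementary étale neighbourhoods of a point of an algebraic space are dominated by a third. -/
theorem exists_elem_nbhd_dominating {X : Sp S} (hA : IsAlgSpace X) (x : Points X)
    (U₁ U₂ : Over S) (a₁ : (yon S).obj U₁ ⟶ X) (a₂ : (yon S).obj U₂ ⟶ X) (u₁ : ↥U₁.left)
    (u₂ : ↥U₂.left) (h₁ : IsElemEtaleNbhd a₁ u₁ x) (h₂ : IsElemEtaleNbhd a₂ u₂ x) :
    ∃ (U : Over S) (a : (yon S).obj U ⟶ X) (v : ↥U.left) (k₁ : U ⟶ U₁) (k₂ : U ⟶ U₂),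
      IsElemEtaleNbhd a v x ∧ (yon S).map k₁ ≫ a₁ = a ∧ (yon S).map k₂ ≫ a₂ = a ∧
        k₁.left v = u₁ ∧ k₂.left v = u₂ := by
  have hr : Representable a₁ := h₁.etale.1
  have sq := hr.isPullback' a₂
  have hmk : Points.mk (FieldPt.ofPt a₂ u₂) = Points.mk (FieldPt.ofPt a₁ u₁) :=
    h₂.ofPt_eq.trans h₁.ofPt_eq.symm
  obtain ⟨m, hm⟩ := exists_factor_of_mk_eq (FieldPt.ofPt a₁ u₁) (FieldPt.ofPt a₂ u₂) h₁.mono
    (hA.representable_from_yon _) hmk
  have hcomm : (yon S).map (m ≫ resPt a₁ u₁) ≫ a₁ = (yon S).map (resPt a₂ u₂) ≫ a₂ := by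
    rw [Functor.map_comp, Category.assoc, ← toHom_ofPt', ← hm, toHom_ofPt']
  obtain ⟨c, hc⟩ := (yon S).map_surjective (sq.lift _ _ hcomm)
  have hc1 : c ≫ hr.fst' a₂ = m ≫ resPt a₁ u₁ :=
    (yon S).map_injective (by rw [Functor.map_comp, hc, sq.lift_fst])
  have hc2 : c ≫ hr.snd a₂ = resPt a₂ u₂ :=
    (yon S).map_injective (by rw [Functor.map_comp, hc, sq.lift_snd])
  obtain ⟨v, hv⟩ : ∃ v : ↥(hr.pullback a₂).left,
      v = c.left (IsLocalRing.closedPoint (FieldPt.ofPt a₂ u₂).K) := ⟨_, rfl⟩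
  have hv1 : (hr.fst' a₂).left v = u₁ := by
    rw [hv, ← Scheme.Hom.comp_apply, ← Over.comp_left, hc1, Over.comp_left, Scheme.Hom.comp_apply,
      resPt_left_apply]
  have hv2 : (hr.snd a₂).left v = u₂ := by
    rw [hv, ← Scheme.Hom.comp_apply, ← Over.comp_left, hc2, resPt_left_apply]
  have hfstE : Etale (hr.fst' a₂).left := h₂.etale.2 _ _ _ sq.flip
  have haE : RepWith @Etale ((yon S).map (hr.fst' a₂) ≫ a₁) :=
    MorphismProperty.comp_mem _ _ _ ((repWith_yon_map_iff _ _).2 hfstE) h₁.etale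
  refine ⟨hr.pullback a₂, (yon S).map (hr.fst' a₂) ≫ a₁, v, hr.fst' a₂, hr.snd a₂,
    ⟨haE, ?_, mono_toHom_ofPt_of_isPullback h₁ h₂ sq v hv1 hv2⟩, rfl, sq.w.symm, hv1, hv2⟩
  rw [ofPt_yon_map_comp, hv1]
  exact h₁.ofPt_eq

theorem mono_resPt {X : Sp S} {U : Over S} (a : (yon S).obj U ⟶ X) (u : ↥U.left) :
    Mono (resPt a u) := by
  have h0 : Mono (U.left.fromSpecResidueField u) := inferInstance
  exact @Over.mono_of_mono_left _ _ _ _ _ _ h0

/-- Two morphisms of elementary étale neighbourhoods are equalized by a third elementary étale neighbourhood. -/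
theorem exists_elem_nbhd_equalizing {X : Sp S} (x : Points X)
    (U₁ U₂ : Over S) (a₁ : (yon S).obj U₁ ⟶ X) (a₂ : (yon S).obj U₂ ⟶ X) (u₁ : ↥U₁.left)
    (u₂ : ↥U₂.left) (b c : U₁ ⟶ U₂) (h₁ : IsElemEtaleNbhd a₁ u₁ x) (h₂ : IsElemEtaleNbhd a₂ u₂ x)
    (hb : (yon S).map b ≫ a₂ = a₁) (hc : (yon S).map c ≫ a₂ = a₁) (hbu : b.left u₁ = u₂)
    (hcu : c.left u₁ = u₂) :
    ∃ (U : Over S) (a : (yon S).obj U ⟶ X) (v : ↥U.left) (h : U ⟶ U₁),
      IsElemEtaleNbhd a v x ∧ (yon S).map h ≫ a₁ = a ∧ h.left v = u₁ ∧ h ≫ b = h ≫ c := by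
  have hr₂ : Representable a₂ := h₂.etale.1
  have sqR := hr₂.isPullback' a₂
  have hfE : Etale (hr₂.fst' a₂).left := h₂.etale.2 _ _ _ sqR.flip
  -- the diagonal
  obtain ⟨Δ, hΔ⟩ := (yon S).map_surjective (sqR.lift (𝟙 _) (𝟙 _) rfl)
  have hΔ1 : Δ ≫ hr₂.fst' a₂ = 𝟙 _ :=
    (yon S).map_injective (by rw [Functor.map_comp, hΔ, sqR.lift_fst, CategoryTheory.Functor.map_id])
  have hΔ2 : Δ ≫ hr₂.snd a₂ = 𝟙 _ :=
    (yon S).map_injective (by rw [Functor.map_comp, hΔ, sqR.lift_snd, CategoryTheory.Functor.map_id])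
  have hΔ1' : Δ.left ≫ (hr₂.fst' a₂).left = 𝟙 _ := by rw [← Over.comp_left, hΔ1]; rfl
  have hΔ2' : Δ.left ≫ (hr₂.snd a₂).left = 𝟙 _ := by rw [← Over.comp_left, hΔ2]; rfl
  have hΔO : IsOpenImmersion Δ.left :=
    Groth.Agent.Lib.H80TopInv.isOpenImmersion_of_section (hr₂.fst' a₂).left Δ.left hΔ1'
  -- the pair (b, c)
  obtain ⟨bc, hbc⟩ := (yon S).map_surjective (sqR.lift ((yon S).map b) ((yon S).map c)
    (by rw [hb, hc]))
  have hbc1 : bc ≫ hr₂.fst' a₂ = b :=
    (yon S).map_injective (by rw [Functor.map_comp, hbc, sqR.lift_fst])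
  have hbc2 : bc ≫ hr₂.snd a₂ = c :=
    (yon S).map_injective (by rw [Functor.map_comp, hbc, sqR.lift_snd])
  -- the residue field point is equalized
  have hm2 := h₂.mono
  rw [toHom_ofPt'] at hm2
  obtain ⟨β, hβ⟩ := exists_factor_resPt a₂ u₂ (resPt a₁ u₁ ≫ b) (by
    rw [Over.comp_left, Scheme.Hom.comp_apply, resPt_left_apply]; exact hbu)
  obtain ⟨γ, hγ⟩ := exists_factor_resPt a₂ u₂ (resPt a₁ u₁ ≫ c) (by
    rw [Over.comp_left, Scheme.Hom.comp_apply, resPt_left_apply]; exact hcu)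
  have hβγ : β = γ := by
    apply (yon S).map_injective
    rw [← cancel_mono ((yon S).map (resPt a₂ u₂) ≫ a₂), ← Category.assoc, ← Category.assoc,
      ← Functor.map_comp, ← Functor.map_comp, hβ, hγ, Functor.map_comp, Functor.map_comp,
      Category.assoc, Category.assoc, hb, hc]
  have heq : resPt a₁ u₁ ≫ b = resPt a₁ u₁ ≫ c := by rw [← hβ, ← hγ, hβγ]
  have hfac : resPt a₁ u₁ ≫ bc = (resPt a₁ u₁ ≫ b) ≫ Δ := by
    apply (yon S).map_injective
    apply sqR.hom_ext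
    · rw [← Functor.map_comp, ← Functor.map_comp, Category.assoc, hbc1, Category.assoc, hΔ1,
        Category.comp_id]
    · rw [← Functor.map_comp, ← Functor.map_comp, Category.assoc, hbc2, Category.assoc, hΔ2,
        Category.comp_id, heq]
  -- the open subscheme
  obtain ⟨O, hO⟩ : ∃ O : U₁.left.Opens, O = bc.left ⁻¹ᵁ Δ.left.opensRange := ⟨_, rfl⟩
  have hu₁O : u₁ ∈ O := by
    rw [hO]
    change bc.left u₁ ∈ Set.range Δ.left
    have h1 : bc.left u₁ = (resPt a₁ u₁ ≫ bc).left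
        (IsLocalRing.closedPoint (FieldPt.ofPt a₁ u₁).K) := by
      rw [Over.comp_left, Scheme.Hom.comp_apply, resPt_left_apply]
    rw [h1, hfac, Over.comp_left, Scheme.Hom.comp_apply]
    exact ⟨_, rfl⟩
  have hrange : Set.range (O.ι ≫ bc.left) ⊆ Set.range Δ.left := by
    have hmem : ∀ y ∈ O, bc.left y ∈ Set.range Δ.left := by
      intro y hy
      rw [hO] at hy
      exact hy
    rintro _ ⟨w, rfl⟩
    rw [Scheme.Hom.comp_apply]
    exact hmem _ w.2
  have hl := IsOpenImmersion.lift_fac Δ.left (O.ι ≫ bc.left) hrange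
  have hbc1' : bc.left ≫ (hr₂.fst' a₂).left = b.left := by rw [← Over.comp_left, hbc1]
  have hbc2' : bc.left ≫ (hr₂.snd a₂).left = c.left := by rw [← Over.comp_left, hbc2]
  have hequal : restrictOverι U₁ O ≫ b = restrictOverι U₁ O ≫ c := by
    apply Over.OverMorphism.ext
    change O.ι ≫ b.left = O.ι ≫ c.left
    rw [← hbc1', ← hbc2', ← Category.assoc, ← Category.assoc, ← hl, Category.assoc, Category.assoc,
      hΔ1', hΔ2']
  have haE := repWith_etale_restrict a₁ h₁.etale O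
  obtain ⟨a, ha⟩ : ∃ a, a = (yon S).map (restrictOverι U₁ O) ≫ a₁ := ⟨_, rfl⟩
  rw [← ha] at haE
  obtain ⟨v, hv⟩ : ∃ v : ↥(restrictOver U₁ O).left, v = (⟨u₁, hu₁O⟩ : ↥O) := ⟨_, rfl⟩
  have hvu : (restrictOverι U₁ O).left v = u₁ := by rw [hv]; rfl
  refine ⟨restrictOver U₁ O, a, v, restrictOverι U₁ O, ⟨haE, ?_, ?_⟩, ha.symm, hvu, hequal⟩
  · rw [ha, ofPt_yon_map_comp, hvu]
    exact h₁.ofPt_eq
  · rw [toHom_ofPt']
    obtain ⟨δ, hδ⟩ := exists_factor_resPt a₁ u₁ (resPt a v ≫ restrictOverι U₁ O) (by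
      rw [Over.comp_left, Scheme.Hom.comp_apply, resPt_left_apply]; exact hvu)
    have hm1 := h₁.mono
    rw [toHom_ofPt'] at hm1
    have hmono1 : Mono (resPt a v) := mono_resPt a v
    have hmono2 : Mono (restrictOverι U₁ O) := by
      have h0 : Mono (restrictOverι U₁ O).left := by
        change Mono O.ι
        infer_instance
      exact @Over.mono_of_mono_left _ _ _ _ _ _ h0
    have hmono3 : Mono (δ ≫ resPt a₁ u₁) := by rw [hδ]; exact mono_comp _ _
    have hmono4 : Mono δ := mono_of_mono δ (resPt a₁ u₁)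
    have hmono5 : Mono ((yon S).map δ) := inferInstance
    have : (yon S).map (resPt a v) ≫ a =
        (yon S).map δ ≫ (yon S).map (resPt a₁ u₁) ≫ a₁ := by
      rw [← Category.assoc ((yon S).map δ), ← Functor.map_comp, hδ, Functor.map_comp,
        Category.assoc, ← ha]
    rw [this]
    exact mono_comp _ _

end Groth.Agent.Lib.AlgSpElemNbhd91
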