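import Groth.Prelude
import Groth.Agent.Lib.H80DecentPt

set_option autoImplicit false

universe u
open CategoryTheory CategoryTheory.Limits AlgebraicGeometry Opposite
open AlgSp

namespace Groth.Agent.Lib.AlgSpMonoPt
open Groth.Agent.Lib.H80DecentPt

variable {S : Scheme.{u}}

/-- The image of `|Spec K| → |F|` for a field-valued point `p` is the single point defined by `p`. -/
theorem range_map_toHom {F : Sp S} (p : FieldPt F) :
    Set.range (Points.map p.toHom) = {Points.mk p} := by
  ext y
  simp only [Set.mem_range, Set.mem_singleton_iff]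
  constructor
  · rintro ⟨z, rfl⟩
    rw [← Points.ofScheme_toScheme p.pt z, ← Points.ofPt_eq_map_ofScheme, Points.ofPt_toHom]
  · rintro rfl
    exact ⟨Points.ofScheme p.pt (IsLocalRing.closedPoint p.K), by
      rw [← Points.ofPt_eq_map_ofScheme, Points.ofPt_toHom]⟩

end Groth.Agent.Lib.AlgSpMonoPt
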