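import Groth.Prelude
import Groth.Agent.Lib.AlgSpDecentFibre3
import Groth.Agent.Lib.H80DecentPt
import Groth.Agent.Lib.H86AlgSpSub

set_option autoImplicit false

universe u
open CategoryTheory CategoryTheory.Limits AlgebraicGeometry Opposite
open AlgSp

namespace Groth.Agent.Lib.AlgSpOnePt
open Groth.Agent.Lib.AlgSpLocP Groth.Agent.Lib.AlgSpBasic Groth.Agent.Lib.AlgSpAtPt
  Groth.Agent.Lib.AlgSpQC Groth.Agent.Lib.AlgSpPoints Groth.Agent.Lib.AlgSpFtPt

variable {S : Scheme.{u}}

/-- An etale morphism between spectra of fields is finite. -/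
theorem isFinite_of_etale_field {k K : Type u} [Field k] [Field K]
    (g : Spec (CommRingCat.of k) ⟶ Spec (CommRingCat.of K)) [Etale g] : IsFinite g := by
  obtain ⟨φ, rfl⟩ : ∃ φ : CommRingCat.of K ⟶ CommRingCat.of k, Spec.map φ = g :=
    ⟨Spec.preimage g, Spec.map_preimage g⟩
  have hφ : φ.hom.Etale := (HasRingHomProperty.Spec_iff (P := @Etale)).1 inferInstance
  rw [IsFinite.SpecMap_iff]
  algebraize [φ.hom]
  have : Module.Free K k := Module.Free.of_divisionRing K k
  exact Algebra.FormallyUnramified.finite_of_free K k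

/-- A morphism of sheaves which becomes an isomorphism after base change along an etale surjective chart of the
target is an isomorphism. -/
theorem isIso_of_isPullback_chart {F G : Sp S} {f : F ⟶ G} (hf : Representable f) {V W : Over S}
    {c : (yon S).obj V ⟶ G} (hce : RepWith @Etale c) (hcs : RepWith @Surjective c)
    {fst : (yon S).obj W ⟶ F} {snd : W ⟶ V} (sq : IsPullback fst ((yon S).map snd) f c)
    (hs : IsIso snd.left) : IsIso f := by
  have h1 : RepWith (MorphismProperty.isomorphisms Scheme.{u}) ((yon S).map snd) :=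
    (repWith_yon_map_iff _ _).2 hs
  have h2 : RepWith (MorphismProperty.isomorphisms Scheme.{u}) f :=
    repWith_of_fppfCov _ hf (repWith_fppfCov_of_etale_surjective hce hcs) sq h1
  exact Groth.Agent.Lib.H86AlgSpSub.isIso_of_repWith_iso h2

/-- Stacks 047Z-like: a decent algebraic space with an etale surjective chart from the spectrum of a field is the
spectrum of a field. -/
theorem exists_iso_spec_field_of_isDecent {X : Sp S} (hd : IsDecent X) (k : Type u)
    [Field k] (str : Spec (CommRingCat.of k) ⟶ S) (p : (yon S).obj (Over.mk str) ⟶ X)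
    (hp : RepWith @Etale p) (hs : RepWith @Surjective p) :
    ∃ (k' : Type u) (_ : Field k') (str' : Spec (CommRingCat.of k') ⟶ S)
      (e : (yon S).obj (Over.mk str') ≅ X) (c : Over.mk str ⟶ Over.mk str'),
      (yon S).map c ≫ e.hom = p ∧ IsFinite c.left ∧ Etale c.left := by
  obtain ⟨pt, hpt, hmono, hq⟩ := hd (Points.ofPt p (IsLocalRing.closedPoint k))
  have sq := hq.rep.isPullback' p
  have hfe : Etale (hq.rep.fst' p).left := hp.property _ _ _ sq.flip
  have hm1 : Mono ((yon S).map (hq.rep.snd p)) := sq.mono_snd_of_mono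
  have hm2 : Mono (hq.rep.snd p) := (yon S).mono_of_mono_map hm1
  have hm3 : Mono (hq.rep.snd p).left := inferInstance
  obtain ⟨t₀, -, -⟩ := exists_of_isPullback_yon sq
    (Points.ofScheme pt.pt (IsLocalRing.closedPoint pt.K)) (IsLocalRing.closedPoint k)
    (by rw [← Points.ofPt_eq_map_ofScheme, Points.ofPt_toHom, hpt])
  have hne : Nonempty ↥(hq.rep.pullback p).left := ⟨t₀⟩
  have hiso : IsIso (hq.rep.snd p).left :=
    Groth.Agent.Lib.H80DecentPt.isIso_of_mono_of_field (K := k) (hq.rep.snd p).left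
  have hisoT : IsIso pt.toHom := isIso_of_isPullback_chart hq.1 hp hs sq hiso
  have hiso' : IsIso (hq.rep.snd p) := by
    have : IsIso ((Over.forget S).map (hq.rep.snd p)) := hiso
    exact isIso_of_reflects_iso (hq.rep.snd p) (Over.forget S)
  have hinv : IsIso (inv (hq.rep.snd p)).left :=
    inferInstanceAs (IsIso ((Over.forget S).map (inv (hq.rep.snd p))))
  refine ⟨pt.K, inferInstance, pt.str, asIso pt.toHom, inv (hq.rep.snd p) ≫ hq.rep.fst' p, ?_, ?_, ?_⟩
  · rw [asIso_hom, Functor.map_comp, Category.assoc, sq.w, ← Category.assoc, ← Functor.map_comp,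
      IsIso.inv_hom_id]
    erw [(yon S).map_id]
    rw [Category.id_comp]
  · have h1 : Etale (inv (hq.rep.snd p) ≫ hq.rep.fst' p).left := by
      change Etale ((inv (hq.rep.snd p)).left ≫ (hq.rep.fst' p).left)
      infer_instance
    exact isFinite_of_etale_field (k := k) (K := pt.K) _
  · change Etale ((inv (hq.rep.snd p)).left ≫ (hq.rep.fst' p).left)
    infer_instance

/-- A nonempty reduced scheme with at most one point is the spectrum of a field. -/
theorem exists_iso_spec_field_of_subsingleton (Z : Scheme.{u}) [IsReduced Z] [Subsingleton ↥Z]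
    [Nonempty ↥Z] : ∃ (k : Type u) (_ : Field k), Nonempty (Spec (CommRingCat.of k) ≅ Z) := by
  have : IsAffine Z := Groth.Agent.Lib.H80DecentPt.isAffine_of_subsingleton Z
  have e : Z ≅ Spec Γ(Z, ⊤) := Z.isoSpec
  have hsub : Subsingleton (PrimeSpectrum Γ(Z, ⊤)) := by
    have hinj : Function.Injective e.inv := e.inv.isOpenEmbedding.injective
    exact hinj.subsingleton
  have hne : Nonempty (PrimeSpectrum Γ(Z, ⊤)) := ⟨e.hom (Classical.arbitrary ↥Z)⟩
  have hnt : Nontrivial Γ(Z, ⊤) := (PrimeSpectrum.nonempty_iff_nontrivial).1 hne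
  have hf : IsField Γ(Z, ⊤) := PrimeSpectrum.subsingleton_iff_isField_of_isReduced.1 hsub
  let _ := hf.toField
  exact ⟨↥Γ(Z, ⊤), inferInstance, ⟨e.symm⟩⟩

/-- Stacks 0ABU-like: a reduced decent algebraic space with exactly one point is the spectrum of a field. -/
theorem exists_iso_spec_field_of_reduced_singleton {X : Sp S} (hd : IsDecent X)
    (hr : EtaleLocally (fun U => IsReduced U) X) [Nonempty (Points X)] [Subsingleton (Points X)] :
    ∃ (k : Type u) (_ : Field k) (str : Spec (CommRingCat.of k) ⟶ S),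
      Nonempty ((yon S).obj (Over.mk str) ≅ X) := by
  classical
  obtain ⟨U, a, hae, has, hUred⟩ := hr
  have : IsReduced U.left := hUred
  obtain ⟨x⟩ := ‹Nonempty (Points X)›
  obtain ⟨u, hu⟩ := surjective_ofPt_of_repWith_surjective has x
  obtain ⟨pt, hpt, -, hq⟩ := hd x
  obtain ⟨O, hO, huO, hfin⟩ := Groth.Agent.Lib.AlgSpJacobson.exists_open_finite_fibre a hae pt hq u
  have hOfin : O.Finite := hfin.subset (fun v hv => ⟨hv, Subsingleton.elim _ _⟩)
  have hclosed : ∀ v : ↥U.left, IsClosed ({v} : Set ↥U.left) := by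
    intro v
    rw [← closure_subset_iff_isClosed]
    intro y hy
    rw [← specializes_iff_mem_closure] at hy
    exact Groth.Agent.Lib.AlgSpDecentFibre.eq_of_specializes_of_ofPt_eq hd a hae y v
      (Subsingleton.elim _ _) hy
  have hopen : IsOpen ({u} : Set ↥U.left) := by
    have hC : IsClosed (⋃ v ∈ O \ {u}, ({v} : Set ↥U.left)) :=
      (hOfin.subset Set.sdiff_subset).isClosed_biUnion (fun v _ => hclosed v)
    have : ({u} : Set ↥U.left) = O ∩ (⋃ v ∈ O \ {u}, ({v} : Set ↥U.left))ᶜ := by
      ext w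
      simp only [Set.mem_singleton_iff, Set.mem_inter_iff, Set.mem_compl_iff, Set.mem_iUnion,
        Set.mem_sdiff, exists_prop, not_exists, not_and]
      constructor
      · rintro rfl
        exact ⟨huO, fun v hv h => hv.2 h.symm⟩
      · rintro ⟨hwO, h⟩
        by_contra hne
        exact h w ⟨hwO, hne⟩ rfl
    rw [this]
    exact hO.inter hC.isOpen_compl
  let W : U.left.Opens := ⟨{u}, hopen⟩
  have hWsub : Subsingleton ↥W.toScheme := by
    refine ⟨fun y z => W.ι.isOpenEmbedding.injective ?_⟩
    have hy : W.ι y ∈ W := by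
      have : W.ι y ∈ Set.range W.ι := ⟨y, rfl⟩
      rwa [Scheme.Opens.range_ι] at this
    have hz : W.ι z ∈ W := by
      have : W.ι z ∈ Set.range W.ι := ⟨z, rfl⟩
      rwa [Scheme.Opens.range_ι] at this
    have hy' : W.ι y = u := hy
    have hz' : W.ι z = u := hz
    rw [hy', hz']
  have hWne : Nonempty ↥W.toScheme := ⟨⟨u, rfl⟩⟩
  have hWred : IsReduced W.toScheme := isReduced_of_isOpenImmersion W.ι
  obtain ⟨k, hk, ⟨e⟩⟩ := exists_iso_spec_field_of_subsingleton W.toScheme
  -- the chart from `Spec k`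
  let str : Spec (CommRingCat.of k) ⟶ S := e.hom ≫ W.ι ≫ U.hom
  let c : Over.mk str ⟶ opensOver U W := Over.homMk e.hom rfl
  have hce : RepWith @Etale ((yon S).map c) :=
    (repWith_yon_map_iff _ _).2 (inferInstanceAs (Etale e.hom))
  let p : (yon S).obj (Over.mk str) ⟶ X := (yon S).map c ≫ (yon S).map (opensOverι U W) ≫ a
  have hpe : RepWith @Etale p :=
    (RepWith @Etale).comp_mem _ _ hce
      ((RepWith @Etale).comp_mem _ _ (repWith_etale_opensOverι U W) hae)
  have hps : RepWith @Surjective p := by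
    refine repWith_surjective_of_isSurjectiveMor hpe.1 (fun y => ?_)
    exact ⟨Points.ofScheme _ (IsLocalRing.closedPoint k), Subsingleton.elim _ _⟩
  obtain ⟨k', hk', str', e', -, -, -, -⟩ := exists_iso_spec_field_of_isDecent hd k str p hpe hps
  exact ⟨k', hk', str', ⟨e'⟩⟩

end Groth.Agent.Lib.AlgSpOnePt
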