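import Groth.Agent.Lib.AlgSpQFAt
import Groth.Agent.Lib.H80DecentPt
import Groth.Agent.Lib.AlgSpElemNbhd91
import Groth.Agent.Lib.AlgSpOnePt
import Groth.Agent.Lib.AlgSpMonoPt
import Groth.Agent.Lib.H86AlgSpOpen
import Groth.Agent.Lib.H69SchReduced

/-!
# helper46: the fibre of a morphism of algebraic spaces over a point with a quasi-compact mono representative

* `exists_affine_chart_unique`: an affine étale chart with a unique point over a point with a representable
  quasi-compact representative.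
* `isInducing_of_chart`: the map on points of a morphism of sheaves is inducing as soon as it is so on a chart whose image
  contains the image of the morphism.
* `isInducing_of_isPullback_of_mono_of_subsingleton`: the base change of a monomorphism from a reduced one-point scheme is
  a topological embedding.
* `isEmbedding_fibre`: `|X_k| → |X|` is an embedding onto the fibre.
-/

set_option autoImplicit false
universe u
open CategoryTheory CategoryTheory.Limits AlgebraicGeometry Topology TopologicalSpace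
open AlgSp

namespace Groth.Agent.Lib.AlgSpFibreEmb46

open Groth.Agent.Lib.AlgSpDecentSpec Groth.Agent.Lib.AlgSpPoints

variable {S : Scheme.{u}}

/-- An affine étale chart with a unique point over a point which has a representable quasi-compact representative. -/
theorem exists_affine_chart_unique (X : AlgSp.Space S) (r : FieldPt X.obj)
    (hq : RepWith @QuasiCompact r.toHom) :
    ∃ (V : Over S) (b : (yon S).obj V ⟶ X.obj) (v : ↥V.left), RepWith @Etale b ∧ IsAffine V.left ∧
      Points.ofPt b v = Points.mk r ∧ ∀ v' : ↥V.left, Points.ofPt b v' = Points.mk r → v' = v := by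
  obtain ⟨U, a, u, ha, hu⟩ := Groth.Agent.Lib.AlgSpGenericPt.exists_chart X (Points.mk r)
  obtain ⟨V₀, hV₀, huV₀, -⟩ :=
    (Opens.isBasis_iff_nbhd.1 U.left.isBasis_affineOpens) (show u ∈ (⊤ : U.left.Opens) from trivial)
  set a₀ := (yon S).map (restrictOverι U V₀) ≫ a with ha₀_def
  have ha₀ : RepWith @Etale a₀ := repWith_etale_restrict a ha V₀
  have : IsAffine (restrictOver U V₀).left := hV₀
  have : CompactSpace ↥(restrictOver U V₀).left := inferInstance
  have hfin := finite_fibre_of_repWith_quasiCompact r hq a₀ ha₀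
  let u₀ : ↥(restrictOver U V₀).left := (⟨u, huV₀⟩ : ↥V₀)
  have hu₀ : Points.ofPt a₀ u₀ = Points.mk r := by
    rw [ha₀_def, ofPt_yon_map_comp]; exact hu
  set Fs : Set ↥(restrictOver U V₀).left := (Points.ofPt a₀ ⁻¹' {Points.mk r}) \ {u₀} with hFs
  have hFsfin : Fs.Finite := hfin.subset Set.diff_subset
  have hnot : u₀ ∉ closure Fs := by
    rw [← Set.biUnion_of_singleton Fs, hFsfin.closure_biUnion]
    intro hmem
    obtain ⟨z, hz, hzu⟩ := Set.mem_iUnion₂.1 hmem
    have hs : z ⤳ u₀ := specializes_iff_mem_closure.2 hzu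
    have := eq_of_specializes_of_finite_fibre a₀ ha₀ (Points.mk r) hfin u₀ z hu₀ hz.1 hs
    exact hz.2 this.symm
  let O : (restrictOver U V₀).left.Opens := ⟨(closure Fs)ᶜ, isClosed_closure.isOpen_compl⟩
  obtain ⟨V₁, hV₁, huV₁, hV₁O⟩ :=
    (Opens.isBasis_iff_nbhd.1 (restrictOver U V₀).left.isBasis_affineOpens) (show u₀ ∈ O from hnot)
  refine ⟨restrictOver (restrictOver U V₀) V₁, (yon S).map (restrictOverι _ V₁) ≫ a₀,
    (⟨u₀, huV₁⟩ : ↥V₁), repWith_etale_restrict a₀ ha₀ V₁, hV₁, ?_, ?_⟩
  · rw [ofPt_yon_map_comp]; exact hu₀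
  · intro v' hv'
    rw [ofPt_yon_map_comp] at hv'
    have h1 : (restrictOverι (restrictOver U V₀) V₁).left v' = u₀ := by
      by_contra hne
      have hmem : (restrictOverι (restrictOver U V₀) V₁).left v' ∈ Fs := ⟨hv', hne⟩
      have h2 : (restrictOverι (restrictOver U V₀) V₁).left v' ∈ O := hV₁O v'.2
      exact h2 (subset_closure hmem)
    exact Subtype.ext h1

/-- The map on points of a morphism of sheaves is inducing as soon as it is so on an étale chart whose image contains the
image of the morphism. -/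
theorem isInducing_of_chart {Xk X : Sp S} (fst : Xk ⟶ X) {W Wk : Over S} (c : (yon S).obj W ⟶ X)
    (hc : RepWith @Etale c) (t : (yon S).obj Wk ⟶ Xk) (j : Wk ⟶ W)
    (sq : IsPullback t ((yon S).map j) fst c) (hj : IsInducing j.left)
    (hrange : Set.range (Points.map fst) ⊆ Set.range (Points.ofPt c)) :
    IsInducing (Points.map fst) := by
  rw [isInducing_iff, TopologicalSpace.ext_iff]
  intro O
  rw [isOpen_induced_iff]
  constructor
  · intro hO
    have hOW : IsOpen (Points.ofPt t ⁻¹' O) := (Points.continuous_ofPt t).isOpen_preimage _ hO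
    rw [hj.isOpen_iff] at hOW
    obtain ⟨O'', hO'', hpre⟩ := hOW
    refine ⟨Points.ofPt c '' O'', Groth.Agent.Lib.AlgSpQC.isOpenMap_ofPt_of_repWith_etale hc _ hO'', ?_⟩
    ext z
    constructor
    · rintro ⟨w, hw, hwz⟩
      obtain ⟨wk, hwk1, hwk2⟩ := exists_of_isPullback_yon sq z w hwz.symm
      have : wk ∈ j.left ⁻¹' O'' := by rw [Set.mem_preimage, hwk1]; exact hw
      rw [hpre] at this
      rw [← hwk2]; exact this
    · intro hz
      obtain ⟨w, hw⟩ := hrange ⟨z, rfl⟩
      obtain ⟨wk, hwk1, hwk2⟩ := exists_of_isPullback_yon sq z w hw.symm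
      have : wk ∈ Points.ofPt t ⁻¹' O := by rw [Set.mem_preimage, hwk2]; exact hz
      rw [← hpre, Set.mem_preimage, hwk1] at this
      exact ⟨w, this, hw⟩
  · rintro ⟨O', hO', rfl⟩
    exact (Points.continuous_map fst).isOpen_preimage _ hO'

/-- The base change of a monomorphism from a reduced one-point scheme is a topological embedding. -/
theorem isInducing_of_isPullback_of_mono_of_subsingleton {W V Z P : Scheme.{u}} (g : W ⟶ V)
    (jV : Z ⟶ V) [Mono jV] [Subsingleton ↥Z] [Nonempty ↥Z] [IsReduced Z] (gk : P ⟶ Z) (j : P ⟶ W)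
    (sq : IsPullback gk j jV g) : IsInducing j := by
  obtain ⟨L, _, ⟨e⟩⟩ := Groth.Agent.Lib.AlgSpOnePt.exists_iso_spec_field_of_subsingleton Z
  set β : Spec (.of L) ⟶ V := e.hom ≫ jV with hβ
  set v : ↥V := β (IsLocalRing.closedPoint L) with hv
  obtain ⟨β', hβ'⟩ := Groth.Agent.Lib.AlgSpElemNbhd91.exists_factor_fromSpecResidueField β v rfl
  have hmβ : Mono β := mono_comp _ _
  have hmβ' : Mono β' := by
    rw [← hβ'] at hmβ
    exact mono_of_mono β' (V.fromSpecResidueField v)
  have hne : Nonempty ↥(Spec (CommRingCat.of L)) := ⟨IsLocalRing.closedPoint L⟩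
  have hiso : IsIso β' :=
    Groth.Agent.Lib.H80DecentPt.isIso_of_mono_of_field (K := V.residueField v) β'
  let θ : Z ≅ Spec (V.residueField v) := e.symm ≪≫ asIso β'
  have hθ : θ.hom ≫ V.fromSpecResidueField v = jV := by
    change (e.inv ≫ β') ≫ V.fromSpecResidueField v = jV
    rw [Category.assoc, hβ', hβ, Iso.inv_hom_id_assoc]
  have sq' : IsPullback j (gk ≫ θ.hom) g (V.fromSpecResidueField v) :=
    IsPullback.of_iso sq.flip (Iso.refl P) (Iso.refl W) θ (Iso.refl V) (by simp) (by simp)
      (by simp) (by simp [hθ])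
  have hfac : sq'.isoPullback.hom ≫ g.fiberι v = j := sq'.isoPullback_hom_fst
  have h1 : IsInducing (sq'.isoPullback.hom ≫ g.fiberι v) := by
    have h2 : IsInducing (g.fiberι v) := (g.fiberι v).isEmbedding.isInducing
    have h3 : IsInducing sq'.isoPullback.hom := sq'.isoPullback.hom.homeomorph.isInducing
    exact h2.comp h3
  rwa [hfac] at h1

/-- `ofPt p.toHom t = mk p`. -/
theorem ofPt_toHom' {F : Sp S} (p : FieldPt F) (t : ↥p.pt.left) :
    Points.ofPt p.toHom t = Points.mk p := ofPt_fieldPtHom p t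

/-- The core of `isEmbedding_fibre`, with all auxiliary fibre products given. -/
theorem isInducing_core {Xk X Y : Sp S} {f : X ⟶ Y} (r : FieldPt Y) [Mono r.toHom] {fst : Xk ⟶ X}
    {snd : Xk ⟶ (yon S).obj r.pt} (hsq : IsPullback fst snd f r.toHom)
    {V W Wk Vk : Over S} (b : (yon S).obj V ⟶ Y) (hbe : RepWith @Etale b) (v : ↥V.left)
    (hv : Points.ofPt b v = Points.mk r)
    (huniq : ∀ v' : ↥V.left, Points.ofPt b v' = Points.mk r → v' = v)
    (c : (yon S).obj W ⟶ X) (hc : RepWith @Etale c) (g : W ⟶ V)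
    (comm : c ≫ f = (yon S).map g ≫ b)
    (hrangeW : Set.range (Points.map fst) ⊆ Set.range (Points.ofPt c))
    (π : Wk ⟶ r.pt) (j : Wk ⟶ W) (sqk : IsPullback ((yon S).map π) ((yon S).map j) r.toHom (c ≫ f))
    (πV : Vk ⟶ r.pt) (jV : Vk ⟶ V) (sqV : IsPullback ((yon S).map πV) ((yon S).map jV) r.toHom b) :
    IsInducing (Points.map fst) := by
  -- the chart of `Xk`
  have hw : ((yon S).map j ≫ c) ≫ f = (yon S).map π ≫ r.toHom := by
    rw [Category.assoc]; exact sqk.w.symm
  let t : (yon S).obj Wk ⟶ Xk := hsq.lift ((yon S).map j ≫ c) ((yon S).map π) hw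
  have ht1 : t ≫ fst = (yon S).map j ≫ c := hsq.lift_fst _ _ _
  have ht2 : t ≫ snd = (yon S).map π := hsq.lift_snd _ _ _
  have sqt : IsPullback t ((yon S).map j) fst c :=
    IsPullback.of_right (by rw [ht2]; exact sqk) ht1 hsq.flip
  refine isInducing_of_chart fst c hc t j sqt ?_ hrangeW
  -- the morphism `Wk ⟶ Vk`
  have hw2 : (yon S).map π ≫ r.toHom = ((yon S).map j ≫ (yon S).map g) ≫ b := by
    rw [sqk.w, comm, Category.assoc]
  let gk' : (yon S).obj Wk ⟶ (yon S).obj Vk := sqV.lift ((yon S).map π) ((yon S).map j ≫ (yon S).map g) hw2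
  obtain ⟨gk, hgk⟩ : ∃ gk : Wk ⟶ Vk, (yon S).map gk = gk' := ⟨(yon S).preimage gk', (yon S).map_preimage gk'⟩
  have hgk1 : (yon S).map gk ≫ (yon S).map πV = (yon S).map π := by
    rw [hgk]; exact sqV.lift_fst _ _ _
  have hgk2 : (yon S).map gk ≫ (yon S).map jV = (yon S).map j ≫ (yon S).map g := by
    rw [hgk]; exact sqV.lift_snd _ _ _
  have sqWV : IsPullback ((yon S).map gk) ((yon S).map j) ((yon S).map jV) ((yon S).map g) :=
    IsPullback.of_right (by rw [hgk1, ← comm]; exact sqk) hgk2 sqV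
  have sqSch : IsPullback gk.left j.left jV.left g.left :=
    (IsPullback.of_map_of_faithful (yon S) sqWV).map (Over.forget S)
  -- properties of `Vk`
  have hmono : Mono ((yon S).map jV) := sqV.mono_snd_of_mono
  have hmono' : Mono jV := (yon S).mono_of_mono_map hmono
  have hmono'' : Mono jV.left := inferInstance
  have hπVe : Etale πV.left := hbe.2 r.toHom _ _ sqV.flip
  have hred : IsReduced Vk.left := by
    have : IsReduced r.pt.left := (inferInstance : IsReduced (Spec (.of r.K)))
    exact Groth.Agent.Lib.H69SchReduced.isReduced_of_smooth πV.left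
  have hover : ∀ z : ↥Vk.left, jV.left z = v := by
    intro z
    apply huniq
    rw [← ofPt_yon_map_comp, ← sqV.w, ofPt_yon_map_comp, ofPt_toHom']
  have hsub : Subsingleton ↥Vk.left :=
    ⟨fun z z' => jV.left.injective ((hover z).trans (hover z').symm)⟩
  have hne : Nonempty ↥Vk.left := by
    obtain ⟨z, -, -⟩ := exists_point_of_ofPt_eq sqV (IsLocalRing.closedPoint r.K : ↥r.pt.left) v
      ((ofPt_toHom' r _).trans hv.symm)
    exact ⟨z⟩
  exact isInducing_of_isPullback_of_mono_of_subsingleton g.left jV.left gk.left j.left sqSch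

/-- Let `y` be a point of `Y` represented by a monomorphism `Spec k ⟶ Y` which is representable quasi-compact. Then
`|X_k| → |X|` is a homeomorphism onto the fibre of `|f|` over `y`. -/
theorem isEmbedding_fibre {X Y : AlgSp.Space S} (f : X ⟶ Y) (r : FieldPt Y.obj) (hm : Mono r.toHom)
    (hq : RepWith @QuasiCompact r.toHom) (Xk : Sp S) (fst : Xk ⟶ X.obj)
    (snd : Xk ⟶ (yon S).obj r.pt) (hsq : IsPullback fst snd f.hom r.toHom) :
    IsEmbedding (Points.map fst) ∧
      Set.range (Points.map fst) = Points.map f.hom ⁻¹' {Points.mk r} := by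
  have hmfst : Mono fst := hsq.mono_fst_of_mono
  have hrange : Set.range (Points.map fst) = Points.map f.hom ⁻¹' {Points.mk r} := by
    ext x
    constructor
    · rintro ⟨z, rfl⟩
      rw [Set.mem_preimage, ← Points.map_comp, hsq.w, Points.map_comp]
      have : Points.map r.toHom (Points.map snd z) ∈ Set.range (Points.map r.toHom) := ⟨_, rfl⟩
      rw [Groth.Agent.Lib.AlgSpMonoPt.range_map_toHom] at this
      exact this
    · intro hx
      have hx' : Points.map f.hom x = Points.mk r := hx
      obtain ⟨z, hz, -⟩ := exists_point_of_isPullback hsq x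
        (Points.schemeHomeo r.pt (IsLocalRing.closedPoint r.K : ↥r.pt.left)) (by
          rw [hx']
          exact (ofPt_toHom' r _).symm.trans (Points.ofPt_eq_map_ofScheme _ _))
      exact ⟨z, hz⟩
  refine ⟨⟨?_, Groth.Agent.Lib.H86AlgSpOpen.map_injective_of_mono fst⟩, hrange⟩
  -- the chart of `Y` with a unique point over `y`
  obtain ⟨V, b, v, hbe, hVaff, hv, huniq⟩ := exists_affine_chart_unique Y r hq
  obtain ⟨U₀, a₀, ha₀e, ha₀s⟩ := X.2.atlas
  have sqW := hbe.rep.isPullback' (a₀ ≫ f.hom)
  have hse : Etale (hbe.rep.snd (a₀ ≫ f.hom)).left := hbe.property_snd (a₀ ≫ f.hom)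
  have hse' : RepWith @Etale ((yon S).map (hbe.rep.snd (a₀ ≫ f.hom))) :=
    (repWith_yon_map_iff _ _).2 hse
  have hc : RepWith @Etale ((yon S).map (hbe.rep.snd (a₀ ≫ f.hom)) ≫ a₀) :=
    MorphismProperty.comp_mem _ _ _ hse' ha₀e
  have comm : ((yon S).map (hbe.rep.snd (a₀ ≫ f.hom)) ≫ a₀) ≫ f.hom =
      (yon S).map (hbe.rep.fst' (a₀ ≫ f.hom)) ≫ b := by
    rw [Category.assoc]; exact sqW.w.symm
  have hrangeW : Set.range (Points.map fst) ⊆
      Set.range (Points.ofPt ((yon S).map (hbe.rep.snd (a₀ ≫ f.hom)) ≫ a₀)) := by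
    rintro x hx
    rw [hrange] at hx
    have hx' : Points.map f.hom x = Points.mk r := hx
    obtain ⟨u₀, rfl⟩ := Groth.Agent.Lib.AlgSpQC.surjective_ofPt_of_repWith_surjective ha₀s x
    obtain ⟨w, -, hw⟩ := exists_point_of_ofPt_eq sqW v u₀ (by
      rw [hv, ← hx', Points.map_ofPt])
    exact ⟨w, by rw [ofPt_yon_map_comp, hw]⟩
  exact isInducing_core r hsq b hbe v hv huniq _ hc _ comm hrangeW _ _
    (hq.rep.isPullback' (((yon S).map (hbe.rep.snd (a₀ ≫ f.hom)) ≫ a₀) ≫ f.hom)) _ _
    (hq.rep.isPullback' b)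

end Groth.Agent.Lib.AlgSpFibreEmb46
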