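import Groth.Agent.Lib.AlgSpProper2
import Groth.Agent.Lib.AlgSpSepDescend
import Groth.Agent.S10286

/-!
# Valuative criteria for morphisms of algebraic spaces (owner: helper91)

Namespace `Groth.Agent.Lib.AlgSpValuative`.  Append-only please.

* `isClosed_image_of_stableUnderSpecialization` : scheme level, quasi-compact source, affine target.
* `isClosedMap_of_quasiCompact_existVC` : a quasi-compact algebraic space over an affine scheme whose structure
  morphism satisfies the existence part of the valuative criterion has a closed map on points.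
* `isUnivClosedMor_of_quasiCompact_existVC` : quasi-compact + `ExistVC` ⇒ universally closed.
-/

set_option autoImplicit false
universe u
open CategoryTheory CategoryTheory.Limits AlgebraicGeometry Opposite Topology

namespace Groth.Agent.Lib.AlgSpValuative

open AlgSp Groth.Agent.Lib.AlgSpPoints Groth.Agent.Lib.AlgSpQC Groth.Agent.Lib.AlgSpFibre
  Groth.Agent.Lib.AlgSpDescent Groth.Agent.Lib.H69AlgSp Groth.Agent.Lib.H69AlgSpMor
  Groth.Agent.Lib.AlgSpLocP Groth.Agent.Lib.AlgSpBasic Groth.Agent.Lib.AlgSpFpqc
  Groth.Agent.Lib.AlgSpProper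

variable {S : Scheme.{u}}

theorem ofPt_eq_map_schemeHomeo' {F : Sp S} {T : Over S} (g : (yon S).obj T ⟶ F) (z : ↥T.left) :
    Points.ofPt g z = Points.map g (Points.schemeHomeo T z) :=
  Points.ofPt_eq_map_ofScheme g z

/-- For a morphism from a quasi-compact scheme to an affine scheme, the image of a closed set is closed as soon as
it is stable under specialization. -/
theorem isClosed_image_of_stableUnderSpecialization {U T : Scheme.{u}} [CompactSpace U] [IsAffine T]
    (φ : U ⟶ T) (D : Set U) (hD : IsClosed D) (h : StableUnderSpecialization (φ '' D)) :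
    IsClosed (φ '' D) := by
  obtain ⟨R, g, hg⟩ := compactSpace_iff_exists.mp (inferInstance : CompactSpace U)
  obtain ⟨θ, hθ⟩ : ∃ θ : Γ(T, ⊤) ⟶ R, Spec.map θ = g ≫ φ ≫ T.isoSpec.hom :=
    ⟨Spec.preimage _, Spec.map_preimage _⟩
  have e1 : (Spec.map θ) '' (g ⁻¹' D) = T.isoSpec.hom '' (φ '' D) := by
    rw [hθ]
    ext z
    constructor
    · rintro ⟨r, hr, rfl⟩
      exact ⟨φ (g r), ⟨g r, hr, rfl⟩, rfl⟩
    · rintro ⟨_, ⟨d, hd, rfl⟩, rfl⟩
      obtain ⟨r, rfl⟩ := hg d
      exact ⟨r, hd, rfl⟩
  have hst : StableUnderSpecialization ((Spec.map θ) '' (g ⁻¹' D)) := by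
    rw [e1]
    intro a b hab ⟨t, ht, hta⟩
    have hhomeo : IsHomeomorph T.isoSpec.hom := (TopCat.homeoOfIso (Scheme.forgetToTop.mapIso T.isoSpec)).isHomeomorph
    obtain ⟨t', rfl⟩ := hhomeo.surjective b
    subst hta
    exact ⟨t', h (hhomeo.isInducing.specializes_iff.1 hab) ht, rfl⟩
  have hcl : IsClosed ((Spec.map θ) '' (g ⁻¹' D)) :=
    PrimeSpectrum.isClosed_image_of_stableUnderSpecialization θ.hom (g ⁻¹' D) (hD.preimage g.continuous) hst
  rw [e1] at hcl
  have hhomeo : IsHomeomorph T.isoSpec.hom := (TopCat.homeoOfIso (Scheme.forgetToTop.mapIso T.isoSpec)).isHomeomorph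
  have : φ '' D = T.isoSpec.hom ⁻¹' (T.isoSpec.hom '' (φ '' D)) :=
    (Set.preimage_image_eq _ hhomeo.injective).symm
  rw [this]
  exact hcl.preimage hhomeo.continuous


open IsLocalRing in
set_option backward.isDefEq.respectTransparency.types false in
/-- Key step: for `b : P ⟶ h_T` satisfying the existence part of the valuative criterion and an etale surjective chart
`p : h_U ⟶ P`, with `φ : U ⟶ T` the composite, the image under `φ` of the preimage of a closed subset of `|P|` is
stable under specialization. -/
theorem stableUnderSpecialization_image_of_existVC {P : Sp S} {T U : Over S}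
    (b : P ⟶ (yon S).obj T) (he : ExistVC b) (p : (yon S).obj U ⟶ P)
    (hps : Function.Surjective (Points.ofPt p)) (φ : U ⟶ T) (hφ : (yon S).map φ = p ≫ b)
    (C : Set (Points P)) (hC : IsClosed C) :
    StableUnderSpecialization (φ.left '' (Points.ofPt p ⁻¹' C)) := by
  rintro y' y hspec ⟨x', hx', rfl⟩
  let stalk_y_to_residue_x' : T.left.presheaf.stalk y ⟶ U.left.residueField x' :=
    T.left.presheaf.stalkSpecializes hspec ≫ φ.left.stalkMap x' ≫ U.left.residue x'
  obtain ⟨A, hA, hA_local⟩ := exists_factor_valuationRing stalk_y_to_residue_x'.hom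
  let stalk_y_to_A : T.left.presheaf.stalk y ⟶ .of A :=
    CommRingCat.ofHom (stalk_y_to_residue_x'.hom.codRestrict _ hA)
  have w : U.left.fromSpecResidueField x' ≫ φ.left =
      Spec.map (CommRingCat.ofHom (algebraMap A (U.left.residueField x'))) ≫
        Spec.map stalk_y_to_A ≫ T.left.fromSpecStalk y := by
    rw [Scheme.fromSpecResidueField, Category.assoc, ← Scheme.SpecMap_stalkMap_fromSpecStalk,
      ← Scheme.SpecMap_stalkSpecializes_fromSpecStalk hspec]
    simp_rw [← Spec.map_comp_assoc]
    rfl
  -- the valuative square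
  let str : Spec (.of A) ⟶ S := (Spec.map stalk_y_to_A ≫ T.left.fromSpecStalk y) ≫ T.hom
  have hw' : U.left.fromSpecResidueField x' ≫ U.hom =
      Spec.map (CommRingCat.ofHom (algebraMap A (U.left.residueField x'))) ≫ str := by
    rw [← Over.w φ, ← Category.assoc, w]
    simp only [str, Category.assoc]
  let topU : Over.mk (Spec.map (CommRingCat.ofHom (algebraMap A (U.left.residueField x'))) ≫ str) ⟶ U :=
    Over.homMk (U.left.fromSpecResidueField x') hw'
  let botT : Over.mk str ⟶ T := Over.homMk (Spec.map stalk_y_to_A ≫ T.left.fromSpecStalk y) rfl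
  let sq : ValSq b :=
    { A := A, K := U.left.residueField x', str := str,
      top := (yon S).map topU ≫ p,
      bot := (yon S).map botT,
      comm := by
        rw [Category.assoc, ← hφ, ← Functor.map_comp, ← Functor.map_comp]
        congr 1
        ext
        exact w }
  obtain ⟨e, l, hl1, hl2⟩ := he sq
  -- the image of the closed point of `Spec A'`
  let c' : ↥e.ptA'.left := closedPoint e.A'
  let k' : ↥e.ptK'.left := closedPoint e.K'
  have hz1 : Points.ofPt l ((Spec.map (CommRingCat.ofHom (algebraMap e.A' e.K'))) k') ∈ C := by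
    have h1 := congrArg (fun m => Points.ofPt m k') hl1
    simp only [ofPt_yon_map_comp] at h1
    simp only [Over.homMk_left] at h1
    rw [h1]
    change Points.ofPt ((yon S).map topU ≫ p) _ ∈ C
    rw [ofPt_yon_map_comp]
    simp only [topU, Over.homMk_left]
    rw [Scheme.fromSpecResidueField_apply]
    exact hx'
  have hz : Points.ofPt l c' ∈ C := by
    have hsp : (Spec.map (CommRingCat.ofHom (algebraMap e.A' e.K'))) k' ⤳ c' :=
      specializes_closedPoint _
    exact (hsp.map (Points.continuous_ofPt l)).mem_closed hC hz1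
  obtain ⟨u, hu⟩ := hps (Points.ofPt l c')
  refine ⟨u, by rw [Set.mem_preimage, hu]; exact hz, ?_⟩
  apply (Points.schemeHomeo T).injective
  have e1 : Points.schemeHomeo T (φ.left u) = Points.map b (Points.ofPt p u) := by
    rw [Points.map_ofPt, ← hφ]
    have := ofPt_yon_map_comp φ (𝟙 _) u
    rw [Category.comp_id] at this
    exact this.symm
  rw [e1, hu, Points.map_ofPt, hl2]
  change Points.ofPt ((yon S).map _ ≫ (yon S).map botT) c' = _
  rw [ofPt_yon_map_comp]
  simp only [Over.homMk_left]
  have hc : (Spec.map (CommRingCat.ofHom e.φ)) c' = closedPoint A := by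
    have := e.isLocalHom
    exact comap_closedPoint e.φ
  rw [hc]
  have := ofPt_yon_map_comp botT (𝟙 _) (closedPoint A)
  rw [Category.comp_id] at this
  rw [this]
  change Points.schemeHomeo T _ = _
  congr 1
  simp only [botT, Over.homMk_left, Scheme.Hom.comp_base, TopCat.coe_comp, Function.comp_apply]
  have h2 : Spec.map stalk_y_to_A (closedPoint A) = closedPoint (T.left.presheaf.stalk y) :=
    comap_closedPoint (S := A) (stalk_y_to_residue_x'.hom.codRestrict A.toSubring hA)
  rw [h2, T.left.fromSpecStalk_closedPoint]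


/-- A quasi-compact sheaf over an affine scheme whose structure morphism satisfies the existence part of the valuative
criterion has a closed map on points. -/
theorem isClosedMap_of_quasiCompact_existVC {P : Sp S} {T : Over S} [IsAffine T.left]
    (b : P ⟶ (yon S).obj T) (hq : IsQuasiCompactSp P) (he : ExistVC b) :
    IsClosedMap (Points.map b) := by
  obtain ⟨U, p, -, hps, hUc⟩ := hq
  have : CompactSpace ↥U.left := hUc
  obtain ⟨φ, hφ⟩ := (yon S).map_surjective (p ≫ b)
  have hsurj := surjective_ofPt_of_repWith_surjective hps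
  intro C hC
  have key : Points.map b '' C = Points.schemeHomeo T '' (φ.left '' (Points.ofPt p ⁻¹' C)) := by
    have e1 : ∀ u, Points.schemeHomeo T (φ.left u) = Points.map b (Points.ofPt p u) := by
      intro u
      rw [Points.map_ofPt, ← hφ]
      have := ofPt_yon_map_comp φ (𝟙 _) u
      rw [Category.comp_id] at this
      exact this.symm
    ext z
    constructor
    · rintro ⟨c, hc, rfl⟩
      obtain ⟨u, rfl⟩ := hsurj c
      exact ⟨φ.left u, ⟨u, hc, rfl⟩, e1 u⟩
    · rintro ⟨_, ⟨u, hu, rfl⟩, rfl⟩
      exact ⟨Points.ofPt p u, hu, (e1 u).symm⟩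
  rw [key]
  refine (Points.schemeHomeo T).isClosedMap _ ?_
  exact isClosed_image_of_stableUnderSpecialization φ.left _ (hC.preimage (Points.continuous_ofPt p))
    (stableUnderSpecialization_image_of_existVC b he p hsurj φ hφ C hC)

/-- A quasi-compact morphism of algebraic spaces satisfying the existence part of the valuative criterion is
universally closed. -/
theorem isUnivClosedMor_of_quasiCompact_existVC {X Y : Sp S} {f : X ⟶ Y}
    (hq : IsQuasiCompactMor f) (he : ExistVC f) : IsUnivClosedMor f := by
  intro Z Z' hZ g fst snd sq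
  apply isClosedMap_map_of_affine_base_change snd
  intro T hT gT P a b' sqP
  have big : IsPullback (a ≫ fst) b' f (gT ≫ g) := (sqP.flip.paste_vert sq.flip).flip
  have hP : IsQuasiCompactSp P :=
    hq (IsAlgSpace.yon_obj T) ((isQuasiCompactSp_yon_iff T).2 inferInstance) (gT ≫ g) (a ≫ fst) b' big
  have heP : ExistVC b' := Groth.Agent.S10286.exist_baseChange f (gT ≫ g) (a ≫ fst) b' big he
  exact isClosedMap_of_quasiCompact_existVC b' hP heP


/-- A valuative square with a dotted arrow has one after the trivial extension. -/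
theorem ValSq.hasLiftExt_of_hasLift {F G : Sp S} {f : F ⟶ G} (sq : ValSq f) (h : sq.HasLift) :
    sq.HasLiftExt := by
  obtain ⟨l, hl1, hl2⟩ := h
  let e : sq.DomExt :=
    { A' := sq.A, K' := sq.K, φ := RingHom.id _, ψ := RingHom.id _, comm := rfl,
      isLocalHom := ⟨fun _ h => h⟩ }
  refine ⟨e, (yon S).map (Over.homMk (Spec.map (CommRingCat.ofHom e.φ)) rfl : e.ptA' ⟶ sq.ptA) ≫ l, ?_, ?_⟩
  · rw [← hl1, ← Category.assoc, ← Category.assoc, ← Functor.map_comp, ← Functor.map_comp]
    congr 2
    ext
    simp only [Over.comp_left, Over.homMk_left]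
    rw [← Spec.map_comp, ← Spec.map_comp, ← CommRingCat.ofHom_comp, ← CommRingCat.ofHom_comp]
  · rw [Category.assoc, hl2]

/-- The strict existence part of the valuative criterion implies the one with extensions. -/
theorem existVC_of_existVCStrict {F G : Sp S} {f : F ⟶ G} (h : ExistVCStrict f) : ExistVC f :=
  fun sq => ValSq.hasLiftExt_of_hasLift sq (h sq)

/-- If `f` satisfies the uniqueness part of the valuative criterion then its diagonal satisfies the (strict) existence
part. -/
theorem existVCStrict_diagonal_of_uniqVC {X Y : Sp S} {f : X ⟶ Y} (hf : UniqVC f) :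
    ExistVCStrict (pullback.diagonal f) := by
  intro sq
  have hc := sq.comm
  have h1 : (yon S).map sq.j ≫ sq.bot ≫ pullback.fst f f = sq.top := by
    rw [← Category.assoc, ← hc, Category.assoc, pullback.diagonal_fst, Category.comp_id]
  have h2 : (yon S).map sq.j ≫ sq.bot ≫ pullback.snd f f = sq.top := by
    rw [← Category.assoc, ← hc, Category.assoc, pullback.diagonal_snd, Category.comp_id]
  let sqf : ValSq f :=
    { A := sq.A, K := sq.K, str := sq.str, top := sq.top, bot := (sq.bot ≫ pullback.fst f f) ≫ f,
      comm := by rw [← h1]; simp only [Category.assoc] }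
  have heq : sq.bot ≫ pullback.fst f f = sq.bot ≫ pullback.snd f f :=
    hf sqf _ _ h1 rfl h2 (by
      change (sq.bot ≫ pullback.snd f f) ≫ f = (sq.bot ≫ pullback.fst f f) ≫ f
      rw [Category.assoc, Category.assoc, pullback.condition])
  refine ⟨sq.bot ≫ pullback.fst f f, h1, ?_⟩
  apply pullback.hom_ext
  · rw [Category.assoc, pullback.diagonal_fst, Category.comp_id]
  · rw [Category.assoc, pullback.diagonal_snd, Category.comp_id, heq]

/-- A quasi-separated morphism of algebraic spaces satisfying the uniqueness part of the valuative criterion is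
separated. -/
theorem isSeparatedMor_of_quasiSeparated_uniqVC {X Y : Sp S} (hX : IsAlgSpace X) (hY : IsAlgSpace Y)
    {f : X ⟶ Y} (hqs : IsQuasiSeparatedMor f) (hu : UniqVC f) : IsSeparatedMor f :=
  (isSeparatedMor_iff_isUnivClosedMor_diagonal hX hY f).2
    (isUnivClosedMor_of_quasiCompact_existVC (isQuasiCompactMor_of_repWith hqs)
      (existVC_of_existVCStrict (existVCStrict_diagonal_of_uniqVC hu)))


/-! ### Universally closed + quasi-separated ⇒ existence part -/

/-- Cancellation: if `s ≫ b` is representable quasi-compact and `b` is quasi-separated, then `s` is quasi-compact. -/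
theorem isQuasiCompactMor_of_comp_of_isQuasiSeparatedMor {F P B : Sp S} {s : F ⟶ P} {b : P ⟶ B}
    (hb : IsQuasiSeparatedMor b) (hsb : RepWith @QuasiCompact (s ≫ b)) : IsQuasiCompactMor s := by
  have h1 : RepWith @QuasiCompact (pullback.lift (𝟙 F) s (by simp) : F ⟶ pullback (s ≫ b) b) :=
    (RepWith (S := S) @QuasiCompact).of_isPullback (pullback_lift_diagonal_isPullback s b) hb
  have h2 : RepWith @QuasiCompact (pullback.snd (s ≫ b) b) :=
    (RepWith (S := S) @QuasiCompact).of_isPullback (IsPullback.of_hasPullback (s ≫ b) b) hsb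
  have h3 := MorphismProperty.comp_mem _ _ _ h1 h2
  rw [pullback.lift_snd] at h3
  exact isQuasiCompactMor_of_repWith h3

/-- Points of a chart `U` lying over the point defined by `s : h_T ⟶ P` come from the represented fibre product. -/
theorem exists_point_pullback_of_mem_fibre {P : Sp S} {U T : Over S}
    (p : (yon S).obj U ⟶ P) (hp : Representable p) (s : (yon S).obj T ⟶ P) (k₀ : ↥T.left)
    (u : ↥U.left) (hu : Points.ofPt p u = Points.ofPt s k₀) :
    ∃ w : ↥(hp.pullback s).left, ((yon S).preimage (hp.fst s)).left w = u := by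
  have sqW := hp.isPullback s
  have sqW' : IsPullback ((yon S).map ((yon S).preimage (hp.fst s))) ((yon S).map (hp.snd s))
      p s := by
    rw [Functor.map_preimage]; exact sqW
  obtain ⟨x, hx1, -⟩ := exists_point_of_isPullback sqW' (Points.schemeHomeo U u)
    (Points.schemeHomeo T k₀) (by
      rw [← ofPt_eq_map_schemeHomeo', ← ofPt_eq_map_schemeHomeo']; exact hu)
  obtain ⟨w, rfl⟩ := (Points.schemeHomeo _).surjective x
  refine ⟨w, ?_⟩
  apply (Points.schemeHomeo U).injective
  rw [← hx1]
  exact (Points.map_yon_map_apply _ w).symm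

/-- Finiteness of the fibre of an etale chart over a field point with quasi-compact structure map: if
`s : h_{Spec K} ⟶ P` is quasi-compact and `p : h_U ⟶ P` is an etale chart with `U` quasi-compact, then only finitely many
points of `U` map to the point of `P` defined by `s`; moreover each of them is the image of a point of the represented fibre
product. -/
theorem finite_fibre_of_isQuasiCompactMor {P : Sp S} {U T : Over S} [CompactSpace ↥U.left]
    [Subsingleton ↥T.left] [IsAffine T.left]
    (p : (yon S).obj U ⟶ P) (hpe : RepWith @Etale p) (s : (yon S).obj T ⟶ P) (hs : IsQuasiCompactMor s)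
    (k₀ : ↥T.left) :
    (Points.ofPt p ⁻¹' {Points.ofPt s k₀}).Finite ∧
      ∀ u ∈ Points.ofPt p ⁻¹' {Points.ofPt s k₀}, ∃ w : ↥(hpe.rep.pullback s).left,
        ((yon S).preimage (hpe.rep.fst s)).left w = u := by
  have sqW := hpe.rep.isPullback s
  have hWc : CompactSpace ↥(hpe.rep.pullback s).left :=
    (isQuasiCompactSp_yon_iff _).1
      (hs (IsAlgSpace.yon_obj U) ((isQuasiCompactSp_yon_iff U).2 inferInstance) p _ _ sqW.flip)
  have het : Etale (hpe.rep.snd s).left := hpe.property_snd s
  have hlqf : LocallyQuasiFinite (hpe.rep.snd s).left := locallyQuasiFinite_of_etale _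
  have hqc : QuasiCompact (hpe.rep.snd s).left := HasAffineProperty.iff_of_isAffine.mpr hWc
  have hfin : Finite ↥(hpe.rep.pullback s).left := by
    have := (hpe.rep.snd s).left.finite_preimage_singleton k₀
    rw [show (hpe.rep.snd s).left ⁻¹' {k₀} = Set.univ from
      Set.eq_univ_of_forall fun w => Subsingleton.elim _ _] at this
    exact Set.finite_univ_iff.mp this
  have hsub : ∀ u ∈ Points.ofPt p ⁻¹' {Points.ofPt s k₀}, ∃ w : ↥(hpe.rep.pullback s).left,
      ((yon S).preimage (hpe.rep.fst s)).left w = u := by
    intro u hu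
    have sqW' : IsPullback ((yon S).map ((yon S).preimage (hpe.rep.fst s))) ((yon S).map (hpe.rep.snd s))
        p s := by
      rw [Functor.map_preimage]; exact sqW
    obtain ⟨x, hx1, -⟩ := exists_point_of_isPullback sqW' (Points.schemeHomeo U u)
      (Points.schemeHomeo T k₀) (by
        rw [← ofPt_eq_map_schemeHomeo', ← ofPt_eq_map_schemeHomeo']; exact hu)
    obtain ⟨w, rfl⟩ := (Points.schemeHomeo _).surjective x
    refine ⟨w, ?_⟩
    apply (Points.schemeHomeo U).injective
    rw [← hx1]
    exact (Points.map_yon_map_apply _ w).symm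
  refine ⟨?_, hsub⟩
  refine (Set.finite_range ((yon S).preimage (hpe.rep.fst s)).left).subset ?_
  intro u hu
  obtain ⟨w, hw⟩ := hsub u hu
  exact ⟨w, hw⟩


open IsLocalRing in
set_option backward.isDefEq.respectTransparency.types false in
set_option maxHeartbeats 800000 in
/-- A universally closed morphism of algebraic spaces such that, after base change to any valuative square, the etale
charts of the base change have finite fibres over the given generic point, satisfies the existence part of the valuative
criterion. -/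
theorem existVC_of_univClosed_of_finite_fibres {X Y : Sp S} (hX : IsAlgSpace X) (hY : IsAlgSpace Y)
    {f : X ⟶ Y} (hc : IsUnivClosedMor f)
    (Hfin : ∀ (sq : ValSq f) (U : Over S) (_ : CompactSpace ↥U.left)
      (p : (yon S).obj U ⟶ pullback f sq.bot), RepWith @Etale p →
      (Points.ofPt p ⁻¹' {Points.ofPt (pullback.lift sq.top ((yon S).map sq.j) sq.comm :
        (yon S).obj sq.ptK ⟶ pullback f sq.bot) (closedPoint sq.K : ↥sq.ptK.left)}).Finite) :
    ExistVC f := by
  intro sq
  -- base change to `Spec A`
  have sqP := IsPullback.of_hasPullback f sq.bot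
  have hP : IsAlgSpace (pullback f sq.bot) :=
    isAlgSpace_of_isPullback hY.diag hX (IsAlgSpace.yon_obj sq.ptA) sqP
  have hbcl : IsClosedMap (Points.map (pullback.snd f sq.bot)) := hc (IsAlgSpace.yon_obj sq.ptA) _ _ _ sqP
  have hfqc : IsQuasiCompactMor f := isQuasiCompactMor_of_isUnivClosedMor hX hY hc
  have : IsAffine sq.ptA.left := (inferInstance : IsAffine (Spec (.of sq.A)))
  have hPqc : IsQuasiCompactSp (pullback f sq.bot) :=
    hfqc (IsAlgSpace.yon_obj sq.ptA) ((isQuasiCompactSp_yon_iff sq.ptA).2 inferInstance) _ _ _ sqP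
  obtain ⟨U, p, hpe, hps, hUc⟩ := hPqc
  have : CompactSpace ↥U.left := hUc
  -- the section over the generic point
  let s : (yon S).obj sq.ptK ⟶ pullback f sq.bot := pullback.lift sq.top ((yon S).map sq.j) sq.comm
  have hs1 : s ≫ pullback.fst f sq.bot = sq.top := pullback.lift_fst _ _ _
  have hs2 : s ≫ pullback.snd f sq.bot = (yon S).map sq.j := pullback.lift_snd _ _ _
  have : IsAffine sq.ptK.left := (inferInstance : IsAffine (Spec (.of sq.K)))
  have : Subsingleton ↥sq.ptK.left := (inferInstance : Subsingleton (PrimeSpectrum sq.K))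
  let k₀ : ↥sq.ptK.left := closedPoint sq.K
  let xK : Points (pullback f sq.bot) := Points.ofPt s k₀
  -- a point of the closure of `xK` over the closed point
  obtain ⟨x', hx'T, hx'⟩ : ∃ x' ∈ closure {xK}, Points.map (pullback.snd f sq.bot) x' =
      Points.schemeHomeo sq.ptA (closedPoint sq.A) := by
    have hcl := hbcl _ (isClosed_closure (s := {xK}))
    have hgen : Points.schemeHomeo sq.ptA (sq.j.left k₀) ∈
        Points.map (pullback.snd f sq.bot) '' closure {xK} := by
      refine ⟨xK, subset_closure rfl, ?_⟩
      rw [Points.map_ofPt, hs2]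
      have := ofPt_yon_map_comp sq.j (𝟙 _) k₀
      rw [Category.comp_id] at this
      exact this
    have hspec : sq.j.left k₀ ⤳ (closedPoint sq.A : ↥sq.ptA.left) := specializes_closedPoint _
    have hmem : Points.schemeHomeo sq.ptA (closedPoint sq.A) ∈
        Points.map (pullback.snd f sq.bot) '' closure {xK} :=
      (hspec.map (Points.schemeHomeo sq.ptA).continuous).mem_closed hcl hgen
    obtain ⟨x', hx'T, hx'⟩ := hmem
    exact ⟨x', hx'T, hx'⟩
  -- lift to the chart
  have hsurj := surjective_ofPt_of_repWith_surjective hps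
  have hopen := isOpenMap_ofPt_of_repWith_etale hpe
  obtain ⟨u', hu'⟩ := hsurj x'
  have hfin : (Points.ofPt p ⁻¹' {xK}).Finite := Hfin sq U hUc p hpe
  have hsub := fun u hu => exists_point_pullback_of_mem_fibre p hpe.rep s k₀ u hu
  have hu'cl : u' ∈ closure (Points.ofPt p ⁻¹' {xK}) := by
    rw [← hopen.preimage_closure_eq_closure_preimage (Points.continuous_ofPt p)]
    change Points.ofPt p u' ∈ closure {xK}
    rw [hu']; exact hx'T
  rw [← Set.biUnion_of_singleton (Points.ofPt p ⁻¹' {xK}), hfin.closure_biUnion] at hu'cl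
  obtain ⟨u, hu, hu'u⟩ := Set.mem_iUnion₂.mp hu'cl
  have hspec : u ⤳ u' := specializes_iff_mem_closure.mpr hu'u
  obtain ⟨w, hw⟩ := hsub u hu
  subst hw
  -- notation for the represented fibre product
  have sqW := hpe.rep.isPullback s
  let ωU : hpe.rep.pullback s ⟶ U := (yon S).preimage (hpe.rep.fst s)
  let ωK : hpe.rep.pullback s ⟶ sq.ptK := hpe.rep.snd s
  have hωU : (yon S).map ωU = hpe.rep.fst s := Functor.map_preimage _ _
  obtain ⟨β, hβ⟩ := (yon S).map_surjective (p ≫ pullback.snd f sq.bot)
  have hωβ : ωU ≫ β = ωK ≫ sq.j := by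
    apply (yon S).map_injective
    rw [Functor.map_comp, Functor.map_comp, hβ, hωU, ← Category.assoc, sqW.w, Category.assoc, hs2]
  -- the valuation ring
  let θ : U.left.presheaf.stalk u' ⟶ (hpe.rep.pullback s).left.residueField w :=
    U.left.presheaf.stalkSpecializes hspec ≫ ωU.left.stalkMap w ≫ (hpe.rep.pullback s).left.residue w
  obtain ⟨A', hA', hA'_local⟩ := exists_factor_valuationRing θ.hom
  let stalk_to_A' : U.left.presheaf.stalk u' ⟶ .of A' :=
    CommRingCat.ofHom (θ.hom.codRestrict _ hA')
  have w_eq : (hpe.rep.pullback s).left.fromSpecResidueField w ≫ ωU.left =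
      Spec.map (CommRingCat.ofHom (algebraMap A' ((hpe.rep.pullback s).left.residueField w))) ≫
        Spec.map stalk_to_A' ≫ U.left.fromSpecStalk u' := by
    rw [Scheme.fromSpecResidueField, Category.assoc, ← Scheme.SpecMap_stalkMap_fromSpecStalk,
      ← Scheme.SpecMap_stalkSpecializes_fromSpecStalk hspec]
    simp_rw [← Spec.map_comp_assoc]
    rfl
  let m : Spec (.of A') ⟶ U.left := Spec.map stalk_to_A' ≫ U.left.fromSpecStalk u'
  have hm_closed : m (closedPoint A') = u' := by
    simp only [m, Scheme.Hom.comp_base, TopCat.coe_comp, Function.comp_apply]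
    have h2 : Spec.map stalk_to_A' (closedPoint A') = closedPoint (U.left.presheaf.stalk u') :=
      comap_closedPoint (S := A') (θ.hom.codRestrict A'.toSubring hA')
    rw [h2, U.left.fromSpecStalk_closedPoint]
  -- the ring maps
  let φc : CommRingCat.of sq.A ⟶ .of A' := Spec.preimage (m ≫ β.left)
  have hφc : Spec.map φc = m ≫ β.left := Spec.map_preimage _
  let ψc : CommRingCat.of sq.K ⟶ (hpe.rep.pullback s).left.residueField w :=
    Spec.preimage ((hpe.rep.pullback s).left.fromSpecResidueField w ≫ ωK.left)
  have hψc : Spec.map ψc = (hpe.rep.pullback s).left.fromSpecResidueField w ≫ ωK.left :=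
    Spec.map_preimage _
  have hβu' : β.left u' = closedPoint sq.A := by
    apply (Points.schemeHomeo sq.ptA).injective
    rw [← hx', ← hu', Points.map_ofPt, ← hβ]
    have := ofPt_yon_map_comp β (𝟙 _) u'
    rw [Category.comp_id] at this
    exact this.symm
  have hcommS : Spec.map (CommRingCat.ofHom (algebraMap A' ((hpe.rep.pullback s).left.residueField w))) ≫
      Spec.map φc = Spec.map ψc ≫ Spec.map (CommRingCat.ofHom (algebraMap sq.A sq.K)) := by
    rw [hφc, hψc, ← Category.assoc, ← w_eq, Category.assoc, Category.assoc]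
    congr 1
    exact congrArg (fun q => q.left) hωβ
  let e : sq.DomExt :=
    { A' := A', K' := (hpe.rep.pullback s).left.residueField w, φ := φc.hom, ψ := ψc.hom,
      comm := by
        have h1 := hcommS
        rw [← Spec.map_comp, ← Spec.map_comp] at h1
        have h2 := Spec.map_injective h1
        exact congrArg (fun q => q.hom) h2
      isLocalHom := by
        rw [isLocalHom_iff_comap_closedPoint]
        have h1 : (Spec.map φc) (closedPoint A') = closedPoint sq.A := by
          rw [hφc, Scheme.Hom.comp_apply, hm_closed, hβu']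
        exact h1 }
  refine ⟨e, ?_⟩
  have hMw : m ≫ U.hom = Spec.map (CommRingCat.ofHom e.φ) ≫ sq.str := by
    have h1 : Spec.map (CommRingCat.ofHom e.φ) = m ≫ β.left := hφc
    rw [h1, Category.assoc]
    exact congrArg (m ≫ ·) (Over.w β).symm
  let M : e.ptA' ⟶ U := Over.homMk m hMw
  have hMβ : M ≫ β = (Over.homMk (Spec.map (CommRingCat.ofHom e.φ)) rfl : e.ptA' ⟶ sq.ptA) := by
    ext
    exact hφc.symm
  have hRw : (hpe.rep.pullback s).left.fromSpecResidueField w ≫ (hpe.rep.pullback s).hom =
      Spec.map (CommRingCat.ofHom (algebraMap e.A' e.K')) ≫ Spec.map (CommRingCat.ofHom e.φ) ≫ sq.str := by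
    rw [← hMw, ← Category.assoc, ← w_eq, Category.assoc, Over.w ωU]
  let Rw : e.ptK' ⟶ hpe.rep.pullback s := Over.homMk ((hpe.rep.pullback s).left.fromSpecResidueField w) hRw
  refine ⟨(yon S).map M ≫ p ≫ pullback.fst f sq.bot, ?_, ?_⟩
  · have h1 : (Over.homMk (Spec.map (CommRingCat.ofHom (algebraMap e.A' e.K'))) rfl : e.ptK' ⟶ e.ptA') ≫ M =
        Rw ≫ ωU := by
      ext
      exact w_eq.symm
    rw [← Category.assoc, ← Functor.map_comp, h1, Functor.map_comp, Category.assoc, ← Category.assoc (f := (yon S).map ωU),
      hωU, sqW.w, Category.assoc, hs1, ← Category.assoc, ← Functor.map_comp]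
    congr 2
    ext
    exact hψc.symm
  · rw [Category.assoc, Category.assoc, pullback.condition, ← Category.assoc p, ← hβ, ← Category.assoc,
      ← Functor.map_comp, hMβ]


open IsLocalRing in
/-- A quasi-separated universally closed morphism of algebraic spaces satisfies the existence part of the valuative
criterion. -/
theorem existVC_of_quasiSeparated_univClosed {X Y : Sp S} (hX : IsAlgSpace X) (hY : IsAlgSpace Y)
    {f : X ⟶ Y} (hqs : IsQuasiSeparatedMor f) (hc : IsUnivClosedMor f) : ExistVC f := by
  refine existVC_of_univClosed_of_finite_fibres hX hY hc fun sq U hUc p hpe => ?_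
  have sqP := IsPullback.of_hasPullback f sq.bot
  have hbqs : IsQuasiSeparatedMor (pullback.snd f sq.bot) := isQuasiSeparatedMor_of_isPullback sqP hqs
  have : IsAffine sq.ptK.left := (inferInstance : IsAffine (Spec (.of sq.K)))
  have : Subsingleton ↥sq.ptK.left := (inferInstance : Subsingleton (PrimeSpectrum sq.K))
  have hsqc : IsQuasiCompactMor (pullback.lift sq.top ((yon S).map sq.j) sq.comm :
      (yon S).obj sq.ptK ⟶ pullback f sq.bot) := by
    apply isQuasiCompactMor_of_comp_of_isQuasiSeparatedMor hbqs
    rw [pullback.lift_snd]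
    exact (repWith_yon_map_iff _ _).2 (inferInstance : QuasiCompact (Spec.map _))
  have : CompactSpace ↥U.left := hUc
  exact (finite_fibre_of_isQuasiCompactMor p hpe _ hsqc _).1

end Groth.Agent.Lib.AlgSpValuative
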