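import Groth.Prelude.Def_Flat
import Mathlib.Topology.KrullDimension
import Mathlib.Topology.NoetherianSpace
import Mathlib.Topology.Semicontinuity.Basic

set_option autoImplicit false

namespace Groth.Agent.Lib.TopKrullDim

open TopologicalSpace Order Topology Set

variable {X : Type*} [TopologicalSpace X]

/-- A chain all of whose members satisfy `P` can be transported along a strictly monotone map
defined on the subtype. -/
lemma length_le_krullDim_of_subtype {α β : Type*} [Preorder α] [Preorder β] (P : α → Prop)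
    (g : {a // P a} → β) (hg : StrictMono g) (p : LTSeries α) (hp : ∀ i, P (p i)) :
    (p.length : WithBot ℕ∞) ≤ krullDim β := by
  let q : LTSeries β :=
    LTSeries.mk p.length (fun i ↦ g ⟨p i, hp i⟩) (fun i j hij ↦ hg (p.strictMono hij))
  exact q.length_le_krullDim

/-- The preimage under an inducing map of a preirreducible set contained in the range is
preirreducible. -/
lemma isPreirreducible_preimage_of_isInducing {Y : Type*} [TopologicalSpace Y] {f : Y → X}
    (hf : IsInducing f) {Z : Set X} (hZ : IsPreirreducible Z) (hZr : Z ⊆ Set.range f) :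
    IsPreirreducible (f ⁻¹' Z) := by
  intro u v hu hv ⟨a, haZ, hau⟩ ⟨b, hbZ, hbv⟩
  obtain ⟨u', hu', rfl⟩ := hf.isOpen_iff.mp hu
  obtain ⟨v', hv', rfl⟩ := hf.isOpen_iff.mp hv
  obtain ⟨z, hzZ, hzu, hzv⟩ := hZ u' v' hu' hv' ⟨f a, haZ, hau⟩ ⟨f b, hbZ, hbv⟩
  obtain ⟨c, rfl⟩ := hZr hzZ
  exact ⟨c, hzZ, hzu, hzv⟩

/-- An irreducible closed subset of `X` contained in `Y`, as an irreducible closed subset of the
subspace `Y`. -/
def restrictTo (Y : Set X) (Z : {Z : IrreducibleCloseds X // (Z : Set X) ⊆ Y}) :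
    IrreducibleCloseds Y where
  carrier := Subtype.val ⁻¹' (Z.1 : Set X)
  isIrreducible' := by
    refine ⟨?_, isPreirreducible_preimage_of_isInducing IsInducing.subtypeVal
      Z.1.isIrreducible.isPreirreducible (by rw [Subtype.range_coe]; exact Z.2)⟩
    obtain ⟨z, hz⟩ := Z.1.isIrreducible.nonempty
    exact ⟨⟨z, Z.2 hz⟩, hz⟩
  isClosed' := Z.1.isClosed.preimage continuous_subtype_val

lemma restrictTo_strictMono (Y : Set X) : StrictMono (restrictTo Y) := by
  intro Z₁ Z₂ h
  have hle : (Z₁.1 : Set X) ⊆ Z₂.1 := h.le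
  have hne : ¬ (Z₂.1 : Set X) ⊆ Z₁.1 := fun h' ↦ h.not_ge h'
  refine lt_of_le_of_ne (fun y hy ↦ hle hy) ?_
  intro heq
  apply hne
  intro z hz
  have : (⟨z, Z₂.2 hz⟩ : Y) ∈ restrictTo Y Z₂ := hz
  rw [← heq] at this
  exact this

/-- A chain of irreducible closed subsets whose last member is contained in `Y` bounds the dimension
of `Y` from below. -/
lemma length_le_dim_of_last_subset (p : LTSeries (IrreducibleCloseds X)) (Y : Set X)
    (hY : (p.last : Set X) ⊆ Y) : (p.length : WithBot ℕ∞) ≤ topologicalKrullDim Y := by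
  refine length_le_krullDim_of_subtype (fun Z : IrreducibleCloseds X ↦ (Z : Set X) ⊆ Y)
    (restrictTo Y) (restrictTo_strictMono Y) p (fun i ↦ ?_)
  have : p i ≤ p.last := p.monotone (Fin.le_last i)
  exact fun z hz ↦ hY (this hz)

/-- A chain of irreducible closed subsets whose first member meets the open set `U` bounds the
dimension of `U` from below. -/
lemma length_le_dim_of_head_meets_open (p : LTSeries (IrreducibleCloseds X)) (U : Set X)
    (hU : IsOpen U) (x : X) (hx : x ∈ (p.head : Set X)) (hxU : x ∈ U) :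
    (p.length : WithBot ℕ∞) ≤ topologicalKrullDim U := by
  have hemb : IsOpenEmbedding (Subtype.val : U → X) := hU.isOpenEmbedding_subtypeVal
  let e := IrreducibleCloseds.orderIsoOfIsOpenEmbedding (Subtype.val : U → X) hemb
  refine length_le_krullDim_of_subtype
    (fun Z : IrreducibleCloseds X ↦ ((Subtype.val : U → X) ⁻¹' (Z : Set X)).Nonempty)
    (fun Z ↦ e.symm Z) (fun a b hab ↦ e.symm.strictMono hab) p (fun i ↦ ?_)
  have : p.head ≤ p i := p.head_le i
  exact ⟨⟨x, hxU⟩, this hx⟩

/-- An irreducible set contained in a finite union of closed sets is contained in one of them. -/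
lemma exists_subset_of_subset_iUnion_closed {ι : Type*} [Finite ι] (Z : Set X)
    (hZ : IsIrreducible Z) (Y : ι → Set X) (hY : ∀ i, IsClosed (Y i)) (h : Z ⊆ ⋃ i, Y i) :
    ∃ i, Z ⊆ Y i := by
  classical
  cases nonempty_fintype ι
  have := (isIrreducible_iff_sUnion_isClosed.mp hZ) (Finset.univ.image Y)
    (by
      intro z hz
      obtain ⟨i, -, rfl⟩ := Finset.mem_image.mp hz
      exact hY i)
    (by
      intro z hz
      obtain ⟨i, hi⟩ := Set.mem_iUnion.mp (h hz)
      exact Set.mem_sUnion.mpr ⟨Y i, by simp, hi⟩)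
  obtain ⟨z, hz, hZz⟩ := this
  obtain ⟨i, -, rfl⟩ := Finset.mem_image.mp hz
  exact ⟨i, hZz⟩

/-- Dimension of a space covered by finitely many closed subsets. -/
theorem dim_eq_iSup_of_finite_closed_cover {ι : Type*} [Finite ι] (Y : ι → Set X)
    (hY : ∀ i, IsClosed (Y i)) (hcov : ⋃ i, Y i = Set.univ) :
    topologicalKrullDim X = ⨆ i, topologicalKrullDim (Y i) := by
  apply le_antisymm
  · unfold topologicalKrullDim Order.krullDim
    refine iSup_le fun p ↦ ?_
    obtain ⟨i, hi⟩ := exists_subset_of_subset_iUnion_closed (p.last : Set X) p.last.isIrreducible Y hY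
      (by rw [hcov]; exact Set.subset_univ _)
    refine le_trans ?_ (le_iSup (fun i ↦ Order.krullDim (IrreducibleCloseds (Y i))) i)
    exact length_le_dim_of_last_subset p (Y i) hi
  · refine iSup_le fun i ↦ ?_
    exact topologicalKrullDim_subspace_le X (Y i)

/-- Dimension of a space covered by a locally finite family of closed subsets. -/
theorem dim_eq_iSup_of_locallyFinite_closed_cover {ι : Type*} (Y : ι → Set X)
    (hY : ∀ i, IsClosed (Y i)) (hlf : LocallyFinite Y) (hcov : ⋃ i, Y i = Set.univ) :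
    topologicalKrullDim X = ⨆ i, topologicalKrullDim (Y i) := by
  apply le_antisymm
  · unfold topologicalKrullDim Order.krullDim
    refine iSup_le fun p ↦ ?_
    obtain ⟨x, hx⟩ := p.head.isIrreducible.nonempty
    obtain ⟨t, ht, hfin⟩ := hlf x
    obtain ⟨U, hUt, hUo, hxU⟩ := mem_nhds_iff.mp ht
    have hfin' : {i | (Y i ∩ U).Nonempty}.Finite :=
      hfin.subset (fun i ⟨z, hz1, hz2⟩ ↦ ⟨z, hz1, hUt hz2⟩)
    have : Finite {i // (Y i ∩ U).Nonempty} := hfin'
    have hxlast : x ∈ (p.last : Set X) := p.head_le_last hx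
    have h1 : (p.last : Set X) ⊆ closure ((p.last : Set X) ∩ U) :=
      subset_closure_inter_of_isPreirreducible_of_isOpen p.last.isIrreducible.isPreirreducible hUo
        ⟨x, hxlast, hxU⟩
    have h2 : (p.last : Set X) ∩ U ⊆ ⋃ i : {i // (Y i ∩ U).Nonempty}, Y i.1 := by
      intro z ⟨hz1, hz2⟩
      have : z ∈ ⋃ i, Y i := by rw [hcov]; trivial
      obtain ⟨i, hi⟩ := Set.mem_iUnion.mp this
      exact Set.mem_iUnion.mpr ⟨⟨i, ⟨z, hi, hz2⟩⟩, hi⟩
    have h3 : IsClosed (⋃ i : {i // (Y i ∩ U).Nonempty}, Y i.1) :=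
      isClosed_iUnion_of_finite (fun i ↦ hY i.1)
    have h4 : (p.last : Set X) ⊆ ⋃ i : {i // (Y i ∩ U).Nonempty}, Y i.1 :=
      h1.trans (closure_minimal h2 h3)
    obtain ⟨i, hi⟩ := exists_subset_of_subset_iUnion_closed (p.last : Set X) p.last.isIrreducible
      (fun i : {i // (Y i ∩ U).Nonempty} ↦ Y i.1) (fun i ↦ hY i.1) h4
    refine le_trans ?_ (le_iSup (fun i ↦ Order.krullDim (IrreducibleCloseds (Y i))) i.1)
    exact length_le_dim_of_last_subset p (Y i.1) hi
  · refine iSup_le fun i ↦ ?_
    exact topologicalKrullDim_subspace_le X (Y i)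

/-- In a compact Kolmogoroff space of dimension at most zero, every irreducible closed subset is a
singleton. -/
lemma exists_eq_singleton_of_dim_le_zero [T0Space X] [CompactSpace X]
    (h : topologicalKrullDim X ≤ 0) (Z : IrreducibleCloseds X) : ∃ y, (Z : Set X) = {y} := by
  obtain ⟨y, hy, hyc⟩ := Z.isClosed.exists_closed_singleton Z.isIrreducible.nonempty
  let W : IrreducibleCloseds X := ⟨{y}, isIrreducible_singleton, hyc⟩
  have hWZ : W ≤ Z := fun z hz ↦ by
    have : z = y := hz
    rw [this]; exact hy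
  have hmin := (Order.krullDim_nonpos_iff_forall_isMin.mp h) Z
  have hZW : Z ≤ W := hmin hWZ
  exact ⟨y, Set.Subset.antisymm hZW hWZ⟩

/-- A compact Kolmogoroff space of dimension at most zero is T1. -/
lemma t1Space_of_dim_le_zero [T0Space X] [CompactSpace X]
    (h : topologicalKrullDim X ≤ 0) : T1Space X := by
  refine ⟨fun x ↦ ?_⟩
  let Z : IrreducibleCloseds X := ⟨closure {x}, isIrreducible_singleton.closure, isClosed_closure⟩
  obtain ⟨y, hy⟩ := exists_eq_singleton_of_dim_le_zero h Z
  have hx : x ∈ (Z : Set X) := subset_closure rfl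
  rw [hy] at hx
  have hxy : x = y := hx
  have : closure ({x} : Set X) = {x} := by
    have h1 : closure ({x} : Set X) = {y} := hy
    rw [h1, hxy]
  rw [← this]
  exact isClosed_closure

/-- A Noetherian Kolmogoroff space of dimension at most zero is finite. -/
lemma finite_of_dim_le_zero [T0Space X] [NoetherianSpace X]
    (h : topologicalKrullDim X ≤ 0) : Finite X := by
  have hfin : (irreducibleComponents X).Finite := NoetherianSpace.finite_irreducibleComponents
  have hsub : ∀ s ∈ irreducibleComponents X, s.Finite := by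
    intro s hs
    have hirr : IsIrreducible s := hs.1
    have hcl : IsClosed s := isClosed_of_mem_irreducibleComponents s hs
    obtain ⟨y, hy⟩ := exists_eq_singleton_of_dim_le_zero h ⟨s, hirr, hcl⟩
    have : s = {y} := hy
    rw [this]
    exact Set.finite_singleton y
  have : (Set.univ : Set X).Finite := by
    rw [← sUnion_irreducibleComponents]
    exact hfin.sUnion hsub
  exact Set.finite_univ_iff.mp this

/-- A nonempty Noetherian Kolmogoroff space has dimension zero iff it is finite and discrete. -/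
theorem dim_eq_zero_iff_finite_discrete [NoetherianSpace X] [T0Space X] [Nonempty X] :
    topologicalKrullDim X = 0 ↔ Finite X ∧ DiscreteTopology X := by
  constructor
  · intro h
    have hfin := finite_of_dim_le_zero h.le
    have ht1 := t1Space_of_dim_le_zero h.le
    exact ⟨hfin, inferInstance⟩
  · rintro ⟨_, _⟩
    apply le_antisymm (topologicalKrullDim_zero_of_discreteTopology X)
    have : Nonempty (IrreducibleCloseds X) := by
      obtain ⟨x⟩ := ‹Nonempty X›
      exact ⟨⟨closure {x}, isIrreducible_singleton.closure, isClosed_closure⟩⟩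
    exact Order.krullDim_nonneg

lemma dim_nonneg_of_nonempty [Nonempty X] : 0 ≤ topologicalKrullDim X := by
  have : Nonempty (IrreducibleCloseds X) := by
    obtain ⟨x⟩ := ‹Nonempty X›
    exact ⟨⟨closure {x}, isIrreducible_singleton.closure, isClosed_closure⟩⟩
  exact Order.krullDim_nonneg

lemma localDim_nonneg (x : X) : 0 ≤ FlatMor.localDim X x := by
  unfold FlatMor.localDim
  refine le_iInf fun U ↦ ?_
  have : Nonempty (U.1 : Set X) := ⟨⟨x, U.2⟩⟩
  exact dim_nonneg_of_nonempty

lemma localDim_le_dim_open (x : X) (U : Opens X) (hx : x ∈ U) :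
    FlatMor.localDim X x ≤ topologicalKrullDim (U : Set X) := by
  unfold FlatMor.localDim
  exact iInf_le _ (⟨U, hx⟩ : {V : Opens X // x ∈ V})

/-- The local dimension is attained on some open neighbourhood. -/
lemma exists_open_dim_eq_localDim (x : X) :
    ∃ U : Opens X, x ∈ U ∧ topologicalKrullDim (U : Set X) = FlatMor.localDim X x := by
  have : Nonempty {U : Opens X // x ∈ U} := ⟨⟨⊤, trivial⟩⟩
  obtain ⟨U, hU⟩ := ciInf_mem (fun U : {U : Opens X // x ∈ U} ↦ topologicalKrullDim (U.1 : Set X))
  exact ⟨U.1, U.2, hU⟩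

/-- In a Noetherian Kolmogoroff space a point is isolated iff the local dimension there is zero. -/
theorem isOpen_singleton_iff_localDim_eq_zero [NoetherianSpace X] [T0Space X] (x : X) :
    IsOpen ({x} : Set X) ↔ FlatMor.localDim X x = 0 := by
  constructor
  · intro h
    apply le_antisymm _ (localDim_nonneg x)
    refine (localDim_le_dim_open x ⟨{x}, h⟩ rfl).trans ?_
    have : DiscreteTopology (({x} : Set X)) := inferInstance
    exact topologicalKrullDim_zero_of_discreteTopology _
  · intro h
    obtain ⟨U, hxU, hU⟩ := exists_open_dim_eq_localDim x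
    rw [h] at hU
    have : Nonempty (U : Set X) := ⟨⟨x, hxU⟩⟩
    have : NoetherianSpace (U : Set X) := inferInstance
    obtain ⟨_, hdisc⟩ := (dim_eq_zero_iff_finite_discrete (X := (U : Set X))).mp hU
    have hopen : IsOpen ({⟨x, hxU⟩} : Set (U : Set X)) := isOpen_discrete _
    have := U.isOpen.isOpenMap_subtype_val _ hopen
    simpa using this

/-- Two subspaces (given by inducing maps into `X`), the first with image inside the second:
the dimension of the first is at most that of the second. -/
lemma dim_le_of_range_subset {A B : Type*} [TopologicalSpace A] [TopologicalSpace B]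
    (a : A → X) (b : B → X) (ha : IsInducing a) (hb : IsInducing b)
    (h : Set.range a ⊆ Set.range b) : topologicalKrullDim A ≤ topologicalKrullDim B := by
  let g : A → B := fun t ↦ (h ⟨t, rfl⟩).choose
  have hg : ∀ t, b (g t) = a t := fun t ↦ (h ⟨t, rfl⟩).choose_spec
  have hcomp : b ∘ g = a := funext hg
  have hgc : Continuous g := hb.continuous_iff.mpr (by rw [hcomp]; exact ha.continuous)
  have hgi : IsInducing g := IsInducing.of_comp hgc hb.continuous (by rw [hcomp]; exact ha)
  exact hgi.topologicalKrullDim_le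

/-- Local dimension at a point of a finite union of closed subsets all containing the point. -/
theorem localDim_eq_iSup_of_finite_closed_cover (x : X) {ι : Type*} [Finite ι] (Y : ι → Set X)
    (hY : ∀ i, IsClosed (Y i)) (hx : ∀ i, x ∈ Y i) (hcov : ⋃ i, Y i = Set.univ) :
    FlatMor.localDim X x = ⨆ i, FlatMor.localDim (Y i) ⟨x, hx i⟩ := by
  apply le_antisymm
  · -- choose good neighbourhoods in each member
    have hV : ∀ i, ∃ V : Opens (Y i), (⟨x, hx i⟩ : Y i) ∈ V ∧
        topologicalKrullDim (V : Set (Y i)) = FlatMor.localDim (Y i) ⟨x, hx i⟩ :=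
      fun i ↦ exists_open_dim_eq_localDim _
    choose V hxV hVdim using hV
    have hU : ∀ i, ∃ U : Set X, IsOpen U ∧ Subtype.val ⁻¹' U = (V i : Set (Y i)) :=
      fun i ↦ isOpen_induced_iff.mp (V i).isOpen
    choose U hUo hUV using hU
    let W : Opens X := ⟨⋂ i, U i, isOpen_iInter_of_finite hUo⟩
    have hxW : x ∈ W := by
      refine Set.mem_iInter.mpr fun i ↦ ?_
      have : (⟨x, hx i⟩ : Y i) ∈ Subtype.val ⁻¹' U i := by rw [hUV i]; exact hxV i
      exact this
    refine (localDim_le_dim_open x W hxW).trans ?_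
    -- cover of W by closed subsets
    have hcovW : ⋃ i, (Subtype.val ⁻¹' Y i : Set (W : Set X)) = Set.univ := by
      ext ⟨z, hz⟩
      simp only [Set.mem_iUnion, Set.mem_preimage, Set.mem_univ, iff_true]
      have : z ∈ ⋃ i, Y i := by rw [hcov]; trivial
      exact Set.mem_iUnion.mp this
    rw [dim_eq_iSup_of_finite_closed_cover (X := (W : Set X))
      (fun i ↦ (Subtype.val ⁻¹' Y i : Set (W : Set X)))
      (fun i ↦ (hY i).preimage continuous_subtype_val) hcovW]
    refine iSup_le fun i ↦ ?_
    refine le_trans ?_ (le_iSup (fun i ↦ FlatMor.localDim (Y i) ⟨x, hx i⟩) i)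
    rw [← hVdim i]
    refine dim_le_of_range_subset
      (fun t : (Subtype.val ⁻¹' Y i : Set (W : Set X)) ↦ (t.1.1 : X))
      (fun t : ((V i : Set (Y i))) ↦ (t.1.1 : X))
      (IsInducing.subtypeVal.comp IsInducing.subtypeVal)
      (IsInducing.subtypeVal.comp IsInducing.subtypeVal) ?_
    rintro _ ⟨⟨⟨z, hzW⟩, hzY⟩, rfl⟩
    have hzU : z ∈ U i := Set.mem_iInter.mp hzW i
    have hzV : (⟨z, hzY⟩ : Y i) ∈ (V i : Set (Y i)) := by rw [← hUV i]; exact hzU
    exact ⟨⟨⟨z, hzY⟩, hzV⟩, rfl⟩
  · refine iSup_le fun i ↦ ?_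
    unfold FlatMor.localDim
    refine le_iInf fun U ↦ ?_
    let V : Opens (Y i) := ⟨Subtype.val ⁻¹' (U.1 : Set X), U.1.isOpen.preimage continuous_subtype_val⟩
    refine (iInf_le _ (⟨V, U.2⟩ : {V : Opens (Y i) // (⟨x, hx i⟩ : Y i) ∈ V})).trans ?_
    refine dim_le_of_range_subset
      (fun t : ((V : Set (Y i))) ↦ (t.1.1 : X))
      (fun t : ((U.1 : Set X)) ↦ (t.1 : X))
      (IsInducing.subtypeVal.comp IsInducing.subtypeVal) IsInducing.subtypeVal ?_
    rintro _ ⟨⟨⟨z, hzY⟩, hzV⟩, rfl⟩
    exact ⟨⟨z, hzV⟩, rfl⟩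

end Groth.Agent.Lib.TopKrullDim
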