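/-
helper56: keystone FibDim, stage 1 (topology).
Local dimension `FlatMor.localDim` is invariant under open embeddings; local dimension of
topological fibres `fibLocDim φ x` and its invariance under "open-embedding squares".
-/
import Mathlib
import Groth.Prelude.Def_Flat
import Groth.Agent.Lib.TopKrullDim

set_option autoImplicit false
universe u

open TopologicalSpace Topology

namespace Groth.Agent.Lib.H56LocDim

variable {X Y X' Y' : Type*} [TopologicalSpace X] [TopologicalSpace X']

/-- Local dimension is invariant under open embeddings. -/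
theorem localDim_eq_of_isOpenEmbedding {j : X' → X} (hj : IsOpenEmbedding j) (x' : X') :
    FlatMor.localDim X' x' = FlatMor.localDim X (j x') := by
  unfold FlatMor.localDim
  apply le_antisymm
  · refine le_iInf fun U => ?_
    obtain ⟨U, hU⟩ := U
    let W : Opens X' := ⟨j ⁻¹' (U : Set X), U.2.preimage hj.continuous⟩
    have hW : x' ∈ W := hU
    refine (iInf_le _ (⟨W, hW⟩ : {W : Opens X' // x' ∈ W})).trans ?_
    change topologicalKrullDim (j ⁻¹' (U : Set X)) ≤ topologicalKrullDim (U : Set X)
    have : IsInducing (fun z : (j ⁻¹' (U : Set X)) => (⟨j z.1, z.2⟩ : (U : Set X))) := by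
      have h1 : IsInducing (fun z : (j ⁻¹' (U : Set X)) => j z.1) :=
        hj.isInducing.comp IsInducing.subtypeVal
      exact IsInducing.of_comp (Continuous.subtype_mk h1.continuous _) continuous_subtype_val h1
    exact this.topologicalKrullDim_le
  · refine le_iInf fun W => ?_
    obtain ⟨W, hW⟩ := W
    let U : Opens X := ⟨j '' (W : Set X'), hj.isOpenMap _ W.2⟩
    have hU : j x' ∈ U := ⟨x', hW, rfl⟩
    refine (iInf_le _ (⟨U, hU⟩ : {U : Opens X // j x' ∈ U})).trans ?_
    change topologicalKrullDim (j '' (W : Set X')) ≤ topologicalKrullDim (W : Set X')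
    have e : (W : Set X') ≃ₜ (j '' (W : Set X')) := hj.isEmbedding.homeomorphImage _
    exact (e.symm.isInducing).topologicalKrullDim_le

/-- Local dimension is invariant under homeomorphisms. -/
theorem localDim_eq_of_homeomorph (e : X' ≃ₜ X) (x' : X') :
    FlatMor.localDim X' x' = FlatMor.localDim X (e x') :=
  localDim_eq_of_isOpenEmbedding e.isOpenEmbedding x'

/-- Local dimension at `x` of the topological fibre of `φ` through `x`. -/
noncomputable def fibLocDim (φ : X → Y) (x : X) : WithBot ℕ∞ :=
  FlatMor.localDim (φ ⁻¹' {φ x}) ⟨x, rfl⟩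

theorem localDim_fibre_eq (φ : X → Y) (x : X) (y : Y) (h : φ x = y) :
    FlatMor.localDim (φ ⁻¹' {y}) ⟨x, h⟩ = fibLocDim φ x := by
  subst h; rfl

/-- Invariance of the local dimension of fibres in a commutative square whose top map is an open
embedding and whose bottom map is injective. -/
theorem fibLocDim_eq_of_square {j : X' → X} (hj : IsOpenEmbedding j) {i : Y' → Y}
    (hi : Function.Injective i) (φ' : X' → Y') (φ : X → Y) (h : ∀ x', φ (j x') = i (φ' x'))
    (x' : X') : fibLocDim φ' x' = fibLocDim φ (j x') := by
  unfold fibLocDim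
  let J : (φ' ⁻¹' {φ' x'}) → (φ ⁻¹' {φ (j x')}) := fun z =>
    ⟨j z.1, by
      have := z.2
      simp only [Set.mem_preimage, Set.mem_singleton_iff] at this ⊢
      rw [h, h, this]⟩
  have hJ : IsOpenEmbedding J := by
    have hemb : IsEmbedding J := by
      have h1 : IsEmbedding (fun z : (φ' ⁻¹' {φ' x'}) => j z.1) :=
        hj.isEmbedding.comp IsEmbedding.subtypeVal
      exact IsEmbedding.of_comp (Continuous.subtype_mk h1.continuous _) continuous_subtype_val h1
    refine ⟨hemb, ?_⟩
    have hr : Set.range J = Subtype.val ⁻¹' (Set.range j) := by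
      ext w
      constructor
      · rintro ⟨z, rfl⟩
        exact ⟨z.1, rfl⟩
      · rintro ⟨z, hz⟩
        have hw := w.2
        simp only [Set.mem_preimage, Set.mem_singleton_iff] at hw
        refine ⟨⟨z, ?_⟩, Subtype.ext hz⟩
        simp only [Set.mem_preimage, Set.mem_singleton_iff]
        apply hi
        rw [← h, ← h, hz, hw]
    rw [hr]
    exact hj.isOpen_range.preimage continuous_subtype_val
  exact localDim_eq_of_isOpenEmbedding hJ ⟨x', rfl⟩

/-- `fibLocDim` is bounded by the dimension of the fibre. -/
theorem fibLocDim_le_dim (φ : X → Y) (x : X) :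
    fibLocDim φ x ≤ topologicalKrullDim (φ ⁻¹' {φ x}) := by
  unfold fibLocDim
  refine (Groth.Agent.Lib.TopKrullDim.localDim_le_dim_open _ ⊤ trivial).trans ?_
  exact topologicalKrullDim_subspace_le _ _

end Groth.Agent.Lib.H56LocDim
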