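/-
helper56: keystone FibDim, stage 2 (scheme bridge).
`FlatMor.fibreDimAt f x` is the local dimension at `x` of the topological fibre `f ⁻¹' {f x}`;
computation on affine charts.
-/
import Mathlib
import Groth.Prelude.Def_Flat
import Groth.Agent.Lib.H56LocDim

set_option autoImplicit false
universe u

open TopologicalSpace Topology AlgebraicGeometry CategoryTheory

namespace Groth.Agent.Lib.H56LocDim

/-- `fibreDimAt` is the local dimension of the topological fibre. -/
theorem fibreDimAt_eq_fibLocDim {X Y : Scheme.{u}} (f : X ⟶ Y) (x : X) :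
    FlatMor.fibreDimAt f x = fibLocDim (f.base : X → Y) x := by
  unfold FlatMor.fibreDimAt fibLocDim
  rw [localDim_eq_of_homeomorph (f.fiberHomeo (f.base x)) (f.asFiber x)]
  congr 1
  exact (f.fiberHomeo (f.base x)).apply_symm_apply _

/-- Computation of `fibreDimAt` on affine charts. -/
theorem fibreDimAt_fromSpec {X S : Scheme.{u}} (f : X ⟶ S) {U : X.Opens} {V : S.Opens}
    (hU : IsAffineOpen U) (hV : IsAffineOpen V) (e : U ≤ f ⁻¹ᵁ V)
    (q : PrimeSpectrum Γ(X, U)) :
    FlatMor.fibreDimAt f (hU.fromSpec.base q) =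
      fibLocDim (PrimeSpectrum.comap (f.appLE V U e).hom) q := by
  rw [fibreDimAt_eq_fibLocDim]
  symm
  refine fibLocDim_eq_of_square (j := (hU.fromSpec.base : Spec Γ(X, U) → X))
    hU.fromSpec.isOpenEmbedding (i := (hV.fromSpec.base : Spec Γ(S, V) → S))
    hV.fromSpec.isOpenEmbedding.injective
    (PrimeSpectrum.comap (f.appLE V U e).hom) (f.base : X → S) ?_ q
  intro x'
  have h := IsAffineOpen.SpecMap_appLE_fromSpec f hV hU e
  have h2 := congrArg (fun g => g.base x') h
  simp only [Scheme.Hom.comp_base, TopCat.comp_app] at h2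
  exact h2.symm

end Groth.Agent.Lib.H56LocDim
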