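import Groth.Agent.Lib.ResTrdeg91
import Groth.Agent.Lib.AlgSpDecentSpec
import Groth.Agent.Lib.H86AlgSpPoints

set_option autoImplicit false
universe u
open CategoryTheory CategoryTheory.Limits AlgebraicGeometry Opposite

namespace Groth.Agent.Lib.AlgSpTrdeg91

open AlgSp Groth.Agent.Lib.AlgSpPoints Groth.Agent.Lib.AlgSpDecentSpec Groth.Agent.Lib.ResTrdeg91

variable {S : Scheme.{u}}

/-- **The transcendence degree of a morphism of sheaves at a point does not depend on the chart diagram.** -/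
theorem resTrdeg_chart_indep {X Y : Sp S} (f : X ⟶ Y)
    {U V U' V' : Over S} (a : (yon S).obj U ⟶ X) (b : (yon S).obj V ⟶ Y) (h : U ⟶ V)
    (a' : (yon S).obj U' ⟶ X) (b' : (yon S).obj V' ⟶ Y) (h' : U' ⟶ V')
    (ha : RepWith @Etale a) (hb : RepWith @Etale b) (ha' : RepWith @Etale a')
    (hb' : RepWith @Etale b') (hc : a ≫ f = (yon S).map h ≫ b) (hc' : a' ≫ f = (yon S).map h' ≫ b')
    (u : ↥U.left) (u' : ↥U'.left) (hu : Points.ofPt a u = Points.ofPt a' u') :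
    Dual3.resTrdeg h.left u = Dual3.resTrdeg h'.left u' := by
  -- P = U' ×_X U
  have hrP := ((repWith_iff _ _).1 ha').1
  have sqP := hrP.isPullback' a
  obtain ⟨p, hp1, hp2⟩ := exists_point_of_ofPt_eq sqP u' u hu.symm
  have e1 : Etale (hrP.snd a).left := ((repWith_iff _ _).1 ha').2 _ _ _ sqP
  have e2 : Etale (hrP.fst' a).left := ((repWith_iff _ _).1 ha).2 _ _ _ sqP.flip
  -- Q = V' ×_Y V
  have hrQ := ((repWith_iff _ _).1 hb').1
  have sqQ := hrQ.isPullback' b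
  have e3 : Etale (hrQ.snd b).left := ((repWith_iff _ _).1 hb').2 _ _ _ sqQ
  have e4 : Etale (hrQ.fst' b).left := ((repWith_iff _ _).1 hb).2 _ _ _ sqQ.flip
  -- k : P ⟶ Q
  have hk : (yon S).map (hrP.fst' a ≫ h') ≫ b' = (yon S).map (hrP.snd a ≫ h) ≫ b := by
    rw [Functor.map_comp, Functor.map_comp, Category.assoc, Category.assoc, ← hc, ← hc',
      ← Category.assoc, ← Category.assoc, sqP.w]
  let k := hrQ.lift' (hrP.fst' a ≫ h') (hrP.snd a ≫ h) hk
  have k1 : k ≫ hrQ.fst' b = hrP.fst' a ≫ h' := hrQ.lift'_fst _ _ hk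
  have k2 : k ≫ hrQ.snd b = hrP.snd a ≫ h := hrQ.lift'_snd _ _ hk
  have k1' : k.left ≫ (hrQ.fst' b).left = (hrP.fst' a).left ≫ h'.left := by
    rw [← Over.comp_left, k1, Over.comp_left]
  have k2' : k.left ≫ (hrQ.snd b).left = (hrP.snd a).left ≫ h.left := by
    rw [← Over.comp_left, k2, Over.comp_left]
  have r1 : Dual3.resTrdeg h.left u = Dual3.resTrdeg k.left p := by
    rw [← hp2, ← resTrdeg_etale_comp (hrP.snd a).left h.left p, ← resTrdeg_congr k2' p,
      resTrdeg_comp_etale]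
  have r2 : Dual3.resTrdeg h'.left u' = Dual3.resTrdeg k.left p := by
    rw [← hp1, ← resTrdeg_etale_comp (hrP.fst' a).left h'.left p, ← resTrdeg_congr k1' p,
      resTrdeg_comp_etale]
  rw [r1, r2]


/-- Given an étale chart `a` of `X` through `u`, an étale chart `b` of `Y` through `v` with `v` over the image of `u`, there is
a chart `P` étale over `U`, with a point `p` over `u` and `v`, fitting into a chart diagram for `f`. -/
theorem exists_chart_over {X Y : Sp S} (f : X ⟶ Y) {U V : Over S} (a : (yon S).obj U ⟶ X)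
    (ha : RepWith @Etale a) (b : (yon S).obj V ⟶ Y) (hb : RepWith @Etale b) (u : ↥U.left)
    (v : ↥V.left) (huv : Points.ofPt b v = Points.map f (Points.ofPt a u)) :
    ∃ (P : Over S) (s : P ⟶ U) (t : P ⟶ V) (p : ↥P.left), Etale s.left ∧
      RepWith @Etale ((yon S).map s ≫ a) ∧ ((yon S).map s ≫ a) ≫ f = (yon S).map t ≫ b ∧
      s.left p = u ∧ t.left p = v ∧ Points.ofPt ((yon S).map s ≫ a) p = Points.ofPt a u := by
  have hr := ((repWith_iff _ _).1 hb).1
  have sq := hr.isPullback' (a ≫ f)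
  obtain ⟨p, hp1, hp2⟩ := exists_point_of_ofPt_eq sq v u (by rw [huv]; rfl)
  have e1 : Etale (hr.snd (a ≫ f)).left := ((repWith_iff _ _).1 hb).2 _ _ _ sq
  have e1' : RepWith @Etale ((yon S).map (hr.snd (a ≫ f))) := (repWith_yon_map_iff _ _).2 e1
  refine ⟨hr.pullback (a ≫ f), hr.snd (a ≫ f), hr.fst' (a ≫ f), p, e1,
    MorphismProperty.comp_mem _ _ _ e1' ha, ?_, hp2, hp1, ?_⟩
  · rw [Category.assoc]; exact sq.w.symm
  · rw [ofPt_yon_map_comp, hp2]

/-- **Transcendence degrees at a point add up along a composition.** -/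
theorem hasAtMor_resTrdeg_comp {X Y Z : Sp S} (f : X ⟶ Y) (g : Y ⟶ Z) (x : Points X)
    (r₁ r₂ : Cardinal.{u})
    (h1 : HasAtMor (fun _ _ h u => Dual3.resTrdeg h u = r₁) f x)
    (h2 : HasAtMor (fun _ _ h u => Dual3.resTrdeg h u = r₂) g (Points.map f x)) :
    HasAtMor (fun _ _ h u => Dual3.resTrdeg h u = r₁ + r₂) (f ≫ g) x := by
  obtain ⟨U₁, V₁, a₁, b₁, h₁, u₁, ha₁, hb₁, hc₁, hu₁, hr₁⟩ := h1
  obtain ⟨V₂, W₂, b₂, c₂, h₂, v₂, hb₂, hce₂, hc₂, hv₂, hr₂⟩ := h2
  obtain ⟨P, s, t, p, hs, hsa, hcomm, hsp, htp, hpt⟩ :=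
    exists_chart_over f a₁ ha₁ b₂ hb₂ u₁ v₂ (by rw [hv₂, hu₁])
  refine ⟨P, W₂, (yon S).map s ≫ a₁, c₂, t ≫ h₂, p, hsa, hce₂, ?_, by rw [hpt, hu₁], ?_⟩
  · rw [← Category.assoc, hcomm, Category.assoc, hc₂, Functor.map_comp, Category.assoc]
  · have hind := resTrdeg_chart_indep f ((yon S).map s ≫ a₁) b₂ t a₁ b₁ h₁ hsa hb₂ ha₁ hb₁ hcomm hc₁
      p u₁ hpt
    show Dual3.resTrdeg (t ≫ h₂).left p = r₁ + r₂
    rw [Over.comp_left, resTrdeg_comp, htp, hr₂, hind, hr₁, add_comm]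

/-- If `f` is locally quasi-finite, the transcendence degree of `x` over `Z` equals that of its image. -/
theorem hasAtMor_resTrdeg_comp_iff_of_lqf {X Y Z : Sp S} (hX : IsAlgSpace X) (hY : IsAlgSpace Y)
    (f : X ⟶ Y) (g : Y ⟶ Z)
    (hf : LocP (@LocallyQuasiFinite ⊓ @LocallyOfFiniteType) f) (x : Points X) (r : Cardinal.{u}) :
    HasAtMor (fun _ _ h u => Dual3.resTrdeg h u = r) (f ≫ g) x ↔
      HasAtMor (fun _ _ h u => Dual3.resTrdeg h u = r) g (Points.map f x) := by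
  -- the transcendence degree of `f` at `x` is zero on any chart diagram
  have key : ∀ {V W : Over S} (b : (yon S).obj V ⟶ Y) (c : (yon S).obj W ⟶ Z) (h₂ : V ⟶ W)
      (v : ↥V.left), RepWith @Etale b → RepWith @Etale c → b ≫ g = (yon S).map h₂ ≫ c →
      Points.ofPt b v = Points.map f x →
      HasAtMor (fun _ _ h u => Dual3.resTrdeg h u = Dual3.resTrdeg h₂.left v) (f ≫ g) x := by
    intro V W b c h₂ v hb hce hc hv
    obtain ⟨U, a, ha, has⟩ := hX.atlas
    obtain ⟨u, rfl⟩ := Groth.Agent.Lib.H86AlgSpPoints.ofPt_surjective has x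
    obtain ⟨P, s, t, p, hs, hsa, hcomm, hsp, htp, hpt⟩ := exists_chart_over f a ha b hb u v hv
    have hlqf : LocallyQuasiFinite t.left := (hf _ b t hsa hb hcomm).1
    have h0 : HasAtMor (fun _ _ h u => Dual3.resTrdeg h u = 0) f (Points.ofPt a u) :=
      ⟨P, V, _, b, t, p, hsa, hb, hcomm, hpt, resTrdeg_eq_zero_of_locallyQuasiFinite t.left p⟩
    have := hasAtMor_resTrdeg_comp f g _ 0 _ h0 ⟨V, W, b, c, h₂, v, hb, hce, hc, hv, rfl⟩
    rwa [zero_add] at this
  constructor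
  · rintro ⟨U, W, a, c, h, u, ha, hce, hc, hu, hr⟩
    obtain ⟨V, b, hb, hbs⟩ := hY.atlas
    obtain ⟨v, hv⟩ := Groth.Agent.Lib.H86AlgSpPoints.ofPt_surjective hbs (Points.map f x)
    -- chart diagram for `g` through `v` and `h u`
    have hw : Points.ofPt c (h.left u) = Points.map g (Points.ofPt b v) := by
      rw [hv, ← ofPt_yon_map_comp, ← hc, ← hu]; rfl
    obtain ⟨Q, s, t, q, hs, hsb, hcomm, hsq, htq, hpt⟩ := exists_chart_over g b hb c hce v _ hw
    obtain ⟨U', W', a', c', h', u', ha', hce', hc', hu', hr'⟩ :=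
      key ((yon S).map s ≫ b) c t q hsb hce hcomm (by rw [hpt, hv])
    have hind := resTrdeg_chart_indep (f ≫ g) a c h a' c' h' ha hce ha' hce' hc hc' u u'
      (by rw [hu, hu'])
    exact ⟨Q, W, _, c, t, q, hsb, hce, hcomm, by rw [hpt, hv], by rw [← hr, hind, hr']⟩
  · rintro ⟨V, W, b, c, h₂, v, hb, hce, hc, hv, hr⟩
    have := key b c h₂ v hb hce hc hv
    rwa [hr] at this

end Groth.Agent.Lib.AlgSpTrdeg91
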