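import Groth.Agent.Lib.H30FibRes

/-!
# `fibreDimAt f x = dim O_{X_y,x} + trdeg κ(x)/κ(y)` (helper63)

Bridge between helper30's dimension theory of schemes locally of finite type over a field
(`Lib/H30DimField`, `Lib/H30FibRes`) and `FlatMor.fibreDimAt`.
-/

set_option autoImplicit false
universe u

open CategoryTheory AlgebraicGeometry

namespace Groth.Agent.Lib.FibreDimAtFormula

variable {X Y : Scheme.{u}}

/-- The local dimension of the fibre through `x` is `dim O_{X_y,x} + trdeg κ(x)/κ(y)`. -/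
theorem fibreDimAt_eq_add (f : X ⟶ Y) [LocallyOfFiniteType f] (x : X) (n : ℕ)
    (hn : letI := (f.residueFieldMap x).hom.toAlgebra
      Algebra.trdeg (Y.residueField (f x)) (X.residueField x) = n) :
    FlatMor.fibreDimAt f x =
      ringKrullDim ((f.fiber (f x)).presheaf.stalk (f.asFiber x)) + (n : WithBot ℕ∞) := by
  letI := Groth.Agent.Lib.H30FibRes.fiberOver f (f x)
  haveI := Groth.Agent.Lib.H30FibRes.lft_fiber f (f x)
  unfold FlatMor.fibreDimAt
  rw [Groth.Agent.Lib.H30DimField.localDim_eq (Y.residueField (f x)) (f.fiber (f x)) (f.asFiber x)]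
  have h1 := Groth.Agent.Lib.H30FibRes.trdeg_asFiber_eq f x
  have h2 : Groth.Agent.Lib.H30DimField.td (Y.residueField (f x)) (f.fiber (f x)) (f.asFiber x)
      = (n : ℤ) :=
    (Groth.Agent.Lib.H30DimField.trdeg_eq_iff _ _ _ n).mp (h1.trans hn)
  rw [h2]
  simp

end Groth.Agent.Lib.FibreDimAtFormula
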