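import Groth.Agent.S7408
import Groth.Agent.Lib.AlgSpTrdeg91
import Groth.Agent.Lib.FibreDimAtFormula

/-!
# helper86: chart independence of the relative dimension at a point of a morphism of sheaves

* `fibreDimAt_chart_indep`: for two chart diagrams of `f : X ⟶ Y` through the same point of `|X|`,
  the local fibre dimensions agree (from S7408, étale locality of `fibreDimAt` on source and target).
* `resTrdeg_lt_aleph0`: for `f` locally of finite type, `trdeg κ(x)/κ(f x)` is finite.
* `hasAtMor_fibreDimAt_iff_forall_chart`.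
-/

set_option autoImplicit false
set_option linter.style.haveILetI false
universe u
open CategoryTheory CategoryTheory.Limits AlgebraicGeometry Opposite

namespace Groth.Agent.Lib.H86FibDimChart

open AlgSp Groth.Agent.Lib.AlgSpPoints Groth.Agent.Lib.AlgSpDecentSpec

variable {S : Scheme.{u}}

/-- **The relative dimension of a morphism of sheaves at a point does not depend on the chart
diagram.** -/
theorem fibreDimAt_chart_indep {X Y : Sp S} (f : X ⟶ Y)
    {U V U' V' : Over S} (a : (yon S).obj U ⟶ X) (b : (yon S).obj V ⟶ Y) (h : U ⟶ V)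
    (a' : (yon S).obj U' ⟶ X) (b' : (yon S).obj V' ⟶ Y) (h' : U' ⟶ V')
    (ha : RepWith @Etale a) (hb : RepWith @Etale b) (ha' : RepWith @Etale a')
    (hb' : RepWith @Etale b') (hc : a ≫ f = (yon S).map h ≫ b) (hc' : a' ≫ f = (yon S).map h' ≫ b')
    (u : ↥U.left) (u' : ↥U'.left) (hu : Points.ofPt a u = Points.ofPt a' u') :
    FlatMor.fibreDimAt h.left u = FlatMor.fibreDimAt h'.left u' := by
  -- P = U' ×_X U
  have hrP := ((repWith_iff _ _).1 ha').1
  have sqP := hrP.isPullback' a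
  obtain ⟨p, hp1, hp2⟩ := exists_point_of_ofPt_eq sqP u' u hu.symm
  haveI e1 : Etale (hrP.snd a).left := ((repWith_iff _ _).1 ha').2 _ _ _ sqP
  haveI e2 : Etale (hrP.fst' a).left := ((repWith_iff _ _).1 ha).2 _ _ _ sqP.flip
  -- Q = V' ×_Y V
  have hrQ := ((repWith_iff _ _).1 hb').1
  have sqQ := hrQ.isPullback' b
  haveI e3 : Etale (hrQ.snd b).left := ((repWith_iff _ _).1 hb').2 _ _ _ sqQ
  haveI e4 : Etale (hrQ.fst' b).left := ((repWith_iff _ _).1 hb).2 _ _ _ sqQ.flip
  -- k : P ⟶ Q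
  have hk : (yon S).map (hrP.fst' a ≫ h') ≫ b' = (yon S).map (hrP.snd a ≫ h) ≫ b := by
    rw [Functor.map_comp, Functor.map_comp, Category.assoc, Category.assoc, ← hc, ← hc',
      ← Category.assoc, ← Category.assoc, sqP.w]
  let k := hrQ.lift' (hrP.fst' a ≫ h') (hrP.snd a ≫ h) hk
  have k1 : k ≫ hrQ.fst' b = hrP.fst' a ≫ h' := hrQ.lift'_fst _ _ hk
  have k2 : k ≫ hrQ.snd b = hrP.snd a ≫ h := hrQ.lift'_snd _ _ hk
  have k1' : k.left ≫ (hrQ.fst' b).left = (hrP.fst' a).left ≫ h'.left := by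
    rw [← Over.comp_left, k1, Over.comp_left]
  have k2' : k.left ≫ (hrQ.snd b).left = (hrP.snd a).left ≫ h.left := by
    rw [← Over.comp_left, k2, Over.comp_left]
  have r1 : FlatMor.fibreDimAt h.left u = FlatMor.fibreDimAt k.left p := by
    rw [← hp2]
    exact Groth.Agent.S7408.result h.left k.left (hrP.snd a).left (hrQ.snd b).left k2' p
  have r2 : FlatMor.fibreDimAt h'.left u' = FlatMor.fibreDimAt k.left p := by
    rw [← hp1]
    exact Groth.Agent.S7408.result h'.left k.left (hrP.fst' a).left (hrQ.fst' b).left k1' p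
  rw [r1, r2]

/-- For `f` locally of finite type, the transcendence degree of `κ(x)` over `κ(f x)` is finite. -/
theorem resTrdeg_lt_aleph0 {X Y : Scheme.{u}} (f : X ⟶ Y) [LocallyOfFiniteType f] (x : X) :
    Dual3.resTrdeg f x < Cardinal.aleph0 := by
  letI := Groth.Agent.Lib.H30FibRes.fiberOver f (f x)
  haveI := Groth.Agent.Lib.H30FibRes.lft_fiber f (f x)
  have h1 := Groth.Agent.Lib.H30FibRes.trdeg_asFiber_eq f x
  have h2 := Groth.Agent.Lib.H30DimField.trdeg_lt_aleph0 (Y.residueField (f x)) (f.fiber (f x))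
    (f.asFiber x)
  unfold Dual3.resTrdeg
  rw [← h1]
  exact h2

/-- Scheme-level formula with `Dual3.resTrdeg`. -/
theorem fibreDimAt_eq_add_resTrdeg {X Y : Scheme.{u}} (f : X ⟶ Y) [LocallyOfFiniteType f] (x : X) :
    FlatMor.fibreDimAt f x =
      ringKrullDim ((f.fiber (f x)).presheaf.stalk (f.asFiber x)) +
        ((Cardinal.toENat (Dual3.resTrdeg f x) : ℕ∞) : WithBot ℕ∞) := by
  obtain ⟨n, hn⟩ := Cardinal.lt_aleph0.1 (resTrdeg_lt_aleph0 f x)
  rw [hn, Groth.Agent.Lib.FibreDimAtFormula.fibreDimAt_eq_add f x n hn]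
  simp

/-- `HasAtMor` for the predicate "relative dimension `= d`" can be tested on any chart diagram. -/
theorem hasAtMor_fibreDimAt_eq_iff {X Y : Sp S} (f : X ⟶ Y) (x : Points X) (d : WithBot ℕ∞)
    {U V : Over S} (a : (yon S).obj U ⟶ X) (b : (yon S).obj V ⟶ Y) (h : U ⟶ V)
    (ha : RepWith @Etale a) (hb : RepWith @Etale b) (hc : a ≫ f = (yon S).map h ≫ b)
    (u : ↥U.left) (hu : Points.ofPt a u = x) :
    HasAtMor (fun _ _ h u => FlatMor.fibreDimAt h u = d) f x ↔ FlatMor.fibreDimAt h.left u = d := by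
  constructor
  · rintro ⟨U', V', a', b', h', u', ha', hb', hc', hu', hd⟩
    rw [fibreDimAt_chart_indep f a b h a' b' h' ha hb ha' hb' hc hc' u u' (hu.trans hu'.symm)]
    exact hd
  · intro hd
    exact ⟨U, V, a, b, h, u, ha, hb, hc, hu, hd⟩

end Groth.Agent.Lib.H86FibDimChart
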