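import Groth.Agent.Lib.AlgSpQFBC91
import Groth.Agent.Lib.H86FibDimChart
import Groth.Agent.Lib.H56LocDimSch
import Groth.Agent.S5792

/-!
# helper86: relative dimension at a point and base change of algebraic spaces

* `fibreDimAt_eq_of_baseChange_charts`: in a cartesian square of algebraic spaces, the local fibre
  dimension of any chart diagram of `f''` at `x''` equals that of any chart diagram of `f` at the image.
* `fibreDimAt_eq_localDim_of_subsingleton`: over a one-point base the local fibre dimension is the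
  local dimension.
-/

set_option autoImplicit false
set_option linter.style.haveILetI false
universe u
open CategoryTheory CategoryTheory.Limits AlgebraicGeometry Opposite

namespace Groth.Agent.Lib.H86FibDimBC

open AlgSp Groth.Agent.Lib.AlgSpPoints Groth.Agent.Lib.H86FibDimChart

variable {S : Scheme.{u}}

/-- **Base change invariance of the relative dimension at a point, on arbitrary chart diagrams.** -/
theorem fibreDimAt_eq_of_baseChange_charts {X Y X'' Y'' : Sp S} (hX : IsAlgSpace X)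
    (hY : IsAlgSpace Y) (hX'' : IsAlgSpace X'') (hY'' : IsAlgSpace Y'')
    {f : X ⟶ Y} {g : Y'' ⟶ Y} {b : X'' ⟶ X} {f'' : X'' ⟶ Y''} (sq : IsPullback b f'' f g)
    (hf : LocP @LocallyOfFiniteType f)
    {U V : Over S} (a : (yon S).obj U ⟶ X) (c : (yon S).obj V ⟶ Y) (h : U ⟶ V)
    (ha : RepWith @Etale a) (hc : RepWith @Etale c) (hcomm : a ≫ f = (yon S).map h ≫ c) (u : ↥U.left)
    {U'' V'' : Over S} (a'' : (yon S).obj U'' ⟶ X'') (c'' : (yon S).obj V'' ⟶ Y'') (h'' : U'' ⟶ V'')
    (ha'' : RepWith @Etale a'') (hc'' : RepWith @Etale c'')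
    (hcomm'' : a'' ≫ f'' = (yon S).map h'' ≫ c'') (u'' : ↥U''.left)
    (hpt : Points.ofPt a u = Points.map b (Points.ofPt a'' u'')) :
    FlatMor.fibreDimAt h.left u = FlatMor.fibreDimAt h''.left u'' := by
  obtain ⟨U₀, V₀, U₀'', V₀'', a₀, c₀, a₀'', c₀'', h₀, h₀'', gU, gV, u₀'', ha₀, hc₀, ha₀'', hc₀'', hcf,
    hcf'', hab, -, sqA, hu₀⟩ :=
    Groth.Agent.Lib.AlgSpQFBC91.exists_baseChange_chart hX hY hX'' hY'' sq (Points.ofPt a'' u'')
  haveI : LocallyOfFiniteType h₀.left := hf a₀ c₀ h₀ ha₀ hc₀ hcf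
  have e0 : FlatMor.fibreDimAt h₀''.left u₀'' = FlatMor.fibreDimAt h₀.left (gU.left u₀'') :=
    Groth.Agent.Lib.H30FibBC.fibreDimAt_eq_of_isPullback h₀.left gV.left gU.left h₀''.left sqA u₀''
  have hpt₀ : Points.map b (Points.ofPt a₀'' u₀'') = Points.ofPt a₀ (gU.left u₀'') := by
    rw [Points.map_ofPt, hab, ofPt_yon_map_comp]
  have e1 : FlatMor.fibreDimAt h.left u = FlatMor.fibreDimAt h₀.left (gU.left u₀'') :=
    fibreDimAt_chart_indep f a c h a₀ c₀ h₀ ha hc ha₀ hc₀ hcomm hcf u _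
      (by rw [hpt, ← hu₀, hpt₀])
  have e2 : FlatMor.fibreDimAt h''.left u'' = FlatMor.fibreDimAt h₀''.left u₀'' :=
    fibreDimAt_chart_indep f'' a'' c'' h'' a₀'' c₀'' h₀'' ha'' hc'' ha₀'' hc₀'' hcomm'' hcf'' u'' u₀''
      hu₀.symm
  rw [e1, e2, e0]

/-- Over a one-point base the local fibre dimension is the local dimension of the source. -/
theorem fibreDimAt_eq_localDim_of_subsingleton {W T : Scheme.{u}} (t : W ⟶ T) [Subsingleton ↥T]
    (w : ↥W) : FlatMor.fibreDimAt t w = FlatMor.localDim ↥W w := by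
  rw [Groth.Agent.Lib.H56LocDim.fibreDimAt_eq_fibLocDim]
  unfold Groth.Agent.Lib.H56LocDim.fibLocDim
  have hopen : IsOpen ((t.base : ↥W → ↥T) ⁻¹' {t.base w}) := by
    have : (t.base : ↥W → ↥T) ⁻¹' {t.base w} = Set.univ :=
      Set.eq_univ_of_forall fun w' => Subsingleton.elim _ _
    rw [this]; exact isOpen_univ
  exact Groth.Agent.Lib.H56LocDim.localDim_eq_of_isOpenEmbedding hopen.isOpenEmbedding_subtypeVal
    ⟨w, rfl⟩

end Groth.Agent.Lib.H86FibDimBC
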