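import Groth.Agent.Lib.AlgSpQFAt91
import Groth.Agent.Lib.AlgSpDim91
import Groth.Agent.Lib.H86FibDimBC
import Groth.Agent.Lib.AlgSpFibreEmb46
import Groth.Agent.Lib.TopKrullDim
import Groth.Agent.Lib.AlgSpFibre
import Groth.Agent.S5792
import Groth.Agent.Lib.AlgSpLocP
import Groth.Agent.Lib.AlgSpQC
import Groth.Agent.Lib.H86AlgSpPoints
import Groth.Agent.Lib.AlgSpValuative

/-!
# Locally quasi-finite morphisms of algebraic spaces and discrete fibres
-/

set_option autoImplicit false
set_option linter.style.haveILetI false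
universe u
open CategoryTheory CategoryTheory.Limits AlgebraicGeometry Opposite Topology Order

namespace Groth.Agent.Lib.AlgSpDiscFib91

open AlgSp Groth.Agent.Lib.AlgSpPoints Groth.Agent.Lib.AlgSpBasic Groth.Agent.Lib.AlgSpDecentSpec

section Scheme

/-- Every point of a scheme has a generization which is maximal for the specialization order. -/
theorem exists_isMax_specializes (W : Scheme.{u}) (w : ↥W) : ∃ η : ↥W, η ⤳ w ∧ IsMax η := by
  have hirr : IsIrreducible (irreducibleComponent w) := isIrreducible_irreducibleComponent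
  have hgen := hirr.isGenericPoint_genericPoint isClosed_irreducibleComponent
  refine ⟨hirr.genericPoint, hgen.specializes mem_irreducibleComponent, ?_⟩
  intro y hy
  -- `hy : η ≤ y`, i.e. `y ⤳ η`
  have hy' : y ⤳ hirr.genericPoint := hy
  change hirr.genericPoint ⤳ y
  rw [hgen.specializes_iff_mem]
  have hsub : irreducibleComponent w ⊆ closure {y} := by
    rw [← hgen.def]
    exact closure_minimal (Set.singleton_subset_iff.2 hy'.mem_closure) isClosed_closure
  have := eq_irreducibleComponent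
    ((isIrreducible_singleton (x := y)).closure).isPreirreducible hsub
  rw [← this]
  exact subset_closure rfl

/-- A scheme all of whose points have the same codimension has dimension at most zero. -/
theorem dim_le_zero_of_coheight_const (W : Scheme.{u})
    (h : ∀ w₁ w₂ : ↥W, coheight w₁ = coheight w₂) : topologicalKrullDim ↥W ≤ 0 := by
  rw [Groth.Agent.Lib.SpecDim.topologicalKrullDim_eq_krullDim, krullDim_nonpos_iff_forall_isMax]
  intro x
  obtain ⟨η, -, hη⟩ := exists_isMax_specializes W x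
  have h0 : coheight η = 0 := coheight_eq_zero.2 hη
  exact coheight_eq_zero.1 ((h x η).trans h0)

end Scheme

variable {S : Scheme.{u}}

/-- A scheme etale over a sheaf all of whose points have the same image has dimension at most zero. -/
theorem dim_le_zero_of_ofPt_const {P : Sp S} {W : Over S} (q : (yon S).obj W ⟶ P)
    (hq : RepWith @Etale q) (h : ∀ w₁ w₂ : ↥W.left, Points.ofPt q w₁ = Points.ofPt q w₂) :
    topologicalKrullDim ↥W.left ≤ 0 := by
  refine dim_le_zero_of_coheight_const W.left fun w₁ w₂ => ?_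
  have sq := hq.rep.isPullback' q
  have e1 : Etale (hq.rep.snd q).left := hq.property_snd q
  have e2 : Etale (hq.rep.fst' q).left := hq.property _ _ _ sq.flip
  obtain ⟨z, hz1, hz2⟩ := exists_point_of_ofPt_eq sq w₁ w₂ (h w₁ w₂)
  rw [← hz1, ← hz2, Groth.Agent.Lib.AlgSpDim91.coheight_eq_of_etale,
    Groth.Agent.Lib.AlgSpDim91.coheight_eq_of_etale]

/-- Every point of `h_{Spec K}` maps to the class of the field point. -/
theorem map_toHom_eq {F : Sp S} (p : FieldPt F) (z : Points ((yon S).obj p.pt)) :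
    Points.map p.toHom z = Points.mk p := by
  obtain ⟨t, rfl⟩ := (Points.schemeHomeo p.pt).surjective z
  rw [← Groth.Agent.Lib.AlgSpValuative.ofPt_eq_map_schemeHomeo']
  exact Groth.Agent.Lib.AlgSpFibreEmb46.ofPt_toHom' p t

open Groth.Agent.Lib.AlgSpLocP in
/-- **A morphism locally of finite type is locally quasi-finite iff its fibres over field points are discrete.** -/
theorem locP_lqf_iff_discrete {X Y : Sp S} (hX : IsAlgSpace X) (hY : IsAlgSpace Y) (f : X ⟶ Y)
    (hf : LocP @LocallyOfFiniteType f) :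
    LocP (@LocallyQuasiFinite ⊓ @LocallyOfFiniteType) f ↔
      ∀ (k : Type u) [Field k] (str : Spec (CommRingCat.of k) ⟶ S) (y : (yon S).obj (Over.mk str) ⟶ Y)
        (P : Sp S) (fst : P ⟶ X) (snd : P ⟶ (yon S).obj (Over.mk str)),
        IsPullback fst snd f y → DiscreteTopology (Points P) := by
  constructor
  · intro hq k _ str y P fst snd sq
    have hK : IsAlgSpace ((yon S).obj (Over.mk str)) := IsAlgSpace.yon_obj _
    have hP : IsAlgSpace P := Groth.Agent.Lib.AlgSpFibre.isAlgSpace_of_isPullback hY.diag hX hK sq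
    have hsnd : LocP (@LocallyQuasiFinite ⊓ @LocallyOfFiniteType) snd :=
      locP_of_isPullback etLocalClass_lqf_lft hX hY hK sq hq
    obtain ⟨W, q, hqe, hqs⟩ := hP.atlas
    obtain ⟨t, ht⟩ := (yon S).map_surjective (q ≫ snd)
    have hidE : RepWith @Etale (𝟙 ((yon S).obj (Over.mk str))) :=
      Groth.Agent.Lib.AlgSpQC.repWith_id @Etale _
    haveI hlqf : LocallyQuasiFinite t.left :=
      (hsnd q (𝟙 _) t hqe hidE (by rw [ht, Category.comp_id])).1
    haveI : Subsingleton ↥(Over.mk str).left := (inferInstance : Subsingleton (PrimeSpectrum k))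
    have hWd : DiscreteTopology ↥W.left := by
      rcases isEmpty_or_nonempty ↥W.left with he | ⟨⟨w₁⟩⟩
      · infer_instance
      · rw [← isDiscrete_univ_iff]
        have h1 := t.left.isDiscrete_preimage_singleton (t.left w₁)
        have h2 : (t.left ⁻¹' {t.left w₁}) = Set.univ :=
          Set.eq_univ_of_forall fun z => Subsingleton.elim _ _
        rwa [h2] at h1
    rw [discreteTopology_iff_isOpen_singleton]
    intro p
    obtain ⟨w, rfl⟩ := Groth.Agent.Lib.H86AlgSpPoints.ofPt_surjective hqs p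
    have := Groth.Agent.Lib.H86AlgSpPoints.isOpenMap_ofPt hqe {w} (isOpen_discrete _)
    rwa [Set.image_singleton] at this
  · intro H
    rw [Groth.Agent.Lib.AlgSpQFAt91.locP_lqf_iff_fibreDimAt hX hY f hf]
    intro x
    obtain ⟨p₀, hp₀⟩ := Points.mk_surjective (Points.map f x)
    have sq := IsPullback.of_hasPullback f p₀.toHom
    have hdisc := H p₀.K p₀.str p₀.toHom _ _ _ sq
    have hK : IsAlgSpace ((yon S).obj p₀.pt) := IsAlgSpace.yon_obj _
    have hP : IsAlgSpace (pullback f p₀.toHom) :=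
      Groth.Agent.Lib.AlgSpFibre.isAlgSpace_of_isPullback hY.diag hX hK sq
    haveI : Subsingleton ↥p₀.pt.left := (inferInstance : Subsingleton (PrimeSpectrum p₀.K))
    obtain ⟨pP, hpP, -⟩ := Groth.Agent.Lib.H86AlgSpPoints.exists_of_isPullback sq x
      (Points.ofPt (𝟙 _) (IsLocalRing.closedPoint p₀.K)) (by rw [map_toHom_eq, hp₀])
    obtain ⟨W, q, hqe, hqs⟩ := hP.atlas
    obtain ⟨w, hw⟩ := Groth.Agent.Lib.H86AlgSpPoints.ofPt_surjective hqs pP
    -- the open neighbourhood of `w` mapping to the point `pP`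
    obtain ⟨O, hO⟩ : ∃ O : W.left.Opens, (O : Set ↥W.left) = Points.ofPt q ⁻¹' {pP} :=
      ⟨⟨_, (Points.continuous_ofPt q).isOpen_preimage _ (isOpen_discrete _)⟩, rfl⟩
    have hwO : w ∈ O := by
      change w ∈ (O : Set ↥W.left)
      rw [hO]; exact hw
    obtain ⟨ι₀, hι₀⟩ : ∃ ι₀ : Over.mk (O.ι ≫ W.hom) ⟶ W, ι₀.left = O.ι := ⟨Over.homMk O.ι rfl, rfl⟩
    have hιe : RepWith @Etale ((yon S).map ι₀) := by
      refine (repWith_yon_map_iff _ _).2 ?_
      rw [hι₀]; infer_instance
    have hq₀e : RepWith @Etale ((yon S).map ι₀ ≫ q) := MorphismProperty.comp_mem _ _ _ hιe hqe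
    have hval : ∀ z : ↥(Over.mk (O.ι ≫ W.hom)).left, Points.ofPt ((yon S).map ι₀ ≫ q) z = pP := by
      intro z
      rw [ofPt_yon_map_comp, hι₀]
      have hz : O.ι z ∈ (O : Set ↥W.left) := by
        have : O.ι z ∈ Set.range O.ι := ⟨z, rfl⟩
        rwa [Scheme.Opens.range_ι] at this
      rw [hO] at hz
      exact hz
    have hdim : topologicalKrullDim ↥(Over.mk (O.ι ≫ W.hom)).left ≤ 0 :=
      dim_le_zero_of_ofPt_const _ hq₀e fun w₁ w₂ => (hval w₁).trans (hval w₂).symm
    obtain ⟨w₀, hw₀⟩ : ∃ w₀ : ↥(Over.mk (O.ι ≫ W.hom)).left, O.ι w₀ = w := by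
      have : w ∈ Set.range O.ι := by rw [Scheme.Opens.range_ι]; exact hwO
      exact this
    obtain ⟨U, V, a, c, h', u, ha, hc, hcomm, hu⟩ :=
      Groth.Agent.Lib.AlgSpQFAt91.exists_chart_diagram hX hY f x
    refine ⟨U, V, a, c, h', u, ha, hc, hcomm, hu, ?_⟩
    change FlatMor.fibreDimAt h'.left u = 0
    obtain ⟨t, ht⟩ := (yon S).map_surjective (((yon S).map ι₀ ≫ q) ≫ pullback.snd f p₀.toHom)
    have hidE : RepWith @Etale (𝟙 ((yon S).obj p₀.pt)) := Groth.Agent.Lib.AlgSpQC.repWith_id @Etale _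
    rw [Groth.Agent.Lib.H86FibDimBC.fibreDimAt_eq_of_baseChange_charts hX hY hP hK sq hf a c h' ha hc hcomm u
      ((yon S).map ι₀ ≫ q) (𝟙 _) t hq₀e hidE (by rw [ht, Category.comp_id]) w₀
      (by rw [hu, hval, hpP]),
      Groth.Agent.Lib.H86FibDimBC.fibreDimAt_eq_localDim_of_subsingleton t.left w₀]
    refine le_antisymm ?_ (Groth.Agent.Lib.TopKrullDim.localDim_nonneg _)
    refine le_trans ?_ hdim
    rw [Groth.Agent.S5792.result ↥(Over.mk (O.ι ≫ W.hom)).left]
    exact le_iSup (fun z => FlatMor.localDim ↥(Over.mk (O.ι ≫ W.hom)).left z) w₀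

end Groth.Agent.Lib.AlgSpDiscFib91
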