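import Groth.Agent.Lib.H69AlgSpDiag
import Groth.Prelude.Def_AlgSp3

/-!
# Relative diagonals of morphisms of algebraic spaces (helper69)
-/

set_option autoImplicit false
universe u

open CategoryTheory CategoryTheory.Limits AlgebraicGeometry Opposite AlgSp

namespace Groth.Agent.Lib.H69AlgSpMor

open Groth.Agent.Lib.H69AlgSp Groth.Agent.Lib.H69AlgSpDiag

variable {S : Scheme.{u}}

attribute [local simp] prod.lift_fst prod.lift_snd prod.lift_fst_assoc prod.lift_snd_assoc
  pullback.lift_fst pullback.lift_snd pullback.lift_fst_assoc pullback.lift_snd_assoc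

/-- `RepWith` of a conjunction. -/
theorem repWith_inf {P Q : MorphismProperty Scheme.{u}} {F G : Sp S} {f : F ⟶ G} (hP : RepWith P f)
    (hQ : RepWith Q f) : RepWith (P ⊓ Q) f :=
  ⟨hP.rep, fun _ _ g fst snd sq => ⟨hP.property g fst snd sq, hQ.property g fst snd sq⟩⟩

/-- In a category with pullbacks and binary products, `X ×_Y X ⟶ X × X` is a monomorphism. -/
instance mono_prod_lift_pullback {D : Type*} [Category D] {X Y : D} (f g : X ⟶ Y) [HasPullback f g]
    [HasBinaryProduct X X] :
    Mono (prod.lift (pullback.fst f g) (pullback.snd f g)) := by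
  refine ⟨fun a b h => ?_⟩
  apply pullback.hom_ext
  · have := h =≫ (prod.fst : X ⨯ X ⟶ X)
    simpa using this
  · have := h =≫ (prod.snd : X ⨯ X ⟶ X)
    simpa using this

/-- If the (absolute) diagonal of `X` is representable with `P`, so is the relative diagonal of any
`f : X ⟶ Y`. -/
theorem repWith_pullback_diagonal_of_diag {P : MorphismProperty Scheme.{u}} {X Y : Sp S} (f : X ⟶ Y)
    (h : RepWith P (Limits.diag X)) : RepWith P (pullback.diagonal f) := by
  refine repWith_of_comp_mono (Limits.diag X) (prod.lift (pullback.fst f f) (pullback.snd f f)) h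
    (pullback.diagonal f) ?_
  apply Limits.prod.hom_ext <;> simp

/-- The relative diagonal of a morphism of algebraic spaces is representable, locally of finite type, a
monomorphism, separated and locally quasi-finite. -/
theorem diagonal_hom_properties {X Y : Space S} (f : X ⟶ Y) :
    Representable (pullback.diagonal f.hom) ∧
    RepWith @LocallyOfFiniteType (pullback.diagonal f.hom) ∧
    RepWith (MorphismProperty.monomorphisms Scheme.{u}) (pullback.diagonal f.hom) ∧
    RepWith @IsSeparated (pullback.diagonal f.hom) ∧
    RepWith (@LocallyQuasiFinite ⊓ @LocallyOfFiniteType) (pullback.diagonal f.hom) := by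
  obtain ⟨h1, h2, h3, h4⟩ := repWith_diag_properties X
  have k1 := repWith_pullback_diagonal_of_diag f.hom h1
  have k2 := repWith_pullback_diagonal_of_diag f.hom h2
  have k3 := repWith_pullback_diagonal_of_diag f.hom h3
  have k4 := repWith_pullback_diagonal_of_diag f.hom h4
  exact ⟨k1.rep, k1, k2, k3, repWith_inf k4 k1⟩

/-- The canonical map `X ×_Z Y ⟶ X ×_T Y` is a base change of the diagonal of `h : Z ⟶ T`, hence inherits its
properties. -/
theorem repWith_mapDesc_of_diagonal {P : MorphismProperty Scheme.{u}} {X Y Z T : Sp S} (f : X ⟶ Z)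
    (g : Y ⟶ Z) (h : Z ⟶ T) (hd : RepWith P (pullback.diagonal h)) :
    RepWith P (pullback.mapDesc f g h) :=
  (RepWith (S := S) P).of_isPullback (pullback_map_diagonal_isPullback f g h) hd

theorem pullback_mapDesc_properties {X Y Z T : Space S} (f : X ⟶ Z) (g : Y ⟶ Z) (h : Z ⟶ T) :
    Representable (pullback.mapDesc f.hom g.hom h.hom) ∧
    RepWith @LocallyOfFiniteType (pullback.mapDesc f.hom g.hom h.hom) ∧
    RepWith (@LocallyQuasiFinite ⊓ @LocallyOfFiniteType) (pullback.mapDesc f.hom g.hom h.hom) ∧
    RepWith @IsSeparated (pullback.mapDesc f.hom g.hom h.hom) ∧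
    RepWith (MorphismProperty.monomorphisms Scheme.{u}) (pullback.mapDesc f.hom g.hom h.hom) ∧
    (IsSeparatedMor h.hom → RepWith @IsClosedImmersion (pullback.mapDesc f.hom g.hom h.hom)) ∧
    (IsQuasiSeparatedMor h.hom → RepWith @QuasiCompact (pullback.mapDesc f.hom g.hom h.hom)) := by
  obtain ⟨-, h1, h2, h3, h4⟩ := diagonal_hom_properties h
  have k1 := repWith_mapDesc_of_diagonal f.hom g.hom h.hom h1
  exact ⟨k1.rep, k1, repWith_mapDesc_of_diagonal _ _ _ h4, repWith_mapDesc_of_diagonal _ _ _ h3,
    repWith_mapDesc_of_diagonal _ _ _ h2, fun hs => repWith_mapDesc_of_diagonal _ _ _ hs,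
    fun hs => repWith_mapDesc_of_diagonal _ _ _ hs⟩

/-- A section `s` of `f` is a base change of the diagonal of `f`. -/
theorem isPullback_section {D : Type*} [Category D] {X T : D} (f : X ⟶ T) (s : T ⟶ X) (hs : s ≫ f = 𝟙 T)
    [HasPullback f f] :
    IsPullback s s (pullback.diagonal f)
      (pullback.lift (f ≫ s) (𝟙 X) (by rw [Category.assoc, hs, Category.comp_id, Category.id_comp])) := by
  refine isPullback_of_lift ?_ ?_ ?_
  · apply pullback.hom_ext
    · simp [reassoc_of% hs]
    · simp
  · intro W a b hab
    have h1 : a = b ≫ f ≫ s := by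
      have := hab =≫ pullback.fst f f
      simpa using this
    have h2 : a = b := by
      have := hab =≫ pullback.snd f f
      simpa using this
    exact ⟨b ≫ f, by rw [Category.assoc, ← h1], by rw [Category.assoc, ← h1, h2]⟩
  · intro W l l' h1 _
    have := h1 =≫ f
    simpa [hs] using this

theorem repWith_section_of_diagonal {P : MorphismProperty Scheme.{u}} {X T : Sp S} (f : X ⟶ T) (s : T ⟶ X)
    (hs : s ≫ f = 𝟙 T) (hd : RepWith P (pullback.diagonal f)) : RepWith P s :=
  (RepWith (S := S) P).of_isPullback (isPullback_section f s hs) hd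

theorem section_properties {X T : Space S} (f : X ⟶ T) (s : T ⟶ X) (hs : s ≫ f = 𝟙 T) :
    Representable s.hom ∧
    RepWith @LocallyOfFiniteType s.hom ∧
    RepWith (@LocallyQuasiFinite ⊓ @LocallyOfFiniteType) s.hom ∧
    RepWith @IsSeparated s.hom ∧
    RepWith (MorphismProperty.monomorphisms Scheme.{u}) s.hom ∧
    (IsSeparatedMor f.hom → RepWith @IsClosedImmersion s.hom) ∧
    (IsQuasiSeparatedMor f.hom → RepWith @QuasiCompact s.hom) := by
  have hs' : s.hom ≫ f.hom = 𝟙 T.obj := congrArg (fun m => m.hom) hs
  obtain ⟨-, h1, h2, h3, h4⟩ := diagonal_hom_properties f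
  have k1 := repWith_section_of_diagonal f.hom s.hom hs' h1
  exact ⟨k1.rep, k1, repWith_section_of_diagonal _ _ hs' h4, repWith_section_of_diagonal _ _ hs' h3,
    repWith_section_of_diagonal _ _ hs' h2, fun h => repWith_section_of_diagonal _ _ hs' h,
    fun h => repWith_section_of_diagonal _ _ hs' h⟩

section BaseChangeDiagonal

variable {D : Type*} [Category D] {P X V Y : D} {fst : P ⟶ X} {snd : P ⟶ V} {f : X ⟶ Y} {p : V ⟶ Y}

/-- The map `P ×_V P ⟶ X ×_Y X` induced by a cartesian square. -/
noncomputable abbrev diagBase (sq : IsPullback fst snd f p) [HasPullback snd snd] [HasPullback f f] :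
    pullback snd snd ⟶ pullback f f :=
  pullback.map snd snd f f fst fst p sq.w.symm sq.w.symm

/-- The diagonal of the base change `snd` of `f` is the base change of the diagonal of `f`. -/
theorem isPullback_diagonal_of_isPullback (sq : IsPullback fst snd f p) [HasPullback snd snd]
    [HasPullback f f] :
    IsPullback fst (pullback.diagonal snd) (pullback.diagonal f) (diagBase sq) := by
  refine isPullback_of_lift ?_ ?_ ?_
  · apply pullback.hom_ext <;> simp
  · intro W x y hxy
    have h1 : x = y ≫ pullback.fst snd snd ≫ fst := by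
      have := hxy =≫ pullback.fst f f
      simpa using this
    have h2 : x = y ≫ pullback.snd snd snd ≫ fst := by
      have := hxy =≫ pullback.snd f f
      simpa using this
    have h12 : y ≫ pullback.fst snd snd = y ≫ pullback.snd snd snd := by
      apply sq.hom_ext
      · rw [Category.assoc, Category.assoc, ← h1, ← h2]
      · rw [Category.assoc, Category.assoc, pullback.condition]
    refine ⟨y ≫ pullback.fst snd snd, by rw [Category.assoc, ← h1], ?_⟩
    apply pullback.hom_ext
    · simp
    · simp [h12]
  · intro W l l' _ h2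
    have := h2 =≫ pullback.fst snd snd
    simpa using this

/-- `P ×_V P ⟶ X ×_Y X` is a base change of `p : V ⟶ Y`. -/
theorem isPullback_diagBase (sq : IsPullback fst snd f p) [HasPullback snd snd] [HasPullback f f] :
    IsPullback (diagBase sq) (pullback.fst snd snd ≫ snd) (pullback.fst f f ≫ f) p := by
  refine isPullback_of_lift ?_ ?_ ?_
  · simp [sq.w]
  · intro W x v hxv
    have hx2 : (x ≫ pullback.snd f f) ≫ f = v ≫ p := by
      rw [Category.assoc, ← pullback.condition, ← hxv]
    have hx1 : (x ≫ pullback.fst f f) ≫ f = v ≫ p := by rw [Category.assoc, hxv]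
    refine ⟨pullback.lift (sq.lift _ _ hx1) (sq.lift _ _ hx2) (by simp), ?_, ?_⟩
    · apply pullback.hom_ext <;> simp
    · simp
  · intro W y y' h1 h2
    have a1 : y ≫ pullback.fst snd snd = y' ≫ pullback.fst snd snd := by
      apply sq.hom_ext
      · have := h1 =≫ pullback.fst f f
        simpa using this
      · simpa using h2
    have a2 : y ≫ pullback.snd snd snd = y' ≫ pullback.snd snd snd := by
      apply sq.hom_ext
      · have := h1 =≫ pullback.snd f f
        simpa using this
      · rw [Category.assoc, Category.assoc, ← pullback.condition]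
        simpa using h2
    exact pullback.hom_ext a1 a2

end BaseChangeDiagonal

/-- Base change of a surjective map of fppf sheaves is surjective (restated from `Lib/SheafEpi`, here proved
through `h_T`-points). -/
theorem isLocallySurjective_of_isPullback {X' Y' X Y : Sp S} {f' : X' ⟶ Y'} {i₁ : X' ⟶ X} {i₂ : Y' ⟶ Y}
    {f : X ⟶ Y} (H : IsPullback f' i₁ i₂ f) [Sheaf.IsLocallySurjective f] :
    Sheaf.IsLocallySurjective f' := by
  constructor
  intro U s
  obtain ⟨z, rfl⟩ := (yEquiv (U := U) (F := Y')).surjective s
  refine GrothendieckTopology.superset_covering _ ?_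
    (Presheaf.imageSieve_mem (J S) f.hom (yEquiv (z ≫ i₂)))
  rintro T g ⟨a, ha⟩
  have ha' : yEquiv.symm a ≫ f = ((yon S).map g ≫ z) ≫ i₂ := by
    apply yEquiv.injective
    rw [yEquiv_comp, Equiv.apply_symm_apply, Category.assoc, yEquiv_map_comp]
    exact ha
  refine ⟨yEquiv (H.lift ((yon S).map g ≫ z) (yEquiv.symm a) ha'.symm), ?_⟩
  rw [← yEquiv_comp, H.lift_fst, yEquiv_map_comp]

/-- A property `Q` of diagonals that is stable under base change and fppf local on the base descends along a
surjective base change: if `snd` is the base change of `f` along a surjective `p` and the diagonal of `snd` has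
`Q`, so has the diagonal of `f` (once the latter is representable). -/
theorem repWith_diagonal_of_isPullback_surjective {Q : MorphismProperty Scheme.{u}}
    [Q.IsStableUnderBaseChange] [Q.IsLocalAtTarget Scheme.fppfPrecoverage] {P X V Y : Sp S} {fst : P ⟶ X}
    {snd : P ⟶ V} {f : X ⟶ Y} {p : V ⟶ Y} (sq : IsPullback fst snd f p) [Sheaf.IsLocallySurjective p]
    (hrep : Representable (pullback.diagonal f)) (h : RepWith Q (pullback.diagonal snd)) :
    RepWith Q (pullback.diagonal f) := by
  have := isLocallySurjective_of_isPullback (isPullback_diagBase sq)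
  exact repWith_of_isLocallySurjective_base _ hrep (diagBase sq) _ _
    (isPullback_diagonal_of_isPullback sq) Q h

/-- A property of the diagonal (stable under base change, Zariski local on the target) holds iff it holds after
base change to every affine scheme over the target. -/
theorem repWith_diagonal_iff_affine_base_change (Q : MorphismProperty Scheme.{u}) [Q.IsStableUnderBaseChange]
    [IsZariskiLocalAtTarget Q] {X Y : Sp S} (f : X ⟶ Y) (hrep : Representable (pullback.diagonal f)) :
    RepWith Q (pullback.diagonal f) ↔
      ∀ (Z : Over S), IsAffine Z.left → ∀ (g : (yon S).obj Z ⟶ Y) (P : Sp S) (fst : P ⟶ X)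
        (snd : P ⟶ (yon S).obj Z), IsPullback fst snd f g → RepWith Q (pullback.diagonal snd) := by
  constructor
  · intro h Z _ g P fst snd sq
    exact (RepWith (S := S) Q).of_isPullback (isPullback_diagonal_of_isPullback sq) h
  · intro h
    refine repWith_of_forall_affine _ hrep Q ?_
    intro T hT z
    have sqP := IsPullback.of_hasPullback f (z ≫ pullback.fst f f ≫ f)
    refine ⟨_, _, diagBase sqP, _, _, isPullback_diagonal_of_isPullback sqP,
      (isPullback_diagBase sqP).lift z (𝟙 _) (by simp), (isPullback_diagBase sqP).lift_fst _ _ _,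
      h T hT _ _ _ _ sqP⟩

/-- For a representable morphism `f` with representable diagonal: the diagonal of `f` has `Q` iff for every base
change `g : V ⟶ U` of `f` to a scheme, the diagonal of `h_g` has `Q`. -/
theorem repWith_diagonal_iff_of_representable (Q : MorphismProperty Scheme.{u}) [Q.IsStableUnderBaseChange]
    {X Y : Sp S} (f : X ⟶ Y) (hf : Representable f) (hrep : Representable (pullback.diagonal f)) :
    RepWith Q (pullback.diagonal f) ↔
      ∀ ⦃U V : Over S⦄ (z : (yon S).obj U ⟶ Y) (fst : (yon S).obj V ⟶ X) (g : V ⟶ U),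
        IsPullback fst ((yon S).map g) f z → RepWith Q (pullback.diagonal ((yon S).map g)) := by
  constructor
  · intro h U V z fst g sq
    exact (RepWith (S := S) Q).of_isPullback (isPullback_diagonal_of_isPullback sq) h
  · intro h
    refine repWith_of_forall_factor _ hrep Q ?_
    intro T z
    have sqP := hf.isPullback (z ≫ pullback.fst f f ≫ f)
    refine ⟨_, _, diagBase sqP, _, _, isPullback_diagonal_of_isPullback sqP,
      (isPullback_diagBase sqP).lift z (𝟙 _) (by simp), (isPullback_diagBase sqP).lift_fst _ _ _,
      h _ _ _ sqP⟩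

/-- For a representable morphism of algebraic spaces, separated (resp. quasi-separated) in the diagonal sense
agrees with the representable sense. -/
theorem separation_iff_repWith_of_representable {X Y : Space S} (f : X ⟶ Y) (hf : Representable f.hom) :
    (IsSeparatedMor f.hom ↔ RepWith @IsSeparated f.hom) ∧
    (IsQuasiSeparatedMor f.hom ↔ RepWith @QuasiSeparated f.hom) := by
  have hrep := (diagonal_hom_properties f).1
  constructor
  · refine (repWith_diagonal_iff_of_representable @IsClosedImmersion f.hom hf hrep).trans ?_
    constructor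
    · intro h
      exact ⟨hf, fun U V z fst g sq => (isSeparatedMor_yon_map_iff g).1 (h z fst g sq)⟩
    · intro h U V z fst g sq
      exact (isSeparatedMor_yon_map_iff g).2 (h.property z fst g sq)
  · refine (repWith_diagonal_iff_of_representable @QuasiCompact f.hom hf hrep).trans ?_
    constructor
    · intro h
      exact ⟨hf, fun U V z fst g sq => (isQuasiSeparatedMor_yon_map_iff g).1 (h z fst g sq)⟩
    · intro h U V z fst g sq
      exact (isQuasiSeparatedMor_yon_map_iff g).2 (h.property z fst g sq)

end Groth.Agent.Lib.H69AlgSpMor
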