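import Groth.Agent.Lib.AlgSpFpqcIso
import Groth.Agent.Lib.H69AlgSpMor
import Mathlib.AlgebraicGeometry.ZariskisMainTheorem

/-!
# fpqc descent of properties of representable morphisms and of diagonals of algebraic spaces (owner: helper91)

Namespace `Groth.Agent.Lib.AlgSpFpqc` (continues `Lib/AlgSpFpqcIso.lean`).  Append-only please.
-/

set_option autoImplicit false
universe u
open CategoryTheory CategoryTheory.Limits AlgebraicGeometry Opposite Topology

namespace Groth.Agent.Lib.AlgSpFpqc

open AlgSp Groth.Agent.Lib.AlgSpPoints Groth.Agent.Lib.AlgSpQC Groth.Agent.Lib.AlgSpFibre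
  Groth.Agent.Lib.AlgSpDescent Groth.Agent.Lib.H69AlgSp Groth.Agent.Lib.H69AlgSpMor

variable {S : Scheme.{u}}

/-- Quasi-compactness of morphisms of schemes descends along fpqc coverings (indeed along surjective quasi-compact
morphisms). -/
theorem quasiCompact_descendsAlong :
    MorphismProperty.DescendsAlong @QuasiCompact (@Surjective ⊓ @Flat ⊓ @QuasiCompact) where
  of_isPullback {A X Y Z fst snd f g} h hf hfst := by
    obtain ⟨⟨hs, -⟩, hq⟩ := hf
    have hq' : QuasiCompact f := hq
    have hfst' : QuasiCompact fst := hfst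
    have hsnd : Surjective snd := MorphismProperty.of_isPullback (P := @Surjective) h hs
    constructor
    intro U hU hUc
    have h1 : IsCompact (f ⁻¹' U) := hq'.isCompact_preimage U hU hUc
    have h2 : IsCompact (fst ⁻¹' (f ⁻¹' U)) :=
      hfst'.isCompact_preimage _ (hU.preimage f.continuous) h1
    have e : g ⁻¹' U = snd '' (fst ⁻¹' (f ⁻¹' U)) := by
      ext y
      constructor
      · intro hy
        obtain ⟨a, rfl⟩ := hsnd.surj y
        refine ⟨a, ?_, rfl⟩
        change f (fst a) ∈ U
        rw [← Scheme.Hom.comp_apply, h.w, Scheme.Hom.comp_apply]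
        exact hy
      · rintro ⟨a, ha, rfl⟩
        change g (snd a) ∈ U
        rw [← Scheme.Hom.comp_apply, ← h.w, Scheme.Hom.comp_apply]
        exact ha
    rw [e]
    exact h2.image snd.continuous

/-- Descent of `RepWith Q` for a representable morphism along a family with the fpqc refinement property, for a
property `Q` of morphisms of schemes that is Zariski local on the target and satisfies fpqc descent. -/
theorem repWith_of_hasFpqcRefinement (Q : MorphismProperty Scheme.{u}) [IsZariskiLocalAtTarget Q]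
    [Q.DescendsAlong (@Surjective ⊓ @Flat ⊓ @QuasiCompact)]
    {ι : Type u} {F G : Sp S} {φ : F ⟶ G} (hφ : Representable φ) {Gi : ι → Sp S} {γ : ∀ i, Gi i ⟶ G}
    (hγ : HasFpqcRefinement Gi γ) {Fi : ι → Sp S} {φi : ∀ i, Fi i ⟶ Gi i} {qi : ∀ i, Fi i ⟶ F}
    (sq : ∀ i, IsPullback (qi i) (φi i) φ (γ i)) (h : ∀ i, RepWith Q (φi i)) : RepWith Q φ := by
  refine ⟨hφ, fun T V z fst v sqv => ?_⟩
  change Q v.left
  refine of_flat_refinement Q v.left fun A => ?_
  have hA : IsAffine (A.1 : Scheme) := A.2
  obtain ⟨m, W, c, hW, hc, hs, hl⟩ := hγ (Over.mk (A.1.ι ≫ T.hom)) hA (restrictChart z A.1)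
  refine ⟨m, fun j => (W j).left, fun j => (c j).left, hW, hc, hs, fun j => ?_⟩
  obtain ⟨i, l, hl'⟩ := hl j
  let jA : Over.mk (A.1.ι ≫ T.hom) ⟶ T := Over.homMk A.1.ι rfl
  have sqV := IsPullback.of_hasPullback v (c j ≫ jA)
  refine ⟨(pullback v (c j ≫ jA)).left, (pullback.fst v (c j ≫ jA)).left,
    (pullback.snd v (c j ≫ jA)).left, sqV.map (Over.forget S), ?_⟩
  have outer := (sqV.map (yon S)).paste_horiz sqv
  have e3 : (yon S).map (c j ≫ jA) ≫ z = l ≫ γ i := by
    rw [hl', Functor.map_comp, Category.assoc]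
  rw [e3] at outer
  have e : ((yon S).map (pullback.fst v (c j ≫ jA)) ≫ fst) ≫ φ =
      ((yon S).map (pullback.snd v (c j ≫ jA)) ≫ l) ≫ γ i := by
    rw [outer.w, Category.assoc]
  have left : IsPullback ((sq i).lift _ _ e) ((yon S).map (pullback.snd v (c j ≫ jA))) (φi i) l := by
    apply IsPullback.of_right (h₁₂ := qi i) (v₁₃ := φ) (h₂₂ := γ i) ?_ ((sq i).lift_snd _ _ _) (sq i)
    rw [(sq i).lift_fst]
    exact outer
  exact (h i).2 l _ _ left

/-- The relative diagonal of a morphism from a sheaf with representable diagonal is representable. -/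
theorem representable_diagonal {X Y : Sp S} (hX : Representable (Limits.diag X)) (f : X ⟶ Y) :
    Representable (pullback.diagonal f) :=
  (repWith_pullback_diagonal_of_diag (P := ⊤) f ⟨hX, fun _ _ _ _ _ _ => trivial⟩).rep

/-- Descent of `RepWith Q` of the relative diagonal along a family with the fpqc refinement property. -/
theorem repWith_diagonal_of_hasFpqcRefinement (Q : MorphismProperty Scheme.{u}) [IsZariskiLocalAtTarget Q]
    [Q.DescendsAlong (@Surjective ⊓ @Flat ⊓ @QuasiCompact)]
    {ι : Type u} {X Y : Sp S} (hX : Representable (Limits.diag X)) {Yi : ι → Sp S} {f : X ⟶ Y}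
    {g : ∀ i, Yi i ⟶ Y} (hg : HasFpqcRefinement Yi g) {Xi : ι → Sp S} {p : ∀ i, Xi i ⟶ Yi i}
    {q : ∀ i, Xi i ⟶ X} (sq : ∀ i, IsPullback (q i) (p i) f (g i))
    (h : ∀ i, RepWith Q (pullback.diagonal (p i))) : RepWith Q (pullback.diagonal f) :=
  repWith_of_hasFpqcRefinement Q (representable_diagonal hX f)
    (hg.baseChange (pullback.fst f f ≫ f) _ (fun i => diagBase (sq i))
      (fun i => pullback.fst (p i) (p i) ≫ p i) (fun i => isPullback_diagBase (sq i)))
    (fun i => isPullback_diagonal_of_isPullback (sq i)) h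

/-- `RepWith Q` of the relative diagonal is fpqc local on the base. -/
theorem isLocalOnBase_fpqc_repWith_diagonal (Q : MorphismProperty Scheme.{u}) [IsZariskiLocalAtTarget Q]
    [Q.DescendsAlong (@Surjective ⊓ @Flat ⊓ @QuasiCompact)] [Q.IsStableUnderBaseChange] :
    IsLocalOnBase (IsFpqcCover (S := S)) (fun _ _ f => RepWith Q (pullback.diagonal f)) := by
  intro ι Y Yi g hY hYi hcov X f hX Xi p q _ sq
  exact ⟨fun h i => (RepWith (S := S) Q).of_isPullback (isPullback_diagonal_of_isPullback (sq i)) h,
    fun h => repWith_diagonal_of_hasFpqcRefinement Q hX.diag hcov.2 sq h⟩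

theorem isLocalOnBase_fpqc_isQuasiSeparatedMor :
    IsLocalOnBase (IsFpqcCover (S := S)) IsQuasiSeparatedMor :=
  haveI := quasiCompact_descendsAlong
  isLocalOnBase_fpqc_repWith_diagonal @QuasiCompact

/-- For a morphism of algebraic spaces, the diagonal is a closed immersion iff it is universally closed (it is always
a separated monomorphism locally of finite type). -/
theorem repWith_isClosedImmersion_diagonal_iff {X Y : Sp S} (hX : IsAlgSpace X) (hY : IsAlgSpace Y)
    (f : X ⟶ Y) :
    RepWith @IsClosedImmersion (pullback.diagonal f) ↔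
      RepWith @UniversallyClosed (pullback.diagonal f) := by
  let X' : Space S := ⟨X, hX⟩
  let Y' : Space S := ⟨Y, hY⟩
  let f' : X' ⟶ Y' := ObjectProperty.homMk f
  obtain ⟨hrep, hlft, hmono, hsep, -⟩ := diagonal_hom_properties f'
  constructor
  · intro h
    exact repWith_mono (fun _ _ g (_ : IsClosedImmersion g) => (inferInstance : UniversallyClosed g)) h
  · intro h
    refine ⟨hrep, fun U V z fst v sqv => ?_⟩
    change IsClosedImmersion v.left
    rw [IsClosedImmersion.iff_isProper_and_mono]
    have h1 : UniversallyClosed v.left := h.2 z fst v sqv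
    have h2 : LocallyOfFiniteType v.left := hlft.2 z fst v sqv
    have h3 : Mono v.left := hmono.2 z fst v sqv
    have h4 : IsSeparated v.left := hsep.2 z fst v sqv
    exact ⟨{}, h3⟩

theorem isLocalOnBase_fpqc_isSeparatedMor :
    IsLocalOnBase (IsFpqcCover (S := S)) IsSeparatedMor := by
  intro ι Y Yi g hY hYi hcov X f hX Xi p q hXi sq
  have : RepWith @UniversallyClosed (pullback.diagonal f) ↔
      ∀ i, RepWith @UniversallyClosed (pullback.diagonal (p i)) :=
    isLocalOnBase_fpqc_repWith_diagonal (S := S) @UniversallyClosed Yi g hY hYi hcov f hX Xi p q hXi sq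
  change RepWith @IsClosedImmersion (pullback.diagonal f) ↔
    ∀ i, RepWith @IsClosedImmersion (pullback.diagonal (p i))
  rw [repWith_isClosedImmersion_diagonal_iff hX hY f, this]
  exact forall_congr' fun i => (repWith_isClosedImmersion_diagonal_iff (hXi i) (hYi i) (p i)).symm

end Groth.Agent.Lib.AlgSpFpqc
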