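import Groth.Agent.Lib.AlgSpFppfCover
import Groth.Agent.Lib.AlgSpFpqcRep

/-!
# Proper morphisms of algebraic spaces: base change, composition, affine / etale-chart criteria (owner: helper91)

Namespace `Groth.Agent.Lib.AlgSpProper`.  Append-only please.

Also: generic criteria `of_affine_base_change`, `of_etale_chart` for properties that are fpqc local on the base.
-/

set_option autoImplicit false
universe u
open CategoryTheory CategoryTheory.Limits AlgebraicGeometry Opposite Topology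

namespace Groth.Agent.Lib.AlgSpProper

open AlgSp Groth.Agent.Lib.AlgSpPoints Groth.Agent.Lib.AlgSpQC Groth.Agent.Lib.AlgSpFibre
  Groth.Agent.Lib.AlgSpDescent Groth.Agent.Lib.H69AlgSp Groth.Agent.Lib.H69AlgSpMor
  Groth.Agent.Lib.AlgSpLocP Groth.Agent.Lib.AlgSpBasic Groth.Agent.Lib.AlgSpFpqc

variable {S : Scheme.{u}}

/-! ### Generic criteria for fpqc-local properties -/

/-- A property that is fpqc local on the base can be checked after base change along one surjective etale chart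
of the target. -/
theorem of_etale_chart {P : MorphismProperty (Sp S)} (hP : IsLocalOnBase (IsFpqcCover (S := S)) P)
    {X Y : Sp S} (hX : IsAlgSpace X) (hY : IsAlgSpace Y) (f : X ⟶ Y) {V : Over S}
    {p : (yon S).obj V ⟶ Y} (hp : RepWith @Etale p) (hps : RepWith @Surjective p) {Q : Sp S}
    {fst : Q ⟶ X} {snd : Q ⟶ (yon S).obj V} (sq : IsPullback fst snd f p) (h : P snd) : P f := by
  have hQ : IsAlgSpace Q := isAlgSpace_of_isPullback hY.diag hX (IsAlgSpace.yon_obj V) sq
  exact (hP (ι := PUnit.{u+1}) (fun _ => (yon S).obj V) (fun _ => p) hY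
    (fun _ => IsAlgSpace.yon_obj V) (isFpqcCover_of_etale_surjective_chart hY hp hps) f hX
    (fun _ => Q) (fun _ => snd) (fun _ => fst) (fun _ => hQ) (fun _ => sq)).2 fun _ => h

/-- A property that is fpqc local on the base holds as soon as it holds after every base change to an affine
scheme. -/
theorem of_affine_base_change {P : MorphismProperty (Sp S)}
    (hP : IsLocalOnBase (IsFpqcCover (S := S)) P) {X Y : Sp S} (hX : IsAlgSpace X) (hY : IsAlgSpace Y)
    (f : X ⟶ Y)
    (H : ∀ (Z : Over S), IsAffine Z.left → ∀ (g : (yon S).obj Z ⟶ Y) (P' : Sp S) (fst : P' ⟶ X)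
      (snd : P' ⟶ (yon S).obj Z), IsPullback fst snd f g → P snd) : P f := by
  obtain ⟨V, b, hbe, hbs⟩ := hY.atlas
  let U : V.left.affineOpens → Over S := fun W => Over.mk (W.1.ι ≫ V.hom)
  let g : ∀ W : V.left.affineOpens, (yon S).obj (U W) ⟶ Y := fun W => restrictChart b W.1
  have hg : ∀ W, RepWith @Etale (g W) := fun W => repWith_etale_restrictChart hbe W.1
  have hs : ∀ y : Points Y, ∃ W, y ∈ Set.range (Points.map (g W)) := by
    intro y
    obtain ⟨v, rfl⟩ := surjective_ofPt_of_repWith_surjective hbs y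
    obtain ⟨_, ⟨W, hW, rfl⟩, hvW, -⟩ := (V.left.isBasis_affineOpens).exists_subset_of_mem_open
      (Set.mem_univ v) isOpen_univ
    refine ⟨⟨W, hW⟩, Points.ofPt (𝟙 _) (⟨v, hvW⟩ : ↥W), ?_⟩
    rw [Points.map_ofPt, Category.id_comp]
    exact ofPt_restrictChart b W ⟨v, hvW⟩
  have hcov := isFpqcCover_of_etale_charts hY hg hs
  have sq : ∀ W, IsPullback (pullback.fst f (g W)) (pullback.snd f (g W)) f (g W) :=
    fun W => IsPullback.of_hasPullback _ _
  exact (hP (fun W => (yon S).obj (U W)) g hY (fun W => IsAlgSpace.yon_obj (U W)) hcov f hX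
    (fun W => pullback f (g W)) (fun W => pullback.snd f (g W)) (fun W => pullback.fst f (g W))
    (fun W => isAlgSpace_of_isPullback hY.diag hX (IsAlgSpace.yon_obj (U W)) (sq W)) sq).2
    fun W => H (U W) W.2 (g W) _ _ _ (sq W)

/-! ### Separated morphisms -/

theorem isSeparatedMor_of_isPullback {X Y V Q : Sp S} {f : X ⟶ Y} {p : V ⟶ Y} {fst : Q ⟶ X}
    {snd : Q ⟶ V} (sq : IsPullback fst snd f p) (h : IsSeparatedMor f) : IsSeparatedMor snd :=
  (RepWith (S := S) @IsClosedImmersion).of_isPullback (isPullback_diagonal_of_isPullback sq) h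

theorem isQuasiSeparatedMor_of_isPullback {X Y V Q : Sp S} {f : X ⟶ Y} {p : V ⟶ Y} {fst : Q ⟶ X}
    {snd : Q ⟶ V} (sq : IsPullback fst snd f p) (h : IsQuasiSeparatedMor f) : IsQuasiSeparatedMor snd :=
  (RepWith (S := S) @QuasiCompact).of_isPullback (isPullback_diagonal_of_isPullback sq) h

theorem isSeparatedMor_comp {X Y Z : Sp S} {f : X ⟶ Y} {g : Y ⟶ Z} (hf : IsSeparatedMor f)
    (hg : IsSeparatedMor g) : IsSeparatedMor (f ≫ g) :=
  MorphismProperty.comp_mem (RepWith (S := S) @IsClosedImmersion).diagonal f g hf hg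

theorem isQuasiSeparatedMor_comp {X Y Z : Sp S} {f : X ⟶ Y} {g : Y ⟶ Z} (hf : IsQuasiSeparatedMor f)
    (hg : IsQuasiSeparatedMor g) : IsQuasiSeparatedMor (f ≫ g) :=
  MorphismProperty.comp_mem (RepWith (S := S) @QuasiCompact).diagonal f g hf hg

/-! ### `UnivSp` under composition -/

/-- `UnivSp Q` is stable under composition when `Q` is (the middle object an algebraic space, the target with
representable diagonal). -/
theorem univSp_comp {Q : MorphismProperty (Sp S)}
    (hQ : ∀ ⦃A B C : Sp S⦄ (u : A ⟶ B) (v : B ⟶ C), Q u → Q v → Q (u ≫ v)) {F G H : Sp S}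
    (hG : IsAlgSpace G) (hH : Representable (Limits.diag H)) {f : F ⟶ G} {g : G ⟶ H}
    (hf : UnivSp Q f) (hg : UnivSp Q g) : UnivSp Q (f ≫ g) := by
  intro Z Z₂ hZ h a b sq
  have sq1 := IsPullback.of_hasPullback g h
  have hZ₁ : IsAlgSpace (pullback g h) := isAlgSpace_of_isPullback hH hG hZ sq1
  have e : (a ≫ f) ≫ g = b ≫ h := by rw [Category.assoc, sq.w]
  have left : IsPullback a (sq1.lift _ _ e) f (pullback.fst g h) := by
    apply IsPullback.of_bot ?_ (sq1.lift_fst _ _ e).symm sq1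
    rw [sq1.lift_snd]
    exact sq
  have h1 : Q (sq1.lift _ _ e) := hf hZ₁ _ _ _ left
  have h2 : Q (pullback.snd g h) := hg hZ h _ _ sq1
  have := hQ _ _ h1 h2
  rwa [sq1.lift_snd] at this

theorem isUnivClosedMor_comp {F G H : Sp S} (hG : IsAlgSpace G) (hH : Representable (Limits.diag H))
    {f : F ⟶ G} {g : G ⟶ H} (hf : IsUnivClosedMor f) (hg : IsUnivClosedMor g) :
    IsUnivClosedMor (f ≫ g) :=
  univSp_comp (Q := IsClosedMor) (fun A B C u v hu hv => by
    change IsClosedMap (Points.map (u ≫ v))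
    have e : Points.map (u ≫ v) = Points.map v ∘ Points.map u := by
      funext x
      rw [Function.comp_apply, ← Points.map_comp]
    rw [e]
    exact IsClosedMap.comp hv hu) hG hH hf hg

/-- A universally closed morphism to an algebraic space is closed on points. -/
theorem isClosedMor_of_isUnivClosedMor {X Y : Sp S} (hY : IsAlgSpace Y) {f : X ⟶ Y}
    (h : IsUnivClosedMor f) : IsClosedMor f :=
  h hY (𝟙 Y) (𝟙 X) f (IsPullback.of_horiz_isIso ⟨by simp⟩)

/-! ### Finite type and proper morphisms -/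

theorem isFiniteTypeMor_of_isPullback {X Y Y' X' : Sp S} (hX : IsAlgSpace X) (hY : IsAlgSpace Y)
    (hY' : IsAlgSpace Y') {f : X ⟶ Y} {g : Y' ⟶ Y} {fst : X' ⟶ X} {snd : X' ⟶ Y'}
    (sq : IsPullback fst snd f g) (h : IsFiniteTypeMor f) : IsFiniteTypeMor snd :=
  ⟨locP_of_isPullback etLocalClass_lft hX hY hY' sq h.1, isQuasiCompactMor_of_isPullback sq h.2⟩

theorem isFiniteTypeMor_comp {X Y Z : Sp S} (hX : IsAlgSpace X) (hY : IsAlgSpace Y)
    (hZ : IsAlgSpace Z) {f : X ⟶ Y} {g : Y ⟶ Z} (hf : IsFiniteTypeMor f) (hg : IsFiniteTypeMor g) :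
    IsFiniteTypeMor (f ≫ g) :=
  ⟨locP_comp etLocalClass_lft hX hY hZ hf.1 hg.1, isQuasiCompactMor_comp hY hZ.diag hf.2 hg.2⟩

theorem isProperMor_of_isPullback {X Y Y' X' : Sp S} (hX : IsAlgSpace X) (hY : IsAlgSpace Y)
    (hY' : IsAlgSpace Y') {f : X ⟶ Y} {g : Y' ⟶ Y} {fst : X' ⟶ X} {snd : X' ⟶ Y'}
    (sq : IsPullback fst snd f g) (h : IsProperMor f) : IsProperMor snd :=
  ⟨isSeparatedMor_of_isPullback sq h.1, isFiniteTypeMor_of_isPullback hX hY hY' sq h.2.1,
    univSp_of_isPullback sq h.2.2⟩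

theorem isProperMor_comp {X Y Z : Sp S} (hX : IsAlgSpace X) (hY : IsAlgSpace Y)
    (hZ : IsAlgSpace Z) {f : X ⟶ Y} {g : Y ⟶ Z} (hf : IsProperMor f) (hg : IsProperMor g) :
    IsProperMor (f ≫ g) :=
  ⟨isSeparatedMor_comp hf.1 hg.1, isFiniteTypeMor_comp hX hY hZ hf.2.1 hg.2.1,
    isUnivClosedMor_comp hY hZ.diag hf.2.2 hg.2.2⟩

/-- Properness descends along one surjective etale chart of the target. -/
theorem isProperMor_of_etale_chart {X Y : Sp S} (hX : IsAlgSpace X) (hY : IsAlgSpace Y) (f : X ⟶ Y)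
    {V : Over S} {p : (yon S).obj V ⟶ Y} (hp : RepWith @Etale p) (hps : RepWith @Surjective p)
    {Q : Sp S} {fst : Q ⟶ X} {snd : Q ⟶ (yon S).obj V} (sq : IsPullback fst snd f p)
    (h : IsProperMor snd) : IsProperMor f :=
  of_etale_chart isLocalOnBase_fpqc_isProperMor hX hY f hp hps sq h

/-- Properness can be checked after base change to affine schemes. -/
theorem isProperMor_iff_affine {X Y : Sp S} (hX : IsAlgSpace X) (hY : IsAlgSpace Y) (f : X ⟶ Y) :
    IsProperMor f ↔
      ∀ (Z : Over S), IsAffine Z.left → ∀ (g : (yon S).obj Z ⟶ Y) (P : Sp S) (fst : P ⟶ X)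
        (snd : P ⟶ (yon S).obj Z), IsPullback fst snd f g → IsProperMor snd :=
  ⟨fun h Z _ _ _ _ _ sq => isProperMor_of_isPullback hX hY (IsAlgSpace.yon_obj Z) sq h,
    of_affine_base_change isLocalOnBase_fpqc_isProperMor hX hY f⟩

end Groth.Agent.Lib.AlgSpProper
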