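import Mathlib.Topology.KrullDimension
import Mathlib.Topology.Sober
import Mathlib.Topology.Inseparable
import Mathlib.Order.KrullDimension

set_option autoImplicit false
open Topology TopologicalSpace Order

namespace Groth.Agent.Lib.DimLift

section
variable {A B : Type*} [TopologicalSpace A] [TopologicalSpace B] [T0Space A] [T0Space B]

attribute [local instance] specializationOrder

omit [T0Space B] in
/-- For a quasi-sober `T0` space the topological Krull dimension is the Krull dimension
of the specialization order. -/
theorem topDim_eq_krullDim [QuasiSober A] :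
    topologicalKrullDim A = krullDim A :=
  krullDim_eq_of_orderIso (irreducibleSetEquivPoints (α := A))

omit [T0Space B] in
theorem lt_iff {a b : A} : a < b ↔ b ⤳ a ∧ ¬ a ⤳ b := Iff.rfl

/-- A continuous map without nontrivial specializations inside its fibres does not lower
the dimension. -/
theorem topDim_le_of_fibres [QuasiSober A] [QuasiSober B]
    (φ : A → B) (hc : Continuous φ) (hfib : ∀ a a' : A, a ⤳ a' → φ a = φ a' → a = a') :
    topologicalKrullDim A ≤ topologicalKrullDim B := by
  rw [topDim_eq_krullDim, topDim_eq_krullDim]
  refine krullDim_le_of_strictMono φ ?_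
  intro a b hab
  obtain ⟨h1, h2⟩ := hab
  refine ⟨h1.map hc, fun h3 => h2 ?_⟩
  have : φ a = φ b := (h3.antisymm (h1.map hc)).eq
  have := hfib b a h1 this.symm
  rw [this]

theorem exists_series_of_specializingMap (φ : A → B) (hc : Continuous φ)
    (hs : SpecializingMap φ) (n : ℕ) :
    ∀ (x : A) (p : LTSeries B), p.length = n → p.last = φ x →
      ∃ q : LTSeries A, q.length = n ∧ q.last = x := by
  induction n with
  | zero =>
    intro x p _ _
    exact ⟨RelSeries.singleton _ x, rfl, rfl⟩
  | succ n ih =>
    intro x p hlen hlast
    have hne : p.length ≠ 0 := by omega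
    have hrel : p.eraseLast.last < p.last := p.eraseLast_last_rel_last hne
    obtain ⟨h1, h2⟩ := hrel
    rw [hlast] at h1 h2
    obtain ⟨x', hx', hφ⟩ := hs h1
    obtain ⟨q', hq'len, hq'last⟩ := ih x' p.eraseLast (by simp [hlen]) hφ.symm
    have hlt : q'.last < x := by
      rw [hq'last]
      refine ⟨hx', fun h => h2 ?_⟩
      rw [← hφ]
      exact h.map hc
    exact ⟨q'.snoc x hlt, by simp [hq'len], by simp⟩

theorem exists_series_of_generalizingMap (φ : A → B) (hc : Continuous φ)
    (hg : GeneralizingMap φ) (n : ℕ) :
    ∀ (x : A) (p : LTSeries B), p.length = n → p.head = φ x →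
      ∃ q : LTSeries A, q.length = n ∧ q.head = x := by
  induction n with
  | zero =>
    intro x p _ _
    exact ⟨RelSeries.singleton _ x, rfl, rfl⟩
  | succ n ih =>
    intro x p hlen hhead
    have hne : p.length ≠ 0 := by omega
    have hrel : p.head < (p.tail hne).head := by
      rw [RelSeries.head_tail]
      refine p.strictMono ?_
      rw [Fin.lt_def, Fin.val_zero, Fin.val_one']
      rw [Nat.one_mod_eq_one.mpr (by omega)]
      exact Nat.one_pos
    obtain ⟨h1, h2⟩ := hrel
    rw [hhead] at h1 h2
    obtain ⟨x', hx', hφ⟩ := hg h1
    obtain ⟨q', hq'len, hq'head⟩ := ih x' (p.tail hne) (by simp [hlen]) hφ.symm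
    have hlt : x < q'.head := by
      rw [hq'head]
      refine ⟨hx', fun h => h2 ?_⟩
      rw [← hφ]
      exact h.map hc
    exact ⟨q'.cons x hlt, by simp [hq'len], by simp⟩

/-- A continuous surjective specializing map (e.g. a closed surjection) does not raise
the dimension. -/
theorem topDim_le_of_specializingMap [QuasiSober A] [QuasiSober B]
    (φ : A → B) (hc : Continuous φ) (hsurj : Function.Surjective φ) (hs : SpecializingMap φ) :
    topologicalKrullDim B ≤ topologicalKrullDim A := by
  rw [topDim_eq_krullDim, topDim_eq_krullDim]
  refine iSup_le fun p => ?_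
  obtain ⟨x, hx⟩ := hsurj p.last
  obtain ⟨q, hq, -⟩ := exists_series_of_specializingMap φ hc hs p.length x p rfl hx.symm
  rw [← hq]
  exact LTSeries.length_le_krullDim q

/-- A continuous surjective generalizing map does not raise the dimension. -/
theorem topDim_le_of_generalizingMap [QuasiSober A] [QuasiSober B]
    (φ : A → B) (hc : Continuous φ) (hsurj : Function.Surjective φ) (hg : GeneralizingMap φ) :
    topologicalKrullDim B ≤ topologicalKrullDim A := by
  rw [topDim_eq_krullDim, topDim_eq_krullDim]
  refine iSup_le fun p => ?_
  obtain ⟨x, hx⟩ := hsurj p.head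
  obtain ⟨q, hq, -⟩ := exists_series_of_generalizingMap φ hc hg p.length x p rfl hx.symm
  rw [← hq]
  exact LTSeries.length_le_krullDim q

end

end Groth.Agent.Lib.DimLift
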