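import Groth.Agent.Lib.AlgSpSober
import Groth.Agent.Lib.AlgSpDecentSpec
import Groth.Agent.Lib.SpecDim
import Groth.Agent.Lib.DimLift
import Groth.Agent.Lib.AlgSpDim91
import Groth.Prelude.Def_Flat

/-!
# Dimension theory of decent algebraic spaces via the space of points (owner: helper86)

For a decent algebraic space `X` the space `|X|` is sober (helper46, `AlgSpSober`) and Kolmogorov (helper91), and an etale
chart `U ⟶ |X|` is continuous, open, generalizing and has no specializations inside its fibres.  Hence
dimension, local dimension and codimension can be computed on `|X|`.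
-/

set_option autoImplicit false
set_option linter.style.haveILetI false
universe u
open CategoryTheory CategoryTheory.Limits AlgebraicGeometry TopologicalSpace Order Topology
open AlgSp

namespace Groth.Agent.Lib.H86DecentDim

section Top
variable {A B : Type*} [TopologicalSpace A] [TopologicalSpace B]

/-- A continuous open generalizing map without specializations inside its fibres preserves the local dimension. -/
theorem localDim_eq_of_generalizingMap [QuasiSober A] [T0Space A] [QuasiSober B] [T0Space B]
    (φ : A → B) (hc : Continuous φ) (ho : IsOpenMap φ) (hg : GeneralizingMap φ)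
    (hfib : ∀ a a' : A, a ⤳ a' → φ a = φ a' → a = a') (a : A) :
    FlatMor.localDim A a = FlatMor.localDim B (φ a) := by
  apply le_antisymm
  · refine le_iInf fun O => ?_
    obtain ⟨O, hO⟩ := O
    let N : Opens A := ⟨φ ⁻¹' (O : Set B), O.2.preimage hc⟩
    refine iInf_le_of_le ⟨N, hO⟩ ?_
    haveI : QuasiSober ↥(N : Set A) := N.2.isOpenEmbedding_subtypeVal.quasiSober
    haveI : QuasiSober ↥(O : Set B) := O.2.isOpenEmbedding_subtypeVal.quasiSober
    refine Groth.Agent.Lib.DimLift.topDim_le_of_fibres
      (fun n : ↥(N : Set A) => (⟨φ n.1, n.2⟩ : ↥(O : Set B)))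
      ((hc.comp continuous_subtype_val).subtype_mk _) ?_
    intro n n' hs he
    apply Subtype.ext
    exact hfib n.1 n'.1 ((subtype_specializes_iff n n').1 hs) (congrArg Subtype.val he)
  · refine le_iInf fun N => ?_
    obtain ⟨N, hN⟩ := N
    let O : Opens B := ⟨φ '' (N : Set A), ho _ N.2⟩
    refine iInf_le_of_le ⟨O, ⟨a, hN, rfl⟩⟩ ?_
    haveI : QuasiSober ↥(N : Set A) := N.2.isOpenEmbedding_subtypeVal.quasiSober
    haveI : QuasiSober ↥(O : Set B) := O.2.isOpenEmbedding_subtypeVal.quasiSober
    refine Groth.Agent.Lib.DimLift.topDim_le_of_generalizingMap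
      (fun n : ↥(N : Set A) => (⟨φ n.1, ⟨n.1, n.2, rfl⟩⟩ : ↥(O : Set B)))
      ((hc.comp continuous_subtype_val).subtype_mk _) ?_ ?_
    · rintro ⟨_, n, hn, rfl⟩
      exact ⟨⟨n, hn⟩, rfl⟩
    · intro n y hy
      obtain ⟨a', ha', hφ⟩ := hg ((subtype_specializes_iff _ _).1 hy)
      exact ⟨⟨a', ha'.mem_open N.2 n.2⟩, (subtype_specializes_iff _ _).2 ha', Subtype.ext hφ⟩

/-- A continuous generalizing map without specializations inside its fibres preserves the codimension of points
(for any preorders that agree with the specialization preorders). -/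
theorem coheight_eq_of_generalizingMap [Preorder A] [Preorder B] [T0Space B]
    (hA : ∀ a b : A, a ≤ b ↔ b ⤳ a) (hB : ∀ a b : B, a ≤ b ↔ b ⤳ a)
    (φ : A → B) (hc : Continuous φ) (hg : GeneralizingMap φ)
    (hfib : ∀ a a' : A, a ⤳ a' → φ a = φ a' → a = a') (a : A) :
    coheight (φ a) = coheight a := by
  apply le_antisymm
  · refine Groth.Agent.Lib.AlgSpDim91.coheight_apply_le_of_lift φ ?_ a
    intro a b hab
    obtain ⟨a', ha', rfl⟩ := hg ((hB _ _).1 hab.le)
    refine ⟨a', lt_of_le_not_ge ((hA _ _).2 ha') fun h => hab.not_ge ?_, rfl⟩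
    exact (hB _ _).2 (((hA _ _).1 h).map hc)
  · refine coheight_le_coheight_apply_of_strictMono φ ?_ a
    intro a b hab
    have h1 : b ⤳ a := (hA _ _).1 hab.le
    refine lt_of_le_not_ge ((hB _ _).2 (h1.map hc)) fun h3 => hab.not_ge ?_
    have he : φ b = φ a := ((h1.map hc).antisymm ((hB _ _).1 h3)).eq
    have := hfib b a h1 he
    rw [this]

end Top

variable {S : Scheme.{u}}

open Groth.Agent.Lib.AlgSpDecentSpec

/-- Generalizations lift along etale charts of a decent sheaf. -/
theorem generalizingMap_ofPt {X : Sp S} (hd : IsDecent X) {U : Over S} (a : (yon S).obj U ⟶ X)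
    (ha : RepWith @Etale a) : GeneralizingMap (Points.ofPt a) := by
  intro u x' h
  obtain ⟨p', hp', -, hq'⟩ := hd x'
  exact exists_specializes_lift_of_qc_point (Points.ofPt a u) x' h p' hp' hq' a ha u rfl

/-- No specializations inside the fibres of an etale chart of a decent sheaf. -/
theorem eq_of_specializes_of_ofPt_eq {X : Sp S} (hd : IsDecent X) {U : Over S} (a : (yon S).obj U ⟶ X)
    (ha : RepWith @Etale a) (u u' : ↥U.left) (hs : u ⤳ u') (he : Points.ofPt a u = Points.ofPt a u') :
    u = u' :=
  (eq_of_specializes_of_isDecent hd a ha u' u he.symm hs).symm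

/-- The Krull dimension of the space of points of a decent algebraic space is the dimension of the space. -/
theorem topologicalKrullDim_points_eq_dim (X : AlgSp.Space S) (hd : IsDecent X.obj) :
    topologicalKrullDim (Points X.obj) = AlgSp.dim X.obj := by
  haveI : QuasiSober (Points X.obj) := Groth.Agent.Lib.AlgSpSober.quasiSober_of_isDecent X hd
  haveI : T0Space (Points X.obj) := t0Space_points_of_isDecent X.property hd
  apply le_antisymm
  · letI := specializationOrder (Points X.obj)
    rw [Groth.Agent.Lib.DimLift.topDim_eq_krullDim]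
    refine iSup_le fun p => ?_
    obtain ⟨V, b, hbe, hbs⟩ := X.property.atlas
    obtain ⟨v, hv⟩ := Groth.Agent.Lib.AlgSpQC.surjective_ofPt_of_repWith_surjective hbs p.head
    letI := specializationOrder ↥V.left
    obtain ⟨q, hq, -⟩ := Groth.Agent.Lib.DimLift.exists_series_of_generalizingMap (Points.ofPt b)
      (Points.continuous_ofPt b) (generalizingMap_ofPt hd b hbe) p.length v p rfl hv.symm
    rw [← hq]
    refine (LTSeries.length_le_krullDim q).trans ?_
    rw [← Groth.Agent.Lib.DimLift.topDim_eq_krullDim]
    exact Groth.Agent.Lib.AlgSpDim91.topologicalKrullDim_le_dim b hbe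
  · refine iSup_le fun U => iSup_le fun a => iSup_le fun ha => ?_
    exact Groth.Agent.Lib.DimLift.topDim_le_of_fibres (Points.ofPt a) (Points.continuous_ofPt a)
      (eq_of_specializes_of_ofPt_eq hd a ha)

/-- The local dimension of an etale chart of a decent algebraic space at a point is the local dimension of the space of
points at its image. -/
theorem localDim_chart_eq (X : AlgSp.Space S) (hd : IsDecent X.obj) {U : Over S}
    (a : (yon S).obj U ⟶ X.obj) (ha : RepWith @Etale a) (u : ↥U.left) :
    FlatMor.localDim ↥U.left u = FlatMor.localDim (Points X.obj) (Points.ofPt a u) := by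
  haveI : QuasiSober (Points X.obj) := Groth.Agent.Lib.AlgSpSober.quasiSober_of_isDecent X hd
  haveI : T0Space (Points X.obj) := t0Space_points_of_isDecent X.property hd
  exact localDim_eq_of_generalizingMap (Points.ofPt a) (Points.continuous_ofPt a)
    (Groth.Agent.Lib.AlgSpQC.isOpenMap_ofPt_of_repWith_etale ha) (generalizingMap_ofPt hd a ha)
    (eq_of_specializes_of_ofPt_eq hd a ha) u

/-- The codimension of an irreducible closed subset of the space of points of a decent algebraic space is the dimension of the
local ring of an etale chart at a point over the generic point. -/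
theorem coheight_eq_ringKrullDim_stalk (X : AlgSp.Space S) (hd : IsDecent X.obj)
    (T : TopologicalSpace.IrreducibleCloseds (Points X.obj)) (ξ : Points X.obj)
    (hξ : IsGenericPoint ξ (T : Set (Points X.obj))) {U : Over S} (a : (yon S).obj U ⟶ X.obj)
    (ha : RepWith @Etale a) (u : ↥U.left) (hu : Points.ofPt a u = ξ) :
    (Order.coheight T : WithBot ℕ∞) = ringKrullDim ↥(U.left.presheaf.stalk u) := by
  haveI : QuasiSober (Points X.obj) := Groth.Agent.Lib.AlgSpSober.quasiSober_of_isDecent X hd
  haveI : T0Space (Points X.obj) := t0Space_points_of_isDecent X.property hd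
  letI := specializationOrder (Points X.obj)
  have hT : (irreducibleSetEquivPoints (α := Points X.obj)).symm ξ = T := by
    apply TopologicalSpace.IrreducibleCloseds.ext
    rw [coe_irreducibleEquivPoints_symm_apply]
    exact hξ
  have h1 : coheight T = coheight ξ := by
    rw [← hT]
    exact Order.coheight_orderIso (irreducibleSetEquivPoints (α := Points X.obj)).symm ξ
  have h2 : coheight (Points.ofPt a u) = coheight u :=
    coheight_eq_of_generalizingMap (fun _ _ => Scheme.le_iff_specializes) (fun _ _ => Iff.rfl)
      (Points.ofPt a) (Points.continuous_ofPt a) (generalizingMap_ofPt hd a ha)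
      (eq_of_specializes_of_ofPt_eq hd a ha) u
  rw [ringKrullDim_stalk_eq_coheight, h1, ← hu, h2]

end Groth.Agent.Lib.H86DecentDim
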