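import Mathlib
import Groth.Agent.Lib.FibreStalk33

/-!
# Flat schemes over a discrete valuation ring with reduced closed fibre (helper47)

Infrastructure for `f : X ⟶ Spec R`, `R` local with principal maximal ideal `(π)`:
* `toΓ`, `toΓG`, `toStalkX`: the canonical maps from `R` to sections / stalks of `X`;
* `fibreIdeal_eq`: `𝔪_{f x} 𝒪_{X,x}` is the extension of the prime `f x` along `R → 𝒪_{X,x}`;
* `mem_span_of_sq_mem_stalk`, `mem_span_of_sq_mem`: `𝒪_{X,x}/π` and `Γ(X, G)/π` (`G` affine) are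
  reduced when the closed fibre is reduced;
* `regular_toΓG`: `π` is regular on `Γ(X, G)` when `f` is flat;
* `exists_idem_of_away`, `exists_idem_primeSpectrum`, `exists_extension`: idempotents of `B[1/π]`
  extend to `B`;
* `dense_preimage_Dπ`, `isPreconnected_preimage_Dπ`: the generic fibre is dense and (for connected
  `X`) preconnected.
-/

set_option autoImplicit false
universe u
open AlgebraicGeometry CategoryTheory Limits IsLocalRing TopologicalSpace Opposite

namespace Groth.Agent.Lib.H47DvrFibre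

/-- Descent of idempotents from `B[1/ϖ]` to `B` when `ϖ` is regular and `B/ϖ` is reduced. -/
lemma exists_idem_of_away {B B' : Type*} [CommRing B] [CommRing B'] [Algebra B B'] (ϖ : B)
    [IsLocalization.Away ϖ B'] (hreg : ∀ b : B, ϖ * b = 0 → b = 0)
    (hred : ∀ b : B, b * b ∈ Ideal.span {ϖ} → b ∈ Ideal.span {ϖ})
    (e : B') (he : e * e = e) : ∃ e₀ : B, e₀ * e₀ = e₀ ∧ algebraMap B B' e₀ = e := by
  have hinj : Function.Injective (algebraMap B B') := by
    apply IsLocalization.injective B' (M := Submonoid.powers ϖ)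
    rintro _ ⟨n, rfl⟩
    rw [mem_nonZeroDivisors_iff_right]
    intro b hb
    change b * ϖ ^ n = 0 at hb
    induction n with
    | zero => simpa using hb
    | succ n ih =>
      apply ih
      apply hreg
      rw [← hb, pow_succ]; ring
  have hunit : IsUnit (algebraMap B B' ϖ) := IsLocalization.Away.algebraMap_isUnit ϖ
  have key : ∀ (n : ℕ) (b : B), e * (algebraMap B B' ϖ) ^ n = algebraMap B B' b →
      ∃ e₀ : B, algebraMap B B' e₀ = e := by
    intro n
    induction n with
    | zero => intro b hb; exact ⟨b, by rw [← hb, pow_zero, mul_one]⟩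
    | succ n ih =>
      intro b hb
      have h1 : algebraMap B B' (b * b) = algebraMap B B' (b * ϖ ^ (n + 1)) := by
        rw [map_mul, map_mul, map_pow, ← hb]
        linear_combination ((algebraMap B B') ϖ ^ (n + 1)) ^ 2 * he
      have h2 : b * b = b * ϖ ^ (n + 1) := hinj h1
      have h3 : b ∈ Ideal.span {ϖ} := by
        apply hred
        rw [h2, pow_succ, ← mul_assoc]
        exact Ideal.mul_mem_left _ _ (Ideal.subset_span rfl)
      obtain ⟨c, rfl⟩ := Ideal.mem_span_singleton'.mp h3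
      apply ih c
      apply hunit.mul_left_injective
      change e * (algebraMap B B') ϖ ^ n * (algebraMap B B') ϖ = (algebraMap B B') c * (algebraMap B B') ϖ
      rw [mul_assoc, ← pow_succ, hb, map_mul]
  obtain ⟨⟨b, ⟨_, ⟨n, rfl⟩⟩⟩, hb⟩ := IsLocalization.surj (Submonoid.powers ϖ) e
  obtain ⟨e₀, he₀⟩ := key n b (by rw [← hb, map_pow])
  refine ⟨e₀, hinj ?_, he₀⟩
  rw [map_mul, he₀, he]

open PrimeSpectrum in
/-- A clopen decomposition of `D(ϖ) ⊆ Spec B` extends to a clopen decomposition of `Spec B`, when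
`ϖ` is regular and `B/ϖ` is reduced. -/
lemma exists_idem_primeSpectrum {B : Type*} [CommRing B] (ϖ : B) (hreg : ∀ b : B, ϖ * b = 0 → b = 0)
    (hred : ∀ b : B, b * b ∈ Ideal.span {ϖ} → b ∈ Ideal.span {ϖ})
    (U' V' : Set (PrimeSpectrum B)) (hU : IsOpen U') (hV : IsOpen V') (hdisj : Disjoint U' V')
    (hcov : U' ∪ V' = basicOpen ϖ) :
    ∃ e₀ : B, e₀ * e₀ = e₀ ∧ (basicOpen e₀ : Set (PrimeSpectrum B)) ∩ basicOpen ϖ = U' ∧
      (basicOpen (1 - e₀) : Set (PrimeSpectrum B)) ∩ basicOpen ϖ = V' := by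
  let B' := Localization.Away ϖ
  let c : PrimeSpectrum B' → PrimeSpectrum B := comap (algebraMap B B')
  have hc : Continuous c := continuous_comap (algebraMap B B')
  have hrange : Set.range c = basicOpen ϖ := localization_away_comap_range B' ϖ
  have hsV : (c ⁻¹' U')ᶜ = c ⁻¹' V' := by
    ext q
    have hq : c q ∈ U' ∪ V' := by rw [hcov, ← hrange]; exact ⟨q, rfl⟩
    constructor
    · intro h
      exact hq.resolve_left h
    · intro h h'
      exact Set.disjoint_left.mp hdisj h' h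
  have hclopen : IsClopen (c ⁻¹' U') :=
    ⟨by rw [← isOpen_compl_iff, hsV]; exact hV.preimage hc, hU.preimage hc⟩
  obtain ⟨e, he, hse⟩ := PrimeSpectrum.isClopen_iff.mp hclopen
  obtain ⟨e₀, he₀, hee₀⟩ := exists_idem_of_away (B' := B') ϖ hreg hred e he
  have hmem : ∀ q : PrimeSpectrum B', (c q ∈ basicOpen e₀ ↔ q ∈ c ⁻¹' U') := by
    intro q
    rw [hse]
    change e₀ ∉ (c q).asIdeal ↔ e ∉ q.asIdeal
    rw [← hee₀]
    rfl
  have hmem' : ∀ q : PrimeSpectrum B', (c q ∈ basicOpen (1 - e₀) ↔ q ∉ c ⁻¹' U') := by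
    intro q
    rw [← hmem]
    change (1 - e₀) ∉ (c q).asIdeal ↔ ¬ (e₀ ∉ (c q).asIdeal)
    rw [not_not]
    constructor
    · intro h
      have : e₀ * (1 - e₀) ∈ (c q).asIdeal := by
        have : e₀ * (1 - e₀) = 0 := by linear_combination -he₀
        rw [this]; exact Ideal.zero_mem _
      exact ((c q).isPrime.mem_or_mem this).resolve_right h
    · intro h h'
      apply (c q).isPrime.ne_top
      rw [Ideal.eq_top_iff_one]
      have := Ideal.add_mem _ h h'
      simpa using this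
  refine ⟨e₀, he₀, ?_, ?_⟩
  · ext p
    constructor
    · rintro ⟨hp1, hp2⟩
      rw [← hrange] at hp2
      obtain ⟨q, rfl⟩ := hp2
      exact (hmem q).mp hp1
    · intro hp
      have hp2 : p ∈ (basicOpen ϖ : Set (PrimeSpectrum B)) := by
        rw [← hcov]; exact Or.inl hp
      refine ⟨?_, hp2⟩
      rw [← hrange] at hp2
      obtain ⟨q, rfl⟩ := hp2
      exact (hmem q).mpr hp
  · ext p
    constructor
    · rintro ⟨hp1, hp2⟩
      rw [← hrange] at hp2
      obtain ⟨q, rfl⟩ := hp2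
      have := (hmem' q).mp hp1
      have hq : c q ∈ U' ∪ V' := by rw [hcov, ← hrange]; exact ⟨q, rfl⟩
      exact hq.resolve_left this
    · intro hp
      have hp2 : p ∈ (basicOpen ϖ : Set (PrimeSpectrum B)) := by
        rw [← hcov]; exact Or.inr hp
      refine ⟨?_, hp2⟩
      rw [← hrange] at hp2
      obtain ⟨q, rfl⟩ := hp2
      exact (hmem' q).mpr (fun h' => Set.disjoint_left.mp hdisj h' hp)

variable {R : Type u} [CommRing R] {X : Scheme.{u}} (f : X ⟶ Spec (CommRingCat.of R))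

/-- The canonical ring map `R → Γ(X, ⊤)`. -/
noncomputable def toΓ : R →+* Γ(X, ⊤) :=
  (f.appTop).hom.comp (Scheme.ΓSpecIso (CommRingCat.of R)).inv.hom

/-- The canonical ring map `R → 𝒪_{X,x}`. -/
noncomputable def toStalkX (x : X) : R →+* X.presheaf.stalk x :=
  (X.presheaf.germ ⊤ x trivial).hom.comp (toΓ f)

/-- The canonical ring map `R → Γ(X, G)`. -/
noncomputable def toΓG (G : X.Opens) : R →+* Γ(X, G) :=
  (X.presheaf.map (homOfLE (le_top : G ≤ ⊤)).op).hom.comp (toΓ f)

lemma germ_toΓG (G : X.Opens) (x : X) (hx : x ∈ G) (r : R) :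
    X.presheaf.germ G x hx (toΓG f G r) = toStalkX f x r := by
  simp only [toΓG, toStalkX, RingHom.comp_apply]
  exact TopCat.Presheaf.germ_res_apply X.presheaf (homOfLE (le_top : G ≤ ⊤)) x hx _

set_option backward.isDefEq.respectTransparency.types false in
lemma fibreIdeal_eq (x : X) :
    Ideal.map (f.stalkMap x).hom (maximalIdeal ((Spec (CommRingCat.of R)).presheaf.stalk (f x))) =
      Ideal.map (toStalkX f x) (f x).asIdeal := by
  let k : Algebra R ((Spec (CommRingCat.of R)).presheaf.stalk (f x)) :=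
    StructureSheaf.stalkAlgebra R (f x)
  have hloc : IsLocalization.AtPrime ((Spec (CommRingCat.of R)).presheaf.stalk (f x)) (f x).asIdeal :=
    StructureSheaf.IsLocalization.to_stalk R (f x)
  rw [← IsLocalization.AtPrime.map_eq_maximalIdeal (f x).asIdeal
    ((Spec (CommRingCat.of R)).presheaf.stalk (f x)), Ideal.map_map]
  congr 1
  ext r
  simp only [RingHom.comp_apply, toStalkX, toΓ]
  have := Scheme.Hom.germ_stalkMap_apply f ⊤ x trivial ((Scheme.ΓSpecIso (CommRingCat.of R)).inv r)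
  erw [← this]
  rfl

/-- At a point of the closed fibre, `𝒪_{X,x}/ϖ` is reduced when the closed fibre is reduced. -/
lemma mem_span_of_sq_mem_stalk [IsLocalRing R] (π : R) (hπ : maximalIdeal R = Ideal.span {π})
    (hred : IsReduced (f.fiber (closedPoint R))) (x : X) (hx : f x = closedPoint R)
    (a : X.presheaf.stalk x) (ha : a * a ∈ Ideal.span {toStalkX f x π}) :
    a ∈ Ideal.span {toStalkX f x π} := by
  have hred' : IsReduced (f.fiber (f x)) := by rw [hx]; exact hred
  have hI : Ideal.map (f.stalkMap x).hom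
      (maximalIdeal ((Spec (CommRingCat.of R)).presheaf.stalk (f x))) =
      Ideal.span {toStalkX f x π} := by
    rw [fibreIdeal_eq, hx]
    change Ideal.map (toStalkX f x) (maximalIdeal R) = _
    rw [hπ, Ideal.map_span, Set.image_singleton]
  have hRed : IsReduced (X.presheaf.stalk x ⧸ Ideal.map (f.stalkMap x).hom
      (maximalIdeal ((Spec (CommRingCat.of R)).presheaf.stalk (f x)))) :=
    isReduced_of_injective (Groth.Agent.Lib.FibreStalk33.fibreStalkEquiv f x).toRingHom
      (Groth.Agent.Lib.FibreStalk33.fibreStalkEquiv f x).injective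
  rw [← hI] at ha ⊢
  rw [← Ideal.Quotient.eq_zero_iff_mem] at ha ⊢
  rw [map_mul] at ha
  exact IsReduced.eq_zero _ ⟨2, by rw [pow_two]; exact ha⟩

/-- `D(π)` as an open of the scheme `Spec R`. -/
noncomputable def Dπ (π : R) : (Spec (CommRingCat.of R)).Opens :=
  (Spec (CommRingCat.of R)).basicOpen ((Scheme.ΓSpecIso (CommRingCat.of R)).inv π)

lemma mem_Dπ (π : R) (p : Spec (CommRingCat.of R)) : p ∈ Dπ π ↔ π ∉ p.asIdeal := by
  rw [Dπ, basicOpen_eq_of_affine]
  rfl

/-- the preimage of `D(π)` is the basic open of the image of `π`. -/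
lemma preimage_Dπ_eq (π : R) : f ⁻¹ᵁ (Dπ π) = X.basicOpen (toΓ f π) :=
  Scheme.preimage_basicOpen_top f ((Scheme.ΓSpecIso (CommRingCat.of R)).inv π)

lemma isUnit_toStalkX_of_not_mem (π : R) (x : X) (hx : π ∉ (f x).asIdeal) :
    IsUnit (toStalkX f x π) := by
  have h1 : x ∈ f ⁻¹ᵁ (Dπ π) := (mem_Dπ π (f x)).mpr hx
  rw [preimage_Dπ_eq] at h1
  exact (Scheme.mem_basicOpen_top X _ x).mp h1

lemma basicOpen_toΓG (G : X.Opens) (π : R) :
    X.basicOpen (toΓG f G π) = G ⊓ f ⁻¹ᵁ (Dπ π) := by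
  rw [preimage_Dπ_eq]
  exact Scheme.basicOpen_res X _ _

/-- `Γ(X, G)/ϖ` is reduced for affine opens `G`. -/
lemma mem_span_of_sq_mem [IsLocalRing R] (π : R) (hπ : maximalIdeal R = Ideal.span {π})
    (hred : IsReduced (f.fiber (closedPoint R))) {G : X.Opens} (hG : IsAffineOpen G)
    (b : Γ(X, G)) (hb : b * b ∈ Ideal.span {toΓG f G π}) : b ∈ Ideal.span {toΓG f G π} := by
  rw [hG.mem_ideal_iff]
  intro x hx
  rw [Ideal.map_span, Set.image_singleton]
  change _ ∈ Ideal.span {X.presheaf.germ G x hx (toΓG f G π)}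
  rw [germ_toΓG]
  by_cases hfx : f x = closedPoint R
  · apply mem_span_of_sq_mem_stalk f π hπ hred x hfx
    have := Ideal.mem_map_of_mem (X.presheaf.germ G x hx).hom hb
    rw [Ideal.map_span, Set.image_singleton] at this
    change _ ∈ Ideal.span {X.presheaf.germ G x hx (toΓG f G π)} at this
    rw [germ_toΓG] at this
    rw [← map_mul]
    exact this
  · have hπx : π ∉ (f x).asIdeal := by
      intro h
      apply hfx
      apply PrimeSpectrum.ext
      change (f x).asIdeal = maximalIdeal R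
      apply le_antisymm (le_maximalIdeal (f x).isPrime.ne_top)
      rw [hπ, Ideal.span_singleton_le_iff_mem]
      exact h
    have := isUnit_toStalkX_of_not_mem f π x hπx
    rw [Ideal.span_singleton_eq_top.mpr this]
    trivial

/-- `ϖ` is regular on `Γ(X, G)` for affine opens `G` when `f` is flat. -/
lemma regular_toΓG [IsDomain R] [Flat f] (π : R) (hπ0 : π ≠ 0) {G : X.Opens} (hG : IsAffineOpen G)
    (b : Γ(X, G)) (hb : toΓG f G π * b = 0) : b = 0 := by
  have h1 := Flat.flat_appLE f (U := ⊤) (isAffineOpen_top _) hG le_top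
  have h2 : (Scheme.ΓSpecIso (CommRingCat.of R)).inv.hom.Flat := by
    apply RingHom.Flat.of_bijective
    exact ConcreteCategory.bijective_of_isIso (Scheme.ΓSpecIso (CommRingCat.of R)).inv
  have h3 : (toΓG f G).Flat := by
    have := h2.comp h1
    convert this using 1
    rw [toΓG, toΓ, ← RingHom.comp_assoc]
    rfl
  let _ := (toΓG f G).toAlgebra
  have h4 : Module.Flat R Γ(X, G) := h3
  have h5 := Module.Flat.isSMulRegular_of_nonZeroDivisors (M := Γ(X, G))
    (mem_nonZeroDivisors_of_ne_zero hπ0)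
  apply h5
  simp only [smul_zero]
  rw [Algebra.smul_def]
  exact hb

/-- Extension of a clopen decomposition of `G ∩ W` to one of the affine open `G`. -/
lemma exists_extension [IsLocalRing R] [IsDomain R] [Flat f] (π : R)
    (hπ : maximalIdeal R = Ideal.span {π}) (hπ0 : π ≠ 0)
    (hred : IsReduced (f.fiber (closedPoint R))) {G : X.Opens} (hG : IsAffineOpen G)
    (U V : X.Opens) (hdisj : U ⊓ V = ⊥) (hcov : U ⊔ V = f ⁻¹ᵁ Dπ π) :
    ∃ D D' : X.Opens, D ⊔ D' = G ∧ D ⊓ f ⁻¹ᵁ Dπ π = U ⊓ G ∧ D' ⊓ f ⁻¹ᵁ Dπ π = V ⊓ G := by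
  set ϖ := toΓG f G π with hϖ
  set W := f ⁻¹ᵁ Dπ π with hW
  let φ := hG.fromSpec
  let φ' : PrimeSpectrum Γ(X, G) → X := fun p => φ p
  have hrange : Set.range φ' = (G : Set X) := hG.range_fromSpec
  have hφG : ∀ p, φ' p ∈ G := fun p => by
    have : φ' p ∈ Set.range φ' := ⟨p, rfl⟩
    rw [hrange] at this
    exact this
  have hpre : ∀ g : Γ(X, G), φ' ⁻¹' (X.basicOpen g : Set X) =
      (PrimeSpectrum.basicOpen g : Set (PrimeSpectrum Γ(X, G))) := fun g => by
    have := hG.fromSpec_preimage_basicOpen g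
    exact congrArg (fun O : (Spec Γ(X, G)).Opens => (O : Set (Spec Γ(X, G)))) this
  have hpreW : φ' ⁻¹' (W : Set X) = (PrimeSpectrum.basicOpen ϖ : Set (PrimeSpectrum Γ(X, G))) := by
    rw [← hpre, hϖ, basicOpen_toΓG]
    ext p
    simp only [Set.mem_preimage, SetLike.mem_coe]
    exact ⟨fun h => ⟨hφG p, h⟩, fun h => h.2⟩
  have hdisj' : Disjoint (φ' ⁻¹' (U : Set X)) (φ' ⁻¹' (V : Set X)) := by
    rw [Set.disjoint_left]
    intro p hp1 hp2
    have : φ' p ∈ U ⊓ V := ⟨hp1, hp2⟩
    rw [hdisj] at this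
    exact this
  have hcov' : φ' ⁻¹' (U : Set X) ∪ φ' ⁻¹' (V : Set X) =
      (PrimeSpectrum.basicOpen ϖ : Set (PrimeSpectrum Γ(X, G))) := by
    rw [← hpreW, ← hcov]
    rfl
  have hcont : Continuous φ' := φ.continuous
  obtain ⟨e₀, he₀, hU', hV'⟩ := exists_idem_primeSpectrum ϖ (regular_toΓG f π hπ0 hG)
    (mem_span_of_sq_mem f π hπ hred hG) _ _ (U.isOpen.preimage hcont) (V.isOpen.preimage hcont)
    hdisj' hcov'
  -- comparing opens inside `G` via preimages
  have hcmp : ∀ A A' : X.Opens, A ≤ G → A' ≤ G →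
      φ' ⁻¹' (A : Set X) = φ' ⁻¹' (A' : Set X) → A = A' := by
    intro A A' hA hA' h
    apply Opens.ext
    apply (Set.preimage_eq_preimage' (f := φ') _ _).mp h
    · rw [hrange]; exact hA
    · rw [hrange]; exact hA'
  refine ⟨X.basicOpen e₀, X.basicOpen (1 - e₀), ?_, ?_, ?_⟩
  · apply le_antisymm (sup_le (X.basicOpen_le _) (X.basicOpen_le _))
    have := X.basicOpen_add_le (f := e₀) (g := 1 - e₀)
    rw [add_sub_cancel, Scheme.basicOpen_one] at this
    exact this
  · apply hcmp _ _ (inf_le_left.trans (X.basicOpen_le _)) inf_le_right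
    change φ' ⁻¹' (X.basicOpen e₀ : Set X) ∩ φ' ⁻¹' (W : Set X) =
      φ' ⁻¹' (U : Set X) ∩ φ' ⁻¹' (G : Set X)
    rw [hpre, hpreW, hU']
    symm
    rw [Set.inter_eq_left]
    intro p _
    exact hφG p
  · apply hcmp _ _ (inf_le_left.trans (X.basicOpen_le _)) inf_le_right
    change φ' ⁻¹' (X.basicOpen (1 - e₀) : Set X) ∩ φ' ⁻¹' (W : Set X) =
      φ' ⁻¹' (V : Set X) ∩ φ' ⁻¹' (G : Set X)
    rw [hpre, hpreW, hV']
    symm
    rw [Set.inter_eq_left]
    intro p _
    exact hφG p

/-- The generic fibre is dense when `f` is flat. -/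
lemma dense_preimage_Dπ [IsDomain R] [Flat f] (π : R) (hπ0 : π ≠ 0) (O : X.Opens)
    (hO : O ⊓ f ⁻¹ᵁ Dπ π = ⊥) : O = ⊥ := by
  by_contra hne
  obtain ⟨x, hx⟩ : ∃ x, x ∈ O := by
    by_contra h
    push Not at h
    exact hne (Opens.ext (Set.eq_empty_of_forall_notMem h))
  obtain ⟨_, ⟨G, hG, rfl⟩, hxG, hGO⟩ :=
    X.isBasis_affineOpens.exists_subset_of_mem_open hx O.isOpen
  have hbot : X.basicOpen (toΓG f G π) = ⊥ := by
    rw [basicOpen_toΓG]
    exact le_bot_iff.mp ((inf_le_inf_right _ hGO).trans hO.le)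
  have h1 := IsAffineOpen.fromSpec_preimage_basicOpen hG (toΓG f G π)
  rw [hbot] at h1
  have hnil : IsNilpotent (toΓG f G π) :=
    (PrimeSpectrum.basicOpen_eq_bot_iff _).mp h1.symm
  obtain ⟨n, hn⟩ := hnil
  have key : ∀ (n : ℕ) (b : Γ(X, G)), toΓG f G π ^ n * b = 0 → b = 0 := by
    intro n
    induction n with
    | zero => intro b hb; simpa using hb
    | succ n ih =>
      intro b hb
      apply ih
      apply regular_toΓG f π hπ0 hG
      rw [← hb, pow_succ]; ring
  have h10 : (1 : Γ(X, G)) = 0 := key n 1 (by rw [mul_one, hn])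
  have : Nonempty G := ⟨⟨x, hxG⟩⟩
  exact one_ne_zero h10

theorem isPreconnected_preimage_Dπ [IsLocalRing R] [IsDomain R] [Flat f] [ConnectedSpace X] (π : R)
    (hπ : maximalIdeal R = Ideal.span {π}) (hπ0 : π ≠ 0)
    (hred : IsReduced (f.fiber (closedPoint R))) :
    _root_.IsPreconnected ((f ⁻¹ᵁ Dπ π : X.Opens) : Set X) := by
  set W := f ⁻¹ᵁ Dπ π with hW
  rw [isPreconnected_iff_subset_of_disjoint]
  intro u v hu hv hsub hdisj
  let U : X.Opens := ⟨u, hu⟩ ⊓ W
  let V : X.Opens := ⟨v, hv⟩ ⊓ W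
  have hUV : U ⊓ V = ⊥ := by
    rw [← le_bot_iff]
    rintro x ⟨⟨hxu, hxW⟩, ⟨hxv, _⟩⟩
    have : x ∈ (W : Set X) ∩ (u ∩ v) := ⟨hxW, hxu, hxv⟩
    rw [hdisj] at this
    exact this
  have hcov : U ⊔ V = W := by
    apply le_antisymm (sup_le inf_le_right inf_le_right)
    intro x hx
    rcases hsub hx with h | h
    · exact Or.inl ⟨h, hx⟩
    · exact Or.inr ⟨h, hx⟩
  choose D D' hDD' hD hD' using fun G : X.affineOpens =>
    exists_extension f π hπ hπ0 hred G.2 U V hUV hcov
  replace hD : ∀ G, D G ⊓ W = U ⊓ G := hD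
  replace hD' : ∀ G, D' G ⊓ W = V ⊓ G := hD'
  let Ut : X.Opens := ⨆ G, D G
  let Vt : X.Opens := ⨆ G, D' G
  have h1 : Ut ⊔ Vt = ⊤ := by
    rw [← iSup_sup_eq]
    simp_rw [hDD']
    exact iSup_affineOpens_eq_top X
  have h2 : Ut ⊓ W = U := by
    change (⨆ G, D G) ⊓ W = U
    rw [iSup_inf_eq]
    simp_rw [hD]
    rw [← inf_iSup_eq, iSup_affineOpens_eq_top X, inf_top_eq]
  have h3 : Vt ⊓ W = V := by
    change (⨆ G, D' G) ⊓ W = V
    rw [iSup_inf_eq]
    simp_rw [hD']
    rw [← inf_iSup_eq, iSup_affineOpens_eq_top X, inf_top_eq]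
  have h4 : Ut ⊓ Vt = ⊥ := by
    apply dense_preimage_Dπ f π hπ0
    rw [← hW]
    have : Ut ⊓ Vt ⊓ W = (Ut ⊓ W) ⊓ (Vt ⊓ W) := by
      rw [inf_inf_distrib_right]
    rw [this, h2, h3, hUV]
  have hcompl : (Ut : Set X)ᶜ = (Vt : Set X) := by
    ext x
    constructor
    · intro hx
      have : x ∈ Ut ⊔ Vt := by rw [h1]; trivial
      exact (this : x ∈ (Ut : Set X) ∪ (Vt : Set X)).resolve_left hx
    · intro hx hx'
      have : x ∈ Ut ⊓ Vt := ⟨hx', hx⟩
      rw [h4] at this
      exact this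
  have hclopen : IsClopen (Ut : Set X) :=
    ⟨by rw [← isOpen_compl_iff, hcompl]; exact Vt.isOpen, Ut.isOpen⟩
  rcases isClopen_iff.mp hclopen with h | h
  · right
    intro x hx
    have hxUV : x ∈ U ⊔ V := by rw [hcov]; exact hx
    have hxU : x ∉ U := by
      rw [← h2]
      rintro ⟨hx1, _⟩
      have : x ∈ (Ut : Set X) := hx1
      rw [h] at this
      exact this
    have : x ∈ V := (hxUV : x ∈ (U : Set X) ∪ (V : Set X)).resolve_left hxU
    exact this.1
  · left
    intro x hx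
    have hxUV : x ∈ U ⊔ V := by rw [hcov]; exact hx
    have hxV : x ∉ V := by
      rw [← h3]
      rintro ⟨hx1, _⟩
      have : x ∈ (Vt : Set X) := hx1
      rw [← hcompl, h] at this
      exact this (Set.mem_univ x)
    have : x ∈ U := (hxUV : x ∈ (U : Set X) ∪ (V : Set X)).resolve_right hxV
    exact this.1

/-- Over a DVR, the preimage of the generic point is the preimage of `D(π)`. -/
lemma preimage_generic_eq [IsDomain R] [IsDiscreteValuationRing R] (π : R)
    (hπ : maximalIdeal R = Ideal.span {π}) (hπ0 : π ≠ 0) :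
    f ⁻¹' {(⟨⊥, Ideal.isPrime_bot⟩ : PrimeSpectrum R)} = ((f ⁻¹ᵁ Dπ π : X.Opens) : Set X) := by
  ext x
  simp only [Set.mem_preimage]
  change _ ↔ f x ∈ Dπ π
  rw [mem_Dπ]
  constructor
  · intro h h'
    rw [h] at h'
    exact hπ0 (by simpa using h')
  · intro h
    apply PrimeSpectrum.ext
    change (f x).asIdeal = ⊥
    by_contra hne
    have hmax : (f x).asIdeal.IsMaximal := (f x).isPrime.isMaximal hne
    have : (f x).asIdeal = maximalIdeal R := IsLocalRing.eq_maximalIdeal hmax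
    apply h
    rw [this, hπ]
    exact Ideal.subset_span rfl

end Groth.Agent.Lib.H47DvrFibre
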