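import Groth.Agent.Lib.H86ReducedAt
import Groth.Agent.Lib.AlgSpQC
import Groth.Agent.Lib.AlgSpBasic
import Groth.Agent.Lib.AlgSpProper
import Groth.Agent.Lib.H86AlgSpPoints
import Groth.Agent.Lib.H86DecentDim
import Groth.Agent.Lib.AlgSpDecentPt91i
import Groth.Agent.Lib.H80DecentPt2
import Groth.Agent.S0436

/-!
# Reducedness of proper flat algebraic spaces over a DVR with reduced special fibre (owner: helper36)

* `toT`, `comm_toT`: structure morphism of a chart to the terminal sheaf `h_S`.
* `isPullback_yon_map`: `yon` turns pullback squares of schemes over `S` into pullback squares of sheaves.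
* `exists_chart_baseChange`: chart of a base change `X ×_{h_S} h_T`.
* `isReduced_chart_of_etaleLocally`: if one étale surjective chart is reduced, every étale chart is.
-/

set_option autoImplicit false
set_option linter.style.haveILetI false
universe u
open CategoryTheory CategoryTheory.Limits AlgebraicGeometry TopologicalSpace
open AlgSp

namespace Groth.Agent.Lib.AlgSpDvrRed36

variable {S : Scheme.{u}}

/-- The unique morphism from a scheme over `S` to `S` itself. -/
noncomputable def toT (U : Over S) : U ⟶ Over.mk (𝟙 S) := Over.homMk U.hom (by simp)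

@[simp] theorem toT_left (U : Over S) : (toT U).left = U.hom := rfl

theorem comm_toT {X : Sp S} (p : X ⟶ (yon S).obj (Over.mk (𝟙 S))) {U : Over S}
    (a : (yon S).obj U ⟶ X) : a ≫ p = (yon S).map (toT U) := by
  obtain ⟨g, hg⟩ := (yon S).map_surjective (a ≫ p)
  rw [← hg]
  congr 1
  exact Over.mkIdTerminal.hom_ext _ _

/-- `yon` sends squares of schemes over `S` that are pullbacks of schemes to pullbacks of sheaves. -/
theorem isPullback_yon_map {A B C D : Over S} {f : A ⟶ B} {g : A ⟶ C} {h : B ⟶ D} {k : C ⟶ D}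
    (H : IsPullback f.left g.left h.left k.left) :
    IsPullback ((yon S).map f) ((yon S).map g) ((yon S).map h) ((yon S).map k) := by
  have H' : IsPullback f g h k := IsPullback.of_map_of_faithful (Over.forget S) H
  exact H'.map (yon S)

/-- A chart of `X` over `h_S` base-changes to a chart of `X ×_{h_S} h_T`. -/
theorem exists_chart_baseChange {X X' : Sp S} (s : X ⟶ (yon S).obj (Over.mk (𝟙 S))) {T : Over S}
    {fst : X' ⟶ X} {snd : X' ⟶ (yon S).obj T}
    (sq : IsPullback fst snd s ((yon S).map (toT T)))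
    {U U' : Over S} (a : (yon S).obj U ⟶ X) (ι : U' ⟶ U) (τ : U' ⟶ T)
    (sqU : IsPullback ι.left τ.left U.hom T.hom) :
    ∃ a' : (yon S).obj U' ⟶ X', IsPullback a' ((yon S).map ι) fst a ∧ a' ≫ snd = (yon S).map τ := by
  have big : IsPullback ((yon S).map ι) ((yon S).map τ) ((yon S).map (toT U)) ((yon S).map (toT T)) :=
    isPullback_yon_map sqU
  have comm : ((yon S).map ι ≫ a) ≫ s = (yon S).map τ ≫ (yon S).map (toT T) := by
    rw [Category.assoc, comm_toT s a]; exact big.w
  refine ⟨sq.lift _ _ comm, ?_, sq.lift_snd _ _ comm⟩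
  refine IsPullback.of_right (h₁₂ := snd) (v₁₃ := (yon S).map (toT T)) (h₂₂ := s) ?_
    (sq.lift_fst _ _ comm) sq.flip
  rw [sq.lift_snd, comm_toT s a]
  exact big.flip

/-- If some étale surjective chart of `X` is reduced, every étale chart of `X` is reduced. -/
theorem isReduced_chart_of_etaleLocally {X : Sp S}
    (h : EtaleLocally (fun U => IsReduced U) X) {W : Over S} (b : (yon S).obj W ⟶ X)
    (hb : RepWith @Etale b) : IsReduced W.left := by
  obtain ⟨U, a, hae, has, hU⟩ := h
  haveI : IsReduced U.left := hU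
  have hst : ∀ w : ↥W.left, _root_.IsReduced ↥(W.left.presheaf.stalk w) := by
    intro w
    obtain ⟨u, hu⟩ := Groth.Agent.Lib.AlgSpQC.surjective_ofPt_of_repWith_surjective has
      (Points.ofPt b w)
    refine (Groth.Agent.Lib.H86ReducedAt.chart_indep_over
      (Q := fun U u => _root_.IsReduced ↥(U.left.presheaf.stalk u)) ?_ a b hae hb u w hu).1
      inferInstance
    intro W' U' s hs w'
    haveI := hs
    exact Groth.Agent.Lib.H86ReducedAt.isReduced_stalk_iff_of_etale s.left w'
  exact isReduced_of_isReduced_stalk _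

/-- Reducedness of a pullback only depends on the cospan up to an isomorphism of one leg. -/
theorem isReduced_pullback_of_isPullback {X Y Y' Z P : Scheme.{u}} {f : X ⟶ Z} {g : Y ⟶ Z}
    {p : P ⟶ X} {q : P ⟶ Y} (sq : IsPullback p q f g) (E : Y' ⟶ Y) [IsIso E] (g' : Y' ⟶ Z)
    (hg : g' = E ≫ g) [IsReduced P] : IsReduced (pullback f g') := by
  subst hg
  have sq' : IsPullback (pullback.fst f (E ≫ g)) (pullback.snd f (E ≫ g) ≫ E) f g :=
    IsPullback.of_iso (IsPullback.of_hasPullback f (E ≫ g)) (Iso.refl _) (Iso.refl _) (asIso E)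
      (Iso.refl _) (by simp) (by simp) (by simp) (by simp)
  exact isReduced_of_isOpenImmersion (sq'.isoIsPullback _ _ sq).hom

theorem fromSpecResidueField_closedPoint (R : Type u) [CommRing R] [IsLocalRing R] :
    ∃ (E : Spec ((Spec (CommRingCat.of R)).residueField (IsLocalRing.closedPoint R)) ⟶
        Spec (CommRingCat.of (IsLocalRing.ResidueField R))), IsIso E ∧
      (Spec (CommRingCat.of R)).fromSpecResidueField (IsLocalRing.closedPoint R) =
        E ≫ Spec.map (CommRingCat.ofHom (IsLocalRing.residue R)) := by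
  let m := IsLocalRing.maximalIdeal R
  let φ : (R ⧸ m) →+* m.ResidueField := algebraMap (R ⧸ m) m.ResidueField
  have hφ : Function.Bijective φ := Ideal.bijective_algebraMap_quotient_residueField m
  have i1 : IsIso (CommRingCat.ofHom φ) := (ConcreteCategory.isIso_iff_bijective _).2 hφ
  have i2 : IsIso (Spec.map (CommRingCat.ofHom φ)) := inferInstance
  have i3 : IsIso (Spec.map (Scheme.Spec.residueFieldIso (CommRingCat.of R)
      (IsLocalRing.closedPoint R)).inv) := inferInstance
  have h1 : Spec.map (CommRingCat.ofHom (algebraMap R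
      (IsLocalRing.closedPoint R).asIdeal.ResidueField)) =
      Spec.map (CommRingCat.ofHom φ) ≫ Spec.map (CommRingCat.ofHom (IsLocalRing.residue R)) := by
    rw [← Spec.map_comp]; rfl
  refine ⟨Spec.map (Scheme.Spec.residueFieldIso (CommRingCat.of R) (IsLocalRing.closedPoint R)).inv ≫
    Spec.map (CommRingCat.ofHom φ), IsIso.comp_isIso' i3 i2, ?_⟩
  rw [← Scheme.Spec.map_residueFieldIso_inv_eq_fromSpecResidueField, Category.assoc]
  exact congrArg _ h1

/-- If the base change of `f` along `Spec κ ⟶ Spec R` is reduced, then so is the closed fibre. -/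
theorem isReduced_fiber_closedPoint {R : Type u} [CommRing R] [IsLocalRing R] {X P : Scheme.{u}}
    (f : X ⟶ Spec (CommRingCat.of R))
    {p : P ⟶ X} {q : P ⟶ Spec (CommRingCat.of (IsLocalRing.ResidueField R))}
    (sq : IsPullback p q f (Spec.map (CommRingCat.ofHom (IsLocalRing.residue R)))) [IsReduced P] :
    IsReduced (f.fiber (IsLocalRing.closedPoint R)) := by
  obtain ⟨E, hE, h⟩ := fromSpecResidueField_closedPoint R
  exact isReduced_pullback_of_isPullback sq E _ h

/-- On points, the structure morphism to `h_S` is the structure morphism of a chart. -/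
theorem map_ofPt_toT {S : Scheme.{u}} {X : Sp S} (s : X ⟶ (yon S).obj (Over.mk (𝟙 S))) {U : Over S}
    (a : (yon S).obj U ⟶ X) (u : ↥U.left) :
    Points.map s (Points.ofPt a u) = Points.schemeHomeo (Over.mk (𝟙 S)) (U.hom u) := by
  rw [Points.map_ofPt, comm_toT s a, Points.ofPt_eq_map_ofScheme]
  exact Points.map_yon_map_apply (toT U) u

/-- Reduced-ness of an étale chart of a proper flat algebraic space over a DVR with reduced special fibre. -/
theorem isReduced_atlas (R : Type u) [CommRing R] [IsDomain R] [IsDiscreteValuationRing R]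
    {X : AlgSp.Space (Spec (CommRingCat.of R))}
    (s : X.obj ⟶ (AlgSp.yon (Spec (CommRingCat.of R))).obj (Over.mk (𝟙 _)))
    (hs1 : AlgSp.IsProperMor s) (hs2 : AlgSp.LocP @Flat s)
    (h0 : ∀ (X0 : AlgSp.Sp (Spec (CommRingCat.of R))) (fst : X0 ⟶ X.obj)
      (snd : X0 ⟶ (AlgSp.yon (Spec (CommRingCat.of R))).obj
        (Over.mk (Spec.map (CommRingCat.ofHom (IsLocalRing.residue R))))),
      IsPullback fst snd s ((AlgSp.yon (Spec (CommRingCat.of R))).map
        (Over.homMk (Spec.map (CommRingCat.ofHom (IsLocalRing.residue R))) (Category.comp_id _) :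
          Over.mk (Spec.map (CommRingCat.ofHom (IsLocalRing.residue R))) ⟶ Over.mk (𝟙 _))) →
      AlgSp.EtaleLocally (fun U => IsReduced U) X0)
    {U : Over (Spec (CommRingCat.of R))} (a : (yon _).obj U ⟶ X.obj) (ha : RepWith @Etale a)
    (has : RepWith @Surjective a) : IsReduced U.left := by
  let S := Spec (CommRingCat.of R)
  let T : Over S := Over.mk (𝟙 S)
  have hflat : Flat U.hom :=
    hs2 a (𝟙 _) (toT U) ha (Groth.Agent.Lib.AlgSpQC.repWith_id @Etale _)
      (by rw [comm_toT s a, Category.comp_id])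
  have hlft : LocallyOfFiniteType U.hom :=
    hs1.2.1.1 a (𝟙 _) (toT U) ha (Groth.Agent.Lib.AlgSpQC.repWith_id @Etale _)
      (by rw [comm_toT s a, Category.comp_id])
  haveI : IsLocallyNoetherian U.left := LocallyOfFiniteType.isLocallyNoetherian U.hom
  -- the special fibre of the chart is reduced
  let g0 : Spec (CommRingCat.of (IsLocalRing.ResidueField R)) ⟶ S :=
    Spec.map (CommRingCat.ofHom (IsLocalRing.residue R))
  let T0 : Over S := Over.mk g0
  have hX0 := h0 _ _ _ (IsPullback.of_hasPullback s ((yon S).map (toT T0)))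
  let U0 : Over S := Over.mk (pullback.snd U.hom g0 ≫ g0)
  let ι : U0 ⟶ U := Over.homMk (pullback.fst U.hom g0) pullback.condition
  let τ : U0 ⟶ T0 := Over.homMk (pullback.snd U.hom g0) rfl
  have sqU : IsPullback ι.left τ.left U.hom T0.hom := IsPullback.of_hasPullback U.hom g0
  obtain ⟨a0, sqa, -⟩ := exists_chart_baseChange s
    (IsPullback.of_hasPullback s ((yon S).map (toT T0))) a ι τ sqU
  have ha0 : RepWith @Etale a0 := Groth.Agent.Lib.AlgSpBasic.repWith_fst_of_isPullback _ sqa ha
  haveI : IsReduced (pullback U.hom g0) := isReduced_chart_of_etaleLocally hX0 a0 ha0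
  have hfib : IsReduced (U.hom.fiber (IsLocalRing.closedPoint R)) :=
    isReduced_fiber_closedPoint U.hom (IsPullback.of_hasPullback U.hom g0)
  obtain ⟨π, hπirr⟩ := IsDiscreteValuationRing.exists_irreducible R
  have hπ : IsLocalRing.maximalIdeal R = Ideal.span {π} := hπirr.maximalIdeal_eq
  have hπ0 : π ≠ 0 := hπirr.ne_zero
  -- decency, closedness
  have hT : IsAlgSpace ((yon S).obj T) := IsAlgSpace.yon_obj T
  have hqs : IsQuasiSeparatedMor s :=
    Groth.Agent.Lib.AlgSpBasic.repWith_mono (fun _ _ f hf => by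
      haveI : IsClosedImmersion f := hf; infer_instance) hs1.1
  have hdm : IsDecentMor s :=
    Groth.Agent.Lib.AlgSpDecentPt91.isDecentMor_of_isQuasiSeparatedMor X.property hT s hqs
  have hd : IsDecent X.obj :=
    Groth.Agent.Lib.H80DecentPt.isDecent_of_isDecentMor s hdm
      (Groth.Agent.Lib.H80DecentPt.isDecent_yon T)
  have hgen := Groth.Agent.Lib.H86DecentDim.generalizingMap_ofPt hd a ha
  have hcl : IsClosedMap (Points.map s) :=
    Groth.Agent.Lib.AlgSpProper.isClosedMor_of_isUnivClosedMor hT hs1.2.2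
  have hQ : ∀ {W U : Over S} (s : W ⟶ U), Etale s.left → ∀ w : ↥W.left,
      _root_.IsReduced ↥(W.left.presheaf.stalk w) ↔
        _root_.IsReduced ↥(U.left.presheaf.stalk (s.left w)) := by
    intro W' U' s hs w'
    haveI := hs
    exact Groth.Agent.Lib.H86ReducedAt.isReduced_stalk_iff_of_etale s.left w'
  have hstalk : ∀ u : ↥U.left, _root_.IsReduced ↥(U.left.presheaf.stalk u) := by
    intro u
    have hclosed : IsClosed (Points.map s '' closure {Points.ofPt a u}) :=
      hcl _ isClosed_closure
    have h1 : Points.schemeHomeo T (U.hom u) ∈ Points.map s '' closure {Points.ofPt a u} :=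
      ⟨Points.ofPt a u, subset_closure rfl, map_ofPt_toT s a u⟩
    have h2 : (U.hom u) ⤳ IsLocalRing.closedPoint R :=
      (PrimeSpectrum.le_iff_specializes _ _).mp
        (IsLocalRing.le_maximalIdeal (U.hom u).isPrime.ne_top)
    have h3 : Points.schemeHomeo T (U.hom u) ⤳ Points.schemeHomeo T (IsLocalRing.closedPoint R) :=
      h2.map (Points.schemeHomeo T).continuous
    obtain ⟨ξ', hξ'cl, hξ'⟩ := h3.mem_closed hclosed h1
    obtain ⟨u', rfl⟩ := Groth.Agent.Lib.H86AlgSpPoints.ofPt_surjective has ξ'
    have hu' : U.hom u' = IsLocalRing.closedPoint R := by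
      rw [map_ofPt_toT s a u'] at hξ'
      exact (Points.schemeHomeo T).injective hξ'
    have hsp : Points.ofPt a u ⤳ Points.ofPt a u' := specializes_iff_mem_closure.mpr hξ'cl
    obtain ⟨u'', hu''sp, hu''⟩ := hgen hsp
    haveI : _root_.IsReduced ↥(U.left.presheaf.stalk u') :=
      Groth.Agent.S0436.isReduced_stalk_of_closedFibre U.hom π hπ hπ0 hfib u' hu'
    have h4 : _root_.IsReduced ↥(U.left.presheaf.stalk u'') :=
      Groth.Agent.S0436.isReduced_stalk_of_specializes hu''sp
    exact (Groth.Agent.Lib.H86ReducedAt.chart_indep_over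
      (Q := fun U u => _root_.IsReduced ↥(U.left.presheaf.stalk u)) hQ a a ha ha u'' u hu'').1 h4
  exact isReduced_of_isReduced_stalk _


/-- The fraction field of a DVR is the localization away from a uniformizer. -/
theorem isLocalization_away_fractionRing (R : Type u) [CommRing R] [IsDomain R]
    [IsDiscreteValuationRing R] {π : R} (hπ : Irreducible π) (K : Type u) [Field K] [Algebra R K]
    [IsFractionRing R K] : IsLocalization.Away π K := by
  refine (IsLocalization.iff_of_le_of_exists_dvd (M := Submonoid.powers π) (S := K)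
    (nonZeroDivisors R) ?_ ?_).2 inferInstance
  · exact Submonoid.powers_le.2 (mem_nonZeroDivisors_of_ne_zero hπ.ne_zero)
  · intro n hn
    have hn0 : n ≠ 0 := nonZeroDivisors.ne_zero hn
    obtain ⟨k, u, rfl⟩ := IsDiscreteValuationRing.eq_unit_mul_pow_irreducible hn0 hπ
    exact ⟨π ^ k, ⟨k, rfl⟩, (Units.isUnit u).mul_left_dvd.2 dvd_rfl⟩

/-- The generic point of the spectrum of a DVR is open. -/
theorem isOpenImmersion_generic (R : Type u) [CommRing R] [IsDomain R] [IsDiscreteValuationRing R] :
    IsOpenImmersion (Spec.map (CommRingCat.ofHom (algebraMap R (FractionRing R)))) := by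
  obtain ⟨π, hπirr⟩ := IsDiscreteValuationRing.exists_irreducible R
  haveI := isLocalization_away_fractionRing R hπirr (FractionRing R)
  exact IsOpenImmersion.of_isLocalization π

/-- A proper flat algebraic space over a DVR with reduced special fibre is reduced, and so is its generic fibre. -/
theorem reduced_of_proper_flat (R : Type u) [CommRing R] [IsDomain R] [IsDiscreteValuationRing R]
    {X : AlgSp.Space (Spec (CommRingCat.of R))}
    (s : X.obj ⟶ (AlgSp.yon (Spec (CommRingCat.of R))).obj (Over.mk (𝟙 _)))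
    (hs1 : AlgSp.IsProperMor s) (hs2 : AlgSp.LocP @Flat s)
    (h0 : ∀ (X0 : AlgSp.Sp (Spec (CommRingCat.of R))) (fst : X0 ⟶ X.obj)
      (snd : X0 ⟶ (AlgSp.yon (Spec (CommRingCat.of R))).obj
        (Over.mk (Spec.map (CommRingCat.ofHom (IsLocalRing.residue R))))),
      IsPullback fst snd s ((AlgSp.yon (Spec (CommRingCat.of R))).map
        (Over.homMk (Spec.map (CommRingCat.ofHom (IsLocalRing.residue R))) (Category.comp_id _) :
          Over.mk (Spec.map (CommRingCat.ofHom (IsLocalRing.residue R))) ⟶ Over.mk (𝟙 _))) →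
      AlgSp.EtaleLocally (fun U => IsReduced U) X0) :
    AlgSp.EtaleLocally (fun U => IsReduced U) X.obj ∧
      ∀ (Xη : AlgSp.Sp (Spec (CommRingCat.of R))) (fst : Xη ⟶ X.obj)
        (snd : Xη ⟶ (AlgSp.yon (Spec (CommRingCat.of R))).obj
          (Over.mk (Spec.map (CommRingCat.ofHom (algebraMap R (FractionRing R)))))),
        IsPullback fst snd s ((AlgSp.yon (Spec (CommRingCat.of R))).map
          (Over.homMk (Spec.map (CommRingCat.ofHom (algebraMap R (FractionRing R)))) (Category.comp_id _) :
            Over.mk (Spec.map (CommRingCat.ofHom (algebraMap R (FractionRing R)))) ⟶ Over.mk (𝟙 _))) →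
        AlgSp.EtaleLocally (fun U => IsReduced U) Xη := by
  obtain ⟨U, a, ha, has⟩ := X.property.atlas
  have hU : IsReduced U.left := isReduced_atlas R s hs1 hs2 h0 a ha has
  refine ⟨⟨U, a, ha, has, hU⟩, ?_⟩
  intro Xη fst snd sq
  let S := Spec (CommRingCat.of R)
  let gη : Spec (CommRingCat.of (FractionRing R)) ⟶ S :=
    Spec.map (CommRingCat.ofHom (algebraMap R (FractionRing R)))
  let Tη : Over S := Over.mk gη
  let Uη : Over S := Over.mk (pullback.snd U.hom gη ≫ gη)
  let ι : Uη ⟶ U := Over.homMk (pullback.fst U.hom gη) pullback.condition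
  let τ : Uη ⟶ Tη := Over.homMk (pullback.snd U.hom gη) rfl
  have sqU : IsPullback ι.left τ.left U.hom Tη.hom := IsPullback.of_hasPullback U.hom gη
  obtain ⟨aη, sqa, -⟩ := exists_chart_baseChange (T := Tη) s sq a ι τ sqU
  haveI : IsOpenImmersion gη := isOpenImmersion_generic R
  refine ⟨Uη, aη, Groth.Agent.Lib.AlgSpBasic.repWith_fst_of_isPullback _ sqa ha,
    Groth.Agent.Lib.AlgSpBasic.repWith_fst_of_isPullback _ sqa has, ?_⟩
  change IsReduced (pullback U.hom gη)
  exact isReduced_of_isOpenImmersion (pullback.fst U.hom gη)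

end Groth.Agent.Lib.AlgSpDvrRed36
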