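import Groth.Agent.Lib.CechLow

/-!
# Maps of Cech complexes and a two-out-of-three lemma for Cech acyclicity

For a short complex of presheaves of abelian groups `P₁ ⟶ P₂ ⟶ P₃` which is short exact on all
finite products of members of a family `Y`, vanishing of `Ȟ^{p+2}(P₁)` and `Ȟ^{p+1}(P₂)` implies
vanishing of `Ȟ^{p+1}(P₃)` (diagram chase, no long exact sequence needed).
-/

universe w v u

open CategoryTheory Limits Opposite

namespace Groth.Agent.Lib.CechLES

open Groth.Agent.Lib.CechLow

variable {D : Type u} [Category.{v} D] [HasFiniteProducts D]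
  {ι : Type w} (Y : ι → D)

section Map

variable {P Q : Dᵒᵖ ⥤ AddCommGrpCat.{w}} (α : P ⟶ Q)

lemma map_f (n : ℕ) : ((cechComplexFunctor Y).map α).f n =
    Limits.Pi.map (fun a : Fin (n + 1) → ι => α.app (op (∏ᶜ fun k => Y (a k)))) := rfl

lemma map_f_comp (n : ℕ) (a : Fin (n + 1) → ι) :
    ((cechComplexFunctor Y).map α).f n ≫ comp Y Q n a =
      comp Y P n a ≫ α.app (op (∏ᶜ fun k => Y (a k))) := by
  rw [map_f]
  exact Limits.Pi.map_π _ a

lemma comp_map_apply (n : ℕ) (a : Fin (n + 1) → ι) (x : ((cechComplexFunctor Y).obj P).X n) :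
    comp Y Q n a (((cechComplexFunctor Y).map α).f n x) =
      α.app (op (∏ᶜ fun k => Y (a k))) (comp Y P n a x) := by
  have h := ConcreteCategory.congr_hom (map_f_comp Y α n a) x
  rwa [ConcreteCategory.comp_apply, ConcreteCategory.comp_apply] at h

lemma map_d_apply (n m : ℕ) (x : ((cechComplexFunctor Y).obj P).X n) :
    ((cechComplexFunctor Y).obj Q).d n m (((cechComplexFunctor Y).map α).f n x) =
      ((cechComplexFunctor Y).map α).f m (((cechComplexFunctor Y).obj P).d n m x) := by
  have h := ConcreteCategory.congr_hom (((cechComplexFunctor Y).map α).comm n m) x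
  rw [ConcreteCategory.comp_apply, ConcreteCategory.comp_apply] at h
  exact h

end Map

section Chase

variable {P₁ P₂ P₃ : Dᵒᵖ ⥤ AddCommGrpCat.{w}} (f : P₁ ⟶ P₂) (g : P₂ ⟶ P₃)

/-- Two-out-of-three for Cech acyclicity: if `P₁ ⟶ P₂ ⟶ P₃` is short exact on all finite products
of members of the family, `Ȟ^{p+2}(P₁) = 0` and `Ȟ^{p+1}(P₂) = 0`, then `Ȟ^{p+1}(P₃) = 0`. -/
theorem isZero_homology_three (w : f ≫ g = 0)
    (hf : ∀ (n : ℕ) (a : Fin (n + 1) → ι),
      Function.Injective (f.app (op (∏ᶜ fun k => Y (a k)))))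
    (hfg : ∀ (n : ℕ) (a : Fin (n + 1) → ι) (y : P₂.obj (op (∏ᶜ fun k => Y (a k)))),
      g.app _ y = 0 → ∃ x, f.app _ x = y)
    (hg : ∀ (n : ℕ) (a : Fin (n + 1) → ι),
      Function.Surjective (g.app (op (∏ᶜ fun k => Y (a k)))))
    (p : ℕ) (h₁ : IsZero (((cechComplexFunctor Y).obj P₁).homology (p + 2)))
    (h₂ : IsZero (((cechComplexFunctor Y).obj P₂).homology (p + 1))) :
    IsZero (((cechComplexFunctor Y).obj P₃).homology (p + 1)) := by
  apply isZero_homology_of_forall
  intro z hz
  -- lift `z` to `y`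
  choose ys hys using fun a : Fin (p + 1 + 1) → ι => hg (p + 1) a (comp Y P₃ (p + 1) a z)
  let y := mkCochain Y P₂ (p + 1) ys
  have hy : ((cechComplexFunctor Y).map g).f (p + 1) y = z := by
    apply cochain_ext
    intro a
    rw [comp_map_apply, comp_mkCochain, hys]
  -- `d y` comes from `x`
  have hdy : ((cechComplexFunctor Y).map g).f (p + 2)
      (((cechComplexFunctor Y).obj P₂).d (p + 1) (p + 2) y) = 0 := by
    rw [← map_d_apply, hy, hz]
  have hx' : ∀ a : Fin (p + 2 + 1) → ι, ∃ x, f.app _ x =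
      comp Y P₂ (p + 2) a (((cechComplexFunctor Y).obj P₂).d (p + 1) (p + 2) y) := by
    intro a
    apply hfg (p + 2) a
    rw [← comp_map_apply, hdy, map_zero]
  choose xs hxs using hx'
  let x := mkCochain Y P₁ (p + 2) xs
  have hx : ((cechComplexFunctor Y).map f).f (p + 2) x =
      ((cechComplexFunctor Y).obj P₂).d (p + 1) (p + 2) y := by
    apply cochain_ext
    intro a
    rw [comp_map_apply, comp_mkCochain, hxs]
  -- `d x = 0`
  have hdx : ((cechComplexFunctor Y).obj P₁).d (p + 2) (p + 3) x = 0 := by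
    apply cochain_ext
    intro a
    apply hf (p + 3) a
    rw [← comp_map_apply, ← map_d_apply, hx, map_zero, map_zero]
    have := ConcreteCategory.congr_hom
      (((cechComplexFunctor Y).obj P₂).d_comp_d (p + 1) (p + 2) (p + 3)) y
    rw [ConcreteCategory.comp_apply] at this
    rw [this]
    simp
  obtain ⟨w₁, hw₁⟩ := exists_of_isZero_homology _ (p + 1) h₁ x hdx
  -- `y - f w₁` is a cocycle
  have hcoc : ((cechComplexFunctor Y).obj P₂).d (p + 1) (p + 2)
      (y - ((cechComplexFunctor Y).map f).f (p + 1) w₁) = 0 := by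
    rw [map_sub, map_d_apply, hw₁, hx, sub_self]
  obtain ⟨v, hv⟩ := exists_of_isZero_homology _ p h₂ _ hcoc
  refine ⟨((cechComplexFunctor Y).map g).f p v, ?_⟩
  rw [map_d_apply, hv, map_sub, hy]
  have : ((cechComplexFunctor Y).map g).f (p + 1) (((cechComplexFunctor Y).map f).f (p + 1) w₁)
      = 0 := by
    apply cochain_ext
    intro a
    rw [comp_map_apply, comp_map_apply, ← ConcreteCategory.comp_apply, ← NatTrans.comp_app, w,
      map_zero]
    simp
  rw [this, sub_zero]

end Chase

end Groth.Agent.Lib.CechLES
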