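import Mathlib.Algebra.Category.Grp.FilteredColimits
import Mathlib.Algebra.Category.Grp.Ulift
import Mathlib.CategoryTheory.Limits.Preserves.Filtered
import Mathlib.CategoryTheory.Limits.ConcreteCategory.Basic
set_option autoImplicit false
universe w v
open CategoryTheory CategoryTheory.Limits

namespace Groth.Agent.Lib.FiltColimAb

variable {J : Type v} [SmallCategory J] [IsFiltered J] {F : J ⥤ AddCommGrpCat.{w}}
  {c : Cocone F} (hc : IsColimit c)

lemma forget_pres : PreservesFilteredColimitsOfSize.{v, v} (forget AddCommGrpCat.{max w v}) :=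
  preservesFilteredColimitsOfSize_shrink.{v, w, v, w} _

include hc in
lemma exists_rep (x : c.pt) : ∃ (j : J) (y : F.obj j), c.ι.app j y = x := by
  have hc' := isColimitOfPreserves AddCommGrpCat.uliftFunctor.{v, w} hc
  have := forget_pres.{w, v}
  obtain ⟨j, y, hy⟩ := Concrete.isColimit_exists_rep _ hc' (ULift.up x)
  refine ⟨j, y.down, ?_⟩
  exact congrArg ULift.down hy

include hc in
lemma exists_map_eq_zero (j : J) (y : F.obj j) (hy : c.ι.app j y = 0) :
    ∃ (k : J) (f : j ⟶ k), F.map f y = 0 := by
  have hc' := isColimitOfPreserves AddCommGrpCat.uliftFunctor.{v, w} hc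
  have := forget_pres.{w, v}
  have := (Concrete.isColimit_rep_eq_iff_exists (F ⋙ AddCommGrpCat.uliftFunctor.{v, w}) hc'
    (i := j) (j := j) (ULift.up y) (ULift.up 0)).1 (by
      apply ULift.ext
      change c.ι.app j y = c.ι.app j 0
      rw [hy, map_zero])
  obtain ⟨k, f, g, hfg⟩ := this
  refine ⟨k, f, ?_⟩
  have h2 := congrArg ULift.down hfg
  change F.map f y = F.map g 0 at h2
  rw [h2, map_zero]

end Groth.Agent.Lib.FiltColimAb
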