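import Groth.Agent.Lib.SiteLES
import Groth.Agent.Lib.FiltColimAb
import Mathlib.CategoryTheory.Adjunction.Evaluation
import Mathlib.CategoryTheory.Abelian.GrothendieckAxioms.Colim
import Mathlib.CategoryTheory.Abelian.GrothendieckAxioms.Sheaf
import Mathlib.CategoryTheory.Abelian.GrothendieckCategory.EnoughInjectives
import Mathlib.Algebra.Homology.DerivedCategory.Ext.ExactSequences
import Mathlib.CategoryTheory.Abelian.FunctorCategory

/-!
# `Ext^p(X, -)` and filtered colimits: abstract dimension shifting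

`A` an abelian category with exact filtered colimits of shape `I` and such that the functor
category `I ⥤ A` has enough injectives.  `ExtColim X F p` says (elementwise) that
`colim_i Ext^p(X, F i) → Ext^p(X, colim F)` is bijective.  The step theorem `ExtColim.step`
deduces the statement in degree `p + 1` for all diagrams from the statement in degree `p` for all
diagrams, provided injective diagrams are objectwise `X`-acyclic and have `X`-acyclic colimit.

Also: functor categories `I ⥤ A` into a Grothendieck abelian category have enough injectives and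
evaluation preserves injective objects; an elementwise criterion for filtered colimits of abelian
groups.
-/

set_option autoImplicit false

universe w v u

open CategoryTheory Limits Opposite Abelian

namespace Groth.Agent.Lib.FiltColimExt

section FunctorCat

variable {A : Type (u + 1)} [Category.{u} A] [Abelian A] [IsGrothendieckAbelian.{u} A]
  {I : Type u} [SmallCategory I]

/-- functor categories into a Grothendieck abelian category have enough injectives -/
instance enoughInjectives_functor : EnoughInjectives (I ⥤ A) := by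
  let e : (I ⥤ A) ≌ Sheaf (⊥ : GrothendieckTopology Iᵒᵖ) A :=
    ((opOpEquivalence I).congrLeft (E := A)).symm.trans (sheafBotEquivalence A).symm
  have : EnoughInjectives (Sheaf (⊥ : GrothendieckTopology Iᵒᵖ) A) := inferInstance
  exact EnoughInjectives.of_equivalence e.functor

instance preservesMonomorphisms_evaluationLeftAdjoint (i : I) :
    (evaluationLeftAdjoint A i).PreservesMonomorphisms where
  preserves {d d'} f hf := by
    have : ∀ t, Mono (((evaluationLeftAdjoint A i).map f).app t) := by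
      intro t
      have h : ((evaluationLeftAdjoint A i).map f).app t =
          Limits.Sigma.map (fun _ : i ⟶ t => f) := by
        change (Sigma.desc fun h => f ≫ Sigma.ι (fun _ : i ⟶ t => d') h) = _
        apply Sigma.hom_ext
        intro h
        rw [Sigma.ι_desc, Sigma.ι_map]
      rw [h]
      have h2 : (MorphismProperty.monomorphisms A).IsStableUnderCoproductsOfShape (i ⟶ t) :=
        MorphismProperty.IsStableUnderCoproducts.isStableUnderCoproductsOfShape.{u} _
      have h3 : ∀ _ : i ⟶ t, Mono f := fun _ => hf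
      exact MorphismProperty.instMonoMapOfIsStableUnderCoproductsOfShapeMonomorphisms
        (i ⟶ t) (fun _ : i ⟶ t => f)
    exact NatTrans.mono_of_mono_app _

/-- evaluation preserves injective objects -/
lemma injective_obj (G : I ⥤ A) [Injective G] (i : I) : Injective (G.obj i) :=
  Injective.injective_of_adjoint (evaluationAdjunctionRight A i) G

end FunctorCat

section AbColim

variable {I : Type u} [SmallCategory I] [IsFiltered I]

/-- elementwise criterion for a cocone of abelian groups over a filtered category to be a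
colimit -/
noncomputable def isColimitOfElementwise {K : I ⥤ AddCommGrpCat.{u}} (c : Cocone K)
    (hsurj : ∀ x : c.pt, ∃ (i : I) (y : K.obj i), c.ι.app i y = x)
    (hinj : ∀ (i : I) (y : K.obj i), c.ι.app i y = 0 → ∃ (j : I) (f : i ⟶ j), K.map f y = 0) :
    IsColimit c := by
  have hdesc : ∀ (i : I) (y : K.obj i),
      (colimit.isColimit K).desc c ((colimit.cocone K).ι.app i y) = c.ι.app i y := by
    intro i y
    exact ConcreteCategory.congr_hom ((colimit.isColimit K).fac c i) y
  have hbij : Function.Bijective ((colimit.isColimit K).desc c) := by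
    constructor
    · rw [injective_iff_map_eq_zero]
      intro z hz
      obtain ⟨i, y, rfl⟩ := FiltColimAb.exists_rep (colimit.isColimit K) z
      rw [hdesc] at hz
      obtain ⟨j, f, hf⟩ := hinj i y hz
      have h1 : (colimit.cocone K).ι.app i y = (colimit.cocone K).ι.app j (K.map f y) :=
        (ConcreteCategory.congr_hom ((colimit.cocone K).w f) y).symm
      rw [h1, hf, map_zero]
    · intro x
      obtain ⟨i, y, rfl⟩ := hsurj x
      exact ⟨(colimit.cocone K).ι.app i y, hdesc i y⟩
  haveI : IsIso ((colimit.isColimit K).desc c) := (ConcreteCategory.isIso_iff_bijective _).2 hbij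
  exact IsColimit.ofPointIso (colimit.isColimit K)

end AbColim

section Step

variable {A : Type u} [Category.{v} A] [Abelian A] [HasExt.{w} A]
  {I : Type v} [SmallCategory I] [IsFiltered I] [HasColimitsOfShape I A]

/-- `colim_i Ext^p(X, F i) → Ext^p(X, colim F)` is bijective (elementwise form) -/
structure ExtColim (X : A) (F : I ⥤ A) (p : ℕ) : Prop where
  surj : ∀ x : Ext.{w} X (colimit F) p, ∃ (i : I) (y : Ext.{w} X (F.obj i) p),
    y.comp (Ext.mk₀ (colimit.ι F i)) (add_zero p) = x
  inj : ∀ (i : I) (y : Ext.{w} X (F.obj i) p),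
    y.comp (Ext.mk₀ (colimit.ι F i)) (add_zero p) = 0 →
    ∃ (j : I) (f : i ⟶ j), y.comp (Ext.mk₀ (F.map f)) (add_zero p) = 0

/-- naturality of the connecting homomorphism of the covariant `Ext` sequence -/
lemma comp_extClass_naturality {S₁ S₂ : ShortComplex A} (h₁ : S₁.ShortExact)
    (h₂ : S₂.ShortExact) (φ : S₁ ⟶ S₂) (X : A) {n : ℕ} (x₃ : Ext.{w} X S₁.X₃ n) :
    (x₃.comp h₁.extClass (rfl : n + 1 = n + 1)).comp (Ext.mk₀ φ.τ₁) (add_zero (n + 1)) =
      (x₃.comp (Ext.mk₀ φ.τ₃) (add_zero n)).comp h₂.extClass (rfl : n + 1 = n + 1) := by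
  rw [Ext.comp_assoc x₃ h₁.extClass (Ext.mk₀ φ.τ₁) rfl (add_zero 1) (by omega),
    ShortComplex.ShortExact.extClass_naturality h₁ h₂ φ,
    ← Ext.comp_assoc x₃ (Ext.mk₀ φ.τ₃) h₂.extClass (add_zero n) (zero_add 1) (by omega)]

/-- the natural transformation from evaluation at `i` to the colimit functor -/
noncomputable def ιNat (i : I) : (evaluation I A).obj i ⟶ (colim : (I ⥤ A) ⥤ A) where
  app F := colimit.ι F i
  naturality F G α := by
    simp

lemma comp_mk₀_comp_mk₀ {X Y Z T : A} {n : ℕ} (x : Ext.{w} X Y n) (f : Y ⟶ Z) (g : Z ⟶ T) :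
    (x.comp (Ext.mk₀ f) (add_zero n)).comp (Ext.mk₀ g) (add_zero n) =
      x.comp (Ext.mk₀ (f ≫ g)) (add_zero n) := by
  rw [Ext.comp_assoc_of_third_deg_zero, Ext.mk₀_comp_mk₀]

lemma sub_comp' {X Y Z : A} {n : ℕ} (x y : Ext.{w} X Y n) {m : ℕ} (β : Ext.{w} Y Z m) {q : ℕ}
    (h : n + m = q) : (x - y).comp β h = x.comp β h - y.comp β h := by
  rw [sub_eq_add_neg, Ext.add_comp, Ext.neg_comp, ← sub_eq_add_neg]

variable [HasExactColimitsOfShape I A] [EnoughInjectives (I ⥤ A)]

/-- **Dimension shifting**: if `colim_i Ext^p(X, F i) ≅ Ext^p(X, colim F)` for all diagrams `F`,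
injective diagrams are objectwise `X`-acyclic and have `X`-acyclic colimits, then the same holds
in degree `p + 1`. -/
theorem ExtColim.step (X : A) (p : ℕ)
    (hinj : ∀ (G : I ⥤ A), Injective G → ∀ (i : I) (q : ℕ) (y : Ext.{w} X (G.obj i) (q + 1)),
      y = 0)
    (hacyc : ∀ (G : I ⥤ A), Injective G → ∀ (q : ℕ) (x : Ext.{w} X (colimit G) (q + 1)), x = 0)
    (hp : ∀ F : I ⥤ A, ExtColim.{w} X F p) (F : I ⥤ A) : ExtColim.{w} X F (p + 1) := by
  let S := SiteLES.injSC F
  have hS : S.ShortExact := SiteLES.injSC_shortExact F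
  have hI : Injective S.X₂ := inferInstance
  have hSi : ∀ i, (S.map ((evaluation I A).obj i)).ShortExact := fun i => hS.map_of_exact _
  have hSc : (S.map (colim : (I ⥤ A) ⥤ A)).ShortExact := hS.map_of_exact _
  constructor
  · intro x
    have h0 : x.comp (Ext.mk₀ (S.map (colim : (I ⥤ A) ⥤ A)).f) (add_zero (p + 1)) = 0 :=
      hacyc S.X₂ hI p _
    obtain ⟨x₃, hx₃⟩ := Ext.covariant_sequence_exact₁ X hSc x h0 (rfl : p + 1 = p + 1)
    obtain ⟨i, y, hy⟩ := (hp S.X₃).surj x₃
    refine ⟨i, y.comp (hSi i).extClass rfl, ?_⟩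
    have nat := comp_extClass_naturality (hSi i) hSc (S.mapNatTrans (ιNat i)) X y
    rw [← hx₃, ← hy]
    exact nat
  · intro i y hy
    have h0 : y.comp (Ext.mk₀ (S.map ((evaluation I A).obj i)).f) (add_zero (p + 1)) = 0 :=
      hinj S.X₂ hI i p _
    obtain ⟨y₃, hy₃⟩ : ∃ y₃ : Ext.{w} X (S.X₃.obj i) p,
        y₃.comp (hSi i).extClass (rfl : p + 1 = p + 1) = y :=
      Ext.covariant_sequence_exact₁ X (hSi i) y h0 (rfl : p + 1 = p + 1)
    have nat_i := comp_extClass_naturality (hSi i) hSc (S.mapNatTrans (ιNat i)) X y₃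
    have h1 : (y₃.comp (Ext.mk₀ (colimit.ι S.X₃ i)) (add_zero p)).comp hSc.extClass
        (rfl : p + 1 = p + 1) = 0 := by
      have e : (y₃.comp (hSi i).extClass (rfl : p + 1 = p + 1)).comp
          (Ext.mk₀ (colimit.ι F i)) (add_zero (p + 1)) =
          y.comp (Ext.mk₀ (colimit.ι F i)) (add_zero (p + 1)) :=
        congrArg (fun t => t.comp (Ext.mk₀ (colimit.ι F i)) (add_zero (p + 1))) hy₃
      exact nat_i.symm.trans (e.trans hy)
    obtain ⟨z, hz⟩ : ∃ z : Ext.{w} X (colimit S.X₂) p,
        z.comp (Ext.mk₀ (colim.map S.g)) (add_zero p) =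
          y₃.comp (Ext.mk₀ (colimit.ι S.X₃ i)) (add_zero p) :=
      Ext.covariant_sequence_exact₃ X hSc _ rfl h1
    obtain ⟨j, zj, hzj⟩ := (hp S.X₂).surj z
    obtain ⟨k, a, b, -⟩ : ∃ (k : I) (_ : i ⟶ k) (_ : j ⟶ k), True :=
      ⟨IsFiltered.max i j, IsFiltered.leftToMax i j, IsFiltered.rightToMax i j, trivial⟩
    -- the difference at stage `k`
    have hw : (y₃.comp (Ext.mk₀ (S.X₃.map a)) (add_zero p) -
        (zj.comp (Ext.mk₀ (S.X₂.map b)) (add_zero p)).comp (Ext.mk₀ (S.g.app k))
          (add_zero p)).comp (Ext.mk₀ (colimit.ι S.X₃ k)) (add_zero p) = 0 := by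
      rw [sub_comp', comp_mk₀_comp_mk₀, comp_mk₀_comp_mk₀, comp_mk₀_comp_mk₀, colimit.w,
        sub_eq_zero]
      have e1 : S.X₂.map b ≫ S.g.app k ≫ colimit.ι S.X₃ k =
          colimit.ι S.X₂ j ≫ colim.map S.g := by
        have : S.g.app k ≫ colimit.ι S.X₃ k = colimit.ι S.X₂ k ≫ colim.map S.g := by
          simp
        rw [this, ← Category.assoc, colimit.w]
      rw [e1, ← comp_mk₀_comp_mk₀, hzj]
      exact hz.symm
    obtain ⟨l, c, hc⟩ := (hp S.X₃).inj k _ hw
    refine ⟨l, a ≫ c, ?_⟩
    have nat_l := comp_extClass_naturality (hSi i) (hSi l)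
      (S.mapNatTrans ((evaluation I A).map (a ≫ c))) X y₃
    rw [← hy₃]
    refine nat_l.trans ?_
    rw [sub_comp', comp_mk₀_comp_mk₀, comp_mk₀_comp_mk₀, comp_mk₀_comp_mk₀, sub_eq_zero,
      ← Functor.map_comp] at hc
    have e2 : S.X₂.map b ≫ S.g.app k ≫ S.X₃.map c = S.X₂.map (b ≫ c) ≫ S.g.app l := by
      rw [Functor.map_comp, Category.assoc, S.g.naturality]
    rw [e2, ← comp_mk₀_comp_mk₀] at hc
    change (y₃.comp (Ext.mk₀ (S.X₃.map (a ≫ c))) (add_zero p)).comp (hSi l).extClass rfl = 0
    rw [hc]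
    change ((zj.comp (Ext.mk₀ (S.X₂.map (b ≫ c))) (add_zero p)).comp
      (Ext.mk₀ (S.map ((evaluation I A).obj l)).g) (add_zero p)).comp (hSi l).extClass rfl = 0
    rw [Ext.comp_assoc_of_second_deg_zero]
    erw [(hSi l).comp_extClass]
    exact Ext.comp_zero _ _ _ _ _

end Step

end Groth.Agent.Lib.FiltColimExt
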