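import Groth.Agent.Lib.SiteCoh
import Mathlib.CategoryTheory.Sites.Whiskering
import Mathlib.Algebra.Homology.ShortComplex.Ab
import Mathlib.Algebra.Homology.ShortComplex.ExactFunctor

/-!
# Gluing sections of abelian sheaves along covering families, left exactness of sections
-/

universe u

open CategoryTheory Limits Opposite

namespace Groth.Agent.Lib.SiteGlue

variable {C : Type u} [SmallCategory C] {J : GrothendieckTopology C}

/-- the underlying presheaf of sets of an abelian sheaf satisfies the sheaf condition for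
every covering family -/
lemma isSheafFor_ofArrows (F : Sheaf J AddCommGrpCat.{u}) {I : Type*} {S : C} {X : I → C}
    (f : ∀ i, X i ⟶ S) (hf : Sieve.ofArrows _ f ∈ J S) :
    (Presieve.ofArrows X f).IsSheafFor (F.obj ⋙ forget AddCommGrpCat.{u}) := by
  have h1 : Presheaf.IsSheaf J (F.obj ⋙ forget AddCommGrpCat.{u}) :=
    ((sheafCompose J (forget AddCommGrpCat.{u})).obj F).property
  have h2 := (isSheaf_iff_isSheaf_of_type J _).1 h1
  exact (Presieve.isSheafFor_iff_generate _).2 (h2 _ hf)

/-- gluing sections of an abelian sheaf along a covering family -/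
theorem exists_amalgamation (F : Sheaf J AddCommGrpCat.{u}) {I : Type*} {S : C} {X : I → C}
    (f : ∀ i, X i ⟶ S) (hf : Sieve.ofArrows _ f ∈ J S) (x : ∀ i, F.obj.obj (op (X i)))
    (hx : ∀ (i j : I) (W : C) (a : W ⟶ X i) (b : W ⟶ X j), a ≫ f i = b ≫ f j →
      F.obj.map a.op (x i) = F.obj.map b.op (x j)) :
    ∃ t : F.obj.obj (op S), ∀ i, F.obj.map (f i).op t = x i := by
  obtain ⟨t, ht, -⟩ := (Presieve.isSheafFor_arrows_iff _ _).1 (isSheafFor_ofArrows F f hf) x hx
  exact ⟨t, ht⟩

/-- sections of an abelian sheaf are determined by restrictions to a covering family -/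
theorem section_ext_ofArrows (F : Sheaf J AddCommGrpCat.{u}) {I : Type*} {S : C} {X : I → C}
    (f : ∀ i, X i ⟶ S) (hf : Sieve.ofArrows _ f ∈ J S) (s t : F.obj.obj (op S))
    (h : ∀ i, F.obj.map (f i).op s = F.obj.map (f i).op t) : s = t := by
  have hx : Presieve.Arrows.Compatible (F.obj ⋙ forget AddCommGrpCat.{u}) f
      (fun i => F.obj.map (f i).op t) := by
    intro i j W a b hab
    change F.obj.map a.op (F.obj.map (f i).op t) = F.obj.map b.op (F.obj.map (f j).op t)
    rw [← ConcreteCategory.comp_apply, ← ConcreteCategory.comp_apply, ← F.obj.map_comp,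
      ← F.obj.map_comp, ← op_comp, ← op_comp, hab]
  obtain ⟨t', -, ht'⟩ := (Presieve.isSheafFor_arrows_iff _ _).1 (isSheafFor_ofArrows F f hf) _ hx
  exact (ht' s h).trans (ht' t (fun _ => rfl)).symm

/-- left exactness of sections for a short exact sequence of abelian sheaves -/
theorem exists_of_app_g_eq_zero {S : ShortComplex (Sheaf J AddCommGrpCat.{u})} (hS : S.ShortExact)
    (V : C) (c : S.X₂.obj.obj (op V)) (hc : S.g.hom.app (op V) c = 0) :
    ∃ e : S.X₁.obj.obj (op V), S.f.hom.app (op V) e = c := by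
  let F : Sheaf J AddCommGrpCat.{u} ⥤ AddCommGrpCat.{u} :=
    sheafToPresheaf J AddCommGrpCat.{u} ⋙ (evaluation Cᵒᵖ AddCommGrpCat.{u}).obj (op V)
  have : F.PreservesZeroMorphisms := ⟨fun _ _ => rfl⟩
  have hm := hS.mono_f
  have h := hS.exact.map_of_mono_of_preservesKernel F hm inferInstance
  rw [ShortComplex.ab_exact_iff] at h
  exact h c hc

end Groth.Agent.Lib.SiteGlue
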