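import Groth.Agent.Lib.SiteCoh
import Groth.Agent.Lib.SiteGlue
import Mathlib.Algebra.Homology.DerivedCategory.Ext.ExactSequences
import Mathlib.Algebra.Homology.DerivedCategory.Ext.EnoughInjectives

/-!
# Dimension shifting for `Ext` along `0 → F → I → Q → 0` with `I` injective
-/

universe w v u

open CategoryTheory Limits Opposite Abelian

namespace Groth.Agent.Lib.SiteLES

section General

variable {A : Type u} [Category.{v} A] [Abelian A]

/-- the short complex `F ⟶ I(F) ⟶ I(F)/F` -/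
noncomputable def injSC [EnoughInjectives A] (F : A) : ShortComplex A :=
  ShortComplex.mk (Injective.ι F) (cokernel.π (Injective.ι F)) (cokernel.condition _)

lemma injSC_shortExact [EnoughInjectives A] (F : A) : (injSC F).ShortExact where
  exact := ShortComplex.exact_cokernel _
  mono_f := by dsimp [injSC]; infer_instance
  epi_g := by dsimp [injSC]; infer_instance

instance [EnoughInjectives A] (F : A) : Injective (injSC F).X₂ := by
  dsimp [injSC]; infer_instance

variable [HasExt.{w} A] {S : ShortComplex A} (hS : S.ShortExact) (X : A)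

include hS in
/-- `Ext^{n+1}(X, Q) = 0 ⇒ Ext^{n+2}(X, F) = 0` when `I` is injective. -/
lemma subsingleton_ext_succ_succ [Injective S.X₂] (n : ℕ)
    (h : Subsingleton (Ext.{w} X S.X₃ (n + 1))) : Subsingleton (Ext.{w} X S.X₁ (n + 2)) := by
  have key : ∀ x : Ext.{w} X S.X₁ (n + 2), x = 0 := by
    intro x
    obtain ⟨x₃, rfl⟩ := Ext.covariant_sequence_exact₁ X hS x (Ext.eq_zero_of_injective _)
      (rfl : n + 1 + 1 = n + 2)
    rw [h.elim x₃ 0, Ext.zero_comp]
  exact ⟨fun a b => (key a).trans (key b).symm⟩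

include hS in
/-- `Ext^{n+2}(X, F) = 0 ⇒ Ext^{n+1}(X, Q) = 0` when `I` is injective. -/
lemma subsingleton_ext_succ_of_succ_succ [Injective S.X₂] (n : ℕ)
    (h : Subsingleton (Ext.{w} X S.X₁ (n + 2))) : Subsingleton (Ext.{w} X S.X₃ (n + 1)) := by
  have key : ∀ x : Ext.{w} X S.X₃ (n + 1), x = 0 := by
    intro x
    obtain ⟨x₂, rfl⟩ := Ext.covariant_sequence_exact₃ X hS x (rfl : n + 1 + 1 = n + 2)
      (h.elim _ _)
    rw [Ext.eq_zero_of_injective x₂, Ext.zero_comp]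
  exact ⟨fun a b => (key a).trans (key b).symm⟩

include hS in
/-- if every morphism `X ⟶ Q` lifts to `I` (injective), then `Ext^1(X, F) = 0`. -/
lemma subsingleton_ext_one [Injective S.X₂]
    (h : ∀ φ : X ⟶ S.X₃, ∃ ψ : X ⟶ S.X₂, ψ ≫ S.g = φ) : Subsingleton (Ext.{w} X S.X₁ 1) := by
  have key : ∀ x : Ext.{w} X S.X₁ 1, x = 0 := by
    intro x
    obtain ⟨x₃, rfl⟩ := Ext.covariant_sequence_exact₁ X hS x (Ext.eq_zero_of_injective _)
      (rfl : 0 + 1 = 1)
    obtain ⟨φ, rfl⟩ := (Ext.mk₀_bijective _ _).2 x₃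
    obtain ⟨ψ, rfl⟩ := h φ
    rw [← Ext.mk₀_comp_mk₀, Ext.comp_assoc_of_second_deg_zero, hS.comp_extClass, Ext.comp_zero]
  exact ⟨fun a b => (key a).trans (key b).symm⟩

include hS in
/-- if `Ext^1(X, F) = 0`, every morphism `X ⟶ Q` lifts to `S.X₂`. -/
lemma exists_lift_of_subsingleton_ext_one (h : Subsingleton (Ext.{w} X S.X₁ 1))
    (φ : X ⟶ S.X₃) : ∃ ψ : X ⟶ S.X₂, ψ ≫ S.g = φ := by
  obtain ⟨x₂, hx₂⟩ := Ext.covariant_sequence_exact₃ X hS (Ext.mk₀ φ) (rfl : 0 + 1 = 1)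
    (h.elim _ _)
  obtain ⟨ψ, rfl⟩ := (Ext.mk₀_bijective _ _).2 x₂
  refine ⟨ψ, ?_⟩
  rw [Ext.mk₀_comp_mk₀] at hx₂
  exact (Ext.mk₀_bijective _ _).1 hx₂

end General

section Site

open Groth.Agent.Lib.SiteCoh

variable {C : Type u} [SmallCategory C] {J : GrothendieckTopology C}
  {S : ShortComplex (Sheaf J AddCommGrpCat.{u})} (hS : S.ShortExact)

include hS in
/-- `H^{n+1}(U, Q) = 0 ⇒ H^{n+2}(U, F) = 0`. -/
lemma subsingleton_HU_succ_succ [Injective S.X₂] (U : C) (n : ℕ)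
    (h : Subsingleton (CohSite.HU S.X₃ (n + 1) U)) : Subsingleton (CohSite.HU S.X₁ (n + 2) U) :=
  subsingleton_ext_succ_succ hS (freeYoneda J U) n h

include hS in
/-- `H^{n+2}(U, F) = 0 ⇒ H^{n+1}(U, Q) = 0`. -/
lemma subsingleton_HU_succ_of_succ_succ [Injective S.X₂] (U : C) (n : ℕ)
    (h : Subsingleton (CohSite.HU S.X₁ (n + 2) U)) : Subsingleton (CohSite.HU S.X₃ (n + 1) U) :=
  subsingleton_ext_succ_of_succ_succ hS (freeYoneda J U) n h

include hS in
/-- if `I(U) → Q(U)` is surjective then `H^1(U, F) = 0`. -/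
lemma subsingleton_HU_one [Injective S.X₂] (U : C)
    (h : Function.Surjective (S.g.hom.app (op U))) : Subsingleton (CohSite.HU S.X₁ 1 U) := by
  refine subsingleton_ext_one hS (freeYoneda J U) (fun φ => ?_)
  obtain ⟨t, ht⟩ := h (freeYonedaHomEquiv U _ φ)
  refine ⟨(freeYonedaHomEquiv U _).symm t, ?_⟩
  apply (freeYonedaHomEquiv U _).injective
  rw [freeYonedaHomEquiv_comp, Equiv.apply_symm_apply, ht]

include hS in
/-- if `H^1(U, F) = 0` then `S.X₂(U) → S.X₃(U)` is surjective. -/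
lemma surjective_of_subsingleton_HU_one (U : C) (h : Subsingleton (CohSite.HU S.X₁ 1 U)) :
    Function.Surjective (S.g.hom.app (op U)) := by
  intro s
  obtain ⟨ψ, hψ⟩ := exists_lift_of_subsingleton_ext_one hS (freeYoneda J U) h
    ((freeYonedaHomEquiv U _).symm s)
  refine ⟨freeYonedaHomEquiv U _ ψ, ?_⟩
  rw [← freeYonedaHomEquiv_comp, hψ, Equiv.apply_symm_apply]

end Site

end Groth.Agent.Lib.SiteLES
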