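import Mathlib.CategoryTheory.Sites.SheafCohomology.Cech
import Mathlib.Algebra.Category.Grp.Limits
import Mathlib.Algebra.Homology.ShortComplex.Ab
import Mathlib.Algebra.Homology.ShortComplex.HomologicalComplex
import Mathlib.CategoryTheory.Limits.Shapes.ConcreteCategory

/-!
# Low-level description of the Cech complex `cechComplexFunctor`

Componentwise formula for the differential of Mathlib's Cech complex.
-/

universe w v v' u u'

open CategoryTheory Limits Opposite

namespace Groth.Agent.Lib.CechLow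

variable {D : Type u} [Category.{v} D] [HasFiniteProducts D]
  {A : Type u'} [Category.{v'} A] [HasProducts.{w} A] [Preadditive A]
  {ι : Type w} (Y : ι → D) (P : Dᵒᵖ ⥤ A)

/-- the `j`-th face of a multi-index -/
def face {n : ℕ} (j : Fin (n + 2)) (a : Fin (n + 2) → ι) : Fin (n + 1) → ι :=
  fun k => a (j.succAbove k)

/-- the projection from the product indexed by `a` to the product indexed by its `j`-th face -/
noncomputable def faceMap {n : ℕ} (j : Fin (n + 2)) (a : Fin (n + 2) → ι) :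
    (∏ᶜ fun k => Y (a k)) ⟶ ∏ᶜ fun k => Y (face j a k) :=
  Pi.lift (fun k => Pi.π (fun k => Y (a k)) (j.succAbove k))

/-- the term of the Cech complex in degree `n` -/
lemma cech_X (n : ℕ) : ((cechComplexFunctor Y).obj P).X n =
    ∏ᶜ fun a : Fin (n + 1) → ι => P.obj (op (∏ᶜ fun k => Y (a k))) := rfl

lemma altCoface_d {C : Type*} [Category C] [Preadditive C] (X : CosimplicialObject C) (n : ℕ) :
    (AlgebraicTopology.AlternatingCofaceMapComplex.obj X).d n (n + 1) =
      AlgebraicTopology.AlternatingCofaceMapComplex.objD X n := by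
  unfold AlgebraicTopology.AlternatingCofaceMapComplex.obj
  exact CochainComplex.of_d (fun n => X.obj (SimplexCategory.mk n))
    (AlgebraicTopology.AlternatingCofaceMapComplex.objD X) n

/-- the `j`-th coface map of the Cech cosimplicial object, explicitly -/
noncomputable def coface {n : ℕ} (j : Fin (n + 2)) :
    (∏ᶜ fun a : Fin (n + 1) → ι => P.obj (op (∏ᶜ fun k => Y (a k)))) ⟶
      ∏ᶜ fun a : Fin (n + 2) → ι => P.obj (op (∏ᶜ fun k => Y (a k))) :=
  Pi.lift (fun a => Pi.π (fun a : Fin (n + 1) → ι => P.obj (op (∏ᶜ fun k => Y (a k)))) (face j a) ≫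
    P.map (faceMap Y j a).op)

/-- the explicit differential -/
noncomputable def dExp (n : ℕ) :
    (∏ᶜ fun a : Fin (n + 1) → ι => P.obj (op (∏ᶜ fun k => Y (a k)))) ⟶
      ∏ᶜ fun a : Fin (n + 2) → ι => P.obj (op (∏ᶜ fun k => Y (a k))) :=
  ∑ j : Fin (n + 2), (-1 : ℤ) ^ (j : ℕ) • coface Y P j

lemma cech_d (n : ℕ) : ((cechComplexFunctor Y).obj P).d n (n + 1) = dExp Y P n :=
  altCoface_d _ n

lemma dExp_π (n : ℕ) (a : Fin (n + 2) → ι) :
    dExp Y P n ≫ Pi.π (fun a : Fin (n + 2) → ι => P.obj (op (∏ᶜ fun k => Y (a k)))) a =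
    ∑ j : Fin (n + 2), (-1 : ℤ) ^ (j : ℕ) •
      (Pi.π (fun a : Fin (n + 1) → ι => P.obj (op (∏ᶜ fun k => Y (a k)))) (face j a) ≫
        P.map (faceMap Y j a).op) := by
  rw [dExp, Preadditive.sum_comp]
  refine Finset.sum_congr rfl (fun j _ => ?_)
  rw [Preadditive.zsmul_comp, coface, Pi.lift_π]

/-- the component of a Cech cochain at a multi-index -/
noncomputable def comp (n : ℕ) (a : Fin (n + 1) → ι) :
    ((cechComplexFunctor Y).obj P).X n ⟶ P.obj (op (∏ᶜ fun k => Y (a k))) :=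
  Pi.π (fun a : Fin (n + 1) → ι => P.obj (op (∏ᶜ fun k => Y (a k)))) a

lemma cech_d_comp (n : ℕ) (a : Fin (n + 2) → ι) :
    ((cechComplexFunctor Y).obj P).d n (n + 1) ≫ comp Y P (n + 1) a =
    ∑ j : Fin (n + 2), (-1 : ℤ) ^ (j : ℕ) •
      (comp Y P n (face j a) ≫ P.map (faceMap Y j a).op) :=
  (congrArg (fun f => f ≫ Pi.π (fun a : Fin (n + 2) → ι => P.obj (op (∏ᶜ fun k => Y (a k)))) a)
    (cech_d Y P n)).trans (dExp_π Y P n a)

section Ab

lemma hom_sum_apply {M N : AddCommGrpCat.{w}} {α : Type*} (s : Finset α) (f : α → (M ⟶ N))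
    (x : M) : (∑ j ∈ s, f j) x = ∑ j ∈ s, f j x := by
  classical
  induction s using Finset.induction_on with
  | empty => rfl
  | insert a s ha ih =>
    rw [Finset.sum_insert ha, Finset.sum_insert ha, AddCommGrpCat.hom_add_apply, ih]

variable {D : Type u} [Category.{v} D] [HasFiniteProducts D]
  {ι : Type w} (Y : ι → D) (P : Dᵒᵖ ⥤ AddCommGrpCat.{w})

/-- a Cech cochain built from a family of sections -/
noncomputable def mkCochain (n : ℕ)
    (s : ∀ a : Fin (n + 1) → ι, P.obj (op (∏ᶜ fun k => Y (a k)))) :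
    ((cechComplexFunctor Y).obj P).X n :=
  (Limits.Concrete.productEquiv (fun a : Fin (n + 1) → ι => P.obj (op (∏ᶜ fun k => Y (a k))))).symm s

@[simp]
lemma comp_mkCochain (n : ℕ)
    (s : ∀ a : Fin (n + 1) → ι, P.obj (op (∏ᶜ fun k => Y (a k)))) (a : Fin (n + 1) → ι) :
    comp Y P n a (mkCochain Y P n s) = s a :=
  Limits.Concrete.productEquiv_symm_apply_π _ s a

lemma cochain_ext (n : ℕ) (x y : ((cechComplexFunctor Y).obj P).X n)
    (h : ∀ a, comp Y P n a x = comp Y P n a y) : x = y := by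
  apply (Limits.Concrete.productEquiv
    (fun a : Fin (n + 1) → ι => P.obj (op (∏ᶜ fun k => Y (a k))))).injective
  funext a
  rw [Limits.Concrete.productEquiv_apply_apply, Limits.Concrete.productEquiv_apply_apply]
  exact h a

lemma d_comp_apply (n : ℕ) (x : ((cechComplexFunctor Y).obj P).X n) (a : Fin (n + 2) → ι) :
    comp Y P (n + 1) a (((cechComplexFunctor Y).obj P).d n (n + 1) x) =
      ∑ j : Fin (n + 2), (-1 : ℤ) ^ (j : ℕ) •
        P.map (faceMap Y j a).op (comp Y P n (face j a) x) := by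
  have h := ConcreteCategory.congr_hom (cech_d_comp Y P n a) x
  rw [ConcreteCategory.comp_apply] at h
  rw [h, hom_sum_apply]
  rfl

lemma exists_of_isZero_homology (K : CochainComplex AddCommGrpCat.{w} ℕ) (n : ℕ)
    (h : IsZero (K.homology (n + 1))) (x : K.X (n + 1)) (hx : K.d (n + 1) (n + 2) x = 0) :
    ∃ y : K.X n, K.d n (n + 1) y = x := by
  rw [← HomologicalComplex.exactAt_iff_isZero_homology,
    HomologicalComplex.exactAt_iff' K n (n + 1) (n + 2) (by simp) (by simp),
    ShortComplex.ab_exact_iff] at h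
  exact h x hx

lemma isZero_homology_of_forall (K : CochainComplex AddCommGrpCat.{w} ℕ) (n : ℕ)
    (h : ∀ x : K.X (n + 1), K.d (n + 1) (n + 2) x = 0 → ∃ y : K.X n, K.d n (n + 1) y = x) :
    IsZero (K.homology (n + 1)) := by
  rw [← HomologicalComplex.exactAt_iff_isZero_homology,
    HomologicalComplex.exactAt_iff' K n (n + 1) (n + 2) (by simp) (by simp),
    ShortComplex.ab_exact_iff]
  exact h

lemma faceMap_π {n : ℕ} (j : Fin (n + 2)) (a : Fin (n + 2) → ι) (k : Fin (n + 1)) :
    faceMap Y j a ≫ Pi.π (fun k => Y (face j a k)) k =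
      Pi.π (fun k => Y (a k)) (j.succAbove k) := by
  simp [faceMap]

/-- restriction of the component of a cochain to a face, in terms of projections -/
lemma map_faceMap_map_π {n : ℕ} (j : Fin (n + 2)) (a : Fin (n + 2) → ι) (k : Fin (n + 1))
    (x : P.obj (op (Y (face j a k)))) :
    P.map (faceMap Y j a).op (P.map (Pi.π (fun k => Y (face j a k)) k).op x) =
      P.map (Pi.π (fun k => Y (a k)) (j.succAbove k)).op x := by
  rw [← ConcreteCategory.comp_apply, ← P.map_comp, ← op_comp, faceMap_π]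
  rfl

end Ab

section H1

variable {D : Type u} [Category.{v} D] [HasFiniteProducts D]
  {ι : Type w} (Y : ι → D) {P₁ P₂ : Dᵒᵖ ⥤ AddCommGrpCat.{w}} (f : P₁ ⟶ P₂)

/-- the section over `Y i` extracted from a `0`-cochain -/
noncomputable def zeroCochainSection (β : ((cechComplexFunctor Y).obj P₁).X 0) (i : ι) :
    P₁.obj (op (Y i)) :=
  P₁.map (Pi.lift (fun _ : Fin 1 => 𝟙 (Y i))).op (comp Y P₁ 0 (fun _ => i) β)

lemma map_comp_zero (β : ((cechComplexFunctor Y).obj P₁).X 0) (c : Fin 1 → ι) {Z : D}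
    (g : Z ⟶ ∏ᶜ fun k => Y (c k)) :
    P₁.map g.op (comp Y P₁ 0 c β) =
      P₁.map (g ≫ Pi.π (fun k => Y (c k)) 0).op (zeroCochainSection Y β (c 0)) := by
  obtain ⟨i, rfl⟩ : ∃ i, c = fun _ => i :=
    ⟨c 0, funext fun k => by rw [Subsingleton.elim k 0]⟩
  dsimp only [zeroCochainSection]
  have : Pi.π (fun _ : Fin 1 => Y i) 0 ≫ Pi.lift (fun _ : Fin 1 => 𝟙 (Y i)) = 𝟙 _ := by
    apply Pi.hom_ext
    intro k
    rw [Subsingleton.elim k 0]
    simp
  have hg : g = (g ≫ Pi.π (fun _ : Fin 1 => Y i) 0) ≫ Pi.lift (fun _ : Fin 1 => 𝟙 (Y i)) := by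
    rw [Category.assoc, this, Category.comp_id]
  conv_lhs => rw [hg, op_comp, P₁.map_comp, ConcreteCategory.comp_apply]

theorem exists_correction_of_H1_zero (hf : ∀ V, Function.Injective (f.app V))
    (hH : IsZero (((cechComplexFunctor Y).obj P₁).homology 1))
    (t : ∀ i, P₂.obj (op (Y i)))
    (ht : ∀ a : Fin 2 → ι, ∃ e : P₁.obj (op (∏ᶜ fun k => Y (a k))),
      f.app _ e = P₂.map (Pi.π (fun k => Y (a k)) 1).op (t (a 1)) -
        P₂.map (Pi.π (fun k => Y (a k)) 0).op (t (a 0))) :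
    ∃ b : ∀ i, P₁.obj (op (Y i)), ∀ a : Fin 2 → ι,
      P₂.map (Pi.π (fun k => Y (a k)) 1).op (t (a 1) - f.app _ (b (a 1))) =
      P₂.map (Pi.π (fun k => Y (a k)) 0).op (t (a 0) - f.app _ (b (a 0))) := by
  choose e he using ht
  let E := mkCochain Y P₁ 1 e
  have hE : ((cechComplexFunctor Y).obj P₁).d 1 2 E = 0 := by
    apply cochain_ext Y P₁ 2
    intro a
    rw [d_comp_apply, map_zero]
    apply hf
    rw [map_sum, map_zero]
    let τ : Fin 3 → P₂.obj (op (∏ᶜ fun k => Y (a k))) :=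
      fun m => P₂.map (Pi.π (fun k => Y (a k)) m).op (t (a m))
    have key : ∀ j : Fin 3, f.app _ (P₁.map (faceMap Y j a).op (comp Y P₁ 1 (face j a) E)) =
        τ (j.succAbove 1) - τ (j.succAbove 0) := by
      intro j
      rw [comp_mkCochain, NatTrans.naturality_apply, he, map_sub, map_faceMap_map_π,
        map_faceMap_map_π]
      rfl
    simp only [map_zsmul, key]
    refine (Fin.sum_univ_three _).trans ?_
    have h01 : (0 : Fin 3).succAbove (1 : Fin 2) = 2 := by decide
    have h00 : (0 : Fin 3).succAbove (0 : Fin 2) = 1 := by decide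
    have h11 : (1 : Fin 3).succAbove (1 : Fin 2) = 2 := by decide
    have h10 : (1 : Fin 3).succAbove (0 : Fin 2) = 0 := by decide
    have h21 : (2 : Fin 3).succAbove (1 : Fin 2) = 1 := by decide
    have h20 : (2 : Fin 3).succAbove (0 : Fin 2) = 0 := by decide
    rw [h01, h00, h11, h10, h21, h20]
    simp
  obtain ⟨β, hβ⟩ := exists_of_isZero_homology _ 0 hH E hE
  refine ⟨zeroCochainSection Y β, fun a => ?_⟩
  let σ : Fin 2 → P₁.obj (op (∏ᶜ fun k => Y (a k))) :=
    fun m => P₁.map (Pi.π (fun k => Y (a k)) m).op (zeroCochainSection Y β (a m))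
  have h1 : e a = σ 1 - σ 0 := by
    have h2 := congrArg (comp Y P₁ 1 a) hβ
    rw [comp_mkCochain, d_comp_apply] at h2
    rw [← h2]
    refine Eq.trans (Fin.sum_univ_two _) ?_
    have key : ∀ j : Fin 2, P₁.map (faceMap Y j a).op (comp Y P₁ 0 (face j a) β) =
        σ (j.succAbove 0) := by
      intro j
      rw [map_comp_zero, faceMap_π]
      rfl
    rw [key, key]
    have h00 : (0 : Fin 2).succAbove (0 : Fin 1) = 1 := by decide
    have h10 : (1 : Fin 2).succAbove (0 : Fin 1) = 0 := by decide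
    rw [h00, h10]
    simp
    abel
  have h3 := he a
  rw [h1, map_sub] at h3
  simp only [σ, NatTrans.naturality_apply] at h3
  rw [map_sub, map_sub]
  generalize P₂.map (Pi.π (fun k => Y (a k)) 1).op (t (a 1)) = A at h3 ⊢
  generalize P₂.map (Pi.π (fun k => Y (a k)) 0).op (t (a 0)) = B at h3 ⊢
  generalize P₂.map (Pi.π (fun k => Y (a k)) 1).op (f.app _ (zeroCochainSection Y β (a 1))) = C at h3 ⊢
  generalize P₂.map (Pi.π (fun k => Y (a k)) 0).op (f.app _ (zeroCochainSection Y β (a 0))) = E' at h3 ⊢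
  calc A - C = (A - B) - (C - E') + (B - E') := by abel
    _ = B - E' := by rw [h3]; abel

end H1

end Groth.Agent.Lib.CechLow
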