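import Groth.Agent.Lib.FiltColimSec
import Groth.Agent.Lib.FiltColimExt
import Groth.Agent.Lib.CechLES
import Groth.Agent.Lib.CechInj
import Groth.Agent.S0861

/-!
# Cohomology of abelian sheaves commutes with filtered colimits on "coherent" objects

`C` a small site with pullbacks, `B` a class of objects and `Cov` a class of FINITE covering
families as in the Cartan criterion (`S0861`).  Then for `U ∈ B`, every `p` and every filtered
diagram `F : I ⥤ Sheaf J Ab`, `colim_i H^p(U, F_i) → H^p(U, colim_i F_i)` is bijective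
(Stacks 0739).  Main statements: `extColim` (elementwise form, for `Ext^p(Z[h_U]^#, -)`) and
`preservesColimit_H` (the functor `H^p(U, -)` preserves the colimit of `F`).
-/

set_option autoImplicit false
set_option linter.unusedSectionVars false

universe u

open CategoryTheory Limits Opposite Abelian

namespace Groth.Agent.Lib.FiltColimCoh

open Groth.Agent.Lib.FiltColimSec Groth.Agent.Lib.FiltColimExt Groth.Agent.Lib

variable {C : Type u} [SmallCategory C] [HasPullbacks C] {J : GrothendieckTopology C}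
variable {I : Type u} [SmallCategory I] [IsFiltered I]

/-- restriction of (the underlying presheaf of) a sheaf to `Over U` -/
abbrev overPsh (U : C) (G : Sheaf J AddCommGrpCat.{u}) : (Over U)ᵒᵖ ⥤ AddCommGrpCat.{u} :=
  (Over.forget U).op ⋙ G.obj

/-- restriction of a morphism of sheaves to `Over U` -/
abbrev overMap (U : C) {G G' : Sheaf J AddCommGrpCat.{u}} (φ : G ⟶ G') :
    overPsh U G ⟶ overPsh U G' :=
  Functor.whiskerLeft (Over.forget U).op φ.hom

lemma cocone_w_apply (G : I ⥤ Sheaf J AddCommGrpCat.{u}) (c : Cocone G) {i k : I} (h : i ⟶ k)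
    (V : C) (t : (G.obj i).obj.obj (op V)) :
    (c.ι.app k).hom.app (op V) ((G.map h).hom.app (op V) t) = (c.ι.app i).hom.app (op V) t := by
  have h1 := congrArg (fun φ => φ.hom.app (op V)) (c.w h)
  exact ConcreteCategory.congr_hom h1 t

lemma map_comp_apply' (G : I ⥤ Sheaf J AddCommGrpCat.{u}) {i j k : I} (f : i ⟶ j) (h : j ⟶ k)
    (V : C) (t : (G.obj i).obj.obj (op V)) :
    (G.map (f ≫ h)).hom.app (op V) t =
      (G.map h).hom.app (op V) ((G.map f).hom.app (op V) t) := by
  rw [G.map_comp]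
  rfl

lemma kill_of_refinement (G : I ⥤ Sheaf J AddCommGrpCat.{u}) {k j m : I} (f : k ⟶ j) (h : j ⟶ m)
    (g : k ⟶ m) (hh : f ≫ h = g) (V : C) (z : (G.obj k).obj.obj (op V))
    (hz : (G.map f).hom.app (op V) z = 0) : (G.map g).hom.app (op V) z = 0 := by
  subst hh
  rw [map_comp_apply', hz, map_zero]

/-- **Čech acyclicity of filtered colimits of injective sheaves** for a finite family all of whose
iterated fibre products are objects over which sections commute with the colimit. -/
theorem isZero_cechH_of_secColim (G : I ⥤ Sheaf J AddCommGrpCat.{u}) (c : Cocone G)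
    (hG : ∀ i, Injective (G.obj i)) {U : C} {ι : Type u} [Finite ι] (Y : ι → Over U)
    (hsec : ∀ (n : ℕ) (a : Fin (n + 1) → ι), SecColim J G c (∏ᶜ fun k => Y (a k)).left)
    (p : ℕ) : IsZero (CohCx.cechH c.pt.obj Y (p + 1)) := by
  classical
  let ιc : ∀ k, G.obj k ⟶ c.pt := fun k => c.ι.app k
  have hw : ∀ {i k : I} (h : i ⟶ k) (V : C) (t : (G.obj i).obj.obj (op V)),
      (ιc k).hom.app (op V) ((G.map h).hom.app (op V) t) = (ιc i).hom.app (op V) t :=
    fun h V t => cocone_w_apply G c h V t
  apply CechLow.isZero_homology_of_forall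
  intro x hx
  -- Step 1: lift `x` to a stage `k`
  have h1 : ∀ a : Fin (p + 2) → ι, ∃ (i : I)
      (t : (G.obj i).obj.obj (op (∏ᶜ fun k => Y (a k)).left)),
      (ιc i).hom.app (op (∏ᶜ fun k => Y (a k)).left) t =
        CechLow.comp Y (overPsh U c.pt) (p + 1) a x := fun a => (hsec (p + 1) a).surj _
  choose i₀ t₀ ht₀ using h1
  obtain ⟨k, hk⟩ := exists_common_stage i₀
  obtain ⟨xk, hxk⟩ : ∃ xk : ((cechComplexFunctor Y).obj (overPsh U (G.obj k))).X (p + 1),
      ((cechComplexFunctor Y).map (overMap U (ιc k))).f (p + 1) xk = x := by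
    refine ⟨CechLow.mkCochain Y (overPsh U (G.obj k)) (p + 1)
      (fun a => (G.map (hk a).some).hom.app (op (∏ᶜ fun k => Y (a k)).left) (t₀ a)), ?_⟩
    apply CechLow.cochain_ext
    intro a
    refine (CechLES.comp_map_apply Y (overMap U (ιc k)) (p + 1) a _).trans ?_
    refine (congrArg (fun z => (overMap U (ιc k)).app (op (∏ᶜ fun k => Y (a k))) z)
      (CechLow.comp_mkCochain Y (overPsh U (G.obj k)) (p + 1) _ a)).trans ?_
    exact (hw (hk a).some _ (t₀ a)).trans (ht₀ a)
  -- Step 2: kill `d xk` at a later stage `m`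
  have hdk : ((cechComplexFunctor Y).map (overMap U (ιc k))).f (p + 2)
      (((cechComplexFunctor Y).obj (overPsh U (G.obj k))).d (p + 1) (p + 2) xk) = 0 := by
    have e2 := CechLES.map_d_apply Y (overMap U (ιc k)) (p + 1) (p + 2) xk
    rw [hxk] at e2
    exact e2.symm.trans hx
  have h2 : ∀ b : Fin (p + 3) → ι, ∃ (j : I) (f : k ⟶ j),
      (G.map f).hom.app (op (∏ᶜ fun k => Y (b k)).left)
        (CechLow.comp Y (overPsh U (G.obj k)) (p + 2) b
          (((cechComplexFunctor Y).obj (overPsh U (G.obj k))).d (p + 1) (p + 2) xk)) = 0 := by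
    intro b
    apply (hsec (p + 2) b).inj
    have e1 := CechLES.comp_map_apply Y (overMap U (ιc k)) (p + 2) b
      (((cechComplexFunctor Y).obj (overPsh U (G.obj k))).d (p + 1) (p + 2) xk)
    rw [hdk, map_zero] at e1
    exact e1.symm
  choose j₁ f₁ hf₁ using h2
  obtain ⟨m, g, hg⟩ := exists_common_refinement k j₁ f₁
  obtain ⟨xm, hxm, hdxm⟩ : ∃ xm : ((cechComplexFunctor Y).obj (overPsh U (G.obj m))).X (p + 1),
      ((cechComplexFunctor Y).map (overMap U (ιc m))).f (p + 1) xm = x ∧
      ((cechComplexFunctor Y).obj (overPsh U (G.obj m))).d (p + 1) (p + 2) xm = 0 := by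
    refine ⟨((cechComplexFunctor Y).map (overMap U (G.map g))).f (p + 1) xk, ?_, ?_⟩
    · rw [← hxk]
      apply CechLow.cochain_ext
      intro a
      refine (CechLES.comp_map_apply Y (overMap U (ιc m)) (p + 1) a _).trans ?_
      refine (congrArg (fun z => (overMap U (ιc m)).app (op (∏ᶜ fun k => Y (a k))) z)
        (CechLES.comp_map_apply Y (overMap U (G.map g)) (p + 1) a xk)).trans ?_
      refine Eq.trans ?_ (CechLES.comp_map_apply Y (overMap U (ιc k)) (p + 1) a xk).symm
      exact hw g _ _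
    · apply CechLow.cochain_ext
      intro b
      refine (congrArg (fun z => CechLow.comp Y (overPsh U (G.obj m)) (p + 2) b z)
        (CechLES.map_d_apply Y (overMap U (G.map g)) (p + 1) (p + 2) xk)).trans ?_
      refine (CechLES.comp_map_apply Y (overMap U (G.map g)) (p + 2) b _).trans ?_
      refine Eq.trans ?_ (map_zero _).symm
      obtain ⟨h, hh⟩ := hg b
      exact kill_of_refinement G (f₁ b) h g hh _ _ (hf₁ b)
  -- Step 3: exactness at stage `m`
  haveI := hG m
  haveI : Injective ((G.obj m).obj) := by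
    have h : Injective ((sheafToPresheaf J AddCommGrpCat.{u}).obj (G.obj m)) :=
      Injective.injective_of_adjoint (sheafificationAdjunction J AddCommGrpCat.{u}) _
    exact h
  obtain ⟨ym, hym⟩ := CechLow.exists_of_isZero_homology _ p
    (CechInj.isZero_homology_of_injective Y (G.obj m).obj p) xm hdxm
  -- Step 4: push forward
  refine ⟨((cechComplexFunctor Y).map (overMap U (ιc m))).f p ym, ?_⟩
  refine (CechLES.map_d_apply Y (overMap U (ιc m)) p (p + 1) ym).trans ?_
  rw [hym]
  exact hxm

/-- `Ext^0(Z[h_U]^#, -)` commutes with the colimit when sections over `U` do -/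
theorem extColim_zero (F : I ⥤ Sheaf J AddCommGrpCat.{u}) (U : C)
    (h : SecColim J F (colimit.cocone F) U) :
    ExtColim.{u} (SiteCoh.freeYoneda J U) F 0 := by
  constructor
  · intro x
    obtain ⟨φ, rfl⟩ := (Ext.mk₀_bijective _ _).2 x
    obtain ⟨i, t, ht⟩ := h.surj (SiteCoh.freeYonedaHomEquiv U _ φ)
    refine ⟨i, Ext.mk₀ ((SiteCoh.freeYonedaHomEquiv U _).symm t), ?_⟩
    rw [Ext.mk₀_comp_mk₀]
    congr 1
    apply (SiteCoh.freeYonedaHomEquiv U _).injective
    rw [SiteCoh.freeYonedaHomEquiv_comp, Equiv.apply_symm_apply]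
    exact ht
  · intro i y hy
    obtain ⟨ψ, rfl⟩ := (Ext.mk₀_bijective _ _).2 y
    rw [Ext.mk₀_comp_mk₀] at hy
    have h0 : ψ ≫ colimit.ι F i = 0 := (Ext.mk₀_bijective _ _).1 (hy.trans (Ext.mk₀_zero _ _).symm)
    have h1 : (colimit.ι F i).hom.app (op U) (SiteCoh.freeYonedaHomEquiv U _ ψ) = 0 := by
      rw [← SiteCoh.freeYonedaHomEquiv_comp, h0, SiteCoh.freeYonedaHomEquiv_zero]
    obtain ⟨j, f, hf⟩ := h.inj i _ h1
    refine ⟨j, f, ?_⟩
    rw [Ext.mk₀_comp_mk₀]
    have : ψ ≫ F.map f = 0 := by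
      apply (SiteCoh.freeYonedaHomEquiv U _).injective
      rw [SiteCoh.freeYonedaHomEquiv_comp, hf, SiteCoh.freeYonedaHomEquiv_zero]
    rw [this, Ext.mk₀_zero]

section Main

variable (B : Set C) (Cov : ∀ (U : C) (ι : Type u), (ι → Over U) → Prop)
  (h1 : ∀ (U : C) (ι : Type u) (Y : ι → Over U), Cov U ι Y → Finite ι ∧ U ∈ B ∧
    Sieve.ofArrows (fun i => (Y i).left) (fun i => (Y i).hom) ∈ J U ∧
    ∀ (p : ℕ) (a : Fin (p + 1) → ι), (∏ᶜ fun k => Y (a k)).left ∈ B)
  (h2 : ∀ U ∈ B, ∀ T ∈ J U, ∃ (ι : Type u) (Y : ι → Over U), Cov U ι Y ∧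
    ∀ i, T.arrows (Y i).hom)

include h1 h2 in
/-- a filtered colimit of injective abelian sheaves is acyclic on the members of `B` -/
theorem subsingleton_HU_colimit (G : I ⥤ Sheaf J AddCommGrpCat.{u})
    (hG : ∀ i, Injective (G.obj i)) (U : C) (hU : U ∈ B) (q : ℕ) :
    Subsingleton (CohSite.HU (colimit G) (q + 1) U) := by
  have hB := finCov_of J B Cov h1 h2
  refine Groth.Agent.S0861.result J B Cov
    (fun U ι Y hY => ⟨(h1 U ι Y hY).2.1, (h1 U ι Y hY).2.2.1, (h1 U ι Y hY).2.2.2⟩) h2
    (colimit G) ?_ U hU q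
  intro V ι Y hY p
  haveI := (h1 V ι Y hY).1
  exact isZero_cechH_of_secColim G (colimit.cocone G) hG Y
    (fun n a => secColim G hB _ (colimit.isColimit G) _ ((h1 V ι Y hY).2.2.2 n a)) p

include h1 h2 in
/-- **Cohomology commutes with filtered colimits** (elementwise form). -/
theorem extColim (F : I ⥤ Sheaf J AddCommGrpCat.{u}) (U : C) (hU : U ∈ B) (p : ℕ) :
    ExtColim.{u} (SiteCoh.freeYoneda J U) F p := by
  have hB := finCov_of J B Cov h1 h2
  induction p generalizing F with
  | zero => exact extColim_zero F U (secColim F hB _ (colimit.isColimit F) U hU)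
  | succ p ih =>
    refine ExtColim.step (SiteCoh.freeYoneda J U) p ?_ ?_ ih F
    · intro G hG i q y
      haveI := hG
      haveI := injective_obj G i
      exact Ext.eq_zero_of_injective y
    · intro G hG q x
      haveI := hG
      have := subsingleton_HU_colimit B Cov h1 h2 G (fun i => injective_obj G i) U hU q
      exact this.elim x 0

include h1 h2 in
/-- **Cohomology commutes with filtered colimits**: `H^p(U, -)` preserves the colimit of `F`. -/
theorem preservesColimit_H (F : I ⥤ Sheaf J AddCommGrpCat.{u}) (U : C) (hU : U ∈ B) (p : ℕ) :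
    PreservesColimit F ((Sheaf.cohomologyPresheafFunctor J p).flip.obj (op U)) := by
  have h := extColim B Cov h1 h2 F U hU p
  refine preservesColimit_of_preserves_colimit_cocone (colimit.isColimit F) ?_
  apply isColimitOfElementwise
  · intro x
    obtain ⟨i, y, hy⟩ := h.surj x
    exact ⟨i, y, hy⟩
  · intro i y hy
    exact h.inj i y hy

end Main

end Groth.Agent.Lib.FiltColimCoh
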