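import Groth.Agent.Lib.CechAcyc5
import Mathlib.CategoryTheory.Sites.SheafCohomology.Basic

/-!
# Direct images and acyclicity on objects (helper95)

`subsingleton_HU_push`: if `H^{q+1}(U, F) = 0` for all objects `U` of `C` and all `q`, then
`H^{q+1}(V, u_* F) = 0` for all objects `V` of `D` (S6166).
-/

universe w v u

open CategoryTheory Limits Opposite Abelian AlgebraicTopology Simplicial

set_option linter.unusedSectionVars false

namespace Groth.Agent.Lib.CechAcyc6

open Groth.Agent.Lib.CechAcyc1 Groth.Agent.Lib.CechAcyc2 Groth.Agent.Lib.CechAcyc3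
  Groth.Agent.Lib.CechAcyc4 Groth.Agent.Lib.CechAcyc5

section General

variable {A : Type u} [Category.{v} A] [Abelian A] [HasExt.{w} A]
  {S : ShortComplex A} (hS : S.ShortExact) (X : A)

include hS in
/-- `Ext^{n+1}(X, Q) = 0` and `Ext^{n+2}(X, I) = 0` imply `Ext^{n+2}(X, F) = 0`. -/
lemma subsingleton_ext_succ_succ' (n : ℕ)
    (h₃ : Subsingleton (Ext.{w} X S.X₃ (n + 1))) (h₂ : Subsingleton (Ext.{w} X S.X₂ (n + 2))) :
    Subsingleton (Ext.{w} X S.X₁ (n + 2)) := by
  have key : ∀ x : Ext.{w} X S.X₁ (n + 2), x = 0 := by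
    intro x
    obtain ⟨x₃, rfl⟩ := Ext.covariant_sequence_exact₁ X hS x (h₂.elim _ _)
      (rfl : n + 1 + 1 = n + 2)
    rw [h₃.elim x₃ 0, Ext.zero_comp]
  exact ⟨fun a b => (key a).trans (key b).symm⟩

include hS in
/-- if every morphism `X ⟶ Q` lifts to `I` and `Ext^1(X, I) = 0`, then `Ext^1(X, F) = 0`. -/
lemma subsingleton_ext_one' (h₂ : Subsingleton (Ext.{w} X S.X₂ 1))
    (h : ∀ φ : X ⟶ S.X₃, ∃ ψ : X ⟶ S.X₂, ψ ≫ S.g = φ) : Subsingleton (Ext.{w} X S.X₁ 1) := by
  have key : ∀ x : Ext.{w} X S.X₁ 1, x = 0 := by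
    intro x
    obtain ⟨x₃, rfl⟩ := Ext.covariant_sequence_exact₁ X hS x (h₂.elim _ _)
      (rfl : 0 + 1 = 1)
    obtain ⟨φ, rfl⟩ := (Ext.mk₀_bijective _ _).2 x₃
    obtain ⟨ψ, rfl⟩ := h φ
    rw [← Ext.mk₀_comp_mk₀, Ext.comp_assoc_of_second_deg_zero, hS.comp_extClass, Ext.comp_zero]
  exact ⟨fun a b => (key a).trans (key b).symm⟩

/-- vanishing of `Ext` is invariant under isomorphisms in the first variable. -/
lemma subsingleton_ext_of_iso {X X' : A} (e : X ≅ X') (Y : A) (n : ℕ)
    (h : Subsingleton (Ext.{w} X Y n)) : Subsingleton (Ext.{w} X' Y n) := by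
  have key : ∀ x : Ext.{w} X' Y n, x = 0 := by
    intro x
    have h1 : (Ext.mk₀ e.inv).comp ((Ext.mk₀ e.hom).comp x (zero_add n)) (zero_add n) = x := by
      rw [← Ext.comp_assoc_of_second_deg_zero, Ext.mk₀_comp_mk₀, e.inv_hom_id, Ext.mk₀_id_comp]
    rw [← h1, h.elim ((Ext.mk₀ e.hom).comp x (zero_add n)) 0, Ext.comp_zero]
  exact ⟨fun a b => (key a).trans (key b).symm⟩

end General

section Site

variable {C : Type u} [SmallCategory C] (J : GrothendieckTopology C)

/-- The free abelian sheaf on the representable presheaf of `U`. -/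
noncomputable abbrev freeYoneda (U : C) : Sheaf J AddCommGrpCat.{u} :=
  (presheafToSheaf J AddCommGrpCat.{u}).obj (yoneda.obj U ⋙ AddCommGrpCat.free.{u})

variable {J}

/-- Morphisms out of the free abelian sheaf on `h_U` are sections over `U`
(as in helper92's `Lib/SiteCoh`). -/
noncomputable def freeYonedaHomEquiv (U : C) (G : Sheaf J AddCommGrpCat.{u}) :
    (freeYoneda J U ⟶ G) ≃ G.obj.obj (op U) :=
  ((sheafificationAdjunction J AddCommGrpCat.{u}).homEquiv _ _).trans
    (((AddCommGrpCat.adj.{u}.whiskerRight Cᵒᵖ).homEquiv _ _).trans yonedaEquiv)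

lemma freeYonedaHomEquiv_comp (U : C) {G G' : Sheaf J AddCommGrpCat.{u}}
    (f : freeYoneda J U ⟶ G) (φ : G ⟶ G') :
    freeYonedaHomEquiv U G' (f ≫ φ) = φ.hom.app (op U) (freeYonedaHomEquiv U G f) := by
  simp only [freeYonedaHomEquiv, Equiv.trans_apply, Adjunction.homEquiv_naturality_right]
  erw [Adjunction.homEquiv_naturality_right]
  rw [yonedaEquiv_comp]
  rfl

/-- the two presentations of the free abelian sheaf on a representable -/
noncomputable def freeYonedaIso (U : C) :
    freeYoneda J U ≅ (T J).obj ((presheafToSheaf J (Type u)).obj (yoneda.obj U)) :=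
  ((presheafToSheafCompComposeAndSheafifyIso J AddCommGrpCat.free.{u}).app (yoneda.obj U)).symm

lemma subsingleton_HU_of_isTotallyAcyclic (G : Sheaf J AddCommGrpCat.{u})
    (hG : CohCx.IsTotallyAcyclic G) (U : C) (p : ℕ) :
    Subsingleton (Ext (freeYoneda J U) G (p + 1)) :=
  subsingleton_ext_of_iso (freeYonedaIso U).symm G (p + 1) (hG _ p)

lemma isTotallyAcyclic_of_injective (I : Sheaf J AddCommGrpCat.{u}) [Injective I] :
    CohCx.IsTotallyAcyclic I :=
  fun _ _ => ⟨fun a b => (Ext.eq_zero_of_injective a).trans (Ext.eq_zero_of_injective b).symm⟩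

end Site

section Push

variable {C D : Type u} [SmallCategory C] [SmallCategory D]
  (J : GrothendieckTopology C) (K : GrothendieckTopology D) (u : D ⥤ C) [u.IsContinuous K J]

/-- acyclicity on the objects of the site -/
def ObjAcyclic (F : Sheaf J AddCommGrpCat.{u}) : Prop :=
  ∀ (U : C) (q : ℕ), Subsingleton (Ext (freeYoneda J U) F (q + 1))

variable {J}

lemma surjective_of_subsingleton_ext_one {S : ShortComplex (Sheaf J AddCommGrpCat.{u})}
    (hS : S.ShortExact) (U : C) (h : Subsingleton (Ext (freeYoneda J U) S.X₁ 1)) :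
    Function.Surjective (S.g.hom.app (op U)) := by
  intro s
  obtain ⟨ψ, hψ⟩ := exists_lift_of_subsingleton_ext_one hS (freeYoneda J U) h
    ((freeYonedaHomEquiv U _).symm s)
  refine ⟨freeYonedaHomEquiv U _ ψ, ?_⟩
  rw [← freeYonedaHomEquiv_comp, hψ, Equiv.apply_symm_apply]

lemma shortExact_map_push {S : ShortComplex (Sheaf J AddCommGrpCat.{u})} (hS : S.ShortExact)
    (h : ∀ U : C, Subsingleton (Ext (freeYoneda J U) S.X₁ 1)) :
    (S.map (CohSite.push J K u)).ShortExact := by
  have hmono := hS.mono_f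
  have h1 : (S.map (CohSite.push J K u)).Exact :=
    hS.exact.map_of_mono_of_preservesKernel (CohSite.push J K u) hmono inferInstance
  have h2 : Mono (S.map (CohSite.push J K u)).f := by
    change Mono ((CohSite.push J K u).map S.f)
    infer_instance
  have h3 : Epi (S.map (CohSite.push J K u)).g := by
    have : Sheaf.IsLocallySurjective (S.map (CohSite.push J K u)).g := by
      apply Presheaf.isLocallySurjective_of_surjective
      intro V
      exact surjective_of_subsingleton_ext_one hS (u.obj V.unop) (h _)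
    infer_instance
  exact { exact := h1 }

variable [PreservesFiniteLimits (us J K u)]

/-- **S6166**: the direct image of a sheaf acyclic on the objects of `C` is acyclic on the objects
of `D`. -/
theorem subsingleton_ext_push (q : ℕ) :
    ∀ (F : Sheaf J AddCommGrpCat.{u}), ObjAcyclic J F → ∀ V : D,
      Subsingleton (Ext (freeYoneda K V) ((CohSite.push J K u).obj F) (q + 1)) := by
  induction q with
  | zero =>
    intro F hF V
    have hS' := shortExact_map_push K u (injSC_shortExact F) (fun U => hF U 0)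
    refine subsingleton_ext_one' hS' (freeYoneda K V)
      (subsingleton_HU_of_isTotallyAcyclic _
        (isTotallyAcyclic_push J K u _ (isTotallyAcyclic_of_injective (injSC F).X₂)) V 0) ?_
    intro φ
    obtain ⟨t, ht⟩ := surjective_of_subsingleton_ext_one (injSC_shortExact F) (u.obj V) (hF _ 0)
      (freeYonedaHomEquiv V _ φ)
    refine ⟨(freeYonedaHomEquiv V ((CohSite.push J K u).obj (injSC F).X₂)).symm t, ?_⟩
    apply (freeYonedaHomEquiv V _).injective
    refine (freeYonedaHomEquiv_comp V _ _).trans ?_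
    refine Eq.trans ?_ ht
    exact congrArg _ (Equiv.apply_symm_apply (freeYonedaHomEquiv V
      ((CohSite.push J K u).obj (injSC F).X₂)) t)
  | succ q ih =>
    intro F hF V
    have hS' := shortExact_map_push K u (injSC_shortExact F) (fun U => hF U 0)
    refine subsingleton_ext_succ_succ' hS' (freeYoneda K V) q (ih (injSC F).X₃ ?_ V)
      (subsingleton_HU_of_isTotallyAcyclic _
        (isTotallyAcyclic_push J K u _ (isTotallyAcyclic_of_injective (injSC F).X₂)) V (q + 1))
    intro U p
    exact subsingleton_ext_succ_of_succ_succ (injSC_shortExact F) _ p (hF U (p + 1))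

end Push

end Groth.Agent.Lib.CechAcyc6
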