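import Groth.Agent.Lib.ModAcyc
import Groth.Agent.Lib.CechAcyc6
import Groth.Agent.Lib.ExtCompare95
import Groth.Agent.Lib.ModToSheafColim
import Groth.Agent.S0485
import Mathlib.CategoryTheory.Sites.SheafCohomology.Basic
import Mathlib.Algebra.Category.Grp.ForgetCorepresentable

/-!
# `Ext^n_O(O, M) ≃+ H^n(M)` for sheaves of modules on a small site (helper95)
-/

open CategoryTheory Limits Opposite

set_option linter.unusedSectionVars false

namespace Groth.Agent.Lib.ModUnitH

universe u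

/-- maps out of `ℤ` are elements -/
noncomputable def zEquiv (G : AddCommGrpCat.{u}) : (AddCommGrpCat.of (ULift.{u} ℤ) ⟶ G) ≃ G where
  toFun f := f ⟨1⟩
  invFun a := AddCommGrpCat.ofHom ((zmultiplesHom G a).comp AddEquiv.ulift.toAddMonoidHom)
  left_inv f := by
    ext ⟨n⟩
    simp only [AddCommGrpCat.hom_ofHom, AddMonoidHom.coe_comp, Function.comp_apply]
    change n • f ⟨1⟩ = f ⟨n⟩
    rw [← map_zsmul]
    congr 1
    ext
    simp
  right_inv a := by
    simp only [AddCommGrpCat.hom_ofHom, AddMonoidHom.coe_comp, Function.comp_apply]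
    change (1 : ℤ) • a = a
    simp

lemma zEquiv_comp (G G' : AddCommGrpCat.{u}) (f : AddCommGrpCat.of (ULift ℤ) ⟶ G) (h : G ⟶ G') :
    zEquiv G' (f ≫ h) = h (zEquiv G f) := rfl

lemma zEquiv_symm_comp (G G' : AddCommGrpCat.{u}) (a : G) (h : G ⟶ G') :
    (zEquiv G).symm a ≫ h = (zEquiv G').symm (h a) := by
  apply (zEquiv G').injective
  rw [zEquiv_comp, Equiv.apply_symm_apply, Equiv.apply_symm_apply]

variable {C : Type u} [SmallCategory C] {J : GrothendieckTopology C}

/-- morphisms out of the constant presheaf `ℤ` are compatible families of elements -/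
noncomputable def constHomEquiv (P : Cᵒᵖ ⥤ AddCommGrpCat.{u}) :
    ((Functor.const Cᵒᵖ).obj (AddCommGrpCat.of (ULift.{u} ℤ)) ⟶ P) ≃
      (P ⋙ forget AddCommGrpCat.{u}).sections where
  toFun f := ⟨fun U => zEquiv _ (f.app U), by
    intro U V g
    have := f.naturality g
    dsimp at this
    rw [Category.id_comp] at this
    change P.map g (zEquiv _ (f.app U)) = zEquiv _ (f.app V)
    rw [← zEquiv_comp, ← this]⟩
  invFun s :=
    { app := fun U => (zEquiv (P.obj U)).symm (s.1 U)
      naturality := by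
        intro U V g
        dsimp
        rw [Category.id_comp, zEquiv_symm_comp]
        congr 1
        exact (s.2 g).symm }
  left_inv f := by
    ext U : 2
    exact Equiv.symm_apply_apply _ _
  right_inv s := by
    ext U
    exact Equiv.apply_symm_apply _ _

lemma constHomEquiv_comp {P Q : Cᵒᵖ ⥤ AddCommGrpCat.{u}}
    (f : (Functor.const Cᵒᵖ).obj (AddCommGrpCat.of (ULift.{u} ℤ)) ⟶ P) (ψ : P ⟶ Q) (U : Cᵒᵖ) :
    (constHomEquiv Q (f ≫ ψ)).1 U = ψ.app U ((constHomEquiv P f).1 U) := rfl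

variable (J) in
/-- the constant sheaf `ℤ` -/
noncomputable abbrev Zc : Sheaf J AddCommGrpCat.{u} :=
  (constantSheaf J AddCommGrpCat.{u}).obj (AddCommGrpCat.of (ULift.{u} ℤ))

/-- maps out of the constant sheaf `ℤ` are sections -/
noncomputable def ZcHomEquiv (A : Sheaf J AddCommGrpCat.{u}) :
    (Zc J ⟶ A) ≃ (A.obj ⋙ forget AddCommGrpCat.{u}).sections :=
  ((sheafificationAdjunction J AddCommGrpCat.{u}).homEquiv _ A).trans (constHomEquiv A.obj)

lemma ZcHomEquiv_comp {A A' : Sheaf J AddCommGrpCat.{u}} (z : Zc J ⟶ A) (ψ : A ⟶ A') (U : Cᵒᵖ) :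
    (ZcHomEquiv A' (z ≫ ψ)).1 U = ψ.hom.app U ((ZcHomEquiv A z).1 U) := by
  simp only [ZcHomEquiv]
  exact constHomEquiv_comp _ _ U

variable (R : Sheaf J RingCat.{u})

/-- the unit section, as a map from the constant sheaf `ℤ` to the structure sheaf -/
noncomputable def ι : Zc J ⟶ (SheafOfModules.toSheaf R).obj (SheafOfModules.unit R) :=
  (ZcHomEquiv _).symm ((SheafOfModules.unit R).unitHomEquiv (𝟙 _))

lemma bijective_ι_comp (F : SheafOfModules.{u} R) :
    Function.Bijective (fun φ : SheafOfModules.unit R ⟶ F =>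
      ι R ≫ (SheafOfModules.toSheaf R).map φ) := by
  have e : (fun φ : SheafOfModules.unit R ⟶ F => ι R ≫ (SheafOfModules.toSheaf R).map φ) =
      (ZcHomEquiv ((SheafOfModules.toSheaf R).obj F)).symm ∘ F.unitHomEquiv := by
    ext φ : 1
    apply (ZcHomEquiv _).injective
    rw [Function.comp_apply, Equiv.apply_symm_apply]
    ext U
    rw [ZcHomEquiv_comp, ι, Equiv.apply_symm_apply]
    rfl
  rw [e]
  exact (Equiv.bijective _).comp (Equiv.bijective _)

section Terminal

open Groth.Agent.Lib.CechAcyc3 Groth.Agent.Lib.CechAcyc6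

variable (J) in
/-- the terminal sheaf of sets -/
abbrev K₁ : Sheaf J (Type u) :=
  ⟨(Functor.const Cᵒᵖ).obj PUnit.{u + 1}, Presheaf.isSheaf_of_isTerminal J Types.isTerminalPUnit⟩

/-- `ℤ` is the free abelian group on a point -/
noncomputable def zIso : AddCommGrpCat.of (ULift.{u} ℤ) ≅ AddCommGrpCat.free.{u}.obj PUnit.{u + 1} :=
  (AddEquiv.ulift.trans (FreeAbelianGroup.uniqueEquiv PUnit.{u + 1}).symm).toAddCommGrpIso

variable (J) in
/-- the constant sheaf `ℤ` is the free abelian sheaf on the terminal sheaf of sets -/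
noncomputable def ZcIso : Zc J ≅ (T J).obj (K₁ J) :=
  (presheafToSheaf J AddCommGrpCat.{u}).mapIso
    ((Functor.const Cᵒᵖ).mapIso zIso ≪≫ (Functor.constComp _ _ _).symm)

lemma subsingleton_ext_Zc_of_isTotallyAcyclic (A : Sheaf J AddCommGrpCat.{u})
    (hA : CohCx.IsTotallyAcyclic A) (p : ℕ) :
    Subsingleton (Abelian.Ext (Zc J) A (p + 1)) :=
  subsingleton_ext_of_iso (ZcIso J).symm A (p + 1) (hA (K₁ J) p)

end Terminal

/-- **`Ext^n_O(O, M) ≃+ H^n(M)`** -/
theorem nonempty_ext_unit_addEquiv_H [HasExt.{u} (SheafOfModules.{u} R)]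
    (M : SheafOfModules.{u} R) (n : ℕ) :
    Nonempty (Abelian.Ext (SheafOfModules.unit R) M n ≃+
      Sheaf.H.{u} ((SheafOfModules.toSheaf R).obj M) n) := by
  have : EnoughInjectives (SheafOfModules.{u} R) := Groth.Agent.S0485.result J R
  have : PreservesFiniteColimits (SheafOfModules.toSheaf.{u} R) := ⟨fun K _ _ => inferInstance⟩
  exact Groth.Agent.Lib.ExtCompare95.nonempty_addEquiv (SheafOfModules.toSheaf.{u} R) (ι R)
    (bijective_ι_comp R)
    (fun I hI q => subsingleton_ext_Zc_of_isTotallyAcyclic _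
      (Groth.Agent.Lib.ModAcyc.isTotallyAcyclic_of_injective R I) q) n M

end Groth.Agent.Lib.ModUnitH
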