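import Groth.Agent.Lib.TFin
import Mathlib.CategoryTheory.Sites.LocallyBijective
import Mathlib.CategoryTheory.Sites.LeftExact

/-!
# Sheaves associated to representable presheaves: sections and quasi-compactness
-/

set_option autoImplicit false
universe u
open CategoryTheory CategoryTheory.Limits Opposite

namespace Groth.Agent.Lib.TFinEps

open _root_.ToposFin Groth.Agent.Lib.TFin

variable {C : Type u} [SmallCategory C] (J : GrothendieckTopology C)

/-- The canonical section of `eps J X` attached to a morphism `U ⟶ X`. -/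
noncomputable def etaSec (X : C) {U : C} (h : U ⟶ X) : sec (eps J X) U :=
  (toSheafify J (yoneda.obj X)).app (op U) h

lemma res_etaSec (X : C) {U V : C} (f : V ⟶ U) (h : U ⟶ X) :
    res f (etaSec J X h) = etaSec J X (f ≫ h) :=
  (NatTrans.naturality_apply (toSheafify J (yoneda.obj X)) f.op h).symm

lemma etaSec_surj (X : C) {U : C} (x : sec (eps J X) U) :
    Presheaf.imageSieve (toSheafify J (yoneda.obj X)) x ∈ J U :=
  Presheaf.imageSieve_mem J (toSheafify J (yoneda.obj X)) x

lemma etaSec_inj (X : C) {U : C} (h h' : U ⟶ X) (e : etaSec J X h = etaSec J X h') :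
    Presheaf.equalizerSieve (F := yoneda.obj X) (X := op U) h h' ∈ J U :=
  Presheaf.equalizerSieve_mem J (toSheafify J (yoneda.obj X)) h h' e

/-- The functor `eps` on morphisms. -/
noncomputable abbrev epsMap {X X' : C} (a : X ⟶ X') : eps J X ⟶ eps J X' :=
  (presheafToSheaf J (Type u)).map (yoneda.map a)

lemma ap_epsMap_etaSec {X X' : C} (a : X ⟶ X') {U : C} (h : U ⟶ X) :
    ap (epsMap J a) (etaSec J X h) = etaSec J X' (h ≫ a) := by
  have := congrArg (fun t => t.app (op U) h) (toSheafify_naturality J (yoneda.map a))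
  exact this.symm

/-- Yoneda: the morphism attached to a section. -/
noncomputable def homOfSec {F : Sh J} {U : C} (y : sec F U) : eps J U ⟶ F :=
  ⟨sheafifyLift J (yonedaEquiv.symm y) F.property⟩

lemma ap_homOfSec {F : Sh J} {U : C} (y : sec F U) {V : C} (h : V ⟶ U) :
    ap (homOfSec J y) (etaSec J U h) = res h y := by
  have := congrArg (fun t => t.app (op V) h)
    (toSheafify_sheafifyLift J (yonedaEquiv.symm y) F.property)
  exact this

/-- If `X` is quasi-compact in the site, then `eps J X` is quasi-compact in the topos. -/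
theorem isQC_eps_of_isQCSite (X : C) (hX : IsQCSite J X) : IsQC (eps J X) := by
  classical
  rw [isQC_iff_cov]
  intro ι F π hπ
  obtain ⟨n, V, g, hgS, hcov⟩ := hX _ (hπ X (etaSec J X (𝟙 X)))
  choose i y hy using hgS
  refine ⟨Finset.image i Finset.univ, ?_⟩
  intro U x
  refine J.transitive (etaSec_surj J X x) _ ?_
  rintro W f ⟨h, hh⟩
  refine J.superset_covering ?_ (J.pullback_stable h hcov)
  intro W' w hw
  obtain ⟨k, a, ha⟩ := (Sieve.mem_ofArrows_iff _ _ _).1 hw
  refine ⟨⟨i k, Finset.mem_image_of_mem i (Finset.mem_univ k)⟩, res a (y k), ?_⟩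
  change ap (π (i k)) (res a (y k)) = res (w ≫ f) x
  rw [ap_res, hy, res_etaSec, res_etaSec, Category.comp_id, ← ha, ← res_etaSec, res_comp]
  congr 1

/-- The family of all `eps J V ⟶ eps J X` coming from members of a covering sieve is covering. -/
lemma cov_epsMap_of_mem (X : C) (S : Sieve X) (hS : S ∈ J X) :
    Cov (fun p : (Σ V : C, {f : V ⟶ X // S f}) => epsMap J p.2.1) := by
  intro U x
  refine J.transitive (etaSec_surj J X x) _ ?_
  rintro W f ⟨h, hh⟩
  refine J.superset_covering ?_ (J.pullback_stable h hS)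
  intro W' w hw
  refine ⟨⟨W', w ≫ h, hw⟩, etaSec J W' (𝟙 W'), ?_⟩
  change ap (epsMap J (w ≫ h)) (etaSec J W' (𝟙 W')) = res (w ≫ f) x
  rw [ap_epsMap_etaSec, Category.id_comp, ← res_etaSec, res_comp]
  congr 1

/-- If `eps J X` is quasi-compact in the topos, then `X` is quasi-compact in the site. -/
theorem isQCSite_of_isQC_eps (X : C) (hq : IsQC (eps J X)) : IsQCSite J X := by
  intro S hS
  obtain ⟨s, hs⟩ := (isQC_iff_cov _).1 hq _ _ _ (cov_epsMap_of_mem J X S hS)
  let e := s.equivFin
  refine ⟨s.card, fun k => (e.symm k).1.1, fun k => (e.symm k).1.2.1,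
    fun k => (e.symm k).1.2.2, ?_⟩
  have hmem : ∀ q : s, Sieve.ofArrows (fun k => (e.symm k).1.1) (fun k => (e.symm k).1.2.1)
      q.1.2.1 := by
    intro q
    obtain ⟨k, rfl⟩ := e.symm.surjective q
    exact Sieve.ofArrows_mk _ _ k
  refine J.transitive (hs X (etaSec J X (𝟙 X))) _ ?_
  rintro W f ⟨q, y, hy⟩
  change ap (epsMap J q.1.2.1) y = res f (etaSec J X (𝟙 X)) at hy
  rw [res_etaSec, Category.comp_id] at hy
  refine J.transitive (etaSec_surj J q.1.1 y) _ ?_
  rintro W' w ⟨h', hh'⟩
  have e1 : etaSec J X (h' ≫ q.1.2.1) = etaSec J X (w ≫ f) := by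
    rw [← ap_epsMap_etaSec, ← res_etaSec, ← hy, ← ap_res]
    congr 1
  refine J.superset_covering ?_ (etaSec_inj J X _ _ e1)
  intro W'' v hv
  change v ≫ (h' ≫ q.1.2.1) = v ≫ (w ≫ f) at hv
  change Sieve.ofArrows _ _ ((v ≫ w) ≫ f)
  rw [Category.assoc, ← hv, ← Category.assoc]
  exact Sieve.downward_closed _ (hmem q) _

theorem isQCSite_iff_isQC_eps (X : C) : IsQCSite J X ↔ IsQC (eps J X) :=
  ⟨isQC_eps_of_isQCSite J X, isQCSite_of_isQC_eps J X⟩

lemma etaSec_eq_res_id (X : C) {U : C} (h : U ⟶ X) :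
    etaSec J X h = res h (etaSec J X (𝟙 X)) := by
  rw [res_etaSec, Category.comp_id]

/-- Morphisms out of `eps J U` are determined by their value on the universal section. -/
lemma eps_hom_ext {F : Sh J} {U : C} (a b : eps J U ⟶ F)
    (h : ap a (etaSec J U (𝟙 U)) = ap b (etaSec J U (𝟙 U))) : a = b := by
  apply hom_ext_sec
  intro W x
  apply sec_ext _ _ _ (etaSec_surj J U x)
  rintro W' f ⟨k, hk⟩
  have hk' : res f x = res k (etaSec J U (𝟙 U)) := by
    rw [← etaSec_eq_res_id]
    exact hk.symm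
  rw [← ap_res, ← ap_res, hk', ap_res, ap_res, h]

/-- Every object over `eps J X` is covered by sheaves `eps J U` whose structure maps to
`eps J X` come from morphisms of the site. -/
lemma exists_cov_eps_over {A : Sh J} {X : C} (t : A ⟶ eps J X) :
    ∃ (ι : Type u) (U : ι → C) (e : ∀ i, eps J (U i) ⟶ A) (h : ∀ i, U i ⟶ X),
      Cov e ∧ ∀ i, e i ≫ t = epsMap J (h i) := by
  refine ⟨Σ (U : C) (y : sec A U), {h : U ⟶ X // ap t y = etaSec J X h}, fun p => p.1,
    fun p => homOfSec J p.2.1, fun p => p.2.2.1, ?_, ?_⟩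
  · intro W x
    refine J.superset_covering ?_ (etaSec_surj J X (ap t x))
    rintro W' f ⟨h, hh⟩
    refine ⟨⟨W', res f x, h, ?_⟩, etaSec J W' (𝟙 W'), ?_⟩
    · rw [ap_res]
      exact hh.symm
    · change ap (homOfSec J (res f x)) (etaSec J W' (𝟙 W')) = res f x
      rw [ap_homOfSec, res_id]
  · rintro ⟨U, y, h, hy⟩
    apply eps_hom_ext
    change ap (homOfSec J y ≫ t) (etaSec J U (𝟙 U)) = ap (epsMap J h) (etaSec J U (𝟙 U))
    rw [ap_comp, ap_homOfSec, res_id, hy, ap_epsMap_etaSec, Category.id_comp]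

/-- The topos has a generating family of quasi-compact objects when all objects of the site are
quasi-compact. -/
lemma hasQCGenerators_of_isQCSite (hC : ∀ X : C, IsQCSite J X) : HasQCGenerators J := by
  intro F
  refine ⟨Σ (U : C), sec F U, fun p => eps J p.1, fun p => homOfSec J p.2,
    fun p => isQC_eps_of_isQCSite J p.1 (hC p.1), ?_⟩
  rw [epi_sigmaDesc_iff_cov]
  intro W x
  refine J.superset_covering ?_ (J.top_mem W)
  intro W' f _
  refine ⟨⟨W', res f x⟩, etaSec J W' (𝟙 W'), ?_⟩
  change ap (homOfSec J (res f x)) (etaSec J W' (𝟙 W')) = res f x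
  rw [ap_homOfSec, res_id]

section Pullbacks

variable [HasPullbacks C]

/-- The comparison map from `eps` of a fibre product to the fibre product of `eps`. -/
noncomputable def epsPullbackComparison {U V X : C} (h : U ⟶ X) (h' : V ⟶ X) :
    eps J (pullback h h') ⟶ pullback (epsMap J h) (epsMap J h') :=
  pullback.lift (epsMap J (pullback.fst h h')) (epsMap J (pullback.snd h h'))
    (by rw [← Functor.map_comp, ← Functor.map_comp, ← Functor.map_comp, ← Functor.map_comp,
      pullback.condition])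

lemma cov_epsPullbackComparison {U V X : C} (h : U ⟶ X) (h' : V ⟶ X) :
    Cov (fun _ : Unit => epsPullbackComparison J h h') := by
  intro W z
  have hz := pb_condition (epsMap J h) (epsMap J h') z
  refine J.transitive (J.intersection_covering
    (etaSec_surj J U (ap (pullback.fst _ _) z)) (etaSec_surj J V (ap (pullback.snd _ _) z))) _ ?_
  rintro W' f ⟨⟨a, ha⟩, ⟨b, hb⟩⟩
  have ha' : etaSec J U a = res f (ap (pullback.fst _ _) z) := ha
  have hb' : etaSec J V b = res f (ap (pullback.snd _ _) z) := hb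
  have e1 : etaSec J X (a ≫ h) = etaSec J X (b ≫ h') := by
    rw [← ap_epsMap_etaSec, ← ap_epsMap_etaSec, ha', hb', ap_res, ap_res, hz]
  refine J.superset_covering ?_ (etaSec_inj J X _ _ e1)
  intro W'' w hw
  change w ≫ (a ≫ h) = w ≫ (b ≫ h') at hw
  refine ⟨(), etaSec J _ (pullback.lift (w ≫ a) (w ≫ b) (by simpa using hw)), ?_⟩
  change ap (epsPullbackComparison J h h') _ = res (w ≫ f) z
  rw [res_comp]
  apply pb_ext
  · rw [epsPullbackComparison, ap_lift_fst, ap_epsMap_etaSec, pullback.lift_fst, ← res_etaSec,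
      ap_res, ap_res, ha']
  · rw [epsPullbackComparison, ap_lift_snd, ap_epsMap_etaSec, pullback.lift_snd, ← res_etaSec,
      ap_res, ap_res, hb']

variable (hC : ∀ X : C, IsQCSite J X)
include hC

lemma isQC_pullback_epsMap {U V X : C} (h : U ⟶ X) (h' : V ⟶ X) :
    IsQC (pullback (epsMap J h) (epsMap J h')) :=
  isQC_of_cov_finite _ _ (cov_epsPullbackComparison J h h')
    (fun _ => isQC_eps_of_isQCSite J _ (hC _))

lemma isQCHom_epsMap {U X : C} (h : U ⟶ X) : IsQCHom (epsMap J h) := by
  apply isQCHom_of_local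
  intro T t _
  obtain ⟨ι, V, e, h', he, hcomp⟩ := exists_cov_eps_over J t
  refine ⟨ι, _, e, he, fun i => ?_⟩
  refine isQC_of_iso (pullback.congrHom rfl (hcomp i).symm) ?_
  exact isQC_pullback_epsMap J hC h (h' i)

/-- Every `eps J X` is quasi-separated. -/
theorem isQS_eps (X : C) : IsQS (eps J X) := by
  rw [isQS_iff]
  intro A t hA
  obtain ⟨ι, U, e, h, he, hcomp⟩ := exists_cov_eps_over J t
  obtain ⟨s, hs⟩ := (isQC_iff_cov A).1 hA ι _ e he
  refine isQCHom_of_cov_finite_source t _ _ hs (fun i => ?_)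
  rw [hcomp]
  exact isQCHom_epsMap J hC (h i)

/-- Every `eps J X` is coherent. -/
theorem isCoherent_eps (X : C) : IsCoherent (eps J X) :=
  ⟨isQC_eps_of_isQCSite J X (hC X), isQS_eps J hC X⟩

omit hC in
lemma isPullback_epsMap {U V X : C} (h : U ⟶ X) (h' : V ⟶ X) :
    IsPullback (epsMap J (pullback.fst h h')) (epsMap J (pullback.snd h h'))
      (epsMap J h) (epsMap J h') :=
  (IsPullback.of_hasPullback h h').map (yoneda ⋙ presheafToSheaf J (Type u))

/-- Every morphism from a quasi-separated object to `eps J X` is quasi-separated. -/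
theorem isQSHom_to_eps {G : Sh J} {X : C} (g : G ⟶ eps J X) (hG : IsQS G) : IsQSHom g := by
  obtain ⟨ι, U, e, h, he, hcomp⟩ := exists_cov_eps_over J g
  refine isQSHom_of_cover_with_qs_products (hasQCGenerators_of_isQCSite J hC) g _ e he
    (fun i => isQC_eps_of_isQCSite J _ (hC _)) (fun i j => ?_) hG
  refine isQS_of_mono (pullback.congrHom (hcomp i) (hcomp j) ≪≫
    (isPullback_epsMap J (h i) (h j)).isoPullback.symm).hom (isQS_eps J hC _)

theorem isQS_pullback_over_eps {G H : Sh J} {X : C} (g : G ⟶ eps J X) (h : H ⟶ eps J X)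
    (hG : IsQS G) (hH : IsQS H) : IsQS (pullback g h) :=
  isQS_of_isQSHom (pullback.fst g h)
    ((qcHom (J := J)).diagonal.pullback_fst g h (isQSHom_to_eps J hC h hH)) hG

theorem isCoherent_pullback_over_eps {G H F : Sh J} (a : G ⟶ F) (b : H ⟶ F)
    (hG : IsCoherent G) (hH : IsCoherent H) (hF : IsCoherent F) (X : C) (w : F ⟶ eps J X) :
    IsCoherent (pullback a b) := by
  refine ⟨hF.2 _ _ a b hG.1 hH.1, ?_⟩
  have hb : IsQSHom b := isQSHom_of_comp b w (isQSHom_to_eps J hC (b ≫ w) hH.2)
  exact isQS_of_isQSHom (pullback.fst a b)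
    ((qcHom (J := J)).diagonal.pullback_fst a b hb) hG.2

end Pullbacks

end Groth.Agent.Lib.TFinEps
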