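import Groth.Agent.Lib.TFinFun
import Groth.Agent.Lib.TFinEps
import Mathlib.CategoryTheory.Sites.Pullback

/-!
# Morphisms of sites and coherence
-/

set_option autoImplicit false
universe u
open CategoryTheory CategoryTheory.Limits Opposite

namespace Groth.Agent.Lib.TFinSite

open _root_.ToposFin Groth.Agent.Lib.TFin Groth.Agent.Lib.TFinAlg Groth.Agent.Lib.TFinEps
  Groth.Agent.Lib.TFinFun

variable {C D : Type u} [SmallCategory C] [SmallCategory D] (J : GrothendieckTopology C)
  (K : GrothendieckTopology D) (G : C ⥤ D) [Functor.IsContinuous G J K]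
  (F : Sh J ⥤ Sh K) (adj : F ⊣ G.sheafPushforwardContinuous (Type u) J K)

/-- Sections of the pushforward over `U` are sections over `G.obj U`. -/
abbrev pushSec {H : Sh K} {U : C} (x : sec H (G.obj U)) :
    sec ((G.sheafPushforwardContinuous (Type u) J K).obj H) U := x

/-- Sections of the pushforward over `U` are sections over `G.obj U`. -/
abbrev pullSec {H : Sh K} {U : C}
    (x : sec ((G.sheafPushforwardContinuous (Type u) J K).obj H) U) : sec H (G.obj U) := x

lemma ap_pushforward_map {H H' : Sh K} (a : H ⟶ H') {U : C} (x : sec H (G.obj U)) :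
    ap ((G.sheafPushforwardContinuous (Type u) J K).map a) (pushSec J K G x) =
      pushSec J K G (ap a x) := rfl

/-- The inverse image of a representable sheaf is the representable sheaf of the image. -/
noncomputable def mapEpsIso (U : C) : F.obj (eps J U) ≅ eps K (G.obj U) where
  hom := (adj.homEquiv _ _).symm (homOfSec J (pushSec J K G (etaSec K (G.obj U) (𝟙 _))))
  inv := homOfSec K (pullSec J K G (ap (adj.unit.app (eps J U)) (etaSec J U (𝟙 U))))
  hom_inv_id := by
    apply (adj.homEquiv _ _).injective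
    rw [adj.homEquiv_naturality_right, Equiv.apply_symm_apply, adj.homEquiv_id]
    apply eps_hom_ext
    rw [ap_comp, ap_homOfSec, res_id, ap_pushforward_map, ap_homOfSec, res_id]
  inv_hom_id := by
    apply eps_hom_ext
    rw [ap_comp, ap_homOfSec, res_id, ap_id]
    have h1 := ap_pushforward_map J K G ((adj.homEquiv _ _).symm
      (homOfSec J (pushSec J K G (etaSec K (G.obj U) (𝟙 _)))))
      (pullSec J K G (ap (adj.unit.app (eps J U)) (etaSec J U (𝟙 U))))
    have h2 : ap (adj.unit.app (eps J U) ≫ (G.sheafPushforwardContinuous (Type u) J K).map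
        ((adj.homEquiv _ _).symm (homOfSec J (pushSec J K G (etaSec K (G.obj U) (𝟙 _))))))
        (etaSec J U (𝟙 U)) = pushSec J K G (etaSec K (G.obj U) (𝟙 _)) := by
      have h3 := adj.homEquiv_unit (f := (adj.homEquiv _ _).symm
        (homOfSec J (pushSec J K G (etaSec K (G.obj U) (𝟙 _)))))
      rw [Equiv.apply_symm_apply] at h3
      rw [← h3, ap_homOfSec, res_id]
    rw [ap_comp] at h2
    exact h1.symm.trans h2

omit [Functor.IsContinuous G J K] in
/-- Every sheaf is covered by the morphisms from representable sheaves given by its sections. -/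
lemma cov_homOfSec (X : Sh J) : Cov (fun p : (Σ U : C, sec X U) => homOfSec J p.2) := by
  intro W x
  refine J.superset_covering ?_ (J.top_mem W)
  intro W' f _
  refine ⟨⟨W', res f x⟩, etaSec J W' (𝟙 W'), ?_⟩
  change ap (homOfSec J (res f x)) (etaSec J W' (𝟙 W')) = res f x
  rw [ap_homOfSec, res_id]

lemma isCoherent_of_iso {X Y : Sh J} (e : X ≅ Y) (hX : IsCoherent X) : IsCoherent Y :=
  ⟨isQC_of_iso e hX.1, isQS_of_mono e.inv hX.2⟩

include adj in
/-- A morphism of sites between sites with fibre products all of whose objects are quasi-compact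
induces a coherent morphism of topoi. -/
theorem coherent_of_qc_sites [HasPullbacks C] [HasPullbacks D] (hC : ∀ X : C, IsQCSite J X)
    (hD : ∀ Y : D, IsQCSite K Y) [PreservesFiniteLimits F] :
    (∀ X : Sh J, IsQC X → IsQC (F.obj X)) ∧ (∀ X : Sh J, IsQS X → IsQS (F.obj X)) := by
  let S : Set (Sh J) := {X | ∃ U : C, Nonempty (X ≅ eps J U)}
  have hS : ∀ X ∈ S, IsCoherent X := by
    rintro X ⟨U, ⟨e⟩⟩
    exact isCoherent_of_iso J e.symm (isCoherent_eps J hC U)
  have hgen : IsGenerating S := by
    intro X
    exact ⟨Σ U : C, sec X U, fun p => eps J p.1, fun p => homOfSec J p.2,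
      fun p => ⟨p.1, ⟨Iso.refl _⟩⟩, jointlyEpi_of_cov _ (cov_homOfSec J X)⟩
  have h : ∀ X ∈ S, IsCoherent (F.obj X) := by
    rintro X ⟨U, ⟨e⟩⟩
    exact isCoherent_of_iso K (F.mapIso e ≪≫ mapEpsIso J K G F adj U).symm
      (isCoherent_eps K hD (G.obj U))
  exact ⟨isQC_map_of_generating F _ adj S hgen (fun X hX => (h X hX).1),
    isQS_map_of_generating F _ adj (hasQCGenerators_of_isQCSite K hD) S hS hgen h⟩

end Groth.Agent.Lib.TFinSite
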