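import Groth.Agent.Lib.FiltExt3
import Groth.Agent.Lib.ModUnitH
import Groth.Agent.Lib.TFinSite

/-!
# Cohomology of a coherent topos commutes with filtered colimits (helper95)
-/

universe u

open CategoryTheory Limits Opposite Abelian

set_option linter.unusedSectionVars false

namespace Groth.Agent.Lib.FiltExt4

open Groth.Agent.Lib.FiltExt3 Groth.Agent.Lib.CechAcyc3 Groth.Agent.Lib.ModUnitH ToposFin

variable {C : Type u} [SmallCategory C] (J : GrothendieckTopology C)

/-- the constant presheaf of points is a terminal sheaf -/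
def isTerminalK₁ : IsTerminal (K₁ J) :=
  IsTerminal.ofUniqueHom (fun X => ⟨{ app := fun _ => ↾fun _ => PUnit.unit }⟩)
    (fun X m => by
      ext U x
      rfl)

variable {J}

lemma isCoherent_K₁ (hT : IsCoherent (⊤_ (Sh J))) : IsCoherent (K₁ J) :=
  Groth.Agent.Lib.TFinSite.isCoherent_of_iso J
    (terminalIsTerminal.uniqueUpToIso (isTerminalK₁ J)) hT

variable (J) in
/-- `H^q` as an `Ext` functor -/
noncomputable def functorHIso (q : ℕ) :
    (Sheaf.functorH J q : Sheaf J AddCommGrpCat.{u} ⥤ AddCommGrpCat.{u}) ≅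
      (extFunctor.{u} q).obj (op ((T J).obj (K₁ J))) :=
  (NatIso.ofComponents (fun F => Iso.refl _) (by
    intro F G f
    rfl) : Sheaf.functorH J q ≅ (extFunctor.{u} q).obj (op (Zc J))) ≪≫
    (extFunctor.{u} q).mapIso (ZcIso J).symm.op

/-- **S3877** -/
theorem preservesColimitsOfShape_functorH (hE : IsAlgebraic J) (hT : IsCoherent (⊤_ (Sh J)))
    (Λ : Type u) [SmallCategory Λ] [IsFiltered Λ] (q : ℕ) :
    PreservesColimitsOfShape Λ
      (Sheaf.functorH J q : Sheaf J AddCommGrpCat.{u} ⥤ AddCommGrpCat.{u}) := by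
  have := preservesColimitsOfShape_ext_of_isCoherent hE (K₁ J) (isCoherent_K₁ hT) Λ q
  exact preservesColimitsOfShape_of_natIso (functorHIso J q).symm

end Groth.Agent.Lib.FiltExt4
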