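import Groth.Agent.Lib.FiltExt3
import Groth.Agent.Lib.CechAcyc6
import Mathlib.CategoryTheory.Sites.SheafCohomology.Basic

/-!
# Cohomology on coherent objects of a site commutes with filtered colimits (helper95)
-/

universe u

open CategoryTheory Limits Opposite Abelian

set_option linter.unusedSectionVars false

namespace Groth.Agent.Lib.FiltExt6

open Groth.Agent.Lib.FiltExt3 Groth.Agent.Lib.CechAcyc3 Groth.Agent.Lib.CechAcyc6 ToposFin

variable {C : Type u} [SmallCategory C] (J : GrothendieckTopology C)

/-- `F ↦ H^q(X, F)` as an `Ext` functor out of the free abelian sheaf on the sheaf associated to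
`X`. -/
noncomputable def cohomologyPresheafFunctorFlipIso (q : ℕ) (X : C) :
    (Sheaf.cohomologyPresheafFunctor.{u} J q).flip.obj (op X) ≅
      (extFunctor.{u} q).obj (op ((CechAcyc3.T J).obj (eps J X))) :=
  (NatIso.ofComponents (fun F => Iso.refl _) (by
    intro F G f
    rfl) : (Sheaf.cohomologyPresheafFunctor.{u} J q).flip.obj (op X) ≅
      (extFunctor.{u} q).obj (op (freeYoneda J X))) ≪≫
    (extFunctor.{u} q).mapIso (freeYonedaIso X).symm.op

variable {J}

theorem preservesColimitsOfShape_cohomologyPresheafFunctor_flip (hE : IsAlgebraic J) (X : C)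
    (hX : IsCoherent (eps J X)) (Λ : Type u) [SmallCategory Λ] [IsFiltered Λ] (q : ℕ) :
    PreservesColimitsOfShape Λ ((Sheaf.cohomologyPresheafFunctor.{u} J q).flip.obj (op X)) := by
  have := preservesColimitsOfShape_ext_of_isCoherent hE (eps J X) hX Λ q
  exact preservesColimitsOfShape_of_natIso (cohomologyPresheafFunctorFlipIso J q X).symm

end Groth.Agent.Lib.FiltExt6
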