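import Groth.Agent.Lib.QCSiteColim
import Groth.Agent.Lib.FiltColimCoh
import Groth.Agent.Lib.FiltExt4
import Groth.Agent.Lib.FiltExt6

/-!
# Cohomology commutes with filtered colimits on a small site with pullbacks all of whose objects
are quasi-compact (helper95; corollary of lead's `FiltColimCoh`)
-/

set_option autoImplicit false
set_option linter.unusedSectionVars false

universe w

open CategoryTheory CategoryTheory.Limits Opposite Abelian

namespace Groth.Agent.Lib.QCSiteCoh95

open Groth.Agent.Lib.QCSiteColim ToposFin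

variable {C : Type w} [SmallCategory C] [HasPullbacks C] {J : GrothendieckTopology C}

/-- `H^p(U, -)` commutes with filtered colimits. -/
theorem preservesColimitsOfShape_H_of_qc (hJ : ∀ X : C, QC J X) (U : C) (p : ℕ)
    (I : Type w) [SmallCategory I] [IsFiltered I] :
    PreservesColimitsOfShape I ((Sheaf.cohomologyPresheafFunctor.{w} J p).flip.obj (op U)) := by
  constructor
  intro F
  refine Groth.Agent.Lib.FiltColimCoh.preservesColimit_H (B := Set.univ)
    (Cov := fun U ι Y => Finite ι ∧
      Sieve.ofArrows (fun i => (Y i).left) (fun i => (Y i).hom) ∈ J U) ?_ ?_ F U trivial p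
  · intro U ι Y hY
    exact ⟨hY.1, trivial, hY.2, fun _ _ => trivial⟩
  · intro U _ T hT
    obtain ⟨n, V, g, hg, hcov⟩ := hJ U T hT
    refine ⟨ULift.{w} (Fin n), fun i => Over.mk (g i.down), ⟨inferInstance, ?_⟩,
      fun i => hg i.down⟩
    refine J.superset_covering ?_ hcov
    intro Y f hf
    obtain ⟨k, a, rfl⟩ := (Sieve.mem_ofArrows_iff V g f).1 hf
    exact (Sieve.mem_ofArrows_iff _ _ _).2 ⟨⟨k⟩, a, rfl⟩

/-- the sheaf associated to a terminal object is terminal -/
noncomputable def isTerminalEps {T : C} (hT : IsTerminal T) : IsTerminal (eps J T) :=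
  IsTerminal.isTerminalObj (yoneda ⋙ presheafToSheaf J (Type w)) T hT

/-- `H^p(C, -)` commutes with filtered colimits when `C` has a terminal object. -/
theorem preservesColimitsOfShape_functorH_of_qc (hJ : ∀ X : C, QC J X) {T : C}
    (hT : IsTerminal T) (p : ℕ) (I : Type w) [SmallCategory I] [IsFiltered I] :
    PreservesColimitsOfShape I
      (Sheaf.functorH J p : Sheaf J AddCommGrpCat.{w} ⥤ AddCommGrpCat.{w}) := by
  have := preservesColimitsOfShape_H_of_qc hJ T p I
  let e : eps J T ≅ Groth.Agent.Lib.ModUnitH.K₁ J :=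
    (isTerminalEps hT).uniqueUpToIso (Groth.Agent.Lib.FiltExt4.isTerminalK₁ J)
  let i : (Sheaf.functorH J p : Sheaf J AddCommGrpCat.{w} ⥤ AddCommGrpCat.{w}) ≅
      (Sheaf.cohomologyPresheafFunctor.{w} J p).flip.obj (op T) :=
    Groth.Agent.Lib.FiltExt4.functorHIso J p ≪≫
      (extFunctor.{w} p).mapIso (((Groth.Agent.Lib.CechAcyc3.T J).mapIso e).op) ≪≫
      (Groth.Agent.Lib.FiltExt6.cohomologyPresheafFunctorFlipIso J p T).symm
  exact preservesColimitsOfShape_of_natIso i.symm

end Groth.Agent.Lib.QCSiteCoh95
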