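import Groth.Agent.Lib.EtQcqs95
import Groth.Agent.Lib.QCSiteCoh95
import Groth.Prelude.Def_EtBase
import Mathlib.Algebra.Homology.DerivedCategory.Ext.MapBijective
import Mathlib.CategoryTheory.Preadditive.Injective.Preserves

/-!
# Étale cohomology of a qcqs scheme commutes with filtered colimits (helper95)
-/

set_option autoImplicit false
set_option linter.unusedSectionVars false

open CategoryTheory CategoryTheory.Limits AlgebraicGeometry Opposite Abelian

universe w u

namespace Groth.Agent.Lib.EtQcqs95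

open Groth.Agent.Lib.QCSiteColim Groth.Agent.Lib.QCSiteCoh95

section ExtTransfer

variable {A : Type*} [Category A] [Abelian A] {B : Type*} [Category B] [Abelian B]
  [HasExt.{w} A] [HasExt.{w} B] (Ψ : A ⥤ B) [Ψ.IsEquivalence] [Ψ.Additive] [EnoughInjectives A]

instance preservesInjectiveObjects_of_isEquivalence : Ψ.PreservesInjectiveObjects :=
  Functor.preservesInjectiveObjects_of_adjunction_of_preservesMonomorphisms
    Ψ.asEquivalence.symm.toAdjunction

/-- `Ext` out of `M` is `Ext` out of `Ψ M` after an exact equivalence. -/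
noncomputable def extFunctorObjIso (M : A) (n : ℕ) :
    extFunctorObj.{w} M n ≅ Ψ ⋙ extFunctorObj.{w} (Ψ.obj M) n :=
  NatIso.ofComponents (fun Y => (AddEquiv.ofBijective (Ψ.mapExtAddHom M Y n)
      (Ψ.mapExt_bijective_of_preservesInjectiveObjects M Y n)).toAddCommGrpIso) (by
    intro Y Y' f
    ext α
    show (Ext.comp α (Ext.mk₀ f) (add_zero n)).mapExactFunctor Ψ =
      (α.mapExactFunctor Ψ).comp (Ext.mk₀ (Ψ.map f)) (add_zero n)
    rw [Ext.mapExactFunctor_comp, Ext.mapExactFunctor_mk₀])

end ExtTransfer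

section SmallSite

variable (X : Scheme.{u})

/-- a small model of the qcqs part of the small étale site -/
abbrev C₀ : Type (u + 1) := AsSmall.{u + 1} (Cq X)

/-- the equivalence with the small model -/
abbrev down₀ : C₀ X ⥤ Cq X := AsSmall.down.{u, u + 1, u + 1}

/-- the equivalence with the small model -/
abbrev up₀ : Cq X ⥤ C₀ X := AsSmall.up.{u, u + 1, u + 1}

instance : (down₀ X).IsEquivalence :=
  (AsSmall.equiv.{u, u + 1, u + 1} (C := Cq X)).isEquivalence_inverse

instance : (up₀ X).IsEquivalence :=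
  (AsSmall.equiv.{u, u + 1, u + 1} (C := Cq X)).isEquivalence_functor

instance : HasPullbacks (C₀ X) :=
  Adjunction.hasLimitsOfShape_of_equivalence (down₀ X)

/-- the inclusion into the small étale site -/
def G₀ : C₀ X ⥤ X.Etale := down₀ X ⋙ Gq X

instance : (G₀ X).Full := by unfold G₀; infer_instance

instance : (G₀ X).Faithful := by unfold G₀; infer_instance

variable [CompactSpace X] [QuasiSeparatedSpace X]

set_option backward.isDefEq.respectTransparency.types false in
lemma g₀_surj (U : X.Etale) (h1 : QuasiCompact U.hom) (h2 : QuasiSeparated U.hom) :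
    ∃ d : C₀ X, Nonempty ((G₀ X).obj d ≅ U) :=
  ⟨⟨MorphismProperty.Over.mk ⊤ U.hom ⟨U.prop, h1, h2⟩⟩, ⟨Iso.refl _⟩⟩

instance : (G₀ X).IsCoverDense X.smallEtaleTopology := isCoverDense (G₀ X) (g₀_surj X)

/-- the induced topology -/
abbrev J₀ : GrothendieckTopology (C₀ X) := (G₀ X).inducedTopology X.smallEtaleTopology

set_option backward.isDefEq.respectTransparency.types false in
lemma qc_J₀ (d : C₀ X) : QC (J₀ X) d :=
  qc_inducedTopology (G₀ X) (fun d => ((down₀ X).obj d).prop.2.1) d

/-- the terminal object -/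
noncomputable def isTerminalT₀ :
    IsTerminal ((up₀ X).obj (MorphismProperty.Over.mk ⊤ (𝟙 X) (Qp.id_mem X))) :=
  IsTerminal.isTerminalObj (up₀ X) _
    (MorphismProperty.Over.mkIdTerminal Qp X)

example : HasSheafify (J₀ X) AddCommGrpCat.{u + 1} := inferInstance
example : HasExt.{u + 1} (Sheaf (J₀ X) AddCommGrpCat.{u + 1}) := inferInstance

theorem preservesColimitsOfShape_functorH_J₀ (p : ℕ) (I : Type (u + 1)) [SmallCategory I]
    [IsFiltered I] :
    PreservesColimitsOfShape I (Sheaf.functorH.{u + 1, u + 1, u + 1, u + 1} (J₀ X) p) := by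
  exact preservesColimitsOfShape_functorH_of_qc.{u + 1} (qc_J₀ X) (isTerminalT₀ X) p I

end SmallSite

section Final

variable (X : Scheme.{u}) [CompactSpace X] [QuasiSeparatedSpace X]

/-- restriction to the small qcqs site -/
noncomputable abbrev Ψ : EtCoh.Ab X ⥤ Sheaf (J₀ X) AddCommGrpCat.{u + 1} :=
  (G₀ X).sheafPushforwardContinuous AddCommGrpCat.{u + 1} (J₀ X) X.smallEtaleTopology

instance : (Ψ X).IsEquivalence := inferInstance

instance : (Ψ X).Additive where

/-- the constant sheaf restricts to the constant sheaf -/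
noncomputable def constIso (M : AddCommGrpCat.{u + 1}) :
    (Ψ X).obj ((constantSheaf X.smallEtaleTopology AddCommGrpCat.{u + 1}).obj M) ≅
      (constantSheaf (J₀ X) AddCommGrpCat.{u + 1}).obj M :=
  ((Functor.IsDenseSubsite.sheafEquivSheafificationCompatibility (J₀ X) X.smallEtaleTopology
    (G₀ X) AddCommGrpCat.{u + 1}).app ((Functor.const _).obj M)).symm

/-- étale cohomology computed on the small qcqs site -/
noncomputable def HFIso (n : ℕ) :
    EtCoh.HF X n ≅ Ψ X ⋙ Sheaf.functorH.{u + 1, u + 1, u + 1, u + 1} (J₀ X) n :=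
  (NatIso.ofComponents (fun F => Iso.refl _) (by
    intro F F' f
    rfl) : EtCoh.HF X n ≅ extFunctorObj.{u + 1}
      ((constantSheaf X.smallEtaleTopology AddCommGrpCat.{u + 1}).obj
        (AddCommGrpCat.of (ULift ℤ))) n) ≪≫
  extFunctorObjIso (Ψ X) _ n ≪≫
  Functor.isoWhiskerLeft (Ψ X) ((extFunctor.{u + 1} n).mapIso
    (constIso X (AddCommGrpCat.of (ULift ℤ))).symm.op) ≪≫
  Functor.isoWhiskerLeft (Ψ X) (NatIso.ofComponents (fun F => Iso.refl _) (by
    intro F F' f
    rfl))

/-- **S0099**: étale cohomology of a qcqs scheme commutes with filtered colimits. -/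
theorem preservesColimitsOfShape_HF (n : ℕ) (J : Type u) [SmallCategory J] [IsFiltered J] :
    PreservesColimitsOfShape J (EtCoh.HF X n) := by
  let e : J ≌ AsSmall.{u + 1} J := AsSmall.equiv.{u, u, u + 1}
  have : IsFiltered (AsSmall.{u + 1} J) := IsFiltered.of_equivalence e
  have h1 : PreservesColimitsOfShape (AsSmall.{u + 1} J)
      (Sheaf.functorH.{u + 1, u + 1, u + 1, u + 1} (J₀ X) n) :=
    preservesColimitsOfShape_functorH_J₀ X n _
  have h2 : PreservesColimitsOfShape (AsSmall.{u + 1} J)
      (Ψ X ⋙ Sheaf.functorH.{u + 1, u + 1, u + 1, u + 1} (J₀ X) n) := inferInstance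
  have h3 : PreservesColimitsOfShape (AsSmall.{u + 1} J) (EtCoh.HF X n) :=
    preservesColimitsOfShape_of_natIso (HFIso X n).symm
  exact preservesColimitsOfShape_of_equiv e.symm _

end Final

end Groth.Agent.Lib.EtQcqs95
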