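import Groth.Agent.Lib.CechNerveFunctor
import Mathlib.CategoryTheory.Limits.Shapes.Pullback.IsPullback.Basic
import Mathlib.CategoryTheory.Limits.Preserves.Shapes.Pullbacks

/-!
# Functors preserving pullbacks commute with Čech nerves (helper95)

The `(n+2)`-fold fibre power is the pullback of the `(n+1)`-fold fibre power with one more factor.
Hence a functor preserving pullbacks preserves the Čech nerve.
-/

open CategoryTheory Limits Opposite

set_option backward.defeqAttrib.useBackward true
set_option backward.isDefEq.respectTransparency false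
set_option linter.unusedSectionVars false

namespace Groth.Agent.Lib.WidePbIter

open Groth.Agent.Lib.CechNerveFunctor

universe v v' u u'

section

variable {C : Type u} [Category.{v} C] {X Y : C} (f : Y ⟶ X)
  [∀ n : ℕ, HasWidePullback X (fun _ : Fin (n + 1) => Y) fun _ => f]

/-- the `(n+1)`-fold fibre power of `f` -/
noncomputable abbrev W (n : ℕ) : C := widePullback X (fun _ : Fin (n + 1) => Y) fun _ => f

/-- forgetting the last factor -/
noncomputable def trunc (n : ℕ) : W f (n + 1) ⟶ W f n :=
  WidePullback.lift (WidePullback.base _) (fun i => WidePullback.π _ i.castSucc) (by intro i; simp)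

@[reassoc (attr := simp)]
lemma trunc_π (n : ℕ) (i : Fin (n + 1)) :
    trunc f n ≫ WidePullback.π _ i = WidePullback.π _ i.castSucc := by
  simp [trunc]

@[reassoc (attr := simp)]
lemma trunc_base (n : ℕ) :
    trunc f n ≫ WidePullback.base _ = WidePullback.base _ := by
  simp [trunc]

/-- the last projection -/
noncomputable abbrev last (n : ℕ) : W f (n + 1) ⟶ Y := WidePullback.π _ (Fin.last (n + 1))

/-- the lift used in the pullback property -/
noncomputable def pbLift (n : ℕ) {Z : C} (a : Z ⟶ W f n) (b : Z ⟶ Y)
    (h : a ≫ WidePullback.base _ = b ≫ f) : Z ⟶ W f (n + 1) :=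
  WidePullback.lift (a ≫ WidePullback.base _)
    (fun i => Fin.lastCases (motive := fun _ => Z ⟶ Y) b (fun j => a ≫ WidePullback.π _ j) i) (by
      intro i
      induction i using Fin.lastCases with
      | last => simp [h]
      | cast j => simp)

@[reassoc (attr := simp)]
lemma pbLift_trunc (n : ℕ) {Z : C} (a : Z ⟶ W f n) (b : Z ⟶ Y)
    (h : a ≫ WidePullback.base _ = b ≫ f) : pbLift f n a b h ≫ trunc f n = a := by
  apply WidePullback.hom_ext
  · intro j
    simp [pbLift]
  · simp [pbLift]

@[reassoc (attr := simp)]
lemma pbLift_last (n : ℕ) {Z : C} (a : Z ⟶ W f n) (b : Z ⟶ Y)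
    (h : a ≫ WidePullback.base _ = b ≫ f) : pbLift f n a b h ≫ last f n = b := by
  simp [pbLift, last]

lemma hom_ext_succ (n : ℕ) {Z : C} {m m' : Z ⟶ W f (n + 1)}
    (h1 : m ≫ trunc f n = m' ≫ trunc f n) (h2 : m ≫ last f n = m' ≫ last f n) : m = m' := by
  apply WidePullback.hom_ext
  · intro i
    induction i using Fin.lastCases with
    | last => exact h2
    | cast j =>
      have := congrArg (fun k => k ≫ WidePullback.π _ j) h1
      simpa using this
  · have := congrArg (fun k => k ≫ WidePullback.base _) h1
    simpa using this

/-- the `(n+2)`-fold fibre power is the pullback of the `(n+1)`-fold fibre power and `f`. -/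
lemma isPullback (n : ℕ) :
    IsPullback (trunc f n) (last f n) (WidePullback.base _) f where
  w := by simp [last]
  isLimit' := ⟨PullbackCone.IsLimit.mk _ (fun s => pbLift f n s.fst s.snd s.condition)
    (fun s => pbLift_trunc f n _ _ _) (fun s => pbLift_last f n _ _ _)
    (fun s m h1 h2 => hom_ext_succ f n (by rw [h1, pbLift_trunc]) (by rw [h2, pbLift_last]))⟩

/-- the `1`-fold fibre power is `Y`. -/
instance isIso_π_zero : IsIso (WidePullback.π (fun _ : Fin (0 + 1) => f) 0) := by
  refine ⟨WidePullback.lift f (fun _ => 𝟙 Y) (by simp), ?_, by simp⟩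
  apply WidePullback.hom_ext
  · intro i
    obtain rfl : i = 0 := Fin.ext (by omega)
    simp
  · simp

end

section Functor

variable {C : Type u} [Category.{v} C] {D : Type u'} [Category.{v'} D] (G : C ⥤ D) (f : Arrow C)
  [∀ n : ℕ, HasWidePullback f.right (fun _ : Fin (n + 1) => f.left) fun _ => f.hom]
  [∀ n : ℕ, HasWidePullback (G.mapArrow.obj f).right (fun _ : Fin (n + 1) => (G.mapArrow.obj f).left)
      fun _ => (G.mapArrow.obj f).hom]

lemma compApp_trunc (n : ℕ) :
    compApp G f (n + 1) ≫ trunc (G.mapArrow.obj f).hom n = G.map (trunc f.hom n) ≫ compApp G f n := by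
  apply WidePullback.hom_ext
  · intro j
    have h1 := compApp_π G f (n + 1) j.castSucc
    have h2 := compApp_π G f n j
    simp only [Category.assoc]
    erw [trunc_π, h1, h2, ← G.map_comp, trunc_π]
  · have h1 := compApp_base G f (n + 1)
    have h2 := compApp_base G f n
    simp only [Category.assoc]
    erw [trunc_base, h1, h2, ← G.map_comp, trunc_base]

lemma compApp_last (n : ℕ) :
    compApp G f (n + 1) ≫ last (G.mapArrow.obj f).hom n = G.map (last f.hom n) :=
  compApp_π G f (n + 1) (Fin.last (n + 1))

variable [PreservesLimitsOfShape WalkingCospan G]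

/-- a functor preserving pullbacks preserves the fibre powers of a morphism. -/
theorem isIso_compApp_of_preservesPullbacks (n : ℕ) : IsIso (compApp G f n) := by
  induction n with
  | zero =>
    have h := compApp_π G f 0 0
    have h1 : IsIso (G.map (WidePullback.π (fun _ : Fin (0 + 1) => f.hom) 0)) := inferInstance
    have h2 : IsIso (WidePullback.π (fun _ : Fin (0 + 1) => (G.mapArrow.obj f).hom) 0) :=
      inferInstance
    have h3 : IsIso (compApp G f 0 ≫
        WidePullback.π (fun _ : Fin (0 + 1) => (G.mapArrow.obj f).hom) 0) := by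
      erw [h]
      exact h1
    exact IsIso.of_isIso_comp_right _
      (WidePullback.π (fun _ : Fin (0 + 1) => (G.mapArrow.obj f).hom) 0)
  | succ n ih =>
    have A := (isPullback f.hom n).map G
    have B := isPullback (G.mapArrow.obj f).hom n
    have hb : inv (compApp G f n) ≫ G.map (WidePullback.base _) =
        WidePullback.base (fun _ : Fin (n + 1) => (G.mapArrow.obj f).hom) := by
      rw [IsIso.inv_comp_eq]
      exact (compApp_base G f n).symm
    have hc : (trunc (G.mapArrow.obj f).hom n ≫ inv (compApp G f n)) ≫
        G.map (WidePullback.base _) = last (G.mapArrow.obj f).hom n ≫ G.map f.hom := by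
      rw [Category.assoc, hb]
      exact B.w
    refine ⟨A.lift _ _ hc, ?_, ?_⟩
    · apply A.hom_ext
      · rw [Category.assoc, A.lift_fst, ← Category.assoc, compApp_trunc, Category.assoc,
          IsIso.hom_inv_id, Category.comp_id, Category.id_comp]
      · rw [Category.assoc, A.lift_snd, compApp_last, Category.id_comp]
    · apply B.hom_ext
      · rw [Category.assoc, compApp_trunc, ← Category.assoc, A.lift_fst, Category.assoc,
          IsIso.inv_hom_id, Category.comp_id, Category.id_comp]
      · rw [Category.assoc, compApp_last, A.lift_snd, Category.id_comp]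

end Functor

end Groth.Agent.Lib.WidePbIter
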