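import Groth.Agent.Lib.QCSiteCoh95
import Groth.Agent.Lib.WidePbIter
import Groth.Agent.Lib.TFinEps

/-!
# Global cohomology commutes with filtered colimits on a small site with pullbacks and binary
products all of whose objects are quasi-compact, and which has a "covering of the terminal
sheaf" by one object (helper95)
-/

set_option autoImplicit false
set_option linter.unusedSectionVars false

universe w v u

open CategoryTheory CategoryTheory.Limits Opposite Abelian

namespace Groth.Agent.Lib.QCSiteGlobal95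

open Groth.Agent.Lib.CechAcyc1

section Abelian

variable {A : Type u} [Category.{v} A] [Abelian A] [HasExt.{w} A] [EnoughInjectives A]
  {R : ChainComplex A ℕ} (hR : ∀ n, R.ExactAt (n + 1))
  {M : A} (ε : R.X 0 ⟶ M) (hε : R.d 1 0 ≫ ε = 0)
  (hcok : IsColimit (CokernelCofork.ofπ ε hε))

include hR hcok in
/-- **Cartan's criterion for a fixed resolution**: if `Hom(R_•, F)` is exact in positive degrees
and all `R_k` are `Ext(-, F)`-acyclic, then `M` is `Ext(-, F)`-acyclic. -/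
theorem subsingleton_ext_of_homExactAt (p : ℕ) :
    ∀ (F : A), (∀ n, HomExactAt R F n) → (∀ k q, Subsingleton (Ext.{w} (R.X k) F (q + 1))) →
      Subsingleton (Ext.{w} M F (p + 1)) := by
  induction p with
  | zero =>
    intro F h1 h2
    refine subsingleton_ext_one (injSC_shortExact F) M (fun φ => ?_)
    obtain ⟨t₀, ht₀⟩ := exists_lift_of_subsingleton_ext_one (injSC_shortExact F) (R.X 0) (h2 0 0)
      (ε ≫ φ)
    exact exists_lift_of_homExactAt_zero (injSC_shortExact F) ε hε hcok (h1 0) φ t₀ ht₀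
  | succ p ih =>
    intro F h1 h2
    refine subsingleton_ext_succ_succ (injSC_shortExact F) M p (ih _ ?_ ?_)
    · intro n
      exact homExactAt_quotient hR (injSC_shortExact F) n (h1 (n + 1)) (h2 (n + 1) 0)
    · intro k q
      exact subsingleton_ext_succ_of_succ_succ (injSC_shortExact F) _ q (h2 k (q + 1))

end Abelian

section HomColim

variable {A : Type u} [Category.{v} A] [Abelian A]
  {I : Type v} [SmallCategory I] [HasColimitsOfShape I A]

/-- `Hom(M, -)` commutes with the colimit of `F` (elementwise form) -/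
structure HomColim (M : A) (F : I ⥤ A) : Prop where
  surj : ∀ φ : M ⟶ colimit F, ∃ (i : I) (ψ : M ⟶ F.obj i), ψ ≫ colimit.ι F i = φ
  inj : ∀ (i : I) (ψ : M ⟶ F.obj i), ψ ≫ colimit.ι F i = 0 →
    ∃ (j : I) (g : i ⟶ j), ψ ≫ F.map g = 0

lemma HomColim.of_iso {M M' : A} (e : M ≅ M') {F : I ⥤ A} (h : HomColim M F) :
    HomColim M' F where
  surj φ := by
    obtain ⟨i, ψ, hψ⟩ := h.surj (e.hom ≫ φ)
    exact ⟨i, e.inv ≫ ψ, by rw [Category.assoc, hψ, e.inv_hom_id_assoc]⟩
  inj i ψ hψ := by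
    obtain ⟨j, g, hg⟩ := h.inj i (e.hom ≫ ψ) (by rw [Category.assoc, hψ, comp_zero])
    refine ⟨j, g, ?_⟩
    rw [← cancel_epi e.hom, ← Category.assoc, hg, comp_zero]

variable [HasExt.{w} A]

open Groth.Agent.Lib.FiltColimExt in
lemma HomColim.of_extColim {M : A} {F : I ⥤ A} (h : ExtColim.{w} M F 0) : HomColim M F where
  surj φ := by
    obtain ⟨i, y, hy⟩ := h.surj (Ext.mk₀ φ)
    obtain ⟨ψ, rfl⟩ := (Ext.mk₀_bijective _ _).2 y
    rw [Ext.mk₀_comp_mk₀] at hy
    exact ⟨i, ψ, (Ext.mk₀_bijective _ _).1 hy⟩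
  inj i ψ hψ := by
    obtain ⟨j, g, hg⟩ := h.inj i (Ext.mk₀ ψ) (by rw [Ext.mk₀_comp_mk₀, hψ, Ext.mk₀_zero])
    rw [Ext.mk₀_comp_mk₀] at hg
    exact ⟨j, g, (Ext.mk₀_bijective _ _).1 (hg.trans (Ext.mk₀_zero _ _).symm)⟩

open Groth.Agent.Lib.FiltColimExt in
lemma HomColim.extColim {M : A} {F : I ⥤ A} (h : HomColim M F) : ExtColim.{w} M F 0 where
  surj x := by
    obtain ⟨φ, rfl⟩ := (Ext.mk₀_bijective _ _).2 x
    obtain ⟨i, ψ, hψ⟩ := h.surj φ
    exact ⟨i, Ext.mk₀ ψ, by rw [Ext.mk₀_comp_mk₀, hψ]⟩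
  inj i y hy := by
    obtain ⟨ψ, rfl⟩ := (Ext.mk₀_bijective _ _).2 y
    rw [Ext.mk₀_comp_mk₀] at hy
    obtain ⟨j, g, hg⟩ := h.inj i ψ ((Ext.mk₀_bijective _ _).1 (hy.trans (Ext.mk₀_zero _ _).symm))
    exact ⟨j, g, by rw [Ext.mk₀_comp_mk₀, hg, Ext.mk₀_zero]⟩

/-- `Hom(R_•, colim G)` is exact when all `Hom(R_•, G i)` are and `Hom(R_k, -)` commutes with the
colimit -/
lemma homExactAt_colimit {R : ChainComplex A ℕ} (G : I ⥤ A) (n : ℕ)
    (h1 : HomColim (R.X (n + 1)) G) (h2 : HomColim (R.X (n + 2)) G)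
    (h3 : ∀ i, HomExactAt R (G.obj i) n) : HomExactAt R (colimit G) n := by
  intro z hz
  obtain ⟨i, zi, hzi⟩ := h1.surj z
  obtain ⟨j, g, hg⟩ := h2.inj i (R.d (n + 2) (n + 1) ≫ zi) (by rw [Category.assoc, hzi, hz])
  obtain ⟨t, ht⟩ := h3 j (zi ≫ G.map g) (by rw [← Category.assoc, hg])
  refine ⟨t ≫ colimit.ι G j, ?_⟩
  rw [← Category.assoc, ht, Category.assoc, colimit.w, hzi]

/-- `Hom(M, -)` commutes with the colimit when `M` is the cokernel of `R_1 ⟶ R_0` and
`Hom(R_0, -)`, `Hom(R_1, -)` do -/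
lemma homColim_of_cokernel {R₁ R₀ M : A} (d : R₁ ⟶ R₀) (ε : R₀ ⟶ M) (hε : d ≫ ε = 0)
    (hcok : IsColimit (CokernelCofork.ofπ ε hε)) (F : I ⥤ A)
    (h0 : HomColim R₀ F) (h1 : HomColim R₁ F) : HomColim M F := by
  have hepi : Epi ε := epi_of_isColimit_cofork hcok
  constructor
  · intro φ
    obtain ⟨i, ai, hai⟩ := h0.surj (ε ≫ φ)
    obtain ⟨j, g, hg⟩ := h1.inj i (d ≫ ai) (by
      rw [Category.assoc, hai, ← Category.assoc, hε, zero_comp])
    have h2 : d ≫ (ai ≫ F.map g) = 0 := by rw [← Category.assoc, hg]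
    refine ⟨j, hcok.desc (CokernelCofork.ofπ _ h2), ?_⟩
    have hfac : ε ≫ hcok.desc (CokernelCofork.ofπ _ h2) = ai ≫ F.map g :=
      hcok.fac _ WalkingParallelPair.one
    rw [← cancel_epi ε, ← Category.assoc, hfac, Category.assoc, colimit.w, hai]
  · intro i ψ hψ
    obtain ⟨j, g, hg⟩ := h0.inj i (ε ≫ ψ) (by rw [Category.assoc, hψ, comp_zero])
    refine ⟨j, g, ?_⟩
    rw [← cancel_epi ε, ← Category.assoc, hg, comp_zero]

end HomColim

section Site

open Groth.Agent.Lib.QCSiteColim ToposFin Groth.Agent.Lib.CechAcyc3 Groth.Agent.Lib.ModUnitH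
  Groth.Agent.Lib.WidePbIter Groth.Agent.Lib.TFinEps Groth.Agent.Lib.TFin

variable {C : Type w} [SmallCategory C] {J : GrothendieckTopology C}

/-- the sieve of morphisms whose source maps to `U₀` -/
def toSieve (U₀ V : C) : Sieve V where
  arrows W _ := Nonempty (W ⟶ U₀)
  downward_closed := fun ⟨h⟩ g => ⟨g ≫ h⟩

variable (J) in
/-- the map from the sheaf of a chart to the terminal sheaf -/
noncomputable def f₀ (U₀ : C) : eps J U₀ ⟶ K₁ J :=
  (Groth.Agent.Lib.FiltExt4.isTerminalK₁ J).from _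

lemma epi_f₀ (U₀ : C) (hU₀ : ∀ V, toSieve U₀ V ∈ J V) : Epi (f₀ J U₀) := by
  have : Sheaf.IsLocallySurjective (f₀ J U₀) := by
    constructor
    intro V s
    refine J.superset_covering ?_ (hU₀ V)
    rintro W g ⟨h⟩
    exact ⟨etaSec J U₀ h, rfl⟩
  infer_instance

variable [HasBinaryProducts C]

/-- iterated products of the chart -/
noncomputable def Pn (U₀ : C) : ℕ → C
  | 0 => U₀
  | n + 1 => Pn U₀ n ⨯ U₀

/-- `eps` commutes with binary products -/
noncomputable def epsProdIso (A B : C) : eps J (A ⨯ B) ≅ eps J A ⨯ eps J B :=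
  PreservesLimitPair.iso (yoneda ⋙ presheafToSheaf J (Type w)) A B

/-- the terms of the Čech nerve of the chart are sheaves of iterated products -/
theorem nonempty_W_iso (U₀ : C) (n : ℕ) : Nonempty (W (f₀ J U₀) n ≅ eps J (Pn U₀ n)) := by
  induction n with
  | zero =>
    have h := Groth.Agent.Lib.WidePbIter.isIso_π_zero (f₀ J U₀)
    exact ⟨@asIso _ _ _ _ _ h⟩
  | succ n ih =>
    obtain ⟨e⟩ := ih
    have hT := Groth.Agent.Lib.FiltExt4.isTerminalK₁ J
    have sq1 := Groth.Agent.Lib.WidePbIter.isPullback (f₀ J U₀) n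
    have sq2 : IsPullback (prod.fst : W (f₀ J U₀) n ⨯ eps J U₀ ⟶ _) prod.snd
        (hT.from _) (hT.from _) :=
      IsPullback.of_is_product (c := limit.cone (pair (W (f₀ J U₀) n) (eps J U₀)))
        (limit.isLimit _) hT
    have sq2' : IsPullback (prod.fst : W (f₀ J U₀) n ⨯ eps J U₀ ⟶ _) prod.snd
        (WidePullback.base _) (f₀ J U₀) := by
      rwa [hT.hom_ext (hT.from _) (WidePullback.base _), hT.hom_ext (hT.from _) (f₀ J U₀)] at sq2
    exact ⟨sq1.isoIsPullback _ _ sq2' ≪≫ prod.mapIso e (Iso.refl _) ≪≫ (epsProdIso _ _).symm⟩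

section Main

variable [HasPullbacks C] (hJ : ∀ X : C, QC J X) {I : Type w} [SmallCategory I] [IsFiltered I]

/-- the class of finite covering families -/
def Cov (J : GrothendieckTopology C) : ∀ (U : C) (ι : Type w), (ι → Over U) → Prop :=
  fun U ι Y => Finite ι ∧ Sieve.ofArrows (fun i => (Y i).left) (fun i => (Y i).hom) ∈ J U

lemma cov_h1 (U : C) (ι : Type w) (Y : ι → Over U) (hY : Cov J U ι Y) :
    Finite ι ∧ U ∈ (Set.univ : Set C) ∧
    Sieve.ofArrows (fun i => (Y i).left) (fun i => (Y i).hom) ∈ J U ∧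
    ∀ (p : ℕ) (a : Fin (p + 1) → ι), (∏ᶜ fun k => Y (a k)).left ∈ (Set.univ : Set C) :=
  ⟨hY.1, trivial, hY.2, fun _ _ => trivial⟩

include hJ in
lemma cov_h2 : ∀ U ∈ (Set.univ : Set C), ∀ T ∈ J U, ∃ (ι : Type w) (Y : ι → Over U),
    Cov J U ι Y ∧ ∀ i, T.arrows (Y i).hom := by
  intro U _ T hT
  obtain ⟨n, V, g, hg, hcov⟩ := hJ U T hT
  refine ⟨ULift.{w} (Fin n), fun i => Over.mk (g i.down), ⟨inferInstance, ?_⟩,
    fun i => hg i.down⟩
  refine J.superset_covering ?_ hcov
  intro Y f hf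
  obtain ⟨k, a, rfl⟩ := (Sieve.mem_ofArrows_iff V g f).1 hf
  exact (Sieve.mem_ofArrows_iff _ _ _).2 ⟨⟨k⟩, a, rfl⟩

include hJ in
lemma homColim_T_eps (U : C) (F : I ⥤ Sheaf J AddCommGrpCat.{w}) :
    HomColim ((T J).obj (eps J U)) F :=
  (HomColim.of_extColim (Groth.Agent.Lib.FiltColimCoh.extColim Set.univ (Cov J) cov_h1
    (cov_h2 hJ) F U trivial 0)).of_iso (Groth.Agent.Lib.CechAcyc6.freeYonedaIso U)

include hJ in
lemma subsingleton_ext_T_eps (U : C) (G : I ⥤ Sheaf J AddCommGrpCat.{w}) [Injective G] (q : ℕ) :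
    Subsingleton (Ext.{w} ((T J).obj (eps J U)) (colimit G) (q + 1)) :=
  Groth.Agent.Lib.CechAcyc6.subsingleton_ext_of_iso (Groth.Agent.Lib.CechAcyc6.freeYonedaIso U) _ _
    (Groth.Agent.Lib.FiltColimCoh.subsingleton_HU_colimit Set.univ (Cov J) cov_h1 (cov_h2 hJ) G
      (fun i => Groth.Agent.Lib.FiltColimExt.injective_obj G i) U trivial q)

variable (U₀ : C) (hU₀ : ∀ V, toSieve U₀ V ∈ J V)

/-- the terms of the Čech resolution are free sheaves on iterated products of the chart -/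
theorem nonempty_RX_iso (n : ℕ) :
    Nonempty ((R (f₀ J U₀)).X n ≅ (T J).obj (eps J (Pn U₀ n))) := by
  obtain ⟨e⟩ := nonempty_W_iso (J := J) U₀ n
  exact ⟨(T J).mapIso e⟩

include hJ hU₀ in
/-- `Ext^p(ℤ, -)` commutes with filtered colimits -/
theorem extColim_Z (p : ℕ) : ∀ (F : I ⥤ Sheaf J AddCommGrpCat.{w}),
    Groth.Agent.Lib.FiltColimExt.ExtColim.{w} ((T J).obj (K₁ J)) F p := by
  haveI : Epi (f₀ J U₀) := epi_f₀ U₀ hU₀
  have hRX : ∀ (n : ℕ) (F : I ⥤ Sheaf J AddCommGrpCat.{w}), HomColim ((R (f₀ J U₀)).X n) F := by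
    intro n F
    obtain ⟨e⟩ := nonempty_RX_iso (J := J) U₀ n
    exact (homColim_T_eps hJ _ F).of_iso e.symm
  induction p with
  | zero =>
    intro F
    exact (homColim_of_cokernel _ ((π (f₀ J U₀)).f 0)
      (Groth.Agent.Lib.CechAcyc2.d_comp_f_zero (π (f₀ J U₀)))
      (Groth.Agent.Lib.CechAcyc2.isColimitCokernelCofork (π (f₀ J U₀))) F (hRX 0 F)
      (hRX 1 F)).extColim
  | succ p ih =>
    intro F
    refine Groth.Agent.Lib.FiltColimExt.ExtColim.step _ p ?_ ?_ ih F
    · intro G hG i q y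
      haveI := hG
      haveI := Groth.Agent.Lib.FiltColimExt.injective_obj G i
      exact Ext.eq_zero_of_injective y
    · intro G hG q x
      haveI := hG
      have : Subsingleton (Ext.{w} ((T J).obj (K₁ J)) (colimit G) (q + 1)) := by
        refine subsingleton_ext_of_homExactAt (exactAt_R (f₀ J U₀)) ((π (f₀ J U₀)).f 0)
          (Groth.Agent.Lib.CechAcyc2.d_comp_f_zero (π (f₀ J U₀)))
          (Groth.Agent.Lib.CechAcyc2.isColimitCokernelCofork (π (f₀ J U₀))) q (colimit G) ?_ ?_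
        · intro n
          refine homExactAt_colimit G n (hRX _ G) (hRX _ G) (fun i => ?_)
          haveI := Groth.Agent.Lib.FiltColimExt.injective_obj G i
          exact homExactAt_of_injective (G.obj i) n (exactAt_R (f₀ J U₀) n)
        · intro k q'
          obtain ⟨e⟩ := nonempty_RX_iso (J := J) U₀ k
          exact Groth.Agent.Lib.CechAcyc6.subsingleton_ext_of_iso e.symm _ _
            (subsingleton_ext_T_eps hJ _ G q')
      exact this.elim x 0

include hJ hU₀ in
/-- **Global cohomology commutes with filtered colimits** on a small site with pullbacks and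
binary products, all of whose objects are quasi-compact, with a chart `U₀` covering the terminal
sheaf. -/
theorem preservesColimitsOfShape_functorH_of_chart (p : ℕ) :
    PreservesColimitsOfShape I
      (Sheaf.functorH J p : Sheaf J AddCommGrpCat.{w} ⥤ AddCommGrpCat.{w}) := by
  have : PreservesColimitsOfShape I
      ((extFunctor.{w} p).obj (op ((T J).obj (K₁ J))) :
        Sheaf J AddCommGrpCat.{w} ⥤ AddCommGrpCat.{w}) := by
    constructor
    intro F
    have h := extColim_Z hJ U₀ hU₀ p F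
    refine preservesColimit_of_preserves_colimit_cocone (colimit.isColimit F) ?_
    apply Groth.Agent.Lib.FiltColimExt.isColimitOfElementwise
    · intro x
      obtain ⟨i, y, hy⟩ := h.surj x
      exact ⟨i, y, hy⟩
    · intro i y hy
      exact h.inj i y hy
  exact preservesColimitsOfShape_of_natIso (Groth.Agent.Lib.FiltExt4.functorHIso J p).symm

end Main

end Site

end Groth.Agent.Lib.QCSiteGlobal95
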