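import Groth.Agent.Lib.AlgSpEtQcqs95
import Groth.Agent.Lib.QCSiteGlobal95
import Groth.Agent.Lib.EtQcqs95b

/-!
# Étale cohomology of a quasi-compact quasi-separated algebraic space commutes with filtered
colimits (helper95)
-/

set_option autoImplicit false
set_option linter.unusedSectionVars false
set_option backward.isDefEq.respectTransparency false

open CategoryTheory CategoryTheory.Limits AlgebraicGeometry Opposite Abelian

universe u

namespace Groth.Agent.Lib.AlgSpEtCoh95

open AlgSp Groth.Agent.Lib.QCSiteColim Groth.Agent.Lib.AlgSpEtQcqs95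
  Groth.Agent.Lib.QCSiteGlobal95 Groth.Agent.Lib.EtQcqs95

variable {S : Scheme.{u}} (X : Sp S)

section Chart

variable [h : QSData X]

/-- a surjective chart with qcqs underlying scheme covers every object of the small model -/
theorem toSieve_mem (E₀ : EtOver X) (h₀ : P₁ X E₀) (hs : RepWith @Surjective E₀.obj.hom)
    (V : C₁ X) : toSieve (mk₁ X E₀ h₀) V ∈ J₁ X V := by
  rw [Functor.mem_inducedTopology_iff_of_isCoverDense]
  have := h.base
  let E := (G₁ X).obj V
  have hP : P₁ X (EtOver.prodObj E E₀) := p₁_prodObj h.qs E E₀ (p₁_g₁ X V) h₀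
  let Pd : C₁ X := mk₁ X _ hP
  let fs : (G₁ X).obj Pd ⟶ (G₁ X).obj V := EtOver.prodFst E E₀
  let sn : (G₁ X).obj Pd ⟶ (G₁ X).obj (mk₁ X E₀ h₀) := EtOver.prodSnd E E₀
  have hmem : Sieve.ofArrows (fun _ : Unit => EtOver.prodObj E E₀)
      (fun _ => EtOver.prodFst E E₀) ∈ etTop X E :=
    ofArrows_mem_etTop _ _ (fun x => ⟨(), surjective_prodFst E E₀ hs x⟩)
  refine GrothendieckTopology.superset_covering _ ?_ hmem
  rintro Z q ⟨Z', a, b, ⟨⟩, rfl⟩
  exact ⟨Pd, (G₁ X).preimage fs, a, ⟨(G₁ X).preimage sn⟩, by rw [Functor.map_preimage]⟩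

end Chart

section Final

/-- the constant sheaf restricts to the constant sheaf -/
noncomputable def constIso (M : AddCommGrpCat.{u + 1}) :
    (Ψ₁ X).obj ((constantSheaf (etTop X) AddCommGrpCat.{u + 1}).obj M) ≅
      (constantSheaf (J₁ X) AddCommGrpCat.{u + 1}).obj M :=
  ((Functor.IsDenseSubsite.sheafEquivSheafificationCompatibility (J₁ X) (etTop X)
    (G₁ X) AddCommGrpCat.{u + 1}).app ((Functor.const _).obj M)).symm

/-- étale cohomology computed on the small qcqs-source site -/
noncomputable def HEtFIso (n : ℕ) :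
    AlgSp.HEtF X n ≅ Ψ₁ X ⋙ Sheaf.functorH.{u + 1, u + 1, u + 1, u + 1} (J₁ X) n :=
  (NatIso.ofComponents (fun F => Iso.refl _) (by
    intro F F' f
    rfl) : AlgSp.HEtF X n ≅ extFunctorObj.{u + 1}
      ((constantSheaf (etTop X) AddCommGrpCat.{u + 1}).obj
        (AddCommGrpCat.of (ULift ℤ))) n) ≪≫
  extFunctorObjIso (Ψ₁ X) _ n ≪≫
  Functor.isoWhiskerLeft (Ψ₁ X) ((extFunctor.{u + 1} n).mapIso
    (constIso X (AddCommGrpCat.of (ULift ℤ))).symm.op) ≪≫
  Functor.isoWhiskerLeft (Ψ₁ X) (NatIso.ofComponents (fun F => Iso.refl _) (by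
    intro F F' f
    rfl))

variable [QSData X]

/-- étale cohomology of a quasi-compact algebraic space, quasi-separated over a quasi-separated
base, commutes with filtered colimits. -/
theorem preservesColimitsOfShape_HEtF (hqc : IsQuasiCompactSp X) (n : ℕ) (I : Type (u + 1))
    [SmallCategory I] [IsFiltered I] : PreservesColimitsOfShape I (AlgSp.HEtF X n) := by
  obtain ⟨E₀, haff, hs⟩ := exists_affine_chart hqc
  have h₀ : P₁ X E₀ := ⟨inferInstance, inferInstance⟩
  have h1 : PreservesColimitsOfShape I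
      (Sheaf.functorH.{u + 1, u + 1, u + 1, u + 1} (J₁ X) n) :=
    preservesColimitsOfShape_functorH_of_chart (qc_J₁ X) (mk₁ X E₀ h₀)
      (toSieve_mem X E₀ h₀ hs) n
  have h2 : PreservesColimitsOfShape I
      (Ψ₁ X ⋙ Sheaf.functorH.{u + 1, u + 1, u + 1, u + 1} (J₁ X) n) := inferInstance
  exact preservesColimitsOfShape_of_natIso (HEtFIso X n).symm

end Final

end Groth.Agent.Lib.AlgSpEtCoh95
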