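import Groth.Agent.Lib.H86AlgSpOpen
import Mathlib.AlgebraicGeometry.Sites.Representability
import Mathlib.AlgebraicGeometry.Sites.Fpqc

/-!
# helper86: Zariski gluing of representable open subsheaves (fppf sheaves over `Over S`)

`isRepresentable_of_openCover`: an fppf sheaf `F` over `S` with a family of maps `h_{U_i} ⟶ F`
representable by open immersions and jointly surjective on points is representable:
`F ≅ h_X` for a scheme `X` over `S` (glued from the `U_i`).

This is the analogue over `Over S` (with `Type (u+1)`-valued fppf sheaves) of Mathlib's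
`AlgebraicGeometry.Scheme.LocalRepresentability.isRepresentable`.
-/

set_option autoImplicit false
set_option linter.style.haveILetI false
universe u
open CategoryTheory CategoryTheory.Limits AlgebraicGeometry Opposite

namespace Groth.Agent.Lib.H86ZarGlue

open AlgSp Groth.Agent.Lib.H86AlgSpPoints Groth.Agent.Lib.H86AlgSpSub Groth.Agent.Lib.H86AlgSpOpen
open Functor.relativelyRepresentable

variable {S : Scheme.{u}} {F : Sp S} {ι : Type u} {U : ι → Over S}
  (f : ∀ i, (yon S).obj (U i) ⟶ F) (hf : ∀ i, RepWith @IsOpenImmersion (f i))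

include hf in
theorem mono_f (i : ι) : Mono (f i) :=
  AlgSpBasic.mono_of_repWith (P := @IsOpenImmersion)
    (fun _ _ g (_ : IsOpenImmersion g) => (inferInstance : Mono g)) (hf i)

theorem fst'_self_eq_snd (i : ι) : (hf i).rep.fst' (f i) = (hf i).rep.snd (f i) := by
  haveI := mono_f f hf i
  apply (yon S).map_injective
  rw [← cancel_mono (f i), ((hf i).rep.isPullback' (f i)).w]

theorem isIso_fst'_self (i : ι) : IsIso ((hf i).rep.fst' (f i)) := by
  haveI := mono_f f hf i
  haveI := ((hf i).rep.isPullback' (f i)).isIso_fst_of_mono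
  exact isIso_of_fully_faithful (yon S) _

set_option backward.isDefEq.respectTransparency false in
/-- The glue data in `Over S`: `U i` glued along `V i j = U i ×_F U j`. -/
noncomputable def glueData₀ : CategoryTheory.GlueData (Over S) where
  J := ι
  U := U
  V := fun (i, j) => (hf i).rep.pullback (f j)
  f i j := (hf i).rep.fst' (f j)
  f_mono i j := by
    have h : IsOpenImmersion ((hf i).rep.fst' (f j)).left :=
      (hf j).property _ _ _ ((hf i).rep.isPullback' (f j)).flip
    haveI : Mono ((hf i).rep.fst' (f j)).left := inferInstance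
    exact (Over.forget S).mono_of_mono_map ‹_›
  f_id i := isIso_fst'_self f hf i
  t i j := (hf i).rep.symmetry (hf j).rep
  t_id i := by
    apply (hf i).rep.hom_ext' <;> simp [fst'_self_eq_snd f hf i]
  t' i j k := lift₃ _ _ _ (pullback₃.p₂ _ _ _) (pullback₃.p₃ _ _ _) (pullback₃.p₁ _ _ _)
    (by simp) (by simp)
  t_fac i j k := (hf j).rep.hom_ext' (by simp) (by simp)
  cocycle i j k := pullback₃.hom_ext (by simp) (by simp) (by simp)

/-- The glue data of schemes underlying `glueData₀`. -/
noncomputable def glueData : Scheme.GlueData :=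
  { (glueData₀ f hf).mapGlueData (Over.forget S) with
    f_open := fun i j => (hf j).property _ _ _ ((hf i).rep.isPullback' (f j)).flip }

@[simp] theorem glueData_J : (glueData f hf).J = ι := rfl
@[simp] theorem glueData_U (i : ι) : (glueData f hf).U i = (U i).left := rfl
@[simp] theorem glueData_V (i j : ι) :
    (glueData f hf).V (i, j) = ((hf i).rep.pullback (f j)).left := rfl
@[simp] theorem glueData_f (i j : ι) :
    (glueData f hf).f i j = ((hf i).rep.fst' (f j)).left := rfl
@[simp] theorem glueData_t (i j : ι) :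
    (glueData f hf).t i j = ((hf i).rep.symmetry (hf j).rep).left := rfl

/-- The structure morphism of the glued scheme. -/
noncomputable def gluedHom : (glueData f hf).glued ⟶ S :=
  (glueData f hf).sheafValGluedMk (F := Scheme.zariskiTopology.yoneda.obj S)
    (fun i => (U i).hom) (by
      intro i j
      change ((hf i).rep.fst' (f j)).left ≫ (U i).hom =
        (((hf i).rep.symmetry (hf j).rep).left ≫ ((hf j).rep.fst' (f i)).left) ≫ (U j).hom
      rw [Over.w, Category.assoc, Over.w, Over.w])

/-- The glued scheme over `S`. -/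
noncomputable def glued : Over S := Over.mk (gluedHom f hf)

theorem ι_gluedHom (i : ι) : (glueData f hf).ι i ≫ gluedHom f hf = (U i).hom :=
  (glueData f hf).sheafValGluedMk_val (F := Scheme.zariskiTopology.yoneda.obj S) _ _ i

/-- The inclusion of `U i` in the glued scheme, over `S`. -/
noncomputable def toGlued (i : ι) : U i ⟶ glued f hf := Over.homMk ((glueData f hf).ι i) (ι_gluedHom f hf i)

instance (i : ι) : IsOpenImmersion (toGlued f hf i).left :=
  inferInstanceAs (IsOpenImmersion ((glueData f hf).ι i))

omit f hf in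
/-- A jointly surjective family of open immersions generates a covering sieve for the fppf topology
over `S`. -/
theorem generate_ofArrows_mem_J {T : Over S} {κ : Type*} (V : κ → Over S) (g : ∀ k, V k ⟶ T)
    (hopen : ∀ k, IsOpenImmersion (g k).left)
    (hsurj : ∀ t : ↥T.left, ∃ k, t ∈ Set.range (g k).left) :
    Sieve.generate (Presieve.ofArrows V g) ∈ J S T := by
  rw [GrothendieckTopology.mem_over_iff]
  have hmem : Presieve.ofArrows (fun k => (V k).left) (fun k => (g k).left) ∈
      Scheme.fppfPrecoverage T.left := by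
    unfold Scheme.fppfPrecoverage
    rw [Scheme.ofArrows_mem_precoverage_iff]
    exact ⟨hsurj, fun k => ⟨inferInstance, inferInstance⟩⟩
  refine GrothendieckTopology.superset_covering _ ?_
    (Precoverage.generate_mem_toGrothendieck hmem)
  rw [Sieve.generate_le_iff]
  rintro _ _ ⟨k⟩
  rw [Sieve.overEquiv_iff]
  refine ⟨V k, Over.homMk (𝟙 _) (by simp), g k, ⟨k⟩, ?_⟩
  apply Over.OverMorphism.ext
  simp

theorem toGlued_mem_J :
    Sieve.generate (Presieve.ofArrows U (toGlued f hf)) ∈ J S (glued f hf) :=
  generate_ofArrows_mem_J U (toGlued f hf) (fun _ => inferInstance) (fun t => by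
    obtain ⟨i, y, hy⟩ := (glueData f hf).ι_jointly_surjective t
    exact ⟨i, y, hy⟩)

/-- Two maps into the charts which agree in the glued scheme define the same section of `F`. -/
theorem comp_f_eq_of_comp_toGlued_eq {Z : Over S} {i k : ι} (a : Z ⟶ U i) (b : Z ⟶ U k)
    (h : a ≫ toGlued f hf i = b ≫ toGlued f hf k) :
    (yon S).map a ≫ f i = (yon S).map b ≫ f k := by
  have h' : a.left ≫ (glueData f hf).ι i = b.left ≫ (glueData f hf).ι k :=
    congrArg (fun m => m.left) h
  obtain ⟨φ₀, h1, h2⟩ := PullbackCone.IsLimit.lift' ((glueData f hf).vPullbackConeIsLimit i k)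
    a.left b.left h'
  let φ : Z.left ⟶ ((hf i).rep.pullback (f k)).left := φ₀
  have h1' : φ ≫ ((hf i).rep.fst' (f k)).left = a.left := h1
  have h2' : φ ≫ ((hf i).rep.symmetry (hf k).rep).left ≫ ((hf k).rep.fst' (f i)).left = b.left := h2
  have hφ : φ ≫ ((hf i).rep.pullback (f k)).hom = Z.hom := by
    have e1 : ((hf i).rep.pullback (f k)).hom = ((hf i).rep.fst' (f k)).left ≫ (U i).hom :=
      (Over.w _).symm
    rw [e1]
    have := congrArg (fun m => m ≫ (U i).hom) h1'
    simpa using this
  let φ' : Z ⟶ (hf i).rep.pullback (f k) := Over.homMk φ hφ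
  have ha : a = φ' ≫ (hf i).rep.fst' (f k) := Over.OverMorphism.ext h1'.symm
  have hb : b = φ' ≫ (hf i).rep.snd (f k) := by
    rw [← symmetry_fst (hf i).rep (hf k).rep]
    exact Over.OverMorphism.ext h2'.symm
  rw [ha, hb, Functor.map_comp, Functor.map_comp, Category.assoc, Category.assoc,
    ((hf i).rep.isPullback' (f k)).w]

/-- Two maps into the charts defining the same section of `F` agree in the glued scheme. -/
theorem comp_toGlued_eq {Z : Over S} {i k : ι} (a : Z ⟶ U i) (b : Z ⟶ U k)
    (h : (yon S).map a ≫ f i = (yon S).map b ≫ f k) :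
    a ≫ toGlued f hf i = b ≫ toGlued f hf k := by
  rw [← (hf i).rep.lift'_fst a b h, Category.assoc]
  conv_rhs => rw [← (hf i).rep.lift'_snd a b h, Category.assoc]
  congr 1
  apply Over.OverMorphism.ext
  have := (glueData f hf).glue_condition i k
  simp only [glueData_f, glueData_t] at this
  show ((hf i).rep.fst' (f k)).left ≫ (glueData f hf).ι i =
    ((hf i).rep.snd (f k)).left ≫ (glueData f hf).ι k
  have hs : ((hf i).rep.snd (f k)).left =
      ((hf i).rep.symmetry (hf k).rep).left ≫ ((hf k).rep.fst' (f i)).left := by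
    rw [← Over.comp_left, symmetry_fst]
  rw [hs, Category.assoc]
  exact this.symm

/-- The sections `f i` glue to a morphism from the glued scheme. -/
theorem exists_gluedToSheaf :
    ∃ e : (yon S).obj (glued f hf) ⟶ F, ∀ i, (yon S).map (toGlued f hf i) ≫ e = f i := by
  have hF : Presieve.IsSheaf (J S) F.obj := (isSheaf_iff_isSheaf_of_type _ _).1 F.property
  have h1 := hF _ (toGlued_mem_J f hf)
  rw [← Presieve.isSheafFor_iff_generate, Presieve.isSheafFor_arrows_iff] at h1
  obtain ⟨t, ht, -⟩ := h1 (fun i => yE (f i)) (by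
    intro i k Z gi gk hgk
    rw [yE_map, yE_map, comp_f_eq_of_comp_toGlued_eq f hf gi gk hgk])
  refine ⟨yE.symm t, fun i => ?_⟩
  apply yE.injective
  rw [← yE_map, Equiv.apply_symm_apply]
  exact ht i

variable {f hf} in
theorem isLocallyInjective_of_fac (e : (yon S).obj (glued f hf) ⟶ F)
    (he : ∀ i, (yon S).map (toGlued f hf i) ≫ e = f i) : Sheaf.IsLocallyInjective e where
  equalizerSieve_mem := by
    rintro ⟨T⟩ ⟨α⟩ ⟨β⟩ h
    have mem := toGlued_mem_J f hf
    refine GrothendieckTopology.superset_covering _ ?_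
      ((J S).intersection_covering ((J S).pullback_stable α mem) ((J S).pullback_stable β mem))
    rintro V γ ⟨⟨W₁, a, _, ⟨i⟩, fac₁⟩, ⟨W₂, b, _, ⟨k⟩, fac₂⟩⟩
    have hαβ : (yon S).map α ≫ e = (yon S).map β ≫ e := by
      apply yE.injective
      rw [yE_comp, yE_comp, yE_yon_map, yE_yon_map]
      exact h
    change ULift.up (γ ≫ α) = ULift.up (γ ≫ β)
    congr 1
    rw [← fac₁, ← fac₂]
    apply comp_toGlued_eq
    rw [← he i, ← he k, ← Category.assoc, ← Category.assoc, ← Functor.map_comp, ← Functor.map_comp,
      fac₁, fac₂, Functor.map_comp, Functor.map_comp, Category.assoc, Category.assoc, hαβ]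

variable {f hf} in
theorem isLocallySurjective_of_fac (e : (yon S).obj (glued f hf) ⟶ F)
    (he : ∀ i, (yon S).map (toGlued f hf i) ≫ e = f i)
    (hsurj : ∀ x : Points F, ∃ i, x ∈ Set.range (Points.map (f i))) :
    Sheaf.IsLocallySurjective e where
  imageSieve_mem := by
    intro T ξ
    let z : (yon S).obj T ⟶ F := yE.symm ξ
    refine (J S).superset_covering ?_ (generate_ofArrows_mem_J
      (fun i => (hf i).rep.pullback z) (fun i => (hf i).rep.snd z)
      (fun i => (hf i).property_snd z) (fun t => ?_))
    · rw [Sieve.generate_le_iff]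
      rintro _ _ ⟨i⟩
      refine ⟨⟨(hf i).rep.fst' z ≫ toGlued f hf i⟩, ?_⟩
      have h1 : (yon S).map ((hf i).rep.fst' z ≫ toGlued f hf i) ≫ e =
          (yon S).map ((hf i).rep.snd z) ≫ z := by
        rw [Functor.map_comp, Category.assoc, he i, ((hf i).rep.isPullback' z).w]
      have h2 := congrArg yE h1
      rw [yE_comp, yE_yon_map, ← yE_map, Equiv.apply_symm_apply] at h2
      exact h2
    · obtain ⟨i, hi⟩ := hsurj (Points.ofPt z t)
      refine ⟨i, ?_⟩
      rw [range_left_eq_preimage ((hf i).rep.isPullback' z)]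
      exact hi

include hf in
/-- **Zariski gluing.** An fppf sheaf over `S` covered by representable open subsheaves is
representable. -/
theorem exists_iso_yon_of_openCover
    (hsurj : ∀ x : Points F, ∃ i, x ∈ Set.range (Points.map (f i))) :
    ∃ (X : Over S) (e : (yon S).obj X ≅ F) (j : ∀ i, U i ⟶ X),
      (∀ i, (yon S).map (j i) ≫ e.hom = f i) ∧ (∀ i, IsOpenImmersion (j i).left) ∧
      ∀ x : ↥X.left, ∃ i, x ∈ Set.range (j i).left := by
  obtain ⟨e, he⟩ := exists_gluedToSheaf f hf
  haveI := isLocallyInjective_of_fac e he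
  haveI := isLocallySurjective_of_fac e he hsurj
  haveI : IsIso e := by
    rw [← Sheaf.isLocallyBijective_iff_isIso e]
    constructor <;> infer_instance
  refine ⟨glued f hf, asIso e, toGlued f hf, he, fun i => inferInstance, fun x => ?_⟩
  obtain ⟨i, y, hy⟩ := (glueData f hf).ι_jointly_surjective x
  exact ⟨i, y, hy⟩

include hf in
/-- **Zariski gluing**, in the form of Mathlib's `Functor.IsRepresentable`. -/
theorem isRepresentable_of_openCover
    (hsurj : ∀ x : Points F, ∃ i, x ∈ Set.range (Points.map (f i))) : F.obj.IsRepresentable := by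
  obtain ⟨X, e, -⟩ := exists_iso_yon_of_openCover f hf hsurj
  exact ⟨X, ⟨representableByOfIso e⟩⟩

end Groth.Agent.Lib.H86ZarGlue
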