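import Groth.Agent.Lib.AlgSpSober91b
import Groth.Agent.Lib.DiscreteClosedImm
import Groth.Agent.Lib.H86ZarGlue
import Groth.Agent.Lib.H80DecentPt2

set_option autoImplicit false
universe u
open CategoryTheory CategoryTheory.Limits AlgebraicGeometry Opposite Topology

namespace Groth.Agent.Lib.AlgSpEtField91

open AlgSp Groth.Agent.Lib.H80DecentPt Groth.Agent.Lib.AlgSpDecentPt91 Groth.Agent.Lib.AlgSpPoints
  Groth.Agent.Lib.AlgSpDecentSpec Groth.Agent.Lib.AlgSpQC Groth.Agent.Lib.H86AlgSpOpen

variable {S : Scheme.{u}}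

/-- An algebraic space which admits an étale surjective map `p` from the spectrum of a field `k` with `Spec k ×_X Spec k` quasi-compact is
the spectrum of a field `k'`, with `k / k'` finite separable. -/
theorem exists_iso_spec_field_of_etale_surjective_of_compact {X : Sp S}
    (k : Type u) [Field k] (str : Spec (CommRingCat.of k) ⟶ S)
    (p : (yon S).obj (Over.mk str) ⟶ X) (hp : RepWith @Etale p) (hs : RepWith @Surjective p)
    (hc : CompactSpace ↥(hp.1.pullback p).left) :
    ∃ (k' : Type u) (_ : Field k') (str' : Spec (CommRingCat.of k') ⟶ S)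
      (e : (yon S).obj (Over.mk str') ≅ X) (c : Over.mk str ⟶ Over.mk str'),
      (yon S).map c ≫ e.hom = p ∧ IsFinite c.left ∧ Etale c.left := by
  have hr := hp.1
  have sq := hr.isPullback' p
  have het : Etale (hr.snd p).left := hp.2 _ _ _ (hr.isPullback p)
  have h1 : LocallyQuasiFinite (hr.snd p).left :=
    Groth.Agent.Lib.AlgSpBasic.locallyQuasiFinite_of_etale _
  have h2 : QuasiCompact (hr.snd p).left := by
    have : QuasiSeparatedSpace ↥(Over.mk str).left := by
      change QuasiSeparatedSpace ↥(Spec (.of k))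
      infer_instance
    infer_instance
  have h3 : IsLocallyArtinian (Over.mk str).left := by
    change IsLocallyArtinian (Spec (.of k))
    infer_instance
  have hfin : IsFinite (hr.snd p).left := IsFinite.of_locallyQuasiFinite _
  obtain ⟨k₀, _, str₀, c, m, hcm, hm, hcf, hcs, -⟩ :=
    Groth.Agent.Lib.AlgSpFieldQuot.exists_mono_factor (K := k) str p _ _ sq.flip hfin
  have hpe : Epi p := by
    have := Groth.Agent.Lib.H69AlgSp.isLocallySurjective_of_etale_surjective p hp hs
    infer_instance
  have hme : Epi m := by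
    rw [← hcm] at hpe
    exact epi_of_epi ((yon S).map c) m
  have hmi : IsIso m := isIso_of_mono_of_epi m
  refine ⟨k₀, inferInstance, str₀, asIso m, c, hcm, hcf, ?_⟩
  have h4 : RepWith @Etale ((yon S).map c) := by
    have : (yon S).map c = p ≫ inv m := by rw [← hcm, Category.assoc, IsIso.hom_inv_id, Category.comp_id]
    rw [this]
    exact MorphismProperty.RespectsIso.postcomp _ _ _ hp
  exact (repWith_yon_map_iff _ _).1 h4

/-- A scheme étale over a field has the discrete topology. -/
theorem discreteTopology_of_etale_field {V : Scheme.{u}} {K : Type u} [Field K]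
    (e : V ⟶ Spec (CommRingCat.of K)) [Etale e] : DiscreteTopology ↥V := by
  have hlqf : LocallyQuasiFinite e := Groth.Agent.Lib.AlgSpBasic.locallyQuasiFinite_of_etale e
  have hdisc : _root_.IsDiscrete (e ⁻¹' {IsLocalRing.closedPoint K}) :=
    e.isDiscrete_preimage_singleton _
  have huniv : e ⁻¹' {IsLocalRing.closedPoint K} = Set.univ := by
    ext z
    simp only [Set.mem_preimage, Set.mem_univ, iff_true]
    exact Subsingleton.elim _ _
  rw [huniv, isDiscrete_univ_iff] at hdisc
  exact hdisc

/-- **An algebraic space étale over the spectrum of a field is a scheme.** -/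
theorem isRepresentable_of_isEtaleMor_field {X : Sp S} (hA : IsAlgSpace X) (k : Type u) [Field k]
    (str : Spec (CommRingCat.of k) ⟶ S) (f : X ⟶ (yon S).obj (Over.mk str)) (hf : IsEtaleMor f) :
    X.obj.IsRepresentable := by
  obtain ⟨V, b, hb, hbs⟩ := hA.atlas
  have hbf : RepWith @Etale (b ≫ f) := hf b hb
  obtain ⟨g, hg⟩ := (yon S).map_surjective (b ≫ f)
  have hgE : Etale g.left := by
    rw [← hg] at hbf
    exact (repWith_yon_map_iff _ _).1 hbf
  have hdiscV : DiscreteTopology ↥V.left := discreteTopology_of_etale_field (K := k) g.left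
  have hdec : IsDecent X :=
    isDecent_of_isEtaleMor hA (IsAlgSpace.yon_obj _) f hf
      (Groth.Agent.Lib.H80DecentPt.isDecent_yon _)
  -- the local pieces
  have key : ∀ v : ↥V.left, ∃ (k' : Type u) (_ : Field k') (str' : Spec (CommRingCat.of k') ⟶ S)
      (φ : (yon S).obj (Over.mk str') ⟶ X), RepWith @IsOpenImmersion φ ∧
        Points.ofPt b v ∈ Set.range (Points.map φ) := by
    intro v
    let Wv : V.left.Opens := ⟨{v}, isOpen_discrete _⟩
    have hmemWv : ∀ z : ↥Wv.toScheme, Wv.ι z = v := fun z => z.2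
    have hsub : Subsingleton ↥Wv.toScheme :=
      ⟨fun y z => Wv.ι.isOpenEmbedding.injective (by rw [hmemWv y, hmemWv z])⟩
    have hne : Nonempty ↥Wv.toScheme := ⟨(⟨v, rfl⟩ : ↥Wv)⟩
    have hEt : Etale (Wv.ι ≫ g.left) := inferInstance
    have haff : IsAffine Wv.toScheme := isAffine_of_subsingleton _
    have hred : IsReduced Wv.toScheme :=
      Groth.Agent.Lib.DiscreteClosedImm.isReduced_of_etale_field_of_isAffine (K := k) (Wv.ι ≫ g.left)
    obtain ⟨K, hK, ⟨i⟩⟩ :=
      Groth.Agent.Lib.DiscreteClosedImm.exists_iso_spec_field_of_subsingleton Wv.toScheme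
    obtain ⟨strv, hstrv⟩ : ∃ strv : Spec (CommRingCat.of K) ⟶ S, strv = i.hom ≫ Wv.ι ≫ V.hom :=
      ⟨_, rfl⟩
    let jv : Over.mk strv ⟶ V := Over.homMk (i.hom ≫ Wv.ι) (by rw [hstrv, Category.assoc]; rfl)
    have hjv : Etale jv.left := (inferInstance : Etale (i.hom ≫ Wv.ι))
    have hpv : RepWith @Etale ((yon S).map jv ≫ b) :=
      MorphismProperty.comp_mem _ _ _ ((repWith_yon_map_iff _ _).2 hjv) hb
    obtain ⟨p, hpdef⟩ : ∃ p, p = (yon S).map jv ≫ b := ⟨_, rfl⟩
    rw [← hpdef] at hpv
    have hptv : ∀ z : ↥(Over.mk strv).left, Points.ofPt p z = Points.ofPt b v := by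
      intro z
      rw [hpdef, ofPt_yon_map_comp]
      congr 1
      exact hmemWv (i.hom z)
    obtain ⟨W, hW⟩ : ∃ W, W = Set.range (Points.ofPt p) := ⟨_, rfl⟩
    have hopen : IsOpen W := by
      rw [hW]; exact (Groth.Agent.Lib.H86AlgSpPoints.isOpenMap_ofPt hpv).isOpen_range
    have hj := openSubι_repWith (F := X) hopen
    have hAW := isAlgSpace_openSub hA hopen
    have hrange : ∀ x, x ∈ Set.range (Points.map (openSubι X W)) ↔ x ∈ W := fun x =>
      Set.ext_iff.1 range_map_openSubι x
    obtain ⟨p', hp'⟩ := Groth.Agent.Lib.H86AlgSpSub.exists_factor_of_range_subset hj p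
      (by
        intro x hx
        rw [range_map_eq_range_ofPt, ← hW] at hx
        exact (hrange x).2 hx)
    have hp'E : RepWith @Etale p' :=
      repWith_of_comp_mono (openSubι X W) (by rw [hp']; exact hpv)
    have hsurj' : Function.Surjective (Points.map p') := by
      intro y
      have h1 : Points.map (openSubι X W) y ∈ W := (hrange _).1 ⟨y, rfl⟩
      have h2 : Points.map (openSubι X W) y ∈ Set.range (Points.map (p' ≫ openSubι X W)) := by
        rw [hp', range_map_eq_range_ofPt]
        exact hW ▸ h1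
      obtain ⟨z, hz⟩ := h2
      rw [Points.map_comp] at hz
      exact ⟨z, map_injective_of_mono _ hz⟩
    have hp'S : RepWith @Surjective p' := repWith_surjective_of_surjective hp'E.1 hsurj'
    -- compactness of `Spec K ×_X Spec K`
    have hc : CompactSpace ↥(hp'E.1.pullback p').left := by
      have sq' := hp'E.1.isPullback' p'
      have sq'' := isPullback_comp_mono (openSubι X W) sq'
      rw [hp'] at sq''
      obtain ⟨q, hq, -, hqc⟩ := hdec (Points.ofPt b v)
      have hcK : CompactSpace ↥(Over.mk strv).left := by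
        change CompactSpace ↥(Spec (.of K))
        infer_instance
      have hfin := (finite_fibres_of_mono_point hA q hqc p hpv _ _ sq'').2
      have huniv : Points.ofPt ((yon S).map (hp'E.1.fst' p') ≫ p) ⁻¹' {Points.mk q} = Set.univ := by
        ext r
        simp only [Set.mem_preimage, Set.mem_singleton_iff, Set.mem_univ, iff_true]
        rw [ofPt_yon_map_comp, hptv, hq]
      rw [huniv] at hfin
      have : Finite ↥(hp'E.1.pullback p').left := Set.finite_univ_iff.1 hfin
      infer_instance
    obtain ⟨k', hk', str', e, c, -, -, -⟩ :=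
      exists_iso_spec_field_of_etale_surjective_of_compact K strv p' hp'E hp'S hc
    refine ⟨k', hk', str', e.hom ≫ openSubι X W,
      MorphismProperty.RespectsIso.precomp _ e.hom _ hj, ?_⟩
    have h1 : Points.ofPt b v ∈ Set.range (Points.map (openSubι X W)) := by
      refine (hrange _).2 ?_
      rw [hW]
      exact ⟨i.inv (⟨v, rfl⟩ : ↥Wv), hptv _⟩
    obtain ⟨y, hy⟩ := h1
    refine ⟨Points.map e.inv y, ?_⟩
    rw [Points.map_comp, ← Points.map_comp e.inv e.hom, e.inv_hom_id, Points.map_id, hy]
  choose k' hk' str' φ hφ hφv using key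
  refine Groth.Agent.Lib.H86ZarGlue.isRepresentable_of_openCover (ι := ↥V.left)
    (U := fun v => Over.mk (str' v)) φ hφ ?_
  intro x
  obtain ⟨v, rfl⟩ := Groth.Agent.Lib.H86AlgSpPoints.ofPt_surjective hbs x
  exact ⟨v, hφv v⟩

end Groth.Agent.Lib.AlgSpEtField91
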