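import Groth.Prelude.Def_AlgSpOX
import Groth.Agent.Lib.QCSiteCoh95
import Mathlib.CategoryTheory.Limits.FullSubcategory

/-!
# The qcqs-source part of the small étale site of an algebraic space (helper95)
-/

set_option autoImplicit false
set_option linter.unusedSectionVars false
set_option backward.isDefEq.respectTransparency false

open CategoryTheory CategoryTheory.Limits AlgebraicGeometry Opposite

universe u

namespace Groth.Agent.Lib.AlgSpEtQcqs95

open AlgSp Groth.Agent.Lib.QCSiteColim

variable {S : Scheme.{u}}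

section Diag

/-- A fibre product `A ×_X B` is the base change of the diagonal of `X` along `a × b`
(same statement as helper86's `H86AlgSpDiag.isPullback_diag`). -/
theorem isPullback_diag {C : Type*} [Category C] [HasBinaryProducts C] {P A B X : C}
    {fst : P ⟶ A} {snd : P ⟶ B} {a : A ⟶ X} {b : B ⟶ X} (h : IsPullback fst snd a b) :
    IsPullback (fst ≫ a) (prod.lift fst snd) (Limits.diag X) (prod.map a b) := by
  have hs : ∀ s : PullbackCone (Limits.diag X) (prod.map a b),
      s.fst = s.snd ≫ prod.fst ≫ a ∧ s.fst = s.snd ≫ prod.snd ≫ b := by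
    intro s
    have h1 := s.condition =≫ prod.fst
    have h2 := s.condition =≫ prod.snd
    simp only [Category.assoc, prod.map_fst, prod.map_snd, Limits.diag, prod.lift_fst,
      prod.lift_snd, Category.comp_id] at h1 h2
    exact ⟨h1, h2⟩
  refine ⟨⟨?_⟩, ⟨PullbackCone.IsLimit.mk _
    (fun s => h.lift (s.snd ≫ prod.fst) (s.snd ≫ prod.snd) ?_) ?_ ?_ ?_⟩⟩
  · apply Limits.prod.hom_ext
    · simp only [Category.assoc, prod.map_fst, prod.lift_fst_assoc, Limits.diag, prod.lift_fst,
        Category.comp_id]
    · simp only [Category.assoc, prod.map_snd, prod.lift_snd_assoc, Limits.diag, prod.lift_snd,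
        Category.comp_id, h.w]
  · rw [Category.assoc, Category.assoc, ← (hs s).1, ← (hs s).2]
  · intro s
    rw [← Category.assoc, h.lift_fst, Category.assoc, ← (hs s).1]
  · intro s
    apply Limits.prod.hom_ext
    · simp only [Category.assoc, prod.lift_fst, h.lift_fst]
    · simp only [Category.assoc, prod.lift_snd, h.lift_snd]
  · intro s m h1 h2
    apply h.hom_ext
    · rw [h.lift_fst, ← h2]; simp only [Category.assoc, prod.lift_fst]
    · rw [h.lift_snd, ← h2]; simp only [Category.assoc, prod.lift_snd]

/-- The fibre product `h_P = h_U ×_F h_V` as a base change of the diagonal of `F` along a map from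
the representable `h_{U × V}` (same statement as helper86's `isPullback_diag_yon`). -/
theorem isPullback_diag_yon {F : Sp S} {U V P : Over S} {a : (yon S).obj U ⟶ F}
    {b : (yon S).obj V ⟶ F} {fst : P ⟶ U} {snd : P ⟶ V}
    (h : IsPullback ((yon S).map fst) ((yon S).map snd) a b) :
    IsPullback ((yon S).map fst ≫ a) ((yon S).map (prod.lift fst snd)) (Limits.diag F)
      (prodComparison (yon S) U V ≫ prod.map a b) := by
  have h1 := isPullback_diag h
  have h2 : IsPullback (𝟙 ((yon S).obj P)) ((yon S).map (prod.lift fst snd))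
      (prod.lift ((yon S).map fst) ((yon S).map snd)) (prodComparison (yon S) U V) := by
    apply IsPullback.of_horiz_isIso
    constructor
    apply Limits.prod.hom_ext
    · simp only [Category.assoc, prodComparison_fst, ← Functor.map_comp, prod.lift_fst,
        Category.id_comp]
    · simp only [Category.assoc, prodComparison_snd, ← Functor.map_comp, prod.lift_snd,
        Category.id_comp]
  have h3 := h2.paste_horiz h1
  rwa [Category.id_comp] at h3

end Diag

variable {X : Sp S}

/-- objects of the small étale site of `X` whose underlying scheme is quasi-compact and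
quasi-separated -/
def P₁ (X : Sp S) : ObjectProperty (EtOver X) :=
  fun E => CompactSpace E.obj.left.left ∧ QuasiSeparatedSpace E.obj.left.left

lemma p₁_of_iso {E E' : EtOver X} (e : E ≅ E') (h : P₁ X E) : P₁ X E' := by
  let e' : E.obj.left.left ≅ E'.obj.left.left := (EtOver.toScheme X).mapIso e
  have := h.1
  have := h.2
  exact ⟨e'.hom.homeomorph.compactSpace, quasiSeparatedSpace_of_quasiSeparated e'.inv⟩

lemma p₁_of_isPullback {Z A B W : EtOver X} {p : Z ⟶ A} {q : Z ⟶ B} {f : A ⟶ W} {g : B ⟶ W}
    (sq : IsPullback p q f g) (hA : P₁ X A) (hB : P₁ X B) (hW : P₁ X W) : P₁ X Z := by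
  have sq' := sq.map (EtOver.toScheme X)
  let e : Z.obj.left.left ≅ pullback f.hom.left.left g.hom.left.left := sq'.isoPullback
  have := hA.1
  have := hA.2
  have := hB.1
  have := hB.2
  have := hW.2
  have h1 : CompactSpace ↥(pullback f.hom.left.left g.hom.left.left) :=
    QuasiCompact.compactSpace_of_compactSpace (pullback.snd f.hom.left.left g.hom.left.left)
  have h2 : QuasiSeparatedSpace ↥(pullback f.hom.left.left g.hom.left.left) :=
    quasiSeparatedSpace_of_quasiSeparated (pullback.snd f.hom.left.left g.hom.left.left)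
  constructor
  · exact (e.hom.homeomorph).symm.compactSpace
  · exact quasiSeparatedSpace_of_quasiSeparated e.hom

instance : (P₁ X).IsClosedUnderLimitsOfShape WalkingCospan where
  limitsOfShape_le := by
    rintro Z ⟨h⟩
    exact p₁_of_isPullback (IsPullback.of_isLimit_cone h.isLimit) (h.prop_diag_obj _)
      (h.prop_diag_obj _) (h.prop_diag_obj _)

section Products

variable (hqs : IsQuasiSeparatedSp X) [QuasiSeparatedSpace S]

include hqs in
/-- over a quasi-separated base, the product in the small étale site of a quasi-separated sheaf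
of two objects with qcqs underlying scheme has qcqs underlying scheme -/
theorem p₁_prodObj (E₁ E₂ : EtOver X) (h₁ : P₁ X E₁) (h₂ : P₁ X E₂) :
    P₁ X (EtOver.prodObj E₁ E₂) := by
  have := h₁.1
  have := h₁.2
  have := h₂.1
  have := h₂.2
  let hrep := E₂.property.1
  let U := E₁.obj.left
  let V := E₂.obj.left
  let P : Over S := hrep.pullback E₁.obj.hom
  let snd : P ⟶ U := hrep.snd E₁.obj.hom
  let fst' : P ⟶ V := hrep.fst' E₁.obj.hom
  have sq : IsPullback ((yon S).map snd) ((yon S).map fst') E₁.obj.hom E₂.obj.hom := by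
    have := (hrep.isPullback E₁.obj.hom).flip
    rwa [← Functor.relativelyRepresentable.map_fst'] at this
  have sq2 := isPullback_diag_yon sq
  let m : P ⟶ U ⨯ V := prod.lift snd fst'
  have hm1 : QuasiCompact m.left := ((repWith_iff _ _).1 hqs).2 _ _ m sq2
  have hm2 : Mono ((yon S).map m) := sq2.mono_snd_of_mono
  have hm3 : Mono m := (yon S).mono_of_mono_map hm2
  have hm4 : Mono m.left := inferInstance
  -- the product over `S` is qcqs
  let e : (U ⨯ V).left ≅ pullback U.hom V.hom := Over.prodLeftIsoPullback U V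
  have hU1 : QuasiCompact U.hom := inferInstance
  have hU2 : QuasiSeparated U.hom := inferInstance
  have h1 : CompactSpace ↥(pullback U.hom V.hom) :=
    QuasiCompact.compactSpace_of_compactSpace (pullback.snd U.hom V.hom)
  have h2 : QuasiSeparatedSpace ↥(pullback U.hom V.hom) :=
    quasiSeparatedSpace_of_quasiSeparated (pullback.snd U.hom V.hom)
  have h3 : CompactSpace ↥(U ⨯ V).left := (e.hom.homeomorph).symm.compactSpace
  have h4 : QuasiSeparatedSpace ↥(U ⨯ V).left := quasiSeparatedSpace_of_quasiSeparated e.hom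
  exact ⟨QuasiCompact.compactSpace_of_compactSpace m.left,
    quasiSeparatedSpace_of_quasiSeparated m.left⟩

end Products

section Opens

/-- an open subscheme of the underlying scheme of an object of the small étale site, as an object
of the small étale site -/
noncomputable def openObj (E : EtOver X) (W : E.obj.left.left.Opens) : EtOver X :=
  (EtOver.ofChart E.obj.hom E.property).obj (Scheme.Etale.mk W.ι)

/-- the inclusion of an open subscheme -/
noncomputable def openHom (E : EtOver X) (W : E.obj.left.left.Opens) : openObj E W ⟶ E :=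
  EtOver.homMk (EtOver.homOfEtale (Scheme.Etale.mk W.ι)) rfl

lemma openHom_left (E : EtOver X) (W : E.obj.left.left.Opens) :
    (openHom E W).hom.left.left = W.ι := rfl

lemma p₁_openObj (E : EtOver X) (W : E.obj.left.left.Opens) (hW : IsAffineOpen W) :
    P₁ X (openObj E W) := by
  have : IsAffine (W : Scheme) := hW
  exact ⟨inferInstanceAs (CompactSpace (W : Scheme)),
    inferInstanceAs (QuasiSeparatedSpace (W : Scheme))⟩

end Opens

section Chart

/-- a quasi-compact sheaf has an étale surjective chart from an affine scheme -/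
theorem exists_affine_chart (hqc : IsQuasiCompactSp X) :
    ∃ E₀ : EtOver X, IsAffine E₀.obj.left.left ∧ RepWith @Surjective E₀.obj.hom := by
  classical
  obtain ⟨U, p, hpe, hps, hUc⟩ := hqc
  have key : ∀ x : U.left, ∃ W : U.left.Opens, IsAffineOpen W ∧ x ∈ W := by
    intro x
    obtain ⟨W, hWaff, hxW, -⟩ := TopologicalSpace.Opens.isBasis_iff_nbhd.1
      U.left.isBasis_affineOpens (show x ∈ (⊤ : U.left.Opens) from trivial)
    exact ⟨W, hWaff, hxW⟩
  choose W hWaff hxW using key
  obtain ⟨t, ht⟩ := isCompact_univ.elim_finite_subcover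
    (fun x => ((W x : U.left.Opens) : Set U.left)) (fun x => (W x).isOpen)
    (fun x _ => Set.mem_iUnion.2 ⟨x, hxW x⟩)
  let Y : t → Scheme.{u} := fun x => ((W x.1 : U.left.Opens) : Scheme)
  have hYaff : ∀ x, IsAffine (Y x) := fun x => hWaff x.1
  let f : ∀ x, Y x ⟶ U.left := fun x => Scheme.Opens.ι (W x.1)
  have hf : ∀ x, Etale (f x) := fun x => inferInstanceAs (Etale (Scheme.Opens.ι (W x.1)))
  let g : (∐ Y) ⟶ U.left := Sigma.desc f
  have hg1 : Etale g := IsZariskiLocalAtSource.sigmaDesc hf
  have hg2 : Surjective g := by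
    apply Surjective.sigmaDesc_of_union_range_eq_univ
    rw [Set.eq_univ_iff_forall]
    intro x
    obtain ⟨y, hy, hxy⟩ : ∃ y ∈ t, x ∈ ((W y : U.left.Opens) : Set U.left) := by
      simpa using ht (Set.mem_univ x)
    refine Set.mem_iUnion.2 ⟨⟨y, hy⟩, ⟨⟨x, hxy⟩, rfl⟩⟩
  let U₀ : Over S := Over.mk (g ≫ U.hom)
  let g' : U₀ ⟶ U := Over.homMk g rfl
  have hp₀e : RepWith @Etale ((yon S).map g' ≫ p) :=
    (repWith_isMultiplicative (S := S) @Etale).comp_mem _ _
      ((repWith_yon_map_iff _ _).2 hg1) hpe
  have hp₀s : RepWith @Surjective ((yon S).map g' ≫ p) :=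
    (repWith_isMultiplicative (S := S) @Surjective).comp_mem _ _
      ((repWith_yon_map_iff _ _).2 hg2) hps
  exact ⟨EtOver.mk _ hp₀e, inferInstanceAs (IsAffine (∐ Y)), hp₀s⟩

/-- the projection from the product with a surjective chart is surjective -/
theorem surjective_prodFst (E E₀ : EtOver X) (h₀ : RepWith @Surjective E₀.obj.hom) :
    Function.Surjective (EtOver.prodFst E E₀).hom.left.left := by
  have := ((repWith_iff _ _).1 h₀).2 E.obj.hom _ _ (E₀.property.1.isPullback E.obj.hom)
  exact this.surj

end Chart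

/-- the sheaf `X` is quasi-separated over the quasi-separated base `S` -/
class QSData (X : Sp S) : Prop where
  qs : IsQuasiSeparatedSp X
  base : QuasiSeparatedSpace S

instance [h : QSData X] : (P₁ X).IsClosedUnderLimitsOfShape (Discrete WalkingPair) where
  limitsOfShape_le := by
    rintro Z ⟨h'⟩
    have := h.base
    let A := h'.diag.obj ⟨WalkingPair.left⟩
    let B := h'.diag.obj ⟨WalkingPair.right⟩
    let e : Z ≅ EtOver.prodObj A B :=
      IsLimit.conePointsIsoOfNatIso h'.isLimit (EtOver.prodIsLimit A B) (diagramIsoPair h'.diag)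
    exact p₁_of_iso e.symm (p₁_prodObj h.qs A B (h'.prop_diag_obj _) (h'.prop_diag_obj _))

/-- the category of objects of the small étale site with qcqs underlying scheme -/
abbrev D₁ (X : Sp S) : Type (u + 1) := (P₁ X).FullSubcategory

example (X : Sp S) : HasPullbacks (D₁ X) := inferInstance
example (X : Sp S) [QSData X] : HasBinaryProducts (D₁ X) := inferInstance

section SmallSite

variable (X : Sp S)

/-- a small model -/
abbrev C₁ : Type (u + 1) := AsSmall.{u + 1} (D₁ X)

/-- the equivalence with the small model -/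
abbrev down₁ : C₁ X ⥤ D₁ X := AsSmall.down.{u, u + 1, u + 1}

/-- the equivalence with the small model -/
abbrev up₁ : D₁ X ⥤ C₁ X := AsSmall.up.{u, u + 1, u + 1}

instance : (down₁ X).IsEquivalence :=
  (AsSmall.equiv.{u, u + 1, u + 1} (C := D₁ X)).isEquivalence_inverse

instance : (up₁ X).IsEquivalence :=
  (AsSmall.equiv.{u, u + 1, u + 1} (C := D₁ X)).isEquivalence_functor

instance : HasPullbacks (C₁ X) :=
  Adjunction.hasLimitsOfShape_of_equivalence (down₁ X)

instance [QSData X] : HasBinaryProducts (C₁ X) :=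
  Adjunction.hasLimitsOfShape_of_equivalence (down₁ X)

/-- the inclusion into the small étale site -/
def G₁ : C₁ X ⥤ EtOver X := down₁ X ⋙ (P₁ X).ι

instance : (G₁ X).Full := by unfold G₁; infer_instance

instance : (G₁ X).Faithful := by unfold G₁; infer_instance

/-- the object of the small model attached to an object with qcqs underlying scheme -/
def mk₁ (U : EtOver X) (hU : P₁ X U) : C₁ X := (up₁ X).obj ⟨U, hU⟩

lemma g₁_mk₁ (U : EtOver X) (hU : P₁ X U) : (G₁ X).obj (mk₁ X U hU) = U := rfl

lemma p₁_g₁ (d : C₁ X) : P₁ X ((G₁ X).obj d) := ((down₁ X).obj d).property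

lemma mem_etTop_iff {E : EtOver X} (T : Sieve E) :
    T ∈ etTop X E ↔ ∃ R ∈ etPre X E, R ≤ T :=
  Precoverage.mem_toGrothendieck_iff_of_isStableUnderComposition

instance : (G₁ X).IsCoverDense (etTop X) where
  is_cover E := by
    choose W hWaff hxW _ using fun x : E.obj.left.left =>
      TopologicalSpace.Opens.isBasis_iff_nbhd.1
        E.obj.left.left.isBasis_affineOpens (show x ∈ (⊤ : E.obj.left.left.Opens) from trivial)
    have hmem : Sieve.ofArrows (fun x => openObj E (W x)) (fun x => openHom E (W x)) ∈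
        etTop X E := by
      refine ofArrows_mem_etTop _ _ (fun x => ⟨x, ⟨⟨x, hxW x⟩, ?_⟩⟩)
      rw [openHom_left]
      rfl
    refine GrothendieckTopology.superset_covering _ ?_ hmem
    rintro Y g ⟨Z, a, b, ⟨x⟩, rfl⟩
    exact ⟨⟨mk₁ X _ (p₁_openObj E (W x) (hWaff x)), a, openHom E (W x), rfl⟩⟩

/-- the induced topology -/
abbrev J₁ : GrothendieckTopology (C₁ X) := (G₁ X).inducedTopology (etTop X)

/-- every object of the small model is quasi-compact -/
lemma qc_J₁ (d : C₁ X) : QC (J₁ X) d := by
  classical
  intro T hT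
  rw [Functor.mem_inducedTopology_iff_of_isCoverDense, mem_etTop_iff] at hT
  obtain ⟨R, hR, hle⟩ := hT
  obtain ⟨ι, Y, f, rfl⟩ := R.exists_eq_ofArrows
  rw [ofArrows_mem_etPre_iff] at hR
  let E := (G₁ X).obj d
  have hc : CompactSpace E.obj.left.left := (p₁_g₁ X d).1
  -- for each point, an affine open of some member of the family through that point
  have key : ∀ x : E.obj.left.left, ∃ (i : ι) (W : (Y i).obj.left.left.Opens),
      IsAffineOpen W ∧ x ∈ Set.range ((openHom (Y i) W ≫ f i).hom.left.left) := by
    intro x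
    obtain ⟨i, y, hy⟩ := hR x
    obtain ⟨W, hWaff, hyW, -⟩ := TopologicalSpace.Opens.isBasis_iff_nbhd.1
      (Y i).obj.left.left.isBasis_affineOpens
      (show y ∈ (⊤ : (Y i).obj.left.left.Opens) from trivial)
    refine ⟨i, W, hWaff, ⟨⟨y, hyW⟩, ?_⟩⟩
    rw [← hy]
    rfl
  choose i W hWaff hx using key
  let V : E.obj.left.left → C₁ X := fun x => mk₁ X _ (p₁_openObj (Y (i x)) (W x) (hWaff x))
  let s : ∀ x, V x ⟶ d := fun x => (G₁ X).preimage (openHom (Y (i x)) (W x) ≫ f (i x))
  have hs : ∀ x, (G₁ X).map (s x) = openHom (Y (i x)) (W x) ≫ f (i x) :=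
    fun x => (G₁ X).map_preimage _
  have hTs : ∀ x, T (s x) := by
    intro x
    have h1 : (Sieve.functorPushforward (G₁ X) T).arrows (f (i x)) :=
      hle _ _ (Presieve.ofArrows.mk (i x))
    have h2 : (Sieve.functorPushforward (G₁ X) T).arrows (openHom (Y (i x)) (W x) ≫ f (i x)) :=
      Sieve.downward_closed _ h1 _
    obtain ⟨W', t, h, ht, hfac⟩ := h2
    let h' : (G₁ X).obj (V x) ⟶ (G₁ X).obj W' := h
    have h3 : s x = (G₁ X).preimage h' ≫ t := by
      apply (G₁ X).map_injective
      rw [hs, (G₁ X).map_comp, (G₁ X).map_preimage]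
      exact hfac
    rw [h3]
    exact T.downward_closed ht _
  have hopen : ∀ x, IsOpen (Set.range ((G₁ X).map (s x)).hom.left.left) := by
    intro x
    have : Etale ((G₁ X).map (s x)).hom.left.left := EtOver.etale_left _
    exact ((G₁ X).map (s x)).hom.left.left.isOpenMap.isOpen_range
  obtain ⟨t, ht⟩ := isCompact_univ.elim_finite_subcover
    (fun x => Set.range ((G₁ X).map (s x)).hom.left.left) hopen
    (fun x _ => Set.mem_iUnion.2 ⟨x, by rw [hs]; exact hx x⟩)
  let e : Fin t.card ≃ t := t.equivFin.symm
  refine ⟨t.card, fun k => V (e k), fun k => s (e k), fun k => hTs _, ?_⟩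
  rw [Functor.mem_inducedTopology_iff_of_isCoverDense]
  have hmem : Sieve.ofArrows (fun k => (G₁ X).obj (V (e k))) (fun k => (G₁ X).map (s (e k))) ∈
      etTop X E := by
    refine ofArrows_mem_etTop _ _ (fun x => ?_)
    obtain ⟨y, hy, hxy⟩ : ∃ y ∈ t, x ∈ Set.range ((G₁ X).map (s y)).hom.left.left := by
      simpa using ht (Set.mem_univ x)
    obtain ⟨k₀, hk₀⟩ : ∃ k₀, e k₀ = ⟨y, hy⟩ := ⟨e.symm _, e.apply_symm_apply _⟩
    refine ⟨k₀, ?_⟩
    rw [hk₀]
    exact hxy
  refine GrothendieckTopology.superset_covering _ ?_ hmem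
  rintro Z q ⟨Z', a', b', ⟨k⟩, rfl⟩
  exact ⟨V (e k), s (e k), a', (Sieve.mem_ofArrows_iff _ _ _).2 ⟨k, 𝟙 _, by simp⟩, rfl⟩

example : HasSheafify (J₁ X) AddCommGrpCat.{u + 1} := inferInstance
example : HasExt.{u + 1} (Sheaf (J₁ X) AddCommGrpCat.{u + 1}) := inferInstance

/-- restriction to the small qcqs-source site -/
noncomputable abbrev Ψ₁ : AbEt X ⥤ Sheaf (J₁ X) AddCommGrpCat.{u + 1} :=
  (G₁ X).sheafPushforwardContinuous AddCommGrpCat.{u + 1} (J₁ X) (etTop X)

instance : (Ψ₁ X).IsEquivalence := inferInstance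

instance : (Ψ₁ X).Additive where

end SmallSite

end Groth.Agent.Lib.AlgSpEtQcqs95
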