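import Groth.Agent.Lib.AlgSpLocP
import Groth.Agent.Lib.AlgSpAffineSpace
import Groth.Agent.Lib.AlgSpDecentSpec
import Groth.Agent.Lib.H86AlgSpPoints

/-!
# Charts of fibres of morphisms of algebraic spaces (helper36)

* `exists_global_chart`: given an etale surjective chart `b : h_V ⟶ Y` and `f : X ⟶ Y` with `X` an
  algebraic space, there is an etale surjective chart `a : h_U ⟶ X` and `k : U ⟶ V` over `f`
  (and `k` is surjective when `f` is surjective on points).
* `repWith_etale_fibre_chart`: for a chart diagram `(a, c, k)` of `g : X ⟶ Z` and `t : T ⟶ W`, the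
  induced map `h_{U ×_W T} ⟶ X ×_Z T` is representable etale.
* `locP_fibre_chart`: `LocP P` of the induced map of fibres `X_z ⟶ Y_z` gives `P` of the map of scheme
  fibres `U ×_W T ⟶ V ×_W T`.
-/

set_option autoImplicit false
set_option linter.style.haveILetI false
universe u
open CategoryTheory CategoryTheory.Limits AlgebraicGeometry Opposite

namespace Groth.Agent.Lib.AlgSpFibreChart36

open AlgSp Groth.Agent.Lib.AlgSpBasic

variable {S : Scheme.{u}}

/-- A global chart of `f : X ⟶ Y` over a given etale surjective chart of `Y`. -/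
theorem exists_global_chart {X Y : Sp S} (hX : IsAlgSpace X) (f : X ⟶ Y) {V : Over S}
    (b : (yon S).obj V ⟶ Y) (hb : RepWith @Etale b) (hbs : RepWith @Surjective b) :
    ∃ (U : Over S) (a : (yon S).obj U ⟶ X) (k : U ⟶ V), RepWith @Etale a ∧ RepWith @Surjective a ∧
      a ≫ f = (yon S).map k ≫ b ∧ (IsSurjectiveMor f → Surjective k.left) := by
  obtain ⟨U₀, a₀, ha₀, ha₀s⟩ := hX.atlas
  have hr := hb.rep
  have sq := hr.isPullback' (a₀ ≫ f)
  have e1 : Etale (hr.snd (a₀ ≫ f)).left := hb.property_snd _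
  have e2 : Surjective (hr.snd (a₀ ≫ f)).left := hbs.property _ _ _ (hr.isPullback _)
  have e1' : RepWith @Etale ((yon S).map (hr.snd (a₀ ≫ f))) := (repWith_yon_map_iff _ _).2 e1
  have e2' : RepWith @Surjective ((yon S).map (hr.snd (a₀ ≫ f))) := (repWith_yon_map_iff _ _).2 e2
  refine ⟨hr.pullback (a₀ ≫ f), (yon S).map (hr.snd (a₀ ≫ f)) ≫ a₀, hr.fst' (a₀ ≫ f),
    MorphismProperty.comp_mem _ _ _ e1' ha₀, MorphismProperty.comp_mem _ _ _ e2' ha₀s, ?_, ?_⟩
  · rw [Category.assoc]; exact sq.w.symm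
  · intro hs
    refine ⟨fun v => ?_⟩
    obtain ⟨x, hx⟩ := hs (Points.ofPt b v)
    obtain ⟨u₀, hu₀⟩ := Groth.Agent.Lib.H86AlgSpPoints.ofPt_surjective ha₀s x
    obtain ⟨p, hp1, -⟩ := Groth.Agent.Lib.AlgSpDecentSpec.exists_point_of_ofPt_eq sq v u₀
      (by rw [← hx, ← hu₀]; rfl)
    exact ⟨p, hp1⟩

/-- **Charts of fibres**: for a chart diagram `(a, c, k)` of `g : X ⟶ Z` and a morphism of schemes
`t : T ⟶ W`, the induced map from the scheme `U ×_W T` to the sheaf `X ×_Z T` is representable etale. -/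
theorem repWith_etale_fibre_chart {X Z P : Sp S}
    (hZ : ∀ ⦃U : Over S⦄ (a : (yon S).obj U ⟶ Z), Representable a)
    (g : X ⟶ Z) {U W T U' : Over S} (a : (yon S).obj U ⟶ X) (c : (yon S).obj W ⟶ Z)
    (ha : RepWith @Etale a) (hc : RepWith @Etale c) (k : U ⟶ W)
    (comm : a ≫ g = (yon S).map k ≫ c) (t : T ⟶ W)
    {pX : P ⟶ X} {qX : P ⟶ (yon S).obj T} (sqP : IsPullback pX qX g ((yon S).map t ≫ c))
    (ι : U' ⟶ U) (τ : U' ⟶ T) (sqU : IsPullback ι.left τ.left k.left t.left)
    (a' : (yon S).obj U' ⟶ P) (h1 : a' ≫ pX = (yon S).map ι ≫ a) (h2 : a' ≫ qX = (yon S).map τ) :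
    RepWith @Etale a' := by
  have sqX' : IsPullback (pullback.fst g c) (pullback.snd g c) g c := IsPullback.of_hasPullback g c
  let α : (yon S).obj U ⟶ pullback g c := pullback.lift a ((yon S).map k) comm
  have hα1 : α ≫ pullback.fst g c = a := pullback.lift_fst _ _ _
  have hα2 : α ≫ pullback.snd g c = (yon S).map k := pullback.lift_snd _ _ _
  have hdc : RepWith @Etale (pullback.diagonal c) := repWith_etale_diagonal hZ c hc
  have hdp : RepWith @Etale (pullback.diagonal (pullback.fst g c)) :=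
    MorphismProperty.of_isPullback (P := (RepWith (S := S) @Etale).diagonal) sqX'.flip hdc
  have hα : RepWith @Etale α :=
    repWith_of_comp @Etale α (pullback.fst g c) hdp (by rw [hα1]; exact ha)
  let β : P ⟶ pullback g c := pullback.lift pX (qX ≫ (yon S).map t)
    (by rw [Category.assoc]; exact sqP.w)
  have hβ1 : β ≫ pullback.fst g c = pX := pullback.lift_fst _ _ _
  have hβ2 : β ≫ pullback.snd g c = qX ≫ (yon S).map t := pullback.lift_snd _ _ _
  have sqβ : IsPullback β qX (pullback.snd g c) ((yon S).map t) :=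
    IsPullback.of_right (by rw [hβ1]; exact sqP) hβ2 sqX'
  have hw : τ ≫ t = ι ≫ k := by
    ext
    simpa using sqU.w.symm
  have hcomm : a' ≫ β = (yon S).map ι ≫ α := by
    apply pullback.hom_ext
    · rw [Category.assoc, hβ1, Category.assoc, hα1, h1]
    · rw [Category.assoc, hβ2, Category.assoc, hα2, ← Category.assoc, h2, ← Functor.map_comp,
        ← Functor.map_comp, hw]
  have sqbig : IsPullback ((yon S).map τ) ((yon S).map ι) ((yon S).map t) ((yon S).map k) :=
    (Groth.Agent.Lib.AlgSpAffineSpace.isPullback_yon_of_left sqU).flip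
  have sqL : IsPullback a' ((yon S).map ι) β α :=
    IsPullback.of_right (by rw [h2, hα2]; exact sqbig) hcomm sqβ.flip
  exact repWith_fst_of_isPullback _ sqL hα

/-- **The map of fibres on charts**: for a two-level chart diagram of `X ⟶ Y ⟶ Z` and `t : T ⟶ W`, if the
induced map of fibres `X_z ⟶ Y_z` over `z : h_T ⟶ h_W ⟶ Z` has `P` etale locally, then the map of scheme
fibres `U ×_W T ⟶ V ×_W T` has `P`. -/
theorem locP_fibre_chart {P : MorphismProperty Scheme.{u}} {X Y Z : Sp S}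
    (hZ : ∀ ⦃U : Over S⦄ (a : (yon S).obj U ⟶ Z), Representable a)
    (f : X ⟶ Y) (h : Y ⟶ Z) {U V W T : Over S}
    (a : (yon S).obj U ⟶ X) (b : (yon S).obj V ⟶ Y) (c : (yon S).obj W ⟶ Z)
    (ha : RepWith @Etale a) (hb : RepWith @Etale b) (hc : RepWith @Etale c)
    (k₁ : U ⟶ V) (k₂ : V ⟶ W) (comm₁ : a ≫ f = (yon S).map k₁ ≫ b)
    (comm₂ : b ≫ h = (yon S).map k₂ ≫ c) (t : T ⟶ W)
    {Xz Yz : Sp S} {pX : Xz ⟶ X} {qX : Xz ⟶ (yon S).obj T} {pY : Yz ⟶ Y}
    {qY : Yz ⟶ (yon S).obj T} {fz : Xz ⟶ Yz}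
    (sqX : IsPullback pX qX (f ≫ h) ((yon S).map t ≫ c))
    (sqY : IsPullback pY qY h ((yon S).map t ≫ c)) (e1 : fz ≫ pY = pX ≫ f) (e2 : fz ≫ qY = qX)
    (hfz : LocP P fz) :
    P (pullback.lift (pullback.fst (k₁.left ≫ k₂.left) t.left ≫ k₁.left)
      (pullback.snd (k₁.left ≫ k₂.left) t.left)
      (by rw [Category.assoc]; exact pullback.condition) :
      pullback (k₁.left ≫ k₂.left) t.left ⟶ pullback k₂.left t.left) := by
  -- the scheme fibres as objects over `S`
  let U' : Over S := Over.mk (pullback.fst (k₁.left ≫ k₂.left) t.left ≫ U.hom)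
  let V' : Over S := Over.mk (pullback.fst k₂.left t.left ≫ V.hom)
  let ιU : U' ⟶ U := Over.homMk (pullback.fst (k₁.left ≫ k₂.left) t.left) rfl
  let ιV : V' ⟶ V := Over.homMk (pullback.fst k₂.left t.left) rfl
  have hτU : pullback.snd (k₁.left ≫ k₂.left) t.left ≫ T.hom = U'.hom := by
    change _ = pullback.fst (k₁.left ≫ k₂.left) t.left ≫ U.hom
    rw [← Over.w t, ← Category.assoc, ← pullback.condition, Category.assoc, Category.assoc,
      Over.w k₂, Over.w k₁]
  have hτV : pullback.snd k₂.left t.left ≫ T.hom = V'.hom := by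
    change _ = pullback.fst k₂.left t.left ≫ V.hom
    rw [← Over.w t, ← Category.assoc, ← pullback.condition, Category.assoc, Over.w k₂]
  let τU : U' ⟶ T := Over.homMk (pullback.snd (k₁.left ≫ k₂.left) t.left) hτU
  let τV : V' ⟶ T := Over.homMk (pullback.snd k₂.left t.left) hτV
  let φ₀ : pullback (k₁.left ≫ k₂.left) t.left ⟶ pullback k₂.left t.left :=
    pullback.lift (pullback.fst (k₁.left ≫ k₂.left) t.left ≫ k₁.left)
      (pullback.snd (k₁.left ≫ k₂.left) t.left)
      (by rw [Category.assoc]; exact pullback.condition)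
  have hφ₀1 : φ₀ ≫ pullback.fst k₂.left t.left =
      pullback.fst (k₁.left ≫ k₂.left) t.left ≫ k₁.left := pullback.lift_fst _ _ _
  have hφ₀2 : φ₀ ≫ pullback.snd k₂.left t.left = pullback.snd (k₁.left ≫ k₂.left) t.left :=
    pullback.lift_snd _ _ _
  have hφw : φ₀ ≫ V'.hom = U'.hom := by
    change φ₀ ≫ pullback.fst k₂.left t.left ≫ V.hom =
      pullback.fst (k₁.left ≫ k₂.left) t.left ≫ U.hom
    rw [← Category.assoc, hφ₀1, Category.assoc, Over.w k₁]
  let φ : U' ⟶ V' := Over.homMk φ₀ hφw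
  have hφι : φ ≫ ιV = ιU ≫ k₁ := by
    ext
    exact hφ₀1
  have hφτ : φ ≫ τV = τU := by
    ext
    exact hφ₀2
  -- the chart maps
  have commU : a ≫ (f ≫ h) = (yon S).map (k₁ ≫ k₂) ≫ c := by
    rw [← Category.assoc, comm₁, Category.assoc, comm₂, Functor.map_comp, Category.assoc]
  have hwU : τU ≫ t = ιU ≫ (k₁ ≫ k₂) := by
    ext
    exact pullback.condition.symm
  have hwV : τV ≫ t = ιV ≫ k₂ := by
    ext
    exact pullback.condition.symm
  let aw : (yon S).obj U' ⟶ Xz := sqX.lift ((yon S).map ιU ≫ a) ((yon S).map τU) (by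
    rw [Category.assoc, commU, ← Category.assoc, ← Category.assoc, ← Functor.map_comp,
      ← Functor.map_comp, hwU])
  have haw1 : aw ≫ pX = (yon S).map ιU ≫ a := sqX.lift_fst _ _ _
  have haw2 : aw ≫ qX = (yon S).map τU := sqX.lift_snd _ _ _
  let bw : (yon S).obj V' ⟶ Yz := sqY.lift ((yon S).map ιV ≫ b) ((yon S).map τV) (by
    rw [Category.assoc, comm₂, ← Category.assoc, ← Category.assoc, ← Functor.map_comp,
      ← Functor.map_comp, hwV])
  have hbw1 : bw ≫ pY = (yon S).map ιV ≫ b := sqY.lift_fst _ _ _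
  have hbw2 : bw ≫ qY = (yon S).map τV := sqY.lift_snd _ _ _
  have haw : RepWith @Etale aw :=
    repWith_etale_fibre_chart hZ (f ≫ h) a c ha hc (k₁ ≫ k₂) commU t sqX ιU τU
      (IsPullback.of_hasPullback (k₁.left ≫ k₂.left) t.left) aw haw1 haw2
  have hbw : RepWith @Etale bw :=
    repWith_etale_fibre_chart hZ h b c hb hc k₂ comm₂ t sqY ιV τV
      (IsPullback.of_hasPullback k₂.left t.left) bw hbw1 hbw2
  have hcomm : aw ≫ fz = (yon S).map φ ≫ bw := by
    apply sqY.hom_ext
    · rw [Category.assoc, e1, ← Category.assoc, haw1, Category.assoc, comm₁, Category.assoc, hbw1,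
        ← Category.assoc, ← Category.assoc, ← Functor.map_comp, ← Functor.map_comp, hφι]
    · rw [Category.assoc, e2, haw2, Category.assoc, hbw2, ← Functor.map_comp, hφτ]
  exact hfz aw bw φ haw hbw hcomm

end Groth.Agent.Lib.AlgSpFibreChart36
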