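import Groth.Prelude
import Groth.Agent.Lib.H80DecentPt
import Groth.Agent.Lib.AlgSpPoints
import Groth.Agent.Lib.AlgSpBasic
import Groth.Agent.Lib.FiniteEtaleField

set_option autoImplicit false
universe u
open CategoryTheory CategoryTheory.Limits AlgebraicGeometry Topology TopologicalSpace Opposite
open AlgSp
open Groth.Agent.Lib.AlgSpBasic Groth.Agent.Lib.AlgSpPoints Groth.Agent.Lib.H80DecentPt

namespace Groth.Agent.Lib.AlgSpFibreFinite

variable {S : Scheme.{u}}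

/-- A scheme locally quasi-finite and quasi-compact over the spectrum of a field is finite. -/
theorem finite_of_lqf_field {K : Type u} [Field K] {G : Scheme.{u}} (g : G ⟶ Spec (CommRingCat.of K))
    [LocallyQuasiFinite g] [QuasiCompact g] : Finite ↥G := by
  have h := g.finite_preimage_singleton (IsLocalRing.closedPoint K)
  exact Set.finite_univ_iff.1 (h.subset fun x _ => Subsingleton.elim (α := ↥(Spec (CommRingCat.of K))) _ _)

/-- If `w` is the class of `ω` and maps to the class of `P` and to the class of `Q`, there is a common field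
extension over which `ω` is compatible with both. -/
theorem exists_common_field {X Z W : Sp S} (p : W ⟶ X) (q : W ⟶ Z) (ω : FieldPt W) (P : FieldPt X)
    (Q : FieldPt Z) (hp : Points.map p (Points.mk ω) = Points.mk P)
    (hq : Points.map q (Points.mk ω) = Points.mk Q) :
    ∃ (Ω : Type u) (_ : Field Ω) (w : Spec (CommRingCat.of Ω) ⟶ S) (α : Over.mk w ⟶ ω.pt)
      (β : Over.mk w ⟶ P.pt) (γ : Over.mk w ⟶ Q.pt),
      (yon S).map α ≫ ω.toHom ≫ p = (yon S).map β ≫ P.toHom ∧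
      (yon S).map α ≫ ω.toHom ≫ q = (yon S).map γ ≫ Q.toHom := by
  rw [Points.map_mk, Points.mk_eq_mk_iff, rel_iff_toHom] at hp hq
  obtain ⟨Ω₁, _, w₁, a₁', b₁, h₁'⟩ := hp
  obtain ⟨Ω₂, _, w₂, a₂', b₂, h₂'⟩ := hq
  let a₁ : Over.mk w₁ ⟶ ω.pt := a₁'
  let a₂ : Over.mk w₂ ⟶ ω.pt := a₂'
  have h₁ : (yon S).map a₁ ≫ ω.toHom ≫ p = (yon S).map b₁ ≫ P.toHom := by
    rw [← FieldPt.toHom_map]; exact h₁'
  have h₂ : (yon S).map a₂ ≫ ω.toHom ≫ q = (yon S).map b₂ ≫ Q.toHom := by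
    rw [← FieldPt.toHom_map]; exact h₂'
  obtain ⟨Ω, _, i₁, i₂, hi⟩ :=
    FieldPt.exists_amalgamation (Spec.preimage a₁.left).hom (Spec.preimage a₂.left).hom
  have hL : Spec.map (CommRingCat.ofHom i₁) ≫ a₁.left = Spec.map (CommRingCat.ofHom i₂) ≫ a₂.left := by
    conv_lhs => rw [← Spec.map_preimage a₁.left]
    conv_rhs => rw [← Spec.map_preimage a₂.left]
    rw [← Spec.map_comp, ← Spec.map_comp]
    congr 1
    exact CommRingCat.hom_ext hi
  let w : Spec (CommRingCat.of Ω) ⟶ S := Spec.map (CommRingCat.ofHom i₁) ≫ w₁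
  let d₁ : Over.mk w ⟶ Over.mk w₁ := Over.homMk (Spec.map (CommRingCat.ofHom i₁)) rfl
  have e₁ : a₁.left ≫ ω.str = w₁ := Over.w a₁
  have e₂ : a₂.left ≫ ω.str = w₂ := Over.w a₂
  have hw : Spec.map (CommRingCat.ofHom i₂) ≫ w₂ = w := by
    change _ = Spec.map (CommRingCat.ofHom i₁) ≫ w₁
    rw [← e₁, ← e₂, ← Category.assoc, ← Category.assoc, hL]
  let d₂ : Over.mk w ⟶ Over.mk w₂ := Over.homMk (Spec.map (CommRingCat.ofHom i₂)) hw
  have hd : d₁ ≫ a₁ = d₂ ≫ a₂ := Over.OverMorphism.ext (by simpa [d₁, d₂] using hL)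
  refine ⟨Ω, inferInstance, w, d₁ ≫ a₁, d₁ ≫ b₁, d₂ ≫ b₂, ?_, ?_⟩
  · rw [Functor.map_comp, Functor.map_comp, Category.assoc, Category.assoc, ← h₁]
  · rw [hd, Functor.map_comp, Functor.map_comp, Category.assoc, Category.assoc, ← h₂]

/-- Key extraction: a point of the fibre product over the class of `P` and the point `u` of a chart of `Z` is
reached by compatible field-valued data. -/
theorem exists_data {X Y Z W : Sp S} (f : X ⟶ Y) (g : Z ⟶ Y)
    (p : W ⟶ X) (q : W ⟶ Z) (hW : IsPullback p q f g) (P : FieldPt X)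
    {U : Over S} (a : (yon S).obj U ⟶ Z) (u : ↥U.left)
    (hr' : Representable (P.toHom ≫ f))
    (τ : (yon S).obj (hr'.pullback (a ≫ g)) ⟶ W)
    (hτp : τ ≫ p = (yon S).map (hr'.fst' (a ≫ g)) ≫ P.toHom)
    (hτq : τ ≫ q = (yon S).map (hr'.snd (a ≫ g)) ≫ a)
    (w : Points W) (hp : Points.map p w = Points.mk P) (hq : Points.map q w = Points.ofPt a u) :
    ∃ (Ω : Type u) (_ : Field Ω) (wΩ : Spec (CommRingCat.of Ω) ⟶ S) (β : Over.mk wΩ ⟶ P.pt)
      (δ : Over.mk wΩ ⟶ U), (∀ z, δ.left z = u) ∧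
      (yon S).map β ≫ P.toHom ≫ f = (yon S).map δ ≫ a ≫ g ∧
      ∀ t : Over.mk wΩ ⟶ hr'.pullback (a ≫ g), t ≫ hr'.fst' _ = β → t ≫ hr'.snd _ = δ →
        Points.ofPt τ (t.left (IsLocalRing.closedPoint Ω)) = w := by
  induction w using Points.ind with
  | h ω =>
  obtain ⟨Ω, _, wΩ, α, β, γ, h1, h2⟩ := exists_common_field p q ω P (FieldPt.ofPt a u) hp hq
  rw [FieldPt.toHom_ofPt] at h2
  let ιu : (FieldPt.ofPt a u).pt ⟶ U := Over.homMk (U.left.fromSpecResidueField u) rfl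
  have h2' : (yon S).map α ≫ ω.toHom ≫ q = (yon S).map γ ≫ (yon S).map ιu ≫ a := h2
  refine ⟨Ω, inferInstance, wΩ, β, γ ≫ ιu, ?_, ?_, ?_⟩
  · intro z
    change (U.left.fromSpecResidueField u) (γ.left z) = u
    exact Scheme.fromSpecResidueField_apply _ _
  · calc (yon S).map β ≫ P.toHom ≫ f = ((yon S).map α ≫ ω.toHom ≫ p) ≫ f := by
          rw [h1, Category.assoc]
      _ = (yon S).map α ≫ ω.toHom ≫ (p ≫ f) := by simp only [Category.assoc]
      _ = ((yon S).map α ≫ ω.toHom ≫ q) ≫ g := by rw [hW.w]; simp only [Category.assoc]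
      _ = ((yon S).map γ ≫ (yon S).map ιu ≫ a) ≫ g := by rw [h2']
      _ = (yon S).map (γ ≫ ιu) ≫ a ≫ g := by rw [Functor.map_comp]; simp only [Category.assoc]
  · intro t ht1 ht2
    have hR : (yon S).map t ≫ τ = (ofHom wΩ ((yon S).map α ≫ ω.toHom)).toHom := by
      rw [toHom_ofHom]
      apply hW.hom_ext
      · rw [Category.assoc, hτp, ← Category.assoc, ← Functor.map_comp, ht1, Category.assoc, h1]
      · rw [Category.assoc, hτq, ← Category.assoc, ← Functor.map_comp, ht2, Category.assoc, h2',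
          Functor.map_comp, Category.assoc]
    have h3 := ofPt_eq_mk_of_comp_eq τ (ofHom wΩ ((yon S).map α ≫ ω.toHom)) t hR
    have h4 : Points.mk (ofHom wΩ ((yon S).map α ≫ ω.toHom)) = Points.mk ω :=
      mk_eq_of_toHom_eq ω _ α (toHom_ofHom _ _)
    exact h3.trans h4

/-- Finite fibres of a fibre product over a point of the base represented by a monomorphism, when the second
leg is locally quasi-finite in a chart. -/
theorem finite_fibre_of_mono_point_of_lqf {X Y Z W : Sp S} (hY : IsAlgSpace Y) (f : X ⟶ Y) (g : Z ⟶ Y)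
    (p : W ⟶ X) (q : W ⟶ Z) (hW : IsPullback p q f g) (P : FieldPt X)
    (r : FieldPt Y) (hrP : Points.mk r = Points.map f (Points.mk P)) (hm : Mono r.toHom)
    {U V : Over S} (a : (yon S).obj U ⟶ Z) (b : (yon S).obj V ⟶ Y) (hb : RepWith @Etale b) (h : U ⟶ V)
    (hh : LocallyQuasiFinite h.left) (hc : a ≫ g = (yon S).map h ≫ b) (u : ↥U.left) :
    {w : Points W | Points.map p w = Points.mk P ∧ Points.map q w = Points.ofPt a u}.Finite := by
  have hr : Representable r.toHom := hY.representable_from_yon r.toHom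
  have sqV := hr.isPullback' b
  have hfe : Etale (hr.fst' b).left := hb.property _ _ _ sqV.flip
  have hb1 : Mono ((yon S).map (hr.snd b)) := sqV.mono_snd_of_mono
  have hb2 : Mono (hr.snd b) := (yon S).mono_of_mono_map hb1
  have hbm : Mono (hr.snd b).left := inferInstance
  obtain ⟨m₀, hm₀⟩ := exists_factor_of_mk_eq r (P.map f) hm hr (by rw [hrP, Points.map_mk])
  let m : P.pt ⟶ r.pt := m₀
  have hm' : P.toHom ≫ f = (yon S).map m ≫ r.toHom := by
    rw [← FieldPt.toHom_map]; exact hm₀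
  -- the scheme `T = Spec K ×_Y U` and its map to `W`
  have hr' : Representable (P.toHom ≫ f) := hY.representable_from_yon _
  have sqT := hr'.isPullback' (a ≫ g)
  have hτw : ((yon S).map (hr'.fst' (a ≫ g)) ≫ P.toHom) ≫ f = ((yon S).map (hr'.snd (a ≫ g)) ≫ a) ≫ g := by
    simp only [Category.assoc]; exact sqT.w
  let τ : (yon S).obj (hr'.pullback (a ≫ g)) ⟶ W := hW.lift _ _ hτw
  have hτp : τ ≫ p = (yon S).map (hr'.fst' (a ≫ g)) ≫ P.toHom := hW.lift_fst _ _ _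
  have hτq : τ ≫ q = (yon S).map (hr'.snd (a ≫ g)) ≫ a := hW.lift_snd _ _ _
  have key := exists_data f g p q hW P a u hr' τ hτp hτq
  -- the scheme `F = F_V ×_V U`
  let φ₁ : pullback (hr.snd b).left h.left ⟶ (hr.pullback b).left := pullback.fst _ _
  let φ₂ : pullback (hr.snd b).left h.left ⟶ U.left := pullback.snd _ _
  have hφ : φ₁ ≫ (hr.snd b).left = φ₂ ≫ h.left := pullback.condition
  have hφ₂m : Mono φ₂ := inferInstance
  have hφ₁ : LocallyQuasiFinite φ₁ := inferInstance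
  -- every point of the fibre gives a field-valued point of `F` over `u`
  have key2 : ∀ w : Points W, Points.map p w = Points.mk P → Points.map q w = Points.ofPt a u →
      ∃ (Ω : Type u) (_ : Field Ω) (wΩ : Spec (CommRingCat.of Ω) ⟶ S) (β : Over.mk wΩ ⟶ P.pt)
        (δ : Over.mk wΩ ⟶ U) (c : Spec (CommRingCat.of Ω) ⟶ pullback (hr.snd b).left h.left),
        (∀ z, φ₂ (c z) = u) ∧ c ≫ φ₂ = δ.left ∧ c ≫ φ₁ ≫ (hr.fst' b).left = β.left ≫ m.left ∧
        (yon S).map β ≫ P.toHom ≫ f = (yon S).map δ ≫ a ≫ g ∧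
        ∀ t : Over.mk wΩ ⟶ hr'.pullback (a ≫ g), t ≫ hr'.fst' _ = β → t ≫ hr'.snd _ = δ →
          Points.ofPt τ (t.left (IsLocalRing.closedPoint Ω)) = w := by
    intro w hp hq
    obtain ⟨Ω, _, wΩ, β, δ, hδ, hβδ, hfin⟩ := key w hp hq
    have hlift : (yon S).map (β ≫ m) ≫ r.toHom = (yon S).map (δ ≫ h) ≫ b := by
      rw [Functor.map_comp, Category.assoc, ← hm', hβδ, hc, Functor.map_comp, Category.assoc]
    let cV : Over.mk wΩ ⟶ hr.pullback b := hr.lift' (β ≫ m) (δ ≫ h) hlift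
    have hcV1 : cV ≫ hr.fst' b = β ≫ m := hr.lift'_fst _ _ _
    have hcV2 : cV ≫ hr.snd b = δ ≫ h := hr.lift'_snd _ _ _
    have hcond : cV.left ≫ (hr.snd b).left = δ.left ≫ h.left := congrArg (fun q => q.left) hcV2
    refine ⟨Ω, inferInstance, wΩ, β, δ, pullback.lift cV.left δ.left hcond, ?_, ?_, ?_, hβδ, hfin⟩
    · intro z
      have : (pullback.lift cV.left δ.left hcond ≫ φ₂) z = δ.left z := by
        rw [pullback.lift_snd]
      exact this.trans (hδ z)
    · exact pullback.lift_snd _ _ _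
    · rw [← Category.assoc, pullback.lift_fst]
      exact congrArg (fun q => q.left) hcV1
  by_cases hne : ∃ f₀ : ↥(pullback (hr.snd b).left h.left), φ₂ f₀ = u
  swap
  · refine Set.Finite.subset Set.finite_empty ?_
    rintro w ⟨hp, hq⟩
    obtain ⟨Ω, _, wΩ, β, δ, c, hcu, -⟩ := key2 w hp hq
    exact (hne ⟨c (IsLocalRing.closedPoint Ω), hcu _⟩).elim
  obtain ⟨f₀, hf₀⟩ := hne
  obtain ⟨_, ⟨F₀, hF₀, rfl⟩, hfF₀, -⟩ :=
    (pullback (hr.snd b).left h.left).isBasis_affineOpens.exists_subset_of_mem_open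
      (Set.mem_univ f₀) isOpen_univ
  have hF₀' : IsAffine (Scheme.Opens.toScheme F₀) := hF₀
  let ι₀ : Scheme.Opens.toScheme F₀ ⟶ pullback (hr.snd b).left h.left := Scheme.Opens.ι F₀
  let ψ : Scheme.Opens.toScheme F₀ ⟶ r.pt.left := ι₀ ≫ φ₁ ≫ (hr.fst' b).left
  let π₁ : pullback m.left ψ ⟶ P.pt.left := pullback.fst _ _
  let π₂ : pullback m.left ψ ⟶ Scheme.Opens.toScheme F₀ := pullback.snd _ _
  have hcond : π₁ ≫ m.left = π₂ ≫ ψ := pullback.condition
  have hfin : Finite ↥(pullback m.left ψ) := by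
    have h0 : IsAffine r.pt.left := by change IsAffine (Spec _); infer_instance
    have h1 : LocallyQuasiFinite (hr.fst' b).left := locallyQuasiFinite_of_etale _
    have h1' : LocallyQuasiFinite ψ := inferInstance
    have h2' : IsAffineHom ψ := isAffineHom_of_isAffine _
    have h2 : QuasiCompact ψ := inferInstance
    have h3 : LocallyQuasiFinite π₁ := MorphismProperty.pullback_fst _ _ h1'
    have h4 : QuasiCompact π₁ := MorphismProperty.pullback_fst _ _ h2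
    exact @finite_of_lqf_field P.K _ _ π₁ h3 h4
  let GO : Over S := Over.mk (π₁ ≫ P.str)
  let π₁' : GO ⟶ P.pt := Over.homMk π₁ rfl
  have e1 : (hr.fst' b).left ≫ r.str = (hr.pullback b).hom := Over.w (hr.fst' b)
  have e2 : m.left ≫ r.str = P.str := Over.w m
  have e3 : (hr.snd b).left ≫ V.hom = (hr.pullback b).hom := Over.w (hr.snd b)
  have e4 : h.left ≫ V.hom = U.hom := Over.w h
  have hγw : (π₂ ≫ ι₀ ≫ φ₁) ≫ (hr.pullback b).hom = GO.hom := by
    change _ = π₁ ≫ P.str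
    rw [← e2, ← Category.assoc π₁, hcond, ← e1]
    simp only [Category.assoc, ψ]
  let γV : GO ⟶ hr.pullback b := Over.homMk (π₂ ≫ ι₀ ≫ φ₁) hγw
  have hδw : (π₂ ≫ ι₀ ≫ φ₂) ≫ U.hom = GO.hom := by
    rw [← hγw, ← e3, ← e4]
    simp only [Category.assoc]
    rw [← Category.assoc φ₂, ← hφ, Category.assoc]
  let δ₀ : GO ⟶ U := Over.homMk (π₂ ≫ ι₀ ≫ φ₂) hδw
  have hγ1 : γV ≫ hr.fst' b = π₁' ≫ m := by
    apply Over.OverMorphism.ext
    change (π₂ ≫ ι₀ ≫ φ₁) ≫ (hr.fst' b).left = π₁ ≫ m.left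
    rw [hcond]
    simp only [Category.assoc, ψ]
  have hγ2 : γV ≫ hr.snd b = δ₀ ≫ h := by
    apply Over.OverMorphism.ext
    change (π₂ ≫ ι₀ ≫ φ₁) ≫ (hr.snd b).left = (π₂ ≫ ι₀ ≫ φ₂) ≫ h.left
    simp only [Category.assoc]
    rw [hφ]
  have hρw : (yon S).map π₁' ≫ P.toHom ≫ f = (yon S).map δ₀ ≫ a ≫ g := by
    rw [hm', ← Category.assoc, ← Functor.map_comp, ← hγ1, Functor.map_comp, Category.assoc, sqV.w,
      ← Category.assoc, ← Functor.map_comp, hγ2, Functor.map_comp, Category.assoc, hc]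
  let ρ : GO ⟶ hr'.pullback (a ≫ g) := hr'.lift' π₁' δ₀ hρw
  have hρ1 : ρ ≫ hr'.fst' _ = π₁' := hr'.lift'_fst _ _ _
  have hρ2 : ρ ≫ hr'.snd _ = δ₀ := hr'.lift'_snd _ _ _
  have hfin' : Finite ↥GO.left := hfin
  refine (Set.finite_range (fun g₀ : ↥GO.left => Points.ofPt τ (ρ.left g₀))).subset ?_
  rintro w ⟨hp, hq⟩
  obtain ⟨Ω, _, wΩ, β, δ, c, hcu, hcδ, hcβ, hβδ, hfinal⟩ := key2 w hp hq
  have hcf : ∀ z, c z = f₀ := fun z => φ₂.injective ((hcu z).trans hf₀.symm)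
  have hrange : Set.range c ⊆ Set.range ι₀ := by
    rintro _ ⟨z, rfl⟩
    rw [hcf z]
    change f₀ ∈ Set.range (Scheme.Opens.ι F₀)
    rw [Scheme.Opens.range_ι]
    exact hfF₀
  let c₃ : Spec (CommRingCat.of Ω) ⟶ Scheme.Opens.toScheme F₀ := IsOpenImmersion.lift ι₀ c hrange
  have hc₃ : c₃ ≫ ι₀ = c := IsOpenImmersion.lift_fac _ _ _
  have hc₄c : β.left ≫ m.left = c₃ ≫ ψ := by
    rw [← hcβ, ← hc₃]
    simp only [Category.assoc, ψ]
  let c₄ : Spec (CommRingCat.of Ω) ⟶ pullback m.left ψ := pullback.lift β.left c₃ hc₄c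
  have hc₄1 : c₄ ≫ π₁ = β.left := pullback.lift_fst _ _ _
  have hc₄2 : c₄ ≫ π₂ = c₃ := pullback.lift_snd _ _ _
  have hc₄w : c₄ ≫ GO.hom = wΩ := by
    change c₄ ≫ π₁ ≫ P.str = _
    rw [← Category.assoc, hc₄1]
    exact Over.w β
  let c₄' : Over.mk wΩ ⟶ GO := Over.homMk c₄ hc₄w
  refine ⟨c₄ (IsLocalRing.closedPoint Ω), ?_⟩
  refine hfinal (c₄' ≫ ρ) ?_ ?_
  · rw [Category.assoc, hρ1]
    exact Over.OverMorphism.ext hc₄1
  · rw [Category.assoc, hρ2]
    apply Over.OverMorphism.ext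
    change c₄ ≫ π₂ ≫ ι₀ ≫ φ₂ = δ.left
    rw [← Category.assoc, hc₄2, ← Category.assoc, hc₃, hcδ]

end Groth.Agent.Lib.AlgSpFibreFinite
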