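import Groth.Prelude
import Groth.Agent.Lib.AlgSpDim91
import Groth.Agent.Lib.AlgSpGenericPt
set_option autoImplicit false
universe u
open CategoryTheory CategoryTheory.Limits AlgebraicGeometry Topology TopologicalSpace Opposite
open AlgSp Groth.Agent.Lib.AlgSpBasic Groth.Agent.Lib.AlgSpPoints

namespace Groth.Agent.Lib.AlgSpQFAt

section Top
variable {A A'' B B'' : Type*} [TopologicalSpace A] [TopologicalSpace A''] [TopologicalSpace B'']

/-- `a` is isolated in its fibre under `g`. -/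
def IsolatedInFibre {A B : Type*} [TopologicalSpace A] (g : A → B) (a : A) : Prop :=
  ∃ O : Set A, IsOpen O ∧ O ∩ g ⁻¹' {g a} = {a}

theorem isolatedInFibre_comp_iff_of_open (p : A'' → A) (hp : IsOpenMap p) (hpc : Continuous p)
    (hpd : ∀ z, IsolatedInFibre p z) (g : A → B) (z : A'') :
    IsolatedInFibre (g ∘ p) z ↔ IsolatedInFibre g (p z) := by
  constructor
  · rintro ⟨O, hO, hOz⟩
    refine ⟨p '' O, hp O hO, ?_⟩
    ext a
    constructor
    · rintro ⟨⟨w, hwO, rfl⟩, hw⟩
      have : w ∈ O ∩ (g ∘ p) ⁻¹' {(g ∘ p) z} := ⟨hwO, hw⟩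
      rw [hOz] at this
      rw [Set.mem_singleton_iff.1 this]
      rfl
    · rintro rfl
      have hz : z ∈ O := by
        have : z ∈ O ∩ (g ∘ p) ⁻¹' {(g ∘ p) z} := by rw [hOz]; rfl
        exact this.1
      exact ⟨⟨z, hz, rfl⟩, rfl⟩
  · rintro ⟨O, hO, hOz⟩
    obtain ⟨O', hO', hO'z⟩ := hpd z
    refine ⟨p ⁻¹' O ∩ O', (hO.preimage hpc).inter hO', ?_⟩
    ext w
    constructor
    · rintro ⟨⟨hwO, hwO'⟩, hw⟩
      have h1 : p w ∈ O ∩ g ⁻¹' {g (p z)} := ⟨hwO, hw⟩
      rw [hOz] at h1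
      have h2 : w ∈ O' ∩ p ⁻¹' {p z} := ⟨hwO', h1⟩
      rw [hO'z] at h2
      exact h2
    · rintro rfl
      have h1 : p w ∈ O := by
        have : p w ∈ O ∩ g ⁻¹' {g (p w)} := by rw [hOz]; rfl
        exact this.1
      have h2 : w ∈ O' := by
        have : w ∈ O' ∩ p ⁻¹' {p w} := by rw [hO'z]; rfl
        exact this.1
      exact ⟨⟨h1, h2⟩, rfl⟩

theorem isolatedInFibre_comp_iff_of_discrete (q : B'' → B) (hq : ∀ z, IsolatedInFibre q z)
    (g : A'' → B'') (hg : Continuous g) (z : A'') :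
    IsolatedInFibre (q ∘ g) z ↔ IsolatedInFibre g z := by
  constructor
  · rintro ⟨O, hO, hOz⟩
    refine ⟨O, hO, ?_⟩
    ext w
    constructor
    · rintro ⟨hwO, hw⟩
      have : w ∈ O ∩ (q ∘ g) ⁻¹' {(q ∘ g) z} := ⟨hwO, by
        have hw' : g w = g z := hw
        change q (g w) = q (g z)
        rw [hw']⟩
      rw [hOz] at this
      exact this
    · rintro rfl
      have : w ∈ O ∩ (q ∘ g) ⁻¹' {(q ∘ g) w} := by rw [hOz]; rfl
      exact ⟨this.1, rfl⟩
  · rintro ⟨O, hO, hOz⟩
    obtain ⟨O', hO', hO'z⟩ := hq (g z)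
    refine ⟨O ∩ g ⁻¹' O', hO.inter (hO'.preimage hg), ?_⟩
    ext w
    constructor
    · rintro ⟨⟨hwO, hwO'⟩, hw⟩
      have h1 : g w ∈ O' ∩ q ⁻¹' {q (g z)} := ⟨hwO', hw⟩
      rw [hO'z] at h1
      have h2 : w ∈ O ∩ g ⁻¹' {g z} := ⟨hwO, h1⟩
      rw [hOz] at h2
      exact h2
    · rintro rfl
      have h1 : w ∈ O := by
        have : w ∈ O ∩ g ⁻¹' {g w} := by rw [hOz]; rfl
        exact this.1
      have h2 : g w ∈ O' := by
        have : g w ∈ O' ∩ q ⁻¹' {q (g w)} := by rw [hO'z]; rfl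
        exact this.1
      exact ⟨⟨h1, h2⟩, rfl⟩

/-- A point is isolated in its fibre iff the singleton is open in the fibre (as a subspace). -/
theorem isolatedInFibre_iff_isOpen_subtype {A B : Type*} [TopologicalSpace A] (g : A → B) (a : A) :
    IsolatedInFibre g a ↔ IsOpen ({⟨a, rfl⟩} : Set ↥(g ⁻¹' {g a})) := by
  rw [isOpen_induced_iff]
  constructor
  · rintro ⟨O, hO, hOa⟩
    refine ⟨O, hO, ?_⟩
    ext ⟨w, hw⟩
    simp only [Set.mem_preimage, Set.mem_singleton_iff]
    constructor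
    · intro hwO
      have : w ∈ O ∩ g ⁻¹' {g a} := ⟨hwO, hw⟩
      rw [hOa] at this
      exact Subtype.ext (Set.mem_singleton_iff.1 this)
    · intro h
      have hwa : w = a := congrArg Subtype.val h
      subst hwa
      have : w ∈ O ∩ g ⁻¹' {g w} := by rw [hOa]; rfl
      exact this.1
  · rintro ⟨O, hO, hOa⟩
    refine ⟨O, hO, ?_⟩
    ext w
    constructor
    · rintro ⟨hwO, hw⟩
      have : (⟨w, hw⟩ : ↥(g ⁻¹' {g a})) ∈ Subtype.val ⁻¹' O := hwO
      rw [hOa] at this
      exact congrArg Subtype.val (Set.mem_singleton_iff.1 this)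
    · rintro rfl
      have : (⟨w, rfl⟩ : ↥(g ⁻¹' {g w})) ∈ Subtype.val ⁻¹' O := by rw [hOa]; rfl
      exact ⟨this, rfl⟩

end Top

variable {X Y : Scheme.{u}}

theorem quasiFiniteAt_iff_isolatedInFibre (f : X ⟶ Y) [LocallyOfFiniteType f] (x : ↥X) :
    f.QuasiFiniteAt x ↔ IsolatedInFibre f x := by
  rw [Scheme.Hom.quasiFiniteAt_iff_isOpen_singleton_asFiber, isolatedInFibre_iff_isOpen_subtype,
    ← (f.fiberHomeo (f x)).isOpen_image]
  simp only [Set.image_singleton, Scheme.Hom.asFiber, Homeomorph.apply_symm_apply]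

theorem isolatedInFibre_of_lqf (p : X ⟶ Y) [LocallyQuasiFinite p] (z : ↥X) : IsolatedInFibre p z := by
  rw [isolatedInFibre_iff_isOpen_subtype]
  have hd : _root_.IsDiscrete (p ⁻¹' {p z}) := p.isDiscrete_preimage_singleton (p z)
  have : DiscreteTopology ↥(p ⁻¹' {p z}) := hd.to_subtype
  exact isOpen_discrete _


/-- The quasi-finiteness predicate used in `HasAtMor`, for a morphism locally of finite type, is isolatedness in
the fibre. -/
theorem qfPred_iff {U V : Scheme.{u}} (h : U ⟶ V) [LocallyOfFiniteType h] (u : ↥U) :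
    (∃ W : U.Opens, u ∈ W ∧ LocallyQuasiFinite (W.ι ≫ h) ∧ LocallyOfFiniteType (W.ι ≫ h)) ↔
      IsolatedInFibre h u := by
  constructor
  · rintro ⟨W, huW, hqf, -⟩
    have h1 : IsolatedInFibre (W.ι ≫ h) ⟨u, huW⟩ := isolatedInFibre_of_lqf _ _
    have h2 : (⇑(W.ι ≫ h) : ↥W → ↥V) = ⇑h ∘ ⇑W.ι := by
      funext z; exact Scheme.Hom.comp_apply _ _ _
    rw [h2] at h1
    exact (isolatedInFibre_comp_iff_of_open W.ι W.ι.isOpenEmbedding.isOpenMap W.ι.continuous
      (fun z => isolatedInFibre_of_lqf W.ι z) h ⟨u, huW⟩).1 h1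
  · intro hiso
    have hq : h.QuasiFiniteAt u := (quasiFiniteAt_iff_isolatedInFibre h u).2 hiso
    exact ⟨h.quasiFiniteLocus, hq, inferInstance, inferInstance⟩

variable {S : Scheme.{u}}

/-- The fibre product of two etale charts. -/
theorem exists_fibre_product {X : Sp S} {U V : Over S} (a : (yon S).obj U ⟶ X) (ha : RepWith @Etale a)
    (b : (yon S).obj V ⟶ X) (hb : RepWith @Etale b) :
    ∃ (W : Over S) (p : W ⟶ U) (q : W ⟶ V), IsPullback ((yon S).map p) ((yon S).map q) a b ∧
      Etale p.left ∧ Etale q.left := by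
  have sq : IsPullback ((yon S).map ((yon S).preimage (ha.1.fst b))) ((yon S).map (ha.1.snd b)) a b := by
    rw [(yon S).map_preimage]
    exact ha.1.isPullback b
  exact ⟨ha.1.pullback b, (yon S).preimage (ha.1.fst b), ha.1.snd b, sq, hb.2 a _ _ sq.flip,
    ha.2 b _ _ sq⟩

/-- The dimension of the local ring at a point does not depend on the chart. -/
theorem ringKrullDim_stalk_eq_of_charts {X : Sp S} {U V : Over S} (a : (yon S).obj U ⟶ X)
    (ha : RepWith @Etale a) (b : (yon S).obj V ⟶ X) (hb : RepWith @Etale b) (u : ↥U.left) (v : ↥V.left)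
    (h : Points.ofPt a u = Points.ofPt b v) :
    ringKrullDim ↥(U.left.presheaf.stalk u) = ringKrullDim ↥(V.left.presheaf.stalk v) := by
  obtain ⟨W, p, q, sq, hp, hq⟩ := exists_fibre_product a ha b hb
  obtain ⟨w, hw1, hw2⟩ := Groth.Agent.Lib.AlgSpDecentSpec.exists_point_of_ofPt_eq sq u v h
  rw [← hw1, ← hw2, Groth.Agent.Lib.AlgSpDim91.ringKrullDim_stalk_eq_of_etale p.left w,
    Groth.Agent.Lib.AlgSpDim91.ringKrullDim_stalk_eq_of_etale q.left w]

/-- `HasAt` for the dimension of the local ring can be read on any chart. -/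
theorem hasAt_dim_iff_of_chart {X : Sp S} {U : Over S} (a : (yon S).obj U ⟶ X) (ha : RepWith @Etale a)
    (u : ↥U.left) (d : WithBot ℕ∞) :
    HasAt (fun U u => ringKrullDim ↥(U.presheaf.stalk u) = d) X (Points.ofPt a u) ↔
      ringKrullDim ↥(U.left.presheaf.stalk u) = d := by
  constructor
  · rintro ⟨V, b, v, hb, hv, hd⟩
    rw [ringKrullDim_stalk_eq_of_charts a ha b hb u v hv.symm, hd]
  · intro hd
    exact ⟨U, a, u, ha, rfl, hd⟩

/-- Isolatedness in the fibre does not depend on the chart diagram. -/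
theorem isolatedInFibre_iff_of_diagrams {X Y : Sp S} (f : X ⟶ Y) {U V U' V' : Over S}
    (a : (yon S).obj U ⟶ X) (b : (yon S).obj V ⟶ Y) (h : U ⟶ V) (ha : RepWith @Etale a)
    (hb : RepWith @Etale b) (comm : a ≫ f = (yon S).map h ≫ b)
    (a' : (yon S).obj U' ⟶ X) (b' : (yon S).obj V' ⟶ Y) (h' : U' ⟶ V') (ha' : RepWith @Etale a')
    (hb' : RepWith @Etale b') (comm' : a' ≫ f = (yon S).map h' ≫ b')
    (u : ↥U.left) (u' : ↥U'.left) (huu' : Points.ofPt a u = Points.ofPt a' u') :
    IsolatedInFibre h.left u ↔ IsolatedInFibre h'.left u' := by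
  obtain ⟨U'', p, p', sqU, hp, hp'⟩ := exists_fibre_product a ha a' ha'
  obtain ⟨V'', q, q', sqV, hq, hq'⟩ := exists_fibre_product b hb b' hb'
  obtain ⟨u'', hu1, hu2⟩ := Groth.Agent.Lib.AlgSpDecentSpec.exists_point_of_ofPt_eq sqU u u' huu'
  have hcomp : (yon S).map (p ≫ h) ≫ b = (yon S).map (p' ≫ h') ≫ b' := by
    rw [Functor.map_comp, Functor.map_comp, Category.assoc, Category.assoc, ← comm, ← comm',
      ← Category.assoc, ← Category.assoc, sqU.w]
  let h'' : U'' ⟶ V'' := (yon S).preimage (sqV.lift _ _ hcomp)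
  have e1 : h'' ≫ q = p ≫ h := (yon S).map_injective (by
    rw [Functor.map_comp, (yon S).map_preimage]; exact sqV.lift_fst _ _ _)
  have e2 : h'' ≫ q' = p' ≫ h' := (yon S).map_injective (by
    rw [Functor.map_comp, (yon S).map_preimage]; exact sqV.lift_snd _ _ _)
  have f1 : (⇑h.left ∘ ⇑p.left : ↥U''.left → ↥V.left) = ⇑q.left ∘ ⇑h''.left := by
    funext z
    have := congrArg (fun k => (k.left : U''.left ⟶ V.left) z) e1
    simpa using this.symm
  have f2 : (⇑h'.left ∘ ⇑p'.left : ↥U''.left → ↥V'.left) = ⇑q'.left ∘ ⇑h''.left := by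
    funext z
    have := congrArg (fun k => (k.left : U''.left ⟶ V'.left) z) e2
    simpa using this.symm
  have lp : LocallyQuasiFinite p.left := locallyQuasiFinite_of_etale _
  have lp' : LocallyQuasiFinite p'.left := locallyQuasiFinite_of_etale _
  have lq : LocallyQuasiFinite q.left := locallyQuasiFinite_of_etale _
  have lq' : LocallyQuasiFinite q'.left := locallyQuasiFinite_of_etale _
  rw [← hu1, ← hu2]
  rw [← isolatedInFibre_comp_iff_of_open p.left p.left.isOpenMap p.left.continuous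
      (fun z => isolatedInFibre_of_lqf p.left z) h.left u'',
    ← isolatedInFibre_comp_iff_of_open p'.left p'.left.isOpenMap p'.left.continuous
      (fun z => isolatedInFibre_of_lqf p'.left z) h'.left u'', f1, f2,
    isolatedInFibre_comp_iff_of_discrete q.left (fun z => isolatedInFibre_of_lqf q.left z) h''.left
      h''.left.continuous u'',
    isolatedInFibre_comp_iff_of_discrete q'.left (fun z => isolatedInFibre_of_lqf q'.left z) h''.left
      h''.left.continuous u'']

/-- Quasi-finiteness at a point of a morphism locally of finite type can be read on any chart diagram. -/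
theorem hasAtMor_qf_iff_of_diagram {X Y : Sp S} (f : X ⟶ Y) (hf : LocP @LocallyOfFiniteType f)
    {U V : Over S} (a : (yon S).obj U ⟶ X) (b : (yon S).obj V ⟶ Y) (h : U ⟶ V) (ha : RepWith @Etale a)
    (hb : RepWith @Etale b) (comm : a ≫ f = (yon S).map h ≫ b) (u : ↥U.left) :
    HasAtMor (fun U _ h u => ∃ W : U.Opens, u ∈ W ∧ LocallyQuasiFinite (W.ι ≫ h) ∧
        LocallyOfFiniteType (W.ι ≫ h)) f (Points.ofPt a u) ↔ IsolatedInFibre h.left u := by
  have : LocallyOfFiniteType h.left := hf a b h ha hb comm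
  constructor
  · rintro ⟨U', V', a', b', h', u', ha', hb', comm', hu', hQ⟩
    have : LocallyOfFiniteType h'.left := hf a' b' h' ha' hb' comm'
    exact (isolatedInFibre_iff_of_diagrams f a b h ha hb comm a' b' h' ha' hb' comm' u u' hu'.symm).2
      ((qfPred_iff h'.left u').1 hQ)
  · intro hiso
    exact ⟨U, V, a, b, h, u, ha, hb, comm, rfl, (qfPred_iff h.left u).2 hiso⟩

/-- A chart diagram through a point of `X` and a given chart of `Y` at its image. -/
theorem exists_diagram {X Y : AlgSp.Space S} (f : X ⟶ Y) (x : Points X.obj) {V : Over S}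
    (b : (yon S).obj V ⟶ Y.obj) (hb : RepWith @Etale b) (v : ↥V.left)
    (hv : Points.ofPt b v = Points.map f.hom x) :
    ∃ (U : Over S) (a : (yon S).obj U ⟶ X.obj) (h : U ⟶ V) (u : ↥U.left), RepWith @Etale a ∧
      a ≫ f.hom = (yon S).map h ≫ b ∧ Points.ofPt a u = x ∧ h.left u = v := by
  obtain ⟨U₀, a₀, u₀, ha₀, rfl⟩ := Groth.Agent.Lib.AlgSpGenericPt.exists_chart X x
  obtain ⟨W, s, t, w, -, hsa, hcomm, hw1, hw2⟩ :=
    Groth.Agent.Lib.AlgSpDim91.exists_chart_through_points f.hom a₀ ha₀ b hb u₀ v hv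
  refine ⟨W, (yon S).map s ≫ a₀, t, w, hsa, hcomm, ?_, hw2⟩
  rw [ofPt_yon_map_comp, hw1]

end Groth.Agent.Lib.AlgSpQFAt

namespace Groth.Agent.Lib.AlgSpQFAt

open CategoryTheory CategoryTheory.Limits AlgebraicGeometry Topology TopologicalSpace Opposite
open AlgSp Groth.Agent.Lib.AlgSpBasic Groth.Agent.Lib.AlgSpPoints

/-- A locally Noetherian scheme without nontrivial specializations is discrete. -/
theorem discreteTopology_of_forall_specializes_eq (F : Scheme.{u}) [IsLocallyNoetherian F]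
    (h : ∀ z z' : ↥F, z' ⤳ z → z' = z) : DiscreteTopology ↥F := by
  have h0 : topologicalKrullDim ↥F ≤ 0 := by
    rw [Groth.Agent.Lib.SpecDim.topologicalKrullDim_eq_krullDim,
      Order.krullDim_nonpos_iff_forall_isMax]
    intro z z' hz
    have : z' = z := h z z' hz
    rw [this]
  have := IsLocallyArtinian.of_topologicalKrullDim_le_zero h0
  infer_instance

/-- If no point of the fibre of `h` through `u` has a proper generization in the fibre, then `u` is isolated in
its fibre (`h` locally of finite type). -/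
theorem isolatedInFibre_of_forall_specializes_eq {U V : Scheme.{u}} (h : U ⟶ V)
    [LocallyOfFiniteType h] (u : ↥U)
    (hsp : ∀ w w' : ↥U, h w = h u → h w' = h u → w' ⤳ w → w' = w) : IsolatedInFibre h u := by
  rw [← quasiFiniteAt_iff_isolatedInFibre, Scheme.Hom.quasiFiniteAt_iff_isOpen_singleton_asFiber]
  have hft : LocallyOfFiniteType (h.fiberToSpecResidueField (h u)) :=
    show LocallyOfFiniteType (pullback.snd _ _) from inferInstance
  have hLN : IsLocallyNoetherian (h.fiber (h u)) :=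
    LocallyOfFiniteType.isLocallyNoetherian (h.fiberToSpecResidueField (h u))
  have hd : DiscreteTopology ↥(h.fiber (h u)) := by
    refine discreteTopology_of_forall_specializes_eq _ fun z z' hzz' => ?_
    have h1 : (h.fiberHomeo (h u) z').1 ⤳ (h.fiberHomeo (h u) z).1 :=
      (subtype_specializes_iff _ _).1 (hzz'.map (h.fiberHomeo (h u)).continuous)
    have h2 := hsp _ _ (h.fiberHomeo (h u) z).2 (h.fiberHomeo (h u) z').2 h1
    exact (h.fiberHomeo (h u)).injective (Subtype.ext h2)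
  exact isOpen_discrete _

/-- If `η` is isolated in its fibre and specializes to a point `u` of the same fibre, then `u = η`. -/
theorem eq_of_isolatedInFibre_of_specializes {U V : Scheme.{u}} (h : U ⟶ V) [LocallyOfFiniteType h]
    (η u : ↥U) (hiso : IsolatedInFibre h η) (hu : h u = h η) (hs : η ⤳ u) : u = η := by
  have hq : h.QuasiFiniteAt η := (quasiFiniteAt_iff_isolatedInFibre h η).2 hiso
  have hcl : IsClosed ({h.asFiber η} : Set ↥(h.fiber (h η))) := hq.isClopen_singleton_asFiber.1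
  let zu : ↥(h.fiber (h η)) := (h.fiberHomeo (h η)).symm ⟨u, hu⟩
  have h1 : h.asFiber η ⤳ zu := by
    change (h.fiberHomeo (h η)).symm ⟨η, rfl⟩ ⤳ (h.fiberHomeo (h η)).symm ⟨u, hu⟩
    rw [(h.fiberHomeo (h η)).symm.isInducing.specializes_iff, subtype_specializes_iff]
    exact hs
  have h2 : zu ∈ ({h.asFiber η} : Set ↥(h.fiber (h η))) := h1.mem_closed hcl rfl
  have h3 : zu = h.asFiber η := h2
  have h4 := congrArg (fun z => (h.fiberHomeo (h η) z).1) h3
  simpa [zu, Scheme.Hom.asFiber] using h4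

end Groth.Agent.Lib.AlgSpQFAt
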