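import Groth.Agent.Lib.H86ZarLocBase
import Groth.Agent.Lib.AlgSpPoints
import Groth.Agent.Lib.AlgSpLocP

/-!
# helper86: dictionary between the Prelude's properties of morphisms of sheaves and `RepWith`, for
representable morphisms

* `isUnivClosedMor_iff_repWith`: for representable `f`, `IsUnivClosedMor f ↔ RepWith @UniversallyClosed f`.
* `isIntegralMor_iff_affine_univClosed`, `isFiniteMor_iff_integral_lft` in `RepWith` form.
-/

set_option autoImplicit false
set_option linter.style.haveILetI false
universe u
open CategoryTheory CategoryTheory.Limits AlgebraicGeometry Opposite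

namespace Groth.Agent.Lib.H86ZarGlue

open AlgSp

variable {S : Scheme.{u}} {X Y : Sp S}

/-- For a representable morphism, universal closedness on points of all base changes to algebraic
spaces is `RepWith @UniversallyClosed`. -/
theorem isUnivClosedMor_iff_repWith (f : X ⟶ Y) (hf : Representable f) :
    IsUnivClosedMor f ↔ RepWith @UniversallyClosed f := by
  constructor
  · intro h
    have h1 := AlgSpPoints.repWith_universally_of_univSp (Q := IsClosedMor)
      (Qs := AlgebraicGeometry.topologically @IsClosedMap)
      (fun T T' φ hφ => (AlgSpPoints.isClosedMap_map_yon_map_iff φ).1 hφ) hf h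
    rwa [← universallyClosed_eq] at h1
  · intro h
    refine AlgSpPoints.univSp_of_repWith (Q := IsClosedMor) (P := @UniversallyClosed) ?_ h
    intro F G g hg
    refine AlgSpPoints.isClosedMap_map_of_representable hg.1 fun T t => ?_
    have : UniversallyClosed (hg.1.snd t).left := hg.2 t _ _ (hg.1.isPullback t)
    exact (hg.1.snd t).left.isClosedMap

/-- Integral = affine + universally closed, in `RepWith` form. -/
theorem repWith_isIntegralHom_iff (f : X ⟶ Y) :
    RepWith @IsIntegralHom f ↔ RepWith @IsAffineHom f ∧ RepWith @UniversallyClosed f := by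
  rw [IsIntegralHom.eq_universallyClosed_inf_isAffineHom]
  exact (AlgSpBasic.repWith_inf_iff _ _ f).trans and_comm

/-- Finite = integral + locally of finite type, in `RepWith` form. -/
theorem repWith_isFinite_iff (f : X ⟶ Y) :
    RepWith @IsFinite f ↔ RepWith @IsIntegralHom f ∧ RepWith @LocallyOfFiniteType f := by
  rw [IsFinite.eq_inf]
  exact AlgSpBasic.repWith_inf_iff _ _ f

section Descends

set_option backward.isDefEq.respectTransparency false in
theorem descendsAlong_etCov_lft :
    MorphismProperty.DescendsAlong (@LocallyOfFiniteType.{u}) AlgSpBasic.etCov := inferInstance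

set_option backward.isDefEq.respectTransparency false in
theorem descendsAlong_etCov_lfp :
    MorphismProperty.DescendsAlong (@LocallyOfFinitePresentation.{u}) AlgSpBasic.etCov := inferInstance

set_option backward.isDefEq.respectTransparency false in
theorem descendsAlong_etCov_flat :
    MorphismProperty.DescendsAlong (@Flat.{u}) AlgSpBasic.etCov := inferInstance

/-- For a representable morphism of algebraic spaces, `LocP` locally of finite type is `RepWith`. -/
theorem locP_lft_iff_repWith (hX : IsAlgSpace X) (hY : IsAlgSpace Y) {f : X ⟶ Y} (hf : Representable f) :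
    LocP @LocallyOfFiniteType f ↔ RepWith @LocallyOfFiniteType f :=
  have := descendsAlong_etCov_lft.{u}
  AlgSpLocP.locP_iff_repWith AlgSpLocP.etLocalClass_lft hX hY hf

/-- For a representable morphism of algebraic spaces, `LocP` locally of finite presentation is `RepWith`. -/
theorem locP_lfp_iff_repWith (hX : IsAlgSpace X) (hY : IsAlgSpace Y) {f : X ⟶ Y} (hf : Representable f) :
    LocP @LocallyOfFinitePresentation f ↔ RepWith @LocallyOfFinitePresentation f :=
  have := descendsAlong_etCov_lfp.{u}
  AlgSpLocP.locP_iff_repWith AlgSpLocP.etLocalClass_lfp hX hY hf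

/-- For a representable morphism of algebraic spaces, `LocP` flat is `RepWith`. -/
theorem locP_flat_iff_repWith (hX : IsAlgSpace X) (hY : IsAlgSpace Y) {f : X ⟶ Y} (hf : Representable f) :
    LocP @Flat f ↔ RepWith @Flat f :=
  have := descendsAlong_etCov_flat.{u}
  AlgSpLocP.locP_iff_repWith AlgSpLocP.etLocalClass_flat hX hY hf

end Descends

end Groth.Agent.Lib.H86ZarGlue
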