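import Groth.Agent.Lib.AlgSpFieldRel91
import Groth.Agent.Lib.AlgSpDiscFib91
import Groth.Agent.Lib.AlgSpQFAt
import Groth.Agent.Lib.H80DecentPt
import Groth.Agent.Lib.H86AffineMor

/-!
# Fibres of a morphism locally of finite type over a field point
-/

set_option autoImplicit false
set_option maxHeartbeats 400000
universe u
open CategoryTheory CategoryTheory.Limits AlgebraicGeometry Topology TopologicalSpace

namespace Groth.Agent.Lib.AlgSpFibreRel91

open AlgSp Groth.Agent.Lib.AlgSpPoints Groth.Agent.Lib.AlgSpLocP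

variable {S : Scheme.{u}} {X Y : AlgSp.Space S} (f : X ⟶ Y) (hf : LocP @LocallyOfFiniteType f.hom)
  (r : FieldPt Y.obj) {Xk : Sp S} (hXk : IsAlgSpace Xk) (fst : Xk ⟶ X.obj)
  (snd : Xk ⟶ (yon S).obj r.pt) (hsq : IsPullback fst snd f.hom r.toHom)

include hf hsq in
theorem locP_snd : LocP @LocallyOfFiniteType snd := by
  have := Groth.Agent.Lib.H86ZarGlue.descendsAlong_etCov_lft.{u}
  exact locP_of_isPullback etLocalClass_lft X.property Y.property (IsAlgSpace.yon_obj _) hsq hf

include hsq in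
theorem map_f_map_fst (xt : Points Xk) : Points.map f.hom (Points.map fst xt) = Points.mk r := by
  rw [← Points.map_comp, hsq.w, Points.map_comp, Groth.Agent.Lib.AlgSpDiscFib91.map_toHom_eq]

include hsq in
theorem exists_point_over (x : Points X.obj) (hx : Points.map f.hom x = Points.mk r) :
    ∃ xt : Points Xk, Points.map fst xt = x := by
  obtain ⟨xt, h1, -⟩ := Groth.Agent.Lib.H86AlgSpPoints.exists_of_isPullback hsq x
    (Points.ofPt (𝟙 _) (IsLocalRing.closedPoint r.K))
    (by rw [Groth.Agent.Lib.AlgSpDiscFib91.map_toHom_eq, hx])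
  exact ⟨xt, h1⟩

include hf hXk hsq in
/-- A point of the fibre is isolated iff the morphism is quasi-finite at its image. -/
theorem isOpen_singleton_iff_hasAtMor (xt : Points Xk) :
    IsOpen ({xt} : Set (Points Xk)) ↔
      HasAtMor (fun U _ h u => ∃ W : U.Opens, u ∈ W ∧ LocallyQuasiFinite (W.ι ≫ h) ∧
        LocallyOfFiniteType (W.ι ≫ h)) f.hom (Points.map fst xt) := by
  have hsnd := locP_snd f hf r fst snd hsq
  have hK : IsAlgSpace ((yon S).obj r.pt) := IsAlgSpace.yon_obj _
  obtain ⟨U, V, a, b, h, u, ha, hb, hc, hu⟩ :=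
    Groth.Agent.Lib.AlgSpQFAt91.exists_chart_diagram X.property Y.property f.hom (Points.map fst xt)
  obtain ⟨W, q, hqe, hqs⟩ := hXk.atlas
  obtain ⟨w₀, hw₀⟩ := Groth.Agent.Lib.H86AlgSpPoints.ofPt_surjective hqs xt
  obtain ⟨t, ht⟩ := (yon S).map_surjective (q ≫ snd)
  have hidE : RepWith @Etale (𝟙 ((yon S).obj r.pt)) := Groth.Agent.Lib.AlgSpQC.repWith_id @Etale _
  haveI : Subsingleton ↥r.pt.left := (inferInstance : Subsingleton (PrimeSpectrum r.K))
  haveI : LocallyOfFiniteType h.left := hf a b h ha hb hc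
  have e1 : FlatMor.fibreDimAt h.left u = FlatMor.localDim ↥W.left w₀ := by
    rw [Groth.Agent.Lib.H86FibDimBC.fibreDimAt_eq_of_baseChange_charts X.property Y.property hXk hK hsq hf
      a b h ha hb hc u q (𝟙 _) t hqe hidE (by rw [ht, Category.comp_id]) w₀ (by rw [hu, hw₀]),
      Groth.Agent.Lib.H86FibDimBC.fibreDimAt_eq_localDim_of_subsingleton t.left w₀]
  rw [← hu, Groth.Agent.Lib.AlgSpQFAt.hasAtMor_qf_iff_of_diagram f.hom hf a b h ha hb hc u,
    ← Groth.Agent.Lib.AlgSpQFAt.quasiFiniteAt_iff_isolatedInFibre,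
    ← Groth.Agent.Lib.QFAt91.fibreDimAt_eq_zero_iff, e1, ← hw₀]
  exact Groth.Agent.Lib.AlgSpFieldRel91.isOpen_singleton_iff_localDim_chart snd hsnd q hqe w₀

include hf hXk hsq in
/-- The fibre is discrete iff the morphism is quasi-finite at all points over the field point. -/
theorem discreteTopology_iff_forall_hasAtMor :
    DiscreteTopology (Points Xk) ↔
      ∀ x : Points X.obj, Points.map f.hom x = Points.mk r →
        HasAtMor (fun U _ h u => ∃ W : U.Opens, u ∈ W ∧ LocallyQuasiFinite (W.ι ≫ h) ∧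
          LocallyOfFiniteType (W.ι ≫ h)) f.hom x := by
  constructor
  · intro hd x hx
    obtain ⟨xt, rfl⟩ := exists_point_over f r fst snd hsq x hx
    exact (isOpen_singleton_iff_hasAtMor f hf r hXk fst snd hsq xt).1 (isOpen_discrete _)
  · intro h
    refine discreteTopology_iff_isOpen_singleton.2 fun xt => ?_
    exact (isOpen_singleton_iff_hasAtMor f hf r hXk fst snd hsq xt).2
      (h _ (map_f_map_fst f r fst snd hsq xt))

include hsq in
theorem nonempty_points (hy : Points.mk r ∈ Set.range (Points.map f.hom)) : Nonempty (Points Xk) := by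
  obtain ⟨x, hx⟩ := hy
  obtain ⟨xt, -⟩ := exists_point_over f r fst snd hsq x hx
  exact ⟨xt⟩

/-- For decent `Y`: the fibre `|f|⁻¹(y)` is homeomorphic to the space of points of the fibre of `f` over the
residue-field point of `y`. -/
theorem exists_fibre_homeomorph (hdY : IsDecent Y.obj) :
    ∃ (r₀ : FieldPt Y.obj) (P : Sp S) (fstκ : P ⟶ X.obj) (sndκ : P ⟶ (yon S).obj r₀.pt)
      (e : Points P ≃ₜ ↥(Points.map f.hom ⁻¹' {Points.mk r})),
      Points.mk r₀ = Points.mk r ∧ IsAlgSpace P ∧ IsPullback fstκ sndκ f.hom r₀.toHom ∧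
        (IsDecent X.obj → IsDecent P) ∧
        ∀ z, ((e z : ↥(Points.map f.hom ⁻¹' {Points.mk r})) : Points X.obj) = Points.map fstκ z := by
  obtain ⟨r₀, hr₀, hm, hq⟩ := hdY (Points.mk r)
  have sq := IsPullback.of_hasPullback f.hom r₀.toHom
  have hK : IsAlgSpace ((yon S).obj r₀.pt) := IsAlgSpace.yon_obj _
  have hP : IsAlgSpace (pullback f.hom r₀.toHom) :=
    Groth.Agent.Lib.AlgSpFibre.isAlgSpace_of_isPullback Y.property.diag X.property hK sq
  obtain ⟨hemb, hrange⟩ := Groth.Agent.Lib.AlgSpFibreEmb46.isEmbedding_fibre f r₀ hm hq _ _ _ sq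
  refine ⟨r₀, _, _, _, hemb.toHomeomorph.trans (Homeomorph.setCongr (hrange.trans (by rw [hr₀]))),
    hr₀, hP, sq, fun hdX => ?_, fun z => rfl⟩
  exact Groth.Agent.Lib.H80DecentPt.isDecent_of_isPullback_of_isDecent
    (fun U g => Y.property.representable_from_yon g) f.hom hdX r₀.toHom _ _ sq

section Top

variable {A B : Type*} [TopologicalSpace A] [TopologicalSpace B] (e : A ≃ₜ B) (z : A)

theorem isOpen_singleton_homeomorph_iff : IsOpen ({e z} : Set B) ↔ IsOpen ({z} : Set A) := by
  rw [← Set.image_singleton, e.isOpen_image]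

theorem isClosed_singleton_homeomorph_iff : IsClosed ({e z} : Set B) ↔ IsClosed ({z} : Set A) := by
  rw [← Set.image_singleton, e.isClosed_image]

theorem forall_specializes_homeomorph_iff :
    (∀ w' : B, w' ⤳ e z → w' = e z) ↔ (∀ z' : A, z' ⤳ z → z' = z) := by
  constructor
  · intro h z' hz'
    exact e.injective (h (e z') (e.isInducing.specializes_iff.2 hz'))
  · intro h w' hw'
    obtain ⟨z', rfl⟩ := e.surjective w'
    rw [h z' (e.isInducing.specializes_iff.1 hw')]

theorem isClosed_and_homeomorph_iff :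
    (IsClosed ({e z} : Set B) ∧ ∀ w' : B, w' ⤳ e z → w' = e z) ↔
      (IsClosed ({z} : Set A) ∧ ∀ z' : A, z' ⤳ z → z' = z) := by
  rw [isClosed_singleton_homeomorph_iff, forall_specializes_homeomorph_iff]

include e in
theorem discreteTopology_homeomorph_iff : DiscreteTopology B ↔ DiscreteTopology A :=
  e.discreteTopology_iff.symm

end Top

end Groth.Agent.Lib.AlgSpFibreRel91
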