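import Groth.Agent.Lib.SchFieldIso91
import Groth.Agent.Lib.AlgSpTrdeg91
import Groth.Agent.Lib.AlgSpDecentSpec
import Groth.Agent.S10338

set_option autoImplicit false
universe u
open CategoryTheory CategoryTheory.Limits AlgebraicGeometry Topology TopologicalSpace

namespace Groth.Agent.Lib.AlgSpFieldDim91

open AlgSp Groth.Agent.Lib.AlgSpPoints Groth.Agent.Lib.AlgSpDecentSpec Groth.Agent.Lib.SchFieldIso91
  Groth.Agent.Lib.AlgSpTrdeg91

variable {k : Type u} [Field k]

/-- The structure morphism of a scheme over `Spec k` as a morphism to the terminal object. -/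
noncomputable def toPt (U : Over (Spec (CommRingCat.of k))) :
    U ⟶ Over.mk (𝟙 (Spec (CommRingCat.of k))) := Over.homMk U.hom (by simp)

theorem comm_toPt {X : Sp (Spec (CommRingCat.of k))}
    (p : X ⟶ (yon (Spec (CommRingCat.of k))).obj (Over.mk (𝟙 _)))
    {U : Over (Spec (CommRingCat.of k))} (a : (yon _).obj U ⟶ X) :
    a ≫ p = (yon _).map (toPt U) ≫ 𝟙 _ := by
  rw [Category.comp_id]
  obtain ⟨g, hg⟩ := (yon (Spec (CommRingCat.of k))).map_surjective (a ≫ p)
  rw [← hg]
  congr 1
  exact Over.mkIdTerminal.hom_ext _ _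

variable {X : Sp (Spec (CommRingCat.of k))}
  (p : X ⟶ (yon (Spec (CommRingCat.of k))).obj (Over.mk (𝟙 _)))
  (hp : LocP @LocallyOfFiniteType p)

include hp in
theorem lft_chart {U : Over (Spec (CommRingCat.of k))} (a : (yon _).obj U ⟶ X)
    (ha : RepWith @Etale a) : LocallyOfFiniteType U.hom :=
  hp a (𝟙 _) (toPt U) ha (repWith_id @Etale _) (comm_toPt p a)

include hp in
/-- Fibre rigidity: no nontrivial specializations in the fibres of an étale chart. -/
theorem eq_of_specializes_of_ofPt_eq {U : Over (Spec (CommRingCat.of k))} (a : (yon _).obj U ⟶ X)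
    (ha : RepWith @Etale a) (u' u : ↥U.left) (hs : u' ⤳ u)
    (he : Points.ofPt a u' = Points.ofPt a u) : u' = u := by
  have hl := lft_chart p hp a ha
  have hid : RepWith @Etale (𝟙 ((yon (Spec (CommRingCat.of k))).obj (Over.mk (𝟙 _)))) :=
    repWith_id @Etale _
  have := resTrdeg_chart_indep p a (𝟙 _) (toPt U) a (𝟙 _) (toPt U) ha hid ha hid (comm_toPt p a)
    (comm_toPt p a) u' u he
  exact eq_of_specializes_of_resTrdeg_eq k U.left U.hom u' u hs this

include hp in
theorem isLocallyNoetherian_chart {U : Over (Spec (CommRingCat.of k))} (a : (yon _).obj U ⟶ X)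
    (ha : RepWith @Etale a) : IsLocallyNoetherian U.left := by
  have hl := lft_chart p hp a ha
  exact LocallyOfFiniteType.isLocallyNoetherian U.hom

include hp in
/-- Core: a point of a chart over a point `x` which is closed and has no proper generization in an open
neighbourhood is isolated in the chart. -/
theorem isOpen_singleton_chart {U : Over (Spec (CommRingCat.of k))} (a : (yon _).obj U ⟶ X)
    (ha : RepWith @Etale a) (u : ↥U.left) (W : Set (Points X)) (hW : IsOpen W)
    (huW : Points.ofPt a u ∈ W)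
    (h1 : ∀ y ∈ W, y ⤳ Points.ofPt a u → y = Points.ofPt a u)
    (h2 : ∀ y ∈ W, Points.ofPt a u ⤳ y → y = Points.ofPt a u) : IsOpen ({u} : Set ↥U.left) := by
  have hN := isLocallyNoetherian_chart p hp a ha
  have hcont := Points.continuous_ofPt a
  refine isOpen_singleton_of_isolated U.left u (Points.ofPt a ⁻¹' W) (hW.preimage hcont) huW ?_ ?_
  · intro u' hu'
    have hs := hu'.map hcont
    exact eq_of_specializes_of_ofPt_eq p hp a ha u' u hu' (h1 _ (hs.mem_open hW huW) hs)
  · intro u'' hu''W hu''
    have hs := hu''.map hcont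
    exact (eq_of_specializes_of_ofPt_eq p hp a ha u u'' hu'' (h2 _ hu''W hs).symm).symm


include hp in
/-- If `{x}` is open, every point of a chart over `x` is isolated. -/
theorem isOpen_singleton_chart_of_isOpen {U : Over (Spec (CommRingCat.of k))} (a : (yon _).obj U ⟶ X)
    (ha : RepWith @Etale a) (u : ↥U.left) (hx : IsOpen ({Points.ofPt a u} : Set (Points X))) :
    IsOpen ({u} : Set ↥U.left) :=
  isOpen_singleton_chart p hp a ha u _ hx rfl (fun _ hy _ => hy) (fun _ hy _ => hy)

include hp in
/-- Part (2) ⇔ (3). -/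
theorem isOpen_singleton_iff_isClosed_and (hX : IsAlgSpace X) (x : Points X) :
    IsOpen ({x} : Set (Points X)) ↔
      (IsClosed ({x} : Set (Points X)) ∧ ∀ x' : Points X, x' ⤳ x → x' = x) := by
  obtain ⟨U, a, ha, has⟩ := hX.atlas
  have hopen := Groth.Agent.Lib.H86AlgSpPoints.isOpenMap_ofPt ha
  have hcont := Points.continuous_ofPt a
  have hsurj := Groth.Agent.Lib.H86AlgSpPoints.ofPt_surjective has
  have hl := lft_chart p hp a ha
  have hN := isLocallyNoetherian_chart p hp a ha
  constructor
  · intro hx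
    refine ⟨?_, fun x' hx' => hx'.mem_open hx rfl⟩
    rw [← isOpen_compl_iff, ← (hopen.isQuotientMap hcont hsurj).isOpen_preimage,
      isOpen_iff_forall_mem_open]
    intro w hw
    set G : Set ↥U.left := Points.ofPt a ⁻¹' {x} with hG
    have hGo : IsOpen G := hx.preimage hcont
    -- points of `G` are open and closed in `U`
    have hGopen : ∀ g ∈ G, IsOpen ({g} : Set ↥U.left) := fun g hg =>
      isOpen_singleton_chart_of_isOpen p hp a ha g (by rw [show Points.ofPt a g = x from hg]; exact hx)
    have hGclosed : ∀ g ∈ G, IsClosed ({g} : Set ↥U.left) := by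
      intro g hg
      let _ : U.left.Over (Spec (CommRingCat.of k)) := ⟨U.hom⟩
      have : LocallyOfFiniteType (U.left ↘ Spec (CommRingCat.of k)) := hl
      obtain ⟨c, hcG, hgc, hc⟩ := Groth.Agent.Lib.H30DimField.exists_closed_point k U.left g G hGo hg
      have : g = c := eq_of_specializes_of_ofPt_eq p hp a ha g c hgc
        (by rw [show Points.ofPt a g = x from hg, show Points.ofPt a c = x from hcG])
      rw [this]; exact hc
    obtain ⟨_, ⟨W', hW', rfl⟩, hwW', -⟩ :=
      (U.left.isBasis_affineOpens).exists_subset_of_mem_open (Set.mem_univ w) isOpen_univ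
    have hNR : IsNoetherianRing Γ(U.left, W') := IsLocallyNoetherian.component_noetherian ⟨W', hW'⟩
    have hNS : NoetherianSpace ↥W' := noetherianSpace_of_isAffineOpen W' hW'
    have hAc : IsCompact (G ∩ (W' : Set ↥U.left)) := by
      have h1 : IsCompact ((Subtype.val : ↥W' → ↥U.left) ⁻¹' G) := NoetherianSpace.isCompact _
      have h2 := h1.image continuous_subtype_val
      have h3 : (Subtype.val : ↥W' → ↥U.left) '' ((Subtype.val : ↥W' → ↥U.left) ⁻¹' G) =
          G ∩ (W' : Set ↥U.left) := by
        ext v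
        constructor
        · rintro ⟨⟨v, hv⟩, hvG, rfl⟩
          exact ⟨hvG, hv⟩
        · rintro ⟨hvG, hv⟩
          exact ⟨⟨v, hv⟩, hvG, rfl⟩
      rwa [h3] at h2
    have hAd : DiscreteTopology ↥(G ∩ (W' : Set ↥U.left)) := by
      rw [discreteTopology_iff_isOpen_singleton]
      rintro ⟨g, hg⟩
      have := (hGopen g hg.1).preimage (continuous_subtype_val (p := (· ∈ G ∩ (W' : Set ↥U.left))))
      convert this using 1
      ext ⟨g', hg'⟩; simp [Subtype.ext_iff]
    have hAf : (G ∩ (W' : Set ↥U.left)).Finite := hAc.finite ⟨hAd⟩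
    have hAcl : IsClosed (G ∩ (W' : Set ↥U.left)) := by
      rw [← Set.biUnion_of_singleton (G ∩ (W' : Set ↥U.left))]
      exact hAf.isClosed_biUnion (fun g hg => hGclosed g hg.1)
    refine ⟨(W' : Set ↥U.left) ∩ (G ∩ (W' : Set ↥U.left))ᶜ, ?_, W'.isOpen.inter hAcl.isOpen_compl,
      ⟨hwW', fun h => hw h.1⟩⟩
    rintro v ⟨hvW', hvn⟩ hvG
    exact hvn ⟨hvG, hvW'⟩
  · rintro ⟨hcl, hgen⟩
    obtain ⟨u, rfl⟩ := hsurj x
    have := isOpen_singleton_chart p hp a ha u Set.univ isOpen_univ trivial (fun y _ hy => hgen y hy)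
      (fun y _ hy => by
        have : y ∈ closure ({Points.ofPt a u} : Set (Points X)) := hy.mem_closure
        rw [hcl.closure_eq] at this
        exact this)
    have h2 := hopen _ this
    rwa [Set.image_singleton] at h2

include hp in
/-- Part (3) ⇔ (4). -/
theorem isOpen_singleton_iff_hasAt (hX : IsAlgSpace X) (x : Points X) :
    IsOpen ({x} : Set (Points X)) ↔ HasAt (fun U u => FlatMor.localDim ↥U u = 0) X x := by
  constructor
  · intro hx
    obtain ⟨U, a, ha, has⟩ := hX.atlas
    obtain ⟨u, rfl⟩ := Groth.Agent.Lib.H86AlgSpPoints.ofPt_surjective has x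
    have hN := isLocallyNoetherian_chart p hp a ha
    exact ⟨U, a, u, ha, rfl, (isOpen_singleton_iff_localDim_eq_zero U.left u).1
      (isOpen_singleton_chart_of_isOpen p hp a ha u hx)⟩
  · rintro ⟨U, a, u, ha, rfl, hu⟩
    have hN := isLocallyNoetherian_chart p hp a ha
    have h1 := (isOpen_singleton_iff_localDim_eq_zero U.left u).2 hu
    have h2 := Groth.Agent.Lib.H86AlgSpPoints.isOpenMap_ofPt ha _ h1
    rwa [Set.image_singleton] at h2

/-- In a `T0` space of dimension `≤ 0` all specializations are trivial. -/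
theorem eq_of_specializes_of_dim_le_zero {T : Type*} [TopologicalSpace T] [T0Space T]
    (h : topologicalKrullDim T ≤ 0) {w w' : T} (hs : w ⤳ w') : w = w' := by
  unfold topologicalKrullDim at h
  rw [Order.krullDim_nonpos_iff_forall_isMin] at h
  let Z : IrreducibleCloseds T := ⟨closure {w}, isIrreducible_singleton.closure, isClosed_closure⟩
  let Z' : IrreducibleCloseds T := ⟨closure {w'}, isIrreducible_singleton.closure, isClosed_closure⟩
  have hle : Z' ≤ Z := by
    show closure {w'} ⊆ closure {w}
    exact closure_minimal (Set.singleton_subset_iff.2 hs.mem_closure) isClosed_closure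
  have hge : Z ≤ Z' := h Z hle
  have : w ∈ closure ({w'} : Set T) := hge (subset_closure rfl)
  exact ((specializes_iff_mem_closure.2 this).antisymm hs).eq.symm

/-- If `{t}` is open then the local dimension at `t` is zero. -/
theorem localDim_eq_zero_of_isOpen_singleton {T : Type*} [TopologicalSpace T] (t : T)
    (h : IsOpen ({t} : Set T)) : FlatMor.localDim T t = 0 := by
  apply le_antisymm _ (Groth.Agent.Lib.TopKrullDim.localDim_nonneg t)
  refine (Groth.Agent.Lib.TopKrullDim.localDim_le_dim_open t ⟨{t}, h⟩ rfl).trans ?_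
  have : DiscreteTopology (({t} : Set T)) := inferInstance
  exact topologicalKrullDim_zero_of_discreteTopology _

include hp in
/-- Part (1) ⇔ (3) for decent spaces (only `T0` is used). -/
theorem localDim_points_eq_zero_iff (hX : IsAlgSpace X) [T0Space (Points X)] (x : Points X) :
    FlatMor.localDim (Points X) x = 0 ↔ IsOpen ({x} : Set (Points X)) := by
  constructor
  · intro h
    obtain ⟨W, hxW, hW⟩ := Groth.Agent.Lib.TopKrullDim.exists_open_dim_eq_localDim x
    rw [h] at hW
    obtain ⟨U, a, ha, has⟩ := hX.atlas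
    obtain ⟨u, rfl⟩ := Groth.Agent.Lib.H86AlgSpPoints.ofPt_surjective has x
    have key : ∀ y y' : Points X, y ∈ W → y' ∈ W → y ⤳ y' → y = y' := by
      intro y y' hy hy' hs
      have hs' : (⟨y, hy⟩ : ↥(W : Set (Points X))) ⤳ ⟨y', hy'⟩ :=
        Topology.IsInducing.subtypeVal.specializes_iff.1 hs
      exact congrArg Subtype.val (eq_of_specializes_of_dim_le_zero hW.le hs')
    have := isOpen_singleton_chart p hp a ha u W W.isOpen hxW
      (fun y hy hs => key y _ hy hxW hs) (fun y hy hs => (key _ y hxW hy hs).symm)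
    have h2 := Groth.Agent.Lib.H86AlgSpPoints.isOpenMap_ofPt ha _ this
    rwa [Set.image_singleton] at h2
  · exact localDim_eq_zero_of_isOpen_singleton x

end Groth.Agent.Lib.AlgSpFieldDim91
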