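import Groth.Agent.Lib.AlgSpFieldDim91
import Groth.Agent.Lib.AlgSpValuativeDecent

set_option autoImplicit false
universe u
open CategoryTheory CategoryTheory.Limits AlgebraicGeometry Topology TopologicalSpace

namespace Groth.Agent.Lib.AlgSpFieldDim91

open AlgSp Groth.Agent.Lib.AlgSpPoints Groth.Agent.Lib.AlgSpDecentSpec Groth.Agent.Lib.SchFieldIso91
  Groth.Agent.Lib.AlgSpTrdeg91

/-- A quasi-sober space without nontrivial specializations has dimension `≤ 0`. -/
theorem dim_le_zero_of_forall_specializes_eq {T : Type*} [TopologicalSpace T] [QuasiSober T]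
    (h : ∀ w w' : T, w ⤳ w' → w = w') : topologicalKrullDim T ≤ 0 := by
  unfold topologicalKrullDim
  rw [Order.krullDim_nonpos_iff_forall_isMin]
  intro Z Z' hle
  obtain ⟨η, hη⟩ := QuasiSober.sober Z.isIrreducible Z.isClosed
  obtain ⟨η', hη'⟩ := QuasiSober.sober Z'.isIrreducible Z'.isClosed
  have h1 : η ⤳ η' := hη.specializes (hle hη'.mem)
  have h2 := h η η' h1
  subst h2
  show (Z : Set T) ⊆ Z'
  rw [← hη.def, ← hη'.def]

variable {k : Type u} [Field k] {X : Sp (Spec (CommRingCat.of k))}
  (p : X ⟶ (yon (Spec (CommRingCat.of k))).obj (Over.mk (𝟙 _)))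
  (hp : LocP @LocallyOfFiniteType p)

include hp in
/-- (2) ⇒ (4), chartwise: if `|X|` is discrete, every étale chart is discrete. -/
theorem discreteTopology_chart [DiscreteTopology (Points X)] {U : Over (Spec (CommRingCat.of k))}
    (a : (yon _).obj U ⟶ X) (ha : RepWith @Etale a) : DiscreteTopology ↥U.left :=
  discreteTopology_iff_isOpen_singleton.2 fun u =>
    isOpen_singleton_chart_of_isOpen p hp a ha u (isOpen_discrete _)

include hp in
/-- If all specializations in `|X|` are trivial then `|X|` is discrete. -/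
theorem discreteTopology_of_forall_specializes_eq (hX : IsAlgSpace X)
    (h : ∀ y y' : Points X, y ⤳ y' → y = y') : DiscreteTopology (Points X) := by
  obtain ⟨U, a, ha, has⟩ := hX.atlas
  refine discreteTopology_iff_isOpen_singleton.2 fun x => ?_
  obtain ⟨u, rfl⟩ := Groth.Agent.Lib.H86AlgSpPoints.ofPt_surjective has x
  have := isOpen_singleton_chart p hp a ha u Set.univ isOpen_univ trivial
    (fun y _ hy => h _ _ hy) (fun y _ hy => (h _ _ hy).symm)
  have h2 := Groth.Agent.Lib.H86AlgSpPoints.isOpenMap_ofPt ha _ this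
  rwa [Set.image_singleton] at h2

theorem dim_nonneg (hX : IsAlgSpace X) [Nonempty (Points X)] : 0 ≤ AlgSp.dim X := by
  obtain ⟨U, a, ha, has⟩ := hX.atlas
  obtain ⟨x⟩ := ‹Nonempty (Points X)›
  obtain ⟨u, -⟩ := Groth.Agent.Lib.H86AlgSpPoints.ofPt_surjective has x
  have : Nonempty ↥U.left := ⟨u⟩
  refine (Groth.Agent.Lib.TopKrullDim.dim_nonneg_of_nonempty (X := ↥U.left)).trans ?_
  unfold AlgSp.dim
  exact le_iSup_of_le U (le_iSup_of_le a (le_iSup_of_le ha le_rfl))

include hp in
/-- (2) ⇔ (4). -/
theorem discreteTopology_iff_dim_eq_zero (hX : IsAlgSpace X) [Nonempty (Points X)] :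
    DiscreteTopology (Points X) ↔ AlgSp.dim X = 0 := by
  constructor
  · intro hd
    apply le_antisymm _ (dim_nonneg hX)
    unfold AlgSp.dim
    refine iSup_le fun U => iSup_le fun a => iSup_le fun ha => ?_
    have := discreteTopology_chart p hp a ha
    exact topologicalKrullDim_zero_of_discreteTopology _
  · intro hd
    obtain ⟨U, a, ha, has⟩ := hX.atlas
    have hN := isLocallyNoetherian_chart p hp a ha
    have hU : topologicalKrullDim ↥U.left ≤ 0 := by
      rw [← hd]
      unfold AlgSp.dim
      exact le_iSup_of_le U (le_iSup_of_le a (le_iSup_of_le ha le_rfl))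
    refine discreteTopology_iff_isOpen_singleton.2 fun x => ?_
    obtain ⟨u, rfl⟩ := Groth.Agent.Lib.H86AlgSpPoints.ofPt_surjective has x
    have h1 : IsOpen ({u} : Set ↥U.left) :=
      isOpen_singleton_of_isolated U.left u Set.univ isOpen_univ trivial
        (fun u' hu' => eq_of_specializes_of_dim_le_zero hU hu')
        (fun u'' _ hu'' => (eq_of_specializes_of_dim_le_zero hU hu'').symm)
    have h2 := Groth.Agent.Lib.H86AlgSpPoints.isOpenMap_ofPt ha _ h1
    rwa [Set.image_singleton] at h2

include hp in
/-- (1) ⇒ (4) for decent spaces: a decent space with finitely many points has dimension `0`. -/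
theorem dim_eq_zero_of_finite (hX : IsAlgSpace X) (hd : IsDecent X) [Nonempty (Points X)]
    [Finite (Points X)] : AlgSp.dim X = 0 := by
  apply le_antisymm _ (dim_nonneg hX)
  unfold AlgSp.dim
  refine iSup_le fun U => iSup_le fun a => iSup_le fun ha => ?_
  refine dim_le_zero_of_forall_specializes_eq fun u' u hs => ?_
  obtain ⟨_, ⟨W, hW, rfl⟩, huW, -⟩ :=
    (U.left.isBasis_affineOpens).exists_subset_of_mem_open (Set.mem_univ u) isOpen_univ
  have hu'W : u' ∈ W := hs.mem_open W.isOpen huW
  have hb : RepWith @Etale ((yon _).map (restrictOverι U W) ≫ a) := repWith_etale_restrict a ha W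
  have : IsAffine (restrictOver U W).left := hW
  have hl := lft_chart p hp _ hb
  have hJ : JacobsonSpace ↥(restrictOver U W).left :=
    LocallyOfFiniteType.jacobsonSpace (restrictOver U W).hom
  have hfin : Finite ↥(restrictOver U W).left := by
    rw [← Set.finite_univ_iff]
    refine Set.Finite.of_finite_fibers (Points.ofPt ((yon _).map (restrictOverι U W) ≫ a))
      (Set.toFinite _) (fun x _ => ?_)
    rw [Set.univ_inter]
    exact Groth.Agent.Lib.AlgSpValuative.finite_fibre_of_isDecent hd _ hb x
  let v' : ↥(restrictOver U W).left := (⟨u', hu'W⟩ : ↥W)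
  let v : ↥(restrictOver U W).left := (⟨u, huW⟩ : ↥W)
  have hsv : v' ⤳ v := (subtype_specializes_iff (⟨u', hu'W⟩ : ↥W) ⟨u, huW⟩).2 hs
  -- `v'` is a closed point
  have hcl : IsClosed ({v'} : Set ↥(restrictOver U W).left) := by
    have h1 := JacobsonSpace.closure_inter_closedPoints (X := ↥(restrictOver U W).left)
      (Z := closure {v'}) isClosed_closure
    have h2 : IsClosed (closure ({v'} : Set ↥(restrictOver U W).left) ∩
        closedPoints ↥(restrictOver U W).left) := by
      rw [← Set.biUnion_of_singleton (closure ({v'} : Set ↥(restrictOver U W).left) ∩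
        closedPoints ↥(restrictOver U W).left)]
      exact (Set.toFinite _).isClosed_biUnion (fun t ht => ht.2)
    rw [h2.closure_eq] at h1
    have h3 : v' ∈ closure ({v'} : Set ↥(restrictOver U W).left) ∩
        closedPoints ↥(restrictOver U W).left := by
      rw [h1]; exact subset_closure rfl
    exact h3.2
  have : v ∈ closure ({v'} : Set ↥(restrictOver U W).left) := hsv.mem_closure
  rw [hcl.closure_eq] at this
  exact (congrArg (Subtype.val : ↥W → ↥U.left) this).symm

end Groth.Agent.Lib.AlgSpFieldDim91
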