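import Groth.Agent.Lib.UEE
import Mathlib.CategoryTheory.Limits.Shapes.BinaryProducts
import Mathlib.CategoryTheory.Limits.Shapes.StrongEpi

set_option autoImplicit false
set_option backward.isDefEq.respectTransparency false
open CategoryTheory CategoryTheory.Limits
universe v₁ u₁

namespace Groth.Agent.Lib.UEE

variable {C : Type u₁} [Category.{v₁} C]

/-- If `π` is a universal epimorphism and `π ≫ g` identifies only pairs that `π` identifies, then
`g` is a monomorphism. -/
theorem mono_of_uepi [HasPullbacks C] {X B Z : C} (π : X ⟶ B) (hπ : UEpi π) (g : B ⟶ Z)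
    (h : ∀ {W : C} (a b : W ⟶ X), a ≫ π ≫ g = b ≫ π ≫ g → a ≫ π = b ≫ π) : Mono g := by
  constructor
  intro W a b hab
  obtain ⟨W', ρ, k₁, k₂, hρ, hk₁, hk₂⟩ := exists_epi_lifts π hπ a b
  rw [← cancel_epi ρ, ← hk₁, ← hk₂]
  apply h
  rw [← Category.assoc, ← Category.assoc, hk₁, hk₂, Category.assoc, Category.assoc, hab]

/-- `S5211`. -/
theorem mono_of_isIso_mapDesc [HasPullbacks C] {S' S T : C} (f : S' ⟶ S) (hf : UEE f) (g : S ⟶ T)
    [IsIso (pullback.mapDesc f f g)] : Mono g := by
  refine mono_of_uepi f (uee_le_uepi _ hf) g ?_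
  intro W a b hab
  let l : W ⟶ pullback (f ≫ g) (f ≫ g) := pullback.lift a b (by simpa using hab)
  have h1 : (l ≫ inv (pullback.mapDesc f f g)) ≫ pullback.fst f f = a := by
    have : inv (pullback.mapDesc f f g) ≫ pullback.fst f f = pullback.fst (f ≫ g) (f ≫ g) := by
      rw [IsIso.inv_comp_eq]; simp [pullback.mapDesc]
    rw [Category.assoc, this]; simp [l]
  have h2 : (l ≫ inv (pullback.mapDesc f f g)) ≫ pullback.snd f f = b := by
    have : inv (pullback.mapDesc f f g) ≫ pullback.snd f f = pullback.snd (f ≫ g) (f ≫ g) := by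
      rw [IsIso.inv_comp_eq]; simp [pullback.mapDesc]
    rw [Category.assoc, this]; simp [l]
  rw [← h1, ← h2, Category.assoc, Category.assoc, pullback.condition]
  simp only [Category.assoc]

/-- Base change along a universal epimorphism is faithful. -/
theorem faithful_pullback [HasPullbacks C] {S' S : C} (f : S' ⟶ S) (hf : UEpi f) :
    (Over.pullback f).Faithful where
  map_injective {Z X} a b hab := by
    have e1 : Epi (pullback.fst Z.hom f) := epi_fst_of_uepi Z.hom hf
    have ha : ((Over.pullback f).map a).left ≫ pullback.fst X.hom f =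
        pullback.fst Z.hom f ≫ a.left := by simp
    have hb : ((Over.pullback f).map b).left ≫ pullback.fst X.hom f =
        pullback.fst Z.hom f ≫ b.left := by simp
    rw [hab] at ha
    apply Over.OverMorphism.ext
    rw [← cancel_epi (pullback.fst Z.hom f), ← ha, ← hb]

/-- `S5209`, mono part. -/
theorem mono_iff_pullback [HasPullbacks C] {S' S : C} (f : S' ⟶ S) (hf : UEE f) {X Y : Over S}
    (g : X ⟶ Y) : Mono g ↔ Mono ((Over.pullback f).map g) := by
  constructor
  · intro h
    infer_instance
  · intro h
    have := faithful_pullback f (uee_le_uepi _ hf)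
    exact (Over.pullback f).mono_of_mono_map h

/-- `S5209`, iso part. -/
theorem isIso_iff_pullback [HasPullbacks C] {S' S : C} (f : S' ⟶ S) (hf : UEE f) {X Y : Over S}
    (g : X ⟶ Y) : IsIso g ↔ IsIso ((Over.pullback f).map g) := by
  constructor
  · intro h
    infer_instance
  · intro h
    have hm : Mono g := (mono_iff_pullback f hf g).2 inferInstance
    have hml : Mono g.left := inferInstance
    have hsq : ((Over.pullback f).map g).left ≫ pullback.fst Y.hom f =
        pullback.fst X.hom f ≫ g.left := by simp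
    have hE : EffectiveEpi (pullback.fst Y.hom f) := effectiveEpi_of_uee (uee_fst Y.hom hf)
    have hI : IsIso ((Over.pullback f).map g).left :=
      inferInstanceAs (IsIso ((Over.forget S').map ((Over.pullback f).map g)))
    have hS : StrongEpi (((Over.pullback f).map g).left ≫ pullback.fst Y.hom f) := strongEpi_comp _ _
    rw [hsq] at hS
    have hS' : StrongEpi g.left := strongEpi_of_strongEpi (pullback.fst X.hom f) g.left
    have hgl : IsIso g.left := isIso_of_mono_of_strongEpi g.left
    have : IsIso ((Over.forget S).map g) := hgl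
    exact isIso_of_reflects_iso g (Over.forget S)

/-- `S5210`. -/
theorem nonempty_hom_iff_pullback [HasPullbacks C] {S' S : C} (f : S' ⟶ S) (hf : UEE f)
    (X Y : Over S) [Mono Y.hom] :
    Nonempty (X ⟶ Y) ↔ Nonempty ((Over.pullback f).obj X ⟶ (Over.pullback f).obj Y) := by
  constructor
  · rintro ⟨h⟩
    exact ⟨(Over.pullback f).map h⟩
  · rintro ⟨h'⟩
    have hE : EffectiveEpi (pullback.fst X.hom f) := effectiveEpi_of_uee (uee_fst X.hom hf)
    have hw : h'.left ≫ pullback.snd Y.hom f = pullback.snd X.hom f := Over.w h'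
    have hk : (h'.left ≫ pullback.fst Y.hom f) ≫ Y.hom = pullback.fst X.hom f ≫ X.hom := by
      rw [Category.assoc, pullback.condition, ← Category.assoc, hw, pullback.condition]
    let d : X.left ⟶ Y.left := EffectiveEpi.desc (pullback.fst X.hom f)
      (h'.left ≫ pullback.fst Y.hom f) (by
        intro Z g₁ g₂ hg
        rw [← cancel_mono Y.hom, Category.assoc g₁, Category.assoc g₂, hk, ← Category.assoc,
          ← Category.assoc, hg])
    refine ⟨Over.homMk d ?_⟩
    rw [← cancel_epi (pullback.fst X.hom f), ← Category.assoc, EffectiveEpi.fac, hk]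

/-- The square exhibiting `prod.map (𝟙 X) f` as a base change of `f`. -/
theorem isPullback_prod_snd_with_id [HasBinaryProducts C] {A B : C} (f : A ⟶ B) (X : C) :
    IsPullback prod.snd (prod.map (𝟙 X) f) f prod.snd where
  w := by simp
  isLimit' := ⟨PullbackCone.isLimitAux' _ (fun s ↦ by
    refine ⟨prod.lift (s.snd ≫ prod.fst) s.fst, ?_, ?_, ?_⟩
    · simp
    · ext
      · simp
      · simp [PullbackCone.condition]
    · intro m h₁ h₂
      dsimp at m h₁ h₂ ⊢
      apply Limits.prod.hom_ext
      · simp [← h₂]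
      · simpa using h₁)⟩

/-- `S5214`. -/
theorem uee_prodMap [HasPullbacks C] [HasBinaryProducts C] {X Y X' Y' : C} (u : X ⟶ Y)
    (u' : X' ⟶ Y') (hu : UEE u) (hu' : UEE u') : UEE (prod.map u u') := by
  have h1 : UEE (prod.map u (𝟙 X')) :=
    MorphismProperty.of_isPullback (IsPullback.of_prod_fst_with_id u X') hu
  have h2 : UEE (prod.map (𝟙 Y) u') :=
    MorphismProperty.of_isPullback (isPullback_prod_snd_with_id u' Y) hu'
  have : prod.map u u' = prod.map u (𝟙 X') ≫ prod.map (𝟙 Y) u' := by simp
  rw [this]
  exact uee_comp _ _ h2 h1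

end Groth.Agent.Lib.UEE
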