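import Groth.Agent.Lib.AlgSpPoints
import Groth.Agent.Lib.UEEDescent

set_option autoImplicit false
universe u
open CategoryTheory CategoryTheory.Limits AlgebraicGeometry Opposite TensorProduct

namespace Groth.Agent.Lib.AlgSpFieldExt91

open AlgSp Groth.Agent.Lib.AlgSpPoints

/-- Two field extensions of `k` have a common extension. -/
theorem exists_common_field_ext (k K k' : Type u) [Field k] [Field K] [Field k'] [Algebra k K]
    [Algebra k k'] :
    ∃ (Ω : Type u) (_ : Field Ω) (_ : Algebra k Ω) (_ : Algebra k' Ω) (_ : IsScalarTower k k' Ω),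
      Nonempty (K →ₐ[k] Ω) := by
  obtain ⟨m, hm⟩ := Ideal.exists_maximal (K ⊗[k] k')
  letI : Field ((K ⊗[k] k') ⧸ m) := Ideal.Quotient.field m
  let ψ : k' →ₐ[k] (K ⊗[k] k') ⧸ m :=
    (Ideal.Quotient.mkₐ k m).comp (Algebra.TensorProduct.includeRight : k' →ₐ[k] K ⊗[k] k')
  letI : Algebra k' ((K ⊗[k] k') ⧸ m) := ψ.toRingHom.toAlgebra
  refine ⟨(K ⊗[k] k') ⧸ m, inferInstance, inferInstance, inferInstance, ?_,
    ⟨(Ideal.Quotient.mkₐ k m).comp (Algebra.TensorProduct.includeLeft : K →ₐ[k] K ⊗[k] k')⟩⟩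
  refine IsScalarTower.of_algebraMap_eq fun c => ?_
  exact (ψ.commutes c).symm

end Groth.Agent.Lib.AlgSpFieldExt91
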