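import Groth.Agent.Lib.FieldGroupoid
import Groth.Agent.Lib.AlgSpDecentSpec
import Groth.Agent.Lib.H86Coprod

/-!
# The quotient of the spectrum of a field by a finite equivalence relation (owner: helper91)

Namespace `Groth.Agent.Lib.AlgSpFieldQuot`.  Append-only please.

Let `p : h_{Spec K} ⟶ X` be a morphism of fppf sheaves over `S` from the spectrum of a field, such that `Spec K ×_X Spec K`
is representable by a scheme finite over `Spec K`.  Then `p` factors as `h_{Spec K} ⟶ h_{Spec k₀} ⟶ X` with `K / k₀` a finite field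
extension and `h_{Spec k₀} ⟶ X` a monomorphism.
-/

set_option autoImplicit false
universe u
open CategoryTheory CategoryTheory.Limits AlgebraicGeometry Opposite Topology TensorProduct

noncomputable section

namespace Groth.Agent.Lib.AlgSpFieldQuot

open AlgSp Groth.Agent.Lib.FieldGroupoid Groth.Agent.Lib.H86AlgSpPoints

section SchemeLevel

/-- A morphism to an affine scheme is determined by the induced map on global sections. -/
theorem eq_toSpecΓ_comp {Z : Scheme.{u}} {R : CommRingCat.{u}} (g : Z ⟶ Spec R) :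
    g = Z.toSpecΓ ≫ Spec.map ((Scheme.ΓSpecIso R).inv ≫ g.appTop) := by
  have h1 := Scheme.toSpecΓ_naturality g
  have h2 := toSpecΓ_SpecMap_ΓSpecIso_inv R
  calc g = g ≫ (Spec R).toSpecΓ ≫ Spec.map (Scheme.ΓSpecIso R).inv := by rw [h2, Category.comp_id]
    _ = (Z.toSpecΓ ≫ Spec.map g.appTop) ≫ Spec.map (Scheme.ΓSpecIso R).inv := by
      rw [← h1, Category.assoc]
    _ = _ := by rw [Category.assoc, ← Spec.map_comp]

/-- The map `ψ ↦ Z.toSpecΓ ≫ Spec.map ψ` is injective. -/
theorem toSpecΓ_comp_SpecMap_injective {Z : Scheme.{u}} {R : CommRingCat.{u}} {ψ₁ ψ₂ : R ⟶ Γ(Z, ⊤)}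
    (h : Z.toSpecΓ ≫ Spec.map ψ₁ = Z.toSpecΓ ≫ Spec.map ψ₂) : ψ₁ = ψ₂ := by
  have := (ΓSpec.adjunction.homEquiv Z (op R)).injective
    (a₁ := ψ₁.op) (a₂ := ψ₂.op) (by
      rw [Adjunction.homEquiv_unit, Adjunction.homEquiv_unit]
      exact h)
  exact Quiver.Hom.op_inj this

variable {K A : Type u} [Field K] [CommRing A] [Algebra K A] {τ : K →+* A}

/-- The morphism `Spec K ⟶ Spec k₀`. -/
abbrev cMap (τ : K →+* A) : Spec (.of K) ⟶ Spec (.of (eqField τ)) :=
  Spec.map (CommRingCat.ofHom (algebraMap (eqField τ) K))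

/-- The first projection `Spec A ⟶ Spec K`. -/
abbrev sMap (K A : Type u) [Field K] [CommRing A] [Algebra K A] :
    Spec (.of A) ⟶ Spec (.of K) :=
  Spec.map (CommRingCat.ofHom (algebraMap K A))

/-- The second projection `Spec A ⟶ Spec K`. -/
abbrev tMap (τ : K →+* A) : Spec (.of A) ⟶ Spec (.of K) :=
  Spec.map (CommRingCat.ofHom τ)

/-- Two morphisms to `Spec K` which agree after composing with `Spec K ⟶ Spec k₀` factor through `Spec A`. -/
theorem exists_lift_of_comp_cMap_eq (h : FinEqRel τ) {Z : Scheme.{u}} (g₁ g₂ : Z ⟶ Spec (.of K))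
    (hg : g₁ ≫ cMap τ = g₂ ≫ cMap τ) :
    ∃ r : Z ⟶ Spec (.of A), r ≫ sMap K A = g₁ ∧ r ≫ tMap τ = g₂ := by
  obtain ⟨γ₁, e₁⟩ : ∃ γ₁ : CommRingCat.of K ⟶ Γ(Z, ⊤), g₁ = Z.toSpecΓ ≫ Spec.map γ₁ :=
    ⟨_, eq_toSpecΓ_comp g₁⟩
  obtain ⟨γ₂, e₂⟩ : ∃ γ₂ : CommRingCat.of K ⟶ Γ(Z, ⊤), g₂ = Z.toSpecΓ ≫ Spec.map γ₂ :=
    ⟨_, eq_toSpecΓ_comp g₂⟩
  have hagree : CommRingCat.ofHom (algebraMap (eqField τ) K) ≫ γ₁ =
      CommRingCat.ofHom (algebraMap (eqField τ) K) ≫ γ₂ := by
    apply toSpecΓ_comp_SpecMap_injective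
    rw [Spec.map_comp, Spec.map_comp, ← Category.assoc, ← Category.assoc, ← e₁, ← e₂]
    exact hg
  obtain ⟨F, hF1, hF2⟩ := h.exists_ringHom_of_agree γ₁.hom γ₂.hom (by
    intro x hx
    have := congrArg (fun k => k.hom ⟨x, hx⟩) hagree
    exact this)
  refine ⟨Z.toSpecΓ ≫ Spec.map (CommRingCat.ofHom F), ?_, ?_⟩
  · rw [Category.assoc, ← Spec.map_comp, e₁]
    congr 2
    exact CommRingCat.hom_ext hF1
  · rw [Category.assoc, ← Spec.map_comp, e₂]
    congr 2
    exact CommRingCat.hom_ext hF2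

theorem isFinite_cMap (h : FinEqRel τ) : IsFinite (cMap τ) := by
  have := h.finite_eqField
  rw [IsFinite.SpecMap_iff]
  exact RingHom.finite_algebraMap.2 this

theorem surjective_cMap : Surjective (cMap τ) := by
  constructor
  intro x
  exact ⟨IsLocalRing.closedPoint K, Subsingleton.elim _ _⟩

theorem flat_cMap : Flat (cMap τ) := by
  rw [Flat.SpecMap_iff]
  exact RingHom.flat_algebraMap_iff.2 inferInstance

end SchemeLevel

section Descent

variable {S : Scheme.{u}}

/-- Gluing morphisms to a sheaf along a jointly surjective family of flat, locally finitely presented morphisms of schemes. -/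
theorem existsUnique_desc_fppf {T : Over S} {κ : Type*} (V : κ → Over S) (g : ∀ k, V k ⟶ T)
    (hfl : ∀ k, Flat (g k).left) (hfp : ∀ k, LocallyOfFinitePresentation (g k).left)
    (hsurj : ∀ t : ↥T.left, ∃ k, t ∈ Set.range (g k).left) (F : Sp S)
    (x : ∀ k, (yon S).obj (V k) ⟶ F)
    (hx : ∀ (i k : κ) (Z : Over S) (a : Z ⟶ V i) (b : Z ⟶ V k), a ≫ g i = b ≫ g k →
      (yon S).map a ≫ x i = (yon S).map b ≫ x k) :
    ∃! e : (yon S).obj T ⟶ F, ∀ k, (yon S).map (g k) ≫ e = x k := by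
  have hF : Presieve.IsSheaf (J S) F.obj := (isSheaf_iff_isSheaf_of_type _ _).1 F.property
  have h1 := hF _ (Groth.Agent.Lib.AlgSpFpqc.ofArrows_mem_J V g hfl hfp hsurj)
  rw [Sieve.ofArrows, ← Presieve.isSheafFor_iff_generate, Presieve.isSheafFor_arrows_iff] at h1
  obtain ⟨t, ht, htu⟩ := h1 (fun i => yE (x i)) (by
    intro i k Z gi gk hgk
    rw [yE_map, yE_map, hx i k Z gi gk hgk])
  refine ⟨yE.symm t, fun k => ?_, fun e he => ?_⟩
  · apply yE.injective
    rw [← yE_map, Equiv.apply_symm_apply]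
    exact ht k
  · apply yE.injective
    rw [Equiv.apply_symm_apply]
    apply htu
    intro k
    rw [yE_map, he k]

end Descent

section Affine

variable {S : Scheme.{u}} {X : Sp S} {K A : Type u} [Field K] [CommRing A] [Algebra K A]
  (τ : K →+* A) (strK : Spec (.of K) ⟶ S) (hst : sMap K A ≫ strK = tMap τ ≫ strK)

/-- `Spec K` over `S`. -/
abbrev ptK : Over S := Over.mk strK

/-- `Spec A` over `S`. -/
abbrev ptA (K A : Type u) [Field K] [CommRing A] [Algebra K A] (strK : Spec (.of K) ⟶ S) : Over S :=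
  Over.mk (sMap K A ≫ strK)

/-- The first projection over `S`. -/
abbrev sOver (K A : Type u) [Field K] [CommRing A] [Algebra K A] (strK : Spec (.of K) ⟶ S) :
    ptA K A strK ⟶ ptK strK := Over.homMk (sMap K A) rfl

include hst in
/-- The second projection over `S`. -/
abbrev tOver : ptA K A strK ⟶ ptK strK := Over.homMk (tMap τ) hst.symm

variable (p : (yon S).obj (ptK strK) ⟶ X)
  (sq : IsPullback ((yon S).map (sOver K A strK)) ((yon S).map (tOver τ strK hst)) p p)

include sq in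
theorem nontrivial_of_isPullback : Nontrivial A := by
  obtain ⟨r, -, -⟩ := Groth.Agent.Lib.H69AlgSp.exists_lift_yon sq (𝟙 _) (𝟙 _) rfl
  exact (Spec.preimage r.left).hom.domain_nontrivial

include sq in
theorem epi_of_isPullback (B : Type u) [CommRing B] (g₁ g₂ : A →+* B)
    (h1 : g₁.comp (algebraMap K A) = g₂.comp (algebraMap K A)) (h2 : g₁.comp τ = g₂.comp τ) :
    g₁ = g₂ := by
  have e1 : Spec.map (CommRingCat.ofHom g₁) ≫ sMap K A = Spec.map (CommRingCat.ofHom g₂) ≫ sMap K A := by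
    rw [← Spec.map_comp, ← Spec.map_comp, ← CommRingCat.ofHom_comp, ← CommRingCat.ofHom_comp, h1]
  have e2 : Spec.map (CommRingCat.ofHom g₁) ≫ tMap τ = Spec.map (CommRingCat.ofHom g₂) ≫ tMap τ := by
    rw [← Spec.map_comp, ← Spec.map_comp, ← CommRingCat.ofHom_comp, ← CommRingCat.ofHom_comp, h2]
  let T : Over S := Over.mk (Spec.map (CommRingCat.ofHom g₁) ≫ sMap K A ≫ strK)
  let l : T ⟶ ptA K A strK := Over.homMk (Spec.map (CommRingCat.ofHom g₁)) rfl
  let l' : T ⟶ ptA K A strK := Over.homMk (Spec.map (CommRingCat.ofHom g₂)) (by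
    change Spec.map (CommRingCat.ofHom g₂) ≫ sMap K A ≫ strK = _
    rw [← Category.assoc, ← e1, Category.assoc]
    rfl)
  have hl : l = l' := Groth.Agent.Lib.H69AlgSp.hom_ext_yon_pullback sq l l'
    (by rw [← Functor.map_comp, ← Functor.map_comp]; congr 1; exact Over.OverMorphism.ext e1)
    (by rw [← Functor.map_comp, ← Functor.map_comp]; congr 1; exact Over.OverMorphism.ext e2)
  have h3 : Spec.map (CommRingCat.ofHom g₁) = Spec.map (CommRingCat.ofHom g₂) :=
    congrArg (fun k => k.left) hl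
  have h4 := Spec.map_injective h3
  exact congrArg (fun k => k.hom) h4

/-- The ring map `A → A ⊗ Tw τ` into the right factor. -/
def lamHom : A →+* A ⊗[K] Tw τ :=
  (Algebra.TensorProduct.includeRight (R := K) (A := A) (B := Tw τ)).toRingHom.comp (toTw τ)

/-- The ring map `A → A ⊗ Tw τ` into the left factor. -/
def rhoHom : A →+* A ⊗[K] Tw τ :=
  Algebra.TensorProduct.includeLeftRingHom (R := K) (A := A) (B := Tw τ)

theorem lamHom_apply (a : A) : lamHom τ a = (1 : A) ⊗ₜ[K] toTw τ a := rfl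

theorem rhoHom_apply (a : A) : rhoHom τ a = a ⊗ₜ[K] (1 : Tw τ) := rfl

theorem rhoHom_comp_algebraMap : (rhoHom τ).comp (algebraMap K A) = (lamHom τ).comp τ := by
  ext c
  change rhoHom τ (algebraMap K A c) = lamHom τ (τ c)
  rw [rhoHom_apply, lamHom_apply, algebraMap_tmul_one]

include sq in
theorem trans_of_isPullback : ∃ f : A →+* A ⊗[K] Tw τ,
    (∀ c : K, f (algebraMap K A c) = (1 : A) ⊗ₜ[K] toTw τ (algebraMap K A c)) ∧
      (∀ c : K, f (τ c) = (τ c) ⊗ₜ[K] (1 : Tw τ)) := by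
  set rl : Spec (.of (A ⊗[K] Tw τ)) ⟶ Spec (.of A) := Spec.map (CommRingCat.ofHom (lamHom τ)) with hrl
  set rr : Spec (.of (A ⊗[K] Tw τ)) ⟶ Spec (.of A) := Spec.map (CommRingCat.ofHom (rhoHom τ)) with hrr
  have hmid : rl ≫ tMap τ = rr ≫ sMap K A := by
    rw [hrl, hrr, ← Spec.map_comp, ← Spec.map_comp, ← CommRingCat.ofHom_comp, ← CommRingCat.ofHom_comp,
      rhoHom_comp_algebraMap]
  let T : Over S := Over.mk (rl ≫ sMap K A ≫ strK)
  let rl' : T ⟶ ptA K A strK := Over.homMk rl rfl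
  let rr' : T ⟶ ptA K A strK := Over.homMk rr (by
    change rr ≫ sMap K A ≫ strK = rl ≫ sMap K A ≫ strK
    rw [← Category.assoc, ← hmid, Category.assoc, ← hst])
  have hmid' : rl' ≫ tOver τ strK hst = rr' ≫ sOver K A strK := Over.OverMorphism.ext hmid
  have hcomp : (yon S).map (rl' ≫ sOver K A strK) ≫ p = (yon S).map (rr' ≫ tOver τ strK hst) ≫ p := by
    rw [Functor.map_comp, Category.assoc, sq.w, ← Category.assoc, ← Functor.map_comp, hmid',
      Functor.map_comp, Category.assoc, sq.w, ← Category.assoc, ← Functor.map_comp]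
  obtain ⟨r, hr1, hr2⟩ := Groth.Agent.Lib.H69AlgSp.exists_lift_yon sq _ _ hcomp
  rw [← Functor.map_comp] at hr1 hr2
  have hr1' : r.left ≫ sMap K A = rl ≫ sMap K A :=
    congrArg (fun k => k.left) ((yon S).map_injective hr1)
  have hr2' : r.left ≫ tMap τ = rr ≫ tMap τ :=
    congrArg (fun k => k.left) ((yon S).map_injective hr2)
  obtain ⟨f, hf⟩ : ∃ f : CommRingCat.of A ⟶ CommRingCat.of (A ⊗[K] Tw τ), Spec.map f = r.left :=
    ⟨Spec.preimage r.left, Spec.map_preimage _⟩
  rw [← hf, hrl, ← Spec.map_comp, ← Spec.map_comp] at hr1'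
  rw [← hf, hrr, ← Spec.map_comp, ← Spec.map_comp] at hr2'
  have h1 := Spec.map_injective hr1'
  have h2 := Spec.map_injective hr2'
  refine ⟨f.hom, fun c => ?_, fun c => ?_⟩
  · have := congrArg (fun k => k.hom c) h1
    exact this
  · have := congrArg (fun k => k.hom c) h2
    exact this

include sq in
/-- The ring-theoretic data of a finite equivalence relation extracted from the pullback square. -/
theorem finEqRel_of_isPullback [Module.Finite K A] : FinEqRel τ where
  nontrivial := nontrivial_of_isPullback τ strK hst p sq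
  finite := inferInstance
  trans := trans_of_isPullback τ strK hst p sq
  epi := epi_of_isPullback τ strK hst p sq

theorem sMap_comp_cMap : sMap K A ≫ cMap τ = tMap τ ≫ cMap τ := by
  rw [← Spec.map_comp, ← Spec.map_comp, ← CommRingCat.ofHom_comp, ← CommRingCat.ofHom_comp]
  congr 2
  ext c
  exact (mem_eqField τ).1 c.2

theorem lfp_cMap (h : FinEqRel τ) : LocallyOfFinitePresentation (cMap τ) := by
  have := h.finite_eqField
  rw [HasRingHomProperty.Spec_iff (P := @LocallyOfFinitePresentation)]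
  have h1 : Algebra.FiniteType (eqField τ) K := inferInstance
  have h2 : Algebra.FinitePresentation (eqField τ) K := Algebra.FinitePresentation.of_finiteType.1 h1
  exact RingHom.finitePresentation_algebraMap.2 h2

include sq in
/-- **Keystone, affine presentation.**  If `Spec K ×_X Spec K = Spec A` with `A` finite over `K`, then `p : h_{Spec K} ⟶ X` factors
through a monomorphism `h_{Spec k₀} ⟶ X` with `K / k₀` finite. -/
theorem exists_mono_factor_affine [Module.Finite K A] :
    ∃ (k₀ : Type u) (_ : Field k₀) (str₀ : Spec (.of k₀) ⟶ S) (c : ptK strK ⟶ Over.mk str₀)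
      (m : (yon S).obj (Over.mk str₀) ⟶ X), (yon S).map c ≫ m = p ∧ Mono m ∧ IsFinite c.left ∧
        Surjective c.left ∧ Flat c.left := by
  have hE : FinEqRel τ := finEqRel_of_isPullback τ strK hst p sq
  have hfin : IsFinite (cMap τ) := isFinite_cMap hE
  have hsurj : Surjective (cMap τ) := surjective_cMap
  have hflat : Flat (cMap τ) := flat_cMap
  have hlfp : LocallyOfFinitePresentation (cMap τ) := lfp_cMap τ hE
  -- the structure morphism of `Spec k₀`
  have hcompat : ∀ {Z : Scheme.{u}} (g₁ g₂ : Z ⟶ Spec (.of K)), g₁ ≫ cMap τ = g₂ ≫ cMap τ →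
      g₁ ≫ strK = g₂ ≫ strK := by
    intro Z g₁ g₂ hg
    obtain ⟨r, hr1, hr2⟩ := exists_lift_of_comp_cMap_eq hE g₁ g₂ hg
    rw [← hr1, ← hr2, Category.assoc, Category.assoc, hst]
  let str₀ : Spec (.of (eqField τ)) ⟶ S := EffectiveEpi.desc (cMap τ) strK hcompat
  have hfac : cMap τ ≫ str₀ = strK := EffectiveEpi.fac (cMap τ) strK hcompat
  let c : ptK strK ⟶ Over.mk str₀ := Over.homMk (cMap τ) hfac
  have hsc : sOver K A strK ≫ c = tOver τ strK hst ≫ c :=
    Over.OverMorphism.ext (sMap_comp_cMap τ)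
  -- descent of `p`
  have hx : ∀ (Z : Over S) (a b : Z ⟶ ptK strK), a ≫ c = b ≫ c →
      (yon S).map a ≫ p = (yon S).map b ≫ p := by
    intro Z a b hab
    have hab' : a.left ≫ cMap τ = b.left ≫ cMap τ := congrArg (fun k => k.left) hab
    obtain ⟨r, hr1, hr2⟩ := exists_lift_of_comp_cMap_eq hE a.left b.left hab'
    let r' : Z ⟶ ptA K A strK := Over.homMk r (by
      change r ≫ sMap K A ≫ strK = Z.hom
      rw [← Category.assoc, hr1]
      exact Over.w a)
    have ha : a = r' ≫ sOver K A strK := Over.OverMorphism.ext hr1.symm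
    have hb : b = r' ≫ tOver τ strK hst := Over.OverMorphism.ext hr2.symm
    rw [ha, hb, Functor.map_comp, Functor.map_comp, Category.assoc, Category.assoc, sq.w]
  obtain ⟨m, hm, -⟩ := existsUnique_desc_fppf (fun _ : PUnit.{1} => ptK strK) (fun _ => c)
    (fun _ => hflat) (fun _ => hlfp) (fun t => ⟨⟨⟩, hsurj.surj t⟩) X (fun _ => p)
    (fun _ _ Z a b hab => hx Z a b hab)
  have hm' : (yon S).map c ≫ m = p := hm ⟨⟩
  refine ⟨eqField τ, inferInstance, str₀, c, m, hm', ?_, hfin, hsurj, hflat⟩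
  -- `m` is a monomorphism
  refine Groth.Agent.Lib.H69AlgSp.mono_of_yon m fun U a b hab => ?_
  obtain ⟨a', rfl⟩ := (yon S).map_surjective a
  obtain ⟨b', rfl⟩ := (yon S).map_surjective b
  congr 1
  -- the covering `W ⟶ U`
  let π₁ := pullback.fst a'.left (cMap τ)
  let at' := pullback.snd a'.left (cMap τ)
  have hπ₁ : π₁ ≫ a'.left = at' ≫ cMap τ := pullback.condition
  let π₂ := pullback.fst (π₁ ≫ b'.left) (cMap τ)
  let bt := pullback.snd (π₁ ≫ b'.left) (cMap τ)
  have hπ₂ : π₂ ≫ π₁ ≫ b'.left = bt ≫ cMap τ := pullback.condition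
  let W : Over S := Over.mk (π₂ ≫ π₁ ≫ U.hom)
  let q : W ⟶ U := Over.homMk (π₂ ≫ π₁) (by simp [W])
  let at'' : W ⟶ ptK strK := Over.homMk (π₂ ≫ at') (by
    change (π₂ ≫ at') ≫ strK = π₂ ≫ π₁ ≫ U.hom
    rw [← hfac, Category.assoc, ← Category.assoc at', ← hπ₁, Category.assoc]
    have := Over.w a'
    change a'.left ≫ str₀ = U.hom at this
    rw [this])
  let bt'' : W ⟶ ptK strK := Over.homMk bt (by
    change bt ≫ strK = π₂ ≫ π₁ ≫ U.hom
    rw [← hfac, ← Category.assoc, ← hπ₂, Category.assoc, Category.assoc]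
    have := Over.w b'
    change b'.left ≫ str₀ = U.hom at this
    rw [this])
  have hqa : q ≫ a' = at'' ≫ c := Over.OverMorphism.ext (by
    change (π₂ ≫ π₁) ≫ a'.left = (π₂ ≫ at') ≫ cMap τ
    rw [Category.assoc, hπ₁, Category.assoc])
  have hqb : q ≫ b' = bt'' ≫ c := Over.OverMorphism.ext (by
    change (π₂ ≫ π₁) ≫ b'.left = bt ≫ cMap τ
    rw [Category.assoc, hπ₂])
  have hp : (yon S).map at'' ≫ p = (yon S).map bt'' ≫ p := by
    rw [← hm', ← Category.assoc, ← Category.assoc, ← Functor.map_comp, ← Functor.map_comp, ← hqa, ← hqb,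
      Functor.map_comp, Functor.map_comp, Category.assoc, Category.assoc, hab]
  obtain ⟨r, hr1, hr2⟩ := Groth.Agent.Lib.H69AlgSp.exists_lift_yon sq _ _ hp
  rw [← Functor.map_comp] at hr1 hr2
  have hr1' := (yon S).map_injective hr1
  have hr2' := (yon S).map_injective hr2
  have hqq : q ≫ a' = q ≫ b' := by
    rw [hqa, hqb, ← hr1', ← hr2', Category.assoc, Category.assoc, hsc]
  have hqq' : (π₂ ≫ π₁) ≫ a'.left = (π₂ ≫ π₁) ≫ b'.left := congrArg (fun k => k.left) hqq
  have : Flat (π₂ ≫ π₁) := inferInstance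
  have : Surjective (π₂ ≫ π₁) := inferInstance
  have hepi : Epi (π₂ ≫ π₁) := Flat.epi_of_flat_of_surjective _
  exact Over.OverMorphism.ext ((cancel_epi (π₂ ≫ π₁)).1 hqq')

end Affine

section General

variable {S : Scheme.{u}} {X : Sp S} {K : Type u} [Field K]

/-- **Keystone.**  Let `p : h_{Spec K} ⟶ X` be a morphism of fppf sheaves from the spectrum of a field such that `Spec K ×_X Spec K` is
representable by a scheme `R` with `R ⟶ Spec K` finite.  Then `p` factors through a monomorphism `h_{Spec k₀} ⟶ X` where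
`Spec K ⟶ Spec k₀` is finite, flat and surjective (`K / k₀` a finite field extension). -/
theorem exists_mono_factor (strK : Spec (.of K) ⟶ S) (p : (yon S).obj (Over.mk strK) ⟶ X) {R : Over S}
    (s t : R ⟶ Over.mk strK) (sq : IsPullback ((yon S).map s) ((yon S).map t) p p)
    (hfin : IsFinite s.left) :
    ∃ (k₀ : Type u) (_ : Field k₀) (str₀ : Spec (.of k₀) ⟶ S) (c : Over.mk strK ⟶ Over.mk str₀)
      (m : (yon S).obj (Over.mk str₀) ⟶ X), (yon S).map c ≫ m = p ∧ Mono m ∧ IsFinite c.left ∧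
        Surjective c.left ∧ Flat c.left := by
  have hKaff : IsAffine (Over.mk strK).left := (inferInstance : IsAffine (Spec (.of K)))
  have hfin' := (HasAffineProperty.iff_of_isAffine (P := @IsFinite) (f := s.left)).1 hfin
  have hRaff : IsAffine R.left := hfin'.1
  obtain ⟨σ, hσ⟩ : ∃ σ : CommRingCat.of K ⟶ Γ(R.left, ⊤), s.left = R.left.toSpecΓ ≫ Spec.map σ :=
    ⟨_, eq_toSpecΓ_comp s.left⟩
  obtain ⟨τ', hτ⟩ : ∃ τ' : CommRingCat.of K ⟶ Γ(R.left, ⊤), t.left = R.left.toSpecΓ ≫ Spec.map τ' :=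
    ⟨_, eq_toSpecΓ_comp t.left⟩
  let A : Type u := ↑Γ(R.left, ⊤)
  let _ : Algebra K A := σ.hom.toAlgebra
  have hσfin : σ.hom.Finite := by
    have h1 : σ = (Scheme.ΓSpecIso (.of K)).inv ≫ s.left.appTop := by
      apply toSpecΓ_comp_SpecMap_injective
      rw [← hσ]
      exact eq_toSpecΓ_comp s.left
    rw [h1]
    exact RingHom.Finite.comp hfin'.2
      (RingHom.Finite.of_surjective _ (ConcreteCategory.bijective_of_isIso
        (Scheme.ΓSpecIso (CommRingCat.of K)).inv).2)
  have hmod : Module.Finite K A := RingHom.finite_algebraMap.1 hσfin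
  let τ : K →+* A := τ'.hom
  let e : R.left ≅ Spec (.of A) := R.left.isoSpec
  have he : e.hom = R.left.toSpecΓ := rfl
  have hs : e.hom ≫ sMap K A = s.left := by rw [he, hσ]; rfl
  have ht : e.hom ≫ tMap τ = t.left := by rw [he, hτ]; rfl
  have hst : sMap K A ≫ strK = tMap τ ≫ strK := by
    rw [← cancel_epi e.hom, ← Category.assoc, ← Category.assoc, hs, ht]
    exact (Over.w s).trans (Over.w t).symm
  let eO : R ≅ ptA K A strK := Over.isoMk e (by
    change e.hom ≫ sMap K A ≫ strK = R.hom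
    rw [← Category.assoc, hs]
    exact Over.w s)
  have hs' : eO.hom ≫ sOver K A strK = s := Over.OverMorphism.ext hs
  have ht' : eO.hom ≫ tOver τ strK hst = t := Over.OverMorphism.ext ht
  have sq' : IsPullback ((yon S).map (sOver K A strK)) ((yon S).map (tOver τ strK hst)) p p := by
    refine IsPullback.of_iso sq ((yon S).mapIso eO) (Iso.refl _) (Iso.refl _) (Iso.refl _) ?_ ?_ ?_ ?_
    · rw [Iso.refl_hom, Category.comp_id, Functor.mapIso_hom, ← Functor.map_comp, hs']
    · rw [Iso.refl_hom, Category.comp_id, Functor.mapIso_hom, ← Functor.map_comp, ht']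
    · simp
    · simp
  exact exists_mono_factor_affine τ strK hst p sq'

end General

end Groth.Agent.Lib.AlgSpFieldQuot

end
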