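import Groth.Agent.Lib.AlgSpFieldDim91b

/-!
# Algebraic spaces locally of finite type over a field point, over an arbitrary base scheme

Relative version of `AlgSpFieldDim91`: `X` is a sheaf over an arbitrary base scheme `S` with a morphism
`p : X ⟶ h_{Spec k}` locally of finite type, where `Spec k ⟶ S` is any field-valued point of `S`.
-/

set_option autoImplicit false
set_option maxHeartbeats 400000
universe u
open CategoryTheory CategoryTheory.Limits AlgebraicGeometry Topology TopologicalSpace

namespace Groth.Agent.Lib.AlgSpFieldRel91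

open AlgSp Groth.Agent.Lib.AlgSpPoints Groth.Agent.Lib.AlgSpDecentSpec Groth.Agent.Lib.SchFieldIso91
  Groth.Agent.Lib.AlgSpTrdeg91 Groth.Agent.Lib.AlgSpFieldDim91

variable {S : Scheme.{u}} {k : Type u} [Field k] {str : Spec (CommRingCat.of k) ⟶ S} {X : Sp S}
  (p : X ⟶ (yon S).obj (Over.mk str))

/-- The structure morphism of a chart to `Spec k`. -/
noncomputable def toK {U : Over S} (a : (yon S).obj U ⟶ X) : U ⟶ Over.mk str :=
  (yon S).preimage (a ≫ p)

theorem comm_toK {U : Over S} (a : (yon S).obj U ⟶ X) :
    a ≫ p = (yon S).map (toK p a) ≫ 𝟙 _ := by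
  rw [Category.comp_id, toK, Functor.map_preimage]

/-- The underlying morphism of schemes of `toK`. -/
noncomputable def toKl {U : Over S} (a : (yon S).obj U ⟶ X) : U.left ⟶ Spec (CommRingCat.of k) :=
  (toK p a).left

variable (hp : LocP @LocallyOfFiniteType p)

include hp in
theorem lft_chart {U : Over S} (a : (yon S).obj U ⟶ X)
    (ha : RepWith @Etale a) : LocallyOfFiniteType (toKl p a) :=
  hp a (𝟙 _) (toK p a) ha (repWith_id @Etale _) (comm_toK p a)

include hp in
/-- Fibre rigidity: no nontrivial specializations in the fibres of an étale chart. -/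
theorem eq_of_specializes_of_ofPt_eq {U : Over S} (a : (yon S).obj U ⟶ X)
    (ha : RepWith @Etale a) (u' u : ↥U.left) (hs : u' ⤳ u)
    (he : Points.ofPt a u' = Points.ofPt a u) : u' = u := by
  have hl := lft_chart p hp a ha
  have hid : RepWith @Etale (𝟙 ((yon S).obj (Over.mk str))) := repWith_id @Etale _
  have := resTrdeg_chart_indep p a (𝟙 _) (toK p a) a (𝟙 _) (toK p a) ha hid ha hid (comm_toK p a)
    (comm_toK p a) u' u he
  exact eq_of_specializes_of_resTrdeg_eq k U.left (toKl p a) u' u hs this

include hp in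
theorem isLocallyNoetherian_chart {U : Over S} (a : (yon S).obj U ⟶ X)
    (ha : RepWith @Etale a) : IsLocallyNoetherian U.left := by
  have hl := lft_chart p hp a ha
  exact LocallyOfFiniteType.isLocallyNoetherian (toKl p a)

include hp in
/-- Core: a point of a chart over a point `x` which is closed and has no proper generization in an open
neighbourhood is isolated in the chart. -/
theorem isOpen_singleton_chart {U : Over S} (a : (yon S).obj U ⟶ X)
    (ha : RepWith @Etale a) (u : ↥U.left) (W : Set (Points X)) (hW : IsOpen W)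
    (huW : Points.ofPt a u ∈ W)
    (h1 : ∀ y ∈ W, y ⤳ Points.ofPt a u → y = Points.ofPt a u)
    (h2 : ∀ y ∈ W, Points.ofPt a u ⤳ y → y = Points.ofPt a u) : IsOpen ({u} : Set ↥U.left) := by
  have hN := isLocallyNoetherian_chart p hp a ha
  have hcont := Points.continuous_ofPt a
  refine isOpen_singleton_of_isolated U.left u (Points.ofPt a ⁻¹' W) (hW.preimage hcont) huW ?_ ?_
  · intro u' hu'
    have hs := hu'.map hcont
    exact eq_of_specializes_of_ofPt_eq p hp a ha u' u hu' (h1 _ (hs.mem_open hW huW) hs)
  · intro u'' hu''W hu''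
    have hs := hu''.map hcont
    exact (eq_of_specializes_of_ofPt_eq p hp a ha u u'' hu'' (h2 _ hu''W hs).symm).symm

include hp in
/-- If `{x}` is open, every point of a chart over `x` is isolated. -/
theorem isOpen_singleton_chart_of_isOpen {U : Over S} (a : (yon S).obj U ⟶ X)
    (ha : RepWith @Etale a) (u : ↥U.left) (hx : IsOpen ({Points.ofPt a u} : Set (Points X))) :
    IsOpen ({u} : Set ↥U.left) :=
  isOpen_singleton_chart p hp a ha u _ hx rfl (fun _ hy _ => hy) (fun _ hy _ => hy)

include hp in
/-- Part (2) ⇔ (3). -/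
theorem isOpen_singleton_iff_isClosed_and (hX : IsAlgSpace X) (x : Points X) :
    IsOpen ({x} : Set (Points X)) ↔
      (IsClosed ({x} : Set (Points X)) ∧ ∀ x' : Points X, x' ⤳ x → x' = x) := by
  obtain ⟨U, a, ha, has⟩ := hX.atlas
  have hopen := Groth.Agent.Lib.H86AlgSpPoints.isOpenMap_ofPt ha
  have hcont := Points.continuous_ofPt a
  have hsurj := Groth.Agent.Lib.H86AlgSpPoints.ofPt_surjective has
  have hl := lft_chart p hp a ha
  have hN := isLocallyNoetherian_chart p hp a ha
  constructor
  · intro hx
    refine ⟨?_, fun x' hx' => hx'.mem_open hx rfl⟩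
    rw [← isOpen_compl_iff, ← (hopen.isQuotientMap hcont hsurj).isOpen_preimage,
      isOpen_iff_forall_mem_open]
    intro w hw
    set G : Set ↥U.left := Points.ofPt a ⁻¹' {x} with hG
    have hGo : IsOpen G := hx.preimage hcont
    -- points of `G` are open and closed in `U`
    have hGopen : ∀ g ∈ G, IsOpen ({g} : Set ↥U.left) := fun g hg =>
      isOpen_singleton_chart_of_isOpen p hp a ha g (by rw [show Points.ofPt a g = x from hg]; exact hx)
    have hGclosed : ∀ g ∈ G, IsClosed ({g} : Set ↥U.left) := by
      intro g hg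
      let _ : U.left.Over (Spec (CommRingCat.of k)) := ⟨toKl p a⟩
      have : LocallyOfFiniteType (U.left ↘ Spec (CommRingCat.of k)) := hl
      obtain ⟨c, hcG, hgc, hc⟩ := Groth.Agent.Lib.H30DimField.exists_closed_point k U.left g G hGo hg
      have : g = c := eq_of_specializes_of_ofPt_eq p hp a ha g c hgc
        (by rw [show Points.ofPt a g = x from hg, show Points.ofPt a c = x from hcG])
      rw [this]; exact hc
    obtain ⟨_, ⟨W', hW', rfl⟩, hwW', -⟩ :=
      (U.left.isBasis_affineOpens).exists_subset_of_mem_open (Set.mem_univ w) isOpen_univ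
    have hNR : IsNoetherianRing Γ(U.left, W') := IsLocallyNoetherian.component_noetherian ⟨W', hW'⟩
    have hNS : NoetherianSpace ↥W' := noetherianSpace_of_isAffineOpen W' hW'
    have hAc : IsCompact (G ∩ (W' : Set ↥U.left)) := by
      have h1 : IsCompact ((Subtype.val : ↥W' → ↥U.left) ⁻¹' G) := NoetherianSpace.isCompact _
      have h2 := h1.image continuous_subtype_val
      have h3 : (Subtype.val : ↥W' → ↥U.left) '' ((Subtype.val : ↥W' → ↥U.left) ⁻¹' G) =
          G ∩ (W' : Set ↥U.left) := by
        ext v
        constructor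
        · rintro ⟨⟨v, hv⟩, hvG, rfl⟩
          exact ⟨hvG, hv⟩
        · rintro ⟨hvG, hv⟩
          exact ⟨⟨v, hv⟩, hvG, rfl⟩
      rwa [h3] at h2
    have hAd : DiscreteTopology ↥(G ∩ (W' : Set ↥U.left)) := by
      rw [discreteTopology_iff_isOpen_singleton]
      rintro ⟨g, hg⟩
      have := (hGopen g hg.1).preimage (continuous_subtype_val (p := (· ∈ G ∩ (W' : Set ↥U.left))))
      convert this using 1
      ext ⟨g', hg'⟩; simp [Subtype.ext_iff]
    have hAf : (G ∩ (W' : Set ↥U.left)).Finite := hAc.finite ⟨hAd⟩
    have hAcl : IsClosed (G ∩ (W' : Set ↥U.left)) := by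
      rw [← Set.biUnion_of_singleton (G ∩ (W' : Set ↥U.left))]
      exact hAf.isClosed_biUnion (fun g hg => hGclosed g hg.1)
    refine ⟨(W' : Set ↥U.left) ∩ (G ∩ (W' : Set ↥U.left))ᶜ, ?_, W'.isOpen.inter hAcl.isOpen_compl,
      ⟨hwW', fun h => hw h.1⟩⟩
    rintro v ⟨hvW', hvn⟩ hvG
    exact hvn ⟨hvG, hvW'⟩
  · rintro ⟨hcl, hgen⟩
    obtain ⟨u, rfl⟩ := hsurj x
    have := isOpen_singleton_chart p hp a ha u Set.univ isOpen_univ trivial (fun y _ hy => hgen y hy)
      (fun y _ hy => by
        have : y ∈ closure ({Points.ofPt a u} : Set (Points X)) := hy.mem_closure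
        rw [hcl.closure_eq] at this
        exact this)
    have h2 := hopen _ this
    rwa [Set.image_singleton] at h2

include hp in
/-- Local dimension zero at a point of any chart iff the point of `|X|` is open. -/
theorem isOpen_singleton_iff_localDim_chart {U : Over S} (a : (yon S).obj U ⟶ X)
    (ha : RepWith @Etale a) (u : ↥U.left) :
    IsOpen ({Points.ofPt a u} : Set (Points X)) ↔ FlatMor.localDim ↥U.left u = 0 := by
  have hN := isLocallyNoetherian_chart p hp a ha
  constructor
  · intro hx
    exact (isOpen_singleton_iff_localDim_eq_zero U.left u).1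
      (isOpen_singleton_chart_of_isOpen p hp a ha u hx)
  · intro hu
    have h1 := (isOpen_singleton_iff_localDim_eq_zero U.left u).2 hu
    have h2 := Groth.Agent.Lib.H86AlgSpPoints.isOpenMap_ofPt ha _ h1
    rwa [Set.image_singleton] at h2

include hp in
/-- Part (3) ⇔ (4). -/
theorem isOpen_singleton_iff_hasAt (hX : IsAlgSpace X) (x : Points X) :
    IsOpen ({x} : Set (Points X)) ↔ HasAt (fun U u => FlatMor.localDim ↥U u = 0) X x := by
  constructor
  · intro hx
    obtain ⟨U, a, ha, has⟩ := hX.atlas
    obtain ⟨u, rfl⟩ := Groth.Agent.Lib.H86AlgSpPoints.ofPt_surjective has x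
    exact ⟨U, a, u, ha, rfl, (isOpen_singleton_iff_localDim_chart p hp a ha u).1 hx⟩
  · rintro ⟨U, a, u, ha, rfl, hu⟩
    exact (isOpen_singleton_iff_localDim_chart p hp a ha u).2 hu

include hp in
/-- Part (1) ⇔ (3) for decent spaces (only `T0` is used). -/
theorem localDim_points_eq_zero_iff (hX : IsAlgSpace X) [T0Space (Points X)] (x : Points X) :
    FlatMor.localDim (Points X) x = 0 ↔ IsOpen ({x} : Set (Points X)) := by
  constructor
  · intro h
    obtain ⟨W, hxW, hW⟩ := Groth.Agent.Lib.TopKrullDim.exists_open_dim_eq_localDim x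
    rw [h] at hW
    obtain ⟨U, a, ha, has⟩ := hX.atlas
    obtain ⟨u, rfl⟩ := Groth.Agent.Lib.H86AlgSpPoints.ofPt_surjective has x
    have key : ∀ y y' : Points X, y ∈ W → y' ∈ W → y ⤳ y' → y = y' := by
      intro y y' hy hy' hs
      have hs' : (⟨y, hy⟩ : ↥(W : Set (Points X))) ⤳ ⟨y', hy'⟩ :=
        Topology.IsInducing.subtypeVal.specializes_iff.1 hs
      exact congrArg Subtype.val (eq_of_specializes_of_dim_le_zero hW.le hs')
    have := isOpen_singleton_chart p hp a ha u W W.isOpen hxW
      (fun y hy hs => key y _ hy hxW hs) (fun y hy hs => (key _ y hxW hy hs).symm)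
    have h2 := Groth.Agent.Lib.H86AlgSpPoints.isOpenMap_ofPt ha _ this
    rwa [Set.image_singleton] at h2
  · exact localDim_eq_zero_of_isOpen_singleton x

include hp in
/-- (2) ⇒ (4), chartwise: if `|X|` is discrete, every étale chart is discrete. -/
theorem discreteTopology_chart [DiscreteTopology (Points X)] {U : Over S}
    (a : (yon S).obj U ⟶ X) (ha : RepWith @Etale a) : DiscreteTopology ↥U.left :=
  discreteTopology_iff_isOpen_singleton.2 fun u =>
    isOpen_singleton_chart_of_isOpen p hp a ha u (isOpen_discrete _)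

include hp in
/-- If all specializations in `|X|` are trivial then `|X|` is discrete. -/
theorem discreteTopology_of_forall_specializes_eq (hX : IsAlgSpace X)
    (h : ∀ y y' : Points X, y ⤳ y' → y = y') : DiscreteTopology (Points X) := by
  obtain ⟨U, a, ha, has⟩ := hX.atlas
  refine discreteTopology_iff_isOpen_singleton.2 fun x => ?_
  obtain ⟨u, rfl⟩ := Groth.Agent.Lib.H86AlgSpPoints.ofPt_surjective has x
  have := isOpen_singleton_chart p hp a ha u Set.univ isOpen_univ trivial
    (fun y _ hy => h _ _ hy) (fun y _ hy => (h _ _ hy).symm)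
  have h2 := Groth.Agent.Lib.H86AlgSpPoints.isOpenMap_ofPt ha _ this
  rwa [Set.image_singleton] at h2

theorem dim_nonneg (hX : IsAlgSpace X) [Nonempty (Points X)] : 0 ≤ AlgSp.dim X := by
  obtain ⟨U, a, ha, has⟩ := hX.atlas
  obtain ⟨x⟩ := ‹Nonempty (Points X)›
  obtain ⟨u, -⟩ := Groth.Agent.Lib.H86AlgSpPoints.ofPt_surjective has x
  have : Nonempty ↥U.left := ⟨u⟩
  refine (Groth.Agent.Lib.TopKrullDim.dim_nonneg_of_nonempty (X := ↥U.left)).trans ?_
  unfold AlgSp.dim
  exact le_iSup_of_le U (le_iSup_of_le a (le_iSup_of_le ha le_rfl))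

include hp in
/-- (2) ⇔ (4). -/
theorem discreteTopology_iff_dim_eq_zero (hX : IsAlgSpace X) [Nonempty (Points X)] :
    DiscreteTopology (Points X) ↔ AlgSp.dim X = 0 := by
  constructor
  · intro hd
    apply le_antisymm _ (dim_nonneg hX)
    unfold AlgSp.dim
    refine iSup_le fun U => iSup_le fun a => iSup_le fun ha => ?_
    have := discreteTopology_chart p hp a ha
    exact topologicalKrullDim_zero_of_discreteTopology _
  · intro hd
    obtain ⟨U, a, ha, has⟩ := hX.atlas
    have hN := isLocallyNoetherian_chart p hp a ha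
    have hU : topologicalKrullDim ↥U.left ≤ 0 := by
      rw [← hd]
      unfold AlgSp.dim
      exact le_iSup_of_le U (le_iSup_of_le a (le_iSup_of_le ha le_rfl))
    refine discreteTopology_iff_isOpen_singleton.2 fun x => ?_
    obtain ⟨u, rfl⟩ := Groth.Agent.Lib.H86AlgSpPoints.ofPt_surjective has x
    have h1 : IsOpen ({u} : Set ↥U.left) :=
      isOpen_singleton_of_isolated U.left u Set.univ isOpen_univ trivial
        (fun u' hu' => eq_of_specializes_of_dim_le_zero hU hu')
        (fun u'' _ hu'' => (eq_of_specializes_of_dim_le_zero hU hu'').symm)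
    have h2 := Groth.Agent.Lib.H86AlgSpPoints.isOpenMap_ofPt ha _ h1
    rwa [Set.image_singleton] at h2

include hp in
/-- (1) ⇒ (4) for decent spaces: a decent space with finitely many points has dimension `0`. -/
theorem dim_eq_zero_of_finite (hX : IsAlgSpace X) (hd : IsDecent X) [Nonempty (Points X)]
    [Finite (Points X)] : AlgSp.dim X = 0 := by
  apply le_antisymm _ (dim_nonneg hX)
  unfold AlgSp.dim
  refine iSup_le fun U => iSup_le fun a => iSup_le fun ha => ?_
  refine dim_le_zero_of_forall_specializes_eq fun u' u hs => ?_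
  obtain ⟨_, ⟨W, hW, rfl⟩, huW, -⟩ :=
    (U.left.isBasis_affineOpens).exists_subset_of_mem_open (Set.mem_univ u) isOpen_univ
  have hu'W : u' ∈ W := hs.mem_open W.isOpen huW
  have hb : RepWith @Etale ((yon _).map (restrictOverι U W) ≫ a) := repWith_etale_restrict a ha W
  have : IsAffine (restrictOver U W).left := hW
  have hl := lft_chart p hp _ hb
  have hJ : JacobsonSpace ↥(restrictOver U W).left :=
    LocallyOfFiniteType.jacobsonSpace (toKl p ((yon _).map (restrictOverι U W) ≫ a))
  have hfin : Finite ↥(restrictOver U W).left := by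
    rw [← Set.finite_univ_iff]
    refine Set.Finite.of_finite_fibers (Points.ofPt ((yon _).map (restrictOverι U W) ≫ a))
      (Set.toFinite _) (fun x _ => ?_)
    rw [Set.univ_inter]
    exact Groth.Agent.Lib.AlgSpValuative.finite_fibre_of_isDecent hd _ hb x
  let v' : ↥(restrictOver U W).left := (⟨u', hu'W⟩ : ↥W)
  let v : ↥(restrictOver U W).left := (⟨u, huW⟩ : ↥W)
  have hsv : v' ⤳ v := (subtype_specializes_iff (⟨u', hu'W⟩ : ↥W) ⟨u, huW⟩).2 hs
  -- `v'` is a closed point
  have hcl : IsClosed ({v'} : Set ↥(restrictOver U W).left) := by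
    have h1 := JacobsonSpace.closure_inter_closedPoints (X := ↥(restrictOver U W).left)
      (Z := closure {v'}) isClosed_closure
    have h2 : IsClosed (closure ({v'} : Set ↥(restrictOver U W).left) ∩
        closedPoints ↥(restrictOver U W).left) := by
      rw [← Set.biUnion_of_singleton (closure ({v'} : Set ↥(restrictOver U W).left) ∩
        closedPoints ↥(restrictOver U W).left)]
      exact (Set.toFinite _).isClosed_biUnion (fun t ht => ht.2)
    rw [h2.closure_eq] at h1
    have h3 : v' ∈ closure ({v'} : Set ↥(restrictOver U W).left) ∩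
        closedPoints ↥(restrictOver U W).left := by
      rw [h1]; exact subset_closure rfl
    exact h3.2
  have : v ∈ closure ({v'} : Set ↥(restrictOver U W).left) := hsv.mem_closure
  rw [hcl.closure_eq] at this
  exact (congrArg (Subtype.val : ↥W → ↥U.left) this).symm

end Groth.Agent.Lib.AlgSpFieldRel91
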