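import Groth.Prelude
import Groth.Agent.S10340
import Groth.Agent.Lib.AlgSpDecentFibre3
import Groth.Agent.Lib.AlgSpPoints
import Groth.Agent.Lib.AlgSpQC
import Groth.Agent.Lib.H86ZarLocBase

/-!
# helper46: finite morphisms of algebraic spaces on points

* `isClosedMap_of_repWith_isFinite`: a finite morphism is closed on points.
* `eq_of_specializes_of_repWith_isFinite`: incomparability: for `f : Y ⟶ X` finite with `X`, `Y`
  decent, two points of `|Y|` in the same fibre, one specializing to the other, are equal.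
* `exists_specialization_lift`: specializations lift along finite morphisms.
-/

set_option autoImplicit false
universe u
open CategoryTheory CategoryTheory.Limits AlgebraicGeometry Topology TopologicalSpace Opposite
open AlgSp Groth.Agent.Lib.AlgSpBasic Groth.Agent.Lib.AlgSpPoints

namespace Groth.Agent.Lib.AlgSpFiniteIncomp

variable {S : Scheme.{u}}

/-- A finite morphism is closed on points. -/
theorem isClosedMap_of_repWith_isFinite {X Y : Sp S} (f : Y ⟶ X) (hf : RepWith @IsFinite f) :
    IsClosedMap (Points.map f) := by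
  refine isClosedMap_map_of_representable hf.1 fun T g => ?_
  have : IsFinite (hf.1.snd g).left := hf.2 g _ _ (hf.1.isPullback g)
  exact (hf.1.snd g).left.isClosedMap

/-- Specializations lift along a morphism which is closed on points. -/
theorem exists_specialization_lift {X Y : Sp S} (f : Y ⟶ X) (hf : IsClosedMap (Points.map f))
    (a b : Points X) (h : a ⤳ b) (a' : Points Y) (ha' : Points.map f a' = a) :
    ∃ b' : Points Y, a' ⤳ b' ∧ Points.map f b' = b := by
  have h1 : IsClosed (Points.map f '' closure {a'}) := hf _ isClosed_closure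
  have h2 : a ∈ Points.map f '' closure {a'} := ⟨a', subset_closure rfl, ha'⟩
  have h3 : b ∈ Points.map f '' closure {a'} := h.mem_closed h1 h2
  obtain ⟨b', hb', hb⟩ := h3
  exact ⟨b', specializes_iff_mem_closure.2 hb', hb⟩

/-- Incomparability for finite morphisms of decent algebraic spaces. -/
theorem eq_of_specializes_of_repWith_isFinite {X Y : AlgSp.Space S} (f : Y ⟶ X)
    (hf : RepWith @IsFinite f.hom) (hX : IsDecent X.obj) (hY : IsDecent Y.obj)
    (d e : Points Y.obj) (h : d ⤳ e) (hfe : Points.map f.hom d = Points.map f.hom e) : d = e := by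
  obtain ⟨Z, a, hae, has⟩ := X.2.atlas
  obtain ⟨z, hz⟩ := Groth.Agent.Lib.AlgSpQC.surjective_ofPt_of_repWith_surjective has
    (Points.map f.hom e)
  have sq := hf.1.isPullback a
  have hfin : IsFinite (hf.1.snd a).left := hf.2 a _ _ sq
  obtain ⟨w, hw1, hw2⟩ := exists_of_isPullback_yon sq e z hz.symm
  have hfst : RepWith @Etale (hf.1.fst a) := repWith_fst_of_isPullback _ sq hae
  obtain ⟨pt, hpt, -, hq⟩ := hY d
  obtain ⟨w', hw's, hw'⟩ := Groth.Agent.Lib.AlgSpDecentFibre.exists_generization_of_quasiCompact
    e d h pt hpt hq (hf.1.fst a) hfst w hw2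
  -- the images in Z
  have hz' : (hf.1.snd a).left w' ⤳ (hf.1.snd a).left w :=
    hw's.map (hf.1.snd a).left.continuous
  have h1 : Points.ofPt a ((hf.1.snd a).left w') = Points.ofPt a ((hf.1.snd a).left w) := by
    rw [← ofPt_yon_map_comp, ← ofPt_yon_map_comp, ← sq.w, ← Points.map_ofPt, ← Points.map_ofPt,
      hw', hw2, hfe]
  have h2 : (hf.1.snd a).left w = (hf.1.snd a).left w' :=
    Groth.Agent.S10340.result X hX a hae _ _ h1.symm hz'
  -- discreteness of the fibre
  have hdisc := (hf.1.snd a).left.isDiscrete_preimage_singleton ((hf.1.snd a).left w)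
  have hw_mem : w ∈ (hf.1.snd a).left ⁻¹' {(hf.1.snd a).left w} := rfl
  have hw'_mem : w' ∈ (hf.1.snd a).left ⁻¹' {(hf.1.snd a).left w} := h2.symm
  have hsp : (⟨w', hw'_mem⟩ : ↥((hf.1.snd a).left ⁻¹' {(hf.1.snd a).left w})) ⤳ ⟨w, hw_mem⟩ :=
    (subtype_specializes_iff _ _).2 hw's
  have : DiscreteTopology ↥((hf.1.snd a).left ⁻¹' {(hf.1.snd a).left w}) := hdisc.to_subtype
  have heq := hsp.eq
  have : w' = w := congrArg Subtype.val heq
  rw [← hw', ← hw2, this]

end Groth.Agent.Lib.AlgSpFiniteIncomp
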