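import Mathlib.RingTheory.Support
import Mathlib.RingTheory.LocalRing.Module
import Mathlib.RingTheory.LocalRing.ResidueField.Ideal
import Mathlib.RingTheory.Flat.FaithfullyFlat.Basic
import Mathlib.RingTheory.Spectrum.Prime.Topology
import Mathlib.RingTheory.TensorProduct.Finite

/-!
Support of a base change of a finite module: `Supp (F ⊗[B] N)` is the preimage of `Supp N`.
-/

namespace Groth.Agent.Lib.SupportBaseChange

open TensorProduct

universe u v w

variable {B : Type u} {F : Type v} [CommRing B] [CommRing F] [Algebra B F]
  (N : Type w) [AddCommGroup N] [Module B N]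

/-- Base change of finite modules: a prime `x` of `F` lies in the support of `F ⊗[B] N` iff its
contraction lies in the support of `N`. -/
theorem mem_support_baseChange_iff [Module.Finite B N] (x : PrimeSpectrum F) :
    x ∈ Module.support F (F ⊗[B] N) ↔
      PrimeSpectrum.comap (algebraMap B F) x ∈ Module.support B N := by
  constructor
  · intro hx
    rw [Module.mem_support_iff_of_finite] at hx ⊢
    intro b hb
    simp only [PrimeSpectrum.comap_asIdeal, Ideal.mem_comap]
    apply hx
    rw [Module.mem_annihilator]
    intro m
    induction m using TensorProduct.induction_on with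
    | zero => simp
    | tmul f n =>
      rw [algebraMap_smul, ← TensorProduct.tmul_smul, Module.mem_annihilator.mp hb n,
        TensorProduct.tmul_zero]
    | add a b ha hb => rw [smul_add, ha, hb, add_zero]
  · intro hq
    set q : PrimeSpectrum B := PrimeSpectrum.comap (algebraMap B F) x with hqdef
    rw [Module.mem_support_iff_nontrivial_residueField_tensorProduct] at hq ⊢
    let K := q.asIdeal.ResidueField
    let L := x.asIdeal.ResidueField
    let φ : K →ₐ[B] L := Ideal.ResidueField.mapₐ q.asIdeal x.asIdeal (Algebra.ofId B F) rfl
    let _ : Algebra K L := φ.toRingHom.toAlgebra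
    have : IsScalarTower B K L := IsScalarTower.of_algebraMap_eq fun b ↦ by
      rw [RingHom.algebraMap_toAlgebra]
      exact (φ.commutes b).symm
    have : Nontrivial (K ⊗[B] N) := hq
    have h1 : Nontrivial (L ⊗[K] (K ⊗[B] N)) := inferInstance
    have e1 : L ⊗[K] (K ⊗[B] N) ≃ₗ[L] L ⊗[B] N :=
      AlgebraTensorModule.cancelBaseChange B K L L N
    have e2 : L ⊗[F] (F ⊗[B] N) ≃ₗ[L] L ⊗[B] N :=
      AlgebraTensorModule.cancelBaseChange B F L L N
    exact (e2.trans e1.symm).toEquiv.nontrivial

theorem support_baseChange [Module.Finite B N] :
    Module.support F (F ⊗[B] N) =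
      PrimeSpectrum.comap (algebraMap B F) ⁻¹' Module.support B N :=
  Set.ext fun x ↦ mem_support_baseChange_iff N x

end Groth.Agent.Lib.SupportBaseChange
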