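import Mathlib.AlgebraicGeometry.Morphisms.Etale
import Mathlib.AlgebraicGeometry.Morphisms.Flat
import Mathlib.RingTheory.Unramified.Locus
import Mathlib.RingTheory.Kaehler.TensorProduct
import Groth.Agent.Lib.SupportBaseChange

/-!
# The unramified locus of a morphism locally of finite type and base change (helper37)

* `formallyUnramified_stalkMap_iff`: on affine charts, the stalk map of `f` at `x` is formally
  unramified iff the prime of `x` lies in `Algebra.unramifiedLocus`.
* `isOpen_unramifiedLocus`, `unramifiedLocus f : X.Opens` for `f` locally of finite type.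
* `formallyUnramified_ι_comp_unramifiedLocus`, `exists_nhds_formallyUnramified_iff`.
* `Algebra.mem_unramifiedLocus_iff_of_isPushout` (ring level: unramified locus and base change).
* `formallyUnramified_stalkMap_iff_of_isPullback`, `unramifiedLocus_of_isPullback`: the unramified
  locus commutes with arbitrary base change.
* étale variants for flat morphisms locally of finite presentation.
-/

set_option autoImplicit false
universe u

open CategoryTheory Limits AlgebraicGeometry

namespace Groth.Agent.Lib.UnramifiedLocusBC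

section Ring

open TensorProduct

/-- Ring level: for `B = S ⊗[R] A` with `A` essentially of finite type over `R`, a prime of `B` is in
the unramified locus of `B/S` iff its contraction is in the unramified locus of `A/R`. -/
theorem mem_unramifiedLocus_iff_of_isPushout (R S A B : Type*) [CommRing R] [CommRing S]
    [Algebra R S] [CommRing A] [CommRing B] [Algebra R A] [Algebra R B] [Algebra A B] [Algebra S B]
    [IsScalarTower R A B] [IsScalarTower R S B] [Algebra.IsPushout R S A B]
    [Algebra.EssFiniteType R A] (q : PrimeSpectrum B) :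
    q ∈ Algebra.unramifiedLocus S B ↔
      PrimeSpectrum.comap (algebraMap A B) q ∈ Algebra.unramifiedLocus R A := by
  rw [Algebra.unramifiedLocus_eq_compl_support, Algebra.unramifiedLocus_eq_compl_support,
    Set.mem_compl_iff, Set.mem_compl_iff, not_iff_not,
    ← (KaehlerDifferential.tensorKaehlerEquiv R S A B).support_eq]
  exact Groth.Agent.Lib.SupportBaseChange.mem_support_baseChange_iff _ q

end Ring

variable {X Y : Scheme.{u}}

/-- On affine charts, the stalk map of `f` at `x` is formally unramified iff the prime of `x` lies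
in the unramified locus of the ring map of the chart. -/
lemma formallyUnramified_stalkMap_iff {f : X ⟶ Y} {x : X} (U : Y.Opens)
    (hU : IsAffineOpen U) (V : X.Opens) (hV : IsAffineOpen V) (hVU : V ≤ f ⁻¹ᵁ U)
    (hx : x ∈ V) :
    letI := (f.appLE U V hVU).hom.toAlgebra
    (f.stalkMap x).hom.FormallyUnramified ↔
      hV.primeIdealOf ⟨x, hx⟩ ∈ Algebra.unramifiedLocus Γ(Y, U) Γ(X, V) := by
  let := (f.appLE U V hVU).hom.toAlgebra
  let p := (hU.primeIdealOf ⟨f x, hVU hx⟩).asIdeal
  let q := (hV.primeIdealOf ⟨x, hx⟩).asIdeal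
  have : q.LiesOver p :=
    ⟨congr($(IsAffineOpen.comap_primeIdealOf_appLE U hU V hV hVU hx).1).symm⟩
  let := Localization.AtPrime.algebraOfLiesOver p q
  trans Algebra.FormallyUnramified (Localization.AtPrime p) (Localization.AtPrime q)
  · rw [← RingHom.formallyUnramified_algebraMap]
    exact RingHom.FormallyUnramified.respectsIso.arrow_mk_iso_iff
      (IsAffineOpen.arrowStalkMapIso f U hU V hV hVU hx)
  · refine ⟨fun _ ↦ ?_, fun h ↦ ?_⟩
    · exact (Algebra.FormallyUnramified.comp _ (Localization.AtPrime p) _ :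
        Algebra.FormallyUnramified Γ(Y, U) (Localization.AtPrime q))
    · have : Algebra.FormallyUnramified Γ(Y, U) (Localization.AtPrime q) := h
      exact .of_restrictScalars Γ(Y, U) _ _

lemma stalkMap_comp_iff_of_isOpenImmersion {U : Scheme.{u}} (j : U ⟶ X) [IsOpenImmersion j]
    (f : X ⟶ Y) (u : U) :
    ((j ≫ f).stalkMap u).hom.FormallyUnramified ↔ (f.stalkMap (j u)).hom.FormallyUnramified := by
  have h := RingHom.FormallyUnramified.respectsIso.cancel_right_isIso (f.stalkMap (j u))
    (j.stalkMap u)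
  rwa [← CommRingCat.hom_comp, ← Scheme.Hom.stalkMap_comp] at h

set_option backward.defeqAttrib.useBackward true in
set_option backward.isDefEq.respectTransparency false in
lemma mem_basicOpen_iff_primeIdealOf {V : X.Opens} (hV : IsAffineOpen V) (r : Γ(X, V)) {y : X}
    (hy : y ∈ V) :
    y ∈ X.basicOpen r ↔ hV.primeIdealOf ⟨y, hy⟩ ∈ PrimeSpectrum.basicOpen r := by
  rw [IsAffineOpen.primeIdealOf,
    ← hV.fromSpec_preimage_basicOpen, Scheme.Hom.mem_preimage, ← Scheme.Hom.comp_apply,
    IsAffineOpen.isoSpec_hom, IsAffineOpen.toSpecΓ_fromSpec]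
  rfl

/-- Around a point with formally unramified stalk map there is an open neighbourhood of such
points (`f` locally of finite type). -/
lemma exists_opens_of_formallyUnramified_stalk (f : X ⟶ Y) [LocallyOfFiniteType f] (x : X)
    (H : (f.stalkMap x).hom.FormallyUnramified) :
    ∃ W : X.Opens, x ∈ W ∧ ∀ y ∈ W, (f.stalkMap y).hom.FormallyUnramified := by
  obtain ⟨_, ⟨U, hU, rfl⟩, hxU, -⟩ :=
    Y.isBasis_affineOpens.exists_subset_of_mem_open (Set.mem_univ (f x)) isOpen_univ
  obtain ⟨_, ⟨V, hV, rfl⟩, hxV, hVU⟩ :=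
    X.isBasis_affineOpens.exists_subset_of_mem_open hxU (U.2.preimage f.continuous)
  have := f.finiteType_appLE hU hV hVU
  algebraize [(f.appLE U V hVU).hom]
  have : Algebra.IsUnramifiedAt Γ(Y, U) (hV.primeIdealOf ⟨x, hxV⟩).asIdeal :=
    (formallyUnramified_stalkMap_iff U hU V hV hVU hxV).mp H
  obtain ⟨r, hrx, hr⟩ := Algebra.exists_formallyUnramified_of_isUnramifiedAt (R := Γ(Y, U))
    (hV.primeIdealOf ⟨x, hxV⟩).asIdeal
  refine ⟨X.basicOpen r, (mem_basicOpen_iff_primeIdealOf hV r hxV).mpr hrx, fun y hy ↦ ?_⟩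
  have hyV : y ∈ V := X.basicOpen_le r hy
  rw [formallyUnramified_stalkMap_iff U hU V hV hVU hyV]
  exact Algebra.basicOpen_subset_unramifiedLocus_iff.mpr hr
    ((mem_basicOpen_iff_primeIdealOf hV r hyV).mp hy)

lemma isOpen_unramifiedLocus (f : X ⟶ Y) [LocallyOfFiniteType f] :
    IsOpen { x | (f.stalkMap x).hom.FormallyUnramified } := by
  refine isOpen_iff_forall_mem_open.mpr fun x hx ↦ ?_
  obtain ⟨W, hxW, hW⟩ := exists_opens_of_formallyUnramified_stalk f x hx
  exact ⟨W, hW, W.2, hxW⟩

/-- The unramified locus of a morphism locally of finite type, as an open subset. -/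
def unramifiedLocus (f : X ⟶ Y) [LocallyOfFiniteType f] : X.Opens :=
  ⟨{ x | (f.stalkMap x).hom.FormallyUnramified }, isOpen_unramifiedLocus f⟩

lemma mem_unramifiedLocus {f : X ⟶ Y} [LocallyOfFiniteType f] {x : X} :
    x ∈ unramifiedLocus f ↔ (f.stalkMap x).hom.FormallyUnramified := .rfl

lemma formallyUnramified_of_forall_stalkMap (f : X ⟶ Y)
    (H : ∀ x, (f.stalkMap x).hom.FormallyUnramified) : FormallyUnramified f :=
  HasRingHomProperty.of_stalkMap RingHom.FormallyUnramified.ofLocalizationPrime H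

lemma formallyUnramified_ι_comp_of_le {f : X ⟶ Y} (U : X.Opens)
    (hU : ∀ x ∈ U, (f.stalkMap x).hom.FormallyUnramified) : FormallyUnramified (U.ι ≫ f) :=
  formallyUnramified_of_forall_stalkMap _ fun u ↦
    (stalkMap_comp_iff_of_isOpenImmersion U.ι f u).mpr (hU _ u.2)

instance (f : X ⟶ Y) [LocallyOfFiniteType f] : FormallyUnramified ((unramifiedLocus f).ι ≫ f) :=
  formallyUnramified_ι_comp_of_le _ fun _ h ↦ h

/-- `f` (locally of finite type) is formally unramified on an open neighbourhood of `x` iff its stalk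
map at `x` is formally unramified. -/
theorem exists_nhds_formallyUnramified_iff (f : X ⟶ Y) [LocallyOfFiniteType f] (x : X) :
    (∃ U : X.Opens, x ∈ U ∧ FormallyUnramified (U.ι ≫ f)) ↔
      (f.stalkMap x).hom.FormallyUnramified := by
  constructor
  · rintro ⟨U, hxU, hU⟩
    exact (stalkMap_comp_iff_of_isOpenImmersion U.ι f ⟨x, hxU⟩).mp
      (FormallyUnramified.stalkMap (U.ι ≫ f) ⟨x, hxU⟩)
  · intro H
    exact ⟨unramifiedLocus f, H, inferInstance⟩

/-- The stalkwise unramified locus commutes with arbitrary base change (`f` locally of finite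
type). -/
theorem formallyUnramified_stalkMap_iff_of_isPullback {P X Y Z : Scheme.{u}} {fst : P ⟶ X}
    {snd : P ⟶ Y} {f : X ⟶ Z} {g : Y ⟶ Z} (h : IsPullback fst snd f g) [LocallyOfFiniteType f]
    (p : P) :
    (snd.stalkMap p).hom.FormallyUnramified ↔ (f.stalkMap (fst p)).hom.FormallyUnramified := by
  obtain ⟨_, ⟨V, hV, rfl⟩, hzV, -⟩ :=
    Z.isBasis_affineOpens.exists_subset_of_mem_open (Set.mem_univ (f (fst p))) isOpen_univ
  obtain ⟨_, ⟨W, hW, rfl⟩, hxW, hWV⟩ :=
    X.isBasis_affineOpens.exists_subset_of_mem_open hzV (V.2.preimage f.continuous)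
  have hg : g (snd p) ∈ V := by
    have : g (snd p) = f (fst p) := by
      rw [← Scheme.Hom.comp_apply, ← h.w, Scheme.Hom.comp_apply]
    rw [this]; exact hzV
  obtain ⟨_, ⟨V', hV', rfl⟩, hyV', hV'V⟩ :=
    Y.isBasis_affineOpens.exists_subset_of_mem_open hg (V.2.preimage g.continuous)
  let W' : P.Opens := fst ⁻¹ᵁ W ⊓ snd ⁻¹ᵁ V'
  have hpW' : p ∈ W' := ⟨hxW, hyV'⟩
  have hW' : IsAffineOpen W' := by
    have : IsAffine V := hV
    have : IsAffine V' := hV'
    have : IsAffine W := hW
    exact .of_isIso (Scheme.Hom.isPullback_resLE h hV'V hWV rfl).isoPullback.hom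
  have hW'W : W' ≤ fst ⁻¹ᵁ W := inf_le_left
  have hW'V' : W' ≤ snd ⁻¹ᵁ V' := inf_le_right
  have hpo : IsPushout (f.appLE V W hWV) (g.appLE V V' hV'V) (fst.appLE W W' hW'W)
      (snd.appLE V' W' hW'V') :=
    (isIso_pushoutSection_iff h hV'V hWV rfl).mp
      (isIso_pushoutSection_of_isAffineOpen h hV'V hWV rfl hV hV' hW)
  rw [formallyUnramified_stalkMap_iff V' hV' W' hW' hW'V' hpW',
    formallyUnramified_stalkMap_iff V hV W hW hWV hxW]
  let := (f.appLE V W hWV).hom.toAlgebra
  let := (g.appLE V V' hV'V).hom.toAlgebra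
  let := (fst.appLE W W' hW'W).hom.toAlgebra
  let := (snd.appLE V' W' hW'V').hom.toAlgebra
  let : Algebra Γ(Z, V) Γ(P, W') := ((f.appLE V W hWV) ≫ (fst.appLE W W' hW'W)).hom.toAlgebra
  have : IsScalarTower Γ(Z, V) Γ(X, W) Γ(P, W') := .of_algebraMap_eq' rfl
  have : IsScalarTower Γ(Z, V) Γ(Y, V') Γ(P, W') := .of_algebraMap_eq' congr(($hpo.w).hom)
  have : Algebra.IsPushout Γ(Z, V) Γ(Y, V') Γ(X, W) Γ(P, W') :=
    CommRingCat.isPushout_iff_isPushout.mp hpo.flip
  have : Algebra.FiniteType Γ(Z, V) Γ(X, W) := f.finiteType_appLE hV hW hWV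
  rw [mem_unramifiedLocus_iff_of_isPushout Γ(Z, V) Γ(Y, V') Γ(X, W) Γ(P, W')]
  have := IsAffineOpen.comap_primeIdealOf_appLE W hW W' hW' hW'W hpW'
  rw [← this]
  rfl

/-- The unramified locus commutes with base change. -/
theorem unramifiedLocus_of_isPullback {P X Y Z : Scheme.{u}} {fst : P ⟶ X}
    {snd : P ⟶ Y} {f : X ⟶ Z} {g : Y ⟶ Z} (h : IsPullback fst snd f g) [LocallyOfFiniteType f]
    [LocallyOfFiniteType snd] :
    unramifiedLocus snd = fst ⁻¹ᵁ unramifiedLocus f := by
  ext p
  exact formallyUnramified_stalkMap_iff_of_isPullback h p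

/-- Having a formally unramified open neighbourhood commutes with base change. -/
theorem exists_nhds_formallyUnramified_iff_of_isPullback {P X Y Z : Scheme.{u}} {fst : P ⟶ X}
    {snd : P ⟶ Y} {f : X ⟶ Z} {g : Y ⟶ Z} (h : IsPullback fst snd f g) [LocallyOfFiniteType f]
    (p : P) :
    (∃ U' : P.Opens, p ∈ U' ∧ FormallyUnramified (U'.ι ≫ snd)) ↔
      (∃ U : X.Opens, fst p ∈ U ∧ FormallyUnramified (U.ι ≫ f)) := by
  have : LocallyOfFiniteType snd := MorphismProperty.of_isPullback h inferInstance
  rw [exists_nhds_formallyUnramified_iff, exists_nhds_formallyUnramified_iff]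
  exact formallyUnramified_stalkMap_iff_of_isPullback h p

/-- For a flat morphism locally of finite presentation, being étale on an open is being formally
unramified there. -/
theorem etale_ι_comp_iff {f : X ⟶ Y} [Flat f] [LocallyOfFinitePresentation f] (U : X.Opens) :
    Etale (U.ι ≫ f) ↔ FormallyUnramified (U.ι ≫ f) := by
  rw [Etale.iff_flat_and_formallyUnramified]
  exact ⟨fun h ↦ h.2.1, fun h ↦ ⟨inferInstance, h, inferInstance⟩⟩

/-- A flat morphism locally of finite presentation is étale on an open neighbourhood of `x` iff its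
stalk map at `x` is formally unramified. -/
theorem exists_nhds_etale_iff (f : X ⟶ Y) [Flat f] [LocallyOfFinitePresentation f] (x : X) :
    (∃ U : X.Opens, x ∈ U ∧ Etale (U.ι ≫ f)) ↔ (f.stalkMap x).hom.FormallyUnramified := by
  simp only [etale_ι_comp_iff]
  exact exists_nhds_formallyUnramified_iff f x

/-- Having an étale open neighbourhood commutes with base change (flat, locally of finite
presentation). -/
theorem exists_nhds_etale_iff_of_isPullback {P X Y Z : Scheme.{u}} {fst : P ⟶ X}
    {snd : P ⟶ Y} {f : X ⟶ Z} {g : Y ⟶ Z} (h : IsPullback fst snd f g) [Flat f]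
    [LocallyOfFinitePresentation f] (p : P) :
    (∃ U' : P.Opens, p ∈ U' ∧ Etale (U'.ι ≫ snd)) ↔
      (∃ U : X.Opens, fst p ∈ U ∧ Etale (U.ι ≫ f)) := by
  have : LocallyOfFinitePresentation snd := MorphismProperty.of_isPullback h inferInstance
  have : Flat snd := MorphismProperty.of_isPullback h inferInstance
  rw [exists_nhds_etale_iff, exists_nhds_etale_iff]
  exact formallyUnramified_stalkMap_iff_of_isPullback h p

end Groth.Agent.Lib.UnramifiedLocusBC
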