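import Groth.Agent.Lib.AlgSpQFBC91
import Groth.Agent.Lib.UnramifiedLocusBC

set_option autoImplicit false
universe u
open CategoryTheory CategoryTheory.Limits AlgebraicGeometry Opposite

namespace Groth.Agent.Lib.AlgSpNear91

open AlgSp Groth.Agent.Lib.AlgSpPoints Groth.Agent.Lib.AlgSpDecentSpec
  Groth.Agent.Lib.AlgSpTrdeg91 Groth.Agent.Lib.AlgSpQFAt91 Groth.Agent.Lib.AlgSpBasic
  Groth.Agent.Lib.AlgSpLocP Groth.Agent.Lib.AlgSpQFBC91

variable {S : Scheme.{u}}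

/-- A predicate on pairs (morphism of schemes, point of the source) which is étale local on the source and on the target. -/
structure EtLocalAt (Q : ∀ (U V : Scheme.{u}), (U ⟶ V) → ↥U → Prop) : Prop where
  src : ∀ ⦃P U V : Scheme.{u}⦄ (e : P ⟶ U) (h : U ⟶ V) (p : ↥P), Etale e →
    (Q P V (e ≫ h) p ↔ Q U V h (e p))
  tgt : ∀ ⦃U V V' : Scheme.{u}⦄ (h : U ⟶ V) (e : V ⟶ V') (u : ↥U), Etale e →
    (Q U V' (h ≫ e) u ↔ Q U V h u)

/-- **Chart independence** for a predicate which is étale local on source and target. -/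
theorem EtLocalAt.chart_indep {Q : ∀ (U V : Scheme.{u}), (U ⟶ V) → ↥U → Prop} (hQ : EtLocalAt Q)
    {X Y : Sp S} (f : X ⟶ Y)
    {U V U' V' : Over S} (a : (yon S).obj U ⟶ X) (b : (yon S).obj V ⟶ Y) (h : U ⟶ V)
    (a' : (yon S).obj U' ⟶ X) (b' : (yon S).obj V' ⟶ Y) (h' : U' ⟶ V')
    (ha : RepWith @Etale a) (hb : RepWith @Etale b) (ha' : RepWith @Etale a')
    (hb' : RepWith @Etale b') (hc : a ≫ f = (yon S).map h ≫ b) (hc' : a' ≫ f = (yon S).map h' ≫ b')
    (u : ↥U.left) (u' : ↥U'.left) (hu : Points.ofPt a u = Points.ofPt a' u') :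
    Q _ _ h.left u ↔ Q _ _ h'.left u' := by
  -- P = U' ×_X U
  have hrP := ((repWith_iff _ _).1 ha').1
  have sqP := hrP.isPullback' a
  obtain ⟨p, hp1, hp2⟩ := exists_point_of_ofPt_eq sqP u' u hu.symm
  have e1 : Etale (hrP.snd a).left := ((repWith_iff _ _).1 ha').2 _ _ _ sqP
  have e2 : Etale (hrP.fst' a).left := ((repWith_iff _ _).1 ha).2 _ _ _ sqP.flip
  -- Q = V' ×_Y V
  have hrQ := ((repWith_iff _ _).1 hb').1
  have sqQ := hrQ.isPullback' b
  have e3 : Etale (hrQ.snd b).left := ((repWith_iff _ _).1 hb').2 _ _ _ sqQ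
  have e4 : Etale (hrQ.fst' b).left := ((repWith_iff _ _).1 hb).2 _ _ _ sqQ.flip
  -- k : P ⟶ Q
  have hk : (yon S).map (hrP.fst' a ≫ h') ≫ b' = (yon S).map (hrP.snd a ≫ h) ≫ b := by
    rw [Functor.map_comp, Functor.map_comp, Category.assoc, Category.assoc, ← hc, ← hc',
      ← Category.assoc, ← Category.assoc, sqP.w]
  let k := hrQ.lift' (hrP.fst' a ≫ h') (hrP.snd a ≫ h) hk
  have k1 : k ≫ hrQ.fst' b = hrP.fst' a ≫ h' := hrQ.lift'_fst _ _ hk
  have k2 : k ≫ hrQ.snd b = hrP.snd a ≫ h := hrQ.lift'_snd _ _ hk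
  have k1' : k.left ≫ (hrQ.fst' b).left = (hrP.fst' a).left ≫ h'.left := by
    rw [← Over.comp_left, k1, Over.comp_left]
  have k2' : k.left ≫ (hrQ.snd b).left = (hrP.snd a).left ≫ h.left := by
    rw [← Over.comp_left, k2, Over.comp_left]
  have r1 : Q _ _ h.left u ↔ Q _ _ k.left p := by
    rw [← hp2, ← hQ.src (hrP.snd a).left h.left p e1, ← k2', hQ.tgt _ _ _ e3]
  have r2 : Q _ _ h'.left u' ↔ Q _ _ k.left p := by
    rw [← hp1, ← hQ.src (hrP.fst' a).left h'.left p e2, ← k1', hQ.tgt _ _ _ e4]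
  rw [r1, r2]

/-- `HasAtMor Q` can be tested on any chart diagram. -/
theorem EtLocalAt.hasAtMor_iff {Q : ∀ (U V : Scheme.{u}), (U ⟶ V) → ↥U → Prop} (hQ : EtLocalAt Q)
    {X Y : Sp S} (f : X ⟶ Y) {U V : Over S} (a : (yon S).obj U ⟶ X) (c : (yon S).obj V ⟶ Y) (h : U ⟶ V)
    (ha : RepWith @Etale a) (hc : RepWith @Etale c) (hcomm : a ≫ f = (yon S).map h ≫ c) (u : ↥U.left) :
    HasAtMor Q f (Points.ofPt a u) ↔ Q _ _ h.left u := by
  constructor
  · rintro ⟨U', V', a', c', h', u', ha', hc', hcomm', hu', hq⟩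
    exact (hQ.chart_indep f a' c' h' a c h ha' hc' ha hc hcomm' hcomm u' u hu').1 hq
  · intro hq
    exact ⟨U, V, a, c, h, u, ha, hc, hcomm, rfl, hq⟩

/-- **Base change** for a predicate which is étale local on source and target and compatible with base change of
schemes (for morphisms locally of finite type). -/
theorem EtLocalAt.hasAtMor_baseChange {Q : ∀ (U V : Scheme.{u}), (U ⟶ V) → ↥U → Prop}
    (hQ : EtLocalAt Q)
    (hbc : ∀ ⦃U V U'' V'' : Scheme.{u}⦄ (h : U ⟶ V) (h'' : U'' ⟶ V'') (gU : U'' ⟶ U) (gV : V'' ⟶ V),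
      IsPullback gU h'' h gV → LocallyOfFiniteType h → ∀ u'' : ↥U'', (Q _ _ h'' u'' ↔ Q _ _ h (gU u'')))
    {X Y X'' Y'' : Sp S} (hX : IsAlgSpace X) (hY : IsAlgSpace Y)
    (hX'' : IsAlgSpace X'') (hY'' : IsAlgSpace Y'')
    {f : X ⟶ Y} {g : Y'' ⟶ Y} {b : X'' ⟶ X} {f'' : X'' ⟶ Y''} (sq : IsPullback b f'' f g)
    (hf : LocP @LocallyOfFiniteType f) (x'' : Points X'') :
    HasAtMor Q f'' x'' ↔ HasAtMor Q f (Points.map b x'') := by
  obtain ⟨U, V, U'', V'', a, c, a'', c'', h, h'', gU, gV, u'', ha, hc, ha'', hc'', hcf, hcf'', hab, -,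
    sqA, rfl⟩ := exists_baseChange_chart hX hY hX'' hY'' sq x''
  have hl : LocallyOfFiniteType h.left := hf a c h ha hc hcf
  have hpt : Points.map b (Points.ofPt a'' u'') = Points.ofPt a (gU.left u'') := by
    rw [Points.map_ofPt, hab, ofPt_yon_map_comp]
  rw [hpt, hQ.hasAtMor_iff f a c h ha hc hcf, hQ.hasAtMor_iff f'' a'' c'' h'' ha'' hc'' hcf'']
  exact hbc h.left h''.left gU.left gV.left sqA hl u''

/-- The locus of a "near a point" predicate is open. -/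
theorem isOpen_hasAtMor_near (P : MorphismProperty Scheme.{u}) {X Y : Sp S} (f : X ⟶ Y) :
    IsOpen {x : Points X | HasAtMor (fun U _ h u => ∃ W : U.Opens, u ∈ W ∧ P (W.ι ≫ h)) f x} := by
  rw [isOpen_iff_forall_mem_open]
  rintro x ⟨U, V, a, c, h, u, ha, hc, hcomm, rfl, W, huW, hW⟩
  refine ⟨Points.ofPt a '' (W : Set ↥U.left), ?_,
    Groth.Agent.Lib.H86AlgSpPoints.isOpenMap_ofPt ha _ W.isOpen, ⟨u, huW, rfl⟩⟩
  rintro _ ⟨u', hu', rfl⟩
  exact ⟨U, V, a, c, h, u', ha, hc, hcomm, rfl, W, hu', hW⟩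

/-- For an étale local class `P`, the predicate "`P` holds on an open neighbourhood of the point" is étale local on source
and target. -/
theorem etLocalAt_near {P : MorphismProperty Scheme.{u}} (hP : EtLocalClass P) :
    EtLocalAt (fun U _ h u => ∃ W : U.Opens, u ∈ W ∧ P (W.ι ≫ h)) where
  src := by
    intro A U V e h p he
    constructor
    · rintro ⟨W', hpW', hW'⟩
      let W : U.Opens := ⟨e '' (W' : Set ↥A), e.isOpenMap _ W'.isOpen⟩
      have hle : W' ≤ e ⁻¹ᵁ W := fun x hx => ⟨x, hx, rfl⟩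
      have hfac : e.resLE W W' hle ≫ W.ι = W'.ι ≫ e := Scheme.Hom.resLE_comp_ι _ _
      have het : Etale (e.resLE W W' hle ≫ W.ι) := by
        rw [hfac]; infer_instance
      have hetr : Etale (e.resLE W W' hle) := Etale.of_comp _ W.ι
      have hsurj : Surjective (e.resLE W W' hle) := by
        refine ⟨fun w => ?_⟩
        obtain ⟨x, hx, hxw⟩ := w.2
        refine ⟨⟨x, hx⟩, ?_⟩
        apply W.ι.injective
        rw [← Scheme.Hom.comp_apply, hfac, Scheme.Hom.comp_apply]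
        exact hxw
      refine ⟨W, ⟨p, hpW', rfl⟩, hP.src (e.resLE W W' hle) (W.ι ≫ h) hetr hsurj ?_⟩
      rw [← Category.assoc, hfac, Category.assoc]
      exact hW'
    · rintro ⟨W, hpW, hW⟩
      refine ⟨e ⁻¹ᵁ W, hpW, ?_⟩
      have hfac : e.resLE W (e ⁻¹ᵁ W) le_rfl ≫ W.ι = (e ⁻¹ᵁ W).ι ≫ e := Scheme.Hom.resLE_comp_ι _ _
      have hetr : Etale (e.resLE W (e ⁻¹ᵁ W) le_rfl) := by
        rw [Scheme.Hom.resLE_eq_morphismRestrict]; infer_instance
      rw [← Category.assoc, ← hfac, Category.assoc]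
      exact hP.pre _ _ hetr hW
  tgt := by
    intro U V V' h e u he
    constructor
    · rintro ⟨W, huW, hW⟩
      refine ⟨W, huW, hP.cancel (W.ι ≫ h) e he ?_⟩
      rw [Category.assoc]; exact hW
    · rintro ⟨W, huW, hW⟩
      refine ⟨W, huW, ?_⟩
      rw [← Category.assoc]
      exact hP.post _ _ hW he

/-- "Unramified on a neighbourhood" commutes with base change of schemes. -/
theorem unramified_near_baseChange ⦃U V U'' V'' : Scheme.{u}⦄ (h : U ⟶ V) (h'' : U'' ⟶ V'')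
    (gU : U'' ⟶ U) (gV : V'' ⟶ V) (sq : IsPullback gU h'' h gV) (hl : LocallyOfFiniteType h)
    (u'' : ↥U'') :
    (∃ W : U''.Opens, u'' ∈ W ∧ (@LocallyOfFiniteType ⊓ @FormallyUnramified) (W.ι ≫ h'')) ↔
      ∃ W : U.Opens, gU u'' ∈ W ∧ (@LocallyOfFiniteType ⊓ @FormallyUnramified) (W.ι ≫ h) := by
  have hl'' : LocallyOfFiniteType h'' := MorphismProperty.of_isPullback sq hl
  have key := Groth.Agent.Lib.UnramifiedLocusBC.exists_nhds_formallyUnramified_iff_of_isPullback sq u''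
  constructor
  · rintro ⟨W, hW, -, hWu⟩
    obtain ⟨W₁, hW₁, hW₁u⟩ := key.1 ⟨W, hW, hWu⟩
    exact ⟨W₁, hW₁, inferInstance, hW₁u⟩
  · rintro ⟨W, hW, -, hWu⟩
    obtain ⟨W₁, hW₁, hW₁u⟩ := key.2 ⟨W, hW, hWu⟩
    exact ⟨W₁, hW₁, inferInstance, hW₁u⟩

end Groth.Agent.Lib.AlgSpNear91
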