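import Groth.Agent.Lib.CritFibFib88
import Groth.Agent.Lib.EtaleLocusBC

/-!
# Base change of the flat locus of `U ⟶ V` over `W`, for `U` flat and locally of finite presentation over `W` (helper36)

Scheme-level statement behind Stacks "flat locus commutes with base change" (structure sheaf case):
for `U ⟶ V ⟶ W` with `U/W` flat lfp, `V/W` lft, and a base change `W' ⟶ W`, the map `U' ⟶ V'` is flat at `u'`
iff `U ⟶ V` is flat at the image of `u'`.
-/

set_option autoImplicit false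
set_option linter.style.haveILetI false
universe u
open CategoryTheory CategoryTheory.Limits AlgebraicGeometry TensorProduct

namespace Groth.Agent.Lib.FlatLocusBC36

open Groth.Agent.Lib.CritFibFib88

variable {U V W U' V' W' : Scheme.{u}}

/-- The hard direction of the fibrewise criterion, with a free base point and a free point of the fibre. -/
theorem flat_stalkMap_of_fibre_flat (k₁ : U ⟶ V) (k₂ : V ⟶ W) [LocallyOfFinitePresentation (k₁ ≫ k₂)]
    [LocallyOfFiniteType k₂] (x : U) (w : W) (hw : (k₁ ≫ k₂) x = w) (ξ : ↥((k₁ ≫ k₂).fiber w))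
    (hξ : (k₁ ≫ k₂).fiberι w ξ = x) (h1 : ((k₁ ≫ k₂).stalkMap x).hom.Flat)
    (h2 : ((MoreMor.fiberMap k₁ k₂ w).stalkMap ξ).hom.Flat) :
    (k₁.stalkMap x).hom.Flat := by
  subst hw
  have hξ' : ξ = (k₁ ≫ k₂).asFiber x :=
    ((k₁ ≫ k₂).fiberι _).isEmbedding.injective (by rw [hξ, Scheme.Hom.fiberι_asFiber])
  subst hξ'
  exact (((critere_platitude_par_fibres k₁ k₂).1 x).1 ⟨h1, h2⟩).2

/-- Easy direction: if `k₁` is flat at `x` then the map of fibres is flat at `x`. -/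
theorem fibre_flat_of_flat_stalkMap (k₁ : U ⟶ V) (k₂ : V ⟶ W) (x : U)
    (h : (k₁.stalkMap x).hom.Flat) :
    ((MoreMor.fiberMap k₁ k₂ (k₂ (k₁ x))).stalkMap ((k₁ ≫ k₂).asFiber x)).hom.Flat := by
  letI algST : Algebra (V.presheaf.stalk (k₁ x)) (U.presheaf.stalk x) := (k₁.stalkMap x).hom.toAlgebra
  haveI : Module.Flat (V.presheaf.stalk (k₁ x)) (U.presheaf.stalk x) := h
  refine (fibre_stalkMap_flat_iff k₁ k₂ x).mpr ?_
  set I := Ideal.map (k₂.stalkMap (k₁ x)).hom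
    (IsLocalRing.maximalIdeal (W.presheaf.stalk (k₂ (k₁ x)))) with hI
  let e0 := TensorProduct.quotTensorEquivQuotSMul (U.presheaf.stalk x) I
  let e1 : (V.presheaf.stalk (k₁ x) ⧸ I) ⊗[V.presheaf.stalk (k₁ x)] (U.presheaf.stalk x)
      ≃ₗ[V.presheaf.stalk (k₁ x) ⧸ I]
      (U.presheaf.stalk x) ⧸ (I • (⊤ : Submodule (V.presheaf.stalk (k₁ x)) (U.presheaf.stalk x))) :=
    LinearEquiv.extendScalarsOfSurjective Ideal.Quotient.mk_surjective e0
  exact (Module.Flat.equiv_iff e1).1 inferInstance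

/-- `Spec` of a residue field extension is flat. -/
theorem flat_specMap_residueFieldMap (g : W' ⟶ W) (w' : W') :
    Flat (Spec.map (g.residueFieldMap w')) := by
  rw [HasRingHomProperty.Spec_iff (P := @Flat)]
  letI := (g.residueFieldMap w').hom.toAlgebra
  exact (inferInstance : Module.Flat (W.residueField (g w')) (W'.residueField w'))

/-- **Base change of pointwise flatness, hard direction**: for `U ⟶ V ⟶ W` with `U/W` flat at the image point
and lfp, `V/W` lft, and the base change along `W' ⟶ W`: if `U' ⟶ V'` is flat at `u'` then `U ⟶ V` is flat at the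
image of `u'`. -/
theorem flat_stalkMap_of_baseChange (k₁ : U ⟶ V) (k₂ : V ⟶ W) [LocallyOfFinitePresentation (k₁ ≫ k₂)]
    [LocallyOfFiniteType k₂] {gW : W' ⟶ W} {gV : V' ⟶ V} {gU : U' ⟶ U} {k₁' : U' ⟶ V'}
    {k₂' : V' ⟶ W'} (sqV : IsPullback gV k₂' k₂ gW) (sqU : IsPullback gU k₁' k₁ gV) (u' : U')
    (h1 : ((k₁ ≫ k₂).stalkMap (gU u')).hom.Flat) (h' : (k₁'.stalkMap u').hom.Flat) :
    (k₁.stalkMap (gU u')).hom.Flat := by
  have sqUW : IsPullback gU (k₁' ≫ k₂') (k₁ ≫ k₂) gW := sqU.paste_vert sqV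
  set w' : W' := (k₁' ≫ k₂') u' with hw'
  -- the comparison maps of fibres
  let γU : (k₁' ≫ k₂').fiber w' ⟶ (k₁ ≫ k₂).fiber (gW w') :=
    pullback.map _ _ _ _ gU (Spec.map (gW.residueFieldMap w')) gW sqUW.w.symm (by simp)
  let γV : k₂'.fiber w' ⟶ k₂.fiber (gW w') :=
    pullback.map _ _ _ _ gV (Spec.map (gW.residueFieldMap w')) gW sqV.w.symm (by simp)
  have hρ : Flat (Spec.map (gW.residueFieldMap w')) := flat_specMap_residueFieldMap gW w'
  have hγU : Flat γU := MorphismProperty.of_isPullback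
    (isPullback_fiberToSpecResidueField_of_isPullback sqUW w').flip hρ
  have hγV : Flat γV := MorphismProperty.of_isPullback
    (isPullback_fiberToSpecResidueField_of_isPullback sqV w').flip hρ
  have hγUι : γU ≫ (k₁ ≫ k₂).fiberι (gW w') = (k₁' ≫ k₂').fiberι w' ≫ gU := pullback.lift_fst _ _ _
  have hγUt : γU ≫ (k₁ ≫ k₂).fiberToSpecResidueField (gW w') =
      (k₁' ≫ k₂').fiberToSpecResidueField w' ≫ Spec.map (gW.residueFieldMap w') :=
    pullback.lift_snd _ _ _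
  have hγVι : γV ≫ k₂.fiberι (gW w') = k₂'.fiberι w' ≫ gV := pullback.lift_fst _ _ _
  have hγVt : γV ≫ k₂.fiberToSpecResidueField (gW w') =
      k₂'.fiberToSpecResidueField w' ≫ Spec.map (gW.residueFieldMap w') := pullback.lift_snd _ _ _
  have hφ'ι : MoreMor.fiberMap k₁' k₂' w' ≫ k₂'.fiberι w' = (k₁' ≫ k₂').fiberι w' ≫ k₁' :=
    pullback.lift_fst _ _ _
  have hφ't : MoreMor.fiberMap k₁' k₂' w' ≫ k₂'.fiberToSpecResidueField w' =
      (k₁' ≫ k₂').fiberToSpecResidueField w' := pullback.lift_snd _ _ _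
  have hφι : MoreMor.fiberMap k₁ k₂ (gW w') ≫ k₂.fiberι (gW w') =
      (k₁ ≫ k₂).fiberι (gW w') ≫ k₁ := pullback.lift_fst _ _ _
  have hφt : MoreMor.fiberMap k₁ k₂ (gW w') ≫ k₂.fiberToSpecResidueField (gW w') =
      (k₁ ≫ k₂).fiberToSpecResidueField (gW w') := pullback.lift_snd _ _ _
  have hcomm : MoreMor.fiberMap k₁' k₂' w' ≫ γV = γU ≫ MoreMor.fiberMap k₁ k₂ (gW w') := by
    apply pullback.hom_ext
    · change (_ ≫ γV) ≫ k₂.fiberι (gW w') = (γU ≫ _) ≫ k₂.fiberι (gW w')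
      rw [Category.assoc, hγVι, ← Category.assoc, hφ'ι, Category.assoc, Category.assoc, hφι,
        ← Category.assoc γU, hγUι, Category.assoc, sqU.w]
    · change (_ ≫ γV) ≫ k₂.fiberToSpecResidueField (gW w') =
        (γU ≫ _) ≫ k₂.fiberToSpecResidueField (gW w')
      rw [Category.assoc, hγVt, ← Category.assoc, hφ't, Category.assoc, hφt, hγUt]
  -- flatness of the fibre map upstairs at the point
  have hfib' := fibre_flat_of_flat_stalkMap k₁' k₂' u' h'
  set ξ' := (k₁' ≫ k₂').asFiber u' with hξ'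
  -- descend
  have hcomp : ((γU ≫ MoreMor.fiberMap k₁ k₂ (gW w')).stalkMap ξ').hom.Flat := by
    rw [← Groth.Agent.Lib.EtaleLocusBC.flat_stalkMap_congr hcomm ξ']
    exact flat_comp_stalkMap _ _ ξ' (Flat.stalkMap γV _) hfib'
  have hφ : ((MoreMor.fiberMap k₁ k₂ (gW w')).stalkMap (γU ξ')).hom.Flat :=
    flat_stalkMap_of_comp γU _ ξ' hcomp (Flat.stalkMap γU ξ')
  have hw : (k₁ ≫ k₂) (gU u') = gW w' := by
    rw [hw', ← Scheme.Hom.comp_apply, ← Scheme.Hom.comp_apply, sqUW.w]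
  have hξ : (k₁ ≫ k₂).fiberι (gW w') (γU ξ') = gU u' := by
    rw [← Scheme.Hom.comp_apply, hγUι, Scheme.Hom.comp_apply, hξ', Scheme.Hom.fiberι_asFiber]
  exact flat_stalkMap_of_fibre_flat k₁ k₂ (gU u') (gW w') hw (γU ξ') hξ h1 hφ

/-- **The flat locus commutes with base change.** -/
theorem flat_stalkMap_baseChange_iff (k₁ : U ⟶ V) (k₂ : V ⟶ W)
    [LocallyOfFinitePresentation (k₁ ≫ k₂)] [LocallyOfFiniteType k₂] [Flat (k₁ ≫ k₂)]
    {gW : W' ⟶ W} {gV : V' ⟶ V} {gU : U' ⟶ U} {k₁' : U' ⟶ V'}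
    {k₂' : V' ⟶ W'} (sqV : IsPullback gV k₂' k₂ gW) (sqU : IsPullback gU k₁' k₁ gV) (u' : U') :
    (k₁'.stalkMap u').hom.Flat ↔ (k₁.stalkMap (gU u')).hom.Flat :=
  ⟨flat_stalkMap_of_baseChange k₁ k₂ sqV sqU u' (Flat.stalkMap _ _), fun h =>
    Groth.Agent.Lib.EtaleLocusBC.flat_stalkMap_fst_of_isPullback sqU.flip u' h⟩

end Groth.Agent.Lib.FlatLocusBC36
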