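import Groth.Agent.Lib.AlgSpStrongChart36
import Groth.Agent.Lib.FlatLocusBC36
import Groth.Agent.Lib.AlgSpNear91

/-!
# Flatness at a point for morphisms of algebraic spaces: chart independence, openness, base change (helper36)
-/

set_option autoImplicit false
set_option linter.style.haveILetI false
universe u
open CategoryTheory CategoryTheory.Limits AlgebraicGeometry Opposite

namespace Groth.Agent.Lib.AlgSpFlatAt36

open AlgSp Groth.Agent.Lib.AlgSpBasic Groth.Agent.Lib.AlgSpLocP Groth.Agent.Lib.AlgSpNear91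
  Groth.Agent.Lib.AlgSpStrongChart36 Groth.Agent.Lib.AlgSpFibreChart36

variable {S : Scheme.{u}}

/-- Pointwise flatness is etale local on the source and the target. -/
theorem etLocalAt_flat : EtLocalAt (fun U V (h : U ⟶ V) (u : ↥U) => (h.stalkMap u).hom.Flat) where
  src := by
    intro P U V e h p he
    have : Etale e := he
    constructor
    · intro hh
      exact Groth.Agent.Lib.CritFibFib88.flat_stalkMap_of_comp e h p hh (Flat.stalkMap e p)
    · intro hh
      exact Groth.Agent.Lib.CritFibFib88.flat_comp_stalkMap e h p hh (Flat.stalkMap e p)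
  tgt := by
    intro U V V' h e u he
    have : Etale e := he
    constructor
    · intro hh
      have sq := IsPullback.of_hasPullback (h ≫ e) e
      let Γ : U ⟶ pullback (h ≫ e) e := pullback.lift (𝟙 U) h (by simp)
      have hΓ1 : Γ ≫ pullback.fst (h ≫ e) e = 𝟙 U := pullback.lift_fst _ _ _
      have hΓ2 : Γ ≫ pullback.snd (h ≫ e) e = h := pullback.lift_snd _ _ _
      have h2 : Etale (Γ ≫ pullback.fst (h ≫ e) e) := by rw [hΓ1]; infer_instance
      have hΓ : Etale Γ := Etale.of_comp Γ (pullback.fst (h ≫ e) e)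
      have hfst : pullback.fst (h ≫ e) e (Γ u) = u := by
        rw [← Scheme.Hom.comp_apply, hΓ1]; rfl
      have hsnd : ((pullback.snd (h ≫ e) e).stalkMap (Γ u)).hom.Flat :=
        Groth.Agent.Lib.EtaleLocusBC.flat_stalkMap_fst_of_isPullback sq.flip (Γ u) (by
          rw [hfst]; exact hh)
      have := Groth.Agent.Lib.CritFibFib88.flat_comp_stalkMap Γ (pullback.snd (h ≫ e) e) u hsnd
        (Flat.stalkMap Γ u)
      exact (Groth.Agent.Lib.EtaleLocusBC.flat_stalkMap_congr hΓ2 u).1 this
    · intro hh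
      exact Groth.Agent.Lib.CritFibFib88.flat_comp_stalkMap h e u (Flat.stalkMap e (h u)) hh

/-- Flatness at a point can be tested on any chart diagram through the point. -/
theorem isFlatAtMor_iff_chart {X Y : Sp S} (f : X ⟶ Y) {U V : Over S} (a : (yon S).obj U ⟶ X)
    (b : (yon S).obj V ⟶ Y) (k : U ⟶ V) (ha : RepWith @Etale a) (hb : RepWith @Etale b)
    (comm : a ≫ f = (yon S).map k ≫ b) (u : ↥U.left) :
    IsFlatAtMor f (Points.ofPt a u) ↔ (k.left.stalkMap u).hom.Flat := by
  constructor
  · intro h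
    exact h a b k u ha hb comm rfl
  · intro h U' V' a' b' k' u' ha' hb' comm' hu'
    exact (etLocalAt_flat.chart_indep f a b k a' b' k' ha hb ha' hb' comm comm' u u' hu'.symm).1 h

/-- The locus of points at which a morphism locally of finite presentation is flat is open. -/
theorem isOpen_isFlatAtMor {X Y : Sp S} (hX : IsAlgSpace X) (hY : IsAlgSpace Y) (f : X ⟶ Y)
    (hf : LocP @LocallyOfFinitePresentation f) : IsOpen {x : Points X | IsFlatAtMor f x} := by
  obtain ⟨V, b, hb, hbs⟩ := hY.atlas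
  obtain ⟨U, a, k, ha, has, comm, -⟩ := exists_global_chart hX f b hb hbs
  have : LocallyOfFinitePresentation k.left := hf a b k ha hb comm
  have hset : {x : Points X | IsFlatAtMor f x} =
      Points.ofPt a '' {u : ↥U.left | (k.left.stalkMap u).hom.Flat} := by
    ext x
    constructor
    · intro hx
      obtain ⟨u, rfl⟩ := Groth.Agent.Lib.H86AlgSpPoints.ofPt_surjective has x
      exact ⟨u, (isFlatAtMor_iff_chart f a b k ha hb comm u).1 hx, rfl⟩
    · rintro ⟨u, hu, rfl⟩
      exact (isFlatAtMor_iff_chart f a b k ha hb comm u).2 hu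
  rw [hset]
  exact Groth.Agent.Lib.H86AlgSpPoints.isOpenMap_ofPt ha _
    (Groth.Agent.Lib.CritFibFib88.isOpen_flat_locus k.left)

/-- **The flat locus commutes with base change** (algebraic spaces): for `X ⟶ Y ⟶ Z` with `X/Z` flat and locally of
finite presentation, `Y/Z` locally of finite type, and the base change along `Z' ⟶ Z`. -/
theorem isFlatAtMor_baseChange_iff {X Y Z X' Y' Z' : Sp S} (hX : IsAlgSpace X) (hY : IsAlgSpace Y)
    (hZ : IsAlgSpace Z) (hZ' : IsAlgSpace Z')
    (f : X ⟶ Y) (q : Y ⟶ Z) (hfp : LocP @LocallyOfFinitePresentation (f ≫ q))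
    (hfl : LocP @Flat (f ≫ q)) (hft : LocP @LocallyOfFiniteType q)
    {g : Z' ⟶ Z} {gY : Y' ⟶ Y} {q' : Y' ⟶ Z'} (sq1 : IsPullback gY q' q g)
    {gX : X' ⟶ X} {f' : X' ⟶ Y'} (sq2 : IsPullback gX f' f gY) (x' : Points X') :
    IsFlatAtMor f' x' ↔ IsFlatAtMor f (Points.map gX x') := by
  obtain ⟨W, c, hc, hcs⟩ := hZ.atlas
  obtain ⟨W', c', gW, hc', hc's, commW, -⟩ := exists_global_chart hZ' g c hc hcs
  obtain ⟨V, b, k₂, hV⟩ := exists_strong_chart hY q c hc
  have hb := hV.repWith_etale hc
  obtain ⟨U, a, k₁, hU⟩ := exists_strong_chart hX f b hb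
  have ha := hU.repWith_etale hb
  -- the scheme-level base change of `V`
  let V' : Over S := Over.mk (pullback.fst k₂.left gW.left ≫ V.hom)
  let ιV : V' ⟶ V := Over.homMk (pullback.fst k₂.left gW.left) rfl
  have hτV : pullback.snd k₂.left gW.left ≫ W'.hom = V'.hom := by
    change _ = pullback.fst k₂.left gW.left ≫ V.hom
    rw [← Over.w gW, ← Category.assoc, ← pullback.condition, Category.assoc, Over.w k₂]
  let τV : V' ⟶ W' := Over.homMk (pullback.snd k₂.left gW.left) hτV
  have hwV : ιV ≫ k₂ = τV ≫ gW := by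
    ext
    exact pullback.condition
  let b' : (yon S).obj V' ⟶ Y' := sq1.lift ((yon S).map ιV ≫ b) ((yon S).map τV ≫ c') (by
    rw [Category.assoc, hV.comm, Category.assoc, commW, ← Category.assoc, ← Category.assoc,
      ← Functor.map_comp, ← Functor.map_comp, hwV])
  have hb'1 : b' ≫ gY = (yon S).map ιV ≫ b := sq1.lift_fst _ _ _
  have hb'2 : b' ≫ q' = (yon S).map τV ≫ c' := sq1.lift_snd _ _ _
  have hV' : IsStrongChart q' b' c' τV :=
    hV.baseChange sq1 c' gW commW ιV τV (IsPullback.of_hasPullback k₂.left gW.left) b' hb'1 hb'2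
  have hb' := hV'.repWith_etale hc'
  have hb's := hV'.repWith_surjective hc's
  -- the scheme-level base change of `U`
  let U' : Over S := Over.mk (pullback.fst k₁.left ιV.left ≫ U.hom)
  let ιU : U' ⟶ U := Over.homMk (pullback.fst k₁.left ιV.left) rfl
  have hτU : pullback.snd k₁.left ιV.left ≫ V'.hom = U'.hom := by
    change _ = pullback.fst k₁.left ιV.left ≫ U.hom
    rw [← Over.w ιV, ← Category.assoc, ← pullback.condition, Category.assoc, Over.w k₁]
  let τU : U' ⟶ V' := Over.homMk (pullback.snd k₁.left ιV.left) hτU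
  have hwU : ιU ≫ k₁ = τU ≫ ιV := by
    ext
    exact pullback.condition
  let a' : (yon S).obj U' ⟶ X' := sq2.lift ((yon S).map ιU ≫ a) ((yon S).map τU ≫ b') (by
    rw [Category.assoc, hU.comm, Category.assoc, hb'1, ← Category.assoc, ← Category.assoc,
      ← Functor.map_comp, ← Functor.map_comp, hwU])
  have ha'1 : a' ≫ gX = (yon S).map ιU ≫ a := sq2.lift_fst _ _ _
  have ha'2 : a' ≫ f' = (yon S).map τU ≫ b' := sq2.lift_snd _ _ _
  have hU' : IsStrongChart f' a' b' τU :=
    hU.baseChange sq2 b' ιV hb'1 ιU τU (IsPullback.of_hasPullback k₁.left ιV.left) a' ha'1 ha'2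
  have ha' := hU'.repWith_etale hb'
  have ha's := hU'.repWith_surjective hb's
  obtain ⟨u', rfl⟩ := Groth.Agent.Lib.H86AlgSpPoints.ofPt_surjective ha's x'
  have hpt : Points.map gX (Points.ofPt a' u') = Points.ofPt a (ιU.left u') := by
    rw [Points.map_ofPt, ha'1, Groth.Agent.Lib.AlgSpPoints.ofPt_yon_map_comp]
  rw [hpt, isFlatAtMor_iff_chart f' a' b' τU ha' hb' ha'2 u',
    isFlatAtMor_iff_chart f a b k₁ ha hb hU.comm]
  have commUW : a ≫ (f ≫ q) = (yon S).map (k₁ ≫ k₂) ≫ c := by
    rw [← Category.assoc, hU.comm, Category.assoc, hV.comm, Functor.map_comp, Category.assoc]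
  have i1 : LocallyOfFinitePresentation (k₁.left ≫ k₂.left) := hfp a c (k₁ ≫ k₂) ha hc commUW
  have i2 : Flat (k₁.left ≫ k₂.left) := hfl a c (k₁ ≫ k₂) ha hc commUW
  have i3 : LocallyOfFiniteType k₂.left := hft b c k₂ hb hc hV.comm
  exact Groth.Agent.Lib.FlatLocusBC36.flat_stalkMap_baseChange_iff k₁.left k₂.left
    (IsPullback.of_hasPullback k₂.left gW.left) (IsPullback.of_hasPullback k₁.left ιV.left) u'

end Groth.Agent.Lib.AlgSpFlatAt36
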