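import Mathlib
import Groth.Agent.Lib.AlgSpSrcCover

/-!
# Locality on the source for fpqc coverings of algebraic spaces

* scheme level: `fpqc_comp`, `fpqc_of_family` for `P.IsLocalAtSource Scheme.fpqcPrecoverage`;
* `locP_comp_cover'` (explicit hypotheses), `locP_of_fpqcCover`, `isLocalOnSource_fpqcCover`.
-/

set_option autoImplicit false
universe u
open CategoryTheory CategoryTheory.Limits AlgebraicGeometry
open AlgSp Groth.Agent.Lib.AlgSpBasic Groth.Agent.Lib.SrcLocal Groth.Agent.Lib.AlgSpLocP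

namespace Groth.Agent.Lib.AlgSpSrcCover

variable {S : Scheme.{u}}

theorem etalePrecoverage_le_fpqc :
    Scheme.precoverage @Etale.{u} ≤ Scheme.fpqcPrecoverage := by
  refine le_trans ?_ Scheme.fppfPrecoverage_le_fpqcPrecoverage
  exact Scheme.precoverage_mono fun X Y f hf => by
    have : Etale f := hf
    exact ⟨inferInstance, inferInstance⟩

theorem fpqc_comp {P : MorphismProperty Scheme.{u}}
    [P.IsLocalAtSource Scheme.fpqcPrecoverage]
    {A B C : Scheme.{u}} (l : A ⟶ B) (w : B ⟶ C) (hl : Flat l) (hw : P w) : P (l ≫ w) := by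
  let 𝒰 : B.Cover (Scheme.precoverage @Flat) :=
    Scheme.Cover.mkOfCovers (Option PUnit.{1}) (fun o => o.elim B (fun _ => A))
      (fun o => match o with
        | none => 𝟙 B
        | some _ => l)
      (fun x => ⟨none, x, rfl⟩)
      (fun o => match o with
        | none => (inferInstance : Flat (𝟙 B))
        | some _ => hl)
  let 𝒱 : Scheme.Cover.{0} (Scheme.precoverage @Flat) B := Scheme.coverOfIsIso (𝟙 B)
  have : QuasiCompactCover 𝒱.toPreZeroHypercover :=
    QuasiCompactCover.of_isOpenMap (fun i => by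
      change IsOpenMap (𝟙 B : B ⟶ B)
      exact (Scheme.Hom.isOpenEmbedding (𝟙 B)).isOpenMap)
  have hq : QuasiCompactCover 𝒰.toPreZeroHypercover :=
    QuasiCompactCover.of_hom (𝒱 := 𝒱.toPreZeroHypercover)
      ⟨fun _ => none, fun _ => 𝟙 B, fun _ => rfl⟩
  let 𝒰' : Scheme.Cover (Scheme.propQCPrecoverage @Flat) B := Scheme.Cover.ofQuasiCompactCover 𝒰
  exact (MorphismProperty.IsLocalAtSource.iff_of_zeroHypercover (P := P)
    (K := Scheme.fpqcPrecoverage) 𝒰').1 hw (some ⟨⟩)

theorem fpqc_of_family {P : MorphismProperty Scheme.{u}}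
    [P.IsLocalAtSource Scheme.fpqcPrecoverage] {ι : Type u} {B C : Scheme.{u}}
    (W : ι → Scheme.{u}) (p : ∀ i, W i ⟶ B) (hp : ∀ i, Flat (p i))
    (hsurj : ∀ x : B, ∃ i, ∃ y : W i, p i y = x)
    (hqc : ∀ (U : B.Opens), IsAffineOpen U → IsCompactOpenCovered (fun i => (p i : W i → B)) (U : Set B))
    (w : B ⟶ C) (h : ∀ i, P (p i ≫ w)) : P w := by
  let 𝒰 : B.Cover (Scheme.precoverage @Flat) := Scheme.Cover.mkOfCovers ι W p hsurj hp
  have hq : QuasiCompactCover 𝒰.toPreZeroHypercover := ⟨fun {U} hU => hqc U hU⟩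
  let 𝒰' : Scheme.Cover (Scheme.propQCPrecoverage @Flat) B := Scheme.Cover.ofQuasiCompactCover 𝒰
  exact (MorphismProperty.IsLocalAtSource.iff_of_zeroHypercover (P := P)
    (K := Scheme.fpqcPrecoverage) 𝒰').2 h

/-- (⇒), with the scheme-level facts as explicit hypotheses. -/
theorem locP_comp_cover' {P Q : MorphismProperty Scheme.{u}} (hQ : CovClass Q)
    (hcomp : ∀ ⦃A B C : Scheme.{u}⦄ (l : A ⟶ B) (w : B ⟶ C), Q l → P w → P (l ≫ w))
    (hsingle : ∀ ⦃A B C : Scheme.{u}⦄ (p : A ⟶ B) (w : B ⟶ C), Etale p → Surjective p →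
      P (p ≫ w) → P w) {X' X Y : Sp S} (hX : IsAlgSpace X)
    (g : X' ⟶ X) (hg : LocP Q g) (f : X ⟶ Y) (h : LocP P f) : LocP P (g ≫ f) := by
  have := hQ.et.baseChange
  intro A V' α b' k hα hb' comm
  obtain ⟨U, a, hae, has⟩ := hX.atlas
  have hc : RepWith Q (α ≫ g) := repWith_of_locP_yon hQ hX _ (locP_comp_of_etale Q α hα g hg)
  -- T = U ×_X A
  have sqT := hae.rep.isPullback' (α ≫ g)
  have hsndE : Etale (hae.rep.snd (α ≫ g)).left := hae.property_snd _
  have hsndS : Surjective (hae.rep.snd (α ≫ g)).left :=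
    has.property _ _ _ (hae.rep.isPullback (α ≫ g))
  have hfstQ : Q (hae.rep.fst' (α ≫ g)).left :=
    (repWith_yon_map_iff _ _).1 (repWith_fst_of_isPullback _ sqT hc)
  -- N = V' ×_Y U
  have sqN := hb'.rep.isPullback' (a ≫ f)
  have hNsndE : Etale (hb'.rep.snd (a ≫ f)).left := hb'.property_snd _
  have hchart : RepWith @Etale ((yon S).map (hb'.rep.snd (a ≫ f)) ≫ a) :=
    MorphismProperty.comp_mem _ _ _ ((repWith_yon_map_iff _ _).2 hNsndE) hae
  have hPN : P (hb'.rep.fst' (a ≫ f)).left :=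
    h _ b' (hb'.rep.fst' (a ≫ f)) hchart hb' (by rw [Category.assoc]; exact sqN.w.symm)
  -- ℓ : T ⟶ N
  have hl : (yon S).map (hae.rep.snd (α ≫ g) ≫ k) ≫ b' =
      (yon S).map (hae.rep.fst' (α ≫ g)) ≫ a ≫ f := by
    have e := sqT.w
    calc (yon S).map (hae.rep.snd (α ≫ g) ≫ k) ≫ b'
        = (yon S).map (hae.rep.snd (α ≫ g)) ≫ (yon S).map k ≫ b' := by
          rw [Functor.map_comp, Category.assoc]
      _ = (yon S).map (hae.rep.snd (α ≫ g)) ≫ α ≫ g ≫ f := by rw [comm]
      _ = ((yon S).map (hae.rep.snd (α ≫ g)) ≫ α ≫ g) ≫ f := by simp only [Category.assoc]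
      _ = ((yon S).map (hae.rep.fst' (α ≫ g)) ≫ a) ≫ f := by rw [e]
      _ = _ := by rw [Category.assoc]
  let l := hb'.rep.lift' (hae.rep.snd (α ≫ g) ≫ k) (hae.rep.fst' (α ≫ g)) hl
  have hl1 : l ≫ hb'.rep.fst' (a ≫ f) = hae.rep.snd (α ≫ g) ≫ k := hb'.rep.lift'_fst _ _ _
  have hl2 : l ≫ hb'.rep.snd (a ≫ f) = hae.rep.fst' (α ≫ g) := hb'.rep.lift'_snd _ _ _
  have hlQ : Q l.left := by
    apply hQ.et.cancel l.left (hb'.rep.snd (a ≫ f)).left hNsndE
    rw [← Over.comp_left, hl2]
    exact hfstQ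
  have h1 : P (l.left ≫ (hb'.rep.fst' (a ≫ f)).left) :=
    hcomp _ _ hlQ hPN
  rw [← Over.comp_left, hl1, Over.comp_left] at h1
  exact hsingle _ _ hsndE hsndS h1

theorem covClass_flat : CovClass @Flat.{u} where
  et := etLocalClass_flat
  desc := inferInstance
  etale_le _ _ g h := by
    have : Etale g := h
    exact (inferInstance : Flat g)

/-- (⇐) for fpqc coverings. -/
theorem locP_of_fpqcCover {P : MorphismProperty Scheme.{u}}
    [P.IsLocalAtSource Scheme.fpqcPrecoverage] {ι : Type u} {X Y : Sp S} (Xi : ι → Sp S)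
    (g : ∀ i, Xi i ⟶ X) (hX : IsAlgSpace X) (hXi : ∀ i, IsAlgSpace (Xi i))
    (hcov : IsFpqcCover Xi g) (f : X ⟶ Y) (h : ∀ i, LocP P (g i ≫ f)) : LocP P f := by
  intro U' V' a' b' h' ha' hb' comm'
  choose U q hqe hqs using fun i => (hXi i).atlas
  have hc : ∀ i, RepWith @Flat (q i ≫ g i) := fun i =>
    repWith_of_locP_yon covClass_flat hX _ (locP_comp_of_etale @Flat (q i) (hqe i) (g i) (hcov.1 i))
  have sqW := fun i => (hc i).rep.isPullback' a'
  have hsndQ : ∀ i, Flat ((hc i).rep.snd a').left := fun i => (hc i).property_snd a'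
  have hfstE : ∀ i, Etale ((hc i).rep.fst' a').left := fun i =>
    (repWith_yon_map_iff _ _).1 (repWith_fst_of_isPullback _ (sqW i) ha')
  -- the key quasi-compactness
  have hqc : ∀ (Z : U'.left.Opens), IsAffineOpen Z →
      IsCompactOpenCovered (fun i => (((hc i).rep.snd a').left : _ → U'.left)) (Z : Set U'.left) := by
    intro Z hZ
    let Z' : Over S := Over.mk (Z.ι ≫ U'.hom)
    let ιZ : Z' ⟶ U' := Over.homMk Z.ι rfl
    have hZaff : IsAffine Z'.left := hZ
    obtain ⟨m, W', c, hW'aff, hcflat, hcsurj, hlift⟩ := hcov.2 Z' hZaff ((yon S).map ιZ ≫ a')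
    choose i l hl using hlift
    have sqD := fun j => (hqe (i j)).rep.isPullback' (l j)
    have hDe : ∀ j, Etale ((hqe (i j)).rep.snd (l j)).left := fun j =>
      (hqe (i j)).property_snd _
    have hDs : ∀ j, Surjective ((hqe (i j)).rep.snd (l j)).left := fun j =>
      (hqs (i j)).property _ _ _ ((hqe (i j)).rep.isPullback (l j))
    have hlift' : ∀ j, (yon S).map ((hqe (i j)).rep.fst' (l j)) ≫ (q (i j) ≫ g (i j)) =
        (yon S).map ((hqe (i j)).rep.snd (l j) ≫ c j ≫ ιZ) ≫ a' := by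
      intro j
      have e := (sqD j).w
      rw [← Category.assoc, e, Category.assoc, hl j, Functor.map_comp, Functor.map_comp]
      simp only [Category.assoc]
    let t := fun j => (hc (i j)).rep.lift' ((hqe (i j)).rep.fst' (l j))
      ((hqe (i j)).rep.snd (l j) ≫ c j ≫ ιZ) (hlift' j)
    have ht : ∀ j, t j ≫ (hc (i j)).rep.snd a' = (hqe (i j)).rep.snd (l j) ≫ c j ≫ ιZ :=
      fun j => (hc (i j)).rep.lift'_snd _ _ _
    have hcpt : ∀ j, CompactSpace (W' j).left := fun j => by
      have := hW'aff j; infer_instance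
    have hex : ∀ j, ∃ (X'' : Scheme.{u}) (_ : IsAffine X'')
        (e : X'' ⟶ ((hqe (i j)).rep.pullback (l j)).left),
        Surjective (e ≫ ((hqe (i j)).rep.snd (l j)).left) := by
      intro j
      have := hDe j
      have := hDs j
      have := hcpt j
      obtain ⟨X'', h1, e, -, h2, -⟩ :=
        exists_affine_refinement ((hqe (i j)).rep.snd (l j)).left
      exact ⟨X'', h1, e, h2⟩
    choose X'' hX''aff e hes using hex
    have hmor : ∀ j, e j ≫ (t j).left ≫ ((hc (i j)).rep.snd a').left =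
        (e j ≫ ((hqe (i j)).rep.snd (l j)).left) ≫ (c j).left ≫ Z.ι := by
      intro j
      have h1 := congrArg Over.Hom.left (ht j)
      simp only [Over.comp_left] at h1
      rw [h1, Category.assoc]
      rfl
    refine IsCompactOpenCovered.of_comp
      (f := fun i => (((hc i).rep.snd a').left : _ → U'.left))
      (g := fun j : Fin m => ((e j ≫ (t j).left ≫ ((hc (i j)).rep.snd a').left :
        X'' j ⟶ U'.left) : X'' j → U'.left))
      (a := i) (t := fun j => ((e j ≫ (t j).left : X'' j ⟶ _) : X'' j → _))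
      (fun j => Scheme.Hom.continuous _) (fun j => by funext x; simp)
      (fun i => Scheme.Hom.continuous _) Z.2 ?_
    refine IsCompactOpenCovered.of_finite (κ := Fin m) id (fun j => ⊤) (fun j => ?_) ?_
    · have := hX''aff j
      exact isCompact_univ
    · ext x
      simp only [Set.mem_iUnion, id_eq]
      constructor
      · rintro ⟨j, y, -, rfl⟩
        rw [hmor j]
        simp only [Scheme.Hom.comp_apply]
        exact Subtype.property _
      · intro hx
        obtain ⟨z, rfl⟩ : ∃ z : Z'.left, Z.ι z = x := ⟨⟨x, hx⟩, rfl⟩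
        obtain ⟨j, w, hw⟩ := hcsurj z
        obtain ⟨y, hy⟩ := (hes j).surj w
        refine ⟨j, y, trivial, ?_⟩
        rw [hmor j]
        simp only [Scheme.Hom.comp_apply] at hy ⊢
        rw [hy, hw]
  refine fpqc_of_family (P := P) (fun i => ((hc i).rep.pullback a').left)
    (fun i => ((hc i).rep.snd a').left) hsndQ ?_ hqc h'.left ?_
  · intro x
    obtain ⟨_, ⟨Z, hZ, rfl⟩, hxZ, -⟩ :=
      (U'.left.isBasis_affineOpens).exists_subset_of_mem_open (Set.mem_univ x) isOpen_univ
    obtain ⟨s, -, V, -, hV⟩ := hqc Z hZ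
    have hx : x ∈ ⋃ (i : ι) (h : i ∈ s), (((hc i).rep.snd a').left : _ → U'.left) '' (V i h) := by
      rw [hV]; exact hxZ
    simp only [Set.mem_iUnion] at hx
    obtain ⟨i, _, y, -, hy⟩ := hx
    exact ⟨i, y, hy⟩
  · intro i
    have hα : RepWith @Etale ((yon S).map ((hc i).rep.fst' a') ≫ q i) :=
      MorphismProperty.comp_mem _ _ _ ((repWith_yon_map_iff _ _).2 (hfstE i)) (hqe i)
    have hcomm : ((yon S).map ((hc i).rep.fst' a') ≫ q i) ≫ g i ≫ f =
        (yon S).map ((hc i).rep.snd a' ≫ h') ≫ b' := by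
      have e := (sqW i).w
      rw [Functor.map_comp, Category.assoc, Category.assoc, ← comm', ← Category.assoc (q i),
        ← Category.assoc, e, Category.assoc]
    exact h i _ b' ((hc i).rep.snd a' ≫ h') hα hb' hcomm


/-- Fpqc coverings. -/
theorem isLocalOnSource_fpqcCover {P : MorphismProperty Scheme.{u}}
    [P.IsLocalAtSource Scheme.fpqcPrecoverage] :
    IsLocalOnSource (IsFpqcCover (S := S)) (LocP P) := by
  intro ι X Xi g hX hXi hcov Y f hY
  have hEt : P.IsLocalAtSource (Scheme.precoverage @Etale) :=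
    MorphismProperty.IsLocalAtSource.of_le etalePrecoverage_le_fpqc
  refine ⟨fun h i => locP_comp_cover' covClass_flat
      (fun _ _ _ l w hl hw => fpqc_comp l w hl hw)
      (fun _ _ _ p w hp hs hw => of_single (P := P) (Q := @Etale) p hp hs w hw)
      hX (g i) (hcov.1 i) f h,
    fun h => locP_of_fpqcCover Xi g hX hXi hcov f h⟩

end Groth.Agent.Lib.AlgSpSrcCover
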