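import Mathlib
import Groth.Agent.Lib.AlgSpSrcCover2

set_option autoImplicit false

universe u
open CategoryTheory CategoryTheory.Limits AlgebraicGeometry
open AlgSp

namespace Groth.Agent.Lib.AlgSpSrcCover

/-- Flatness can be checked after precomposing with a flat morphism hitting the point. -/
theorem flat_stalkMap_of_comp {W X Y : Scheme.{u}} (g : W ⟶ X) (f : X ⟶ Y) [Flat g]
    [Flat (g ≫ f)] (w : W) : (f.stalkMap (g w)).hom.Flat := by
  have h0 : ((g ≫ f).stalkMap w).hom.Flat := Flat.stalkMap (g ≫ f) w
  rw [Scheme.Hom.stalkMap_comp] at h0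
  have h1 : ((g.stalkMap w).hom.comp (f.stalkMap (g w)).hom).Flat := h0
  have h2 : (g.stalkMap w).hom.FaithfullyFlat := by
    algebraize [(g.stalkMap w).hom]
    have : Module.FaithfullyFlat (X.presheaf.stalk (g w)) (W.presheaf.stalk w) :=
      @Module.FaithfullyFlat.of_flat_of_isLocalHom _ _ _ _ _ _ _
        (Flat.stalkMap g w) (g.toLRSHom.prop w)
    exact ‹RingHom.FaithfullyFlat _›
  exact Groth.Agent.Lib.SrcLocalRing.flat_of_comp_faithfullyFlat _ _ h2 h1

/-- Flatness is local at the source for the precoverage of all jointly surjective flat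
families. -/
instance flat_isLocalAtSource_precoverage_flat :
    MorphismProperty.IsLocalAtSource (@Flat : MorphismProperty Scheme.{u})
      (Scheme.precoverage @Flat) := by
  apply MorphismProperty.IsLocalAtSource.mk_of_iff_of_zeroHypercover
  intro X Y f 𝒰
  constructor
  · intro hf i
    have : Flat f := hf
    have : Flat (𝒰.f i) := Scheme.Cover.map_prop 𝒰 i
    exact (inferInstance : Flat (𝒰.f i ≫ f))
  · intro h
    rw [Flat.iff_flat_stalkMap]
    intro x
    obtain ⟨i, w, rfl⟩ := Scheme.Cover.exists_eq 𝒰 x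
    have : Flat (𝒰.f i) := Scheme.Cover.map_prop 𝒰 i
    have : Flat (𝒰.f i ≫ f) := h i
    exact flat_stalkMap_of_comp (𝒰.f i) f w

instance flat_isLocalAtSource_fpqc :
    MorphismProperty.IsLocalAtSource (@Flat : MorphismProperty Scheme.{u})
      Scheme.fpqcPrecoverage :=
  MorphismProperty.IsLocalAtSource.of_le (L := Scheme.precoverage @Flat)
    Scheme.propQCPrecoverage_le_precoverage

end Groth.Agent.Lib.AlgSpSrcCover
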