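import Groth.Prelude
import Groth.Agent.Lib.AlgSpBasic3
import Groth.Agent.Lib.AlgSpSrcCover3
import Groth.Agent.Lib.AlgSpPoints


set_option autoImplicit false

universe u
open CategoryTheory CategoryTheory.Limits AlgebraicGeometry Opposite
open AlgSp

namespace Groth.Agent.Lib.AlgSpFlatPt
open Groth.Agent.Lib.AlgSpLocP Groth.Agent.Lib.AlgSpBasic Groth.Agent.Lib.AlgSpPoints
  Groth.Agent.Lib.AlgSpSrcCover Groth.Agent.Lib.H80DecentPt

variable {S : Scheme.{u}}

/-- A morphism of schemes over `S` which is flat gives a `LocP @Flat` morphism of sheaves. -/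
theorem locP_flat_yon_map {A B : Over S} (b : A ⟶ B) (hb : Flat b.left) :
    LocP @Flat ((yon S).map b) :=
  locP_of_repWith @Flat (fun _ _ _ l w hl hw => by
      have : Etale l := hl
      have : Flat w := hw
      exact (inferInstance : Flat (l ≫ w)))
    (fun _ a => (IsAlgSpace.yon_obj A).representable_from_yon a)
    ((repWith_yon_map_iff _ _).2 hb)

/-- A field extension gives an fpqc covering. -/
theorem isFpqcCover_field_ext {Ω k' : Type u} [Field Ω] [Field k'] (w : Spec (CommRingCat.of Ω) ⟶ S)
    (str' : Spec (CommRingCat.of k') ⟶ S) (b : Over.mk w ⟶ Over.mk str') :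
    IsFpqcCover (fun _ : PUnit.{u+1} => (yon S).obj (Over.mk w)) (fun _ => (yon S).map b) := by
  have hbflat : Flat b.left := by
    have : Subsingleton ↥(Over.mk str').left :=
      inferInstanceAs (Subsingleton ↥(Spec (CommRingCat.of k')))
    have : IsIntegral (Over.mk str').left :=
      inferInstanceAs (IsIntegral (Spec (CommRingCat.of k')))
    infer_instance
  have hbsurj : Surjective b.left := by
    refine ⟨fun y => ⟨IsLocalRing.closedPoint Ω, ?_⟩⟩
    have : Subsingleton ↥(Over.mk str').left :=
      inferInstanceAs (Subsingleton ↥(Spec (CommRingCat.of k')))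
    exact Subsingleton.elim _ _
  refine ⟨fun _ => locP_flat_yon_map b hbflat, fun T hT h => ?_⟩
  obtain ⟨h', rfl⟩ := (yon S).map_surjective h
  have hTaff : IsAffine T.left := hT
  have e1 : b.left ≫ str' = w := Over.w b
  have e2 : h'.left ≫ str' = T.hom := Over.w h'
  let W : Over S := Over.mk (pullback.fst h'.left b.left ≫ T.hom)
  let c : W ⟶ T := Over.homMk (pullback.fst h'.left b.left) rfl
  have hl : pullback.snd h'.left b.left ≫ w = pullback.fst h'.left b.left ≫ T.hom := by
    calc pullback.snd h'.left b.left ≫ w = pullback.snd h'.left b.left ≫ b.left ≫ str' := by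
          exact congrArg (pullback.snd h'.left b.left ≫ ·) e1.symm
      _ = pullback.fst h'.left b.left ≫ h'.left ≫ str' := by
          rw [← Category.assoc, ← Category.assoc, pullback.condition]
      _ = pullback.fst h'.left b.left ≫ T.hom := by
          exact congrArg (pullback.fst h'.left b.left ≫ ·) e2
  let l : W ⟶ Over.mk w := Over.homMk (pullback.snd h'.left b.left) hl
  have hWaff : IsAffine W.left := by
    have : IsAffine (Over.mk str').left := inferInstanceAs (IsAffine (Spec (CommRingCat.of k')))
    have : IsAffine (Over.mk w).left := inferInstanceAs (IsAffine (Spec (CommRingCat.of Ω)))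
    exact inferInstanceAs (IsAffine (pullback h'.left b.left))
  refine ⟨1, fun _ => W, fun _ => c, fun _ => hWaff, fun _ => ?_, fun z => ⟨0, ?_⟩, fun _ => ⟨⟨⟩, (yon S).map l, ?_⟩⟩
  · exact inferInstanceAs (Flat (pullback.fst h'.left b.left))
  · have : Surjective (pullback.fst h'.left b.left) := inferInstance
    exact this.surj z
  · rw [← Functor.map_comp, ← Functor.map_comp]
    congr 1
    apply Over.OverMorphism.ext
    exact pullback.condition.symm

/-- The space of points of the spectrum of a field is a singleton. -/
theorem subsingleton_points_yon_field (k : Type u) [Field k] (str : Spec (CommRingCat.of k) ⟶ S) :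
    Subsingleton (Points ((yon S).obj (Over.mk str))) := by
  have : Subsingleton ↥(Over.mk str).left :=
    inferInstanceAs (Subsingleton ↥(Spec (CommRingCat.of k)))
  exact (Points.schemeEquiv (Over.mk str)).symm.injective.subsingleton

/-- If a field point is surjective, the space of points is a singleton. -/
theorem subsingleton_points_of_surjective {Z : Sp S} (k : Type u) [Field k]
    (str : Spec (CommRingCat.of k) ⟶ S) (p : (yon S).obj (Over.mk str) ⟶ Z)
    (hps : IsSurjectiveMor p) : Subsingleton (Points Z) := by
  have := subsingleton_points_yon_field k str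
  refine ⟨fun x y => ?_⟩
  obtain ⟨x', rfl⟩ := hps x
  obtain ⟨y', rfl⟩ := hps y
  rw [Subsingleton.elim x' y']

/-- Any field point of a one-point space is surjective. -/
theorem isSurjectiveMor_of_subsingleton {Z : Sp S} [Subsingleton (Points Z)] (k : Type u) [Field k]
    (str : Spec (CommRingCat.of k) ⟶ S) (p : (yon S).obj (Over.mk str) ⟶ Z) :
    IsSurjectiveMor p := by
  intro z
  exact ⟨Points.ofScheme _ (IsLocalRing.closedPoint k), Subsingleton.elim _ _⟩

/-- Two field points of a one-point space agree over a common field extension. -/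
theorem exists_common_ext {Z : Sp S} [Subsingleton (Points Z)] (k k' : Type u) [Field k] [Field k']
    (str : Spec (CommRingCat.of k) ⟶ S) (str' : Spec (CommRingCat.of k') ⟶ S)
    (p : (yon S).obj (Over.mk str) ⟶ Z) (q : (yon S).obj (Over.mk str') ⟶ Z) :
    ∃ (Ω : Type u) (_ : Field Ω) (w : Spec (CommRingCat.of Ω) ⟶ S)
      (a : Over.mk w ⟶ Over.mk str) (b : Over.mk w ⟶ Over.mk str'),
      (yon S).map a ≫ p = (yon S).map b ≫ q :=
  (mk_ofHom_eq_mk_ofHom_iff str str' p q).1 (Subsingleton.elim _ _)

/-- A morphism between spectra of fields is flat. -/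
theorem flat_of_field {Ω k : Type u} [Field Ω] [Field k] {w : Spec (CommRingCat.of Ω) ⟶ S}
    {str : Spec (CommRingCat.of k) ⟶ S} (a : Over.mk w ⟶ Over.mk str) : Flat a.left := by
  have : Subsingleton ↥(Over.mk str).left :=
    inferInstanceAs (Subsingleton ↥(Spec (CommRingCat.of k)))
  have : IsIntegral (Over.mk str).left :=
    inferInstanceAs (IsIntegral (Spec (CommRingCat.of k)))
  infer_instance

/-- Stacks 06QV-like: on a one-point algebraic space, if one field point is flat then all are. -/
theorem locP_flat_of_flat_field_point {Z : Sp S} [Subsingleton (Points Z)]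
    (k k' : Type u) [Field k] [Field k']
    (str : Spec (CommRingCat.of k) ⟶ S) (str' : Spec (CommRingCat.of k') ⟶ S)
    (p : (yon S).obj (Over.mk str) ⟶ Z) (q : (yon S).obj (Over.mk str') ⟶ Z)
    (hpf : LocP @Flat p) : LocP @Flat q := by
  obtain ⟨Ω, _, w, a, b, hab⟩ := exists_common_ext k k' str str' p q
  have hEt : MorphismProperty.IsLocalAtSource (@Flat : MorphismProperty Scheme.{u})
      (Scheme.precoverage @Etale) :=
    MorphismProperty.IsLocalAtSource.of_le etalePrecoverage_le_fpqc
  have h1 : LocP @Flat ((yon S).map a ≫ p) :=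
    locP_comp_cover' covClass_flat
      (fun _ _ _ l w hl hw => by
        have : Flat l := hl
        have : Flat w := hw
        exact (inferInstance : Flat (l ≫ w)))
      (fun _ _ _ p w hp hs hw => of_single (P := @Flat) (Q := @Etale) p hp hs w hw)
      (IsAlgSpace.yon_obj _) ((yon S).map a) (locP_flat_yon_map a (flat_of_field a)) p hpf
  rw [hab] at h1
  exact locP_of_fpqcCover (fun _ : PUnit.{u+1} => (yon S).obj (Over.mk w)) (fun _ => (yon S).map b)
    (IsAlgSpace.yon_obj _) (fun _ => IsAlgSpace.yon_obj _) (isFpqcCover_field_ext w str' b) q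
    (fun _ => h1)

end Groth.Agent.Lib.AlgSpFlatPt
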