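import Mathlib

/-!
# Fields of finite type over a ring

If a field `K` is a finitely generated algebra over a domain `R ⊆ K`, then some localization
`R[1/g]` is already a field.  Consequence: for a finite type ring map `φ : R → K` to a field
there is `g ∉ ker φ` such that `ker φ` is a closed point of `D(g)`.
-/

namespace Groth.Agent.Lib.FieldFiniteType

open Polynomial

/-- If a field `K` is of finite type over a subdomain `R`, then there is a nonzero `g : R`
such that `R[1/g]` is a field. -/
theorem exists_away_isField {R K : Type*} [CommRing R] [IsDomain R] [Field K] [Algebra R K]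
    [Algebra.FiniteType R K] (hinj : Function.Injective (algebraMap R K)) :
    ∃ g : R, g ≠ 0 ∧ IsField (Localization.Away g) := by
  classical
  let F := FractionRing R
  have : FaithfulSMul R K := (faithfulSMul_iff_algebraMap_injective R K).mpr hinj
  let _ : Algebra F K := (IsFractionRing.lift hinj).toAlgebra
  have : IsScalarTower R F K :=
    IsScalarTower.of_algebraMap_eq (fun x => (IsFractionRing.lift_algebraMap hinj x).symm)
  have : Algebra.FiniteType F K := .of_restrictScalars_finiteType R F K
  have : Module.Finite F K := finite_of_finite_type_of_isJacobsonRing F K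
  have halg : Algebra.IsAlgebraic R K :=
    (IsFractionRing.comap_isAlgebraic_iff (A := R) (K := F) (C := K)).mpr inferInstance
  obtain ⟨s, hs⟩ := Algebra.FiniteType.out (R := R) (A := K)
  obtain ⟨g, hg, hint⟩ := Algebra.IsAlgebraic.exists_integral_multiples R s
  refine ⟨g, hg, ?_⟩
  have hgK : algebraMap R K g ≠ 0 := fun h => hg (hinj (by rw [h, map_zero]))
  have hgu : IsUnit (algebraMap R K g) := hgK.isUnit
  let _ : Algebra (Localization.Away g) K := (IsLocalization.Away.lift g hgu).toAlgebra
  have htower : IsScalarTower R (Localization.Away g) K :=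
    IsScalarTower.of_algebraMap_eq (fun x => (IsLocalization.Away.lift_eq g hgu x).symm)
  have hinjL : Function.Injective (algebraMap R (Localization.Away g)) :=
    IsLocalization.injective (Localization.Away g)
      (powers_le_nonZeroDivisors_of_noZeroDivisors hg)
  have hinj' : Function.Injective (algebraMap (Localization.Away g) K) := by
    change Function.Injective (IsLocalization.Away.lift g hgu)
    rw [IsLocalization.Away.lift, IsLocalization.lift_injective_iff]
    intro x y
    rw [hinjL.eq_iff, hinj.eq_iff]
  have hintL : ∀ x ∈ s, IsIntegral (Localization.Away g) x := by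
    intro x hx
    have h1 : IsIntegral (Localization.Away g) (g • x) := (hint x hx).tower_top
    have h2 : x = (IsLocalization.Away.invSelf (S := Localization.Away g) g) • (g • x) := by
      rw [Algebra.smul_def, Algebra.smul_def, ← mul_assoc,
        IsScalarTower.algebraMap_apply R (Localization.Away g) K, ← map_mul, mul_comm,
        mul_comm (IsLocalization.Away.invSelf g), IsLocalization.Away.mul_invSelf, map_one,
        mul_one]
    rw [h2]
    exact h1.smul _
  have : Algebra.IsIntegral (Localization.Away g) K := by
    constructor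
    intro x
    have hx : x ∈ Algebra.adjoin R (s : Set K) := by rw [hs]; trivial
    induction hx using Algebra.adjoin_induction with
    | mem x hx => exact hintL x hx
    | algebraMap r =>
      rw [IsScalarTower.algebraMap_apply R (Localization.Away g) K]
      exact isIntegral_algebraMap
    | add x y _ _ hx hy => exact hx.add hy
    | mul x y _ _ hx hy => exact hx.mul hy
  exact isField_of_isIntegral_of_isField hinj' (Field.toIsField K)

/-- For a finite type ring map `φ : R → K` to a field there is `g` with `φ g ≠ 0` such that
`ker φ` is a closed point of the basic open `D(g)`: every prime `q ⊇ ker φ` not containing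
`g` equals `ker φ`. -/
theorem exists_not_mem_forall_prime_le {R K : Type*} [CommRing R] [Field K] (φ : R →+* K)
    (hφ : φ.FiniteType) :
    ∃ g : R, φ g ≠ 0 ∧
      ∀ q : Ideal R, q.IsPrime → RingHom.ker φ ≤ q → g ∉ q → q ≤ RingHom.ker φ := by
  have hp : (RingHom.ker φ).IsPrime := RingHom.ker_isPrime φ
  let ψ : R ⧸ RingHom.ker φ →+* K := RingHom.kerLift φ
  have hψinj : Function.Injective ψ := RingHom.kerLift_injective φ
  have hcomp : ψ.comp (Ideal.Quotient.mk (RingHom.ker φ)) = φ := by
    ext x; rfl
  have hψ : ψ.FiniteType := by
    apply RingHom.FiniteType.of_comp_finiteType (f := Ideal.Quotient.mk (RingHom.ker φ))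
    rw [hcomp]; exact hφ
  let _ : Algebra (R ⧸ RingHom.ker φ) K := ψ.toAlgebra
  have : Algebra.FiniteType (R ⧸ RingHom.ker φ) K := hψ
  obtain ⟨g', hg', hfield⟩ := exists_away_isField (R := R ⧸ RingHom.ker φ) (K := K) hψinj
  obtain ⟨g, rfl⟩ := Ideal.Quotient.mk_surjective g'
  refine ⟨g, ?_, ?_⟩
  · intro h
    exact hg' (Ideal.Quotient.eq_zero_iff_mem.mpr h)
  · intro q hq hpq hgq a haq
    by_contra hap
    have ha' : (Ideal.Quotient.mk (RingHom.ker φ)) a ≠ 0 := fun h =>
      hap (Ideal.Quotient.eq_zero_iff_mem.mp h)
    have hinjL : Function.Injective (algebraMap (R ⧸ RingHom.ker φ)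
        (Localization.Away ((Ideal.Quotient.mk (RingHom.ker φ)) g))) :=
      IsLocalization.injective _ (powers_le_nonZeroDivisors_of_noZeroDivisors hg')
    have ha'' : algebraMap (R ⧸ RingHom.ker φ)
        (Localization.Away ((Ideal.Quotient.mk (RingHom.ker φ)) g))
        ((Ideal.Quotient.mk (RingHom.ker φ)) a) ≠ 0 := fun h =>
      ha' (hinjL (by rw [h, map_zero]))
    obtain ⟨b, hb⟩ := hfield.mul_inv_cancel ha''
    obtain ⟨c, ⟨m, n, hn⟩, rfl⟩ := IsLocalization.exists_mk'_eq
      (Submonoid.powers ((Ideal.Quotient.mk (RingHom.ker φ)) g)) b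
    rw [IsLocalization.mul_mk'_eq_mk'_of_mul, eq_comm, IsLocalization.eq_mk'_iff_mul_eq,
      one_mul] at hb
    have hb' := hinjL hb
    obtain ⟨c, rfl⟩ := Ideal.Quotient.mk_surjective c
    simp only at hn hb'
    rw [← hn, ← map_pow, ← map_mul, Ideal.Quotient.eq] at hb'
    have h1 : g ^ n - a * c ∈ q := hpq hb'
    have h2 : g ^ n ∈ q := by
      have : g ^ n = (g ^ n - a * c) + a * c := by ring
      rw [this]
      exact q.add_mem h1 (q.mul_mem_right c haq)
    exact hgq (hq.mem_of_pow_mem n h2)

end Groth.Agent.Lib.FieldFiniteType
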