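import Mathlib
import Groth.Agent.Lib.FieldFiniteType

/-!
# Finite type points of schemes

A morphism `Spec K ⟶ S` from the spectrum of a field is locally of finite type iff its image
point is closed in some affine open and `K` is finite over the residue field.
-/

universe u

namespace Groth.Agent.Lib.FtPoints

open AlgebraicGeometry CategoryTheory CategoryTheory.Limits

/-- The image of a locally finite type morphism from the spectrum of a field is closed in some
affine open neighbourhood. -/
theorem exists_affine_closed_of_lft {S : Scheme.{u}} {K : Type u} [Field K]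
    (h : Spec (CommRingCat.of K) ⟶ S) [LocallyOfFiniteType h] :
    ∃ U : S.Opens, IsAffineOpen U ∧ ∃ hu : h.base (IsLocalRing.closedPoint K) ∈ U,
      IsClosed ({⟨h.base (IsLocalRing.closedPoint K), hu⟩} : Set ↥U) := by
  set s := h.base (IsLocalRing.closedPoint K) with hs
  obtain ⟨_, ⟨W, hW, rfl⟩, hsW, -⟩ :=
    S.isBasis_affineOpens.exists_subset_of_mem_open (Set.mem_univ s) isOpen_univ
  have hall : ∀ y : Spec (CommRingCat.of K), h.base y = s := fun y => by
    rw [hs]; congr 1; exact Subsingleton.elim _ _
  have hle : (⊤ : (Spec (CommRingCat.of K)).Opens) ≤ h ⁻¹ᵁ W := by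
    intro y _
    change h.base y ∈ W
    rw [hall y]; exact hsW
  let φ : Γ(S, W) ⟶ Γ(Spec (CommRingCat.of K), ⊤) := h.appLE W ⊤ hle
  have hφ : φ.hom.FiniteType := h.finiteType_appLE hW (isAffineOpen_top _) hle
  let φ' : Γ(S, W) →+* K := (Scheme.ΓSpecIso (CommRingCat.of K)).hom.hom.comp φ.hom
  have hφ' : φ'.FiniteType := by
    refine RingHom.FiniteType.comp ?_ hφ
    exact RingHom.FiniteType.of_surjective _
      (ConcreteCategory.bijective_of_isIso (Scheme.ΓSpecIso (CommRingCat.of K)).hom).2
  obtain ⟨g, hg, hgq⟩ := Groth.Agent.Lib.FieldFiniteType.exists_not_mem_forall_prime_le φ' hφ'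
  -- the point `P` of `Spec Γ(S, W)` corresponding to `s`
  let P : Spec Γ(S, W) := (Spec.map (CommRingCat.ofHom φ')).base (IsLocalRing.closedPoint K)
  have hPker : P.asIdeal = RingHom.ker φ' := by
    change Ideal.comap φ' (IsLocalRing.maximalIdeal K) = _
    rw [IsLocalRing.maximalIdeal_eq_bot]
    rfl
  have hιP : hW.fromSpec.base P = s := by
    have e1 : CommRingCat.ofHom φ' = φ ≫ (Scheme.ΓSpecIso (CommRingCat.of K)).hom := rfl
    have e2 : Spec.map (CommRingCat.ofHom φ') ≫ hW.fromSpec =
        Spec.map (Scheme.ΓSpecIso (CommRingCat.of K)).hom ≫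
          (isAffineOpen_top (Spec (CommRingCat.of K))).fromSpec ≫ h := by
      rw [e1, Spec.map_comp, Category.assoc, IsAffineOpen.SpecMap_appLE_fromSpec]
    change (Spec.map (CommRingCat.ofHom φ') ≫ hW.fromSpec).base _ = s
    rw [e2, Scheme.Hom.comp_apply, Scheme.Hom.comp_apply]
    exact hall _
  have hsU : s ∈ S.basicOpen g := by
    have : P ∈ hW.fromSpec ⁻¹ᵁ S.basicOpen g := by
      rw [hW.fromSpec_preimage_basicOpen]
      change g ∉ P.asIdeal
      rw [hPker]
      exact hg
    rw [← hιP]; exact this
  refine ⟨S.basicOpen g, hW.basicOpen g, hsU, ?_⟩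
  rw [← closure_subset_iff_isClosed]
  rintro ⟨t, ht⟩ htcl
  rw [← specializes_iff_mem_closure, subtype_specializes_iff] at htcl
  have htW : t ∈ Set.range hW.fromSpec.base := by
    rw [hW.range_fromSpec]; exact S.basicOpen_le g ht
  obtain ⟨q, rfl⟩ := htW
  have h1 : P ⤳ q := by
    rw [← hW.fromSpec.isOpenEmbedding.isInducing.specializes_iff, hιP]; exact htcl
  replace h1 : P.asIdeal ≤ q.asIdeal := (PrimeSpectrum.le_iff_specializes P q).mpr h1
  have h2 : g ∉ q.asIdeal := by
    have : q ∈ hW.fromSpec ⁻¹ᵁ S.basicOpen g := ht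
    rw [hW.fromSpec_preimage_basicOpen] at this
    exact this
  have h3 : q.asIdeal ≤ RingHom.ker φ' := hgq q.asIdeal q.isPrime (hPker ▸ h1) h2
  have h4 : q = P := by
    apply PrimeSpectrum.ext
    apply le_antisymm
    · rw [hPker]; exact h3
    · exact h1
  rw [Set.mem_singleton_iff, Subtype.mk.injEq, h4, hιP]

/-- If `s` is closed in some open neighbourhood, then `Spec κ(s) ⟶ S` is locally of finite
type. -/
theorem lft_fromSpecResidueField_of_closed {S : Scheme.{u}} (s : S) (U : S.Opens) (hs : s ∈ U)
    (hcl : IsClosed ({⟨s, hs⟩} : Set ↥U)) : LocallyOfFiniteType (S.fromSpecResidueField s) := by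
  have h1 : IsClosedImmersion (U.toScheme.fromSpecResidueField ⟨s, hs⟩) :=
    isClosed_singleton_iff_isClosedImmersion.mp hcl
  have h2 := Scheme.Hom.SpecMap_residueFieldMap_fromSpecResidueField U.ι ⟨s, hs⟩
  have h3 : S.fromSpecResidueField (U.ι.base ⟨s, hs⟩) =
      inv (Spec.map (U.ι.residueFieldMap ⟨s, hs⟩)) ≫
        U.toScheme.fromSpecResidueField ⟨s, hs⟩ ≫ U.ι := by
    rw [← h2, IsIso.inv_hom_id_assoc]
  have h4 : LocallyOfFiniteType (S.fromSpecResidueField (U.ι.base ⟨s, hs⟩)) := by
    rw [h3]; infer_instance
  exact h4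

/-- The closed point of the spectrum of a field gives an isomorphism
`Spec κ(pt) ≅ Spec K`. -/
instance isIso_fromSpecResidueField_field (K : Type u) [Field K]
    (y : Spec (CommRingCat.of K)) :
    IsIso ((Spec (CommRingCat.of K)).fromSpecResidueField y) := by
  have hcl : IsClosed ({y} : Set (Spec (CommRingCat.of K))) := isClosed_singleton
  have : IsClosedImmersion ((Spec (CommRingCat.of K)).fromSpecResidueField y) :=
    isClosed_singleton_iff_isClosedImmersion.mp hcl
  have : Surjective ((Spec (CommRingCat.of K)).fromSpecResidueField y) := by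
    constructor
    intro z
    refine ⟨IsLocalRing.closedPoint _, ?_⟩
    exact Subsingleton.elim _ _
  exact isIso_of_isClosedImmersion_of_surjective _

/-- A morphism from the spectrum of a field is locally of finite type iff its image is a
finite type point and the residue field extension is finite. -/
theorem lft_iff {S : Scheme.{u}} {K : Type u} [Field K] (h : Spec (CommRingCat.of K) ⟶ S) :
    LocallyOfFiniteType h ↔
      LocallyOfFiniteType (S.fromSpecResidueField (h.base (IsLocalRing.closedPoint K))) ∧
        (h.residueFieldMap (IsLocalRing.closedPoint K)).hom.Finite := by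
  have key := Scheme.Hom.SpecMap_residueFieldMap_fromSpecResidueField h (IsLocalRing.closedPoint K)
  constructor
  · intro hlft
    obtain ⟨U, -, hu, hcl⟩ := exists_affine_closed_of_lft h
    have h1 := lft_fromSpecResidueField_of_closed _ U hu hcl
    refine ⟨h1, ?_⟩
    have h2 : LocallyOfFiniteType (Spec.map (h.residueFieldMap (IsLocalRing.closedPoint K)) ≫
        S.fromSpecResidueField (h.base (IsLocalRing.closedPoint K))) := by
      rw [key]; infer_instance
    have h3 : LocallyOfFiniteType (Spec.map (h.residueFieldMap (IsLocalRing.closedPoint K))) :=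
      locallyOfFiniteType_of_comp _ (S.fromSpecResidueField (h.base (IsLocalRing.closedPoint K)))
    have h4 := (isFinite_iff_locallyOfFiniteType_of_jacobsonSpace
      (f := Spec.map (h.residueFieldMap (IsLocalRing.closedPoint K)))).mpr h3
    exact (IsFinite.SpecMap_iff _).mp h4
  · rintro ⟨h1, h2⟩
    have h3 : IsFinite (Spec.map (h.residueFieldMap (IsLocalRing.closedPoint K))) :=
      (IsFinite.SpecMap_iff _).mpr h2
    have h4 : LocallyOfFiniteType
        ((Spec (CommRingCat.of K)).fromSpecResidueField (IsLocalRing.closedPoint K) ≫ h) := by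
      rw [← key]; infer_instance
    exact (MorphismProperty.cancel_left_of_respectsIso (P := @LocallyOfFiniteType) _ _).mp h4

end Groth.Agent.Lib.FtPoints
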