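import Groth.Prelude
import Groth.Agent.Lib.AlgSpFlatPt
import Groth.Agent.Lib.FtPoints
import Groth.Agent.Lib.AlgSpQC


set_option autoImplicit false

universe u
open CategoryTheory CategoryTheory.Limits AlgebraicGeometry Opposite
open AlgSp

namespace Groth.Agent.Lib.AlgSpFlatPt
open Groth.Agent.Lib.AlgSpLocP Groth.Agent.Lib.AlgSpBasic Groth.Agent.Lib.AlgSpPoints
  Groth.Agent.Lib.AlgSpSrcCover Groth.Agent.Lib.H80DecentPt Groth.Agent.Lib.AlgSpQC

variable {S : Scheme.{u}}

/-- Every nonempty scheme has a point that is closed in an affine open neighbourhood. -/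
theorem exists_closed_in_affineOpen (U : Scheme.{u}) [Nonempty ↥U] :
    ∃ (u : ↥U) (O : U.Opens) (hu : u ∈ O), IsClosed ({⟨u, hu⟩} : Set ↥O) := by
  obtain ⟨u₀⟩ := ‹Nonempty ↥U›
  obtain ⟨_, ⟨O, hO, rfl⟩, hu₀, -⟩ :=
    U.isBasis_affineOpens.exists_subset_of_mem_open (Set.mem_univ u₀) isOpen_univ
  have : CompactSpace ↥O := isCompact_iff_compactSpace.mp hO.isCompact
  obtain ⟨x, -, hx⟩ := IsClosed.exists_closed_singleton (X := ↥O) isClosed_univ ⟨⟨u₀, hu₀⟩, trivial⟩
  exact ⟨x.1, O, x.2, hx⟩

/-- A representable etale morphism is `LocP` locally of finite type. -/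
theorem locP_lft_of_repWith_etale {X Z : Sp S} (hX : IsAlgSpace X) (a : X ⟶ Z)
    (ha : RepWith @Etale a) : LocP @LocallyOfFiniteType a :=
  locP_of_repWith @LocallyOfFiniteType (fun _ _ _ l w hl hw => by
      have : Etale l := hl
      have : LocallyOfFiniteType w := hw
      exact (inferInstance : LocallyOfFiniteType (l ≫ w)))
    (fun _ a => hX.representable_from_yon a)
    (repWith_mono (fun _ _ f hf => by
      have : Etale f := hf
      exact (inferInstance : LocallyOfFiniteType f)) ha)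

/-- Every nonempty algebraic space has a field point locally of finite type. -/
theorem exists_lft_fieldPt {Z : Sp S} (hZ : IsAlgSpace Z) [Nonempty (Points Z)] :
    ∃ p : FieldPt Z, LocP @LocallyOfFiniteType p.toHom := by
  obtain ⟨U, a, hae, has⟩ := hZ.atlas
  obtain ⟨z⟩ := ‹Nonempty (Points Z)›
  obtain ⟨u₀, -⟩ := surjective_ofPt_of_repWith_surjective has z
  have : Nonempty ↥U.left := ⟨u₀⟩
  obtain ⟨u, O, hu, hcl⟩ := exists_closed_in_affineOpen U.left
  refine ⟨FieldPt.ofPt a u, ?_⟩
  rw [FieldPt.toHom_ofPt]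
  have hlft : LocallyOfFiniteType (U.left.fromSpecResidueField u) :=
    Groth.Agent.Lib.FtPoints.lft_fromSpecResidueField_of_closed u O hu hcl
  refine locP_comp etLocalClass_lft (IsAlgSpace.yon_obj _) (IsAlgSpace.yon_obj _) hZ ?_
    (locP_lft_of_repWith_etale (IsAlgSpace.yon_obj _) a hae)
  exact locP_of_repWith @LocallyOfFiniteType (fun _ _ _ l w hl hw => by
      have : Etale l := hl
      have : LocallyOfFiniteType w := hw
      exact (inferInstance : LocallyOfFiniteType (l ≫ w)))
    (fun _ a => (IsAlgSpace.yon_obj _).representable_from_yon a)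
    ((repWith_yon_map_iff _ _).2 hlft)

end Groth.Agent.Lib.AlgSpFlatPt
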