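import Mathlib


set_option autoImplicit false

universe u
open CategoryTheory CategoryTheory.Limits AlgebraicGeometry Opposite

namespace Groth.Agent.Lib.GenericFlatPt

theorem flat_fromSpecStalk (X : Scheme.{u}) (x : X) : Flat (X.fromSpecStalk x) := by
  let U := (X.affineCover.f (X.affineCover.idx x)).opensRange
  have hU : IsAffineOpen U := isAffineOpen_opensRange (X.affineCover.f (X.affineCover.idx x))
  have hx : x ∈ U := X.affineCover.covers x
  rw [← hU.fromSpecStalk_eq_fromSpecStalk hx]
  dsimp only [IsAffineOpen.fromSpecStalk]
  have : Flat (Spec.map (X.presheaf.germ U x hx)) := by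
    rw [Flat.SpecMap_iff]
    let : Algebra Γ(X, U) (X.presheaf.stalk x) := (X.presheaf.germ U x hx).hom.toAlgebra
    have := hU.isLocalization_stalk ⟨x, hx⟩
    exact IsLocalization.flat (X.presheaf.stalk x) (hU.primeIdealOf ⟨x, hx⟩).asIdeal.primeCompl
  infer_instance

/-- If the local ring at `x` is a field, `Spec κ(x) ⟶ X` is flat. -/
theorem flat_fromSpecResidueField_of_isField (X : Scheme.{u}) (x : X)
    (h : IsField (X.presheaf.stalk x)) : Flat (X.fromSpecResidueField x) := by
  have hbij : Function.Bijective (X.residue x).hom := by
    let := h.toField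
    exact ⟨(X.residue x).hom.injective, Ideal.Quotient.mk_surjective⟩
  have hiso : IsIso (X.residue x) := by
    rw [ConcreteCategory.isIso_iff_bijective]
    exact hbij
  have := flat_fromSpecStalk X x
  dsimp only [Scheme.fromSpecResidueField]
  infer_instance

/-- A nonempty reduced scheme has a point whose residue field spectrum maps flatly to it
(the generic point of an irreducible component). -/
theorem exists_flat_fromSpecResidueField (U : Scheme.{u}) [IsReduced U] [Nonempty ↥U] :
    ∃ u : ↥U, Flat (U.fromSpecResidueField u) := by
  obtain ⟨u₀⟩ := ‹Nonempty ↥U›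
  obtain ⟨x, hx⟩ := QuasiSober.sober (isIrreducible_irreducibleComponent (x := u₀))
    (isClosed_irreducibleComponent (x := u₀))
  refine ⟨x, flat_fromSpecResidueField_of_isField U x ?_⟩
  apply isField_stalk_of_closure_mem_irreducibleComponents
  rw [hx.def]
  exact irreducibleComponent_mem_irreducibleComponents u₀

end Groth.Agent.Lib.GenericFlatPt
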