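import Groth.Prelude
import Groth.Agent.Lib.AlgSpFlatPt2
import Groth.Agent.Lib.GenericFlatPt
import Groth.Agent.Lib.H69AlgSpReduced


set_option autoImplicit false

universe u
open CategoryTheory CategoryTheory.Limits AlgebraicGeometry Opposite
open AlgSp

namespace Groth.Agent.Lib.AlgSpFlatPt
open Groth.Agent.Lib.AlgSpLocP Groth.Agent.Lib.AlgSpBasic Groth.Agent.Lib.AlgSpPoints
  Groth.Agent.Lib.AlgSpSrcCover Groth.Agent.Lib.H80DecentPt Groth.Agent.Lib.AlgSpQC

variable {S : Scheme.{u}}

/-- A representable etale morphism is `LocP` flat. -/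
theorem locP_flat_of_repWith_etale {X Z : Sp S} (hX : IsAlgSpace X) (a : X ⟶ Z)
    (ha : RepWith @Etale a) : LocP @Flat a :=
  locP_of_repWith @Flat (fun _ _ _ l w hl hw => by
      have : Etale l := hl
      have : Flat w := hw
      exact (inferInstance : Flat (l ≫ w)))
    (fun _ a => hX.representable_from_yon a)
    (repWith_mono (fun _ _ f hf => by
      have : Etale f := hf
      exact (inferInstance : Flat f)) ha)

/-- Stacks 06QV (1) ⇒ (2): a nonempty reduced algebraic space has a flat field point. -/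
theorem exists_flat_fieldPt_of_reduced {Z : Sp S} (hZ : IsAlgSpace Z) (hr : IsReducedSp Z)
    [Nonempty (Points Z)] : ∃ p : FieldPt Z, LocP @Flat p.toHom := by
  obtain ⟨U, a, hae, has, hU⟩ := hr
  obtain ⟨z⟩ := ‹Nonempty (Points Z)›
  obtain ⟨u₀, -⟩ := surjective_ofPt_of_repWith_surjective has z
  have : Nonempty ↥U.left := ⟨u₀⟩
  have : IsReduced U.left := hU
  obtain ⟨u, hu⟩ := Groth.Agent.Lib.GenericFlatPt.exists_flat_fromSpecResidueField U.left
  refine ⟨FieldPt.ofPt a u, ?_⟩
  rw [FieldPt.toHom_ofPt]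
  exact locP_comp etLocalClass_flat (IsAlgSpace.yon_obj _) (IsAlgSpace.yon_obj _) hZ
    (locP_flat_yon_map _ hu) (locP_flat_of_repWith_etale (IsAlgSpace.yon_obj _) a hae)

/-- Stacks 06QV (2) ⇒ (1): an algebraic space with a flat surjective field point is reduced. -/
theorem isReducedSp_of_flat_surjective_fieldPt {Z : Sp S} (hZ : IsAlgSpace Z) (k : Type u) [Field k]
    (str : Spec (CommRingCat.of k) ⟶ S) (p : (yon S).obj (Over.mk str) ⟶ Z)
    (hpf : LocP @Flat p) (hps : IsSurjectiveMor p) : IsReducedSp Z :=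
  Groth.Agent.Lib.H69AlgSpReduced.isReducedSp_of_flat_surjective hZ p hpf hps
    ⟨Over.mk str, 𝟙 _, AlgSp.repWith_id _ _, AlgSp.repWith_id _ _,
      inferInstanceAs (IsReduced (Spec (CommRingCat.of k)))⟩

end Groth.Agent.Lib.AlgSpFlatPt
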