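import Mathlib.RingTheory.RegularLocalRing.Defs
import Mathlib.RingTheory.LocalRing.Length
import Mathlib.RingTheory.Ideal.GoingDown
import Mathlib.RingTheory.Ideal.Cotangent
import Mathlib.RingTheory.TensorProduct.Quotient

/-!
Regularity along a flat local homomorphism `A → B` of Noetherian local rings with `m_A B = m_B`.
-/

set_option autoImplicit false

namespace Groth.Agent.Lib.RegularFlatLocal

open IsLocalRing

/-- `length (R / m²) = embdim R + 1`. -/
theorem length_quotient_maximalIdeal_sq (R : Type*) [CommRing R] [IsLocalRing R]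
    [IsNoetherianRing R] :
    Module.length R (R ⧸ (maximalIdeal R) ^ 2) = ((maximalIdeal R).spanFinrank : ℕ∞) + 1 := by
  let f : (maximalIdeal R).Cotangent →ₗ[R] R ⧸ (maximalIdeal R) ^ 2 :=
    (maximalIdeal R).cotangentToQuotientSquare
  let g : (R ⧸ (maximalIdeal R) ^ 2) →ₗ[R] (R ⧸ maximalIdeal R) :=
    (Ideal.Quotient.factorₐ R (Ideal.pow_le_self two_ne_zero)).toLinearMap
  have hf : Function.Injective f := (maximalIdeal R).cotangentToQuotientSquare_injective
  have hg : Function.Surjective g :=
    Ideal.Quotient.factor_surjective (Ideal.pow_le_self two_ne_zero)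
  have hex : Function.Exact f g := by
    rw [LinearMap.exact_iff, Ideal.range_cotangentToQuotientSquare]
    ext x
    obtain ⟨y, rfl⟩ := Ideal.Quotient.mk_surjective x
    rw [LinearMap.mem_ker, Submodule.restrictScalars_mem, Ideal.mk_mem_cotangentIdeal]
    change Ideal.Quotient.mk (maximalIdeal R) y = 0 ↔ _
    exact Ideal.Quotient.eq_zero_iff_mem
  rw [Module.length_eq_add_of_exact f g hf hg hex]
  have h1 : Module.length R (R ⧸ maximalIdeal R) = 1 := by
    rw [Module.length_eq_one_iff, isSimpleModule_iff_isCoatom, ← Ideal.isMaximal_def]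
    infer_instance
  have h2 : Module.length R (maximalIdeal R).Cotangent = ((maximalIdeal R).spanFinrank : ℕ∞) := by
    rw [spanFinrank_maximalIdeal_eq_finrank_cotangentSpace,
      ← Module.length_eq_finrank (ResidueField R) (CotangentSpace R)]
    exact Module.length_eq_of_surjective (S := R) (R := ResidueField R) (M := CotangentSpace R)
      residue_surjective
  rw [h1, h2]

section

open TensorProduct

variable {A B : Type*} [CommRing A] [CommRing B] [Algebra A B] [IsLocalRing A] [IsLocalRing B]
  [IsNoetherianRing A] [IsNoetherianRing B] [Module.Flat A B] [IsLocalHom (algebraMap A B)]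

theorem spanFinrank_maximalIdeal_eq
    (hmap : (maximalIdeal A).map (algebraMap A B) = maximalIdeal B) :
    (maximalIdeal B).spanFinrank = (maximalIdeal A).spanFinrank := by
  have h := IsLocalRing.length_baseChange A B (A ⧸ (maximalIdeal A) ^ 2)
  rw [hmap] at h
  have h1 : Module.length B (B ⧸ maximalIdeal B) = 1 := by
    rw [Module.length_eq_one_iff, isSimpleModule_iff_isCoatom, ← Ideal.isMaximal_def]
    infer_instance
  have h3 := (Algebra.TensorProduct.quotIdealMapEquivTensorQuot (A := A) B
      ((maximalIdeal A) ^ 2)).toLinearEquiv.length_eq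
  rw [h1, mul_one, ← h3, Ideal.map_pow, hmap,
    length_quotient_maximalIdeal_sq, length_quotient_maximalIdeal_sq] at h
  have h2 : ((maximalIdeal B).spanFinrank : ℕ∞) = ((maximalIdeal A).spanFinrank : ℕ∞) := by
    exact WithTop.add_right_cancel ENat.one_ne_top h
  exact_mod_cast h2

theorem ringKrullDim_eq (hmap : (maximalIdeal A).map (algebraMap A B) = maximalIdeal B) :
    ringKrullDim B = ringKrullDim A := by
  have : Algebra.HasGoingDown A B := Algebra.HasGoingDown.of_flat
  have h := Ideal.height_eq_height_add_of_liesOver_of_hasGoingDown (maximalIdeal A)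
    (maximalIdeal B)
  rw [hmap, Ideal.map_quotient_self, Ideal.height_bot, add_zero] at h
  rw [← IsLocalRing.maximalIdeal_height_eq_ringKrullDim,
    ← IsLocalRing.maximalIdeal_height_eq_ringKrullDim, h]

/-- Regularity ascends and descends along a flat local homomorphism of Noetherian local rings with
`m_A B = m_B`. -/
theorem isRegularLocalRing_iff_of_flat (hmap : (maximalIdeal A).map (algebraMap A B) = maximalIdeal B) :
    IsRegularLocalRing B ↔ IsRegularLocalRing A := by
  rw [_root_.isRegularLocalRing_iff, _root_.isRegularLocalRing_iff,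
    spanFinrank_maximalIdeal_eq hmap, ringKrullDim_eq hmap]

end

end Groth.Agent.Lib.RegularFlatLocal
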