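import Groth.Agent.Lib.H69AlgSpDescProp
import Groth.Agent.Lib.H87Serre2
import Groth.Agent.S0065

/-!
# Regularity descends along fppf coverings of algebraic spaces (helper69)
-/

set_option autoImplicit false
universe u
open CategoryTheory CategoryTheory.Limits AlgebraicGeometry Opposite

namespace Groth.Agent.Lib.H69AlgSpRegular

open AlgSp

variable {S : Scheme.{u}}

/-- The scheme property "locally Noetherian with regular local rings". -/
def IsRegularSch (U : Scheme.{u}) : Prop :=
  IsLocallyNoetherian U ∧ ∀ u : ↥U, IsRegularLocalRing ↥(U.presheaf.stalk u)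

theorem isRegularSch_of_etale {W U : Scheme.{u}} (s : W ⟶ U) (hs : Etale s) (hU : IsRegularSch U) :
    IsRegularSch W := by
  obtain ⟨hN, hreg⟩ := hU
  have : Etale s := hs
  have : IsLocallyNoetherian U := hN
  refine ⟨LocallyOfFiniteType.isLocallyNoetherian s, fun w => ?_⟩
  exact (Groth.Agent.S0065.result s w).2 (hreg _)

theorem isRegularSch_of_fppf {W V : Scheme.{u}} (t : W ⟶ V) (hfl : Flat t)
    (hfp : LocallyOfFinitePresentation t) (hts : Surjective t) (hW : IsRegularSch W) :
    IsRegularSch V := by
  obtain ⟨hN, hreg⟩ := hW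
  have : Flat t := hfl
  have : LocallyOfFinitePresentation t := hfp
  have : Surjective t := hts
  have : IsLocallyNoetherian W := hN
  have hV : IsLocallyNoetherian V := Groth.Agent.Lib.NoethDescent.isLocallyNoetherian_of_fppf t
  refine ⟨hV, fun v => ?_⟩
  obtain ⟨w, rfl⟩ := t.surjective v
  algebraize [(t.stalkMap w).hom]
  have : Module.Flat (V.presheaf.stalk (t w)) (W.presheaf.stalk w) := Flat.stalkMap t w
  have : IsLocalHom (algebraMap (V.presheaf.stalk (t w)) (W.presheaf.stalk w)) := t.toLRSHom.prop w
  have : IsRegularLocalRing (W.presheaf.stalk w) := hreg w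
  exact Groth.Agent.Lib.H87Serre2.isRegularLocalRing_of_flat (V.presheaf.stalk (t w))
    (W.presheaf.stalk w)

/-- Regularity descends along fppf coverings of algebraic spaces. -/
theorem etaleLocally_isRegularSch_of_fppf {X Y : Sp S} (hY : IsAlgSpace Y) (f : X ⟶ Y)
    (hfp : LocP @LocallyOfFinitePresentation f) (hfl : LocP @Flat f) (hs : IsSurjectiveMor f)
    (hX : EtaleLocally IsRegularSch X) : EtaleLocally IsRegularSch Y := by
  refine Groth.Agent.Lib.H69AlgSpDescProp.etaleLocally_of_surjective
    (@Flat ⊓ @LocallyOfFinitePresentation) ?_ ?_ hY f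
    (Groth.Agent.Lib.H69AlgSpDescProp.locP_inf hfl hfp) hs hX
  · intro W U s hs hU
    exact isRegularSch_of_etale s hs hU
  · intro W V t ht hts hW
    exact isRegularSch_of_fppf t ht.1 ht.2 hts hW

end Groth.Agent.Lib.H69AlgSpRegular
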