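import Groth.Prelude
import Groth.Agent.Lib.AlgSpFlatPt3
import Groth.Agent.Lib.H69AlgSpRegular


set_option autoImplicit false

universe u
open CategoryTheory CategoryTheory.Limits AlgebraicGeometry Opposite
open AlgSp

namespace Groth.Agent.Lib.AlgSpFlatPt
open Groth.Agent.Lib.H69AlgSpRegular

variable {S : Scheme.{u}}

theorem isRegularSch_spec_field (k : Type u) [Field k] :
    IsRegularSch (Spec (CommRingCat.of k)) := by
  refine ⟨inferInstance, fun x => ?_⟩
  have hu : ∀ y : k, y ∈ (x.asIdeal.primeCompl : Submonoid k) → IsUnit y := by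
    intro y hy
    refine isUnit_iff_ne_zero.mpr ?_
    rintro rfl
    exact hy (Ideal.zero_mem _)
  let e := IsLocalization.atUnits k x.asIdeal.primeCompl
    (S := (Spec.structureSheaf (CommRingCat.of k)).presheaf.stalk x) hu
  exact IsRegularLocalRing.of_ringEquiv e.toRingEquiv

end Groth.Agent.Lib.AlgSpFlatPt
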