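import Groth.Agent.Lib.AlgSpFpqcSingle

/-!
# fppf coverings of algebraic spaces are fpqc coverings; operations on fpqc coverings (owner: helper91)

Namespace `Groth.Agent.Lib.AlgSpFpqc` (continues `Lib/AlgSpFpqcSingle.lean`).  Append-only please.
-/

set_option autoImplicit false
universe u
open CategoryTheory CategoryTheory.Limits AlgebraicGeometry Opposite Topology

namespace Groth.Agent.Lib.AlgSpFpqc

open AlgSp Groth.Agent.Lib.AlgSpPoints Groth.Agent.Lib.AlgSpQC Groth.Agent.Lib.AlgSpFibre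
  Groth.Agent.Lib.AlgSpDescent Groth.Agent.Lib.H69AlgSp Groth.Agent.Lib.H69AlgSpMor
  Groth.Agent.Lib.AlgSpLocP Groth.Agent.Lib.AlgSpBasic

variable {S : Scheme.{u}}

/-- A jointly surjective family of flat, locally finitely presented morphisms of algebraic spaces has the fpqc
refinement property: over an affine scheme, the images of affine opens of charts of the fibre products form an open
covering, which has a finite subcovering. -/
theorem hasFpqcRefinement_of_flat_lfp {ι : Type u} {X : Sp S} (hX : IsAlgSpace X) {Xi : ι → Sp S}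
    (hXi : ∀ i, IsAlgSpace (Xi i)) {g : ∀ i, Xi i ⟶ X} (hfl : ∀ i, LocP @Flat (g i))
    (hfp : ∀ i, LocP @LocallyOfFinitePresentation (g i))
    (hs : ∀ x : Points X, ∃ i, x ∈ Set.range (Points.map (g i))) : HasFpqcRefinement Xi g := by
  intro Z hZ t
  have hZc : CompactSpace ↥Z.left := by
    have := hZ
    infer_instance
  have sqP : ∀ i, IsPullback (pullback.fst (g i) t) (pullback.snd (g i) t) (g i) t :=
    fun i => IsPullback.of_hasPullback _ _
  have hP : ∀ i, IsAlgSpace (pullback (g i) t) := fun i =>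
    isAlgSpace_of_isPullback hX.diag (hXi i) (IsAlgSpace.yon_obj Z) (sqP i)
  choose U r hre hrs using fun i => (hP i).atlas
  have hflat : ∀ i, LocP @Flat (pullback.snd (g i) t) := fun i =>
    locP_of_isPullback etLocalClass_flat (hXi i) hX (IsAlgSpace.yon_obj Z) (sqP i) (hfl i)
  have hlfp : ∀ i, LocP @LocallyOfFinitePresentation (pullback.snd (g i) t) := fun i =>
    locP_of_isPullback etLocalClass_lfp (hXi i) hX (IsAlgSpace.yon_obj Z) (sqP i) (hfp i)
  let κ := Σ i, (U i).left.affineOpens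
  let W' : κ → Over S := fun k => Over.mk (k.2.1.ι ≫ (U k.1).hom)
  let c' : ∀ k : κ, W' k ⟶ Z := fun k =>
    (yon S).preimage (restrictChart (r k.1) k.2.1 ≫ pullback.snd (g k.1) t)
  have hc' : ∀ k, (yon S).map (c' k) = restrictChart (r k.1) k.2.1 ≫ pullback.snd (g k.1) t :=
    fun k => (yon S).map_preimage _
  have hcfl : ∀ k, Flat (c' k).left := fun k =>
    hflat k.1 (restrictChart (r k.1) k.2.1) (𝟙 _) (c' k) (repWith_etale_restrictChart (hre k.1) _)
      (Groth.Agent.Lib.AlgSpQC.repWith_id _ Z) (by rw [hc' k, Category.comp_id])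
  have hcfp : ∀ k, LocallyOfFinitePresentation (c' k).left := fun k =>
    hlfp k.1 (restrictChart (r k.1) k.2.1) (𝟙 _) (c' k) (repWith_etale_restrictChart (hre k.1) _)
      (Groth.Agent.Lib.AlgSpQC.repWith_id _ Z) (by rw [hc' k, Category.comp_id])
  have hopen : ∀ k, IsOpen (Set.range (c' k).left) := fun k => by
    have := hcfl k
    have := hcfp k
    have : UniversallyOpen (c' k).left := inferInstance
    exact (c' k).left.isOpenMap.isOpen_range
  have hcover : ∀ z : ↥Z.left, ∃ k, z ∈ Set.range (c' k).left := by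
    intro z
    obtain ⟨i, xi, hxi⟩ := hs (Points.map t (Points.schemeHomeo Z z))
    obtain ⟨p, -, hp⟩ := exists_point_of_isPullback (sqP i) xi (Points.schemeHomeo Z z) hxi
    obtain ⟨u, rfl⟩ := surjective_ofPt_of_repWith_surjective (hrs i) p
    obtain ⟨_, ⟨W, hW, rfl⟩, huW, -⟩ := ((U i).left.isBasis_affineOpens).exists_subset_of_mem_open
      (Set.mem_univ u) isOpen_univ
    refine ⟨⟨i, ⟨W, hW⟩⟩, ⟨u, huW⟩, ?_⟩
    apply (Points.schemeHomeo Z).injective
    rw [← Points.map_yon_map_apply, hc', ← hp]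
    change Points.map _ (Points.ofPt (𝟙 _) _) = _
    rw [Points.map_ofPt, Category.id_comp, ← Points.map_ofPt, ofPt_restrictChart]
  obtain ⟨s, hs'⟩ := isCompact_univ.elim_finite_subcover (fun k => Set.range (c' k).left) hopen
    (fun z _ => Set.mem_iUnion.2 (hcover z))
  let e : Fin s.card ≃ s := s.equivFin.symm
  refine ⟨s.card, fun j => W' (e j).1, fun j => c' (e j).1, fun j => (e j).1.2.2, fun j => hcfl _,
    fun z => ?_, fun j => ?_⟩
  · have := hs' (Set.mem_univ z)
    simp only [Set.mem_iUnion] at this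
    obtain ⟨k, hk, hzk⟩ := this
    refine ⟨e.symm ⟨k, hk⟩, ?_⟩
    change z ∈ Set.range (c' (e (e.symm ⟨k, hk⟩)).1).left
    rw [Equiv.apply_symm_apply]
    exact hzk
  · refine ⟨(e j).1.1, restrictChart (r (e j).1.1) (e j).1.2.1 ≫ pullback.fst (g (e j).1.1) t, ?_⟩
    rw [Category.assoc, pullback.condition, ← Category.assoc, ← hc' (e j).1]

/-- An fppf covering of an algebraic space by algebraic spaces is an fpqc covering. -/
theorem isFpqcCover_of_isFppfCover {ι : Type u} {X : Sp S} (hX : IsAlgSpace X) {Xi : ι → Sp S}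
    (hXi : ∀ i, IsAlgSpace (Xi i)) {g : ∀ i, Xi i ⟶ X} (h : IsFppfCover Xi g) : IsFpqcCover Xi g :=
  ⟨fun i => (h.1 i).1, hasFpqcRefinement_of_flat_lfp hX hXi (fun i => (h.1 i).1) (fun i => (h.1 i).2) h.2⟩

end Groth.Agent.Lib.AlgSpFpqc

namespace Groth.Agent.Lib.AlgSpFpqc

open AlgSp Groth.Agent.Lib.AlgSpPoints Groth.Agent.Lib.AlgSpQC Groth.Agent.Lib.AlgSpFibre
  Groth.Agent.Lib.AlgSpDescent Groth.Agent.Lib.H69AlgSp Groth.Agent.Lib.H69AlgSpMor
  Groth.Agent.Lib.AlgSpLocP Groth.Agent.Lib.AlgSpBasic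

variable {S : Scheme.{u}}

/-- The refinement property is transitive: refinements of the members of a refining family give a refinement by the
composites. -/
theorem HasFpqcRefinement.sigma {ι : Type u} {X : Sp S} {Xi : ι → Sp S} {g : ∀ i, Xi i ⟶ X}
    (h : HasFpqcRefinement Xi g) {κ : ι → Type u} {Xij : ∀ i, κ i → Sp S} {gij : ∀ i j, Xij i j ⟶ Xi i}
    (hij : ∀ i, HasFpqcRefinement (Xij i) (gij i)) :
    HasFpqcRefinement (fun r : Σ i, κ i => Xij r.1 r.2) (fun r => gij r.1 r.2 ≫ g r.1) := by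
  intro Z hZ t
  obtain ⟨m, W, c, hW, hc, hsurj, hl⟩ := h Z hZ t
  choose i l hl using hl
  choose n W' c' hW' hc' hsurj' hl' using fun j => hij (i j) (W j) (hW j) (l j)
  let e : (Σ j : Fin m, Fin (n j)) ≃ Fin (∑ j, n j) := finSigmaFinEquiv
  refine ⟨∑ j, n j, fun a => W' (e.symm a).1 (e.symm a).2,
    fun a => c' (e.symm a).1 (e.symm a).2 ≫ c (e.symm a).1, fun a => hW' _ _, fun a => ?_, fun z => ?_,
    fun a => ?_⟩
  · have h1 : Flat (c' (e.symm a).1 (e.symm a).2).left := hc' _ _
    have h2 : Flat (c (e.symm a).1).left := hc _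
    change Flat ((c' (e.symm a).1 (e.symm a).2).left ≫ (c (e.symm a).1).left)
    infer_instance
  · obtain ⟨j, w, hw⟩ := hsurj z
    obtain ⟨k, w', hw'⟩ := hsurj' j w
    refine ⟨e ⟨j, k⟩, ?_⟩
    change z ∈ Set.range ((c' (e.symm (e ⟨j, k⟩)).1 (e.symm (e ⟨j, k⟩)).2).left ≫
      (c (e.symm (e ⟨j, k⟩)).1).left)
    rw [Equiv.symm_apply_apply]
    exact ⟨w', by rw [Scheme.Hom.comp_apply, hw', hw]⟩
  · obtain ⟨j', l'', hl''⟩ := hl' (e.symm a).1 (e.symm a).2
    refine ⟨⟨i (e.symm a).1, j'⟩, l'', ?_⟩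
    change l'' ≫ gij _ j' ≫ g _ = _
    rw [← Category.assoc, hl'', Category.assoc, hl, Functor.map_comp, Category.assoc]

end Groth.Agent.Lib.AlgSpFpqc

namespace Groth.Agent.Lib.AlgSpFpqc

open AlgSp Groth.Agent.Lib.AlgSpPoints Groth.Agent.Lib.AlgSpQC Groth.Agent.Lib.AlgSpFibre
  Groth.Agent.Lib.AlgSpDescent Groth.Agent.Lib.H69AlgSp Groth.Agent.Lib.H69AlgSpMor
  Groth.Agent.Lib.AlgSpLocP Groth.Agent.Lib.AlgSpBasic

variable {S : Scheme.{u}}

/-- If every member of a family with the refinement property factors through a member of a second family, the second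
family has the refinement property. -/
theorem HasFpqcRefinement.of_factor {ι κ : Type u} {X : Sp S} {Y : ι → Sp S} {g : ∀ i, Y i ⟶ X}
    {Y' : κ → Sp S} {g' : ∀ k, Y' k ⟶ X} (h : HasFpqcRefinement Y' g')
    (hf : ∀ k, ∃ (i : ι) (r : Y' k ⟶ Y i), r ≫ g i = g' k) : HasFpqcRefinement Y g := by
  intro Z hZ t
  obtain ⟨m, W, c, hW, hc, hsurj, hl⟩ := h Z hZ t
  refine ⟨m, W, c, hW, hc, hsurj, fun j => ?_⟩
  obtain ⟨k, l, hl'⟩ := hl j
  obtain ⟨i, r, hr⟩ := hf k
  exact ⟨i, l ≫ r, by rw [Category.assoc, hr, hl']⟩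

/-- A representable etale morphism from a scheme is flat and locally of finite presentation, etale locally. -/
theorem locP_flat_of_repWith_etale {U : Over S} {X : Sp S} {p : (yon S).obj U ⟶ X}
    (hp : RepWith @Etale p) : LocP @Flat p :=
  locP_of_repWith @Flat etLocalClass_flat.pre (fun _ a => representable_of_yon a)
    (Groth.Agent.Lib.AlgSpBasic.repWith_mono (fun _ _ f (_ : Etale f) => (inferInstance : Flat f)) hp)

theorem locP_lfp_of_repWith_etale {U : Over S} {X : Sp S} {p : (yon S).obj U ⟶ X}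
    (hp : RepWith @Etale p) : LocP @LocallyOfFinitePresentation p :=
  locP_of_repWith @LocallyOfFinitePresentation etLocalClass_lfp.pre (fun _ a => representable_of_yon a)
    (Groth.Agent.Lib.AlgSpBasic.repWith_mono
      (fun _ _ f (_ : Etale f) => (inferInstance : LocallyOfFinitePresentation f)) hp)

/-- A jointly surjective family of etale charts of an algebraic space has the fpqc refinement property. -/
theorem hasFpqcRefinement_of_etale_charts {ι : Type u} {X : Sp S} (hX : IsAlgSpace X) {U : ι → Over S}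
    {p : ∀ i, (yon S).obj (U i) ⟶ X} (hp : ∀ i, RepWith @Etale (p i))
    (hs : ∀ x : Points X, ∃ i, x ∈ Set.range (Points.map (p i))) :
    HasFpqcRefinement (fun i => (yon S).obj (U i)) p :=
  hasFpqcRefinement_of_flat_lfp hX (fun i => IsAlgSpace.yon_obj (U i))
    (fun i => locP_flat_of_repWith_etale (hp i)) (fun i => locP_lfp_of_repWith_etale (hp i)) hs

/-- A jointly surjective family of etale charts of an algebraic space is an fpqc covering. -/
theorem isFpqcCover_of_etale_charts {ι : Type u} {X : Sp S} (hX : IsAlgSpace X) {U : ι → Over S}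
    {p : ∀ i, (yon S).obj (U i) ⟶ X} (hp : ∀ i, RepWith @Etale (p i))
    (hs : ∀ x : Points X, ∃ i, x ∈ Set.range (Points.map (p i))) :
    IsFpqcCover (fun i => (yon S).obj (U i)) p :=
  ⟨fun i => locP_flat_of_repWith_etale (hp i), hasFpqcRefinement_of_etale_charts hX hp hs⟩

/-- One surjective etale chart is an fpqc covering. -/
theorem isFpqcCover_of_etale_surjective_chart {X : Sp S} (hX : IsAlgSpace X) {U : Over S}
    {p : (yon S).obj U ⟶ X} (hp : RepWith @Etale p) (hps : RepWith @Surjective p) :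
    IsFpqcCover (ι := PUnit.{u+1}) (fun _ => (yon S).obj U) (fun _ => p) :=
  isFpqcCover_of_etale_charts hX (fun _ => hp)
    (fun x => ⟨PUnit.unit, surjective_map_of_repWith_surjective hps x⟩)

/-- The fpqc refinement property can be checked after base change along one surjective etale chart. -/
theorem hasFpqcRefinement_of_chart {ι : Type u} {X : Sp S} (hX : IsAlgSpace X) {Xi : ι → Sp S}
    {g : ∀ i, Xi i ⟶ X} {U : Over S} {p : (yon S).obj U ⟶ X} (hp : RepWith @Etale p)
    (hps : RepWith @Surjective p) {Ui : ι → Sp S} {q : ∀ i, Ui i ⟶ (yon S).obj U}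
    {p' : ∀ i, Ui i ⟶ Xi i} (sq : ∀ i, q i ≫ p = p' i ≫ g i) (h : HasFpqcRefinement Ui q) :
    HasFpqcRefinement Xi g := by
  have h1 := (isFpqcCover_of_etale_surjective_chart hX hp hps).2
  have h2 := HasFpqcRefinement.sigma h1 (κ := fun _ => ι) (Xij := fun _ i => Ui i)
    (gij := fun _ i => q i) (fun _ => h)
  exact h2.of_factor fun r => ⟨r.2, p' r.2, (sq r.2).symm⟩

end Groth.Agent.Lib.AlgSpFpqc

namespace Groth.Agent.Lib.AlgSpFpqc

open AlgSp Groth.Agent.Lib.AlgSpPoints Groth.Agent.Lib.AlgSpQC Groth.Agent.Lib.AlgSpFibre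
  Groth.Agent.Lib.AlgSpDescent Groth.Agent.Lib.H69AlgSp Groth.Agent.Lib.H69AlgSpMor
  Groth.Agent.Lib.AlgSpLocP Groth.Agent.Lib.AlgSpBasic

variable {S : Scheme.{u}}

/-- For a jointly surjective family of flat, locally finitely presented morphisms of algebraic spaces and a scheme
`T` over the target, charts of the fibre products form a jointly surjective family of flat, locally finitely
presented morphisms of schemes to `T` lifting through the family. -/
theorem exists_flat_lfp_charts_lift {ι : Type u} {X : Sp S} (hX : IsAlgSpace X) {Xi : ι → Sp S}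
    (hXi : ∀ i, IsAlgSpace (Xi i)) {g : ∀ i, Xi i ⟶ X} (hfl : ∀ i, LocP @Flat (g i))
    (hfp : ∀ i, LocP @LocallyOfFinitePresentation (g i))
    (hs : ∀ x : Points X, ∃ i, x ∈ Set.range (Points.map (g i))) (T : Over S) (t : (yon S).obj T ⟶ X) :
    ∃ (U : ι → Over S) (c : ∀ i, U i ⟶ T) (l : ∀ i, (yon S).obj (U i) ⟶ Xi i),
      (∀ i, Flat (c i).left) ∧ (∀ i, LocallyOfFinitePresentation (c i).left) ∧
      (∀ z : ↥T.left, ∃ i, z ∈ Set.range (c i).left) ∧ ∀ i, l i ≫ g i = (yon S).map (c i) ≫ t := by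
  have sqP : ∀ i, IsPullback (pullback.fst (g i) t) (pullback.snd (g i) t) (g i) t :=
    fun i => IsPullback.of_hasPullback _ _
  have hP : ∀ i, IsAlgSpace (pullback (g i) t) := fun i =>
    isAlgSpace_of_isPullback hX.diag (hXi i) (IsAlgSpace.yon_obj T) (sqP i)
  choose U r hre hrs using fun i => (hP i).atlas
  have hflat : ∀ i, LocP @Flat (pullback.snd (g i) t) := fun i =>
    locP_of_isPullback etLocalClass_flat (hXi i) hX (IsAlgSpace.yon_obj T) (sqP i) (hfl i)
  have hlfp : ∀ i, LocP @LocallyOfFinitePresentation (pullback.snd (g i) t) := fun i =>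
    locP_of_isPullback etLocalClass_lfp (hXi i) hX (IsAlgSpace.yon_obj T) (sqP i) (hfp i)
  let c : ∀ i, U i ⟶ T := fun i => (yon S).preimage (r i ≫ pullback.snd (g i) t)
  have hc : ∀ i, (yon S).map (c i) = r i ≫ pullback.snd (g i) t := fun i => (yon S).map_preimage _
  refine ⟨U, c, fun i => r i ≫ pullback.fst (g i) t, fun i => ?_, fun i => ?_, fun z => ?_, fun i => ?_⟩
  · exact hflat i (r i) (𝟙 _) (c i) (hre i) (Groth.Agent.Lib.AlgSpQC.repWith_id _ T)
      (by rw [hc i, Category.comp_id])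
  · exact hlfp i (r i) (𝟙 _) (c i) (hre i) (Groth.Agent.Lib.AlgSpQC.repWith_id _ T)
      (by rw [hc i, Category.comp_id])
  · obtain ⟨i, xi, hxi⟩ := hs (Points.map t (Points.schemeHomeo T z))
    obtain ⟨p, -, hp⟩ := exists_point_of_isPullback (sqP i) xi (Points.schemeHomeo T z) hxi
    obtain ⟨u, rfl⟩ := surjective_ofPt_of_repWith_surjective (hrs i) p
    refine ⟨i, u, ?_⟩
    apply (Points.schemeHomeo T).injective
    rw [← Points.map_yon_map_apply, hc, ← hp]
    change Points.map _ (Points.ofPt (𝟙 _) _) = _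
    rw [Points.map_ofPt, Category.id_comp, ← Points.map_ofPt]
  · rw [Category.assoc, pullback.condition, ← Category.assoc, ← hc i]

/-- A jointly surjective family of flat, locally finitely presented morphisms of schemes over `S` generates a
covering sieve of the fppf topology over `S`. -/
theorem ofArrows_mem_J {T : Over S} {κ : Type*} (Tk : κ → Over S) (c : ∀ k, Tk k ⟶ T)
    (hfl : ∀ k, Flat (c k).left) (hfp : ∀ k, LocallyOfFinitePresentation (c k).left)
    (hs : ∀ z : ↥T.left, ∃ k, z ∈ Set.range (c k).left) : Sieve.ofArrows Tk c ∈ J S T := by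
  rw [GrothendieckTopology.mem_over_iff]
  refine GrothendieckTopology.superset_covering _ ?_
    (Precoverage.generate_mem_toGrothendieck
      ((Scheme.ofArrows_mem_precoverage_iff (@Flat ⊓ @LocallyOfFinitePresentation)
        (X := fun k => (Tk k).left) (f := fun k => (c k).left)).2 ⟨hs, fun k => ⟨hfl k, hfp k⟩⟩))
  rw [Sieve.generate_le_iff]
  rintro _ _ ⟨k⟩
  exact ⟨Tk k, c k, 𝟙 _, Sieve.ofArrows_mk _ _ k, by simp⟩

end Groth.Agent.Lib.AlgSpFpqc
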