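import Groth.Agent.Lib.AlgSpFpqcSingle


set_option autoImplicit false

universe u
open CategoryTheory CategoryTheory.Limits AlgebraicGeometry Opposite
open AlgSp

namespace Groth.Agent.Lib.AlgSpFppfSingle
open AlgSp Groth.Agent.Lib.AlgSpPoints Groth.Agent.Lib.AlgSpQC Groth.Agent.Lib.AlgSpFibre
  Groth.Agent.Lib.AlgSpDescent Groth.Agent.Lib.H69AlgSp Groth.Agent.Lib.H69AlgSpMor
  Groth.Agent.Lib.AlgSpLocP Groth.Agent.Lib.AlgSpBasic Groth.Agent.Lib.AlgSpFpqc

variable {S : Scheme.{u}}

/-- A flat, locally finitely presented, surjective morphism of algebraic spaces, as a one-member family, has the fpqc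
refinement property (no quasi-compactness needed: fppf morphisms are open). -/
theorem hasFpqcRefinement_of_fppf_surjective {X Y : Sp S} (hX : IsAlgSpace X) (hY : IsAlgSpace Y)
    {f : X ⟶ Y} (hfl : LocP @Flat f) (hfp : LocP @LocallyOfFinitePresentation f)
    (hs : IsSurjectiveMor f) :
    HasFpqcRefinement (ι := PUnit.{u+1}) (fun _ => X) (fun _ => f) := by
  intro Z hZ h
  have sqP := IsPullback.of_hasPullback f h
  have hZc : CompactSpace ↥Z.left := by
    have := hZ
    infer_instance
  have hP : IsAlgSpace (pullback f h) := isAlgSpace_of_isPullback hY.diag hX (IsAlgSpace.yon_obj Z) sqP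
  have hsndflat : LocP @Flat (pullback.snd f h) :=
    locP_of_isPullback etLocalClass_flat hX hY (IsAlgSpace.yon_obj Z) sqP hfl
  have hsndfp : LocP @LocallyOfFinitePresentation (pullback.snd f h) :=
    locP_of_isPullback etLocalClass_lfp hX hY (IsAlgSpace.yon_obj Z) sqP hfp
  have hsndsurj : IsSurjectiveMor (pullback.snd f h) := isSurjectiveMor_of_isPullback sqP hs
  obtain ⟨U, r, hre, hrs⟩ := hP.atlas
  have hrsurj := surjective_ofPt_of_repWith_surjective hrs
  let g : U ⟶ Z := (yon S).preimage (r ≫ pullback.snd f h)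
  have hg : (yon S).map g = r ≫ pullback.snd f h := (yon S).map_preimage _
  have hgflat : Flat g.left :=
    hsndflat r (𝟙 _) g hre (Groth.Agent.Lib.AlgSpQC.repWith_id _ Z) (by rw [hg, Category.comp_id])
  have hgfp : LocallyOfFinitePresentation g.left :=
    hsndfp r (𝟙 _) g hre (Groth.Agent.Lib.AlgSpQC.repWith_id _ Z) (by rw [hg, Category.comp_id])
  have hgopen : IsOpenMap g.left := g.left.isOpenMap
  have hgsurj : Function.Surjective g.left := by
    intro z
    obtain ⟨x, hx⟩ := hsndsurj (Points.schemeHomeo Z z)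
    obtain ⟨u, rfl⟩ := hrsurj x
    refine ⟨u, ?_⟩
    apply (Points.schemeHomeo Z).injective
    rw [← hx, ← Points.map_yon_map_apply, hg]
    change Points.map _ (Points.ofPt (𝟙 _) _) = _
    rw [Points.map_ofPt, Category.id_comp, ← Points.map_ofPt]
  obtain ⟨t, ht⟩ := isCompact_univ.elim_finite_subcover
    (fun W : U.left.affineOpens => g.left '' (W.1 : Set ↥U.left))
    (fun W => hgopen _ W.1.isOpen) (by
      intro z _
      obtain ⟨u, rfl⟩ := hgsurj z
      obtain ⟨_, ⟨W, hW, rfl⟩, huW, -⟩ := (U.left.isBasis_affineOpens).exists_subset_of_mem_open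
        (Set.mem_univ u) isOpen_univ
      exact Set.mem_iUnion.2 ⟨⟨W, hW⟩, u, huW, rfl⟩)
  let e : Fin t.card ≃ t := t.equivFin.symm
  let A : Fin t.card → U.left.affineOpens := fun j => (e j).1
  let W : Fin t.card → Over S := fun j => Over.mk ((A j).1.ι ≫ U.hom)
  let ιA : ∀ j, W j ⟶ U := fun j => Over.homMk (A j).1.ι rfl
  let c : ∀ j, W j ⟶ Z := fun j => ιA j ≫ g
  have hc : ∀ j, (yon S).map (c j) = restrictChart r (A j).1 ≫ pullback.snd f h := fun j => by
    change (yon S).map (ιA j ≫ g) = ((yon S).map (ιA j) ≫ r) ≫ pullback.snd f h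
    rw [Functor.map_comp, hg, Category.assoc]
  refine ⟨t.card, W, c, fun j => (A j).2, fun j => ?_, fun z => ?_, fun j => ?_⟩
  · exact hsndflat (restrictChart r (A j).1) (𝟙 _) (c j) (repWith_etale_restrictChart hre _)
      (Groth.Agent.Lib.AlgSpQC.repWith_id _ Z) (by rw [hc j, Category.comp_id])
  · have := ht (Set.mem_univ z)
    simp only [Set.mem_iUnion] at this
    obtain ⟨W₀, hW₀, u, huW₀, rfl⟩ := this
    refine ⟨e.symm ⟨W₀, hW₀⟩, ⟨u, ?_⟩, rfl⟩
    change u ∈ ((e (e.symm ⟨W₀, hW₀⟩)).1 : U.left.affineOpens).1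
    rw [Equiv.apply_symm_apply]
    exact huW₀
  · refine ⟨PUnit.unit, restrictChart r (A j).1 ≫ pullback.fst f h, ?_⟩
    rw [Category.assoc, pullback.condition, ← Category.assoc, ← hc j]

end Groth.Agent.Lib.AlgSpFppfSingle
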