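import Groth.Agent.Lib.AlgSpFpqc
import Groth.Agent.Lib.H69AlgSp
import Mathlib.AlgebraicGeometry.Morphisms.FlatDescent
import Mathlib.AlgebraicGeometry.Morphisms.LocalFlatDescent

/-!
# fpqc descent of monomorphisms and isomorphisms of algebraic spaces (owner: helper91)

Namespace `Groth.Agent.Lib.AlgSpFpqc` (continues `Lib/AlgSpFpqc.lean`).  Append-only please.
-/

set_option autoImplicit false
universe u
open CategoryTheory CategoryTheory.Limits AlgebraicGeometry Opposite Topology

namespace Groth.Agent.Lib.AlgSpFpqc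

open AlgSp Groth.Agent.Lib.AlgSpPoints Groth.Agent.Lib.AlgSpQC Groth.Agent.Lib.AlgSpFibre
  Groth.Agent.Lib.AlgSpDescent Groth.Agent.Lib.H69AlgSp

variable {S : Scheme.{u}}

/-- A property of morphisms of schemes that is Zariski local on the target and descends along fpqc coverings can
be checked, over each affine open of the target, after base change to the members of a finite jointly surjective
family of flat morphisms from affine schemes. -/
theorem of_flat_refinement (P : MorphismProperty Scheme.{u}) [IsZariskiLocalAtTarget P]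
    [P.DescendsAlong (@Surjective ⊓ @Flat ⊓ @QuasiCompact)] {U T : Scheme.{u}} (u : U ⟶ T)
    (H : ∀ A : T.affineOpens, ∃ (m : ℕ) (W : Fin m → Scheme.{u}) (c : ∀ j, W j ⟶ (A.1 : Scheme)),
      (∀ j, IsAffine (W j)) ∧ (∀ j, Flat (c j)) ∧ (∀ z : ↥(A.1 : Scheme), ∃ j, z ∈ Set.range (c j)) ∧
      ∀ j, ∃ (V : Scheme.{u}) (fst : V ⟶ U) (snd : V ⟶ W j),
        IsPullback fst snd u (c j ≫ A.1.ι) ∧ P snd) : P u := by
  apply IsZariskiLocalAtTarget.of_iSup_eq_top (P := P)
    (fun A : T.affineOpens => A.1) (iSup_affineOpens_eq_top T)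
  intro A
  obtain ⟨m, W, c, hW, hc, hs, hl⟩ := H A
  have hA : IsAffine (A.1 : Scheme) := A.2
  let W' : ULift.{u} (Fin m) → Scheme.{u} := fun j => W j.down
  let σ : (∐ W') ⟶ (A.1 : Scheme) := Sigma.desc (fun j => c j.down)
  have : ∀ j, IsAffine (W' j) := fun j => hW j.down
  have hflat : Flat σ := IsZariskiLocalAtSource.sigmaDesc (P := @Flat) (fun j => hc j.down)
  have hsurj : Surjective σ := by
    constructor
    intro z
    obtain ⟨j, w, hw⟩ := hs z
    refine ⟨Sigma.ι W' ⟨j⟩ w, ?_⟩
    rw [← Scheme.Hom.comp_apply, Sigma.ι_desc]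
    exact hw
  have hqc : QuasiCompact σ := inferInstance
  have sq := IsPullback.of_hasPullback σ (u ∣_ A.1)
  have hres := isPullback_morphismRestrict u A.1
  refine MorphismProperty.of_isPullback_of_descendsAlong (P := P)
    (Q := @Surjective ⊓ @Flat ⊓ @QuasiCompact) sq ⟨⟨hsurj, hflat⟩, hqc⟩ ?_
  apply IsZariskiLocalAtTarget.of_openCover (P := P) (sigmaOpenCover W')
  intro j
  obtain ⟨V, fst, snd, hV, hP⟩ := hl j.down
  have sq2 := IsPullback.of_hasPullback (pullback.fst σ (u ∣_ A.1)) ((sigmaOpenCover W').f j)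
  have big : IsPullback ((pullback.fst (pullback.fst σ (u ∣_ A.1)) ((sigmaOpenCover W').f j) ≫
      pullback.snd σ (u ∣_ A.1)) ≫ (u ⁻¹ᵁ A.1).ι)
      (pullback.snd (pullback.fst σ (u ∣_ A.1)) ((sigmaOpenCover W').f j)) u
      (((sigmaOpenCover W').f j ≫ σ) ≫ A.1.ι) :=
    (sq2.paste_horiz sq.flip).paste_horiz hres.flip
  have e : (sigmaOpenCover W').f j ≫ σ = c j.down :=
    Sigma.ι_desc (fun j : ULift.{u} (Fin m) => c j.down) j
  rw [e] at big
  have h2 : (big.isoIsPullback _ _ hV).hom ≫ snd =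
      pullback.snd (pullback.fst σ (u ∣_ A.1)) ((sigmaOpenCover W').f j) :=
    IsPullback.isoIsPullback_hom_snd _ _ big hV
  have h3 : P ((big.isoIsPullback _ _ hV).hom ≫ snd) := (P.cancel_left_of_respectsIso _ _).2 hP
  rw [h2] at h3
  exact h3

/-- A monomorphism of schemes through which, over every affine open of the target, a finite jointly surjective family
of flat morphisms from affine schemes factors, is an isomorphism. -/
theorem isIso_of_mono_of_flat_refinement {E T : Scheme.{u}} (e : E ⟶ T) [Mono e]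
    (H : ∀ A : T.affineOpens, ∃ (m : ℕ) (W : Fin m → Scheme.{u}) (c : ∀ j, W j ⟶ (A.1 : Scheme)),
      (∀ j, IsAffine (W j)) ∧ (∀ j, Flat (c j)) ∧ (∀ z : ↥(A.1 : Scheme), ∃ j, z ∈ Set.range (c j)) ∧
      ∀ j, ∃ s : W j ⟶ E, s ≫ e = c j ≫ A.1.ι) : IsIso e := by
  change MorphismProperty.isomorphisms Scheme e
  apply IsZariskiLocalAtTarget.of_iSup_eq_top (P := MorphismProperty.isomorphisms Scheme)
    (fun A : T.affineOpens => A.1) (iSup_affineOpens_eq_top T)
  intro A
  obtain ⟨m, W, c, hW, hc, hs, hl⟩ := H A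
  have hA : IsAffine (A.1 : Scheme) := A.2
  let W' : ULift.{u} (Fin m) → Scheme.{u} := fun j => W j.down
  let σ : (∐ W') ⟶ (A.1 : Scheme) := Sigma.desc (fun j => c j.down)
  have : ∀ j, IsAffine (W' j) := fun j => hW j.down
  have hflat : Flat σ := IsZariskiLocalAtSource.sigmaDesc (P := @Flat) (fun j => hc j.down)
  have hsurj : Surjective σ := by
    constructor
    intro z
    obtain ⟨j, w, hw⟩ := hs z
    refine ⟨Sigma.ι W' ⟨j⟩ w, ?_⟩
    rw [← Scheme.Hom.comp_apply, Sigma.ι_desc]
    exact hw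
  have hqc : QuasiCompact σ := inferInstance
  have sq := IsPullback.of_hasPullback σ (e ∣_ A.1)
  have hres := isPullback_morphismRestrict e A.1
  have hmono : Mono (e ∣_ A.1) := by
    constructor
    intro Z u v huv
    apply hres.hom_ext huv
    rw [← cancel_mono e, Category.assoc, Category.assoc, ← hres.w, ← Category.assoc, huv, Category.assoc]
  refine MorphismProperty.of_isPullback_of_descendsAlong (P := MorphismProperty.isomorphisms Scheme)
    (Q := @Surjective ⊓ @Flat ⊓ @QuasiCompact) sq ⟨⟨hsurj, hflat⟩, hqc⟩ ?_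
  choose s hs' using hl
  let t : (∐ W') ⟶ (e ⁻¹ᵁ A.1 : Scheme) :=
    Sigma.desc (fun j => hres.lift (c j.down) (s j.down) (hs' j.down).symm)
  have ht : t ≫ (e ∣_ A.1) = σ := by
    apply Sigma.hom_ext
    intro j
    simp only [t, σ, Sigma.ι_desc_assoc, Sigma.ι_desc, IsPullback.lift_fst]
  have hsec : pullback.lift (𝟙 _) t (by rw [Category.id_comp, ht]) ≫ pullback.fst σ (e ∣_ A.1) = 𝟙 _ :=
    pullback.lift_fst _ _ _
  have : IsSplitEpi (pullback.fst σ (e ∣_ A.1)) := ⟨⟨⟨_, hsec⟩⟩⟩
  have : IsIso (pullback.fst σ (e ∣_ A.1)) := isIso_of_mono_of_isSplitEpi _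
  exact this

/-- Two sections of a sheaf with representable diagonal over a scheme `T` that agree on a family having the fpqc
refinement shape over every affine open of `T` are equal. -/
theorem eq_of_fpqc_locally_eq {X : Sp S} (hX : Representable (Limits.diag X)) {T : Over S}
    (a b : (yon S).obj T ⟶ X)
    (H : ∀ A : T.left.affineOpens, ∃ (m : ℕ) (W : Fin m → Over S)
      (c : ∀ j, W j ⟶ Over.mk (A.1.ι ≫ T.hom)),
      (∀ j, IsAffine (W j).left) ∧ (∀ j, Flat (c j).left) ∧
      (∀ z : ↥(A.1 : Scheme), ∃ j, z ∈ Set.range (c j).left) ∧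
      ∀ j, (yon S).map (c j) ≫ restrictChart a A.1 = (yon S).map (c j) ≫ restrictChart b A.1) :
    a = b := by
  have sqE := hX.isPullback (prod.lift a b)
  have hw1 : hX.fst (prod.lift a b) = (yon S).map (hX.snd (prod.lift a b)) ≫ a := by
    have := congrArg (fun φ => φ ≫ prod.fst) sqE.w
    simp only [Category.assoc, Limits.diag, prod.lift_fst, Category.comp_id] at this
    exact this
  have hw2 : hX.fst (prod.lift a b) = (yon S).map (hX.snd (prod.lift a b)) ≫ b := by
    have := congrArg (fun φ => φ ≫ prod.snd) sqE.w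
    simp only [Category.assoc, Limits.diag, prod.lift_snd, Category.comp_id] at this
    exact this
  have hmono_yon : Mono ((yon S).map (hX.snd (prod.lift a b))) := sqE.mono_snd_of_mono
  have hmono : Mono (hX.snd (prod.lift a b)) := (yon S).mono_of_mono_map hmono_yon
  have hmono_left : Mono (hX.snd (prod.lift a b)).left := inferInstance
  have hiso : IsIso (hX.snd (prod.lift a b)).left := by
    apply isIso_of_mono_of_flat_refinement
    intro A
    obtain ⟨m, W, c, hW, hc, hs, hl⟩ := H A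
    refine ⟨m, fun j => (W j).left, fun j => (c j).left, hW, hc, hs, fun j => ?_⟩
    have e1 : (yon S).map (c j ≫ (Over.homMk A.1.ι rfl : Over.mk (A.1.ι ≫ T.hom) ⟶ T)) ≫ prod.lift a b =
        ((yon S).map (c j) ≫ restrictChart a A.1) ≫ Limits.diag X := by
      apply Limits.prod.hom_ext
      · simp only [Category.assoc, prod.lift_fst, Limits.diag, Category.comp_id, Functor.map_comp]
      · simp only [Category.assoc, prod.lift_snd, Limits.diag, Category.comp_id]
        rw [hl j]
        simp only [Category.assoc, Functor.map_comp]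
    obtain ⟨s, hs⟩ := (yon S).map_surjective (sqE.lift _ _ e1.symm)
    refine ⟨s.left, ?_⟩
    have := sqE.lift_snd _ _ e1.symm
    rw [← hs, ← Functor.map_comp] at this
    have h2 := (yon S).map_injective this
    exact congrArg (fun φ => φ.left) h2
  have hisoO : IsIso (hX.snd (prod.lift a b)) := by
    have : IsIso ((Over.forget S).map (hX.snd (prod.lift a b))) := hiso
    exact isIso_of_reflects_iso _ (Over.forget S)
  have : IsIso ((yon S).map (hX.snd (prod.lift a b))) := inferInstance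
  rw [← cancel_epi ((yon S).map (hX.snd (prod.lift a b))), ← hw1, ← hw2]

/-- Descent of monomorphisms along a family with the fpqc refinement property. -/
theorem mono_of_hasFpqcRefinement {ι : Type u} {X Y : Sp S} (hX : Representable (Limits.diag X))
    {Yi : ι → Sp S} {f : X ⟶ Y} {g : ∀ i, Yi i ⟶ Y} (hg : HasFpqcRefinement Yi g)
    {Xi : ι → Sp S} {p : ∀ i, Xi i ⟶ Yi i} {q : ∀ i, Xi i ⟶ X}
    (sq : ∀ i, IsPullback (q i) (p i) f (g i)) (h : ∀ i, Mono (p i)) : Mono f := by
  refine mono_of_yon f fun T a b hab => ?_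
  refine eq_of_fpqc_locally_eq hX a b fun A => ?_
  have hA : IsAffine (A.1 : Scheme) := A.2
  obtain ⟨m, W, c, hW, hc, hs, hl⟩ := hg (Over.mk (A.1.ι ≫ T.hom)) hA (restrictChart (a ≫ f) A.1)
  refine ⟨m, W, c, hW, hc, hs, fun j => ?_⟩
  obtain ⟨i, l, hl'⟩ := hl j
  have e1 : ((yon S).map (c j) ≫ restrictChart a A.1) ≫ f = l ≫ g i := by
    rw [hl']; simp only [Category.assoc]
  have e2 : ((yon S).map (c j) ≫ restrictChart b A.1) ≫ f = l ≫ g i := by
    rw [hl']; simp only [Category.assoc, hab]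
  have : (sq i).lift _ _ e1 = (sq i).lift _ _ e2 := by
    rw [← cancel_mono (p i), (sq i).lift_snd, (sq i).lift_snd]
  have h2 := congrArg (fun φ => φ ≫ q i) this
  simp only [(sq i).lift_fst] at h2
  exact h2

theorem isLocalOnBase_fpqc_monomorphisms :
    IsLocalOnBase (IsFpqcCover (S := S)) (MorphismProperty.monomorphisms (Sp S)) := by
  intro ι Y Yi g hY hYi hcov X f hX Xi p q _ sq
  simp only [MorphismProperty.monomorphisms.iff]
  exact ⟨fun h i => (sq i).mono_snd_of_mono,
    fun h => mono_of_hasFpqcRefinement hX.diag hcov.2 sq h⟩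

/-- Key step for descent of isomorphisms: if the base changes `p i` of `f` are isomorphisms, then for every scheme
`T` over `Y`, an etale chart `h_U ⟶ X ×_Y h_T` composed with the projection to `h_T` is etale and surjective. -/
theorem etale_surjective_chart_of_hasFpqcRefinement {ι : Type u} {X Y : Sp S}
    {Yi : ι → Sp S} {f : X ⟶ Y} {g : ∀ i, Yi i ⟶ Y} (hg : HasFpqcRefinement Yi g)
    {Xi : ι → Sp S} {p : ∀ i, Xi i ⟶ Yi i} {q : ∀ i, Xi i ⟶ X}
    (sq : ∀ i, IsPullback (q i) (p i) f (g i)) (h : ∀ i, IsIso (p i))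
    {T U : Over S} (y : (yon S).obj T ⟶ Y) {P : Sp S} {fstP : P ⟶ X} {sndP : P ⟶ (yon S).obj T}
    (sqP : IsPullback fstP sndP f y) (r : (yon S).obj U ⟶ P) (hre : RepWith @Etale r)
    (hrs : RepWith @Surjective r) (u : U ⟶ T) (hu : (yon S).map u = r ≫ sndP) :
    Etale u.left ∧ Surjective u.left := by
  have key : ∀ A : T.left.affineOpens, ∃ (m : ℕ) (W : Fin m → Scheme.{u})
      (c : ∀ j, W j ⟶ (A.1 : Scheme)),
      (∀ j, IsAffine (W j)) ∧ (∀ j, Flat (c j)) ∧ (∀ z : ↥(A.1 : Scheme), ∃ j, z ∈ Set.range (c j)) ∧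
      ∀ j, ∃ (V : Scheme.{u}) (fst : V ⟶ U.left) (snd : V ⟶ W j),
        IsPullback fst snd u.left (c j ≫ A.1.ι) ∧ (Etale snd ∧ Surjective snd) := by
    intro A
    have hA : IsAffine (A.1 : Scheme) := A.2
    obtain ⟨m, W, c, hW, hc, hs, hl⟩ := hg (Over.mk (A.1.ι ≫ T.hom)) hA (restrictChart y A.1)
    refine ⟨m, fun j => (W j).left, fun j => (c j).left, hW, hc, hs, fun j => ?_⟩
    obtain ⟨i, l, hl'⟩ := hl j
    let jA : Over.mk (A.1.ι ≫ T.hom) ⟶ T := Over.homMk A.1.ι rfl
    have sqV := IsPullback.of_hasPullback u (c j ≫ jA)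
    refine ⟨(pullback u (c j ≫ jA)).left, (pullback.fst u (c j ≫ jA)).left,
      (pullback.snd u (c j ≫ jA)).left, sqV.map (Over.forget S), ?_⟩
    have sqVy := sqV.map (yon S)
    rw [hu] at sqVy
    have sqPj := IsPullback.of_hasPullback sndP ((yon S).map (c j ≫ jA))
    have ew : ((yon S).map (pullback.fst u (c j ≫ jA)) ≫ r) ≫ sndP =
        (yon S).map (pullback.snd u (c j ≫ jA)) ≫ (yon S).map (c j ≫ jA) := by
      rw [Category.assoc, sqVy.w]
    have top : IsPullback ((yon S).map (pullback.fst u (c j ≫ jA))) (sqPj.lift _ _ ew) r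
        (pullback.fst sndP ((yon S).map (c j ≫ jA))) := by
      refine IsPullback.of_bot ?_ (sqPj.lift_fst _ _ ew).symm sqPj
      rw [sqPj.lift_snd]
      exact sqVy
    have ht_e : RepWith @Etale (sqPj.lift _ _ ew) := (RepWith @Etale).of_isPullback top hre
    have ht_s : RepWith @Surjective (sqPj.lift _ _ ew) := (RepWith @Surjective).of_isPullback top hrs
    -- the projection `P_j ⟶ h_{W j}` is an isomorphism
    have outer : IsPullback (pullback.fst sndP ((yon S).map (c j ≫ jA)) ≫ fstP)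
        (pullback.snd sndP ((yon S).map (c j ≫ jA))) f ((yon S).map (c j ≫ jA) ≫ y) :=
      sqPj.paste_horiz sqP
    have e3 : (yon S).map (c j ≫ jA) ≫ y = l ≫ g i := by
      rw [hl', Functor.map_comp, Category.assoc]
    rw [e3] at outer
    have e : (pullback.fst sndP ((yon S).map (c j ≫ jA)) ≫ fstP) ≫ f =
        (pullback.snd sndP ((yon S).map (c j ≫ jA)) ≫ l) ≫ g i := by
      rw [outer.w, Category.assoc]
    have left : IsPullback ((sq i).lift _ _ e) (pullback.snd sndP ((yon S).map (c j ≫ jA))) (p i) l := by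
      apply IsPullback.of_right (h₁₂ := q i) (v₁₃ := f) (h₂₂ := g i) ?_ ((sq i).lift_snd _ _ _) (sq i)
      rw [(sq i).lift_fst]
      exact outer
    have hiso : IsIso (pullback.snd sndP ((yon S).map (c j ≫ jA))) := left.isIso_snd_of_isIso
    have hcomp : sqPj.lift _ _ ew ≫ pullback.snd sndP ((yon S).map (c j ≫ jA)) =
        (yon S).map (pullback.snd u (c j ≫ jA)) := sqPj.lift_snd _ _ ew
    have h1 : RepWith @Etale ((yon S).map (pullback.snd u (c j ≫ jA))) := by
      rw [← hcomp, (RepWith @Etale).cancel_right_of_respectsIso]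
      exact ht_e
    have h2 : RepWith @Surjective ((yon S).map (pullback.snd u (c j ≫ jA))) := by
      rw [← hcomp, (RepWith @Surjective).cancel_right_of_respectsIso]
      exact ht_s
    exact ⟨(repWith_yon_map_iff @Etale _).1 h1, (repWith_yon_map_iff @Surjective _).1 h2⟩
  constructor
  · refine of_flat_refinement @Etale u.left fun A => ?_
    obtain ⟨m, W, c, hW, hc, hs, hl⟩ := key A
    exact ⟨m, W, c, hW, hc, hs, fun j => by
      obtain ⟨V, fst, snd, hV, hP⟩ := hl j
      exact ⟨V, fst, snd, hV, hP.1⟩⟩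
  · refine of_flat_refinement @Surjective u.left fun A => ?_
    obtain ⟨m, W, c, hW, hc, hs, hl⟩ := key A
    exact ⟨m, W, c, hW, hc, hs, fun j => by
      obtain ⟨V, fst, snd, hV, hP⟩ := hl j
      exact ⟨V, fst, snd, hV, hP.2⟩⟩

/-- Descent of isomorphisms along a family with the fpqc refinement property. -/
theorem isIso_of_hasFpqcRefinement {ι : Type u} {X Y : Sp S} (hX : IsAlgSpace X)
    (hY : Representable (Limits.diag Y))
    {Yi : ι → Sp S} {f : X ⟶ Y} {g : ∀ i, Yi i ⟶ Y} (hg : HasFpqcRefinement Yi g)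
    {Xi : ι → Sp S} {p : ∀ i, Xi i ⟶ Yi i} {q : ∀ i, Xi i ⟶ X}
    (sq : ∀ i, IsPullback (q i) (p i) f (g i)) (h : ∀ i, IsIso (p i)) : IsIso f := by
  have hmono : Mono f := mono_of_hasFpqcRefinement hX.diag hg sq fun i => inferInstance
  have hsurj : Sheaf.IsLocallySurjective f := by
    constructor
    intro T s
    obtain ⟨y, rfl⟩ := (yEquiv (U := T) (F := Y)).surjective s
    have sqP := IsPullback.of_hasPullback f y
    have hP : IsAlgSpace (pullback f y) := isAlgSpace_of_isPullback hY hX (IsAlgSpace.yon_obj T) sqP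
    obtain ⟨U, r, hre, hrs⟩ := hP.atlas
    obtain ⟨u, hu⟩ := (yon S).map_surjective (r ≫ pullback.snd f y)
    obtain ⟨hue, hus⟩ := etale_surjective_chart_of_hasFpqcRefinement hg sq h y sqP r hre hrs u hu
    refine mem_J_of_fppf u _ ?_
    refine ⟨yEquiv (r ≫ pullback.fst f y), ?_⟩
    rw [← yEquiv_comp, Category.assoc, pullback.condition, ← Category.assoc, ← hu, yEquiv_map_comp]
  have : Epi f := inferInstance
  exact isIso_of_mono_of_epi f

theorem isLocalOnBase_fpqc_isomorphisms :
    IsLocalOnBase (IsFpqcCover (S := S)) (MorphismProperty.isomorphisms (Sp S)) := by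
  intro ι Y Yi g hY hYi hcov X f hX Xi p q _ sq
  simp only [MorphismProperty.isomorphisms.iff]
  exact ⟨fun h i => (sq i).isIso_snd_of_isIso,
    fun h => isIso_of_hasFpqcRefinement hX hY.diag hcov.2 sq h⟩

end Groth.Agent.Lib.AlgSpFpqc
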