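import Groth.Agent.Lib.AlgSpFppfSingle
import Groth.Agent.Lib.AlgSpFlatPt
import Groth.Agent.Lib.AlgSpFpqcIso


set_option autoImplicit false

universe u
open CategoryTheory CategoryTheory.Limits AlgebraicGeometry Opposite
open AlgSp

namespace Groth.Agent.Lib.AlgSpFppfSingle
open AlgSp Groth.Agent.Lib.AlgSpPoints Groth.Agent.Lib.AlgSpQC Groth.Agent.Lib.AlgSpFibre
  Groth.Agent.Lib.AlgSpDescent
  Groth.Agent.Lib.AlgSpLocP Groth.Agent.Lib.AlgSpBasic Groth.Agent.Lib.AlgSpFpqc
  Groth.Agent.Lib.AlgSpFlatPt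

variable {S : Scheme.{u}}

/-- In a pullback square over a monomorphism `f`, if the base morphism `g` lifts through `f` then the base change of
`f` is an isomorphism. -/
theorem isIso_snd_of_mono_of_section {C : Type*} [Category C] {P X Y Y' : C} {fst : P ⟶ X}
    {snd : P ⟶ Y'} {f : X ⟶ Y} {g : Y' ⟶ Y} (sq : IsPullback fst snd f g) [Mono f] (s : Y' ⟶ X)
    (hs : s ≫ f = g) : IsIso snd := by
  have : Mono snd := sq.mono_snd_of_mono
  have hsplit : IsSplitEpi snd :=
    ⟨⟨⟨sq.lift s (𝟙 Y') (by rw [hs, Category.id_comp]), sq.lift_snd _ _ _⟩⟩⟩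
  exact isIso_of_mono_of_isSplitEpi snd

/-- Stacks 06R0-like: a monomorphism from a nonempty algebraic space into an algebraic space with an fppf surjective
field point is an isomorphism. -/
theorem isIso_of_mono_of_fppf_fieldPt {Z' Z : Sp S} (hZ' : IsAlgSpace Z') (hZ : IsAlgSpace Z)
    (f : Z' ⟶ Z) [Mono f] [Nonempty (Points Z')] (k : Type u) [Field k]
    (str : Spec (CommRingCat.of k) ⟶ S) (p : (yon S).obj (Over.mk str) ⟶ Z)
    (hfp : LocP @LocallyOfFinitePresentation p) (hfl : LocP @Flat p) (hs : IsSurjectiveMor p) :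
    IsIso f := by
  have hsub := subsingleton_points_of_surjective k str p hs
  obtain ⟨z'⟩ := ‹Nonempty (Points Z')›
  induction z' using Points.ind with
  | h P' =>
  obtain ⟨Ω, _, w, a, b, hab⟩ := exists_common_ext k P'.K str P'.str p (P'.toHom ≫ f)
  have hW : IsAlgSpace (pullback f p) :=
    isAlgSpace_of_isPullback hZ.diag hZ' (IsAlgSpace.yon_obj _) (IsPullback.of_hasPullback f p)
  have h1 : IsIso (pullback.snd f p) := by
    refine isIso_of_hasFpqcRefinement (ι := PUnit.{u+1}) hW (IsAlgSpace.yon_obj _).diag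
      (isFpqcCover_field_ext w str a).2
      (Xi := fun _ => pullback (pullback.snd f p) ((yon S).map a))
      (fun _ => IsPullback.of_hasPullback _ _) (fun _ => ?_)
    have : Mono (pullback.snd f p) := inferInstance
    exact isIso_snd_of_mono_of_section (IsPullback.of_hasPullback _ _)
      (pullback.lift ((yon S).map b ≫ P'.toHom) ((yon S).map a) (by rw [Category.assoc, hab]))
      (pullback.lift_snd _ _ _)
  exact isIso_of_hasFpqcRefinement (ι := PUnit.{u+1}) hZ' hZ.diag
    (hasFpqcRefinement_of_fppf_surjective (IsAlgSpace.yon_obj _) hZ hfl hfp hs)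
    (fun _ => IsPullback.of_hasPullback f p) (fun _ => h1)

end Groth.Agent.Lib.AlgSpFppfSingle
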