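import Groth.Agent.Lib.AlgSpFppfSingle2


set_option autoImplicit false

universe u
open CategoryTheory CategoryTheory.Limits AlgebraicGeometry Opposite
open AlgSp

namespace Groth.Agent.Lib.AlgSpFppfSingle
open AlgSp Groth.Agent.Lib.AlgSpPoints Groth.Agent.Lib.AlgSpQC Groth.Agent.Lib.AlgSpFibre
  Groth.Agent.Lib.AlgSpDescent
  Groth.Agent.Lib.AlgSpLocP Groth.Agent.Lib.AlgSpBasic Groth.Agent.Lib.AlgSpFpqc
  Groth.Agent.Lib.AlgSpFlatPt

variable {S : Scheme.{u}}

/-- Stacks 06QZ-like: two monomorphisms with the same one-point image whose sources have fppf surjective field points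
are isomorphic over the target. -/
theorem exists_iso_of_mono_same_image {X Z Z' : Sp S} (hX : IsAlgSpace X) (hZ : IsAlgSpace Z)
    (hZ' : IsAlgSpace Z') (i : Z ⟶ X) (i' : Z' ⟶ X) [Mono i] [Mono i'] (x : Points X)
    (hi : Set.range (Points.map i) = {x}) (hi' : Set.range (Points.map i') = {x})
    (hZf : ∃ (k : Type u) (_ : Field k) (str : Spec (CommRingCat.of k) ⟶ S)
      (p : (yon S).obj (Over.mk str) ⟶ Z),
      LocP @LocallyOfFinitePresentation p ∧ LocP @Flat p ∧ IsSurjectiveMor p)
    (hZ'f : ∃ (k : Type u) (_ : Field k) (str : Spec (CommRingCat.of k) ⟶ S)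
      (p : (yon S).obj (Over.mk str) ⟶ Z'),
      LocP @LocallyOfFinitePresentation p ∧ LocP @Flat p ∧ IsSurjectiveMor p) :
    ∃ e : Z' ≅ Z, e.hom ≫ i = i' := by
  obtain ⟨k, _, str, p, hfp, hfl, hs⟩ := hZf
  obtain ⟨k', _, str', p', hfp', hfl', hs'⟩ := hZ'f
  have sq := IsPullback.of_hasPullback i i'
  have hW : IsAlgSpace (pullback i i') := isAlgSpace_of_isPullback hX.diag hZ hZ' sq
  obtain ⟨z, hz⟩ : ∃ z, Points.map i z = x := by
    have : x ∈ Set.range (Points.map i) := by rw [hi]; rfl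
    exact this
  obtain ⟨z', hz'⟩ : ∃ z', Points.map i' z' = x := by
    have : x ∈ Set.range (Points.map i') := by rw [hi']; rfl
    exact this
  obtain ⟨w, -, -⟩ := exists_point_of_isPullback sq z z' (hz.trans hz'.symm)
  have : Nonempty (Points (pullback i i')) := ⟨w⟩
  have : Mono (pullback.fst i i') := inferInstance
  have : Mono (pullback.snd i i') := inferInstance
  have h1 : IsIso (pullback.fst i i') :=
    isIso_of_mono_of_fppf_fieldPt hW hZ _ k str p hfp hfl hs
  have h2 : IsIso (pullback.snd i i') :=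
    isIso_of_mono_of_fppf_fieldPt hW hZ' _ k' str' p' hfp' hfl' hs'
  refine ⟨(asIso (pullback.snd i i')).symm ≪≫ asIso (pullback.fst i i'), ?_⟩
  simp only [Iso.trans_hom, Iso.symm_hom, asIso_inv, asIso_hom, Category.assoc, pullback.condition,
    IsIso.inv_hom_id_assoc]

end Groth.Agent.Lib.AlgSpFppfSingle
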