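import Groth.Agent.Lib.AlgSpDescent
import Groth.Prelude.Def_AlgSpCov

/-!
# fpqc coverings of algebraic spaces are jointly quotient on points (owner: helper91)

Namespace `Groth.Agent.Lib.AlgSpFpqc`.  Append-only please.
-/

set_option autoImplicit false

universe u

open CategoryTheory CategoryTheory.Limits AlgebraicGeometry Opposite Topology

namespace Groth.Agent.Lib.AlgSpFpqc

open AlgSp Groth.Agent.Lib.AlgSpPoints Groth.Agent.Lib.AlgSpQC Groth.Agent.Lib.AlgSpFibre
  Groth.Agent.Lib.AlgSpDescent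

variable {S : Scheme.{u}}

/-- The refinement clause of `AlgSp.IsFpqcCover`: every affine scheme over `X` has a standard fpqc covering whose
members lift to members of the family. -/
def HasFpqcRefinement {ι : Type u} {X : Sp S} (Y : ι → Sp S) (g : ∀ i, Y i ⟶ X) : Prop :=
  ∀ (Z : Over S), IsAffine Z.left → ∀ (h : (yon S).obj Z ⟶ X),
    ∃ (m : ℕ) (W : Fin m → Over S) (c : ∀ j, W j ⟶ Z),
      (∀ j, IsAffine (W j).left) ∧ (∀ j, Flat (c j).left) ∧
      (∀ z : ↥Z.left, ∃ j, z ∈ Set.range (c j).left) ∧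
      ∀ j, ∃ (i : _) (l : (yon S).obj (W j) ⟶ Y i), l ≫ g i = (yon S).map (c j) ≫ h

theorem hasFpqcRefinement_of_isFpqcCover {ι : Type u} {X : Sp S} {Y : ι → Sp S} {g : ∀ i, Y i ⟶ X}
    (h : IsFpqcCover Y g) : HasFpqcRefinement Y g := h.2

/-- The refinement property is stable under base change. -/
theorem HasFpqcRefinement.baseChange {ι : Type u} {X : Sp S} {Y : ι → Sp S} {g : ∀ i, Y i ⟶ X}
    (h : HasFpqcRefinement Y g) {Z : Sp S} (k : Z ⟶ X) (Zi : ι → Sp S) (a : ∀ i, Zi i ⟶ Z)
    (b : ∀ i, Zi i ⟶ Y i) (sq : ∀ i, IsPullback (a i) (b i) k (g i)) : HasFpqcRefinement Zi a := by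
  intro A hA h'
  obtain ⟨m, W, c, hW, hc, hs, hl⟩ := h A hA (h' ≫ k)
  refine ⟨m, W, c, hW, hc, hs, fun j => ?_⟩
  obtain ⟨i, l, hl'⟩ := hl j
  have e : ((yon S).map (c j) ≫ h') ≫ k = l ≫ g i := by rw [Category.assoc, hl']
  exact ⟨i, (sq i).lift _ _ e, (sq i).lift_fst _ _ e⟩

/-- A family with the refinement property is jointly surjective on points. -/
theorem HasFpqcRefinement.jointly_surjective {ι : Type u} {X : Sp S} {Y : ι → Sp S} {g : ∀ i, Y i ⟶ X}
    (h : HasFpqcRefinement Y g) (x : Points X) : ∃ i, x ∈ Set.range (Points.map (g i)) := by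
  induction x using Points.ind with
  | h p =>
  have hA : IsAffine p.pt.left := by
    change IsAffine (Spec (CommRingCat.of p.K)); infer_instance
  obtain ⟨m, W, c, -, -, hs, hl⟩ := h p.pt hA (fieldPtHom p)
  obtain ⟨j, w, hw⟩ := hs (IsLocalRing.closedPoint p.K)
  obtain ⟨i, l, hl'⟩ := hl j
  refine ⟨i, Points.ofPt l w, ?_⟩
  rw [Points.map_ofPt, hl', ofPt_yon_map_comp, hw, ofPt_fieldPtHom]

/-- A finite jointly surjective family of flat morphisms from affine schemes to an affine scheme is jointly a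
quotient map: a subset of the target with open preimages is open. -/
theorem isOpen_of_finite_flat_family {T : Scheme.{u}} [IsAffine T] {m : ℕ} (W : Fin m → Scheme.{u})
    (c : ∀ j, W j ⟶ T) (hW : ∀ j, IsAffine (W j)) (hc : ∀ j, Flat (c j))
    (hs : ∀ z : ↥T, ∃ j, z ∈ Set.range (c j)) (B : Set ↥T) (hB : ∀ j, IsOpen ((c j) ⁻¹' B)) :
    IsOpen B := by
  let W' : ULift.{u} (Fin m) → Scheme.{u} := fun j => W j.down
  let σ : (∐ W') ⟶ T := Sigma.desc (fun j => c j.down)
  have : ∀ j, IsAffine (W' j) := fun j => hW j.down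
  have hflat : Flat σ := IsZariskiLocalAtSource.sigmaDesc (P := @Flat) (fun j => hc j.down)
  have hsurj : Surjective σ := by
    constructor
    intro z
    obtain ⟨j, w, hw⟩ := hs z
    refine ⟨Sigma.ι W' ⟨j⟩ w, ?_⟩
    rw [← Scheme.Hom.comp_apply, Sigma.ι_desc]
    exact hw
  have hqc : QuasiCompact σ := inferInstance
  have hq := Flat.isQuotientMap_of_surjective σ
  rw [← hq.isOpen_preimage, ← (sigmaMk W').isOpen_preimage, isOpen_sigma_iff]
  intro j
  convert hB j.down using 1
  ext w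
  simp only [Set.mem_preimage, sigmaMk_mk]
  rw [← Scheme.Hom.comp_apply, Sigma.ι_desc]

/-- A family with the refinement property is jointly a quotient map on points (open sets). -/
theorem HasFpqcRefinement.isOpen_iff {ι : Type u} {X : Sp S} {Y : ι → Sp S} {g : ∀ i, Y i ⟶ X}
    (h : HasFpqcRefinement Y g) (V : Set (Points X)) :
    IsOpen V ↔ ∀ i, IsOpen (Points.map (g i) ⁻¹' V) := by
  refine ⟨fun hV i => (Points.continuous_map (g i)).isOpen_preimage _ hV, fun hV => ?_⟩
  rw [Points.isOpen_iff]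
  intro T k
  have hcov : TopologicalSpace.IsOpenCover (fun A : T.left.affineOpens => (A : T.left.Opens)) :=
    iSup_affineOpens_eq_top T.left
  rw [hcov.isOpen_iff_coe_preimage]
  intro A
  have e : ((↑) ⁻¹' (Points.ofPt k ⁻¹' V) : Set ↥(A : T.left.Opens)) =
      Points.ofPt (restrictChart k A.1) ⁻¹' V := by
    ext v
    change Points.ofPt k v.1 ∈ V ↔ Points.ofPt (restrictChart k A.1) v ∈ V
    rw [ofPt_restrictChart]
  rw [e]
  have hA : IsAffine (A.1 : Scheme) := A.2
  obtain ⟨m, W, c, hW, hc, hs, hl⟩ := h (Over.mk (A.1.ι ≫ T.hom)) hA (restrictChart k A.1)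
  refine isOpen_of_finite_flat_family (T := (A.1 : Scheme)) (fun j => (W j).left) (fun j => (c j).left)
    hW hc hs _ fun j => ?_
  obtain ⟨i, l, hl'⟩ := hl j
  have e2 : (c j).left ⁻¹' (Points.ofPt (restrictChart k A.1) ⁻¹' V) =
      Points.ofPt l ⁻¹' (Points.map (g i) ⁻¹' V) := by
    ext w
    have h1 : Points.map (g i) (Points.ofPt l w) =
        Points.ofPt (restrictChart k A.1) ((c j).left w) := by
      rw [Points.map_ofPt, hl', ofPt_yon_map_comp]
    simp only [Set.mem_preimage]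
    rw [h1]
  rw [e2]
  exact (Points.continuous_ofPt l).isOpen_preimage _ (hV i)

/-- A family with the refinement property is jointly a quotient map on points (closed sets). -/
theorem HasFpqcRefinement.isClosed_iff {ι : Type u} {X : Sp S} {Y : ι → Sp S} {g : ∀ i, Y i ⟶ X}
    (h : HasFpqcRefinement Y g) (V : Set (Points X)) :
    IsClosed V ↔ ∀ i, IsClosed (Points.map (g i) ⁻¹' V) := by
  simp only [← isOpen_compl_iff, h.isOpen_iff, Set.preimage_compl]

/-- Descent of `UnivSp Q` along a family with the fpqc refinement property, for a property `Q` of morphisms of sheaves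
that descends along such families. -/
theorem univSp_of_hasFpqcRefinement {Q : MorphismProperty (Sp S)}
    (hQ : ∀ ⦃ι : Type u⦄ ⦃Z Z' : Sp S⦄ ⦃snd' : Z' ⟶ Z⦄ (Zi Zi' : ι → Sp S) (a : ∀ i, Zi i ⟶ Z)
      (c : ∀ i, Zi' i ⟶ Z') (d : ∀ i, Zi' i ⟶ Zi i), HasFpqcRefinement Zi a →
      (∀ i, IsPullback (c i) (d i) snd' (a i)) → (∀ i, Q (d i)) → Q snd')
    {ι : Type u} {X Y : Sp S} (hY : Representable (Limits.diag Y)) {Yi : ι → Sp S}
    (hYi : ∀ i, IsAlgSpace (Yi i)) {f : X ⟶ Y} {g : ∀ i, Yi i ⟶ Y} (hg : HasFpqcRefinement Yi g)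
    {Xi : ι → Sp S} {p : ∀ i, Xi i ⟶ Yi i} {q : ∀ i, Xi i ⟶ X}
    (sq : ∀ i, IsPullback (q i) (p i) f (g i)) (h : ∀ i, UnivSp Q (p i)) : UnivSp Q f := by
  intro Z Z' hZ k fst' snd' sq'
  have sqV : ∀ i, IsPullback (pullback.fst k (g i)) (pullback.snd k (g i)) k (g i) :=
    fun i => IsPullback.of_hasPullback k (g i)
  have hZV : ∀ i, IsAlgSpace (pullback k (g i)) := fun i => isAlgSpace_of_isPullback hY hZ (hYi i) (sqV i)
  have sqb : ∀ i, IsPullback (pullback.fst snd' (pullback.fst k (g i)))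
      (pullback.snd snd' (pullback.fst k (g i))) snd' (pullback.fst k (g i)) :=
    fun i => IsPullback.of_hasPullback snd' (pullback.fst k (g i))
  refine hQ (fun i => pullback k (g i)) (fun i => pullback snd' (pullback.fst k (g i)))
    (fun i => pullback.fst k (g i)) (fun i => pullback.fst snd' (pullback.fst k (g i)))
    (fun i => pullback.snd snd' (pullback.fst k (g i)))
    (hg.baseChange k _ _ (fun i => pullback.snd k (g i)) sqV) sqb fun i => ?_
  have outer : IsPullback (pullback.fst snd' (pullback.fst k (g i)) ≫ fst')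
      (pullback.snd snd' (pullback.fst k (g i))) f (pullback.fst k (g i) ≫ k) := (sqb i).paste_horiz sq'
  have e : (pullback.fst snd' (pullback.fst k (g i)) ≫ fst') ≫ f =
      (pullback.snd snd' (pullback.fst k (g i)) ≫ pullback.snd k (g i)) ≫ g i := by
    rw [outer.w, Category.assoc, pullback.condition]
  have left : IsPullback ((sq i).lift _ _ e) (pullback.snd snd' (pullback.fst k (g i))) (p i)
      (pullback.snd k (g i)) := by
    apply IsPullback.of_right (h₁₂ := q i) (v₁₃ := f) (h₂₂ := g i) ?_ ((sq i).lift_snd _ _ _) (sq i)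
    rw [(sq i).lift_fst, ← pullback.condition]
    exact outer
  exact h i (hZV i) _ _ _ left

/-- `UnivSp Q` is fpqc local on the base when `Q` descends along families with the fpqc refinement property. -/
theorem isLocalOnBase_univSp {Q : MorphismProperty (Sp S)}
    (hQ : ∀ ⦃ι : Type u⦄ ⦃Z Z' : Sp S⦄ ⦃snd' : Z' ⟶ Z⦄ (Zi Zi' : ι → Sp S) (a : ∀ i, Zi i ⟶ Z)
      (c : ∀ i, Zi' i ⟶ Z') (d : ∀ i, Zi' i ⟶ Zi i), HasFpqcRefinement Zi a →
      (∀ i, IsPullback (c i) (d i) snd' (a i)) → (∀ i, Q (d i)) → Q snd') :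
    IsLocalOnBase (IsFpqcCover (S := S)) (UnivSp Q) := by
  intro ι Y Yi g hY hYi hcov X f _ Xi p q _ sq
  exact ⟨fun h i => univSp_of_isPullback (sq i) h,
    fun h => univSp_of_hasFpqcRefinement hQ hY.diag hYi hcov.2 sq h⟩

section Topological

variable {ι : Type u} {Z Z' : Sp S} {snd' : Z' ⟶ Z} (Zi Zi' : ι → Sp S) (a : ∀ i, Zi i ⟶ Z)
  (c : ∀ i, Zi' i ⟶ Z') (d : ∀ i, Zi' i ⟶ Zi i)

theorem isOpenMap_of_hasFpqcRefinement (ha : HasFpqcRefinement Zi a)
    (sq : ∀ i, IsPullback (c i) (d i) snd' (a i)) (hd : ∀ i, IsOpenMap (Points.map (d i))) :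
    IsOpenMap (Points.map snd') := by
  intro W hW
  rw [ha.isOpen_iff]
  intro i
  rw [preimage_image_eq_of_isPullback' (sq i)]
  exact hd i _ ((Points.continuous_map (c i)).isOpen_preimage _ hW)

theorem isClosedMap_of_hasFpqcRefinement (ha : HasFpqcRefinement Zi a)
    (sq : ∀ i, IsPullback (c i) (d i) snd' (a i)) (hd : ∀ i, IsClosedMap (Points.map (d i))) :
    IsClosedMap (Points.map snd') := by
  intro W hW
  rw [ha.isClosed_iff]
  intro i
  rw [preimage_image_eq_of_isPullback' (sq i)]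
  exact hd i _ (hW.preimage (Points.continuous_map (c i)))

theorem injective_of_hasFpqcRefinement (ha : HasFpqcRefinement Zi a)
    (sq : ∀ i, IsPullback (c i) (d i) snd' (a i)) (hd : ∀ i, Function.Injective (Points.map (d i))) :
    Function.Injective (Points.map snd') := by
  intro x y hxy
  obtain ⟨i, t, ht⟩ := ha.jointly_surjective (Points.map snd' x)
  obtain ⟨w₁, hw₁, hw₁'⟩ := exists_point_of_isPullback (sq i) x t ht.symm
  obtain ⟨w₂, hw₂, hw₂'⟩ := exists_point_of_isPullback (sq i) y t (by rw [← hxy]; exact ht.symm)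
  have : w₁ = w₂ := hd i (hw₁'.trans hw₂'.symm)
  rw [← hw₁, ← hw₂, this]

theorem surjective_of_hasFpqcRefinement (ha : HasFpqcRefinement Zi a)
    (sq : ∀ i, IsPullback (c i) (d i) snd' (a i)) (hd : ∀ i, Function.Surjective (Points.map (d i))) :
    Function.Surjective (Points.map snd') := by
  intro z
  obtain ⟨i, t, ht⟩ := ha.jointly_surjective z
  obtain ⟨w, hw⟩ := hd i t
  refine ⟨Points.map (c i) w, ?_⟩
  rw [← Points.map_comp, (sq i).w, Points.map_comp, hw, ht]

theorem isQuotientMap_of_hasFpqcRefinement (ha : HasFpqcRefinement Zi a)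
    (sq : ∀ i, IsPullback (c i) (d i) snd' (a i)) (hd : ∀ i, IsQuotientMap (Points.map (d i))) :
    IsQuotientMap (Points.map snd') := by
  refine ⟨.of_isOpen_preimage_iff_isOpen fun V => ⟨fun hV => ?_,
    fun hV => hV.preimage (Points.continuous_map snd')⟩,
    surjective_of_hasFpqcRefinement Zi Zi' a c d ha sq fun i => (hd i).surjective⟩
  rw [ha.isOpen_iff]
  intro i
  rw [← (hd i).isOpen_preimage]
  have e : Points.map (d i) ⁻¹' (Points.map (a i) ⁻¹' V) =
      Points.map (c i) ⁻¹' (Points.map snd' ⁻¹' V) := by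
    ext w
    simp only [Set.mem_preimage]
    rw [← Points.map_comp, ← Points.map_comp, (sq i).w]
  rw [e]
  exact (Points.continuous_map (c i)).isOpen_preimage _ hV

theorem isHomeomorph_of_hasFpqcRefinement (ha : HasFpqcRefinement Zi a)
    (sq : ∀ i, IsPullback (c i) (d i) snd' (a i)) (hd : ∀ i, IsHomeomorph (Points.map (d i))) :
    IsHomeomorph (Points.map snd') :=
  ⟨Points.continuous_map snd',
    isOpenMap_of_hasFpqcRefinement Zi Zi' a c d ha sq fun i => (hd i).isOpenMap,
    ⟨injective_of_hasFpqcRefinement Zi Zi' a c d ha sq fun i => (hd i).injective,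
      surjective_of_hasFpqcRefinement Zi Zi' a c d ha sq fun i => (hd i).surjective⟩⟩

end Topological

theorem isLocalOnBase_fpqc_isUnivOpenMor : IsLocalOnBase (IsFpqcCover (S := S)) IsUnivOpenMor :=
  isLocalOnBase_univSp fun _ _ _ _ Zi Zi' a c d ha sq hd => isOpenMap_of_hasFpqcRefinement Zi Zi' a c d ha sq hd

theorem isLocalOnBase_fpqc_isUnivClosedMor : IsLocalOnBase (IsFpqcCover (S := S)) IsUnivClosedMor :=
  isLocalOnBase_univSp fun _ _ _ _ Zi Zi' a c d ha sq hd => isClosedMap_of_hasFpqcRefinement Zi Zi' a c d ha sq hd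

theorem isLocalOnBase_fpqc_isUnivInjectiveMor : IsLocalOnBase (IsFpqcCover (S := S)) IsUnivInjectiveMor :=
  isLocalOnBase_univSp fun _ _ _ _ Zi Zi' a c d ha sq hd => injective_of_hasFpqcRefinement Zi Zi' a c d ha sq hd

theorem isLocalOnBase_fpqc_isUnivSubmersiveMor : IsLocalOnBase (IsFpqcCover (S := S)) IsUnivSubmersiveMor :=
  isLocalOnBase_univSp fun _ _ _ _ Zi Zi' a c d ha sq hd => isQuotientMap_of_hasFpqcRefinement Zi Zi' a c d ha sq hd

theorem isLocalOnBase_fpqc_isUnivHomeoMor : IsLocalOnBase (IsFpqcCover (S := S)) IsUnivHomeoMor :=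
  isLocalOnBase_univSp fun _ _ _ _ Zi Zi' a c d ha sq hd => isHomeomorph_of_hasFpqcRefinement Zi Zi' a c d ha sq hd

/-- Descent of quasi-compactness of a morphism along a family with the fpqc refinement property. -/
theorem isQuasiCompactMor_of_hasFpqcRefinement {ι : Type u} {X Y : Sp S} (hX : IsAlgSpace X)
    (hY : Representable (Limits.diag Y)) {Yi : ι → Sp S}
    {f : X ⟶ Y} {g : ∀ i, Yi i ⟶ Y} (hg : HasFpqcRefinement Yi g)
    {Xi : ι → Sp S} {p : ∀ i, Xi i ⟶ Yi i} {q : ∀ i, Xi i ⟶ X}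
    (sq : ∀ i, IsPullback (q i) (p i) f (g i)) (h : ∀ i, IsQuasiCompactMor (p i)) :
    IsQuasiCompactMor f := by
  intro Z Z' hZ hZqc k fst' snd' sq'
  have hZ' : IsAlgSpace Z' := isAlgSpace_of_isPullback hY hX hZ sq'
  refine isQuasiCompactSp_of_affine_base_change hZ' hZqc snd' ?_
  intro A hA r P a b sqP
  obtain ⟨m, W, c, hW, -, hs, hl⟩ := hg A hA (r ≫ k)
  -- the pieces
  have sqj : ∀ j, IsPullback (pullback.fst b ((yon S).map (c j))) (pullback.snd b ((yon S).map (c j))) b
      ((yon S).map (c j)) := fun j => IsPullback.of_hasPullback _ _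
  have hcomp : ∀ j, CompactSpace (Points (pullback b ((yon S).map (c j)))) := by
    intro j
    obtain ⟨i, l, hl'⟩ := hl j
    have outer : IsPullback ((pullback.fst b ((yon S).map (c j)) ≫ a) ≫ fst')
        (pullback.snd b ((yon S).map (c j))) f (((yon S).map (c j) ≫ r) ≫ k) :=
      ((sqj j).paste_horiz sqP).paste_horiz sq'
    have e : ((pullback.fst b ((yon S).map (c j)) ≫ a) ≫ fst') ≫ f =
        (pullback.snd b ((yon S).map (c j)) ≫ l) ≫ g i := by
      have := outer.w
      simp only [Category.assoc] at this ⊢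
      rw [this, hl']
    have left : IsPullback ((sq i).lift _ _ e) (pullback.snd b ((yon S).map (c j))) (p i) l := by
      apply IsPullback.of_right (h₁₂ := q i) (v₁₃ := f) (h₂₂ := g i) ?_ ((sq i).lift_snd _ _ _) (sq i)
      rw [(sq i).lift_fst, hl', ← Category.assoc ((yon S).map (c j))]
      exact outer
    have hWc : CompactSpace ↥(W j).left := by
      have := hW j
      infer_instance
    exact compactSpace_points_of_isQuasiCompactSp
      (h i (IsAlgSpace.yon_obj (W j)) ((isQuasiCompactSp_yon_iff (W j)).2 hWc) l _ _ left)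
  have hcover : (Set.univ : Set (Points P)) ⊆
      ⋃ j, Set.range (Points.map (pullback.fst b ((yon S).map (c j)))) := by
    intro x _
    obtain ⟨z, hz⟩ := (Points.schemeHomeo A).surjective (Points.map b x)
    obtain ⟨j, w, hw⟩ := hs z
    have e : Points.map b x = Points.map ((yon S).map (c j)) (Points.schemeHomeo (W j) w) := by
      rw [Points.map_yon_map_apply, hw, hz]
    obtain ⟨y, hy, -⟩ := exists_point_of_isPullback (sqj j) x _ e
    exact Set.mem_iUnion.2 ⟨j, y, hy⟩
  exact ⟨(isCompact_iUnion fun j => isCompact_range (Points.continuous_map _)).of_isClosed_subset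
    isClosed_univ hcover⟩

theorem isLocalOnBase_fpqc_isQuasiCompactMor : IsLocalOnBase (IsFpqcCover (S := S)) IsQuasiCompactMor := by
  intro ι Y Yi g hY hYi hcov X f hX Xi p q _ sq
  exact ⟨fun h i => isQuasiCompactMor_of_isPullback (sq i) h,
    fun h => isQuasiCompactMor_of_hasFpqcRefinement hX hY.diag hcov.2 sq h⟩

end Groth.Agent.Lib.AlgSpFpqc
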