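import Groth.Agent.Lib.AlgSpProper
import Groth.Agent.Lib.H86Coprod

/-!
# The affine criterion for fpqc locality on the base (owner: helper91)

Namespace `Groth.Agent.Lib.AlgSpFpqc`.  Append-only please.

* `sigmaOver W`, `sigmaOverι`, `isColimit_yon_sigmaOver`: `h_{∐ W_j} = ∐ h_{W_j}` in fppf sheaves.
* `isLocalOnBase_fpqc_of_affine_criterion`: Stacks, Descent on Spaces, "fpqc local on the base" criterion.
-/

set_option autoImplicit false
universe u
open CategoryTheory CategoryTheory.Limits AlgebraicGeometry Opposite Topology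

namespace Groth.Agent.Lib.AlgSpFpqc

open AlgSp Groth.Agent.Lib.AlgSpPoints Groth.Agent.Lib.AlgSpQC Groth.Agent.Lib.AlgSpFibre
  Groth.Agent.Lib.AlgSpDescent Groth.Agent.Lib.H86Coprod

variable {S : Scheme.{u}}

section SigmaOver

variable {ι' : Type u} (W : ι' → Over S)

/-- The coproduct of a family of schemes over `S`, as a scheme over `S`. -/
noncomputable def sigmaOver : Over S := Over.mk (Sigma.desc (fun j => (W j).hom))

/-- The coprojections of `sigmaOver`. -/
noncomputable def sigmaOverι (j : ι') : W j ⟶ sigmaOver W :=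
  Over.homMk (Sigma.ι (fun j => (W j).left) j) (by simp [sigmaOver])

instance (j : ι') : IsOpenImmersion (sigmaOverι W j).left := by
  change IsOpenImmersion (Sigma.ι (fun j => (W j).left) j)
  infer_instance

instance (j : ι') : Mono (sigmaOverι W j) := by
  have : Mono (sigmaOverι W j).left := by
    change Mono (Sigma.ι (fun j => (W j).left) j)
    infer_instance
  exact Over.mono_of_mono_left _

theorem sigmaOverι_jointly_surjective (t : ↥(sigmaOver W).left) :
    ∃ j, t ∈ Set.range (sigmaOverι W j).left := by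
  obtain ⟨⟨j, y⟩, hy⟩ := (sigmaMk (fun j => (W j).left)).surjective t
  rw [sigmaMk_mk] at hy
  exact ⟨j, y, hy⟩

theorem yon_map_comp_eq_of_sigmaOverι {F : Sp S} (x : ∀ j, (yon S).obj (W j) ⟶ F) (i k : ι')
    (Z : Over S) (a : Z ⟶ W i) (b : Z ⟶ W k) (hab : a ≫ sigmaOverι W i = b ≫ sigmaOverι W k) :
    (yon S).map a ≫ x i = (yon S).map b ≫ x k := by
  by_cases h : i = k
  · subst h
    rw [(cancel_mono (sigmaOverι W i)).1 hab]
  · have hempty : IsEmpty ↥Z.left := by
      constructor
      intro z
      have h1 : (a ≫ sigmaOverι W i).left z ∈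
          (Sigma.ι (fun j => (W j).left) i).opensRange := ⟨a.left z, rfl⟩
      have h2 : (a ≫ sigmaOverι W i).left z ∈
          (Sigma.ι (fun j => (W j).left) k).opensRange := by
        rw [hab]
        exact ⟨b.left z, rfl⟩
      exact (disjoint_opensRange_sigmaι (fun j => (W j).left) i k h).le_bot ⟨h1, h2⟩
    exact hom_ext_of_isEmpty _ _

/-- `h_{∐ W_j}` is the coproduct of the `h_{W_j}` in fppf sheaves over `S`. -/
noncomputable def isColimitYonSigmaOver :
    IsColimit (Cofan.mk ((yon S).obj (sigmaOver W)) (fun j => (yon S).map (sigmaOverι W j))) :=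
  Cofan.IsColimit.mk _
    (fun s => (existsUnique_glue W (sigmaOverι W) (fun _ => inferInstance)
      (sigmaOverι_jointly_surjective W) s.pt s.inj
      (yon_map_comp_eq_of_sigmaOverι W s.inj)).choose)
    (fun s j => (existsUnique_glue W (sigmaOverι W) (fun _ => inferInstance)
      (sigmaOverι_jointly_surjective W) s.pt s.inj
      (yon_map_comp_eq_of_sigmaOverι W s.inj)).choose_spec.1 j)
    (fun s m hm => (existsUnique_glue W (sigmaOverι W) (fun _ => inferInstance)
      (sigmaOverι_jointly_surjective W) s.pt s.inj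
      (yon_map_comp_eq_of_sigmaOverι W s.inj)).choose_spec.2 m hm)

end SigmaOver

end Groth.Agent.Lib.AlgSpFpqc

namespace Groth.Agent.Lib.AlgSpFpqc

open AlgSp Groth.Agent.Lib.AlgSpPoints Groth.Agent.Lib.AlgSpQC Groth.Agent.Lib.AlgSpFibre
  Groth.Agent.Lib.AlgSpDescent Groth.Agent.Lib.H86Coprod

variable {S : Scheme.{u}}

/-- Pulling back the coproduct decomposition `h_{∐ W_j} = ∐ h_{W_j}` along a morphism `f' : X' ⟶ h_{∐ W_j}` gives a
coproduct decomposition of `X'`. -/
theorem nonempty_isColimit_pullback_sigmaOver {ι' : Type u} [Finite ι'] (W : ι' → Over S) {X' : Sp S}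
    (f' : X' ⟶ (yon S).obj (sigmaOver W)) :
    Nonempty (IsColimit (Cofan.mk X'
      (fun j => pullback.fst f' ((yon S).map (sigmaOverι W j))))) := by
  have hau : IsUniversalColimit
      (Cofan.mk ((yon S).obj (sigmaOver W)) (fun j => (yon S).map (sigmaOverι W j))) :=
    (FinitaryExtensive.isVanKampen_finiteCoproducts (isColimitYonSigmaOver W)).isUniversal
  refine hau.nonempty_isColimit_of_isPullback_left (fun j => (yon S).map (sigmaOverι W j)) (𝟙 _) f'
    (fun j => pullback.fst f' ((yon S).map (sigmaOverι W j)))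
    (fun j => pullback.snd f' ((yon S).map (sigmaOverι W j)))
    (fun j => IsPullback.of_hasPullback _ _) (p₁ := 𝟙 X') (p₂ := f')
    (IsPullback.of_horiz_isIso ⟨by simp⟩) _ (Iso.refl _) ?_ ?_ ?_
  · intro j
    exact Category.comp_id _
  · intro j
    change pullback.fst f' ((yon S).map (sigmaOverι W j)) ≫ 𝟙 _ ≫ 𝟙 _ = _
    rw [Category.comp_id, Category.comp_id]
  · intro j
    change pullback.fst f' ((yon S).map (sigmaOverι W j)) ≫ 𝟙 _ ≫ f' =
      pullback.snd f' ((yon S).map (sigmaOverι W j)) ≫ (yon S).map (sigmaOverι W j)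
    rw [Category.id_comp, pullback.condition]

/-- Stacks, Descent on Spaces: a property of morphisms of algebraic spaces that is compatible with finite disjoint
unions, can be checked after base change to affine schemes, and descends along surjective flat morphisms of affine
schemes, is fpqc local on the base. -/
theorem isLocalOnBase_fpqc_of_affine_criterion (P : MorphismProperty (Sp S))
    (h1 : ∀ ⦃ι : Type u⦄ [Finite ι] (Xi Yi : ι → Sp S) (fi : ∀ i, Xi i ⟶ Yi i)
      (cX : Cofan Xi) (cY : Cofan Yi) (_ : IsColimit cX) (_ : IsColimit cY) (m : cX.pt ⟶ cY.pt),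
      (∀ i, IsAlgSpace (Xi i)) → (∀ i, IsAlgSpace (Yi i)) →
      IsAlgSpace cX.pt → IsAlgSpace cY.pt →
      (∀ i, cX.inj i ≫ m = fi i ≫ cY.inj i) → (∀ i, P (fi i)) → P m)
    (h2 : ∀ ⦃X Y : Sp S⦄, IsAlgSpace X → IsAlgSpace Y → ∀ (f : X ⟶ Y),
      P f ↔ ∀ (Z : Over S), IsAffine Z.left → ∀ (g : (yon S).obj Z ⟶ Y) (W : Sp S)
        (fst : W ⟶ X) (snd : W ⟶ (yon S).obj Z), IsAlgSpace W → IsPullback fst snd f g → P snd)
    (h3 : ∀ ⦃Z Z' : Over S⦄ (c : Z' ⟶ Z), IsAffine Z.left → IsAffine Z'.left → Surjective c.left →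
      Flat c.left →
      ∀ ⦃X X' : Sp S⦄ (f : X ⟶ (yon S).obj Z) (fst : X' ⟶ X) (f' : X' ⟶ (yon S).obj Z'),
        IsAlgSpace X → IsAlgSpace X' → IsPullback fst f' f ((yon S).map c) → P f' → P f) :
    IsLocalOnBase (IsFpqcCover (S := S)) P := by
  intro ι Y Yi g hY hYi hcov X f hX Xi p q hXi sq
  constructor
  · intro hf i
    refine (h2 (hXi i) (hYi i) (p i)).2 fun Z hZ g' W fst snd hW sqW => ?_
    exact (h2 hX hY f).1 hf Z hZ (g' ≫ g i) W (fst ≫ q i) snd hW (sqW.paste_horiz (sq i))
  · intro hp
    refine (h2 hX hY f).2 fun Z hZ t W₀ fst₀ snd₀ hW₀ sq₀ => ?_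
    obtain ⟨m, W, c, hWaff, hcflat, hsurj, hl⟩ := hcov.2 Z hZ t
    choose i l hl using hl
    -- the disjoint union of the refinement
    let W' : ULift.{u} (Fin m) → Over S := fun j => W j.down
    have hW'aff : ∀ j, IsAffine (W' j).left := fun j => hWaff j.down
    let Z' : Over S := sigmaOver W'
    have hZ'aff : IsAffine Z'.left := by
      change IsAffine (∐ fun j => (W' j).left)
      infer_instance
    let c' : Z' ⟶ Z := Over.homMk (Sigma.desc (fun j => (c j.down).left)) (by
      apply Sigma.hom_ext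
      intro j
      simp [Z', sigmaOver, W'])
    have hιc' : ∀ j, sigmaOverι W' j ≫ c' = c j.down := by
      intro j
      apply Over.OverMorphism.ext
      change Sigma.ι (fun j => (W' j).left) j ≫ Sigma.desc (fun j => (c j.down).left) = _
      exact Sigma.ι_desc _ _
    have hc'flat : Flat c'.left :=
      IsZariskiLocalAtSource.sigmaDesc (P := @Flat) (fun j => hcflat j.down)
    have hc'surj : Surjective c'.left := by
      constructor
      intro z
      obtain ⟨j, w, hw⟩ := hsurj z
      refine ⟨Sigma.ι (fun j => (W' j).left) ⟨j⟩ w, ?_⟩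
      change (Sigma.ι (fun j => (W' j).left) ⟨j⟩ ≫ Sigma.desc (fun j => (c j.down).left)) w = z
      rw [Sigma.ι_desc]
      exact hw
    -- base change to the disjoint union
    have sqX' := IsPullback.of_hasPullback snd₀ ((yon S).map c')
    have hX' : IsAlgSpace (pullback snd₀ ((yon S).map c')) :=
      isAlgSpace_of_isPullback (IsAlgSpace.yon_obj Z).diag hW₀ (IsAlgSpace.yon_obj Z') sqX'
    refine h3 c' hZ hZ'aff hc'surj hc'flat snd₀ _ _ hW₀ hX' sqX' ?_
    set f' := pullback.snd snd₀ ((yon S).map c') with hf'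
    obtain ⟨hcX⟩ := nonempty_isColimit_pullback_sigmaOver W' f'
    have sqj : ∀ j, IsPullback (pullback.fst f' ((yon S).map (sigmaOverι W' j)))
        (pullback.snd f' ((yon S).map (sigmaOverι W' j))) f' ((yon S).map (sigmaOverι W' j)) :=
      fun j => IsPullback.of_hasPullback _ _
    have hXj : ∀ j, IsAlgSpace (pullback f' ((yon S).map (sigmaOverι W' j))) := fun j =>
      isAlgSpace_of_isPullback (IsAlgSpace.yon_obj Z').diag hX' (IsAlgSpace.yon_obj (W' j)) (sqj j)
    refine h1 (fun j => pullback f' ((yon S).map (sigmaOverι W' j)))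
      (fun j => (yon S).obj (W' j)) (fun j => pullback.snd f' ((yon S).map (sigmaOverι W' j)))
      _ _ hcX (isColimitYonSigmaOver W') f' hXj (fun j => IsAlgSpace.yon_obj (W' j)) hX'
      (IsAlgSpace.yon_obj Z') (fun j => pullback.condition) fun j => ?_
    -- each piece is a base change of `p (i j)` along `l j`
    have big : IsPullback
        (pullback.fst f' ((yon S).map (sigmaOverι W' j)) ≫ pullback.fst snd₀ ((yon S).map c') ≫ fst₀)
        (pullback.snd f' ((yon S).map (sigmaOverι W' j))) f
        ((yon S).map (sigmaOverι W' j) ≫ (yon S).map c' ≫ t) :=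
      (sqj j).paste_horiz (sqX'.paste_horiz sq₀)
    have ebot : (yon S).map (sigmaOverι W' j) ≫ (yon S).map c' ≫ t = l j.down ≫ g (i j.down) := by
      rw [← Category.assoc, ← Functor.map_comp, hιc', hl]
    rw [ebot] at big
    have elift : (pullback.fst f' ((yon S).map (sigmaOverι W' j)) ≫
        pullback.fst snd₀ ((yon S).map c') ≫ fst₀) ≫ f =
        (pullback.snd f' ((yon S).map (sigmaOverι W' j)) ≫ l j.down) ≫ g (i j.down) := by
      rw [big.w, Category.assoc]
    have left : IsPullback ((sq (i j.down)).lift _ _ elift)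
        (pullback.snd f' ((yon S).map (sigmaOverι W' j))) (p (i j.down)) (l j.down) := by
      refine IsPullback.of_right ?_ ((sq (i j.down)).lift_snd _ _ elift) (sq (i j.down))
      rw [(sq (i j.down)).lift_fst]
      exact big
    exact (h2 (hXi (i j.down)) (hYi (i j.down)) (p (i j.down))).1 (hp (i j.down)) (W' j)
      (hW'aff j) (l j.down) _ _ _ (hXj j) left

end Groth.Agent.Lib.AlgSpFpqc
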