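import Groth.Agent.Lib.AlgSpFpqcRep
import Groth.Agent.Lib.AlgSpLocP

/-!
# fpqc descent of `LocP P` for morphisms of algebraic spaces (owner: helper91)

Namespace `Groth.Agent.Lib.AlgSpFpqc` (continues `Lib/AlgSpFpqcRep.lean`).  Append-only please.
-/

set_option autoImplicit false
universe u
open CategoryTheory CategoryTheory.Limits AlgebraicGeometry Opposite Topology

namespace Groth.Agent.Lib.AlgSpFpqc

open AlgSp Groth.Agent.Lib.AlgSpPoints Groth.Agent.Lib.AlgSpQC Groth.Agent.Lib.AlgSpFibre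
  Groth.Agent.Lib.AlgSpDescent Groth.Agent.Lib.H69AlgSp Groth.Agent.Lib.H69AlgSpMor
  Groth.Agent.Lib.AlgSpLocP Groth.Agent.Lib.AlgSpBasic

variable {S : Scheme.{u}}

/-- Descent of `LocP P` along a family with the fpqc refinement property, for a class `P` that is etale local on
source and target, Zariski local on the target and satisfies fpqc descent. -/
theorem locP_of_hasFpqcRefinement {P : MorphismProperty Scheme.{u}} (hP : EtLocalClass P)
    [P.DescendsAlong etCov] [IsZariskiLocalAtTarget P]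
    [P.DescendsAlong (@Surjective ⊓ @Flat ⊓ @QuasiCompact)]
    {ι : Type u} {X Y : Sp S} (hX : IsAlgSpace X) (hY : IsAlgSpace Y) {Yi : ι → Sp S}
    (hYi : ∀ i, IsAlgSpace (Yi i)) {f : X ⟶ Y} {g : ∀ i, Yi i ⟶ Y} (hg : HasFpqcRefinement Yi g)
    {Xi : ι → Sp S} (hXi : ∀ i, IsAlgSpace (Xi i)) {p : ∀ i, Xi i ⟶ Yi i} {q : ∀ i, Xi i ⟶ X}
    (sq : ∀ i, IsPullback (q i) (p i) f (g i)) (h : ∀ i, LocP P (p i)) : LocP P f := by
  obtain ⟨V, b, hbe, hbs⟩ := hY.atlas
  have sqV := IsPullback.of_hasPullback f b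
  have hXV : IsAlgSpace (pullback f b) :=
    isAlgSpace_of_isPullback hY.diag hX (IsAlgSpace.yon_obj V) sqV
  obtain ⟨U, a', ha'e, ha's⟩ := hXV.atlas
  obtain ⟨h₀, hh₀⟩ := (yon S).map_surjective (a' ≫ pullback.snd f b)
  have hfst_e : RepWith @Etale (pullback.fst f b) := repWith_fst_of_isPullback _ sqV hbe
  have hfst_s : RepWith @Surjective (pullback.fst f b) := repWith_fst_of_isPullback _ sqV hbs
  refine locP_of_chart hP f (a' ≫ pullback.fst f b) b h₀
    ((RepWith @Etale).comp_mem _ _ ha'e hfst_e) ((RepWith @Surjective).comp_mem _ _ ha's hfst_s) hbe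
    (by rw [Category.assoc, pullback.condition, ← Category.assoc, hh₀]) ?_
  refine of_flat_refinement P h₀.left fun A => ?_
  have hA : IsAffine (A.1 : Scheme) := A.2
  obtain ⟨m, W, c, hW, hc, hs, hl⟩ := hg (Over.mk (A.1.ι ≫ V.hom)) hA (restrictChart b A.1)
  refine ⟨m, fun j => (W j).left, fun j => (c j).left, hW, hc, hs, fun j => ?_⟩
  obtain ⟨i, l, hl'⟩ := hl j
  let jA : Over.mk (A.1.ι ≫ V.hom) ⟶ V := Over.homMk A.1.ι rfl
  have sqVj := IsPullback.of_hasPullback h₀ (c j ≫ jA)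
  refine ⟨(pullback h₀ (c j ≫ jA)).left, (pullback.fst h₀ (c j ≫ jA)).left,
    (pullback.snd h₀ (c j ≫ jA)).left, sqVj.map (Over.forget S), ?_⟩
  have sqVjy := sqVj.map (yon S)
  rw [hh₀] at sqVjy
  have sqPj := IsPullback.of_hasPullback (pullback.snd f b) ((yon S).map (c j ≫ jA))
  have ew : ((yon S).map (pullback.fst h₀ (c j ≫ jA)) ≫ a') ≫ pullback.snd f b =
      (yon S).map (pullback.snd h₀ (c j ≫ jA)) ≫ (yon S).map (c j ≫ jA) := by
    rw [Category.assoc, sqVjy.w]
  have top : IsPullback ((yon S).map (pullback.fst h₀ (c j ≫ jA))) (sqPj.lift _ _ ew) a'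
      (pullback.fst (pullback.snd f b) ((yon S).map (c j ≫ jA))) := by
    refine IsPullback.of_bot ?_ (sqPj.lift_fst _ _ ew).symm sqPj
    rw [sqPj.lift_snd]
    exact sqVjy
  have ht_e : RepWith @Etale (sqPj.lift _ _ ew) := (RepWith @Etale).of_isPullback top ha'e
  have outer : IsPullback (pullback.fst (pullback.snd f b) ((yon S).map (c j ≫ jA)) ≫ pullback.fst f b)
      (pullback.snd (pullback.snd f b) ((yon S).map (c j ≫ jA))) f ((yon S).map (c j ≫ jA) ≫ b) :=
    sqPj.paste_horiz sqV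
  have e3 : (yon S).map (c j ≫ jA) ≫ b = l ≫ g i := by
    rw [hl', Functor.map_comp, Category.assoc]
  rw [e3] at outer
  have e : (pullback.fst (pullback.snd f b) ((yon S).map (c j ≫ jA)) ≫ pullback.fst f b) ≫ f =
      (pullback.snd (pullback.snd f b) ((yon S).map (c j ≫ jA)) ≫ l) ≫ g i := by
    rw [outer.w, Category.assoc]
  have left : IsPullback ((sq i).lift _ _ e)
      (pullback.snd (pullback.snd f b) ((yon S).map (c j ≫ jA))) (p i) l := by
    apply IsPullback.of_right (h₁₂ := q i) (v₁₃ := f) (h₂₂ := g i) ?_ ((sq i).lift_snd _ _ _) (sq i)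
    rw [(sq i).lift_fst]
    exact outer
  have hloc : LocP P (pullback.snd (pullback.snd f b) ((yon S).map (c j ≫ jA))) :=
    locP_of_isPullback hP (hXi i) (hYi i) (IsAlgSpace.yon_obj (W j)) left (h i)
  exact hloc (sqPj.lift _ _ ew) (𝟙 _) (pullback.snd h₀ (c j ≫ jA)) ht_e
    (Groth.Agent.Lib.AlgSpQC.repWith_id _ (W j)) (by rw [sqPj.lift_snd, Category.comp_id])

/-- `LocP P` is fpqc local on the base. -/
theorem isLocalOnBase_fpqc_locP {P : MorphismProperty Scheme.{u}} (hP : EtLocalClass P)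
    [P.DescendsAlong etCov] [IsZariskiLocalAtTarget P]
    [P.DescendsAlong (@Surjective ⊓ @Flat ⊓ @QuasiCompact)] :
    IsLocalOnBase (IsFpqcCover (S := S)) (LocP P) := by
  intro ι Y Yi g hY hYi hcov X f hX Xi p q hXi sq
  exact ⟨fun h i => locP_of_isPullback hP hX hY (hYi i) (sq i) h,
    fun h => locP_of_hasFpqcRefinement hP hX hY hYi hcov.2 hXi sq h⟩

theorem isLocalOnBase_fpqc_locP_locallyOfFiniteType :
    IsLocalOnBase (IsFpqcCover (S := S)) (LocP @LocallyOfFiniteType) :=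
  isLocalOnBase_fpqc_locP etLocalClass_lft

theorem isLocalOnBase_fpqc_locP_locallyOfFinitePresentation :
    IsLocalOnBase (IsFpqcCover (S := S)) (LocP @LocallyOfFinitePresentation) :=
  isLocalOnBase_fpqc_locP etLocalClass_lfp

theorem isLocalOnBase_fpqc_locP_flat :
    IsLocalOnBase (IsFpqcCover (S := S)) (LocP @Flat) :=
  isLocalOnBase_fpqc_locP etLocalClass_flat

theorem isLocalOnBase_fpqc_locP_etale :
    IsLocalOnBase (IsFpqcCover (S := S)) (LocP @Etale) :=
  isLocalOnBase_fpqc_locP etLocalClass_etale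

theorem isLocalOnBase_fpqc_locP_unramified :
    IsLocalOnBase (IsFpqcCover (S := S)) (LocP (@LocallyOfFiniteType ⊓ @FormallyUnramified)) :=
  isLocalOnBase_fpqc_locP etLocalClass_lft_unramified

/-- A conjunction of properties local on the base is local on the base. -/
theorem isLocalOnBase_and {τ : CovNotion S} {P Q : MorphismProperty (Sp S)} (hP : IsLocalOnBase τ P)
    (hQ : IsLocalOnBase τ Q) : IsLocalOnBase τ (fun _ _ f => P f ∧ Q f) := by
  intro ι Y Yi g hY hYi hcov X f hX Xi p q hXi sq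
  have h1 := hP Yi g hY hYi hcov f hX Xi p q hXi sq
  have h2 := hQ Yi g hY hYi hcov f hX Xi p q hXi sq
  change (P f ∧ Q f) ↔ ∀ i, P (p i) ∧ Q (p i)
  rw [h1, h2]
  exact ⟨fun h i => ⟨h.1 i, h.2 i⟩, fun h => ⟨fun i => (h i).1, fun i => (h i).2⟩⟩

theorem isLocalOnBase_fpqc_isEtaleMor : IsLocalOnBase (IsFpqcCover (S := S)) IsEtaleMor := by
  intro ι Y Yi g hY hYi hcov X f hX Xi p q hXi sq
  rw [isEtaleMor_iff_locP hY f,
    isLocalOnBase_fpqc_locP_etale Yi g hY hYi hcov f hX Xi p q hXi sq]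
  exact forall_congr' fun i => (isEtaleMor_iff_locP (hYi i) (p i)).symm

theorem isLocalOnBase_fpqc_isFiniteTypeMor : IsLocalOnBase (IsFpqcCover (S := S)) IsFiniteTypeMor :=
  isLocalOnBase_and isLocalOnBase_fpqc_locP_locallyOfFiniteType isLocalOnBase_fpqc_isQuasiCompactMor

theorem isLocalOnBase_fpqc_isFinitePresentationMor :
    IsLocalOnBase (IsFpqcCover (S := S)) IsFinitePresentationMor :=
  isLocalOnBase_and isLocalOnBase_fpqc_locP_locallyOfFinitePresentation
    (isLocalOnBase_and isLocalOnBase_fpqc_isQuasiCompactMor isLocalOnBase_fpqc_isQuasiSeparatedMor)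

theorem isLocalOnBase_fpqc_isProperMor : IsLocalOnBase (IsFpqcCover (S := S)) IsProperMor :=
  isLocalOnBase_and isLocalOnBase_fpqc_isSeparatedMor
    (isLocalOnBase_and isLocalOnBase_fpqc_isFiniteTypeMor isLocalOnBase_fpqc_isUnivClosedMor)

end Groth.Agent.Lib.AlgSpFpqc
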