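import Groth.Agent.Lib.AlgSpFpqcRep
import Groth.Agent.Lib.H86AlgSpOpen

/-!
# fpqc descent of open immersions of algebraic spaces (owner: helper91)

Namespace `Groth.Agent.Lib.AlgSpFpqc` (continues `Lib/AlgSpFpqcRep.lean`).  Append-only please.
-/

set_option autoImplicit false
universe u
open CategoryTheory CategoryTheory.Limits AlgebraicGeometry Opposite Topology

namespace Groth.Agent.Lib.AlgSpFpqc

open AlgSp Groth.Agent.Lib.AlgSpPoints Groth.Agent.Lib.AlgSpQC Groth.Agent.Lib.AlgSpFibre
  Groth.Agent.Lib.AlgSpDescent Groth.Agent.Lib.H69AlgSp Groth.Agent.Lib.H69AlgSpMor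

variable {S : Scheme.{u}}

/-- A morphism representable by open immersions is universally open. -/
theorem isUnivOpenMor_of_repWith_isOpenImmersion {F G : Sp S} {f : F ⟶ G}
    (hf : RepWith @IsOpenImmersion f) : IsUnivOpenMor f :=
  univSp_of_repWith (Q := IsOpenMor) (P := @IsOpenImmersion)
    (fun _ _ _ h => Groth.Agent.Lib.H86AlgSpPoints.isOpenMap_map_of_repWith
      (fun φ (_ : IsOpenImmersion φ) => φ.isOpenEmbedding.isOpenMap) h) hf

/-- Descent of open immersions along a family with the fpqc refinement property. -/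
theorem repWith_isOpenImmersion_of_hasFpqcRefinement {ι : Type u} {X Y : Sp S} (hX : IsAlgSpace X)
    (hY : IsAlgSpace Y) {Yi : ι → Sp S} (hYi : ∀ i, IsAlgSpace (Yi i)) {f : X ⟶ Y} {g : ∀ i, Yi i ⟶ Y}
    (hg : HasFpqcRefinement Yi g) {Xi : ι → Sp S} {p : ∀ i, Xi i ⟶ Yi i} {q : ∀ i, Xi i ⟶ X}
    (sq : ∀ i, IsPullback (q i) (p i) f (g i)) (h : ∀ i, RepWith @IsOpenImmersion (p i)) :
    RepWith @IsOpenImmersion f := by
  -- `f` is open on points
  have hopen : IsUnivOpenMor f :=
    univSp_of_hasFpqcRefinement (Q := IsOpenMor)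
      (fun _ _ _ _ Zi Zi' a c d ha sq hd => isOpenMap_of_hasFpqcRefinement Zi Zi' a c d ha sq hd)
      hY.diag hYi hg sq fun i => isUnivOpenMor_of_repWith_isOpenImmersion (h i)
  have hW : IsOpen (Set.range (Points.map f)) := (isOpenMor_of_isUnivOpenMor hY hopen).isOpen_range
  -- the open subspace with the same image, and the factorisation of `f` through it
  have hj := Groth.Agent.Lib.H86AlgSpOpen.openSubι_repWith hW
  have hjmono : Mono (Groth.Agent.Lib.H86AlgSpOpen.openSubι Y (Set.range (Points.map f))) :=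
    inferInstance
  have hU := Groth.Agent.Lib.H86AlgSpOpen.isAlgSpace_openSub hY hW
  obtain ⟨f', hf'⟩ := Groth.Agent.Lib.H86AlgSpSub.exists_factor_of_range_subset hj f (by
    rw [Groth.Agent.Lib.H86AlgSpOpen.range_map_openSubι])
  set j := Groth.Agent.Lib.H86AlgSpOpen.openSubι Y (Set.range (Points.map f)) with hjdef
  -- base change of the open subspace to the members of the family
  have sqU : ∀ i, IsPullback (pullback.fst j (g i)) (pullback.snd j (g i)) j (g i) :=
    fun i => IsPullback.of_hasPullback j (g i)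
  have hb : ∀ i, RepWith @IsOpenImmersion (pullback.snd j (g i)) :=
    fun i => (RepWith @IsOpenImmersion).of_isPullback (sqU i) hj
  have hbmono : ∀ i, Mono (pullback.snd j (g i)) := fun i => (sqU i).mono_snd_of_mono
  have ew : ∀ i, (q i ≫ f') ≫ j = p i ≫ g i := fun i => by rw [Category.assoc, hf', (sq i).w]
  have top : ∀ i, IsPullback (q i) ((sqU i).lift _ _ (ew i)) f' (pullback.fst j (g i)) := by
    intro i
    refine IsPullback.of_bot ?_ ((sqU i).lift_fst _ _ (ew i)).symm (sqU i)
    rw [(sqU i).lift_snd, hf']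
    exact sq i
  have hiso : ∀ i, IsIso ((sqU i).lift _ _ (ew i)) := by
    intro i
    have h1 : RepWith @IsOpenImmersion ((sqU i).lift _ _ (ew i)) := by
      apply Groth.Agent.Lib.H86AlgSpOpen.repWith_of_comp_mono (pullback.snd j (g i))
      rw [(sqU i).lift_snd]
      exact h i
    refine Groth.Agent.Lib.H86AlgSpSub.isIso_of_repWith_isOpenImmersion_of_surjective h1 ?_
    intro u
    -- the image of `u` in `|Y|` lies in the image of `f`
    have hu : Points.map j (Points.map (pullback.fst j (g i)) u) ∈ Set.range (Points.map f) := by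
      have := Groth.Agent.Lib.H86AlgSpOpen.range_map_openSubι (F := Y) (W := Set.range (Points.map f))
      exact this.le ⟨_, rfl⟩
    obtain ⟨x, hx⟩ := hu
    have e1 : Points.map f x = Points.map (g i) (Points.map (pullback.snd j (g i)) u) := by
      rw [hx, ← Points.map_comp, ← Points.map_comp, (sqU i).w]
    obtain ⟨xi, -, hxi⟩ := exists_point_of_isPullback (sq i) x _ e1
    refine ⟨xi, ?_⟩
    apply Groth.Agent.Lib.H86AlgSpOpen.map_injective_of_mono (pullback.snd j (g i))
    rw [← Points.map_comp, (sqU i).lift_snd, hxi]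
  have : IsIso f' :=
    isIso_of_hasFpqcRefinement hX hU.diag
      (hg.baseChange j _ (fun i => pullback.fst j (g i)) (fun i => pullback.snd j (g i)) sqU) top hiso
  rw [← hf', (RepWith @IsOpenImmersion).cancel_left_of_respectsIso]
  exact hj

theorem isLocalOnBase_fpqc_repWith_isOpenImmersion :
    IsLocalOnBase (IsFpqcCover (S := S)) (RepWith @IsOpenImmersion) := by
  intro ι Y Yi g hY hYi hcov X f hX Xi p q _ sq
  exact ⟨fun h i => (RepWith (S := S) @IsOpenImmersion).of_isPullback (sq i) h,
    fun h => repWith_isOpenImmersion_of_hasFpqcRefinement hX hY hYi hcov.2 sq h⟩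

end Groth.Agent.Lib.AlgSpFpqc
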