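import Groth.Agent.Lib.AlgSpFpqcLocP

/-!
# A flat, quasi-compact, surjective morphism of algebraic spaces is an fpqc covering (owner: helper91)

Namespace `Groth.Agent.Lib.AlgSpFpqc` (continues `Lib/AlgSpFpqcLocP.lean`).  Append-only please.
-/

set_option autoImplicit false
universe u
open CategoryTheory CategoryTheory.Limits AlgebraicGeometry Opposite Topology

namespace Groth.Agent.Lib.AlgSpFpqc

open AlgSp Groth.Agent.Lib.AlgSpPoints Groth.Agent.Lib.AlgSpQC Groth.Agent.Lib.AlgSpFibre
  Groth.Agent.Lib.AlgSpDescent Groth.Agent.Lib.H69AlgSp Groth.Agent.Lib.H69AlgSpMor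
  Groth.Agent.Lib.AlgSpLocP Groth.Agent.Lib.AlgSpBasic

variable {S : Scheme.{u}}

/-- A flat, quasi-compact, surjective morphism of algebraic spaces, as a one-member family, has the fpqc refinement
property. -/
theorem hasFpqcRefinement_of_flat_qc_surjective {X Y : Sp S} (hX : IsAlgSpace X) (hY : IsAlgSpace Y)
    {f : X ⟶ Y} (hfl : LocP @Flat f) (hqc : IsQuasiCompactMor f) (hs : IsSurjectiveMor f) :
    HasFpqcRefinement (ι := PUnit.{u+1}) (fun _ => X) (fun _ => f) := by
  intro Z hZ h
  have sqP := IsPullback.of_hasPullback f h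
  have hZc : CompactSpace ↥Z.left := by
    have := hZ
    infer_instance
  have hP : IsAlgSpace (pullback f h) := isAlgSpace_of_isPullback hY.diag hX (IsAlgSpace.yon_obj Z) sqP
  have hPqc : IsQuasiCompactSp (pullback f h) :=
    hqc (IsAlgSpace.yon_obj Z) ((isQuasiCompactSp_yon_iff Z).2 hZc) h _ _ sqP
  have hsndflat : LocP @Flat (pullback.snd f h) :=
    locP_of_isPullback etLocalClass_flat hX hY (IsAlgSpace.yon_obj Z) sqP hfl
  have hsndsurj : IsSurjectiveMor (pullback.snd f h) := isSurjectiveMor_of_isPullback sqP hs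
  obtain ⟨U, r, hre, hrs, hU⟩ := hPqc
  have hUc : CompactSpace ↥U.left := hU
  have hrsurj := surjective_ofPt_of_repWith_surjective hrs
  obtain ⟨t, ht⟩ := isCompact_univ.elim_finite_subcover
    (fun W : U.left.affineOpens => (W.1 : Set ↥U.left)) (fun W => W.1.isOpen) (by
      intro u _
      obtain ⟨_, ⟨W, hW, rfl⟩, huW, -⟩ := (U.left.isBasis_affineOpens).exists_subset_of_mem_open
        (Set.mem_univ u) isOpen_univ
      exact Set.mem_iUnion.2 ⟨⟨W, hW⟩, huW⟩)
  let e : Fin t.card ≃ t := t.equivFin.symm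
  let A : Fin t.card → U.left.affineOpens := fun j => (e j).1
  let W : Fin t.card → Over S := fun j => Over.mk ((A j).1.ι ≫ U.hom)
  let c : ∀ j, W j ⟶ Z := fun j => (yon S).preimage (restrictChart r (A j).1 ≫ pullback.snd f h)
  have hc : ∀ j, (yon S).map (c j) = restrictChart r (A j).1 ≫ pullback.snd f h := fun j =>
    (yon S).map_preimage _
  refine ⟨t.card, W, c, fun j => (A j).2, fun j => ?_, fun z => ?_, fun j => ?_⟩
  · exact hsndflat (restrictChart r (A j).1) (𝟙 _) (c j) (repWith_etale_restrictChart hre _)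
      (Groth.Agent.Lib.AlgSpQC.repWith_id _ Z) (by rw [hc j, Category.comp_id])
  · obtain ⟨x, hx⟩ := hsndsurj (Points.schemeHomeo Z z)
    obtain ⟨u, rfl⟩ := hrsurj x
    have := ht (Set.mem_univ u)
    simp only [Set.mem_iUnion] at this
    obtain ⟨W₀, hW₀, huW₀⟩ := this
    refine ⟨e.symm ⟨W₀, hW₀⟩, ⟨u, ?_⟩, ?_⟩
    · change u ∈ ((e (e.symm ⟨W₀, hW₀⟩)).1 : U.left.affineOpens).1
      rw [Equiv.apply_symm_apply]
      exact huW₀
    · apply (Points.schemeHomeo Z).injective
      rw [← Points.map_yon_map_apply, hc, ← hx]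
      change Points.map _ (Points.ofPt (𝟙 _) _) = _
      rw [Points.map_ofPt, Category.id_comp, ← Points.map_ofPt, ofPt_restrictChart]
  · refine ⟨PUnit.unit, restrictChart r (A j).1 ≫ pullback.fst f h, ?_⟩
    rw [Category.assoc, pullback.condition, ← Category.assoc, ← hc j]

/-- A flat, quasi-compact, surjective morphism of algebraic spaces is universally submersive. -/
theorem isUnivSubmersiveMor_of_flat_qc_surjective {X Y : Sp S} (hX : IsAlgSpace X) (hY : IsAlgSpace Y)
    {f : X ⟶ Y} (hfl : LocP @Flat f) (hqc : IsQuasiCompactMor f) (hs : IsSurjectiveMor f) :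
    IsUnivSubmersiveMor f := by
  intro Z Z' hZ k fst' snd' sq'
  have href := (hasFpqcRefinement_of_flat_qc_surjective hX hY hfl hqc hs).baseChange k
    (fun _ => Z') (fun _ => snd') (fun _ => fst') (fun _ => sq'.flip)
  refine ⟨.of_isOpen_preimage_iff_isOpen fun V => ⟨fun hV => ?_,
    fun hV => hV.preimage (Points.continuous_map snd')⟩, fun z => ?_⟩
  · rw [href.isOpen_iff]
    exact fun _ => hV
  · obtain ⟨_, hz⟩ := href.jointly_surjective z
    exact hz

/-- A monomorphism of algebraic spaces that is flat, quasi-compact and surjective is an isomorphism. -/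
theorem isIso_of_flat_qc_surjective_mono {X Y : Sp S} (hX : IsAlgSpace X) (hY : IsAlgSpace Y)
    {f : X ⟶ Y} (hfl : LocP @Flat f) (hqc : IsQuasiCompactMor f) (hs : IsSurjectiveMor f) [Mono f] :
    IsIso f :=
  isIso_of_hasFpqcRefinement hX hY.diag (hasFpqcRefinement_of_flat_qc_surjective hX hY hfl hqc hs)
    (fun _ => IsPullback.of_hasPullback f f)
    fun _ => (IsPullback.of_hasPullback f f).isIso_snd_iso_of_mono

end Groth.Agent.Lib.AlgSpFpqc
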