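import Groth.Agent.Lib.AlgSpDescent
import Groth.Agent.Lib.H86AlgSpOpen
import Groth.Agent.Lib.AlgSpLocP
import Groth.Agent.Lib.H69AlgSp
import Groth.Prelude.Def_AlgSpCov

/-!
# The largest open over which a morphism of algebraic spaces has a property local on the base (owner: helper91)

Namespace `Groth.Agent.Lib.AlgSpLargestOpen`.  Append-only please.
-/

set_option autoImplicit false
universe u
open CategoryTheory CategoryTheory.Limits AlgebraicGeometry Opposite Topology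

namespace Groth.Agent.Lib.AlgSpLargestOpen

open AlgSp Groth.Agent.Lib.AlgSpPoints Groth.Agent.Lib.AlgSpQC Groth.Agent.Lib.AlgSpFibre
  Groth.Agent.Lib.AlgSpDescent Groth.Agent.Lib.H86AlgSpOpen Groth.Agent.Lib.H86AlgSpSub

variable {S : Scheme.{u}}

/-- A class of morphisms of sheaves usable as the members of coverings: contains open immersions of algebraic
spaces, is compatible with open immersions, and its members between algebraic spaces are open on points. -/
structure CoverClass (M : MorphismProperty (Sp S)) : Prop where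
  of_openImm : ∀ ⦃A B : Sp S⦄ (j : A ⟶ B), IsAlgSpace A → IsAlgSpace B → RepWith @IsOpenImmersion j → M j
  cancel_openImm : ∀ ⦃A B C : Sp S⦄ (g : A ⟶ B) (j : B ⟶ C), RepWith @IsOpenImmersion j → M (g ≫ j) → M g
  comp_openImm : ∀ ⦃A B C : Sp S⦄ (j : A ⟶ B) (g : B ⟶ C), RepWith @IsOpenImmersion j → M g → M (j ≫ g)
  isOpenMap : ∀ ⦃A B : Sp S⦄ (g : A ⟶ B), IsAlgSpace A → IsAlgSpace B → M g → IsOpenMap (Points.map g)

/-- `f` has `P` over the subset `V` of `|Y|` (unbundled form). -/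
def POver (P : MorphismProperty (Sp S)) {X Y : Sp S} (f : X ⟶ Y) (V : Set (Points Y)) : Prop :=
  ∀ ⦃W₀ X₀ : Sp S⦄ (j₀ : W₀ ⟶ Y) (j₀' : X₀ ⟶ X) (f₀ : X₀ ⟶ W₀), IsAlgSpace W₀ → IsAlgSpace X₀ →
    RepWith @IsOpenImmersion j₀ → Set.range (Points.map j₀) = V → IsPullback j₀' f₀ f j₀ → P f₀

/-- Two-member families. -/
def optObj (A B : Sp S) : Option PUnit.{u+1} → Sp S
  | none => A
  | some _ => B

def optHom {A B C : Sp S} (a : A ⟶ C) (b : B ⟶ C) : ∀ o, optObj A B o ⟶ C
  | none => a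
  | some _ => b

def optMap {A B A' B' : Sp S} (a : A ⟶ A') (b : B ⟶ B') : ∀ o, optObj A B o ⟶ optObj A' B' o
  | none => a
  | some _ => b

/-- The covering notion with members in `M`. -/
abbrev covOf (M : MorphismProperty (Sp S)) : CovNotion S := fun _ _ Y g => IsCover M Y g

variable {M P : MorphismProperty (Sp S)}

/-- The identity is representable by open immersions. -/
theorem repWith_isOpenImmersion_id (A : Sp S) : RepWith @IsOpenImmersion (𝟙 A) :=
  (RepWith (S := S) @IsOpenImmersion).id_mem A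

/-- A property local on the base is stable under base change along members of the covering class. -/
theorem p_of_baseChange (hM : CoverClass M) (hP : IsLocalOnBase (covOf M) P) {X₀ W₀ X₃ W₃ : Sp S}
    (hX₀ : IsAlgSpace X₀) (hW₀ : IsAlgSpace W₀) (hX₃ : IsAlgSpace X₃) (hW₃ : IsAlgSpace W₃)
    {f₀ : X₀ ⟶ W₀} {k : W₃ ⟶ W₀} {q : X₃ ⟶ X₀} {f₃ : X₃ ⟶ W₃} (sq : IsPullback q f₃ f₀ k) (hk : M k)
    (hf₀ : P f₀) : P f₃ := by
  have hcov : IsCover M (optObj W₀ W₃) (optHom (𝟙 W₀) k) := by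
    refine ⟨?_, fun x => ⟨none, x, ?_⟩⟩
    · rintro (_ | _)
      · exact hM.of_openImm _ hW₀ hW₀ (repWith_isOpenImmersion_id W₀)
      · exact hk
    · change Points.map (𝟙 W₀) x = x
      rw [Points.map_id]
  have := (hP (optObj W₀ W₃) (optHom (𝟙 W₀) k) hW₀ (by rintro (_ | _) <;> assumption) hcov f₀ hX₀
    (optObj X₀ X₃) (optMap f₀ f₃) (optHom (𝟙 X₀) q) (by rintro (_ | _) <;> assumption) (by
      rintro (_ | _)
      · change IsPullback (𝟙 X₀) f₀ f₀ (𝟙 W₀)
        exact IsPullback.of_horiz_isIso ⟨by rw [Category.id_comp, Category.comp_id]⟩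
      · exact sq)).1 hf₀ (some PUnit.unit)
  exact this

/-- Having `P` over members of a family of open subsets implies having `P` over their union. -/
theorem pOver_sUnion (hM : CoverClass M) (hP : IsLocalOnBase (covOf M) P) {X Y : Sp S} (f : X ⟶ Y)
    (𝒱 : Set (Set (Points Y))) (h𝒱o : ∀ V ∈ 𝒱, IsOpen V) (h𝒱 : ∀ V ∈ 𝒱, POver P f V) :
    POver P f (⋃₀ 𝒱) := by
  intro W₀ X₀ j₀ j₀' f₀ hW₀ hX₀ hj₀ hrange sq₀
  obtain ⟨U, a, -, has⟩ := hW₀.atlas
  have hsurj := surjective_ofPt_of_repWith_surjective has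
  have hex : ∀ u : ↥U.left, ∃ V ∈ 𝒱, Points.map j₀ (Points.ofPt a u) ∈ V := by
    intro u
    have : Points.map j₀ (Points.ofPt a u) ∈ ⋃₀ 𝒱 := by
      rw [← hrange]; exact ⟨_, rfl⟩
    obtain ⟨V, hV, hmem⟩ := this
    exact ⟨V, hV, hmem⟩
  choose V hV𝒱 hVmem using hex
  have hopen : ∀ u, IsOpen (Points.map j₀ ⁻¹' V u) := fun u =>
    (h𝒱o _ (hV𝒱 u)).preimage (Points.continuous_map j₀)
  have hWu : ∀ u, IsAlgSpace (openSub W₀ (Points.map j₀ ⁻¹' V u)) := fun u =>
    isAlgSpace_openSub hW₀ (hopen u)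
  have hι : ∀ u, RepWith @IsOpenImmersion (openSubι W₀ (Points.map j₀ ⁻¹' V u)) := fun u =>
    openSubι_repWith (hopen u)
  have hcov : IsCover M (fun u : ↥U.left => openSub W₀ (Points.map j₀ ⁻¹' V u))
      (fun u => openSubι W₀ (Points.map j₀ ⁻¹' V u)) := by
    refine ⟨fun u => hM.of_openImm _ (hWu u) hW₀ (hι u), fun x => ?_⟩
    obtain ⟨u, rfl⟩ := hsurj x
    refine ⟨u, ?_⟩
    rw [range_map_openSubι]
    exact hVmem u
  have hXu : ∀ u, IsAlgSpace (pullback f₀ (openSubι W₀ (Points.map j₀ ⁻¹' V u))) := fun u =>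
    isAlgSpace_of_isPullback hW₀.diag hX₀ (hWu u) (IsPullback.of_hasPullback _ _)
  refine (hP _ _ hW₀ hWu hcov f₀ hX₀ _ (fun u => pullback.snd f₀ (openSubι W₀ (Points.map j₀ ⁻¹' V u)))
    (fun u => pullback.fst f₀ (openSubι W₀ (Points.map j₀ ⁻¹' V u))) hXu
    (fun u => IsPullback.of_hasPullback _ _)).2 fun u => ?_
  refine h𝒱 (V u) (hV𝒱 u) (openSubι W₀ (Points.map j₀ ⁻¹' V u) ≫ j₀)
    (pullback.fst f₀ (openSubι W₀ (Points.map j₀ ⁻¹' V u)) ≫ j₀') _ (hWu u) (hXu u)
    ((RepWith @IsOpenImmersion).comp_mem _ _ (hι u) hj₀) ?_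
    ((IsPullback.of_hasPullback _ _).paste_horiz sq₀)
  have hsub : V u ⊆ Set.range (Points.map j₀) := by
    rw [hrange]
    exact Set.subset_sUnion_of_mem (hV𝒱 u)
  have e : Points.map (openSubι W₀ (Points.map j₀ ⁻¹' V u) ≫ j₀) =
      Points.map j₀ ∘ Points.map (openSubι W₀ (Points.map j₀ ⁻¹' V u)) := by
    funext x
    exact Points.map_comp _ _ x
  rw [e, Set.range_comp, range_map_openSubι, Set.image_preimage_eq_of_subset hsub]

/-- If the base change of `f` along a member `g` of the covering class has `P`, then `f` has `P` over the image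
of `g`. -/
theorem pOver_range (hM : CoverClass M) (hP : IsLocalOnBase (covOf M) P) {X Y X' Y' : Sp S}
    (hX' : IsAlgSpace X') (hY' : IsAlgSpace Y') {f : X ⟶ Y} {g : Y' ⟶ Y} {g' : X' ⟶ X} {f' : X' ⟶ Y'}
    (hg : M g) (sq : IsPullback g' f' f g) (hf' : P f') : POver P f (Set.range (Points.map g)) := by
  intro W₁ X₁ j₁ j₁' f₁ hW₁ hX₁ hj₁ hrange sq₁
  obtain ⟨g₁, hg₁⟩ := exists_factor_of_range_subset hj₁ g (by rw [hrange])
  have hjmono : Mono j₁ := Groth.Agent.Lib.H69AlgSp.mono_of_repWith_isOpenImmersion hj₁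
  have hMg₁ : M g₁ := hM.cancel_openImm g₁ j₁ hj₁ (by rw [hg₁]; exact hg)
  have hcov : IsCover M (fun _ : PUnit.{u+1} => Y') (fun _ => g₁) := by
    refine ⟨fun _ => hMg₁, fun w => ?_⟩
    have : Points.map j₁ w ∈ Set.range (Points.map g) := by
      rw [← hrange]; exact ⟨w, rfl⟩
    obtain ⟨y', hy'⟩ := this
    refine ⟨PUnit.unit, y', ?_⟩
    apply map_injective_of_mono j₁
    rw [← Points.map_comp, hg₁, hy']
  have e : g' ≫ f = (f' ≫ g₁) ≫ j₁ := by rw [Category.assoc, hg₁, sq.w]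
  have left : IsPullback (sq₁.lift g' (f' ≫ g₁) e) f' f₁ g₁ := by
    apply IsPullback.of_right (h₁₂ := j₁') (v₁₃ := f) (h₂₂ := j₁) ?_ (sq₁.lift_snd _ _ _) sq₁
    rw [sq₁.lift_fst, hg₁]
    exact sq
  exact (hP _ _ hW₁ (fun _ => hY') hcov f₁ hX₁ (fun _ => X') (fun _ => f') (fun _ => sq₁.lift g' (f' ≫ g₁) e)
    (fun _ => hX') (fun _ => left)).2 fun _ => hf'

/-- The largest open over which `f` has `P`, with its properties (unbundled form). -/
theorem exists_largest_open (hM : CoverClass M) (hP : IsLocalOnBase (covOf M) P) {X Y : Sp S}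
    (hX : IsAlgSpace X) (hY : IsAlgSpace Y) (f : X ⟶ Y) :
    ∃ W : TopologicalSpace.Opens (Points Y),
      POver P f (W : Set (Points Y)) ∧
      (∀ V : TopologicalSpace.Opens (Points Y), POver P f (V : Set (Points Y)) → V ≤ W) ∧
      (∀ ⦃Y' X' : Sp S⦄ (g : Y' ⟶ Y) (g' : X' ⟶ X) (f' : X' ⟶ Y'), IsAlgSpace Y' → IsAlgSpace X' →
        M g → IsPullback g' f' f g → P f' → Set.range (Points.map g) ⊆ (W : Set (Points Y))) ∧
      (∀ ⦃Y' X' : Sp S⦄ (g : Y' ⟶ Y) (g' : X' ⟶ X) (f' : X' ⟶ Y'), IsAlgSpace Y' → IsAlgSpace X' →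
        M g → IsPullback g' f' f g → ∀ W' : TopologicalSpace.Opens (Points Y'),
          POver P f' (W' : Set (Points Y')) →
          (∀ V' : TopologicalSpace.Opens (Points Y'), POver P f' (V' : Set (Points Y')) → V' ≤ W') →
          (W' : Set (Points Y')) = Points.map g ⁻¹' (W : Set (Points Y))) := by
  let 𝒱 : Set (Set (Points Y)) := {V | IsOpen V ∧ POver P f V}
  have hWopen : IsOpen (⋃₀ 𝒱) := isOpen_sUnion fun V hV => hV.1
  have hA : POver P f (⋃₀ 𝒱) := pOver_sUnion hM hP f 𝒱 (fun V hV => hV.1) (fun V hV => hV.2)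
  have hC : ∀ ⦃Y' X' : Sp S⦄ (g : Y' ⟶ Y) (g' : X' ⟶ X) (f' : X' ⟶ Y'), IsAlgSpace Y' → IsAlgSpace X' →
      M g → IsPullback g' f' f g → P f' → Set.range (Points.map g) ⊆ ⋃₀ 𝒱 := by
    intro Y' X' g g' f' hY' hX' hg sq hf'
    exact Set.subset_sUnion_of_mem
      ⟨(hM.isOpenMap g hY' hY hg).isOpen_range, pOver_range hM hP hX' hY' hg sq hf'⟩
  refine ⟨⟨⋃₀ 𝒱, hWopen⟩, hA, fun V hV => ?_, hC, ?_⟩
  · exact Set.subset_sUnion_of_mem (show (V : Set (Points Y)) ∈ 𝒱 from ⟨V.2, hV⟩)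
  · intro Y' X' g g' f' hY' hX' hg sq W' hW'1 hW'2
    apply Set.Subset.antisymm
    · -- `W' ⊆ g⁻¹ W`
      have hU' : IsAlgSpace (openSub Y' (W' : Set (Points Y'))) := isAlgSpace_openSub hY' W'.2
      have hj' : RepWith @IsOpenImmersion (openSubι Y' (W' : Set (Points Y'))) := openSubι_repWith W'.2
      have sq' := IsPullback.of_hasPullback f' (openSubι Y' (W' : Set (Points Y')))
      have hX'' : IsAlgSpace (pullback f' (openSubι Y' (W' : Set (Points Y')))) :=
        isAlgSpace_of_isPullback hY'.diag hX' hU' sq'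
      have hPsnd : P (pullback.snd f' (openSubι Y' (W' : Set (Points Y')))) :=
        hW'1 _ _ _ hU' hX'' hj' range_map_openSubι sq'
      have hsub := hC (openSubι Y' (W' : Set (Points Y')) ≫ g) _ _ hU' hX''
        (hM.comp_openImm _ g hj' hg) (sq'.paste_horiz sq) hPsnd
      intro w' hw'
      have : w' ∈ Set.range (Points.map (openSubι Y' (W' : Set (Points Y')))) := by
        rw [range_map_openSubι]; exact hw'
      obtain ⟨t, rfl⟩ := this
      apply hsub
      exact ⟨t, Points.map_comp _ _ t⟩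
    · -- `g⁻¹ W ⊆ W'`
      have hopen : IsOpen (Points.map g ⁻¹' (⋃₀ 𝒱)) := hWopen.preimage (Points.continuous_map g)
      refine hW'2 ⟨_, hopen⟩ ?_
      intro W₃ X₃ j₃ j₃' f₃ hW₃ hX₃ hj₃ hrange sq₃
      have hW₀ : IsAlgSpace (openSub Y (⋃₀ 𝒱)) := isAlgSpace_openSub hY hWopen
      have hj₀ : RepWith @IsOpenImmersion (openSubι Y (⋃₀ 𝒱)) := openSubι_repWith hWopen
      have sq₀ := IsPullback.of_hasPullback f (openSubι Y (⋃₀ 𝒱))
      have hX₀ : IsAlgSpace (pullback f (openSubι Y (⋃₀ 𝒱))) :=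
        isAlgSpace_of_isPullback hY.diag hX hW₀ sq₀
      have hPf₀ : P (pullback.snd f (openSubι Y (⋃₀ 𝒱))) :=
        hA _ _ _ hW₀ hX₀ hj₀ range_map_openSubι sq₀
      obtain ⟨k, hk⟩ := exists_factor_of_range_subset hj₀ (j₃ ≫ g) (by
        rw [range_map_openSubι]
        rintro _ ⟨t, rfl⟩
        have : Points.map j₃ t ∈ Points.map g ⁻¹' (⋃₀ 𝒱) := by
          have h1 : Points.map j₃ t ∈ Set.range (Points.map j₃) := ⟨t, rfl⟩
          rw [hrange] at h1
          exact h1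
        rw [Points.map_comp]
        exact this)
      have hMk : M k := hM.cancel_openImm k _ hj₀ (by rw [hk]; exact hM.comp_openImm j₃ g hj₃ hg)
      have outer := sq₃.paste_horiz sq
      rw [← hk] at outer
      have e : (j₃' ≫ g') ≫ f = (f₃ ≫ k) ≫ openSubι Y (⋃₀ 𝒱) := by
        rw [outer.w, Category.assoc]
      have left : IsPullback (sq₀.lift (j₃' ≫ g') (f₃ ≫ k) e) f₃
          (pullback.snd f (openSubι Y (⋃₀ 𝒱))) k := by
        apply IsPullback.of_right (h₁₂ := pullback.fst f (openSubι Y (⋃₀ 𝒱))) (v₁₃ := f)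
          (h₂₂ := openSubι Y (⋃₀ 𝒱)) ?_ (sq₀.lift_snd _ _ _) sq₀
        rw [sq₀.lift_fst]
        exact outer
      exact p_of_baseChange hM hP hX₀ hW₀ hX₃ hW₃ left hMk hPf₀

/-- `f` has `P` over the subset `V` of `|Y|` (bundled form, as in the statements). -/
def POverB (P : MorphismProperty (Sp S)) {X Y : Space S} (f : X ⟶ Y) (V : Set (Points Y.obj)) : Prop :=
  ∀ (W₀ X₀ : Space S) (j₀ : W₀ ⟶ Y) (j₀' : X₀ ⟶ X) (f₀ : X₀ ⟶ W₀),
    RepWith @IsOpenImmersion j₀.hom → Set.range (Points.map j₀.hom) = V →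
    IsPullback j₀'.hom f₀.hom f.hom j₀.hom → P f₀.hom

theorem pOverB_iff {X Y : Space S} (f : X ⟶ Y) (V : Set (Points Y.obj)) :
    POverB P f V ↔ POver P f.hom V := by
  constructor
  · intro h W₁ X₁ j₁ j₁' f₁ hW₁ hX₁ hj hr sq
    exact h ⟨W₁, hW₁⟩ ⟨X₁, hX₁⟩ (ObjectProperty.homMk j₁) (ObjectProperty.homMk j₁')
      (ObjectProperty.homMk f₁) hj hr sq
  · intro h W₀ X₀ j₀ j₀' f₀ hj hr sq
    exact h j₀.hom j₀'.hom f₀.hom W₀.property X₀.property hj hr sq

/-- The largest open over which `f` has `P`, with its properties (bundled form). -/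
theorem exists_largest_open_bundled (hM : CoverClass M) (hP : IsLocalOnBase (covOf M) P) {X Y : Space S}
    (f : X ⟶ Y) :
    ∃ W : TopologicalSpace.Opens (Points Y.obj),
      POverB P f (W : Set (Points Y.obj)) ∧
      (∀ V : TopologicalSpace.Opens (Points Y.obj), POverB P f (V : Set (Points Y.obj)) → V ≤ W) ∧
      (∀ (Y' X' : Space S) (g : Y' ⟶ Y) (g' : X' ⟶ X) (f' : X' ⟶ Y'),
        M g.hom → IsPullback g'.hom f'.hom f.hom g.hom → P f'.hom →
        Set.range (Points.map g.hom) ⊆ (W : Set (Points Y.obj))) ∧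
      (∀ (Y' X' : Space S) (g : Y' ⟶ Y) (g' : X' ⟶ X) (f' : X' ⟶ Y'),
        M g.hom → IsPullback g'.hom f'.hom f.hom g.hom →
        ∀ W' : TopologicalSpace.Opens (Points Y'.obj), POverB P f' (W' : Set (Points Y'.obj)) →
          (∀ V' : TopologicalSpace.Opens (Points Y'.obj), POverB P f' (V' : Set (Points Y'.obj)) → V' ≤ W') →
          (W' : Set (Points Y'.obj)) = Points.map g.hom ⁻¹' (W : Set (Points Y.obj))) := by
  obtain ⟨W, hA, hB, hC, hD⟩ := exists_largest_open hM hP X.property Y.property f.hom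
  refine ⟨W, (pOverB_iff f _).2 hA, fun V hV => hB V ((pOverB_iff f _).1 hV), ?_, ?_⟩
  · intro Y' X' g g' f' hg sq hf'
    exact hC g.hom g'.hom f'.hom Y'.property X'.property hg sq hf'
  · intro Y' X' g g' f' hg sq W' hW'1 hW'2
    exact hD g.hom g'.hom f'.hom Y'.property X'.property hg sq W' ((pOverB_iff f' _).1 hW'1)
      fun V' hV' => hW'2 V' ((pOverB_iff f' _).2 hV')

/-! ### The covering classes -/

/-- An open immersion from an algebraic space has `P` etale locally, for `P` containing open immersions and stable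
under precomposition with etale morphisms. -/
theorem locP_of_repWith_isOpenImmersion (Q : MorphismProperty Scheme.{u})
    (hQ : ∀ ⦃A B : Scheme.{u}⦄ (j : A ⟶ B), IsOpenImmersion j → Q j)
    (hpre : ∀ ⦃A B C : Scheme.{u}⦄ (l : A ⟶ B) (w : B ⟶ C), Etale l → Q w → Q (l ≫ w))
    {A B : Sp S} (hA : IsAlgSpace A) {j : A ⟶ B} (hj : RepWith @IsOpenImmersion j) : LocP Q j :=
  Groth.Agent.Lib.AlgSpBasic.locP_of_repWith Q hpre (fun _ a => hA.representable_from_yon a)
    (Groth.Agent.Lib.AlgSpBasic.repWith_mono (fun _ _ g hg => hQ g hg) hj)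

theorem repWith_etale_of_isOpenImmersion {A B : Sp S} {j : A ⟶ B} (hj : RepWith @IsOpenImmersion j) :
    RepWith @Etale j :=
  Groth.Agent.Lib.AlgSpBasic.repWith_mono
    (fun _ _ g (_ : IsOpenImmersion g) => (inferInstance : Etale g)) hj

theorem locP_of_comp_openImm (Q : MorphismProperty Scheme.{u}) {A B C : Sp S} (g : A ⟶ B) (j : B ⟶ C)
    (hj : RepWith @IsOpenImmersion j) (h : LocP Q (g ≫ j)) : LocP Q g := by
  intro U V a b h' ha hb comm
  exact h a (b ≫ j) h' ha ((RepWith @Etale).comp_mem _ _ hb (repWith_etale_of_isOpenImmersion hj))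
    (by rw [← Category.assoc, comm, Category.assoc])

theorem coverClass_fppf :
    CoverClass (S := S) (fun _ _ f => LocP @Flat f ∧ LocP @LocallyOfFinitePresentation f) where
  of_openImm _ _ _ hA _ hj :=
    ⟨locP_of_repWith_isOpenImmersion @Flat (fun _ _ _ _ => inferInstance)
      (fun _ _ _ l w (_ : Etale l) (_ : Flat w) => inferInstance) hA hj,
     locP_of_repWith_isOpenImmersion @LocallyOfFinitePresentation (fun _ _ _ _ => inferInstance)
      (fun _ _ _ l w (_ : Etale l) (_ : LocallyOfFinitePresentation w) => inferInstance) hA hj⟩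
  cancel_openImm _ _ _ g j hj h :=
    ⟨locP_of_comp_openImm _ g j hj h.1, locP_of_comp_openImm _ g j hj h.2⟩
  comp_openImm _ _ _ j g hj h :=
    ⟨Groth.Agent.Lib.AlgSpLocP.locP_comp_of_etale _ j (repWith_etale_of_isOpenImmersion hj) g h.1,
     Groth.Agent.Lib.AlgSpLocP.locP_comp_of_etale _ j (repWith_etale_of_isOpenImmersion hj) g h.2⟩
  isOpenMap _ _ _ hA hB h :=
    isOpenMor_of_isUnivOpenMor hB (isUnivOpenMor_of_locP_flat_lfp hA hB h.1 h.2)

theorem coverClass_smooth : CoverClass (S := S) (LocP @Smooth) where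
  of_openImm _ _ _ hA _ hj :=
    locP_of_repWith_isOpenImmersion @Smooth (fun _ _ _ _ => inferInstance)
      (fun _ _ _ l w (_ : Etale l) (_ : Smooth w) => inferInstance) hA hj
  cancel_openImm _ _ _ g j hj h := locP_of_comp_openImm _ g j hj h
  comp_openImm _ _ _ j g hj h :=
    Groth.Agent.Lib.AlgSpLocP.locP_comp_of_etale _ j (repWith_etale_of_isOpenImmersion hj) g h
  isOpenMap _ _ _ hA hB h :=
    isOpenMor_of_isUnivOpenMor hB (isUnivOpenMor_of_locP_flat_lfp hA hB
      (fun _ _ a b h' ha hb c => have : Smooth h'.left := h a b h' ha hb c; inferInstance)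
      (fun _ _ a b h' ha hb c => have : Smooth h'.left := h a b h' ha hb c; inferInstance))

theorem coverClass_etale : CoverClass (S := S) IsEtaleMor where
  of_openImm _ _ j _ _ hj := fun _ φ hφ =>
    (RepWith @Etale).comp_mem _ _ hφ (repWith_etale_of_isOpenImmersion hj)
  cancel_openImm _ _ _ g j hj h := fun _ φ hφ => by
    have : Mono j := Groth.Agent.Lib.H69AlgSp.mono_of_repWith_isOpenImmersion hj
    apply Groth.Agent.Lib.H86AlgSpOpen.repWith_of_comp_mono j
    rw [Category.assoc]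
    exact h φ hφ
  comp_openImm _ _ _ j g hj h := fun _ φ hφ => by
    rw [← Category.assoc]
    exact h (φ ≫ j) ((RepWith @Etale).comp_mem _ _ hφ (repWith_etale_of_isOpenImmersion hj))
  isOpenMap _ _ _ hA hB h :=
    isOpenMor_of_isUnivOpenMor hB (isUnivOpenMor_of_isEtaleMor hA hB.diag h)

end Groth.Agent.Lib.AlgSpLargestOpen
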