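import Groth.Agent.Lib.H30CatSpace
import Groth.Agent.S12447
import Groth.Agent.S12446
import Groth.Agent.S4881
import Groth.Agent.S6462
import Mathlib

/-!
helper30: a Jacobson, catenary, sober space whose irreducible components are equidimensional
(`dim X' = dim {generizations of x in X'}` for every closed point `x` of a component `X'`) carries
the dimension function `δ x = dim closure {x}`, vanishing at closed points.
-/

set_option autoImplicit false
universe u
open CategoryTheory AlgebraicGeometry

namespace Groth.Agent.Lib.H30EquiDim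

open TopologicalSpace Groth.Agent.S7581 Groth.Agent.S12447 Groth.Agent.Lib.H30CatSpace

section Order

variable {P : Type u} [PartialOrder P]

theorem length_le_c_of_le {a b : P} (s : LTSeries P) (h1 : a ≤ s.head) (h2 : s.last ≤ b) :
    (s.length : ℕ∞) ≤ c a b := by
  rcases h1.eq_or_lt with h | h
  · exact le_c s h.symm h2
  · have := le_c (a := a) (b := b) (s.cons a h) (by simp) (by simpa using h2)
    refine le_trans ?_ this
    simp

end Order

section Top

variable {X : Type u} [TopologicalSpace X]

/-- the irreducible closed subset `closure {x}` -/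
def Zc (x : X) : IrreducibleCloseds X :=
  ⟨closure {x}, isIrreducible_singleton.closure, isClosed_closure⟩

theorem Zc_le_iff (x : X) (Z : IrreducibleCloseds X) : Zc x ≤ Z ↔ x ∈ (Z : Set X) := by
  constructor
  · intro h
    exact h (subset_closure rfl)
  · intro h
    exact closure_minimal (Set.singleton_subset_iff.mpr h) Z.isClosed

theorem krullDim_gen_le (S' : IrreducibleCloseds X) (x : X) :
    topologicalKrullDim ↥{t : X | t ∈ (S' : Set X) ∧ t ⤳ x} ≤
      ((c (Zc x) S' : ℕ∞) : WithBot ℕ∞) := by
  unfold topologicalKrullDim Order.krullDim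
  refine iSup_le fun q => ?_
  let e := mapEmb (Topology.IsInducing.subtypeVal :
    Topology.IsInducing (Subtype.val : {t : X | t ∈ (S' : Set X) ∧ t ⤳ x} → X))
  let s : LTSeries (IrreducibleCloseds X) := q.map e e.strictMono
  have h1 : Zc x ≤ s.head := by
    rw [Zc_le_iff]
    show x ∈ ((e q.head : IrreducibleCloseds X) : Set X)
    rw [coe_mapEmb]
    obtain ⟨t, ht⟩ := q.head.isIrreducible.nonempty
    have h1 : (t : X) ∈ closure (Subtype.val '' (q.head : Set _)) :=
      subset_closure ⟨t, ht, rfl⟩
    exact t.2.2.mem_closed isClosed_closure h1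
  have h2 : s.last ≤ S' := by
    show ((e q.last : IrreducibleCloseds X) : Set X) ⊆ S'
    rw [coe_mapEmb]
    apply closure_minimal _ S'.isClosed
    rintro _ ⟨t, -, rfl⟩
    exact t.2.1
  have := length_le_c_of_le s h1 h2
  have h3 : s.length = q.length := rfl
  rw [h3] at this
  exact_mod_cast this

theorem c_le_krullDim (a S' : IrreducibleCloseds X) :
    ((c a S' : ℕ∞) : WithBot ℕ∞) ≤ topologicalKrullDim ↥(S' : Set X) := by
  haveI : Nonempty ↥(S' : Set X) := S'.isIrreducible.nonempty.to_subtype
  haveI : Nonempty (IrreducibleCloseds ↥(S' : Set X)) := ⟨Zc (Classical.arbitrary _)⟩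
  obtain ⟨d, hd⟩ : ∃ d : ℕ∞, topologicalKrullDim ↥(S' : Set X) = d := by
    have := Order.krullDim_nonneg (α := IrreducibleCloseds ↥(S' : Set X))
    exact ⟨(topologicalKrullDim ↥(S' : Set X)).unbot (by
      intro h
      unfold topologicalKrullDim at h
      rw [h] at this
      exact absurd this (by decide)), (WithBot.coe_unbot _ _).symm⟩
  rw [hd]
  have : c a S' ≤ d := by
    apply c_le
    intro s _ h2
    have := Groth.Agent.S4881.length_le_of_subset_closed (S' : Set X) s h2
    rw [hd] at this
    exact_mod_cast this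
  exact_mod_cast this

end Top

section Main

variable {X : Type u} [TopologicalSpace X] [QuasiSober X] [T0Space X] [JacobsonSpace X]

omit [QuasiSober X] [T0Space X] in
theorem exists_closed_mem (Z : IrreducibleCloseds X) :
    ∃ c ∈ (Z : Set X), IsClosed ({c} : Set X) := by
  have h1 := JacobsonSpace.closure_inter_closedPoints (X := X) Z.isClosed
  obtain ⟨z, hz⟩ := Z.isIrreducible.nonempty
  by_contra hcon
  push Not at hcon
  have : (Z : Set X) ∩ closedPoints X = ∅ := by
    ext c
    simp only [Set.mem_inter_iff, mem_closedPoints_iff, Set.mem_empty_iff_false, iff_false,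
      not_and]
    intro hc hcl
    exact hcon c hc hcl
  rw [this, closure_empty] at h1
  rw [← h1] at hz
  exact hz

/-- a chosen closed point of `closure {x}` -/
noncomputable def cp (x : X) : X := (exists_closed_mem (Zc x)).choose

omit [QuasiSober X] [T0Space X] in
theorem cp_mem (x : X) : cp x ∈ closure ({x} : Set X) := (exists_closed_mem (Zc x)).choose_spec.1

omit [QuasiSober X] [T0Space X] in
theorem cp_closed (x : X) : IsClosed ({cp x} : Set X) :=
  (exists_closed_mem (Zc x)).choose_spec.2

/-- the candidate dimension function `x ↦ dim closure {x}` -/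
noncomputable def delta (x : X) : ℤ := n (Zc (cp x)) (Zc x)

variable (hcat : Cat (IrreducibleCloseds X))
  (h3 : ∀ X' ∈ irreducibleComponents X, ∀ x ∈ X', IsClosed ({x} : Set X) →
      topologicalKrullDim ↥X' = topologicalKrullDim ↥{t : X | t ∈ X' ∧ t ⤳ x})

omit [QuasiSober X] [T0Space X] [JacobsonSpace X] in
include h3 in
theorem c_closed_eq (S' : IrreducibleCloseds X) (hS' : (S' : Set X) ∈ irreducibleComponents X)
    (x : X) (hx : x ∈ (S' : Set X)) (hxc : IsClosed ({x} : Set X)) :
    ((c (Zc x) S' : ℕ∞) : WithBot ℕ∞) = topologicalKrullDim ↥(S' : Set X) :=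
  le_antisymm (c_le_krullDim _ _) (by rw [h3 _ hS' x hx hxc]; exact krullDim_gen_le S' x)

omit [QuasiSober X] [T0Space X] [JacobsonSpace X] in
include hcat h3 in
theorem n_closed_eq (Z : IrreducibleCloseds X) (c₁ c₂ : X) (h1 : c₁ ∈ (Z : Set X))
    (h2 : c₂ ∈ (Z : Set X)) (hc1 : IsClosed ({c₁} : Set X)) (hc2 : IsClosed ({c₂} : Set X)) :
    n (Zc c₁) Z = n (Zc c₂) Z := by
  obtain ⟨X', hX', hZX'⟩ := exists_mem_irreducibleComponents_subset_of_isIrreducible
    (Z : Set X) Z.isIrreducible
  let S' : IrreducibleCloseds X := ⟨X', hX'.1, isClosed_of_mem_irreducibleComponents X' hX'⟩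
  have e1 := c_closed_eq h3 S' hX' c₁ (hZX' h1) hc1
  have e2 := c_closed_eq h3 S' hX' c₂ (hZX' h2) hc2
  have e : c (Zc c₁) S' = c (Zc c₂) S' := by exact_mod_cast e1.trans e2.symm
  have a1 := n_add hcat ((Zc_le_iff c₁ Z).mpr h1) (show Z ≤ S' from hZX')
  have a2 := n_add hcat ((Zc_le_iff c₂ Z).mpr h2) (show Z ≤ S' from hZX')
  have : n (Zc c₁) S' = n (Zc c₂) S' := by
    unfold n
    rw [e]
  omega

include hcat h3 in
theorem delta_eq (x c₀ : X) (hc : c₀ ∈ closure ({x} : Set X)) (hcl : IsClosed ({c₀} : Set X)) :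
    delta x = n (Zc c₀) (Zc x) :=
  n_closed_eq hcat h3 (Zc x) _ _ (cp_mem x) hc (cp_closed x) hcl

include hcat h3 in
theorem delta_closed (x : X) (hx : IsClosed ({x} : Set X)) : delta x = 0 := by
  rw [delta_eq hcat h3 x x (subset_closure rfl) hx]
  unfold n
  rw [c_self]
  rfl

omit [QuasiSober X] [JacobsonSpace X] in
theorem Zc_lt {x y : X} (h : x ⤳ y) (hne : x ≠ y) : Zc y < Zc x := by
  refine lt_of_le_of_ne ((Zc_le_iff y (Zc x)).mpr (specializes_iff_mem_closure.mp h)) ?_
  intro he
  have h1 : x ∈ closure ({y} : Set X) := by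
    have : (Zc x : Set X) = closure {y} := congrArg (fun Z : IrreducibleCloseds X => (Z : Set X)) he.symm
    rw [← this]
    exact subset_closure rfl
  exact hne (h.antisymm (specializes_iff_mem_closure.mpr h1)).eq

include hcat h3 in
theorem isDimensionFunction_delta : PtTop.IsDimensionFunction (delta : X → ℤ) := by
  have key : ∀ x y : X, x ⤳ y → delta x = delta y + n (Zc y) (Zc x) := by
    intro x y h
    have hyx : closure ({y} : Set X) ⊆ closure {x} := specializes_iff_closure_subset.mp h
    rw [delta_eq hcat h3 x (cp y) (hyx (cp_mem y)) (cp_closed y)]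
    exact n_add hcat ((Zc_le_iff (cp y) (Zc y)).mpr (cp_mem y))
      ((Zc_le_iff y (Zc x)).mpr (specializes_iff_mem_closure.mp h))
  refine ⟨fun x y h hne => ?_, fun x y h => ?_⟩
  · have := one_le_n_of_lt hcat (Zc_lt h hne)
    rw [key x y h]
    omega
  · obtain ⟨hsp, hne, himm⟩ := h
    rw [key x y hsp, n_covBy]
    refine ⟨Zc_lt hsp hne, ?_⟩
    intro W h1 h2
    have hW : closure ({Groth.Agent.S7577.gp W} : Set X) = (W : Set X) :=
      Groth.Agent.S7577.gp_spec W
    have hxw : x ⤳ Groth.Agent.S7577.gp W := by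
      rw [specializes_iff_mem_closure]
      apply h2.le
      show Groth.Agent.S7577.gp W ∈ (W : Set X)
      rw [← hW]
      exact subset_closure rfl
    have hwy : Groth.Agent.S7577.gp W ⤳ y := by
      rw [specializes_iff_mem_closure, hW]
      exact h1.le (subset_closure rfl)
    rcases himm _ hxw hwy with h | h
    · apply h2.ne
      apply IrreducibleCloseds.ext
      rw [← hW, h]
      rfl
    · apply h1.ne
      apply IrreducibleCloseds.ext
      rw [← hW, h]
      rfl

end Main

section Sch

theorem isDimFun_of_isDimensionFunction {S : Scheme.{u}} {δ : S → ℤ}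
    (hδ : PtTop.IsDimensionFunction δ) : Cyc.IsDimFun S δ :=
  fun x y h hne => ⟨hδ.1 x y h hne, fun himm => hδ.2 x y ⟨h, hne, himm⟩⟩

/-- **The dimension function of an equidimensional Jacobson universally catenary scheme.** -/
theorem exists_isSetup (S : Scheme.{u}) [IsLocallyNoetherian S] [JacobsonSpace S]
    (h2 : ∀ s : S, CAlg.IsUniversallyCatenary (S.presheaf.stalk s))
    (h3 : ∀ S' ∈ irreducibleComponents (S : Type u), ∀ s ∈ S', IsClosed ({s} : Set S) →
      topologicalKrullDim (↥S' : Type u) = topologicalKrullDim ↥{t : S | t ∈ S' ∧ t ⤳ s}) :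
    ∃ δ : S → ℤ, Cyc.IsSetup S δ ∧ ∀ c : S, IsClosed ({c} : Set S) → δ c = 0 := by
  have hcatS : PtTop.IsCatenarySpace S :=
    (Groth.Agent.S12446.main S).mpr (fun s => (h2 s).2 _ inferInstance)
  have hcat : Cat (IrreducibleCloseds S) := isCat_iff_cat.mp (isCatenarySpace_iff.mp hcatS)
  exact ⟨delta, ⟨inferInstance, h2,
    isDimFun_of_isDimensionFunction (isDimensionFunction_delta hcat h3)⟩,
    fun c hc => delta_closed hcat h3 c hc⟩

end Sch

end Groth.Agent.Lib.H30EquiDim
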