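import Groth.Agent.Lib.H30DimField
import Groth.Agent.Lib.H30EquiDim
import Mathlib

/-!
helper30: local dimension of closed subsets of a sober Jacobson space carrying a dimension
function that vanishes at closed points (topological core of EGA IV 5.x / 10.6).
-/

set_option autoImplicit false
universe u

namespace Groth.Agent.Lib.H30LocDimTop

open TopologicalSpace Groth.Agent.S7577 Groth.Agent.Lib.H30DimField Groth.Agent.Lib.H30CatSpace

section Basic

variable {X : Type u} [TopologicalSpace X] (δ : X → ℤ)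

/-- restriction of a dimension function to a specialization-convex subset -/
theorem restrict_convex (hδ : PtTop.IsDimensionFunction δ) (Z : Set X)
    (hZ : ∀ v ∈ Z, ∀ w ∈ Z, ∀ z : X, v ⤳ z → z ⤳ w → z ∈ Z) :
    PtTop.IsDimensionFunction (fun z : Z => δ z.1) := by
  refine ⟨fun v w hvw hne => ?_, fun v w hvw => ?_⟩
  · exact hδ.1 v.1 w.1 (Topology.IsInducing.subtypeVal.specializes_iff.mpr hvw)
      (fun h => hne (Subtype.ext h))
  · obtain ⟨hsp, hne, himm⟩ := hvw
    have hsp' : v.1 ⤳ w.1 := Topology.IsInducing.subtypeVal.specializes_iff.mpr hsp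
    refine hδ.2 v.1 w.1 ⟨hsp', fun h => hne (Subtype.ext h), ?_⟩
    intro z hvz hzw
    have hzZ : z ∈ Z := hZ v.1 v.2 w.1 w.2 z hvz hzw
    rcases himm ⟨z, hzZ⟩ (Topology.IsInducing.subtypeVal.specializes_iff.mp hvz)
      (Topology.IsInducing.subtypeVal.specializes_iff.mp hzw) with h | h
    · exact Or.inl (congrArg Subtype.val h)
    · exact Or.inr (congrArg Subtype.val h)

theorem dim_image_val (Y : Set X) (V : Set ↥Y) :
    topologicalKrullDim ↥V = topologicalKrullDim ↥(Subtype.val '' V : Set X) :=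
  IsHomeomorph.topologicalKrullDim_eq _
    (Topology.IsEmbedding.subtypeVal.homeomorphImage V).isHomeomorph

theorem dim_mono {A B : Set X} (h : A ⊆ B) : topologicalKrullDim ↥A ≤ topologicalKrullDim ↥B :=
  Topology.IsInducing.topologicalKrullDim_le (f := Set.inclusion h)
    (Topology.IsEmbedding.inclusion h).isInducing

variable [QuasiSober X] [T0Space X] [JacobsonSpace X]
  (hδ : PtTop.IsDimensionFunction δ) (h0 : ∀ c : X, IsClosed ({c} : Set X) → δ c = 0)

omit [QuasiSober X] [T0Space X] in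
theorem exists_closed (x : X) (U : Set X) (hU : IsOpen U) (hx : x ∈ U) :
    ∃ c : X, c ∈ U ∧ x ⤳ c ∧ IsClosed ({c} : Set X) := by
  have h1 := JacobsonSpace.closure_inter_closedPoints (X := X) (Z := closure {x}) isClosed_closure
  by_contra hcon
  push Not at hcon
  have h2 : closure ({x} : Set X) ∩ closedPoints X ⊆ Uᶜ := by
    rintro c ⟨hc1, hc2⟩ hcU
    exact hcon c hcU (specializes_iff_mem_closure.mpr hc1) hc2
  have h3 : closure ({x} : Set X) ⊆ Uᶜ := by
    rw [← h1]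
    exact closure_minimal h2 hU.isClosed_compl
  exact h3 (subset_closure rfl) hx

include hδ h0 in
omit [QuasiSober X] [T0Space X] in
theorem delta_nonneg (z : X) : 0 ≤ δ z := by
  obtain ⟨c, -, hzc, hc⟩ := exists_closed z Set.univ isOpen_univ trivial
  by_cases he : z = c
  · rw [he, h0 c hc]
  · have := hδ.1 z c hzc he
    rw [h0 c hc] at this
    exact this.le

omit [QuasiSober X] [T0Space X] [JacobsonSpace X] in
include hδ in
theorem delta_mono {x y : X} (h : x ⤳ y) : δ y ≤ δ x := by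
  by_cases he : x = y
  · rw [he]
  · exact (hδ.1 x y h he).le

include hδ h0 in
/-- the dimension of the closure of a point -/
theorem krullDim_closure (ξ : X) :
    topologicalKrullDim ↥(closure ({ξ} : Set X)) = (((δ ξ).toNat : ℕ) : WithBot ℕ∞) := by
  haveI : QuasiSober (closure ({ξ} : Set X)) :=
    (isClosed_closure.isClosedEmbedding_subtypeVal).quasiSober
  have hδZ := restrict_convex δ hδ (closure ({ξ} : Set X)) (fun v hv _ _ z hvz _ =>
    hvz.mem_closed isClosed_closure hv)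
  obtain ⟨c, -, hξc, hc⟩ := exists_closed ξ Set.univ isOpen_univ trivial
  exact Groth.Agent.S6462.krullDim_eq _ hδZ (fun y => delta_nonneg δ hδ h0 y.1)
    ⟨ξ, subset_closure rfl⟩
    (fun y => (subtype_specializes_iff _ _).mpr (specializes_iff_mem_closure.mpr y.2))
    ⟨c, specializes_iff_mem_closure.mp hξc⟩ (h0 c hc)

end Basic

section Main

variable {X : Type u} [TopologicalSpace X] [QuasiSober X] [T0Space X] [JacobsonSpace X]
  (δ : X → ℤ) (hδ : PtTop.IsDimensionFunction δ) (h0 : ∀ c : X, IsClosed ({c} : Set X) → δ c = 0)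
  (Y : Set X) (hY : IsClosed Y)

/-- the supremum of `δ` over the generizations of `x` in `Y` -/
noncomputable def M (x : X) : WithBot ℕ∞ :=
  ⨆ ξ : {ξ : X // ξ ∈ Y ∧ ξ ⤳ x}, (((δ ξ.1).toNat : ℕ) : WithBot ℕ∞)

omit [QuasiSober X] [T0Space X] [JacobsonSpace X] in
theorem le_M (x ξ : X) (hξY : ξ ∈ Y) (hξx : ξ ⤳ x) :
    (((δ ξ).toNat : ℕ) : WithBot ℕ∞) ≤ M δ Y x :=
  le_iSup (fun ξ : {ξ : X // ξ ∈ Y ∧ ξ ⤳ x} => (((δ ξ.1).toNat : ℕ) : WithBot ℕ∞)) ⟨ξ, hξY, hξx⟩

omit [T0Space X] [JacobsonSpace X] in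
include hY in
theorem quasiSober_inter (U : Set X) (hU : IsOpen U) : QuasiSober ↥(U ∩ Y) := by
  haveI : QuasiSober ↥U := hU.isOpenEmbedding_subtypeVal.quasiSober
  exact QuasiSober.inter_of_isClosed_of_quasiSober_left U hY

omit [QuasiSober X] [T0Space X] [JacobsonSpace X] in
include hY in
theorem convex_inter (U : Set X) (hU : IsOpen U) :
    ∀ v ∈ U ∩ Y, ∀ w ∈ U ∩ Y, ∀ z : X, v ⤳ z → z ⤳ w → z ∈ U ∩ Y :=
  fun _ hv _ hw _ hvz hzw => ⟨hzw.mem_open hU hw.1, hvz.mem_closed hY hv.2⟩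

include hδ h0 hY in
theorem M_le_dim (x : X) (hx : x ∈ Y) (U : Set X) (hU : IsOpen U) (hxU : x ∈ U) :
    M δ Y x ≤ topologicalKrullDim ↥(U ∩ Y) := by
  refine iSup_le fun ξ => ?_
  obtain ⟨ξ, hξY, hξx⟩ := ξ
  obtain ⟨c, hcU, hxc, hc⟩ := exists_closed x U hU hxU
  have hcY : c ∈ Y := hxc.mem_closed hY hx
  haveI := quasiSober_inter Y hY U hU
  have hδW := restrict_convex δ hδ (U ∩ Y) (convex_inter Y hY U hU)
  have h := le_krullDim _ hδW ⟨ξ, hξx.mem_open hU hxU, hξY⟩ ⟨c, hcU, hcY⟩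
    ((subtype_specializes_iff _ _).mpr (hξx.trans hxc))
  simp only [h0 c hc, sub_zero] at h
  exact h

include hδ h0 hY in
theorem dim_le_M (x : X) (U : Set X) (hU : IsOpen U)
    (hgood : ∀ y ∈ U ∩ Y, ∃ ξ ∈ Y, ξ ⤳ x ∧ ξ ⤳ y) :
    topologicalKrullDim ↥(U ∩ Y) ≤ M δ Y x := by
  haveI := quasiSober_inter Y hY U hU
  have hδW := restrict_convex δ hδ (U ∩ Y) (convex_inter Y hY U hU)
  unfold topologicalKrullDim Order.krullDim
  refine iSup_le fun p => ?_
  have h1 := series_lower _ (Groth.Agent.S6462.strictMono_gp _ hδW) p (Fin.last _)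
  simp only [Fin.val_last] at h1
  obtain ⟨ξ, hξY, hξx, hξy⟩ := hgood (gp (p (Fin.last _))).1 (gp (p (Fin.last _))).2
  have h2 := delta_mono δ hδ hξy
  have h3 := delta_nonneg δ hδ h0 (gp (p 0)).1
  have h4 : p.length ≤ (δ ξ).toNat := by omega
  refine le_trans ?_ (le_M δ Y x ξ hξY hξx)
  exact_mod_cast h4

include hδ h0 hY in
/-- **local dimension of a closed subset** -/
theorem localDim_eq_M (x : X) (hx : x ∈ Y)
    (hex : ∃ U : Set X, IsOpen U ∧ x ∈ U ∧ ∀ y ∈ U ∩ Y, ∃ ξ ∈ Y, ξ ⤳ x ∧ ξ ⤳ y) :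
    FlatMor.localDim ↥Y ⟨x, hx⟩ = M δ Y x := by
  apply le_antisymm
  · obtain ⟨U, hU, hxU, hgood⟩ := hex
    refine le_trans (iInf_le _ ⟨⟨Subtype.val ⁻¹' U, hU.preimage continuous_subtype_val⟩, hxU⟩) ?_
    show topologicalKrullDim ↥(Subtype.val ⁻¹' U : Set ↥Y) ≤ _
    rw [dim_image_val, Subtype.image_preimage_coe, Set.inter_comm]
    exact dim_le_M δ hδ h0 Y hY x U hU hgood
  · refine le_iInf fun V => ?_
    obtain ⟨U, hU, hUV⟩ := isOpen_induced_iff.mp V.1.2
    show _ ≤ topologicalKrullDim ↥(V.1 : Set ↥Y)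
    have hV : (V.1 : Set ↥Y) = Subtype.val ⁻¹' U := hUV.symm
    rw [hV, dim_image_val, Subtype.image_preimage_coe, Set.inter_comm]
    refine M_le_dim δ hδ h0 Y hY x hx U hU ?_
    have : (⟨x, hx⟩ : ↥Y) ∈ (V.1 : Set ↥Y) := V.2
    rw [hV] at this
    exact this

include hδ h0 hY in
/-- for a good neighbourhood the dimension is the local dimension -/
theorem dim_good (x : X) (hx : x ∈ Y) (U : Set X) (hU : IsOpen U) (hxU : x ∈ U)
    (hgood : ∀ y ∈ U ∩ Y, ∃ ξ ∈ Y, ξ ⤳ x ∧ ξ ⤳ y) :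
    topologicalKrullDim ↥(U ∩ Y) = M δ Y x :=
  le_antisymm (dim_le_M δ hδ h0 Y hY x U hU hgood) (M_le_dim δ hδ h0 Y hY x hx U hU hxU)

include hδ h0 hY in
/-- the supremum of the dimensions of the irreducible components of `Y` through `x` -/
theorem iSup_components (x : X) (hx : x ∈ Y) :
    (⨆ C ∈ {C : Set ↥Y | C ∈ irreducibleComponents ↥Y ∧ (⟨x, hx⟩ : ↥Y) ∈ C},
      topologicalKrullDim ↥C) = M δ Y x := by
  haveI : QuasiSober ↥Y := hY.isClosedEmbedding_subtypeVal.quasiSober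
  apply le_antisymm
  · refine iSup₂_le fun C hC => ?_
    obtain ⟨hC1, hC2⟩ := hC
    obtain ⟨ξ', hξ'⟩ := QuasiSober.sober hC1.1 (isClosed_of_mem_irreducibleComponents C hC1)
    have himg : Subtype.val '' C = closure ({ξ'.1} : Set X) := by
      rw [← hξ'.def, ← hY.isClosedEmbedding_subtypeVal.closure_image_eq, Set.image_singleton]
    rw [dim_image_val, himg, krullDim_closure δ hδ h0]
    refine le_M δ Y x ξ'.1 ξ'.2 ?_
    have : ξ' ⤳ (⟨x, hx⟩ : ↥Y) := hξ'.specializes hC2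
    exact (subtype_specializes_iff _ _).mp this
  · refine iSup_le fun ξ => ?_
    obtain ⟨ξ, hξY, hξx⟩ := ξ
    have hCmem := irreducibleComponent_mem_irreducibleComponents (⟨ξ, hξY⟩ : ↥Y)
    have hxC : (⟨x, hx⟩ : ↥Y) ∈ irreducibleComponent (⟨ξ, hξY⟩ : ↥Y) :=
      ((subtype_specializes_iff (⟨ξ, hξY⟩ : ↥Y) ⟨x, hx⟩).mpr hξx).mem_closed
        isClosed_irreducibleComponent mem_irreducibleComponent
    refine le_trans ?_ (le_iSup₂ (f := fun (C : Set ↥Y)
      (_ : C ∈ {C : Set ↥Y | C ∈ irreducibleComponents ↥Y ∧ (⟨x, hx⟩ : ↥Y) ∈ C}) =>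
        topologicalKrullDim ↥C) (irreducibleComponent (⟨ξ, hξY⟩ : ↥Y)) ⟨hCmem, hxC⟩)
    rw [← krullDim_closure δ hδ h0 ξ, dim_image_val]
    apply dim_mono
    apply closure_minimal
    · rw [Set.singleton_subset_iff]
      exact ⟨⟨ξ, hξY⟩, mem_irreducibleComponent, rfl⟩
    · exact hY.isClosedEmbedding_subtypeVal.isClosedMap _ isClosed_irreducibleComponent

omit [T0Space X] [JacobsonSpace X] in
include hY in
/-- the space of generizations of `x` in `Y` is sober -/
theorem quasiSober_gen (x : X) : QuasiSober ↥{t : X | t ∈ Y ∧ t ⤳ x} := by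
  constructor
  intro S hS hS'
  have hirr : IsIrreducible (closure (Subtype.val '' S : Set X)) :=
    (hS.image _ continuous_subtype_val.continuousOn).closure
  obtain ⟨η, hη⟩ := QuasiSober.sober hirr isClosed_closure
  obtain ⟨t, ht⟩ := hS.nonempty
  have htη : η ⤳ t.1 := hη.specializes (subset_closure ⟨t, ht, rfl⟩)
  have hηY : η ∈ Y := by
    have h1 : closure (Subtype.val '' S : Set X) ⊆ Y := by
      apply closure_minimal _ hY
      rintro _ ⟨s, -, rfl⟩
      exact s.2.1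
    exact h1 (hη.mem)
  refine ⟨⟨η, hηY, htη.trans t.2.2⟩, ?_⟩
  show closure _ = S
  rw [Topology.IsInducing.subtypeVal.closure_eq_preimage_closure_image, Set.image_singleton]
  show Subtype.val ⁻¹' closure {η} = S
  rw [hη.def, ← Topology.IsInducing.subtypeVal.closure_eq_preimage_closure_image,
    hS'.closure_eq]

include hδ h0 hY in
/-- `dim closure {x} + dim (generizations of x in Y)` -/
theorem closure_add_gen (x : X) (hx : x ∈ Y) :
    topologicalKrullDim ↥(closure ({x} : Set X)) +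
      topologicalKrullDim ↥{t : X | t ∈ Y ∧ t ⤳ x} = M δ Y x := by
  haveI := quasiSober_gen Y hY x
  have hconv : ∀ v ∈ {t : X | t ∈ Y ∧ t ⤳ x}, ∀ w ∈ {t : X | t ∈ Y ∧ t ⤳ x}, ∀ z : X,
      v ⤳ z → z ⤳ w → z ∈ {t : X | t ∈ Y ∧ t ⤳ x} :=
    fun v hv w hw z hvz hzw => ⟨hvz.mem_closed hY hv.1, hzw.trans hw.2⟩
  have hδG := restrict_convex δ hδ _ hconv
  rw [krullDim_closure δ hδ h0 x]
  have hx0 := delta_nonneg δ hδ h0 x
  apply le_antisymm
  · have hMa : (((δ x).toNat : ℕ) : WithBot ℕ∞) ≤ M δ Y x := le_M δ Y x x hx specializes_rfl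
    obtain ⟨k, hk⟩ : ∃ k : ℕ∞, M δ Y x = k := by
      refine ⟨(M δ Y x).unbot ?_, (WithBot.coe_unbot _ _).symm⟩
      intro h
      rw [h] at hMa
      exact absurd hMa (by simp)
    rw [hk]
    induction k using ENat.recTopCoe with
    | top => exact le_top
    | coe m =>
      have hbound : ∀ ξ ∈ Y, ξ ⤳ x → (δ ξ).toNat ≤ m := by
        intro ξ h1 h2
        have := le_M δ Y x ξ h1 h2
        rw [hk] at this
        exact_mod_cast this
      have hdimG : topologicalKrullDim ↥{t : X | t ∈ Y ∧ t ⤳ x} ≤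
          (((m - (δ x).toNat : ℕ) : ℕ) : WithBot ℕ∞) := by
        unfold topologicalKrullDim Order.krullDim
        refine iSup_le fun p => ?_
        have h1 := series_lower _ (Groth.Agent.S6462.strictMono_gp _ hδG) p (Fin.last _)
        simp only [Fin.val_last] at h1
        have h2 := hbound (gp (p (Fin.last _))).1 (gp (p (Fin.last _))).2.1
          (gp (p (Fin.last _))).2.2
        have h3 : δ x ≤ δ (gp (p 0)).1 := delta_mono δ hδ (gp (p 0)).2.2
        have h4 := delta_nonneg δ hδ h0 (gp (p (Fin.last _))).1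
        have : p.length ≤ m - (δ x).toNat := by omega
        exact_mod_cast this
      have ha : (δ x).toNat ≤ m := hbound x hx specializes_rfl
      refine le_trans (add_le_add_right hdimG _) ?_
      have hm : (δ x).toNat + (m - (δ x).toNat) = m := by omega
      have e : (((m : ℕ) : ℕ∞) : WithBot ℕ∞) = (((δ x).toNat : ℕ) : WithBot ℕ∞) +
          (((m - (δ x).toNat : ℕ) : ℕ) : WithBot ℕ∞) := by
        conv_lhs => rw [← hm]
        push_cast
        rfl
      rw [e]
  · refine iSup_le fun ξ => ?_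
    obtain ⟨ξ, hξY, hξx⟩ := ξ
    have h := le_krullDim _ hδG ⟨ξ, hξY, hξx⟩ ⟨x, hx, specializes_rfl⟩
      ((subtype_specializes_iff _ _).mpr hξx)
    have h2 := delta_mono δ hδ hξx
    have h3 : (δ ξ).toNat = (δ x).toNat + (δ ξ - δ x).toNat := by omega
    rw [h3]
    push_cast
    exact add_le_add_right h _

end Main

section Nhd

variable {X : Type u} [TopologicalSpace X] [QuasiSober X]

/-- existence of good neighbourhoods: around a point with a Noetherian open neighbourhood, every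
point of `Y` nearby has a generization in `Y` which also generizes `x` -/
theorem exists_good_nhd (Y : Set X) (hY : IsClosed Y) (x : X) (hx : x ∈ Y)
    (O : Set X) (hO : IsOpen O) (hxO : x ∈ O) (hN : NoetherianSpace ↥O) :
    ∃ U : Set X, IsOpen U ∧ x ∈ U ∧ ∀ y ∈ U ∩ Y, ∃ ξ ∈ Y, ξ ⤳ x ∧ ξ ⤳ y := by
  haveI hNZ : NoetherianSpace ↥(O ∩ Y) := by
    rw [noetherianSpace_set_iff] at hN ⊢
    intro t ht
    exact hN t (ht.trans Set.inter_subset_left)
  haveI hQS : QuasiSober ↥(O ∩ Y) := quasiSober_inter Y hY O hO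
  have hfin : (irreducibleComponents ↥(O ∩ Y)).Finite :=
    NoetherianSpace.finite_irreducibleComponents
  let x' : ↥(O ∩ Y) := ⟨x, hxO, hx⟩
  let S : Set (Set ↥(O ∩ Y)) := {Z ∈ irreducibleComponents ↥(O ∩ Y) | x' ∉ Z}
  have hSfin : S.Finite := hfin.subset (fun Z hZ => hZ.1)
  have hC : IsClosed (⋃₀ S) := by
    rw [Set.sUnion_eq_biUnion]
    exact hSfin.isClosed_biUnion (fun Z hZ => isClosed_of_mem_irreducibleComponents Z hZ.1)
  obtain ⟨W, hW, hWS⟩ := isOpen_induced_iff.mp hC.isOpen_compl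
  refine ⟨O ∩ W, hO.inter hW, ⟨hxO, ?_⟩, ?_⟩
  · have : x' ∈ (⋃₀ S)ᶜ := by
      rintro ⟨Z, hZ, hxZ⟩
      exact hZ.2 hxZ
    rw [← hWS] at this
    exact this
  · rintro y ⟨⟨hyO, hyW⟩, hyY⟩
    let y' : ↥(O ∩ Y) := ⟨y, hyO, hyY⟩
    have hy' : y' ∈ (⋃₀ S)ᶜ := by
      rw [← hWS]
      exact hyW
    have hZ := irreducibleComponent_mem_irreducibleComponents y'
    have hyZ : y' ∈ irreducibleComponent y' := mem_irreducibleComponent
    have hxZ : x' ∈ irreducibleComponent y' := by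
      by_contra hcon
      exact hy' ⟨_, ⟨hZ, hcon⟩, hyZ⟩
    obtain ⟨ξ', hξ'⟩ := QuasiSober.sober (isIrreducible_irreducibleComponent (x := y'))
      isClosed_irreducibleComponent
    refine ⟨ξ'.1, ξ'.2.2, ?_, ?_⟩
    · exact (subtype_specializes_iff ξ' x').mp (hξ'.specializes hxZ)
    · exact (subtype_specializes_iff ξ' y').mp (hξ'.specializes hyZ)

end Nhd

end Groth.Agent.Lib.H30LocDimTop
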