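import Groth.Agent.S2680
import Mathlib.RingTheory.Ideal.HasGoingUp
import Mathlib.RingTheory.Ideal.GoingUp
import Mathlib.RingTheory.Ideal.KrullsHeightTheorem
import Mathlib.RingTheory.KrullDimension.NonZeroDivisors
import Mathlib.RingTheory.Ideal.Quotient.Operations

/-!
# Dimension theory of finite type algebras over a field

Built on helper6's `Groth.Agent.S2680` (dimension of a finite type domain over a field equals the
height of every maximal ideal).

Main results (for `B` a domain of finite type over a field `k`):

* `ringKrullDim_quotient_add_one_of_height_eq_one`: `dim B/P + 1 = dim B` for a height one prime.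
* `ringKrullDim_quotient_add_one_of_covBy`: for any finite type `k`-algebra `A` and primes
  `p ⋖ q` (no prime strictly between), `dim A/q + 1 = dim A/p`.
* `height_add_ringKrullDim_quotient`: `ht p + dim B/p = dim B`.
* `height_add_one_of_covBy`: in a finite type `k`-domain, `p ⋖ q` implies `ht q = ht p + 1`.
-/

set_option autoImplicit false
universe u

namespace Groth.Agent.Lib.FTDim

open Ideal

section Integral

variable {R S : Type*} [CommRing R] [CommRing S] [Algebra R S]

/-- An injective integral extension does not lower the dimension. -/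
theorem ringKrullDim_le_of_isIntegral_of_injective [Algebra.IsIntegral R S]
    (hinj : Function.Injective (algebraMap R S)) : ringKrullDim R ≤ ringKrullDim S := by
  rw [ringKrullDim, Order.krullDim]
  refine iSup_le fun l ↦ ?_
  obtain ⟨Q, -, hQ, hQc⟩ := Ideal.exists_ideal_over_prime_of_isIntegral
    (S := S) l.head.asIdeal ⊥ (by
      rw [← RingHom.ker_eq_comap_bot, (RingHom.injective_iff_ker_eq_bot _).mp hinj]
      exact bot_le)
  have : Q.LiesOver l.head.asIdeal := ⟨hQc.symm⟩
  obtain ⟨L, hL, -, -⟩ := Ideal.exists_ltSeries_of_hasGoingUp l Q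
  rw [← hL]
  exact Order.LTSeries.length_le_krullDim L

theorem ringKrullDim_eq_of_isIntegral_of_injective [Algebra.IsIntegral R S]
    (hinj : Function.Injective (algebraMap R S)) : ringKrullDim R = ringKrullDim S :=
  le_antisymm (ringKrullDim_le_of_isIntegral_of_injective hinj)
    (Order.krullDim_le_of_strictMono
      (fun I ↦ ⟨Ideal.comap (algebraMap R S) I.asIdeal, inferInstance⟩)
      (fun I J hIJ ↦ by
        have : I.asIdeal < J.asIdeal := hIJ
        exact Ideal.IsIntegral.comap_lt_comap (R := R) this))

end Integral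

section Polynomial

variable (k : Type u) [Field k]

/-- `dim k[x_1, …, x_d] = d`. -/
theorem ringKrullDim_mvPolynomial (d : ℕ) : ringKrullDim (MvPolynomial (Fin d) k) = d := by
  rw [MvPolynomial.ringKrullDim_of_isNoetherianRing, ringKrullDim_eq_zero_of_field]
  simp

/-- In a polynomial ring over a field, `dim C/P + 1 = dim C` for a height one prime `P`. -/
theorem ringKrullDim_quotient_add_one_mvPolynomial (d : ℕ)
    (P : Ideal (MvPolynomial (Fin d) k)) [hP : P.IsPrime] (h1 : P.height = 1) :
    ringKrullDim (MvPolynomial (Fin d) k ⧸ P) + 1 = d := by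
  have hne : P ≠ ⊥ := Ideal.ne_bot_of_height_eq_one h1
  obtain ⟨f, hfP, hf⟩ := Ideal.IsPrime.exists_mem_prime_of_ne_bot hP hne
  have hPf : P = Ideal.span {f} := Ideal.eq_span_singleton_of_height_eq_one h1 hfP hf
  apply le_antisymm
  · rw [← ringKrullDim_mvPolynomial k d, hPf]
    exact ringKrullDim_quotient_succ_le_of_nonZeroDivisor
      (mem_nonZeroDivisors_of_ne_zero hf.ne_zero)
  · obtain ⟨m, hm, hPm⟩ := Ideal.exists_le_maximal P hP.ne_top
    have hmh : m.height = d := Groth.Agent.S2680.height_of_isMaximal_mvPolynomial k d m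
    have := Ideal.height_le_ringKrullDim_quotient_add_one (hPm hfP)
    rw [hmh, ← hPf] at this
    exact_mod_cast this

end Polynomial

section Domain

variable (k : Type u) [Field k] (B : Type u) [CommRing B] [IsDomain B] [Algebra k B]
  [Algebra.FiniteType k B]

include k

/-- A finite type domain over a field has finite dimension `n`, and all its maximal ideals
have height `n` (helper6's S2680). -/
theorem exists_ringKrullDim_eq :
    ∃ n : ℕ, ringKrullDim B = n ∧ ∀ m : Ideal B, m.IsMaximal → m.height = n := by
  obtain ⟨n, -, hn, hm⟩ := Groth.Agent.S2680.result k B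
  refine ⟨n, hn, fun m hm' ↦ ?_⟩
  have := hm m
  rw [IsLocalization.AtPrime.ringKrullDim_eq_height m (Localization.AtPrime m)] at this
  exact_mod_cast this

/-- In a finite type domain over a field, `dim B/P + 1 = dim B` for a height one prime `P`. -/
theorem ringKrullDim_quotient_add_one_of_height_eq_one (P : Ideal B) [P.IsPrime]
    (h1 : P.height = 1) : ringKrullDim (B ⧸ P) + 1 = ringKrullDim B := by
  obtain ⟨d, g, hinj, hfin⟩ := exists_finite_inj_algHom_of_fg k B
  algebraize [g.toRingHom]
  have : IsScalarTower k (MvPolynomial (Fin d) k) B :=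
    IsScalarTower.of_algebraMap_eq' g.comp_algebraMap.symm
  have : IsNoetherianRing B := Algebra.FiniteType.isNoetherianRing k B
  have : Module.Finite (MvPolynomial (Fin d) k) B := hfin
  have hdimB : ringKrullDim B = d := (Groth.Agent.S2680.main_aux k B d hinj).2.1
  have : FaithfulSMul (MvPolynomial (Fin d) k) B :=
    (faithfulSMul_iff_algebraMap_injective _ _).mpr hinj
  have : Algebra.IsIntegral (MvPolynomial (Fin d) k) B := inferInstance
  have hh := Ideal.height_eq_height_add_of_liesOver_of_hasGoingDown
    (P.under (MvPolynomial (Fin d) k)) P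
  have hP₀ne : P.under (MvPolynomial (Fin d) k) ≠ ⊥ := fun h ↦
    Ideal.ne_bot_of_height_eq_one h1 (Ideal.eq_bot_of_comap_eq_bot h)
  have hP₀h : (P.under (MvPolynomial (Fin d) k)).height = 1 := by
    apply le_antisymm
    · rw [← h1, hh]; exact le_self_add
    · rw [Order.one_le_iff_pos, pos_iff_ne_zero, Ne, Ideal.height_eq_zero_iff_eq_bot]
      exact hP₀ne
  have hA := ringKrullDim_quotient_add_one_mvPolynomial k d
    (P.under (MvPolynomial (Fin d) k)) hP₀h
  rw [hdimB, ← hA]
  congr 1
  exact (ringKrullDim_eq_of_isIntegral_of_injective (FaithfulSMul.algebraMap_injective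
    (MvPolynomial (Fin d) k ⧸ P.under (MvPolynomial (Fin d) k)) (B ⧸ P))).symm

end Domain

section General

variable (k : Type u) [Field k] (A : Type u) [CommRing A] [Algebra k A] [Algebra.FiniteType k A]

include k

/-- In a finite type algebra over a field, if `p < q` are primes with no prime strictly between,
then `dim A/q + 1 = dim A/p`. -/
theorem ringKrullDim_quotient_add_one_of_covBy (p q : Ideal A) [hp : p.IsPrime] [hq : q.IsPrime]
    (hpq : p < q) (hcov : ∀ r : Ideal A, r.IsPrime → p < r → ¬ r < q) :
    ringKrullDim (A ⧸ q) + 1 = ringKrullDim (A ⧸ p) := by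
  have hsurj : Function.Surjective (Ideal.Quotient.mk p) := Ideal.Quotient.mk_surjective
  have hQ : (q.map (Ideal.Quotient.mk p)).IsPrime :=
    Ideal.isPrime_map_quotientMk_of_isPrime hpq.le
  have hcomapQ : (q.map (Ideal.Quotient.mk p)).comap (Ideal.Quotient.mk p) = q := by
    rw [Ideal.comap_map_of_surjective _ hsurj, ← RingHom.ker_eq_comap_bot, Ideal.mk_ker]
    exact sup_eq_left.mpr hpq.le
  have hQ1 : (q.map (Ideal.Quotient.mk p)).height = 1 := by
    apply le_antisymm
    · rw [← Nat.cast_one, Ideal.height_le_iff]
      intro Q' hQ' hlt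
      have hr : (Q'.comap (Ideal.Quotient.mk p)).IsPrime := Ideal.comap_isPrime _ _
      have hpr : p ≤ Q'.comap (Ideal.Quotient.mk p) := by
        conv_lhs => rw [← Ideal.mk_ker (I := p), RingHom.ker_eq_comap_bot]
        exact Ideal.comap_mono bot_le
      have hrq : Q'.comap (Ideal.Quotient.mk p) < q := by
        rw [← hcomapQ]
        refine lt_of_le_of_ne (Ideal.comap_mono hlt.le) fun h ↦ hlt.ne ?_
        rw [← Ideal.map_comap_of_surjective _ hsurj Q', h, Ideal.map_comap_of_surjective _ hsurj]
      have hreq : Q'.comap (Ideal.Quotient.mk p) = p := by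
        by_contra hne
        exact hcov _ hr (lt_of_le_of_ne hpr (Ne.symm hne)) hrq
      have hQ'bot : Q' = ⊥ := by
        rw [← Ideal.map_comap_of_surjective _ hsurj Q', hreq, Ideal.map_quotient_self]
      rw [hQ'bot, Ideal.height_bot]
      exact zero_lt_one
    · rw [Order.one_le_iff_pos, pos_iff_ne_zero, Ne, Ideal.height_eq_zero_iff_eq_bot]
      intro h
      apply hpq.not_ge
      rw [← hcomapQ, h, ← RingHom.ker_eq_comap_bot, Ideal.mk_ker]
  have := ringKrullDim_quotient_add_one_of_height_eq_one k (A ⧸ p)
    (q.map (Ideal.Quotient.mk p)) hQ1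
  rw [← this]
  congr 1
  exact (ringKrullDim_eq_of_ringEquiv (DoubleQuot.quotQuotEquivQuotOfLE hpq.le)).symm

end General

section Domain2

variable (k : Type u) [Field k] (B : Type u) [CommRing B] [IsDomain B] [Algebra k B]
  [Algebra.FiniteType k B]

include k

/-- In a finite type domain over a field: `ht p + dim B/p = dim B`. -/
theorem height_add_ringKrullDim_quotient (p : Ideal B) [hp : p.IsPrime] :
    (p.height : WithBot ℕ∞) + ringKrullDim (B ⧸ p) = ringKrullDim B := by
  have : IsNoetherianRing B := Algebra.FiniteType.isNoetherianRing k B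
  have key : ∀ n : ℕ, ∀ (p : Ideal B) [p.IsPrime], p.height = n →
      (p.height : WithBot ℕ∞) + ringKrullDim (B ⧸ p) = ringKrullDim B := by
    intro n
    induction n with
    | zero =>
      intro p _ hn
      rw [hn]
      rw [Nat.cast_zero, Ideal.height_eq_zero_iff_eq_bot] at hn
      subst hn
      rw [ringKrullDim_eq_of_ringEquiv (RingEquiv.quotientBot B)]
      simp
    | succ n ih =>
      intro p _ hn
      -- a prime `q < p` of height `n`
      have hnot : ¬ p.height ≤ (n : ℕ) := by
        rw [hn]; exact_mod_cast Nat.not_succ_le_self n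
      rw [Ideal.height_le_iff] at hnot
      push Not at hnot
      obtain ⟨q, hq, hqp, hqn⟩ := hnot
      have h1 := Ideal.height_add_one_le_of_lt_of_isPrime hqp
      have hqh : q.height = n := by
        apply le_antisymm _ hqn
        rw [hn] at h1
        have : q.height + 1 ≤ (n : ℕ∞) + 1 := by exact_mod_cast h1
        exact (ENat.add_le_add_iff_right ENat.one_ne_top).mp this
      have hcov : ∀ r : Ideal B, r.IsPrime → q < r → ¬ r < p := by
        intro r hr hqr hrp
        have h2 := Ideal.height_add_one_le_of_lt_of_isPrime hqr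
        have h3 := Ideal.height_add_one_le_of_lt_of_isPrime hrp
        rw [hqh] at h2
        rw [hn] at h3
        have : ((n : ℕ∞) + 1) + 1 ≤ ((n + 1 : ℕ) : ℕ∞) := (add_le_add_left h2 1).trans h3
        have : n + 1 + 1 ≤ n + 1 := by exact_mod_cast this
        omega
      have h4 := ringKrullDim_quotient_add_one_of_covBy k B q p hqp hcov
      have h5 := ih q hqh
      rw [← h5, ← h4, hn, hqh]
      push_cast
      ring
  have hfin : p.height ≠ ⊤ := Ideal.height_ne_top_of_isPrime
  obtain ⟨n, hn⟩ := ENat.ne_top_iff_exists.mp hfin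
  exact key n p hn.symm

/-- In a finite type domain over a field, if `p < q` are primes with no prime strictly between,
then `ht q = ht p + 1`. -/
theorem height_add_one_of_covBy (p q : Ideal B) [hp : p.IsPrime] [hq : q.IsPrime]
    (hpq : p < q) (hcov : ∀ r : Ideal B, r.IsPrime → p < r → ¬ r < q) :
    q.height = p.height + 1 := by
  have : IsNoetherianRing B := Algebra.FiniteType.isNoetherianRing k B
  have h1 := ringKrullDim_quotient_add_one_of_covBy k B p q hpq hcov
  have h2 := height_add_ringKrullDim_quotient k B p
  have h3 := height_add_ringKrullDim_quotient k B q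
  obtain ⟨m, hm, -⟩ := exists_ringKrullDim_eq k (B ⧸ q)
  obtain ⟨a, ha⟩ := ENat.ne_top_iff_exists.mp (Ideal.height_ne_top_of_isPrime (I := p))
  obtain ⟨b, hb⟩ := ENat.ne_top_iff_exists.mp (Ideal.height_ne_top_of_isPrime (I := q))
  rw [← h1, hm, ← ha] at h2
  rw [hm, ← hb, ← h2] at h3
  rw [← ha, ← hb]
  have h4 : ((b + m : ℕ) : WithBot ℕ∞) = ((a + (m + 1) : ℕ) : WithBot ℕ∞) := by
    push_cast
    exact h3
  have h5 : b + m = a + (m + 1) := by exact_mod_cast h4
  have : b = a + 1 := by omega
  rw [this]
  rfl

end Domain2

end Groth.Agent.Lib.FTDim
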