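/-
helper56: keystone FibDim, stage 3 (ring level).
Fibre dimension bounds for quasi-finite algebras over polynomial rings, relative local
Noether normalization (Stacks 00QE), and Chevalley's semicontinuity at ring level (Stacks 00QK).
-/
import Mathlib
import Groth.Prelude.Def_Flat
import Groth.Agent.Lib.H56LocDim
import Groth.Agent.Lib.FTDim

set_option autoImplicit false
universe u

open TopologicalSpace Topology TensorProduct

namespace Groth.Agent.Lib.H56LocDim

section QuasiFiniteDim

variable {R P B : Type*} [CommRing R] [CommRing P] [CommRing B] [Algebra R P] [Algebra R B]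
  [Algebra P B] [IsScalarTower R P B]

/-- If `B` is quasi-finite over `P` (both `R`-algebras), the fibre of `B` over a prime `p` of `R`
has dimension at most that of the fibre of `P`. -/
theorem ringKrullDim_fiber_le_of_quasiFinite [Algebra.QuasiFinite P B] (p : Ideal R) [p.IsPrime] :
    ringKrullDim (p.Fiber B) ≤ ringKrullDim (p.Fiber P) := by
  let pp : PrimeSpectrum R := ⟨p, inferInstance⟩
  let eB := PrimeSpectrum.preimageOrderIsoFiber R B pp
  let eP := PrimeSpectrum.preimageOrderIsoFiber R P pp
  let m : (PrimeSpectrum.comap (algebraMap R B) ⁻¹' {pp}) →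
      (PrimeSpectrum.comap (algebraMap R P) ⁻¹' {pp}) := fun Q =>
    ⟨PrimeSpectrum.comap (algebraMap P B) Q.1, by
      have h1 : PrimeSpectrum.comap (algebraMap R B) Q.1 = pp := Q.2
      have h2 : PrimeSpectrum.comap (algebraMap R P) (PrimeSpectrum.comap (algebraMap P B) Q.1) =
          PrimeSpectrum.comap (algebraMap R B) Q.1 := by
        rw [← PrimeSpectrum.comap_comp_apply, ← IsScalarTower.algebraMap_eq]
      exact h2.trans h1⟩
  have hm : StrictMono m := by
    intro Q₁ Q₂ h
    have hle : Q₁.1.asIdeal ≤ Q₂.1.asIdeal := h.le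
    have hle' : (m Q₁).1.asIdeal ≤ (m Q₂).1.asIdeal := Ideal.comap_mono hle
    refine lt_of_le_of_ne hle' ?_
    intro heq
    have heq' : Q₁.1.asIdeal.under P = Q₂.1.asIdeal.under P := by
      have := congrArg (fun z => z.1.asIdeal) heq
      exact this
    have := Algebra.QuasiFinite.eq_of_le_of_under_eq (R := P) Q₁.1.asIdeal Q₂.1.asIdeal hle heq'
    exact h.ne (Subtype.ext (PrimeSpectrum.ext this))
  exact Order.krullDim_le_of_strictMono (fun w => eP (m (eB.symm w)))
    (eP.strictMono.comp (hm.comp eB.symm.strictMono))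

end QuasiFiniteDim

/-- The fibre of a polynomial ring in `d` variables has dimension `d`. -/
theorem ringKrullDim_fiber_mvPolynomial {R : Type*} [CommRing R] (p : Ideal R) [p.IsPrime]
    (d : ℕ) : ringKrullDim (p.Fiber (MvPolynomial (Fin d) R)) = d := by
  have e : p.Fiber (MvPolynomial (Fin d) R) ≃ₐ[p.ResidueField] MvPolynomial (Fin d) p.ResidueField :=
    MvPolynomial.algebraTensorAlgEquiv R p.ResidueField
  rw [ringKrullDim_eq_of_ringEquiv e.toRingEquiv, MvPolynomial.ringKrullDim_of_isNoetherianRing,
    ringKrullDim_eq_zero_of_field]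
  simp

/-- Dimension of the topological fibre equals the dimension of the fibre ring. -/
theorem topologicalKrullDim_fibre_eq {R A : Type*} [CommRing R] [CommRing A] [Algebra R A]
    (p : PrimeSpectrum R) :
    topologicalKrullDim (PrimeSpectrum.comap (algebraMap R A) ⁻¹' {p}) =
      ringKrullDim (p.asIdeal.Fiber A) := by
  rw [← PrimeSpectrum.topologicalKrullDim_eq_ringKrullDim]
  exact IsHomeomorph.topologicalKrullDim_eq _
    (PrimeSpectrum.preimageHomeomorphFiber R A p).isHomeomorph

/-- If the local dimension of the fibre at `q` is at most `n`, some principal localization has a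
fibre ring of dimension at most `n`. -/
theorem exists_away_dim_fiber_le {R A : Type*} [CommRing R] [CommRing A] [Algebra R A]
    (q : PrimeSpectrum A) (n : WithBot ℕ∞)
    (h : fibLocDim (PrimeSpectrum.comap (algebraMap R A)) q ≤ n) :
    ∃ g : A, g ∉ q.asIdeal ∧
      ringKrullDim ((PrimeSpectrum.comap (algebraMap R A) q).asIdeal.Fiber
        (Localization.Away g)) ≤ n := by
  set φ := PrimeSpectrum.comap (algebraMap R A) with hφ
  set p := φ q with hp
  obtain ⟨U, hqU, hU⟩ := Groth.Agent.Lib.TopKrullDim.exists_open_dim_eq_localDim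
    (X := φ ⁻¹' {p}) ⟨q, rfl⟩
  obtain ⟨U', hU'open, hU'⟩ := isOpen_induced_iff.mp U.2
  have hqU' : q ∈ U' := by
    have : (⟨q, rfl⟩ : φ ⁻¹' {p}) ∈ Subtype.val ⁻¹' U' := by rw [hU']; exact hqU
    exact this
  obtain ⟨_, ⟨g, rfl⟩, hqg, hgU'⟩ :=
    PrimeSpectrum.isTopologicalBasis_basic_opens.exists_subset_of_mem_open hqU' hU'open
  refine ⟨g, hqg, ?_⟩
  let B := Localization.Away g
  have hj : IsOpenEmbedding (PrimeSpectrum.comap (algebraMap A B)) :=
    PrimeSpectrum.localization_away_isOpenEmbedding B g
  have hrange : Set.range (PrimeSpectrum.comap (algebraMap A B)) = PrimeSpectrum.basicOpen g :=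
    PrimeSpectrum.localization_away_comap_range B g
  have hcomp : ∀ Q : PrimeSpectrum B, φ (PrimeSpectrum.comap (algebraMap A B) Q) =
      PrimeSpectrum.comap (algebraMap R B) Q := by
    intro Q
    rw [hφ, ← PrimeSpectrum.comap_comp_apply, ← IsScalarTower.algebraMap_eq]
  let κ : (PrimeSpectrum.comap (algebraMap R B) ⁻¹' {p}) → ((U : Set (φ ⁻¹' {p}))) := fun Q =>
    ⟨⟨PrimeSpectrum.comap (algebraMap A B) Q.1, (hcomp Q.1).trans Q.2⟩, by
      have h1 : PrimeSpectrum.comap (algebraMap A B) Q.1 ∈ U' :=
        hgU' (by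
          have : PrimeSpectrum.comap (algebraMap A B) Q.1 ∈
              Set.range (PrimeSpectrum.comap (algebraMap A B)) := Set.mem_range_self Q.1
          rw [hrange] at this
          exact this)
      have : (⟨PrimeSpectrum.comap (algebraMap A B) Q.1, (hcomp Q.1).trans Q.2⟩ : φ ⁻¹' {p}) ∈
          Subtype.val ⁻¹' U' := h1
      rw [hU'] at this
      exact this⟩
  have hκ : IsInducing κ := by
    have h1 : IsInducing (fun Q : (PrimeSpectrum.comap (algebraMap R B) ⁻¹' {p}) =>
        PrimeSpectrum.comap (algebraMap A B) Q.1) :=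
      hj.isInducing.comp IsInducing.subtypeVal
    have h2 : IsInducing (fun Q : (PrimeSpectrum.comap (algebraMap R B) ⁻¹' {p}) =>
        (κ Q).1) := by
      exact IsInducing.of_comp (Continuous.subtype_mk h1.continuous _) continuous_subtype_val h1
    exact IsInducing.of_comp (Continuous.subtype_mk h2.continuous _) continuous_subtype_val h2
  have hdim := hκ.topologicalKrullDim_le
  rw [topologicalKrullDim_fibre_eq] at hdim
  calc ringKrullDim (p.asIdeal.Fiber B) ≤ topologicalKrullDim (U : Set (φ ⁻¹' {p})) := hdim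
    _ = FlatMor.localDim (φ ⁻¹' {p}) ⟨q, rfl⟩ := hU
    _ ≤ n := h

/-- Relative Noether normalization on a fibre: for a finite type `R`-algebra `B` and a prime `p`
of `R` with nonzero fibre ring, there is an `R`-algebra map `R[y_1..y_d] → B`, `d` the dimension of
the fibre ring, which is finite after base change to `κ(p)`. -/
theorem exists_algHom_fiber_finite {R B : Type*} [CommRing R] [CommRing B] [Algebra R B]
    [Algebra.FiniteType R B] (p : Ideal R) [p.IsPrime] [Nontrivial (p.Fiber B)] :
    ∃ (d : ℕ) (Ψ : MvPolynomial (Fin d) R →ₐ[R] B), ringKrullDim (p.Fiber B) = d ∧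
      (Algebra.TensorProduct.map (AlgHom.id p.ResidueField p.ResidueField) Ψ).toRingHom.Finite := by
  classical
  obtain ⟨d, φ, hinj, hfin⟩ := exists_finite_inj_algHom_of_fg p.ResidueField (p.Fiber B)
  have hdim : ringKrullDim (p.Fiber B) = d := by
    let _ : Algebra (MvPolynomial (Fin d) p.ResidueField) (p.Fiber B) := φ.toRingHom.toAlgebra
    have hfin' : Module.Finite (MvPolynomial (Fin d) p.ResidueField) (p.Fiber B) := hfin
    have hint : Algebra.IsIntegral (MvPolynomial (Fin d) p.ResidueField) (p.Fiber B) :=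
      Algebra.IsIntegral.of_finite _ _
    rw [← Groth.Agent.Lib.FTDim.ringKrullDim_eq_of_isIntegral_of_injective
      (R := MvPolynomial (Fin d) p.ResidueField) (S := p.Fiber B) hinj,
      MvPolynomial.ringKrullDim_of_isNoetherianRing, ringKrullDim_eq_zero_of_field]
    simp
  have hex : ∀ i : Fin d, ∃ r : R, r ∉ p ∧ ∃ b : B,
      r • φ (MvPolynomial.X i) = (1 : p.ResidueField) ⊗ₜ[R] b := fun i => by
    obtain ⟨r, hr, s, e⟩ := Ideal.Fiber.exists_smul_eq_one_tmul p (φ (MvPolynomial.X i))
    exact ⟨r, hr, s, e⟩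
  choose r hr b hb using hex
  let Ψ : MvPolynomial (Fin d) R →ₐ[R] B := MvPolynomial.aeval b
  refine ⟨d, Ψ, hdim, ?_⟩
  let rbar : Fin d → p.ResidueField := fun i => algebraMap R p.ResidueField (r i)
  have hrbar : ∀ i, rbar i ≠ 0 := fun i h =>
    hr i ((Ideal.algebraMap_residueField_eq_zero (I := p)).mp h)
  let σ : MvPolynomial (Fin d) R →ₐ[R] MvPolynomial (Fin d) p.ResidueField :=
    MvPolynomial.aeval (fun i => MvPolynomial.C (rbar i) * MvPolynomial.X i)
  let e' : p.ResidueField ⊗[R] MvPolynomial (Fin d) R →ₐ[p.ResidueField]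
      MvPolynomial (Fin d) p.ResidueField :=
    Algebra.TensorProduct.lift (Algebra.ofId p.ResidueField _) σ (fun _ _ => Commute.all _ _)
  have hcomp : Algebra.TensorProduct.map (AlgHom.id p.ResidueField p.ResidueField) Ψ =
      φ.comp e' := by
    apply Algebra.TensorProduct.ext
    · ext
    · apply MvPolynomial.algHom_ext
      intro i
      simp only [AlgHom.coe_comp, AlgHom.coe_restrictScalars', Function.comp_apply,
        Algebra.TensorProduct.includeRight_apply, Algebra.TensorProduct.map_tmul,
        e', Algebra.TensorProduct.lift_tmul, map_one, one_mul, σ, Ψ, MvPolynomial.aeval_X]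
      rw [← hb i, map_mul, ← MvPolynomial.algebraMap_eq, AlgHom.commutes, ← Algebra.smul_def,
        algebraMap_smul]
  have hsurj : Function.Surjective e' := by
    rw [← AlgHom.range_eq_top, eq_top_iff, ← MvPolynomial.adjoin_range_X, Algebra.adjoin_le_iff]
    rintro _ ⟨i, rfl⟩
    refine ⟨(rbar i)⁻¹ ⊗ₜ[R] MvPolynomial.X i, ?_⟩
    change e' ((rbar i)⁻¹ ⊗ₜ[R] MvPolynomial.X i) = _
    simp only [e', Algebra.TensorProduct.lift_tmul, σ, MvPolynomial.aeval_X, Algebra.ofId_apply,
      MvPolynomial.algebraMap_eq]
    rw [← mul_assoc, ← map_mul, inv_mul_cancel₀ (hrbar i), map_one, one_mul]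
  rw [hcomp]
  exact RingHom.Finite.comp hfin (RingHom.Finite.of_surjective _ hsurj)

section QuasiFiniteAt

variable {R P B : Type*} [CommRing R] [CommRing P] [CommRing B] [Algebra R P] [Algebra R B]
  [Algebra P B] [IsScalarTower R P B]

/-- If the base change of `P → B` to `κ(p)` is finite, then `B` is quasi-finite over `P` at all
primes of `B` lying over `p`. -/
theorem quasiFiniteAt_of_fiber_finite [Algebra.FiniteType P B] (p : Ideal R) [p.IsPrime]
    (hfin : (Algebra.TensorProduct.map (AlgHom.id p.ResidueField p.ResidueField)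
      (IsScalarTower.toAlgHom R P B)).toRingHom.Finite)
    (Q : PrimeSpectrum B) (hQ : PrimeSpectrum.comap (algebraMap R B) Q = ⟨p, inferInstance⟩) :
    Algebra.QuasiFiniteAt P Q.asIdeal := by
  let pp : PrimeSpectrum R := ⟨p, inferInstance⟩
  let θ := Algebra.TensorProduct.map (AlgHom.id p.ResidueField p.ResidueField)
      (IsScalarTower.toAlgHom R P B)
  let _ : Algebra (p.Fiber P) (p.Fiber B) := θ.toRingHom.toAlgebra
  have hmf : Module.Finite (p.Fiber P) (p.Fiber B) := hfin
  let hB := PrimeSpectrum.preimageHomeomorphFiber R B pp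
  let hP := PrimeSpectrum.preimageHomeomorphFiber R P pp
  let α := PrimeSpectrum.comap (algebraMap P B)
  let β := PrimeSpectrum.comap (algebraMap (p.Fiber P) (p.Fiber B))
  let ιB : PrimeSpectrum (p.Fiber B) → PrimeSpectrum B := fun w => (hB.symm w).1
  let ιP : PrimeSpectrum (p.Fiber P) → PrimeSpectrum P := fun w => (hP.symm w).1
  have hιP : Function.Injective ιP := Subtype.val_injective.comp hP.symm.injective
  have hsq : ∀ w, α (ιB w) = ιP (β w) := by
    intro w
    change PrimeSpectrum.comap (algebraMap P B)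
        (PrimeSpectrum.comap (Algebra.TensorProduct.includeRight.toRingHom) w) =
      PrimeSpectrum.comap (Algebra.TensorProduct.includeRight.toRingHom)
        (PrimeSpectrum.comap θ.toRingHom w)
    rw [← PrimeSpectrum.comap_comp_apply, ← PrimeSpectrum.comap_comp_apply]
    congr 1
  have hRB : ∀ Q' : PrimeSpectrum B, α Q' = α Q → PrimeSpectrum.comap (algebraMap R B) Q' = pp := by
    intro Q' h
    have h1 : ∀ Q'' : PrimeSpectrum B, PrimeSpectrum.comap (algebraMap R B) Q'' =
        PrimeSpectrum.comap (algebraMap R P) (α Q'') := by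
      intro Q''
      rw [← PrimeSpectrum.comap_comp_apply, ← IsScalarTower.algebraMap_eq]
    rw [h1, h, ← h1, hQ]
  let w0 := hB ⟨Q, hQ⟩
  have hw0 : ιB w0 = Q := congrArg Subtype.val (hB.symm_apply_apply ⟨Q, hQ⟩)
  have hdisc : DiscreteTopology (β ⁻¹' {β w0}) :=
    (Algebra.QuasiFinite.isDiscrete_comap_preimage_singleton (β w0)).to_subtype
  let m : (α ⁻¹' {α Q}) → (β ⁻¹' {β w0}) := fun Q' =>
    ⟨hB ⟨Q'.1, hRB Q'.1 Q'.2⟩, by
      have h1 : ιB (hB ⟨Q'.1, hRB Q'.1 Q'.2⟩) = Q'.1 :=
        congrArg Subtype.val (hB.symm_apply_apply ⟨Q'.1, hRB Q'.1 Q'.2⟩)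
      apply hιP
      rw [← hsq, ← hsq, h1, hw0]
      exact Q'.2⟩
  have hmc : Continuous m := by
    refine Continuous.subtype_mk ?_ _
    exact hB.continuous.comp (Continuous.subtype_mk continuous_subtype_val _)
  have hmi : Function.Injective m := by
    intro a b hab
    have h1 := congrArg Subtype.val hab
    have h2 := hB.injective h1
    exact Subtype.ext (congrArg (fun z => z.1) h2)
  have hdisc' : DiscreteTopology (α ⁻¹' {α Q}) := DiscreteTopology.of_continuous_injective hmc hmi
  exact Algebra.QuasiFiniteAt.of_isOpen_singleton_fiber Q (isOpen_discrete _)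

/-- ZMT: quasi-finite at a prime implies quasi-finite on a principal open neighbourhood. -/
theorem exists_away_quasiFinite [Algebra.FiniteType P B] (Q : Ideal B) [Q.IsPrime]
    [Algebra.QuasiFiniteAt P Q] :
    ∃ r : B, r ∉ Q ∧ Algebra.QuasiFinite P (Localization.Away r) := by
  obtain ⟨S', hS', r, hrp, H⟩ :=
    Algebra.QuasiFiniteAt.exists_fg_and_exists_notMem_and_awayMap_bijective (R := P) Q
  have : Module.Finite P S' := ⟨(Submodule.fg_top _).mpr hS'⟩
  have : Algebra.QuasiFinite P (Localization.Away r) := .trans _ S' _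
  exact ⟨r.1, hrp, .of_surjective_algHom (Localization.awayMapₐ S'.val r) H.2⟩

end QuasiFiniteAt

/-- **Chevalley's semicontinuity theorem, ring level** (Stacks 00QK): for a finite type ring map
`R → A`, the set of primes `q` of `A` at which the fibre has local dimension `≤ n` is open. -/
theorem isOpen_fibLocDim_le {R A : Type*} [CommRing R] [CommRing A] [Algebra R A]
    [Algebra.FiniteType R A] (n : ℕ) :
    IsOpen {q : PrimeSpectrum A |
      fibLocDim (PrimeSpectrum.comap (algebraMap R A)) q ≤ (n : WithBot ℕ∞)} := by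
  rw [isOpen_iff_forall_mem_open]
  intro q hq
  obtain ⟨g, hg, hdim⟩ := exists_away_dim_fiber_le q n hq
  obtain ⟨p, hp⟩ : ∃ p, p = PrimeSpectrum.comap (algebraMap R A) q := ⟨_, rfl⟩
  rw [← hp] at hdim
  obtain ⟨B, hB⟩ : ∃ B : Type _, B = Localization.Away g := ⟨_, rfl⟩
  subst hB
  have hftB : Algebra.FiniteType R (Localization.Away g) :=
    Algebra.FiniteType.trans (inferInstance : Algebra.FiniteType R A)
      (IsLocalization.finiteType_of_monoid_fg (Submonoid.powers g) (Localization.Away g))
  have hj : IsOpenEmbedding (PrimeSpectrum.comap (algebraMap A (Localization.Away g))) :=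
    PrimeSpectrum.localization_away_isOpenEmbedding (Localization.Away g) g
  have hqr : q ∈ Set.range (PrimeSpectrum.comap (algebraMap A (Localization.Away g))) := by
    rw [PrimeSpectrum.localization_away_comap_range (Localization.Away g) g]
    exact hg
  obtain ⟨Q0, hQ0⟩ := hqr
  have hQ0p : PrimeSpectrum.comap (algebraMap R (Localization.Away g)) Q0 = p := by
    rw [hp, ← hQ0, ← PrimeSpectrum.comap_comp_apply, ← IsScalarTower.algebraMap_eq]
  have hnt : Nontrivial (p.asIdeal.Fiber (Localization.Away g)) :=
    (PrimeSpectrum.preimageHomeomorphFiber R (Localization.Away g) p ⟨Q0, hQ0p⟩).nontrivial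
  obtain ⟨d, Ψ, hd, hfin⟩ := exists_algHom_fiber_finite (R := R) (B := Localization.Away g)
    p.asIdeal
  have hdn : (d : WithBot ℕ∞) ≤ n := hd ▸ hdim
  let _ : Algebra (MvPolynomial (Fin d) R) (Localization.Away g) := Ψ.toRingHom.toAlgebra
  have hst : IsScalarTower R (MvPolynomial (Fin d) R) (Localization.Away g) :=
    IsScalarTower.of_algebraMap_eq (fun r => (Ψ.commutes r).symm)
  have hftP : Algebra.FiniteType (MvPolynomial (Fin d) R) (Localization.Away g) :=
    Algebra.FiniteType.of_restrictScalars_finiteType R _ _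
  have hΨ : IsScalarTower.toAlgHom R (MvPolynomial (Fin d) R) (Localization.Away g) = Ψ := by
    ext x; rfl
  have hqf : Algebra.QuasiFiniteAt (MvPolynomial (Fin d) R) Q0.asIdeal :=
    quasiFiniteAt_of_fiber_finite p.asIdeal (by rw [hΨ]; exact hfin) Q0 hQ0p
  obtain ⟨r, hr, hqfr⟩ := exists_away_quasiFinite (P := MvPolynomial (Fin d) R) Q0.asIdeal
  have hj' : IsOpenEmbedding (PrimeSpectrum.comap
      (algebraMap (Localization.Away g) (Localization.Away r))) :=
    PrimeSpectrum.localization_away_isOpenEmbedding (Localization.Away r) r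
  have hj2 := hj.comp hj'
  refine ⟨Set.range ((PrimeSpectrum.comap (algebraMap A (Localization.Away g))) ∘
    (PrimeSpectrum.comap (algebraMap (Localization.Away g) (Localization.Away r)))), ?_,
    hj2.isOpen_range, ?_⟩
  · rintro _ ⟨z, rfl⟩
    have h1 := fibLocDim_eq_of_square hj2 (i := id) Function.injective_id
      (PrimeSpectrum.comap (algebraMap R (Localization.Away r)))
      (PrimeSpectrum.comap (algebraMap R A)) (fun z => by
        simp only [Function.comp_apply, id_eq]
        rw [← PrimeSpectrum.comap_comp_apply, ← PrimeSpectrum.comap_comp_apply]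
        congr 1) z
    change fibLocDim _ _ ≤ _
    rw [← h1]
    have hst' : IsScalarTower R (MvPolynomial (Fin d) R) (Localization.Away r) :=
      IsScalarTower.of_algebraMap_eq (R := R) (S := MvPolynomial (Fin d) R)
          (A := Localization.Away r) (fun x => by
        rw [IsScalarTower.algebraMap_apply R (Localization.Away g) (Localization.Away r) x,
          IsScalarTower.algebraMap_apply (MvPolynomial (Fin d) R) (Localization.Away g)
            (Localization.Away r),
          ← IsScalarTower.algebraMap_apply R (MvPolynomial (Fin d) R) (Localization.Away g)])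
    calc fibLocDim (PrimeSpectrum.comap (algebraMap R (Localization.Away r))) z
        ≤ topologicalKrullDim (PrimeSpectrum.comap (algebraMap R (Localization.Away r)) ⁻¹'
            {PrimeSpectrum.comap (algebraMap R (Localization.Away r)) z}) := fibLocDim_le_dim _ _
      _ = ringKrullDim ((PrimeSpectrum.comap (algebraMap R (Localization.Away r)) z).asIdeal.Fiber
            (Localization.Away r)) := topologicalKrullDim_fibre_eq _
      _ ≤ ringKrullDim ((PrimeSpectrum.comap (algebraMap R (Localization.Away r)) z).asIdeal.Fiber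
            (MvPolynomial (Fin d) R)) := ringKrullDim_fiber_le_of_quasiFinite _
      _ = d := ringKrullDim_fiber_mvPolynomial _ d
      _ ≤ n := hdn
  · have hQ0r : Q0 ∈ Set.range (PrimeSpectrum.comap
        (algebraMap (Localization.Away g) (Localization.Away r))) := by
      rw [PrimeSpectrum.localization_away_comap_range (Localization.Away r) r]
      exact hr
    obtain ⟨z, hz⟩ := hQ0r
    exact ⟨z, by simp only [Function.comp_apply]; rw [hz, hQ0]⟩

end Groth.Agent.Lib.H56LocDim
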