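/-
helper56: keystone FibDim, stage 4: dimension of a fibre as supremum of `fibreDimAt`,
finiteness of `fibreDimAt` for morphisms locally of finite type.
-/
import Mathlib
import Groth.Prelude.Def_Flat
import Groth.Agent.Lib.H56LocDimSch
import Groth.Agent.Lib.H56LocDimRing
import Groth.Agent.S5792

set_option autoImplicit false
universe u

open TopologicalSpace Topology AlgebraicGeometry CategoryTheory

namespace Groth.Agent.Lib.H56LocDim

/-- The local dimension of the fibre `f⁻¹(y)` at a point `z` lying over `x` is `fibreDimAt f x`. -/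
theorem localDim_fiber_eq {X Y : Scheme.{u}} (f : X ⟶ Y) (x : X) (y : Y) (hy : f.base x = y)
    (z : f.fiber y) (hz : f.fiberι y z = x) :
    FlatMor.localDim (f.fiber y) z = FlatMor.fibreDimAt f x := by
  subst hy
  have : z = f.asFiber x :=
    (f.fiberι _).isEmbedding.injective (by rw [hz, Scheme.Hom.fiberι_asFiber])
  subst this
  rfl

theorem localDim_fiber_eq' {X Y : Scheme.{u}} (f : X ⟶ Y) (y : Y) (z : f.fiber y) :
    FlatMor.localDim (f.fiber y) z = FlatMor.fibreDimAt f (f.fiberι y z) :=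
  localDim_fiber_eq f _ y (f.fiberHomeo y z).2 z rfl

theorem fibreDimAt_nonneg {X Y : Scheme.{u}} (f : X ⟶ Y) (x : X) :
    0 ≤ FlatMor.fibreDimAt f x :=
  Groth.Agent.Lib.TopKrullDim.localDim_nonneg _

/-- The dimension of a fibre is the supremum of the local fibre dimensions. -/
theorem dim_fiber_eq_iSup {X Y : Scheme.{u}} (f : X ⟶ Y) (y : Y) :
    topologicalKrullDim (f.fiber y) = ⨆ x : {x : X // f.base x = y}, FlatMor.fibreDimAt f x.1 := by
  rw [Groth.Agent.S5792.result (f.fiber y)]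
  apply le_antisymm
  · refine iSup_le fun z => ?_
    rw [localDim_fiber_eq']
    exact le_iSup (fun x : {x : X // f.base x = y} => FlatMor.fibreDimAt f x.1)
      ⟨f.fiberι y z, (f.fiberHomeo y z).2⟩
  · refine iSup_le fun x => ?_
    obtain ⟨x, hx⟩ := x
    let z : f.fiber y := (f.fiberHomeo y).symm ⟨x, hx⟩
    have hz : f.fiberι y z = x := f.fiberι_fiberHomeo_symm y ⟨x, hx⟩
    have := localDim_fiber_eq' f y z
    rw [hz] at this
    rw [← this]
    exact le_iSup (fun z : f.fiber y => FlatMor.localDim (f.fiber y) z) z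

theorem dim_fiber_le_iff {X Y : Scheme.{u}} (f : X ⟶ Y) (y : Y) (c : WithBot ℕ∞) :
    topologicalKrullDim (f.fiber y) ≤ c ↔ ∀ x : X, f.base x = y → FlatMor.fibreDimAt f x ≤ c := by
  rw [dim_fiber_eq_iSup, iSup_le_iff]
  exact ⟨fun h x hx => h ⟨x, hx⟩, fun h x => h x.1 x.2⟩

private lemma le_of_lt_succ' (a : WithBot ℕ∞) (m : ℕ) (h : a < ((m + 1 : ℕ) : WithBot ℕ∞)) :
    a ≤ (m : WithBot ℕ∞) := by
  induction a using WithBot.recBotCoe with
  | bot => exact bot_le
  | coe b =>
    have h1 : b < ((m + 1 : ℕ) : ℕ∞) := by exact_mod_cast h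
    have h2 : b ≤ (m : ℕ∞) := by
      have : ((m + 1 : ℕ) : ℕ∞) = (m : ℕ∞) + 1 := by push_cast; rfl
      rw [this] at h1
      exact (ENat.lt_add_one_iff (ENat.natCast_ne_top m)).mp h1
    exact_mod_cast h2

theorem lt_succ_iff_le (a : WithBot ℕ∞) (m : ℕ) :
    a < ((m + 1 : ℕ) : WithBot ℕ∞) ↔ a ≤ (m : WithBot ℕ∞) := by
  refine ⟨le_of_lt_succ' a m, fun h => lt_of_le_of_lt h ?_⟩
  exact_mod_cast Nat.lt_succ_self m

/-- `n ≤ dim f⁻¹(y)` iff some point of the fibre has local fibre dimension `≥ n`. -/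
theorem le_dim_fiber_iff {X Y : Scheme.{u}} (f : X ⟶ Y) (y : Y) (n : ℕ) :
    (n : WithBot ℕ∞) ≤ topologicalKrullDim (f.fiber y) ↔
      ∃ x : X, f.base x = y ∧ (n : WithBot ℕ∞) ≤ FlatMor.fibreDimAt f x := by
  constructor
  · intro h
    by_contra hcon
    push Not at hcon
    cases n with
    | zero =>
      have : topologicalKrullDim (f.fiber y) ≤ ⊥ := by
        rw [dim_fiber_le_iff]
        intro x hx
        exact absurd (fibreDimAt_nonneg f x) (not_le.mpr (by simpa using hcon x hx))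
      rw [le_bot_iff] at this
      rw [this] at h
      simp at h
    | succ m =>
      have : topologicalKrullDim (f.fiber y) ≤ (m : WithBot ℕ∞) := by
        rw [dim_fiber_le_iff]
        intro x hx
        exact (lt_succ_iff_le _ m).mp (hcon x hx)
      have h2 := h.trans this
      have : (m + 1 : ℕ) ≤ m := by exact_mod_cast h2
      omega
  · rintro ⟨x, hx, hn⟩
    rw [dim_fiber_eq_iSup]
    exact hn.trans (le_iSup (fun x : {x : X // f.base x = y} => FlatMor.fibreDimAt f x.1) ⟨x, hx⟩)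

/-- For a morphism locally of finite type, the local fibre dimension is bounded by a natural
number at each point. -/
theorem exists_nat_fibreDimAt_le {X S : Scheme.{u}} (f : X ⟶ S) [LocallyOfFiniteType f] (x : X) :
    ∃ n : ℕ, FlatMor.fibreDimAt f x ≤ n := by
  obtain ⟨_, ⟨V, hV, rfl⟩, hxV, -⟩ := S.isBasis_affineOpens.exists_subset_of_mem_open
    (Set.mem_univ (f.base x)) isOpen_univ
  obtain ⟨_, ⟨U, hU, rfl⟩, hxU, hUV⟩ := X.isBasis_affineOpens.exists_subset_of_mem_open
    hxV (f ⁻¹ᵁ V).2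
  have hft : (f.appLE V U hUV).hom.FiniteType := f.finiteType_appLE hV hU hUV
  let _ : Algebra Γ(S, V) Γ(X, U) := (f.appLE V U hUV).hom.toAlgebra
  have hft' : Algebra.FiniteType Γ(S, V) Γ(X, U) := hft
  have hxr : x ∈ Set.range hU.fromSpec.base := by
    rw [hU.range_fromSpec]; exact hxU
  obtain ⟨q, rfl⟩ := hxr
  have hkey : FlatMor.fibreDimAt f (hU.fromSpec.base q) =
      fibLocDim (PrimeSpectrum.comap (algebraMap Γ(S, V) Γ(X, U))) q :=
    fibreDimAt_fromSpec f hU hV hUV q
  obtain ⟨p, hp⟩ : ∃ p, p = PrimeSpectrum.comap (algebraMap Γ(S, V) Γ(X, U)) q := ⟨_, rfl⟩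
  have hnt : Nontrivial (p.asIdeal.Fiber Γ(X, U)) :=
    (PrimeSpectrum.preimageHomeomorphFiber Γ(S, V) Γ(X, U) p ⟨q, hp.symm⟩).nontrivial
  obtain ⟨d, -, hd, -⟩ := exists_algHom_fiber_finite (R := Γ(S, V)) (B := Γ(X, U)) p.asIdeal
  refine ⟨d, ?_⟩
  rw [hkey]
  refine (fibLocDim_le_dim _ _).trans ?_
  rw [← hp, topologicalKrullDim_fibre_eq, hd]

end Groth.Agent.Lib.H56LocDim
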