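import Groth.Agent.Lib.H30FlatDim
import Groth.Agent.Lib.H30LocDimTop
import Groth.Agent.Lib.H56FibDimSup
import Groth.Agent.S0402
import Groth.Agent.S2433
import Mathlib

/-!
helper30: the local fibre dimension as a transcendence degree, reduced closed subschemes,
and morphisms of schemes of finite type over a field with irreducible equidimensional fibres.
-/

set_option autoImplicit false
universe u
open CategoryTheory AlgebraicGeometry

namespace Groth.Agent.Lib.H30IrrFib

open Groth.Agent.Lib.H30DimField Groth.Agent.Lib.H30FibRes Groth.Agent.Lib.H30DimRel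
  Groth.Agent.Lib.H30FlatDim Groth.Agent.Lib.H30LocDimTop

variable {X Y : Scheme.{u}} (f : X ⟶ Y)

/-- the local fibre dimension at `x` is the transcendence degree of the residue field of a
generization of `x` in the fibre, which is maximal in the fibre -/
theorem exists_rt_eq_fibreDimAt [LocallyOfFiniteType f] (x : X) :
    ∃ w : X, f w = f x ∧ w ⤳ x ∧ (∀ w' : X, f w' = f x → w' ⤳ w → w' = w) ∧
      ((rt f w : ℕ) : WithBot ℕ∞) = FlatMor.fibreDimAt f x := by
  letI := fiberOver f (f x)
  haveI := lft_fiber f (f x)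
  haveI := isLocallyNoetherian (Y.residueField (f x)) (f.fiber (f x))
  have hδ := isDimFun (Y.residueField (f x)) (f.fiber (f x))
  obtain ⟨ξ, hξmax, hξ, hdim⟩ := stalk_dim_exists hδ (f.asFiber x)
  have hloc := localDim_eq (Y.residueField (f x)) (f.fiber (f x)) (f.asFiber x)
  have hle : td (Y.residueField (f x)) (f.fiber (f x)) (f.asFiber x) ≤
      td (Y.residueField (f x)) (f.fiber (f x)) ξ :=
    delta_mono _ (isDimensionFunction_of_isDimFun hδ) hξ
  have hnn := td_nonneg (Y.residueField (f x)) (f.fiber (f x)) (f.asFiber x)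
  have hfw : f (f.fiberι (f x) ξ) = f x := by
    have : f.fiberι (f x) ξ ∈ Set.range (f.fiberι (f x)) := ⟨ξ, rfl⟩
    rw [f.range_fiberι (f x)] at this
    exact this
  refine ⟨f.fiberι (f x) ξ, hfw, ?_, ?_, ?_⟩
  · have := hξ.map (f.fiberι (f x)).continuous
    rwa [f.fiberι_asFiber] at this
  · intro w' hw' hsp
    obtain ⟨v, hv⟩ : w' ∈ Set.range (f.fiberι (f x)) := by
      rw [f.range_fiberι]; exact hw'
    have h1 : v ⤳ ξ := by
      apply (f.fiberι (f x)).isEmbedding.isInducing.specializes_iff.mp
      rw [hv]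
      exact hsp
    rw [← hv, hξmax v h1]
  · show _ = FlatMor.localDim _ _
    rw [hloc, hdim]
    have h1 : td (Y.residueField (f x)) (f.fiber (f x)) ξ = (rt f (f.fiberι (f x) ξ) : ℤ) := by
      apply td_eq_of_trdeg_eq
      rw [trdeg_fiber_eq f (f x) ξ]
      exact trdeg_eq_rt f _
    have h2 : rt f (f.fiberι (f x) ξ) =
        (td (Y.residueField (f x)) (f.fiber (f x)) ξ -
          td (Y.residueField (f x)) (f.fiber (f x)) (f.asFiber x)).toNat +
        (td (Y.residueField (f x)) (f.fiber (f x)) (f.asFiber x)).toNat := by omega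
    rw [h2]
    push_cast
    rfl

/-- at a point without proper generizations the local fibre dimension is the transcendence
degree of the residue field extension -/
theorem fibreDimAt_of_maximal [LocallyOfFiniteType f] (x : X) (hmax : ∀ ξ : X, ξ ⤳ x → ξ = x) :
    FlatMor.fibreDimAt f x = ((rt f x : ℕ) : WithBot ℕ∞) := by
  obtain ⟨w, -, hw, -, h⟩ := exists_rt_eq_fibreDimAt f x
  rw [hmax w hw] at h
  exact h.symm

/-- lower bound for the local fibre dimension on an irreducible scheme -/
theorem rt_le_fibreDimAt [LocallyOfFiniteType f] [IrreducibleSpace X] (x : X) :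
    ((rt f (genericPoint X) : ℕ) : WithBot ℕ∞) ≤ FlatMor.fibreDimAt f x := by
  have hgen := fibreDimAt_of_maximal f (genericPoint X)
    (fun ξ hξ => (hξ.antisymm (genericPoint_specializes ξ)).eq)
  by_contra hcon
  rw [not_le] at hcon
  rcases Nat.eq_zero_or_pos (rt f (genericPoint X)) with h0 | hpos
  · rw [h0] at hcon
    exact absurd (Groth.Agent.Lib.H56LocDim.fibreDimAt_nonneg f x)
      (not_le.mpr (by simpa using hcon))
  · have h1 : FlatMor.fibreDimAt f x ≤ ((rt f (genericPoint X) - 1 : ℕ) : WithBot ℕ∞) := by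
      apply (Groth.Agent.Lib.H56LocDim.lt_succ_iff_le _ _).mp
      have : rt f (genericPoint X) - 1 + 1 = rt f (genericPoint X) := by omega
      rw [this]; exact hcon
    have h2 : genericPoint X ∈ {x : X | FlatMor.fibreDimAt f x ≤
        ((rt f (genericPoint X) - 1 : ℕ) : WithBot ℕ∞)} :=
      (genericPoint_specializes x).mem_open (Groth.Agent.S0402.result f _) h1
    have h3 : FlatMor.fibreDimAt f (genericPoint X) ≤
        ((rt f (genericPoint X) - 1 : ℕ) : WithBot ℕ∞) := h2
    rw [hgen] at h3
    have h4 : rt f (genericPoint X) ≤ rt f (genericPoint X) - 1 := by exact_mod_cast h3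
    omega


/-- a preimmersion does not change residue fields -/
theorem rt_of_isPreimmersion {Z : Scheme.{u}} (ι : Z ⟶ X) [IsPreimmersion ι]
    [LocallyOfFiniteType ι] (z : Z) : rt ι z = 0 := by
  apply rt_eq_of_trdeg_eq
  letI := (ι.residueFieldMap z).hom.toAlgebra
  have hsurj : Function.Surjective (algebraMap (X.residueField (ι z)) (Z.residueField z)) :=
    (residueFieldMap_bijective ι z).2
  haveI : Algebra.IsAlgebraic (X.residueField (ι z)) (Z.residueField z) :=
    ⟨fun a => by obtain ⟨r, rfl⟩ := hsurj a; exact isAlgebraic_algebraMap r⟩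
  simpa using _root_.trdeg_eq_zero (R := X.residueField (ι z)) (A := Z.residueField z)

theorem rt_comp_of_isPreimmersion {Z : Scheme.{u}} (ι : Z ⟶ X) [IsPreimmersion ι]
    [LocallyOfFiniteType ι] [LocallyOfFiniteType f] (z : Z) : rt (ι ≫ f) z = rt f (ι z) := by
  rw [rt_comp ι f z, rt_of_isPreimmersion ι z, add_zero]


section Main

variable (k : Type u) [Field k] (X Y : Scheme.{u}) [X.Over (Spec (CommRingCat.of k))]
  [Y.Over (Spec (CommRingCat.of k))] [LocallyOfFiniteType (X ↘ (Spec (CommRingCat.of k)))]
  [LocallyOfFiniteType (Y ↘ (Spec (CommRingCat.of k)))]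
  (f : X ⟶ Y) (hf : f ≫ (Y ↘ (Spec (CommRingCat.of k))) = X ↘ (Spec (CommRingCat.of k)))

include hf in
theorem isClosed_map_point (c : X) (hc : IsClosed ({c} : Set X)) : IsClosed ({f c} : Set Y) := by
  haveI := lft_of_over k X Y f hf
  haveI := jacobsonSpace k Y
  exact mem_closedPoints_iff.mp
    (f.closePoints_subset_preimage_closedPoints (mem_closedPoints_iff.mpr hc))

variable (d : ℕ)
  (hirr : ∀ y : Y, IsClosed ({y} : Set Y) → IsIrreducible (f.base ⁻¹' {y}))
  (hdim : ∀ y : Y, IsClosed ({y} : Set Y) → topologicalKrullDim ↥(f.base ⁻¹' {y}) = d)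

include hf hirr hdim in
/-- the generic point of the fibre over a closed point -/
theorem fib_gen (y : Y) (hy : IsClosed ({y} : Set Y)) :
    ∃ φ : X, f φ = y ∧ closure {φ} = f.base ⁻¹' {y} ∧ td k X φ = d ∧
      (haveI := lft_of_over k X Y f hf; rt f φ = d) := by
  haveI := lft_of_over k X Y f hf
  haveI := jacobsonSpace k X
  have hcl : IsClosed (f.base ⁻¹' {y}) := hy.preimage f.continuous
  obtain ⟨φ, hφ⟩ := QuasiSober.sober (hirr y hy) hcl
  have hφeq : closure {φ} = f.base ⁻¹' {y} := hφ.def
  have hφy : f φ = y := by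
    have : φ ∈ f.base ⁻¹' {y} := by rw [← hφeq]; exact subset_closure rfl
    exact this
  have h1 := krullDim_closure (td k X) (isDimensionFunction_of_isDimFun (isDimFun k X))
    (td_eq_zero_of_isClosed k X) φ
  rw [hφeq, hdim y hy] at h1
  have h2 : (td k X φ).toNat = d := by exact_mod_cast h1.symm
  have h3 := td_nonneg k X φ
  have h4 := td_eq_add k X Y f hf φ
  have h5 : td k Y (f φ) = 0 := td_eq_zero_of_isClosed k Y (f φ) (hφy ▸ hy)
  refine ⟨φ, hφy, hφeq, by omega, by omega⟩

include hf hirr hdim in
theorem rt_le_of_mem_fib (y : Y) (hy : IsClosed ({y} : Set Y)) (w : X) (hw : f w = y) :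
    haveI := lft_of_over k X Y f hf
    rt f w ≤ d := by
  haveI := lft_of_over k X Y f hf
  obtain ⟨φ, hφy, hφeq, htd, -⟩ := fib_gen k X Y f hf d hirr hdim y hy
  have hsp : φ ⤳ w := by
    rw [specializes_iff_mem_closure, hφeq]; exact hw
  have h1 := delta_mono (td k X) (isDimensionFunction_of_isDimFun (isDimFun k X)) hsp
  have h4 := td_eq_add k X Y f hf w
  have h5 : td k Y (f w) = 0 := td_eq_zero_of_isClosed k Y (f w) (hw ▸ hy)
  omega

include hf in
theorem eq_fib_gen (y : Y) (hy : IsClosed ({y} : Set Y)) (φ : X)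
    (hφeq : closure {φ} = f.base ⁻¹' {y}) (htd : td k X φ = d) (w : X) (hw : f w = y)
    (hrt : haveI := lft_of_over k X Y f hf; d ≤ rt f w) : w = φ := by
  haveI := lft_of_over k X Y f hf
  have hsp : φ ⤳ w := by
    rw [specializes_iff_mem_closure, hφeq]; exact hw
  by_contra hne
  have h1 := (isDimensionFunction_of_isDimFun (isDimFun k X)).1 φ w hsp (fun h => hne h.symm)
  have h4 := td_eq_add k X Y f hf w
  have h5 : td k Y (f w) = 0 := td_eq_zero_of_isClosed k Y (f w) (hw ▸ hy)
  omega

include hf hirr hdim in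
/-- the relative transcendence degree at the generic point of an irreducible component -/
theorem rt_gen_eq [IsNoetherian X] (T : Set X) (hT : T ∈ irreducibleComponents X) (η : X)
    (hη : closure {η} = T) :
    haveI := lft_of_over k X Y f hf
    rt f η = d := by
  haveI := lft_of_over k X Y f hf
  have hηmax : ∀ ξ : X, ξ ⤳ η → ξ = η :=
    (closure_mem_irreducibleComponents_iff η).mp (hη ▸ hT)
  apply le_antisymm
  · -- via the component as a scheme
    let ι := X.irreducibleComponentι T hT
    letI : (X.irreducibleComponent T hT).Over (Spec (CommRingCat.of k)) :=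
      ⟨ι ≫ (X ↘ (Spec (CommRingCat.of k)))⟩
    haveI : LocallyOfFiniteType (X.irreducibleComponent T hT ↘ (Spec (CommRingCat.of k))) :=
      inferInstanceAs (LocallyOfFiniteType (ι ≫ (X ↘ (Spec (CommRingCat.of k)))))
    set η' := genericPoint (X.irreducibleComponent T hT) with hη'
    have hιη : ι η' = η := by
      have h1 : IsGenericPoint (ι η') T := by
        have h2 := (genericPoint_spec (X.irreducibleComponent T hT)).image ι.continuous
        rw [Set.image_univ] at h2
        have h3 : Set.range ι = T := by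
          ext x
          constructor
          · rintro ⟨z, rfl⟩
            exact z.2
          · intro hx
            exact ⟨⟨x, hx⟩, rfl⟩
        rw [h3, (isClosed_of_mem_irreducibleComponents T hT).closure_eq] at h2
        exact h2
      exact h1.eq hη
    obtain ⟨c', -, -, hc'⟩ := exists_closed_point k (X.irreducibleComponent T hT) η' Set.univ
      isOpen_univ trivial
    have hy : IsClosed ({(ι ≫ f) c'} : Set Y) := by
      haveI := jacobsonSpace k Y
      exact mem_closedPoints_iff.mp
        ((ι ≫ f).closePoints_subset_preimage_closedPoints (mem_closedPoints_iff.mpr hc'))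
    have h1 := rt_le_fibreDimAt (ι ≫ f) c'
    obtain ⟨w', hw'y, -, -, hw'⟩ := exists_rt_eq_fibreDimAt (ι ≫ f) c'
    rw [← hw', rt_comp_of_isPreimmersion f ι, rt_comp_of_isPreimmersion f ι, hιη] at h1
    have h2 : rt f η ≤ rt f (ι w') := by exact_mod_cast h1
    exact h2.trans (rt_le_of_mem_fib k X Y f hf d hirr hdim _ hy (ι w') hw'y)
  · have hV : IsOpen {x : X | FlatMor.fibreDimAt f x ≤ ((rt f η : ℕ) : WithBot ℕ∞)} :=
      Groth.Agent.S0402.result f _
    have hηV : η ∈ {x : X | FlatMor.fibreDimAt f x ≤ ((rt f η : ℕ) : WithBot ℕ∞)} :=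
      le_of_eq (fibreDimAt_of_maximal f η hηmax)
    obtain ⟨c, hcV, -, hc⟩ := exists_closed_point k X η _ hV hηV
    have hy := isClosed_map_point k X Y f hf c hc
    obtain ⟨φ, hφy, hφeq, htd, hrt⟩ := fib_gen k X Y f hf d hirr hdim (f c) hy
    obtain ⟨w, hwy, -, hwmax, hw⟩ := exists_rt_eq_fibreDimAt f c
    have hsp : φ ⤳ w := by
      rw [specializes_iff_mem_closure, hφeq]; exact hwy
    have hφw : φ = w := hwmax φ hφy hsp
    have h1 : ((rt f w : ℕ) : WithBot ℕ∞) ≤ ((rt f η : ℕ) : WithBot ℕ∞) := hw ▸ hcV
    have h2 : rt f w ≤ rt f η := by exact_mod_cast h1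
    rw [← hφw, hrt] at h2
    exact h2

include hf hirr hdim in
/-- an irreducible component meeting a closed fibre contains it -/
theorem fibre_subset [IsNoetherian X] (T : Set X) (hT : T ∈ irreducibleComponents X)
    (y : Y) (hy : IsClosed ({y} : Set Y)) (hne : (f.base ⁻¹' {y} ∩ T).Nonempty) :
    f.base ⁻¹' {y} ⊆ T := by
  haveI := lft_of_over k X Y f hf
  obtain ⟨η, hη⟩ : ∃ η, IsGenericPoint η T :=
    QuasiSober.sober hT.1 (isClosed_of_mem_irreducibleComponents T hT)
  have hηeq : closure {η} = T := hη.def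
  have he := rt_gen_eq k X Y f hf d hirr hdim T hT η hηeq
  obtain ⟨x, hxy, hxT⟩ := hne
  let ι := X.irreducibleComponentι T hT
  set η' := genericPoint (X.irreducibleComponent T hT) with hη'
  have hιη : ι η' = η := by
    have h1 : IsGenericPoint (ι η') T := by
      have h2 := (genericPoint_spec (X.irreducibleComponent T hT)).image ι.continuous
      rw [Set.image_univ] at h2
      have h3 : Set.range ι = T := by
        ext x
        constructor
        · rintro ⟨z, rfl⟩
          exact z.2
        · intro hx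
          exact ⟨⟨x, hx⟩, rfl⟩
      rw [h3, (isClosed_of_mem_irreducibleComponents T hT).closure_eq] at h2
      exact h2
    exact h1.eq hη
  let x' : X.irreducibleComponent T hT := ⟨x, hxT⟩
  have hx' : ι x' = x := rfl
  have h1 := rt_le_fibreDimAt (ι ≫ f) x'
  obtain ⟨w', hw'y, -, -, hw'⟩ := exists_rt_eq_fibreDimAt (ι ≫ f) x'
  rw [← hw', rt_comp_of_isPreimmersion f ι, rt_comp_of_isPreimmersion f ι, hιη, he] at h1
  have h2 : d ≤ rt f (ι w') := by exact_mod_cast h1
  obtain ⟨φ, hφy, hφeq, htd, -⟩ := fib_gen k X Y f hf d hirr hdim y hy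
  have hwy : f (ι w') = y := by
    have : (ι ≫ f) w' = (ι ≫ f) x' := hw'y
    rw [← hxy]
    exact this
  have h3 := eq_fib_gen k X Y f hf d y hy φ hφeq htd (ι w') hwy h2
  have hφT : φ ∈ T := by
    rw [← h3]
    exact w'.2
  rw [← hφeq]
  exact (IsClosed.closure_subset_iff (isClosed_of_mem_irreducibleComponents T hT)).mpr
    (Set.singleton_subset_iff.mpr hφT)

include hf hirr hdim in
/-- the dimension of an irreducible component -/
theorem dim_component [IsNoetherian X] (T : Set X) (hT : T ∈ irreducibleComponents X) :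
    topologicalKrullDim ↥T = (d : WithBot ℕ∞) + topologicalKrullDim ↥(closure (f.base '' T)) := by
  haveI := lft_of_over k X Y f hf
  haveI := jacobsonSpace k X
  haveI := jacobsonSpace k Y
  obtain ⟨η, hη⟩ : ∃ η, IsGenericPoint η T :=
    QuasiSober.sober hT.1 (isClosed_of_mem_irreducibleComponents T hT)
  have hηeq : closure {η} = T := hη.def
  have he := rt_gen_eq k X Y f hf d hirr hdim T hT η hηeq
  have hcl : closure (f.base '' T) = closure ({f.base η} : Set Y) := by
    apply subset_antisymm
    · apply closure_minimal _ isClosed_closure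
      rintro _ ⟨x, hx, rfl⟩
      have h1 : η ⤳ x := by rw [specializes_iff_mem_closure, hηeq]; exact hx
      exact (h1.map f.continuous).mem_closed isClosed_closure (subset_closure rfl)
    · exact closure_mono (Set.singleton_subset_iff.mpr ⟨η, hηeq ▸ subset_closure rfl, rfl⟩)
  rw [hcl, ← hηeq,
    krullDim_closure (td k X) (isDimensionFunction_of_isDimFun (isDimFun k X))
      (td_eq_zero_of_isClosed k X) η,
    krullDim_closure (td k Y) (isDimensionFunction_of_isDimFun (isDimFun k Y))
      (td_eq_zero_of_isClosed k Y) (f.base η)]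
  have h4 := td_eq_add k X Y f hf η
  have h5 := td_nonneg k Y (f η)
  have h6 : (td k X η).toNat = d + (td k Y (f.base η)).toNat := by
    have : td k Y (f η) = td k Y (f.base η) := rfl
    omega
  rw [h6]
  push_cast
  rfl

omit [X.Over (Spec (CommRingCat.of k))] [Y.Over (Spec (CommRingCat.of k))]
  [LocallyOfFiniteType (X ↘ (Spec (CommRingCat.of k)))]
  [LocallyOfFiniteType (Y ↘ (Spec (CommRingCat.of k)))] in
/-- Chevalley: the image of a closed subset containing a point over the generic point contains
an open neighbourhood of the generic point -/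
theorem exists_open_subset_image [IsNoetherian X] [IsNoetherian Y] [IrreducibleSpace Y]
    [LocallyOfFiniteType f] (s : Set X) (hs : IsClosed s) (hξ : genericPoint Y ∈ f.base '' s) :
    ∃ U : Set Y, IsOpen U ∧ genericPoint Y ∈ U ∧ U ⊆ f.base '' s := by
  haveI : LocallyOfFinitePresentation f :=
    LocallyOfFinitePresentation.iff_locallyOfFiniteType.mpr inferInstance
  have hcs : Topology.IsConstructible s := by
    rw [← Topology.isConstructible_compl]
    apply IsRetrocompact.isConstructible hs.isOpen_compl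
    intro V _ _
    exact TopologicalSpace.NoetherianSpace.isCompact _
  have hc : Topology.IsConstructible (f.base '' s) := f.isConstructible_image hcs
  obtain ⟨U, hU, hξU, hUs⟩ :=
    (Groth.Agent.S2433.constructible_generic hc (genericPoint_spec Y)).1 hξ
  exact ⟨U, hU, hξU, fun y hy => hUs ⟨hy, trivial⟩⟩

include hf hirr hdim in
/-- exactly one irreducible component dominates `Y` -/
theorem existsUnique_dominating [IsNoetherian X] [IsNoetherian Y] [IrreducibleSpace Y] :
    ∃! Z : Set X, Z ∈ irreducibleComponents X ∧ Dense (f.base '' Z) := by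
  haveI := lft_of_over k X Y f hf
  haveI := jacobsonSpace k X
  haveI := jacobsonSpace k Y
  haveI : LocallyOfFinitePresentation f :=
    LocallyOfFinitePresentation.iff_locallyOfFiniteType.mpr inferInstance
  -- the generic point of `Y` is in the image
  have hξ : genericPoint Y ∈ Set.range f.base := by
    by_contra hcon
    have hc : Topology.IsConstructible (Set.range f.base) := by
      rw [← Set.image_univ]
      exact f.isConstructible_image Topology.IsConstructible.univ
    obtain ⟨U, hU, hξU, hUs⟩ :=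
      (Groth.Agent.S2433.constructible_generic hc (genericPoint_spec Y)).2 hcon
    obtain ⟨y, hyU, -, hy⟩ := exists_closed_point k Y (genericPoint Y) U hU hξU
    obtain ⟨x, hx⟩ := (hirr y hy).nonempty
    exact hUs ⟨hyU, trivial⟩ ⟨x, hx⟩
  obtain ⟨x₀, hx₀⟩ := hξ
  -- generic points of components
  have hgenpt : ∀ T ∈ irreducibleComponents X, ∃ η : X, closure {η} = T := by
    intro T hT
    obtain ⟨η, hη⟩ : ∃ η, IsGenericPoint η T :=
      QuasiSober.sober hT.1 (isClosed_of_mem_irreducibleComponents T hT)
    exact ⟨η, hη.def⟩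
  have hdense_iff : ∀ T ∈ irreducibleComponents X, ∀ η : X, closure {η} = T →
      (Dense (f.base '' T) ↔ f.base η = genericPoint Y) := by
    intro T hT η hη
    have hcl : closure (f.base '' T) = closure ({f.base η} : Set Y) := by
      apply subset_antisymm
      · apply closure_minimal _ isClosed_closure
        rintro _ ⟨x, hx, rfl⟩
        have h1 : η ⤳ x := by rw [specializes_iff_mem_closure, hη]; exact hx
        exact (h1.map f.continuous).mem_closed isClosed_closure (subset_closure rfl)
      · exact closure_mono (Set.singleton_subset_iff.mpr ⟨η, hη ▸ subset_closure rfl, rfl⟩)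
    rw [dense_iff_closure_eq, hcl]
    constructor
    · intro h
      have h1 : IsGenericPoint (f.base η) (Set.univ : Set Y) := h
      exact h1.eq (genericPoint_spec Y)
    · intro h
      rw [h]
      exact (genericPoint_spec Y).def
  -- existence
  have hT₀ := irreducibleComponent_mem_irreducibleComponents x₀
  obtain ⟨η₀, hη₀⟩ := hgenpt _ hT₀
  have hη₀ξ : f.base η₀ = genericPoint Y := by
    have h1 : η₀ ⤳ x₀ := by
      rw [specializes_iff_mem_closure, hη₀]; exact mem_irreducibleComponent
    have h2 : f.base η₀ ⤳ genericPoint Y := hx₀ ▸ h1.map f.continuous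
    exact (h2.antisymm (genericPoint_specializes _)).eq
  refine ⟨irreducibleComponent x₀, ⟨hT₀, (hdense_iff _ hT₀ η₀ hη₀).mpr hη₀ξ⟩, ?_⟩
  -- uniqueness
  rintro T ⟨hT, hTd⟩
  obtain ⟨η, hη⟩ := hgenpt T hT
  have hηξ := (hdense_iff T hT η hη).mp hTd
  obtain ⟨U₁, hU₁, hξU₁, hU₁s⟩ := exists_open_subset_image X Y f T
    (isClosed_of_mem_irreducibleComponents T hT) ⟨η, hη ▸ subset_closure rfl, hηξ⟩
  obtain ⟨U₂, hU₂, hξU₂, hU₂s⟩ := exists_open_subset_image X Y f (irreducibleComponent x₀)
    (isClosed_of_mem_irreducibleComponents _ hT₀) ⟨η₀, hη₀ ▸ subset_closure rfl, hη₀ξ⟩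
  -- `η ∈ irreducibleComponent x₀`
  have hmem : η ∈ irreducibleComponent x₀ := by
    by_contra hcon
    have hG : IsOpen (f.base ⁻¹' (U₁ ∩ U₂) ∩ (irreducibleComponent x₀)ᶜ) :=
      ((hU₁.inter hU₂).preimage f.continuous).inter
        (isClosed_of_mem_irreducibleComponents _ hT₀).isOpen_compl
    have hηG : η ∈ f.base ⁻¹' (U₁ ∩ U₂) ∩ (irreducibleComponent x₀)ᶜ :=
      ⟨by show f.base η ∈ U₁ ∩ U₂; rw [hηξ]; exact ⟨hξU₁, hξU₂⟩, hcon⟩
    obtain ⟨c, hcG, -, hc⟩ := exists_closed_point k X η _ hG hηG
    have hy := isClosed_map_point k X Y f hf c hc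
    obtain ⟨x₂, hx₂T, hx₂⟩ := hU₂s hcG.1.2
    have hsub := fibre_subset k X Y f hf d hirr hdim _ hT₀ (f.base c) hy ⟨x₂, hx₂, hx₂T⟩
    exact hcG.2 (hsub rfl)
  have hsub : T ⊆ irreducibleComponent x₀ := by
    rw [← hη]
    exact (IsClosed.closure_subset_iff (isClosed_of_mem_irreducibleComponents _ hT₀)).mpr
      (Set.singleton_subset_iff.mpr hmem)
  exact subset_antisymm hsub (hT.2 hT₀.1 hsub)

end Main

end Groth.Agent.Lib.H30IrrFib
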