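import Mathlib
import Groth.Agent.Lib.TopKrullDim

/-!
Topological layer for "dimension of the fibres": `fibDim f y` is the Krull dimension of the
topological fibre `f⁻¹{y}`.
-/

namespace Groth.Agent.Lib.H77FibDim

open Topology Set Groth.Agent.Lib.TopKrullDim

variable {X Y : Type*} [TopologicalSpace X]

/-- The Krull dimension of the topological fibre `f⁻¹{y}`. -/
noncomputable def fibDim (f : X → Y) (y : Y) : WithBot ℕ∞ :=
  topologicalKrullDim (f ⁻¹' {y} : Set X)

/-- Two spaces inducing the same subset of `X` have the same dimension. -/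
theorem dim_eq_of_range_eq {A B : Type*} [TopologicalSpace A] [TopologicalSpace B]
    (a : A → X) (b : B → X) (ha : IsInducing a) (hb : IsInducing b)
    (h : range a = range b) : topologicalKrullDim A = topologicalKrullDim B :=
  le_antisymm (dim_le_of_range_subset a b ha hb h.le) (dim_le_of_range_subset b a hb ha h.ge)

/-- Dimension of a space identified with the fibre. -/
theorem dim_eq_fibDim {F : Type*} [TopologicalSpace F] (f : X → Y) (y : Y) (ι : F → X)
    (hι : IsInducing ι) (hr : range ι = f ⁻¹' {y}) :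
    topologicalKrullDim F = fibDim f y := by
  unfold fibDim
  refine dim_eq_of_range_eq ι (Subtype.val : (f ⁻¹' {y} : Set X) → X) hι IsInducing.subtypeVal ?_
  rw [hr, Subtype.range_coe]

/-- Transport of `fibDim` along a "cartesian" square of inducing maps. -/
theorem fibDim_eq_of_isInducing {X' Y' : Type*} [TopologicalSpace X']
    (f' : X' → Y') (f : X → Y) (hX : X' → X) (hY : Y' → Y) (hind : IsInducing hX)
    (hcomm : ∀ x', f (hX x') = hY (f' x')) (hYinj : Function.Injective hY)
    (hrange : f ⁻¹' (range hY) ⊆ range hX) (y' : Y') :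
    fibDim f' y' = fibDim f (hY y') := by
  refine dim_eq_fibDim f (hY y') (hX ∘ (Subtype.val : (f' ⁻¹' {y'} : Set X') → X'))
    (hind.comp IsInducing.subtypeVal) ?_
  rw [range_comp, Subtype.range_coe]
  apply Subset.antisymm
  · rintro _ ⟨x', hx', rfl⟩
    rw [mem_preimage, mem_singleton_iff, hcomm, mem_singleton_iff.mp hx']
  · intro x hx
    have hx1 : x ∈ range hX := hrange (by
      rw [mem_preimage, mem_singleton_iff.mp hx]
      exact mem_range_self y')
    obtain ⟨x', rfl⟩ := hx1
    exact ⟨x', hYinj ((hcomm x').symm.trans hx), rfl⟩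

/-- Dimension is the supremum over an open cover. -/
theorem dim_eq_iSup_of_isOpen_cover {F : Type*} [TopologicalSpace F] {ι : Type*} (V : ι → Set F)
    (hV : ∀ i, IsOpen (V i)) (hcov : ∀ x, ∃ i, x ∈ V i) :
    topologicalKrullDim F = ⨆ i, topologicalKrullDim (V i) := by
  apply le_antisymm
  · unfold topologicalKrullDim Order.krullDim
    refine iSup_le fun p => ?_
    obtain ⟨x, hx⟩ := p.head.isIrreducible.nonempty
    obtain ⟨i, hi⟩ := hcov x
    exact (length_le_dim_of_head_meets_open p (V i) (hV i) x hx hi).trans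
      (le_iSup (fun i => topologicalKrullDim (V i)) i)
  · exact iSup_le fun i => topologicalKrullDim_subspace_le F (V i)

/-- `fibDim` is the supremum over an open cover of the source. -/
theorem fibDim_eq_iSup_of_cover {ι : Type*} {U : ι → Type*} [∀ i, TopologicalSpace (U i)]
    (u : ∀ i, U i → X) (hu : ∀ i, IsOpenEmbedding (u i)) (hcov : ∀ x, ∃ i, x ∈ range (u i))
    (f : X → Y) (y : Y) : fibDim f y = ⨆ i, fibDim (f ∘ u i) y := by
  let F := (f ⁻¹' {y} : Set X)
  let V : ι → Set F := fun i => Subtype.val ⁻¹' (range (u i))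
  have h1 : topologicalKrullDim F = ⨆ i, topologicalKrullDim (V i) :=
    dim_eq_iSup_of_isOpen_cover V (fun i => (hu i).isOpen_range.preimage continuous_subtype_val)
      (fun x => hcov x.1)
  unfold fibDim
  rw [h1]
  congr 1
  funext i
  refine dim_eq_of_range_eq
    ((Subtype.val : F → X) ∘ (Subtype.val : V i → F))
    (u i ∘ (Subtype.val : ((f ∘ u i) ⁻¹' {y} : Set (U i)) → U i))
    (IsInducing.subtypeVal.comp IsInducing.subtypeVal)
    ((hu i).isInducing.comp IsInducing.subtypeVal) ?_
  rw [range_comp, range_comp, Subtype.range_coe, Subtype.range_coe]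
  apply Subset.antisymm
  · rintro _ ⟨x, ⟨t, ht⟩, rfl⟩
    have hxy : f x.1 = y := x.2
    refine ⟨t, ?_, ht⟩
    rw [mem_preimage, Function.comp_apply, ht]
    exact hxy
  · rintro _ ⟨t, ht, rfl⟩
    exact ⟨⟨u i t, ht⟩, ⟨t, rfl⟩, rfl⟩

end Groth.Agent.Lib.H77FibDim
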