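import Groth.Agent.Lib.H77GenFP
import Mathlib.RingTheory.LocalRing.ResidueField.Ideal
import Mathlib.RingTheory.Localization.BaseChange
import Mathlib.LinearAlgebra.TensorProduct.Quotient
import Mathlib.Algebra.Exact.Basic
import Mathlib.Algebra.Module.Torsion.Basic

/-!
# Fibrewise exactness near the generic point (EGA IV 9.4.2, affine form) (helper77)

Elementwise tools on `κ(p) ⊗[R] M` and the main theorem `exists_forall_fibre_exact`.
-/

namespace Groth.Agent.Lib.H77FibreExact

open TensorProduct Function Groth.Agent.Lib.H77GenFree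

section Fibre

variable {R : Type*} [CommRing R] (p : Ideal R) [p.IsPrime]
  {M : Type*} [AddCommGroup M] [Module R M]

omit [p.IsPrime] in
lemma algebraMap_tmul {κ : Type*} [CommRing κ] [Algebra R κ] (a : R) (m : M) :
    (algebraMap R κ a) ⊗ₜ[R] m = (1 : κ) ⊗ₜ[R] (a • m) := by
  rw [← TensorProduct.smul_tmul, Algebra.smul_def, mul_one]

omit [p.IsPrime] in
lemma algebraMap_smul_one_tmul {κ : Type*} [CommRing κ] [Algebra R κ] (a : R) (m : M) :
    (algebraMap R κ a) • ((1 : κ) ⊗ₜ[R] m) = (1 : κ) ⊗ₜ[R] (a • m) := by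
  rw [TensorProduct.smul_tmul', smul_eq_mul, mul_one, algebraMap_tmul]

/-- Every element of `κ(p) ⊗ M` is, up to a unit coming from `R ∖ p`, of the form `1 ⊗ x`. -/
lemma exists_smul_eq_one_tmul (z : p.ResidueField ⊗[R] M) :
    ∃ s : R, s ∉ p ∧ ∃ x : M, algebraMap R p.ResidueField s • z = (1 : p.ResidueField) ⊗ₜ[R] x := by
  induction z with
  | zero => exact ⟨1, fun h => ‹p.IsPrime›.ne_top ((Ideal.eq_top_iff_one p).mpr h), 0, by simp⟩
  | tmul c m =>
    obtain ⟨⟨a', ⟨s', hs'⟩⟩, hc⟩ := IsLocalization.surj (nonZeroDivisors (R ⧸ p)) c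
    obtain ⟨a, rfl⟩ := Ideal.Quotient.mk_surjective a'
    obtain ⟨s, rfl⟩ := Ideal.Quotient.mk_surjective s'
    have hs : s ∉ p := by
      intro h
      exact nonZeroDivisors.ne_zero hs' (Ideal.Quotient.eq_zero_iff_mem.mpr h)
    refine ⟨s, hs, a • m, ?_⟩
    simp only [Ideal.algebraMap_quotient_residueField_mk] at hc
    rw [TensorProduct.smul_tmul', smul_eq_mul, mul_comm, hc, algebraMap_tmul]
  | add z₁ z₂ h₁ h₂ =>
    obtain ⟨s₁, hs₁, x₁, e₁⟩ := h₁
    obtain ⟨s₂, hs₂, x₂, e₂⟩ := h₂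
    refine ⟨s₁ * s₂, fun h => (‹p.IsPrime›.mem_or_mem h).elim hs₁ hs₂, s₂ • x₁ + s₁ • x₂, ?_⟩
    have h1 : algebraMap R p.ResidueField (s₁ * s₂) • z₁ =
        (1 : p.ResidueField) ⊗ₜ[R] (s₂ • x₁) := by
      rw [map_mul, mul_comm, mul_smul, e₁, algebraMap_smul_one_tmul]
    have h2 : algebraMap R p.ResidueField (s₁ * s₂) • z₂ =
        (1 : p.ResidueField) ⊗ₜ[R] (s₁ • x₂) := by
      rw [map_mul, mul_smul, e₂, algebraMap_smul_one_tmul]
    rw [smul_add, h1, h2, TensorProduct.tmul_add]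

/-- If `1 ⊗ h = 0` in `κ(p) ⊗ H` then `t • h ∈ p H` for some `t ∉ p`. -/
lemma exists_smul_mem_of_one_tmul_eq_zero (h : M)
    (h0 : (1 : p.ResidueField) ⊗ₜ[R] h = 0) :
    ∃ t : R, t ∉ p ∧ t • h ∈ p • (⊤ : Submodule R M) := by
  let N := M ⧸ (p • (⊤ : Submodule R M))
  let ψ : p.ResidueField ⊗[R] M →ₗ[R] p.ResidueField ⊗[R ⧸ p] N :=
    TensorProduct.lift (LinearMap.mk₂ R
      (fun c x => c ⊗ₜ[R ⧸ p] (Submodule.mkQ (p • (⊤ : Submodule R M)) x))
      (fun c₁ c₂ x => TensorProduct.add_tmul _ _ _)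
      (fun r c x => by rw [TensorProduct.smul_tmul'])
      (fun c x₁ x₂ => by rw [map_add, TensorProduct.tmul_add])
      (fun r c x => by rw [map_smul, TensorProduct.tmul_smul]))
  have h1 : ψ ((1 : p.ResidueField) ⊗ₜ[R] h) =
      TensorProduct.mk (R ⧸ p) p.ResidueField N 1 (Submodule.mkQ _ h) := by
    simp [ψ]
  rw [h0, map_zero] at h1
  obtain ⟨⟨s', hs'⟩, hs⟩ := (IsLocalizedModule.eq_zero_iff (nonZeroDivisors (R ⧸ p))
    (TensorProduct.mk (R ⧸ p) p.ResidueField N 1)).mp h1.symm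
  obtain ⟨s, rfl⟩ := Ideal.Quotient.mk_surjective s'
  refine ⟨s, fun hsp => nonZeroDivisors.ne_zero hs' (Ideal.Quotient.eq_zero_iff_mem.mpr hsp), ?_⟩
  have h2 : Submodule.mkQ (p • (⊤ : Submodule R M)) (s • h) = 0 := by
    rw [map_smul]
    exact hs
  exact (Submodule.Quotient.mk_eq_zero _).mp h2

end Fibre

section Generic

variable {R : Type*} [CommRing R] [IsDomain R] {M : Type*} [AddCommGroup M] [Module R M]

/-- If `1 ⊗ x = 0` in `Frac(R) ⊗ M` then `x` is torsion. -/
lemma exists_smul_eq_zero_of_one_tmul_eq_zero (x : M)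
    (h0 : (1 : FractionRing R) ⊗ₜ[R] x = 0) : ∃ r : R, r ≠ 0 ∧ r • x = 0 := by
  have h1 : TensorProduct.mk R (FractionRing R) M 1 x = 0 := h0
  obtain ⟨⟨r, hr⟩, hrx⟩ := (IsLocalizedModule.eq_zero_iff (nonZeroDivisors R)
    (TensorProduct.mk R (FractionRing R) M 1)).mp h1
  exact ⟨r, nonZeroDivisors.ne_zero hr, hrx⟩

/-- Every element of `Frac(R) ⊗ M` is, up to a nonzero scalar, of the form `1 ⊗ x`. -/
lemma exists_smul_eq_one_tmul_fractionRing (z : FractionRing R ⊗[R] M) :
    ∃ s : R, s ≠ 0 ∧ ∃ x : M, s • z = (1 : FractionRing R) ⊗ₜ[R] x := by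
  obtain ⟨⟨x, ⟨s, hs⟩⟩, hx⟩ := IsLocalizedModule.surj (nonZeroDivisors R)
    (TensorProduct.mk R (FractionRing R) M 1) z
  exact ⟨s, nonZeroDivisors.ne_zero hs, x, hx⟩

end Generic

section Main

universe u

variable {R B : Type u} [CommRing R] [IsDomain R] [CommRing B] [Algebra R B]
  [Algebra.FiniteType R B]
  {F G H : Type u} [AddCommGroup F] [Module B F] [Module R F] [IsScalarTower R B F]
  [AddCommGroup G] [Module B G] [Module R G] [IsScalarTower R B G] [Module.Finite B G]
  [AddCommGroup H] [Module B H] [Module R H] [IsScalarTower R B H] [Module.Finite B H]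

omit [IsDomain R] [Algebra.FiniteType R B] [Module.Finite B G] in
/-- elements of `p M` die in `κ(p) ⊗ M`. -/
lemma one_tmul_eq_zero_of_mem (p : Ideal R) [p.IsPrime] {x : G}
    (hx : x ∈ p • (⊤ : Submodule R G)) : (1 : p.ResidueField) ⊗ₜ[R] x = 0 := by
  refine Submodule.smul_induction_on hx (fun a ha n _ => ?_) (fun x y hx hy => ?_)
  · rw [← algebraMap_tmul, Ideal.algebraMap_residueField_eq_zero.mpr ha, TensorProduct.zero_tmul]
  · rw [TensorProduct.tmul_add, hx, hy, add_zero]

/-- **Fibrewise exactness near the generic point** (EGA IV 9.4.2, affine form). -/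
theorem exists_forall_fibre_exact (u : F →ₗ[B] G) (v : G →ₗ[B] H)
    (hgen : Function.Exact ((u.restrictScalars R).baseChange (FractionRing R))
      ((v.restrictScalars R).baseChange (FractionRing R))) :
    ∃ f : R, f ≠ 0 ∧ ∀ p : PrimeSpectrum R, f ∉ p.asIdeal →
      Function.Exact ((u.restrictScalars R).baseChange p.asIdeal.ResidueField)
        ((v.restrictScalars R).baseChange p.asIdeal.ResidueField) := by
  classical
  obtain ⟨f₁, hf₁, s₁, hH⟩ := genFree_of_finiteType (R := R) B H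
  obtain ⟨f₂, hf₂, s₂, hC⟩ := genFree_of_finiteType (R := R) B (G ⧸ LinearMap.range u)
  obtain ⟨f₃, hf₃, s₃, hQ⟩ := genFree_of_finiteType (R := R) B (H ⧸ LinearMap.range v)
  obtain ⟨f, hfdef⟩ : ∃ f : R, f = f₁ * f₂ * f₃ := ⟨_, rfl⟩
  have hf : f ≠ 0 := by rw [hfdef]; exact mul_ne_zero (mul_ne_zero hf₁ hf₂) hf₃
  have hH' : IsGenBasis R H f (fun x : s₁ => (x : H)) := by
    rw [hfdef]; exact (hH.mul_right hf₂).mul_right hf₃
  have hC' : IsGenBasis R (G ⧸ LinearMap.range u) f
      (fun x : s₂ => (x : G ⧸ LinearMap.range u)) := by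
    have e : f = f₂ * (f₁ * f₃) := by rw [hfdef]; ring
    rw [e]; exact hC.mul_right (mul_ne_zero hf₁ hf₃)
  have hQ' : IsGenBasis R (H ⧸ LinearMap.range v) f
      (fun x : s₃ => (x : H ⧸ LinearMap.range v)) := by
    have e : f = f₃ * (f₁ * f₂) := by rw [hfdef]; ring
    rw [e]; exact hQ.mul_right (mul_ne_zero hf₁ hf₂)
  -- (a) the composite is killed by powers of `f`
  have ha : ∀ y : F, ∃ k : ℕ, f ^ k • v (u y) = 0 := by
    intro y
    have h1 := hgen.apply_apply_eq_zero ((1 : FractionRing R) ⊗ₜ[R] y)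
    rw [LinearMap.baseChange_tmul, LinearMap.baseChange_tmul] at h1
    obtain ⟨r, hr, hrx⟩ := exists_smul_eq_zero_of_one_tmul_eq_zero _ h1
    exact hH'.exists_pow_smul_eq_zero hr hrx
  -- (c) the kernel of `v` lies in the image of `u` up to powers of `f`
  have hc : ∀ x : G, v x = 0 → ∃ (k : ℕ) (y : F), f ^ k • x = u y := by
    intro x hx
    have h1 : ((v.restrictScalars R).baseChange (FractionRing R))
        ((1 : FractionRing R) ⊗ₜ[R] x) = 0 := by
      rw [LinearMap.baseChange_tmul]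
      change (1 : FractionRing R) ⊗ₜ[R] (v x) = 0
      rw [hx, TensorProduct.tmul_zero]
    obtain ⟨z, hz⟩ := (hgen _).mp h1
    obtain ⟨s, hs, y, hy⟩ := exists_smul_eq_one_tmul_fractionRing z
    have h2 : (1 : FractionRing R) ⊗ₜ[R] (s • x - u y) = 0 := by
      have h3 : ((u.restrictScalars R).baseChange (FractionRing R))
          ((1 : FractionRing R) ⊗ₜ[R] y) = (1 : FractionRing R) ⊗ₜ[R] (u y) :=
        LinearMap.baseChange_tmul _ _ _
      rw [TensorProduct.tmul_sub, ← h3, ← hy, TensorProduct.tmul_smul]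
      have h4 : ((u.restrictScalars R).baseChange (FractionRing R)) (s • z) =
          s • ((u.restrictScalars R).baseChange (FractionRing R)) z := by
        rw [← algebraMap_smul (FractionRing R) s z, map_smul, algebraMap_smul]
      rw [h4, hz, sub_self]
    obtain ⟨r, hr, hrx⟩ := exists_smul_eq_zero_of_one_tmul_eq_zero _ h2
    have h5 : (r * s) • (Submodule.Quotient.mk x : G ⧸ LinearMap.range u) = 0 := by
      rw [← Submodule.Quotient.mk_smul, Submodule.Quotient.mk_eq_zero]
      refine ⟨r • y, ?_⟩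
      rw [smul_sub, sub_eq_zero] at hrx
      rw [mul_smul, hrx, ← algebraMap_smul B r y, map_smul, algebraMap_smul]
    obtain ⟨k, hk⟩ := hC'.exists_pow_smul_eq_zero (mul_ne_zero hr hs) h5
    rw [← Submodule.Quotient.mk_smul, Submodule.Quotient.mk_eq_zero] at hk
    obtain ⟨y', hy'⟩ := hk
    exact ⟨k, y', hy'.symm⟩
  -- lifts of the generic basis of the cokernel of `v`
  have hlift : ∀ i : s₃, ∃ h : H, (Submodule.Quotient.mk h : H ⧸ LinearMap.range v) = i :=
    fun i => Submodule.Quotient.mk_surjective _ _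
  choose bt hbt using hlift
  have hmk_lin : ∀ c : s₃ →₀ R, (Submodule.Quotient.mk (Finsupp.linearCombination R bt c) :
      H ⧸ LinearMap.range v) =
      Finsupp.linearCombination R (fun x : s₃ => (x : H ⧸ LinearMap.range v)) c := by
    intro c
    have : (Submodule.Quotient.mk (Finsupp.linearCombination R bt c) : H ⧸ LinearMap.range v) =
        ((LinearMap.range v).mkQ.restrictScalars R) (Finsupp.linearCombination R bt c) := rfl
    have hfun : (⇑((LinearMap.range v).mkQ.restrictScalars R) ∘ bt) =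
        fun x : s₃ => (x : H ⧸ LinearMap.range v) := funext hbt
    rw [this, Finsupp.apply_linearCombination, hfun]
  refine ⟨f, hf, fun p hfp => ?_⟩
  have hκf : algebraMap R p.asIdeal.ResidueField f ≠ 0 := fun h0 =>
    hfp (Ideal.algebraMap_residueField_eq_zero.mp h0)
  -- (b) `p H ∩ im v ⊆ v (p G)` up to powers of `f`
  have hb : ∀ h ∈ p.asIdeal • (⊤ : Submodule R H), ∃ (c : s₃ →₀ R) (g' : G) (k : ℕ),
      (∀ i, c i ∈ p.asIdeal) ∧ g' ∈ p.asIdeal • (⊤ : Submodule R G) ∧
        f ^ k • h = Finsupp.linearCombination R bt c + v g' := by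
    intro h hh
    refine Submodule.smul_induction_on hh (fun a ha h' _ => ?_) (fun x y hx hy => ?_)
    · obtain ⟨k, hk⟩ := hQ'.span (Submodule.Quotient.mk h')
      obtain ⟨c', hc'⟩ := Finsupp.mem_span_range_iff_exists_finsupp.mp hk
      rw [← Finsupp.linearCombination_apply, ← hmk_lin, ← Submodule.Quotient.mk_smul] at hc'
      have h1 : f ^ k • h' - Finsupp.linearCombination R bt c' ∈ LinearMap.range v := by
        rw [← Submodule.Quotient.mk_eq_zero, Submodule.Quotient.mk_sub, hc', sub_self]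
      obtain ⟨g'', hg''⟩ := h1
      refine ⟨a • c', a • g'', k, fun i => ?_, Submodule.smul_mem_smul ha Submodule.mem_top, ?_⟩
      · rw [Finsupp.smul_apply, smul_eq_mul]
        exact Ideal.mul_mem_right _ _ ha
      · have e1 : v (a • g'') = a • (f ^ k • h' - Finsupp.linearCombination R bt c') := by
          rw [← hg'', ← algebraMap_smul B a g'', map_smul, algebraMap_smul]
        rw [e1, map_smul, smul_comm, smul_sub, add_sub_cancel]
    · obtain ⟨c₁, g₁, k₁, hc₁, hg₁, e₁⟩ := hx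
      obtain ⟨c₂, g₂, k₂, hc₂, hg₂, e₂⟩ := hy
      refine ⟨f ^ k₂ • c₁ + f ^ k₁ • c₂, f ^ k₂ • g₁ + f ^ k₁ • g₂, k₁ + k₂, fun i => ?_,
        Submodule.add_mem _ (Submodule.smul_mem _ _ hg₁) (Submodule.smul_mem _ _ hg₂), ?_⟩
      · rw [Finsupp.add_apply, Finsupp.smul_apply, Finsupp.smul_apply, smul_eq_mul, smul_eq_mul]
        exact Ideal.add_mem _ (Ideal.mul_mem_left _ _ (hc₁ i)) (Ideal.mul_mem_left _ _ (hc₂ i))
      · have h1 : f ^ (k₁ + k₂) • (x + y) = f ^ k₂ • (f ^ k₁ • x) + f ^ k₁ • (f ^ k₂ • y) := by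
          rw [smul_add, smul_smul, smul_smul, pow_add, mul_comm]
        have hv : ∀ (a : R) (g : G), v (a • g) = a • v g := fun a g => by
          rw [← algebraMap_smul B a g, map_smul, algebraMap_smul]
        rw [h1, e₁, e₂, map_add, map_add, map_smul, map_smul, hv, hv, smul_add, smul_add]
        abel
  have hb' : ∀ g : G, v g ∈ p.asIdeal • (⊤ : Submodule R H) →
      ∃ (k : ℕ) (g' : G), g' ∈ p.asIdeal • (⊤ : Submodule R G) ∧ f ^ k • v g = v g' := by
    intro g hg
    obtain ⟨c, g', k, -, hg', e⟩ := hb _ hg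
    have h1 : Finsupp.linearCombination R (fun x : s₃ => (x : H ⧸ LinearMap.range v)) c = 0 := by
      rw [← hmk_lin]
      have h2 : Finsupp.linearCombination R bt c = f ^ k • v g - v g' := by
        rw [e, add_sub_cancel_right]
      rw [h2, Submodule.Quotient.mk_eq_zero]
      refine Submodule.sub_mem _ ?_ ⟨g', rfl⟩
      exact ⟨f ^ k • g, by rw [← algebraMap_smul B (f ^ k) g, map_smul, algebraMap_smul]⟩
    have h3 : c = 0 := hQ'.indep c ⟨0, by rw [pow_zero, one_smul, h1]⟩
    refine ⟨k, g', hg', ?_⟩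
    rw [e, h3, map_zero, zero_add]
  have hvR : ∀ (a : R) (g : G), v (a • g) = a • v g := fun a g => by
    rw [← algebraMap_smul B a g, map_smul, algebraMap_smul]
  intro z
  constructor
  · intro hz
    obtain ⟨s, hs, x, hx⟩ := exists_smul_eq_one_tmul p.asIdeal z
    have h1 : (1 : p.asIdeal.ResidueField) ⊗ₜ[R] (v x) = 0 := by
      have h2 : ((v.restrictScalars R).baseChange p.asIdeal.ResidueField)
          ((1 : p.asIdeal.ResidueField) ⊗ₜ[R] x) = (1 : p.asIdeal.ResidueField) ⊗ₜ[R] (v x) :=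
        LinearMap.baseChange_tmul _ _ _
      rw [← h2, ← hx, map_smul, hz, smul_zero]
    obtain ⟨t, ht, hth⟩ := exists_smul_mem_of_one_tmul_eq_zero p.asIdeal (v x) h1
    rw [← hvR] at hth
    obtain ⟨m, g', hg', hm⟩ := hb' (t • x) hth
    have h3 : v (f ^ m • t • x - g') = 0 := by
      rw [map_sub, hvR, hm, sub_self]
    obtain ⟨k, y, hy⟩ := hc _ h3
    -- compute in the fibre
    set w : R := f ^ k * (f ^ m * t) * s with hw
    have hwp : algebraMap R p.asIdeal.ResidueField w ≠ 0 := by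
      intro h0
      have hmem := Ideal.algebraMap_residueField_eq_zero.mp h0
      rw [hw] at hmem
      rcases p.2.mem_or_mem hmem with h | h
      · rcases p.2.mem_or_mem h with h | h
        · exact hfp (p.2.mem_of_pow_mem _ h)
        · rcases p.2.mem_or_mem h with h | h
          · exact hfp (p.2.mem_of_pow_mem _ h)
          · exact ht h
      · exact hs h
    have h4 : algebraMap R p.asIdeal.ResidueField w • z =
        ((u.restrictScalars R).baseChange p.asIdeal.ResidueField)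
          ((1 : p.asIdeal.ResidueField) ⊗ₜ[R] y) := by
      rw [LinearMap.baseChange_tmul]
      change _ = (1 : p.asIdeal.ResidueField) ⊗ₜ[R] (u y)
      have e1 : f ^ k • (f ^ m • t • x - g') = (f ^ k * (f ^ m * t)) • x - f ^ k • g' := by
        rw [smul_sub, smul_smul, smul_smul, mul_assoc]
      rw [← hy, e1, TensorProduct.tmul_sub,
        one_tmul_eq_zero_of_mem p.asIdeal (Submodule.smul_mem _ _ hg'), sub_zero, hw, map_mul,
        mul_smul, hx, algebraMap_smul_one_tmul]
    refine ⟨(algebraMap R p.asIdeal.ResidueField w)⁻¹ • ((1 : p.asIdeal.ResidueField) ⊗ₜ[R] y), ?_⟩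
    rw [map_smul, ← h4, smul_smul, inv_mul_cancel₀ hwp, one_smul]
  · rintro ⟨w, rfl⟩
    induction w with
    | zero => simp
    | tmul c y =>
      rw [LinearMap.baseChange_tmul, LinearMap.baseChange_tmul]
      change c ⊗ₜ[R] (v (u y)) = 0
      obtain ⟨k, hk⟩ := ha y
      have h1 : algebraMap R p.asIdeal.ResidueField (f ^ k) • (c ⊗ₜ[R] (v (u y))) = 0 := by
        rw [TensorProduct.smul_tmul', smul_eq_mul, ← Algebra.smul_def, TensorProduct.smul_tmul, hk,
          TensorProduct.tmul_zero]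
      rcases smul_eq_zero.mp h1 with h | h
      · rw [map_pow] at h
        exact absurd h (pow_ne_zero k hκf)
      · exact h
    | add w₁ w₂ h₁ h₂ => rw [map_add, map_add, h₁, h₂, add_zero]

end Main

end Groth.Agent.Lib.H77FibreExact
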