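import Groth.Agent.Lib.H77GenFree
import Groth.Agent.Lib.H77Nagata
import Mathlib.RingTheory.Adjoin.Basic
import Mathlib.RingTheory.FiniteType
import Mathlib.RingTheory.Localization.Module
import Mathlib.RingTheory.Localization.Away.Basic

/-!
Generic freeness (Stacks 051R, without Noetherian hypotheses): a finite module over a finite
type algebra over a domain `R` is generically free over `R`.
-/

namespace Groth.Agent.Lib.H77GenFree

open Function MvPolynomial

universe u w v

variable {R : Type u} [CommRing R] [IsDomain R]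

section Step

variable {A : Type w} [CommRing A] [Algebra R A] {n : ℕ}

omit [IsDomain R] in
/-- Evaluation of a polynomial in `n + 1` variables through `finSuccEquiv`. -/
lemma algHom_eq_eval₂_finSuccEquiv (ρ : MvPolynomial (Fin (n + 1)) R →ₐ[R] A)
    (p : MvPolynomial (Fin (n + 1)) R) :
    ρ p = Polynomial.eval₂ (aeval (fun i : Fin n => ρ (X i.succ)) : MvPolynomial (Fin n) R →ₐ[R] A).toRingHom
      (ρ (X 0)) (finSuccEquiv R n p) := by
  let φ : MvPolynomial (Fin n) R →+* A :=
    (aeval (fun i : Fin n => ρ (X i.succ)) : MvPolynomial (Fin n) R →ₐ[R] A).toRingHom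
  let ψ : MvPolynomial (Fin (n + 1)) R →+* A :=
    (Polynomial.eval₂RingHom φ (ρ (X 0))).comp (finSuccEquiv R n).toRingEquiv.toRingHom
  have : ρ.toRingHom = ψ := by
    apply MvPolynomial.ringHom_ext
    · intro r
      simp [ψ, φ, finSuccEquiv_apply]
    · intro i
      refine Fin.cases ?_ (fun j => ?_) i
      · simp [ψ, finSuccEquiv_X_zero]
      · simp [ψ, φ, finSuccEquiv_X_succ]
  exact DFunLike.congr_fun this p

omit [IsDomain R] in
/-- Key step: if `ρ : R[X_0..X_n] → A` is surjective and kills a polynomial whose leading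
coefficient in `X_0` is a constant `c`, then, `B` being the subalgebra generated by the images
of `X_1..X_n`, some finitely generated `B`-submodule `M'` of `A` absorbs every element of `A`
after multiplication by a power of `c`. -/
lemma exists_submodule_of_leadingCoeff (ρ : MvPolynomial (Fin (n + 1)) R →ₐ[R] A)
    (hρ : Surjective ρ) (p : MvPolynomial (Fin (n + 1)) R) (hp : ρ p = 0) (c : R)
    (hc : (finSuccEquiv R n p).leadingCoeff = C c) :
    ∃ M' : Submodule (Algebra.adjoin R (Set.range fun i : Fin n => ρ (X i.succ))) A,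
      M'.FG ∧ ∀ a : A, ∃ k : ℕ, c ^ k • a ∈ M' := by
  classical
  set t : Fin n → A := fun i => ρ (X i.succ) with ht
  set B := Algebra.adjoin R (Set.range t) with hB
  set y : A := ρ (X 0) with hy
  let φ : MvPolynomial (Fin n) R →+* A := (aeval t : MvPolynomial (Fin n) R →ₐ[R] A).toRingHom
  have hφB : ∀ x, φ x ∈ B := by
    intro x
    have : (aeval t : MvPolynomial (Fin n) R →ₐ[R] A) x ∈ (aeval t).range := ⟨x, rfl⟩
    rwa [← Algebra.adjoin_range_eq_range_aeval] at this
  have hρeq : ∀ x, ρ x = Polynomial.eval₂ φ y (finSuccEquiv R n x) :=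
    algHom_eq_eval₂_finSuccEquiv ρ
  set Q := finSuccEquiv R n p with hQ
  set N := Q.natDegree with hN
  let M' : Submodule B A := Submodule.span B ((fun j : ℕ => y ^ j) '' (Set.Iio N))
  refine ⟨M', Submodule.fg_span ((Set.finite_Iio N).image _), ?_⟩
  -- the saturation of `M'`
  let Msat : Submodule B A :=
    { carrier := {a | ∃ k : ℕ, c ^ k • a ∈ M'}
      add_mem' := by
        rintro a b ⟨k, hk⟩ ⟨l, hl⟩
        refine ⟨k + l, ?_⟩
        have h1 : c ^ (k + l) • (a + b) = (c ^ l • (c ^ k • a)) + (c ^ k • (c ^ l • b)) := by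
          rw [smul_add, smul_smul, smul_smul, pow_add, mul_comm]
        rw [h1]
        refine M'.add_mem ?_ ?_
        · have : c ^ l • (c ^ k • a) = (algebraMap R B (c ^ l)) • (c ^ k • a) := by
            rw [algebraMap_smul]
          rw [this]
          exact M'.smul_mem _ hk
        · have : c ^ k • (c ^ l • b) = (algebraMap R B (c ^ k)) • (c ^ l • b) := by
            rw [algebraMap_smul]
          rw [this]
          exact M'.smul_mem _ hl
      zero_mem' := ⟨0, by simp⟩
      smul_mem' := by
        rintro b a ⟨k, hk⟩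
        refine ⟨k, ?_⟩
        rw [smul_comm]
        exact M'.smul_mem _ hk }
  have hsat : ∀ a : A, c • a ∈ Msat → a ∈ Msat := by
    rintro a ⟨k, hk⟩
    refine ⟨k + 1, ?_⟩
    rwa [pow_succ, mul_smul]
  -- the relation
  have hrel : c • y ^ N = - ∑ j ∈ Finset.range N, φ (Q.coeff j) * y ^ j := by
    have h0 : Polynomial.eval₂ φ y Q = 0 := by rw [hQ, ← hρeq, hp]
    rw [Polynomial.eval₂_eq_sum_range, Finset.sum_range_succ] at h0
    have h1 : φ (Q.coeff Q.natDegree) = algebraMap R A c := by
      have : Q.coeff Q.natDegree = C c := hc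
      rw [this]
      simp [φ]
    rw [h1, ← Algebra.smul_def] at h0
    rw [eq_neg_iff_add_eq_zero, add_comm]
    exact h0
  have hpow : ∀ j : ℕ, y ^ j ∈ Msat := by
    intro j
    induction j using Nat.strong_induction_on with
    | _ j ih =>
      by_cases hj : j < N
      · exact ⟨0, by
          simp only [pow_zero, one_smul]
          exact Submodule.subset_span ⟨j, hj, rfl⟩⟩
      · rw [not_lt] at hj
        apply hsat
        have h1 : c • y ^ j = - ∑ i ∈ Finset.range N, φ (Q.coeff i) * y ^ (i + (j - N)) := by
          have : y ^ j = y ^ N * y ^ (j - N) := by rw [← pow_add, Nat.add_sub_cancel' hj]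
          rw [this, ← smul_mul_assoc, hrel, neg_mul, Finset.sum_mul]
          congr 1
          refine Finset.sum_congr rfl fun i _ => ?_
          rw [mul_assoc, ← pow_add]
        rw [h1]
        refine Msat.neg_mem (Msat.sum_mem fun i hi => ?_)
        have hi' : i + (j - N) < j := by
          have := Finset.mem_range.mp hi
          omega
        have : φ (Q.coeff i) * y ^ (i + (j - N)) =
            (⟨φ (Q.coeff i), hφB _⟩ : B) • y ^ (i + (j - N)) := rfl
        rw [this]
        exact Msat.smul_mem _ (ih _ hi')
  intro a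
  obtain ⟨x, rfl⟩ := hρ a
  change ρ x ∈ Msat
  rw [hρeq, Polynomial.eval₂_eq_sum_range]
  refine Msat.sum_mem fun i _ => ?_
  have : φ ((finSuccEquiv R n x).coeff i) * y ^ i =
      (⟨φ ((finSuccEquiv R n x).coeff i), hφB _⟩ : B) • y ^ i := rfl
  rw [this]
  exact Msat.smul_mem _ (hpow i)

end Step

section Main

omit [IsDomain R] in
private lemma adjoin_range_comp_eq_top {A A' : Type*} [CommRing A] [Algebra R A] [CommRing A']
    [Algebra R A'] {ι : Type*} (s : ι → A) (hs : Algebra.adjoin R (Set.range s) = ⊤)
    (f : A →ₐ[R] A') (hf : Surjective f) : Algebra.adjoin R (Set.range (f ∘ s)) = ⊤ := by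
  rw [Set.range_comp, Algebra.adjoin_image, hs, Algebra.map_top, AlgHom.range_eq_top]
  exact hf

/-- Generic freeness of finite type algebras over a domain (all in one universe), by induction
on the number of generators. -/
private theorem genFree_algebra : ∀ (n : ℕ) (A : Type w) [CommRing A] [Algebra R A]
    (s : Fin n → A), Algebra.adjoin R (Set.range s) = ⊤ → GenFree R A := by
  intro n
  induction n with
  | zero =>
    intro A _ _ s hs
    have hsurj : Surjective (algebraMap R A) := by
      rw [Algebra.surjective_algebraMap_iff, ← hs, Set.range_eq_empty, Algebra.adjoin_empty]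
    by_cases hinj : Injective (algebraMap R A)
    · exact GenFree.of_linearEquiv (GenFree.of_free (R := R) (M := R))
        (LinearEquiv.ofBijective (Algebra.linearMap R A) ⟨hinj, hsurj⟩)
    · rw [injective_iff_map_eq_zero] at hinj
      push Not at hinj
      obtain ⟨q, hq0, hq⟩ := hinj
      exact GenFree.of_smul_eq_zero hq fun a => by rw [Algebra.smul_def, hq0, zero_mul]
  | succ n ih =>
    intro A _ _ s hs
    let π : MvPolynomial (Fin (n + 1)) R →ₐ[R] A := aeval s
    have hπ : Surjective π := by
      rw [← AlgHom.range_eq_top, ← Algebra.adjoin_range_eq_range_aeval, hs]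
    by_cases hinj : Injective π
    · exact GenFree.of_linearEquiv (GenFree.of_free (R := R) (M := MvPolynomial (Fin (n + 1)) R))
        (LinearEquiv.ofBijective π.toLinearMap ⟨hinj, hπ⟩)
    · rw [injective_iff_map_eq_zero] at hinj
      push Not at hinj
      obtain ⟨q, hq0, hq⟩ := hinj
      obtain ⟨T, c, hc, hlead⟩ := Groth.Agent.Lib.H77Nagata.exists_algEquiv_leadingCoeff q hq
      let ρ : MvPolynomial (Fin (n + 1)) R →ₐ[R] A := π.comp T.symm.toAlgHom
      have hρ : Surjective ρ := hπ.comp T.symm.surjective
      have hρq : ρ (T q) = 0 := by simp [ρ, hq0]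
      set t : Fin n → A := fun i => ρ (X i.succ) with ht
      set B := Algebra.adjoin R (Set.range t) with hB
      obtain ⟨M', hfg, hM'⟩ : ∃ M' : Submodule B A, M'.FG ∧ ∀ a : A, ∃ k : ℕ, c ^ k • a ∈ M' :=
        exists_submodule_of_leadingCoeff ρ hρ (T q) hρq c hlead
      -- `B` is generated by `n` elements
      let t' : Fin n → B := fun i => ⟨t i, Algebra.subset_adjoin ⟨i, rfl⟩⟩
      have ht' : Algebra.adjoin R (Set.range t') = ⊤ := by
        have : Set.range t' = ((↑) : B → A) ⁻¹' (Set.range t) := by
          ext ⟨x, hx⟩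
          simp [t', Subtype.ext_iff]
        rw [this]
        exact Algebra.adjoin_adjoin_coe_preimage
      have hBq : ∀ J : Ideal B, GenFree R (B ⧸ J) := fun J =>
        ih (B ⧸ J) ((Ideal.Quotient.mkₐ R J) ∘ t')
          (adjoin_range_comp_eq_top t' ht' _ (Ideal.Quotient.mkₐ_surjective R J))
      have : Module.Finite B M' := Module.Finite.of_fg hfg
      have hM'free : GenFree R M' := GenFree.of_finite_of_quotients hBq M'
      have hM'free' : GenFree R (M'.restrictScalars R) :=
        hM'free.of_linearEquiv ((Submodule.restrictScalarsEquiv R B A M').symm.restrictScalars R)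
      obtain ⟨f, hf, S, hS⟩ := hM'free'
      exact (IsGenBasis.of_submodule (M' := M'.restrictScalars R) hc
        (fun m => by simpa using hM' m) hS).genFree (mul_ne_zero hf hc)

/-- **Generic freeness** over a domain, elementwise form: a finite module over a finite type
algebra over a domain `R` is generically free over `R`. -/
theorem genFree_of_finiteType (A : Type w) [CommRing A] [Algebra R A] [Algebra.FiniteType R A]
    (M : Type v) [AddCommGroup M] [Module R M] [Module A M] [IsScalarTower R A M]
    [Module.Finite A M] : GenFree R M := by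
  obtain ⟨n, f, hf⟩ := Algebra.FiniteType.iff_quotient_mvPolynomial''.mp
    (inferInstance : Algebra.FiniteType R A)
  have hs : Algebra.adjoin R (Set.range (fun i : Fin n => f (X i))) = ⊤ := by
    have : Set.range (fun i : Fin n => f (X i)) = Set.range (f ∘ X) := rfl
    rw [this]
    refine adjoin_range_comp_eq_top (X : Fin n → MvPolynomial (Fin n) R) ?_ f hf
    exact MvPolynomial.adjoin_range_X
  refine GenFree.of_finite_of_quotients (A := A) (fun J => ?_) M
  exact genFree_algebra n (A ⧸ J) ((Ideal.Quotient.mkₐ R J) ∘ fun i : Fin n => f (X i))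
    (adjoin_range_comp_eq_top _ hs _ (Ideal.Quotient.mkₐ_surjective R J))

end Main

section Free

omit [IsDomain R] in
/-- A generic basis becomes a basis of any localization of `M` away from `f`. -/
theorem IsGenBasis.free_of_isLocalizedModule {M : Type*} [AddCommGroup M] [Module R M] {f : R}
    {ι : Type*} {b : ι → M} (h : IsGenBasis R M f b)
    (Rf : Type*) [CommRing Rf] [Algebra R Rf] [IsLocalization.Away f Rf]
    {Mf : Type*} [AddCommGroup Mf] [Module R Mf] [Module Rf Mf] [IsScalarTower R Rf Mf]
    (g : M →ₗ[R] Mf) [IsLocalizedModule (Submonoid.powers f) g] : Module.Free Rf Mf := by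
  have hli : LinearIndependent R b := by
    rw [linearIndependent_iff]
    intro l hl
    exact h.indep l ⟨0, by simp [hl]⟩
  have hli' : LinearIndependent Rf (g ∘ b) :=
    hli.of_isLocalizedModule Rf (Submonoid.powers f) g
  have hsp : ⊤ ≤ Submodule.span Rf (Set.range (g ∘ b)) := by
    intro x _
    obtain ⟨⟨m, s⟩, hx⟩ := IsLocalizedModule.surj (Submonoid.powers f) g x
    obtain ⟨k, hk⟩ := h.span m
    have h1 : g (f ^ k • m) ∈ Submodule.span Rf (Set.range (g ∘ b)) := by
      have h2 := Submodule.mem_map_of_mem (f := g) hk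
      rw [Submodule.map_span, ← Set.range_comp] at h2
      exact Submodule.span_subset_span R Rf _ h2
    have hu : IsUnit (algebraMap R Rf (f ^ k)) := by
      rw [map_pow]
      exact (IsLocalization.Away.algebraMap_isUnit f).pow k
    have hus : IsUnit (algebraMap R Rf (s : R)) := IsLocalization.map_units Rf s
    have h3 : g m ∈ Submodule.span Rf (Set.range (g ∘ b)) := by
      rw [map_smul, ← algebraMap_smul Rf (f ^ k) (g m)] at h1
      have := Submodule.smul_mem _ (↑hu.unit⁻¹ : Rf) h1
      rwa [smul_smul, IsUnit.val_inv_mul, one_smul] at this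
    have h4 : x = (↑hus.unit⁻¹ : Rf) • g m := by
      rw [← hx, Submonoid.smul_def, ← algebraMap_smul Rf (s : R) x, smul_smul,
        IsUnit.val_inv_mul, one_smul]
    rw [h4]
    exact Submodule.smul_mem _ _ h3
  exact Module.Free.of_basis (Module.Basis.mk hli' hsp)

end Free

end Groth.Agent.Lib.H77GenFree
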