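import Mathlib
import Groth.Agent.Lib.H77GenFreeMain
import Groth.Agent.Lib.H77FibreExact

/-!
Non-reducedness of fibre rings spreads out from a point to an open part of its closure
(algebraic core of EGA IV 9.7.x / Stacks 0574-type statements).
-/

namespace Groth.Agent.Lib.H77FibreRed

open TensorProduct Groth.Agent.Lib.H77GenFree Groth.Agent.Lib.H77FibreExact

universe u

set_option linter.style.haveILetI false

section Coeff

variable {R : Type*} [CommRing R] {M : Type*} [AddCommGroup M] [Module R M]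

/-- Elements of `Q M` have, after multiplication by a power of `g`, coefficients in `Q` with
respect to a generic basis. -/
lemma IsGenBasis.exists_coeff_mem {g : R} {ι : Type*} {b : ι → M} (h : IsGenBasis R M g b)
    (Q : Ideal R) {x : M} (hx : x ∈ Q • (⊤ : Submodule R M)) :
    ∃ (m : ℕ) (l : ι →₀ R), (∀ j, l j ∈ Q) ∧ g ^ m • x = Finsupp.linearCombination R b l := by
  refine Submodule.smul_induction_on hx (fun a ha y _ => ?_) (fun x y hx hy => ?_)
  · obtain ⟨k, hk⟩ := h.span y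
    obtain ⟨l, hl⟩ := (Finsupp.mem_span_range_iff_exists_finsupp).mp hk
    refine ⟨k, a • l, fun j => ?_, ?_⟩
    · simpa using Q.mul_mem_right _ ha
    · rw [map_smul, Finsupp.linearCombination_apply, hl, smul_comm]
  · obtain ⟨m₁, l₁, h₁, e₁⟩ := hx
    obtain ⟨m₂, l₂, h₂, e₂⟩ := hy
    refine ⟨m₁ + m₂, g ^ m₂ • l₁ + g ^ m₁ • l₂, fun j => ?_, ?_⟩
    · simpa using Q.add_mem (Q.mul_mem_left _ (h₁ j)) (Q.mul_mem_left _ (h₂ j))
    · rw [map_add, map_smul, map_smul, ← e₁, ← e₂, smul_add, smul_smul, smul_smul, pow_add,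
        mul_comm (g ^ m₁) (g ^ m₂)]

/-- elements of `p M` die in `κ(p) ⊗ M`. -/
lemma one_tmul_eq_zero_of_mem' (p : Ideal R) [p.IsPrime] {x : M}
    (hx : x ∈ p • (⊤ : Submodule R M)) : (1 : p.ResidueField) ⊗ₜ[R] x = 0 := by
  refine Submodule.smul_induction_on hx (fun a ha n _ => ?_) (fun x y hx hy => ?_)
  · rw [← algebraMap_tmul, Ideal.algebraMap_residueField_eq_zero.mpr ha, TensorProduct.zero_tmul]
  · rw [TensorProduct.tmul_add, hx, hy, add_zero]

/-- `a • (1 ⊗ x) = 0` with `a ∉ p` forces `1 ⊗ x = 0`. -/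
lemma one_tmul_eq_zero_of_smul (p : Ideal R) [p.IsPrime] {a : R} (ha : a ∉ p) {x : M}
    (hx : (1 : p.ResidueField) ⊗ₜ[R] (a • x) = 0) : (1 : p.ResidueField) ⊗ₜ[R] x = 0 := by
  rw [← algebraMap_smul_one_tmul] at hx
  rcases smul_eq_zero.mp hx with h | h
  · exact absurd (Ideal.algebraMap_residueField_eq_zero.mp h) ha
  · exact h

end Coeff


section Main

variable {R A : Type u} [CommRing R] [CommRing A] [Algebra R A]

/-- a nonzero nilpotent of the fibre ring may be taken of the form `1 ⊗ b`. -/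
lemma exists_one_tmul_nilpotent (𝔭 : Ideal R) [𝔭.IsPrime] (h : ¬ IsReduced (𝔭.Fiber A)) :
    ∃ (b : A) (n : ℕ), (1 : 𝔭.ResidueField) ⊗ₜ[R] b ≠ 0 ∧
      (1 : 𝔭.ResidueField) ⊗ₜ[R] (b ^ n) = 0 := by
  rw [isReduced_iff] at h
  push Not at h
  obtain ⟨z, ⟨n, hn⟩, hz⟩ := h
  obtain ⟨s, hs, b, hb⟩ := exists_smul_eq_one_tmul 𝔭 z
  refine ⟨b, n, fun h0 => hz ?_, ?_⟩
  · rw [h0] at hb
    rcases smul_eq_zero.mp hb with h | h
    · exact absurd (Ideal.algebraMap_residueField_eq_zero.mp h) hs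
    · exact h
  · have : ((1 : 𝔭.ResidueField) ⊗ₜ[R] b) ^ n = 0 := by
      rw [← hb, smul_pow, hn, smul_zero]
    rwa [Algebra.TensorProduct.tmul_pow, one_pow] at this

variable [Algebra.FiniteType R A]

/-- **Non-reduced fibres spread out**: if the fibre ring of `A` at the prime `𝔭` is not reduced,
the same holds at all primes of `V(𝔭) ∩ D(g)` for some `g ∉ 𝔭`. -/
theorem exists_notMem_forall_not_isReduced_fiber (𝔭 : Ideal R) [𝔭.IsPrime]
    (h : ¬ IsReduced (𝔭.Fiber A)) :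
    ∃ g : R, g ∉ 𝔭 ∧ ∀ (q : Ideal R) [q.IsPrime], 𝔭 ≤ q → g ∉ q → ¬ IsReduced (q.Fiber A) := by
  obtain ⟨b, n, hb0, hbn⟩ := exists_one_tmul_nilpotent 𝔭 h
  obtain ⟨t, ht, htb⟩ := exists_smul_mem_of_one_tmul_eq_zero 𝔭 (b ^ n) hbn
  -- generic freeness of `A/𝔭A` over `R/𝔭`
  let R' := R ⧸ 𝔭
  let A' := A ⧸ 𝔭.map (algebraMap R A)
  haveI : Algebra.FiniteType R' A' := Algebra.FiniteType.of_restrictScalars_finiteType R R' A'
  obtain ⟨g', hg', s, hs⟩ := genFree_of_finiteType (R := R') A' A'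
  obtain ⟨g, rfl⟩ := Ideal.Quotient.mk_surjective g'
  have hg : g ∉ 𝔭 := fun hh => hg' (Ideal.Quotient.eq_zero_iff_mem.mpr hh)
  let b' : A' := Ideal.Quotient.mk _ b
  obtain ⟨k, hk⟩ := hs.span b'
  obtain ⟨l, hl⟩ := (Finsupp.mem_span_range_iff_exists_finsupp).mp hk
  -- `l ≠ 0`
  have hl0 : l ≠ 0 := by
    rintro rfl
    apply hb0
    have h1 : (Ideal.Quotient.mk 𝔭 g) ^ k • b' = 0 := by
      rw [← hl]; simp
    have h2 : g ^ k • b ∈ 𝔭 • (⊤ : Submodule R A) := by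
      rw [Ideal.smul_top_eq_map, Submodule.restrictScalars_mem, ← Ideal.Quotient.eq_zero_iff_mem,
        Algebra.smul_def, map_mul]
      rw [← map_pow, Algebra.smul_def] at h1
      exact h1
    exact one_tmul_eq_zero_of_smul 𝔭 (fun hh => hg (‹𝔭.IsPrime›.mem_of_pow_mem k hh))
      (one_tmul_eq_zero_of_mem' 𝔭 h2)
  obtain ⟨j₀, hj₀⟩ := Finsupp.ne_iff.mp hl0
  obtain ⟨r, hr⟩ := Ideal.Quotient.mk_surjective (l j₀)
  have hr𝔭 : r ∉ 𝔭 := fun hh => hj₀ (by
    rw [← hr, Finsupp.zero_apply]; exact Ideal.Quotient.eq_zero_iff_mem.mpr hh)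
  refine ⟨t * g * r, fun hh => ?_, fun q _ h𝔭q hGq => ?_⟩
  · rcases ‹𝔭.IsPrime›.mem_or_mem hh with h1 | h1
    · rcases ‹𝔭.IsPrime›.mem_or_mem h1 with h2 | h2
      · exact ht h2
      · exact hg h2
    · exact hr𝔭 h1
  have htq : t ∉ q := fun hh => hGq (q.mul_mem_right _ (q.mul_mem_right _ hh))
  have hgq : g ∉ q := fun hh => hGq (q.mul_mem_right _ (q.mul_mem_left _ hh))
  have hrq : r ∉ q := fun hh => hGq (q.mul_mem_left _ hh)
  intro hred
  -- `1 ⊗ b` is nilpotent in the fibre at `q`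
  have hnil : (1 : q.ResidueField) ⊗ₜ[R] (b ^ n) = 0 := by
    apply one_tmul_eq_zero_of_smul q htq
    apply one_tmul_eq_zero_of_mem' q
    exact Submodule.smul_mono_left h𝔭q htb
  have hz : (1 : q.ResidueField) ⊗ₜ[R] b = 0 := by
    apply hred.eq_zero
    refine ⟨n, ?_⟩
    rw [Algebra.TensorProduct.tmul_pow, one_pow, hnil]
  -- contradiction with freeness
  obtain ⟨t', ht', ht'b⟩ := exists_smul_mem_of_one_tmul_eq_zero q b hz
  let Q : Ideal R' := q.map (Ideal.Quotient.mk 𝔭)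
  have hQ : Q.IsPrime := Ideal.map_isPrime_of_surjective Ideal.Quotient.mk_surjective
    (by rwa [Ideal.mk_ker])
  have hmemQ : ∀ x : R, Ideal.Quotient.mk 𝔭 x ∈ Q ↔ x ∈ q := fun x =>
    Ideal.mem_quotient_iff_mem h𝔭q
  have h3 : Ideal.Quotient.mk 𝔭 t' • b' ∈ Q • (⊤ : Submodule R' A') := by
    rw [Ideal.smul_top_eq_map, Submodule.restrictScalars_mem]
    rw [Ideal.smul_top_eq_map, Submodule.restrictScalars_mem] at ht'b
    have h4 : Ideal.Quotient.mk (𝔭.map (algebraMap R A)) (t' • b) ∈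
        (q.map (algebraMap R A)).map (Ideal.Quotient.mk (𝔭.map (algebraMap R A))) :=
      Ideal.mem_map_of_mem _ ht'b
    have h5 : (q.map (algebraMap R A)).map (Ideal.Quotient.mk (𝔭.map (algebraMap R A))) =
        Q.map (algebraMap R' A') := by
      rw [Ideal.map_map, Ideal.map_map]
      congr 1
    rw [h5] at h4
    convert h4 using 1
    rw [Algebra.smul_def, Algebra.smul_def, map_mul]
    rfl
  obtain ⟨m, l', hl', el'⟩ := IsGenBasis.exists_coeff_mem hs Q h3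
  have h6 : Finsupp.linearCombination R' (fun x : s => (x : A'))
      ((Ideal.Quotient.mk 𝔭 g ^ m * Ideal.Quotient.mk 𝔭 t') • l -
        Ideal.Quotient.mk 𝔭 g ^ k • l') = 0 := by
    rw [map_sub, map_smul, map_smul, ← el', Finsupp.linearCombination_apply, hl]
    simp only [smul_smul]
    rw [sub_eq_zero]
    congr 1
    ring
  have h7 := hs.indep _ ⟨0, by rw [pow_zero, one_smul]; exact h6⟩
  have h8' := DFunLike.congr_fun h7 j₀
  have h8 : (Ideal.Quotient.mk 𝔭 g ^ m * Ideal.Quotient.mk 𝔭 t') * l j₀ =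
      Ideal.Quotient.mk 𝔭 g ^ k * l' j₀ := by
    simpa [sub_eq_zero] using h8'
  have h9 : Ideal.Quotient.mk 𝔭 g ^ m * Ideal.Quotient.mk 𝔭 t' * l j₀ ∈ Q := by
    rw [h8]
    exact Q.mul_mem_left _ (hl' j₀)
  rw [← hr, ← map_pow, ← map_mul, ← map_mul, hmemQ] at h9
  rcases ‹q.IsPrime›.mem_or_mem h9 with h10 | h10
  · rcases ‹q.IsPrime›.mem_or_mem h10 with h11 | h11
    · exact hgq (‹q.IsPrime›.mem_of_pow_mem m h11)
    · exact ht' h11
  · exact hrq h10

end Main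

end Groth.Agent.Lib.H77FibreRed
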