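import Mathlib
import Groth.Agent.Lib.H77FibreExact
import Groth.Agent.Lib.H77FibreRed

/-!
Algebra core for "nowhere dense in the fibres": spreading out of nonzerodivisors on the fibres,
and the resulting statement on prime ideals.
-/

namespace Groth.Agent.Lib.H77FibNDAlg

open TensorProduct Groth.Agent.Lib.H77FibreExact

universe u

set_option linter.style.haveILetI false

section NZD

variable {R B : Type u} [CommRing R] [IsDomain R] [CommRing B] [Algebra R B]
  [Algebra.FiniteType R B]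

omit [IsDomain R] [Algebra.FiniteType R B] in
lemma baseChange_mulLeft (b : B) (κ : Type u) [CommRing κ] [Algebra R κ] (z : κ ⊗[R] B) :
    ((LinearMap.mulLeft B b).restrictScalars R).baseChange κ z = ((1 : κ) ⊗ₜ[R] b) * z := by
  induction z with
  | zero => simp
  | tmul c x => simp
  | add x y hx hy => rw [map_add, hx, hy, mul_add]

/-- **Nonzerodivisors spread out**: if `b` is a nonzerodivisor on the generic fibre of the finite
type algebra `B` over the domain `R` (elementwise form), then `1 ⊗ b` is a nonzerodivisor on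
`κ(q) ⊗ B` for all `q` in a nonempty basic open. -/
theorem exists_forall_fibre_nzd (b : B)
    (hb : ∀ x : B, b * x = 0 → ∃ r : R, r ≠ 0 ∧ r • x = 0) :
    ∃ g : R, g ≠ 0 ∧ ∀ q : PrimeSpectrum R, g ∉ q.asIdeal →
      ∀ z : q.asIdeal.ResidueField ⊗[R] B, ((1 : q.asIdeal.ResidueField) ⊗ₜ[R] b) * z = 0 →
        z = 0 := by
  let v : B →ₗ[B] B := LinearMap.mulLeft B b
  let u : B →ₗ[B] B := 0
  have hu : ∀ (κ : Type u) [CommRing κ] [Algebra R κ],
      (u.restrictScalars R).baseChange κ = 0 := by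
    intro κ _ _
    ext x
    simp [u]
  have hK : ∀ (r : R), r ≠ 0 → ∀ z : FractionRing R ⊗[R] B, r • z = 0 → z = 0 := by
    intro r hr z hz
    rw [← algebraMap_smul (FractionRing R) r z] at hz
    have hunit : IsUnit (algebraMap R (FractionRing R) r) :=
      IsUnit.mk0 _ (fun h => hr ((IsFractionRing.injective R (FractionRing R))
        (h.trans (map_zero _).symm)))
    exact hunit.smul_eq_zero.mp hz
  have hgen : Function.Exact ((u.restrictScalars R).baseChange (FractionRing R))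
      ((v.restrictScalars R).baseChange (FractionRing R)) := by
    intro z
    rw [hu, baseChange_mulLeft]
    constructor
    · intro hz
      obtain ⟨s, hs, x, hx⟩ := exists_smul_eq_one_tmul_fractionRing z
      have h1 : (1 : FractionRing R) ⊗ₜ[R] (b * x) = 0 := by
        have : ((1 : FractionRing R) ⊗ₜ[R] b) * (s • z) = 0 := by
          rw [mul_smul_comm, hz, smul_zero]
        rw [hx, Algebra.TensorProduct.tmul_mul_tmul, mul_one] at this
        exact this
      obtain ⟨r, hr, hrx⟩ := exists_smul_eq_zero_of_one_tmul_eq_zero (b * x) h1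
      obtain ⟨r', hr', hr'x⟩ := hb (r • x) (by rw [mul_smul_comm, hrx])
      have h2 : (1 : FractionRing R) ⊗ₜ[R] x = 0 := by
        apply hK (r' * r) (mul_ne_zero hr' hr)
        rw [TensorProduct.smul_tmul', TensorProduct.smul_tmul, mul_smul, hr'x,
          TensorProduct.tmul_zero]
      have h3 : z = 0 := hK s hs z (by rw [hx, h2])
      exact ⟨0, by rw [h3]; simp⟩
    · rintro ⟨w, rfl⟩
      simp
  obtain ⟨g, hg, hgq⟩ := exists_forall_fibre_exact u v hgen
  refine ⟨g, hg, fun q hq z hz => ?_⟩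
  have hex := hgq q hq z
  rw [hu, baseChange_mulLeft] at hex
  obtain ⟨w, hw⟩ := hex.mp hz
  rw [← hw]
  simp

end NZD


section Primes

variable {R B : Type u} [CommRing R] [CommRing B] [Algebra R B]

lemma one_tmul_mem_iff (q : PrimeSpectrum R)
    (Pt : PrimeSpectrum.comap (algebraMap R B) ⁻¹' {q}) (a : B) :
    (1 : q.asIdeal.ResidueField) ⊗ₜ[R] a ∈ (PrimeSpectrum.preimageEquivFiber R B q Pt).asIdeal ↔
      a ∈ Pt.1.asIdeal := by
  have h : (PrimeSpectrum.preimageEquivFiber R B q).symm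
      (PrimeSpectrum.preimageEquivFiber R B q Pt) = Pt :=
    (PrimeSpectrum.preimageEquivFiber R B q).symm_apply_apply Pt
  have h2 : a ∈ ((PrimeSpectrum.preimageEquivFiber R B q).symm
      (PrimeSpectrum.preimageEquivFiber R B q Pt)).1.asIdeal ↔ a ∈ Pt.1.asIdeal := by rw [h]
  rw [← h2, PrimeSpectrum.preimageEquivFiber_symm_apply_coe]
  simp

lemma mem_symm_iff (q : PrimeSpectrum R) (𝔓 : PrimeSpectrum (q.asIdeal.Fiber B)) (a : B) :
    a ∈ ((PrimeSpectrum.preimageEquivFiber R B q).symm 𝔓).1.asIdeal ↔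
      (1 : q.asIdeal.ResidueField) ⊗ₜ[R] a ∈ 𝔓.asIdeal := by
  rw [PrimeSpectrum.preimageEquivFiber_symm_apply_coe]
  simp

/-- If `1 ⊗ b` is a nonzerodivisor on `κ(q) ⊗ B`, then every nonempty `D(a) ∩ fibre` contains a
prime not containing `b`. -/
theorem exists_prime_of_fibre_nzd (q : PrimeSpectrum R) (b : B)
    (hb : ∀ z : q.asIdeal.ResidueField ⊗[R] B,
      ((1 : q.asIdeal.ResidueField) ⊗ₜ[R] b) * z = 0 → z = 0)
    (a : B) (P : PrimeSpectrum B) (haP : a ∉ P.asIdeal)
    (hP : PrimeSpectrum.comap (algebraMap R B) P = q) :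
    ∃ P' : PrimeSpectrum B, a ∉ P'.asIdeal ∧ b ∉ P'.asIdeal ∧
      PrimeSpectrum.comap (algebraMap R B) P' = q := by
  let Pt : PrimeSpectrum.comap (algebraMap R B) ⁻¹' {q} := ⟨P, hP⟩
  let 𝔓 := PrimeSpectrum.preimageEquivFiber R B q Pt
  have h1 : (1 : q.asIdeal.ResidueField) ⊗ₜ[R] a ∉ 𝔓.asIdeal :=
    fun h => haP ((one_tmul_mem_iff q Pt a).mp h)
  have h3 : ∀ (k : ℕ) (z : q.asIdeal.ResidueField ⊗[R] B),
      ((1 : q.asIdeal.ResidueField) ⊗ₜ[R] b) ^ k * z = 0 → z = 0 := by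
    intro k
    induction k with
    | zero => intro z hz; simpa using hz
    | succ k ih =>
      intro z hz
      rw [pow_succ, mul_assoc] at hz
      exact hb _ (ih _ hz)
  have h2 : ¬ IsNilpotent ((1 : q.asIdeal.ResidueField) ⊗ₜ[R] (a * b)) := by
    rintro ⟨n, hn⟩
    have h4 : ((1 : q.asIdeal.ResidueField) ⊗ₜ[R] a) ^ n = 0 := by
      apply h3 n
      rw [← mul_pow, Algebra.TensorProduct.tmul_mul_tmul, mul_one, mul_comm b a]
      exact hn
    exact h1 (𝔓.isPrime.mem_of_pow_mem n (h4 ▸ 𝔓.asIdeal.zero_mem))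
  obtain ⟨𝔔, h𝔔⟩ : ∃ 𝔔 : PrimeSpectrum (q.asIdeal.Fiber B),
      (1 : q.asIdeal.ResidueField) ⊗ₜ[R] (a * b) ∉ 𝔔.asIdeal := by
    by_contra hcon
    push Not at hcon
    apply h2
    rw [← mem_nilradical, nilradical_eq_sInf, Ideal.mem_sInf]
    intro I hI
    exact hcon ⟨I, hI⟩
  let P't := (PrimeSpectrum.preimageEquivFiber R B q).symm 𝔔
  refine ⟨P't.1, fun h => h𝔔 ?_, fun h => h𝔔 ?_, P't.2⟩
  · rw [← mem_symm_iff]
    exact Ideal.mul_mem_right _ _ h
  · rw [← mem_symm_iff]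
    exact Ideal.mul_mem_left _ _ h

/-- Prime ideal form of "the complement of `V(J)` is dense in the fibre over `q`". -/
def PrimeND (R : Type u) {A : Type u} [CommRing R] [CommRing A] [Algebra R A] (J : Ideal A)
    (q : PrimeSpectrum R) : Prop :=
  ∀ (a : A) (P : PrimeSpectrum A), a ∉ P.asIdeal → PrimeSpectrum.comap (algebraMap R A) P = q →
    ∃ P' : PrimeSpectrum A, a ∉ P'.asIdeal ∧ PrimeSpectrum.comap (algebraMap R A) P' = q ∧
      ¬ J ≤ P'.asIdeal

/-- Transport of `PrimeND` along a surjection with nil kernel. -/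
theorem primeND_map_iff {A : Type u} [CommRing A] [Algebra R A] (π : A →ₐ[R] B)
    (hπ : Function.Surjective π) (hker : RingHom.ker π.toRingHom ≤ nilradical A) (J : Ideal A)
    (q : PrimeSpectrum R) : PrimeND R (J.map π.toRingHom) q ↔ PrimeND R J q := by
  have hsurj : ∀ P : PrimeSpectrum A, ∃ PB : PrimeSpectrum B,
      PrimeSpectrum.comap π.toRingHom PB = P := by
    intro P
    have : P ∈ Set.range (PrimeSpectrum.comap π.toRingHom) := by
      rw [_root_.range_comap_of_surjective _ _ hπ]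
      exact fun x hx => nilradical_le_prime P.asIdeal (hker hx)
    exact this
  have hcomp : ∀ PB : PrimeSpectrum B, PrimeSpectrum.comap (algebraMap R A)
      (PrimeSpectrum.comap π.toRingHom PB) = PrimeSpectrum.comap (algebraMap R B) PB := by
    intro PB
    rw [← PrimeSpectrum.comap_comp_apply]
    congr 1
    exact π.comp_algebraMap
  constructor
  · intro h a P haP hP
    obtain ⟨PB, rfl⟩ := hsurj P
    obtain ⟨P'B, h1, h2, h3⟩ := h (π a) PB haP ((hcomp PB).symm.trans hP)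
    refine ⟨PrimeSpectrum.comap π.toRingHom P'B, h1, (hcomp P'B).trans h2, fun hJ => h3 ?_⟩
    rw [Ideal.map_le_iff_le_comap]
    exact hJ
  · intro h aB PB haPB hPB
    obtain ⟨a, rfl⟩ := hπ aB
    obtain ⟨P', h1, h2, h3⟩ := h a (PrimeSpectrum.comap π.toRingHom PB) haPB
      ((hcomp PB).trans hPB)
    obtain ⟨P'B, rfl⟩ := hsurj P'
    refine ⟨P'B, h1, (hcomp P'B).symm.trans h2, fun hJ => h3 ?_⟩
    rw [Ideal.map_le_iff_le_comap] at hJ
    exact hJ

end Primes


section Generic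

variable {R B : Type u} [CommRing R] [CommRing B] [Algebra R B]

/-- Elements of the extension of `J` to the fibre ring are, up to units, of the form `1 ⊗ b` with
`b ∈ J`. -/
lemma exists_smul_eq_one_tmul_of_mem_map (p : Ideal R) [p.IsPrime] (J : Ideal B)
    (z : p.ResidueField ⊗[R] B)
    (hz : z ∈ J.map
      (Algebra.TensorProduct.includeRight : B →ₐ[R] p.ResidueField ⊗[R] B).toRingHom) :
    ∃ s : R, s ∉ p ∧ ∃ b ∈ J,
      algebraMap R p.ResidueField s • z = (1 : p.ResidueField) ⊗ₜ[R] b := by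
  have h1 : (1 : R) ∉ p := fun h => ‹p.IsPrime›.ne_top ((Ideal.eq_top_iff_one p).mpr h)
  unfold Ideal.map at hz
  induction hz using Submodule.span_induction with
  | mem x hx =>
    obtain ⟨j, hj, rfl⟩ := hx
    exact ⟨1, h1, j, hj, by simp⟩
  | zero => exact ⟨1, h1, 0, J.zero_mem, by simp⟩
  | add x y _ _ hx hy =>
    obtain ⟨s₁, hs₁, b₁, hb₁, e₁⟩ := hx
    obtain ⟨s₂, hs₂, b₂, hb₂, e₂⟩ := hy
    refine ⟨s₁ * s₂, fun h => (‹p.IsPrime›.mem_or_mem h).elim hs₁ hs₂, s₂ • b₁ + s₁ • b₂,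
      J.add_mem (Submodule.smul_of_tower_mem J s₂ hb₁) (Submodule.smul_of_tower_mem J s₁ hb₂), ?_⟩
    rw [smul_add, TensorProduct.tmul_add, ← algebraMap_smul_one_tmul, ← algebraMap_smul_one_tmul,
      ← e₁, ← e₂, map_mul, mul_smul, mul_smul, smul_comm]
  | smul c x _ hx =>
    obtain ⟨s, hs, b, hb, e⟩ := hx
    obtain ⟨t, ht, y, ey⟩ := exists_smul_eq_one_tmul p c
    refine ⟨t * s, fun h => (‹p.IsPrime›.mem_or_mem h).elim ht hs, y * b, J.mul_mem_left y hb, ?_⟩
    rw [map_mul, smul_eq_mul, ← smul_mul_smul_comm, ey, e, Algebra.TensorProduct.tmul_mul_tmul,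
      mul_one]

variable [IsDomain R] [Algebra.FiniteType R B]

/-- If `V(J)` is nowhere dense in the generic fibre of the reduced finite type algebra `B` over
the domain `R`, then `J` contains an element which is a nonzerodivisor on the generic fibre. -/
theorem exists_mem_generic_nzd_of_primeND [IsReduced B] (J : Ideal B)
    (h : PrimeND R J ⟨⊥, Ideal.isPrime_bot⟩) :
    ∃ b ∈ J, ∀ x : B, b * x = 0 → ∃ r : R, r ≠ 0 ∧ r • x = 0 := by
  obtain ⟨q₀, hq₀⟩ : ∃ q₀ : PrimeSpectrum R, q₀ = ⟨⊥, Ideal.isPrime_bot⟩ := ⟨_, rfl⟩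
  rw [← hq₀] at h
  have hq₀' : q₀.asIdeal = ⊥ := by rw [hq₀]
  let κ := q₀.asIdeal.ResidueField
  let F := κ ⊗[R] B
  haveI : IsNoetherianRing F := Algebra.FiniteType.isNoetherianRing κ F
  have hunit : ∀ s : R, s ∉ q₀.asIdeal → IsUnit (algebraMap R κ s) := fun s hs =>
    IsUnit.mk0 _ (fun h0 => hs (Ideal.algebraMap_residueField_eq_zero.mp h0))
  have hbot : ∀ (t : R) (x : B), t • x ∈ q₀.asIdeal • (⊤ : Submodule R B) → t • x = 0 := by
    intro t x htx
    rw [hq₀', Submodule.bot_smul, Submodule.mem_bot] at htx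
    exact htx
  haveI : IsReduced F := by
    rw [isReduced_iff]
    rintro z ⟨n, hn⟩
    obtain ⟨s, hs, x, hx⟩ := exists_smul_eq_one_tmul q₀.asIdeal z
    have h1 : (1 : κ) ⊗ₜ[R] (x ^ n) = 0 := by
      have : ((1 : κ) ⊗ₜ[R] x) ^ n = 0 := by rw [← hx, smul_pow, hn, smul_zero]
      rwa [Algebra.TensorProduct.tmul_pow, one_pow] at this
    obtain ⟨t, ht, htx⟩ := exists_smul_mem_of_one_tmul_eq_zero q₀.asIdeal (x ^ n) h1
    have h2 : t • x ^ n = 0 := hbot t _ htx
    have h3 : (t • x) ^ (n + 1) = 0 := by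
      calc (t • x) ^ (n + 1) = t ^ (n + 1) • x ^ (n + 1) := smul_pow _ _ _
        _ = (t ^ n • x) * (t • x ^ n) := by
          rw [smul_mul_smul_comm, ← pow_succ, mul_comm x, ← pow_succ]
        _ = 0 := by rw [h2, mul_zero]
    have h4 : t • x = 0 := IsReduced.eq_zero _ ⟨n + 1, h3⟩
    have h5 : (1 : κ) ⊗ₜ[R] x = 0 :=
      Groth.Agent.Lib.H77FibreRed.one_tmul_eq_zero_of_smul q₀.asIdeal ht
        (by rw [h4, TensorProduct.tmul_zero])
    rw [h5] at hx
    exact (hunit s hs).smul_eq_zero.mp hx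
  let ι : B →+* F := (Algebra.TensorProduct.includeRight : B →ₐ[R] F).toRingHom
  have hprime : ∀ w : F, ¬ IsNilpotent w → ∃ 𝔔 : PrimeSpectrum F, w ∉ 𝔔.asIdeal := by
    intro w hw
    by_contra hcon
    push Not at hcon
    apply hw
    rw [← mem_nilradical, nilradical_eq_sInf, Ideal.mem_sInf]
    intro I hI
    exact hcon ⟨I, hI⟩
  have hex : ∃ z ∈ J.map ι, z ∈ nonZeroDivisors F := by
    by_contra hcon
    push Not at hcon
    have hdisj : Disjoint ((J.map ι : Ideal F) : Set F) (nonZeroDivisors F) :=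
      Set.disjoint_left.mpr hcon
    have hlt := Ideal.bot_lt_annihilator_of_disjoint_nonZeroDivisors hdisj
    obtain ⟨w, hw, hw0⟩ := SetLike.exists_of_lt hlt
    have hwJ : ∀ j ∈ J.map ι, w * j = 0 := fun j hj => by
      have := Module.mem_annihilator.mp hw ⟨j, hj⟩
      exact congrArg Subtype.val this
    have hwnil : ¬ IsNilpotent w := fun hn => hw0 (by rw [Ideal.mem_bot]; exact hn.eq_zero)
    obtain ⟨𝔔, h𝔔⟩ := hprime w hwnil
    obtain ⟨s, hs, a, ha⟩ := exists_smul_eq_one_tmul q₀.asIdeal w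
    have hiff : ∀ 𝔔' : PrimeSpectrum F, (1 : κ) ⊗ₜ[R] a ∈ 𝔔'.asIdeal ↔ w ∈ 𝔔'.asIdeal := by
      intro 𝔔'
      rw [← ha, Algebra.smul_def]
      constructor
      · intro h
        rcases 𝔔'.isPrime.mem_or_mem h with h | h
        · exact absurd (𝔔'.asIdeal.eq_top_of_isUnit_mem h ((hunit s hs).map (algebraMap κ F)))
            𝔔'.isPrime.ne_top
        · exact h
      · exact fun h => Ideal.mul_mem_left _ _ h
    let Pt := (PrimeSpectrum.preimageEquivFiber R B q₀).symm 𝔔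
    have haP : a ∉ Pt.1.asIdeal := by
      rw [mem_symm_iff, hiff]
      exact h𝔔
    obtain ⟨P', h1, h2, h3⟩ := h a Pt.1 haP Pt.2
    let 𝔔' := PrimeSpectrum.preimageEquivFiber R B q₀ ⟨P', h2⟩
    have hw' : w ∉ 𝔔'.asIdeal := by
      rw [← hiff, one_tmul_mem_iff]
      exact h1
    apply h3
    intro j hj
    have hmem : ι j ∈ J.map ι := Ideal.mem_map_of_mem _ hj
    have h4 : w * ι j ∈ 𝔔'.asIdeal := by
      rw [hwJ _ hmem]
      exact 𝔔'.asIdeal.zero_mem
    rcases 𝔔'.isPrime.mem_or_mem h4 with h5 | h5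
    · exact absurd h5 hw'
    · exact (one_tmul_mem_iff q₀ ⟨P', h2⟩ j).mp h5
  obtain ⟨z, hzJ, hznzd⟩ := hex
  obtain ⟨s, hs, b, hbJ, hb⟩ := exists_smul_eq_one_tmul_of_mem_map q₀.asIdeal J z hzJ
  refine ⟨b, hbJ, fun x hx => ?_⟩
  have h1 : (1 : κ) ⊗ₜ[R] x = 0 := by
    have h2 : ((1 : κ) ⊗ₜ[R] b) * ((1 : κ) ⊗ₜ[R] x) = 0 := by
      rw [Algebra.TensorProduct.tmul_mul_tmul, mul_one, hx, TensorProduct.tmul_zero]
    rw [← hb, smul_mul_assoc] at h2
    have h3 := (hunit s hs).smul_eq_zero.mp h2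
    exact (mul_right_mem_nonZeroDivisors_eq_zero_iff hznzd).mp (by rw [mul_comm]; exact h3)
  obtain ⟨t, ht, htx⟩ := exists_smul_mem_of_one_tmul_eq_zero q₀.asIdeal x h1
  refine ⟨t, fun h0 => ht (by rw [h0]; exact q₀.asIdeal.zero_mem), hbot t x htx⟩

/-- **Nowhere dense closed subsets of the generic fibre spread out** (prime ideal form, over a
domain). -/
theorem exists_forall_primeND {A : Type u} [CommRing A] [Algebra R A] [Algebra.FiniteType R A]
    (J : Ideal A) (h : PrimeND R J ⟨⊥, Ideal.isPrime_bot⟩) :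
    ∃ g : R, g ≠ 0 ∧ ∀ q : PrimeSpectrum R, g ∉ q.asIdeal → PrimeND R J q := by
  let B := A ⧸ nilradical A
  let π : A →ₐ[R] B := Ideal.Quotient.mkₐ R (nilradical A)
  have hπ : Function.Surjective π := Ideal.Quotient.mkₐ_surjective R _
  have hker : RingHom.ker π.toRingHom ≤ nilradical A := by
    intro x hx
    exact Ideal.Quotient.eq_zero_iff_mem.mp hx
  haveI : IsReduced B := (Ideal.isRadical_iff_quotient_reduced _).mp (Ideal.radical_isRadical _)
  haveI : Algebra.FiniteType R B := Algebra.FiniteType.of_surjective π hπ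
  have hB := (primeND_map_iff π hπ hker J _).mpr h
  obtain ⟨bB, hbJ, hbB⟩ := exists_mem_generic_nzd_of_primeND (J.map π.toRingHom) hB
  obtain ⟨g, hg, hgq⟩ := exists_forall_fibre_nzd bB hbB
  refine ⟨g, hg, fun q hq => ?_⟩
  rw [← primeND_map_iff π hπ hker J q]
  intro a P haP hP
  obtain ⟨P', h1, h2, h3⟩ := exists_prime_of_fibre_nzd q bB (hgq q hq) a P haP hP
  exact ⟨P', h1, h3, fun hJ => h2 (hJ hbJ)⟩

end Generic

end Groth.Agent.Lib.H77FibNDAlg
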