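import Mathlib
import Groth.Agent.Lib.H77GenFreeMain

/-!
Generic surjectivity onto a dense open: if `A` is a finite type algebra over a domain `R` and the
generic point of `Spec R` lies in the image of `Spec A`, then the image contains a nonempty basic
open `D(g)`.
-/

namespace Groth.Agent.Lib.H77GenImage

open Groth.Agent.Lib.H77GenFree TensorProduct

universe u

set_option linter.style.haveILetI false

/-- Over a domain `R`, a finite type algebra `A` having a prime contracting to `⊥` has image in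
`Spec R` containing a nonempty basic open. -/
theorem exists_basicOpen_subset_range {R A : Type u} [CommRing R] [IsDomain R] [CommRing A]
    [Algebra R A] [Algebra.FiniteType R A] (Q₀ : PrimeSpectrum A)
    (hQ₀ : (PrimeSpectrum.comap (algebraMap R A) Q₀).asIdeal = ⊥) :
    ∃ g : R, g ≠ 0 ∧ ∀ P : PrimeSpectrum R, g ∉ P.asIdeal →
      P ∈ Set.range (PrimeSpectrum.comap (algebraMap R A)) := by
  obtain ⟨g, hg, s, hs⟩ := genFree_of_finiteType (R := R) A A
  refine ⟨g, hg, fun P hP => ?_⟩
  let Rg := Localization.Away g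
  let Ag := Rg ⊗[R] A
  have hloc : IsLocalizedModule (Submonoid.powers g) (TensorProduct.mk R Rg A 1) :=
    (isLocalizedModule_iff_isBaseChange (Submonoid.powers g) Rg _).mpr
      (TensorProduct.isBaseChange R A Rg)
  have hfree : Module.Free Rg Ag := hs.free_of_isLocalizedModule Rg (TensorProduct.mk R Rg A 1)
  have hnt : Nontrivial Ag := by
    refine ⟨⟨(1 : Rg) ⊗ₜ[R] (1 : A), 0, fun h => ?_⟩⟩
    have h1 : TensorProduct.mk R Rg A 1 (1 : A) = 0 := h
    rw [IsLocalizedModule.eq_zero_iff (Submonoid.powers g)] at h1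
    obtain ⟨⟨_, k, rfl⟩, hk⟩ := h1
    have h2 : algebraMap R A (g ^ k) = 0 := by
      rw [Algebra.algebraMap_eq_smul_one]; exact hk
    have h3 : g ^ k ∈ (PrimeSpectrum.comap (algebraMap R A) Q₀).asIdeal := by
      change algebraMap R A (g ^ k) ∈ Q₀.asIdeal
      rw [h2]; exact zero_mem _
    rw [hQ₀] at h3
    exact hg (pow_eq_zero_iff (M₀ := R) (n := k) (a := g) (fun hk0 => by
      subst hk0; simp at h3) |>.mp h3)
  have hff : Module.FaithfullyFlat Rg Ag := inferInstance
  -- lift `P` to `Rg`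
  have hPr : P ∈ Set.range (PrimeSpectrum.comap (algebraMap R Rg)) := by
    rw [PrimeSpectrum.localization_away_comap_range Rg g]
    exact hP
  obtain ⟨P', rfl⟩ := hPr
  obtain ⟨Q', rfl⟩ := PrimeSpectrum.comap_surjective_of_faithfullyFlat (A := Rg) (B := Ag) P'
  refine ⟨PrimeSpectrum.comap (Algebra.TensorProduct.includeRight : A →ₐ[R] Ag).toRingHom Q', ?_⟩
  rw [← PrimeSpectrum.comap_comp_apply, ← PrimeSpectrum.comap_comp_apply]
  congr 1
  ext r
  simp [Ag, Algebra.algebraMap_eq_smul_one]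


/-- Relative version: `S` a finite type `R`-algebra, `p` a prime of `R`, and the locally closed
piece `V(J) ∩ D(f)` of `Spec S` (with `pS ⊆ J`) containing a point over `p`.  Then the image of
the piece contains `V(p) ∩ D(g)` for some `g ∉ p`. -/
theorem exists_not_mem_forall_exists_prime {R S : Type u} [CommRing R] [CommRing S] [Algebra R S]
    [Algebra.FiniteType R S] (p : Ideal R) [p.IsPrime] (J : Ideal S)
    (hpJ : p.map (algebraMap R S) ≤ J) (f : S) (η : PrimeSpectrum S) (hJη : J ≤ η.asIdeal)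
    (hfη : f ∉ η.asIdeal) (hη : η.asIdeal.comap (algebraMap R S) = p) :
    ∃ g : R, g ∉ p ∧ ∀ P : PrimeSpectrum R, p ≤ P.asIdeal → g ∉ P.asIdeal →
      ∃ Q : PrimeSpectrum S, J ≤ Q.asIdeal ∧ f ∉ Q.asIdeal ∧
        PrimeSpectrum.comap (algebraMap R S) Q = P := by
  let B := S ⧸ J
  let B' := Localization.Away (Ideal.Quotient.mk J f)
  let R' := R ⧸ p
  let ψ : S →+* B' := (algebraMap B B').comp (Ideal.Quotient.mk J)
  have hψJ : ∀ x ∈ J, ψ x = 0 := fun x hx => by
    simp only [ψ, RingHom.comp_apply]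
    rw [Ideal.Quotient.eq_zero_iff_mem.mpr hx, map_zero]
  let φ : R' →+* B' := Ideal.Quotient.lift p (ψ.comp (algebraMap R S)) (fun a ha =>
    hψJ _ (hpJ (Ideal.mem_map_of_mem _ ha)))
  letI : Algebra R' B' := φ.toAlgebra
  have hφ : ∀ r : R, φ (Ideal.Quotient.mk p r) = ψ (algebraMap R S r) := fun r => rfl
  have halg : ∀ r : R, algebraMap R B' r = ψ (algebraMap R S r) := fun r => by
    rw [IsScalarTower.algebraMap_apply R B B']
    rfl
  haveI : IsScalarTower R R' B' := IsScalarTower.of_algebraMap_eq fun r => by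
    rw [halg]; rfl
  haveI : Algebra.FiniteType B B' :=
    IsLocalization.finiteType_of_monoid_fg (Submonoid.powers (Ideal.Quotient.mk J f)) B'
  haveI : Algebra.FiniteType R B := inferInstance
  haveI : Algebra.FiniteType R B' :=
    Algebra.FiniteType.trans (R := R) (S := B) (A := B') inferInstance inferInstance
  haveI : Algebra.FiniteType R' B' := Algebra.FiniteType.of_restrictScalars_finiteType R R' B'
  -- the point `η''` of `Spec B'`
  have h1 : η ∈ Set.range (PrimeSpectrum.comap (Ideal.Quotient.mk J)) := by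
    rw [_root_.range_comap_of_surjective _ _ Ideal.Quotient.mk_surjective, Ideal.mk_ker]
    exact hJη
  obtain ⟨η', rfl⟩ := h1
  have h2 : η' ∈ Set.range (PrimeSpectrum.comap (algebraMap B B')) := by
    rw [PrimeSpectrum.localization_away_comap_range B' (Ideal.Quotient.mk J f)]
    exact hfη
  obtain ⟨η'', rfl⟩ := h2
  have h3 : (PrimeSpectrum.comap (algebraMap R' B') η'').asIdeal = ⊥ := by
    rw [eq_bot_iff]
    intro x hx
    obtain ⟨r, rfl⟩ := Ideal.Quotient.mk_surjective x
    have h4 : r ∈ p := by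
      rw [← hη]
      exact hx
    simpa using Ideal.Quotient.eq_zero_iff_mem.mpr h4
  obtain ⟨g', hg', hgP⟩ := exists_basicOpen_subset_range (R := R') (A := B') η'' h3
  obtain ⟨g, rfl⟩ := Ideal.Quotient.mk_surjective g'
  refine ⟨g, fun hgp => hg' (Ideal.Quotient.eq_zero_iff_mem.mpr hgp), fun P hpP hgPn => ?_⟩
  have h5 : P ∈ Set.range (PrimeSpectrum.comap (Ideal.Quotient.mk p)) := by
    rw [_root_.range_comap_of_surjective _ _ Ideal.Quotient.mk_surjective, Ideal.mk_ker]
    exact hpP
  obtain ⟨P', rfl⟩ := h5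
  obtain ⟨Q'', hQ''⟩ := hgP P' hgPn
  refine ⟨PrimeSpectrum.comap ψ Q'', fun x hx => ?_, fun hf => ?_, ?_⟩
  · change ψ x ∈ Q''.asIdeal
    rw [hψJ x hx]
    exact zero_mem _
  · have hu : IsUnit (ψ f) := IsLocalization.Away.algebraMap_isUnit (Ideal.Quotient.mk J f)
    exact Q''.isPrime.ne_top (Ideal.eq_top_of_isUnit_mem _ hf hu)
  · rw [← hQ'', ← PrimeSpectrum.comap_comp_apply, ← PrimeSpectrum.comap_comp_apply]
    rfl

/-- The image of a constructible set under a finite type ring map, if it contains `ξ`, contains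
`V(ξ) ∩ D(g)` for some `g ∉ ξ`. -/
theorem exists_basicOpen_inter_closure_subset_image {R S : Type u} [CommRing R] [CommRing S]
    [Algebra R S] [Algebra.FiniteType R S] (E : Set (PrimeSpectrum S))
    (hE : Topology.IsConstructible E) (ξ : PrimeSpectrum R)
    (hξ : ξ ∈ PrimeSpectrum.comap (algebraMap R S) '' E) :
    ∃ g : R, g ∉ ξ.asIdeal ∧ ∀ P : PrimeSpectrum R, ξ.asIdeal ≤ P.asIdeal → g ∉ P.asIdeal →
      P ∈ PrimeSpectrum.comap (algebraMap R S) '' E := by
  obtain ⟨η, hηE, rfl⟩ := hξ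
  obtain ⟨D, rfl⟩ := PrimeSpectrum.exists_constructibleSetData_iff.mpr hE
  simp only [PrimeSpectrum.ConstructibleSetData.toSet, Set.mem_iUnion] at hηE
  obtain ⟨C, hCD, hηC⟩ := hηE
  set p := (PrimeSpectrum.comap (algebraMap R S) η).asIdeal with hp
  let J : Ideal S := Ideal.span (Set.range C.g) ⊔ p.map (algebraMap R S)
  have hJη : J ≤ η.asIdeal := by
    refine sup_le ?_ ?_
    · rw [Ideal.span_le]
      exact hηC.1
    · rw [Ideal.map_le_iff_le_comap]
      exact le_rfl
  have hfη : C.f ∉ η.asIdeal := fun h => hηC.2 (by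
    simpa [PrimeSpectrum.mem_zeroLocus] using h)
  obtain ⟨g, hg, hgP⟩ := exists_not_mem_forall_exists_prime p J le_sup_right C.f η hJη hfη rfl
  refine ⟨g, hg, fun P hpP hgPn => ?_⟩
  obtain ⟨Q, hJQ, hfQ, rfl⟩ := hgP P hpP hgPn
  refine ⟨Q, ?_, rfl⟩
  simp only [PrimeSpectrum.ConstructibleSetData.toSet, Set.mem_iUnion]
  refine ⟨C, hCD, ?_, fun h => hfQ ?_⟩
  · rw [PrimeSpectrum.mem_zeroLocus, ← Ideal.span_le]
    exact le_sup_left.trans hJQ
  · simpa [PrimeSpectrum.mem_zeroLocus] using h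

end Groth.Agent.Lib.H77GenImage
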