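import Mathlib
import Groth.Agent.Lib.H77FibreExact
import Groth.Agent.Lib.H77FibreRed
import Groth.Agent.Lib.H77FibNDAlg
import Groth.Agent.Lib.H77GenImage

/-!
Fibrewise Noether normalization near the generic point: for a finite type algebra `A` over a
domain `R`, the Krull dimension of the fibre rings `κ(q) ⊗ A` is constant on a nonempty basic open.
-/

namespace Groth.Agent.Lib.H77FibDimAlg

open TensorProduct Groth.Agent.Lib.H77FibreExact

universe u

set_option linter.style.haveILetI false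
set_option linter.unusedSectionVars false

variable {R A : Type u} [CommRing R] [CommRing A] [Algebra R A]

variable (R) in
/-- the fibrewise polynomial map -/
noncomputable def psi {n : ℕ} (y : Fin n → A) (κ : Type u) [CommRing κ] [Algebra R κ] :
    MvPolynomial (Fin n) κ →ₐ[κ] κ ⊗[R] A :=
  MvPolynomial.aeval (fun i => (1 : κ) ⊗ₜ[R] y i)

lemma psi_map {n : ℕ} (y : Fin n → A) (κ : Type u) [CommRing κ] [Algebra R κ]
    (p : MvPolynomial (Fin n) R) :
    psi R y κ (MvPolynomial.map (algebraMap R κ) p) = (1 : κ) ⊗ₜ[R] (MvPolynomial.aeval y p) := by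
  induction p using MvPolynomial.induction_on with
  | C r =>
    simp only [psi, MvPolynomial.map_C, MvPolynomial.aeval_C, Algebra.TensorProduct.algebraMap_apply,
      Algebra.algebraMap_self, RingHom.id_apply]
    rw [algebraMap_tmul, Algebra.algebraMap_eq_smul_one]
  | add p q hp hq => rw [map_add, map_add, map_add, hp, hq, TensorProduct.tmul_add]
  | mul_X p i hp =>
    rw [map_mul, map_mul, map_mul, hp, MvPolynomial.map_X, MvPolynomial.aeval_X]
    simp [psi]

lemma exists_mul_eq_algebraMap (q : Ideal R) [q.IsPrime] (k : q.ResidueField) :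
    ∃ s : R, s ∉ q ∧ ∃ a : R, algebraMap R q.ResidueField s * k = algebraMap R q.ResidueField a := by
  obtain ⟨⟨a', ⟨s', hs'⟩⟩, hc⟩ := IsLocalization.surj (nonZeroDivisors (R ⧸ q)) k
  obtain ⟨a, rfl⟩ := Ideal.Quotient.mk_surjective a'
  obtain ⟨s, rfl⟩ := Ideal.Quotient.mk_surjective s'
  have hs : s ∉ q := by
    intro h
    exact nonZeroDivisors.ne_zero hs' (Ideal.Quotient.eq_zero_iff_mem.mpr h)
  refine ⟨s, hs, a, ?_⟩
  simp only [Ideal.algebraMap_quotient_residueField_mk] at hc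
  rw [mul_comm]
  exact hc

lemma exists_C_mul_eq_map {n : ℕ} (q : Ideal R) [q.IsPrime]
    (z : MvPolynomial (Fin n) q.ResidueField) :
    ∃ s : R, s ∉ q ∧ ∃ p : MvPolynomial (Fin n) R,
      MvPolynomial.C (algebraMap R q.ResidueField s) * z =
        MvPolynomial.map (algebraMap R q.ResidueField) p := by
  induction z using MvPolynomial.induction_on with
  | C k =>
    obtain ⟨s, hs, a, ha⟩ := exists_mul_eq_algebraMap q k
    exact ⟨s, hs, MvPolynomial.C a, by rw [← map_mul, ha, MvPolynomial.map_C]⟩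
  | add z₁ z₂ h₁ h₂ =>
    obtain ⟨s₁, hs₁, p₁, e₁⟩ := h₁
    obtain ⟨s₂, hs₂, p₂, e₂⟩ := h₂
    refine ⟨s₁ * s₂, fun h => (‹q.IsPrime›.mem_or_mem h).elim hs₁ hs₂,
      MvPolynomial.C s₂ * p₁ + MvPolynomial.C s₁ * p₂, ?_⟩
    simp only [map_add, map_mul, MvPolynomial.map_C, ← e₁, ← e₂]
    ring
  | mul_X z i h =>
    obtain ⟨s, hs, p, e⟩ := h
    exact ⟨s, hs, p * MvPolynomial.X i, by rw [map_mul, MvPolynomial.map_X, ← e, mul_assoc]⟩

lemma psi_injective_of_prime {n : ℕ} (y : Fin n → A) (q : Ideal R) [q.IsPrime]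
    (𝔓 : Ideal (q.ResidueField ⊗[R] A)) [𝔓.IsPrime]
    (h : ∀ p : MvPolynomial (Fin n) R, (1 : q.ResidueField) ⊗ₜ[R] (MvPolynomial.aeval y p) ∈ 𝔓 →
      MvPolynomial.map (algebraMap R q.ResidueField) p = 0) :
    Function.Injective (psi R y q.ResidueField) := by
  rw [injective_iff_map_eq_zero]
  intro z hz
  obtain ⟨s, hs, p, e⟩ := exists_C_mul_eq_map q z
  have h1 : psi R y q.ResidueField (MvPolynomial.map (algebraMap R q.ResidueField) p) = 0 := by
    rw [← e, map_mul, hz, mul_zero]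
  rw [psi_map] at h1
  have h2 := h p (h1 ▸ 𝔓.zero_mem)
  rw [h2] at e
  have h3 : MvPolynomial.C (σ := Fin n) (algebraMap R q.ResidueField s) ≠ 0 := by
    rw [Ne, MvPolynomial.C_eq_zero]
    exact fun h0 => hs (Ideal.algebraMap_residueField_eq_zero.mp h0)
  exact (mul_eq_zero.mp e).resolve_left h3

section Dom
open Groth.Agent.Lib.H77FibNDAlg
variable [IsDomain R] [Algebra.FiniteType R A]

lemma exists_forall_psi_injective {n : ℕ} (y : Fin n → A)
    (hinj : Function.Injective (psi R y (FractionRing R)))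
    (hint : (psi R y (FractionRing R)).toRingHom.IsIntegral) :
    ∃ g : R, g ≠ 0 ∧ ∀ (q : Ideal R) [q.IsPrime], g ∉ q →
      Function.Injective (psi R y q.ResidueField) := by
  classical
  let P := MvPolynomial (Fin n) R
  let φ : P →ₐ[R] A := MvPolynomial.aeval y
  letI : Algebra P A := φ.toRingHom.toAlgebra
  haveI : IsScalarTower R P A := IsScalarTower.of_algebraMap_eq' φ.comp_algebraMap.symm
  haveI : Algebra.FiniteType P A := Algebra.FiniteType.of_restrictScalars_finiteType R P A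
  let K := FractionRing R
  let ψK := psi R y K
  -- a prime of `K ⊗ A` over `(0)`
  obtain ⟨𝔓K, h𝔓K, hcomap⟩ : ∃ Q : Ideal (K ⊗[R] A), Q.IsPrime ∧ Q.comap ψK.toRingHom = ⊥ := by
    letI : Algebra (MvPolynomial (Fin n) K) (K ⊗[R] A) := ψK.toRingHom.toAlgebra
    haveI : Algebra.IsIntegral (MvPolynomial (Fin n) K) (K ⊗[R] A) := ⟨hint⟩
    obtain ⟨Q, -, hQ, hQc⟩ := Ideal.exists_ideal_over_prime_of_isIntegral
      (S := K ⊗[R] A) (⊥ : Ideal (MvPolynomial (Fin n) K)) ⊥ (by
        rw [← RingHom.ker_eq_comap_bot]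
        exact ((RingHom.injective_iff_ker_eq_bot _).mp hinj).le)
    exact ⟨Q, hQ, hQc⟩
  let Q₀ : PrimeSpectrum A :=
    ⟨𝔓K.comap (Algebra.TensorProduct.includeRight : A →ₐ[R] K ⊗[R] A).toRingHom,
      Ideal.comap_isPrime _ _⟩
  have hmapinj : Function.Injective (MvPolynomial.map (σ := Fin n) (algebraMap R K)) :=
    MvPolynomial.map_injective _ (IsFractionRing.injective R K)
  have hQ₀ : (PrimeSpectrum.comap (algebraMap P A) Q₀).asIdeal = ⊥ := by
    rw [eq_bot_iff]
    intro p hp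
    have h1 : (1 : K) ⊗ₜ[R] (φ p) ∈ 𝔓K := hp
    rw [← psi_map] at h1
    have h2 : MvPolynomial.map (algebraMap R K) p ∈ 𝔓K.comap ψK.toRingHom := h1
    rw [hcomap, Ideal.mem_bot] at h2
    rw [Ideal.mem_bot]
    exact hmapinj (h2.trans (map_zero _).symm)
  obtain ⟨G, hG, hGr⟩ := Groth.Agent.Lib.H77GenImage.exists_basicOpen_subset_range
    (R := P) (A := A) Q₀ hQ₀
  obtain ⟨v, hv⟩ := MvPolynomial.ne_zero_iff.mp hG
  refine ⟨G.coeff v, hv, fun q _ hq => ?_⟩
  let mq : P →+* MvPolynomial (Fin n) q.ResidueField :=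
    MvPolynomial.map (algebraMap R q.ResidueField)
  let ξ : PrimeSpectrum P := ⟨RingHom.ker mq, RingHom.ker_isPrime mq⟩
  have hGξ : G ∉ ξ.asIdeal := by
    intro hmem
    have h1 : mq G = 0 := hmem
    have h2 := congrArg (MvPolynomial.coeff v) h1
    rw [MvPolynomial.coeff_map, MvPolynomial.coeff_zero] at h2
    exact hq (Ideal.algebraMap_residueField_eq_zero.mp h2)
  obtain ⟨PA, hPA⟩ := hGr ξ hGξ
  have hPAmem : ∀ p : P, φ p ∈ PA.asIdeal ↔ mq p = 0 := by
    intro p
    have : p ∈ (PrimeSpectrum.comap (algebraMap P A) PA).asIdeal ↔ p ∈ ξ.asIdeal := by rw [hPA]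
    exact this
  let qs : PrimeSpectrum R := ⟨q, inferInstance⟩
  have hPAq : PrimeSpectrum.comap (algebraMap R A) PA = qs := by
    apply PrimeSpectrum.ext
    ext r
    have h1 : r ∈ (PrimeSpectrum.comap (algebraMap R A) PA).asIdeal ↔
        φ (MvPolynomial.C r) ∈ PA.asIdeal := by
      rw [MvPolynomial.aeval_C]
      rfl
    rw [h1, hPAmem]
    change MvPolynomial.map (algebraMap R q.ResidueField) (MvPolynomial.C r) = 0 ↔ r ∈ q
    rw [MvPolynomial.map_C, MvPolynomial.C_eq_zero]
    exact Ideal.algebraMap_residueField_eq_zero (I := q)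
  let Pt : PrimeSpectrum.comap (algebraMap R A) ⁻¹' {qs} := ⟨PA, hPAq⟩
  let 𝔓 := PrimeSpectrum.preimageEquivFiber R A qs Pt
  haveI : 𝔓.asIdeal.IsPrime := 𝔓.isPrime
  apply psi_injective_of_prime y q 𝔓.asIdeal
  intro p hp
  have h1 : φ p ∈ PA.asIdeal := (one_tmul_mem_iff qs Pt (φ p)).mp hp
  exact (hPAmem p).mp h1

end Dom

section Dom2
open Groth.Agent.Lib.H77FibNDAlg
variable [IsDomain R]

attribute [local instance] MvPolynomial.algebraMvPolynomial in
lemma exists_forall_isIntegralElem {n : ℕ} (y : Fin n → A)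
    (hint : (psi R y (FractionRing R)).toRingHom.IsIntegral) (a : A) :
    ∃ c : R, c ≠ 0 ∧ ∀ (q : Ideal R) [q.IsPrime], c ∉ q →
      (psi R y q.ResidueField).toRingHom.IsIntegralElem ((1 : q.ResidueField) ⊗ₜ[R] a) := by
  let P := MvPolynomial (Fin n) R
  let K := FractionRing R
  let PK := MvPolynomial (Fin n) K
  let φ : P →ₐ[R] A := MvPolynomial.aeval y
  let ψK := psi R y K
  let S := K ⊗[R] A
  let incl : A →ₐ[R] S := Algebra.TensorProduct.includeRight
  letI : Algebra PK S := ψK.toRingHom.toAlgebra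
  letI : Algebra P S := (incl.toRingHom.comp φ.toRingHom).toAlgebra
  haveI : IsScalarTower P PK S := IsScalarTower.of_algebraMap_eq (fun p => by
    change incl (φ p) = ψK (MvPolynomial.map (algebraMap R K) p)
    rw [psi_map]
    rfl)
  have hx : IsIntegral PK ((1 : K) ⊗ₜ[R] a : S) := hint _
  obtain ⟨⟨m, hm⟩, hmint⟩ := IsIntegral.exists_multiple_integral_of_isLocalization
    ((nonZeroDivisors R).map (MvPolynomial.C (σ := Fin n))) (Rₘ := PK) ((1 : K) ⊗ₜ[R] a : S) hx
  obtain ⟨s, hs, rfl⟩ := hm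
  have hs0 : s ≠ 0 := nonZeroDivisors.ne_zero hs
  obtain ⟨Q, hQmonic, hQ⟩ := hmint
  have hsmul : (⟨MvPolynomial.C s, ⟨s, hs, rfl⟩⟩ :
      (nonZeroDivisors R).map (MvPolynomial.C (σ := Fin n))) •
      ((1 : K) ⊗ₜ[R] a : S) = incl (s • a) := by
    rw [Submonoid.smul_def, Algebra.smul_def]
    change incl (φ (MvPolynomial.C s)) * _ = _
    rw [MvPolynomial.aeval_C]
    change ((1 : K) ⊗ₜ[R] (algebraMap R A s)) * ((1 : K) ⊗ₜ[R] a) = (1 : K) ⊗ₜ[R] (s • a)
    rw [Algebra.TensorProduct.tmul_mul_tmul, mul_one, Algebra.smul_def]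
  rw [hsmul] at hQ
  change Polynomial.eval₂ (incl.toRingHom.comp φ.toRingHom) (incl.toRingHom (s • a)) Q = 0 at hQ
  rw [← Polynomial.hom_eval₂] at hQ
  obtain ⟨t, ht, hte⟩ := exists_smul_eq_zero_of_one_tmul_eq_zero
    (Polynomial.eval₂ φ.toRingHom (s • a) Q) hQ
  refine ⟨s * t, mul_ne_zero hs0 ht, fun q _ hq => ?_⟩
  have hsq : s ∉ q := fun h => hq (Ideal.mul_mem_right _ _ h)
  have htq : t ∉ q := fun h => hq (Ideal.mul_mem_left _ _ h)
  let κ := q.ResidueField
  let ψq := psi R y κ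
  let mq : P →+* MvPolynomial (Fin n) κ := MvPolynomial.map (algebraMap R κ)
  let inclq : A →ₐ[R] κ ⊗[R] A := Algebra.TensorProduct.includeRight
  have hcomp : ψq.toRingHom.comp mq = inclq.toRingHom.comp φ.toRingHom := by
    refine RingHom.ext fun p => ?_
    exact psi_map y κ p
  have h1 : ψq.toRingHom.IsIntegralElem (inclq (s • a)) := by
    refine ⟨Q.map mq, hQmonic.map mq, ?_⟩
    rw [Polynomial.eval₂_map, hcomp]
    change Polynomial.eval₂ (inclq.toRingHom.comp φ.toRingHom) (inclq.toRingHom (s • a)) Q = 0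
    rw [← Polynomial.hom_eval₂]
    exact Groth.Agent.Lib.H77FibreRed.one_tmul_eq_zero_of_smul q htq
      (by rw [hte, TensorProduct.tmul_zero])
  have h2 : (1 : κ) ⊗ₜ[R] a =
      ψq.toRingHom (MvPolynomial.C (algebraMap R κ s)⁻¹) * inclq (s • a) := by
    change _ = ψq (MvPolynomial.C (algebraMap R κ s)⁻¹) * ((1 : κ) ⊗ₜ[R] (s • a))
    have h3 : ψq (MvPolynomial.C (algebraMap R κ s)⁻¹) = ((algebraMap R κ s)⁻¹ : κ) ⊗ₜ[R] (1 : A) := by
      simp [ψq, psi, Algebra.TensorProduct.algebraMap_apply]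
    rw [h3, Algebra.TensorProduct.tmul_mul_tmul, mul_one, one_mul, TensorProduct.tmul_smul,
      TensorProduct.smul_tmul', Algebra.smul_def, mul_inv_cancel₀]
    exact fun h0 => hsq (Ideal.algebraMap_residueField_eq_zero.mp h0)
  rw [h2]
  exact RingHom.IsIntegralElem.mul _ (RingHom.isIntegralElem_map _) h1


omit [IsDomain R] in
lemma psi_C {n : ℕ} (y : Fin n → A) (κ : Type u) [CommRing κ] [Algebra R κ] (k : κ) :
    psi R y κ (MvPolynomial.C k) = k ⊗ₜ[R] (1 : A) := by
  simp [psi, Algebra.TensorProduct.algebraMap_apply]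

lemma exists_forall_psi_isIntegral [Algebra.FiniteType R A] {n : ℕ} (y : Fin n → A)
    (hint : (psi R y (FractionRing R)).toRingHom.IsIntegral) :
    ∃ c : R, c ≠ 0 ∧ ∀ (q : Ideal R) [q.IsPrime], c ∉ q →
      (psi R y q.ResidueField).toRingHom.IsIntegral := by
  classical
  obtain ⟨S, hS⟩ := (inferInstance : Algebra.FiniteType R A).out
  choose c hc0 hc using exists_forall_isIntegralElem y hint
  refine ⟨∏ a ∈ S, c a, Finset.prod_ne_zero_iff.mpr fun a _ => hc0 a, fun q _ hq => ?_⟩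
  have hcS : ∀ a ∈ S, c a ∉ q := fun a ha h => hq ((Ideal.IsPrime.prod_mem_iff).mpr ⟨a, ha, h⟩)
  let κ := q.ResidueField
  let ψq := psi R y κ
  have h1 : ∀ b : A, ψq.toRingHom.IsIntegralElem ((1 : κ) ⊗ₜ[R] b) := by
    intro b
    have hb : b ∈ Algebra.adjoin R (S : Set A) := by rw [hS]; trivial
    induction hb using Algebra.adjoin_induction with
    | mem a ha => exact hc a q (hcS a ha)
    | algebraMap r =>
      have : (1 : κ) ⊗ₜ[R] (algebraMap R A r) = ψq.toRingHom (MvPolynomial.C (algebraMap R κ r)) := by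
        change _ = ψq (MvPolynomial.C (algebraMap R κ r))
        rw [psi_C, algebraMap_tmul, Algebra.algebraMap_eq_smul_one]
      rw [this]
      exact RingHom.isIntegralElem_map _
    | add b₁ b₂ _ _ h₁ h₂ =>
      rw [TensorProduct.tmul_add]
      exact RingHom.IsIntegralElem.add _ h₁ h₂
    | mul b₁ b₂ _ _ h₁ h₂ =>
      have : (1 : κ) ⊗ₜ[R] (b₁ * b₂) = ((1 : κ) ⊗ₜ[R] b₁) * ((1 : κ) ⊗ₜ[R] b₂) := by
        rw [Algebra.TensorProduct.tmul_mul_tmul, mul_one]
      rw [this]
      exact RingHom.IsIntegralElem.mul _ h₁ h₂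
  intro z
  induction z with
  | zero => exact RingHom.isIntegralElem_zero _
  | tmul k b =>
    have : k ⊗ₜ[R] b = ψq.toRingHom (MvPolynomial.C k) * ((1 : κ) ⊗ₜ[R] b) := by
      change _ = ψq (MvPolynomial.C k) * _
      rw [psi_C, Algebra.TensorProduct.tmul_mul_tmul, mul_one, one_mul]
    rw [this]
    exact RingHom.IsIntegralElem.mul _ (RingHom.isIntegralElem_map _) (h1 b)
  | add z₁ z₂ h₁ h₂ => exact RingHom.IsIntegralElem.add _ h₁ h₂

end Dom2

section DimTools

/-- An injective integral extension does not lower the dimension (copy of helper8 FTDim). -/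
theorem ringKrullDim_le_of_isIntegral_of_injective {R S : Type*} [CommRing R] [CommRing S]
    [Algebra R S] [Algebra.IsIntegral R S]
    (hinj : Function.Injective (algebraMap R S)) : ringKrullDim R ≤ ringKrullDim S := by
  rw [ringKrullDim, Order.krullDim]
  refine iSup_le fun l ↦ ?_
  obtain ⟨Q, -, hQ, hQc⟩ := Ideal.exists_ideal_over_prime_of_isIntegral
    (S := S) l.head.asIdeal ⊥ (by
      rw [← RingHom.ker_eq_comap_bot, (RingHom.injective_iff_ker_eq_bot _).mp hinj]
      exact bot_le)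
  have : Q.LiesOver l.head.asIdeal := ⟨hQc.symm⟩
  obtain ⟨L, hL, -, -⟩ := Ideal.exists_ltSeries_of_hasGoingUp l Q
  rw [← hL]
  exact Order.LTSeries.length_le_krullDim L

theorem ringKrullDim_eq_of_isIntegral_of_injective {R S : Type*} [CommRing R] [CommRing S]
    [Algebra R S] [Algebra.IsIntegral R S]
    (hinj : Function.Injective (algebraMap R S)) : ringKrullDim R = ringKrullDim S :=
  le_antisymm (ringKrullDim_le_of_isIntegral_of_injective hinj)
    (Order.krullDim_le_of_strictMono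
      (fun I ↦ ⟨Ideal.comap (algebraMap R S) I.asIdeal, inferInstance⟩)
      (fun I J hIJ ↦ by
        have : I.asIdeal < J.asIdeal := hIJ
        exact Ideal.IsIntegral.comap_lt_comap (R := R) this))

theorem ringKrullDim_mvPolynomial_field (k : Type*) [Field k] (d : ℕ) :
    ringKrullDim (MvPolynomial (Fin d) k) = d := by
  rw [MvPolynomial.ringKrullDim_of_isNoetherianRing, ringKrullDim_eq_zero_of_field]
  simp

end DimTools

section Main
variable [IsDomain R] [Algebra.FiniteType R A]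

/-- **Fibre dimension is constant near the generic point** (affine, over a domain). -/
theorem exists_forall_ringKrullDim_fiber_eq :
    ∃ (g : R) (d : WithBot ℕ∞), g ≠ 0 ∧ ∀ (q : Ideal R) [q.IsPrime], g ∉ q →
      ringKrullDim (q.ResidueField ⊗[R] A) = d := by
  classical
  let K := FractionRing R
  rcases subsingleton_or_nontrivial (K ⊗[R] A) with hsub | hnt
  · have h0 : (1 : K) ⊗ₜ[R] (1 : A) = 0 := Subsingleton.elim _ _
    obtain ⟨r, hr, hr1⟩ := exists_smul_eq_zero_of_one_tmul_eq_zero (1 : A) h0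
    refine ⟨r, ⊥, hr, fun q _ hq => ?_⟩
    have h1 : (1 : q.ResidueField) ⊗ₜ[R] (1 : A) = 0 :=
      Groth.Agent.Lib.H77FibreRed.one_tmul_eq_zero_of_smul q hq
        (by rw [hr1, TensorProduct.tmul_zero])
    haveI : Subsingleton (q.ResidueField ⊗[R] A) := by
      rw [← subsingleton_iff_zero_eq_one, Algebra.TensorProduct.one_def, h1]
    exact ringKrullDim_eq_bot_of_subsingleton
  · obtain ⟨n, g₀, hg₀inj, hg₀int⟩ := exists_integral_inj_algHom_of_fg K (K ⊗[R] A)
    have hex : ∀ i : Fin n, ∃ s : R, s ≠ 0 ∧ ∃ x : A,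
        s • g₀ (MvPolynomial.X i) = (1 : K) ⊗ₜ[R] x :=
      fun i => exists_smul_eq_one_tmul_fractionRing (g₀ (MvPolynomial.X i))
    choose s hs y hy using hex
    have hsK : ∀ i, algebraMap R K (s i) ≠ 0 := fun i h =>
      hs i ((IsFractionRing.injective R K) (h.trans (map_zero _).symm))
    let σ : MvPolynomial (Fin n) K →ₐ[K] MvPolynomial (Fin n) K :=
      MvPolynomial.aeval (fun i => MvPolynomial.C (algebraMap R K (s i)) * MvPolynomial.X i)
    let τ : MvPolynomial (Fin n) K →ₐ[K] MvPolynomial (Fin n) K :=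
      MvPolynomial.aeval (fun i => MvPolynomial.C (algebraMap R K (s i))⁻¹ * MvPolynomial.X i)
    have hτσ : τ.comp σ = AlgHom.id K _ := by
      apply MvPolynomial.algHom_ext
      intro i
      simp only [σ, τ, AlgHom.comp_apply, MvPolynomial.aeval_X, map_mul, MvPolynomial.aeval_C,
        MvPolynomial.algebraMap_eq, AlgHom.id_apply]
      rw [← mul_assoc, ← map_mul, mul_inv_cancel₀ (hsK i), map_one, one_mul]
    have hστ : σ.comp τ = AlgHom.id K _ := by
      apply MvPolynomial.algHom_ext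
      intro i
      simp only [σ, τ, AlgHom.comp_apply, MvPolynomial.aeval_X, map_mul, MvPolynomial.aeval_C,
        MvPolynomial.algebraMap_eq, AlgHom.id_apply]
      rw [← mul_assoc, ← map_mul, inv_mul_cancel₀ (hsK i), map_one, one_mul]
    have hσinj : Function.Injective σ := fun a b hab => by
      have := congrArg τ hab
      rwa [← AlgHom.comp_apply, ← AlgHom.comp_apply, hτσ] at this
    have hσsurj : Function.Surjective σ := fun b => ⟨τ b, by
      rw [← AlgHom.comp_apply, hστ]; rfl⟩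
    have hpsi : psi R y K = g₀.comp σ := by
      apply MvPolynomial.algHom_ext
      intro i
      simp only [psi, σ, MvPolynomial.aeval_X, AlgHom.comp_apply, map_mul]
      rw [← hy i, ← MvPolynomial.algebraMap_eq, AlgHom.commutes, ← Algebra.smul_def,
        algebraMap_smul]
    have hinj : Function.Injective (psi R y K) := by
      rw [hpsi]
      exact hg₀inj.comp hσinj
    have hint : (psi R y K).toRingHom.IsIntegral := by
      rw [hpsi]
      exact RingHom.IsIntegral.trans σ.toRingHom g₀.toRingHom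
        (RingHom.isIntegral_of_surjective _ hσsurj) hg₀int
    obtain ⟨g₁, hg₁, hg₁q⟩ := exists_forall_psi_injective y hinj hint
    obtain ⟨c, hc, hcq⟩ := exists_forall_psi_isIntegral y hint
    refine ⟨g₁ * c, (n : WithBot ℕ∞), mul_ne_zero hg₁ hc, fun q _ hq => ?_⟩
    have hq₁ : g₁ ∉ q := fun h => hq (Ideal.mul_mem_right _ _ h)
    have hqc : c ∉ q := fun h => hq (Ideal.mul_mem_left _ _ h)
    letI : Algebra (MvPolynomial (Fin n) q.ResidueField) (q.ResidueField ⊗[R] A) :=
      (psi R y q.ResidueField).toRingHom.toAlgebra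
    haveI : Algebra.IsIntegral (MvPolynomial (Fin n) q.ResidueField) (q.ResidueField ⊗[R] A) :=
      ⟨hcq q hqc⟩
    rw [← ringKrullDim_eq_of_isIntegral_of_injective (R := MvPolynomial (Fin n) q.ResidueField)
      (hg₁q q hq₁), ringKrullDim_mvPolynomial_field]

end Main

end Groth.Agent.Lib.H77FibDimAlg
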