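import Mathlib
import Groth.Agent.Lib.H77FibDimAlg
import Groth.Agent.Lib.H77FibDim

/-!
The Krull dimension of a scheme of finite type over a field is invariant under extension of the
base field.
-/

namespace Groth.Agent.Lib.H77DimFieldExt

open TensorProduct Groth.Agent.Lib.H77FibDimAlg

universe u

set_option linter.style.haveILetI false

section
variable {R A : Type u} [CommRing R] [CommRing A] [Algebra R A]

lemma psi_isIntegral_of_isIntegral {n : ℕ} (y : Fin n → A)
    (hint : (MvPolynomial.aeval y : MvPolynomial (Fin n) R →ₐ[R] A).toRingHom.IsIntegral)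
    (κ : Type u) [CommRing κ] [Algebra R κ] : (psi R y κ).toRingHom.IsIntegral := by
  let φ : MvPolynomial (Fin n) R →ₐ[R] A := MvPolynomial.aeval y
  let ψq := psi R y κ
  let mq : MvPolynomial (Fin n) R →+* MvPolynomial (Fin n) κ := MvPolynomial.map (algebraMap R κ)
  let inclq : A →ₐ[R] κ ⊗[R] A := Algebra.TensorProduct.includeRight
  have hcomp : ψq.toRingHom.comp mq = inclq.toRingHom.comp φ.toRingHom := by
    refine RingHom.ext fun p => ?_
    exact psi_map y κ p
  have h1 : ∀ b : A, ψq.toRingHom.IsIntegralElem ((1 : κ) ⊗ₜ[R] b) := by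
    intro b
    obtain ⟨Q, hQmonic, hQ⟩ := hint b
    refine ⟨Q.map mq, hQmonic.map mq, ?_⟩
    rw [Polynomial.eval₂_map, hcomp]
    change Polynomial.eval₂ (inclq.toRingHom.comp φ.toRingHom) (inclq.toRingHom b) Q = 0
    rw [← Polynomial.hom_eval₂, hQ, map_zero]
  intro z
  induction z with
  | zero => exact RingHom.isIntegralElem_zero _
  | tmul k b =>
    have : k ⊗ₜ[R] b = ψq.toRingHom (MvPolynomial.C k) * ((1 : κ) ⊗ₜ[R] b) := by
      change _ = ψq (MvPolynomial.C k) * _
      rw [psi_C, Algebra.TensorProduct.tmul_mul_tmul, mul_one, one_mul]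
    rw [this]
    exact RingHom.IsIntegralElem.mul _ (RingHom.isIntegralElem_map _) (h1 b)
  | add z₁ z₂ h₁ h₂ => exact RingHom.IsIntegralElem.add _ h₁ h₂

lemma psi_injective_of_flat {n : ℕ} (y : Fin n → A)
    (hinj : Function.Injective (MvPolynomial.aeval y : MvPolynomial (Fin n) R →ₐ[R] A))
    (κ : Type u) [CommRing κ] [Algebra R κ] [Module.Flat R κ] :
    Function.Injective (psi R y κ) := by
  let φ : MvPolynomial (Fin n) R →ₐ[R] A := MvPolynomial.aeval y
  let Ψ : MvPolynomial (Fin n) κ →ₐ[κ] κ ⊗[R] A :=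
    (Algebra.TensorProduct.map (AlgHom.id κ κ) φ).comp
      (MvPolynomial.algebraTensorAlgEquiv R κ).symm.toAlgHom
  have hΨ : psi R y κ = Ψ := by
    apply MvPolynomial.algHom_ext
    intro i
    simp [psi, Ψ, φ]
  rw [hΨ]
  have h1 : Function.Injective (Algebra.TensorProduct.map (AlgHom.id κ κ) φ) := by
    have := Module.Flat.lTensor_preserves_injective_linearMap (M := κ) φ.toLinearMap hinj
    convert this using 1
    ext z
    induction z with
    | zero => simp
    | tmul a b => simp
    | add a b ha hb => rw [map_add, map_add, ha, hb]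
  exact h1.comp (MvPolynomial.algebraTensorAlgEquiv R κ).symm.injective

end

theorem ringKrullDim_tensor_field_eq (k k' A : Type u) [Field k] [Field k'] [Algebra k k']
    [CommRing A] [Algebra k A] [Algebra.FiniteType k A] :
    ringKrullDim (k' ⊗[k] A) = ringKrullDim A := by
  rcases subsingleton_or_nontrivial A with hsub | hnt
  · haveI : Subsingleton (k' ⊗[k] A) := by
      rw [← subsingleton_iff_zero_eq_one, Algebra.TensorProduct.one_def,
        Subsingleton.elim (1 : A) 0, TensorProduct.tmul_zero]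
    rw [ringKrullDim_eq_bot_of_subsingleton, ringKrullDim_eq_bot_of_subsingleton]
  · obtain ⟨n, g₀, hg₀inj, hg₀int⟩ := exists_integral_inj_algHom_of_fg k A
    let y : Fin n → A := fun i => g₀ (MvPolynomial.X i)
    have hg₀ : (MvPolynomial.aeval y : MvPolynomial (Fin n) k →ₐ[k] A) = g₀ := by
      apply MvPolynomial.algHom_ext
      intro i
      simp [y]
    have hint := psi_isIntegral_of_isIntegral y (by rw [hg₀]; exact hg₀int) k'
    have hinj := psi_injective_of_flat y (by rw [hg₀]; exact hg₀inj) k'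
    have e1 : ringKrullDim (k' ⊗[k] A) = n := by
      letI : Algebra (MvPolynomial (Fin n) k') (k' ⊗[k] A) := (psi k y k').toRingHom.toAlgebra
      haveI : Algebra.IsIntegral (MvPolynomial (Fin n) k') (k' ⊗[k] A) := ⟨hint⟩
      rw [← ringKrullDim_eq_of_isIntegral_of_injective (R := MvPolynomial (Fin n) k') hinj,
        ringKrullDim_mvPolynomial_field]
    have e2 : ringKrullDim A = n := by
      letI : Algebra (MvPolynomial (Fin n) k) A := g₀.toRingHom.toAlgebra
      haveI : Algebra.IsIntegral (MvPolynomial (Fin n) k) A := ⟨hg₀int⟩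
      rw [← ringKrullDim_eq_of_isIntegral_of_injective (R := MvPolynomial (Fin n) k) hg₀inj,
        ringKrullDim_mvPolynomial_field]
    rw [e1, e2]

section Sch
open AlgebraicGeometry CategoryTheory Limits Groth.Agent.Lib.H77FibDim Topology

/-- dimension = sup over an open cover (scheme version) -/
theorem dim_eq_iSup_of_openCover {Z : Scheme.{u}} (𝒱 : Z.OpenCover) :
    topologicalKrullDim Z = ⨆ i, topologicalKrullDim (𝒱.X i) := by
  have hopen : ∀ i, IsOpenImmersion (𝒱.f i) := fun i => 𝒱.map_prop i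
  have h1 := dim_eq_iSup_of_isOpen_cover (F := Z) (fun i => Set.range (𝒱.f i))
    (fun i => (𝒱.f i).isOpenEmbedding.isOpen_range)
    (fun x => by
      obtain ⟨i, y, hy⟩ := 𝒱.exists_eq x
      exact ⟨i, y, hy⟩)
  rw [h1]
  congr 1
  funext i
  exact dim_eq_of_range_eq (Subtype.val : Set.range (𝒱.f i) → Z) (𝒱.f i)
    IsInducing.subtypeVal (𝒱.f i).isOpenEmbedding.isInducing (by rw [Subtype.range_coe])

theorem dim_eq_of_isPullback_spec_field {k k' : Type u} [Field k] [Field k']
    (ψ : CommRingCat.of k ⟶ CommRingCat.of k')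
    {Y Y' : Scheme.{u}} (g : Y ⟶ Spec (.of k)) (g' : Y' ⟶ Spec (.of k')) (e : Y' ⟶ Y)
    [LocallyOfFiniteType g] (hP : IsPullback e g' g (Spec.map ψ)) :
    topologicalKrullDim Y' = topologicalKrullDim Y := by
  have e1 : topologicalKrullDim Y' = topologicalKrullDim ↥(pullback g (Spec.map ψ)) :=
    (Scheme.homeoOfIso hP.isoPullback).isHomeomorph.topologicalKrullDim_eq
  let 𝒰 := Y.affineOpenCover
  let 𝒱 := Scheme.Pullback.openCoverOfLeft 𝒰.openCover g (Spec.map ψ)
  rw [e1, dim_eq_iSup_of_openCover 𝒱, dim_eq_iSup_of_openCover 𝒰.openCover]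
  congr 1
  funext i
  change topologicalKrullDim ↥(pullback (𝒰.f i ≫ g) (Spec.map ψ)) =
    topologicalKrullDim ↥(Spec (𝒰.X i))
  haveI : IsOpenImmersion (𝒰.f i) := 𝒰.openCover.map_prop i
  haveI : LocallyOfFiniteType (𝒰.f i ≫ g) := inferInstance
  obtain ⟨φ, hφ⟩ := Spec.map_surjective (𝒰.f i ≫ g)
  have hft : φ.hom.FiniteType := by
    rw [← HasRingHomProperty.Spec_iff (P := @LocallyOfFiniteType), hφ]
    infer_instance
  rw [← hφ]
  letI := φ.hom.toAlgebra
  letI := ψ.hom.toAlgebra
  haveI : Algebra.FiniteType k (𝒰.X i) := hft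
  have e2 : topologicalKrullDim ↥(pullback (Spec.map φ) (Spec.map ψ)) =
      topologicalKrullDim ↥(Spec (.of ((𝒰.X i) ⊗[k] k'))) :=
    (Scheme.homeoOfIso (pullbackSpecIso k (𝒰.X i) k')).isHomeomorph.topologicalKrullDim_eq
  rw [e2]
  change topologicalKrullDim (PrimeSpectrum ((𝒰.X i) ⊗[k] k')) =
    topologicalKrullDim (PrimeSpectrum (𝒰.X i))
  rw [PrimeSpectrum.topologicalKrullDim_eq_ringKrullDim,
    PrimeSpectrum.topologicalKrullDim_eq_ringKrullDim,
    ringKrullDim_eq_of_ringEquiv (Algebra.TensorProduct.comm k (𝒰.X i) k').toRingEquiv]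
  exact ringKrullDim_tensor_field_eq k k' (𝒰.X i)

end Sch

section Sch2
open AlgebraicGeometry CategoryTheory Limits Groth.Agent.Lib.H77FibDim Topology

theorem dim_eq_of_isPullback_field {Y Y' T T' : Scheme.{u}} (g : Y ⟶ T) (g' : Y' ⟶ T')
    (e : Y' ⟶ Y) (h : T' ⟶ T)
    [IsIntegral T] [Subsingleton T] [IsIntegral T'] [Subsingleton T'] [LocallyOfFiniteType g]
    (hP : IsPullback e g' g h) : topologicalKrullDim Y' = topologicalKrullDim Y := by
  letI : Field Γ(T, ⊤) := (isField_of_isIntegral_of_subsingleton T).toField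
  letI : Field Γ(T', ⊤) := (isField_of_isIntegral_of_subsingleton T').toField
  let α := T.isoSpec
  let β := T'.isoSpec
  obtain ⟨ψ, hψ⟩ := Spec.map_surjective (β.inv ≫ h ≫ α.hom)
  have hP' : IsPullback e (g' ≫ β.hom) (g ≫ α.hom) (Spec.map ψ) := by
    rw [hψ]
    exact hP.of_iso (Iso.refl _) (Iso.refl _) β α (by simp) (by simp) (by simp) (by simp)
  exact dim_eq_of_isPullback_spec_field (k := Γ(T, ⊤)) (k' := Γ(T', ⊤)) ψ (g ≫ α.hom)
    (g' ≫ β.hom) e hP'

end Sch2

end Groth.Agent.Lib.H77DimFieldExt
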