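import Groth.Agent.Lib.H56LocDimBC
import Groth.Agent.Lib.H56FibDimSup
import Groth.Agent.Lib.H77DimFieldExt
import Groth.Agent.Lib.TopKrullDim
import Groth.Agent.Lib.H30IrrFib
import Mathlib

/-!
helper30: invariance of the local fibre dimension under base change.
-/

set_option autoImplicit false
universe u
open CategoryTheory CategoryTheory.Limits AlgebraicGeometry

namespace Groth.Agent.Lib.H30FibBC

open Groth.Agent.Lib.H56LocDim

/-- the local dimension of a scheme locally of finite type over a field is invariant under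
extension of the base field -/
theorem localDim_eq_of_isPullback_field {F F' T T' : Scheme.{u}} (q : F ⟶ T) (q' : F' ⟶ T')
    (π : F' ⟶ F) (h : T' ⟶ T) [IsIntegral T] [Subsingleton T] [IsIntegral T'] [Subsingleton T']
    [LocallyOfFiniteType q] (hP : IsPullback π q' q h) (z' : F') :
    FlatMor.localDim F' z' = FlatMor.localDim F (π z') := by
  haveI : UniversallyOpen π := MorphismProperty.of_isPullback hP.flip inferInstance
  haveI : Flat π := MorphismProperty.of_isPullback hP.flip inferInstance
  apply le_antisymm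
  · obtain ⟨U, hzU, hU⟩ : ∃ U : F.Opens, π z' ∈ U ∧
        topologicalKrullDim (U : Set F) = FlatMor.localDim F (π z') :=
      Groth.Agent.Lib.TopKrullDim.exists_open_dim_eq_localDim (π z')
    rw [← hU]
    have hP' : IsPullback (π ∣_ U) ((π ⁻¹ᵁ U).ι ≫ q') (U.ι ≫ q) h :=
      (isPullback_morphismRestrict π U).paste_vert hP
    have hdim := Groth.Agent.Lib.H77DimFieldExt.dim_eq_of_isPullback_field (U.ι ≫ q)
      ((π ⁻¹ᵁ U).ι ≫ q') (π ∣_ U) h hP'
    have h1 := Groth.Agent.Lib.TopKrullDim.localDim_le_dim_open z' (π ⁻¹ᵁ U) hzU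
    exact h1.trans (le_of_eq hdim)
  · exact localDim_le_of_isOpenMap_of_generalizingMap π.base π.continuous π.isOpenMap
      (Flat.generalizingMap π) z'


set_option backward.isDefEq.respectTransparency.types false in
/-- **base change invariance of the local fibre dimension** -/
theorem fibreDimAt_eq_of_isPullback {X S X' S' : Scheme.{u}} (f : X ⟶ S) [LocallyOfFiniteType f]
    (g : S' ⟶ S) (g' : X' ⟶ X) (f' : X' ⟶ S') (hsq : IsPullback g' f' f g) (x' : X') :
    FlatMor.fibreDimAt f' x' = FlatMor.fibreDimAt f (g' x') := by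
  have hP := isPullback_fiberToSpecResidueField_of_isPullback hsq (f' x')
  haveI : LocallyOfFiniteType (f.fiberToSpecResidueField (g (f' x'))) :=
    MorphismProperty.pullback_snd _ _ inferInstance
  have h1 := localDim_eq_of_isPullback_field (f.fiberToSpecResidueField (g (f' x')))
    (f'.fiberToSpecResidueField (f' x')) _ (Spec.map (g.residueFieldMap (f' x'))) hP
    (f'.asFiber x')
  have hy : f (g' x') = g (f' x') := by
    have := congrArg (fun φ : X' ⟶ S => φ x') hsq.w
    exact this
  refine h1.trans (localDim_fiber_eq f (g' x') (g (f' x')) hy _ ?_)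
  have h2 : pullback.map f' (S'.fromSpecResidueField (f' x')) f (S.fromSpecResidueField (g (f' x')))
      g' (Spec.map (g.residueFieldMap (f' x'))) g hsq.w.symm (by simp) ≫ f.fiberι (g (f' x')) =
      f'.fiberι (f' x') ≫ g' := pullback.lift_fst _ _ _
  have h3 := congrArg (fun φ : f'.fiber (f' x') ⟶ X => φ (f'.asFiber x')) h2
  simp only [Scheme.Hom.comp_apply] at h3
  rw [f'.fiberι_asFiber] at h3
  exact h3


open Groth.Agent.Lib.H30DimRel Groth.Agent.Lib.H30FibRes Groth.Agent.Lib.H30FlatDim
  Groth.Agent.Lib.H30IrrFib in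
/-- all irreducible components of all fibres have dimension `d` iff the local fibre dimension
is `d` everywhere -/
theorem hasRelDim_iff {X S : Scheme.{u}} (f : X ⟶ S) [LocallyOfFiniteType f] (d : ℕ) :
    Cyc.HasRelDim f d ↔ ∀ x : X, FlatMor.fibreDimAt f x = (d : WithBot ℕ∞) := by
  constructor
  · intro h x
    obtain ⟨w, hwx, -, hwmax, hw⟩ := exists_rt_eq_fibreDimAt f x
    have hmax : ∀ x' : X, f x' = f w → x' ⤳ w → x' = w := fun x' hx' hsp =>
      hwmax x' (hx'.trans hwx) hsp
    have h1 := trdeg_of_hasRelDim f d h w hmax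
    rw [← hw, rt_eq_of_trdeg_eq f w d h1]
  · intro h y T hT
    obtain ⟨z, hz⟩ : ∃ z, IsGenericPoint z T :=
      QuasiSober.sober hT.1 (isClosed_of_mem_irreducibleComponents T hT)
    have hy : f (f.fiberι y z) = y := by
      have : f.fiberι y z ∈ Set.range (f.fiberι y) := ⟨z, rfl⟩
      rw [f.range_fiberι y] at this
      exact this
    obtain ⟨hdimT, hmax⟩ := dim_component_eq_rt f (f.fiberι y z) y hy z rfl T hT hz
    obtain ⟨w, hwx, hwsp, -, hw⟩ := exists_rt_eq_fibreDimAt f (f.fiberι y z)
    rw [hmax w hwx hwsp, h] at hw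
    rw [hdimT, hw]

end Groth.Agent.Lib.H30FibBC
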