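import Groth.Agent.Lib.AlgSpQFAt91
import Groth.Agent.Lib.H30FibBC
import Groth.Agent.Lib.H86AlgSpOpen
import Groth.Agent.Lib.AlgSpLargestOpen

set_option autoImplicit false
universe u
open CategoryTheory CategoryTheory.Limits AlgebraicGeometry Opposite

namespace Groth.Agent.Lib.AlgSpQFBC91

open AlgSp Groth.Agent.Lib.AlgSpPoints Groth.Agent.Lib.AlgSpDecentSpec Groth.Agent.Lib.QFAt91
  Groth.Agent.Lib.AlgSpTrdeg91 Groth.Agent.Lib.AlgSpQFAt91 Groth.Agent.Lib.AlgSpBasic

variable {S : Scheme.{u}}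

/-- **Base change chart lemma.**  For a cartesian square of algebraic spaces and a point `x''` of the base change, there are
chart diagrams of `f` and of its base change `f''` which form a cartesian square of schemes. -/
theorem exists_baseChange_chart {X Y X'' Y'' : Sp S} (hX : IsAlgSpace X) (hY : IsAlgSpace Y)
    (hX'' : IsAlgSpace X'') (hY'' : IsAlgSpace Y'')
    {f : X ⟶ Y} {g : Y'' ⟶ Y} {b : X'' ⟶ X} {f'' : X'' ⟶ Y''} (sq : IsPullback b f'' f g)
    (x'' : Points X'') :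
    ∃ (U V U'' V'' : Over S) (a : (yon S).obj U ⟶ X) (c : (yon S).obj V ⟶ Y)
      (a'' : (yon S).obj U'' ⟶ X'') (c'' : (yon S).obj V'' ⟶ Y'')
      (h : U ⟶ V) (h'' : U'' ⟶ V'') (gU : U'' ⟶ U) (gV : V'' ⟶ V) (u'' : ↥U''.left),
      RepWith @Etale a ∧ RepWith @Etale c ∧ RepWith @Etale a'' ∧ RepWith @Etale c'' ∧
      a ≫ f = (yon S).map h ≫ c ∧ a'' ≫ f'' = (yon S).map h'' ≫ c'' ∧
      a'' ≫ b = (yon S).map gU ≫ a ∧ c'' ≫ g = (yon S).map gV ≫ c ∧
      IsPullback gU.left h''.left h.left gV.left ∧ Points.ofPt a'' u'' = x'' := by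
  -- charts of `Y''` and `Y`
  obtain ⟨V₀, c₀, hc₀, hc₀s⟩ := hY''.atlas
  obtain ⟨v₀, hv₀⟩ := Groth.Agent.Lib.H86AlgSpPoints.ofPt_surjective hc₀s (Points.map f'' x'')
  obtain ⟨V, c, hc, hcs⟩ := hY.atlas
  obtain ⟨v, hv⟩ := Groth.Agent.Lib.H86AlgSpPoints.ofPt_surjective hcs
    (Points.map g (Points.ofPt c₀ v₀))
  obtain ⟨V'', s, gV, v'', hs, hc'', hcomm, hsv, hgv, hpt⟩ :=
    exists_chart_over g c₀ hc₀ c hc v₀ v hv
  obtain ⟨c'', hc''def⟩ : ∃ c'' : (yon S).obj V'' ⟶ Y'', c'' = (yon S).map s ≫ c₀ := ⟨_, rfl⟩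
  rw [← hc''def] at hc'' hcomm hpt
  -- `W'' = X'' ×_{Y''} V''`
  have sqW'' := IsPullback.of_hasPullback f'' c''
  have hW'' : IsAlgSpace (pullback f'' c'') :=
    isAlgSpace_of_isPullback hX'' (IsAlgSpace.yon_obj V'')
      (fun _ a => hY''.representable_from_yon a) sqW''
  obtain ⟨w'', hw1, hw2⟩ := exists_point_of_isPullback sqW'' x'' (Points.schemeHomeo V'' v'')
    (by rw [← Groth.Agent.Lib.AlgSpValuative.ofPt_eq_map_schemeHomeo', hpt, hv₀])
  -- `W = X ×_Y V`
  have sqW := IsPullback.of_hasPullback f c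
  have hW : IsAlgSpace (pullback f c) :=
    isAlgSpace_of_isPullback hX (IsAlgSpace.yon_obj V)
      (fun _ a => hY.representable_from_yon a) sqW
  have hβc : (pullback.fst f'' c'' ≫ b) ≫ f = (pullback.snd f'' c'' ≫ (yon S).map gV) ≫ c := by
    rw [Category.assoc, sq.w, ← Category.assoc, sqW''.w, Category.assoc, Category.assoc, hcomm]
  set β : pullback f'' c'' ⟶ pullback f c :=
    pullback.lift (pullback.fst f'' c'' ≫ b) (pullback.snd f'' c'' ≫ (yon S).map gV) hβc with hβ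
  have hβ1 : β ≫ pullback.fst f c = pullback.fst f'' c'' ≫ b := pullback.lift_fst _ _ _
  have hβ2 : β ≫ pullback.snd f c = pullback.snd f'' c'' ≫ (yon S).map gV := pullback.lift_snd _ _ _
  have sqβ : IsPullback β (pullback.snd f'' c'') (pullback.snd f c) ((yon S).map gV) := by
    have outer := sqW''.paste_horiz sq
    rw [← hβ1, hcomm] at outer
    exact IsPullback.of_right outer hβ2 sqW
  -- chart of `W`
  obtain ⟨U, e, he, hes⟩ := hW.atlas
  obtain ⟨u, hu⟩ := Groth.Agent.Lib.H86AlgSpPoints.ofPt_surjective hes (Points.map β w'')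
  have ha : RepWith @Etale (e ≫ pullback.fst f c) :=
    MorphismProperty.comp_mem _ _ _ he (repWith_fst_of_isPullback _ sqW hc)
  obtain ⟨h, hh⟩ := (yon S).map_surjective (e ≫ pullback.snd f c)
  have hcf : (e ≫ pullback.fst f c) ≫ f = (yon S).map h ≫ c := by
    rw [Category.assoc, sqW.w, ← Category.assoc, hh]
  -- the pullback of schemes
  have sqA : IsPullback (pullback.fst h gV) (pullback.snd h gV) h gV := IsPullback.of_hasPullback h gV
  have sqA' := sqA.map (yon S)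
  have sqAl := sqA.map (Over.forget S)
  have he''c : ((yon S).map (pullback.fst h gV) ≫ e) ≫ pullback.snd f c =
      (yon S).map (pullback.snd h gV) ≫ (yon S).map gV := by
    rw [Category.assoc, ← hh]; exact sqA'.w
  set e'' : (yon S).obj (pullback h gV) ⟶ pullback f'' c'' :=
    sqβ.lift ((yon S).map (pullback.fst h gV) ≫ e) ((yon S).map (pullback.snd h gV)) he''c with he''def
  have he''1 : e'' ≫ β = (yon S).map (pullback.fst h gV) ≫ e := sqβ.lift_fst _ _ _
  have he''2 : e'' ≫ pullback.snd f'' c'' = (yon S).map (pullback.snd h gV) := sqβ.lift_snd _ _ _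
  have sqe : IsPullback ((yon S).map (pullback.fst h gV)) e'' e β := by
    have outer : IsPullback ((yon S).map (pullback.fst h gV)) (e'' ≫ pullback.snd f'' c'')
        (e ≫ pullback.snd f c) ((yon S).map gV) := by
      rw [he''2, ← hh]; exact sqA'
    exact IsPullback.of_bot outer he''1.symm sqβ
  have he'' : RepWith @Etale e'' := repWith_fst_of_isPullback _ sqe.flip he
  have ha'' : RepWith @Etale (e'' ≫ pullback.fst f'' c'') :=
    MorphismProperty.comp_mem _ _ _ he'' (repWith_fst_of_isPullback _ sqW'' hc'')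
  -- the point
  obtain ⟨p, hp1, hp2⟩ := exists_point_of_isPullback sqe (Points.schemeHomeo U u) w''
    (by rw [← Groth.Agent.Lib.AlgSpValuative.ofPt_eq_map_schemeHomeo', hu])
  obtain ⟨u'', rfl⟩ := (Points.schemeHomeo _).surjective p
  refine ⟨U, V, pullback h gV, V'', e ≫ pullback.fst f c, c, e'' ≫ pullback.fst f'' c'', c'', h,
    pullback.snd h gV, pullback.fst h gV, gV, u'', ha, hc, ha'', hc'', hcf, ?_, ?_, hcomm, sqAl, ?_⟩
  · rw [Category.assoc, sqW''.w, ← Category.assoc, he''2]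
  · rw [Category.assoc, ← hβ1, ← Category.assoc, he''1, Category.assoc]
  · rw [Groth.Agent.Lib.AlgSpValuative.ofPt_eq_map_schemeHomeo', Points.map_comp, hp2, hw1]

/-- The locus of points of `X` at which `f` is quasi-finite. -/
def qfLocus {X Y : Sp S} (f : X ⟶ Y) : Set (Points X) :=
  {x | HasAtMor (fun _ _ h u => h.QuasiFiniteAt u) f x}

/-- Membership in the quasi-finite locus can be tested on any chart diagram. -/
theorem mem_qfLocus_iff {X Y : Sp S} (f : X ⟶ Y) (hf : LocP @LocallyOfFiniteType f)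
    {U V : Over S} (a : (yon S).obj U ⟶ X) (c : (yon S).obj V ⟶ Y) (h : U ⟶ V)
    (ha : RepWith @Etale a) (hc : RepWith @Etale c) (hcomm : a ≫ f = (yon S).map h ≫ c) (u : ↥U.left) :
    Points.ofPt a u ∈ qfLocus f ↔ h.left.QuasiFiniteAt u := by
  constructor
  · rintro ⟨U', V', a', c', h', u', ha', hc', hcomm', hu', hq⟩
    exact (quasiFiniteAt_chart_indep f hf a' c' h' a c h ha' hc' ha hc hcomm' hcomm u' u hu').1 hq
  · intro hq
    exact ⟨U, V, a, c, h, u, ha, hc, hcomm, rfl, hq⟩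

/-- The "quasi-finite on an open neighbourhood" form of the predicate. -/
theorem hasAtMor_opens_iff {X Y : Sp S} (f : X ⟶ Y) (hf : LocP @LocallyOfFiniteType f)
    (x : Points X) :
    HasAtMor (fun U _ h u => ∃ W : U.Opens, u ∈ W ∧ LocallyQuasiFinite (W.ι ≫ h) ∧
      LocallyOfFiniteType (W.ι ≫ h)) f x ↔ x ∈ qfLocus f := by
  constructor
  · rintro ⟨U, V, a, c, h, u, ha, hc, hcomm, hu, hq⟩
    have : LocallyOfFiniteType h.left := hf a c h ha hc hcomm
    exact ⟨U, V, a, c, h, u, ha, hc, hcomm, hu, (exists_opens_lqf_iff h.left u).1 hq⟩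
  · rintro ⟨U, V, a, c, h, u, ha, hc, hcomm, hu, hq⟩
    have : LocallyOfFiniteType h.left := hf a c h ha hc hcomm
    exact ⟨U, V, a, c, h, u, ha, hc, hcomm, hu, (exists_opens_lqf_iff h.left u).2 hq⟩

/-- The quasi-finite locus is open. -/
theorem isOpen_qfLocus {X Y : Sp S} (f : X ⟶ Y) (hf : LocP @LocallyOfFiniteType f) :
    IsOpen (qfLocus f) := by
  rw [isOpen_iff_forall_mem_open]
  rintro x ⟨U, V, a, c, h, u, ha, hc, hcomm, rfl, hq⟩
  have : LocallyOfFiniteType h.left := hf a c h ha hc hcomm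
  refine ⟨Points.ofPt a '' (h.left.quasiFiniteLocus : Set ↥U.left), ?_,
    Groth.Agent.Lib.H86AlgSpPoints.isOpenMap_ofPt ha _ h.left.quasiFiniteLocus.isOpen, ⟨u, hq, rfl⟩⟩
  rintro _ ⟨u', hu', rfl⟩
  exact (mem_qfLocus_iff f hf a c h ha hc hcomm u').2 hu'

/-- **The quasi-finite locus commutes with base change.** -/
theorem mem_qfLocus_baseChange {X Y X'' Y'' : Sp S} (hX : IsAlgSpace X) (hY : IsAlgSpace Y)
    (hX'' : IsAlgSpace X'') (hY'' : IsAlgSpace Y'')
    {f : X ⟶ Y} {g : Y'' ⟶ Y} {b : X'' ⟶ X} {f'' : X'' ⟶ Y''} (sq : IsPullback b f'' f g)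
    (hf : LocP @LocallyOfFiniteType f) (x'' : Points X'') :
    Points.map b x'' ∈ qfLocus f ↔ x'' ∈ qfLocus f'' := by
  have hf'' : LocP @LocallyOfFiniteType f'' :=
    Groth.Agent.Lib.AlgSpLocP.locP_of_isPullback Groth.Agent.Lib.AlgSpLocP.etLocalClass_lft hX hY hY''
      sq hf
  obtain ⟨U, V, U'', V'', a, c, a'', c'', h, h'', gU, gV, u'', ha, hc, ha'', hc'', hcf, hcf'', hab, -,
    sqA, rfl⟩ := exists_baseChange_chart hX hY hX'' hY'' sq x''
  have : LocallyOfFiniteType h.left := hf a c h ha hc hcf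
  have : LocallyOfFiniteType h''.left := hf'' a'' c'' h'' ha'' hc'' hcf''
  have hpt : Points.map b (Points.ofPt a'' u'') = Points.ofPt a (gU.left u'') := by
    rw [Points.map_ofPt, hab, ofPt_yon_map_comp]
  rw [hpt, mem_qfLocus_iff f hf a c h ha hc hcf, mem_qfLocus_iff f'' hf'' a'' c'' h'' ha'' hc'' hcf'',
    ← fibreDimAt_eq_zero_iff, ← fibreDimAt_eq_zero_iff,
    Groth.Agent.Lib.H30FibBC.fibreDimAt_eq_of_isPullback h.left gV.left gU.left h''.left sqA u'']

/-- The restriction of `f` to its quasi-finite locus is locally quasi-finite. -/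
theorem locP_lqf_openSubι_comp {X Y : Sp S} (hX : IsAlgSpace X) (hY : IsAlgSpace Y) (f : X ⟶ Y)
    (hf : LocP @LocallyOfFiniteType f) {W : Set (Points X)} (hW : IsOpen W) (hWq : W ⊆ qfLocus f) :
    LocP (@LocallyQuasiFinite ⊓ @LocallyOfFiniteType)
      (Groth.Agent.Lib.H86AlgSpOpen.openSubι X W ≫ f) := by
  have hj := Groth.Agent.Lib.H86AlgSpOpen.openSubι_repWith (F := X) hW
  have hje := Groth.Agent.Lib.AlgSpLargestOpen.repWith_etale_of_isOpenImmersion hj
  have hX' := Groth.Agent.Lib.H86AlgSpOpen.isAlgSpace_openSub hX hW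
  have hjf : LocP @LocallyOfFiniteType (Groth.Agent.Lib.H86AlgSpOpen.openSubι X W ≫ f) :=
    Groth.Agent.Lib.AlgSpLocP.locP_comp_of_etale _ _ hje f hf
  rw [locP_lqf_iff_fibreDimAt hX' hY _ hjf]
  intro x'
  obtain ⟨U, V, a, c, h, u, ha, hc, hcomm, rfl⟩ := exists_chart_diagram hX' hY
    (Groth.Agent.Lib.H86AlgSpOpen.openSubι X W ≫ f) x'
  have : LocallyOfFiniteType h.left := hjf a c h ha hc hcomm
  refine ⟨U, V, a, c, h, u, ha, hc, hcomm, rfl, ?_⟩
  show FlatMor.fibreDimAt h.left u = 0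
  rw [fibreDimAt_eq_zero_iff]
  have ha' : RepWith @Etale (a ≫ Groth.Agent.Lib.H86AlgSpOpen.openSubι X W) :=
    MorphismProperty.comp_mem _ _ _ ha hje
  have hcomm' : (a ≫ Groth.Agent.Lib.H86AlgSpOpen.openSubι X W) ≫ f = (yon S).map h ≫ c := by
    rw [Category.assoc]; exact hcomm
  rw [← mem_qfLocus_iff f hf _ c h ha' hc hcomm' u]
  apply hWq
  have hmem : Points.ofPt (a ≫ Groth.Agent.Lib.H86AlgSpOpen.openSubι X W) u ∈
      Set.range (Points.map (Groth.Agent.Lib.H86AlgSpOpen.openSubι X W)) := ⟨Points.ofPt a u, rfl⟩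
  rwa [Groth.Agent.Lib.H86AlgSpOpen.range_map_openSubι] at hmem

theorem one_le_of_nonneg_of_ne_zero {a : WithBot ℕ∞} (h0 : 0 ≤ a) (h1 : a ≠ 0) : 1 ≤ a := by
  induction a using WithBot.recBotCoe with
  | bot => simp at h0
  | coe n =>
    rw [show (1 : WithBot ℕ∞) = ((1 : ℕ∞) : WithBot ℕ∞) from rfl, WithBot.coe_le_coe,
      Order.one_le_iff_ne_zero]
    rintro rfl
    exact h1 rfl

/-- Outside of the quasi-finite locus the relative dimension is at least one. -/
theorem one_le_fibreDimAt_of_not_mem {X Y : Sp S} (hX : IsAlgSpace X) (hY : IsAlgSpace Y) (f : X ⟶ Y)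
    (hf : LocP @LocallyOfFiniteType f) (x : Points X) (hx : x ∉ qfLocus f) :
    HasAtMor (fun _ _ h u => 1 ≤ FlatMor.fibreDimAt h u) f x := by
  obtain ⟨U, V, a, c, h, u, ha, hc, hcomm, rfl⟩ := exists_chart_diagram hX hY f x
  have : LocallyOfFiniteType h.left := hf a c h ha hc hcomm
  refine ⟨U, V, a, c, h, u, ha, hc, hcomm, rfl, one_le_of_nonneg_of_ne_zero
    (Groth.Agent.Lib.TopKrullDim.localDim_nonneg _) ?_⟩
  rw [Ne, fibreDimAt_eq_zero_iff, ← mem_qfLocus_iff f hf a c h ha hc hcomm u]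
  exact hx

end Groth.Agent.Lib.AlgSpQFBC91
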