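import Mathlib.RingTheory.Finiteness.Projective
import Mathlib.RingTheory.LocalRing.ResidueField.Fiber
import Mathlib.LinearAlgebra.Charpoly.BaseChange
import Mathlib.LinearAlgebra.Determinant
import Mathlib.Algebra.Algebra.Bilinear

/-!
# A norm-like element for finite projective algebras (helper13)

For a ring map `A → B` making `B` a finite projective `A`-module and `b : B` we produce
`g : A` (the determinant of multiplication by `b`, extended by the identity on a complement of
`B` in a finite free module) such that for every prime `p` of `A`: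
`g ∉ p` iff `b` lies in no prime of `B` over `p`.
-/

set_option autoImplicit false

namespace Groth.Agent.Lib.NormLocus13

open TensorProduct

section abstract

variable {R : Type*} [CommRing R] {M F : Type*} [AddCommGroup M] [Module R M]
  [AddCommGroup F] [Module R F]

/-- Extend an endomorphism of a retract `M` of `F` by the identity on the complement. -/
def ext (i : M →ₗ[R] F) (s : F →ₗ[R] M) (φ : M →ₗ[R] M) : F →ₗ[R] F :=
  i ∘ₗ φ ∘ₗ s + (LinearMap.id - i ∘ₗ s)

variable (i : M →ₗ[R] F) (s : F →ₗ[R] M)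

theorem ext_apply (φ : M →ₗ[R] M) (x : F) : ext i s φ x = i (φ (s x)) + (x - i (s x)) := rfl

variable {i s} (h : s ∘ₗ i = LinearMap.id)
include h

theorem s_i (m : M) : s (i m) = m := LinearMap.congr_fun h m

theorem s_ext (φ : M →ₗ[R] M) (x : F) : s (ext i s φ x) = φ (s x) := by
  rw [ext_apply, map_add, map_sub, s_i h, s_i h]; abel

theorem ext_i (φ : M →ₗ[R] M) (m : M) : ext i s φ (i m) = i (φ m) := by
  rw [ext_apply, s_i h]; abel

theorem ext_mul (φ φ' : M →ₗ[R] M) : ext i s φ ∘ₗ ext i s φ' = ext i s (φ ∘ₗ φ') := by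
  ext x
  simp only [LinearMap.comp_apply]
  rw [ext_apply i s φ, s_ext h, ext_apply i s φ', ext_apply, LinearMap.comp_apply]
  abel

omit h in
theorem ext_one : ext i s LinearMap.id = LinearMap.id := by
  ext x
  rw [ext_apply]; simp

theorem isUnit_ext_iff (φ : M →ₗ[R] M) :
    IsUnit (ext i s φ : Module.End R F) ↔ IsUnit (φ : Module.End R M) := by
  constructor
  · intro hu
    obtain ⟨ψ', h1, h2⟩ := isUnit_iff_exists.mp hu
    refine isUnit_iff_exists.mpr ⟨s ∘ₗ ψ' ∘ₗ i, ?_, ?_⟩
    · ext m
      change φ (s (ψ' (i m))) = m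
      rw [← s_ext h φ]
      have : ext i s φ (ψ' (i m)) = i m := LinearMap.congr_fun h1 (i m)
      rw [this, s_i h]
    · ext m
      change s (ψ' (i (φ m))) = m
      rw [← ext_i h φ]
      have : ψ' (ext i s φ (i m)) = i m := LinearMap.congr_fun h2 (i m)
      rw [this, s_i h]
  · intro hu
    obtain ⟨φ', h1, h2⟩ := isUnit_iff_exists.mp hu
    refine isUnit_iff_exists.mpr ⟨ext i s φ', ?_, ?_⟩
    · change ext i s φ ∘ₗ ext i s φ' = LinearMap.id
      rw [ext_mul h]
      have : φ ∘ₗ φ' = LinearMap.id := h1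
      rw [this, ext_one]
    · change ext i s φ' ∘ₗ ext i s φ = LinearMap.id
      rw [ext_mul h]
      have : φ' ∘ₗ φ = LinearMap.id := h2
      rw [this, ext_one]

end abstract

section baseChange

variable {A : Type*} [CommRing A] (k : Type*) [CommRing k] [Algebra A k]
  {M F : Type*} [AddCommGroup M] [Module A M] [AddCommGroup F] [Module A F]

theorem baseChange_ext (i : M →ₗ[A] F) (s : F →ₗ[A] M) (φ : M →ₗ[A] M) :
    (ext i s φ).baseChange k = ext (i.baseChange k) (s.baseChange k) (φ.baseChange k) := by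
  unfold ext
  rw [LinearMap.baseChange_add, LinearMap.baseChange_sub, LinearMap.baseChange_comp,
    LinearMap.baseChange_comp, LinearMap.baseChange_comp, LinearMap.baseChange_id]

theorem baseChange_mulLeft {B : Type*} [CommRing B] [Algebra A B] (b : B) :
    (Algebra.lmul A B b).baseChange k = Algebra.lmul k (k ⊗[A] B) (1 ⊗ₜ[A] b) := by
  ext x
  simp

end baseChange

/-- The norm-like element. -/
theorem exists_normLike (A B : Type*) [CommRing A] [CommRing B] [Algebra A B]
    [Module.Finite A B] [Module.Projective A B] (b : B) :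
    ∃ g : A, ∀ p : PrimeSpectrum A, g ∉ p.asIdeal ↔
      ∀ q : PrimeSpectrum B, q.comap (algebraMap A B) = p → b ∉ q.asIdeal := by
  obtain ⟨n, s, i, -, -, hsi⟩ := Module.Finite.exists_comp_eq_id_of_projective A B
  let ψ : (Fin n → A) →ₗ[A] (Fin n → A) := ext i s (Algebra.lmul A B b)
  refine ⟨LinearMap.det ψ, fun p => ?_⟩
  let k := p.asIdeal.ResidueField
  have hk : (s.baseChange k) ∘ₗ (i.baseChange k) = LinearMap.id := by
    rw [← LinearMap.baseChange_comp, hsi, LinearMap.baseChange_id]
  have h1 : LinearMap.det ψ ∉ p.asIdeal ↔ IsUnit ((1 : k) ⊗ₜ[A] b) := by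
    rw [← Ideal.algebraMap_residueField_eq_zero (I := p.asIdeal), ← ne_eq, ← isUnit_iff_ne_zero,
      ← LinearMap.det_baseChange, ← LinearMap.isUnit_iff_isUnit_det, baseChange_ext,
      isUnit_ext_iff hk, baseChange_mulLeft, Algebra.lmul_isUnit_iff]
  rw [h1]
  constructor
  · intro hu q hq hb
    let Q := PrimeSpectrum.preimageEquivFiber A B p ⟨q, hq⟩
    have hQ : ((PrimeSpectrum.preimageEquivFiber A B p).symm Q).1 = q := by
      simp [Q]
    have hbQ : (1 : k) ⊗ₜ[A] b ∈ Q.asIdeal := by
      have : b ∈ (((PrimeSpectrum.preimageEquivFiber A B p).symm Q).1).asIdeal := by rw [hQ]; exact hb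
      simpa using this
    exact Q.2.ne_top (Ideal.eq_top_of_isUnit_mem _ hbQ hu)
  · intro hq
    by_contra hu
    obtain ⟨Q, hQmax, hbQ⟩ := exists_max_ideal_of_mem_nonunits (mem_nonunits_iff.mpr hu)
    let Q' : PrimeSpectrum (p.asIdeal.Fiber B) := ⟨Q, hQmax.isPrime⟩
    let q := (PrimeSpectrum.preimageEquivFiber A B p).symm Q'
    refine hq q.1 q.2 ?_
    simp only [q, PrimeSpectrum.preimageEquivFiber_symm_apply_coe, PrimeSpectrum.comap_asIdeal,
      Ideal.mem_comap]
    exact hbQ

end Groth.Agent.Lib.NormLocus13
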