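import Groth.Prelude.Def_Grpd
import Groth.Agent.Lib.NormLocus13
import Groth.Agent.Lib.GrpdPts
import Mathlib.AlgebraicGeometry.Morphisms.QuasiFinite
import Mathlib.AlgebraicGeometry.Morphisms.Integral
import Mathlib.AlgebraicGeometry.Morphisms.FinitePresentation
import Mathlib.AlgebraicGeometry.Morphisms.Flat
import Mathlib.RingTheory.Finiteness.ModuleFinitePresentation
import Mathlib.RingTheory.Flat.EquationalCriterion

/-!
# Saturation for groupoid schemes and the norm locus of a finite locally free morphism (helper13)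

* `exists_basicOpen_eq`: for `φ : Y ⟶ X` finite, flat, locally of finite presentation, `D ⊆ X` an
  affine open and `b ∈ Γ(Y, φ⁻¹D)` there is `g ∈ Γ(X, D)` whose non-vanishing locus is the set of
  `x ∈ D` over which `b` vanishes nowhere.
* `sat G D`: the points of `U` whose whole orbit lies in `D`; it is invariant, open if `D` is open
  and `s` is finite.
-/

set_option autoImplicit false
universe u

namespace Groth.Agent.Lib.GrpdSat13

open AlgebraicGeometry CategoryTheory CategoryTheory.Limits Grpd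

section NormLocus

variable {X Y : Scheme.{u}}

theorem mem_basicOpen_iff_notMem_primeIdealOf {D : X.Opens} (hD : IsAffineOpen D) (g : Γ(X, D))
    (x : X) (hx : x ∈ D) :
    x ∈ X.basicOpen g ↔ g ∉ (hD.primeIdealOf ⟨x, hx⟩).asIdeal := by
  have h1 : hD.fromSpec (hD.primeIdealOf ⟨x, hx⟩) = x := hD.fromSpec_primeIdealOf ⟨x, hx⟩
  have h2 : hD.primeIdealOf ⟨x, hx⟩ ∈ hD.fromSpec ⁻¹ᵁ X.basicOpen g ↔ x ∈ X.basicOpen g := by
    change hD.fromSpec _ ∈ X.basicOpen g ↔ _
    rw [h1]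
  rw [← h2, hD.fromSpec_preimage_basicOpen]
  exact PrimeSpectrum.mem_basicOpen _ _

theorem exists_basicOpen_eq (φ : Y ⟶ X) [IsFinite φ] [Flat φ] [LocallyOfFinitePresentation φ]
    {D : X.Opens} (hD : IsAffineOpen D) (b : Γ(Y, φ ⁻¹ᵁ D)) :
    ∃ g : Γ(X, D), ∀ x ∈ D, (x ∈ X.basicOpen g ↔ ∀ y, φ y = x → y ∈ Y.basicOpen b) := by
  have hM : IsAffineOpen (φ ⁻¹ᵁ D) := hD.preimage φ
  let ϕ : Γ(X, D) →+* Γ(Y, φ ⁻¹ᵁ D) := (φ.appLE D (φ ⁻¹ᵁ D) le_rfl).hom
  have hfin : ϕ.Finite := by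
    have := IsFinite.finite_app φ D hD
    rwa [Scheme.Hom.app_eq_appLE] at this
  have hflat : ϕ.Flat :=
    HasRingHomProperty.appLE (P := @Flat) φ inferInstance ⟨D, hD⟩ ⟨_, hM⟩ le_rfl
  have hfp : ϕ.FinitePresentation :=
    HasRingHomProperty.appLE (P := @LocallyOfFinitePresentation) φ inferInstance ⟨D, hD⟩ ⟨_, hM⟩
      le_rfl
  algebraize [ϕ]
  have : Module.FinitePresentation Γ(X, D) Γ(Y, φ ⁻¹ᵁ D) :=
    Module.FinitePresentation.of_finite_of_finitePresentation ..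
  have : Module.Projective Γ(X, D) Γ(Y, φ ⁻¹ᵁ D) := Module.Flat.projective_of_finitePresentation
  obtain ⟨g, hg⟩ := NormLocus13.exists_normLike Γ(X, D) Γ(Y, φ ⁻¹ᵁ D) b
  refine ⟨g, fun x hx => ?_⟩
  rw [mem_basicOpen_iff_notMem_primeIdealOf hD g x hx, hg]
  constructor
  · intro h y hy
    have hyM : y ∈ φ ⁻¹ᵁ D := by
      change φ y ∈ D
      rw [hy]; exact hx
    rw [mem_basicOpen_iff_notMem_primeIdealOf hM b y hyM]
    apply h
    have := IsAffineOpen.comap_primeIdealOf_appLE D hD (φ ⁻¹ᵁ D) hM le_rfl hyM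
    subst hy
    exact this
  · intro h q hq
    have hyM : hM.fromSpec q ∈ φ ⁻¹ᵁ D := by
      have : hM.fromSpec q ∈ Set.range hM.fromSpec := ⟨q, rfl⟩
      rw [hM.range_fromSpec] at this
      exact this
    have hq' : hM.primeIdealOf ⟨hM.fromSpec q, hyM⟩ = q :=
      hM.fromSpec.isOpenEmbedding.injective (hM.fromSpec_primeIdealOf ⟨_, hyM⟩)
    have e := IsAffineOpen.comap_primeIdealOf_appLE D hD (φ ⁻¹ᵁ D) hM le_rfl hyM
    rw [hq'] at e
    have e2 : hD.primeIdealOf ⟨x, hx⟩ = hD.primeIdealOf ⟨φ (hM.fromSpec q), hyM⟩ :=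
      hq.symm.trans e
    have e3 : φ (hM.fromSpec q) = x := by
      have := congrArg hD.fromSpec e2
      rw [hD.fromSpec_primeIdealOf, hD.fromSpec_primeIdealOf] at this
      exact this.symm
    have := h _ e3
    rw [mem_basicOpen_iff_notMem_primeIdealOf hM b _ hyM, hq'] at this
    exact this

end NormLocus

section Sat

variable {S : Scheme.{u}} (G : GroupoidScheme S)

theorem s_e (w : G.U) : G.s (G.e w) = w := by
  rw [← Scheme.Hom.comp_apply, G.e_s]; rfl

theorem t_e (w : G.U) : G.t (G.e w) = w := by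
  rw [← Scheme.Hom.comp_apply, G.e_t]; rfl

theorem s_i (r : G.R) : G.s (G.i r) = G.t r := by
  rw [← Scheme.Hom.comp_apply, G.i_s]

theorem t_i (r : G.R) : G.t (G.i r) = G.s r := by
  rw [← Scheme.Hom.comp_apply, G.i_t]

/-- Composable arrows (points) have a composite (point). -/
theorem exists_comp (r₂ r₁ : G.R) (h : G.s r₂ = G.t r₁) :
    ∃ r₃ : G.R, G.s r₃ = G.s r₁ ∧ G.t r₃ = G.t r₂ := by
  obtain ⟨z, hz2, hz1⟩ := Scheme.Pullback.exists_preimage_pullback (f := G.s) (g := G.t) r₂ r₁ h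
  refine ⟨G.c z, ?_, ?_⟩
  · have : G.c ≫ G.s = pullback.snd G.s G.t ≫ G.s := by
      rw [Lib.GrpdPts.c_eq_cmp, Lib.GrpdPts.cmp_s pullback.condition]
    rw [← Scheme.Hom.comp_apply, this, Scheme.Hom.comp_apply, hz1]
  · have : G.c ≫ G.t = pullback.fst G.s G.t ≫ G.t := by
      rw [Lib.GrpdPts.c_eq_cmp, Lib.GrpdPts.cmp_t pullback.condition]
    rw [← Scheme.Hom.comp_apply, this, Scheme.Hom.comp_apply, hz2]

/-- The points of `U` all of whose orbit lies in `D`. -/
def sat (D : Set G.U) : Set G.U := {w | ∀ r : G.R, G.s r = w → G.t r ∈ D}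

theorem sat_subset (D : Set G.U) : sat G D ⊆ D := fun w hw => by
  have := hw (G.e w) (s_e G w)
  rwa [t_e] at this

theorem sat_mono {D D' : Set G.U} (h : D ⊆ D') : sat G D ⊆ sat G D' :=
  fun _ hw r hr => h (hw r hr)

theorem t_mem_sat_of_s_mem_sat (D : Set G.U) (r : G.R) (h : G.s r ∈ sat G D) :
    G.t r ∈ sat G D := by
  intro r' hr'
  obtain ⟨r₃, h3s, h3t⟩ := exists_comp G r' r hr'
  rw [← h3t]
  exact h r₃ h3s

theorem s_mem_sat_iff_t_mem_sat (D : Set G.U) (r : G.R) :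
    G.s r ∈ sat G D ↔ G.t r ∈ sat G D := by
  refine ⟨t_mem_sat_of_s_mem_sat G D r, fun h => ?_⟩
  have := t_mem_sat_of_s_mem_sat G D (G.i r) (by rwa [s_i])
  rwa [t_i] at this

theorem sat_eq_compl (D : Set G.U) : sat G D = (G.s '' (G.t ⁻¹' Dᶜ))ᶜ := by
  ext w
  constructor
  · intro h hw
    obtain ⟨r, hr, hs⟩ := hw
    exact hr (h r hs)
  · intro h r hs
    by_contra hr
    exact h ⟨r, hr, hs⟩

theorem isOpen_sat [IsFinite G.s] {D : Set G.U} (hD : IsOpen D) : IsOpen (sat G D) := by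
  rw [sat_eq_compl]
  exact (G.s.isClosedMap _ (hD.isClosed_compl.preimage G.t.continuous)).isOpen_compl

/-- The saturation interior as an open. -/
def satOpens [IsFinite G.s] (D : G.U.Opens) : G.U.Opens := ⟨sat G D, isOpen_sat G D.2⟩

theorem mem_satOpens [IsFinite G.s] (D : G.U.Opens) (w : G.U) :
    w ∈ satOpens G D ↔ ∀ r : G.R, G.s r = w → G.t r ∈ D := Iff.rfl

theorem satOpens_le [IsFinite G.s] (D : G.U.Opens) : satOpens G D ≤ D := sat_subset G D

theorem preimage_satOpens [IsFinite G.s] (D : G.U.Opens) :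
    G.s ⁻¹ᵁ satOpens G D = G.t ⁻¹ᵁ satOpens G D := by
  ext r
  exact s_mem_sat_iff_t_mem_sat G D r

/-- The key affineness statement: if `D = D(f)` for `f ∈ Γ(U, V)` with `D` affine and
`s⁻¹ D ≤ t⁻¹ V`, then the saturation interior of `D` is a basic open of `D`, hence affine. -/
theorem isAffineOpen_satOpens [IsFinite G.s] [Flat G.s] [LocallyOfFinitePresentation G.s]
    (V : G.U.Opens) (f : Γ(G.U, V)) (hD : IsAffineOpen (G.U.basicOpen f))
    (hle : G.s ⁻¹ᵁ G.U.basicOpen f ≤ G.t ⁻¹ᵁ V) :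
    IsAffineOpen (satOpens G (G.U.basicOpen f)) := by
  let b : Γ(G.R, G.s ⁻¹ᵁ G.U.basicOpen f) := G.R.presheaf.map (homOfLE hle).op (G.t.app V f)
  obtain ⟨g, hg⟩ := exists_basicOpen_eq G.s hD b
  have hb : G.R.basicOpen b = G.s ⁻¹ᵁ G.U.basicOpen f ⊓ G.t ⁻¹ᵁ G.U.basicOpen f := by
    rw [Scheme.basicOpen_res, Scheme.preimage_basicOpen G.t]
  have : satOpens G (G.U.basicOpen f) = G.U.basicOpen g := by
    ext w
    constructor
    · intro hw
      have hwD : w ∈ G.U.basicOpen f := satOpens_le G _ hw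
      rw [SetLike.mem_coe, hg w hwD]
      intro r hr
      rw [hb]
      refine ⟨?_, hw r hr⟩
      change G.s r ∈ G.U.basicOpen f
      rw [hr]; exact hwD
    · intro hw
      have hwD : w ∈ G.U.basicOpen f := G.U.basicOpen_le g hw
      rw [SetLike.mem_coe, hg w hwD] at hw
      intro r hr
      have := hw r hr
      rw [hb] at this
      exact this.2
  rw [this]
  exact hD.basicOpen g

end Sat

end Groth.Agent.Lib.GrpdSat13
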