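import Groth.Agent.Lib.GenFin45

set_option autoImplicit false
universe u
open CategoryTheory AlgebraicGeometry TopologicalSpace

namespace Groth.Agent.Lib.GenFinMain45

open Groth.Agent.Lib.GenFin45

variable {X Y : Scheme.{u}}

set_option backward.isDefEq.respectTransparency.types false in
/-- `f ∣_ V` is finite as soon as `f ⁻¹ V` is affine and the map on sections is integral
(`f` locally of finite type, `V` affine). -/
theorem isFinite_morphismRestrict_of_isIntegral (f : X ⟶ Y) [LocallyOfFiniteType f] (V : Y.Opens)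
    (hV : IsAffineOpen V) (W : X.Opens) (hW : IsAffineOpen W) (hWV : f ⁻¹ᵁ V = W)
    (hint : (f.appLE V W hWV.ge).hom.IsIntegral) : IsFinite (f ∣_ V) := by
  subst hWV
  rw [IsFinite.iff_isIntegralHom_and_locallyOfFiniteType]
  refine ⟨?_, inferInstance⟩
  have : IsAffine (V : Scheme.{u}) := hV
  rw [← Scheme.Hom.resLE_eq_morphismRestrict, HasAffineProperty.iff_of_isAffine (P := @IsIntegralHom)]
  refine ⟨hW, ?_⟩
  exact (RingHom.isIntegral_respectsIso.arrow_mk_iso_iff
    (arrowResLEAppIso f V (f ⁻¹ᵁ V) le_rfl)).mpr hint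

/-- Core of generic finiteness: given an affine open `U` of `X` over the affine open `V₀` of `Y`
containing the whole (finite) fibre over a generic point `η`. -/
theorem exists_isFinite_morphismRestrict_of_affine (f : X ⟶ Y) [LocallyOfFiniteType f]
    [QuasiCompact f] (η : Y) (hη : ∀ y : Y, y ⤳ η → y = η) {V₀ : Y.Opens} (hV₀ : IsAffineOpen V₀)
    (hηV₀ : η ∈ V₀) {U : X.Opens} (hU : IsAffineOpen U) (e : U ≤ f ⁻¹ᵁ V₀)
    (hFU : f ⁻¹' {η} ⊆ U) (hfin : (f ⁻¹' {η}).Finite) :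
    ∃ V : Y.Opens, IsAffineOpen V ∧ η ∈ V ∧ V ≤ V₀ ∧ IsFinite (f ∣_ V) := by
  obtain ⟨s₁, hs₁, hint⟩ := exists_forall_isIntegralElem f hU hV₀ e η hηV₀ hη
    (hfin.subset Set.inter_subset_left)
  obtain ⟨s₂, hs₂, hdisj⟩ := exists_basicOpen_disjoint_image f (U : Set X)ᶜ U.isOpen.isClosed_compl
    hV₀ η hηV₀ hη (fun z hz hfz => hz (hFU hfz))
  set φ := f.appLE V₀ U e with hφ
  have hpre : f ⁻¹ᵁ Y.basicOpen (s₁ * s₂) = X.basicOpen (φ.hom (s₁ * s₂)) := by
    have h1 : φ.hom (s₁ * s₂) = (X.presheaf.map (homOfLE e).op).hom ((f.app V₀).hom (s₁ * s₂)) := by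
      rw [hφ, Scheme.Hom.appLE]
      rfl
    rw [h1, Scheme.basicOpen_res, ← Scheme.preimage_basicOpen]
    apply le_antisymm
    · intro x hx
      refine ⟨?_, hx⟩
      by_contra hxU
      have hx' : f x ∈ Y.basicOpen (s₁ * s₂) := hx
      rw [Scheme.basicOpen_mul] at hx'
      exact hdisj x hxU hx'.2
    · exact inf_le_right
  refine ⟨Y.basicOpen (s₁ * s₂), hV₀.basicOpen _, ?_, Y.basicOpen_le _, ?_⟩
  · rw [Scheme.basicOpen_mul]
    exact ⟨hs₁, hs₂⟩
  · refine isFinite_morphismRestrict_of_isIntegral f _ (hV₀.basicOpen _) _ (hU.basicOpen _) hpre ?_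
    exact isIntegral_appLE_basicOpen f hU e s₁ s₂ hint hpre.ge

end Groth.Agent.Lib.GenFinMain45
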