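import Groth.Agent.Lib.RelRestrict46
import Groth.Agent.Lib.AlgSpBasic
import Groth.Agent.S1881
import Groth.Agent.S2080

/-!
# Affine invariant neighbourhoods of codimension-zero points with trivial orbit (helper46)
-/

set_option autoImplicit false
universe u
open CategoryTheory CategoryTheory.Limits AlgebraicGeometry Opposite

namespace Groth.Agent.Lib.CodimZeroNbhd46

open AlgSp Groth.Agent.Lib.FinEtQuot46 Groth.Agent.Lib.AlgSpDecentSpec
  Groth.Agent.Lib.RelRestrict46 Groth.Agent.Lib.AlgSpPoints

variable {S : Scheme.{u}} {U R : Over S} {s t : R ⟶ U}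

theorem i_comp_i (h : IsEqvRel s t) : (grpd h).i ≫ (grpd h).i = 𝟙 _ := by
  apply eq_of_comp_eq h
  · change ((grpd h).i ≫ (grpd h).i) ≫ (grpd h).t = 𝟙 _ ≫ (grpd h).t
    rw [Category.assoc, (grpd h).i_t, (grpd h).i_s, Category.id_comp]
  · change ((grpd h).i ≫ (grpd h).i) ≫ (grpd h).s = 𝟙 _ ≫ (grpd h).s
    rw [Category.assoc, (grpd h).i_s, (grpd h).i_t, Category.id_comp]

instance isIso_i (h : IsEqvRel s t) : IsIso (grpd h).i :=
  ⟨(grpd h).i, i_comp_i h, i_comp_i h⟩

theorem isSeparated_s (h : IsEqvRel s t) [IsAffine U.left] : IsSeparated s.left := by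
  have : Mono (grpd h).j := mono_j h
  have e : (grpd h).j ≫ pullback.snd U.hom U.hom = s.left := pullback.lift_snd _ _ _
  have h1 : IsSeparated U.hom := inferInstance
  have h2 : IsSeparated (pullback.snd U.hom U.hom) := inferInstance
  have h3 : IsSeparated (grpd h).j := inferInstance
  rw [← e]
  exact MorphismProperty.comp_mem @IsSeparated _ _ h3 h2

/-- Key scheme-level step: an affine invariant neighbourhood on which the relation is finite. -/
theorem exists_affine_invariant {X : Sp S} [IsAffine U.left]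
    (a : (yon S).obj U ⟶ X) (ha : RepWith @Etale a) (hqc : RepWith @QuasiCompact a)
    (hR : IsPullback ((yon S).map t) ((yon S).map s) a a) (u : ↥U.left)
    (hu0 : closure {u} ∈ irreducibleComponents ↥U.left)
    (huniq : ∀ u' : ↥U.left, Points.ofPt a u' = Points.ofPt a u → u' = u) :
    ∃ (W : Over S) (j : W ⟶ U) (R' : Over S) (s' t' : R' ⟶ W) (w : ↥W.left),
      IsOpenImmersion j.left ∧ IsAffine W.left ∧ j.left w = u ∧
      IsPullback ((yon S).map t') ((yon S).map s') ((yon S).map j ≫ a) ((yon S).map j ≫ a) ∧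
      IsFinite s'.left := by
  have h := isEqvRel_of_isPullback hR
  have hse : Etale s.left := ha.property _ _ _ hR
  have hsq : QuasiCompact s.left := hqc.property _ _ _ hR
  have hss : IsSeparated s.left := isSeparated_s h
  have hlqf : LocallyQuasiFinite s.left := Groth.Agent.Lib.AlgSpBasic.locallyQuasiFinite_of_etale _
  -- the orbit of `u` is trivial
  have fib : ∀ r : ↥R.left, s.left r = u → t.left r = u := by
    intro r hr
    apply huniq
    rw [← ofPt_yon_map_comp t a r, hR.w, ofPt_yon_map_comp s a r, hr]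
  -- generic finiteness
  have hfinfib : (s.left.base ⁻¹' {u}).Finite := s.left.finite_preimage_singleton u
  obtain ⟨V, hVaff, huV, hVfin⟩ := (Groth.Agent.S2080.result s.left u hu0).1 hfinfib
  have hVcl : IsClosedMap (s.left ∣_ V) := (s.left ∣_ V).isClosedMap
  obtain ⟨V', hV', hinv⟩ := exists_invariant_opens h V hVcl
  have huV' : u ∈ V' := (hV' u).2 ⟨huV, fun r hr => by rw [fib r hr]; exact huV⟩
  have hV'V : V' ≤ V := fun v hv => ((hV' v).1 hv).1
  have hfin₁ : IsFinite (sW s t V').left := isFinite_sW hV'V hVfin hinv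
  -- the restricted groupoid
  have hR₁ := isPullback_restrict hR V'
  have ha₁ : RepWith @Etale ((yon S).map (restrictOverι U V') ≫ a) := repWith_etale_restrict a ha V'
  have h₁ := isEqvRel_of_isPullback hR₁
  have hse₁ : Etale (sW s t V').left := ha₁.property _ _ _ hR₁
  let G := grpd h₁
  have : IsFinite G.s := hfin₁
  have : Etale G.s := hse₁
  have : Flat G.s := inferInstance
  have : LocallyOfFinitePresentation G.s := inferInstance
  have hGt : G.i ≫ G.s = G.t := G.i_s
  have : IsFinite G.t := by rw [← hGt]; infer_instance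
  have : Flat G.t := by rw [← hGt]; infer_instance
  have : LocallyOfFinitePresentation G.t := by rw [← hGt]; infer_instance
  let u₁ : ↥G.U := (⟨u, huV'⟩ : ↥V')
  obtain ⟨V₀, hV₀, huV₀, -⟩ :=
    (TopologicalSpace.Opens.isBasis_iff_nbhd.1 G.U.isBasis_affineOpens)
      (show u₁ ∈ (⊤ : G.U.Opens) from trivial)
  have horb : ∀ r : ↥G.R, G.s r = u₁ → G.t r ∈ V₀ := by
    intro r hr
    have h1 : s.left ((relOpens s t V').ι r) = u := by
      have : ((sW s t V').left ≫ V'.ι) r = ((relOpens s t V').ι ≫ s.left) r := by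
        rw [sW_left_ι]
      simp only [Scheme.Hom.comp_apply] at this
      rw [← this]
      change V'.ι (G.s r) = u
      rw [hr]
      rfl
    have h2 : t.left ((relOpens s t V').ι r) = u := fib _ h1
    have h3 : V'.ι (G.t r) = u := by
      have : ((tW s t V').left ≫ V'.ι) r = ((relOpens s t V').ι ≫ t.left) r := by
        rw [tW_left_ι]
      simp only [Scheme.Hom.comp_apply] at this
      exact this.trans h2
    have h4 : G.t r = u₁ := Subtype.ext h3
    rw [h4]
    exact huV₀
  obtain ⟨W, hWaff, hu₁W, hWinv⟩ := Groth.Agent.S1881.result S G u₁ V₀ hV₀ horb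
  -- second restriction
  have hR₂ := isPullback_restrict hR₁ W
  have hfin₂ : IsFinite (sW (sW s t V') (tW s t V') W).left :=
    isFinite_sW (V := ⊤) le_top (inferInstance : IsFinite (G.s ∣_ ⊤)) hWinv
  refine ⟨restrictOver (restrictOver U V') W, restrictOverι (restrictOver U V') W ≫ restrictOverι U V',
    RW (sW s t V') (tW s t V') W, sW (sW s t V') (tW s t V') W, tW (sW s t V') (tW s t V') W,
    (⟨u₁, hu₁W⟩ : ↥W), ?_, hWaff, rfl, ?_, hfin₂⟩
  · change IsOpenImmersion (W.ι ≫ V'.ι)
    exact MorphismProperty.comp_mem @IsOpenImmersion _ _ (inferInstance : IsOpenImmersion W.ι)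
      (inferInstance : IsOpenImmersion V'.ι)
  · rw [Functor.map_comp, Category.assoc]
    exact hR₂

end Groth.Agent.Lib.CodimZeroNbhd46
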