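import Groth.Agent.Lib.H69AlgSp
import Groth.Agent.Lib.H69FppfLocal
import Mathlib.AlgebraicGeometry.Morphisms.QuasiFinite
import Mathlib.AlgebraicGeometry.Morphisms.UniversallyInjective

/-!
# The diagonal of an algebraic space (helper69)
-/

set_option autoImplicit false
universe u

open CategoryTheory CategoryTheory.Limits AlgebraicGeometry Opposite AlgSp

namespace Groth.Agent.Lib.H69AlgSpDiag

open Groth.Agent.Lib.H69AlgSp

variable {S : Scheme.{u}}

attribute [local simp] prod.lift_fst prod.lift_snd prod.lift_fst_assoc prod.lift_snd_assoc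

/-- For an atlas `p : h_U ⟶ X` of an algebraic space with `R = U ×_X U`, the morphism `(s, t) : R ⟶ U × U` is a
monomorphism locally of finite type. -/
theorem mono_lft_of_atlas {X : Sp S} {U R : Over S} (p : (yon S).obj U ⟶ X) (hpe : RepWith @Etale p)
    (s t : R ⟶ U) (sq : IsPullback ((yon S).map s) ((yon S).map t) p p) :
    Mono (prod.lift s t).left ∧ LocallyOfFiniteType (prod.lift s t).left := by
  have hmono : Mono (prod.lift s t) := by
    refine ⟨fun a b h => hom_ext_yon_pullback sq a b ?_ ?_⟩
    · have := h =≫ (prod.fst : U ⨯ U ⟶ U)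
      simp only [Category.assoc, prod.lift_fst] at this
      rw [← Functor.map_comp, ← Functor.map_comp, this]
    · have := h =≫ (prod.snd : U ⨯ U ⟶ U)
      simp only [Category.assoc, prod.lift_snd] at this
      rw [← Functor.map_comp, ← Functor.map_comp, this]
  refine ⟨inferInstance, ?_⟩
  have het : Etale t.left := hpe.property p _ t sq
  have h2 : (prod.lift s t).left ≫ (prod.snd : U ⨯ U ⟶ U).left = t.left := by
    rw [← Over.comp_left, prod.lift_snd]
  have : LocallyOfFiniteType ((prod.lift s t).left ≫ (prod.snd : U ⨯ U ⟶ U).left) := by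
    rw [h2]; infer_instance
  exact locallyOfFiniteType_of_comp (prod.lift s t).left (prod.snd : U ⨯ U ⟶ U).left

/-- The diagonal of an algebraic space is (representable and) locally of finite type, a monomorphism, separated
and locally quasi-finite. -/
theorem repWith_diag_properties (X : Space S) :
    RepWith @LocallyOfFiniteType (Limits.diag X.obj) ∧
      RepWith (MorphismProperty.monomorphisms Scheme.{u}) (Limits.diag X.obj) ∧
      RepWith @IsSeparated (Limits.diag X.obj) ∧
      RepWith @LocallyQuasiFinite (Limits.diag X.obj) := by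
  obtain ⟨U, p, hpe, hps⟩ := X.property.atlas
  have hp : Representable p := X.property.representable_from_yon p
  have sq := hp.isPullback' p
  obtain ⟨hm, hl⟩ := mono_lft_of_atlas p hpe _ _ sq
  refine ⟨?_, ?_, ?_, ?_⟩
  · exact (repWith_diag_iff_of_atlas X.property.diag p hpe hps _ _ sq _).2 hl
  · exact (repWith_diag_iff_of_atlas X.property.diag p hpe hps _ _ sq _).2 hm
  · exact (repWith_diag_iff_of_atlas X.property.diag p hpe hps _ _ sq _).2 inferInstance
  · exact (repWith_diag_iff_of_atlas X.property.diag p hpe hps _ _ sq _).2 inferInstance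

end Groth.Agent.Lib.H69AlgSpDiag
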