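import Groth.Agent.Lib.FppfSepLqfDesc46
import Groth.Agent.Lib.H69AlgSpDiag
import Groth.Agent.Lib.H86Coprod
import Groth.Agent.Lib.H86AlgSpOpen
import Groth.Agent.Lib.AlgSpLocP
import Groth.Agent.Lib.H69AlgSpLocST2
import Mathlib.CategoryTheory.Limits.Shapes.Pullback.Equalizer

/-!
# Representability of the diagonal of an fppf quotient of an algebraic space (helper46)

Let `F` be an fppf sheaf and `p : X ⟶ F` a map from an algebraic space which is representable by algebraic
spaces, flat, surjective and locally of finite presentation.  Then the diagonal of `F` is representable by schemes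
(`representable_diag_of_fppf_cover`).
-/

set_option autoImplicit false
universe u

namespace Groth.Agent.Lib.DiagRepFppf46

open CategoryTheory CategoryTheory.Limits AlgebraicGeometry Opposite AlgSp Desc
open Groth.Agent.Lib.H69AlgSp Groth.Agent.Lib.SheafDescRep46

/-- Sections of etale morphisms are open immersions. -/
theorem isOpenImmersion_of_comp_etale {A B C : Scheme.{u}} (s : A ⟶ B) (k : B ⟶ C) [Etale k]
    [IsOpenImmersion (s ≫ k)] : IsOpenImmersion s := by
  have hle : (@Etale : MorphismProperty Scheme.{u}) ≤ (@IsOpenImmersion : MorphismProperty Scheme.{u}).diagonal := by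
    intro X Y f hf
    have : Etale f := hf
    rw [MorphismProperty.diagonal_iff]
    infer_instance
  have := (MorphismProperty.hasOfPostcompProperty_iff_le_diagonal
    (P := (@IsOpenImmersion : MorphismProperty Scheme.{u})) (Q := @Etale)).2 hle
  exact MorphismProperty.of_postcomp (W := @IsOpenImmersion) (W' := @Etale) s k inferInstance inferInstance

/-- Unramified morphisms are locally quasi-finite. -/
theorem locallyQuasiFinite_of_unramified {X Y : Scheme.{u}} (f : X ⟶ Y)
    [h1 : LocallyOfFiniteType f] [h2 : FormallyUnramified f] : LocallyQuasiFinite f := by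
  refine ⟨fun {U} hU {V} hV e => ?_⟩
  have hft : (f.appLE U V e).hom.FiniteType := h1.finiteType_appLE hU hV e
  have hfu : (f.appLE U V e).hom.FormallyUnramified := h2.formallyUnramified_appLE hU hV e
  algebraize [(f.appLE U V e).hom]
  have : Algebra.EssFiniteType Γ(Y, U) Γ(X, V) := inferInstance
  show Algebra.QuasiFinite Γ(Y, U) Γ(X, V)
  infer_instance

/-- A morphism locally of finite type whose kernel pair has an etale projection is locally quasi-finite. -/
theorem locallyQuasiFinite_of_etale_kernelPair {U B K : Scheme.{u}} (g : U ⟶ B) (hg : LocallyOfFiniteType g)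
    (k₁ k₂ : K ⟶ U) (sq : IsPullback k₁ k₂ g g) (hk₂ : Etale k₂) : LocallyQuasiFinite g := by
  let δ : U ⟶ K := sq.lift (𝟙 U) (𝟙 U) rfl
  have hδ₂ : δ ≫ k₂ = 𝟙 U := sq.lift_snd _ _ _
  have : IsOpenImmersion (δ ≫ k₂) := by rw [hδ₂]; infer_instance
  have hδ : IsOpenImmersion δ := isOpenImmersion_of_comp_etale δ k₂
  have hd : pullback.diagonal g = δ ≫ sq.isoPullback.hom := by
    apply pullback.hom_ext
    · simp [δ]
    · simp [δ]
  have : IsOpenImmersion (pullback.diagonal g) := by rw [hd]; infer_instance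
  have : FormallyUnramified g := inferInstance
  exact locallyQuasiFinite_of_unramified g

variable {S : Scheme.{u}}

/-- A monomorphism to a scheme which is locally of finite type is locally quasi-finite. -/
theorem locP_lqf_of_mono {E : Sp S} {B : Over S} (n : E ⟶ (yon S).obj B) [Mono n]
    (hn : LocP @LocallyOfFiniteType n) : LocP (@LocallyQuasiFinite ⊓ @LocallyOfFiniteType) n := by
  intro U V a b h ha hb comm
  obtain ⟨b₀, rfl⟩ := (yon S).map_surjective b
  have hb₀ : Etale b₀.left := (repWith_yon_map_iff _ _).1 hb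
  have hh : LocallyOfFiniteType h.left := hn a _ h ha hb comm
  refine ⟨?_, hh⟩
  have hg : LocallyOfFiniteType (h ≫ b₀).left := by
    change LocallyOfFiniteType (h.left ≫ b₀.left)
    infer_instance
  have sqK := IsPullback.of_hasPullback (h ≫ b₀) (h ≫ b₀)
  have sqY := sqK.map (yon S)
  have hcomm : (yon S).map (h ≫ b₀) = a ≫ n := by rw [Functor.map_comp, comm]
  rw [hcomm] at sqY
  have sqa : IsPullback ((yon S).map (pullback.fst (h ≫ b₀) (h ≫ b₀)))
      ((yon S).map (pullback.snd (h ≫ b₀) (h ≫ b₀))) a a :=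
    Groth.Agent.Lib.H86AlgSpOpen.isPullback_of_comp_mono n sqY
  have het : Etale (pullback.snd (h ≫ b₀) (h ≫ b₀)).left := ha.property a _ _ sqa
  have sqS := sqK.map (Over.forget S)
  have hlqf : LocallyQuasiFinite (h ≫ b₀).left :=
    locallyQuasiFinite_of_etale_kernelPair (h ≫ b₀).left hg _ _ sqS het
  change LocallyQuasiFinite (h.left ≫ b₀.left) at hlqf
  exact LocallyQuasiFinite.of_comp h.left b₀.left

/-- A separated locally quasi-finite algebraic space over a scheme, as a scheme with its structure morphism. -/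
theorem exists_scheme_of_sep_lqf {E : Sp S} (hE : IsAlgSpace E) {B : Over S} (n : E ⟶ (yon S).obj B)
    (hsep : IsSeparatedMor n) (hqf : LocP (@LocallyQuasiFinite ⊓ @LocallyOfFiniteType) n) :
    ∃ (Z : Over S) (ζ : Z ⟶ B) (e : (yon S).obj Z ≅ E), (yon S).map ζ = e.hom ≫ n ∧
      IsSeparated ζ.left ∧ LocallyQuasiFinite ζ.left ∧ LocallyOfFiniteType ζ.left := by
  have hrep := Groth.Agent.Lib.SepLqfRep46.isRepresentable_of_sep_lqf hE n hsep hqf
  obtain ⟨Z, ⟨R⟩⟩ := hrep.has_representation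
  let e : (yon S).obj Z ≅ E := isoOfRepresentableBy R
  obtain ⟨ζ, hζ⟩ := (yon S).map_surjective (e.hom ≫ n)
  have hζqf : (@LocallyQuasiFinite ⊓ @LocallyOfFiniteType) ζ.left :=
    hqf e.hom (𝟙 _) ζ (MorphismProperty.of_isIso (RepWith (S := S) @Etale) _) (repWith_id _ B)
      (by rw [hζ, Category.comp_id])
  have hζsep : IsSeparated ζ.left := by
    have h1 : IsSeparatedMor ((yon S).map ζ) := by
      rw [hζ]
      exact Groth.Agent.Lib.AlgSpProper.isSeparatedMor_comp
        (Groth.Agent.Lib.GrpFieldSep46.isSeparatedMor_of_mono _) hsep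
    exact ⟨(Groth.Agent.Lib.AlgSpUnram.repWith_diagonal_yon_map_iff _ ζ).1 h1⟩
  exact ⟨Z, ζ, e, hζ, hζsep, hζqf.1, hζqf.2⟩

/-- An fppf covering of `T` over which `ξ : h_T ⟶ F` lifts to the fppf atlas `p : X ⟶ F`. -/
theorem exists_fppf_cover_lift (X : Space S) {F : Sp S} (p : X.obj ⟶ F)
    (hp : RepBySpWith (IsSurjectiveMor ⊓ LocP @Flat ⊓ LocP @LocallyOfFinitePresentation) p.hom)
    {T : Over S} (ξ : (yon S).obj T ⟶ F) :
    ∃ (V : Over S) (π : V ⟶ T) (x : (yon S).obj V ⟶ X.obj), Flat π.left ∧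
      LocallyOfFinitePresentation π.left ∧ Surjective π.left ∧ x ≫ p = (yon S).map π ≫ ξ := by
  have sqF := IsPullback.of_hasPullback p ξ
  have sqFp := sqF.map (sheafToPresheaf (J S) (Type (u + 1)))
  obtain ⟨hsh, hFT, ⟨hsurj, hflat⟩, hlfp⟩ := hp ξ.hom _ _ sqFp
  change IsAlgSpace (pullback p ξ) at hFT
  change IsSurjectiveMor (pullback.snd p ξ) at hsurj
  change LocP @Flat (pullback.snd p ξ) at hflat
  change LocP @LocallyOfFinitePresentation (pullback.snd p ξ) at hlfp
  obtain ⟨V, c, hce, hcs⟩ := hFT.atlas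
  obtain ⟨π, hπ⟩ := (yon S).map_surjective (c ≫ pullback.snd p ξ)
  have hπ' : c ≫ pullback.snd p ξ = (yon S).map π ≫ 𝟙 _ := by rw [hπ, Category.comp_id]
  have h1 : Flat π.left := hflat c (𝟙 _) π hce (repWith_id _ T) hπ'
  have h2 : LocallyOfFinitePresentation π.left := hlfp c (𝟙 _) π hce (repWith_id _ T) hπ'
  have h3 : Surjective π.left := by
    constructor
    rw [← Groth.Agent.Lib.AlgSpPoints.surjective_map_yon_map_iff (φ := π), hπ]
    intro t
    obtain ⟨y, hy⟩ := hsurj t
    obtain ⟨v, hv⟩ := Groth.Agent.Lib.AlgSpQC.surjective_map_of_repWith_surjective hcs y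
    exact ⟨v, by rw [Points.map_comp, hv, hy]⟩
  refine ⟨V, π, c ≫ pullback.fst p ξ, h1, h2, h3, ?_⟩
  rw [Category.assoc, pullback.condition, ← Category.assoc, hπ]

/-- The locus in a scheme `B` where `α : h_B ⟶ F` agrees with `p ∘ σ` for `σ : h_B ⟶ X` is a scheme, separated and
locally quasi-finite over `B`. -/
theorem exists_scheme_equalizer (X : Space S) {F : Sp S} (p : X.obj ⟶ F)
    (hp : RepBySpWith (IsSurjectiveMor ⊓ LocP @Flat ⊓ LocP @LocallyOfFinitePresentation) p.hom)
    {B : Over S} (α : (yon S).obj B ⟶ F) (σ : (yon S).obj B ⟶ X.obj) :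
    ∃ (Z : Over S) (ζ : Z ⟶ B), IsSeparated ζ.left ∧ LocallyQuasiFinite ζ.left ∧
      LocallyOfFiniteType ζ.left ∧ Mono ((yon S).map ζ) ∧
      (yon S).map ζ ≫ α = (yon S).map ζ ≫ σ ≫ p ∧
      ∀ {Q' : Sp S} (v : Q' ⟶ (yon S).obj B), v ≫ α = v ≫ σ ≫ p →
        ∃ l : Q' ⟶ (yon S).obj Z, l ≫ (yon S).map ζ = v := by
  have sqQ := IsPullback.of_hasPullback p α
  have sqQp := sqQ.map (sheafToPresheaf (J S) (Type (u + 1)))
  obtain ⟨hsh, hQ, -, hlfp⟩ := hp α.hom _ _ sqQp
  change IsAlgSpace (pullback p α) at hQ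
  change LocP @LocallyOfFinitePresentation (pullback.snd p α) at hlfp
  -- the equalizer, a base change of the diagonal of `X`
  let ι₀ := equalizer.ι (pullback.fst p α) (pullback.snd p α ≫ σ)
  have sqΔ := isPullback_equalizer_prod (pullback.fst p α) (pullback.snd p α ≫ σ)
  have hΔ : RepWith @LocallyOfFiniteType (Limits.diag X.obj) :=
    (Groth.Agent.Lib.H69AlgSpDiag.repWith_diag_properties X).1
  have hι₀ : RepWith @LocallyOfFiniteType ι₀ :=
    MorphismProperty.of_isPullback (P := RepWith (S := S) @LocallyOfFiniteType) sqΔ.flip hΔ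
  have hE₀ : IsAlgSpace (equalizer (pullback.fst p α) (pullback.snd p α ≫ σ)) :=
    Groth.Agent.Lib.H86Coprod.isAlgSpace_of_representable ι₀ hι₀.rep hQ
  let n₀ := ι₀ ≫ pullback.snd p α
  have hcond : ι₀ ≫ pullback.fst p α = ι₀ ≫ pullback.snd p α ≫ σ := equalizer.condition _ _
  haveI hmono : Mono n₀ := by
    constructor
    intro W a b hab
    have hab' : (a ≫ ι₀) ≫ pullback.snd p α = (b ≫ ι₀) ≫ pullback.snd p α := by
      simpa only [Category.assoc] using hab
    apply equalizer.hom_ext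
    apply pullback.hom_ext
    · rw [Category.assoc, Category.assoc, hcond, ← Category.assoc, ← Category.assoc,
        ← Category.assoc, ← Category.assoc, hab']
    · exact hab'
  have hlft : LocP @LocallyOfFiniteType n₀ := by
    refine Groth.Agent.Lib.AlgSpLocP.locP_comp Groth.Agent.Lib.AlgSpLocP.etLocalClass_lft hE₀ hQ
      (IsAlgSpace.yon_obj B) ?_ ?_
    · exact Groth.Agent.Lib.AlgSpBasic.locP_of_repWith @LocallyOfFiniteType
        (fun _ _ _ l w (_ : Etale l) (_ : LocallyOfFiniteType w) => inferInstance)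
        (fun _ a => hE₀.representable_from_yon a) hι₀
    · exact Groth.Agent.Lib.H69AlgSpLocST2.locP_mono (fun _ _ l hl => by
        have : LocallyOfFinitePresentation l := hl
        infer_instance) hlfp
  have hqf := locP_lqf_of_mono n₀ hlft
  have hsep : IsSeparatedMor n₀ := Groth.Agent.Lib.GrpFieldSep46.isSeparatedMor_of_mono n₀
  obtain ⟨Z, ζ, e, hζ, h1, h2, h3⟩ := exists_scheme_of_sep_lqf hE₀ n₀ hsep hqf
  refine ⟨Z, ζ, h1, h2, h3, ?_, ?_, ?_⟩
  · rw [hζ]; infer_instance
  · rw [hζ]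
    change (e.hom ≫ ι₀ ≫ pullback.snd p α) ≫ α = (e.hom ≫ ι₀ ≫ pullback.snd p α) ≫ σ ≫ p
    simp only [Category.assoc]
    rw [← pullback.condition, ← Category.assoc ι₀, hcond]
    simp only [Category.assoc]
  · intro Q' v hv
    let lQ : Q' ⟶ pullback p α := pullback.lift (v ≫ σ) v (by rw [Category.assoc, hv])
    have hlQ1 : lQ ≫ pullback.fst p α = v ≫ σ := pullback.lift_fst _ _ _
    have hlQ2 : lQ ≫ pullback.snd p α = v := pullback.lift_snd _ _ _
    let l₀ : Q' ⟶ equalizer (pullback.fst p α) (pullback.snd p α ≫ σ) :=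
      equalizer.lift lQ (by rw [hlQ1, ← Category.assoc, hlQ2])
    have hl₀ : l₀ ≫ ι₀ = lQ := equalizer.lift_ι _ _
    refine ⟨l₀ ≫ e.inv, ?_⟩
    rw [hζ, Category.assoc, e.inv_hom_id_assoc]
    change l₀ ≫ ι₀ ≫ pullback.snd p α = v
    rw [← Category.assoc, hl₀, hlQ2]

/-- Maps to `h_{A ⨯ B}` are determined by their two components. -/
theorem hom_ext_yon_prod {Q : Sp S} {A B : Over S} (u v : Q ⟶ (yon S).obj (A ⨯ B))
    (h1 : u ≫ (yon S).map prod.fst = v ≫ (yon S).map prod.fst)
    (h2 : u ≫ (yon S).map prod.snd = v ≫ (yon S).map prod.snd) : u = v := by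
  rw [← cancel_mono (prodComparison (yon S) A B)]
  apply Limits.prod.hom_ext
  · rw [Category.assoc, Category.assoc, prodComparison_fst, h1]
  · rw [Category.assoc, Category.assoc, prodComparison_snd, h2]

/-- `𝟙 × g` is a base change of `g`. -/
theorem isPullback_prod_map_id {C : Type*} [Category C] [HasBinaryProducts C] (A : C) {V T' : C} (g : V ⟶ T') :
    IsPullback (prod.snd : A ⨯ V ⟶ V) (prod.map (𝟙 A) g) g (prod.snd : A ⨯ T' ⟶ T') := by
  refine isPullback_of_lift (by rw [prod.map_snd]) ?_ ?_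
  · intro W x y hxy
    refine ⟨prod.lift (y ≫ prod.fst) x, by rw [prod.lift_snd], ?_⟩
    apply Limits.prod.hom_ext
    · rw [Category.assoc, prod.map_fst, Category.comp_id, prod.lift_fst]
    · rw [Category.assoc, prod.map_snd, ← Category.assoc, prod.lift_snd, hxy]
  · intro W l l' h1 h2
    apply Limits.prod.hom_ext
    · have := h2 =≫ (prod.fst : A ⨯ T' ⟶ A)
      simpa only [Category.assoc, prod.map_fst, Category.comp_id] using this
    · exact h1

/-- **Fibre products of schemes over an fppf quotient of an algebraic space are schemes.** -/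
theorem exists_iso_pullback (X : Space S) {F : Sp S} (p : X.obj ⟶ F)
    (hp : RepBySpWith (IsSurjectiveMor ⊓ LocP @Flat ⊓ LocP @LocallyOfFinitePresentation) p.hom)
    {T T' : Over S} (ξ₁ : (yon S).obj T ⟶ F) (ξ₂ : (yon S).obj T' ⟶ F) :
    ∃ Z₀ : Over S, Nonempty ((yon S).obj Z₀ ≅ pullback ξ₁ ξ₂) := by
  obtain ⟨V₂, π₂, x₂, hπfl, hπfp, hπs, hx₂⟩ := exists_fppf_cover_lift X p hp ξ₂
  -- the equalizer scheme over `T ⨯ V₂`
  obtain ⟨Z, ζ, hζ1, hζ2, hζ3, hζmono, hζcomm, hζuniv⟩ := exists_scheme_equalizer X p hp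
    (B := T ⨯ V₂) ((yon S).map prod.fst ≫ ξ₁) ((yon S).map prod.snd ≫ x₂)
  -- the map `m : P ⟶ h_{T ⨯ T'}`
  let m : pullback ξ₁ ξ₂ ⟶ (yon S).obj (T ⨯ T') :=
    prod.lift (pullback.fst ξ₁ ξ₂) (pullback.snd ξ₁ ξ₂) ≫ inv (prodComparison (yon S) T T')
  have hm1 : m ≫ (yon S).map prod.fst = pullback.fst ξ₁ ξ₂ := by
    change (prod.lift _ _ ≫ inv (prodComparison (yon S) T T')) ≫ (yon S).map prod.fst = _
    rw [Category.assoc, ← prodComparison_fst, IsIso.inv_hom_id_assoc, prod.lift_fst]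
  have hm2 : m ≫ (yon S).map prod.snd = pullback.snd ξ₁ ξ₂ := by
    change (prod.lift _ _ ≫ inv (prodComparison (yon S) T T')) ≫ (yon S).map prod.snd = _
    rw [Category.assoc, ← prodComparison_snd, IsIso.inv_hom_id_assoc, prod.lift_snd]
  let π : T ⨯ V₂ ⟶ T ⨯ T' := prod.map (𝟙 T) π₂
  have hπ1 : π ≫ prod.fst = prod.fst := by
    change prod.map (𝟙 T) π₂ ≫ prod.fst = _
    rw [prod.map_fst, Category.comp_id]
  have hπ2 : π ≫ prod.snd = prod.snd ≫ π₂ := prod.map_snd _ _
  -- `π` is an fppf covering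
  have sqπ := (isPullback_prod_map_id T π₂).map (Over.forget S)
  have hπfl' : Flat π.left := MorphismProperty.of_isPullback (P := @Flat) sqπ hπfl
  have hπfp' : LocallyOfFinitePresentation π.left :=
    MorphismProperty.of_isPullback (P := @LocallyOfFinitePresentation) sqπ hπfp
  have hπs' : Surjective π.left := MorphismProperty.of_isPullback (P := @Surjective) sqπ hπs
  -- the map `θ₀ : h_Z ⟶ P`
  have hcond : (yon S).map (ζ ≫ prod.fst) ≫ ξ₁ = (yon S).map (ζ ≫ prod.snd ≫ π₂) ≫ ξ₂ := by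
    rw [Functor.map_comp, Functor.map_comp, Functor.map_comp, Category.assoc, Category.assoc,
      Category.assoc, ← hx₂]
    exact hζcomm
  let θ₀ : (yon S).obj Z ⟶ pullback ξ₁ ξ₂ := pullback.lift _ _ hcond
  have hθ1 : θ₀ ≫ pullback.fst ξ₁ ξ₂ = (yon S).map (ζ ≫ prod.fst) := pullback.lift_fst _ _ _
  have hθ2 : θ₀ ≫ pullback.snd ξ₁ ξ₂ = (yon S).map (ζ ≫ prod.snd ≫ π₂) := pullback.lift_snd _ _ _
  have sq : IsPullback θ₀ ((yon S).map ζ) m ((yon S).map π) := by
    refine isPullback_of_lift ?_ ?_ ?_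
    · apply hom_ext_yon_prod
      · rw [Category.assoc, hm1, hθ1, Category.assoc, ← Functor.map_comp, hπ1, ← Functor.map_comp]
      · rw [Category.assoc, hm2, hθ2, Category.assoc, ← Functor.map_comp, hπ2, ← Functor.map_comp]
    · intro W x y hxy
      have hy1 : y ≫ (yon S).map prod.fst = x ≫ pullback.fst ξ₁ ξ₂ := by
        rw [← hm1, ← Category.assoc, hxy, Category.assoc, ← Functor.map_comp, hπ1]
      have hy2 : y ≫ (yon S).map prod.snd ≫ (yon S).map π₂ = x ≫ pullback.snd ξ₁ ξ₂ := by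
        have h := congrArg (fun k => k ≫ (yon S).map prod.snd) hxy
        simp only [Category.assoc, hm2] at h
        rw [h, ← Functor.map_comp, ← Functor.map_comp, hπ2]
      have hy : y ≫ (yon S).map prod.fst ≫ ξ₁ = y ≫ ((yon S).map prod.snd ≫ x₂) ≫ p := by
        rw [Category.assoc, hx₂, ← Category.assoc, hy1, Category.assoc, pullback.condition,
          ← Category.assoc x, ← hy2]
        simp only [Category.assoc]
      obtain ⟨l, hl⟩ := hζuniv y hy
      refine ⟨l, ?_, hl⟩
      apply pullback.hom_ext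
      · rw [Category.assoc, hθ1, Functor.map_comp, ← Category.assoc, hl, hy1]
      · rw [Category.assoc, hθ2, Functor.map_comp, Functor.map_comp, ← Category.assoc, hl, hy2]
    · intro W l l' _ h2
      exact (cancel_mono ((yon S).map ζ)).1 h2
  -- effective descent
  have : IsSeparated (descDatum sq).obj.hom := hζ1
  have : LocallyQuasiFinite (descDatum sq).obj.hom := hζ2
  have : LocallyOfFiniteType (descDatum sq).obj.hom := hζ3
  obtain ⟨Z₀, ⟨Ψ⟩⟩ := Groth.Agent.Lib.EffDescFamH52.exists_iso_of_fppf_of_locallyQuasiFinite π.left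
    (descDatum sq)
  obtain ⟨θ, -⟩ := exists_iso_of_effective sq Z₀ Ψ
  exact ⟨_, ⟨θ⟩⟩

/-- **The diagonal of an fppf quotient of an algebraic space is representable.** -/
theorem representable_diag_of_fppf_cover (X : Space S) {F : Sp S} (p : X.obj ⟶ F)
    (hp : RepBySpWith (IsSurjectiveMor ⊓ LocP @Flat ⊓ LocP @LocallyOfFinitePresentation) p.hom) :
    Representable (Limits.diag F) := by
  refine Functor.relativelyRepresentable.diag_of_map_from_obj (fun T ξ₁ T' ξ₂ => ?_)
  obtain ⟨Z₀, ⟨e⟩⟩ := exists_iso_pullback X p hp ξ₁ ξ₂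
  obtain ⟨snd, hsnd⟩ := (yon S).map_surjective (e.hom ≫ pullback.snd ξ₁ ξ₂)
  refine ⟨Z₀, snd, e.hom ≫ pullback.fst ξ₁ ξ₂, ?_⟩
  rw [hsnd]
  exact IsPullback.of_iso (IsPullback.of_hasPullback ξ₁ ξ₂) e.symm (Iso.refl _) (Iso.refl _) (Iso.refl _)
    (by simp) (by simp) (by simp) (by simp)

end Groth.Agent.Lib.DiagRepFppf46
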