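import Groth.Agent.Lib.EtLocQF2

/-!
# Finite unions of finite opens; étale neighbourhood splitting off all isolated points (helper34)

* `isFinite_sup_ι_comp`, `isFinite_iSup_ι_comp`: for a separated `h : Y ⟶ U`, a finite union of
  opens of `Y` each finite over `U` is finite over `U`.
* `quasiCompact_of_comp_surjective`, `of_sup`.
* `exists_isEtaleNbhd_clopen_finite_of_finite_isolated` (= S9762, Stacks 02LN-type): `f` separated
  lft, finitely many isolated points in the fibre over `s` => elementary étale nbhd `(U,u)` and a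
  clopen `V ⊆ X ×_S U` finite over `U` containing all isolated points of the fibre over `u`.
-/

set_option autoImplicit false
universe u
open AlgebraicGeometry CategoryTheory Limits

namespace Groth.Agent.Lib.EtLocQF

lemma quasiCompact_of_comp_surjective {X Y Z : Scheme.{u}} (f : X ⟶ Y) (g : Y ⟶ Z)
    [QuasiCompact (f ≫ g)] [Surjective f] : QuasiCompact g := by
  constructor
  intro U hU hUc
  have h1 : IsCompact ((f ≫ g) ⁻¹' U) := QuasiCompact.isCompact_preimage (f := f ≫ g) U hU hUc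
  have h2 : f '' ((f ≫ g) ⁻¹' U) = g ⁻¹' U := by
    rw [Scheme.Hom.comp_base, TopCat.coe_comp, Set.preimage_comp,
      Set.image_preimage_eq _ f.surjective]
  rw [← h2]
  exact h1.image f.continuous

/-- a property local at the source holds on `V₁ ⊔ V₂` if it holds on `V₁` and `V₂`. -/
lemma of_sup {P : MorphismProperty Scheme.{u}} [IsZariskiLocalAtSource P] {Y U : Scheme.{u}}
    (h : Y ⟶ U) (V₁ V₂ : Y.Opens) (h₁ : P (V₁.ι ≫ h)) (h₂ : P (V₂.ι ≫ h)) :
    P ((V₁ ⊔ V₂).ι ≫ h) := by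
  refine IsZariskiLocalAtSource.of_iSup_eq_top
    (fun b : Bool => (V₁ ⊔ V₂).ι ⁻¹ᵁ (cond b V₁ V₂)) ?_ ?_
  · rw [iSup_bool_eq]
    change (V₁ ⊔ V₂).ι ⁻¹ᵁ V₁ ⊔ (V₁ ⊔ V₂).ι ⁻¹ᵁ V₂ = ⊤
    rw [← Scheme.Hom.preimage_sup]
    exact Scheme.Opens.ι_preimage_self _
  · rintro (_ | _)
    · change P (((V₁ ⊔ V₂).ι ⁻¹ᵁ V₂).ι ≫ (V₁ ⊔ V₂).ι ≫ h)
      rw [← Category.assoc, ← morphismRestrict_ι, Category.assoc]
      exact IsZariskiLocalAtSource.comp h₂ _
    · change P (((V₁ ⊔ V₂).ι ⁻¹ᵁ V₁).ι ≫ (V₁ ⊔ V₂).ι ≫ h)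
      rw [← Category.assoc, ← morphismRestrict_ι, Category.assoc]
      exact IsZariskiLocalAtSource.comp h₁ _

/-- the union of two opens finite over the base of a separated morphism is finite over the base -/
theorem isFinite_sup_ι_comp {Y U : Scheme.{u}} (h : Y ⟶ U) [IsSeparated h] (V₁ V₂ : Y.Opens)
    (h₁ : IsFinite (V₁.ι ≫ h)) (h₂ : IsFinite (V₂.ι ≫ h)) : IsFinite ((V₁ ⊔ V₂).ι ≫ h) := by
  let j₁ : V₁.toScheme ⟶ (V₁ ⊔ V₂).toScheme := Y.homOfLE le_sup_left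
  let j₂ : V₂.toScheme ⟶ (V₁ ⊔ V₂).toScheme := Y.homOfLE le_sup_right
  have hj₁ : j₁ ≫ (V₁ ⊔ V₂).ι = V₁.ι := Y.homOfLE_ι _
  have hj₂ : j₂ ≫ (V₁ ⊔ V₂).ι = V₂.ι := Y.homOfLE_ι _
  let c : V₁.toScheme ⨿ V₂.toScheme ⟶ (V₁ ⊔ V₂).toScheme := coprod.desc j₁ j₂
  have hc : c ≫ (V₁ ⊔ V₂).ι ≫ h = coprod.desc (V₁.ι ≫ h) (V₂.ι ≫ h) := by
    apply coprod.hom_ext
    · rw [coprod.inl_desc, ← Category.assoc, coprod.inl_desc, ← Category.assoc, hj₁]
    · rw [coprod.inr_desc, ← Category.assoc, coprod.inr_desc, ← Category.assoc, hj₂]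
  have hfin : IsFinite (c ≫ (V₁ ⊔ V₂).ι ≫ h) := by rw [hc]; infer_instance
  have hsurj : Surjective c := by
    refine ⟨fun w => ?_⟩
    rcases w.2 with hw | hw
    · refine ⟨(coprod.inl : V₁.toScheme ⟶ V₁.toScheme ⨿ V₂.toScheme) ⟨w.1, hw⟩, ?_⟩
      rw [← Scheme.Hom.comp_apply, coprod.inl_desc]
      apply Subtype.ext
      exact congr($hj₁ ⟨w.1, hw⟩)
    · refine ⟨(coprod.inr : V₂.toScheme ⟶ V₁.toScheme ⨿ V₂.toScheme) ⟨w.1, hw⟩, ?_⟩
      rw [← Scheme.Hom.comp_apply, coprod.inr_desc]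
      apply Subtype.ext
      exact congr($hj₂ ⟨w.1, hw⟩)
  have : UniversallyClosed ((V₁ ⊔ V₂).ι ≫ h) := .of_comp_surjective c _
  have : QuasiCompact ((V₁ ⊔ V₂).ι ≫ h) := quasiCompact_of_comp_surjective c _
  have : LocallyOfFiniteType ((V₁ ⊔ V₂).ι ≫ h) :=
    of_sup (P := @LocallyOfFiniteType) h V₁ V₂ inferInstance inferInstance
  have : LocallyQuasiFinite ((V₁ ⊔ V₂).ι ≫ h) :=
    of_sup (P := @LocallyQuasiFinite) h V₁ V₂ inferInstance inferInstance
  have : IsProper ((V₁ ⊔ V₂).ι ≫ h) := {}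
  exact IsFinite.of_isProper_of_locallyQuasiFinite _

theorem isFinite_finsetSup_ι_comp {Y U : Scheme.{u}} (h : Y ⟶ U) [IsSeparated h] {ι : Type*}
    (s : Finset ι) (V : ι → Y.Opens) (hV : ∀ i, IsFinite ((V i).ι ≫ h)) :
    IsFinite ((s.sup V).ι ≫ h) := by
  classical
  induction s using Finset.induction_on with
  | empty =>
    rw [Finset.sup_empty]
    have : IsEmpty ↥((⊥ : Y.Opens).toScheme) := by
      constructor
      rintro ⟨x, hx⟩
      exact hx
    infer_instance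
  | insert a s _ ih =>
    rw [Finset.sup_insert]
    exact isFinite_sup_ι_comp h _ _ (hV a) ih

theorem isFinite_iSup_ι_comp {Y U : Scheme.{u}} (h : Y ⟶ U) [IsSeparated h] {ι : Type*} [Finite ι]
    (V : ι → Y.Opens) (hV : ∀ i, IsFinite ((V i).ι ≫ h)) :
    IsFinite ((⨆ i, V i).ι ≫ h) := by
  have := Fintype.ofFinite ι
  rw [← Finset.sup_univ_eq_iSup]
  exact isFinite_finsetSup_ι_comp h _ V hV

theorem exists_isEtaleNbhd_clopen_finite_of_finite_isolated {X S : Scheme.{u}} (f : X ⟶ S)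
    [LocallyOfFiniteType f] [IsSeparated f] (s : S)
    (hfin : {x : ↑(f.fiber s) | IsOpen ({x} : Set ↑(f.fiber s))}.Finite) :
    ∃ (U : Scheme.{u}) (g : U ⟶ S) (u : U), Hens2.IsEtaleNbhd g u s ∧
      ∃ V : (pullback f g).Opens, IsClopen (V : Set ↑(pullback f g)) ∧
        IsFinite (V.ι ≫ pullback.snd f g) ∧
        ∀ w : ↑((pullback.snd f g).fiber u), (pullback.snd f g).fiberι u w ∉ V →
          ¬ IsOpen ({w} : Set ↑((pullback.snd f g).fiber u)) := by
  have hT : Finite ↑{x : ↑(f.fiber s) | IsOpen ({x} : Set ↑(f.fiber s))} := hfin.to_subtype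
  obtain ⟨n, ⟨e⟩⟩ := Finite.exists_equiv_fin ↑{x : ↑(f.fiber s) | IsOpen ({x} : Set ↑(f.fiber s))}
  let x : Fin n → X := fun i => f.fiberι s (e.symm i).1
  have hmem : ∀ q : ↑(f.fiber s), f (f.fiberι s q) = s := fun q => by
    have : f.fiberι s q ∈ f ⁻¹' {s} := by
      rw [← f.range_fiberι s]; exact ⟨q, rfl⟩
    exact this
  have hs : ∀ i, f (x i) = s := fun i => hmem _
  have hx : ∀ i, f.QuasiFiniteAt (x i) := fun i =>
    (Groth.Agent.Lib.QuasiFiniteAtBC.quasiFiniteAt_iff_isOpen_singleton s (e.symm i).1 rfl).mpr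
      (e.symm i).2
  obtain ⟨U, g, u, hg, hgu, hiso, V, v, H⟩ := exists_etaleNbhd_of_forall_quasiFiniteAt f s x hs hx
  refine ⟨U, g, u, ⟨hg, hgu, (ConcreteCategory.isIso_iff_bijective _).mp hiso⟩, ⨆ i, V i,
    ⟨?_, (⨆ i, V i).isOpen⟩, isFinite_iSup_ι_comp _ V (fun i => (H i).2.1), ?_⟩
  · rw [TopologicalSpace.Opens.coe_iSup]
    exact isClosed_iUnion_of_finite fun i =>
      isClosed_of_isFinite_of_isSeparated f g (V i) (H i).2.1
  · intro w hw hopen
    set y := (pullback.snd f g).fiberι u w with hy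
    have hyu : pullback.snd f g y = u := by
      have : y ∈ pullback.snd f g ⁻¹' {u} := by
        rw [← (pullback.snd f g).range_fiberι u]; exact ⟨w, rfl⟩
      exact this
    have h1 : (pullback.snd f g).QuasiFiniteAt y :=
      (Groth.Agent.Lib.QuasiFiniteAtBC.quasiFiniteAt_iff_isOpen_singleton u w rfl).mpr hopen
    have h2 : f.QuasiFiniteAt (pullback.fst f g y) :=
      Groth.Agent.Lib.QuasiFiniteAtBC.quasiFiniteAt_of_isPullback (IsPullback.of_hasPullback f g) y h1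
    have h3 : f (pullback.fst f g y) = s := by
      have := congr($(pullback.condition (f := f) (g := g)) y)
      rw [Scheme.Hom.comp_apply, Scheme.Hom.comp_apply, hyu, hgu] at this
      exact this
    obtain ⟨q, hq⟩ : ∃ q : ↑(f.fiber s), f.fiberι s q = pullback.fst f g y := by
      have : pullback.fst f g y ∈ Set.range (f.fiberι s) := by
        rw [f.range_fiberι s]; exact h3
      exact this
    have hqopen : IsOpen ({q} : Set ↑(f.fiber s)) :=
      (Groth.Agent.Lib.QuasiFiniteAtBC.quasiFiniteAt_iff_isOpen_singleton s q hq).mp h2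
    have hxi : x (e ⟨q, hqopen⟩) = pullback.fst f g y := by
      dsimp only [x]
      rw [Equiv.symm_apply_apply]
      exact hq
    obtain ⟨h4, h5, h6, h7, h8⟩ := H (e ⟨q, hqopen⟩)
    have hyv : y = v (e ⟨q, hqopen⟩) :=
      eq_of_fst_eq_of_snd_eq f g y _ (hxi.symm.trans h8.symm) (hyu.trans h6.symm) (h6 ▸ hiso)
    apply hw
    have : y ∈ V (e ⟨q, hqopen⟩) := hyv ▸ h4
    exact (le_iSup V _) this

end Groth.Agent.Lib.EtLocQF
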