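import Mathlib.AlgebraicGeometry.ZariskisMainTheorem
import Mathlib.AlgebraicGeometry.Morphisms.UniversallyOpen

/-!
# Quasi-finiteness at a point and base change

For a pullback square `P = X ×_Z Y` with `f : X ⟶ Z` locally of finite type, the base change
`snd : P ⟶ Y` is quasi-finite at `p` iff `f` is quasi-finite at `fst p`.
-/

set_option autoImplicit false
universe u

open CategoryTheory Limits AlgebraicGeometry

namespace Groth.Agent.Lib.QuasiFiniteAtBC

variable {P X Y Z : Scheme.{u}}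

/-- Quasi-finiteness at `x` in terms of any point of a fibre lying over `x`. -/
theorem quasiFiniteAt_iff_isOpen_singleton {f : X ⟶ Z} [LocallyOfFiniteType f] (z : Z)
    (q : f.fiber z) {x : X} (hq : f.fiberι z q = x) : f.QuasiFiniteAt x ↔ IsOpen ({q} : Set _) := by
  have hz : f x = z := by
    have : f.fiberι z q ∈ f ⁻¹' {z} := by
      rw [← f.range_fiberι z]; exact ⟨q, rfl⟩
    rw [hq] at this
    exact this
  subst hz
  have : q = f.asFiber x := by
    apply (f.fiberι (f x)).isEmbedding.injective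
    rw [hq, Scheme.Hom.fiberι_asFiber]
  rw [this]
  exact Scheme.Hom.quasiFiniteAt_iff_isOpen_singleton_asFiber

/-- Descent direction. -/
theorem quasiFiniteAt_of_isPullback {fst : P ⟶ X} {snd : P ⟶ Y} {f : X ⟶ Z} {g : Y ⟶ Z}
    (h : IsPullback fst snd f g) [LocallyOfFiniteType f] (p : P) (hp : snd.QuasiFiniteAt p) :
    f.QuasiFiniteAt (fst p) := by
  haveI : LocallyOfFiniteType snd := MorphismProperty.of_isPullback h inferInstance
  set y := snd p with hy
  let φ : snd.fiber y ⟶ f.fiber (g y) :=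
    pullback.map _ _ _ _ fst (Spec.map (g.residueFieldMap y)) g h.w.symm (by simp)
  have sq := isPullback_fiberToSpecResidueField_of_isPullback h y
  haveI : UniversallyOpen (Spec.map (g.residueFieldMap y)) := inferInstance
  haveI : UniversallyOpen φ := MorphismProperty.of_isPullback sq.flip inferInstance
  have hopen : IsOpen ({snd.asFiber p} : Set (snd.fiber (snd p))) :=
    Scheme.Hom.quasiFiniteAt_iff_isOpen_singleton_asFiber.mp hp
  have hφ : φ ≫ f.fiberι (g y) = snd.fiberι y ≫ fst := pullback.lift_fst _ _ _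
  have himg : IsOpen (φ.base '' {snd.asFiber p}) := φ.isOpenMap _ hopen
  rw [Set.image_singleton] at himg
  refine (quasiFiniteAt_iff_isOpen_singleton (g y) (φ.base (snd.asFiber p)) ?_).mpr himg
  rw [← Scheme.Hom.comp_apply, hφ, Scheme.Hom.comp_apply, Scheme.Hom.fiberι_asFiber]

/-- Base change direction. -/
theorem quasiFiniteAt_baseChange {fst : P ⟶ X} {snd : P ⟶ Y} {f : X ⟶ Z} {g : Y ⟶ Z}
    (h : IsPullback fst snd f g) [LocallyOfFiniteType f] (p : P) (hp : f.QuasiFiniteAt (fst p)) :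
    snd.QuasiFiniteAt p := by
  have sq : IsPullback (fst ∣_ f.quasiFiniteLocus) ((fst ⁻¹ᵁ f.quasiFiniteLocus).ι ≫ snd)
      (f.quasiFiniteLocus.ι ≫ f) g :=
    (isPullback_morphismRestrict fst f.quasiFiniteLocus).paste_vert h
  haveI : LocallyQuasiFinite ((fst ⁻¹ᵁ f.quasiFiniteLocus).ι ≫ snd) :=
    MorphismProperty.of_isPullback sq inferInstance
  have hmem : p ∈ fst ⁻¹ᵁ f.quasiFiniteLocus := hp
  have := Scheme.Hom.quasiFiniteAt ((fst ⁻¹ᵁ f.quasiFiniteLocus).ι ≫ snd) ⟨p, hmem⟩
  exact Scheme.Hom.quasiFiniteAt_comp_iff_of_isOpenImmersion.mp this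

theorem quasiFiniteAt_iff_of_isPullback {fst : P ⟶ X} {snd : P ⟶ Y} {f : X ⟶ Z} {g : Y ⟶ Z}
    (h : IsPullback fst snd f g) [LocallyOfFiniteType f] (p : P) :
    snd.QuasiFiniteAt p ↔ f.QuasiFiniteAt (fst p) :=
  ⟨quasiFiniteAt_of_isPullback h p, quasiFiniteAt_baseChange h p⟩

/-- The quasi-finite locus commutes with base change. -/
theorem quasiFiniteLocus_of_isPullback {fst : P ⟶ X} {snd : P ⟶ Y} {f : X ⟶ Z} {g : Y ⟶ Z}
    (h : IsPullback fst snd f g) [LocallyOfFiniteType f] [LocallyOfFiniteType snd] :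
    snd.quasiFiniteLocus = fst ⁻¹ᵁ f.quasiFiniteLocus := by
  ext p
  exact quasiFiniteAt_iff_of_isPullback h p

end Groth.Agent.Lib.QuasiFiniteAtBC
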