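import Groth.Agent.Lib.EtLocQFSp46
import Groth.Agent.Lib.EtLocQF3
import Groth.Agent.Lib.DiagRepFppf46
import Groth.Agent.Lib.QuasiFiniteAtBC
import Groth.Agent.Lib.AlgSpQC

/-!
# Etale localisation of quasi-finite separated morphisms of algebraic spaces at finitely many points (helper46)

* `finite_setOf_quasiFiniteAt`: a quasi-compact morphism of schemes locally of finite type is quasi-finite at only
  finitely many points of a fibre.
* `finite_qf_fibre_of_quasiCompact`, `finite_fibre_of_quasiCompact_point`: the two finiteness statements for points of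
  `X ×_Y W` needed in the two cases (`f` quasi-compact / `Y` decent).
* `exists_etale_splitting_of_finite`: the splitting for a finite set of points.
-/

set_option autoImplicit false
universe u

open CategoryTheory CategoryTheory.Limits AlgebraicGeometry Opposite

namespace Groth.Agent.Lib.EtLocQFSpFin46

open AlgSp Groth.Agent.Lib.AlgSpPoints Groth.Agent.Lib.H86AlgSpOpen Groth.Agent.Lib.H86AlgSpSub
open Groth.Agent.Lib.ProperLqfFinite46 Groth.Agent.Lib.AlgSpQFBC91

variable {S : Scheme.{u}}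

/-- A quasi-compact morphism locally of finite type is quasi-finite at only finitely many points of a fibre. -/
theorem finite_setOf_quasiFiniteAt {A W : Scheme.{u}} (h : A ⟶ W) [LocallyOfFiniteType h]
    [QuasiCompact h] (w₀ : W) : {a : A | h a = w₀ ∧ h.QuasiFiniteAt a}.Finite := by
  have : LocallyOfFiniteType (h.fiberToSpecResidueField w₀) :=
    MorphismProperty.of_isPullback (P := @LocallyOfFiniteType)
      (IsPullback.of_hasPullback h (W.fromSpecResidueField w₀)) inferInstance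
  have : IsLocallyNoetherian (h.fiber w₀) :=
    LocallyOfFiniteType.isLocallyNoetherian (h.fiberToSpecResidueField w₀)
  have : CompactSpace ↥(h.fiber w₀) := inferInstance
  have : IsNoetherian (h.fiber w₀) := {}
  have hI : {q : ↥(h.fiber w₀) | IsOpen ({q} : Set ↥(h.fiber w₀))}.Finite := by
    apply IsCompact.finite (TopologicalSpace.NoetherianSpace.isCompact _)
    rw [isDiscrete_iff_discreteTopology, discreteTopology_iff_isOpen_singleton]
    rintro ⟨q, hq⟩
    have : ({⟨q, hq⟩} : Set ↥{q : ↥(h.fiber w₀) | IsOpen ({q} : Set ↥(h.fiber w₀))}) =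
        Subtype.val ⁻¹' {q} := by
      ext ⟨z, hz⟩; simp
    rw [this]
    exact (hq : IsOpen {q}).preimage continuous_subtype_val
  refine (hI.image (h.fiberι w₀)).subset ?_
  rintro a ⟨ha, hq⟩
  obtain ⟨q, hq'⟩ : a ∈ Set.range (h.fiberι w₀) := by rw [h.range_fiberι w₀]; exact ha
  exact ⟨q, (Groth.Agent.Lib.QuasiFiniteAtBC.quasiFiniteAt_iff_isOpen_singleton w₀ q hq').1 hq, hq'⟩

/-- A quasi-compact scheme with a locally quasi-finite morphism to the spectrum of a field is finite. -/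
theorem finite_of_lqf_field {E : Scheme.{u}} {L : Type u} [Field L] (g : E ⟶ Spec (CommRingCat.of L))
    [LocallyQuasiFinite g] [CompactSpace ↥E] : Finite ↥E := by
  have h1 : _root_.IsDiscrete (g ⁻¹' {IsLocalRing.closedPoint L}) := g.isDiscrete_preimage_singleton _
  have h2 : g ⁻¹' {IsLocalRing.closedPoint L} = Set.univ := by
    ext e
    simp only [Set.mem_preimage, Set.mem_univ, iff_true]
    exact Subsingleton.elim _ _
  rw [h2] at h1
  exact Set.finite_univ_iff.1 (CompactSpace.isCompact_univ.finite h1)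

/-- **Case `f` quasi-compact.**  Over an affine chart `W` of `Y` the base change `X_W ⟶ W` is quasi-finite at only finitely
many points over a given point of `W`. -/
theorem finite_qf_fibre_of_quasiCompact {X Y : Sp S} (f : X ⟶ Y)
    (hlftW : ∀ {W : Over S} (c : (yon S).obj W ⟶ Y), RepWith @Etale c →
      LocP @LocallyOfFiniteType (pullback.snd f c))
    (hqc : IsQuasiCompactMor f) {W : Over S} [IsAffine W.left] (c : (yon S).obj W ⟶ Y)
    (hc : RepWith @Etale c) (w₀ : ↥W.left) :
    {ξ : Points (pullback f c) | ξ ∈ qfLocus (pullback.snd f c) ∧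
      Points.map (pullback.snd f c) ξ = Points.ofScheme W w₀}.Finite := by
  have sqW := IsPullback.of_hasPullback f c
  have hlft := hlftW c hc
  obtain ⟨A, α, hαe, hαs, hAc⟩ : IsQuasiCompactSp (pullback f c) :=
    hqc (IsAlgSpace.yon_obj W) ((Groth.Agent.Lib.AlgSpQC.isQuasiCompactSp_yon_iff W).2 inferInstance) c _ _ sqW
  have : CompactSpace ↥A.left := hAc
  obtain ⟨h, hh⟩ := (yon S).map_surjective (α ≫ pullback.snd f c)
  have hcomm : α ≫ pullback.snd f c = (yon S).map h ≫ 𝟙 _ := by rw [hh, Category.comp_id]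
  have : LocallyOfFiniteType h.left := hlft α (𝟙 _) h hαe (repWith_id _ W) hcomm
  have : QuasiCompact h.left := (HasAffineProperty.iff_of_isAffine (P := @QuasiCompact)).2 hAc
  refine ((finite_setOf_quasiFiniteAt h.left w₀).image (Points.ofPt α)).subset ?_
  rintro ξ ⟨hξq, hξw⟩
  obtain ⟨a, rfl⟩ := Groth.Agent.Lib.AlgSpQC.surjective_ofPt_of_repWith_surjective hαs ξ
  refine ⟨a, ⟨?_, ?_⟩, rfl⟩
  · rw [Points.map_ofPt, hcomm, Category.comp_id] at hξw
    have h1 : Points.ofPt ((yon S).map h) a = Points.ofScheme W (h.left a) := by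
      have := ofPt_yon_map_comp h (𝟙 _) a
      rwa [Category.comp_id] at this
    rw [h1] at hξw
    exact (Points.schemeEquiv W).injective hξw
  · exact (mem_qfLocus_iff _ hlft α (𝟙 _) h hαe (repWith_id _ W) hcomm a).1 hξq

/-- **Case `Y` decent.**  If `x ↦ y` and `y` is the class of a quasi-compact field point `Spec K ⟶ Y`, then over a
quasi-compact chart `W` of `Y` only finitely many points of `X_W` lie over `x`. -/
theorem finite_fibre_of_quasiCompact_point {X Y : Sp S} (f : X ⟶ Y) {W : Over S} [CompactSpace ↥W.left]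
    (c : (yon S).obj W ⟶ Y) (hc : RepWith @Etale c) (p : FieldPt Y)
    (hpqc : RepWith @QuasiCompact p.toHom) (x : Points X) (hx : Points.map f x = Points.mk p) :
    {ξ : Points (pullback f c) | Points.map (pullback.fst f c) ξ = x}.Finite := by
  have sqW := IsPullback.of_hasPullback f c
  have sqK := IsPullback.of_hasPullback f p.toHom
  have hpt : Points.map p.toHom (Points.ofScheme p.pt (IsLocalRing.closedPoint p.K)) = Points.mk p := by
    rw [← Points.ofPt_eq_map_ofScheme]; exact Points.ofPt_toHom p _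
  obtain ⟨xK, hxK1, -⟩ := exists_of_isPullback sqK x (Points.ofScheme _ _) (hx.trans hpt.symm)
  obtain ⟨qK, rfl⟩ := Points.mk_surjective xK
  set q : (yon S).obj qK.pt ⟶ X := qK.toHom ≫ pullback.fst f p.toHom with hq0
  obtain ⟨m₀, hm₀⟩ := (yon S).map_surjective (qK.toHom ≫ pullback.snd f p.toHom)
  have hqf : q ≫ f = (yon S).map m₀ ≫ p.toHom := by
    rw [hq0, Category.assoc, pullback.condition, ← Category.assoc, hm₀]
  have hm₀qc : QuasiCompact m₀.left := by
    change QuasiCompact (X := Spec (CommRingCat.of qK.K)) (Y := Spec (CommRingCat.of p.K)) m₀.left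
    infer_instance
  have hmqc : RepWith @QuasiCompact ((yon S).map m₀ ≫ p.toHom) :=
    (RepWith @QuasiCompact).comp_mem _ _ ((repWith_yon_map_iff _ m₀).2 hm₀qc) hpqc
  obtain ⟨E₀, sndE, fstE, sqE⟩ := hc.rep (q ≫ f)
  have hsndE : Etale sndE.left := hc.property _ _ _ sqE
  obtain ⟨eW, heW⟩ := (yon S).map_surjective fstE
  have heWqc : QuasiCompact eW.left := by
    refine hmqc.property c ((yon S).map sndE) eW ?_
    rw [heW, ← hqf]
    exact sqE.flip
  have hE₀c : CompactSpace ↥E₀.left := QuasiCompact.compactSpace_of_compactSpace eW.left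
  have hE₀fin : Finite ↥E₀.left := by
    have : LocallyQuasiFinite (X := E₀.left) (Y := Spec (CommRingCat.of qK.K)) sndE.left :=
      Groth.Agent.Lib.DiagRepFppf46.locallyQuasiFinite_of_unramified sndE.left
    exact finite_of_lqf_field (E := E₀.left) (L := qK.K) sndE.left
  -- the map `h_{E₀} ⟶ X_W`
  let g' : (yon S).obj E₀ ⟶ pullback f c := sqW.lift ((yon S).map sndE ≫ q) fstE (by
    rw [Category.assoc]; exact sqE.w.symm)
  have hg'1 : g' ≫ pullback.fst f c = (yon S).map sndE ≫ q := sqW.lift_fst _ _ _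
  have hg'2 : g' ≫ pullback.snd f c = fstE := sqW.lift_snd _ _ _
  have sqg' : IsPullback g' ((yon S).map sndE) (pullback.fst f c) q := by
    refine IsPullback.of_right ?_ hg'1 sqW.flip
    rw [hg'2]
    exact sqE
  refine (Set.finite_range (Points.ofPt g')).subset ?_
  intro ξ hξ
  have hξ' : Points.map (pullback.fst f c) ξ = Points.ofPt q (IsLocalRing.closedPoint qK.K) := by
    rw [hξ, ← hxK1, hq0, ← Points.map_ofPt, Points.ofPt_toHom]
  obtain ⟨e, -, he⟩ := exists_of_isPullback_yon sqg' ξ _ hξ'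
  exact ⟨e, he⟩

/-- **Etale localisation at finitely many points.**  `W` is an etale chart of `Y`, `w₀` a point of `W`, `xs` a set of points
of `X` at which `f` is quasi-finite, and only finitely many points of `X_W` lie over `xs` and `w₀`. -/
theorem exists_etale_splitting_of_finite {X Y : Sp S} (hX : IsAlgSpace X) (hY : IsAlgSpace Y) (f : X ⟶ Y)
    (hlft : LocP @LocallyOfFiniteType f) (hsep : IsSeparatedMor f)
    {W : Over S} (c : (yon S).obj W ⟶ Y) (w₀ : ↥W.left)
    (xs : Set (Points X)) (hqf : ∀ x ∈ xs, x ∈ qfLocus f)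
    (hfin : {ξ : Points (pullback f c) | Points.map (pullback.fst f c) ξ ∈ xs ∧
      Points.map (pullback.snd f c) ξ = Points.ofScheme W w₀}.Finite) :
    ∃ (U : Over S) (gU : U ⟶ W) (u₀ : ↥U.left), Etale gU.left ∧ gU.left u₀ = w₀ ∧
      ∀ (P : Sp S) (prX : P ⟶ X) (prU : P ⟶ (yon S).obj U),
        IsPullback prX prU f ((yon S).map gU ≫ c) →
        ∃ (V : Over S) (jV : (yon S).obj V ⟶ P),
          RepWith @IsOpenImmersion jV ∧ RepWith @IsClosedImmersion jV ∧ IsFiniteMor (jV ≫ prU) ∧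
          (∀ v : Points ((yon S).obj V), Points.map (jV ≫ prU) v = Points.ofScheme U u₀ →
            Points.map (jV ≫ prX) v ∈ xs) ∧
          ∀ w : Points P, w ∉ Set.range (Points.map jV) → Points.map prU w = Points.ofScheme U u₀ →
            Points.map prX w ∉ xs := by
  have hWa : IsAlgSpace ((yon S).obj W) := IsAlgSpace.yon_obj W
  -- `X_W`
  have sqW := IsPullback.of_hasPullback f c
  set XW := pullback f c with hXW
  set b : XW ⟶ X := pullback.fst _ _ with hb
  set fW : XW ⟶ (yon S).obj W := pullback.snd _ _ with hfW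
  have hXWa : IsAlgSpace XW :=
    Groth.Agent.Lib.AlgSpBasic.isAlgSpace_of_isPullback hX hWa (fun U a => hY.representable_from_yon a) sqW
  have hlftW : LocP @LocallyOfFiniteType fW :=
    Groth.Agent.Lib.AlgSpLocP.locP_of_isPullback Groth.Agent.Lib.AlgSpLocP.etLocalClass_lft hX hY hWa sqW hlft
  have hsepW : IsSeparatedMor fW := Groth.Agent.Lib.AlgSpProper.isSeparatedMor_of_isPullback sqW hsep
  -- the quasi-finite locus `X'`
  have hQo : IsOpen (qfLocus fW) := isOpen_qfLocus fW hlftW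
  set X' := openSub XW (qfLocus fW) with hX'
  set ι' : X' ⟶ XW := openSubι XW (qfLocus fW) with hι'
  have hι'o : RepWith @IsOpenImmersion ι' := openSubι_repWith hQo
  have hX'a : IsAlgSpace X' := isAlgSpace_openSub hXWa hQo
  have hf'qf : LocP (@LocallyQuasiFinite ⊓ @LocallyOfFiniteType) (ι' ≫ fW) :=
    locP_lqf_openSubι_comp hXWa hWa fW hlftW hQo subset_rfl
  have hf'sep : IsSeparatedMor (ι' ≫ fW) :=
    Groth.Agent.Lib.AlgSpProper.isSeparatedMor_comp
      (Groth.Agent.Lib.GrpFieldSep46.isSeparatedMor_of_mono _) hsepW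
  obtain ⟨X'₀, f'₀, e', hf'₀, hsep₀, hlqf₀, hlft₀⟩ :=
    Groth.Agent.Lib.DiagRepFppf46.exists_scheme_of_sep_lqf hX'a (ι' ≫ fW) hf'sep hf'qf
  -- points of `X'₀` as points of `X_W`
  let qpt : ↥X'₀.left → Points XW := fun z => Points.map (e'.hom ≫ ι') (Points.ofScheme X'₀ z)
  have hqinj : Function.Injective qpt := by
    have : Mono (e'.hom ≫ ι') := mono_comp _ _
    exact (map_injective_of_mono (e'.hom ≫ ι')).comp (Points.schemeEquiv X'₀).injective
  have hqfW : ∀ z, Points.map fW (qpt z) = Points.ofScheme W (f'₀.left z) := by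
    intro z
    change Points.map fW (Points.map (e'.hom ≫ ι') (Points.ofScheme X'₀ z)) = _
    rw [← Points.map_comp, Category.assoc, ← hf'₀]
    exact Points.map_yon_map_apply f'₀ z
  have hqrange : ∀ ξ : Points XW, ξ ∈ qfLocus fW → ∃ z, qpt z = ξ := by
    intro ξ hξ
    obtain ⟨x', hx'⟩ : ξ ∈ Set.range (Points.map ι') := by rw [range_map_openSubι]; exact hξ
    refine ⟨Points.toScheme X'₀ (Points.map e'.inv x'), ?_⟩
    change Points.map (e'.hom ≫ ι') (Points.ofScheme X'₀ _) = ξ
    rw [Points.ofScheme_toScheme, ← Points.map_comp, Iso.inv_hom_id_assoc, hx']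
  have hxsq : ∀ ξ : Points XW, Points.map b ξ ∈ xs → ξ ∈ qfLocus fW := by
    intro ξ hξ
    rw [← mem_qfLocus_baseChange hX hY hXWa hWa sqW hlft]
    exact hqf _ hξ
  -- the finite set `Sg`
  set Sg : Set ↥X'₀.left := {z | Points.map b (qpt z) ∈ xs ∧ f'₀.left z = w₀} with hSg
  have hSgfin : Sg.Finite := by
    refine Set.Finite.of_finite_image (hfin.subset ?_) hqinj.injOn
    rintro _ ⟨z, ⟨hz1, hz2⟩, rfl⟩
    exact ⟨hz1, by rw [hqfW, hz2]⟩
  have : Finite ↥Sg := hSgfin.to_subtype
  obtain ⟨n, ⟨en⟩⟩ := Finite.exists_equiv_fin ↥Sg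
  let xfam : Fin n → ↥X'₀.left := fun i => (en.symm i).1
  have hxfam_s : ∀ i, f'₀.left (xfam i) = w₀ := fun i => (en.symm i).2.2
  have hxfam_x : ∀ i, Points.map b (qpt (xfam i)) ∈ xs := fun i => (en.symm i).2.1
  -- etale localisation for schemes
  obtain ⟨U₀, g₀, u₀, hg₀e, hg₀u, hiso, Vf, vf, HV⟩ :=
    Groth.Agent.Lib.EtLocQF.exists_etaleNbhd_of_forall_quasiFiniteAt f'₀.left w₀ xfam hxfam_s
      (fun i => f'₀.left.quasiFiniteAt _)
  set V₁ : (pullback f'₀.left g₀).Opens := ⨆ i, Vf i with hV₁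
  have hVfin : IsFinite (V₁.ι ≫ pullback.snd f'₀.left g₀) :=
    Groth.Agent.Lib.EtLocQF.isFinite_iSup_ι_comp _ Vf (fun i => (HV i).2.1)
  -- objects over `S`
  let U : Over S := Over.mk (g₀ ≫ W.hom)
  let gU : U ⟶ W := Over.homMk g₀ rfl
  have : Etale gU.left := hg₀e
  let E : Over S := Over.mk (pullback.snd f'₀.left g₀ ≫ U.hom)
  let prX' : E ⟶ X'₀ := Over.homMk (pullback.fst f'₀.left g₀) (by
    change pullback.fst f'₀.left g₀ ≫ X'₀.hom = pullback.snd f'₀.left g₀ ≫ g₀ ≫ W.hom
    rw [← Over.w f'₀, ← Category.assoc, pullback.condition, Category.assoc])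
  let prU' : E ⟶ U := Over.homMk (pullback.snd f'₀.left g₀) rfl
  have sqE : IsPullback prX' prU' f'₀ gU := by
    apply IsPullback.of_map (Over.forget S) (Over.OverMorphism.ext pullback.condition)
    exact IsPullback.of_hasPullback f'₀.left g₀
  let VV : Over S := Over.mk (V₁.ι ≫ E.hom)
  let ιVV : VV ⟶ E := Over.homMk V₁.ι rfl
  have : IsOpenImmersion ιVV.left := inferInstanceAs (IsOpenImmersion V₁.ι)
  let ζ : VV ⟶ U := ιVV ≫ prU'
  have hζfin : IsFinite ζ.left := hVfin
  have hUa : IsAlgSpace ((yon S).obj U) := IsAlgSpace.yon_obj U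
  have hVVa : IsAlgSpace ((yon S).obj VV) := IsAlgSpace.yon_obj VV
  refine ⟨U, gU, u₀, hg₀e, hg₀u, ?_⟩
  intro P prX prU sq
  have hPa : IsAlgSpace P :=
    Groth.Agent.Lib.AlgSpBasic.isAlgSpace_of_isPullback hX hUa (fun U a => hY.representable_from_yon a) sq
  -- `ρ : P ⟶ X_W`
  have hρw : prX ≫ f = (prU ≫ (yon S).map gU) ≫ c := by rw [sq.w, Category.assoc]
  let ρ : P ⟶ XW := sqW.lift prX (prU ≫ (yon S).map gU) hρw
  have hρ1 : ρ ≫ b = prX := sqW.lift_fst _ _ _
  have hρ2 : ρ ≫ fW = prU ≫ (yon S).map gU := sqW.lift_snd _ _ _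
  have sqρ : IsPullback ρ prU fW ((yon S).map gU) := by
    refine IsPullback.of_right ?_ hρ2 sqW
    rw [hρ1]
    exact sq
  -- `φ : h_E ⟶ P`
  have sqE' : IsPullback ((yon S).map prX' ≫ e'.hom) ((yon S).map prU') (ι' ≫ fW) ((yon S).map gU) := by
    have h1 := sqE.map (yon S)
    have h2 : IsPullback ((yon S).map prX') ((yon S).map prU') (e'.hom ≫ ι' ≫ fW) ((yon S).map gU) := by
      rw [← hf'₀]; exact h1
    exact IsPullback.of_iso h2 (Iso.refl _) e' (Iso.refl _) (Iso.refl _) (by simp) (by simp) (by simp)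
      (by simp)
  have hφw : (((yon S).map prX' ≫ e'.hom) ≫ ι') ≫ fW = (yon S).map prU' ≫ (yon S).map gU := by
    rw [Category.assoc]; exact sqE'.w
  let φ : (yon S).obj E ⟶ P := sqρ.lift (((yon S).map prX' ≫ e'.hom) ≫ ι') ((yon S).map prU') hφw
  have hφ1 : φ ≫ ρ = ((yon S).map prX' ≫ e'.hom) ≫ ι' := sqρ.lift_fst _ _ _
  have hφ2 : φ ≫ prU = (yon S).map prU' := sqρ.lift_snd _ _ _
  have sqφ : IsPullback φ ((yon S).map prX' ≫ e'.hom) ρ ι' :=
    IsPullback.of_right (by rw [hφ2]; exact sqE'.flip) hφ1 sqρ.flip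
  have hφo : RepWith @IsOpenImmersion φ := Groth.Agent.Lib.AlgSpBasic.repWith_fst_of_isPullback _ sqφ hι'o
  let jV : (yon S).obj VV ⟶ P := (yon S).map ιVV ≫ φ
  have hjVo : RepWith @IsOpenImmersion jV :=
    (RepWith @IsOpenImmersion).comp_mem _ _ ((repWith_yon_map_iff _ ιVV).2 inferInstance) hφo
  have hjVU : jV ≫ prU = (yon S).map ζ := by
    rw [Category.assoc, hφ2, ← Functor.map_comp]
  have hprUsep : IsSeparatedMor prU := Groth.Agent.Lib.AlgSpProper.isSeparatedMor_of_isPullback sq hsep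
  have hζF : IsFiniteMor ((yon S).map ζ) :=
    (Groth.Agent.Lib.H86ZarGlue.isFiniteMor_iff_repWith _).2 ((repWith_yon_map_iff _ ζ).2 hζfin)
  have hζuc : IsUnivClosedMor ((yon S).map ζ) :=
    ((Groth.Agent.S10271.result (X := ⟨_, hVVa⟩) (Y := ⟨_, hUa⟩)
      (ObjectProperty.homMk ((yon S).map ζ))).1 hζF).2.2.2
  have hjVuc : IsUnivClosedMor jV :=
    Groth.Agent.Lib.AlgSpProper.isUnivClosedMor_of_comp hVVa hPa hUa hprUsep (by rw [hjVU]; exact hζuc)
  have hjVc := Groth.Agent.Lib.EtLocQFSp46.repWith_isClosedImmersion_of_open_of_univClosed hVVa hPa hjVo hjVuc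
  -- the image of a point of `E` in `X_W`
  have hφpt : ∀ ε : ↥E.left, Points.map ρ (Points.ofPt φ ε) = qpt (prX'.left ε) := by
    intro ε
    rw [Points.map_ofPt, hφ1, Category.assoc, ofPt_yon_map_comp prX' (e'.hom ≫ ι') ε,
      Points.ofPt_eq_map_ofScheme]
  have hφU : ∀ ε : ↥E.left, Points.map prU (Points.ofPt φ ε) = Points.ofScheme U (prU'.left ε) := by
    intro ε
    rw [Points.map_ofPt, hφ2]
    have := ofPt_yon_map_comp prU' (𝟙 _) ε
    rwa [Category.comp_id] at this
  have hjVpt : ∀ v : ↥VV.left, Points.ofPt jV v = Points.ofPt φ (ιVV.left v) :=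
    fun v => ofPt_yon_map_comp ιVV φ v
  refine ⟨VV, jV, hjVo, hjVc, by rw [hjVU]; exact hζF, ?_, ?_⟩
  · -- points of `V` over `u₀` map into `xs`
    intro v hv
    obtain ⟨v₀, rfl⟩ := (Points.schemeEquiv VV).surjective v
    change Points.map (jV ≫ prU) (Points.ofScheme VV v₀) = _ at hv
    change Points.map (jV ≫ prX) (Points.ofScheme VV v₀) ∈ xs
    rw [Points.map_comp, ← Points.ofPt_eq_map_ofScheme, hjVpt, hφU] at hv
    have hv' : prU'.left (ιVV.left v₀) = u₀ := (Points.schemeEquiv U).injective hv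
    rw [← hρ1, ← Category.assoc, Points.map_comp, Points.map_comp, ← Points.ofPt_eq_map_ofScheme, hjVpt,
      hφpt]
    -- `ιVV v₀ ∈ ⨆ Vf i`
    have hmem : (ιVV.left v₀ : ↥(pullback f'₀.left g₀)) ∈ V₁ := by
      change V₁.ι v₀ ∈ V₁
      exact v₀.2
    rw [hV₁, TopologicalSpace.Opens.mem_iSup] at hmem
    obtain ⟨i, hi⟩ := hmem
    have hvi : ιVV.left v₀ = vf i := (HV i).2.2.2.1 _ hi hv'
    have hxi : prX'.left (ιVV.left v₀) = xfam i := by rw [hvi]; exact (HV i).2.2.2.2
    rw [hxi]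
    exact hxfam_x i
  · -- points of `P` over `u₀` and `xs` lie in `V`
    intro w hw hwu hwx
    apply hw
    have hξx : Points.map b (Points.map ρ w) ∈ xs := by rw [← Points.map_comp, hρ1]; exact hwx
    have hξq : Points.map ρ w ∈ qfLocus fW := hxsq _ hξx
    obtain ⟨x', hx'⟩ : Points.map ρ w ∈ Set.range (Points.map ι') := by rw [range_map_openSubι]; exact hξq
    obtain ⟨ε', hε1, hε2⟩ := exists_of_isPullback sqφ w x' hx'.symm
    obtain ⟨ε, rfl⟩ := (Points.schemeEquiv E).surjective ε'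
    change Points.map φ (Points.ofScheme E ε) = w at hε1
    rw [← Points.ofPt_eq_map_ofScheme] at hε1
    -- `ε` lies over `u₀`
    have hεu : prU'.left ε = u₀ := by
      apply (Points.schemeEquiv U).injective
      change Points.ofScheme U _ = Points.ofScheme U u₀
      rw [← hφU, hε1, hwu]
    -- `prX' ε ∈ Sg`
    have hεw : f'₀.left (prX'.left ε) = w₀ := by
      have h1 := congr($(pullback.condition (f := f'₀.left) (g := g₀)) ε)
      rw [Scheme.Hom.comp_apply, Scheme.Hom.comp_apply] at h1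
      change f'₀.left (prX'.left ε) = g₀ (prU'.left ε) at h1
      rw [h1, hεu, hg₀u]
    have hεS : prX'.left ε ∈ Sg := by
      refine ⟨?_, hεw⟩
      rw [← hφpt, hε1]
      exact hξx
    set i := en ⟨prX'.left ε, hεS⟩ with hi
    have hxi : xfam i = prX'.left ε := by
      change (en.symm (en ⟨prX'.left ε, hεS⟩)).1 = _
      rw [Equiv.symm_apply_apply]
    obtain ⟨h4, h5, h6, h7, h8⟩ := HV i
    have hεv : ε = vf i :=
      Groth.Agent.Lib.EtLocQF.eq_of_fst_eq_of_snd_eq f'₀.left g₀ ε (vf i) (hxi.symm.trans h8.symm)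
        (hεu.trans h6.symm) (h6 ▸ hiso)
    have hεV : ε ∈ V₁ := by
      rw [hV₁, TopologicalSpace.Opens.mem_iSup]
      exact ⟨i, hεv ▸ h4⟩
    refine ⟨Points.ofScheme VV ⟨ε, hεV⟩, ?_⟩
    rw [← Points.ofPt_eq_map_ofScheme, hjVpt]
    exact hε1

end Groth.Agent.Lib.EtLocQFSpFin46
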