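import Groth.Agent.Lib.GenFinMain45

set_option autoImplicit false
universe u
open CategoryTheory AlgebraicGeometry TopologicalSpace

namespace Groth.Agent.Lib.GenFinIrr45

open Groth.Agent.Lib.GenFin45

/-- In a space with finitely many irreducible components, a generic point of a component not lying
in an open set `U` is not in the closure of `U`. -/
theorem not_mem_closure_of_isOpen {T : Type*} [TopologicalSpace T]
    (hfin : (irreducibleComponents T).Finite) {ξ : T}
    (hξ : closure {ξ} ∈ irreducibleComponents T) {U : Set T} (hU : IsOpen U) (hξU : ξ ∉ U) :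
    ξ ∉ closure U := by
  intro hmem
  have h1 : U = ⋃₀ ((fun Z => U ∩ Z) '' irreducibleComponents T) := by
    rw [Set.sUnion_image, ← Set.inter_iUnion₂, ← Set.sUnion_eq_biUnion,
      sUnion_irreducibleComponents, Set.inter_univ]
  rw [h1, (hfin.image _).closure_sUnion] at hmem
  simp only [Set.mem_image, Set.iUnion_exists, Set.biUnion_and', Set.iUnion_iUnion_eq_right,
    Set.mem_iUnion, exists_prop] at hmem
  obtain ⟨Z, hZ, hξZ⟩ := hmem
  have hZcl : IsClosed Z := isClosed_of_mem_irreducibleComponents Z hZ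
  have h2 : closure (U ∩ Z) ⊆ Z := closure_minimal Set.inter_subset_right hZcl
  have h3 : closure {ξ} ⊆ Z := closure_minimal (Set.singleton_subset_iff.mpr (h2 hξZ)) hZcl
  have h4 : Z ⊆ closure {ξ} := hξ.2 hZ.1 h3
  have hne : (U ∩ Z).Nonempty := by
    by_contra hempty
    rw [Set.not_nonempty_iff_eq_empty] at hempty
    rw [hempty, closure_empty] at hξZ
    exact hξZ
  obtain ⟨x, hxU, hxZ⟩ := hne
  have h5 : ξ ⤳ x := specializes_iff_mem_closure.mpr (h4 hxZ)
  exact hξU (h5.mem_open hU hxU)

variable {X Y : Scheme.{u}}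

/-- G4': with finitely many irreducible components, finitely many generic points inside an open `W`
lie in a common affine open contained in `W`. -/
theorem exists_isAffineOpen_of_finite' (hX : (irreducibleComponents (X : Type u)).Finite)
    (W : X.Opens) (F : Set X) (hF : F.Finite) (hFW : F ⊆ W)
    (hgen : ∀ ξ ∈ F, closure {ξ} ∈ irreducibleComponents (X : Type u)) :
    ∃ U : X.Opens, IsAffineOpen U ∧ U ≤ W ∧ F ⊆ U := by
  induction F, hF using Set.Finite.induction_on with
  | empty => exact ⟨⊥, isAffineOpen_bot X, bot_le, Set.empty_subset _⟩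
  | @insert ξ F' hξF' hF' ih =>
    obtain ⟨U, hU, hUW, hF'U⟩ := ih (fun x hx => hFW (Set.mem_insert_of_mem _ hx))
      (fun ξ' hξ' => hgen ξ' (Set.mem_insert_of_mem _ hξ'))
    by_cases hξU : ξ ∈ U
    · exact ⟨U, hU, hUW, Set.insert_subset hξU hF'U⟩
    · have hξW : ξ ∈ W := hFW (Set.mem_insert _ _)
      have hξcl : ξ ∉ closure (U : Set X) :=
        not_mem_closure_of_isOpen hX (hgen ξ (Set.mem_insert _ _)) U.isOpen hξU
      have hξO : ξ ∈ (W : Set X) ∩ (closure (U : Set X))ᶜ := ⟨hξW, hξcl⟩
      obtain ⟨_, ⟨N, hN, rfl⟩, hξN, hNO⟩ := X.isBasis_affineOpens.exists_subset_of_mem_open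
        hξO (W.isOpen.inter isClosed_closure.isOpen_compl)
      replace hN : IsAffineOpen N := hN
      obtain ⟨N, rfl⟩ : ∃ N' : X.Opens, N' = N := ⟨N, rfl⟩
      have hdisj : Disjoint U N := by
        rw [← Opens.coe_disjoint, Set.disjoint_left]
        intro x hxU hxN
        exact (hNO hxN).2 (subset_closure hxU)
      refine ⟨U ⊔ N, hU.sup_of_disjoint hN hdisj, sup_le hUW (fun x hx => (hNO hx).1), ?_⟩
      apply Set.insert_subset
      · exact Or.inr hξN
      · exact fun x hx => Or.inl (hF'U hx)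

set_option backward.isDefEq.respectTransparency.types false in
theorem isFinite_morphismRestrict_iSup (f : X ⟶ Y) {ι : Type*} (U : ι → Y.Opens)
    (h : ∀ i, IsFinite (f ∣_ U i)) : IsFinite (f ∣_ ⨆ i, U i) := by
  apply IsZariskiLocalAtTarget.of_iSup_eq_top (P := @IsFinite)
    (fun i => (⨆ i, U i).ι ⁻¹ᵁ U i)
  · apply (⨆ i, U i).ι.image_injective
    dsimp
    rw [Scheme.Hom.image_iSup, Scheme.Hom.image_top_eq_opensRange, Scheme.Opens.opensRange_ι]
    simp [Scheme.Hom.image_preimage_eq_opensRange_inf, le_iSup U]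
  · intro i
    refine (MorphismProperty.arrow_mk_iso_iff @IsFinite (morphismRestrictRestrict f _ _)).mpr ?_
    have : (⨆ i, U i).ι ''ᵁ ((⨆ i, U i).ι ⁻¹ᵁ U i) = U i := by
      simp [Scheme.Hom.image_preimage_eq_opensRange_inf, le_iSup U]
    rw [this]
    exact h i

end Groth.Agent.Lib.GenFinIrr45
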