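import Groth.Agent.Lib.AlgSpQC
import Groth.Agent.Lib.AlgSpBasic
import Groth.Prelude.Def_AlgSpGpd

/-!
# Groupoids in algebraic spaces: separation of `j` via the stabilizer and its unit section
-/

set_option autoImplicit false
universe u
open CategoryTheory CategoryTheory.Limits AlgebraicGeometry Opposite

namespace Groth.Agent.Lib.AlgSpGpdSep91

section general

variable {C : Type*} [Category C] [HasPullbacks C]

/-- A section of `p` is a base change of the diagonal of `p`. -/
theorem isPullback_section {X Y : C} (p : X ⟶ Y) (σ : Y ⟶ X) (h : σ ≫ p = 𝟙 Y)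
    (w : (p ≫ σ) ≫ p = 𝟙 X ≫ p) :
    IsPullback σ σ (pullback.diagonal p) (pullback.lift (p ≫ σ) (𝟙 X) w) := by
  have key : ∀ {T : C} (a b : T ⟶ X), a ≫ pullback.diagonal p = b ≫ pullback.lift (p ≫ σ) (𝟙 X) w →
      a = b ∧ (a ≫ p) ≫ σ = a := by
    intro T a b hc
    have h1 := congrArg (· ≫ pullback.fst p p) hc
    have h2 := congrArg (· ≫ pullback.snd p p) hc
    simp only [Category.assoc, pullback.diagonal_fst, pullback.diagonal_snd, pullback.lift_fst,
      pullback.lift_snd, Category.comp_id] at h1 h2
    refine ⟨h2, ?_⟩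
    calc (a ≫ p) ≫ σ = b ≫ p ≫ σ := by rw [h2, Category.assoc]
      _ = a := h1.symm
  refine ⟨⟨?_⟩, ⟨PullbackCone.IsLimit.mk _ (fun s => s.fst ≫ p) ?_ ?_ ?_⟩⟩
  · apply pullback.hom_ext
    · simp only [Category.assoc, pullback.diagonal_fst, pullback.lift_fst, Category.comp_id,
        reassoc_of% h]
    · simp only [Category.assoc, pullback.diagonal_snd, pullback.lift_snd, Category.comp_id]
  · intro s
    exact (key s.fst s.snd s.condition).2
  · intro s
    exact (key s.fst s.snd s.condition).2.trans (key s.fst s.snd s.condition).1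
  · intro s m hm _
    calc m = (m ≫ σ) ≫ p := by
          simp only [Category.assoc, h, Category.comp_id]
      _ = s.fst ≫ p := congrArg (· ≫ p) hm

end general

open AlgSp Groth.Agent.Lib.AlgSpBasic

variable {S : Scheme.{u}} {B : Sp S} (G : GroupoidSp B)

/-- Composition of a composable pair of `T`-valued arrows. -/
noncomputable def comp {T : Sp S} (α β : T ⟶ G.R) (h : α ≫ G.s = β ≫ G.t) : T ⟶ G.R :=
  pullback.lift α β h ≫ G.c

theorem comp_congr {T : Sp S} {α α' β β' : T ⟶ G.R} (hα : α = α') (hβ : β = β')
    (h : α ≫ G.s = β ≫ G.t) :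
    comp G α β h = comp G α' β' (by rw [← hα, ← hβ]; exact h) := by
  subst hα; subst hβ; rfl

theorem precomp_comp {T T' : Sp S} (x : T' ⟶ T) (α β : T ⟶ G.R) (h : α ≫ G.s = β ≫ G.t) :
    x ≫ comp G α β h = comp G (x ≫ α) (x ≫ β) (by rw [Category.assoc, Category.assoc, h]) := by
  unfold comp
  rw [← Category.assoc]
  congr 1
  apply pullback.hom_ext <;> simp [pullback.lift_fst, pullback.lift_snd]

theorem fst_t_eq : pullback.fst G.j G.j ≫ G.t = pullback.snd G.j G.j ≫ G.t := by
  rw [← G.j_fst, ← Category.assoc, pullback.condition, Category.assoc]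

theorem fst_s_eq : pullback.fst G.j G.j ≫ G.s = pullback.snd G.j G.j ≫ G.s := by
  rw [← G.j_snd, ← Category.assoc, pullback.condition, Category.assoc]

/-- `(α, β) ↦ α⁻¹ ∘ β` on pairs of arrows with the same source and the same target. -/
noncomputable def diffR : pullback G.j G.j ⟶ G.R :=
  comp G (pullback.fst G.j G.j ≫ G.i) (pullback.snd G.j G.j)
    (by rw [Category.assoc, G.i_s]; exact fst_t_eq G)

theorem diffR_t : diffR G ≫ G.t = pullback.fst G.j G.j ≫ G.s := by
  unfold diffR comp
  rw [G.comp_t, Category.assoc, G.i_t]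

theorem diffR_s : diffR G ≫ G.s = pullback.fst G.j G.j ≫ G.s := by
  unfold diffR comp
  rw [G.comp_s, fst_s_eq]

/-- The difference map to the stabilizer. -/
noncomputable def diffStab : pullback G.j G.j ⟶ G.stabilizer :=
  pullback.lift (diffR G) (pullback.fst G.j G.j ≫ G.s) (by
    apply pullback.hom_ext
    · rw [Category.assoc, G.j_fst, diffR_t, Category.assoc, GroupoidSp.diag, pullback.lift_fst,
        Category.comp_id]
    · rw [Category.assoc, G.j_snd, diffR_s, Category.assoc, GroupoidSp.diag, pullback.lift_snd,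
        Category.comp_id])

theorem diffStab_ι : diffStab G ≫ G.stabilizerι = diffR G := pullback.lift_fst _ _ _

theorem diffStab_toU : diffStab G ≫ G.stabilizerToU = pullback.fst G.j G.j ≫ G.s :=
  pullback.lift_snd _ _ _

theorem unit_toU (eG : G.U ⟶ G.stabilizer) (heG : eG ≫ G.stabilizerι = G.e) :
    eG ≫ G.stabilizerToU = 𝟙 G.U := by
  have h1 : eG ≫ G.stabilizerToU ≫ G.diag = G.e ≫ G.j := by
    rw [← heG, Category.assoc]
    congr 1
    exact (pullback.condition (f := G.j) (g := G.diag)).symm
  have h2 := congrArg (· ≫ pullback.fst G.pU G.pU) h1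
  simp only [Category.assoc, G.j_fst, G.e_t, GroupoidSp.diag, pullback.lift_fst,
    Category.comp_id] at h2
  exact h2

/-- **The diagonal of `j` is the base change of the unit section of the stabilizer.** -/
theorem isPullback_diagonal_j (eG : G.U ⟶ G.stabilizer) (heG : eG ≫ G.stabilizerι = G.e) :
    IsPullback (pullback.diagonal G.j) G.s (diffStab G) eG := by
  have hstab_ext : ∀ {T : Sp S} (a b : T ⟶ G.stabilizer), a ≫ G.stabilizerι = b ≫ G.stabilizerι →
      a ≫ G.stabilizerToU = b ≫ G.stabilizerToU → a = b := fun a b h1 h2 =>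
    pullback.hom_ext h1 h2
  refine ⟨⟨?_⟩, ⟨PullbackCone.IsLimit.mk _ (fun s => s.fst ≫ pullback.fst G.j G.j) ?_ ?_ ?_⟩⟩
  · apply hstab_ext
    · rw [Category.assoc, diffStab_ι, Category.assoc, heG]
      unfold diffR
      rw [precomp_comp]
      have := G.i_comp (𝟙 G.R)
      simp only [Category.id_comp] at this
      rw [← this]
      exact comp_congr G (by simp) (by simp) _
    · rw [Category.assoc, diffStab_toU, Category.assoc, unit_toU G eG heG, Category.comp_id,
        ← Category.assoc, pullback.diagonal_fst, Category.id_comp]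
  · intro s
    -- key: the two components agree
    obtain ⟨α, hα⟩ : ∃ α, α = s.fst ≫ pullback.fst G.j G.j := ⟨_, rfl⟩
    obtain ⟨β, hβ⟩ : ∃ β, β = s.fst ≫ pullback.snd G.j G.j := ⟨_, rfl⟩
    have hc := s.condition
    have hu : α ≫ G.s = s.snd := by
      have := congrArg (· ≫ G.stabilizerToU) hc
      simp only [Category.assoc, diffStab_toU, unit_toU G eG heG, Category.comp_id] at this
      rw [hα, Category.assoc]; exact this
    have ht : α ≫ G.t = β ≫ G.t := by
      rw [hα, hβ, Category.assoc, Category.assoc, fst_t_eq]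
    have hd : comp G (α ≫ G.i) β (by rw [Category.assoc, G.i_s]; exact ht) = α ≫ G.s ≫ G.e := by
      have := congrArg (· ≫ G.stabilizerι) hc
      simp only [Category.assoc, diffStab_ι, heG] at this
      unfold diffR at this
      rw [precomp_comp] at this
      exact ((comp_congr G (by rw [hα, Category.assoc]) hβ _).trans this).trans
        (by rw [← hu, Category.assoc])
    have hαβ : α = β := by
      have e1 := G.e_comp β
      have e2 := G.comp_i α
      have e3 := G.comp_e α
      have e4 := G.assoc α (α ≫ G.i) β (by rw [Category.assoc, G.i_t])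
        (by rw [Category.assoc, G.i_s]; exact ht)
      calc α = comp G α (α ≫ G.s ≫ G.e)
              (by rw [Category.assoc, Category.assoc, G.e_t, Category.comp_id]) := e3.symm
        _ = comp G α (comp G (α ≫ G.i) β (by rw [Category.assoc, G.i_s]; exact ht))
              (by unfold comp; rw [G.comp_t, Category.assoc, G.i_t]) :=
            comp_congr G rfl hd.symm _
        _ = comp G (comp G α (α ≫ G.i) (by rw [Category.assoc, G.i_t])) β
              (by unfold comp; rw [G.comp_s, Category.assoc, G.i_s]; exact ht) := e4.symm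
        _ = comp G (β ≫ G.t ≫ G.e) β
              (by rw [Category.assoc, Category.assoc, G.e_s, Category.comp_id]) :=
            comp_congr G (by unfold comp; rw [e2, ← Category.assoc, ht, Category.assoc]) rfl _
        _ = β := e1
    apply pullback.hom_ext
    · rw [Category.assoc, pullback.diagonal_fst, Category.comp_id]
    · rw [Category.assoc, pullback.diagonal_snd, Category.comp_id, ← hα, ← hβ, hαβ]
  · intro s
    have hc := s.condition
    have := congrArg (· ≫ G.stabilizerToU) hc
    simp only [Category.assoc, diffStab_toU, unit_toU G eG heG, Category.comp_id] at this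
    rw [Category.assoc]; exact this
  · intro s m hm _
    rw [← hm, Category.assoc, pullback.diagonal_fst, Category.comp_id]

theorem isPullback_stabilizer : IsPullback G.stabilizerι G.stabilizerToU G.j G.diag :=
  IsPullback.of_hasPullback G.j G.diag

variable (P : MorphismProperty Scheme.{u})

theorem repWith_diagonal_stab_of_j (h : RepWith P (pullback.diagonal G.j)) :
    RepWith P (pullback.diagonal G.stabilizerToU) :=
  MorphismProperty.of_isPullback (P := (RepWith (S := S) P).diagonal) (isPullback_stabilizer G) h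

theorem repWith_unit_of_diagonal_stab (eG : G.U ⟶ G.stabilizer) (heG : eG ≫ G.stabilizerι = G.e)
    (h : RepWith P (pullback.diagonal G.stabilizerToU)) : RepWith P eG :=
  repWith_fst_of_isPullback P
    (isPullback_section G.stabilizerToU eG (unit_toU G eG heG)
      (by rw [Category.assoc, unit_toU G eG heG, Category.comp_id, Category.id_comp])).flip h

theorem repWith_diagonal_j_of_unit (eG : G.U ⟶ G.stabilizer) (heG : eG ≫ G.stabilizerι = G.e)
    (h : RepWith P eG) : RepWith P (pullback.diagonal G.j) :=
  repWith_fst_of_isPullback P (isPullback_diagonal_j G eG heG) h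

theorem isAlgSpace_stabilizer (hB : IsAlgSpace B) (hU : IsAlgSpace G.U) (hR : IsAlgSpace G.R) :
    IsAlgSpace G.stabilizer := by
  have hUU : IsAlgSpace (pullback G.pU G.pU) :=
    isAlgSpace_of_isPullback hU hU (fun _ a => hB.representable_from_yon a)
      (IsPullback.of_hasPullback G.pU G.pU)
  exact isAlgSpace_of_isPullback hR hU (fun _ a => hUU.representable_from_yon a)
    (isPullback_stabilizer G)

theorem representable_unit (hB : IsAlgSpace B) (hU : IsAlgSpace G.U) (hR : IsAlgSpace G.R)
    (eG : G.U ⟶ G.stabilizer) (heG : eG ≫ G.stabilizerι = G.e) : Representable eG :=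
  MorphismProperty.of_isPullback
    (isPullback_section G.stabilizerToU eG (unit_toU G eG heG)
      (by rw [Category.assoc, unit_toU G eG heG, Category.comp_id, Category.id_comp]))
    (representable_diagonal (isAlgSpace_stabilizer G hB hU hR).diag G.stabilizerToU)

/-- **Separation of `j`, of the stabilizer, and of its unit section.** -/
theorem sep_iff (hB : IsAlgSpace B) (hU : IsAlgSpace G.U) (hR : IsAlgSpace G.R)
    (eG : G.U ⟶ G.stabilizer) (heG : eG ≫ G.stabilizerι = G.e) :
    ((IsSeparatedMor G.j ↔ IsSeparatedMor G.stabilizerToU) ∧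
        (IsSeparatedMor G.j ↔ RepWith @IsClosedImmersion eG)) ∧
      ((IsQuasiSeparatedMor G.j ↔ IsQuasiSeparatedMor G.stabilizerToU) ∧
        (IsQuasiSeparatedMor G.j ↔ IsQuasiCompactMor eG)) ∧
      ((IsLocallySeparatedMor G.j → RepWith @IsImmersion eG) ∧
        (IsLocallySeparatedMor G.stabilizerToU → RepWith @IsImmersion eG)) := by
  have c1 := fun P => repWith_diagonal_stab_of_j G P
  have c2 := fun P => repWith_unit_of_diagonal_stab G P eG heG
  have c3 := fun P => repWith_diagonal_j_of_unit G P eG heG
  have hrep := representable_unit G hB hU hR eG heG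
  refine ⟨⟨⟨c1 _, fun h => c3 _ (c2 _ h)⟩, ⟨fun h => c2 _ (c1 _ h), c3 _⟩⟩,
    ⟨⟨c1 _, fun h => c3 _ (c2 _ h)⟩, ⟨fun h => ?_, fun h => ?_⟩⟩,
    ⟨fun h => c2 _ (c1 _ h), c2 _⟩⟩
  · exact Groth.Agent.Lib.AlgSpQC.isQuasiCompactMor_of_repWith (c2 _ (c1 _ h))
  · exact c3 _ (Groth.Agent.Lib.AlgSpQC.repWith_quasiCompact_of_isQuasiCompactMor hrep h)

end Groth.Agent.Lib.AlgSpGpdSep91
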