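import Groth.Agent.Lib.GrpFieldSep46
import Groth.Agent.Lib.AlgSpGpdSep91

/-!
# Groupoids on a field with decent space of arrows (helper46)
-/

set_option autoImplicit false
universe u

namespace Groth.Agent.Lib.GrpFieldSep46

open CategoryTheory CategoryTheory.Limits AlgebraicGeometry TopologicalSpace Opposite AlgSp
open Groth.Agent.Lib.AlgSpBasic Groth.Agent.Lib.H69AlgSp Groth.Agent.Lib.AlgSpProper

variable {S : Scheme.{u}}

/-- Monomorphisms of sheaves are separated. -/
theorem isSeparatedMor_of_mono {X Y : Sp S} (m : X ⟶ Y) [Mono m] : IsSeparatedMor m := by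
  haveI : IsIso (pullback.diagonal m) := (pullback.isIso_diagonal_iff m).2 inferInstance
  exact MorphismProperty.of_isIso (RepWith (S := S) @IsClosedImmersion) _

/-- `h_w` is separated when the morphism of schemes underlying `w` is. -/
theorem isSeparatedMor_yon_map {A B : Over S} (w : A ⟶ B) [IsSeparated w.left] :
    IsSeparatedMor ((yon S).map w) :=
  (Groth.Agent.Lib.AlgSpUnram.repWith_diagonal_yon_map_iff _ w).2
    IsSeparated.diagonal_isClosedImmersion

/-- A sheaf isomorphic to `h_K` with `K` a separated scheme is separated over the terminal sheaf. -/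
theorem isSeparatedMor_from_of_iso_yon {T U : Sp S} (hT : IsTerminal T) {K : Over S}
    [K.left.IsSeparated] (eU : U ≅ (yon S).obj K) : IsSeparatedMor (hT.from U) := by
  have h1 : IsSeparatedMor ((yon S).map (Over.mkIdTerminal.from K)) := by
    haveI : IsSeparated (Over.mkIdTerminal.from K).left := inferInstance
    exact isSeparatedMor_yon_map _
  have h2 : IsSeparatedMor (eU.hom ≫ (yon S).map (Over.mkIdTerminal.from K) ≫
      hT.from ((yon S).obj (Over.mk (𝟙 S)))) :=
    isSeparatedMor_comp (isSeparatedMor_of_mono _)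
      (isSeparatedMor_comp h1 (by
        haveI : IsIso (hT.from ((yon S).obj (Over.mk (𝟙 S)))) :=
          ⟨(isTerminalYonId S).from T, (isTerminalYonId S).hom_ext _ _, hT.hom_ext _ _⟩
        exact isSeparatedMor_of_mono _))
  have e : eU.hom ≫ (yon S).map (Over.mkIdTerminal.from K) ≫
      hT.from ((yon S).obj (Over.mk (𝟙 S))) = hT.from U := hT.hom_ext _ _
  rwa [e] at h2

/-- If `U` is separated over the terminal sheaf `T`, so is `U ×_B U` for every `U ⟶ B`. -/
theorem isSeparatedMor_from_pullback {T U B : Sp S} (hT : IsTerminal T) (pU : U ⟶ B)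
    (hU : IsSeparatedMor (hT.from U)) : IsSeparatedMor (hT.from (pullback pU pU)) := by
  have h1 : IsSeparatedMor (prod.lift (pullback.fst pU pU) (pullback.snd pU pU)) :=
    isSeparatedMor_of_mono _
  have sq : IsPullback (prod.fst : U ⨯ U ⟶ U) prod.snd (hT.from U) (hT.from U) :=
    IsPullback.of_is_product' (prodIsProd U U) hT
  have h2 : IsSeparatedMor (prod.snd : U ⨯ U ⟶ U) := isSeparatedMor_of_isPullback sq hU
  have h3 := isSeparatedMor_comp h1 (isSeparatedMor_comp h2 hU)
  have e : prod.lift (pullback.fst pU pU) (pullback.snd pU pU) ≫ prod.snd ≫ hT.from U =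
      hT.from (pullback pU pU) := hT.hom_ext _ _
  rwa [e] at h3

open Groth.Agent.Lib.AlgSpGpdSep91 in
/-- **Groupoids on a field.** Let `(U, R, s, t, c)` be a groupoid in algebraic spaces over `B` with `U ≅ h_{Spec k}`,
`k` a field.  If `R` is decent then `R` is separated over `S`. -/
theorem isSeparatedSp_R_of_field {B : Sp S} (hB : IsAlgSpace B) (G : GroupoidSp B)
    (hR : IsAlgSpace G.R) {k : Type u} [Field k] (σ : Spec (CommRingCat.of k) ⟶ S)
    (eU : G.U ≅ (yon S).obj (Over.mk σ)) (hd : IsDecent G.R) : IsSeparatedSp G.R := by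
  have hU : IsAlgSpace G.U := (IsAlgSpace.yon_obj (Over.mk σ)).of_iso eU.symm
  have hw : G.e ≫ G.j = 𝟙 G.U ≫ G.diag := by
    apply pullback.hom_ext
    · rw [Category.assoc, G.j_fst, G.e_t, Category.id_comp, GroupoidSp.diag, pullback.lift_fst]
    · rw [Category.assoc, G.j_snd, G.e_s, Category.id_comp, GroupoidSp.diag, pullback.lift_snd]
  let eG : G.U ⟶ G.stabilizer := pullback.lift G.e (𝟙 G.U) hw
  have heG : eG ≫ G.stabilizerι = G.e := pullback.lift_fst _ _ _
  have hStab := isAlgSpace_stabilizer G hB hU hR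
  haveI hdiag : Mono G.diag := by
    haveI : Mono (G.diag ≫ pullback.fst G.pU G.pU) := by
      rw [GroupoidSp.diag, pullback.lift_fst]; infer_instance
    exact mono_of_mono G.diag (pullback.fst G.pU G.pU)
  haveI hmono : Mono G.stabilizerι := pullback.fst_of_mono
  have hqcR : RepWith @QuasiCompact (eU.inv ≫ G.e) := by
    let qpt : FieldPt G.R := Groth.Agent.Lib.H80DecentPt.ofHom σ (eU.inv ≫ G.e)
    obtain ⟨p, hp, hm, hq⟩ := hd (Points.mk qpt)
    have h := Groth.Agent.Lib.AlgSpDecentPt91.repWith_quasiCompact_of_mk_eq hR qpt p hp.symm hq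
    rwa [Groth.Agent.Lib.H80DecentPt.toHom_ofHom] at h
  have hqc : RepWith @QuasiCompact (eU.inv ≫ eG) := by
    have sq := Groth.Agent.Lib.AlgSpUnram.isPullback_of_comp_mono (eU.inv ≫ eG) G.stabilizerι
    have e : (eU.inv ≫ eG) ≫ G.stabilizerι = eU.inv ≫ G.e := by rw [Category.assoc, heG]
    rw [e] at sq
    exact MorphismProperty.of_isPullback sq hqcR
  have hcl : RepWith @IsClosedImmersion (eU.inv ≫ eG) :=
    repWith_isClosedImmersion_of_section hStab σ (eU.inv ≫ eG) (G.stabilizerToU ≫ eU.hom)
      (by rw [Category.assoc, ← Category.assoc eG, unit_toU G eG heG, Category.id_comp,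
        Iso.inv_hom_id]) hqc
  have hcl' : RepWith @IsClosedImmersion eG :=
    (MorphismProperty.cancel_left_of_respectsIso (RepWith (S := S) @IsClosedImmersion) eU.inv eG).1 hcl
  have hj : IsSeparatedMor G.j := repWith_diagonal_j_of_unit G _ eG heG hcl'
  have hT := isTerminalYonId S
  haveI : (Over.mk σ).left.IsSeparated :=
    (inferInstance : (Spec (CommRingCat.of k)).IsSeparated)
  have hUsep : IsSeparatedMor (hT.from G.U) := isSeparatedMor_from_of_iso_yon hT eU
  have hUU := isSeparatedMor_from_pullback hT G.pU hUsep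
  have h := isSeparatedMor_comp hj hUU
  rw [isSeparatedSp_iff_isSeparatedMor_of_isTerminal hT (G.j ≫ hT.from _)]
  exact h

end Groth.Agent.Lib.GrpFieldSep46
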