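import Groth.Agent.Lib.H69DescentFpqc2
import Groth.Agent.Lib.AlgSpFpqcRep
import Groth.Agent.Lib.H86ZarLocBase
import Groth.Agent.Lib.FpqcDescent
import Groth.Agent.Lib.FpqcDescentMore
import Groth.Agent.Lib.SrcLocal
import Groth.Prelude.Def_AlgSpMor5

/-!
# helper69: properties of affine morphisms of algebraic spaces are fpqc local on the base

For a property `Q ≤ IsAffineHom` of morphisms of schemes that is Zariski local on the target, stable under base
change and satisfies fpqc descent, `RepWith Q` is fpqc local on the base (for morphisms of algebraic spaces):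
representability comes from effective fpqc descent of affine morphisms (`isAffineMor_of_hasFpqcRefinement`),
the property from `AlgSpFpqc.repWith_of_hasFpqcRefinement`.
-/

set_option autoImplicit false
universe u

open CategoryTheory CategoryTheory.Limits AlgebraicGeometry Opposite

namespace Groth.Agent.Lib.H69DescentFpqc

open AlgSp Groth.Agent.Lib.H69AlgSp Groth.Agent.Lib.AlgSpFpqc

variable {S : Scheme.{u}}

/-- Descent of `RepWith Q`, `Q ≤ IsAffineHom`, along a family with the fpqc refinement property. -/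
theorem repWith_of_hasFpqcRefinement_of_le_isAffineHom (Q : MorphismProperty Scheme.{u})
    [IsZariskiLocalAtTarget Q] [Q.DescendsAlong (@Surjective ⊓ @Flat ⊓ @QuasiCompact)]
    (hQ : Q ≤ @IsAffineHom) {ι : Type u} {X Y : Sp S} (hX : IsAlgSpace X)
    (hY : IsAlgSpace Y) {Yi : ι → Sp S} {f : X ⟶ Y} {g : ∀ i, Yi i ⟶ Y}
    (hg : HasFpqcRefinement Yi g) {Xi : ι → Sp S} {p : ∀ i, Xi i ⟶ Yi i} {q : ∀ i, Xi i ⟶ X}
    (sq : ∀ i, IsPullback (q i) (p i) f (g i)) (h : ∀ i, RepWith Q (p i)) : RepWith Q f := by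
  have haff : IsAffineMor f :=
    isAffineMor_of_hasFpqcRefinement hX hY hg sq fun i =>
      (Groth.Agent.Lib.H86ZarGlue.isAffineMor_iff_repWith (p i)).2
        (Groth.Agent.Lib.H69AlgSp.repWith_mono hQ (h i))
  have hrep : Representable f := ((Groth.Agent.Lib.H86ZarGlue.isAffineMor_iff_repWith f).1 haff).1
  exact repWith_of_hasFpqcRefinement Q hrep hg sq h

/-- `RepWith Q`, `Q ≤ IsAffineHom`, is fpqc local on the base. -/
theorem isLocalOnBase_fpqc_repWith_of_le_isAffineHom (Q : MorphismProperty Scheme.{u})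
    [IsZariskiLocalAtTarget Q] [Q.DescendsAlong (@Surjective ⊓ @Flat ⊓ @QuasiCompact)]
    [Q.IsStableUnderBaseChange] (hQ : Q ≤ @IsAffineHom) :
    IsLocalOnBase (IsFpqcCover (S := S)) (RepWith Q) := by
  intro ι Y Yi g hY hYi hcov X f hX Xi p q hXi sq
  exact ⟨fun h i => (RepWith (S := S) Q).of_isPullback (sq i) h,
    fun h => repWith_of_hasFpqcRefinement_of_le_isAffineHom Q hQ hX hY hcov.2 sq h⟩

theorem isLocalOnBase_fpqc_isClosedImmersion :
    IsLocalOnBase (IsFpqcCover (S := S)) (RepWith @IsClosedImmersion) :=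
  isLocalOnBase_fpqc_repWith_of_le_isAffineHom _ fun _ _ _ h => by
    have : IsClosedImmersion _ := h
    infer_instance

theorem isLocalOnBase_fpqc_isIntegralMor :
    IsLocalOnBase (IsFpqcCover (S := S)) IsIntegralMor := by
  have := Groth.Agent.Lib.H86ZarGlue.isZariskiLocalAtTarget_isIntegralHom.{u}
  have h := isLocalOnBase_fpqc_repWith_of_le_isAffineHom (S := S) @IsIntegralHom fun _ _ _ h => by
    have : IsIntegralHom _ := h
    infer_instance
  intro ι Y Yi g hY hYi hcov X f hX Xi p q hXi sq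
  rw [Groth.Agent.Lib.H86ZarGlue.isIntegralMor_iff_repWith]
  simp only [Groth.Agent.Lib.H86ZarGlue.isIntegralMor_iff_repWith]
  exact h Yi g hY hYi hcov f hX Xi p q hXi sq

theorem isLocalOnBase_fpqc_isFiniteMor :
    IsLocalOnBase (IsFpqcCover (S := S)) IsFiniteMor := by
  have := Groth.Agent.Lib.H86ZarGlue.isZariskiLocalAtTarget_isFinite.{u}
  have h := isLocalOnBase_fpqc_repWith_of_le_isAffineHom (S := S) @IsFinite fun _ _ _ h => by
    have : IsFinite _ := h
    infer_instance
  intro ι Y Yi g hY hYi hcov X f hX Xi p q hXi sq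
  rw [Groth.Agent.Lib.H86ZarGlue.isFiniteMor_iff_repWith]
  simp only [Groth.Agent.Lib.H86ZarGlue.isFiniteMor_iff_repWith]
  exact h Yi g hY hYi hcov f hX Xi p q hXi sq

theorem finLocFree_descendsAlong_fpqc :
    MorphismProperty.DescendsAlong AlgSp.finLocFree.{u} (@Surjective ⊓ @Flat ⊓ @QuasiCompact) := by
  have h2 := Groth.Agent.Lib.SrcLocal.flat_descendsAlong_fpqc.{u}
  have : AlgSp.finLocFree.{u} = Min.min (α := MorphismProperty Scheme.{u}) @IsFinite.{u}
      (Min.min (α := MorphismProperty Scheme.{u}) @Flat.{u} @LocallyOfFinitePresentation.{u}) := rfl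
  rw [this]
  infer_instance

theorem isLocalOnBase_fpqc_isFinLocFreeMor :
    IsLocalOnBase (IsFpqcCover (S := S)) IsFinLocFreeMor := by
  have := Groth.Agent.Lib.H86ZarGlue.isZariskiLocalAtTarget_finLocFree.{u}
  have := finLocFree_descendsAlong_fpqc.{u}
  exact isLocalOnBase_fpqc_repWith_of_le_isAffineHom (S := S) AlgSp.finLocFree.{u} fun _ _ _ h => by
    have : IsFinite _ := h.1
    infer_instance

end Groth.Agent.Lib.H69DescentFpqc
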