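import Groth.Agent.Lib.AlgSpDim91
import Groth.Agent.Lib.H86CartierChart2
import Mathlib.AlgebraicGeometry.Morphisms.Etale
import Groth.Prelude.Def_Flat

/-!
# Local dimension and dimension of local rings at points of algebraic spaces: chart independence (owner: helper86)
-/

set_option autoImplicit false
set_option linter.style.haveILetI false
universe u
open CategoryTheory CategoryTheory.Limits AlgebraicGeometry TopologicalSpace Order
open AlgSp

namespace Groth.Agent.Lib.H86DimAt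

/-- Etale morphisms of schemes preserve the local dimension at a point. -/
theorem localDim_eq_of_etale {W U : Scheme.{u}} (s : W ⟶ U) [Etale s] (w : ↥W) :
    FlatMor.localDim ↥W w = FlatMor.localDim ↥U (s w) := by
  apply le_antisymm
  · refine le_iInf fun O => ?_
    obtain ⟨O, hO⟩ := O
    refine iInf_le_of_le ⟨s ⁻¹ᵁ O, hO⟩ ?_
    haveI : LocallyQuasiFinite (s ∣_ O) :=
      Groth.Agent.Lib.AlgSpBasic.locallyQuasiFinite_of_etale _
    exact Groth.Agent.Lib.AlgSpDim91.topologicalKrullDim_le_of_locallyQuasiFinite (s ∣_ O)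
  · refine le_iInf fun O' => ?_
    obtain ⟨O', hO'⟩ := O'
    let O : U.Opens := ⟨s '' (O' : Set ↥W), s.isOpenMap _ O'.2⟩
    have e : O' ≤ s ⁻¹ᵁ O := fun x hx => ⟨x, hx, rfl⟩
    refine iInf_le_of_le ⟨O, ⟨w, hO', rfl⟩⟩ ?_
    haveI : Surjective (s.resLE O O' e) := by
      refine ⟨fun y => ?_⟩
      obtain ⟨y, x, hx, rfl⟩ := y
      refine ⟨⟨x, hx⟩, ?_⟩
      apply Subtype.ext
      have h := congrArg (fun φ : (O' : Scheme.{u}) ⟶ U => φ ⟨x, hx⟩) (s.resLE_comp_ι e)
      simpa using h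
    exact (Groth.Agent.Lib.AlgSpDim91.topologicalKrullDim_eq_of_etale_surjective
      (s.resLE O O' e)).symm.le

variable {S : Scheme.{u}}

set_option backward.isDefEq.respectTransparency false in
/-- Chart independence: a property of pointed schemes that is invariant under etale morphisms takes the same value at
any two points of etale charts of a sheaf over the same point. -/
theorem chart_indep {Q : ∀ U : Scheme.{u}, ↥U → Prop}
    (hQ : ∀ {W U : Scheme.{u}} (s : W ⟶ U) [Etale s] (w : ↥W), Q W w ↔ Q U (s w))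
    {X : Sp S} {U₁ U₂ : Over S} (a₁ : (yon S).obj U₁ ⟶ X) (a₂ : (yon S).obj U₂ ⟶ X)
    (h₁ : RepWith @Etale a₁) (h₂ : RepWith @Etale a₂) (u₁ : ↥U₁.left) (u₂ : ↥U₂.left)
    (h : Points.ofPt a₁ u₁ = Points.ofPt a₂ u₂) : Q U₁.left u₁ ↔ Q U₂.left u₂ := by
  have sq := h₁.rep.isPullback' a₂
  obtain ⟨w, hw1, hw2⟩ :=
    Groth.Agent.Lib.H86CartierChart2.exists_scheme_point_of_isPullback sq u₁ u₂ h
  haveI : Etale (h₁.rep.snd a₂).left := h₁.property_snd a₂
  have h3 : RepWith @Etale ((yon S).map (h₁.rep.fst' a₂)) :=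
    Groth.Agent.Lib.AlgSpBasic.repWith_fst_of_isPullback @Etale sq h₂
  haveI : Etale (h₁.rep.fst' a₂).left := (repWith_yon_map_iff _ _).1 h3
  rw [← hw1, ← hw2, ← hQ (h₁.rep.fst' a₂).left w, ← hQ (h₁.rep.snd a₂).left w]

/-- For an etale-invariant property of pointed schemes, "some chart" is the same as "every chart". -/
theorem hasAt_iff_forall_chart {Q : ∀ U : Scheme.{u}, ↥U → Prop}
    (hQ : ∀ {W U : Scheme.{u}} (s : W ⟶ U) [Etale s] (w : ↥W), Q W w ↔ Q U (s w))
    {X : Sp S} (hX : IsAlgSpace X) (x : Points X) :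
    HasAt Q X x ↔ ∀ (U : Over S) (a : (yon S).obj U ⟶ X) (u : ↥U.left),
      RepWith @Etale a → Points.ofPt a u = x → Q U.left u := by
  constructor
  · rintro ⟨U₀, a₀, u₀, ha₀, hu₀, hQ₀⟩ U a u ha hu
    exact (chart_indep hQ a₀ a ha₀ ha u₀ u (hu₀.trans hu.symm)).1 hQ₀
  · intro h
    obtain ⟨V, b, hbe, hbs⟩ := hX.atlas
    obtain ⟨v, hv⟩ := Groth.Agent.Lib.AlgSpQC.surjective_ofPt_of_repWith_surjective hbs x
    exact ⟨V, b, v, hbe, hv, h V b v hbe hv⟩

/-- For an etale-invariant property of pointed schemes, having it at `x` is the same as having it at the image of `x`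
under an etale morphism. -/
theorem hasAt_iff_of_isEtaleMor {Q : ∀ U : Scheme.{u}, ↥U → Prop}
    (hQ : ∀ {W U : Scheme.{u}} (s : W ⟶ U) [Etale s] (w : ↥W), Q W w ↔ Q U (s w))
    {X Y : Sp S} (hX : IsAlgSpace X) (f : X ⟶ Y) (hf : IsEtaleMor f) (x : Points X) :
    HasAt Q X x ↔ HasAt Q Y (Points.map f x) := by
  constructor
  · rintro ⟨U, a, u, ha, hu, hQu⟩
    exact ⟨U, a ≫ f, u, hf a ha, by rw [← hu, Points.map_ofPt], hQu⟩
  · rintro ⟨V, b, v, hb, hv, hQv⟩
    obtain ⟨U, a, hae, has⟩ := hX.atlas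
    obtain ⟨u, hu⟩ := Groth.Agent.Lib.AlgSpQC.surjective_ofPt_of_repWith_surjective has x
    refine ⟨U, a, u, hae, hu, ?_⟩
    refine (chart_indep hQ (a ≫ f) b (hf a hae) hb u v ?_).2 hQv
    rw [hv, ← hu, Points.map_ofPt]

theorem ringKrullDim_stalk_iff_of_etale (d : WithBot ℕ∞) {W U : Scheme.{u}} (s : W ⟶ U) [Etale s]
    (w : ↥W) : ringKrullDim ↥(W.presheaf.stalk w) = d ↔ ringKrullDim ↥(U.presheaf.stalk (s w)) = d := by
  rw [Groth.Agent.Lib.AlgSpDim91.ringKrullDim_stalk_eq_of_etale s w]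

theorem localDim_iff_of_etale (d : WithBot ℕ∞) {W U : Scheme.{u}} (s : W ⟶ U) [Etale s]
    (w : ↥W) : FlatMor.localDim ↥W w = d ↔ FlatMor.localDim ↥U (s w) = d := by
  rw [localDim_eq_of_etale s w]

end Groth.Agent.Lib.H86DimAt
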