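import Groth.Agent.Lib.FinEtQuot46
import Groth.Agent.Lib.AlgSpDecentSpec
import Groth.Agent.Lib.H86AlgSpOpen

/-!
# Restricting an étale chart and its relation to an open subscheme (helper46)

For a chart `a : h_U ⟶ X` with kernel pair `s, t : R ⟶ U` and an open `W ⊆ U`, the kernel pair of the
restricted chart `h_W ⟶ h_U ⟶ X` is the open subscheme `t⁻¹ W ∩ s⁻¹ W` of `R`.
-/

set_option autoImplicit false
universe u
open CategoryTheory CategoryTheory.Limits AlgebraicGeometry Opposite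

namespace Groth.Agent.Lib.RelRestrict46

open AlgSp Groth.Agent.Lib.FinEtQuot46 Groth.Agent.Lib.AlgSpDecentSpec
  Groth.Agent.Lib.H86AlgSpPoints Groth.Agent.Lib.H86AlgSpOpen

variable {S : Scheme.{u}}

/-- A square of sheaves with representable source corners is a pullback as soon as it is one on
scheme-valued points. -/
theorem isPullback_yon_of_forall {P A B : Over S} {H : Sp S} (p1 : P ⟶ A) (p2 : P ⟶ B)
    (f : (yon S).obj A ⟶ H) (g : (yon S).obj B ⟶ H)
    (w : (yon S).map p1 ≫ f = (yon S).map p2 ≫ g)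
    (hinj : ∀ (T : Over S) (c c' : T ⟶ P), c ≫ p1 = c' ≫ p1 → c ≫ p2 = c' ≫ p2 → c = c')
    (hsurj : ∀ (T : Over S) (x : T ⟶ A) (y : T ⟶ B),
      (yon S).map x ≫ f = (yon S).map y ≫ g → ∃ c : T ⟶ P, c ≫ p1 = x ∧ c ≫ p2 = y) :
    IsPullback ((yon S).map p1) ((yon S).map p2) f g := by
  refine isPullback_of_sections w ?_ ?_
  · rintro ⟨T⟩ ⟨c⟩ ⟨c'⟩ h1 h2
    have h1' : c ≫ p1 = c' ≫ p1 := congrArg ULift.down h1
    have h2' : c ≫ p2 = c' ≫ p2 := congrArg ULift.down h2
    exact congrArg ULift.up (hinj T c c' h1' h2')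
  · rintro ⟨T⟩ ⟨x⟩ ⟨y⟩ hxy
    have h : (yon S).map x ≫ f = (yon S).map y ≫ g := by
      apply yE.injective
      rw [yE_comp, yE_comp, yE_yon_map, yE_yon_map]
      exact hxy
    obtain ⟨c, hc1, hc2⟩ := hsurj T x y h
    exact ⟨⟨c⟩, congrArg ULift.up hc1, congrArg ULift.up hc2⟩

variable {U R : Over S} (s t : R ⟶ U)

/-- The open of `R` of arrows with source and target in `W`. -/
def relOpens (W : U.left.Opens) : R.left.Opens := t.left ⁻¹ᵁ W ⊓ s.left ⁻¹ᵁ W

/-- The restricted relation. -/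
abbrev RW (W : U.left.Opens) : Over S := restrictOver R (relOpens s t W)

/-- The restricted source map. -/
noncomputable def sW (W : U.left.Opens) : RW s t W ⟶ restrictOver U W :=
  Over.homMk (IsOpenImmersion.lift W.ι ((relOpens s t W).ι ≫ s.left) (by
    rintro _ ⟨r, rfl⟩
    rw [Scheme.Opens.range_ι]
    exact r.2.2)) (by
    change IsOpenImmersion.lift _ _ _ ≫ W.ι ≫ U.hom = (relOpens s t W).ι ≫ R.hom
    rw [← Category.assoc, IsOpenImmersion.lift_fac, Category.assoc, Over.w s])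

/-- The restricted target map. -/
noncomputable def tW (W : U.left.Opens) : RW s t W ⟶ restrictOver U W :=
  Over.homMk (IsOpenImmersion.lift W.ι ((relOpens s t W).ι ≫ t.left) (by
    rintro _ ⟨r, rfl⟩
    rw [Scheme.Opens.range_ι]
    exact r.2.1)) (by
    change IsOpenImmersion.lift _ _ _ ≫ W.ι ≫ U.hom = (relOpens s t W).ι ≫ R.hom
    rw [← Category.assoc, IsOpenImmersion.lift_fac, Category.assoc, Over.w t])

theorem sW_ι (W : U.left.Opens) :
    sW s t W ≫ restrictOverι U W = restrictOverι R (relOpens s t W) ≫ s :=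
  Over.OverMorphism.ext (IsOpenImmersion.lift_fac _ _ _)

theorem tW_ι (W : U.left.Opens) :
    tW s t W ≫ restrictOverι U W = restrictOverι R (relOpens s t W) ≫ t :=
  Over.OverMorphism.ext (IsOpenImmersion.lift_fac _ _ _)

theorem sW_left_ι (W : U.left.Opens) :
    (sW s t W).left ≫ W.ι = (relOpens s t W).ι ≫ s.left :=
  IsOpenImmersion.lift_fac _ _ _

theorem tW_left_ι (W : U.left.Opens) :
    (tW s t W).left ≫ W.ι = (relOpens s t W).ι ≫ t.left :=
  IsOpenImmersion.lift_fac _ _ _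

instance (W : U.left.Opens) : Mono (restrictOverι U W) := by
  have : Mono (restrictOverι U W).left := (inferInstance : Mono W.ι)
  exact Over.mono_of_mono_left _

variable {s t}

/-- The kernel pair of the restricted chart is the restricted relation. -/
theorem isPullback_restrict {X : Sp S} {a : (yon S).obj U ⟶ X}
    (hR : IsPullback ((yon S).map t) ((yon S).map s) a a) (W : U.left.Opens) :
    IsPullback ((yon S).map (tW s t W)) ((yon S).map (sW s t W))
      ((yon S).map (restrictOverι U W) ≫ a) ((yon S).map (restrictOverι U W) ≫ a) := by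
  have h := isEqvRel_of_isPullback hR
  refine isPullback_yon_of_forall _ _ _ _ ?_ ?_ ?_
  · rw [← Category.assoc, ← Category.assoc, ← Functor.map_comp, ← Functor.map_comp, tW_ι, sW_ι,
      Functor.map_comp, Functor.map_comp, Category.assoc, Category.assoc, hR.w]
  · intro T c c' h1 h2
    rw [← cancel_mono (restrictOverι R (relOpens s t W))]
    apply h.injective
    · rw [Category.assoc, Category.assoc, ← tW_ι, ← Category.assoc, ← Category.assoc, h1]
    · rw [Category.assoc, Category.assoc, ← sW_ι, ← Category.assoc, ← Category.assoc, h2]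
  · intro T x y hxy
    rw [← Category.assoc, ← Category.assoc, ← Functor.map_comp, ← Functor.map_comp] at hxy
    obtain ⟨r, hr1, hr2⟩ := (rel_iff hR _ _).2 hxy
    have hrange : Set.range r.left ⊆ Set.range (relOpens s t W).ι := by
      rintro _ ⟨z, rfl⟩
      rw [Scheme.Opens.range_ι]
      refine ⟨?_, ?_⟩
      · change t.left (r.left z) ∈ W
        have e : r.left ≫ t.left = x.left ≫ W.ι := congrArg CommaMorphism.left hr1
        rw [← Scheme.Hom.comp_apply, e, Scheme.Hom.comp_apply]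
        exact (x.left z).2
      · change s.left (r.left z) ∈ W
        have e : r.left ≫ s.left = y.left ≫ W.ι := congrArg CommaMorphism.left hr2
        rw [← Scheme.Hom.comp_apply, e, Scheme.Hom.comp_apply]
        exact (y.left z).2
    let c₀ : T.left ⟶ (RW s t W).left := IsOpenImmersion.lift (relOpens s t W).ι r.left hrange
    have hc₀ : c₀ ≫ (relOpens s t W).ι = r.left := IsOpenImmersion.lift_fac _ _ _
    let c : T ⟶ RW s t W := Over.homMk c₀ (by
      change c₀ ≫ (relOpens s t W).ι ≫ R.hom = T.hom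
      rw [← Category.assoc, hc₀]
      exact Over.w r)
    have hc : c ≫ restrictOverι R (relOpens s t W) = r := Over.OverMorphism.ext hc₀
    refine ⟨c, ?_, ?_⟩
    · rw [← cancel_mono (restrictOverι U W), Category.assoc, tW_ι, ← Category.assoc, hc, hr1]
    · rw [← cancel_mono (restrictOverι U W), Category.assoc, sW_ι, ← Category.assoc, hc, hr2]

/-- If `W` is invariant, the restricted source map is the base change of `s` to `W`. -/
theorem isPullback_sW (W : U.left.Opens) (hinv : s.left ⁻¹ᵁ W = t.left ⁻¹ᵁ W) :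
    IsPullback (sW s t W).left (relOpens s t W).ι W.ι s.left := by
  apply IsOpenImmersion.isPullback
  · exact (sW_left_ι s t W).symm
  · rw [Scheme.Opens.opensRange_ι, Scheme.Opens.opensRange_ι, relOpens, ← hinv, inf_idem]

/-- If `s` is finite over `V` and `W ⊆ V` is invariant, the restricted source map is finite. -/
theorem isFinite_sW {V W : U.left.Opens} (hWV : W ≤ V) (hfin : IsFinite (s.left ∣_ V))
    (hinv : s.left ⁻¹ᵁ W = t.left ⁻¹ᵁ W) : IsFinite (sW s t W).left := by
  have hle : relOpens s t W ≤ s.left ⁻¹ᵁ V := fun r hr => hWV hr.2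
  have h1 : IsPullback (sW s t W).left (R.left.homOfLE hle ≫ (s.left ⁻¹ᵁ V).ι)
      (U.left.homOfLE hWV ≫ V.ι) s.left := by
    rw [Scheme.homOfLE_ι, Scheme.homOfLE_ι]
    exact isPullback_sW W hinv
  have h2 := isPullback_morphismRestrict s.left V
  have p : (sW s t W).left ≫ U.left.homOfLE hWV = R.left.homOfLE hle ≫ (s.left ∣_ V) := by
    rw [← cancel_mono V.ι, Category.assoc, Category.assoc, Scheme.homOfLE_ι, morphismRestrict_ι,
      ← Category.assoc, Scheme.homOfLE_ι, sW_left_ι]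
  have h3 := IsPullback.of_bot h1 p h2
  exact MorphismProperty.of_isPullback (P := @IsFinite) h3.flip hfin

/-- Transitivity of the relation on points. -/
theorem exists_trans_pt (h : IsEqvRel s t) (r' r : ↥R.left) (hrr : s.left r' = t.left r) :
    ∃ r'' : ↥R.left, t.left r'' = t.left r' ∧ s.left r'' = s.left r := by
  obtain ⟨c, hc1, hc2⟩ := exists_trans h
  obtain ⟨z, hz1, hz2⟩ := Scheme.Pullback.exists_preimage_pullback r' r hrr
  refine ⟨c z, ?_, ?_⟩
  · rw [← Scheme.Hom.comp_apply, hc1, Scheme.Hom.comp_apply, hz1]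
  · rw [← Scheme.Hom.comp_apply, hc2, Scheme.Hom.comp_apply, hz2]

/-- Symmetry of the relation on points. -/
theorem exists_symm_pt (h : IsEqvRel s t) (r : ↥R.left) :
    ∃ r' : ↥R.left, t.left r' = s.left r ∧ s.left r' = t.left r := by
  obtain ⟨i, hi1, hi2⟩ := exists_symm h
  refine ⟨i r, ?_, ?_⟩
  · rw [← Scheme.Hom.comp_apply, hi1]
  · rw [← Scheme.Hom.comp_apply, hi2]

theorem exists_isClosed_image_eq {α β : Type*} [TopologicalSpace α] [TopologicalSpace β]
    (f : α → β) (V : Set β) (hcl : IsClosedMap (V.restrictPreimage f)) (Z : Set α)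
    (hZ : IsClosed Z) : ∃ C : Set β, IsClosed C ∧ f '' (Z ∩ f ⁻¹' V) = C ∩ V := by
  have hZ' : IsClosed ((Subtype.val : ↥(f ⁻¹' V) → α) ⁻¹' Z) := hZ.preimage continuous_subtype_val
  obtain ⟨C, hC, hCeq⟩ := isClosed_induced_iff.1 (hcl _ hZ')
  refine ⟨C, hC, ?_⟩
  ext y
  constructor
  · rintro ⟨r, ⟨hrZ, hrV⟩, rfl⟩
    refine ⟨?_, hrV⟩
    have : (⟨f r, hrV⟩ : ↥V) ∈ Subtype.val ⁻¹' C := by
      rw [hCeq]
      exact ⟨⟨r, hrV⟩, hrZ, rfl⟩
    exact this
  · rintro ⟨hyC, hyV⟩
    have : (⟨y, hyV⟩ : ↥V) ∈ Subtype.val ⁻¹' C := hyC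
    rw [hCeq] at this
    obtain ⟨⟨r, hrV⟩, hrZ, hr⟩ := this
    exact ⟨r, ⟨hrZ, hrV⟩, congrArg Subtype.val hr⟩

/-- The largest invariant open inside an open `V` over which `s` is closed. -/
theorem exists_invariant_opens (h : IsEqvRel s t) (V : U.left.Opens)
    (hV : IsClosedMap (s.left ∣_ V)) :
    ∃ V' : U.left.Opens, (∀ v, v ∈ V' ↔ v ∈ V ∧ ∀ r, s.left r = v → t.left r ∈ V) ∧
      s.left ⁻¹ᵁ V' = t.left ⁻¹ᵁ V' := by
  rw [morphismRestrict_base] at hV
  obtain ⟨C, hC, hCeq⟩ := exists_isClosed_image_eq s.left (V : Set ↥U.left) hV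
    ((t.left ⁻¹ᵁ V : Set ↥R.left)ᶜ) (t.left ⁻¹ᵁ V).isOpen.isClosed_compl
  let V' : U.left.Opens := V ⊓ ⟨Cᶜ, hC.isOpen_compl⟩
  have hV' : ∀ v, v ∈ V' ↔ v ∈ V ∧ ∀ r, s.left r = v → t.left r ∈ V := by
    intro v
    constructor
    · rintro ⟨hvV, hvC⟩
      refine ⟨hvV, fun r hr => ?_⟩
      by_contra hcon
      have : v ∈ C ∩ (V : Set ↥U.left) := by
        rw [← hCeq]
        exact ⟨r, ⟨hcon, by rw [Set.mem_preimage, hr]; exact hvV⟩, hr⟩
      exact hvC this.1
    · rintro ⟨hvV, hv⟩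
      refine ⟨hvV, fun hvC => ?_⟩
      have : v ∈ s.left '' ((t.left ⁻¹ᵁ V : Set ↥R.left)ᶜ ∩ s.left ⁻¹' (V : Set ↥U.left)) := by
        rw [hCeq]
        exact ⟨hvC, hvV⟩
      obtain ⟨r, ⟨hr1, -⟩, hr⟩ := this
      exact hr1 (hv r hr)
  refine ⟨V', hV', ?_⟩
  have key : ∀ r : ↥R.left, s.left r ∈ V' → t.left r ∈ V' := by
    intro r hr
    rw [hV'] at hr ⊢
    refine ⟨hr.2 r rfl, fun r' hr' => ?_⟩
    obtain ⟨r'', h1, h2⟩ := exists_trans_pt h r' r hr'
    rw [← h1]
    exact hr.2 r'' h2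
  ext r
  constructor
  · exact key r
  · intro hr
    obtain ⟨r', h1, h2⟩ := exists_symm_pt h r
    have := key r' (by rw [h2]; exact hr)
    rwa [h1] at this

end Groth.Agent.Lib.RelRestrict46
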