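import Groth.Agent.Lib.ProperLqfFinite46
import Groth.Agent.Lib.AlgSpSepDescend
import Groth.Agent.Lib.AlgSpDescent
import Groth.Agent.Lib.GrpFieldSep46b
import Groth.Agent.Lib.AlgSpLocP
import Groth.Agent.Lib.AlgSpQC
import Groth.Agent.Lib.RelRestrict46
import Groth.Agent.Lib.GenFinIrr45
import Groth.Agent.Lib.EtLocQFSpFin46
import Groth.Agent.Lib.AlgSpGenericPt
import Groth.Agent.S2080
import Groth.Agent.Lib.AlgSpDvrRed36
import Groth.Agent.Lib.CodimZeroNbhd46
import Groth.Agent.Lib.AlgStQC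
import Groth.Agent.Lib.AlgSpQFBC91
import Groth.Agent.Lib.H69DescentFpqc3
import Groth.Agent.Lib.AlgSpFppfCover
import Groth.Agent.Lib.H86AlgSpOpen
import Groth.Agent.Lib.H86AlgSpSub
import Groth.Agent.Lib.H86AlgSpPoints
import Groth.Agent.Lib.H86DimAt
import Groth.Agent.Lib.AlgSpDecentSpec

/-!
# Generic finiteness for algebraic spaces without properness (owner: helper36)

* `isFiniteMor_of_finite_chart`: `g : X ⟶ h_V` with an étale surjective chart `h_U ⟶ X` such that `U ⟶ V` is finite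
  and the source map `R = U ×_X U ⟶ U` is finite, is a finite morphism.
-/

set_option autoImplicit false
set_option linter.style.haveILetI false
universe u
open CategoryTheory CategoryTheory.Limits AlgebraicGeometry TopologicalSpace
open AlgSp

namespace Groth.Agent.Lib.AlgSpGenFin36

variable {S : Scheme.{u}}

/-- A morphism `g : X ⟶ h_V` with an étale surjective chart `a : h_U ⟶ X` such that `U ⟶ V` is finite and the
source map of the relation `U ×_X U ⇉ U` is finite, is finite. -/
theorem isFiniteMor_of_finite_chart {X : Sp S} (hX : IsAlgSpace X) {V U R : Over S}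
    (g : X ⟶ (yon S).obj V) (a : (yon S).obj U ⟶ X) (hae : RepWith @Etale a)
    (has : RepWith @Surjective a) (h : U ⟶ V) (comm : a ≫ g = (yon S).map h)
    (hfin : IsFinite h.left) {s t : R ⟶ U}
    (hR : IsPullback ((yon S).map t) ((yon S).map s) a a) (hsfin : IsFinite s.left) :
    IsFiniteMor g := by
  have hU : IsAlgSpace ((yon S).obj U) := IsAlgSpace.yon_obj U
  have hV : IsAlgSpace ((yon S).obj V) := IsAlgSpace.yon_obj V
  have hRa : IsAlgSpace ((yon S).obj R) := IsAlgSpace.yon_obj R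
  have hs : IsSurjectiveMor a := Groth.Agent.Lib.AlgSpQC.surjective_map_of_repWith_surjective has
  -- the chart is universally closed
  have hsuc : IsUnivClosedMor ((yon S).map s) :=
    (Groth.Agent.Lib.AlgSpProper.repWith_universallyClosed_iff hRa hU (representable_yon_map s)).1
      ((repWith_yon_map_iff _ s).2 (inferInstance : UniversallyClosed s.left))
  have hauc : IsUnivClosedMor a :=
    Groth.Agent.Lib.AlgSpDescent.isUnivClosedMor_of_etale_chart hX.diag hU hae has hR hsuc
  -- `h_U ⟶ h_V` is separated and universally closed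
  have hhsep : IsSeparatedMor (a ≫ g) := by
    rw [comm]
    haveI : IsSeparated h.left := inferInstance
    exact Groth.Agent.Lib.GrpFieldSep46.isSeparatedMor_yon_map h
  have hhuc : IsUnivClosedMor (a ≫ g) := by
    rw [comm]
    exact (Groth.Agent.Lib.AlgSpProper.repWith_universallyClosed_iff hU hV (representable_yon_map h)).1
      ((repWith_yon_map_iff _ h).2 (inferInstance : UniversallyClosed h.left))
  have hsep : IsSeparatedMor g :=
    Groth.Agent.Lib.AlgSpProper.isSeparatedMor_of_surjective_univClosed hU hX hV a g hs hauc hhsep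
  have huc : IsUnivClosedMor g :=
    Groth.Agent.Lib.AlgSpProper.isUnivClosedMor_of_surjective_comp hs hhuc
  have hqf : LocP (@LocallyQuasiFinite ⊓ @LocallyOfFiniteType) g := by
    refine Groth.Agent.Lib.AlgSpLocP.locP_of_chart Groth.Agent.Lib.AlgSpLocP.etLocalClass_lqf_lft g a
      (𝟙 _) h hae has (Groth.Agent.Lib.AlgSpQC.repWith_id @Etale _) (by rw [comm, Category.comp_id]) ?_
    exact ⟨inferInstance, inferInstance⟩
  exact Groth.Agent.Lib.ProperLqfFinite46.isFiniteMor_of_sep_univClosed_lqf hX hV g hsep huc hqf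

/-- A point without proper generizations is the generic point of an irreducible component. -/
theorem closure_mem_irreducibleComponents {U : Scheme.{u}} (u : ↥U) (hu : ∀ u' : ↥U, u' ⤳ u → u' = u) :
    closure {u} ∈ irreducibleComponents ↥U := by
  obtain ⟨T, hT, hgen⟩ := (Groth.Agent.Lib.AlgSpGenericPt.exists_component_generic_iff u).2 hu
  rw [hgen.def]
  exact hT

/-- Scheme-level shrinking: near a generic point `v` of an irreducible component of `V` over which `h : U ⟶ V` is
quasi-finite, `h` is finite over an affine open `V₂ ∋ v`, and a quasi-finite quasi-compact quasi-separated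
`s : R ⟶ U` is finite over an open containing `h⁻¹ V₂`. -/
theorem exists_affine_nbhd_finite {U V R : Scheme.{u}} (h : U ⟶ V) [LocallyOfFiniteType h]
    [QuasiCompact h] [QuasiSeparated h] (s : R ⟶ U) [LocallyOfFiniteType s] [QuasiCompact s]
    [QuasiSeparated s] [LocallyQuasiFinite s] (v : ↥V)
    (hv : closure {v} ∈ irreducibleComponents ↥V)
    (hqf : ∀ u : ↥U, h u = v → h.QuasiFiniteAt u) :
    ∃ V₂ : V.Opens, IsAffineOpen V₂ ∧ v ∈ V₂ ∧ IsFinite (h ∣_ V₂) ∧
      ∃ W : U.Opens, h ⁻¹ᵁ V₂ ≤ W ∧ IsFinite (s ∣_ W) := by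
  classical
  have hFfin : (h ⁻¹' {v}).Finite :=
    (Groth.Agent.Lib.EtLocQFSpFin46.finite_setOf_quasiFiniteAt h v).subset
      (fun u hu => ⟨hu, hqf u hu⟩)
  obtain ⟨V₁, hV₁aff, hvV₁, hV₁fin⟩ := (Groth.Agent.S2080.result h v hv).1 hFfin
  have hvgen : ∀ y : ↥V, y ⤳ v → y = v := fun y hy =>
    Groth.Agent.Lib.GenFin45.eq_of_specializes_of_mem_irreducibleComponents hv hy
  have hu0 : ∀ u : ↥U, h u = v → closure {u} ∈ irreducibleComponents ↥U := by
    intro u hu
    apply closure_mem_irreducibleComponents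
    intro u' hu'
    exact Groth.Agent.Lib.GenFin45.eq_of_specializes_of_finite_fibre h v hvgen hFfin hu hu'
  have key : ∀ u : ↥U, ∃ W : U.Opens, IsFinite (s ∣_ W) ∧ (h u = v → u ∈ W) := by
    intro u
    by_cases hu : h u = v
    · obtain ⟨W, -, huW, hW⟩ :=
        (Groth.Agent.S2080.result s u (hu0 u hu)).1 (s.finite_preimage_singleton u)
      exact ⟨W, hW, fun _ => huW⟩
    · refine ⟨⊥, ?_, fun h' => absurd h' hu⟩
      have : IsEmpty ↥((⊥ : U.Opens) : Scheme.{u}) := by
        constructor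
        rintro ⟨x, hx⟩
        exact hx
      have : IsEmpty ↥((s ⁻¹ᵁ (⊥ : U.Opens) : R.Opens) : Scheme.{u}) := by
        constructor
        rintro ⟨x, hx⟩
        exact hx
      infer_instance
  choose Wf hWfin hWmem using key
  let W : U.Opens := ⨆ u, Wf u
  have hWfin' : IsFinite (s ∣_ W) :=
    Groth.Agent.Lib.GenFinIrr45.isFinite_morphismRestrict_iSup s Wf hWfin
  have hFW : ∀ u : ↥U, h u = v → u ∈ W := fun u hu =>
    Opens.mem_iSup.2 ⟨u, hWmem u hu⟩
  -- closedness of `h` over `V₁`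
  have hcl : IsClosedMap (h ∣_ V₁) := (h ∣_ V₁).isClosedMap
  rw [morphismRestrict_base] at hcl
  obtain ⟨C, hC, hCeq⟩ := Groth.Agent.Lib.RelRestrict46.exists_isClosed_image_eq h (V₁ : Set ↥V) hcl
    ((W : Set ↥U)ᶜ) W.isOpen.isClosed_compl
  have hvC : v ∉ C := by
    intro hvC
    have : v ∈ h '' ((W : Set ↥U)ᶜ ∩ h ⁻¹' (V₁ : Set ↥V)) := by
      rw [hCeq]; exact ⟨hvC, hvV₁⟩
    obtain ⟨u, ⟨huW, -⟩, hu⟩ := this
    exact huW (hFW u hu)
  let O : V.Opens := V₁ ⊓ ⟨Cᶜ, hC.isOpen_compl⟩
  have hvO : v ∈ O := ⟨hvV₁, hvC⟩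
  obtain ⟨V₂, hV₂aff, hvV₂, hV₂O⟩ : ∃ V₂ : V.Opens, IsAffineOpen V₂ ∧ v ∈ V₂ ∧ V₂ ≤ O :=
    (TopologicalSpace.Opens.isBasis_iff_nbhd.1 V.isBasis_affineOpens) hvO
  have hV₂V₁ : V₂ ≤ V₁ := fun y hy => (hV₂O hy).1
  refine ⟨V₂, hV₂aff, hvV₂, ?_, W, ?_, hWfin'⟩
  · -- finiteness over the smaller open
    have h1 := isPullback_morphismRestrict h V₁
    have h2 := isPullback_morphismRestrict h V₂
    have hle : h ⁻¹ᵁ V₂ ≤ h ⁻¹ᵁ V₁ := fun x hx => hV₂V₁ hx
    have e1 : U.homOfLE hle ≫ (h ⁻¹ᵁ V₁).ι = (h ⁻¹ᵁ V₂).ι := Scheme.homOfLE_ι _ _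
    have e2 : V.homOfLE hV₂V₁ ≫ V₁.ι = V₂.ι := Scheme.homOfLE_ι _ _
    have p : U.homOfLE hle ≫ (h ∣_ V₁) = (h ∣_ V₂) ≫ V.homOfLE hV₂V₁ := by
      rw [← cancel_mono V₁.ι, Category.assoc, Category.assoc, morphismRestrict_ι, e2,
        morphismRestrict_ι, ← Category.assoc, e1]
    have h2' : IsPullback (h ∣_ V₂) (U.homOfLE hle ≫ (h ⁻¹ᵁ V₁).ι) (V.homOfLE hV₂V₁ ≫ V₁.ι) h := by
      rw [e1, e2]; exact h2
    have h3 := IsPullback.of_bot h2' p.symm h1
    exact MorphismProperty.of_isPullback (P := @IsFinite) h3.flip hV₁fin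
  · intro u hu
    by_contra huW
    have hmem : h u ∈ h '' ((W : Set ↥U)ᶜ ∩ h ⁻¹' (V₁ : Set ↥V)) :=
      ⟨u, ⟨huW, hV₂V₁ hu⟩, rfl⟩
    rw [hCeq] at hmem
    exact (hV₂O hu).2 hmem.1



open Groth.Agent.Lib.AlgSpDecentSpec Groth.Agent.Lib.RelRestrict46

/-- Cancelling a monomorphism in a pullback square. -/
theorem isPullback_of_comp_mono {C : Type*} [Category C] {P X Y W Z : C} {p : P ⟶ X} {q : P ⟶ Y}
    {f : X ⟶ W} {g : Y ⟶ W} (m : W ⟶ Z) [Mono m] (h : IsPullback p q (f ≫ m) (g ≫ m)) :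
    IsPullback p q f g := by
  have w : p ≫ f = q ≫ g := by
    rw [← cancel_mono m, Category.assoc, Category.assoc]; exact h.w
  refine ⟨⟨w⟩, ⟨PullbackCone.IsLimit.mk w
    (fun c => h.lift c.fst c.snd (by rw [← Category.assoc, c.condition, Category.assoc]))
    (fun c => h.lift_fst _ _ _) (fun c => h.lift_snd _ _ _) ?_⟩⟩
  intro c l h1 h2
  apply h.hom_ext
  · rw [h1, h.lift_fst]
  · rw [h2, h.lift_snd]

/-- A chart of `X` over `h_V` base-changes to a chart of `X ×_{h_V} h_{V'}`. -/
theorem exists_chart_baseChange' {X X' : Sp S} {V V' : Over S} (g : X ⟶ (yon S).obj V)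
    (j : V' ⟶ V) {fst : X' ⟶ X} {snd : X' ⟶ (yon S).obj V'}
    (sq : IsPullback fst snd g ((yon S).map j))
    {U U' : Over S} (a : (yon S).obj U ⟶ X) (h : U ⟶ V) (comm : a ≫ g = (yon S).map h)
    (ι : U' ⟶ U) (h' : U' ⟶ V') (sqU : IsPullback ι.left h'.left h.left j.left) :
    ∃ a' : (yon S).obj U' ⟶ X', IsPullback a' ((yon S).map ι) fst a ∧ a' ≫ snd = (yon S).map h' := by
  have big : IsPullback ((yon S).map ι) ((yon S).map h') ((yon S).map h) ((yon S).map j) :=
    Groth.Agent.Lib.AlgSpDvrRed36.isPullback_yon_map sqU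
  have comm' : ((yon S).map ι ≫ a) ≫ g = (yon S).map h' ≫ (yon S).map j := by
    rw [Category.assoc, comm]; exact big.w
  refine ⟨sq.lift _ _ comm', ?_, sq.lift_snd _ _ comm'⟩
  refine IsPullback.of_right (h₁₂ := snd) (v₁₃ := (yon S).map j) (h₂₂ := g) ?_
    (sq.lift_fst _ _ comm') sq.flip
  rw [sq.lift_snd, comm]
  exact big.flip

/-- **Restriction to an open of the base.**  If over the open `V₂ ⊆ V` the chart `U ⟶ V` becomes finite and the source
map of the relation is finite over an open containing the preimage of `V₂`, then the base change of `g : X ⟶ h_V` to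
`V₂` is finite. -/
theorem isFiniteMor_restrict {X X₂ : Sp S} (hX : IsAlgSpace X) {V U R : Over S}
    (g : X ⟶ (yon S).obj V) (a : (yon S).obj U ⟶ X) (hae : RepWith @Etale a)
    (has : RepWith @Surjective a) (h : U ⟶ V) (comm : a ≫ g = (yon S).map h) {s t : R ⟶ U}
    (hR : IsPullback ((yon S).map t) ((yon S).map s) a a) (V₂ : V.left.Opens)
    (hfin : IsFinite (h.left ∣_ V₂)) (W : U.left.Opens) (hW : h.left ⁻¹ᵁ V₂ ≤ W)
    (hsfin : IsFinite (s.left ∣_ W))
    {m : X₂ ⟶ X} {g₂ : X₂ ⟶ (yon S).obj (restrictOver V V₂)}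
    (sq : IsPullback m g₂ g ((yon S).map (restrictOverι V V₂))) : IsFiniteMor g₂ := by
  have hX₂ : IsAlgSpace X₂ :=
    Groth.Agent.Lib.AlgSpBasic.isAlgSpace_of_isPullback hX (IsAlgSpace.yon_obj _)
      (fun U a => representable_of_yon a) sq
  let U₂ : Over S := restrictOver U (h.left ⁻¹ᵁ V₂)
  let h₂ : U₂ ⟶ restrictOver V V₂ := Over.homMk (h.left ∣_ V₂) (by
    change (h.left ∣_ V₂) ≫ V₂.ι ≫ V.hom = (h.left ⁻¹ᵁ V₂).ι ≫ U.hom
    rw [← Category.assoc, morphismRestrict_ι, Category.assoc, Over.w h])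
  have sqU : IsPullback (restrictOverι U (h.left ⁻¹ᵁ V₂)).left h₂.left h.left
      (restrictOverι V V₂).left := (isPullback_morphismRestrict h.left V₂).flip
  obtain ⟨a₂, sqa, ha₂g⟩ := exists_chart_baseChange' g (restrictOverι V V₂) sq a h comm
    (restrictOverι U (h.left ⁻¹ᵁ V₂)) h₂ sqU
  have ha₂e : RepWith @Etale a₂ := Groth.Agent.Lib.AlgSpBasic.repWith_fst_of_isPullback _ sqa hae
  have ha₂s : RepWith @Surjective a₂ :=
    Groth.Agent.Lib.AlgSpBasic.repWith_fst_of_isPullback _ sqa has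
  -- `m` is a monomorphism
  haveI : Mono ((yon S).map (restrictOverι V V₂)) := inferInstance
  haveI : Mono m := sq.mono_fst_of_mono
  -- the kernel pair of the restricted chart
  have hR₂ := isPullback_restrict hR (h.left ⁻¹ᵁ V₂)
  rw [← sqa.w] at hR₂
  have hR₂' := isPullback_of_comp_mono m hR₂
  -- invariance of the open
  have hst : s.left ≫ h.left = t.left ≫ h.left := by
    have h1 : (yon S).map (s ≫ h) = (yon S).map (t ≫ h) := by
      rw [Functor.map_comp, Functor.map_comp, ← comm, ← Category.assoc, ← Category.assoc, hR.w]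
    exact congrArg CommaMorphism.left ((yon S).map_injective h1)
  have hinv : s.left ⁻¹ᵁ (h.left ⁻¹ᵁ V₂) = t.left ⁻¹ᵁ (h.left ⁻¹ᵁ V₂) := by
    ext r
    change h.left (s.left r) ∈ V₂ ↔ h.left (t.left r) ∈ V₂
    rw [← Scheme.Hom.comp_apply, ← Scheme.Hom.comp_apply, hst]
  have hsW : IsFinite (sW s t (h.left ⁻¹ᵁ V₂)).left := isFinite_sW hW hsfin hinv
  exact isFiniteMor_of_finite_chart hX₂ g₂ a₂ ha₂e ha₂s h₂ ha₂g hfin hR₂' hsW



open Groth.Agent.Lib.AlgSpDecentSpec Groth.Agent.Lib.RelRestrict46 Groth.Agent.Lib.AlgSpQFBC91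




/-- **Generic finiteness over an affine base.**  A quasi-separated morphism of finite type `g : X ⟶ h_V` to an affine
scheme which is quasi-finite at all points over a codimension-zero point `v` of `V` is finite over an affine open
neighbourhood of `v`. -/
theorem exists_affine_open_finite {X : Sp S} (hX : IsAlgSpace X) {V : Over S} [IsAffine V.left]
    (g : X ⟶ (yon S).obj V) (hqs : IsQuasiSeparatedMor g) (hlft : LocP @LocallyOfFiniteType g)
    (hqc : IsQuasiCompactMor g) (v : ↥V.left)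
    (hv : ringKrullDim ↥(V.left.presheaf.stalk v) = 0)
    (hqf : ∀ x : Points X, Points.map g x = Points.ofScheme V v → x ∈ qfLocus g) :
    ∃ V₂ : V.left.Opens, IsAffineOpen V₂ ∧ v ∈ V₂ ∧
      ∀ (X₂ : Sp S) (m : X₂ ⟶ X) (g₂ : X₂ ⟶ (yon S).obj (restrictOver V V₂)),
        IsPullback m g₂ g ((yon S).map (restrictOverι V V₂)) → IsFiniteMor g₂ := by
  have hVa : IsAlgSpace ((yon S).obj V) := IsAlgSpace.yon_obj V
  have hXqc : IsQuasiCompactSp X :=
    hqc hVa ((Groth.Agent.Lib.AlgSpQC.isQuasiCompactSp_yon_iff V).2 inferInstance) (𝟙 _) (𝟙 _) g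
      IsPullback.of_id_fst
  obtain ⟨U, a, hUaff, hae, has⟩ := Groth.Agent.Lib.AlgStQC.exists_affine_chart hXqc
  haveI : IsAffine U.left := hUaff
  obtain ⟨h, hh⟩ := (yon S).map_surjective (a ≫ g)
  have comm : a ≫ g = (yon S).map h := hh.symm
  have comm' : a ≫ g = (yon S).map h ≫ 𝟙 _ := by rw [comm, Category.comp_id]
  have hid : RepWith @Etale (𝟙 ((yon S).obj V)) := Groth.Agent.Lib.AlgSpQC.repWith_id @Etale _
  haveI : LocallyOfFiniteType h.left := hlft a (𝟙 _) h hae hid comm'
  haveI : IsAffineHom h.left := inferInstance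
  -- the relation
  have sqR := hae.rep.isPullback' a
  have hrel := Groth.Agent.Lib.FinEtQuot46.isEqvRel_of_isPullback sqR
  haveI : Etale (hae.rep.snd a).left := hae.property_snd a
  haveI : LocallyQuasiFinite (hae.rep.snd a).left :=
    Groth.Agent.Lib.AlgSpBasic.locallyQuasiFinite_of_etale _
  haveI : IsSeparated (hae.rep.snd a).left := Groth.Agent.Lib.CodimZeroNbhd46.isSeparated_s hrel
  -- the chart is quasi-compact
  have hpc : (RepWith (S := S) @QuasiCompact).HasOfPostcompProperty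
      (RepWith (S := S) @QuasiCompact).diagonal :=
    MorphismProperty.hasOfPostcompProperty_iff_le_diagonal.2 le_rfl
  have hhqc : RepWith @QuasiCompact ((yon S).map h) :=
    (repWith_yon_map_iff _ h).2 (inferInstance : QuasiCompact h.left)
  have haqc : RepWith @QuasiCompact a :=
    MorphismProperty.of_postcomp (W := RepWith (S := S) @QuasiCompact)
      (W' := (RepWith (S := S) @QuasiCompact).diagonal) a g hqs (by rw [comm]; exact hhqc)
  haveI : QuasiCompact (hae.rep.snd a).left := haqc.property _ _ _ sqR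
  -- quasi-finiteness over `v`
  have hq : ∀ u : ↥U.left, h.left u = v → h.left.QuasiFiniteAt u := by
    intro u hu
    refine (mem_qfLocus_iff g hlft a (𝟙 _) h hae hid comm' u).1 (hqf _ ?_)
    rw [Points.map_ofPt, comm']
    have := Groth.Agent.Lib.AlgSpPoints.ofPt_yon_map_comp h (𝟙 _) u
    rw [this, hu]
  have hv0 : closure {v} ∈ irreducibleComponents ↥V.left :=
    closure_mem_irreducibleComponents v ((Groth.Agent.Lib.AlgSpGenericPt.ringKrullDim_stalk_eq_zero_iff v).1 hv)
  obtain ⟨V₂, hV₂aff, hvV₂, hV₂fin, W, hW, hWfin⟩ :=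
    exists_affine_nbhd_finite h.left (hae.rep.snd a).left v hv0 hq
  refine ⟨V₂, hV₂aff, hvV₂, fun X₂ m g₂ sq => ?_⟩
  exact isFiniteMor_restrict hX g a hae has h comm sqR V₂ hV₂fin W hW hWfin sq



open Groth.Agent.Lib.H86AlgSpOpen Groth.Agent.Lib.H86AlgSpSub

/-- **Descent of finiteness to the open image of an étale chart.**  If the base change of `f : X ⟶ Y` along an étale
`b : h_V ⟶ Y` is finite, then `f` is finite over the open subspace of `Y` which is the image of `b`. -/
theorem isFiniteMor_over_range {X Y : Sp S} (hX : IsAlgSpace X) (hY : IsAlgSpace Y) (f : X ⟶ Y)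
    {V : Over S} (b : (yon S).obj V ⟶ Y) (hb : RepWith @Etale b)
    (hfin : IsFiniteMor (pullback.snd f b)) {W : Set (Points Y)}
    (hW : W = Set.range (Points.ofPt b)) {P : Sp S}
    {fst : P ⟶ openSub Y W} {snd : P ⟶ X}
    (sq : IsPullback fst snd (openSubι Y W) f) : IsFiniteMor fst := by
  have hopen : IsOpen W := by
    rw [hW]; exact (Groth.Agent.Lib.H86AlgSpPoints.isOpenMap_ofPt hb).isOpen_range
  have hY' : IsAlgSpace (openSub Y W) := isAlgSpace_openSub hY hopen
  have hj : RepWith @IsOpenImmersion (openSubι Y W) := openSubι_repWith hopen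
  have hVa : IsAlgSpace ((yon S).obj V) := IsAlgSpace.yon_obj V
  have hP : IsAlgSpace P :=
    Groth.Agent.Lib.AlgSpBasic.isAlgSpace_of_isPullback hY' hX
      (fun U a => hY.representable_from_yon a) sq
  -- factor the chart through the open subspace
  obtain ⟨b₂, hb₂⟩ := exists_factor_of_range_subset hj b (by
    rw [range_map_openSubι, hW]
    rintro _ ⟨z, rfl⟩
    obtain ⟨t, rfl⟩ := (Points.schemeEquiv V).surjective z
    exact ⟨t, Points.ofPt_eq_map_ofScheme b t⟩)
  have hb₂e : RepWith @Etale b₂ := by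
    have : RepWith @Etale (b₂ ≫ openSubι Y W) := by rw [hb₂]; exact hb
    exact MorphismProperty.of_postcomp (W := RepWith (S := S) @Etale)
      (W' := MorphismProperty.monomorphisms (Sp S)) b₂ (openSubι Y W)
      (MorphismProperty.monomorphisms.infer_property _) this
  have hb₂s : ∀ z : Points (openSub Y W), z ∈ Set.range (Points.map b₂) := by
    intro z
    have hz : Points.map (openSubι Y W) z ∈ W := by
      have : Points.map (openSubι Y W) z ∈ Set.range (Points.map (openSubι Y W)) := ⟨z, rfl⟩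
      rwa [range_map_openSubι] at this
    have hz' : Points.map (openSubι Y W) z ∈ Set.range (Points.ofPt b) := hW ▸ hz
    obtain ⟨t, ht⟩ := hz'
    refine ⟨Points.ofScheme V t, ?_⟩
    have hinj : Function.Injective (Points.map (openSubι Y W)) :=
      map_injective_of_mono (openSubι Y W)
    apply hinj
    rw [← Points.map_comp, hb₂, ← ht, Points.ofPt_eq_map_ofScheme]
  -- the fpqc cover
  have hflat : LocP @Flat b₂ :=
    Groth.Agent.Lib.AlgSpBasic.locP_of_repWith @Flat
      (fun _ _ _ l w hl hw => by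
        haveI : Etale l := hl
        haveI : Flat w := hw
        infer_instance)
      (fun U a => representable_of_yon a)
      (Groth.Agent.Lib.AlgSpBasic.repWith_mono (fun _ _ k hk => by
        haveI : Etale k := hk; infer_instance) hb₂e)
  have hlfp : LocP @LocallyOfFinitePresentation b₂ :=
    Groth.Agent.Lib.AlgSpBasic.locP_of_repWith @LocallyOfFinitePresentation
      (fun _ _ _ l w hl hw => by
        haveI : Etale l := hl
        haveI : LocallyOfFinitePresentation w := hw
        infer_instance)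
      (fun U a => representable_of_yon a)
      (Groth.Agent.Lib.AlgSpBasic.repWith_mono (fun _ _ k hk => by
        haveI : Etale k := hk; infer_instance) hb₂e)
  have hcov : IsFpqcCover (fun _ : PUnit.{u + 1} => (yon S).obj V) (fun _ => b₂) :=
    Groth.Agent.Lib.AlgSpFpqc.isFpqcCover_of_isFppfCover hY' (fun _ => hVa)
      ⟨fun _ => ⟨hflat, hlfp⟩, fun z => ⟨PUnit.unit, hb₂s z⟩⟩
  -- the base change to the chart
  have sqi := IsPullback.of_hasPullback fst b₂
  have hPi : IsAlgSpace (pullback fst b₂) :=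
    Groth.Agent.Lib.AlgSpBasic.isAlgSpace_of_isPullback hP hVa
      (fun U a => hY'.representable_from_yon a) sqi
  refine (Groth.Agent.Lib.H69DescentFpqc.isLocalOnBase_fpqc_isFiniteMor
    (fun _ : PUnit.{u + 1} => (yon S).obj V) (fun _ => b₂) hY' (fun _ => hVa) hcov fst hP
    (fun _ => pullback fst b₂) (fun _ => pullback.snd fst b₂) (fun _ => pullback.fst fst b₂)
    (fun _ => hPi) (fun _ => sqi)).2 fun _ => ?_
  -- identify with the base change of `f` along `b`
  have big : IsPullback (pullback.fst fst b₂ ≫ snd) (pullback.snd fst b₂) f b := by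
    have := sqi.paste_horiz sq.flip
    rwa [hb₂] at this
  have sqb := IsPullback.of_hasPullback f b
  let e : pullback fst b₂ ≅ pullback f b := big.isoIsPullback _ _ sqb
  have he : e.hom ≫ pullback.snd f b = pullback.snd fst b₂ := big.isoIsPullback_hom_snd _ _ sqb
  intro Z hZ k
  obtain ⟨W', i, fst', sq', hW', hi⟩ := hfin hZ k
  refine ⟨W', i, fst' ≫ e.inv, ?_, hW', hi⟩
  have h1 : IsPullback e.inv (pullback.snd f b) (pullback.snd fst b₂) (𝟙 _) :=
    IsPullback.of_horiz_isIso ⟨by rw [Category.comp_id, ← he, Iso.inv_hom_id_assoc]⟩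
  have := sq'.paste_horiz h1
  rwa [Category.comp_id] at this



open Groth.Agent.Lib.H86AlgSpOpen Groth.Agent.Lib.H86AlgSpSub Groth.Agent.Lib.AlgSpDecentSpec
  Groth.Agent.Lib.AlgSpQFBC91



/-- **Generic finiteness** (Sp-level form of S10398). -/
theorem exists_open_finite_codimZero {X Y : Sp S} (hX : IsAlgSpace X) (hY : IsAlgSpace Y) (f : X ⟶ Y)
    (hqs : IsQuasiSeparatedMor f) (hlft : LocP @LocallyOfFiniteType f) (hqc : IsQuasiCompactMor f)
    (y : Points Y) (hy : HasAt (fun U u => ringKrullDim ↥(U.presheaf.stalk u) = 0) Y y)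
    (hqf : ∀ x : Points X, Points.map f x = y → x ∈ qfLocus f) :
    ∃ W : Set (Points Y), IsOpen W ∧ y ∈ W ∧
      ∀ (P : Sp S) (fst : P ⟶ openSub Y W) (snd : P ⟶ X),
        IsPullback fst snd (openSubι Y W) f → IsFiniteMor fst := by
  have hy' := hy
  obtain ⟨V₀, b₀, v₀, hb₀, hv₀, -⟩ := hy
  obtain ⟨V₀', hV₀'aff, hv₀V, -⟩ : ∃ V₀' : V₀.left.Opens, IsAffineOpen V₀' ∧ v₀ ∈ V₀' ∧ V₀' ≤ ⊤ :=
    (TopologicalSpace.Opens.isBasis_iff_nbhd.1 V₀.left.isBasis_affineOpens)
      (show v₀ ∈ (⊤ : V₀.left.Opens) from trivial)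
  let V : Over S := restrictOver V₀ V₀'
  haveI : IsAffine V.left := hV₀'aff
  let b : (yon S).obj V ⟶ Y := (yon S).map (restrictOverι V₀ V₀') ≫ b₀
  have hb : RepWith @Etale b := repWith_etale_restrict b₀ hb₀ V₀'
  let v : ↥V.left := (⟨v₀, hv₀V⟩ : ↥V₀')
  have hv : Points.ofPt b v = y := by
    rw [Groth.Agent.Lib.AlgSpPoints.ofPt_yon_map_comp]
    exact hv₀
  have hdim : ringKrullDim ↥(V.left.presheaf.stalk v) = 0 :=
    (Groth.Agent.Lib.H86DimAt.hasAt_iff_forall_chart
      (Q := fun U u => ringKrullDim ↥(U.presheaf.stalk u) = 0)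
      (fun s _ w => Groth.Agent.Lib.H86DimAt.ringKrullDim_stalk_iff_of_etale 0 s w) hY y).1
      hy' V b v hb hv
  -- base change to the chart
  have hVa : IsAlgSpace ((yon S).obj V) := IsAlgSpace.yon_obj V
  have sqb := IsPullback.of_hasPullback f b
  have hXV : IsAlgSpace (pullback f b) :=
    Groth.Agent.Lib.AlgSpBasic.isAlgSpace_of_isPullback hX hVa
      (fun U a => hY.representable_from_yon a) sqb
  have hqs' : IsQuasiSeparatedMor (pullback.snd f b) := by
    have h1 : (RepWith (S := S) @QuasiCompact).diagonal f := by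
      rw [MorphismProperty.diagonal_iff]; exact hqs
    have h2 := MorphismProperty.of_isPullback (P := (RepWith (S := S) @QuasiCompact).diagonal) sqb h1
    rw [MorphismProperty.diagonal_iff] at h2; exact h2
  have hlft' : LocP @LocallyOfFiniteType (pullback.snd f b) :=
    Groth.Agent.Lib.AlgSpLocP.locP_of_isPullback Groth.Agent.Lib.AlgSpLocP.etLocalClass_lft
      hX hY hVa sqb hlft
  have hqc' : IsQuasiCompactMor (pullback.snd f b) :=
    Groth.Agent.Lib.AlgSpDescent.isQuasiCompactMor_of_isPullback sqb hqc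
  have hqf' : ∀ x : Points (pullback f b),
      Points.map (pullback.snd f b) x = Points.ofScheme V v → x ∈ qfLocus (pullback.snd f b) := by
    intro x hx
    refine (mem_qfLocus_baseChange hX hY hXV hVa sqb hlft x).1 (hqf _ ?_)
    rw [← Points.map_comp, sqb.w, Points.map_comp, hx, ← Points.ofPt_eq_map_ofScheme, hv]
  obtain ⟨V₂, hV₂aff, hvV₂, hfin⟩ :=
    exists_affine_open_finite hXV (pullback.snd f b) hqs' hlft' hqc' v hdim hqf'
  let b' : (yon S).obj (restrictOver V V₂) ⟶ Y := (yon S).map (restrictOverι V V₂) ≫ b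
  have hb' : RepWith @Etale b' := repWith_etale_restrict b hb V₂
  have hfin' : IsFiniteMor (pullback.snd f b') := by
    have comm : pullback.fst f b' ≫ f =
        (pullback.snd f b' ≫ (yon S).map (restrictOverι V V₂)) ≫ b := by
      rw [Category.assoc]; exact pullback.condition
    refine hfin (pullback f b') (pullback.lift (pullback.fst f b')
      (pullback.snd f b' ≫ (yon S).map (restrictOverι V V₂)) comm) (pullback.snd f b') ?_
    refine IsPullback.of_right (h₁₂ := pullback.fst f b) (v₁₃ := f) (h₂₂ := b) ?_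
      (pullback.lift_snd _ _ comm) sqb
    rw [pullback.lift_fst]
    exact IsPullback.of_hasPullback f b'
  refine ⟨Set.range (Points.ofPt b'), (Groth.Agent.Lib.H86AlgSpPoints.isOpenMap_ofPt hb').isOpen_range,
    ⟨(⟨v, hvV₂⟩ : ↥V₂), ?_⟩, fun P fst snd sq => isFiniteMor_over_range hX hY f b' hb' hfin' rfl sq⟩
  rw [Groth.Agent.Lib.AlgSpPoints.ofPt_yon_map_comp]
  exact hv


end Groth.Agent.Lib.AlgSpGenFin36
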