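import Mathlib.AlgebraicGeometry.ZariskisMainTheorem

/-!
# A proper morphism is finite over a neighbourhood of a point with finite fibre (helper10)

* `quasiFiniteAt_of_finite_fibre`: `f` locally of finite type, `f⁻¹{f x}` finite ⇒ `f` quasi-finite at `x`.
* `exists_isFinite_restrict`: `f` proper, `f⁻¹{y}` finite ⇒ `f ∣_ V` is finite for some open `V ∋ y`
  (Zariski's main theorem, Mathlib's `IsFinite.of_isProper_of_locallyQuasiFinite` and openness of
  the quasi-finite locus).
-/

set_option autoImplicit false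

open AlgebraicGeometry CategoryTheory

universe u

namespace Groth.Agent.Lib.FiniteFibreNbhd

set_option backward.isDefEq.respectTransparency.types false in
theorem quasiFiniteAt_of_finite_fibre {X Y : Scheme.{u}} (f : X ⟶ Y) [LocallyOfFiniteType f] (x : X)
    (h : (f.base ⁻¹' {f.base x}).Finite) : f.QuasiFiniteAt x := by
  have hfin : Finite ↥(f.fiber (f x)) := by
    have := h.to_subtype
    exact (f.fiberHomeo (f x)).finite_iff.mpr this
  have hlft : LocallyOfFiniteType (f.fiberToSpecResidueField (f x)) :=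
    MorphismProperty.pullback_snd _ _ inferInstance
  have hg : LocallyQuasiFinite (f.fiberToSpecResidueField (f x)) :=
    .of_finite_preimage_singleton _ (fun _ => Set.toFinite _)
  have : IsLocallyArtinian (f.fiber (f x)) :=
    .of_locallyQuasiFinite (f.fiberToSpecResidueField (f x))
  rw [Scheme.Hom.quasiFiniteAt_iff_isOpen_singleton_asFiber]
  exact isOpen_discrete _

theorem exists_isFinite_restrict {X Y : Scheme.{u}} (f : X ⟶ Y) [IsProper f] (y : Y)
    (hy : (f.base ⁻¹' {y}).Finite) : ∃ V : Y.Opens, y ∈ V ∧ IsFinite (f ∣_ V) := by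
  let W := f.quasiFiniteLocus
  have hcl : IsClosed (f.base '' (W : Set X)ᶜ) :=
    f.isClosedMap _ W.2.isClosed_compl
  let V : Y.Opens := ⟨(f.base '' (W : Set X)ᶜ)ᶜ, hcl.isOpen_compl⟩
  have hyV : y ∈ V := by
    rintro ⟨x, hxW, rfl⟩
    exact hxW (quasiFiniteAt_of_finite_fibre f x hy)
  refine ⟨V, hyV, ?_⟩
  have hVW : f ⁻¹ᵁ V ≤ W := by
    intro x hx
    by_contra hxW
    exact hx ⟨x, hxW, rfl⟩
  have hprop : IsProper (f ∣_ V) := IsZariskiLocalAtTarget.restrict ‹_› V
  have hlqf : LocallyQuasiFinite (f ∣_ V) := by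
    rw [← Scheme.Hom.quasiFiniteLocus_eq_top_iff]
    refine top_le_iff.mp fun x _ => ?_
    change (f ∣_ V).QuasiFiniteAt x
    rw [← Scheme.Hom.quasiFiniteAt_comp_iff (g := V.ι), morphismRestrict_ι,
      Scheme.Hom.quasiFiniteAt_comp_iff_of_isOpenImmersion]
    exact hVW x.2
  exact IsFinite.of_isProper_of_locallyQuasiFinite _

end Groth.Agent.Lib.FiniteFibreNbhd
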