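import Groth.Agent.Lib.AlgSpGenFin36
import Groth.Agent.Lib.AlgSpValuativeDecent
import Groth.Agent.Lib.FiniteFibreNbhd
import Groth.Agent.Lib.AlgSpDecentPt91b
import Groth.Agent.Lib.H86QcProd

/-!
# Finite fibres over codimension-zero points (helper36)

* `finite_fibre_of_isFiniteMor`: a finite morphism of sheaves has finite fibres on points.
* `exists_quasiCompact_open_of_finite`: a finite set of points lies in a quasi-compact open subspace.
* `mem_qfLocus_of_finite_fibre`: a morphism locally of finite type from a decent space is quasi-finite at the points of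
  a finite fibre.
* `exists_open_finite_of_finite_fibre`: over a quasi-separated base, a quasi-separated morphism locally of finite type with
  finite fibre over a codimension-zero point `y` restricts to a finite morphism between open neighbourhoods of the fibre
  and of `y`.
-/

set_option autoImplicit false
universe u
open CategoryTheory CategoryTheory.Limits AlgebraicGeometry TopologicalSpace
open AlgSp
open Groth.Agent.Lib.H86AlgSpOpen Groth.Agent.Lib.H86AlgSpSub Groth.Agent.Lib.AlgSpDecentSpec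
  Groth.Agent.Lib.AlgSpQFBC91

namespace Groth.Agent.Lib.AlgSpGenFin36b

variable {S : Scheme.{u}}

/-- A finite morphism of sheaves has finite fibres on points. -/
theorem finite_fibre_of_isFiniteMor {X Y : Sp S} (f : X ⟶ Y) (hf : IsFiniteMor f) (y : Points Y) :
    (Points.map f ⁻¹' {y}).Finite := by
  obtain ⟨p, rfl⟩ := Points.mk_surjective y
  have hpaff : IsAffine p.pt.left := (inferInstance : IsAffine (Spec (.of p.K)))
  obtain ⟨W, i, fst, sq, hW, hi⟩ := hf hpaff p.toHom
  have : IsFinite i.left := hi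
  have hfinW : Finite ↥W.left := by
    have : CompactSpace ↥W.left := by
      have : IsAffine W.left := hW
      infer_instance
    exact Groth.Agent.Lib.EtLocQFSpFin46.finite_of_lqf_field (E := W.left) (L := p.K) i.left
  have hpt : Points.map p.toHom (Points.ofScheme p.pt (IsLocalRing.closedPoint p.K)) = Points.mk p := by
    rw [← Points.ofPt_eq_map_ofScheme]; exact Points.ofPt_toHom p _
  refine (Set.finite_range (fun w : ↥W.left => Points.ofPt fst w)).subset ?_
  intro x hx
  obtain ⟨w, hw1, -⟩ := Groth.Agent.Lib.AlgSpPoints.exists_point_of_isPullback sq x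
    (Points.ofScheme p.pt (IsLocalRing.closedPoint p.K)) (hx.trans hpt.symm)
  obtain ⟨t, rfl⟩ := (Points.schemeEquiv W).surjective w
  exact ⟨t, (Points.ofPt_eq_map_ofScheme fst t).trans hw1⟩

/-- A finite set of points of an algebraic space lies in a quasi-compact open subspace. -/
theorem exists_quasiCompact_open_of_finite {X : Sp S} (hX : IsAlgSpace X) (F : Set (Points X))
    (hF : F.Finite) :
    ∃ W₀ : Set (Points X), IsOpen W₀ ∧ F ⊆ W₀ ∧ IsQuasiCompactSp (openSub X W₀) := by
  obtain ⟨U, a, hae, has⟩ := hX.atlas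
  have hsurj := Groth.Agent.Lib.AlgSpQC.surjective_ofPt_of_repWith_surjective has
  choose u hu using hsurj
  have hO : ∀ x : Points X, ∃ O : U.left.Opens, IsAffineOpen O ∧ u x ∈ O := by
    intro x
    obtain ⟨_, ⟨O, hO, rfl⟩, hxO, -⟩ :=
      (U.left.isBasis_affineOpens).exists_subset_of_mem_open (Set.mem_univ (u x)) isOpen_univ
    exact ⟨O, hO, hxO⟩
  choose O hOaff huO using hO
  have : Finite ↥F := hF.to_subtype
  let O₀ : U.left.Opens := ⨆ x : ↥F, O x.1
  have hO₀c : IsCompact (O₀ : Set ↥U.left) := by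
    rw [TopologicalSpace.Opens.coe_iSup]
    exact isCompact_iUnion fun x => (hOaff x.1).isCompact
  let a₀ : (yon S).obj (restrictOver U O₀) ⟶ X := (yon S).map (restrictOverι U O₀) ≫ a
  have ha₀ : RepWith @Etale a₀ := repWith_etale_restrict a hae O₀
  have hW₀ : IsOpen (Set.range (Points.ofPt a₀)) :=
    (Groth.Agent.Lib.H86AlgSpPoints.isOpenMap_ofPt ha₀).isOpen_range
  refine ⟨Set.range (Points.ofPt a₀), hW₀, ?_, ?_⟩
  · intro x hx
    have hxO₀ : u x ∈ O₀ := by
      change u x ∈ (O₀ : Set ↥U.left)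
      rw [TopologicalSpace.Opens.coe_iSup]
      exact Set.mem_iUnion.2 ⟨⟨x, hx⟩, huO x⟩
    refine ⟨(⟨u x, hxO₀⟩ : ↥O₀), ?_⟩
    rw [Groth.Agent.Lib.AlgSpPoints.ofPt_yon_map_comp]
    exact hu x
  · have hj : RepWith @IsOpenImmersion (openSubι X (Set.range (Points.ofPt a₀))) :=
      openSubι_repWith hW₀
    obtain ⟨b, hb⟩ := exists_factor_of_range_subset hj a₀ (by
      rw [range_map_openSubι, range_map_eq_range_ofPt])
    have hbe : RepWith @Etale b := by
      have : RepWith @Etale (b ≫ openSubι X (Set.range (Points.ofPt a₀))) := by rw [hb]; exact ha₀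
      exact repWith_of_comp_mono _ this
    have hbs : Function.Surjective (Points.map b) := by
      intro z
      have hz : Points.map (openSubι X (Set.range (Points.ofPt a₀))) z ∈ Set.range (Points.ofPt a₀) := by
        have : Points.map (openSubι X (Set.range (Points.ofPt a₀))) z ∈
            Set.range (Points.map (openSubι X (Set.range (Points.ofPt a₀)))) := ⟨z, rfl⟩
        rwa [range_map_openSubι] at this
      obtain ⟨t, ht⟩ := hz
      refine ⟨Points.ofScheme _ t, ?_⟩
      apply map_injective_of_mono (openSubι X (Set.range (Points.ofPt a₀)))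
      rw [← Points.map_comp, hb, ← ht, Points.ofPt_eq_map_ofScheme]
    refine ⟨restrictOver U O₀, b, hbe, repWith_surjective_of_surjective hbe.1 hbs, ?_⟩
    exact isCompact_iff_compactSpace.1 hO₀c

/-- A morphism locally of finite type from a decent algebraic space is quasi-finite at every point of a finite fibre. -/
theorem mem_qfLocus_of_finite_fibre {X Y : Sp S} (hX : IsAlgSpace X) (hY : IsAlgSpace Y)
    (hXd : IsDecent X) (f : X ⟶ Y) (hlft : LocP @LocallyOfFiniteType f) (x : Points X)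
    (hfin : (Points.map f ⁻¹' {Points.map f x}).Finite) : x ∈ qfLocus f := by
  obtain ⟨V, c, hce, hcs⟩ := hY.atlas
  obtain ⟨v, hv⟩ := Groth.Agent.Lib.AlgSpQC.surjective_ofPt_of_repWith_surjective hcs (Points.map f x)
  obtain ⟨U₁, a₁, ha₁e, ha₁s⟩ := hX.atlas
  obtain ⟨u₁, hu₁⟩ := Groth.Agent.Lib.AlgSpQC.surjective_ofPt_of_repWith_surjective ha₁s x
  obtain ⟨E₀, sndE, fstE, sqE⟩ := hce.rep (a₁ ≫ f)
  have hsndE : Etale sndE.left := hce.property _ _ _ sqE
  obtain ⟨h₀, hh₀⟩ := (yon S).map_surjective fstE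
  obtain ⟨e, he1, he2⟩ := Groth.Agent.Lib.AlgSpPoints.exists_of_isPullback_yon sqE
    (Points.ofScheme V v) u₁ (by
      rw [← Points.ofPt_eq_map_ofScheme, hv, ← hu₁, Points.map_ofPt])
  obtain ⟨_, ⟨O, hOaff, rfl⟩, heO, -⟩ :=
    (E₀.left.isBasis_affineOpens).exists_subset_of_mem_open (Set.mem_univ e) isOpen_univ
  let U₃ : Over S := restrictOver E₀ O
  have : IsAffine U₃.left := hOaff
  have ha₂ : RepWith @Etale ((yon S).map sndE ≫ a₁) :=
    MorphismProperty.comp_mem _ _ _ ((repWith_yon_map_iff _ _).2 hsndE) ha₁e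
  let a₃ : (yon S).obj U₃ ⟶ X := (yon S).map (restrictOverι E₀ O) ≫ ((yon S).map sndE ≫ a₁)
  have ha₃ : RepWith @Etale a₃ := repWith_etale_restrict _ ha₂ O
  let h₃ : U₃ ⟶ V := restrictOverι E₀ O ≫ h₀
  have comm : a₃ ≫ f = (yon S).map h₃ ≫ c := by
    change ((yon S).map (restrictOverι E₀ O) ≫ ((yon S).map sndE ≫ a₁)) ≫ f = _
    rw [Functor.map_comp, Category.assoc, Category.assoc, Category.assoc, ← sqE.w, hh₀]
  let u₃ : ↥U₃.left := (⟨e, heO⟩ : ↥O)
  have hu₃ : Points.ofPt a₃ u₃ = x := by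
    change Points.ofPt ((yon S).map (restrictOverι E₀ O) ≫ ((yon S).map sndE ≫ a₁)) u₃ = x
    rw [Groth.Agent.Lib.AlgSpPoints.ofPt_yon_map_comp, Groth.Agent.Lib.AlgSpPoints.ofPt_yon_map_comp]
    change Points.ofPt a₁ (sndE.left e) = x
    rw [he1, hu₁]
  have : LocallyOfFiniteType h₃.left := hlft a₃ c h₃ ha₃ hce comm
  have hmapf : ∀ t : ↥U₃.left, Points.map f (Points.ofPt a₃ t) = Points.ofPt c (h₃.left t) := by
    intro t
    rw [Points.map_ofPt, comm, Groth.Agent.Lib.AlgSpPoints.ofPt_yon_map_comp]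
  have hfin' : (h₃.left.base ⁻¹' {h₃.left.base u₃}).Finite := by
    have h1 : (Points.ofPt a₃ ⁻¹' (Points.map f ⁻¹' {Points.map f x})).Finite :=
      hfin.preimage' fun b _ =>
        Groth.Agent.Lib.AlgSpValuative.finite_fibre_of_isDecent hXd a₃ ha₃ b
    refine h1.subset ?_
    intro t ht
    change Points.map f (Points.ofPt a₃ t) = Points.map f x
    rw [hmapf, ← hu₃, hmapf]
    exact congrArg (Points.ofPt c) ht
  exact ⟨U₃, V, a₃, c, h₃, u₃, ha₃, hce, comm, hu₃,
    Groth.Agent.Lib.FiniteFibreNbhd.quasiFiniteAt_of_finite_fibre h₃.left u₃ hfin'⟩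

/-- **(1) ⇒ (3)** (Sp-level form of S10446). -/
theorem exists_open_finite_of_finite_fibre [QuasiSeparatedSpace ↥S] {X Y : Sp S} (hX : IsAlgSpace X)
    (hY : IsAlgSpace Y) (f : X ⟶ Y) (hqs : IsQuasiSeparatedMor f)
    (hlft : LocP @LocallyOfFiniteType f) (hYqs : IsQuasiSeparatedSp Y) (y : Points Y)
    (hy : HasAt (fun U u => ringKrullDim ↥(U.presheaf.stalk u) = 0) Y y)
    (hfin : (Points.map f ⁻¹' {y}).Finite) :
    ∃ (W₀ : Set (Points X)) (W : Set (Points Y)), IsOpen W₀ ∧ IsOpen W ∧ y ∈ W ∧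
      Points.map f ⁻¹' {y} ⊆ W₀ ∧
      ∀ (P : Sp S) (fst : P ⟶ openSub Y W) (snd : P ⟶ openSub X W₀),
        IsPullback fst snd (openSubι Y W) (openSubι X W₀ ≫ f) → IsFiniteMor fst := by
  obtain ⟨W₀, hW₀o, hFW₀, hqcX''⟩ := exists_quasiCompact_open_of_finite hX _ hfin
  have hX'' : IsAlgSpace (openSub X W₀) := isAlgSpace_openSub hX hW₀o
  have hιe : RepWith @Etale (openSubι X W₀) :=
    Groth.Agent.Lib.AlgSpBasic.repWith_mono (fun _ _ k hk => by
      have : IsOpenImmersion k := hk; infer_instance) (openSubι_repWith hW₀o)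
  have hιqs : IsQuasiSeparatedMor (openSubι X W₀) := by
    have hiso : IsIso (pullback.diagonal (openSubι X W₀)) :=
      (pullback.isIso_diagonal_iff _).mpr inferInstance
    exact MorphismProperty.of_isIso (RepWith @QuasiCompact) (pullback.diagonal (openSubι X W₀))
  have hqs'' : IsQuasiSeparatedMor (openSubι X W₀ ≫ f) :=
    Groth.Agent.Lib.AlgSpProper.isQuasiSeparatedMor_comp hιqs hqs
  have hlft'' : LocP @LocallyOfFiniteType (openSubι X W₀ ≫ f) := by
    intro U V a b h ha hb comm
    exact hlft (a ≫ openSubι X W₀) b h (MorphismProperty.comp_mem _ _ _ ha hιe) hb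
      (by rw [Category.assoc]; exact comm)
  have hqc'' : IsQuasiCompactMor (openSubι X W₀ ≫ f) := by
    intro Z Z' hZ hZqc g fst snd sq
    exact Groth.Agent.Lib.H86QcProd.isQuasiCompactSp_of_isPullback_of_quasiSeparated hYqs sq
      hqcX'' hZqc
  have hX''qs : IsQuasiSeparatedSp (openSub X W₀) := by
    have h1 : (RepWith (S := S) @QuasiCompact).diagonal (openSubι X W₀ ≫ f) := by
      rw [MorphismProperty.diagonal_iff]; exact hqs''
    have h2 : (RepWith (S := S) @QuasiCompact).diagonal (terminal.from Y) :=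
      (Groth.Agent.Lib.H86QcProd.repWith_diag_iff_diagonal_terminal _ Y).1 hYqs
    have h3 := (RepWith (S := S) @QuasiCompact).diagonal.comp_mem _ _ h1 h2
    rw [terminal.comp_from] at h3
    exact (Groth.Agent.Lib.H86QcProd.repWith_diag_iff_diagonal_terminal _ _).2 h3
  have hX''d : IsDecent (openSub X W₀) :=
    Groth.Agent.Lib.AlgSpDecentPt91.isDecent_of_isQuasiSeparatedSp hX'' hX''qs
  have hqf'' : ∀ x'' : Points (openSub X W₀), Points.map (openSubι X W₀ ≫ f) x'' = y →
      x'' ∈ qfLocus (openSubι X W₀ ≫ f) := by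
    intro x'' hx''
    refine mem_qfLocus_of_finite_fibre hX'' hY hX''d _ hlft'' x'' ?_
    rw [hx'']
    have h1 : (Points.map (openSubι X W₀) ⁻¹' (Points.map f ⁻¹' {y})).Finite :=
      hfin.preimage (map_injective_of_mono (openSubι X W₀)).injOn
    refine h1.subset ?_
    intro t ht
    change Points.map f (Points.map (openSubι X W₀) t) = y
    rw [← Points.map_comp]; exact ht
  obtain ⟨W, hWo, hyW, hfinW⟩ := Groth.Agent.Lib.AlgSpGenFin36.exists_open_finite_codimZero hX'' hY
    (openSubι X W₀ ≫ f) hqs'' hlft'' hqc'' y hy hqf''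
  exact ⟨W₀, W, hW₀o, hWo, hyW, hFW₀, fun P fst snd sq => hfinW P fst snd sq⟩

end Groth.Agent.Lib.AlgSpGenFin36b
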