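import Groth.Agent.Lib.AlgSpLocP
import Groth.Agent.Lib.AlgSpBasic
import Groth.Agent.Lib.H86AffineMor
import Groth.Prelude.Def_AlgSpGpd

/-!
# Restriction of a groupoid in algebraic spaces: source and target as composites of base changes
-/

set_option autoImplicit false
universe u
open CategoryTheory CategoryTheory.Limits AlgebraicGeometry Opposite

namespace Groth.Agent.Lib.AlgSpGpdRestr91

open AlgSp AlgSp.GroupoidSp Groth.Agent.Lib.AlgSpBasic

variable {S : Scheme.{u}} {B : Sp S} {G' G : GroupoidSp B} (φ : GroupoidSp.Hom G' G)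

/-- The map `R' ⟶ R ×_{s,U} U'`. -/
noncomputable def mS : G'.R ⟶ pullback G.s φ.fU := pullback.lift φ.fR G'.s φ.comm_s

/-- The map `R' ⟶ R ×_{t,U} U'`. -/
noncomputable def mT : G'.R ⟶ pullback G.t φ.fU := pullback.lift φ.fR G'.t φ.comm_t

theorem mS_fst : mS φ ≫ pullback.fst G.s φ.fU = φ.fR := pullback.lift_fst _ _ _
theorem mS_snd : mS φ ≫ pullback.snd G.s φ.fU = G'.s := pullback.lift_snd _ _ _
theorem mT_fst : mT φ ≫ pullback.fst G.t φ.fU = φ.fR := pullback.lift_fst _ _ _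
theorem mT_snd : mT φ ≫ pullback.snd G.t φ.fU = G'.t := pullback.lift_snd _ _ _

theorem pU_eq : G'.pU = φ.fU ≫ G.pU := φ.fU_over.symm

/-- General T-point criterion: a point of `R'` is a point `ρ` of `R` together with points `v', u'` of `U'` lying over
`t ρ` and `s ρ`. -/
theorem exists_lift (hφ : φ.IsRestriction) {T : Sp S} (ρ : T ⟶ G.R) (v' u' : T ⟶ G'.U)
    (hv : ρ ≫ G.t = v' ≫ φ.fU) (hu : ρ ≫ G.s = u' ≫ φ.fU) :
    ∃ l : T ⟶ G'.R, l ≫ φ.fR = ρ ∧ l ≫ G'.t = v' ∧ l ≫ G'.s = u' := by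
  have h1 : v' ≫ G'.pU = u' ≫ G'.pU := by
    rw [pU_eq φ, ← Category.assoc, ← Category.assoc, ← hv, ← hu, Category.assoc, Category.assoc,
      G.t_over, G.s_over]
  have h2 : ρ ≫ G.j = pullback.lift v' u' h1 ≫ φ.prodMap := by
    apply pullback.hom_ext
    · rw [Category.assoc, G.j_fst, Category.assoc]
      unfold GroupoidSp.Hom.prodMap
      rw [pullback.lift_fst, ← Category.assoc, pullback.lift_fst, hv]
    · rw [Category.assoc, G.j_snd, Category.assoc]
      unfold GroupoidSp.Hom.prodMap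
      rw [pullback.lift_snd, ← Category.assoc, pullback.lift_snd, hu]
  refine ⟨hφ.lift ρ (pullback.lift v' u' h1) h2, hφ.lift_fst _ _ _, ?_, ?_⟩
  · rw [← G'.j_fst, ← Category.assoc, hφ.lift_snd, pullback.lift_fst]
  · rw [← G'.j_snd, ← Category.assoc, hφ.lift_snd, pullback.lift_snd]

theorem hom_ext (hφ : φ.IsRestriction) {T : Sp S} (l l' : T ⟶ G'.R) (h1 : l ≫ φ.fR = l' ≫ φ.fR)
    (h2 : l ≫ G'.t = l' ≫ G'.t) (h3 : l ≫ G'.s = l' ≫ G'.s) : l = l' := by
  apply hφ.hom_ext h1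
  apply pullback.hom_ext
  · rw [Category.assoc, Category.assoc, G'.j_fst, h2]
  · rw [Category.assoc, Category.assoc, G'.j_snd, h3]

/-- `R' ⟶ R ×_{s,U} U'` is the base change of `U' ⟶ U` along `R ×_{s,U} U' ⟶ R ⟶ U` (target). -/
theorem isPullback_mS (hφ : φ.IsRestriction) :
    IsPullback (mS φ) G'.t (pullback.fst G.s φ.fU ≫ G.t) φ.fU := by
  have w : mS φ ≫ pullback.fst G.s φ.fU ≫ G.t = G'.t ≫ φ.fU := by
    rw [← Category.assoc, mS_fst, φ.comm_t]
  have key : ∀ c : PullbackCone (pullback.fst G.s φ.fU ≫ G.t) φ.fU,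
      ∃ l : c.pt ⟶ G'.R, l ≫ φ.fR = c.fst ≫ pullback.fst G.s φ.fU ∧ l ≫ G'.t = c.snd ∧
        l ≫ G'.s = c.fst ≫ pullback.snd G.s φ.fU := fun c =>
    exists_lift φ hφ (c.fst ≫ pullback.fst G.s φ.fU) c.snd (c.fst ≫ pullback.snd G.s φ.fU)
      (by rw [Category.assoc]; exact c.condition) (by rw [Category.assoc, Category.assoc, pullback.condition])
  refine ⟨⟨w⟩, ⟨PullbackCone.IsLimit.mk _ (fun c => (key c).choose) (fun c => ?_) (fun c => ?_)
    (fun c l h1 h2 => ?_)⟩⟩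
  · obtain ⟨e1, e2, e3⟩ := (key c).choose_spec
    apply pullback.hom_ext
    · rw [Category.assoc, mS_fst, e1]
    · rw [Category.assoc, mS_snd, e3]
  · exact (key c).choose_spec.2.1
  · obtain ⟨e1, e2, e3⟩ := (key c).choose_spec
    apply hom_ext φ hφ
    · rw [e1, ← h1, Category.assoc, mS_fst]
    · rw [e2, h2]
    · rw [e3, ← h1, Category.assoc, mS_snd]

/-- `R' ⟶ R ×_{t,U} U'` is the base change of `U' ⟶ U` along `R ×_{t,U} U' ⟶ R ⟶ U` (source). -/
theorem isPullback_mT (hφ : φ.IsRestriction) :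
    IsPullback (mT φ) G'.s (pullback.fst G.t φ.fU ≫ G.s) φ.fU := by
  have w : mT φ ≫ pullback.fst G.t φ.fU ≫ G.s = G'.s ≫ φ.fU := by
    rw [← Category.assoc, mT_fst, φ.comm_s]
  have key : ∀ c : PullbackCone (pullback.fst G.t φ.fU ≫ G.s) φ.fU,
      ∃ l : c.pt ⟶ G'.R, l ≫ φ.fR = c.fst ≫ pullback.fst G.t φ.fU ∧
        l ≫ G'.t = c.fst ≫ pullback.snd G.t φ.fU ∧ l ≫ G'.s = c.snd := fun c =>
    exists_lift φ hφ (c.fst ≫ pullback.fst G.t φ.fU) (c.fst ≫ pullback.snd G.t φ.fU) c.snd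
      (by rw [Category.assoc, Category.assoc, pullback.condition]) (by rw [Category.assoc]; exact c.condition)
  refine ⟨⟨w⟩, ⟨PullbackCone.IsLimit.mk _ (fun c => (key c).choose) (fun c => ?_) (fun c => ?_)
    (fun c l h1 h2 => ?_)⟩⟩
  · obtain ⟨e1, e2, e3⟩ := (key c).choose_spec
    apply pullback.hom_ext
    · rw [Category.assoc, mT_fst, e1]
    · rw [Category.assoc, mT_snd, e2]
  · exact (key c).choose_spec.2.2
  · obtain ⟨e1, e2, e3⟩ := (key c).choose_spec
    apply hom_ext φ hφ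
    · rw [e1, ← h1, Category.assoc, mT_fst]
    · rw [e2, ← h1, Category.assoc, mT_snd]
    · rw [e3, h2]

/-- The restriction inherits from `s, t, g` any property of morphisms stable under base change and composition. -/
theorem locP_s_t {P : MorphismProperty Scheme.{u}} (hP : AlgSpLocP.EtLocalClass P)
    [P.DescendsAlong etCov] [P.IsStableUnderComposition]
    (hU : IsAlgSpace G.U) (hR : IsAlgSpace G.R) (hU' : IsAlgSpace G'.U) (hR' : IsAlgSpace G'.R)
    (hφ : φ.IsRestriction) (hs : LocP P G.s) (ht : LocP P G.t) (hg : LocP P φ.fU) :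
    LocP P G'.s ∧ LocP P G'.t := by
  have hPs : IsAlgSpace (pullback G.s φ.fU) :=
    isAlgSpace_of_isPullback hR hU' (fun _ a => hU.representable_from_yon a) (IsPullback.of_hasPullback _ _)
  have hPt : IsAlgSpace (pullback G.t φ.fU) :=
    isAlgSpace_of_isPullback hR hU' (fun _ a => hU.representable_from_yon a) (IsPullback.of_hasPullback _ _)
  constructor
  · rw [← mS_snd φ]
    refine AlgSpLocP.locP_comp hP hR' hPs hU' ?_ ?_
    · exact AlgSpLocP.locP_of_isPullback hP hU' hU hPs (isPullback_mS φ hφ).flip hg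
    · exact AlgSpLocP.locP_of_isPullback hP hR hU hU' (IsPullback.of_hasPullback G.s φ.fU) hs
  · rw [← mT_snd φ]
    refine AlgSpLocP.locP_comp hP hR' hPt hU' ?_ ?_
    · exact AlgSpLocP.locP_of_isPullback hP hU' hU hPt (isPullback_mT φ hφ).flip hg
    · exact AlgSpLocP.locP_of_isPullback hP hR hU hU' (IsPullback.of_hasPullback G.t φ.fU) ht

end Groth.Agent.Lib.AlgSpGpdRestr91
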