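import Groth.Agent.Lib.Steinitz91
import Groth.Agent.Lib.AlgSpGpdRestr91
import Groth.Agent.Lib.AlgSpFibreEmb46
import Groth.Agent.Lib.H86AlgSpPoints

/-!
# Groupoids over a field: lifting a point of `R` to an "automorphism point" after an algebraically closed extension
-/

set_option autoImplicit false
set_option linter.style.haveILetI false
universe u
open CategoryTheory CategoryTheory.Limits AlgebraicGeometry Opposite

namespace Groth.Agent.Lib.AlgSpGpdAlgClosed91

open AlgSp AlgSp.GroupoidSp Groth.Agent.Lib.AlgSpBasic Groth.Agent.Lib.AlgSpGpdRestr91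

variable {S : Scheme.{u}}

/-- Every point of `h_{Spec K}` maps to the class of the field point. -/
theorem map_toHom_eq {F : Sp S} (p : FieldPt F) (z : Points ((yon S).obj p.pt)) :
    Points.map p.toHom z = Points.mk p := by
  obtain ⟨t, rfl⟩ := (Points.schemeHomeo p.pt).surjective z
  rw [← Groth.Agent.Lib.AlgSpValuative.ofPt_eq_map_schemeHomeo']
  exact Groth.Agent.Lib.AlgSpFibreEmb46.ofPt_toHom' p t

theorem exists_restriction_point {B : Sp S} (G : GroupoidSp B) (k : Type u) [Field k]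
    (σ : Spec (CommRingCat.of k) ⟶ S) (eU : G.U ≅ (yon S).obj (Over.mk σ)) (r : Points G.R) :
    ∃ (k' : Type u) (_ : Field k') (_ : Algebra k k'), IsAlgClosed k' ∧
      ∀ (G' : GroupoidSp B) (φ : GroupoidSp.Hom G' G), φ.IsRestriction →
        ∀ (eU' : G'.U ≅ (yon S).obj (Over.mk (Spec.map (CommRingCat.ofHom (algebraMap k k')) ≫ σ))),
          φ.fU = eU'.hom ≫ (yon S).map (Over.homMk (Spec.map (CommRingCat.ofHom (algebraMap k k'))) rfl :
            Over.mk (Spec.map (CommRingCat.ofHom (algebraMap k k')) ≫ σ) ⟶ Over.mk σ) ≫ eU.inv →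
          ∃ r' : G'.U ⟶ G'.R, (∀ x : Points G'.U, Points.map (r' ≫ φ.fR) x = r) ∧
            IsIso (r' ≫ G'.s) ∧ IsIso (r' ≫ G'.t) := by
  obtain ⟨p, rfl⟩ := Points.mk_surjective r
  -- the two maps `Spec K ⟶ Spec k`
  obtain ⟨ms, hms⟩ := (yon S).map_surjective (p.toHom ≫ G.s ≫ eU.hom)
  obtain ⟨mt, hmt⟩ := (yon S).map_surjective (p.toHom ≫ G.t ≫ eU.hom)
  have hs' : p.toHom ≫ G.s = (yon S).map ms ≫ eU.inv := by
    rw [hms, Category.assoc, Category.assoc, eU.hom_inv_id, Category.comp_id]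
  have ht' : p.toHom ≫ G.t = (yon S).map mt ≫ eU.inv := by
    rw [hmt, Category.assoc, Category.assoc, eU.hom_inv_id, Category.comp_id]
  obtain ⟨σs, hσs⟩ : ∃ σs : k →+* p.K, Spec.map (CommRingCat.ofHom σs) = ms.left :=
    ⟨(Spec.preimage ms.left).hom, by rw [CommRingCat.ofHom_hom, Spec.map_preimage]⟩
  obtain ⟨σt, hσt⟩ : ∃ σt : k →+* p.K, Spec.map (CommRingCat.ofHom σt) = mt.left :=
    ⟨(Spec.preimage mt.left).hom, by rw [CommRingCat.ofHom_hom, Spec.map_preimage]⟩
  have hsw : Spec.map (CommRingCat.ofHom σs) ≫ σ = p.str := by rw [hσs]; exact Over.w ms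
  have htw : Spec.map (CommRingCat.ofHom σt) ≫ σ = p.str := by rw [hσt]; exact Over.w mt
  obtain ⟨k', hk'F, hk'C, ι, α, hα⟩ := Groth.Agent.Lib.Steinitz91.exists_algClosed_aut k p.K σs σt
  letI A1 : Algebra k k' := (ι.comp σs).toAlgebra
  refine ⟨k', hk'F, A1, hk'C, ?_⟩
  intro G' φ hφ eU' hfU
  have hmap : Spec.map (CommRingCat.ofHom (algebraMap k k')) =
      Spec.map (CommRingCat.ofHom ι) ≫ Spec.map (CommRingCat.ofHom σs) := by
    rw [← Spec.map_comp]; rfl
  -- `a : Spec k' ⟶ Spec K` over `S`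
  have haw : Spec.map (CommRingCat.ofHom ι) ≫ p.str =
      Spec.map (CommRingCat.ofHom (algebraMap k k')) ≫ σ := by
    rw [hmap, Category.assoc, hsw]
  obtain ⟨a, ha⟩ : ∃ a : Over.mk (Spec.map (CommRingCat.ofHom (algebraMap k k')) ≫ σ) ⟶ p.pt,
      a.left = Spec.map (CommRingCat.ofHom ι) := ⟨Over.homMk (Spec.map (CommRingCat.ofHom ι)) haw, rfl⟩
  -- the automorphism `β` of `Spec k'` over `S`
  have hαmap : Spec.map (CommRingCat.ofHom α.toRingHom) ≫ Spec.map (CommRingCat.ofHom (algebraMap k k')) =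
      Spec.map (CommRingCat.ofHom ι) ≫ Spec.map (CommRingCat.ofHom σt) := by
    rw [← Spec.map_comp, ← Spec.map_comp]
    congr 1
    ext x
    exact hα x
  have hβw : Spec.map (CommRingCat.ofHom α.toRingHom) ≫
      Spec.map (CommRingCat.ofHom (algebraMap k k')) ≫ σ =
      Spec.map (CommRingCat.ofHom (algebraMap k k')) ≫ σ := by
    rw [← Category.assoc, hαmap, Category.assoc, htw, haw]
  obtain ⟨β, hβ⟩ : ∃ β : Over.mk (Spec.map (CommRingCat.ofHom (algebraMap k k')) ≫ σ) ⟶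
      Over.mk (Spec.map (CommRingCat.ofHom (algebraMap k k')) ≫ σ),
      β.left = Spec.map (CommRingCat.ofHom α.toRingHom) :=
    ⟨Over.homMk (Spec.map (CommRingCat.ofHom α.toRingHom)) hβw, rfl⟩
  have hβiso : IsIso β := by
    have h1 : IsIso (CommRingCat.ofHom α.toRingHom) :=
      ⟨⟨CommRingCat.ofHom α.symm.toRingHom, by ext x; simp, by ext x; simp⟩⟩
    have h2 : IsIso ((Over.forget S).map β) := by
      change IsIso β.left
      rw [hβ]; infer_instance
    exact isIso_of_reflects_iso β (Over.forget _)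
  obtain ⟨g₀, hg₀⟩ : ∃ g₀ : Over.mk (Spec.map (CommRingCat.ofHom (algebraMap k k')) ≫ σ) ⟶ Over.mk σ,
      g₀ = Over.homMk (Spec.map (CommRingCat.ofHom (algebraMap k k'))) rfl := ⟨_, rfl⟩
  rw [← hg₀] at hfU
  have hg₀l : g₀.left = Spec.map (CommRingCat.ofHom (algebraMap k k')) := by rw [hg₀]; rfl
  have e1 : a ≫ ms = g₀ := by
    apply Over.OverMorphism.ext
    rw [Over.comp_left, ha, ← hσs, hg₀l, hmap]
  have e2 : a ≫ mt = β ≫ g₀ := by
    apply Over.OverMorphism.ext
    rw [Over.comp_left, Over.comp_left, ha, ← hσt, hβ, hg₀l, hαmap]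
  have hu : (eU'.hom ≫ (yon S).map a ≫ p.toHom) ≫ G.s = 𝟙 G'.U ≫ φ.fU := by
    rw [Category.id_comp, hfU, Category.assoc, Category.assoc, hs', ← e1, Functor.map_comp, Category.assoc]
  have hv : (eU'.hom ≫ (yon S).map a ≫ p.toHom) ≫ G.t =
      (eU'.hom ≫ (yon S).map β ≫ eU'.inv) ≫ φ.fU := by
    rw [hfU, Category.assoc, Category.assoc, ht', Category.assoc, Category.assoc, eU'.inv_hom_id_assoc,
      ← Functor.map_comp_assoc, ← Functor.map_comp_assoc, e2]
  obtain ⟨r', h1, h2, h3⟩ := exists_lift φ hφ _ _ _ hv hu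
  refine ⟨r', fun x => ?_, ?_, ?_⟩
  · rw [h1, Points.map_comp, Points.map_comp]
    exact map_toHom_eq p _
  · rw [h3]; infer_instance
  · rw [h2]
    have : IsIso ((yon S).map β) := inferInstance
    infer_instance

end Groth.Agent.Lib.AlgSpGpdAlgClosed91
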