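import Mathlib.CategoryTheory.Monoidal.Cartesian.Grp

/-!
# Translation automorphisms of `G ⊗ T` for a group object `G` and a `T`-valued point of `G`
-/

universe v u
open CategoryTheory MonoidalCategory CartesianMonoidalCategory MonObj

namespace Groth.Agent.Lib.GrpTranslate91

variable {C : Type u} [Category.{v} C] [CartesianMonoidalCategory C] {G T : C} [GrpObj G]

/-- Left translation of `G ⊗ T` by a `T`-valued point `k` of `G`: `(x, t) ↦ (k t * x, t)`. -/
noncomputable def transl (k : T ⟶ G) : G ⊗ T ⟶ G ⊗ T :=
  lift ((snd G T ≫ k) * fst G T) (snd G T)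

@[reassoc (attr := simp)]
theorem transl_snd (k : T ⟶ G) : transl k ≫ snd G T = snd G T := by
  simp [transl]

@[reassoc (attr := simp)]
theorem transl_fst (k : T ⟶ G) : transl k ≫ fst G T = (snd G T ≫ k) * fst G T := by
  simp [transl]

theorem transl_comp (k k' : T ⟶ G) : transl k ≫ transl k' = transl (k' * k) := by
  apply CartesianMonoidalCategory.hom_ext
  · rw [Category.assoc, transl_fst, MonObj.comp_mul, transl_fst, transl_snd_assoc, transl_fst,
      MonObj.comp_mul, _root_.mul_assoc]
  · simp

theorem transl_one : transl (1 : T ⟶ G) = 𝟙 (G ⊗ T) := by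
  apply CartesianMonoidalCategory.hom_ext
  · rw [transl_fst, MonObj.comp_one, _root_.one_mul, Category.id_comp]
  · simp

/-- The translation as an isomorphism. -/
noncomputable def translIso (k : T ⟶ G) : G ⊗ T ≅ G ⊗ T where
  hom := transl k
  inv := transl k⁻¹
  hom_inv_id := by rw [transl_comp, inv_mul_cancel, transl_one]
  inv_hom_id := by rw [transl_comp, mul_inv_cancel, transl_one]

/-- Translation by `k` takes the unit section to the graph of `k`. -/
theorem lift_one_transl (k : T ⟶ G) : lift (1 : T ⟶ G) (𝟙 T) ≫ transl k = lift k (𝟙 T) := by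
  apply CartesianMonoidalCategory.hom_ext
  · rw [Category.assoc, transl_fst, MonObj.comp_mul, lift_snd_assoc, lift_fst, Category.id_comp,
      _root_.mul_one, lift_fst]
  · simp

end Groth.Agent.Lib.GrpTranslate91
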