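import Groth.Agent.Lib.AlgSpPtwise91
import Groth.Agent.Lib.GrpTranslate91
import Groth.Agent.Lib.H86AlgSpSub
import Groth.Agent.Lib.H86Coprod
import Groth.Prelude.Def_AlgSpGpd

/-!
# Group algebraic spaces: homogeneity (translation argument)
-/

set_option autoImplicit false
universe u
open CategoryTheory CategoryTheory.Limits AlgebraicGeometry Opposite MonoidalCategory MonObj
  CartesianMonoidalCategory

namespace Groth.Agent.Lib.AlgSpGrp91

open AlgSp Groth.Agent.Lib.AlgSpPoints Groth.Agent.Lib.AlgSpBasic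
  Groth.Agent.Lib.AlgSpLocP Groth.Agent.Lib.AlgSpPtwise91 Groth.Agent.Lib.GrpTranslate91

variable {S : Scheme.{u}} {B : Sp S}

/-- **Homogeneity.**  For a group algebraic space `G` over `B`, locally of finite type, a pointwise property `Q` compatible
with base change holds at a point `g` iff it holds at `e(p(g))`. -/
theorem hasAtMor_iff_unit {C : MorphismProperty Scheme.{u}}
    {Q : ∀ (U V : Scheme.{u}), (U ⟶ V) → ↥U → Prop} (hCQ : PointwiseBC C Q)
    (hB : IsAlgSpace B) (G : Over B) [GrpObj G] (hG : IsAlgSpace G.left)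
    (hlft : LocP @LocallyOfFiniteType G.hom) (g : Points G.left) :
    HasAtMor Q G.hom g ↔ HasAtMor Q G.hom (Points.map (η[G]).left (Points.map G.hom g)) := by
  obtain ⟨T, k₀, hke, hks⟩ := hG.atlas
  obtain ⟨t, rfl⟩ := Groth.Agent.Lib.H86AlgSpPoints.ofPt_surjective hks g
  let TT : Over B := Over.mk (k₀ ≫ G.hom)
  let k : TT ⟶ G := Over.homMk k₀ rfl
  have hT : IsAlgSpace ((yon S).obj T) := IsAlgSpace.yon_obj _
  have sq1 : IsPullback (fst G TT).left (snd G TT).left G.hom (k₀ ≫ G.hom) :=
    IsPullback.of_hasPullback G.hom (k₀ ≫ G.hom)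
  have hX'' : IsAlgSpace (G ⊗ TT).left :=
    isAlgSpace_of_isPullback hG hT (fun _ a => hB.representable_from_yon a) sq1
  have sq2 : IsPullback ((transl k).left ≫ (fst G TT).left) (snd G TT).left G.hom (k₀ ≫ G.hom) := by
    refine IsPullback.of_iso sq1 ((Over.forget B).mapIso (translIso k).symm) (Iso.refl _) (Iso.refl _)
      (Iso.refl _) ?_ ?_ (by simp) (by simp)
    · change (fst G TT).left ≫ 𝟙 _ = (transl k⁻¹).left ≫ (transl k).left ≫ (fst G TT).left
      rw [Category.comp_id, ← Over.comp_left_assoc]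
      have := (translIso k).inv_hom_id
      change transl k⁻¹ ≫ transl k = 𝟙 _ at this
      rw [this]; simp
    · change (snd G TT).left ≫ 𝟙 _ = (transl k⁻¹).left ≫ (snd G TT).left
      rw [Category.comp_id, ← Over.comp_left, transl_snd]
  let eT : TT ⟶ G ⊗ TT := lift (1 : TT ⟶ G) (𝟙 TT)
  have e1 := hCQ.baseChange hG hB hX'' hT sq1 hlft (Points.ofPt eT.left t)
  have e2 := hCQ.baseChange hG hB hX'' hT sq2 hlft (Points.ofPt eT.left t)
  have p1 : Points.map (fst G TT).left (Points.ofPt eT.left t) =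
      Points.map (η[G]).left (Points.map G.hom (Points.ofPt k₀ t)) := by
    rw [Points.map_ofPt, Points.map_ofPt, Points.map_ofPt, ← Over.comp_left]
    have : eT ≫ fst G TT = toUnit TT ≫ η[G] := by
      simp only [eT, lift_fst]; rfl
    rw [this]
    rfl
  have p2 : Points.map ((transl k).left ≫ (fst G TT).left) (Points.ofPt eT.left t) =
      Points.ofPt k₀ t := by
    rw [Points.map_ofPt, ← Over.comp_left, ← Over.comp_left]
    have : eT ≫ transl k ≫ fst G TT = k := by
      rw [← Category.assoc, lift_one_transl, lift_fst]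
    rw [this]
    rfl
  rw [p1] at e1
  rw [p2] at e2
  rw [← e2, e1]

/-- The unit section is a section of the structure morphism. -/
theorem unit_left_hom (G : Over B) [GrpObj G] : (η[G]).left ≫ G.hom = 𝟙 B := by
  simp

/-- **Base change criterion.**  For a cartesian square with right vertical map `G ⟶ B` a group algebraic space locally of
finite type and bottom map `φ : B'' ⟶ B`, the base change `p''` has `LocP C` iff `Q` holds at the unit section over
every point in the image of `φ`. -/
theorem locP_baseChange_iff {C : MorphismProperty Scheme.{u}}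
    {Q : ∀ (U V : Scheme.{u}), (U ⟶ V) → ↥U → Prop} (hCQ : PointwiseBC C Q)
    (hB : IsAlgSpace B) (G : Over B) [GrpObj G] (hG : IsAlgSpace G.left)
    (hlft : LocP @LocallyOfFiniteType G.hom) {B'' G'' : Sp S} (hB'' : IsAlgSpace B'')
    {c : G'' ⟶ G.left} {p'' : G'' ⟶ B''} {φ : B'' ⟶ B} (sq : IsPullback c p'' G.hom φ) :
    LocP C p'' ↔ ∀ b'' : Points B'', HasAtMor Q G.hom (Points.map (η[G]).left (Points.map φ b'')) := by
  have hG'' : IsAlgSpace G'' :=
    isAlgSpace_of_isPullback hG hB'' (fun _ a => hB.representable_from_yon a) sq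
  have hlft'' : LocP @LocallyOfFiniteType p'' :=
    locP_of_isPullback etLocalClass_lft hG hB hB'' sq hlft
  rw [hCQ.locP_iff hG'' hB'' p'' hlft'']
  constructor
  · intro h b''
    let σ : B'' ⟶ G'' := sq.lift (φ ≫ (η[G]).left) (𝟙 B'') (by
      rw [Category.assoc, unit_left_hom, Category.comp_id, Category.id_comp])
    have h1 := (hCQ.baseChange hG hB hG'' hB'' sq hlft (Points.map σ b'')).1 (h _)
    rwa [← Points.map_comp, sq.lift_fst, Points.map_comp] at h1
  · intro h x''
    rw [hCQ.baseChange hG hB hG'' hB'' sq hlft x'', hasAtMor_iff_unit hCQ hB G hG hlft]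
    have h1 := h (Points.map p'' x'')
    rwa [← Points.map_comp p'' φ, ← sq.w, Points.map_comp] at h1

/-- `G ⟶ B` has `LocP C` iff `Q` holds at all points of the unit section. -/
theorem locP_iff_unit {C : MorphismProperty Scheme.{u}}
    {Q : ∀ (U V : Scheme.{u}), (U ⟶ V) → ↥U → Prop} (hCQ : PointwiseBC C Q)
    (hB : IsAlgSpace B) (G : Over B) [GrpObj G] (hG : IsAlgSpace G.left)
    (hlft : LocP @LocallyOfFiniteType G.hom) :
    LocP C G.hom ↔ ∀ b : Points B, HasAtMor Q G.hom (Points.map (η[G]).left b) := by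
  rw [locP_baseChange_iff hCQ hB G hG hlft hB (IsPullback.of_id_fst (f := G.hom))]
  simp only [Points.map_id]

/-- **Largest open over which a group algebraic space has `LocP C`**, compatible with base change. -/
theorem exists_largest_open {C : MorphismProperty Scheme.{u}}
    {Q : ∀ (U V : Scheme.{u}), (U ⟶ V) → ↥U → Prop} (hCQ : PointwiseBC C Q)
    (hB : IsAlgSpace B) (G : Over B) [GrpObj G] (hG : IsAlgSpace G.left)
    (hlft : LocP @LocallyOfFiniteType G.hom) :
    ∃ (W : Sp S) (w : W ⟶ B), RepWith @IsOpenImmersion w ∧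
      (∀ (W' : Sp S) (w' : W' ⟶ B), RepWith @IsOpenImmersion w' →
        (LocP C (pullback.snd G.hom w') ↔ ∃ k : W' ⟶ W, k ≫ w = w')) ∧
      (∀ (B' : Sp S), IsAlgSpace B' → ∀ (f : B' ⟶ B) (W'' : Sp S) (w'' : W'' ⟶ B'),
        RepWith @IsOpenImmersion w'' →
        (LocP C (pullback.snd (pullback.snd G.hom f) w'') ↔
          ∃ k : W'' ⟶ pullback w f, k ≫ pullback.snd w f = w'')) := by
  let W₀ : Set (Points B) := {b | HasAtMor Q G.hom (Points.map (η[G]).left b)}
  have hW₀ : IsOpen W₀ := (Points.continuous_map (η[G]).left).isOpen_preimage _ (hCQ.isOpen G.hom)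
  have hw := Groth.Agent.Lib.H86AlgSpOpen.openSubι_repWith (F := B) hW₀
  have hr : Set.range (Points.map (Groth.Agent.Lib.H86AlgSpOpen.openSubι B W₀)) = W₀ :=
    Groth.Agent.Lib.H86AlgSpOpen.range_map_openSubι
  refine ⟨Groth.Agent.Lib.H86AlgSpOpen.openSub B W₀, Groth.Agent.Lib.H86AlgSpOpen.openSubι B W₀, hw,
    ?_, ?_⟩
  · intro W' w' hw'
    have hW' : IsAlgSpace W' := Groth.Agent.Lib.H86Coprod.isAlgSpace_of_representable w' hw'.1 hB
    rw [locP_baseChange_iff hCQ hB G hG hlft hW' (IsPullback.of_hasPullback G.hom w')]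
    constructor
    · intro h
      refine Groth.Agent.Lib.H86AlgSpSub.exists_factor_of_range_subset hw w' ?_
      rintro _ ⟨b', rfl⟩
      rw [hr]
      exact h b'
    · rintro ⟨k, rfl⟩ b'
      have : Points.map (k ≫ Groth.Agent.Lib.H86AlgSpOpen.openSubι B W₀) b' ∈
          Set.range (Points.map (Groth.Agent.Lib.H86AlgSpOpen.openSubι B W₀)) :=
        ⟨Points.map k b', (Points.map_comp _ _ _).symm⟩
      rw [hr] at this
      exact this
  · intro B' hB' f W'' w'' hw''
    have hW'' : IsAlgSpace W'' :=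
      Groth.Agent.Lib.H86Coprod.isAlgSpace_of_representable w'' hw''.1 hB'
    have sq := (IsPullback.of_hasPullback (pullback.snd G.hom f) w'').paste_horiz
      (IsPullback.of_hasPullback G.hom f)
    rw [locP_baseChange_iff hCQ hB G hG hlft hW'' sq]
    have sqw := (IsPullback.of_hasPullback (Groth.Agent.Lib.H86AlgSpOpen.openSubι B W₀) f).flip
    have hsnd : RepWith @IsOpenImmersion
        (pullback.snd (Groth.Agent.Lib.H86AlgSpOpen.openSubι B W₀) f) :=
      repWith_fst_of_isPullback _ sqw hw
    have hr' := Groth.Agent.Lib.H86AlgSpSub.range_map_fst_of_isPullback sqw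
    rw [hr] at hr'
    constructor
    · intro h
      refine Groth.Agent.Lib.H86AlgSpSub.exists_factor_of_range_subset hsnd w'' ?_
      rintro _ ⟨b'', rfl⟩
      rw [hr']
      have := h b''
      rwa [Points.map_comp] at this
    · rintro ⟨k, rfl⟩ b''
      have : Points.map (k ≫ pullback.snd (Groth.Agent.Lib.H86AlgSpOpen.openSubι B W₀) f) b'' ∈
          Set.range (Points.map (pullback.snd (Groth.Agent.Lib.H86AlgSpOpen.openSubι B W₀) f)) :=
        ⟨Points.map k b'', (Points.map_comp _ _ _).symm⟩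
      rw [hr'] at this
      rw [Points.map_comp]
      exact this

/-- **Pseudo-torsors inherit `LocP C` from the group.** -/
theorem locP_of_isPseudoTorsor {C : MorphismProperty Scheme.{u}}
    {Q : ∀ (U V : Scheme.{u}), (U ⟶ V) → ↥U → Prop} (hCQ : PointwiseBC C Q)
    (hB : IsAlgSpace B) (G X : Over B) [GrpObj G] (hG : IsAlgSpace G.left) (hX : IsAlgSpace X.left)
    (a : GAction G X) (ha : a.IsPseudoTorsor)
    (hGt : LocP @LocallyOfFiniteType G.hom) (hXt : LocP @LocallyOfFiniteType X.hom)
    (hGC : LocP C G.hom) : LocP C X.hom := by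
  have hGall := (hCQ.locP_iff hG hB G.hom hGt).1 hGC
  rw [hCQ.locP_iff hX hB X.hom hXt]
  intro x
  obtain ⟨T, k₀, hke, hks⟩ := hX.atlas
  obtain ⟨t, rfl⟩ := Groth.Agent.Lib.H86AlgSpPoints.ofPt_surjective hks x
  let TT : Over B := Over.mk (k₀ ≫ X.hom)
  let k : TT ⟶ X := Over.homMk k₀ rfl
  have hT : IsAlgSpace ((yon S).obj T) := IsAlgSpace.yon_obj _
  have sq1 : IsPullback (fst X TT).left (snd X TT).left X.hom (k₀ ≫ X.hom) :=
    IsPullback.of_hasPullback X.hom (k₀ ≫ X.hom)
  have hX'' : IsAlgSpace (X ⊗ TT).left :=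
    isAlgSpace_of_isPullback hX hT (fun _ a => hB.representable_from_yon a) sq1
  -- the square exhibiting `X_T → T` as a base change of `pr₂ : X ×_B X → X`
  have sqR : IsPullback (fst X X).left (snd X X).left X.hom X.hom :=
    IsPullback.of_hasPullback X.hom X.hom
  have sqA : IsPullback (X ◁ k).left (snd X TT).left (snd X X).left k₀ := by
    refine IsPullback.of_right ?_ ?_ sqR
    · have : (X ◁ k).left ≫ (fst X X).left = (fst X TT).left := by
        rw [← Over.comp_left, whiskerLeft_fst]
      rw [this]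
      exact sq1
    · rw [← Over.comp_left, whiskerLeft_snd]
      rfl
  -- the pseudo-torsor isomorphism
  have : IsIso (lift a.act (snd G X)) := ha
  have : IsIso (lift a.act (snd G X)).left :=
    (inferInstance : IsIso ((Over.forget B).map (lift a.act (snd G X))))
  have sqI : IsPullback (inv (lift a.act (snd G X)).left) (snd X X).left (snd G X).left (𝟙 X.left) := by
    refine IsPullback.of_horiz_isIso ⟨?_⟩
    rw [Category.comp_id, IsIso.inv_comp_eq, ← Over.comp_left, lift_snd]
  have sqG : IsPullback (fst G X).left (snd G X).left G.hom X.hom :=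
    IsPullback.of_hasPullback G.hom X.hom
  have sqT := (sqA.paste_horiz sqI).paste_horiz sqG
  let σ : TT ⟶ X ⊗ TT := lift k (𝟙 TT)
  have e1 := hCQ.baseChange hX hB hX'' hT sq1 hXt (Points.ofPt σ.left t)
  have e2 := hCQ.baseChange hG hB hX'' hT sqT hGt (Points.ofPt σ.left t)
  have p1 : Points.map (fst X TT).left (Points.ofPt σ.left t) = Points.ofPt k₀ t := by
    rw [Points.map_ofPt, ← Over.comp_left]
    have : σ ≫ fst X TT = k := lift_fst _ _
    rw [this]
    rfl
  rw [p1] at e1
  rw [← e1, e2]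
  exact hGall _

end Groth.Agent.Lib.AlgSpGrp91
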