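import Groth.Agent.Lib.AlgSpGpdTransl91
import Groth.Agent.Lib.AlgSpGrp91
import Groth.Agent.Lib.AlgSpDescent
import Groth.Agent.Lib.H86AffineMor
import Groth.Agent.S9911

/-!
# Multiplication of a group algebraic space / composition of a groupoid over a field: flat and universally open
-/

set_option autoImplicit false
universe u
open CategoryTheory CategoryTheory.Limits AlgebraicGeometry Opposite MonoidalCategory MonObj
  CartesianMonoidalCategory

namespace Groth.Agent.Lib.AlgSpGrpFlat91

open AlgSp Groth.Agent.Lib.AlgSpBasic Groth.Agent.Lib.AlgSpLocP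

variable {S : Scheme.{u}}

/-- Universal openness is stable under base change. -/
theorem isUnivOpenMor_of_isPullback {X Y X'' Y'' : Sp S} {f : X ⟶ Y} {g : Y'' ⟶ Y} {b : X'' ⟶ X}
    {f'' : X'' ⟶ Y''} (sq : IsPullback b f'' f g) (h : IsUnivOpenMor f) : IsUnivOpenMor f'' := by
  intro Z Z' hZ k fst' snd' sq'
  exact h hZ (k ≫ g) (fst' ≫ b) snd' (sq'.paste_horiz sq)

/-- Universal openness is stable under precomposition with an isomorphism. -/
theorem isUnivOpenMor_iso_comp {X' X Y : Sp S} (e : X' ≅ X) {f : X ⟶ Y} (h : IsUnivOpenMor f) :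
    IsUnivOpenMor (e.hom ≫ f) := by
  intro Z Z' hZ k fst' snd' sq'
  refine h hZ k (fst' ≫ e.hom) snd' ?_
  exact IsPullback.of_iso sq' (Iso.refl _) e (Iso.refl _) (Iso.refl _) (by simp) (by simp) (by simp)
    (by simp)

/-- Flatness and universal openness are stable under postcomposition with an isomorphism. -/
theorem flat_univOpen_comp_iso {X Y Y' : Sp S} {f : X ⟶ Y} (e : Y ≅ Y')
    (h : LocP @Flat f ∧ IsUnivOpenMor f) : LocP @Flat (f ≫ e.hom) ∧ IsUnivOpenMor (f ≫ e.hom) := by
  constructor
  · intro U V a b h' ha hb comm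
    refine h.1 a (b ≫ e.inv) h' ha
      (MorphismProperty.comp_mem _ _ _ hb (MorphismProperty.of_isIso (RepWith @Etale) e.inv)) ?_
    rw [← Category.assoc, ← comm, Category.assoc, Category.assoc, e.hom_inv_id, Category.comp_id]
  · intro Z Z' hZ k fst' snd' sq'
    refine h.2 hZ (k ≫ e.inv) fst' snd' ?_
    exact IsPullback.of_iso sq' (Iso.refl _) (Iso.refl _) (Iso.refl _) e.symm (by simp) (by simp)
      (by simp) (by simp)

/-- A base change of `f` up to an isomorphism of the source inherits flatness and universal openness. -/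
theorem flat_univOpen_of_isPullback {X Y X'' Y'' : Sp S} (hX : IsAlgSpace X) (hY : IsAlgSpace Y)
    (hY'' : IsAlgSpace Y'') {f : X ⟶ Y} {g : Y'' ⟶ Y} {b : X'' ⟶ X}
    {f'' : X'' ⟶ Y''} (sq : IsPullback b f'' f g) (h : LocP @Flat f ∧ IsUnivOpenMor f) :
    LocP @Flat f'' ∧ IsUnivOpenMor f'' := by
  have := Groth.Agent.Lib.H86ZarGlue.descendsAlong_etCov_flat.{u}
  exact ⟨locP_of_isPullback etLocalClass_flat hX hY hY'' sq h.1, isUnivOpenMor_of_isPullback sq h.2⟩

section shear

variable {C : Type*} [Category C] [CartesianMonoidalCategory C] (G : C) [GrpObj G]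

theorem fst_mul_snd : fst G G * snd G G = μ[G] := by
  rw [Hom.mul_def, lift_fst_snd, Category.id_comp]

/-- The shear isomorphism `(g, h) ↦ (g, g⁻¹ h)` with inverse `(g, h) ↦ (g, g h)`. -/
noncomputable def shearIso : G ⊗ G ≅ G ⊗ G where
  hom := lift (fst G G) ((fst G G)⁻¹ * snd G G)
  inv := lift (fst G G) (fst G G * snd G G)
  hom_inv_id := by
    apply CartesianMonoidalCategory.hom_ext
    · simp
    · rw [Category.assoc, lift_snd, MonObj.comp_mul, lift_fst, lift_snd, mul_inv_cancel_left,
        Category.id_comp]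
  inv_hom_id := by
    apply CartesianMonoidalCategory.hom_ext
    · simp
    · rw [Category.assoc, lift_snd, MonObj.comp_mul, GrpObj.comp_inv, lift_fst, lift_snd,
        inv_mul_cancel_left, Category.id_comp]

theorem shearIso_hom_fst : (shearIso G).hom ≫ fst G G = fst G G := by
  simp [shearIso]

theorem shearIso_hom_mul : (shearIso G).hom ≫ μ[G] = snd G G := by
  rw [← fst_mul_snd, MonObj.comp_mul]
  simp only [shearIso, lift_fst, lift_snd]
  rw [mul_inv_cancel_left]

end shear

/-- The multiplication of a group algebraic space is a base change of its structure morphism. -/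
theorem isPullback_mul {B : Sp S} (G : Over B) [GrpObj G] :
    IsPullback (fst G G).left (μ[G]).left G.hom G.hom := by
  have sq0 : IsPullback (fst G G).left (snd G G).left G.hom G.hom :=
    IsPullback.of_hasPullback G.hom G.hom
  refine IsPullback.of_iso sq0 ((Over.forget B).mapIso (shearIso G)) (Iso.refl _) (Iso.refl _)
    (Iso.refl _) ?_ ?_ (by simp) (by simp)
  · change (fst G G).left ≫ 𝟙 _ = (shearIso G).hom.left ≫ (fst G G).left
    rw [Category.comp_id, ← Over.comp_left, shearIso_hom_fst]
  · change (snd G G).left ≫ 𝟙 _ = (shearIso G).hom.left ≫ (μ[G]).left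
    rw [Category.comp_id, ← Over.comp_left, shearIso_hom_mul]

/-- Flatness and universal openness pass from `G ⟶ B` to the multiplication. -/
theorem flat_univOpen_mul {B : Sp S} (hB : IsAlgSpace B) (G : Over B) [GrpObj G]
    (hG : IsAlgSpace G.left) (h : LocP @Flat G.hom ∧ IsUnivOpenMor G.hom) :
    LocP @Flat (μ[G]).left ∧ IsUnivOpenMor (μ[G]).left :=
  flat_univOpen_of_isPullback hG hB hG (isPullback_mul G) h

section groupoid

open Groth.Agent.Lib.AlgSpGpdSep91 Groth.Agent.Lib.AlgSpGpdTransl91

variable {B : Sp S} (G : GroupoidSp B)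

/-- The composition of a groupoid is a base change of the source morphism (along the source morphism). -/
theorem isPullback_c : IsPullback G.c (pullback.snd G.s G.t) G.s G.s := by
  have sq := isPullback_transR G (𝟙 G.R)
  let e₁ : pullback G.s (𝟙 G.R ≫ G.t) ≅ pullback G.s G.t :=
    { hom := pullback.lift (pullback.fst _ _) (pullback.snd _ _)
        (pullback.condition.trans (congrArg (pullback.snd G.s (𝟙 G.R ≫ G.t) ≫ ·)
          (Category.id_comp G.t)))
      inv := pullback.lift (pullback.fst _ _) (pullback.snd _ _)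
        (pullback.condition.trans (congrArg (pullback.snd G.s G.t ≫ ·)
          (Category.id_comp G.t).symm))
      hom_inv_id := by apply pullback.hom_ext <;> simp [pullback.lift_fst, pullback.lift_snd]
      inv_hom_id := by apply pullback.hom_ext <;> simp [pullback.lift_fst, pullback.lift_snd] }
  refine IsPullback.of_iso sq e₁ (Iso.refl _) (Iso.refl _) (Iso.refl _) ?_ ?_ (by simp) (by simp)
  · change transR G (𝟙 G.R) ≫ 𝟙 _ = e₁.hom ≫ G.c
    rw [Category.comp_id]
    unfold transR comp
    congr 1
  · change pullback.snd G.s (𝟙 G.R ≫ G.t) ≫ 𝟙 _ = e₁.hom ≫ pullback.snd G.s G.t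
    simp [e₁, pullback.lift_snd]

theorem flat_univOpen_c (hU : IsAlgSpace G.U) (hR : IsAlgSpace G.R)
    (h : LocP @Flat G.s ∧ IsUnivOpenMor G.s) : LocP @Flat G.c ∧ IsUnivOpenMor G.c :=
  flat_univOpen_of_isPullback hR hU hR (isPullback_c G).flip h

end groupoid

section field

variable {k : Type u} [Field k]

/-- Any morphism from an algebraic space to the spectrum of a field is flat and universally open. -/
theorem flat_univOpen_to_field {X : Sp S} (hX : IsAlgSpace X) (σ : Spec (CommRingCat.of k) ⟶ S)
    (p : X ⟶ (yon S).obj (Over.mk σ)) : LocP @Flat p ∧ IsUnivOpenMor p := by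
  constructor
  · obtain ⟨U, a, hae, has⟩ := hX.atlas
    obtain ⟨h, hh⟩ := (yon S).map_surjective (a ≫ p)
    have hI : IsIntegral (Over.mk σ).left := by
      change IsIntegral (Spec (CommRingCat.of k)); infer_instance
    have hS : Subsingleton ↥(Over.mk σ).left := by
      change Subsingleton ↥(Spec (CommRingCat.of k)); infer_instance
    exact locP_of_chart etLocalClass_flat p a (𝟙 _) h hae has (repWith_id _ _)
      (by rw [Category.comp_id, hh]) (inferInstance : Flat h.left)
  · exact Groth.Agent.S9911.result (S := S) ⟨X, hX⟩ σ (ObjectProperty.homMk p)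

/-- The source morphism of a groupoid whose object space is the spectrum of a field is flat and universally open. -/
theorem flat_univOpen_s {B : Sp S} (G : GroupoidSp B) (hR : IsAlgSpace G.R)
    (σ : Spec (CommRingCat.of k) ⟶ S) (eU : G.U ≅ (yon S).obj (Over.mk σ)) :
    LocP @Flat G.s ∧ IsUnivOpenMor G.s := by
  have h := flat_univOpen_comp_iso eU.symm (flat_univOpen_to_field hR σ (G.s ≫ eU.hom))
  simpa using h

theorem flat_univOpen_c_field {B : Sp S} (G : GroupoidSp B) (hR : IsAlgSpace G.R)
    (σ : Spec (CommRingCat.of k) ⟶ S) (eU : G.U ≅ (yon S).obj (Over.mk σ)) :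
    LocP @Flat G.c ∧ IsUnivOpenMor G.c :=
  flat_univOpen_c G ((IsAlgSpace.yon_obj (Over.mk σ)).of_iso eU.symm) hR (flat_univOpen_s G hR σ eU)

theorem flat_univOpen_mul_field
    (G : Over ((yon (Spec (CommRingCat.of k))).obj (Over.mk (𝟙 _)))) [GrpObj G]
    (hG : IsAlgSpace G.left) : LocP @Flat (μ[G]).left ∧ IsUnivOpenMor (μ[G]).left :=
  flat_univOpen_mul (IsAlgSpace.yon_obj _) G hG (flat_univOpen_to_field hG (𝟙 _) G.hom)

end field

end Groth.Agent.Lib.AlgSpGrpFlat91
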