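import Groth.Agent.Lib.AlgSpGpdRestr91
import Groth.Agent.Lib.AlgSpGrpFlat91
import Groth.Agent.Lib.H86ZarLocBase
import Groth.Agent.Lib.AlgSpDescent
import Groth.Agent.Lib.H86AlgSpPoints

/-!
# Restriction of a groupoid over a field along a field extension
-/

set_option autoImplicit false
universe u
open CategoryTheory CategoryTheory.Limits AlgebraicGeometry Opposite

namespace Groth.Agent.Lib.AlgSpGpdFieldRestr91

open AlgSp AlgSp.GroupoidSp Groth.Agent.Lib.AlgSpBasic Groth.Agent.Lib.AlgSpLocP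
  Groth.Agent.Lib.AlgSpGrpFlat91 Groth.Agent.Lib.AlgSpGpdRestr91

variable {S : Scheme.{u}}

/-- Surjective, flat and universally open. -/
def SFO {X Y : Sp S} (f : X ⟶ Y) : Prop := IsSurjectiveMor f ∧ LocP @Flat f ∧ IsUnivOpenMor f

theorem isSurjectiveMor_of_isPullback {X Y X'' Y'' : Sp S} {f : X ⟶ Y} {g : Y'' ⟶ Y} {b : X'' ⟶ X}
    {f'' : X'' ⟶ Y''} (sq : IsPullback b f'' f g) (h : IsSurjectiveMor f) : IsSurjectiveMor f'' := by
  intro y
  obtain ⟨x, hx⟩ := h (Points.map g y)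
  obtain ⟨w, -, hw⟩ := Groth.Agent.Lib.H86AlgSpPoints.exists_of_isPullback sq x y hx
  exact ⟨w, hw⟩

theorem isSurjectiveMor_comp {X Y Z : Sp S} {f : X ⟶ Y} {g : Y ⟶ Z} (hf : IsSurjectiveMor f)
    (hg : IsSurjectiveMor g) : IsSurjectiveMor (f ≫ g) := by
  intro z
  obtain ⟨y, rfl⟩ := hg z
  obtain ⟨x, rfl⟩ := hf y
  exact ⟨x, by rw [Points.map_comp]⟩

theorem sfo_of_isPullback {X Y X'' Y'' : Sp S} (hX : IsAlgSpace X) (hY : IsAlgSpace Y)
    (hY'' : IsAlgSpace Y'') {f : X ⟶ Y} {g : Y'' ⟶ Y} {b : X'' ⟶ X}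
    {f'' : X'' ⟶ Y''} (sq : IsPullback b f'' f g) (h : SFO f) : SFO f'' :=
  ⟨isSurjectiveMor_of_isPullback sq h.1, flat_univOpen_of_isPullback hX hY hY'' sq h.2⟩

theorem sfo_comp {X Y Z : Sp S} (hX : IsAlgSpace X) (hY : IsAlgSpace Y) (hZ : IsAlgSpace Z)
    {f : X ⟶ Y} {g : Y ⟶ Z} (hf : SFO f) (hg : SFO g) : SFO (f ≫ g) := by
  have := Groth.Agent.Lib.H86ZarGlue.descendsAlong_etCov_flat.{u}
  exact ⟨isSurjectiveMor_comp hf.1 hg.1, locP_comp etLocalClass_flat hX hY hZ hf.2.1 hg.2.1,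
    Groth.Agent.Lib.AlgSpDescent.isUnivOpenMor_comp hY hZ.diag hf.2.2 hg.2.2⟩

section field

variable {k : Type u} [Field k]

theorem subsingleton_points (σ : Spec (CommRingCat.of k) ⟶ S) {Y : Sp S}
    (eU : Y ≅ (yon S).obj (Over.mk σ)) : Subsingleton (Points Y) := by
  have hS : Subsingleton ↥(Over.mk σ).left := by
    change Subsingleton ↥(Spec (CommRingCat.of k)); infer_instance
  have h1 : Subsingleton (Points ((yon S).obj (Over.mk σ))) :=
    (Points.schemeHomeo (Over.mk σ)).symm.injective.subsingleton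
  have hinj : Function.Injective (Points.map eU.hom) := by
    intro a b hab
    have := congrArg (Points.map eU.inv) hab
    rw [← Points.map_comp, ← Points.map_comp, eU.hom_inv_id, Points.map_id, Points.map_id] at this
    exact this
  exact hinj.subsingleton

theorem nonempty_points (σ : Spec (CommRingCat.of k) ⟶ S) {Y : Sp S}
    (eU : Y ≅ (yon S).obj (Over.mk σ)) : Nonempty (Points Y) := by
  have hS : Nonempty ↥(Over.mk σ).left := by
    change Nonempty ↥(Spec (CommRingCat.of k)); infer_instance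
  obtain ⟨z⟩ := hS
  exact ⟨Points.map eU.inv (Points.schemeHomeo (Over.mk σ) z)⟩

/-- Any morphism to (a sheaf isomorphic to) the spectrum of a field is flat and universally open. -/
theorem flat_univOpen_to_U {X Y : Sp S} (hX : IsAlgSpace X) (σ : Spec (CommRingCat.of k) ⟶ S)
    (eU : Y ≅ (yon S).obj (Over.mk σ)) (f : X ⟶ Y) : LocP @Flat f ∧ IsUnivOpenMor f := by
  have h := flat_univOpen_comp_iso eU.symm (flat_univOpen_to_field hX σ (f ≫ eU.hom))
  simpa using h

theorem sfo_to_U {X Y : Sp S} (hX : IsAlgSpace X) (hne : Nonempty (Points X))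
    (σ : Spec (CommRingCat.of k) ⟶ S) (eU : Y ≅ (yon S).obj (Over.mk σ)) (f : X ⟶ Y) : SFO f := by
  refine ⟨fun y => ?_, flat_univOpen_to_U hX σ eU f⟩
  have := subsingleton_points σ eU
  obtain ⟨x⟩ := hne
  exact ⟨x, Subsingleton.elim _ _⟩

end field

section restr

variable {B : Sp S} {G' G : GroupoidSp B} (φ : GroupoidSp.Hom G' G)

theorem fR_eq : φ.fR = mS φ ≫ pullback.fst G.s φ.fU := (mS_fst φ).symm

theorem sfo_fR (hU : IsAlgSpace G.U) (hR : IsAlgSpace G.R) (hU' : IsAlgSpace G'.U) (hR' : IsAlgSpace G'.R)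
    (hφ : φ.IsRestriction) (h : SFO φ.fU) : SFO φ.fR := by
  have hPs : IsAlgSpace (pullback G.s φ.fU) :=
    isAlgSpace_of_isPullback hR hU' (fun _ a => hU.representable_from_yon a) (IsPullback.of_hasPullback _ _)
  rw [fR_eq φ]
  refine sfo_comp hR' hPs hR ?_ ?_
  · exact sfo_of_isPullback hU' hU hPs (isPullback_mS φ hφ).flip h
  · exact sfo_of_isPullback hU' hU hR (IsPullback.of_hasPullback G.s φ.fU).flip h

theorem isAffineMor_fR (hφ : φ.IsRestriction) (h : IsAffineMor φ.fU) : IsAffineMor φ.fR := by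
  rw [fR_eq φ]
  refine isAffineMor_comp ?_ ?_
  · exact MorphismProperty.of_isPullback (isPullback_mS φ hφ).flip h
  · exact MorphismProperty.of_isPullback (IsPullback.of_hasPullback G.s φ.fU).flip h

end restr

end Groth.Agent.Lib.AlgSpGpdFieldRestr91
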