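import Groth.Agent.Lib.AlgSpGpdSep91
import Groth.Agent.Lib.H86AlgSpSub
import Groth.Agent.Lib.H86AlgSpPoints

/-!
# Groupoids in algebraic spaces: invariant open subspaces
-/

set_option autoImplicit false
universe u
open CategoryTheory CategoryTheory.Limits AlgebraicGeometry Opposite

namespace Groth.Agent.Lib.AlgSpGpdInv91

open AlgSp Groth.Agent.Lib.AlgSpBasic Groth.Agent.Lib.AlgSpGpdSep91 Groth.Agent.Lib.AlgSpPoints

variable {S : Scheme.{u}} {B : Sp S} (G : GroupoidSp B)

theorem c_s : G.c ≫ G.s = pullback.snd G.s G.t ≫ G.s := by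
  have := G.comp_s (pullback.fst G.s G.t) (pullback.snd G.s G.t) pullback.condition
  rwa [pullback.lift_fst_snd, Category.id_comp] at this

theorem c_t : G.c ≫ G.t = pullback.fst G.s G.t ≫ G.t := by
  have := G.comp_t (pullback.fst G.s G.t) (pullback.snd G.s G.t) pullback.condition
  rwa [pullback.lift_fst_snd, Category.id_comp] at this

/-- Composable points can be composed. -/
theorem exists_comp_point (α β : Points G.R) (h : Points.map G.s α = Points.map G.t β) :
    ∃ τ : Points G.R, Points.map G.t τ = Points.map G.t α ∧ Points.map G.s τ = Points.map G.s β := by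
  obtain ⟨σ, h1, h2⟩ := Groth.Agent.Lib.H86AlgSpPoints.exists_of_isPullback
    (IsPullback.of_hasPullback G.s G.t) α β h
  refine ⟨Points.map G.c σ, ?_, ?_⟩
  · rw [← Points.map_comp, c_t, Points.map_comp, h1]
  · rw [← Points.map_comp, c_s, Points.map_comp, h2]

/-- The set `s(t⁻¹(W))` is stable: `t ρ` lies in it iff `s ρ` does. -/
theorem mem_sat_iff (W : Set (Points G.U)) (ρ : Points G.R) :
    Points.map G.t ρ ∈ Points.map G.s '' (Points.map G.t ⁻¹' W) ↔
      Points.map G.s ρ ∈ Points.map G.s '' (Points.map G.t ⁻¹' W) := by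
  constructor
  · rintro ⟨ρ', hρ', hs⟩
    obtain ⟨τ, ht, hs'⟩ := exists_comp_point G ρ' ρ hs
    refine ⟨τ, ?_, hs'⟩
    change Points.map G.t τ ∈ W
    rw [ht]; exact hρ'
  · rintro ⟨ρ', hρ', hs⟩
    have hi_s : Points.map G.s (Points.map G.i ρ) = Points.map G.t ρ := by
      rw [← Points.map_comp, G.i_s]
    have hi_t : Points.map G.t (Points.map G.i ρ) = Points.map G.s ρ := by
      rw [← Points.map_comp, G.i_t]
    obtain ⟨τ, ht, hs'⟩ := exists_comp_point G ρ' (Points.map G.i ρ) (by rw [hs, hi_t])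
    refine ⟨τ, ?_, hs'.trans hi_s⟩
    change Points.map G.t τ ∈ W
    rw [ht]; exact hρ'

/-- Factorization through an open subspace is a condition on points. -/
theorem exists_factor_iff {X X' Y : Sp S} {j : X' ⟶ X} (hj : RepWith @IsOpenImmersion j) (f : Y ⟶ X) :
    (∃ g : Y ⟶ X', g ≫ j = f) ↔ Set.range (Points.map f) ⊆ Set.range (Points.map j) := by
  constructor
  · rintro ⟨g, rfl⟩ _ ⟨y, rfl⟩
    exact ⟨Points.map g y, (Points.map_comp _ _ _).symm⟩
  · exact Groth.Agent.Lib.H86AlgSpSub.exists_factor_of_range_subset hj f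

/-- An open subspace whose set of points is stable under the groupoid is invariant. -/
theorem isInvariant_of_points {W' : Sp S} (w' : W' ⟶ G.U) (hw' : RepWith @IsOpenImmersion w')
    (h : ∀ ρ : Points G.R, Points.map G.t ρ ∈ Set.range (Points.map w') ↔
      Points.map G.s ρ ∈ Set.range (Points.map w')) : G.IsInvariant w' := by
  intro T r
  rw [exists_factor_iff hw', exists_factor_iff hw']
  constructor
  · rintro h1 _ ⟨x, rfl⟩
    rw [Points.map_comp, ← h]
    have := h1 ⟨x, rfl⟩
    rwa [Points.map_comp] at this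
  · rintro h1 _ ⟨x, rfl⟩
    rw [Points.map_comp, h]
    have := h1 ⟨x, rfl⟩
    rwa [Points.map_comp] at this

/-- **`s(t⁻¹(W))` is `R`-invariant.** -/
theorem isInvariant_sat {W W' : Sp S} (w : W ⟶ G.U) (w' : W' ⟶ G.U)
    (hw' : RepWith @IsOpenImmersion w')
    (himg : Set.range (Points.map w') =
      Points.map G.s '' (Points.map G.t ⁻¹' Set.range (Points.map w))) : G.IsInvariant w' := by
  refine isInvariant_of_points G w' hw' fun ρ => ?_
  rw [himg]
  exact mem_sat_iff G _ ρ

end Groth.Agent.Lib.AlgSpGpdInv91
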