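import Groth.Agent.Lib.AlgSpGpdInv91
import Groth.Agent.Lib.AlgSpQC
import Groth.Agent.Lib.H86AlgSpOpen
import Groth.Agent.Lib.AlgSpAffineSpace

/-!
# Groupoids in algebraic spaces: invariant quasi-compact open neighbourhoods
-/

set_option autoImplicit false
universe u
open CategoryTheory CategoryTheory.Limits AlgebraicGeometry Opposite

namespace Groth.Agent.Lib.AlgSpGpdInvQC91

open AlgSp Groth.Agent.Lib.AlgSpBasic Groth.Agent.Lib.AlgSpGpdInv91 Groth.Agent.Lib.AlgSpPoints
  Groth.Agent.Lib.H86AlgSpOpen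

variable {S : Scheme.{u}}

/-- An open subspace with compact set of points is quasi-compact. -/
theorem isQuasiCompactSp_openSub {X : Sp S} (hX : IsAlgSpace X) {W : Set (Points X)} (hW : IsOpen W)
    (hc : IsCompact W) : IsQuasiCompactSp (openSub X W) := by
  have hemb := Groth.Agent.Lib.AlgSpAffineSpace.isOpenEmbedding_map_of_repWith_isOpenImmersion
    (openSubι_repWith (F := X) hW)
  have : CompactSpace (Points (openSub X W)) := by
    rw [← isCompact_univ_iff, hemb.isEmbedding.isCompact_iff, Set.image_univ, range_map_openSubι]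
    exact hc
  exact Groth.Agent.Lib.AlgSpQC.isQuasiCompactSp_of_compactSpace_points (isAlgSpace_openSub hX hW)

variable {B : Sp S} (G : GroupoidSp B)

theorem exists_invariant_qc (hU : IsAlgSpace G.U) (hs : IsOpenMor G.s) (htqc : IsQuasiCompactMor G.t)
    (x : Points G.U) :
    ∃ (W : Sp S) (w : W ⟶ G.U), RepWith @IsOpenImmersion w ∧ G.IsInvariant w ∧
      IsQuasiCompactSp W ∧ x ∈ Set.range (Points.map w) := by
  obtain ⟨V, a, hae, has⟩ := hU.atlas
  obtain ⟨v, rfl⟩ := Groth.Agent.Lib.H86AlgSpPoints.ofPt_surjective has x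
  obtain ⟨_, ⟨V₀, hV₀, rfl⟩, hvV₀, -⟩ :=
    (V.left.isBasis_affineOpens).exists_subset_of_mem_open (Set.mem_univ v) isOpen_univ
  -- the quasi-compact open `W₀ = a(V₀)`
  have hW₀o : IsOpen (Points.ofPt a '' (V₀ : Set ↥V.left)) :=
    Groth.Agent.Lib.H86AlgSpPoints.isOpenMap_ofPt hae _ V₀.isOpen
  have hW₀c : IsCompact (Points.ofPt a '' (V₀ : Set ↥V.left)) :=
    hV₀.isCompact.image (Points.continuous_ofPt a)
  have hW₀alg := isAlgSpace_openSub hU hW₀o
  have hW₀qc := isQuasiCompactSp_openSub hU hW₀o hW₀c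
  have sqP := IsPullback.of_hasPullback G.t (openSubι G.U (Points.ofPt a '' (V₀ : Set ↥V.left)))
  have hPqc : IsQuasiCompactSp (pullback G.t (openSubι G.U (Points.ofPt a '' (V₀ : Set ↥V.left)))) :=
    htqc hW₀alg hW₀qc _ _ _ sqP
  have hr := Groth.Agent.Lib.H86AlgSpSub.range_map_fst_of_isPullback sqP
  rw [range_map_openSubι] at hr
  -- the saturation
  have hWo : IsOpen (Points.map G.s '' (Points.map G.t ⁻¹' (Points.ofPt a '' (V₀ : Set ↥V.left)))) :=
    hs _ ((Points.continuous_map G.t).isOpen_preimage _ hW₀o)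
  have hWc : IsCompact (Points.map G.s '' (Points.map G.t ⁻¹' (Points.ofPt a '' (V₀ : Set ↥V.left)))) := by
    rw [← hr]
    have := Groth.Agent.Lib.AlgSpQC.compactSpace_points_of_isQuasiCompactSp hPqc
    exact (isCompact_range (Points.continuous_map _)).image (Points.continuous_map G.s)
  obtain ⟨Wset, hWset⟩ : ∃ Wset : Set (Points G.U), Wset =
      Points.map G.s '' (Points.map G.t ⁻¹' (Points.ofPt a '' (V₀ : Set ↥V.left))) := ⟨_, rfl⟩
  rw [← hWset] at hWo hWc
  have hmem : ∀ ρ : Points G.R, Points.map G.t ρ ∈ Wset ↔ Points.map G.s ρ ∈ Wset := by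
    intro ρ
    rw [hWset]
    exact mem_sat_iff G _ ρ
  have hx : Points.ofPt a v ∈ Wset := by
    rw [hWset]
    refine ⟨Points.map G.e (Points.ofPt a v), ?_, ?_⟩
    · rw [Set.mem_preimage, ← Points.map_comp, G.e_t, Points.map_id]
      exact ⟨v, hvV₀, rfl⟩
    · rw [← Points.map_comp, G.e_s, Points.map_id]
  refine ⟨openSub G.U Wset, openSubι G.U Wset, openSubι_repWith hWo, ?_,
    isQuasiCompactSp_openSub hU hWo hWc, ?_⟩
  · refine isInvariant_of_points G _ (openSubι_repWith hWo) fun ρ => ?_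
    rw [range_map_openSubι]
    exact hmem ρ
  · rw [range_map_openSubι]
    exact hx

end Groth.Agent.Lib.AlgSpGpdInvQC91
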