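import Groth.Agent.Lib.GrpTopIrr45
import Mathlib.AlgebraicGeometry.Morphisms.Integral
import Mathlib.AlgebraicGeometry.Morphisms.Flat
import Mathlib.AlgebraicGeometry.Morphisms.UniversallyOpen

/-!
# Base change of a group scheme over a field to the algebraic closure (helper45)

For a group scheme `Over.mk f`, `f : X ⟶ Spec K`, we form `X̄ = X ×_K K̄` with its group structure
(`Over.grpObjMkPullbackSnd`) and the projection `pbar f : X̄ ⟶ X`, which is flat, surjective,
integral (hence closed), open, generalizing; the unit point of `X̄` is the only point over the unit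
point of `X`. Consequences:

* `uniqueComp` : every point of an ARBITRARY group scheme over an ARBITRARY field lies on exactly
  one irreducible component;
* `preimage_unitComp` : the preimage in `X̄` of the irreducible component through the unit is the
  irreducible component through the unit of `X̄` (so it is irreducible).
-/

set_option autoImplicit false
universe u
open CategoryTheory CategoryTheory.Limits MonoidalCategory CartesianMonoidalCategory MonObj GrpObj
  AlgebraicGeometry
open Groth.Agent.Lib.GrpTopPts45 Groth.Agent.Lib.UniqueComp45

namespace Groth.Agent.Lib.GrpTopBC45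

variable {K : Type u} [Field K]

/-- `Spec K̄ ⟶ Spec K`. -/
noncomputable def gbar (K : Type u) [Field K] :
    Spec (CommRingCat.of (AlgebraicClosure K)) ⟶ Spec (CommRingCat.of K) :=
  Spec.map (CommRingCat.ofHom (algebraMap K (AlgebraicClosure K)))

instance : Flat (gbar K) := by unfold gbar; infer_instance
instance : Surjective (gbar K) := by unfold gbar; infer_instance
instance : IsIntegralHom (gbar K) := by
  unfold gbar
  rw [IsIntegralHom.SpecMap_iff]
  exact algebraMap_isIntegral_iff.mpr inferInstance

variable {X : Scheme.{u}} (f : X ⟶ Spec (CommRingCat.of K))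

/-- The projection `X ×_K K̄ ⟶ X`. -/
noncomputable abbrev pbar : pullback f (gbar K) ⟶ X := pullback.fst f (gbar K)

lemma surjective_pbar : Function.Surjective (pbar f) := (pbar f).surjective

lemma generalizingMap_pbar : GeneralizingMap (pbar f) := Flat.generalizingMap (pbar f)

lemma isClosedMap_pbar : IsClosedMap (pbar f) := (pbar f).isClosedMap

lemma isOpenMap_pbar : IsOpenMap (pbar f) := by
  have h1 : UniversallyOpen (gbar K) := inferInstance
  have h2 : UniversallyOpen (pullback.fst f (gbar K)) := inferInstance
  exact (pullback.fst f (gbar K)).isOpenMap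

variable [GrpObj (Over.mk f)]

/-- The base change of a group scheme to the algebraic closure is a group scheme. -/
noncomputable instance grpObjBar : GrpObj (Over.mk (pullback.snd f (gbar K))) :=
  Over.grpObjMkPullbackSnd

lemma one_bar_left : (η[Over.mk (pullback.snd f (gbar K))]).left ≫ pbar f =
    gbar K ≫ η[Over.mk f].left := by
  rw [Over.grpObjMkPullbackSnd_one, Over.comp_left, Over.ε_pullback_left]
  rw [Category.assoc, IsIso.inv_comp_eq]
  simp only [Over.pullback_obj_left, Over.mk_left, Over.pullback_map_left, Over.mk_hom]
  erw [pullback.lift_fst]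
  have := pullback.condition (f := 𝟙 (Spec (CommRingCat.of K))) (g := gbar K)
  rw [Category.comp_id] at this
  rw [← Category.assoc, ← this]
  rfl

lemma pbar_unitPt : pbar f (unitPt (Over.mk (pullback.snd f (gbar K)))) = unitPt (Over.mk f) := by
  have h := one_bar_left f
  have h2 : ∀ z, pbar f ((η[Over.mk (pullback.snd f (gbar K))]).left z) =
      η[Over.mk f].left (gbar K z) := fun z => by
    have := congr($h z)
    simpa only [Scheme.Hom.comp_apply] using this
  refine (h2 (IsLocalRing.closedPoint (AlgebraicClosure K))).trans ?_
  unfold unitPt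
  congr 1
  exact Subsingleton.elim (α := PrimeSpectrum K) _ _

/-- The unit point of `X̄` is the only point over the unit point of `X`. -/
lemma eq_unitPt_of_pbar_eq (x : ↥(pullback f (gbar K)))
    (hx : pbar f x = unitPt (Over.mk f)) : x = unitPt (Over.mk (pullback.snd f (gbar K))) := by
  let e₀ : Spec (CommRingCat.of K) ⟶ X := η[Over.mk f].left
  have he₀ : e₀ ≫ f = 𝟙 _ := Over.w η[Over.mk f]
  have hiso : IsIso (e₀ ≫ f) := he₀ ▸ inferInstance
  have hsub : Subsingleton ↥(pullback e₀ (pbar f)) := by
    let φ := (pullbackRightPullbackFstIso f (gbar K) e₀).hom ≫ pullback.snd (e₀ ≫ f) (gbar K)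
    have : IsIso φ := inferInstance
    have hinj : Function.Injective φ := φ.homeomorph.injective
    have : Subsingleton ↥(Spec (CommRingCat.of (AlgebraicClosure K))) :=
      inferInstanceAs (Subsingleton (PrimeSpectrum (AlgebraicClosure K)))
    exact hinj.subsingleton
  obtain ⟨t₁, -, ht₁⟩ := Scheme.Pullback.exists_preimage_pullback (f := e₀) (g := pbar f)
    (IsLocalRing.closedPoint K) x hx.symm
  obtain ⟨t₂, -, ht₂⟩ := Scheme.Pullback.exists_preimage_pullback (f := e₀) (g := pbar f)
    (IsLocalRing.closedPoint K) (unitPt (Over.mk (pullback.snd f (gbar K))))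
    (pbar_unitPt f).symm
  rw [← ht₁, ← ht₂, Subsingleton.elim t₁ t₂]

include f in
/-- **Every point of a group scheme over a field lies on exactly one irreducible component.** -/
theorem uniqueComp (y : X) : UniqueComp y := by
  obtain ⟨y', rfl⟩ := surjective_pbar f y
  have h := Groth.Agent.Lib.GrpTopIrr45.uniqueComp_of_isAlgClosed
    (Over.mk (pullback.snd f (gbar K))) y'
  exact h.of_generalizingMap (pbar f).continuous (generalizingMap_pbar f)

/-- The preimage in `X̄` of the irreducible component through the unit of `X` is the irreducible
component through the unit of `X̄`. -/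
theorem preimage_unitComp :
    pbar f ⁻¹' irreducibleComponent (unitPt (Over.mk f)) =
      irreducibleComponent (unitPt (Over.mk (pullback.snd f (gbar K)))) := by
  have h := preimage_irreducibleComponent_eq (p := pbar f) (pbar f).continuous
    (isClosedMap_pbar f) (generalizingMap_pbar f) (uniqueComp f)
    (e' := unitPt (Over.mk (pullback.snd f (gbar K))))
    (Groth.Agent.Lib.GrpTopIrr45.uniqueComp_of_isAlgClosed
      (Over.mk (pullback.snd f (gbar K))) _)
    (fun x' hx' => eq_unitPt_of_pbar_eq f x' (hx'.trans (pbar_unitPt f)))
  rwa [pbar_unitPt] at h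

end Groth.Agent.Lib.GrpTopBC45
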