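import Groth.Agent.Lib.H30DimField
import Mathlib

/-!
helper30: residue fields of points of a scheme-theoretic fibre, and the dimension of irreducible
components of fibres of a morphism locally of finite type as a transcendence degree.
-/

set_option autoImplicit false
universe u
open CategoryTheory AlgebraicGeometry

namespace Groth.Agent.Lib.H30FibRes

open Groth.Agent.Lib.H30DimField Groth.Agent.Lib.TrdegTransfer

variable {X Y : Scheme.{u}}

theorem residueFieldMap_bijective (g : X ⟶ Y) [IsPreimmersion g] (x : X) :
    Function.Bijective (g.residueFieldMap x).hom := by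
  refine ⟨(g.residueFieldMap x).hom.injective, ?_⟩
  intro b
  obtain ⟨b', rfl⟩ := IsLocalRing.residue_surjective b
  obtain ⟨a, rfl⟩ := g.stalkMap_surjective x b'
  refine ⟨(Y.residue (g x)).hom a, ?_⟩
  have := congrArg (fun φ => φ.hom a) (Scheme.residue_residueFieldMap g x)
  simp only [CommRingCat.hom_comp, RingHom.comp_apply] at this
  exact this

variable (f : X ⟶ Y) (y : Y)

/-- the fibre as a scheme over `Spec κ(y)` -/
@[instance_reducible]
noncomputable def fiberOver : (f.fiber y).Over (Spec (CommRingCat.of (Y.residueField y))) :=
  ⟨f.fiberToSpecResidueField y⟩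

set_option backward.isDefEq.respectTransparency.types false in
theorem lft_fiber [LocallyOfFiniteType f] :
    letI := fiberOver f y
    LocallyOfFiniteType (f.fiber y ↘ Spec (CommRingCat.of (Y.residueField y))) := by
  have : LocallyOfFiniteType (f.fiberToSpecResidueField y) :=
    MorphismProperty.pullback_snd _ _ inferInstance
  exact this

/-- transcendence degree of the residue field of a point of the fibre -/
theorem trdeg_fiber_eq (w : f.fiber y) :
    letI := fiberOver f y
    letI := Curv2.resAlgebra (Y.residueField y) (f.fiber y) w
    letI := (f.residueFieldMap (f.fiberι y w)).hom.toAlgebra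
    Algebra.trdeg (Y.residueField y) ((f.fiber y).residueField w) =
      Algebra.trdeg (Y.residueField (f (f.fiberι y w))) (X.residueField (f.fiberι y w)) := by
  letI := fiberOver f y
  letI := Curv2.resAlgebra (Y.residueField y) (f.fiber y) w
  letI := (f.residueFieldMap (f.fiberι y w)).hom.toAlgebra
  rw [trdeg_eq (Y.residueField y) (f.fiber y) w]
  letI := ((f.fiber y ↘ Spec (CommRingCat.of (Y.residueField y))).residueFieldMap w).hom.toAlgebra
  symm
  have hfac : f.fiberι y ≫ f = f.fiberToSpecResidueField y ≫ Y.fromSpecResidueField y :=
    f.fiber_fac y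
  have hpt : f (f.fiberι y w) = Y.fromSpecResidueField y (f.fiberToSpecResidueField y w) := by
    have := congrArg (fun φ : f.fiber y ⟶ Y => φ w) hfac
    simpa using this
  let e2 : X.residueField (f.fiberι y w) ≃+* (f.fiber y).residueField w :=
    RingEquiv.ofBijective ((f.fiberι y).residueFieldMap w).hom
      (residueFieldMap_bijective (f.fiberι y) w)
  let e1 : Y.residueField (f (f.fiberι y w)) ≃+*
      (Spec (CommRingCat.of (Y.residueField y))).residueField
      ((f.fiber y ↘ Spec (CommRingCat.of (Y.residueField y))) w) :=
    (Y.residueFieldCongr hpt).commRingCatIsoToRingEquiv.trans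
      (RingEquiv.ofBijective ((Y.fromSpecResidueField y).residueFieldMap
        (f.fiberToSpecResidueField y w)).hom
        (residueFieldMap_bijective (Y.fromSpecResidueField y) (f.fiberToSpecResidueField y w)))
  refine trdeg_eq_of_ringEquiv e1 e2 ?_
  intro a
  have h1 := Scheme.residueFieldMap_comp (f.fiberι y) f w
  have h2 := Scheme.residueFieldMap_comp (f.fiberToSpecResidueField y) (Y.fromSpecResidueField y) w
  have h3 := Scheme.Hom.residueFieldMap_congr hfac w
  have h4 : ((f.fiberι y ≫ f).residueFieldMap w).hom a =
      ((f.fiberToSpecResidueField y ≫ Y.fromSpecResidueField y).residueFieldMap w).hom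
        ((Y.residueFieldCongr (by simpa using hpt)).hom.hom a) := by
    rw [h3]
    rfl
  rw [h1, h2] at h4
  exact h4

/-- transport of the transcendence degree of a residue field extension along an equality of
points -/
theorem trdeg_congr (x x' : X) (h : x' = x) :
    (letI := (f.residueFieldMap x').hom.toAlgebra
     Algebra.trdeg (Y.residueField (f x')) (X.residueField x')) =
    (letI := (f.residueFieldMap x).hom.toAlgebra
     Algebra.trdeg (Y.residueField (f x)) (X.residueField x)) := by
  subst h
  rfl

/-- the transcendence degree of `κ(x)` over `κ(f x)` computed in the fibre through `x` -/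
theorem trdeg_asFiber_eq (x : X) :
    letI := fiberOver f (f x)
    letI := Curv2.resAlgebra (Y.residueField (f x)) (f.fiber (f x)) (f.asFiber x)
    letI := (f.residueFieldMap x).hom.toAlgebra
    Algebra.trdeg (Y.residueField (f x)) ((f.fiber (f x)).residueField (f.asFiber x)) =
      Algebra.trdeg (Y.residueField (f x)) (X.residueField x) := by
  have h4 := trdeg_fiber_eq f (f x) (f.asFiber x)
  rw [trdeg_congr f x (f.fiberι (f x) (f.asFiber x)) (f.fiberι_asFiber x)] at h4
  exact h4

/-- the dimension of the closure of a point in its fibre is the transcendence degree of the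
residue field extension -/
theorem krullDim_closure_asFiber [LocallyOfFiniteType f] (x : X) (n : ℕ)
    (hn : (letI := (f.residueFieldMap x).hom.toAlgebra
      Algebra.trdeg (Y.residueField (f x)) (X.residueField x)) = n) :
    topologicalKrullDim ↥(closure ({f.asFiber x} : Set (f.fiber (f x)))) = (n : WithBot ℕ∞) := by
  letI := fiberOver f (f x)
  haveI := lft_fiber f (f x)
  haveI := jacobsonSpace (Y.residueField (f x)) (f.fiber (f x))
  have h1 := Groth.Agent.S6462.part1 (isDimFun (Y.residueField (f x)) (f.fiber (f x)))
    (td_eq_zero_of_isClosed (Y.residueField (f x)) (f.fiber (f x))) (f.asFiber x)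
  rw [h1, td_eq_of_trdeg_eq (Y.residueField (f x)) (f.fiber (f x)) (f.asFiber x) n
    ((trdeg_asFiber_eq f x).trans hn), Int.toNat_natCast]

/-- a point which is maximal in its fibre gives an irreducible component of the fibre -/
theorem closure_asFiber_mem_irreducibleComponents (x : X)
    (hmax : ∀ x' : X, f x' = f x → x' ⤳ x → x' = x) :
    closure ({f.asFiber x} : Set (f.fiber (f x))) ∈ irreducibleComponents ↥(f.fiber (f x)) := by
  have hιw : f.fiberι (f x) (f.asFiber x) = x := f.fiberι_asFiber x
  apply (closure_mem_irreducibleComponents_iff (f.asFiber x)).mpr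
  intro w' hw'
  have h1 : f.fiberι (f x) w' ⤳ x := by
    have := hw'.map (f.fiberι (f x)).continuous
    rwa [hιw] at this
  have h2 : f (f.fiberι (f x) w') = f x := by
    have : f.fiberι (f x) w' ∈ Set.range (f.fiberι (f x)) := ⟨w', rfl⟩
    rw [f.range_fiberι (f x)] at this
    exact this
  have h3 := hmax _ h2 h1
  apply (f.fiberι (f x)).isEmbedding.injective
  rw [h3, hιw]

/-- The generic point of an irreducible component of a fibre of a morphism locally of finite type
all of whose fibre components have dimension `r` has residue field of transcendence degree `r`. -/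
theorem trdeg_of_hasRelDim [LocallyOfFiniteType f] (r : ℕ)
    (hr : Cyc.HasRelDim f r) (x : X)
    (hmax : ∀ x' : X, f x' = f x → x' ⤳ x → x' = x) :
    (letI := (f.residueFieldMap x).hom.toAlgebra
     Algebra.trdeg (Y.residueField (f x)) (X.residueField x)) = r := by
  letI := (f.residueFieldMap x).hom.toAlgebra
  have hdim := hr (f x) _ (closure_asFiber_mem_irreducibleComponents f x hmax)
  obtain ⟨n, hn⟩ : ∃ n : ℕ, Algebra.trdeg (Y.residueField (f x)) (X.residueField x) = n := by
    letI := fiberOver f (f x)
    haveI := lft_fiber f (f x)
    refine ⟨_, (trdeg_asFiber_eq f x).symm.trans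
      (trdeg_eq_td (Y.residueField (f x)) (f.fiber (f x)) (f.asFiber x))⟩
  rw [krullDim_closure_asFiber f x n hn] at hdim
  rw [hn]
  exact_mod_cast hdim

end Groth.Agent.Lib.H30FibRes
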