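import Groth.Agent.Lib.H30DimRel
import Groth.Agent.Lib.H30FibRes
import Groth.Agent.Lib.H30DimField
import Groth.Agent.Lib.H56FlatLocal
import Groth.Agent.Lib.FibreStalk33
import Mathlib

/-!
helper30: the dimension formula for flat morphisms at points which are maximal in their fibre,
and consequences for schemes locally of finite type over a field.
-/

set_option autoImplicit false
universe u
open CategoryTheory AlgebraicGeometry

namespace Groth.Agent.Lib.H30FlatDim

open Groth.Agent.Lib.H30DimField Groth.Agent.Lib.H30FibRes Groth.Agent.Lib.H30DimRel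
  Groth.Agent.Lib.FibreStalk33 IsLocalRing

variable {X Y : Scheme.{u}} (f : X ⟶ Y)

/-- a point maximal in its fibre gives a maximal point of the fibre scheme -/
theorem asFiber_maximal (x : X) (hmax : ∀ x' : X, f x' = f x → x' ⤳ x → x' = x) :
    ∀ w : f.fiber (f x), w ⤳ f.asFiber x → w = f.asFiber x := by
  have hιw : f.fiberι (f x) (f.asFiber x) = x := f.fiberι_asFiber x
  intro w' hw'
  have h1 : f.fiberι (f x) w' ⤳ x := by
    have := hw'.map (f.fiberι (f x)).continuous
    rwa [hιw] at this
  have h2 : f (f.fiberι (f x) w') = f x := by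
    have : f.fiberι (f x) w' ∈ Set.range (f.fiberι (f x)) := ⟨w', rfl⟩
    rw [f.range_fiberι (f x)] at this
    exact this
  have h3 := hmax _ h2 h1
  apply (f.fiberι (f x)).isEmbedding.injective
  rw [h3, hιw]

/-- the local ring of a fibre at a maximal point has dimension zero -/
theorem stalk_fiber_dim_zero [LocallyOfFiniteType f] (x : X)
    (hmax : ∀ x' : X, f x' = f x → x' ⤳ x → x' = x) :
    ringKrullDim ((f.fiber (f x)).presheaf.stalk (f.asFiber x)) = 0 := by
  letI := fiberOver f (f x)
  haveI := lft_fiber f (f x)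
  haveI := isLocallyNoetherian (Y.residueField (f x)) (f.fiber (f x))
  obtain ⟨ξ, -, hξ, hdim⟩ := stalk_dim_exists (isDimFun (Y.residueField (f x)) (f.fiber (f x)))
    (f.asFiber x)
  rw [asFiber_maximal f x hmax ξ hξ] at hdim
  rw [hdim]
  simp

theorem maximalIdeal_le_radical [LocallyOfFiniteType f] (x : X)
    (hmax : ∀ x' : X, f x' = f x → x' ⤳ x → x' = x) :
    maximalIdeal (X.presheaf.stalk x) ≤
      (Ideal.map (f.stalkMap x).hom (maximalIdeal (Y.presheaf.stalk (f x)))).radical := by
  set I := Ideal.map (f.stalkMap x).hom (maximalIdeal (Y.presheaf.stalk (f x))) with hI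
  have hIne : I ≠ ⊤ := fibreIdeal_ne_top f x
  have hIle : I ≤ maximalIdeal (X.presheaf.stalk x) := IsLocalRing.le_maximalIdeal hIne
  haveI : Nontrivial (X.presheaf.stalk x ⧸ I) := Ideal.Quotient.nontrivial_iff.mpr hIne
  haveI : IsLocalRing (X.presheaf.stalk x ⧸ I) :=
    IsLocalRing.of_surjective' (Ideal.Quotient.mk I) Ideal.Quotient.mk_surjective
  have hdim : ringKrullDim (X.presheaf.stalk x ⧸ I) = 0 := by
    rw [ringKrullDim_eq_of_ringEquiv (fibreStalkEquiv f x)]
    exact stalk_fiber_dim_zero f x hmax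
  haveI : Ring.KrullDimLE 0 (X.presheaf.stalk x ⧸ I) := by
    rw [Ring.krullDimLE_iff, hdim]; rfl
  intro b hb
  have hnu : Ideal.Quotient.mk I b ∈ nonunits (X.presheaf.stalk x ⧸ I) := by
    intro hu
    obtain ⟨c, hc⟩ := hu.exists_right_inv
    obtain ⟨c', rfl⟩ := Ideal.Quotient.mk_surjective c
    have h1 : b * c' - 1 ∈ I := by
      rw [← Ideal.Quotient.eq, map_mul, hc, map_one]
    have h2 : b * c' ∈ maximalIdeal (X.presheaf.stalk x) := Ideal.mul_mem_right _ _ hb
    have h3 : (1 : X.presheaf.stalk x) ∈ maximalIdeal (X.presheaf.stalk x) := by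
      have := Ideal.sub_mem _ h2 (hIle h1)
      simp at this
    exact (Ideal.ne_top_iff_one _).mp (IsLocalRing.maximalIdeal.isMaximal _).ne_top h3
  obtain ⟨n, hn⟩ := Ring.KrullDimLE.isNilpotent_iff_mem_nonunits.mpr hnu
  refine ⟨n, ?_⟩
  rw [← map_pow] at hn
  exact Ideal.Quotient.eq_zero_iff_mem.mp hn

/-- **dimension formula for flat morphisms at maximal points of fibres** -/
theorem stalk_dim_eq_of_flat [IsLocallyNoetherian X] [IsLocallyNoetherian Y]
    [LocallyOfFiniteType f] (x : X) (hflat : (f.stalkMap x).hom.Flat)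
    (hmax : ∀ x' : X, f x' = f x → x' ⤳ x → x' = x) :
    ringKrullDim (X.presheaf.stalk x) = ringKrullDim (Y.presheaf.stalk (f x)) := by
  letI := (f.stalkMap x).hom.toAlgebra
  haveI : Module.Flat (Y.presheaf.stalk (f x)) (X.presheaf.stalk x) := hflat
  haveI : IsLocalHom (algebraMap (Y.presheaf.stalk (f x)) (X.presheaf.stalk x)) :=
    inferInstanceAs (IsLocalHom (f.stalkMap x).hom)
  exact Groth.Agent.Lib.H56FlatLocal.ringKrullDim_eq_of_flat_of_primary
    (maximalIdeal_le_radical f x hmax)


/-- an irreducible component of a fibre: its dimension is the transcendence degree of the residue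
field of its generic point, which is maximal in its fibre -/
theorem dim_component_eq_rt [LocallyOfFiniteType f] (x : X) (y : Y) (hy : f x = y)
    (z : f.fiber y) (hz : f.fiberι y z = x) (Z : Set (f.fiber y))
    (hZ : Z ∈ irreducibleComponents (f.fiber y)) (hgen : IsGenericPoint z Z) :
    topologicalKrullDim Z = ((rt f x : ℕ) : WithBot ℕ∞) ∧
      ∀ x' : X, f x' = f x → x' ⤳ x → x' = x := by
  subst hy
  obtain rfl : z = f.asFiber x :=
    (f.fiberι _).isEmbedding.injective (by rw [hz, Scheme.Hom.fiberι_asFiber])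
  have hZeq : closure {f.asFiber x} = Z := hgen.def
  refine ⟨?_, ?_⟩
  · rw [← hZeq]
    exact krullDim_closure_asFiber f x (rt f x) (trdeg_eq_rt f x)
  · intro x' hx' hsp
    have hmaxz := (closure_mem_irreducibleComponents_iff (f.asFiber x)).mp (hZeq ▸ hZ)
    obtain ⟨w, hw⟩ : x' ∈ Set.range (f.fiberι (f x)) := by
      rw [f.range_fiberι]; exact hx'
    have h1 : w ⤳ f.asFiber x := by
      apply (f.fiberι (f x)).isEmbedding.isInducing.specializes_iff.mp
      rw [hw, f.fiberι_asFiber]
      exact hsp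
    rw [← hw, hmaxz w h1, f.fiberι_asFiber]

/-- on an irreducible scheme locally of finite type over a field the local dimension is the
dimension -/
theorem localDim_eq_dim (k : Type u) [Field k] (X : Scheme.{u})
    [X.Over (Spec (CommRingCat.of k))] [LocallyOfFiniteType (X ↘ (Spec (CommRingCat.of k)))]
    [IrreducibleSpace X] (x : X) :
    FlatMor.localDim X x = topologicalKrullDim X := by
  unfold FlatMor.localDim
  rw [krullDim_eq_td k X]
  haveI : Nonempty {U : TopologicalSpace.Opens X // x ∈ U} := ⟨⟨⊤, trivial⟩⟩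
  have : ∀ U : {U : TopologicalSpace.Opens X // x ∈ U},
      topologicalKrullDim ↥(U.1 : Set X) =
      (((td k X (genericPoint X)).toNat : ℕ) : WithBot ℕ∞) := fun U =>
    krullDim_open_eq k X (U.1 : Set X) U.1.2 ⟨_, U.2⟩
  simp_rw [this]
  exact ciInf_const

section Field

variable (k : Type u) [Field k] (X Y : Scheme.{u}) [X.Over (Spec (CommRingCat.of k))]
  [Y.Over (Spec (CommRingCat.of k))] [LocallyOfFiniteType (X ↘ (Spec (CommRingCat.of k)))]
  [LocallyOfFiniteType (Y ↘ (Spec (CommRingCat.of k)))]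

theorem td_eq_rt (x : X) : td k X x = (rt (X ↘ (Spec (CommRingCat.of k))) x : ℤ) := by
  apply td_eq_of_trdeg_eq
  rw [trdeg_eq k X x]
  exact trdeg_eq_rt _ x

omit [LocallyOfFiniteType (Y ↘ (Spec (CommRingCat.of k)))] in
theorem lft_of_over (f : X ⟶ Y)
    (hf : f ≫ (Y ↘ (Spec (CommRingCat.of k))) = X ↘ (Spec (CommRingCat.of k))) :
    LocallyOfFiniteType f := by
  have : LocallyOfFiniteType (f ≫ (Y ↘ (Spec (CommRingCat.of k)))) := by rw [hf]; infer_instance
  exact locallyOfFiniteType_of_comp f (Y ↘ (Spec (CommRingCat.of k)))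

/-- additivity of transcendence degrees along a `k`-morphism -/
theorem td_eq_add (f : X ⟶ Y)
    (hf : f ≫ (Y ↘ (Spec (CommRingCat.of k))) = X ↘ (Spec (CommRingCat.of k))) (x : X) :
    haveI := lft_of_over k X Y f hf
    td k X x = td k Y (f x) + (rt f x : ℤ) := by
  haveI := lft_of_over k X Y f hf
  have hadd : rt (X ↘ (Spec (CommRingCat.of k))) x =
      rt (Y ↘ (Spec (CommRingCat.of k))) (f x) + rt f x := by
    rw [← rt_comp f (Y ↘ (Spec (CommRingCat.of k))) x]
    congr 1
    exact hf.symm
  rw [td_eq_rt k X x, td_eq_rt k Y (f x), hadd]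
  push_cast
  rfl

theorem dim_eq_stalk_add [IrreducibleSpace X] (x : X) :
    topologicalKrullDim X =
      ringKrullDim (X.presheaf.stalk x) + (((td k X x).toNat : ℕ) : WithBot ℕ∞) := by
  rw [← localDim_eq_dim k X x, localDim_eq k X x]

end Field

end Groth.Agent.Lib.H30FlatDim
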