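import Groth.Agent.Lib.GrpAffPts45
import Groth.Agent.Lib.GrpTopBC45
import Groth.Agent.Lib.H30FlatDim
import Groth.Agent.Lib.H77DimFieldExt
import Groth.Agent.Lib.H56LocDim

/-!
# Equidimensionality of group schemes locally of finite type over a field (helper45)

* `dim_open_eq` : every nonempty open subset of a group scheme `G` locally of finite type over a
  field has the dimension of `G`.
* `localDim_eq_dim` : the local dimension of `G` at every point is `dim G`.
-/

set_option autoImplicit false
set_option linter.unusedSectionVars false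
universe u
open CategoryTheory CategoryTheory.Limits MonoidalCategory CartesianMonoidalCategory MonObj GrpObj
  AlgebraicGeometry TopologicalSpace
open Groth.Agent.Lib.GrpTopPts45 Groth.Agent.Lib.UniqueComp45 Groth.Agent.Lib.GrpTopConn45
  Groth.Agent.Lib.AbVarComp97 Groth.Agent.Lib.GrpAffPts45 Groth.Agent.Lib.GrpTopBC45

namespace Groth.Agent.Lib.GrpDim45

section top

variable {X : Type*} [TopologicalSpace X]

/-- If the local dimension is constant `= d`, every nonempty open has dimension `d`. -/
theorem dim_open_eq_of_localDim_const {d : WithBot ℕ∞} (h : ∀ x : X, FlatMor.localDim X x = d)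
    (W : Opens X) (hW : (W : Set X).Nonempty) : topologicalKrullDim (W : Set X) = d := by
  apply le_antisymm
  · refine (topologicalKrullDim_subspace_le X (W : Set X)).trans ?_
    choose U hxU hU using fun x : X => Groth.Agent.Lib.TopKrullDim.exists_open_dim_eq_localDim x
    rw [Groth.Agent.Lib.H77FibDim.dim_eq_iSup_of_isOpen_cover (fun x => (U x : Set X))
      (fun x => (U x).isOpen) (fun x => ⟨x, hxU x⟩)]
    exact iSup_le fun x => (hU x).trans (h x) |>.le
  · obtain ⟨x, hx⟩ := hW
    rw [← h x]
    exact Groth.Agent.Lib.TopKrullDim.localDim_le_dim_open x W hx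

/-- If every nonempty open has dimension `d`, the local dimension is constantly `d`. -/
theorem localDim_eq_of_dim_open_const {d : WithBot ℕ∞}
    (h : ∀ W : Opens X, (W : Set X).Nonempty → topologicalKrullDim (W : Set X) = d) (x : X) :
    FlatMor.localDim X x = d := by
  obtain ⟨U, hxU, hU⟩ := Groth.Agent.Lib.TopKrullDim.exists_open_dim_eq_localDim x
  rw [← hU]
  exact h U ⟨x, hxU⟩

end top

section algClosed

variable {k : Type u} [Field k] [IsAlgClosed k] {G : Over (Spec (CommRingCat.of k))} [GrpObj G]
  [LocallyOfFiniteType G.hom]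

local notation "Pt" => (𝟙_ (Over (Spec (CommRingCat.of k))) ⟶ G)

lemma localDim_pt (a : Pt) :
    FlatMor.localDim G.left (pt G a) = FlatMor.localDim G.left (unitPt G) := by
  have h := Groth.Agent.Lib.H56LocDim.localDim_eq_of_homeomorph (LtHomeo a) (unitPt G)
  rw [h]
  congr 1
  change pt G a = (Lt a).left (unitPt G)
  rw [← pt_one, Lt_apply_pt, _root_.mul_one]

/-- Over an algebraically closed field, the local dimension of `G` is constant. -/
theorem localDim_eq_unit (x : G.left) :
    FlatMor.localDim G.left x = FlatMor.localDim G.left (unitPt G) := by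
  -- the component of `x`
  have hZ := irreducibleComponent_mem_irreducibleComponents x
  have hZopen : IsOpen (irreducibleComponent x) := isOpen_of_mem_irreducibleComponents hZ
  let ZU : G.left.Opens := ⟨irreducibleComponent x, hZopen⟩
  let X : Scheme.{u} := ZU.toScheme
  let _ : X.Over (Spec (CommRingCat.of k)) := ⟨ZU.ι ≫ G.hom⟩
  have hlft : LocallyOfFiniteType (X ↘ Spec (CommRingCat.of k)) :=
    inferInstanceAs (LocallyOfFiniteType (ZU.ι ≫ G.hom))
  have hirr : IrreducibleSpace X :=
    Subtype.irreducibleSpace (isIrreducible_irreducibleComponent (x := x))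
  have hemb : Topology.IsOpenEmbedding (ZU.ι : X → G.left) := ZU.ι.isOpenEmbedding
  have key : ∀ y : X, FlatMor.localDim G.left (ZU.ι y) = topologicalKrullDim X := fun y => by
    rw [← Groth.Agent.Lib.H56LocDim.localDim_eq_of_isOpenEmbedding hemb y]
    exact Groth.Agent.Lib.H30FlatDim.localDim_eq_dim k X y
  -- a rational point in the component
  have hjac : JacobsonSpace G.left := LocallyOfFiniteType.jacobsonSpace G.hom
  obtain ⟨y, hyZ, hyc⟩ := nonempty_inter_closedPoints (X := G.left)
    ⟨x, (mem_irreducibleComponent : x ∈ irreducibleComponent x)⟩ hZopen.isLocallyClosed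
  obtain ⟨a, rfl⟩ := exists_pt_eq y hyc
  have h1 := key ⟨x, mem_irreducibleComponent⟩
  have h2 := key ⟨pt G a, hyZ⟩
  change FlatMor.localDim G.left x = _ at h1
  change FlatMor.localDim G.left (pt G a) = _ at h2
  rw [h1, ← h2, localDim_pt]

end algClosed

section general

variable {K : Type u} [Field K] (G : Over (Spec (CommRingCat.of K))) [GrpObj G]
  [LocallyOfFiniteType G.hom]

/-- Dimension of an open of `G` equals the dimension of its preimage over the algebraic closure. -/
lemma dim_preimage_pbar (U : G.left.Opens) :
    topologicalKrullDim ↥(((pbar G.hom ⁻¹ᵁ U : (pullback G.hom (gbar K)).Opens) :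
        Set ↥(pullback G.hom (gbar K)))) =
      topologicalKrullDim ↥(U : Set G.left) := by
  have h1 := isPullback_morphismRestrict (pbar G.hom) U
  have h2 := IsPullback.of_hasPullback G.hom (gbar K)
  have h3 := h1.paste_vert h2
  have : Subsingleton ↥(Spec (CommRingCat.of K)) :=
    inferInstanceAs (Subsingleton (PrimeSpectrum K))
  have : Subsingleton ↥(Spec (CommRingCat.of (AlgebraicClosure K))) :=
    inferInstanceAs (Subsingleton (PrimeSpectrum (AlgebraicClosure K)))
  exact Groth.Agent.Lib.H77DimFieldExt.dim_eq_of_isPullback_field _ _ _ _ h3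

/-- **Every nonempty open subset of a group scheme locally of finite type over a field has the
dimension of the group scheme.** -/
theorem dim_open_eq (W : G.left.Opens) (hW : (W : Set G.left).Nonempty) :
    topologicalKrullDim ↥(W : Set G.left) = topologicalKrullDim G.left := by
  let hG : GrpObj (Over.mk G.hom) := ‹GrpObj G›
  let Gb : Over (Spec (CommRingCat.of (AlgebraicClosure K))) :=
    Over.mk (pullback.snd G.hom (gbar K))
  have hlft : LocallyOfFiniteType Gb.hom :=
    inferInstanceAs (LocallyOfFiniteType (pullback.snd G.hom (gbar K)))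
  have hconst : ∀ W' : Gb.left.Opens, (W' : Set Gb.left).Nonempty →
      topologicalKrullDim ↥(W' : Set Gb.left) =
        FlatMor.localDim Gb.left (unitPt Gb) :=
    dim_open_eq_of_localDim_const (fun x => localDim_eq_unit (G := Gb) x)
  have key : ∀ U : G.left.Opens, (U : Set G.left).Nonempty →
      topologicalKrullDim ↥(U : Set G.left) = FlatMor.localDim Gb.left (unitPt Gb) := by
    intro U hU
    rw [← dim_preimage_pbar G U]
    apply hconst
    obtain ⟨x, hx⟩ := hU
    obtain ⟨y, rfl⟩ := surjective_pbar G.hom x
    exact ⟨y, hx⟩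
  rw [key W hW]
  obtain ⟨x, hx⟩ := hW
  have h := key ⊤ ⟨x, trivial⟩
  rw [← h]
  exact (Homeomorph.Set.univ G.left).isHomeomorph.topologicalKrullDim_eq

/-- Irreducible components of a group scheme locally of finite type over a field are open. -/
theorem isOpen_of_mem_irreducibleComponents' {Z : Set G.left}
    (hZ : Z ∈ irreducibleComponents G.left) : IsOpen Z := by
  let hG : GrpObj (Over.mk G.hom) := ‹GrpObj G›
  have hnoeth : ∀ x : G.left, ∃ U ∈ nhds x, NoetherianSpace U := by
    intro x
    have hln : IsLocallyNoetherian G.left := LocallyOfFiniteType.isLocallyNoetherian G.hom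
    obtain ⟨_, ⟨W, hW, rfl⟩, hxW, -⟩ := G.left.isBasis_affineOpens.exists_subset_of_mem_open
      (Set.mem_univ x) isOpen_univ
    have : IsNoetherianRing Γ(G.left, W) := IsLocallyNoetherian.component_noetherian ⟨W, hW⟩
    exact ⟨W, W.isOpen.mem_nhds hxW, noetherianSpace_of_isAffineOpen W hW⟩
  refine Groth.Agent.Lib.NoethTop.isOpen_of_mem_irreducibleComponents_of_pairwiseDisjoint
    hnoeth ?_ hZ
  intro Z₁ hZ₁ Z₂ hZ₂ hne
  rw [Function.onFun, Set.disjoint_left]
  intro x hx₁ hx₂
  exact hne ((uniqueComp G.hom x) hZ₁ hZ₂ hx₁ hx₂)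

/-- All irreducible components of `G` have the dimension of `G`. -/
theorem dim_irreducibleComponent_eq {Z : Set G.left} (hZ : Z ∈ irreducibleComponents G.left) :
    topologicalKrullDim ↥Z = topologicalKrullDim G.left :=
  dim_open_eq G ⟨Z, isOpen_of_mem_irreducibleComponents' G hZ⟩ hZ.1.nonempty

/-- The local dimension of a group scheme locally of finite type over a field is `dim G` at every
point. -/
theorem localDim_eq_dim (g : G.left) : FlatMor.localDim G.left g = topologicalKrullDim G.left :=
  localDim_eq_of_dim_open_const (fun W hW => dim_open_eq G W hW) g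

/-- The local ring at a closed point has dimension `dim G`. -/
theorem ringKrullDim_stalk_eq_dim (g : G.left) (hg : IsClosed ({g} : Set G.left)) :
    ringKrullDim (G.left.presheaf.stalk g) = topologicalKrullDim G.left := by
  let _ : G.left.Over (Spec (CommRingCat.of K)) := ⟨G.hom⟩
  have hlft : LocallyOfFiniteType (G.left ↘ Spec (CommRingCat.of K)) :=
    inferInstanceAs (LocallyOfFiniteType G.hom)
  have h1 := Groth.Agent.Lib.H30DimField.localDim_eq K G.left g
  have h2 := Groth.Agent.Lib.H30DimField.td_eq_zero_of_isClosed K G.left g hg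
  rw [h2, localDim_eq_dim G g] at h1
  simpa using h1.symm

end general

end Groth.Agent.Lib.GrpDim45
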