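import Groth.Agent.Lib.AlgSpGrp91
import Groth.Agent.Lib.H86FibDimBC
import Groth.Agent.Lib.AlgSpFieldDim91
import Groth.Agent.Lib.GrpDim45
import Groth.Agent.Lib.AlgSpDim91

/-!
# Group algebraic spaces locally of finite type over a field are equidimensional
-/

set_option autoImplicit false
universe u
open CategoryTheory CategoryTheory.Limits AlgebraicGeometry Opposite MonoidalCategory MonObj
  CartesianMonoidalCategory

namespace Groth.Agent.Lib.AlgSpGrpDim91

open AlgSp Groth.Agent.Lib.AlgSpPoints Groth.Agent.Lib.AlgSpBasic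
  Groth.Agent.Lib.AlgSpLocP Groth.Agent.Lib.GrpTranslate91 Groth.Agent.Lib.AlgSpGrp91

variable {S : Scheme.{u}} {B : Sp S}

/-- **Homogeneity**, for a pointwise property `Q` compatible with base change. -/
theorem hasAtMor_iff_unit' {Q : ∀ (U V : Scheme.{u}), (U ⟶ V) → ↥U → Prop}
    (hbc : ∀ {X Y X'' Y'' : Sp S}, IsAlgSpace X → IsAlgSpace Y →
      IsAlgSpace X'' → IsAlgSpace Y'' → ∀ {f : X ⟶ Y} {g : Y'' ⟶ Y} {b : X'' ⟶ X} {f'' : X'' ⟶ Y''},
      IsPullback b f'' f g → LocP @LocallyOfFiniteType f → ∀ x'' : Points X'',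
        (HasAtMor Q f'' x'' ↔ HasAtMor Q f (Points.map b x'')))
    (hB : IsAlgSpace B) (G : Over B) [GrpObj G] (hG : IsAlgSpace G.left)
    (hlft : LocP @LocallyOfFiniteType G.hom) (g : Points G.left) :
    HasAtMor Q G.hom g ↔ HasAtMor Q G.hom (Points.map (η[G]).left (Points.map G.hom g)) := by
  obtain ⟨T, k₀, hke, hks⟩ := hG.atlas
  obtain ⟨t, rfl⟩ := Groth.Agent.Lib.H86AlgSpPoints.ofPt_surjective hks g
  let TT : Over B := Over.mk (k₀ ≫ G.hom)
  let k : TT ⟶ G := Over.homMk k₀ rfl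
  have hT : IsAlgSpace ((yon S).obj T) := IsAlgSpace.yon_obj _
  have sq1 : IsPullback (fst G TT).left (snd G TT).left G.hom (k₀ ≫ G.hom) :=
    IsPullback.of_hasPullback G.hom (k₀ ≫ G.hom)
  have hX'' : IsAlgSpace (G ⊗ TT).left :=
    isAlgSpace_of_isPullback hG hT (fun _ a => hB.representable_from_yon a) sq1
  have sq2 : IsPullback ((transl k).left ≫ (fst G TT).left) (snd G TT).left G.hom (k₀ ≫ G.hom) := by
    refine IsPullback.of_iso sq1 ((Over.forget B).mapIso (translIso k).symm) (Iso.refl _) (Iso.refl _)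
      (Iso.refl _) ?_ ?_ (by simp) (by simp)
    · change (fst G TT).left ≫ 𝟙 _ = (transl k⁻¹).left ≫ (transl k).left ≫ (fst G TT).left
      rw [Category.comp_id, ← Over.comp_left_assoc]
      have := (translIso k).inv_hom_id
      change transl k⁻¹ ≫ transl k = 𝟙 _ at this
      rw [this]; simp
    · change (snd G TT).left ≫ 𝟙 _ = (transl k⁻¹).left ≫ (snd G TT).left
      rw [Category.comp_id, ← Over.comp_left, transl_snd]
  let eT : TT ⟶ G ⊗ TT := lift (1 : TT ⟶ G) (𝟙 TT)
  have e1 := hbc hG hB hX'' hT sq1 hlft (Points.ofPt eT.left t)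
  have e2 := hbc hG hB hX'' hT sq2 hlft (Points.ofPt eT.left t)
  have p1 : Points.map (fst G TT).left (Points.ofPt eT.left t) =
      Points.map (η[G]).left (Points.map G.hom (Points.ofPt k₀ t)) := by
    rw [Points.map_ofPt, Points.map_ofPt, Points.map_ofPt, ← Over.comp_left]
    have : eT ≫ fst G TT = toUnit TT ≫ η[G] := by
      simp only [eT, lift_fst]; rfl
    rw [this]
    rfl
  have p2 : Points.map ((transl k).left ≫ (fst G TT).left) (Points.ofPt eT.left t) =
      Points.ofPt k₀ t := by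
    rw [Points.map_ofPt, ← Over.comp_left, ← Over.comp_left]
    have : eT ≫ transl k ≫ fst G TT = k := by
      rw [← Category.assoc, lift_one_transl, lift_fst]
    rw [this]
    rfl
  rw [p1] at e1
  rw [p2] at e2
  rw [← e2, e1]

/-- Base change invariance of "relative dimension `= d` at a point". -/
theorem hasAtMor_fibreDimAt_baseChange (d : WithBot ℕ∞) {X Y X'' Y'' : Sp S} (hX : IsAlgSpace X)
    (hY : IsAlgSpace Y) (hX'' : IsAlgSpace X'') (hY'' : IsAlgSpace Y'')
    {f : X ⟶ Y} {g : Y'' ⟶ Y} {b : X'' ⟶ X} {f'' : X'' ⟶ Y''} (sq : IsPullback b f'' f g)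
    (hf : LocP @LocallyOfFiniteType f) (x'' : Points X'') :
    HasAtMor (fun _ _ h u => FlatMor.fibreDimAt h u = d) f'' x'' ↔
      HasAtMor (fun _ _ h u => FlatMor.fibreDimAt h u = d) f (Points.map b x'') := by
  obtain ⟨U, V, a, c, h, u, ha, hc, hcomm, hu⟩ :=
    Groth.Agent.Lib.AlgSpQFAt91.exists_chart_diagram hX hY f (Points.map b x'')
  obtain ⟨U'', V'', a'', c'', h'', u'', ha'', hc'', hcomm'', rfl⟩ :=
    Groth.Agent.Lib.AlgSpQFAt91.exists_chart_diagram hX'' hY'' f'' x''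
  rw [Groth.Agent.Lib.H86FibDimChart.hasAtMor_fibreDimAt_eq_iff f'' _ d a'' c'' h'' ha'' hc'' hcomm''
      u'' rfl,
    Groth.Agent.Lib.H86FibDimChart.hasAtMor_fibreDimAt_eq_iff f _ d a c h ha hc hcomm u hu,
    Groth.Agent.Lib.H86FibDimBC.fibreDimAt_eq_of_baseChange_charts hX hY hX'' hY'' sq hf a c h ha hc
      hcomm u a'' c'' h'' ha'' hc'' hcomm'' u'' hu]

section top

variable {X : Type*} [TopologicalSpace X]

theorem dim_eq_of_localDim_const [Nonempty X] {d : WithBot ℕ∞}
    (h : ∀ x : X, FlatMor.localDim X x = d) : topologicalKrullDim X = d := by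
  apply le_antisymm
  · choose U hxU hU using fun x : X => Groth.Agent.Lib.TopKrullDim.exists_open_dim_eq_localDim x
    rw [Groth.Agent.Lib.H77FibDim.dim_eq_iSup_of_isOpen_cover (fun x => (U x : Set X))
      (fun x => (U x).isOpen) (fun x => ⟨x, hxU x⟩)]
    exact iSup_le fun x => (hU x).trans (h x) |>.le
  · obtain ⟨x⟩ := ‹Nonempty X›
    rw [← h x]
    obtain ⟨W, hxW, hW⟩ := Groth.Agent.Lib.TopKrullDim.exists_open_dim_eq_localDim x
    rw [← hW]
    exact topologicalKrullDim_subspace_le X (W : Set X)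

theorem dim_le_of_localDim_const {d : WithBot ℕ∞}
    (h : ∀ x : X, FlatMor.localDim X x = d) : topologicalKrullDim X ≤ d := by
  rcases isEmpty_or_nonempty X with hX | hX
  · have : IsEmpty (TopologicalSpace.IrreducibleCloseds X) :=
      ⟨fun Z => hX.false Z.isIrreducible.nonempty.some⟩
    rw [topologicalKrullDim, Order.krullDim_eq_bot]
    exact bot_le
  · exact (dim_eq_of_localDim_const h).le

end top

section field

variable {k : Type u} [Field k]

open Groth.Agent.Lib.AlgSpFieldDim91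

/-- **A group algebraic space locally of finite type over a field is equidimensional.** -/
theorem hasAt_localDim_eq_dim
    (G : Over ((yon (Spec (CommRingCat.of k))).obj (Over.mk (𝟙 _)))) [GrpObj G]
    (hG : IsAlgSpace G.left) (hlft : LocP @LocallyOfFiniteType G.hom) (g : Points G.left) :
    HasAt (fun V v => FlatMor.localDim ↥V v = AlgSp.dim G.left) G.left g := by
  have hB : IsAlgSpace ((yon (Spec (CommRingCat.of k))).obj (Over.mk (𝟙 _))) := IsAlgSpace.yon_obj _
  have hS : Subsingleton ↥(Over.mk (𝟙 (Spec (CommRingCat.of k)))).left :=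
    (inferInstance : Subsingleton ↥(Spec (CommRingCat.of k)))
  have hsub : Subsingleton (Points ((yon (Spec (CommRingCat.of k))).obj (Over.mk (𝟙 _)))) :=
    (Points.schemeHomeo (Over.mk (𝟙 (Spec (CommRingCat.of k))))).symm.toEquiv.subsingleton
  obtain ⟨x₀, hx₀⟩ : ∃ x₀, x₀ = Points.map (η[G]).left (Points.map G.hom g) := ⟨_, rfl⟩
  obtain ⟨U₀, a₀, ha₀, has₀⟩ := hG.atlas
  obtain ⟨u₀, hu₀⟩ := Groth.Agent.Lib.H86AlgSpPoints.ofPt_surjective has₀ x₀
  obtain ⟨d₀, hd₀⟩ : ∃ d₀, d₀ = FlatMor.localDim ↥U₀.left u₀ := ⟨_, rfl⟩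
  have hid : RepWith @Etale (𝟙 ((yon (Spec (CommRingCat.of k))).obj (Over.mk (𝟙 _)))) :=
    repWith_id _ _
  have hfd : ∀ (U : Over (Spec (CommRingCat.of k))) (u : ↥U.left),
      FlatMor.fibreDimAt (toPt U).left u = FlatMor.localDim ↥U.left u := by
    intro U u
    exact Groth.Agent.Lib.H86FibDimBC.fibreDimAt_eq_localDim_of_subsingleton _ u
  have h0 : HasAtMor (fun _ _ h u => FlatMor.fibreDimAt h u = d₀) G.hom x₀ :=
    ⟨U₀, Over.mk (𝟙 _), a₀, 𝟙 _, toPt U₀, u₀, ha₀, hid, comm_toPt G.hom a₀, hu₀,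
      (hfd U₀ u₀).trans hd₀.symm⟩
  have hall : ∀ g' : Points G.left,
      HasAtMor (fun _ _ h u => FlatMor.fibreDimAt h u = d₀) G.hom g' := by
    intro g'
    rw [hasAtMor_iff_unit' (hasAtMor_fibreDimAt_baseChange d₀) hB G hG hlft g']
    have : Points.map (η[G]).left (Points.map G.hom g') = x₀ := by
      rw [hx₀, Subsingleton.elim (Points.map G.hom g') (Points.map G.hom g)]
    rw [this]
    exact h0
  have hchart : ∀ (U : Over (Spec (CommRingCat.of k))) (a : (yon _).obj U ⟶ G.left),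
      RepWith @Etale a → ∀ u : ↥U.left, FlatMor.localDim ↥U.left u = d₀ := by
    intro U a ha u
    rw [← hfd U u]
    exact (Groth.Agent.Lib.H86FibDimChart.hasAtMor_fibreDimAt_eq_iff G.hom _ d₀ a (𝟙 _) (toPt U) ha
      hid (comm_toPt G.hom a) u rfl).1 (hall _)
  have hdim : AlgSp.dim G.left = d₀ := by
    apply le_antisymm
    · exact iSup_le fun U => iSup_le fun a => iSup_le fun ha =>
        dim_le_of_localDim_const (hchart U a ha)
    · have : Nonempty ↥U₀.left := ⟨u₀⟩
      rw [← dim_eq_of_localDim_const (hchart U₀ a₀ ha₀)]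
      exact Groth.Agent.Lib.AlgSpDim91.topologicalKrullDim_le_dim a₀ ha₀
  obtain ⟨u, hu⟩ := Groth.Agent.Lib.H86AlgSpPoints.ofPt_surjective has₀ g
  exact ⟨U₀, a₀, u, ha₀, hu, by rw [hdim]; exact hchart U₀ a₀ ha₀ u⟩

end field

end Groth.Agent.Lib.AlgSpGrpDim91
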