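import Groth.Agent.Lib.AlgSpGpdSep91
import Groth.Agent.Lib.AlgSpGrpDim91

/-!
# Groupoids in algebraic spaces: homogeneity of the source morphism (translation argument)
-/

set_option autoImplicit false
universe u
open CategoryTheory CategoryTheory.Limits AlgebraicGeometry Opposite

namespace Groth.Agent.Lib.AlgSpGpdTransl91

open AlgSp Groth.Agent.Lib.AlgSpBasic Groth.Agent.Lib.AlgSpGpdSep91 Groth.Agent.Lib.AlgSpPoints

variable {S : Scheme.{u}} {B : Sp S} (G : GroupoidSp B)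

/-- Right translation by a `T`-valued arrow `ρ`: `(α, τ) ↦ α ∘ ρ(τ)` on `s⁻¹(t ρ)`. -/
noncomputable def transR {T : Sp S} (ρ : T ⟶ G.R) : pullback G.s (ρ ≫ G.t) ⟶ G.R :=
  comp G (pullback.fst G.s (ρ ≫ G.t)) (pullback.snd G.s (ρ ≫ G.t) ≫ ρ)
    (by rw [Category.assoc]; exact pullback.condition)

theorem transR_s {T : Sp S} (ρ : T ⟶ G.R) :
    transR G ρ ≫ G.s = pullback.snd G.s (ρ ≫ G.t) ≫ ρ ≫ G.s := by
  unfold transR comp
  rw [G.comp_s, Category.assoc]

theorem comp_s' {T : Sp S} (α β : T ⟶ G.R) (h : α ≫ G.s = β ≫ G.t) :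
    comp G α β h ≫ G.s = β ≫ G.s := G.comp_s α β h

theorem comp_t' {T : Sp S} (α β : T ⟶ G.R) (h : α ≫ G.s = β ≫ G.t) :
    comp G α β h ≫ G.t = α ≫ G.t := G.comp_t α β h

theorem comp_assoc' {T : Sp S} (α β γ : T ⟶ G.R) (h₁ : α ≫ G.s = β ≫ G.t)
    (h₂ : β ≫ G.s = γ ≫ G.t) :
    comp G (comp G α β h₁) γ ((comp_s' G α β h₁).trans h₂) =
      comp G α (comp G β γ h₂) (h₁.trans (comp_t' G β γ h₂).symm) := G.assoc α β γ h₁ h₂

/-- `(α ∘ σ) ∘ σ⁻¹ = α`. -/
theorem comp_comp_inv {T : Sp S} (α σ : T ⟶ G.R) (h : α ≫ G.s = σ ≫ G.t) :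
    comp G (comp G α σ h) (σ ≫ G.i)
      ((comp_s' G α σ h).trans (by rw [Category.assoc, G.i_t])) = α := by
  have h2 : σ ≫ G.s = (σ ≫ G.i) ≫ G.t := by rw [Category.assoc, G.i_t]
  have e1 := comp_assoc' G α σ (σ ≫ G.i) h h2
  have e2 : comp G σ (σ ≫ G.i) h2 = σ ≫ G.t ≫ G.e := G.comp_i σ
  have e3 : comp G α (α ≫ G.s ≫ G.e)
      (by rw [Category.assoc, Category.assoc, G.e_t, Category.comp_id]) = α := G.comp_e α
  refine e1.trans (Eq.trans ?_ e3)
  exact comp_congr G rfl (e2.trans (by rw [← Category.assoc, ← h, Category.assoc])) _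

/-- `(β ∘ σ⁻¹) ∘ σ = β`. -/
theorem comp_inv_comp {T : Sp S} (β σ : T ⟶ G.R) (h : β ≫ G.s = σ ≫ G.s) :
    comp G (comp G β (σ ≫ G.i) (by rw [Category.assoc, G.i_t]; exact h)) σ
      ((comp_s' G β (σ ≫ G.i) _).trans (by rw [Category.assoc, G.i_s])) = β := by
  have h1 : β ≫ G.s = (σ ≫ G.i) ≫ G.t := by rw [Category.assoc, G.i_t]; exact h
  have h2 : (σ ≫ G.i) ≫ G.s = σ ≫ G.t := by rw [Category.assoc, G.i_s]
  have e1 := comp_assoc' G β (σ ≫ G.i) σ h1 h2
  have e2 : comp G (σ ≫ G.i) σ h2 = σ ≫ G.s ≫ G.e := G.i_comp σ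
  have e3 : comp G β (β ≫ G.s ≫ G.e)
      (by rw [Category.assoc, Category.assoc, G.e_t, Category.comp_id]) = β := G.comp_e β
  refine e1.trans (Eq.trans ?_ e3)
  exact comp_congr G rfl (e2.trans (by rw [← Category.assoc, ← h, Category.assoc])) _

/-- **Right translation exhibits `s⁻¹(t ρ) ⟶ T` as the base change of `s` along `s ρ`.** -/
theorem isPullback_transR {T : Sp S} (ρ : T ⟶ G.R) :
    IsPullback (transR G ρ) (pullback.snd G.s (ρ ≫ G.t)) G.s (ρ ≫ G.s) := by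
  refine ⟨⟨transR_s G ρ⟩, ⟨PullbackCone.IsLimit.mk _
    (fun c => pullback.lift
      (comp G c.fst (c.snd ≫ ρ ≫ G.i) (by
        rw [Category.assoc, Category.assoc, G.i_t]; exact c.condition))
      c.snd (by
        rw [comp_s', Category.assoc, Category.assoc, G.i_s])) ?_ ?_ ?_⟩⟩
  · intro c
    unfold transR
    rw [precomp_comp]
    have hc : c.fst ≫ G.s = (c.snd ≫ ρ) ≫ G.s := by rw [Category.assoc]; exact c.condition
    refine Eq.trans ?_ (comp_inv_comp G c.fst (c.snd ≫ ρ) hc)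
    refine comp_congr G ?_ ?_ _
    · rw [pullback.lift_fst]
      exact comp_congr G rfl (by rw [Category.assoc]) _
    · rw [← Category.assoc, pullback.lift_snd]
  · intro c
    exact pullback.lift_snd _ _ _
  · intro c m hm1 hm2
    apply pullback.hom_ext
    · rw [pullback.lift_fst]
      have h0 : (m ≫ pullback.fst G.s (ρ ≫ G.t)) ≫ G.s = (c.snd ≫ ρ) ≫ G.t := by
        rw [Category.assoc, pullback.condition, ← Category.assoc, hm2, Category.assoc]
      have h1 : c.fst = comp G (m ≫ pullback.fst G.s (ρ ≫ G.t)) (c.snd ≫ ρ) h0 := by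
        rw [← hm1]
        unfold transR
        rw [precomp_comp]
        exact comp_congr G rfl (by rw [← Category.assoc, hm2]) _
      refine Eq.trans (comp_comp_inv G (m ≫ pullback.fst G.s (ρ ≫ G.t)) (c.snd ≫ ρ) h0).symm ?_
      exact comp_congr G h1.symm (by rw [Category.assoc]) _
    · rw [pullback.lift_snd]
      exact hm2

/-- **Homogeneity of the source morphism of a groupoid**, for a pointwise property `Q` compatible with base
change: `Q` holds for `s` at `r` iff it holds at the identity arrow `e(t(r))`. -/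
theorem hasAtMor_s_iff_unit {Q : ∀ (U V : Scheme.{u}), (U ⟶ V) → ↥U → Prop}
    (hbc : ∀ {X Y X'' Y'' : Sp S}, IsAlgSpace X → IsAlgSpace Y →
      IsAlgSpace X'' → IsAlgSpace Y'' → ∀ {f : X ⟶ Y} {g : Y'' ⟶ Y} {b : X'' ⟶ X} {f'' : X'' ⟶ Y''},
      IsPullback b f'' f g → LocP @LocallyOfFiniteType f → ∀ x'' : Points X'',
        (HasAtMor Q f'' x'' ↔ HasAtMor Q f (Points.map b x'')))
    (hU : IsAlgSpace G.U) (hR : IsAlgSpace G.R)
    (hs : LocP @LocallyOfFiniteType G.s) (r : Points G.R) :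
    HasAtMor Q G.s r ↔ HasAtMor Q G.s (Points.map G.e (Points.map G.t r)) := by
  obtain ⟨T, ρ, hρe, hρs⟩ := hR.atlas
  obtain ⟨t₀, rfl⟩ := Groth.Agent.Lib.H86AlgSpPoints.ofPt_surjective hρs r
  have hT : IsAlgSpace ((yon S).obj T) := IsAlgSpace.yon_obj _
  have sq1 : IsPullback (pullback.fst G.s (ρ ≫ G.t)) (pullback.snd G.s (ρ ≫ G.t)) G.s (ρ ≫ G.t) :=
    IsPullback.of_hasPullback G.s (ρ ≫ G.t)
  have sq2 := isPullback_transR G ρ
  have hP : IsAlgSpace (pullback G.s (ρ ≫ G.t)) :=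
    isAlgSpace_of_isPullback hR hT (fun _ a => hU.representable_from_yon a) sq1
  let ε : (yon S).obj T ⟶ pullback G.s (ρ ≫ G.t) :=
    pullback.lift (ρ ≫ G.t ≫ G.e) (𝟙 _) (by
      rw [Category.assoc, Category.assoc, G.e_s, Category.comp_id, Category.id_comp])
  have e1 := hbc hR hU hP hT sq1 hs (Points.ofPt ε t₀)
  have e2 := hbc hR hU hP hT sq2 hs (Points.ofPt ε t₀)
  have p1 : Points.map (pullback.fst G.s (ρ ≫ G.t)) (Points.ofPt ε t₀) =
      Points.map G.e (Points.map G.t (Points.ofPt ρ t₀)) := by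
    rw [Points.map_ofPt, Points.map_ofPt, Points.map_ofPt]
    congr 1
    exact (pullback.lift_fst _ _ _).trans (Category.assoc _ _ _).symm
  have p2 : Points.map (transR G ρ) (Points.ofPt ε t₀) = Points.ofPt ρ t₀ := by
    rw [Points.map_ofPt]
    congr 1
    unfold transR
    rw [precomp_comp]
    refine Eq.trans ?_ (G.e_comp ρ)
    exact comp_congr G (pullback.lift_fst _ _ _)
      (by rw [← Category.assoc, pullback.lift_snd, Category.id_comp]) _
  rw [p1] at e1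
  rw [p2] at e2
  rw [← e2, e1]

section field

variable {k : Type u} [Field k]

/-- **For a groupoid in algebraic spaces with `U = Spec k` and `s` locally of finite type, `R` is equidimensional.** -/
theorem hasAt_localDim_eq_dim_R (hR : IsAlgSpace G.R)
    (σ : Spec (CommRingCat.of k) ⟶ S) (eU : G.U ≅ (yon S).obj (Over.mk σ))
    (hs : LocP @LocallyOfFiniteType G.s) (r : Points G.R) :
    HasAt (fun V v => FlatMor.localDim ↥V v = AlgSp.dim G.R) G.R r := by
  have hU : IsAlgSpace G.U := (IsAlgSpace.yon_obj (Over.mk σ)).of_iso eU.symm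
  have hS : Subsingleton ↥(Over.mk σ).left :=
    (inferInstance : Subsingleton ↥(Spec (CommRingCat.of k)))
  have hsub' : Subsingleton (Points ((yon S).obj (Over.mk σ))) :=
    (Points.schemeHomeo (Over.mk σ)).symm.toEquiv.subsingleton
  have hsub : ∀ x y : Points G.U, x = y := by
    intro x y
    have h := Subsingleton.elim (Points.map eU.hom x) (Points.map eU.hom y)
    have := congrArg (Points.map eU.inv) h
    rwa [← Points.map_comp, ← Points.map_comp, eU.hom_inv_id, Points.map_id, Points.map_id] at this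
  have hc : RepWith @Etale eU.inv := MorphismProperty.of_isIso (RepWith @Etale) eU.inv
  -- chart diagrams of `s`
  have hchartDiag : ∀ (W : Over S) (a : (yon S).obj W ⟶ G.R),
      ∃ h : W ⟶ Over.mk σ, a ≫ G.s = (yon S).map h ≫ eU.inv := by
    intro W a
    obtain ⟨h, hh⟩ := (yon S).map_surjective (a ≫ G.s ≫ eU.hom)
    exact ⟨h, by rw [hh, Category.assoc, Category.assoc, eU.hom_inv_id, Category.comp_id]⟩
  have hfd : ∀ (W : Over S) (h : W ⟶ Over.mk σ) (w : ↥W.left),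
      FlatMor.fibreDimAt h.left w = FlatMor.localDim ↥W.left w :=
    fun W h w => Groth.Agent.Lib.H86FibDimBC.fibreDimAt_eq_localDim_of_subsingleton _ w
  obtain ⟨x₀, hx₀⟩ : ∃ x₀, x₀ = Points.map G.e (Points.map G.t r) := ⟨_, rfl⟩
  obtain ⟨W₀, a₀, ha₀, has₀⟩ := hR.atlas
  obtain ⟨w₀, hw₀⟩ := Groth.Agent.Lib.H86AlgSpPoints.ofPt_surjective has₀ x₀
  obtain ⟨d₀, hd₀⟩ : ∃ d₀, d₀ = FlatMor.localDim ↥W₀.left w₀ := ⟨_, rfl⟩
  obtain ⟨h₀, hh₀⟩ := hchartDiag W₀ a₀
  have h0 : HasAtMor (fun _ _ h u => FlatMor.fibreDimAt h u = d₀) G.s x₀ :=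
    ⟨W₀, Over.mk σ, a₀, eU.inv, h₀, w₀, ha₀, hc, hh₀, hw₀, (hfd W₀ h₀ w₀).trans hd₀.symm⟩
  have hall : ∀ r' : Points G.R,
      HasAtMor (fun _ _ h u => FlatMor.fibreDimAt h u = d₀) G.s r' := by
    intro r'
    rw [hasAtMor_s_iff_unit G
      (Groth.Agent.Lib.AlgSpGrpDim91.hasAtMor_fibreDimAt_baseChange d₀) hU hR hs r']
    have : Points.map G.e (Points.map G.t r') = x₀ := by
      rw [hx₀, hsub (Points.map G.t r') (Points.map G.t r)]
    rw [this]
    exact h0
  have hchart : ∀ (W : Over S) (a : (yon S).obj W ⟶ G.R),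
      RepWith @Etale a → ∀ w : ↥W.left, FlatMor.localDim ↥W.left w = d₀ := by
    intro W a ha w
    obtain ⟨h, hh⟩ := hchartDiag W a
    rw [← hfd W h w]
    exact (Groth.Agent.Lib.H86FibDimChart.hasAtMor_fibreDimAt_eq_iff G.s _ d₀ a eU.inv h ha
      hc hh w rfl).1 (hall _)
  have hdim : AlgSp.dim G.R = d₀ := by
    apply le_antisymm
    · exact iSup_le fun W => iSup_le fun a => iSup_le fun ha =>
        Groth.Agent.Lib.AlgSpGrpDim91.dim_le_of_localDim_const (hchart W a ha)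
    · have : Nonempty ↥W₀.left := ⟨w₀⟩
      rw [← Groth.Agent.Lib.AlgSpGrpDim91.dim_eq_of_localDim_const (hchart W₀ a₀ ha₀)]
      exact Groth.Agent.Lib.AlgSpDim91.topologicalKrullDim_le_dim a₀ ha₀
  obtain ⟨w, hw⟩ := Groth.Agent.Lib.H86AlgSpPoints.ofPt_surjective has₀ r
  exact ⟨W₀, a₀, w, ha₀, hw, by rw [hdim]; exact hchart W₀ a₀ ha₀ w⟩

end field

end Groth.Agent.Lib.AlgSpGpdTransl91
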