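import Groth.Agent.Lib.GrpDiag91
import Groth.Agent.Lib.AlgSpQC
import Groth.Agent.Lib.AlgSpBasic
import Groth.Prelude.Def_AlgSpGpd
import Mathlib.CategoryTheory.Limits.Constructions.Over.Connected

/-!
# Group algebraic spaces: separation properties via the unit section
-/

set_option autoImplicit false
universe u
open CategoryTheory CategoryTheory.Limits AlgebraicGeometry Opposite MonoidalCategory MonObj
  CartesianMonoidalCategory

namespace Groth.Agent.Lib.AlgSpGrpSep91

open AlgSp Groth.Agent.Lib.AlgSpBasic Groth.Agent.Lib.GrpDiag91

variable {S : Scheme.{u}} {B : Sp S} (G : Over B) [GrpObj G]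

/-- The relative diagonal of `G ⟶ B` is the base change of the unit section. -/
theorem isPullback_diagonal :
    IsPullback (pullback.diagonal G.hom) G.hom (diffMap G).left (η[G]).left := by
  have h := (isPullback_diag G).map (Over.forget B)
  exact h

/-- The unit section is a base change of the relative diagonal of `G ⟶ B`. -/
theorem isPullback_unit_left :
    IsPullback (η[G]).left (η[G]).left (pullback.diagonal G.hom)
      (lift (1 : G ⟶ G) (𝟙 G)).left := by
  have h := (isPullback_unit G).map (Over.forget B)
  exact h

theorem repWith_diagonal_iff (P : MorphismProperty Scheme.{u}) :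
    RepWith P (pullback.diagonal G.hom) ↔ RepWith P (η[G]).left :=
  ⟨fun h => repWith_fst_of_isPullback P (isPullback_unit_left G).flip h,
    fun h => repWith_fst_of_isPullback P (isPullback_diagonal G) h⟩

theorem representable_unit (hG : IsAlgSpace G.left) : Representable (η[G]).left :=
  MorphismProperty.of_isPullback (isPullback_unit_left G) (representable_diagonal hG.diag G.hom)

theorem sep_iff (hG : IsAlgSpace G.left) :
    (IsSeparatedMor G.hom ↔ RepWith @IsClosedImmersion (η[G]).left) ∧
      (IsQuasiSeparatedMor G.hom ↔ IsQuasiCompactMor (η[G]).left) ∧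
      (IsLocallySeparatedMor G.hom → RepWith @IsImmersion (η[G]).left) := by
  refine ⟨repWith_diagonal_iff G _, ?_, fun h => (repWith_diagonal_iff G _).1 h⟩
  constructor
  · intro h
    exact Groth.Agent.Lib.AlgSpQC.isQuasiCompactMor_of_repWith ((repWith_diagonal_iff G _).1 h)
  · intro h
    exact (repWith_diagonal_iff G _).2
      (Groth.Agent.Lib.AlgSpQC.repWith_quasiCompact_of_isQuasiCompactMor (representable_unit G hG) h)

end Groth.Agent.Lib.AlgSpGrpSep91
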