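import Groth.Agent.Lib.AlgSpFibreChart36

/-!
# Strong charts of morphisms of algebraic spaces and their base change (helper36)

A chart diagram `(a, b, k)` of `f : X ⟶ Y` is *strong* when the canonical map `h_U ⟶ X ×_Y h_V` is representable
etale and surjective.  Strong charts exist over any etale chart of the target and are stable under base change
(`IsStrongChart.baseChange`), with exact scheme-level pullback squares `U' = U ×_V V'`.
-/

set_option autoImplicit false
set_option linter.style.haveILetI false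
universe u
open CategoryTheory CategoryTheory.Limits AlgebraicGeometry Opposite

namespace Groth.Agent.Lib.AlgSpStrongChart36

open AlgSp Groth.Agent.Lib.AlgSpBasic

variable {S : Scheme.{u}}

/-- **Charts of base changes** (general form): if the canonical map `h_U ⟶ X ×_Z h_W` of a chart diagram has `Q`,
then so does the induced map `h_{U ×_W T} ⟶ X ×_Z h_T`. -/
theorem repWith_fibre_chart (Q : MorphismProperty Scheme.{u}) {X Z P : Sp S}
    (g : X ⟶ Z) {U W T U' : Over S} (a : (yon S).obj U ⟶ X) (c : (yon S).obj W ⟶ Z) (k : U ⟶ W)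
    (comm : a ≫ g = (yon S).map k ≫ c) (hα : RepWith Q (pullback.lift a ((yon S).map k) comm))
    (t : T ⟶ W) {pX : P ⟶ X} {qX : P ⟶ (yon S).obj T}
    (sqP : IsPullback pX qX g ((yon S).map t ≫ c))
    (ι : U' ⟶ U) (τ : U' ⟶ T) (sqU : IsPullback ι.left τ.left k.left t.left)
    (a' : (yon S).obj U' ⟶ P) (h1 : a' ≫ pX = (yon S).map ι ≫ a) (h2 : a' ≫ qX = (yon S).map τ) :
    RepWith Q a' := by
  have sqX' : IsPullback (pullback.fst g c) (pullback.snd g c) g c := IsPullback.of_hasPullback g c
  let α : (yon S).obj U ⟶ pullback g c := pullback.lift a ((yon S).map k) comm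
  have hα1 : α ≫ pullback.fst g c = a := pullback.lift_fst _ _ _
  have hα2 : α ≫ pullback.snd g c = (yon S).map k := pullback.lift_snd _ _ _
  let β : P ⟶ pullback g c := pullback.lift pX (qX ≫ (yon S).map t)
    (by rw [Category.assoc]; exact sqP.w)
  have hβ1 : β ≫ pullback.fst g c = pX := pullback.lift_fst _ _ _
  have hβ2 : β ≫ pullback.snd g c = qX ≫ (yon S).map t := pullback.lift_snd _ _ _
  have sqβ : IsPullback β qX (pullback.snd g c) ((yon S).map t) :=
    IsPullback.of_right (by rw [hβ1]; exact sqP) hβ2 sqX'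
  have hw : τ ≫ t = ι ≫ k := by
    ext
    simpa using sqU.w.symm
  have hcomm : a' ≫ β = (yon S).map ι ≫ α := by
    apply pullback.hom_ext
    · rw [Category.assoc, hβ1, Category.assoc, hα1, h1]
    · rw [Category.assoc, hβ2, Category.assoc, hα2, ← Category.assoc, h2, ← Functor.map_comp,
        ← Functor.map_comp, hw]
  have sqbig : IsPullback ((yon S).map τ) ((yon S).map ι) ((yon S).map t) ((yon S).map k) :=
    (Groth.Agent.Lib.AlgSpAffineSpace.isPullback_yon_of_left sqU).flip
  have sqL : IsPullback a' ((yon S).map ι) β α :=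
    IsPullback.of_right (by rw [h2, hα2]; exact sqbig) hcomm sqβ.flip
  exact repWith_fst_of_isPullback _ sqL hα

/-- A chart diagram `(a, b, k)` of `f` is strong: `h_U ⟶ X ×_Y h_V` is representable etale surjective. -/
structure IsStrongChart {X Y : Sp S} (f : X ⟶ Y) {U V : Over S} (a : (yon S).obj U ⟶ X)
    (b : (yon S).obj V ⟶ Y) (k : U ⟶ V) : Prop where
  comm : a ≫ f = (yon S).map k ≫ b
  etale : RepWith @Etale (pullback.lift a ((yon S).map k) comm)
  surj : RepWith @Surjective (pullback.lift a ((yon S).map k) comm)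

/-- The source chart of a strong chart over an etale chart is etale. -/
theorem IsStrongChart.repWith_etale {X Y : Sp S} {f : X ⟶ Y} {U V : Over S} {a : (yon S).obj U ⟶ X}
    {b : (yon S).obj V ⟶ Y} {k : U ⟶ V} (h : IsStrongChart f a b k) (hb : RepWith @Etale b) :
    RepWith @Etale a := by
  have h1 : RepWith @Etale (pullback.fst f b) :=
    repWith_fst_of_isPullback _ (IsPullback.of_hasPullback f b) hb
  have : pullback.lift a ((yon S).map k) h.comm ≫ pullback.fst f b = a := pullback.lift_fst _ _ _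
  rw [← this]
  exact MorphismProperty.comp_mem _ _ _ h.etale h1

/-- The source chart of a strong chart over a surjective chart is surjective. -/
theorem IsStrongChart.repWith_surjective {X Y : Sp S} {f : X ⟶ Y} {U V : Over S}
    {a : (yon S).obj U ⟶ X} {b : (yon S).obj V ⟶ Y} {k : U ⟶ V} (h : IsStrongChart f a b k)
    (hb : RepWith @Surjective b) : RepWith @Surjective a := by
  have h1 : RepWith @Surjective (pullback.fst f b) :=
    repWith_fst_of_isPullback _ (IsPullback.of_hasPullback f b) hb
  have : pullback.lift a ((yon S).map k) h.comm ≫ pullback.fst f b = a := pullback.lift_fst _ _ _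
  rw [← this]
  exact MorphismProperty.comp_mem _ _ _ h.surj h1

/-- Strong charts exist over any chart of the target. -/
theorem exists_strong_chart {X Y : Sp S} (hX : IsAlgSpace X) (f : X ⟶ Y) {V : Over S}
    (b : (yon S).obj V ⟶ Y) (hb : RepWith @Etale b) :
    ∃ (U : Over S) (a : (yon S).obj U ⟶ X) (k : U ⟶ V), IsStrongChart f a b k := by
  obtain ⟨U₀, a₀, ha₀, ha₀s⟩ := hX.atlas
  have hr := hb.rep
  have sq := hr.isPullback' (a₀ ≫ f)
  have comm : ((yon S).map (hr.snd (a₀ ≫ f)) ≫ a₀) ≫ f = (yon S).map (hr.fst' (a₀ ≫ f)) ≫ b := by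
    rw [Category.assoc]; exact sq.w.symm
  have sqL : IsPullback
      (pullback.lift ((yon S).map (hr.snd (a₀ ≫ f)) ≫ a₀) ((yon S).map (hr.fst' (a₀ ≫ f))) comm)
      ((yon S).map (hr.snd (a₀ ≫ f))) (pullback.fst f b) a₀ := by
    refine IsPullback.of_right (h₁₂ := pullback.snd f b) (v₁₃ := b) (h₂₂ := f) ?_
      (pullback.lift_fst _ _ _) (IsPullback.of_hasPullback f b).flip
    rw [pullback.lift_snd]
    exact sq
  exact ⟨hr.pullback (a₀ ≫ f), (yon S).map (hr.snd (a₀ ≫ f)) ≫ a₀, hr.fst' (a₀ ≫ f), comm,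
    repWith_fst_of_isPullback _ sqL ha₀, repWith_fst_of_isPullback _ sqL ha₀s⟩

/-- **Base change of strong charts.** -/
theorem IsStrongChart.baseChange {X Y X' Y' : Sp S} {f : X ⟶ Y} {U V : Over S}
    {a : (yon S).obj U ⟶ X} {b : (yon S).obj V ⟶ Y} {k : U ⟶ V} (h : IsStrongChart f a b k)
    {gY : Y' ⟶ Y} {gX : X' ⟶ X} {f' : X' ⟶ Y'} (sqX : IsPullback gX f' f gY)
    {V' U' : Over S} (b' : (yon S).obj V' ⟶ Y') (gV : V' ⟶ V)
    (hb' : b' ≫ gY = (yon S).map gV ≫ b) (pr₁ : U' ⟶ U) (pr₂ : U' ⟶ V')
    (sqU : IsPullback pr₁.left pr₂.left k.left gV.left)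
    (a' : (yon S).obj U' ⟶ X') (h1 : a' ≫ gX = (yon S).map pr₁ ≫ a)
    (h2 : a' ≫ f' = (yon S).map pr₂ ≫ b') :
    IsStrongChart f' a' b' pr₂ := by
  have sqP : IsPullback (pullback.fst f' b' ≫ gX) (pullback.snd f' b') f ((yon S).map gV ≫ b) := by
    rw [← hb']
    exact (IsPullback.of_hasPullback f' b').paste_horiz sqX
  have key : ∀ Q : MorphismProperty Scheme.{u},
      RepWith Q (pullback.lift a ((yon S).map k) h.comm) →
      RepWith Q (pullback.lift a' ((yon S).map pr₂) h2) := fun Q hQ =>
    repWith_fibre_chart Q f a b k h.comm hQ gV sqP pr₁ pr₂ sqU _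
      (by rw [← Category.assoc, pullback.lift_fst, h1]) (pullback.lift_snd _ _ _)
  exact ⟨h2, key _ h.etale, key _ h.surj⟩

end Groth.Agent.Lib.AlgSpStrongChart36
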