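import Mathlib

/-!
# Immersions are closed immersions over small affine opens
-/

set_option autoImplicit false
universe u
open CategoryTheory AlgebraicGeometry TopologicalSpace

namespace Groth.Agent.Lib.ImmersionLocal

theorem exists_affine_isClosedImmersion_restrict {Z X : Scheme.{u}} (i : Z ⟶ X) [IsImmersion i]
    (z : Z) : ∃ U : X.affineOpens, i z ∈ U.1 ∧ IsClosedImmersion (i ∣_ U.1) := by
  have hz : i z ∈ i.coborderRange := subset_coborder ⟨z, rfl⟩
  obtain ⟨_, ⟨U, hU, rfl⟩, hzU, hUsub⟩ :=
    X.isBasis_affineOpens.exists_subset_of_mem_open hz i.coborderRange.2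
  refine ⟨⟨U, hU⟩, hzU, ?_⟩
  haveI : IsPreimmersion (i ∣_ U) := inferInstance
  refine IsClosedImmersion.of_isPreimmersion _ ?_
  have hr : Set.range (i ∣_ U) = (Subtype.val : U → X) ⁻¹' Set.range i := by
    ext ⟨x, hx⟩
    constructor
    · rintro ⟨w, hw⟩
      refine ⟨w.1, ?_⟩
      have := congrArg Subtype.val hw
      rw [morphismRestrict_base_coe] at this
      exact this
    · rintro ⟨w, hw⟩
      have hwU : w ∈ i ⁻¹ᵁ U := by
        change i w ∈ U
        rw [hw]; exact hx
      refine ⟨⟨w, hwU⟩, Subtype.ext ?_⟩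
      rw [morphismRestrict_base_coe]
      exact hw
  rw [hr]
  have hc : IsClosed ((Subtype.val : coborder (Set.range i) → X) ⁻¹' Set.range i) :=
    isClosed_preimage_val_coborder
  have := hc.preimage (continuous_inclusion hUsub)
  exact this

end Groth.Agent.Lib.ImmersionLocal
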