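import Groth.Agent.Lib.KoszulQuot
import Mathlib.RingTheory.Localization.Away.Basic
import Mathlib.RingTheory.Flat.Localization

/-!
# Koszul-regular ideals: flexible models of the localizations (helper19)

* `isKoszulRegularSeq_nil`, `isKoszulRegularSeq_map_ringEquiv`, `isKoszulRegularSeq_perm`;
* `GenAt I g`: on some model `S` of `A_g` the ideal `I S` is generated by a Koszul-regular
  sequence; `genAt_iff` (the model `Localization.Away g`), `GenAt.mul` (shrinking);
* `isKoszulRegularIdeal_iff`.
-/

set_option autoImplicit false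
universe u
open CategoryTheory CategoryTheory.Limits CochainComplex HomologicalComplex

namespace Groth.Agent.Lib.KoszulIdeal

open Groth.Agent.Lib.KoszulCone Groth.Agent.Lib.KoszulQuot

section seq

variable {R : Type u} [CommRing R]

theorem isKoszulRegularSeq_nil : LCI.IsKoszulRegularSeq R [] := by
  rw [isKoszulRegularSeq_iff]
  intro i hi
  rw [← exactAt_iff_isZero_homology]
  exact HomologicalComplex.exactAt_single_obj _ _ _ _ (by omega)

variable {R' : Type u} [CommRing R']

/-- ring isomorphisms preserve Koszul-regular sequences -/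
theorem isKoszulRegularSeq_map_ringEquiv (e : R ≃+* R') (l : List R) :
    LCI.IsKoszulRegularSeq R l ↔ LCI.IsKoszulRegularSeq R' (l.map e) := by
  have h := isKoszulRegularSeq_append_iff (e : R →+* R') e.surjective []
    (by rw [Ideal.ofList_nil]; exact RingHom.ker_coe_equiv e) isKoszulRegularSeq_nil l
  rw [List.append_nil] at h
  exact h

/-- Koszul-regularity is invariant under permutations -/
theorem isKoszulRegularSeq_perm {l l' : List R} (h : l.Perm l')
    (hl : LCI.IsKoszulRegularSeq R l) : LCI.IsKoszulRegularSeq R l' := by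
  rw [isKoszulRegularSeq_iff] at hl ⊢
  intro i hi
  obtain ⟨e⟩ := Groth.Agent.Lib.KoszulPerm.nonempty_kcx_iso_of_perm (ModuleCat.of R R) h
  exact ((HomologicalComplex.homologyFunctor _ _ i).mapIso e).isZero_iff.mp (hl i hi)

end seq

section ideal

variable {A : Type u} [CommRing A]

/-- on some model of `A_g`, the extension of `I` is generated by a Koszul-regular sequence -/
def GenAt (I : Ideal A) (g : A) : Prop :=
  ∃ (S : Type u) (_ : CommRing S) (_ : Algebra A S) (_ : IsLocalization.Away g S) (l : List S),
    LCI.IsKoszulRegularSeq S l ∧ I.map (algebraMap A S) = Ideal.ofList l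

theorem GenAt.mk {I : Ideal A} {g : A} (S : Type u) [CommRing S] [Algebra A S]
    [IsLocalization.Away g S] (l : List S) (hl : LCI.IsKoszulRegularSeq S l)
    (h : I.map (algebraMap A S) = Ideal.ofList l) : GenAt I g :=
  ⟨S, _, _, ‹_›, l, hl, h⟩

/-- any model can be used -/
theorem GenAt.exists_list {I : Ideal A} {g : A} (h : GenAt I g) (S' : Type u) [CommRing S']
    [Algebra A S'] [IsLocalization.Away g S'] :
    ∃ l : List S', LCI.IsKoszulRegularSeq S' l ∧ I.map (algebraMap A S') = Ideal.ofList l := by
  obtain ⟨S, _, _, _, l, hl, hI⟩ := h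
  let e : S ≃ₐ[A] S' := IsLocalization.algEquiv (Submonoid.powers g) S S'
  refine ⟨l.map e, (isKoszulRegularSeq_map_ringEquiv (e : S ≃+* S') l).mp hl, ?_⟩
  have h1 : (I.map (algebraMap A S)).map (e : S →+* S') = I.map (algebraMap A S') := by
    rw [Ideal.map_map]
    congr 1
    ext x
    exact e.commutes x
  rw [← h1, hI, Ideal.map_ofList]
  rfl

theorem genAt_iff (I : Ideal A) (g : A) : GenAt I g ↔
    ∃ l : List (Localization.Away g), LCI.IsKoszulRegularSeq (Localization.Away g) l ∧
      I.map (algebraMap A (Localization.Away g)) = Ideal.span {x | x ∈ l} :=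
  ⟨fun h => h.exists_list (Localization.Away g), fun ⟨l, hl, h⟩ => GenAt.mk _ l hl h⟩

theorem isKoszulRegularIdeal_iff (I : Ideal A) : LCI.IsKoszulRegularIdeal I ↔
    ∀ 𝔭 : PrimeSpectrum A, I ≤ 𝔭.asIdeal → ∃ g : A, g ∉ 𝔭.asIdeal ∧ GenAt I g := by
  unfold LCI.IsKoszulRegularIdeal
  simp only [genAt_iff]

/-- shrinking the basic open -/
theorem GenAt.mul {I : Ideal A} {g : A} (h : GenAt I g) (g' : A) : GenAt I (g * g') := by
  obtain ⟨S, _, _, _, l, hl, hI⟩ := h
  let S' := Localization.Away (algebraMap A S g')
  haveI : IsLocalization.Away (g * g') S' := IsLocalization.Away.mul' S S' g g'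
  haveI : Module.Flat S S' := IsLocalization.flat S' (Submonoid.powers (algebraMap A S g'))
  refine GenAt.mk S' (l.map (algebraMap S S')) (isKoszulRegularSeq_map_of_flat l hl) ?_
  rw [IsScalarTower.algebraMap_eq A S S', ← Ideal.map_map, hI, Ideal.map_ofList]

end ideal

end Groth.Agent.Lib.KoszulIdeal
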