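import Groth.Agent.Lib.ClosedImmStalk

/-!
# Stalks of immersions that are closed over an affine open

Generalization of `ClosedImmStalk.ker_stalkMap_eq_map` to morphisms `i` such that `i ∣_ U` is a
closed immersion for an affine open `U`.
-/

set_option autoImplicit false
universe u
open CategoryTheory AlgebraicGeometry TopologicalSpace

namespace Groth.Agent.Lib.ClosedImmStalk

theorem ker_stalkMap_eq_map_aux {X Y : Scheme.{u}} (i : Y ⟶ X)
    (U : X.affineOpens) (hV : IsAffineOpen (i ⁻¹ᵁ U.1))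
    (hsurj : Function.Surjective (i.app U.1).hom) (y : Y) (hy : i y ∈ U.1) :
    RingHom.ker (i.stalkMap y).hom =
      (RingHom.ker (i.app U.1).hom).map (X.presheaf.germ U.1 (i y) hy).hom := by
  have hU : IsAffineOpen U.1 := U.2
  have hyV : y ∈ i ⁻¹ᵁ U.1 := hy
  apply le_antisymm
  · intro s hs
    rw [RingHom.mem_ker] at hs
    let alg : Algebra Γ(X, U.1) (X.presheaf.stalk (i y)) :=
      X.presheaf.algebra_section_stalk ⟨i y, hy⟩
    have hloc : IsLocalization.AtPrime (X.presheaf.stalk (i y))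
        (hU.primeIdealOf ⟨i y, hy⟩).asIdeal := hU.isLocalization_stalk ⟨i y, hy⟩
    let algY : Algebra Γ(Y, i ⁻¹ᵁ U.1) (Y.presheaf.stalk y) :=
      Y.presheaf.algebra_section_stalk ⟨y, hyV⟩
    have hlocY : IsLocalization.AtPrime (Y.presheaf.stalk y)
        (hV.primeIdealOf ⟨y, hyV⟩).asIdeal := hV.isLocalization_stalk ⟨y, hyV⟩
    obtain ⟨⟨a, g⟩, hag⟩ := IsLocalization.surj (hU.primeIdealOf ⟨i y, hy⟩).asIdeal.primeCompl s
    simp only at hag
    have halg : ∀ t, algebraMap Γ(X, U.1) (X.presheaf.stalk (i y)) t =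
        (X.presheaf.germ U.1 (i y) hy).hom t := fun t => rfl
    have halgY : ∀ t, algebraMap Γ(Y, i ⁻¹ᵁ U.1) (Y.presheaf.stalk y) t =
        (Y.presheaf.germ (i ⁻¹ᵁ U.1) y hyV).hom t := fun t => rfl
    -- the germ of `i.app U a` vanishes
    have h0 : (Y.presheaf.germ (i ⁻¹ᵁ U.1) y hyV).hom ((i.app U.1).hom a) = 0 := by
      have := Scheme.Hom.germ_stalkMap_apply i U.1 y hy a
      rw [← this]
      have h1 : (X.presheaf.germ U.1 (i y) hy).hom a = s * (X.presheaf.germ U.1 (i y) hy).hom g := by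
        rw [← halg, ← halg, hag]
      change (i.stalkMap y).hom ((X.presheaf.germ U.1 (i y) hy).hom a) = 0
      rw [h1, map_mul, hs, zero_mul]
    rw [← halgY, IsLocalization.map_eq_zero_iff (hV.primeIdealOf ⟨y, hyV⟩).asIdeal.primeCompl] at h0
    obtain ⟨⟨h', hh'⟩, hh0⟩ := h0
    obtain ⟨h, rfl⟩ := hsurj h'
    simp only at hh0
    -- `h ∉ p`
    have hh : h ∈ (hU.primeIdealOf ⟨i y, hy⟩).asIdeal.primeCompl := by
      change h ∉ (hU.primeIdealOf ⟨i y, hy⟩).asIdeal
      rw [← mem_basicOpen_iff_notMem_primeIdealOf U.1 hU (i y) hy h]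
      have hq : (i.app U.1).hom h ∉ (hV.primeIdealOf ⟨y, hyV⟩).asIdeal := hh'
      rw [← mem_basicOpen_iff_notMem_primeIdealOf (i ⁻¹ᵁ U.1) hV y hyV, ← Scheme.preimage_basicOpen] at hq
      exact hq
    have hmem : h * a ∈ RingHom.ker (i.app U.1).hom := by
      rw [RingHom.mem_ker, map_mul]
      exact hh0
    have hunit : IsUnit ((X.presheaf.germ U.1 (i y) hy).hom (h * g)) := by
      rw [← halg]
      exact IsLocalization.map_units _ (⟨h * g, mul_mem hh g.2⟩ :
        (hU.primeIdealOf ⟨i y, hy⟩).asIdeal.primeCompl)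
    have hs' : s * (X.presheaf.germ U.1 (i y) hy).hom (h * g) =
        (X.presheaf.germ U.1 (i y) hy).hom (h * a) := by
      rw [map_mul, map_mul, ← halg a, ← hag, halg]
      ring
    have : s = (X.presheaf.germ U.1 (i y) hy).hom (h * a) * ↑hunit.unit⁻¹ := by
      rw [← hs', mul_assoc]
      simp
    rw [this]
    exact Ideal.mul_mem_right _ _ (Ideal.mem_map_of_mem _ hmem)
  · rw [Ideal.map_le_iff_le_comap]
    intro a ha
    rw [RingHom.mem_ker] at ha
    rw [Ideal.mem_comap, RingHom.mem_ker]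
    have := Scheme.Hom.germ_stalkMap_apply i U.1 y hy a
    change (i.stalkMap y).hom ((X.presheaf.germ U.1 (i y) hy).hom a) = 0
    erw [this]
    erw [ha]
    simp


theorem isAffineOpen_preimage_of_restrict {X Y : Scheme.{u}} (i : Y ⟶ X) (U : X.affineOpens)
    [IsClosedImmersion (i ∣_ U.1)] : IsAffineOpen (i ⁻¹ᵁ U.1) := by
  haveI : IsAffine U.1.toScheme := U.2
  exact isAffine_of_isAffineHom (i ∣_ U.1)

theorem app_surjective_of_restrict {X Y : Scheme.{u}} (i : Y ⟶ X) (U : X.affineOpens)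
    [IsClosedImmersion (i ∣_ U.1)] : Function.Surjective (i.app U.1).hom := by
  haveI : IsAffine U.1.toScheme := U.2
  have h1 : Function.Surjective ((i ∣_ U.1).appTop).hom :=
    (i ∣_ U.1).app_surjective ⊤ (isAffineOpen_top _)
  rw [morphismRestrict_appTop] at h1
  have h2 : Function.Surjective (i.app (U.1.ι ''ᵁ ⊤)).hom := by
    intro t
    obtain ⟨a, ha⟩ := h1 ((Y.presheaf.map
      (eqToHom (image_morphismRestrict_preimage i U.1 ⊤)).op).hom t)
    refine ⟨a, ?_⟩
    have hinj : Function.Injective (Y.presheaf.map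
        (eqToHom (image_morphismRestrict_preimage i U.1 ⊤)).op).hom :=
      (ConcreteCategory.bijective_of_isIso _).1
    exact hinj ha
  have key : ∀ (W : X.Opens), W = U.1 → Function.Surjective (i.app W).hom →
      Function.Surjective (i.app U.1).hom := by
    rintro _ rfl h
    exact h
  exact key _ U.1.ι_image_top h2

theorem ker_stalkMap_eq_map_of_restrict {X Y : Scheme.{u}} (i : Y ⟶ X) (U : X.affineOpens)
    [IsClosedImmersion (i ∣_ U.1)] (y : Y) (hy : i y ∈ U.1) :
    RingHom.ker (i.stalkMap y).hom =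
      (RingHom.ker (i.app U.1).hom).map (X.presheaf.germ U.1 (i y) hy).hom :=
  ker_stalkMap_eq_map_aux i U (isAffineOpen_preimage_of_restrict i U)
    (app_surjective_of_restrict i U) y hy

end Groth.Agent.Lib.ClosedImmStalk
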