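import Groth.Agent.Lib.RegSpread
import Groth.Agent.Lib.ClosedImmStalk2

/-!
# Spreading out regular sequences for immersions (geometric part)

Let `i : Z ⟶ X` with `X` locally Noetherian, `U₀` an affine open of `X` over which `i` is a closed
immersion, and `z ∈ Z` with `i z ∈ U₀`. If the kernel of `𝒪_{X,i z} → 𝒪_{Z,z}` is generated by a
weakly regular sequence, then there is `g ∈ Γ(X,U₀)` not vanishing at `i z` such that the kernel
of `Γ(X, D(g)) → Γ(Z, i⁻¹D(g))` is generated by a weakly regular sequence.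
-/

set_option autoImplicit false
universe u
open CategoryTheory AlgebraicGeometry TopologicalSpace RingTheory.Sequence

namespace Groth.Agent.Lib.RegSpreadGeom

open Groth.Agent.Lib.RegSpread Groth.Agent.Lib.ClosedImmStalk

variable {X Z : Scheme.{u}} (i : Z ⟶ X) (U₀ : X.affineOpens)

/-- The kernel over a basic open is the extension of the kernel. -/
theorem ker_app_basicOpen [IsClosedImmersion (i ∣_ U₀.1)] (g : Γ(X, U₀.1)) :
    RingHom.ker (i.app (X.basicOpen g)).hom =
      (RingHom.ker (i.app U₀.1).hom).map (X.presheaf.map (homOfLE (X.basicOpen_le g)).op).hom := by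
  have hV : IsAffineOpen (i ⁻¹ᵁ U₀.1) := isAffineOpen_preimage_of_restrict i U₀
  have hle : i ⁻¹ᵁ X.basicOpen g ≤ i ⁻¹ᵁ U₀.1 := fun _ hz => X.basicOpen_le g hz
  have hnat : ∀ a : Γ(X, U₀.1),
      (i.app (X.basicOpen g)).hom ((X.presheaf.map (homOfLE (X.basicOpen_le g)).op).hom a) =
        (Z.presheaf.map (homOfLE hle).op).hom ((i.app U₀.1).hom a) := by
    intro a
    have := i.naturality (homOfLE (X.basicOpen_le g)).op
    exact congr($(this).hom a)
  letI algX : Algebra Γ(X, U₀.1) Γ(X, X.basicOpen g) :=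
    (X.presheaf.map (homOfLE (X.basicOpen_le g)).op).hom.toAlgebra
  haveI locX : IsLocalization.Away g Γ(X, X.basicOpen g) := U₀.2.isLocalization_basicOpen g
  letI algZ : Algebra Γ(Z, i ⁻¹ᵁ U₀.1) Γ(Z, i ⁻¹ᵁ X.basicOpen g) :=
    (Z.presheaf.map (homOfLE hle).op).hom.toAlgebra
  haveI locZ : IsLocalization.Away ((i.app U₀.1).hom g) Γ(Z, i ⁻¹ᵁ X.basicOpen g) :=
    hV.isLocalization_of_eq_basicOpen _ (homOfLE hle) (Scheme.preimage_basicOpen i g)
  have halgX : ∀ a, algebraMap Γ(X, U₀.1) Γ(X, X.basicOpen g) a =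
      (X.presheaf.map (homOfLE (X.basicOpen_le g)).op).hom a := fun _ => rfl
  have halgZ : ∀ b, algebraMap Γ(Z, i ⁻¹ᵁ U₀.1) Γ(Z, i ⁻¹ᵁ X.basicOpen g) b =
      (Z.presheaf.map (homOfLE hle).op).hom b := fun _ => rfl
  apply le_antisymm
  · intro y hy
    rw [RingHom.mem_ker] at hy
    obtain ⟨⟨a, ⟨_, n, rfl⟩⟩, hya⟩ := IsLocalization.surj (Submonoid.powers g) y
    simp only at hya
    have hu : IsUnit (algebraMap Γ(X, U₀.1) Γ(X, X.basicOpen g) (g ^ n)) :=
      IsLocalization.map_units _ (⟨g ^ n, n, rfl⟩ : Submonoid.powers g)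
    have h0 : algebraMap Γ(Z, i ⁻¹ᵁ U₀.1) Γ(Z, i ⁻¹ᵁ X.basicOpen g) ((i.app U₀.1).hom a) = 0 := by
      rw [halgZ, ← hnat, ← halgX, ← hya, map_mul, hy, zero_mul]
    rw [IsLocalization.map_eq_zero_iff (Submonoid.powers ((i.app U₀.1).hom g))] at h0
    obtain ⟨⟨_, m, rfl⟩, hm⟩ := h0
    simp only at hm
    have hmem : g ^ m * a ∈ RingHom.ker (i.app U₀.1).hom := by
      rw [RingHom.mem_ker, map_mul, map_pow]; exact hm
    have h1 : algebraMap Γ(X, U₀.1) Γ(X, X.basicOpen g) a ∈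
        (RingHom.ker (i.app U₀.1).hom).map (algebraMap Γ(X, U₀.1) Γ(X, X.basicOpen g)) :=
      (mem_map_away_iff g _ _ a).mpr ⟨m, hmem⟩
    rw [← hya] at h1
    exact (Ideal.mul_unit_mem_iff_mem _ hu).mp h1
  · rw [Ideal.map_le_iff_le_comap]
    intro a ha
    rw [RingHom.mem_ker] at ha
    rw [Ideal.mem_comap, RingHom.mem_ker, hnat, ha, map_zero]

/-- Restriction to a basic open of a morphism which is a closed immersion over `U₀`. -/
theorem isClosedImmersion_restrict_basicOpen [h : IsClosedImmersion (i ∣_ U₀.1)] (g : Γ(X, U₀.1)) :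
    IsClosedImmersion (i ∣_ X.basicOpen g) := by
  have h1 : IsClosedImmersion (i ∣_ U₀.1 ∣_
      U₀.1.toScheme.basicOpen (X.presheaf.map (eqToHom U₀.1.isOpenEmbedding_obj_top).op g)) :=
    IsZariskiLocalAtTarget.restrict h _
  exact ((MorphismProperty.arrow_mk_iso_iff @IsClosedImmersion
    (morphismRestrictRestrictBasicOpen i U₀.1 g)).mp h1)

/-- **Spreading out, geometric form.** -/
theorem exists_spread_geom [IsLocallyNoetherian X] [IsClosedImmersion (i ∣_ U₀.1)] (z : Z)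
    (hz : i z ∈ U₀.1) (rs : List (X.presheaf.stalk (i z)))
    (hreg : IsWeaklyRegular (X.presheaf.stalk (i z)) rs)
    (hker : RingHom.ker (i.stalkMap z).hom = Ideal.ofList rs) :
    ∃ (g : Γ(X, U₀.1)) (as : List Γ(X, U₀.1)), i z ∈ X.basicOpen g ∧
      IsWeaklyRegular Γ(X, X.basicOpen g)
        (as.map (X.presheaf.map (homOfLE (X.basicOpen_le g)).op).hom) ∧
      RingHom.ker (i.app (X.basicOpen g)).hom =
        Ideal.ofList (as.map (X.presheaf.map (homOfLE (X.basicOpen_le g)).op).hom) := by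
  haveI : IsNoetherianRing Γ(X, U₀.1) := IsLocallyNoetherian.component_noetherian U₀
  letI alg : Algebra Γ(X, U₀.1) (X.presheaf.stalk (i z)) :=
    X.presheaf.algebra_section_stalk ⟨i z, hz⟩
  haveI hloc : IsLocalization.AtPrime (X.presheaf.stalk (i z))
      (U₀.2.primeIdealOf ⟨i z, hz⟩).asIdeal := U₀.2.isLocalization_stalk ⟨i z, hz⟩
  have halg : ∀ a, algebraMap Γ(X, U₀.1) (X.presheaf.stalk (i z)) a =
      (X.presheaf.germ U₀.1 (i z) hz).hom a := fun _ => rfl
  have hk := ker_stalkMap_eq_map_of_restrict i U₀ z hz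
  rw [hker] at hk
  have hk' : (RingHom.ker (i.app U₀.1).hom).map (algebraMap Γ(X, U₀.1) (X.presheaf.stalk (i z))) =
      Ideal.ofList rs := hk.symm
  -- lift the sequence
  have hlift : ∀ r ∈ rs, ∃ a : Γ(X, U₀.1), a ∈ RingHom.ker (i.app U₀.1).hom ∧
      ∃ u : (X.presheaf.stalk (i z))ˣ,
        algebraMap Γ(X, U₀.1) (X.presheaf.stalk (i z)) a = (u : X.presheaf.stalk (i z)) * r := by
    intro r hr
    have hr' : r ∈ (RingHom.ker (i.app U₀.1).hom).map
        (algebraMap Γ(X, U₀.1) (X.presheaf.stalk (i z))) := by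
      rw [hk']; exact Ideal.subset_span hr
    rw [IsLocalization.mem_map_algebraMap_iff (U₀.2.primeIdealOf ⟨i z, hz⟩).asIdeal.primeCompl] at hr'
    obtain ⟨⟨⟨a, ha⟩, s⟩, has⟩ := hr'
    simp only at has
    have hu : IsUnit (algebraMap Γ(X, U₀.1) (X.presheaf.stalk (i z)) s) :=
      IsLocalization.map_units _ s
    exact ⟨a, ha, hu.unit, by rw [← has, mul_comm]; rfl⟩
  choose! f hfI hfu using hlift
  have hF : List.Forall₂ (fun (r r' : X.presheaf.stalk (i z)) =>
      ∃ u : (X.presheaf.stalk (i z))ˣ, r' = (u : X.presheaf.stalk (i z)) * r) rs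
      ((rs.map f).map (algebraMap Γ(X, U₀.1) (X.presheaf.stalk (i z)))) := by
    rw [List.map_map, List.forall₂_map_right_iff, List.forall₂_same]
    intro r hr
    exact hfu r hr
  have hreg' := isWeaklyRegular_of_forall₂_units hF hreg
  have hgen' := ofList_eq_of_forall₂_units hF
  obtain ⟨g, hg, hspread, hgenI⟩ := exists_spread (U₀.2.primeIdealOf ⟨i z, hz⟩).asIdeal
    (X.presheaf.stalk (i z)) (RingHom.ker (i.app U₀.1).hom) (rs.map f) hreg'
    (by rw [hk', hgen'])
  refine ⟨g, rs.map f, ?_, ?_, ?_⟩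
  · exact (mem_basicOpen_iff_notMem_primeIdealOf U₀.1 U₀.2 (i z) hz g).mpr hg
  · letI algX : Algebra Γ(X, U₀.1) Γ(X, X.basicOpen g) :=
      (X.presheaf.map (homOfLE (X.basicOpen_le g)).op).hom.toAlgebra
    haveI locX : IsLocalization.Away g Γ(X, X.basicOpen g) := U₀.2.isLocalization_basicOpen g
    exact isWeaklyRegular_away g Γ(X, X.basicOpen g) (rs.map f) hspread
  · letI algX : Algebra Γ(X, U₀.1) Γ(X, X.basicOpen g) :=
      (X.presheaf.map (homOfLE (X.basicOpen_le g)).op).hom.toAlgebra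
    haveI locX : IsLocalization.Away g Γ(X, X.basicOpen g) := U₀.2.isLocalization_basicOpen g
    rw [ker_app_basicOpen i U₀ g]
    refine map_eq_ofList_away g Γ(X, X.basicOpen g) _ (rs.map f) ?_ hgenI
    intro a ha
    obtain ⟨r, hr, rfl⟩ := List.mem_map.mp ha
    exact hfI r hr

end Groth.Agent.Lib.RegSpreadGeom
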