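import Mathlib.RingTheory.Regular.RegularSequence
import Mathlib.Algebra.BigOperators.Pi
import Mathlib.Data.List.GetD
import Groth.Prelude.Def_CInt
import Groth.Prelude.Def_CAlgX

/-!
# Trivial (Koszul) relations of a list of ring elements (helper19)

For a list `fs` of elements of `A` and an `A`-module `M`, `trivRel M fs` is the submodule of `ℕ → M`
spanned by the trivial relations `f_j x e_i - f_i x e_j` (`i, j < fs.length`).  Vectors are indexed by
`ℕ` (extended by zero) to avoid dependent types.  Main result: for a weakly regular sequence every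
relation is trivial (`mem_trivRel_of_isWeaklyRegular`), hence `CInt.KoszulH1Zero`.
-/

universe u v

open scoped Pointwise

namespace Groth.Agent.Lib.TrivRel

variable {A : Type u} [CommRing A] (M : Type v) [AddCommGroup M] [Module A M]

/-- the submodule of `ℕ → M` spanned by the trivial relations of the list `fs` -/
def trivRel (fs : List A) : Submodule A (ℕ → M) :=
  Submodule.span A {v | ∃ (i j : ℕ) (x : M), i < fs.length ∧ j < fs.length ∧
    v = fs.getD j 0 • (Pi.single i x : ℕ → M) - fs.getD i 0 • (Pi.single j x : ℕ → M)}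

/-- shift a vector by one index, putting `0` in position `0` -/
def shift : (ℕ → M) →ₗ[A] (ℕ → M) where
  toFun v := fun k => if k = 0 then 0 else v (k - 1)
  map_add' v w := by
    funext k
    by_cases hk : k = 0 <;> simp [hk]
  map_smul' c v := by
    funext k
    by_cases hk : k = 0 <;> simp [hk]

variable {M}

@[simp] theorem shift_zero (v : ℕ → M) : shift (A := A) M v 0 = 0 := by simp [shift]

@[simp] theorem shift_succ (v : ℕ → M) (k : ℕ) : shift (A := A) M v (k + 1) = v k := by simp [shift]

theorem shift_single (i : ℕ) (x : M) :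
    shift (A := A) M (Pi.single i x) = Pi.single (i + 1) x := by
  funext k
  cases k with
  | zero => simp [Pi.single_apply]
  | succ k => simp [Pi.single_apply]

theorem gen_mem (fs : List A) (i j : ℕ) (x : M) (hi : i < fs.length) (hj : j < fs.length) :
    fs.getD j 0 • (Pi.single i x : ℕ → M) - fs.getD i 0 • (Pi.single j x : ℕ → M) ∈ trivRel M fs :=
  Submodule.subset_span ⟨i, j, x, hi, hj, rfl⟩

theorem shift_mem (f : A) (fs : List A) (v : ℕ → M) (hv : v ∈ trivRel M fs) :
    shift (A := A) M v ∈ trivRel M (f :: fs) := by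
  have : Submodule.map (shift (A := A) M) (trivRel M fs) ≤ trivRel M (f :: fs) := by
    rw [trivRel, Submodule.map_span_le]
    rintro _ ⟨i, j, x, hi, hj, rfl⟩
    rw [map_sub, map_smul, map_smul, shift_single, shift_single]
    have := gen_mem (M := M) (f :: fs) (i + 1) (j + 1) x (by simpa using hi) (by simpa using hj)
    simpa using this
  exact this ⟨v, hv, rfl⟩

/-- elements of `trivRel` vanish beyond the length of the list -/
theorem eq_zero_of_mem (fs : List A) (v : ℕ → M) (hv : v ∈ trivRel M fs) (k : ℕ)
    (hk : fs.length ≤ k) : v k = 0 := by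
  induction hv using Submodule.span_induction with
  | mem v hv =>
    obtain ⟨i, j, x, hi, hj, rfl⟩ := hv
    have h1 : k ≠ i := by omega
    have h2 : k ≠ j := by omega
    simp [Pi.single_apply, h1, h2]
  | zero => rfl
  | add v w _ _ hv hw => simp [hv, hw]
  | smul c v _ hv => simp [hv]

/-- elements of `trivRel` are relations -/
theorem sum_eq_zero_of_mem (fs : List A) (v : ℕ → M) (hv : v ∈ trivRel M fs) :
    ∑ k ∈ Finset.range fs.length, fs.getD k 0 • v k = 0 := by
  induction hv using Submodule.span_induction with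
  | mem v hv =>
    obtain ⟨i, j, x, hi, hj, rfl⟩ := hv
    simp only [Pi.sub_apply, Pi.smul_apply, Pi.single_apply, smul_sub, Finset.sum_sub_distrib]
    simp only [smul_ite, smul_zero, Finset.sum_ite_eq', Finset.mem_range, hi, hj, if_true]
    rw [smul_smul, smul_smul, mul_comm, sub_self]
  | zero => simp
  | add v w _ _ hv hw =>
    simp only [Pi.add_apply, smul_add, Finset.sum_add_distrib, hv, hw, add_zero]
  | smul c v _ hv =>
    simp only [Pi.smul_apply]
    have : ∀ k, fs.getD k 0 • c • v k = c • (fs.getD k 0 • v k) := fun k => smul_comm _ _ _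
    simp only [this, ← Finset.smul_sum, hv, smul_zero]


/-- the sum of the "new" trivial relations `f y_k e_{k+1} - f_k y_k e_0` lies in `trivRel (f :: fs)` -/
theorem sum_new_mem (f : A) (fs : List A) (y : ℕ → M) :
    ∑ k ∈ Finset.range fs.length,
      (f • (Pi.single (k + 1) (y k) : ℕ → M) - fs.getD k 0 • (Pi.single 0 (y k) : ℕ → M)) ∈
        trivRel M (f :: fs) := by
  refine Submodule.sum_mem _ (fun k hk => ?_)
  have hk' : k < fs.length := Finset.mem_range.mp hk
  have := gen_mem (M := M) (f :: fs) (k + 1) 0 (y k) (by simpa using hk') (by simp)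
  simpa using this

theorem sum_new_apply_zero (f : A) (fs : List A) (y : ℕ → M) :
    (∑ k ∈ Finset.range fs.length,
      (f • (Pi.single (k + 1) (y k) : ℕ → M) - fs.getD k 0 • (Pi.single 0 (y k) : ℕ → M))) 0 =
        -∑ k ∈ Finset.range fs.length, fs.getD k 0 • y k := by
  rw [Finset.sum_apply, ← Finset.sum_neg_distrib]
  refine Finset.sum_congr rfl (fun k _ => ?_)
  simp [Pi.single_apply]

theorem sum_new_apply_succ (f : A) (fs : List A) (y : ℕ → M) (k' : ℕ)
    (hy : fs.length ≤ k' → y k' = 0) :
    (∑ k ∈ Finset.range fs.length,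
      (f • (Pi.single (k + 1) (y k) : ℕ → M) - fs.getD k 0 • (Pi.single 0 (y k) : ℕ → M)))
        (k' + 1) = f • y k' := by
  rw [Finset.sum_apply]
  have : ∀ k ∈ Finset.range fs.length,
      (f • (Pi.single (k + 1) (y k) : ℕ → M) - fs.getD k 0 • (Pi.single 0 (y k) : ℕ → M)) (k' + 1) =
        if k' = k then f • y k' else 0 := by
    intro k _
    by_cases h : k' = k
    · subst h; simp [Pi.single_apply]
    · have h2 : ¬ (k' + 1 = k + 1) := by omega
      simp [Pi.single_apply, h, h2]
  rw [Finset.sum_congr rfl this, Finset.sum_ite_eq]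
  by_cases hk : k' < fs.length
  · rw [if_pos (Finset.mem_range.mpr hk)]
  · rw [if_neg (fun h => hk (Finset.mem_range.mp h)), hy (by omega), smul_zero]

open RingTheory.Sequence in
/-- **Regular sequences have only trivial relations.** -/
theorem mem_trivRel_of_isWeaklyRegular : ∀ (fs : List A) (M : Type v) [AddCommGroup M] [Module A M],
    IsWeaklyRegular M fs → ∀ a : ℕ → M, (∀ k, fs.length ≤ k → a k = 0) →
      ∑ i ∈ Finset.range fs.length, fs.getD i 0 • a i = 0 → a ∈ trivRel M fs
  | [], M, _, _, _, a, ha0, _ => by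
    have : a = 0 := funext fun k => ha0 k (Nat.zero_le k)
    rw [this]
    exact Submodule.zero_mem _
  | f :: fs, M, _, _, hreg, a, ha0, ha => by
    rw [isWeaklyRegular_cons_iff] at hreg
    obtain ⟨hf, hreg'⟩ := hreg
    rw [List.length_cons, Finset.sum_range_succ'] at ha
    simp only [List.getD_cons_succ, List.getD_cons_zero] at ha
    -- the relation modulo `f`
    let π : (ℕ → M) →ₗ[A] (ℕ → QuotSMulTop f M) := (Submodule.mkQ _).compLeft ℕ
    let abar : ℕ → QuotSMulTop f M := fun k => Submodule.Quotient.mk (a (k + 1))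
    have habar0 : ∀ k, fs.length ≤ k → abar k = 0 := by
      intro k hk
      show Submodule.Quotient.mk (a (k + 1)) = 0
      rw [ha0 (k + 1) (by simp; omega), Submodule.Quotient.mk_zero]
    have habar : ∑ i ∈ Finset.range fs.length, fs.getD i 0 • abar i = 0 := by
      have h1 : ∑ i ∈ Finset.range fs.length, fs.getD i 0 • abar i =
          Submodule.Quotient.mk (∑ i ∈ Finset.range fs.length, fs.getD i 0 • a (i + 1)) := by
        rw [← Submodule.mkQ_apply, map_sum]
        rfl
      rw [h1, Submodule.Quotient.mk_eq_zero, eq_neg_of_add_eq_zero_left ha]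
      exact Submodule.neg_mem _ (Submodule.smul_mem_pointwise_smul _ f ⊤ Submodule.mem_top)
    have ih := mem_trivRel_of_isWeaklyRegular fs (QuotSMulTop f M) hreg' abar habar0 habar
    -- lift to `M`
    have hlift : trivRel (QuotSMulTop f M) fs ≤ Submodule.map π (trivRel M fs) := by
      rw [trivRel, Submodule.span_le]
      rintro _ ⟨i, j, xbar, hi, hj, rfl⟩
      obtain ⟨x, rfl⟩ := Submodule.Quotient.mk_surjective _ xbar
      refine ⟨_, gen_mem fs i j x hi hj, ?_⟩
      have hπsingle : ∀ (i : ℕ) (x : M),
          π (Pi.single i x) = (Pi.single i (Submodule.Quotient.mk x) : ℕ → QuotSMulTop f M) := by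
        intro i x
        funext k
        show Submodule.Quotient.mk ((Pi.single i x : ℕ → M) k) = _
        by_cases h : k = i
        · subst h; simp
        · simp [Pi.single_apply, h]
      rw [map_sub, map_smul, map_smul, hπsingle, hπsingle]
    obtain ⟨b, hb, hπb⟩ := hlift ih
    have hdiff : ∀ k, ∃ y : M, a (k + 1) - b k = f • y := by
      intro k
      have h1 : (Submodule.Quotient.mk (a (k + 1) - b k) : QuotSMulTop f M) = 0 := by
        rw [Submodule.Quotient.mk_sub, sub_eq_zero]
        exact (congrFun hπb k).symm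
      rw [Submodule.Quotient.mk_eq_zero] at h1
      obtain ⟨y, -, hy⟩ := (Submodule.mem_smul_pointwise_iff_exists _ _ _).mp h1
      exact ⟨y, hy.symm⟩
    choose y hy using hdiff
    have hy0 : ∀ k, fs.length ≤ k → y k = 0 := by
      intro k hk
      apply hf
      show f • y k = f • 0
      rw [smul_zero, ← hy k, ha0 (k + 1) (by simp; omega), eq_zero_of_mem fs b hb k hk, sub_zero]
    have hb0 := sum_eq_zero_of_mem fs b hb
    -- the coefficient in position `0`
    have ha00 : a 0 = -∑ k ∈ Finset.range fs.length, fs.getD k 0 • y k := by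
      apply hf
      show f • a 0 = f • -∑ k ∈ Finset.range fs.length, fs.getD k 0 • y k
      have h1 : ∑ i ∈ Finset.range fs.length, fs.getD i 0 • a (i + 1) =
          f • ∑ k ∈ Finset.range fs.length, fs.getD k 0 • y k := by
        have : ∀ i, fs.getD i 0 • a (i + 1) = fs.getD i 0 • b i + f • (fs.getD i 0 • y i) := by
          intro i
          rw [smul_comm f, ← smul_add, ← hy i]
          congr 1
          abel
        rw [Finset.sum_congr rfl (fun i _ => this i), Finset.sum_add_distrib, hb0, zero_add,
          Finset.smul_sum]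
      rw [h1] at ha
      rw [smul_neg, eq_neg_iff_add_eq_zero, add_comm]
      exact ha
    have hdecomp : a = shift (A := A) M b + ∑ k ∈ Finset.range fs.length,
        (f • (Pi.single (k + 1) (y k) : ℕ → M) - fs.getD k 0 • (Pi.single 0 (y k) : ℕ → M)) := by
      funext k
      cases k with
      | zero =>
        rw [Pi.add_apply, shift_zero, zero_add, sum_new_apply_zero, ha00]
      | succ k =>
        rw [Pi.add_apply, shift_succ, sum_new_apply_succ f fs y k (hy0 k), ← hy k]
        abel
    rw [hdecomp]
    exact Submodule.add_mem _ (shift_mem f fs b hb) (sum_new_mem f fs y)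


section fin

variable (M)

/-- restriction of `ℕ`-indexed vectors to `Fin n` -/
def res (n : ℕ) : (ℕ → M) →ₗ[A] (Fin n → M) := LinearMap.funLeft A M Fin.val

variable {M}

/-- extension by zero of a `Fin n`-indexed vector -/
def ext0 {n : ℕ} (m : Fin n → M) : ℕ → M := fun k => if h : k < n then m ⟨k, h⟩ else 0

theorem res_apply (n : ℕ) (v : ℕ → M) (i : Fin n) : res (A := A) M n v i = v i := rfl

theorem res_ext0 {n : ℕ} (m : Fin n → M) : res (A := A) M n (ext0 m) = m := by
  funext i
  rw [res_apply, ext0, dif_pos i.2]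

theorem ext0_of_le {n : ℕ} (m : Fin n → M) (k : ℕ) (hk : n ≤ k) : ext0 m k = 0 := by
  rw [ext0, dif_neg (by omega)]

theorem res_single (n : ℕ) (i : ℕ) (hi : i < n) (x : M) :
    res (A := A) M n (Pi.single i x) = Pi.single (⟨i, hi⟩ : Fin n) x := by
  funext k
  rw [res_apply, Pi.single_apply, Pi.single_apply]
  by_cases h : (k : ℕ) = i
  · rw [if_pos h, if_pos (Fin.ext h)]
  · rw [if_neg h, if_neg (fun h' => h (congrArg Fin.val h'))]

theorem getD_ofFn {n : ℕ} (f : Fin n → A) (i : Fin n) : (List.ofFn f).getD (i : ℕ) 0 = f i := by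
  have hk : (i : ℕ) < (List.ofFn f).length := by rw [List.length_ofFn]; exact i.2
  rw [List.getD_eq_getElem _ _ hk, List.getElem_ofFn]

theorem sum_ext0 {n : ℕ} (f : Fin n → A) (m : Fin n → M) :
    ∑ i ∈ Finset.range (List.ofFn f).length, (List.ofFn f).getD i 0 • ext0 m i =
      ∑ i, f i • m i := by
  rw [List.length_ofFn, Finset.sum_range]
  refine Finset.sum_congr rfl (fun i _ => ?_)
  rw [getD_ofFn, ext0, dif_pos i.2]

/-- from `ℕ`-indexed triviality of relations to `CInt.KoszulH1Zero` -/
theorem koszulH1Zero_of_forall_mem {n : ℕ} (f : Fin n → A)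
    (h : ∀ a : ℕ → M, (∀ k, (List.ofFn f).length ≤ k → a k = 0) →
      ∑ i ∈ Finset.range (List.ofFn f).length, (List.ofFn f).getD i 0 • a i = 0 →
        a ∈ trivRel M (List.ofFn f)) : CInt.KoszulH1Zero f M := by
  intro m hm
  have h1 := h (ext0 m) (fun k hk => ext0_of_le m k (by rwa [List.length_ofFn] at hk))
    (by rw [sum_ext0, hm])
  have h2 : Submodule.map (res (A := A) M n) (trivRel M (List.ofFn f)) ≤
      Submodule.span A {v : Fin n → M | ∃ (i j : Fin n) (x : M),
        v = f j • (Pi.single i x : Fin n → M) - f i • (Pi.single j x : Fin n → M)} := by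
    rw [trivRel, Submodule.map_span_le]
    rintro _ ⟨i, j, x, hi, hj, rfl⟩
    rw [List.length_ofFn] at hi hj
    apply Submodule.subset_span
    refine ⟨⟨i, hi⟩, ⟨j, hj⟩, x, ?_⟩
    rw [map_sub, map_smul, map_smul, res_single n i hi, res_single n j hj]
    congr 2
    · exact getD_ofFn f ⟨j, hj⟩
    · exact getD_ofFn f ⟨i, hi⟩
  have h3 := h2 ⟨_, h1, rfl⟩
  rwa [res_ext0] at h3

open RingTheory.Sequence in
/-- a weakly regular sequence has vanishing first Koszul homology (all relations are trivial) -/
theorem koszulH1Zero_of_isWeaklyRegular {n : ℕ} (f : Fin n → A)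
    (hreg : IsWeaklyRegular M (List.ofFn f)) : CInt.KoszulH1Zero f M :=
  koszulH1Zero_of_forall_mem f (mem_trivRel_of_isWeaklyRegular (List.ofFn f) M hreg)

/-- from `ℕ`-indexed triviality of relations to `CAlgX.IsH1Regular` -/
theorem isH1Regular_of_forall_mem {n : ℕ} (f : Fin n → A)
    (h : ∀ a : ℕ → A, (∀ k, (List.ofFn f).length ≤ k → a k = 0) →
      ∑ i ∈ Finset.range (List.ofFn f).length, (List.ofFn f).getD i 0 • a i = 0 →
        a ∈ trivRel A (List.ofFn f)) : CAlgX.IsH1Regular f := by
  intro a ha
  have hk := koszulH1Zero_of_forall_mem f h a (by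
    rw [← ha]
    exact Finset.sum_congr rfl (fun i _ => by rw [smul_eq_mul, mul_comm]))
  refine Submodule.span_le.mpr ?_ hk
  rintro _ ⟨i, j, x, rfl⟩
  have : f j • (Pi.single i x : Fin n → A) - f i • (Pi.single j x : Fin n → A) =
      x • (Pi.single i (f j) - Pi.single j (f i) : Fin n → A) := by
    funext k
    simp only [Pi.sub_apply, Pi.smul_apply, Pi.single_apply, smul_eq_mul]
    split_ifs <;> ring
  rw [this]
  exact Submodule.smul_mem _ _ (Submodule.subset_span ⟨i, j, rfl⟩)

end fin

end Groth.Agent.Lib.TrivRel
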