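import Groth.Agent.Lib.KoszulRel
import Groth.Agent.Lib.TrivRel
import Groth.Prelude.Def_LCI2

/-!
# Coboundaries in degree `-1` of the Koszul complex are trivial relations (helper19)

* `coordVec_d_mem`: the coordinate vector of a coboundary `d w` (`w` in degree `-2`) of the prelude Koszul
  complex `CohIII.koszulCx M fs` lies in `TrivRel.trivRel M fs`;
* `mem_trivRel_of_isZero_homology`: if `H^{-1}(fs; M) = 0`, every relation `∑ f_i a_i = 0` is a combination
  of trivial relations;
* `isH1Regular_of_isKoszulRegularSeq`: Koszul-regular ⇒ `H_1`-regular.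
-/

universe u

open CategoryTheory CategoryTheory.Limits CochainComplex HomologicalComplex
open scoped Pointwise

namespace Groth.Agent.Lib.KoszulRel

open Groth.Agent.Lib.KoszulCone Groth.Agent.Lib.KoszulElem Groth.Agent.Lib.KoszulDepth CohIII
open Groth.Agent.Lib.TrivRel

variable {A : Type u} [CommRing A] (M : ModuleCat.{u} A)

theorem coordAt_eq_zero_of_le : ∀ (fs : List A) (j : ℤ) (h : j = -1) (k : ℕ),
    fs.length ≤ k → ∀ z : (koszulCx M fs).X j, coordAt M fs j h k z = 0
  | [], _, _, _, _, _ => rfl
  | f :: fs, j, h, 0, hk, _ => by simp at hk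
  | f :: fs, j, h, (k + 1), hk, z => by
    rw [coordAt_cons_succ]
    exact coordAt_eq_zero_of_le fs j h k (by simpa using hk) _

/-- the coordinate vector of an element of degree `-1` -/
noncomputable def coordVec (fs : List A) (j : ℤ) (h : j = -1) (z : (koszulCx M fs).X j) : ℕ → M :=
  fun k => coordAt M fs j h k z

/-- coordinates of coboundaries are combinations of trivial relations -/
theorem coordVec_d_mem : ∀ (fs : List A) (i j : ℤ) (hij : i + 1 = j) (h : j = -1)
    (w : (koszulCx M fs).X i),
    coordVec M fs j h ((koszulCx M fs).d i j w) ∈ trivRel (A := A) M fs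
  | [], i, j, hij, h, w => by
    have : coordVec M [] j h ((koszulCx M []).d i j w) = 0 := by
      funext k
      rfl
    rw [this]
    exact Submodule.zero_mem _
  | f :: fs, i, j, hij, h, w => by
    subst hij
    have ih := coordVec_d_mem fs i (i + 1) rfl h (sndE (f • 𝟙 (koszulCx M fs)) i w)
    let c : ℕ → M := fun k => coordAt M fs (i + 1) h k (fstE (f • 𝟙 (koszulCx M fs)) i w)
    have hc0 : ∀ k, fs.length ≤ k → c k = 0 := fun k hk => coordAt_eq_zero_of_le M fs _ h k hk _
    have hdecomp : coordVec M (f :: fs) (i + 1) h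
        ((mappingCone (f • 𝟙 (koszulCx M fs))).d i (i + 1) w) =
        shift (A := A) M (coordVec M fs (i + 1) h
          ((koszulCx M fs).d i (i + 1) (sndE (f • 𝟙 (koszulCx M fs)) i w))) +
        ∑ k ∈ Finset.range fs.length,
          (f • (Pi.single (k + 1) (c k) : ℕ → M) - fs.getD k 0 • (Pi.single 0 (c k) : ℕ → M)) := by
      funext k
      cases k with
      | zero =>
        rw [Pi.add_apply, shift_zero, zero_add, sum_new_apply_zero]
        show coordAt M (f :: fs) (i + 1) h 0 _ = _
        rw [coordAt_cons_zero, fstE_d, map_neg,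
          top_d_eq_sum M fs (i + 1) (i + 1 + 1) h rfl (by omega)]
      | succ k =>
        rw [Pi.add_apply, shift_succ, sum_new_apply_succ f fs c k (hc0 k)]
        show coordAt M (f :: fs) (i + 1) h (k + 1) _ = coordAt M fs (i + 1) h k _ + f • c k
        rw [coordAt_cons_succ, sndE_d, smul_id_f_apply, map_add, map_smul, add_comm]
    refine (congrArg (· ∈ trivRel (A := A) M (f :: fs)) hdecomp).mpr ?_
    exact Submodule.add_mem _ (shift_mem f fs _ ih) (sum_new_mem f fs c)

/-- **Relations are trivial.** If `H^{-1}(fs; M) = 0`, every relation `∑ f_i a_i = 0` is a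
combination of the trivial relations. -/
theorem mem_trivRel_of_isZero_homology (fs : List A)
    (hH : IsZero ((koszulCx M fs).homology (-1))) (a : ℕ → M)
    (ha0 : ∀ k, fs.length ≤ k → a k = 0)
    (ha : ∑ i ∈ Finset.range fs.length, fs.getD i 0 • a i = 0) : a ∈ trivRel (A := A) M fs := by
  obtain ⟨z, hz⟩ := exists_coordAt_eq M fs (-1) rfl a
  have hdz : (koszulCx M fs).d (-1) (-1 + 1) z = 0 := by
    apply (top_bijective M fs (-1 + 1) (by norm_num)).1
    rw [top_d_eq_sum M fs (-1) (-1 + 1) rfl rfl (by norm_num) z, map_zero, ← ha]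
    exact Finset.sum_congr rfl (fun i hi => by rw [hz i (Finset.mem_range.mp hi)])
  obtain ⟨c, hc⟩ := exists_cycle_of_d_eq_zero (koszulCx M fs) (-1) (-1 + 1) rfl z hdz
  have hπ : (koszulCx M fs).homologyπ (-1) c = 0 :=
    (ModuleCat.subsingleton_of_isZero hH).elim _ _
  obtain ⟨w, hw⟩ := exists_boundary_of_homologyπ_eq_zero (koszulCx M fs) (-2) (-1) (by norm_num) c hπ
  rw [hc] at hw
  have hav : a = coordVec M fs (-1) rfl z := by
    funext k
    by_cases hk : k < fs.length
    · exact (hz k hk).symm
    · rw [ha0 k (by omega)]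
      exact (coordAt_eq_zero_of_le M fs (-1) rfl k (by omega) z).symm
  rw [hav, hw]
  exact coordVec_d_mem M fs (-2) (-1) (by norm_num) rfl w


theorem koszul_eq (A : Type u) [CommRing A] :
    ∀ l : List A, Koszul.koszul A l = CohIII.koszulCx (ModuleCat.of A A) l
  | [] => rfl
  | f :: l => by
    show CochainComplex.mappingCone (f • 𝟙 (Koszul.koszul A l)) =
      CochainComplex.mappingCone (f • 𝟙 (CohIII.koszulCx (ModuleCat.of A A) l))
    rw [koszul_eq A l]

/-- **Koszul-regular ⇒ `H_1`-regular** (`Fin`-indexed form). -/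
theorem isH1Regular_of_isKoszulRegularSeq {n : ℕ} (f : Fin n → A)
    (hf : LCI.IsKoszulRegularSeq A (List.ofFn f)) : CAlgX.IsH1Regular f :=
  isH1Regular_of_forall_mem f (fun a ha0 ha =>
    mem_trivRel_of_isZero_homology (ModuleCat.of A A) (List.ofFn f)
      (by rw [← koszul_eq]; exact hf (-1) (by norm_num)) a ha0 ha)

/-- **Koszul-regular ⇒ `H_1`-regular** (list form, as in `RegImm.Kind.Seq`). -/
theorem isH1Regular_get_of_isKoszulRegularSeq (rs : List A)
    (hf : LCI.IsKoszulRegularSeq A rs) : CAlgX.IsH1Regular rs.get :=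
  isH1Regular_of_isKoszulRegularSeq rs.get (by rwa [List.ofFn_get])

end Groth.Agent.Lib.KoszulRel
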