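import Mathlib.Algebra.Homology.HomotopyCategory.ShortExact
import Mathlib.Algebra.Homology.HomotopyCategory.Pretriangulated
import Mathlib.Algebra.Homology.ShortComplex.ModuleCat
import Mathlib.Algebra.Homology.HomologicalComplexAbelian
import Mathlib.Algebra.Category.ModuleCat.Abelian
import Mathlib.Algebra.Homology.Linear
import Mathlib.RingTheory.Regular.RegularSequence
import Mathlib.Algebra.Homology.SingleHomology
import Mathlib.Algebra.Homology.QuasiIso

/-!
# Koszul complexes as iterated mapping cones (helper19)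

`kcx M fs` is the iterated mapping cone model of the Koszul complex of a module `M` on a list `fs`
(the same recursion as the prelude's `CohIII.koszulCx`; `Koszul.koszul A l` is the case `M = A`).
-/

universe u

open CategoryTheory CategoryTheory.Limits CochainComplex HomologicalComplex
open scoped Pointwise

namespace Groth.Agent.Lib.KoszulCone

variable {A : Type u} [CommRing A]

section cone

variable {F G : CochainComplex (ModuleCat.{u} A) ℤ} (φ : F ⟶ G)

/-- first coordinate of an element of the cone -/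
noncomputable def fstE (n : ℤ) (z : (mappingCone φ).X n) : F.X (n + 1) :=
  ((mappingCone.fst φ).1.v n (n + 1) rfl) z

/-- second coordinate of an element of the cone -/
noncomputable def sndE (n : ℤ) (z : (mappingCone φ).X n) : G.X n :=
  ((mappingCone.snd φ).v n n (add_zero n)) z

/-- an element of the cone from its coordinates -/
noncomputable def mkE (n : ℤ) (a : F.X (n + 1)) (b : G.X n) : (mappingCone φ).X n :=
  ((mappingCone.inl φ).v (n + 1) n (by omega)) a + ((mappingCone.inr φ).f n) b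

theorem mkE_fstE_sndE (n : ℤ) (z : (mappingCone φ).X n) :
    mkE φ n (fstE φ n z) (sndE φ n z) = z := by
  have h := mappingCone.id_X φ n (n + 1) rfl
  have h2 := congrArg (fun f => (ConcreteCategory.hom f) z) h
  simpa [mkE, fstE, sndE] using h2

theorem fstE_mkE (n : ℤ) (a : F.X (n + 1)) (b : G.X n) : fstE φ n (mkE φ n a b) = a := by
  simp only [mkE, fstE, map_add]
  rw [← ConcreteCategory.comp_apply, ← ConcreteCategory.comp_apply,
    mappingCone.inl_v_fst_v, mappingCone.inr_f_fst_v]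
  simp

theorem sndE_mkE (n : ℤ) (a : F.X (n + 1)) (b : G.X n) : sndE φ n (mkE φ n a b) = b := by
  simp only [mkE, sndE, map_add]
  rw [← ConcreteCategory.comp_apply, ← ConcreteCategory.comp_apply,
    mappingCone.inl_v_snd_v, mappingCone.inr_f_snd_v]
  simp

end cone

section map

variable {K₁ L₁ K₂ L₂ : CochainComplex (ModuleCat.{u} A) ℤ} (φ₁ : K₁ ⟶ L₁) (φ₂ : K₂ ⟶ L₂)
  (a : K₁ ⟶ K₂) (b : L₁ ⟶ L₂) (comm : φ₁ ≫ b = a ≫ φ₂)

theorem map_mkE (n : ℤ) (x : K₁.X (n + 1)) (y : L₁.X n) :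
    (mappingCone.map φ₁ φ₂ a b comm).f n (mkE φ₁ n x y) = mkE φ₂ n (a.f (n + 1) x) (b.f n y) := by
  have h1 : (mappingCone.inl φ₁).v (n + 1) n (by omega) ≫ (mappingCone.map φ₁ φ₂ a b comm).f n =
      a.f (n + 1) ≫ (mappingCone.inl φ₂).v (n + 1) n (by omega) := by
    simp [mappingCone.map]
  have h2 : (mappingCone.inr φ₁).f n ≫ (mappingCone.map φ₁ φ₂ a b comm).f n =
      b.f n ≫ (mappingCone.inr φ₂).f n := by
    simp [mappingCone.map]
  simp only [mkE, map_add]
  rw [← ConcreteCategory.comp_apply, ← ConcreteCategory.comp_apply, h1, h2]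
  simp

theorem map_apply (n : ℤ) (z : (mappingCone φ₁).X n) :
    (mappingCone.map φ₁ φ₂ a b comm).f n z =
      mkE φ₂ n (a.f (n + 1) (fstE φ₁ n z)) (b.f n (sndE φ₁ n z)) := by
  conv_lhs => rw [← mkE_fstE_sndE φ₁ n z]
  exact map_mkE φ₁ φ₂ a b comm n _ _

theorem mkE_eq_zero_iff {F G : CochainComplex (ModuleCat.{u} A) ℤ} (φ : F ⟶ G) (n : ℤ)
    (x : F.X (n + 1)) (y : G.X n) : mkE φ n x y = 0 ↔ x = 0 ∧ y = 0 := by
  constructor
  · intro h
    have h1 := congrArg (fstE φ n) h
    have h2 := congrArg (sndE φ n) h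
    rw [fstE_mkE] at h1
    rw [sndE_mkE] at h2
    refine ⟨h1.trans ?_, h2.trans ?_⟩
    · simp [fstE]
    · simp [sndE]
  · rintro ⟨rfl, rfl⟩
    simp [mkE]

end map

section degexact

/-- Degreewise short exactness of a pair of composable maps of complexes of modules. -/
def DegExact {K₁ K₂ K₃ : CochainComplex (ModuleCat.{u} A) ℤ} (i : K₁ ⟶ K₂) (p : K₂ ⟶ K₃) : Prop :=
  ∀ n, Function.Injective (i.f n) ∧ Function.Exact (i.f n) (p.f n) ∧ Function.Surjective (p.f n)

variable {K₁ K₂ K₃ L₁ L₂ L₃ : CochainComplex (ModuleCat.{u} A) ℤ}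

theorem DegExact.cone (φ₁ : K₁ ⟶ L₁) (φ₂ : K₂ ⟶ L₂) (φ₃ : K₃ ⟶ L₃)
    (a₁ : K₁ ⟶ K₂) (a₂ : K₂ ⟶ K₃) (b₁ : L₁ ⟶ L₂) (b₂ : L₂ ⟶ L₃)
    (c₁ : φ₁ ≫ b₁ = a₁ ≫ φ₂) (c₂ : φ₂ ≫ b₂ = a₂ ≫ φ₃)
    (ha : DegExact a₁ a₂) (hb : DegExact b₁ b₂) :
    DegExact (mappingCone.map φ₁ φ₂ a₁ b₁ c₁) (mappingCone.map φ₂ φ₃ a₂ b₂ c₂) := by
  intro n
  refine ⟨?_, ?_, ?_⟩
  · intro z w h
    rw [map_apply, map_apply] at h
    have h1 := congrArg (fstE φ₂ n) h
    have h2 := congrArg (sndE φ₂ n) h
    rw [fstE_mkE, fstE_mkE] at h1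
    rw [sndE_mkE, sndE_mkE] at h2
    rw [← mkE_fstE_sndE φ₁ n z, ← mkE_fstE_sndE φ₁ n w, (ha (n + 1)).1 h1, (hb n).1 h2]
  · intro z
    constructor
    · intro hz
      rw [map_apply, mkE_eq_zero_iff] at hz
      obtain ⟨x, hx⟩ := ((ha (n + 1)).2.1 _).mp hz.1
      obtain ⟨y, hy⟩ := ((hb n).2.1 _).mp hz.2
      refine ⟨mkE φ₁ n x y, ?_⟩
      rw [map_mkE, hx, hy, mkE_fstE_sndE]
    · rintro ⟨w, rfl⟩
      rw [map_apply, map_apply, fstE_mkE, sndE_mkE, mkE_eq_zero_iff]
      exact ⟨(ha (n + 1)).2.1.apply_apply_eq_zero _, (hb n).2.1.apply_apply_eq_zero _⟩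
  · intro z
    obtain ⟨x, hx⟩ := (ha (n + 1)).2.2 (fstE φ₃ n z)
    obtain ⟨y, hy⟩ := (hb n).2.2 (sndE φ₃ n z)
    refine ⟨mkE φ₂ n x y, ?_⟩
    rw [map_mkE, hx, hy, mkE_fstE_sndE]

/-- Degreewise short exactness gives a short exact short complex of complexes. -/
theorem DegExact.shortExact (i : K₁ ⟶ K₂) (p : K₂ ⟶ K₃) (h : DegExact i p) :
    ∃ w : i ≫ p = 0, (ShortComplex.mk i p w).ShortExact := by
  have w : i ≫ p = 0 := by
    ext n : 1
    apply ModuleCat.hom_ext
    ext z
    exact (h n).2.1.apply_apply_eq_zero z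
  refine ⟨w, HomologicalComplex.shortExact_of_degreewise_shortExact _ fun n => ?_⟩
  exact ModuleCat.shortComplex_shortExact _ (h n).2.1 (h n).1 (h n).2.2

theorem degExact_of_shortExact (S : ShortComplex (CochainComplex (ModuleCat.{u} A) ℤ))
    (hS : S.ShortExact) : DegExact S.f S.g := by
  intro n
  have h := (HomologicalComplex.shortExact_iff_degreewise_shortExact S).mp hS n
  exact ⟨h.moduleCat_injective_f,
    (ShortComplex.ShortExact.moduleCat_exact_iff_function_exact _).mp h.exact,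
    h.moduleCat_surjective_g⟩

end degexact

section kcx

/-- The Koszul complex of `M` on the list `fs` (iterated mapping cones). -/
noncomputable def kcx (M : ModuleCat.{u} A) : List A → CochainComplex (ModuleCat.{u} A) ℤ
  | [] => (HomologicalComplex.single (ModuleCat.{u} A) (ComplexShape.up ℤ) 0).obj M
  | f :: fs => CochainComplex.mappingCone (f • 𝟙 (kcx M fs))

/-- Functoriality of the Koszul complex in the module. -/
noncomputable def kmap {M N : ModuleCat.{u} A} (φ : M ⟶ N) :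
    ∀ fs : List A, kcx M fs ⟶ kcx N fs
  | [] => (HomologicalComplex.single (ModuleCat.{u} A) (ComplexShape.up ℤ) 0).map φ
  | f :: fs => mappingCone.map (f • 𝟙 (kcx M fs)) (f • 𝟙 (kcx N fs)) (kmap φ fs) (kmap φ fs)
      (by simp [Linear.smul_comp, Linear.comp_smul])

theorem kmap_degExact (S : ShortComplex (ModuleCat.{u} A)) (hS : S.ShortExact) :
    ∀ fs : List A, DegExact (kmap S.f fs) (kmap S.g fs)
  | [] => degExact_of_shortExact
      (S.map (HomologicalComplex.single (ModuleCat.{u} A) (ComplexShape.up ℤ) 0))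
      (hS.map_of_exact _)
  | _ :: fs => DegExact.cone _ _ _ _ _ _ _ _ _ (kmap_degExact S hS fs) (kmap_degExact S hS fs)

theorem smul_id_comm {K : CochainComplex (ModuleCat.{u} A) ℤ} (g f : A) :
    (g • 𝟙 K) ≫ (f • 𝟙 K) = (f • 𝟙 K) ≫ (g • 𝟙 K) := by
  rw [Linear.smul_comp, Linear.comp_smul, Linear.smul_comp, Linear.comp_smul, Category.id_comp,
    smul_comm]

theorem cone_map_smul {K : CochainComplex (ModuleCat.{u} A) ℤ} (g f : A) :
    mappingCone.map (g • 𝟙 K) (g • 𝟙 K) (f • 𝟙 K) (f • 𝟙 K) (smul_id_comm g f) =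
      f • 𝟙 (mappingCone (g • 𝟙 K)) := by
  ext n : 1
  rw [mappingCone.ext_from_iff _ (n + 1) n rfl]
  constructor
  · simp [mappingCone.map, Linear.smul_comp, Linear.comp_smul]
  · simp [mappingCone.map, Linear.smul_comp, Linear.comp_smul]

theorem kmap_smul_id (M : ModuleCat.{u} A) (f : A) :
    ∀ fs : List A, kmap (f • 𝟙 M) fs = f • 𝟙 (kcx M fs)
  | [] => by
    apply HomologicalComplex.from_single_hom_ext
    simp only [kmap]
    rw [HomologicalComplex.single_map_f_self]
    simp [Linear.smul_comp, Linear.comp_smul]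
    rfl
  | g :: fs => by
    have ih := kmap_smul_id M f fs
    simp only [kmap, ih]
    exact cone_map_smul g f

end kcx

section regular

open RingTheory.Sequence

variable (M : Type u) [AddCommGroup M] [Module A M]

/-- The short exact sequence `0 → M → M → M/fM → 0` for an `M`-regular element `f`. -/
noncomputable def sesSmul (f : A) : ShortComplex (ModuleCat.{u} A) :=
  ShortComplex.mk (f • 𝟙 (ModuleCat.of A M))
    (ModuleCat.ofHom (Submodule.mkQ (f • (⊤ : Submodule A M)))) (by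
      apply ModuleCat.hom_ext
      ext m
      show Submodule.Quotient.mk (f • m) = 0
      rw [Submodule.Quotient.mk_eq_zero]
      exact Submodule.smul_mem_pointwise_smul m f ⊤ Submodule.mem_top)

theorem sesSmul_shortExact (f : A) (hf : IsSMulRegular M f) : (sesSmul M f).ShortExact := by
  refine ModuleCat.shortComplex_shortExact _ ?_ ?_ ?_
  · intro (m : M)
    show Submodule.Quotient.mk m = (0 : M ⧸ f • (⊤ : Submodule A M)) ↔ ∃ n : M, f • n = m
    rw [Submodule.Quotient.mk_eq_zero, Submodule.mem_smul_pointwise_iff_exists]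
    constructor
    · rintro ⟨n, _, rfl⟩
      exact ⟨n, rfl⟩
    · rintro ⟨n, rfl⟩
      exact ⟨n, Submodule.mem_top, rfl⟩
  · intro (m : M) (n : M) h
    exact hf h
  · exact Submodule.mkQ_surjective _

/-- For an `M`-regular element `f`, the Koszul complex of `M` on `f :: fs` is quasi-isomorphic to
the Koszul complex of `M/fM` on `fs`. -/
theorem exists_quasiIso_cons (f : A) (hf : IsSMulRegular M f) (fs : List A) :
    ∃ q : kcx (ModuleCat.of A M) (f :: fs) ⟶ kcx (ModuleCat.of A (QuotSMulTop f M)) fs,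
      QuasiIso q := by
  have h1 := kmap_degExact (sesSmul M f) (sesSmul_shortExact M f hf) fs
  have h2 : kmap (sesSmul M f).f fs = f • 𝟙 (kcx (ModuleCat.of A M) fs) :=
    kmap_smul_id (ModuleCat.of A M) f fs
  rw [h2] at h1
  obtain ⟨w, hS⟩ := h1.shortExact
  exact ⟨mappingCone.descShortComplex (ShortComplex.mk _ _ w),
    mappingCone.quasiIso_descShortComplex hS⟩

theorem isZero_homology_of_isWeaklyRegular : ∀ (fs : List A) (M : Type u) [AddCommGroup M]
    [Module A M], IsWeaklyRegular M fs → ∀ n : ℤ, n ≠ 0 →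
      IsZero ((kcx (ModuleCat.of A M) fs).homology n)
  | [], M, _, _, _, n, hn => by
    rw [← HomologicalComplex.exactAt_iff_isZero_homology]
    exact HomologicalComplex.exactAt_single_obj _ _ _ _ hn
  | f :: fs, M, _, _, h, n, hn => by
    rw [isWeaklyRegular_cons_iff] at h
    obtain ⟨q, hq⟩ := exists_quasiIso_cons M f h.1 fs
    have ih := isZero_homology_of_isWeaklyRegular fs (QuotSMulTop f M) h.2 n hn
    exact IsZero.of_iso ih (isoOfQuasiIsoAt q n)

theorem nonempty_homology_zero_iso_of_isWeaklyRegular : ∀ (fs : List A) (M : Type u)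
    [AddCommGroup M] [Module A M], IsWeaklyRegular M fs →
      Nonempty ((kcx (ModuleCat.of A M) fs).homology 0 ≅
        ModuleCat.of A (M ⧸ (Ideal.ofList fs • ⊤ : Submodule A M)))
  | [], M, _, _, _ => by
    have e : (M ⧸ (Ideal.ofList ([] : List A) • ⊤ : Submodule A M)) ≃ₗ[A] M :=
      Submodule.quotEquivOfEqBot _ (by rw [Ideal.ofList_nil, Submodule.bot_smul])
    exact ⟨HomologicalComplex.singleObjHomologySelfIso _ _ _ ≪≫ e.symm.toModuleIso⟩
  | f :: fs, M, _, _, h => by
    rw [isWeaklyRegular_cons_iff] at h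
    obtain ⟨q, hq⟩ := exists_quasiIso_cons M f h.1 fs
    obtain ⟨ih⟩ := nonempty_homology_zero_iso_of_isWeaklyRegular fs (QuotSMulTop f M) h.2
    exact ⟨isoOfQuasiIsoAt q 0 ≪≫ ih ≪≫
      (Submodule.quotOfListConsSMulTopEquivQuotSMulTopInner M f fs).symm.toModuleIso⟩

end regular

end Groth.Agent.Lib.KoszulCone
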