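import Groth.Agent.Lib.PerfHomPresentation
import Groth.Agent.Lib.KoszulElem2
import Groth.Agent.Lib.KoszulRel2
import Groth.Agent.S15821
import Groth.Prelude.Def_LCI2

/-!
# The quotient by a Koszul-regular sequence is a perfect module / perfect ring map

Namespace `Groth.Agent.Lib.KoszulPerfect`.

* `nonempty_toD_iso_single` : a complex with homology concentrated in degree `0` is isomorphic
  in the derived category to its `H^0` placed in degree `0`.
* `fp_koszul`, `isZero_koszul_X` : the terms of `Koszul.koszul A l` are finite projective, zero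
  outside `[-r, 0]`.
* `isPerfectModule_of_isKoszulRegularSeq`, `isPerfectHom_quotient_of_isKoszulRegularSeq`.
-/

set_option autoImplicit false
universe u
open CategoryTheory CategoryTheory.Limits
attribute [local instance] HasDerivedCategory.standard

namespace Groth.Agent.Lib.KoszulPerfect

open Groth.Agent.Lib.DRingPCoh21

variable {A : Type u} [CommRing A]

/-- a complex with homology concentrated in degree `0` -/
lemma nonempty_toD_iso_single (E : DRing.Cx A) (M : ModuleCat.{u} A)
    (hz : ∀ i : ℤ, i ≠ 0 → IsZero (E.homology i)) (e : E.homology 0 ≅ M) :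
    Nonempty (DRing.toD E ≅ (DerivedCategory.singleFunctor (ModuleCat.{u} A) 0).obj M) := by
  have h1 : E.IsGE 0 := by
    rw [CochainComplex.isGE_iff]
    intro i hi
    rw [HomologicalComplex.exactAt_iff_isZero_homology]
    exact hz i (by lia)
  have h2 : E.IsLE 0 := by
    rw [CochainComplex.isLE_iff]
    intro i hi
    rw [HomologicalComplex.exactAt_iff_isZero_homology]
    exact hz i (by lia)
  obtain ⟨Y, ⟨e'⟩⟩ := DerivedCategory.exists_iso_singleFunctor_obj_of_isGE_of_isLE
    (DerivedCategory.Q.obj E) 0
  have e1 : Y ≅ M :=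
    ((DerivedCategory.singleFunctorCompHomologyFunctorIso (ModuleCat.{u} A) 0).app Y).symm ≪≫
      (DerivedCategory.homologyFunctor (ModuleCat.{u} A) 0).mapIso e'.symm ≪≫
      (DerivedCategory.homologyFunctorFactors (ModuleCat.{u} A) 0).app E ≪≫ e
  exact ⟨e' ≪≫ (DerivedCategory.singleFunctor (ModuleCat.{u} A) 0).mapIso e1⟩

/-- the terms of the Koszul complex are finite projective -/
lemma fp_koszul : ∀ (l : List A) (n : ℤ), FP A ((Koszul.koszul A l).X n)
  | [], n => by
    by_cases hn : n = 0
    · subst hn
      exact (FP A).prop_of_iso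
        (HomologicalComplex.singleObjXSelf (ComplexShape.up ℤ) 0 (ModuleCat.of A A)).symm
        ⟨inferInstanceAs (Module.Finite A A), inferInstanceAs (Module.Projective A A)⟩
    · exact (FP A).prop_of_isZero
        (HomologicalComplex.isZero_single_obj_X (ComplexShape.up ℤ) 0 (ModuleCat.of A A) n hn)
  | f :: l, n => by
    have e := HomologicalComplex.homotopyCofiber.XIsoBiprod (f • 𝟙 (Koszul.koszul A l)) n (n + 1)
      (by simp)
    exact (FP A).prop_of_iso (e ≪≫ biprod.isoProd _ _).symm
      (fp_prod A _ _ (fp_koszul l (n + 1)) (fp_koszul l n))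

/-- the Koszul complex vanishes outside `[-r, 0]` -/
lemma isZero_koszul_X (l : List A) (j : ℤ) (h : j < -(l.length : ℤ) ∨ 0 < j) :
    IsZero ((Koszul.koszul A l).X j) := by
  rw [Groth.Agent.Lib.KoszulRel.koszul_eq]
  have := Groth.Agent.Lib.KoszulElem.subsingleton_X (ModuleCat.of A A) l j h
  exact ModuleCat.isZero_of_subsingleton _

/-- `H^0` of the Koszul complex of any list is `A/(l)` -/
lemma nonempty_homology_zero_iso (l : List A) :
    Nonempty ((Koszul.koszul A l).homology 0 ≅ ModuleCat.of A (A ⧸ Ideal.ofList l)) := by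
  rw [Groth.Agent.Lib.KoszulRel.koszul_eq]
  obtain ⟨e⟩ := Groth.Agent.Lib.KoszulElem.nonempty_homology_top_linearEquiv
    (ModuleCat.of A A) l 0 rfl
  have h : (Ideal.ofList l • (⊤ : Submodule A A)) = Ideal.ofList l := by
    rw [smul_eq_mul, Ideal.mul_top]
  exact ⟨(e ≪≫ₗ Submodule.quotEquivOfEq _ _ h).toModuleIso⟩

/-- the quotient by a Koszul-regular sequence is a perfect module -/
theorem isPerfectModule_of_isKoszulRegularSeq (l : List A) (h : LCI.IsKoszulRegularSeq A l) :
    DRing.IsPerfectModule A (A ⧸ Ideal.ofList l) := by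
  obtain ⟨e⟩ := nonempty_homology_zero_iso l
  exact ⟨Koszul.koszul A l, -(l.length : ℤ), 0, isZero_koszul_X l, fp_koszul l,
    nonempty_toD_iso_single _ _ h e⟩

/-- the quotient by a Koszul-regular sequence is a perfect ring map -/
theorem isPerfectHom_quotient_of_isKoszulRegularSeq (l : List A)
    (h : LCI.IsKoszulRegularSeq A l) : MoreMor.IsPerfectHom A (A ⧸ Ideal.ofList l) := by
  obtain ⟨hpc, a, b, hab⟩ := (Groth.Agent.S6954.result A _).1
    (isPerfectModule_of_isKoszulRegularSeq l h)
  exact ⟨Groth.Agent.Lib.PCohHomLocal.pcHom_iff_module_of_finite.2 hpc,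
    Groth.Agent.Lib.PerfHomPresentation.hasFiniteTorDim_of_hasTorAmplitudeIn _ a b hab⟩

/-- the quotient by a regular sequence is a perfect ring map -/
theorem isPerfectHom_quotient_of_isWeaklyRegular (l : List A)
    (h : RingTheory.Sequence.IsWeaklyRegular A l) :
    MoreMor.IsPerfectHom A (A ⧸ Ideal.ofList l) :=
  isPerfectHom_quotient_of_isKoszulRegularSeq l (Groth.Agent.S15821.result A l h).1


open Groth.Agent.Lib.PerfHomLocal Groth.Agent.Lib.PCohHomLocal Groth.Agent.Lib.TorDimHomLocal in
/-- a surjective ring map whose kernel is generated by a Koszul-regular sequence is perfect -/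
theorem perfHom_of_surjective_of_ker {B : Type u} [CommRing B] (φ : A →+* B)
    (hφ : Function.Surjective φ) (l : List A) (hl : LCI.IsKoszulRegularSeq A l)
    (hk : RingHom.ker φ = Ideal.ofList l) : PerfHom φ := by
  have h1 : PerfHom (Ideal.Quotient.mk (Ideal.ofList l)) := by
    have h := isPerfectHom_quotient_of_isKoszulRegularSeq l hl
    exact ⟨pcHom_algebraMap_iff.2 h.1, ftd_algebraMap_iff.2 h.2⟩
  rw [← hk] at h1
  have h2 := perfHom_isLocal.respectsIso.1 _ (RingHom.quotientKerEquivOfSurjective hφ) h1
  have e : (RingHom.quotientKerEquivOfSurjective hφ).toRingHom.comp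
      (Ideal.Quotient.mk (RingHom.ker φ)) = φ := by
    ext x
    simp
  rwa [e] at h2

end Groth.Agent.Lib.KoszulPerfect
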