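import Groth.Agent.Lib.DSplitMod
import Mathlib.Algebra.Homology.SingleHomology

/-!
# Maps to single complexes and cohomology

* `homologyMap_toSingle`: the effect on `H^a` of the chain map `toSingle P a q hq : P ⟶ M[-a]`.
* `isZero_homology_of_Q_map_toSingle_eq_zero`: if the canonical map `P ⟶ (coker d^{a-1})[-a]`
  vanishes in the derived category then `H^a(P) = 0`.
* `mono_homologyFunctor_map_Q_toSingle`: that canonical map is injective on `H^a`.
* `shiftSingleIso`: `(M[0])⟦i⟧ ≅ M[-j]`-style iso `singleFunctor 0 ⋙ shift i ≅ singleFunctor j`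
  for `i + j = 0`.
* `hom_single_eq_zero_of_isZero`: `Hom(Q P, N[-j]) = 0` when `P` is K-projective and `P^j = 0`.
-/

set_option autoImplicit false
universe u v w
open CategoryTheory CategoryTheory.Limits Category Pretriangulated Triangulated

namespace Groth.Agent.Lib.DSplit

variable {C : Type u} [Category.{v} C] [Abelian C]

open HomologicalComplex

lemma homologyMap_toSingle (P : CochainComplex C ℤ) (a : ℤ) {M : C} (q : P.X a ⟶ M)
    (hq : P.d (a - 1) a ≫ q = 0) :
    homologyMap (toSingle P a q hq) a ≫ (singleObjHomologySelfIso (ComplexShape.up ℤ) a M).hom =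
      P.homologyι a ≫ P.descOpcycles q (a - 1) (by simp) hq := by
  rw [← homologyι_singleObjOpcyclesSelfIso_inv, homologyι_naturality_assoc]
  congr 1
  rw [← cancel_epi (P.pOpcycles a), p_opcyclesMap_assoc, p_descOpcycles,
    pOpcycles_singleObjOpcyclesSelfIso_inv]
  simp [toSingle, mkHomToSingle_f]

variable [HasDerivedCategory.{w} C]

open DerivedCategory

lemma homologyMap_eq_zero_of_Q_map_eq_zero {K L : CochainComplex C ℤ} (φ : K ⟶ L)
    (h : Q.map φ = 0) (n : ℤ) : homologyMap φ n = 0 := by
  have := homologyFunctorFactors_hom_naturality φ n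
  rw [h, Functor.map_zero, zero_comp] at this
  exact (cancel_epi ((homologyFunctorFactors C n).hom.app K)).1 (this.symm.trans comp_zero.symm)

/-- If the canonical map `P ⟶ (coker d^{a-1})[-a]` vanishes in `D(C)` then `H^a(P) = 0`. -/
lemma isZero_homology_of_Q_map_toSingle_eq_zero (P : CochainComplex C ℤ) (a : ℤ)
    (h : Q.map (toSingle P a (P.pOpcycles a) (by simp)) = 0) : IsZero (P.homology a) := by
  have h1 := homologyMap_toSingle P a (P.pOpcycles a) (by simp)
  rw [homologyMap_eq_zero_of_Q_map_eq_zero _ h, zero_comp] at h1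
  have h2 : P.descOpcycles (P.pOpcycles a) (a - 1) (by simp) (by simp) = 𝟙 _ := by
    rw [← cancel_epi (P.pOpcycles a), p_descOpcycles, comp_id]
  rw [h2, comp_id] at h1
  exact IsZero.of_mono_eq_zero _ h1.symm

/-- The canonical map `P ⟶ (coker d^{a-1})[-a]` is injective on `H^a`. -/
lemma mono_homologyFunctor_map_Q_toSingle (P : CochainComplex C ℤ) (a : ℤ) :
    Mono ((homologyFunctor C a).map (Q.map (toSingle P a (P.pOpcycles a) (by simp)))) := by
  have h1 := homologyMap_toSingle P a (P.pOpcycles a) (by simp)
  have h2 : P.descOpcycles (P.pOpcycles a) (a - 1) (by simp) (by simp) = 𝟙 _ := by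
    rw [← cancel_epi (P.pOpcycles a), p_descOpcycles, comp_id]
  rw [h2, comp_id] at h1
  have h3 : Mono (homologyMap (toSingle P a (P.pOpcycles a) (by simp)) a) := by
    have : Mono (homologyMap (toSingle P a (P.pOpcycles a) (by simp)) a ≫
        (singleObjHomologySelfIso (ComplexShape.up ℤ) a (P.opcycles a)).hom) := by
      rw [h1]; infer_instance
    exact mono_of_mono _ (singleObjHomologySelfIso (ComplexShape.up ℤ) a (P.opcycles a)).hom
  have h4 := homologyFunctorFactors_hom_naturality
    (toSingle P a (P.pOpcycles a) (by simp)) a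
  have : Mono ((homologyFunctor C a).map (Q.map (toSingle P a (P.pOpcycles a) (by simp))) ≫
      (homologyFunctorFactors C a).hom.app _) := by
    rw [h4]
    exact mono_comp' inferInstance h3
  exact mono_of_mono _ ((homologyFunctorFactors C a).hom.app _)

/-- `singleFunctor 0 ⋙ shift i ≅ singleFunctor j` for `i + j = 0`. -/
noncomputable def shiftSingleIso (i j : ℤ) (h : i + j = 0) :
    DerivedCategory.singleFunctor C 0 ⋙ shiftFunctor (DerivedCategory C) i ≅
      DerivedCategory.singleFunctor C j :=
  (DerivedCategory.singleFunctors C).shiftIso i j 0 h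

/-- `Hom(Q P, N[-j]) = 0` when `P` is K-projective and `P^j = 0`. -/
lemma hom_single_eq_zero_of_isZero (P : CochainComplex C ℤ) [P.IsKProjective] (j : ℤ)
    (hj : IsZero (P.X j)) (N : C) (f : Q.obj P ⟶ (DerivedCategory.singleFunctor C j).obj N) :
    f = 0 := by
  obtain ⟨φ, hφ⟩ := exists_map_eq
    (E₂ := (HomologicalComplex.single C (ComplexShape.up ℤ) j).obj N) f
  have : φ = 0 := by
    apply to_single_hom_ext
    exact hj.eq_of_src _ _
  rw [← hφ, this, Functor.map_zero]
  rfl

end Groth.Agent.Lib.DSplit
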