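import Groth.Prelude.Def_DRing2
import Mathlib.Algebra.Homology.Factorizations.CM5a
import Mathlib.Algebra.Homology.CochainComplexOpposite
import Mathlib.Algebra.Homology.DerivedCategory.TStructure
import Mathlib.Algebra.Homology.HomotopyCategory.KProjective
import Mathlib.Algebra.Category.ModuleCat.Projective

/-!
# Projective resolutions of bounded above complexes

Mathlib (at this pin) has injective resolutions of bounded below cochain complexes
(`CochainComplex.Plus.modelCategoryQuillen.exists_quasiIso_injective`) but not the dual statement.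
We dualize it through `CochainComplex.opEquivalence`.

* `exists_quasiIso_projective`: abelian `C` with enough projectives, `K` strictly `≤ b`:
  there is a quasi-isomorphism `P ⟶ K` with `P` termwise projective and strictly `≤ b`.
* `exists_iso_Q_projective`: an object of `D(C)` which is `≤ b` for the canonical t-structure is
  isomorphic to `Q.obj P` for such a `P`.
* `exists_projective_rep`: version for `Dual.D R` in the vocabulary of `Def_DRing2`.
* `isLE_of_subsingleton`, `isGE_of_subsingleton`: homology vanishing ⇒ t-structure bounds in `D(R)`.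
-/

set_option autoImplicit false
universe u v w
open CategoryTheory CategoryTheory.Limits Opposite

namespace Groth.Agent.Lib.ProjResolution

section Abelian

variable {C : Type u} [Category.{v} C] [Abelian C]

open HomologicalComplex

set_option backward.isDefEq.respectTransparency.types false in
lemma quasiIsoAt_op_iff {K L : CochainComplex C ℤ} (f : K ⟶ L) (n m : ℤ) (hm : n + m = 0) :
    QuasiIsoAt ((CochainComplex.opEquivalence C).functor.map f.op) m ↔ QuasiIsoAt f n := by
  obtain rfl : n = -m := by lia
  rw [quasiIsoAt_iff' _ (m - 1) m (m + 1) (by simp) (by simp),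
    quasiIsoAt_iff' f (-(m + 1)) (-m) (-(m - 1)) (by grind [CochainComplex.prev])
      (by grind [CochainComplex.next])]
  exact ShortComplex.quasiIso_opMap_iff
    ((shortComplexFunctor' C (ComplexShape.up ℤ) (-(m + 1)) (-m) (-(m - 1))).map f)

lemma quasiIso_op_iff {K L : CochainComplex C ℤ} (f : K ⟶ L) :
    QuasiIso ((CochainComplex.opEquivalence C).functor.map f.op) ↔ QuasiIso f := by
  simp only [quasiIso_iff]
  constructor
  · intro h n
    exact (quasiIsoAt_op_iff f n (-n) (by simp)).1 (h (-n))
  · intro h m
    exact (quasiIsoAt_op_iff f (-m) m (by simp)).2 (h (-m))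

/-- From a quasi-isomorphism out of the opposite complex of `K`, get one into `K`. -/
lemma quasiIso_unop {K : CochainComplex C ℤ} {L : CochainComplex Cᵒᵖ ℤ}
    (i : (CochainComplex.opEquivalence C).functor.obj (op K) ⟶ L) [QuasiIso i] :
    QuasiIso (((CochainComplex.opEquivalence C).unitIso.hom.app (op K) ≫
      (CochainComplex.opEquivalence C).inverse.map i).unop) := by
  rw [← quasiIso_op_iff]
  have : (CochainComplex.opEquivalence C).functor.map
      (((CochainComplex.opEquivalence C).unitIso.hom.app (op K) ≫
      (CochainComplex.opEquivalence C).inverse.map i).unop).op =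
      (CochainComplex.opEquivalence C).functor.map
        ((CochainComplex.opEquivalence C).unitIso.hom.app (op K)) ≫
      (CochainComplex.opEquivalence C).functor.map
        ((CochainComplex.opEquivalence C).inverse.map i) := by
    rw [← Functor.map_comp]
    rfl
  rw [this, Equivalence.fun_inv_map]
  infer_instance

set_option backward.isDefEq.respectTransparency.types false in
set_option backward.defeqAttrib.useBackward true in
attribute [local simp] CochainComplex.opEquivalence ChainComplex.cochainComplexEquivalence in
/-- Projective resolutions of bounded above complexes. -/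
theorem exists_quasiIso_projective [EnoughProjectives C] (K : CochainComplex C ℤ) (b : ℤ)
    [K.IsStrictlyLE b] :
    ∃ (P : CochainComplex C ℤ) (p : P ⟶ K) (_ : QuasiIso p) (_ : ∀ n : ℤ, Projective (P.X n)),
      P.IsStrictlyLE b := by
  let K' := (CochainComplex.opEquivalence C).functor.obj (op K)
  have hK' : K'.IsStrictlyGE (-b) := by
    rw [CochainComplex.isStrictlyGE_iff]
    intro i hi
    exact (K.isZero_of_isStrictlyLE b _ (by dsimp; lia)).op
  obtain ⟨L, i, hi, hL, hLb⟩ :=
    CochainComplex.Plus.modelCategoryQuillen.exists_quasiIso_injective K' (-b)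
  refine ⟨((CochainComplex.opEquivalence C).inverse.obj L).unop,
    ((CochainComplex.opEquivalence C).unitIso.hom.app (op K) ≫
      (CochainComplex.opEquivalence C).inverse.map i).unop, quasiIso_unop i, ?_, ?_⟩
  · intro n
    dsimp
    infer_instance
  · rw [CochainComplex.isStrictlyLE_iff]
    intro n hn
    dsimp
    exact (L.isZero_of_isStrictlyGE (-b) _ (by lia)).unop

/-- An object of the derived category which is `≤ b` is represented by a complex of projectives
which is strictly `≤ b`. -/
theorem exists_iso_Q_projective [HasDerivedCategory.{w} C] [EnoughProjectives C]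
    (X : DerivedCategory C) (b : ℤ) [X.IsLE b] :
    ∃ (P : CochainComplex C ℤ) (_ : P.IsStrictlyLE b) (_ : ∀ n : ℤ, Projective (P.X n)),
      Nonempty (DerivedCategory.Q.obj P ≅ X) := by
  obtain ⟨K, hK, ⟨e⟩⟩ := DerivedCategory.exists_iso_Q_obj_of_isLE X b
  obtain ⟨P, p, hp, hP, hPb⟩ := exists_quasiIso_projective K b
  have : IsIso (DerivedCategory.Q.map p) := by
    rw [DerivedCategory.isIso_Q_map_iff_quasiIso]
    exact hp
  exact ⟨P, hPb, hP, ⟨asIso (DerivedCategory.Q.map p) ≪≫ e.symm⟩⟩

end Abelian

section Module

attribute [local instance] HasDerivedCategory.standard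

variable (R : Type u) [CommRing R]

lemma isLE_of_subsingleton (K : Dual.D R) (b : ℤ)
    (hK : ∀ i : ℤ, b < i → Subsingleton (Dual.HD R K i)) : DerivedCategory.IsLE K b := by
  rw [DerivedCategory.isLE_iff]
  intro i hi
  have := hK i hi
  exact ModuleCat.isZero_of_subsingleton _

lemma isGE_of_subsingleton (K : Dual.D R) (a : ℤ)
    (hK : ∀ i : ℤ, i < a → Subsingleton (Dual.HD R K i)) : DerivedCategory.IsGE K a := by
  rw [DerivedCategory.isGE_iff]
  intro i hi
  have := hK i hi
  exact ModuleCat.isZero_of_subsingleton _

lemma subsingleton_of_isLE (K : Dual.D R) (b : ℤ) [DerivedCategory.IsLE K b] (i : ℤ) (hi : b < i) :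
    Subsingleton (Dual.HD R K i) :=
  ModuleCat.subsingleton_of_isZero (DerivedCategory.isZero_of_isLE K b i hi)

lemma subsingleton_of_isGE (K : Dual.D R) (a : ℤ) [DerivedCategory.IsGE K a] (i : ℤ) (hi : i < a) :
    Subsingleton (Dual.HD R K i) :=
  ModuleCat.subsingleton_of_isZero (DerivedCategory.isZero_of_isGE K a i hi)

/-- An object of `D(R)` with no cohomology above degree `b` is represented by a complex of
projective modules vanishing above `b`. -/
theorem exists_projective_rep (K : Dual.D R) (b : ℤ)
    (hK : ∀ i : ℤ, b < i → Subsingleton (Dual.HD R K i)) :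
    ∃ P : DRing.Cx R, DRing.VanishesAbove P b ∧ (∀ i : ℤ, Module.Projective R (P.X i)) ∧
      Nonempty (DRing.toD P ≅ K) := by
  have := isLE_of_subsingleton R K b hK
  obtain ⟨P, hPb, hP, ⟨e⟩⟩ := exists_iso_Q_projective K b
  refine ⟨P, fun i hi => P.isZero_of_isStrictlyLE b i hi, fun i => ?_, ⟨e⟩⟩
  have := hP i
  exact ModuleCat.projective_of_module_projective (P.X i)

end Module

end Groth.Agent.Lib.ProjResolution
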