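import Groth.Agent.S7028
import Groth.Agent.Lib.DDevissage
import Groth.Agent.Lib.DSingleHom
import Groth.Agent.Lib.ProjResolution

/-!
# Basic closure properties of perfect objects of `D(R)`

Namespace `Groth.Agent.Lib.DPerf`.  `DRing.IsPerfect R` is closed under isomorphisms, shifts,
extensions, contains zero objects, and can be checked on the cohomology modules of a bounded object
(`isPerfect_of_homology`).
-/

set_option autoImplicit false
universe u
open CategoryTheory CategoryTheory.Limits CategoryTheory.Pretriangulated ZeroObject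

namespace Groth.Agent.Lib.DPerf

attribute [local instance] HasDerivedCategory.standard

open Groth.Agent.Lib.H93ConeRep Groth.Agent.S7028

variable (R : Type u) [CommRing R]

lemma isPerfect_of_iso {K L : Dual.D R} (e : K ≅ L) (hK : DRing.IsPerfect R K) :
    DRing.IsPerfect R L := by
  obtain ⟨E, a, b, hab, hE, ⟨i⟩⟩ := hK
  exact ⟨E, a, b, hab, hE, ⟨i ≪≫ e⟩⟩

instance : ObjectProperty.IsClosedUnderIsomorphisms (DRing.IsPerfect R) where
  of_iso e h := isPerfect_of_iso R e h

lemma isPerfect_shift {K : Dual.D R} (n : ℤ) (hK : DRing.IsPerfect R K) :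
    DRing.IsPerfect R (K⟦n⟧) := by
  rw [isPerfect_iff_rep] at hK ⊢
  exact rep_shift (coneClass_finProj R) n hK

lemma isPerfect_of_shift {K : Dual.D R} (n : ℤ) (hK : DRing.IsPerfect R (K⟦n⟧)) :
    DRing.IsPerfect R K := by
  rw [isPerfect_iff_rep] at hK ⊢
  exact rep_of_shift (coneClass_finProj R) n hK

lemma isPerfect_obj₂ (T : Triangle (Dual.D R)) (hT : T ∈ distTriang (Dual.D R))
    (h₁ : DRing.IsPerfect R T.obj₁) (h₃ : DRing.IsPerfect R T.obj₃) :
    DRing.IsPerfect R T.obj₂ := by
  rw [isPerfect_iff_rep] at h₁ h₃ ⊢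
  exact rep_obj₂ (coneClass_finProj R) T hT h₁ h₃

lemma isPerfect_obj₃ (T : Triangle (Dual.D R)) (hT : T ∈ distTriang (Dual.D R))
    (h₁ : DRing.IsPerfect R T.obj₁) (h₂ : DRing.IsPerfect R T.obj₂) :
    DRing.IsPerfect R T.obj₃ := by
  rw [isPerfect_iff_rep] at h₁ h₂ ⊢
  exact rep_obj₃ (coneClass_finProj R) T hT h₁ h₂

lemma isPerfect_obj₁ (T : Triangle (Dual.D R)) (hT : T ∈ distTriang (Dual.D R))
    (h₂ : DRing.IsPerfect R T.obj₂) (h₃ : DRing.IsPerfect R T.obj₃) :
    DRing.IsPerfect R T.obj₁ := by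
  rw [isPerfect_iff_rep] at h₂ h₃ ⊢
  exact rep_obj₁ (coneClass_finProj R) T hT h₂ h₃

lemma isPerfect_of_isZero {Z : Dual.D R} (hZ : IsZero Z) : DRing.IsPerfect R Z := by
  refine ⟨0, 0, 0, fun i _ => ?_, fun i => ?_, ⟨?_⟩⟩
  · exact (HomologicalComplex.eval _ _ i).map_isZero (isZero_zero _)
  · have h0 : IsZero ((0 : DRing.Cx R).X i) :=
      (HomologicalComplex.eval _ _ i).map_isZero (isZero_zero _)
    have : Subsingleton ((0 : DRing.Cx R).X i) := ModuleCat.subsingleton_of_isZero h0
    exact ⟨inferInstance, inferInstance⟩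
  · exact (DerivedCategory.Q.map_isZero (isZero_zero _)).iso hZ

/-- A perfect module placed in any degree is a perfect object. -/
lemma isPerfect_single (M : ModuleCat.{u} R) (hM : DRing.IsPerfectModule R M) (j : ℤ) :
    DRing.IsPerfect R ((DerivedCategory.singleFunctor (ModuleCat.{u} R) j).obj M) := by
  have h := isPerfect_shift R (-j) hM
  exact isPerfect_of_iso R ((Groth.Agent.Lib.DSplit.shiftSingleIso (C := ModuleCat.{u} R)
    (-j) j (by lia)).app M) h

/-- A bounded object of `D(R)` with perfect cohomology modules is perfect. -/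
theorem isPerfect_of_homology (K : Dual.D R) (a b : ℤ) [DerivedCategory.IsGE K a]
    [DerivedCategory.IsLE K b]
    (hK : ∀ i : ℤ, a ≤ i → i ≤ b → DRing.IsPerfectModule R (Dual.HD R K i)) :
    DRing.IsPerfect R K :=
  Groth.Agent.Lib.DDevissage.devissage (DRing.IsPerfect R)
    (fun T hT h₁ h₃ => isPerfect_obj₂ R T hT h₁ h₃) (fun _ hZ => isPerfect_of_isZero R hZ)
    K a b (fun j hj1 hj2 => isPerfect_single R _ (hK j hj1 hj2) j)

end Groth.Agent.Lib.DPerf
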