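import Groth.Agent.Lib.PCohDescent

/-!
# Descent of pseudo-coherence along a family of t-exact triangulated functors (helper21)

Family version of helper32's `PCohDescent.descent`: `U i : D(C) ⥤ D(C' i)` triangulated, right t-exact,
sending `E[0]`, `E ∈ C₀`, to pseudo-coherent objects, and jointly detecting finite type of cohomology.
If `X` is bounded above and every `U i X` is `m`-pseudo-coherent, so is `X`.
-/

set_option autoImplicit false
universe w v u w' v' u'
open CategoryTheory CategoryTheory.Limits CategoryTheory.Pretriangulated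
open PCoh

namespace Groth.Agent.Lib.PCohDescentFam21

open Groth.Agent.S5599 Groth.Agent.Lib.PCohBdd Groth.Agent.Lib.PCohStupid
open Groth.Agent.Lib.PCohDescent

variable {C : Type u} [Category.{v} C] [Abelian C] [HasDerivedCategory.{w} C]
  (P : ObjectProperty C) [P.IsClosedUnderIsomorphisms] [P.ContainsZero]
  {ι : Type*} {C' : ι → Type u'} [∀ i, Category.{v'} (C' i)] [∀ i, Abelian (C' i)]
  [∀ i, HasDerivedCategory.{w'} (C' i)]
  (P' : ∀ i, ObjectProperty (C' i)) [∀ i, (P' i).IsClosedUnderIsomorphisms]
  [∀ i, (P' i).ContainsZero]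
  (U : ∀ i, DerivedCategory C ⥤ DerivedCategory (C' i)) [∀ i, (U i).CommShift ℤ]
  [∀ i, (U i).IsTriangulated]

/-- descent of `m`-pseudo-coherence along the family `U` -/
theorem descent (hsum : ∀ X Y : C, P X → P Y → P (X ⨯ Y))
    (hqs : PCoh.IsQuasiStableUnderKernels P) (hql : PCoh.IsQuasiLiftable P)
    (hsum' : ∀ (i : ι) (X Y : C' i), P' i X → P' i Y → P' i (X ⨯ Y))
    (hqs' : ∀ i, PCoh.IsQuasiStableUnderKernels (P' i)) (hql' : ∀ i, PCoh.IsQuasiLiftable (P' i))
    (hexact : ∀ (i : ι) (X : DerivedCategory C) (j : ℤ),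
      IsZero ((DerivedCategory.homologyFunctor C j).obj X) →
      IsZero ((DerivedCategory.homologyFunctor (C' i) j).obj ((U i).obj X)))
    (hPC : ∀ (i : ι) (E : C), P E → ∀ a : ℤ,
      NPC (P' i) a ((U i).obj ((DerivedCategory.singleFunctor C 0).obj E)))
    (hft : ∀ (X : DerivedCategory C) (n : ℤ),
      (∀ i, PCoh.IsOfFiniteType (P' i)
        ((DerivedCategory.homologyFunctor (C' i) n).obj ((U i).obj X))) →
      PCoh.IsOfFiniteType P ((DerivedCategory.homologyFunctor C n).obj X))
    (m : ℤ) (d : ℕ) : ∀ (n : ℤ) (X : DerivedCategory C), n < m + d →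
      (∀ j : ℤ, n < j → IsZero ((DerivedCategory.homologyFunctor C j).obj X)) →
      (∀ i, NPC (P' i) m ((U i).obj X)) → NPC P m X := by
  induction d with
  | zero =>
    intro n X hn hX _
    exact Groth.Agent.Lib.PCohBdd.NPC.mono (npc_of_acyclic (P := P) n X hX)
      (by push_cast at hn; lia)
  | succ d ih =>
    intro n X hn hX hU
    by_cases hnd : n < m + d
    · exact ih n X hnd hX hU
    · have hmn : m ≤ n := by lia
      have hUac : ∀ (i : ι) (j : ℤ), n < j →
          IsZero ((DerivedCategory.homologyFunctor (C' i) j).obj ((U i).obj X)) :=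
        fun i j hj => hexact i X j (hX j hj)
      have hft' : ∀ i, PCoh.IsOfFiniteType (P' i)
          ((DerivedCategory.homologyFunctor (C' i) n).obj ((U i).obj X)) := by
        intro i
        obtain ⟨E', hE', ⟨e'⟩⟩ := hU i
        have hE'n : PCoh.IsStrictPC (P' i) n E' := ⟨hE'.1, fun j hj => hE'.2 j (by lia)⟩
        have hE'ac : ∀ j : ℤ, n < j → IsZero (E'.homology j) := fun j hj =>
          IsZero.of_iso (hUac i j hj)
            ((homologyIsoOfQ E' j).symm ≪≫
              (DerivedCategory.homologyFunctor (C' i) j).mapIso e')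
        obtain ⟨P₀, π₀, hP₀, hπ₀⟩ := Groth.Agent.S5602.result (P' i) (hqs' i) n E' hE'n hE'ac
        exact ⟨P₀, π₀ ≫ ((homologyIsoOfQ E' n).symm ≪≫
          (DerivedCategory.homologyFunctor (C' i) n).mapIso e').hom, hP₀, epi_comp _ _⟩
      obtain ⟨F', g, hF', hg⟩ := exists_single_epi hql n X hX (hft X n hft')
      obtain ⟨L, f, h, hT⟩ := distinguished_cocone_triangle g
      have hLac : ∀ j : ℤ, n - 1 < j → IsZero ((DerivedCategory.homologyFunctor C j).obj L) :=
        fun j hj => isZero_homology_cone n _ hT F' (Iso.refl _) hX hg j (by lia)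
      have hUL : ∀ i, NPC (P' i) m ((U i).obj L) := by
        intro i
        have hUS : NPC (P' i) (m + 1)
            ((U i).obj ((DerivedCategory.singleFunctor C n).obj F')) := by
          have := Groth.Agent.S5620.npc_single (P' i) (U i) (m + 1 - n) F' (hPC i F' hF' _) n
          rw [show m + 1 - n + n = m + 1 by lia] at this
          exact this
        exact (Groth.Agent.S5599.result (P' i) (hsum' i) (hqs' i) (hql' i) m
          ((U i).mapTriangle.obj (Triangle.mk g f h))
          ((U i).map_distinguished _ hT)).1 hUS (hU i)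
      have hL : NPC P m L := ih (n - 1) L (by push_cast at hn; lia) hLac hUL
      exact (Groth.Agent.S5599.result P hsum hqs hql m (Triangle.mk g f h) hT).2.1
        (npc_singleFunctor F' hF' n m) hL

end Groth.Agent.Lib.PCohDescentFam21
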