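import Groth.Agent.Lib.DRingPCoh21C
import Groth.Agent.Lib.PCohDescentFam21
import Groth.Agent.Lib.FlatBaseChangeD
import Mathlib.RingTheory.Localization.Finiteness
import Mathlib.RingTheory.Localization.BaseChange
import Mathlib.RingTheory.LocalProperties.Submodule
import Mathlib.RingTheory.Flat.Localization

/-!
# `m`-pseudo-coherence in `D(R)` is Zariski local (Stacks 066D) (helper21)

* `finite_of_forall_finite_tensor`, `subsingleton_of_forall_subsingleton_tensor`: a module is finite
  (resp. zero) if its base changes to `R_{f_i}` are, `(f_i)` generating the unit ideal.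
* `isPseudoCoherent_of_forall_away`: `X ∈ D(R)` is `m`-pseudo-coherent if all `X ⊗ R_{f_i}` are.
-/

set_option autoImplicit false
universe u

open CategoryTheory CategoryTheory.Limits TensorProduct

namespace Groth.Agent.Lib.DRingZariski21

variable {R : Type u} [CommRing R]

section Modules

variable {r : ℕ} (f : Fin r → R) (hf : Ideal.span (Set.range f) = ⊤)
  (M : Type u) [AddCommGroup M] [Module R M]

instance isLocalizedModule_mk (g : R) :
    IsLocalizedModule.Away g (TensorProduct.mk R (Localization.Away g) M 1) :=
  (isLocalizedModule_iff_isBaseChange (Submonoid.powers g) (Localization.Away g) _).2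
    (TensorProduct.isBaseChange R M (Localization.Away g))

include hf

theorem finite_of_forall_finite_tensor
    (h : ∀ i, Module.Finite (Localization.Away (f i)) (Localization.Away (f i) ⊗[R] M)) :
    Module.Finite R M := by
  refine Module.Finite.of_localizationSpan' (Set.range f) hf
    (Mₚ := fun g => Localization.Away g.1 ⊗[R] M) (Rₚ := fun g => Localization.Away g.1)
    (fun g => TensorProduct.mk R (Localization.Away g.1) M 1) ?_
  rintro ⟨_, i, rfl⟩
  exact h i

theorem subsingleton_of_forall_subsingleton_tensor
    (h : ∀ i, Subsingleton (Localization.Away (f i) ⊗[R] M)) : Subsingleton M := by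
  refine ⟨fun x y => ?_⟩
  refine Module.eq_of_isLocalized_span (Set.range f) hf
    (fun g => Localization.Away g.1 ⊗[R] M)
    (fun g => TensorProduct.mk R (Localization.Away g.1) M 1) x y ?_
  rintro ⟨_, i, rfl⟩
  have := h i
  exact Subsingleton.elim _ _

end Modules

section Derived

attribute [local instance] HasDerivedCategory.standard

open Groth.Agent.Lib.DRingPCoh21 Groth.Agent.Lib.FlatBaseChangeD

variable {r : ℕ} (f : Fin r → R) (hf : Ideal.span (Set.range f) = ⊤)

/-- `H^j (FD X) ≅ F (H^j X)` as modules over `B` -/
noncomputable def homologyFDIso (B : Type u) [CommRing B] [Algebra R B] [Module.Flat R B]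
    (X : Dual.D R) (j : ℤ) :
    (DerivedCategory.homologyFunctor (ModuleCat.{u} B) j).obj ((FD R B).obj X) ≅
      (F R B).obj ((DerivedCategory.homologyFunctor (ModuleCat.{u} R) j).obj X) :=
  (mapDerivedCategoryHomologyIso (F R B) j).app X

include hf in
theorem isPseudoCoherent_of_forall_away (m : ℤ) (X : Dual.D R)
    (h : ∀ i, DRing.IsPseudoCoherent (Localization.Away (f i)) m
      ((FD R (Localization.Away (f i))).obj X)) :
    DRing.IsPseudoCoherent R m X := by
  -- bound on the cohomology
  have hb : ∀ i, ∃ b : ℤ, ∀ j : ℤ, b < j → IsZero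
      ((DerivedCategory.homologyFunctor (ModuleCat.{u} (Localization.Away (f i))) j).obj
        ((FD R (Localization.Away (f i))).obj X)) := fun i =>
    Groth.Agent.Lib.PCohD.exists_bound ((isPseudoCoherent_iff _ m _).1 (h i))
  choose b hb using hb
  obtain ⟨n, hn⟩ : ∃ n : ℤ, ∀ i, b i ≤ n := by
    obtain ⟨n, hn⟩ := (Finset.univ.image b).exists_le
    exact ⟨n, fun i => hn _ (Finset.mem_image_of_mem b (Finset.mem_univ i))⟩
  have hX : ∀ j : ℤ, n < j →
      IsZero ((DerivedCategory.homologyFunctor (ModuleCat.{u} R) j).obj X) := by
    intro j hj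
    have : Subsingleton ((DerivedCategory.homologyFunctor (ModuleCat.{u} R) j).obj X) := by
      refine subsingleton_of_forall_subsingleton_tensor f hf _ (fun i => ?_)
      have h1 : IsZero ((F R (Localization.Away (f i))).obj
          ((DerivedCategory.homologyFunctor (ModuleCat.{u} R) j).obj X)) :=
        IsZero.of_iso (hb i j (lt_of_le_of_lt (hn i) hj)) (homologyFDIso _ X j).symm
      have := ModuleCat.subsingleton_of_isZero h1
      exact (objEquiv (A := R) (B := Localization.Away (f i)) _).symm.subsingleton
    exact ModuleCat.isZero_of_subsingleton _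
  rw [isPseudoCoherent_iff]
  refine Groth.Agent.Lib.PCohDescentFam21.descent (FF R)
    (C' := fun i : Fin r => ModuleCat.{u} (Localization.Away (f i)))
    (fun i => FF (Localization.Away (f i))) (fun i => FD R (Localization.Away (f i)))
    (ff_prod R) (fp_quasiStable R) (ff_quasiLiftable R)
    (fun i => ff_prod _) (fun i => fp_quasiStable _) (fun i => ff_quasiLiftable _)
    ?_ ?_ ?_ m (n - m + 1).toNat n X ?_ hX (fun i => (isPseudoCoherent_iff _ m _).1 (h i))
  · intro i Y j hY
    exact IsZero.of_iso ((F R (Localization.Away (f i))).map_isZero hY) (homologyFDIso _ Y j)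
  · intro i E hE a
    obtain ⟨h1, h2⟩ := hE
    have e : (FD R (Localization.Away (f i))).obj
        ((DerivedCategory.singleFunctor (ModuleCat.{u} R) 0).obj E) ≅
        (DerivedCategory.singleFunctor (ModuleCat.{u} (Localization.Away (f i))) 0).obj
          ((F R (Localization.Away (f i))).obj E) :=
      ((F R (Localization.Away (f i))).mapDerivedCategorySingleFunctor 0).app E
    have h3 : FF (Localization.Away (f i)) ((F R (Localization.Away (f i))).obj E) :=
      ⟨finite_obj E, free_obj E⟩
    exact (PCohFPn21.npc_single_of_prop (FF (Localization.Away (f i))) _ h3 a).imp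
      (fun E' hE' => ⟨hE'.1, ⟨hE'.2.some ≪≫ e.symm⟩⟩)
  · intro Y k hY
    rw [isOfFiniteType_iff]
    refine finite_of_forall_finite_tensor f hf _ (fun i => ?_)
    have h1 : Module.Finite (Localization.Away (f i))
        ((DerivedCategory.homologyFunctor (ModuleCat.{u} (Localization.Away (f i))) k).obj
          ((FD R (Localization.Away (f i))).obj Y)) := (isOfFiniteType_iff _ _).1 (hY i)
    have h2 : Module.Finite (Localization.Away (f i)) ((F R (Localization.Away (f i))).obj
        ((DerivedCategory.homologyFunctor (ModuleCat.{u} R) k).obj Y)) :=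
      Module.Finite.equiv (homologyFDIso _ Y k).toLinearEquiv
    exact Module.Finite.equiv (objEquiv (A := R) (B := Localization.Away (f i)) _)
  · have : n - m + 1 ≤ ((n - m + 1).toNat : ℤ) := Int.self_le_toNat _
    lia

end Derived

end Groth.Agent.Lib.DRingZariski21
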