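import Groth.Agent.Lib.FlatAmp5
import Mathlib.RingTheory.Flat.Localization
import Mathlib.RingTheory.Flat.FaithfullyFlat.Basic
import Mathlib.RingTheory.LocalProperties.Submodule
import Mathlib.RingTheory.Localization.BaseChange

/-!
# Calculus of flat amplitude in `D(A)`, part 6: Zariski and faithfully flat descent

Namespace `Groth.Agent.Lib.FlatAmp`.

* `isZero_of_faithfullyFlat`, `flat_of_faithfullyFlat`: detection of zero / flat modules after a
  faithfully flat extension of scalars (in terms of `ModuleCat.extendScalars`).
* `isZero_of_localization_away`, `flat_of_localization_away`: the same for a finite family of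
  principal localizations covering `Spec R`.
* `pa_fl_of_faithfullyFlat`, `pa_fl_of_localization_away`: descent of flat amplitude.
-/

set_option autoImplicit false
universe u

open CategoryTheory CategoryTheory.Limits Category

namespace Groth.Agent.Lib.FlatAmp

open Groth.Agent.Lib.DRingPCoh21 Groth.Agent.Lib.DRingPerfAmp Groth.Agent.Lib.PCohAmp
  Groth.Agent.Lib.FlatBaseChangeD

section FF

variable (R R' : Type u) [CommRing R] [CommRing R'] [Algebra R R'] [Module.FaithfullyFlat R R']

lemma isZero_of_faithfullyFlat (M : ModuleCat.{u} R) (hM : IsZero ((F R R').obj M)) :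
    IsZero M := by
  have h1 : Subsingleton ((F R R').obj M) := ModuleCat.subsingleton_of_isZero hM
  have h2 : Subsingleton (TensorProduct R R' M) :=
    (objEquiv (A := R) (B := R') M).symm.toEquiv.injective.subsingleton
  have : Subsingleton M := Module.FaithfullyFlat.lTensor_reflects_triviality R R' M
  exact ModuleCat.isZero_of_subsingleton M

lemma flat_of_faithfullyFlat (M : ModuleCat.{u} R) (hM : Module.Flat R' ((F R R').obj M)) :
    Module.Flat R M := by
  have h2 : Module.Flat R' (TensorProduct R R' M) :=
    Module.Flat.of_linearEquiv (objEquiv (A := R) (B := R') M).symm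
  exact Module.Flat.of_flat_tensorProduct R M R'

end FF

section Zariski

variable {R : Type u} [CommRing R] {r : ℕ} (f : Fin r → R) (hf : Ideal.span (Set.range f) = ⊤)

/-- `M_f ≃ R_f ⊗ M ≃ extendScalars M` -/
noncomputable def localizedEquivObj (x : R) (M : ModuleCat.{u} R) :
    LocalizedModule (Submonoid.powers x) M ≃ₗ[Localization.Away x]
      ((F R (Localization.Away x)).obj M) :=
  (LocalizedModule.equivTensorProduct (Submonoid.powers x) M).trans
    (objEquiv (A := R) (B := Localization.Away x) M).symm

include hf

lemma isZero_of_localization_away (M : ModuleCat.{u} R)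
    (h : ∀ j, IsZero ((F R (Localization.Away (f j))).obj M)) : IsZero M := by
  have key : ∀ x : M, x = 0 := by
    intro x
    refine Module.eq_zero_of_isLocalized_span (Set.range f) hf
      (fun s => LocalizedModule (Submonoid.powers s.1) M)
      (fun s => LocalizedModule.mkLinearMap (Submonoid.powers s.1) M) x ?_
    rintro ⟨_, j, rfl⟩
    have h1 : Subsingleton ((F R (Localization.Away (f j))).obj M) :=
      ModuleCat.subsingleton_of_isZero (h j)
    have h2 : Subsingleton (LocalizedModule (Submonoid.powers (f j)) M) :=
      (localizedEquivObj (f j) M).toEquiv.injective.subsingleton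
    exact Subsingleton.elim _ _
  have : Subsingleton M := ⟨fun x y => by rw [key x, key y]⟩
  exact ModuleCat.isZero_of_subsingleton M

lemma flat_of_localization_away (M : ModuleCat.{u} R)
    (h : ∀ j, Module.Flat (Localization.Away (f j)) ((F R (Localization.Away (f j))).obj M)) :
    Module.Flat R M := by
  refine Module.flat_of_localized_span R M (Set.range f) hf ?_
  rintro ⟨_, j, rfl⟩
  have h1 : Module.Flat (Localization.Away (f j))
      (LocalizedModule (Submonoid.powers (f j)) M) :=
    Module.Flat.of_linearEquiv (localizedEquivObj (f j) M)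
  exact (Module.flat_iff_of_isLocalization (Localization.Away (f j))
    (Submonoid.powers (f j)) _).1 h1

end Zariski

attribute [local instance] HasDerivedCategory.standard

theorem pa_fl_of_faithfullyFlat (R R' : Type u) [CommRing R] [CommRing R'] [Algebra R R']
    [Module.FaithfullyFlat R R'] (K : CochainComplex (ModuleCat.{u} R) ℤ) (a b : ℤ)
    (hK : PA (FL R') a b (DerivedCategory.Q.obj (bcCx R' K))) :
    PA (FL R) a b (DerivedCategory.Q.obj K) :=
  pa_fl_descent R (J := Unit) (fun _ => R') (fun M hM => isZero_of_faithfullyFlat R R' M (hM ()))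
    (fun M hM => flat_of_faithfullyFlat R R' M (hM ())) K a b (fun _ => hK)

theorem pa_fl_of_localization_away {R : Type u} [CommRing R] {r : ℕ} (f : Fin r → R)
    (hf : Ideal.span (Set.range f) = ⊤) (K : CochainComplex (ModuleCat.{u} R) ℤ) (a b : ℤ)
    (hK : ∀ j, PA (FL (Localization.Away (f j))) a b
      (DerivedCategory.Q.obj (bcCx (Localization.Away (f j)) K))) :
    PA (FL R) a b (DerivedCategory.Q.obj K) :=
  pa_fl_descent R (J := Fin r) (fun j => Localization.Away (f j))
    (fun M hM => isZero_of_localization_away f hf M hM)
    (fun M hM => flat_of_localization_away f hf M hM) K a b hK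

end Groth.Agent.Lib.FlatAmp
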