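import Mathlib.RingTheory.FiniteType
import Mathlib.RingTheory.Ideal.Quotient.Operations
import Mathlib.RingTheory.Noetherian.Nilpotent
import Mathlib.RingTheory.Nilpotent.Lemmas

set_option autoImplicit false

namespace Groth.Agent.Lib.NilNakayama

section Nakayama

variable {R M : Type*} [CommRing R] [AddCommGroup M] [Module R M]

/-- Nakayama for a nilpotent ideal, no finiteness needed. -/
theorem eq_top_of_top_le_sup_smul (I : Ideal R) (hI : IsNilpotent I) (N : Submodule R M)
    (h : (⊤ : Submodule R M) ≤ N ⊔ I • (⊤ : Submodule R M)) : N = ⊤ := by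
  obtain ⟨n, hn⟩ := hI
  have key : ∀ k : ℕ, (⊤ : Submodule R M) ≤ N ⊔ (I ^ k) • (⊤ : Submodule R M) := by
    intro k
    induction k with
    | zero => simp
    | succ k ih =>
      calc (⊤ : Submodule R M) ≤ N ⊔ I • (⊤ : Submodule R M) := h
        _ ≤ N ⊔ I • (N ⊔ (I ^ k) • (⊤ : Submodule R M)) := by
            gcongr
        _ = N ⊔ (I • N ⊔ I • (I ^ k) • (⊤ : Submodule R M)) := by
            rw [Submodule.smul_sup]
        _ ≤ N ⊔ (I ^ (k + 1)) • (⊤ : Submodule R M) := by
            rw [pow_succ', Submodule.mul_smul]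
            refine sup_le le_sup_left (sup_le ?_ le_sup_right)
            exact le_sup_of_le_left Submodule.smul_le_right
  have := key n
  rw [hn, Ideal.zero_eq_bot, Submodule.bot_smul, sup_bot_eq] at this
  exact top_le_iff.mp this

end Nakayama

section Map

variable {R S : Type*} [CommRing R] [CommRing S]

/-- An element of the extension of an ideal lies in the extension of a finitely generated
subideal. -/
theorem exists_fg_le_of_mem_map (φ : R →+* S) (I : Ideal R) {x : S} (hx : x ∈ I.map φ) :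
    ∃ J : Ideal R, J ≤ I ∧ J.FG ∧ x ∈ J.map φ := by
  classical
  induction hx using Submodule.span_induction with
  | mem y hy =>
    obtain ⟨i, hi, rfl⟩ := hy
    exact ⟨Ideal.span {i}, (Ideal.span_singleton_le_iff_mem _).mpr hi, ⟨{i}, by simp⟩,
      Ideal.mem_map_of_mem φ (Ideal.mem_span_singleton_self i)⟩
  | zero => exact ⟨⊥, bot_le, (Submodule.fg_bot : (⊥ : Submodule R R).FG), zero_mem _⟩
  | add y z _ _ hy hz =>
    obtain ⟨J₁, h₁, h₁', h₁''⟩ := hy
    obtain ⟨J₂, h₂, h₂', h₂''⟩ := hz
    exact ⟨J₁ ⊔ J₂, sup_le h₁ h₂, Submodule.FG.sup (N₁ := J₁) (N₂ := J₂) h₁' h₂',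
      add_mem (Ideal.map_mono le_sup_left h₁'') (Ideal.map_mono le_sup_right h₂'')⟩
  | smul a y _ hy =>
    obtain ⟨J, h, h', h''⟩ := hy
    exact ⟨J, h, h', Ideal.mul_mem_left _ a h''⟩

/-- A finitely generated ideal consisting of nilpotent elements is nilpotent. -/
theorem isNilpotent_of_fg_of_forall_isNilpotent {J : Ideal R} (hJ : J.FG)
    (h : ∀ x ∈ J, IsNilpotent x) : IsNilpotent J :=
  hJ.isNilpotent_iff_le_nilradical.mpr fun x hx ↦ (mem_nilradical).mpr (h x hx)

end Map

section Surjective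

variable {R S S' : Type*} [CommRing R] [CommRing S] [CommRing S'] [Algebra R S] [Algebra R S']

/-- Let `I` be a locally nilpotent ideal of `R` and `f : S → S'` a map of `R`-algebras with `S'`
of finite type over `R`. If `S → S' / I S'` is surjective then so is `f`. -/
theorem surjective_of_surjective_mod_nil [Algebra.FiniteType R S'] (I : Ideal R)
    (hI : ∀ x ∈ I, IsNilpotent x) (f : S →ₐ[R] S')
    (hf : ∀ y : S', ∃ s : S, y - f s ∈ I.map (algebraMap R S')) :
    Function.Surjective f := by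
  classical
  obtain ⟨t, ht⟩ := Algebra.FiniteType.out (R := R) (A := S')
  -- choose the finitely generated subideals
  have H : ∀ y : S', ∃ J : Ideal R, J ≤ I ∧ J.FG ∧ ∃ s : S, y - f s ∈ J.map (algebraMap R S') := by
    intro y
    obtain ⟨s, hs⟩ := hf y
    obtain ⟨J, h₁, h₂, h₃⟩ := exists_fg_le_of_mem_map _ I hs
    exact ⟨J, h₁, h₂, s, h₃⟩
  choose J hJI hJfg s hs using H
  let I₀ : Ideal R := t.sup J
  have hI₀I : I₀ ≤ I := Finset.sup_le fun y _ ↦ hJI y
  have hI₀fg : I₀.FG := Submodule.fg_finset_sup t J fun y _ ↦ hJfg y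
  have hI₀nil : IsNilpotent I₀ :=
    isNilpotent_of_fg_of_forall_isNilpotent hI₀fg fun x hx ↦ hI x (hI₀I hx)
  let N : Submodule R S' := f.range.toSubmodule
  let W : Submodule R S' := N ⊔ I₀ • (⊤ : Submodule R S')
  have hW : ∀ y : S', y ∈ W ↔ ∃ a ∈ f.range, y - a ∈ I₀.map (algebraMap R S') := by
    intro y
    rw [Submodule.mem_sup]
    constructor
    · rintro ⟨a, ha, b, hb, rfl⟩
      refine ⟨a, ha, ?_⟩
      rw [add_sub_cancel_left]
      rw [Ideal.smul_top_eq_map] at hb
      exact hb
    · rintro ⟨a, ha, hb⟩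
      refine ⟨a, ha, y - a, ?_, by ring⟩
      rw [Ideal.smul_top_eq_map]
      exact hb
  have key : ∀ y : S', y ∈ W := by
    intro y
    have hy : y ∈ Algebra.adjoin R (t : Set S') := by rw [ht]; trivial
    induction hy using Algebra.adjoin_induction with
    | mem y hy =>
      rw [hW]
      exact ⟨f (s y), ⟨s y, rfl⟩,
        Ideal.map_mono (Finset.le_sup (f := J) (Finset.mem_coe.mp hy)) (hs y)⟩
    | algebraMap r =>
      rw [hW]
      exact ⟨algebraMap R S' r, ⟨algebraMap R S r, by simp⟩, by simp⟩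
    | add y z _ _ hy hz => exact add_mem hy hz
    | mul y z _ _ hy hz =>
      rw [hW] at hy hz ⊢
      obtain ⟨a, ha, hya⟩ := hy
      obtain ⟨b, hb, hzb⟩ := hz
      refine ⟨a * b, mul_mem ha hb, ?_⟩
      have : y * z - a * b = (y - a) * z + a * (z - b) := by ring
      rw [this]
      exact add_mem (Ideal.mul_mem_right _ _ hya) (Ideal.mul_mem_left _ _ hzb)
  have hN : N = ⊤ := eq_top_of_top_le_sup_smul I₀ hI₀nil N fun y _ ↦ key y
  intro y
  have : y ∈ N := hN ▸ Submodule.mem_top
  exact this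

end Surjective

end Groth.Agent.Lib.NilNakayama
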