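import Mathlib.RingTheory.LocalRing.Module
import Mathlib.RingTheory.Artinian.Ring
import Mathlib.RingTheory.Jacobson.Ideal
import Groth.Agent.Lib.NilNakayama
import Groth.Agent.Lib.FlatCrit

/-!
Flatness over a local ring with nilpotent maximal ideal (e.g. an Artinian local ring):
detection of injectivity/surjectivity on the residue field, no finiteness hypotheses.
-/

set_option autoImplicit false

namespace Groth.Agent.Lib.ArtinianFlat

open TensorProduct Function IsLocalRing

variable {A : Type*} [CommRing A] [IsLocalRing A]

theorem isNilpotent_maximalIdeal [IsArtinianRing A] : IsNilpotent (maximalIdeal A) := by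
  have h := IsArtinianRing.isNilpotent_jacobson_bot (R := A)
  rwa [IsLocalRing.jacobson_eq_maximalIdeal ⊥ bot_ne_top] at h

section

variable (hnil : IsNilpotent (maximalIdeal A))
variable {P L M N Q : Type*} [AddCommGroup P] [Module A P] [AddCommGroup L] [Module A L]
  [AddCommGroup M] [Module A M] [AddCommGroup N] [Module A N] [AddCommGroup Q] [Module A Q]

include hnil

/-- Nakayama: `k ⊗ M = 0` implies `M = 0`. -/
theorem subsingleton_of_subsingleton_tensor [Subsingleton (ResidueField A ⊗[A] M)] :
    Subsingleton M := by
  have h1 : (⊤ : Submodule A M) ≤ ⊥ ⊔ maximalIdeal A • (⊤ : Submodule A M) := by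
    intro x _
    rw [bot_sup_eq, ← LinearMap.ker_tensorProductMk, LinearMap.mem_ker]
    exact Subsingleton.elim (α := ResidueField A ⊗[A] M) _ _
  have h2 := Groth.Agent.Lib.NilNakayama.eq_top_of_top_le_sup_smul _ hnil ⊥ h1
  refine ⟨fun x y => ?_⟩
  have hx : x ∈ (⊥ : Submodule A M) := h2 ▸ Submodule.mem_top
  have hy : y ∈ (⊥ : Submodule A M) := h2 ▸ Submodule.mem_top
  rw [(Submodule.mem_bot A).mp hx, (Submodule.mem_bot A).mp hy]

/-- `k ⊗ h` surjective implies `h` surjective. -/
theorem surjective_of_lTensor_surjective (h : P →ₗ[A] L)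
    (hs : Surjective (h.lTensor (ResidueField A))) : Surjective h := by
  rw [← LinearMap.range_eq_top]
  apply Groth.Agent.Lib.NilNakayama.eq_top_of_top_le_sup_smul _ hnil
  intro y _
  obtain ⟨z, hz⟩ := hs ((1 : ResidueField A) ⊗ₜ y)
  obtain ⟨p, rfl⟩ := TensorProduct.mk_surjective A P (ResidueField A)
    Ideal.Quotient.mk_surjective z
  have h0 : (TensorProduct.mk A (ResidueField A) L 1) (y - h p) = 0 := by
    rw [map_sub, TensorProduct.mk_apply, TensorProduct.mk_apply, ← hz]
    simp
  have h3 : y - h p ∈ maximalIdeal A • (⊤ : Submodule A L) := by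
    rw [← LinearMap.ker_tensorProductMk, LinearMap.mem_ker]
    exact h0
  have : y = h p + (y - h p) := by abel
  rw [this]
  exact Submodule.add_mem_sup (LinearMap.mem_range_self h p) h3

omit hnil [IsLocalRing A] in
/-- `Tor₁(X, Q) = 0` for flat `Q`, phrased on a short exact sequence ending in `Q`
(no assumption on the middle term). -/
theorem lTensor_injective_of_flat_quotient [Module.Flat A Q]
    {f : M →ₗ[A] N} {g : N →ₗ[A] Q} (hf : Injective f) (hfg : Exact f g) (hg : Surjective g)
    (X : Type*) [AddCommGroup X] [Module A X] : Injective (f.lTensor X) :=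
  lTensor_injective_of_exact_of_exact_of_rTensor_injective
    (Groth.Agent.Lib.FlatCrit.pres_exact A X) (Groth.Agent.Lib.FlatCrit.pres_surjective A X)
    hfg hg
    (Module.Flat.rTensor_preserves_injective_linearMap _ (Submodule.subtype_injective _))
    (Module.Flat.lTensor_preserves_injective_linearMap _ hf)

omit hnil [IsLocalRing A] in
/-- the kernel of a surjection of flat modules is flat -/
theorem flat_of_flat_quotient [Module.Flat A N] [Module.Flat A Q]
    {f : M →ₗ[A] N} {g : N →ₗ[A] Q} (hf : Injective f) (hfg : Exact f g) (hg : Surjective g) :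
    Module.Flat A M := by
  rw [Module.Flat.iff_rTensor_injective']
  intro I
  have h1 : Injective (f.lTensor I) := lTensor_injective_of_flat_quotient hf hfg hg I
  have h2 : Injective (I.subtype.rTensor N) :=
    Module.Flat.rTensor_preserves_injective_linearMap _ (Submodule.subtype_injective _)
  have h3 : (f.lTensor A) ∘ₗ (I.subtype.rTensor M) = (I.subtype.rTensor N) ∘ₗ (f.lTensor I) := by
    rw [LinearMap.lTensor_comp_rTensor, LinearMap.rTensor_comp_lTensor]
  have h4 : Injective ((f.lTensor A) ∘ₗ (I.subtype.rTensor M)) := by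
    rw [h3]
    exact h2.comp h1
  exact Injective.of_comp h4

/-- if `k ⊗ M → k ⊗ N` is injective and `N` is flat, then `N/M` is flat -/
theorem flat_quotient_of_lTensor_injective [Module.Flat A N]
    {f : M →ₗ[A] N} {g : N →ₗ[A] Q} (hfg : Exact f g) (hg : Surjective g)
    (hi : Injective (f.lTensor (ResidueField A))) : Module.Flat A Q := by
  have h1 : Injective ((maximalIdeal A).subtype.rTensor Q) := by
    rw [← LinearMap.lTensor_inj_iff_rTensor_inj]
    exact lTensor_injective_of_exact_of_exact_of_rTensor_injective
      hfg hg (LinearMap.exact_subtype_mkQ (maximalIdeal A)) (Submodule.mkQ_surjective _)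
      ((LinearMap.lTensor_inj_iff_rTensor_inj _ _).mp hi)
      (Module.Flat.lTensor_preserves_injective_linearMap _ Subtype.val_injective)
  have : Module.Flat (A ⧸ maximalIdeal A) ((A ⧸ maximalIdeal A) ⊗[A] Q) :=
    inferInstanceAs (Module.Flat (ResidueField A) (ResidueField A ⊗[A] Q))
  exact Groth.Agent.Lib.FlatCrit.flat_of_isNilpotent (maximalIdeal A) hnil h1

/-- `k ⊗ h` injective implies `h` injective, for flat target (the source is arbitrary). -/
theorem injective_of_lTensor_injective [Module.Flat A L] (h : P →ₗ[A] L)
    (hi : Injective (h.lTensor (ResidueField A))) : Injective h := by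
  -- factor `h` through its range `I`
  let I := LinearMap.range h
  let h' : P →ₗ[A] I := h.rangeRestrict
  have hh' : I.subtype ∘ₗ h' = h := LinearMap.subtype_comp_codRestrict _ _ _
  have hs' : Surjective h' := LinearMap.surjective_rangeRestrict h
  have hcomp : (I.subtype.lTensor (ResidueField A)) ∘ₗ (h'.lTensor (ResidueField A)) =
      h.lTensor (ResidueField A) := by
    rw [← LinearMap.lTensor_comp, hh']
  have hi' : Injective (h'.lTensor (ResidueField A)) := by
    have : Injective ((I.subtype.lTensor (ResidueField A)) ∘ₗ (h'.lTensor (ResidueField A))) := by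
      rw [hcomp]; exact hi
    exact Injective.of_comp this
  have hs'' : Surjective (h'.lTensor (ResidueField A)) := LinearMap.lTensor_surjective _ hs'
  have hiI : Injective (I.subtype.lTensor (ResidueField A)) := by
    intro x y hxy
    obtain ⟨x', rfl⟩ := hs'' x
    obtain ⟨y', rfl⟩ := hs'' y
    have : h.lTensor (ResidueField A) x' = h.lTensor (ResidueField A) y' := by
      rw [← hcomp]; exact hxy
    rw [hi this]
  -- `L / I` is flat, hence `I` is flat
  have hflatC : Module.Flat A (L ⧸ I) :=
    flat_quotient_of_lTensor_injective hnil (LinearMap.exact_subtype_mkQ I)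
      (Submodule.mkQ_surjective I) hiI
  have hflatI : Module.Flat A I :=
    flat_of_flat_quotient (Submodule.subtype_injective I) (LinearMap.exact_subtype_mkQ I)
      (Submodule.mkQ_surjective I)
  -- the kernel `K` of `h'`
  let K := LinearMap.ker h'
  have hK : Injective (K.subtype.lTensor (ResidueField A)) :=
    lTensor_injective_of_flat_quotient (Submodule.subtype_injective K)
      (LinearMap.exact_subtype_ker_map h') hs' (ResidueField A)
  have hzero : (h'.lTensor (ResidueField A)) ∘ₗ (K.subtype.lTensor (ResidueField A)) = 0 := by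
    rw [← LinearMap.lTensor_comp]
    have : h' ∘ₗ K.subtype = 0 := by
      ext x; exact congrArg Subtype.val (LinearMap.mem_ker.mp x.2)
    rw [this, LinearMap.lTensor_zero]
  have : Subsingleton (ResidueField A ⊗[A] K) := by
    refine ⟨fun x y => ?_⟩
    apply hK
    apply hi'
    have hx := LinearMap.congr_fun hzero x
    have hy := LinearMap.congr_fun hzero y
    simp only [LinearMap.comp_apply, LinearMap.zero_apply] at hx hy
    rw [hx, hy]
  have : Subsingleton K := subsingleton_of_subsingleton_tensor hnil
  have hinj' : Injective h' := by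
    rw [← LinearMap.ker_eq_bot]
    exact Submodule.eq_bot_of_subsingleton
  rw [← hh']
  exact (Submodule.subtype_injective I).comp hinj'

/-- if `k ⊗ h` is injective and the target is flat, then the cokernel of `h` is flat -/
theorem flat_quotient_range_of_lTensor_injective [Module.Flat A L] (h : P →ₗ[A] L)
    (hi : Injective (h.lTensor (ResidueField A))) : Module.Flat A (L ⧸ LinearMap.range h) :=
  flat_quotient_of_lTensor_injective hnil (LinearMap.exact_map_mkQ_range h)
    (Submodule.mkQ_surjective _) hi

/-- if `k ⊗ h` is injective and the target is flat, then the source is flat -/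
theorem flat_of_lTensor_injective [Module.Flat A L] (h : P →ₗ[A] L)
    (hi : Injective (h.lTensor (ResidueField A))) : Module.Flat A P := by
  have : Module.Flat A (L ⧸ LinearMap.range h) :=
    flat_quotient_range_of_lTensor_injective hnil h hi
  exact flat_of_flat_quotient (injective_of_lTensor_injective hnil h hi)
    (LinearMap.exact_map_mkQ_range h) (Submodule.mkQ_surjective _)

/-- Let `P → Q → R → M → 0` be a complex with `Q`, `R` flat, exact at `R` and `M`, whose reduction
`k ⊗ P → k ⊗ Q → k ⊗ R` is exact. Then `M` is flat and the complex is exact at `Q`. -/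
theorem flat_and_exact_of_lTensor_exact [Module.Flat A L] [Module.Flat A N]
    (f : P →ₗ[A] L) (g : L →ₗ[A] N) (h : N →ₗ[A] Q)
    (hfg : g ∘ₗ f = 0) (hgh : Exact g h) (hh : Surjective h)
    (hred : Exact (f.lTensor (ResidueField A)) (g.lTensor (ResidueField A))) :
    Module.Flat A Q ∧ Exact f g := by
  -- the image `I` of `g`
  let I := LinearMap.range g
  let g' : L →ₗ[A] I := g.rangeRestrict
  have hgg' : I.subtype ∘ₗ g' = g := LinearMap.subtype_comp_codRestrict _ _ _
  have hs' : Surjective g' := LinearMap.surjective_rangeRestrict g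
  have hg'f : g' ∘ₗ f = 0 := by
    ext x
    exact LinearMap.congr_fun hfg x
  have hcomp : (I.subtype.lTensor (ResidueField A)) ∘ₗ (g'.lTensor (ResidueField A)) =
      g.lTensor (ResidueField A) := by
    rw [← LinearMap.lTensor_comp, hgg']
  have hs'' : Surjective (g'.lTensor (ResidueField A)) := LinearMap.lTensor_surjective _ hs'
  have hiI : Injective (I.subtype.lTensor (ResidueField A)) := by
    rw [injective_iff_map_eq_zero]
    intro x hx
    obtain ⟨y, rfl⟩ := hs'' x
    have hy : g.lTensor (ResidueField A) y = 0 := by
      rw [← hcomp]; exact hx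
    obtain ⟨z, rfl⟩ := (hred y).mp hy
    have : (g'.lTensor (ResidueField A)) ((f.lTensor (ResidueField A)) z) =
        ((g' ∘ₗ f).lTensor (ResidueField A)) z := by
      rw [LinearMap.lTensor_comp]; rfl
    rw [this, hg'f, LinearMap.lTensor_zero, LinearMap.zero_apply]
  have hIh : Exact I.subtype h := by
    intro y
    rw [hgh y]
    constructor
    · rintro ⟨x, rfl⟩
      exact ⟨⟨g x, LinearMap.mem_range_self g x⟩, rfl⟩
    · rintro ⟨⟨_, ⟨x, rfl⟩⟩, rfl⟩
      exact ⟨x, rfl⟩
  have hflatQ : Module.Flat A Q := flat_quotient_of_lTensor_injective hnil hIh hh hiI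
  refine ⟨hflatQ, ?_⟩
  have hflatI : Module.Flat A I :=
    flat_of_flat_quotient (Submodule.subtype_injective I) hIh hh
  -- the kernel `Z` of `g`
  let Z := LinearMap.ker g'
  have hZ : Injective (Z.subtype.lTensor (ResidueField A)) :=
    lTensor_injective_of_flat_quotient (Submodule.subtype_injective Z)
      (LinearMap.exact_subtype_ker_map g') hs' (ResidueField A)
  let f' : P →ₗ[A] Z := f.codRestrict Z (fun x => by
    rw [LinearMap.mem_ker]
    exact LinearMap.congr_fun hg'f x)
  have hff' : Z.subtype ∘ₗ f' = f := LinearMap.subtype_comp_codRestrict _ _ _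
  have hsf' : Surjective (f'.lTensor (ResidueField A)) := by
    intro z
    have h1 : g.lTensor (ResidueField A) (Z.subtype.lTensor (ResidueField A) z) = 0 := by
      have : (g.lTensor (ResidueField A)) ((Z.subtype.lTensor (ResidueField A)) z) =
          ((g ∘ₗ Z.subtype).lTensor (ResidueField A)) z := by
        rw [LinearMap.lTensor_comp]; rfl
      rw [this]
      have h0 : g ∘ₗ Z.subtype = 0 := by
        ext x
        have hx : g' x.1 = 0 := LinearMap.mem_ker.mp x.2
        exact congrArg Subtype.val hx
      rw [h0, LinearMap.lTensor_zero, LinearMap.zero_apply]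
    obtain ⟨p, hp⟩ := (hred _).mp h1
    refine ⟨p, hZ ?_⟩
    rw [← hp, ← hff', LinearMap.lTensor_comp]
    rfl
  have hsurj : Surjective f' := surjective_of_lTensor_surjective hnil f' hsf'
  intro y
  constructor
  · intro hy
    have hyZ : y ∈ Z := by
      rw [LinearMap.mem_ker]
      apply Subtype.ext
      exact hy
    obtain ⟨p, hp⟩ := hsurj ⟨y, hyZ⟩
    refine ⟨p, ?_⟩
    have := congrArg Subtype.val hp
    simpa [f'] using this
  · rintro ⟨p, rfl⟩
    exact LinearMap.congr_fun hfg p

end

end Groth.Agent.Lib.ArtinianFlat
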