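import Groth.Prelude.Def_PCoh
import Groth.Agent.Lib.DDevissage
import Mathlib.Algebra.Homology.Embedding.CochainComplex
import Mathlib.CategoryTheory.ObjectProperty.ContainsZero

/-!
# `n`-pseudo-coherent objects of `D(C)` (SGA6 I, punctual case): formal consequences of 2-out-of-3

Namespace `Groth.Agent.Lib.PCohD`.  `IsNPC P n F` is the inline existential used in the frozen
statements: `F` is isomorphic in `D(C)` to a strictly `n`-pseudo-coherent complex.

* `isNPC_of_iso`, `isNPC_of_le`, `isNPC_shift`, `isNPC_of_shift`, `isNPC_single_shift`.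
* `isNPC_of_isZero_homology`: objects acyclic in degrees `≥ n` are `n`-pseudo-coherent.
* `exists_bound`: `n`-pseudo-coherent objects are cohomologically bounded above.
* `TwoOfThree P`: the 2-out-of-3 property in distinguished triangles (the conclusion of `S5599`),
  used as a hypothesis; consequences `ext`, `cone`, `biprod`, `of_biprod_left/right`,
  `devissage` (from cohomology objects).
-/

set_option autoImplicit false
universe w v u

open CategoryTheory CategoryTheory.Limits Category Pretriangulated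

namespace Groth.Agent.Lib.PCohD

variable {C : Type u} [Category.{v} C] [Abelian C] [HasDerivedCategory.{w} C]
  (P : ObjectProperty C)

open DerivedCategory

/-- `F` is `n`-pseudo-coherent: isomorphic in `D(C)` to a strictly `n`-pseudo-coherent complex. -/
def IsNPC (n : ℤ) : ObjectProperty (DerivedCategory C) := fun F =>
  ∃ E : CochainComplex C ℤ, PCoh.IsStrictPC P n E ∧ Nonempty (DerivedCategory.Q.obj E ≅ F)

variable {P}

lemma isNPC_of_iso {n : ℤ} {F G : DerivedCategory C} (e : F ≅ G) (h : IsNPC P n F) :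
    IsNPC P n G := by
  obtain ⟨E, hE, ⟨e'⟩⟩ := h
  exact ⟨E, hE, ⟨e' ≪≫ e⟩⟩

lemma isNPC_of_le {n m : ℤ} (hnm : n ≤ m) {F : DerivedCategory C} (h : IsNPC P n F) :
    IsNPC P m F := by
  obtain ⟨E, ⟨hb, hE⟩, he⟩ := h
  exact ⟨E, ⟨hb, fun i hi => hE i (hnm.trans hi)⟩, he⟩

lemma isNPC_shift {n : ℤ} {F : DerivedCategory C} (h : IsNPC P n F) (m : ℤ) :
    IsNPC P (n - m) (F⟦m⟧) := by
  obtain ⟨E, ⟨⟨b, hb⟩, hE⟩, ⟨e⟩⟩ := h
  refine ⟨(shiftFunctor (CochainComplex C ℤ) m).obj E, ⟨⟨b - m, ?_⟩, ?_⟩, ⟨?_⟩⟩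
  · intro i hi
    exact hb (i + m) (by lia)
  · intro i hi
    exact hE (i + m) (by lia)
  · exact ((DerivedCategory.Q (C := C)).commShiftIso m).app E ≪≫
      (shiftFunctor (DerivedCategory C) m).mapIso e

lemma isNPC_of_shift {n : ℤ} {F : DerivedCategory C} (m : ℤ) (h : IsNPC P (n - m) (F⟦m⟧)) :
    IsNPC P n F := by
  have h1 := isNPC_shift h (-m)
  have e : (F⟦m⟧)⟦-m⟧ ≅ F := (shiftFunctorCompIsoId (DerivedCategory C) m (-m) (by simp)).app F
  have h2 := isNPC_of_iso e h1
  exact isNPC_of_le (by lia) h2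

/-- `X[-j]` is `n`-pseudo-coherent if `X[0]` is `(n - j)`-pseudo-coherent. -/
lemma isNPC_single_shift {n j : ℤ} (X : C)
    (h : IsNPC P (n - j) ((singleFunctor C 0).obj X)) : IsNPC P n ((singleFunctor C j).obj X) := by
  have h1 := isNPC_shift h (-j)
  have e : ((singleFunctor C 0).obj X)⟦-j⟧ ≅ (singleFunctor C j).obj X :=
    ((singleFunctors C).shiftIso (-j) j 0 (by simp)).app X
  exact isNPC_of_le (by lia) (isNPC_of_iso e h1)

lemma isNPC_of_isZero_homology [P.IsClosedUnderIsomorphisms] [P.ContainsZero] {n : ℤ} {F : DerivedCategory C}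
    (h : ∀ i : ℤ, n ≤ i → IsZero ((homologyFunctor C i).obj F)) : IsNPC P n F := by
  have hF : F.IsLE (n - 1) := by
    rw [isLE_iff]
    exact fun i hi => h i (by lia)
  obtain ⟨K, _, ⟨e⟩⟩ := exists_iso_Q_obj_of_isLE F (n - 1)
  refine ⟨K, ⟨⟨n - 1, fun i hi => K.isZero_of_isStrictlyLE (n - 1) i hi⟩,
    fun i hi => P.prop_of_isZero (K.isZero_of_isStrictlyLE (n - 1) i (by lia))⟩, ⟨e.symm⟩⟩

lemma exists_bound {n : ℤ} {F : DerivedCategory C} (h : IsNPC P n F) :
    ∃ b : ℤ, ∀ i : ℤ, b < i → IsZero ((homologyFunctor C i).obj F) := by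
  obtain ⟨E, ⟨⟨b, hb⟩, -⟩, ⟨e⟩⟩ := h
  refine ⟨b, fun i hi => ?_⟩
  have h1 : IsZero (E.homology i) :=
    (HomologicalComplex.exactAt_iff_isZero_homology _ _).mp
      (HomologicalComplex.ExactAt.of_isZero (hb i hi))
  exact h1.of_iso ((homologyFunctor C i).mapIso e.symm ≪≫ (homologyFunctorFactors C i).app E)

instance (n : ℤ) : (IsNPC P n).IsClosedUnderIsomorphisms where
  of_iso e h := isNPC_of_iso e h

variable (P) in
/-- The 2-out-of-3 property in distinguished triangles (this is the conclusion of `S5599`). -/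
def TwoOfThree : Prop :=
  ∀ (n : ℤ) (T : Triangle (DerivedCategory C)), T ∈ distTriang (DerivedCategory C) →
    ((IsNPC P (n + 1) T.obj₁ → IsNPC P n T.obj₂ → IsNPC P n T.obj₃) ∧
      (IsNPC P n T.obj₁ → IsNPC P n T.obj₃ → IsNPC P n T.obj₂) ∧
      (IsNPC P (n + 1) T.obj₂ → IsNPC P n T.obj₃ → IsNPC P (n + 1) T.obj₁))

section

variable (h23 : TwoOfThree P)
include h23

lemma cone {n : ℤ} (T : Triangle (DerivedCategory C)) (hT : T ∈ distTriang (DerivedCategory C))
    (h₁ : IsNPC P (n + 1) T.obj₁) (h₂ : IsNPC P n T.obj₂) : IsNPC P n T.obj₃ :=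
  (h23 n T hT).1 h₁ h₂

lemma ext {n : ℤ} (T : Triangle (DerivedCategory C)) (hT : T ∈ distTriang (DerivedCategory C))
    (h₁ : IsNPC P n T.obj₁) (h₃ : IsNPC P n T.obj₃) : IsNPC P n T.obj₂ :=
  (h23 n T hT).2.1 h₁ h₃

lemma fiber {n : ℤ} (T : Triangle (DerivedCategory C)) (hT : T ∈ distTriang (DerivedCategory C))
    (h₂ : IsNPC P (n + 1) T.obj₂) (h₃ : IsNPC P n T.obj₃) : IsNPC P (n + 1) T.obj₁ :=
  (h23 n T hT).2.2 h₂ h₃

lemma biprod {n : ℤ} (F' F'' : DerivedCategory C) [HasBinaryBiproduct F' F'']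
    (h' : IsNPC P n F') (h'' : IsNPC P n F'') : IsNPC P n (F' ⊞ F'') :=
  ext h23 _ (binaryBiproductTriangle_distinguished F' F'') h' h''

lemma of_biprod_aux [P.IsClosedUnderIsomorphisms] [P.ContainsZero] {n : ℤ}
    (F' F'' : DerivedCategory C) (h : IsNPC P n (F' ⊞ F'')) : IsNPC P n F'' := by
  obtain ⟨b, hb⟩ := exists_bound h
  have hb' : ∀ i : ℤ, b < i → IsZero ((homologyFunctor C i).obj F') := by
    intro i hi
    have : IsSplitMono ((homologyFunctor C i).map (biprod.inl : F' ⟶ F' ⊞ F'')) :=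
      ⟨⟨(homologyFunctor C i).map biprod.fst, by
        rw [← Functor.map_comp, biprod.inl_fst, CategoryTheory.Functor.map_id]⟩⟩
    exact IsZero.of_mono ((homologyFunctor C i).map (biprod.inl : F' ⟶ F' ⊞ F'')) (hb i hi)
  have hb'' : ∀ i : ℤ, b < i → IsZero ((homologyFunctor C i).obj F'') := by
    intro i hi
    have : IsSplitMono ((homologyFunctor C i).map (biprod.inr : F'' ⟶ F' ⊞ F'')) :=
      ⟨⟨(homologyFunctor C i).map biprod.snd, by
        rw [← Functor.map_comp, biprod.inr_snd, CategoryTheory.Functor.map_id]⟩⟩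
    exact IsZero.of_mono ((homologyFunctor C i).map (biprod.inr : F'' ⟶ F' ⊞ F'')) (hb i hi)
  suffices ∀ (k : ℕ) (m : ℤ), n ≤ m → b + 1 ≤ m + k → IsNPC P m F' ∧ IsNPC P m F'' by
    obtain ⟨k, hk⟩ : ∃ k : ℕ, b + 1 ≤ n + k := ⟨(b + 1 - n).toNat, by lia⟩
    exact (this k n le_rfl hk).2
  intro k
  induction k with
  | zero =>
    intro m _ hm
    exact ⟨isNPC_of_isZero_homology (fun i hi => hb' i (by simp at hm; lia)),
      isNPC_of_isZero_homology (fun i hi => hb'' i (by simp at hm; lia))⟩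
  | succ k ih =>
    intro m hnm hm
    obtain ⟨h1, h2⟩ := ih (m + 1) (by lia) (by push_cast at hm; lia)
    have hF : IsNPC P m (F' ⊞ F'') := isNPC_of_le hnm h
    refine ⟨?_, cone h23 _ (binaryBiproductTriangle_distinguished F' F'') h1 hF⟩
    have hF' : IsNPC P m (F'' ⊞ F') := isNPC_of_iso (biprod.braiding F' F'') hF
    exact cone h23 _ (binaryBiproductTriangle_distinguished F'' F') h2 hF'

lemma of_biprod_right [P.IsClosedUnderIsomorphisms] [P.ContainsZero] {n : ℤ}
    (F' F'' : DerivedCategory C) [HasBinaryBiproduct F' F''] (h : IsNPC P n (F' ⊞ F'')) :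
    IsNPC P n F'' :=
  of_biprod_aux h23 F' F'' h

lemma of_biprod_left [P.IsClosedUnderIsomorphisms] [P.ContainsZero] {n : ℤ}
    (F' F'' : DerivedCategory C) [HasBinaryBiproduct F' F''] (h : IsNPC P n (F' ⊞ F'')) :
    IsNPC P n F' :=
  of_biprod_aux h23 F'' F' (isNPC_of_iso (biprod.braiding F' F'') h)

open DerivedCategory.TStructure in
/-- Dévissage from the cohomology objects (SGA6 I 2.x, `S5604`). -/
theorem devissage [P.IsClosedUnderIsomorphisms] [P.ContainsZero] (n b : ℤ)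
    (F : DerivedCategory C)
    (hb : ∀ i : ℤ, b < i → IsZero ((homologyFunctor C i).obj F))
    (h : ∀ i : ℤ, n ≤ i →
      IsNPC P (n - i) ((singleFunctor C 0).obj ((homologyFunctor C i).obj F))) :
    IsNPC P n F := by
  have hF : F.IsLE b := by
    rw [isLE_iff]
    exact hb
  have hT := t.triangleLTGE_distinguished n F
  refine ext h23 _ hT ?_ ?_
  · apply isNPC_of_isZero_homology
    intro i hi
    exact isZero_of_isLE ((t.truncLT n).obj F) (n - 1) i (by lia)
  · refine Groth.Agent.Lib.DDevissage.devissage (IsNPC P n)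
      (fun T hT h₁ h₃ => ext h23 T hT h₁ h₃)
      (fun Z hZ => isNPC_of_isZero_homology
        (fun i _ => (homologyFunctor C i).map_isZero hZ)) ((t.truncGE n).obj F) n b ?_
    intro j hj _
    have := Groth.Agent.Lib.DWayOut.isIso_homologyMap_truncGEπ F n j hj
    exact isNPC_of_iso ((singleFunctor C j).mapIso
      (asIso ((homologyFunctor C j).map ((t.truncGEπ n).app F)))) (isNPC_single_shift _ (h j hj))

end

end Groth.Agent.Lib.PCohD
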