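import Mathlib.Algebra.Homology.HomotopyCategory.MappingCone
import Mathlib.Algebra.Homology.Refinements
import Mathlib.Algebra.Homology.QuasiIso
import Mathlib.Algebra.Homology.DerivedCategory.Basic

/-!
Modification of the source of a morphism of cochain complexes along a map into its mapping cone.

Given `u : E ⟶ F` and `j : T ⟶ mappingCone u`, the complex `Emod u j` has terms `T^i ⊞ E^i`,
it receives `E` (`vmap`), maps to `F` (`umap`), and the effect of `umap` on homology is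
controlled by the effect of `j` on homology.
-/

set_option autoImplicit false
universe v u

open CategoryTheory CategoryTheory.Limits HomologicalComplex CochainComplex
open CochainComplex.HomComplex

namespace Groth.Agent.Lib.H43ConeMod

variable {C : Type u} [Category.{v} C] [Abelian C] {E F T : CochainComplex C ℤ}
  (u : E ⟶ F) (j : T ⟶ mappingCone u)

/-- first component of `j` -/
noncomputable def sig (i k : ℤ) (hik : i + 1 = k) : T.X i ⟶ E.X k :=
  j.f i ≫ (mappingCone.fst u).1.v i k hik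

/-- second component of `j` -/
noncomputable def bet (i : ℤ) : T.X i ⟶ F.X i :=
  j.f i ≫ (mappingCone.snd u).v i i (add_zero i)

lemma sig_d (i k l : ℤ) (hik : i + 1 = k) (hkl : k + 1 = l) :
    T.d i k ≫ sig u j k l hkl = - sig u j i k hik ≫ E.d k l := by
  have h := j.comm i k
  dsimp only [sig]
  rw [← Category.assoc, ← h, Category.assoc, mappingCone.d_fst_v u i k l hik hkl,
    Preadditive.comp_neg, Category.assoc]

lemma bet_d (i k : ℤ) (hik : i + 1 = k) :
    T.d i k ≫ bet u j k = sig u j i k hik ≫ u.f k + bet u j i ≫ F.d i k := by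
  have h := j.comm i k
  dsimp only [sig, bet]
  rw [← Category.assoc, ← h, Category.assoc, mappingCone.d_snd_v u i k hik,
    Preadditive.comp_add, Category.assoc, Category.assoc]

/-- constructor of morphisms to the mapping cone -/
noncomputable def cmk {A : C} (i k : ℤ) (hik : i + 1 = k) (a : A ⟶ E.X k) (b : A ⟶ F.X i) :
    A ⟶ (mappingCone u).X i :=
  a ≫ (mappingCone.inl u).v k i (by lia) + b ≫ (mappingCone.inr u).f i

lemma cmk_fst {A : C} (i k : ℤ) (hik : i + 1 = k) (a : A ⟶ E.X k) (b : A ⟶ F.X i) :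
    cmk u i k hik a b ≫ (mappingCone.fst u).1.v i k hik = a := by
  simp [cmk]

lemma cmk_snd {A : C} (i k : ℤ) (hik : i + 1 = k) (a : A ⟶ E.X k) (b : A ⟶ F.X i) :
    cmk u i k hik a b ≫ (mappingCone.snd u).v i i (add_zero i) = b := by
  simp [cmk]

lemma cmk_d_fst {A : C} (i k l : ℤ) (hik : i + 1 = k) (hkl : k + 1 = l) (a : A ⟶ E.X k)
    (b : A ⟶ F.X i) :
    (cmk u i k hik a b ≫ (mappingCone u).d i k) ≫ (mappingCone.fst u).1.v k l hkl =
      - a ≫ E.d k l := by
  rw [Category.assoc, mappingCone.d_fst_v u i k l hik hkl, Preadditive.comp_neg,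
    ← Category.assoc, cmk_fst]

lemma cmk_d_snd {A : C} (i k : ℤ) (hik : i + 1 = k) (a : A ⟶ E.X k) (b : A ⟶ F.X i) :
    (cmk u i k hik a b ≫ (mappingCone u).d i k) ≫ (mappingCone.snd u).v k k (add_zero k) =
      a ≫ u.f k + b ≫ F.d i k := by
  rw [Category.assoc, mappingCone.d_snd_v u i k hik, Preadditive.comp_add, ← Category.assoc,
    cmk_fst, ← Category.assoc, cmk_snd]

/-- the differential of the modified complex, as a matrix -/
noncomputable def Dmat (i k : ℤ) (hik : i + 1 = k) : T.X i ⊞ E.X i ⟶ T.X k ⊞ E.X k :=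
  biprod.desc (biprod.lift (T.d i k) (-(sig u j i k hik))) (biprod.lift 0 (E.d i k))

lemma Dmat_fst (i k : ℤ) (hik : i + 1 = k) :
    Dmat u j i k hik ≫ biprod.fst = biprod.fst ≫ T.d i k := by
  dsimp only [Dmat]
  apply biprod.hom_ext' <;> simp

lemma Dmat_snd (i k : ℤ) (hik : i + 1 = k) :
    Dmat u j i k hik ≫ biprod.snd = biprod.snd ≫ E.d i k - biprod.fst ≫ sig u j i k hik := by
  dsimp only [Dmat]
  apply biprod.hom_ext' <;> simp

lemma inr_Dmat (i k : ℤ) (hik : i + 1 = k) :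
    biprod.inr ≫ Dmat u j i k hik = E.d i k ≫ biprod.inr := by
  dsimp only [Dmat]
  apply biprod.hom_ext <;> simp

lemma Dmat_desc (i k : ℤ) (hik : i + 1 = k) :
    Dmat u j i k hik ≫ biprod.desc (bet u j k) (u.f k) =
      biprod.desc (bet u j i) (u.f i) ≫ F.d i k := by
  dsimp only [Dmat]
  apply biprod.hom_ext'
  · simp [bet_d u j i k hik]
  · simp

lemma Dmat_Dmat (i k l : ℤ) (hik : i + 1 = k) (hkl : k + 1 = l) :
    Dmat u j i k hik ≫ Dmat u j k l hkl = 0 := by
  dsimp only [Dmat]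
  apply biprod.hom_ext' <;> apply biprod.hom_ext
  · simp
  · simp [sig_d u j i k l hik hkl]
  · simp
  · simp

/-- the modified complex -/
noncomputable def Emod : CochainComplex C ℤ where
  X i := T.X i ⊞ E.X i
  d i k := if hik : i + 1 = k then Dmat u j i k hik else 0
  shape i k hik := by
    have : ¬ (i + 1 = k) := hik
    rw [dif_neg this]
  d_comp_d' i k l hik hkl := by
    have hik' : i + 1 = k := hik
    have hkl' : k + 1 = l := hkl
    rw [dif_pos hik', dif_pos hkl']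
    exact Dmat_Dmat u j i k l hik' hkl'

lemma Emod_d (i k : ℤ) (hik : i + 1 = k) :
    (Emod u j).d i k = Dmat u j i k hik := by
  dsimp only [Emod]
  rw [dif_pos hik]

/-- first projection -/
noncomputable def pT (i : ℤ) : (Emod u j).X i ⟶ T.X i :=
  (biprod.fst : T.X i ⊞ E.X i ⟶ T.X i)

/-- second projection -/
noncomputable def pE (i : ℤ) : (Emod u j).X i ⟶ E.X i :=
  (biprod.snd : T.X i ⊞ E.X i ⟶ E.X i)

/-- constructor of morphisms to the modified complex -/
noncomputable def mk {A : C} {i : ℤ} (t : A ⟶ T.X i) (e : A ⟶ E.X i) : A ⟶ (Emod u j).X i :=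
  (biprod.lift t e : A ⟶ T.X i ⊞ E.X i)

@[simp] lemma mk_pT {A : C} {i : ℤ} (t : A ⟶ T.X i) (e : A ⟶ E.X i) :
    mk u j t e ≫ pT u j i = t := biprod.lift_fst t e

@[simp] lemma mk_pE {A : C} {i : ℤ} (t : A ⟶ T.X i) (e : A ⟶ E.X i) :
    mk u j t e ≫ pE u j i = e := biprod.lift_snd t e

lemma ext_to {A : C} {i : ℤ} {x y : A ⟶ (Emod u j).X i}
    (h1 : x ≫ pT u j i = y ≫ pT u j i) (h2 : x ≫ pE u j i = y ≫ pE u j i) : x = y :=
  biprod.hom_ext (X := T.X i) (Y := E.X i) x y h1 h2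

lemma d_pT (i k : ℤ) (hik : i + 1 = k) :
    (Emod u j).d i k ≫ pT u j k = pT u j i ≫ T.d i k := by
  rw [Emod_d u j i k hik]
  exact Dmat_fst u j i k hik

lemma d_pE (i k : ℤ) (hik : i + 1 = k) :
    (Emod u j).d i k ≫ pE u j k = pE u j i ≫ E.d i k - pT u j i ≫ sig u j i k hik := by
  rw [Emod_d u j i k hik]
  exact Dmat_snd u j i k hik

/-- the inclusion of `E` -/
noncomputable def vmap : E ⟶ Emod u j where
  f i := (biprod.inr : E.X i ⟶ T.X i ⊞ E.X i)
  comm' i k hik := by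
    have hik' : i + 1 = k := hik
    rw [Emod_d u j i k hik']
    exact inr_Dmat u j i k hik'

/-- the map to `F` -/
noncomputable def umap : Emod u j ⟶ F where
  f i := (biprod.desc (bet u j i) (u.f i) : T.X i ⊞ E.X i ⟶ F.X i)
  comm' i k hik := by
    have hik' : i + 1 = k := hik
    rw [Emod_d u j i k hik']
    exact (Dmat_desc u j i k hik').symm

lemma vmap_umap : vmap u j ≫ umap u j = u := by
  ext i
  exact biprod.inr_desc (bet u j i) (u.f i)

lemma umap_f (i : ℤ) :
    (umap u j).f i = pT u j i ≫ bet u j i + pE u j i ≫ u.f i := by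
  have h : (biprod.desc (bet u j i) (u.f i) : T.X i ⊞ E.X i ⟶ F.X i) =
      biprod.fst ≫ bet u j i + biprod.snd ≫ u.f i := by
    apply biprod.hom_ext' <;> simp
  exact h

instance (i : ℤ) : Mono ((vmap u j).f i) :=
  inferInstanceAs (Mono (biprod.inr : E.X i ⟶ T.X i ⊞ E.X i))

lemma vmap_f_pE (i : ℤ) : (vmap u j).f i ≫ pE u j i = 𝟙 _ :=
  biprod.inr_snd (X := T.X i) (Y := E.X i)

lemma vmap_f_pT (i : ℤ) : (vmap u j).f i ≫ pT u j i = 0 :=
  biprod.inr_fst (X := T.X i) (Y := E.X i)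

lemma isIso_vmap_f (i : ℤ) (h : IsZero (T.X i)) : IsIso ((vmap u j).f i) := by
  refine ⟨pE u j i, vmap_f_pE u j i, ?_⟩
  apply ext_to u j
  · exact h.eq_of_tgt _ _
  · rw [Category.assoc, vmap_f_pE, Category.comp_id, Category.id_comp]

/-- the inclusion of `T^i` -/
noncomputable def iT (i : ℤ) : T.X i ⟶ (Emod u j).X i :=
  (biprod.inl : T.X i ⟶ T.X i ⊞ E.X i)

lemma iT_pT (i : ℤ) : iT u j i ≫ pT u j i = 𝟙 _ :=
  biprod.inl_fst (X := T.X i) (Y := E.X i)

lemma total (i : ℤ) : pT u j i ≫ iT u j i + pE u j i ≫ (vmap u j).f i = 𝟙 _ :=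
  biprod.total (X := T.X i) (Y := E.X i)

/-- the cokernel of the inclusion is `T` in each degree -/
noncomputable def cokernelIso (i : ℤ) : cokernel ((vmap u j).f i) ≅ T.X i where
  hom := cokernel.desc _ (pT u j i) (vmap_f_pT u j i)
  inv := iT u j i ≫ cokernel.π ((vmap u j).f i)
  hom_inv_id := by
    rw [← cancel_epi (cokernel.π _), cokernel.π_desc_assoc, Category.comp_id]
    have h1 : pT u j i ≫ iT u j i = 𝟙 _ - pE u j i ≫ (vmap u j).f i := by
      rw [eq_sub_iff_add_eq, total]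
    rw [← Category.assoc, h1, Preadditive.sub_comp, Category.id_comp, Category.assoc,
      cokernel.condition, comp_zero, sub_zero]
  inv_hom_id := by
    rw [Category.assoc, cokernel.π_desc, iT_pT]

theorem epi_homologyMap_umap (i : ℤ) (h : Epi (homologyMap j i)) :
    Epi (homologyMap (umap u j) i) := by
  rw [epi_homologyMap_iff_up_to_refinements _ (i - 1) i (i + 1) (by simp) (by simp)] at h ⊢
  intro A y hy
  obtain ⟨A', π, hπ, t, ht, c', hc'⟩ := h (y ≫ (mappingCone.inr u).f i) (by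
    rw [Category.assoc, mappingCone.inr_f_d, ← Category.assoc, hy, zero_comp])
  have h1 := hc' =≫ (mappingCone.fst u).1.v i (i + 1) rfl
  have h2 := hc' =≫ (mappingCone.snd u).v i i (add_zero i)
  simp only [Category.assoc, mappingCone.inr_f_fst_v, comp_zero, Preadditive.add_comp,
    mappingCone.inr_f_snd_v, Category.comp_id,
    mappingCone.d_fst_v u (i - 1) i (i + 1) (by lia) rfl,
    mappingCone.d_snd_v u (i - 1) i (by lia), Preadditive.comp_neg,
    Preadditive.comp_add] at h1 h2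
  refine ⟨A', π, hπ, mk u j t (c' ≫ (mappingCone.fst u).1.v (i - 1) i (by lia)), ?_,
    c' ≫ (mappingCone.snd u).v (i - 1) (i - 1) (add_zero _), ?_⟩
  · apply ext_to u j
    · rw [Category.assoc, d_pT u j i (i + 1) rfl, ← Category.assoc, mk_pT, ht, zero_comp]
    · rw [Category.assoc, d_pE u j i (i + 1) rfl, Preadditive.comp_sub, ← Category.assoc,
        mk_pE, ← Category.assoc, mk_pT, zero_comp, Category.assoc]
      dsimp only [sig]
      rw [sub_eq_zero]
      have := h1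
      rw [eq_comm, add_neg_eq_zero] at this
      exact this.symm
  · rw [umap_f, Preadditive.comp_add, ← Category.assoc, mk_pT, ← Category.assoc, mk_pE, h2]
    dsimp only [bet]
    simp only [Category.assoc]
    abel

theorem mono_homologyMap_umap (i : ℤ) (h1 : Epi (homologyMap j (i - 1)))
    (h2 : Mono (homologyMap j i)) : Mono (homologyMap (umap u j) i) := by
  rw [mono_homologyMap_iff_up_to_refinements _ (i - 1) i (i + 1) (by simp) (by simp)] at h2 ⊢
  rw [epi_homologyMap_iff_up_to_refinements _ (i - 1 - 1) (i - 1) i (by simp) (by simp)] at h1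
  intro A x hx f hxf
  have hx1 := hx =≫ pT u j (i + 1)
  have hx2 := hx =≫ pE u j (i + 1)
  rw [Category.assoc, d_pT u j i (i + 1) rfl, zero_comp, ← Category.assoc] at hx1
  rw [Category.assoc, d_pE u j i (i + 1) rfl, zero_comp, Preadditive.comp_sub, ← Category.assoc,
    ← Category.assoc, sub_eq_zero] at hx2
  rw [umap_f, Preadditive.comp_add, ← Category.assoc, ← Category.assoc] at hxf
  obtain ⟨t, ht_def⟩ : ∃ t, t = x ≫ pT u j i := ⟨_, rfl⟩
  obtain ⟨e, he_def⟩ : ∃ e, e = x ≫ pE u j i := ⟨_, rfl⟩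
  rw [← ht_def] at hx1 hx2 hxf
  rw [← he_def] at hx2 hxf
  have hxf' : t ≫ bet u j i = f ≫ F.d (i - 1) i - e ≫ u.f i := by
    rw [eq_sub_iff_add_eq]; exact hxf
  -- j t is a coboundary
  have hjt : t ≫ j.f i = cmk u (i - 1) i (by lia) (-e) f ≫ (mappingCone u).d (i - 1) i := by
    apply mappingCone.ext_to u i (i + 1) rfl
    · have h := hx2
      dsimp only [sig] at h
      rw [Category.assoc, ← h, cmk_d_fst, Preadditive.neg_comp, neg_neg]
    · have h := hxf'
      dsimp only [bet] at h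
      rw [Category.assoc, h, cmk_d_snd, Preadditive.neg_comp]
      abel
  obtain ⟨A₁, π₁, hπ₁, t', ht'⟩ := h2 t hx1 _ hjt
  -- the corrected cocycle of E
  obtain ⟨e₁, he₁_def⟩ : ∃ e₁, e₁ = π₁ ≫ e + t' ≫ sig u j (i - 1) i (by lia) := ⟨_, rfl⟩
  obtain ⟨f₁, hf₁_def⟩ : ∃ f₁, f₁ = π₁ ≫ f - t' ≫ bet u j (i - 1) := ⟨_, rfl⟩
  have he₁ : e₁ ≫ E.d i (i + 1) = 0 := by
    rw [he₁_def, Preadditive.add_comp, Category.assoc, Category.assoc, hx2,
      ← Category.assoc π₁, ht', Category.assoc]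
    have := sig_d u j (i - 1) i (i + 1) (by lia) rfl
    rw [this, Preadditive.comp_neg, neg_add_cancel]
  have hf₁ : e₁ ≫ u.f i = f₁ ≫ F.d (i - 1) i := by
    have hb := bet_d u j (i - 1) i (by lia)
    have h3 : bet u j (i - 1) ≫ F.d (i - 1) i =
        T.d (i - 1) i ≫ bet u j i - sig u j (i - 1) i (by lia) ≫ u.f i := by
      rw [hb]; abel
    have h4 : π₁ ≫ e ≫ u.f i = π₁ ≫ f ≫ F.d (i - 1) i - t' ≫ T.d (i - 1) i ≫ bet u j i := by
      rw [← Category.assoc t', ← ht', Category.assoc, hxf', Preadditive.comp_sub]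
      abel
    rw [he₁_def, hf₁_def, Preadditive.add_comp, Preadditive.sub_comp, Category.assoc,
      Category.assoc, Category.assoc, Category.assoc, h3, Preadditive.comp_sub, h4]
    abel
  have hc₂ : cmk u (i - 1) i (by lia) e₁ (-f₁) ≫ (mappingCone u).d (i - 1) i = 0 := by
    apply mappingCone.ext_to u i (i + 1) rfl
    · rw [cmk_d_fst, he₁, neg_zero, zero_comp]
    · rw [cmk_d_snd, hf₁, Preadditive.neg_comp, add_neg_cancel, zero_comp]
  obtain ⟨A₂, π₂, hπ₂, t₂, ht₂, c₃, hc₃⟩ := h1 _ hc₂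
  have h3 := hc₃ =≫ (mappingCone.fst u).1.v (i - 1) i (by lia)
  rw [Category.assoc, cmk_fst, Preadditive.add_comp, Category.assoc, Category.assoc,
    mappingCone.d_fst_v u (i - 1 - 1) (i - 1) i (by lia) (by lia),
    Preadditive.comp_neg] at h3
  refine ⟨A₂, π₂ ≫ π₁, inferInstance,
    mk u j (π₂ ≫ t' - t₂) (-(c₃ ≫ (mappingCone.fst u).1.v (i - 1 - 1) (i - 1) (by lia))), ?_⟩
  apply ext_to u j
  · have hR : (mk u j (π₂ ≫ t' - t₂)
        (-(c₃ ≫ (mappingCone.fst u).1.v (i - 1 - 1) (i - 1) (by lia))) ≫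
        (Emod u j).d (i - 1) i) ≫ pT u j i = (π₂ ≫ t' - t₂) ≫ T.d (i - 1) i := by
      rw [Category.assoc, d_pT u j (i - 1) i (by lia), ← Category.assoc, mk_pT]
    rw [hR, Preadditive.sub_comp, ht₂, sub_zero]
    simp only [Category.assoc]
    rw [← ht', ht_def]
  · have hR : (mk u j (π₂ ≫ t' - t₂)
        (-(c₃ ≫ (mappingCone.fst u).1.v (i - 1 - 1) (i - 1) (by lia))) ≫
        (Emod u j).d (i - 1) i) ≫ pE u j i =
        (-(c₃ ≫ (mappingCone.fst u).1.v (i - 1 - 1) (i - 1) (by lia))) ≫ E.d (i - 1) i -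
          (π₂ ≫ t' - t₂) ≫ sig u j (i - 1) i (by lia) := by
      rw [Category.assoc, d_pE u j (i - 1) i (by lia), Preadditive.comp_sub, ← Category.assoc,
        mk_pE, ← Category.assoc, mk_pT]
    rw [hR]
    simp only [Category.assoc]
    rw [← he_def]
    have h4 : π₂ ≫ e₁ = t₂ ≫ sig u j (i - 1) i (by lia) -
        c₃ ≫ (mappingCone.fst u).1.v (i - 1 - 1) (i - 1) (by lia) ≫ E.d (i - 1) i := by
      dsimp only [sig]
      rw [h3]; abel
    have h5 : π₂ ≫ e₁ = π₂ ≫ π₁ ≫ e + π₂ ≫ t' ≫ sig u j (i - 1) i (by lia) := by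
      rw [he₁_def, Preadditive.comp_add]
    have h6 : π₂ ≫ π₁ ≫ e = π₂ ≫ e₁ - π₂ ≫ t' ≫ sig u j (i - 1) i (by lia) := by
      rw [h5]; abel
    rw [h6, h4]
    simp only [Preadditive.neg_comp, Preadditive.sub_comp, Category.assoc]
    abel

/-- the packaged modification statement -/
theorem exists_modification :
    ∃ (E' : CochainComplex C ℤ) (v : E ⟶ E') (u' : E' ⟶ F), v ≫ u' = u ∧
      (∀ i : ℤ, Mono (v.f i)) ∧ (∀ i : ℤ, IsZero (T.X i) → IsIso (v.f i)) ∧
      (∀ i : ℤ, Nonempty (cokernel (v.f i) ≅ T.X i)) ∧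
      (∀ i : ℤ, Epi (homologyMap j i) → Epi (homologyMap u' i)) ∧
      (∀ i : ℤ, Epi (homologyMap j (i - 1)) → Mono (homologyMap j i) →
        Mono (homologyMap u' i)) :=
  ⟨Emod u j, vmap u j, umap u j, vmap_umap u j, fun _ => inferInstance,
    fun i h => isIso_vmap_f u j i h, fun i => ⟨cokernelIso u j i⟩,
    fun i h => epi_homologyMap_umap u j i h,
    fun i h1 h2 => mono_homologyMap_umap u j i h1 h2⟩

/-- the mapping cone is acyclic in degree `i` when `u` is a monomorphism on `H^{i+1}` and an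
epimorphism on `H^i` -/
theorem exactAt_mappingCone (i : ℤ) (h1 : Mono (homologyMap u (i + 1)))
    (h2 : Epi (homologyMap u i)) : (mappingCone u).ExactAt i := by
  rw [mono_homologyMap_iff_up_to_refinements _ i (i + 1) (i + 1 + 1) (by simp) (by simp)] at h1
  rw [epi_homologyMap_iff_up_to_refinements _ (i - 1) i (i + 1) (by simp) (by simp)] at h2
  rw [exactAt_iff_exact_up_to_refinements _ (i - 1) i (i + 1) (by simp) (by simp)]
  intro A c hc
  obtain ⟨c₁, hc₁_def⟩ : ∃ c₁, c₁ = c ≫ (mappingCone.fst u).1.v i (i + 1) rfl := ⟨_, rfl⟩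
  obtain ⟨c₂, hc₂_def⟩ : ∃ c₂, c₂ = c ≫ (mappingCone.snd u).v i i (add_zero i) := ⟨_, rfl⟩
  have hc1 := hc =≫ (mappingCone.fst u).1.v (i + 1) (i + 1 + 1) rfl
  have hc2 := hc =≫ (mappingCone.snd u).v (i + 1) (i + 1) (add_zero _)
  rw [Category.assoc, mappingCone.d_fst_v u i (i + 1) (i + 1 + 1) rfl rfl, zero_comp,
    Preadditive.comp_neg, ← Category.assoc, ← hc₁_def, neg_eq_zero] at hc1
  rw [Category.assoc, mappingCone.d_snd_v u i (i + 1) rfl, zero_comp, Preadditive.comp_add,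
    ← Category.assoc, ← hc₁_def, ← Category.assoc, ← hc₂_def] at hc2
  have hc2' : c₁ ≫ u.f (i + 1) = (-c₂) ≫ F.d i (i + 1) := by
    rw [Preadditive.neg_comp, eq_neg_iff_add_eq_zero]; exact hc2
  obtain ⟨A₁, π₁, hπ₁, a, ha⟩ := h1 c₁ hc1 (-c₂) hc2'
  obtain ⟨y, hy_def⟩ : ∃ y, y = π₁ ≫ c₂ + a ≫ u.f i := ⟨_, rfl⟩
  have hy : y ≫ F.d i (i + 1) = 0 := by
    have h3 : a ≫ u.f i ≫ F.d i (i + 1) = π₁ ≫ c₁ ≫ u.f (i + 1) := by
      rw [u.comm i (i + 1), ← Category.assoc, ← ha, Category.assoc]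
    rw [hy_def, Preadditive.add_comp, Category.assoc, Category.assoc, h3,
      ← Preadditive.comp_add,
      show c₂ ≫ F.d i (i + 1) + c₁ ≫ u.f (i + 1) = c₁ ≫ u.f (i + 1) + c₂ ≫ F.d i (i + 1) from
        add_comm _ _, hc2, comp_zero]
  obtain ⟨A₂, π₂, hπ₂, e, he, f₀, hf₀⟩ := h2 y hy
  refine ⟨A₂, π₂ ≫ π₁, inferInstance, cmk u (i - 1) i (by lia) (e - π₂ ≫ a) f₀, ?_⟩
  apply mappingCone.ext_to u i (i + 1) rfl
  · rw [cmk_d_fst, Category.assoc, Category.assoc, ← hc₁_def, Preadditive.sub_comp, he,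
      zero_sub, neg_neg, Category.assoc, ← ha]
  · rw [cmk_d_snd, Category.assoc, Category.assoc, ← hc₂_def, Preadditive.sub_comp,
      Category.assoc]
    have : π₂ ≫ π₁ ≫ c₂ = π₂ ≫ y - π₂ ≫ a ≫ u.f i := by
      rw [hy_def, Preadditive.comp_add]; abel
    rw [this, hf₀]; abel

theorem isZero_homology_mappingCone (i : ℤ) (h1 : Mono (homologyMap u (i + 1)))
    (h2 : Epi (homologyMap u i)) : IsZero ((mappingCone u).homology i) := by
  rw [← exactAt_iff_isZero_homology]
  exact exactAt_mappingCone u i h1 h2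

/-- the map of mapping cones induced by a quasi-isomorphism of the targets is a
quasi-isomorphism -/
theorem quasiIso_mappingCone_map {G : CochainComplex C ℤ} (w : G ⟶ E) (hu : QuasiIso u) :
    QuasiIso (mappingCone.map w (w ≫ u) (𝟙 G) u (by simp)) := by
  let _ : HasDerivedCategory C := HasDerivedCategory.standard C
  rw [← DerivedCategory.isIso_Q_map_iff_quasiIso]
  let φ := DerivedCategory.Q.mapTriangle.map
    (mappingCone.triangleMap w (w ≫ u) (𝟙 G) u (by simp))
  have h1 : IsIso φ.hom₁ := by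
    have : φ.hom₁ = 𝟙 _ := DerivedCategory.Q.map_id G
    rw [this]; exact IsIso.id _
  have h2 : IsIso φ.hom₂ := by
    exact (DerivedCategory.isIso_Q_map_iff_quasiIso C u).2 hu
  exact Pretriangulated.isIso₃_of_isIso₁₂ φ (DerivedCategory.mappingCone_triangle_distinguished w)
    (DerivedCategory.mappingCone_triangle_distinguished _) h1 h2

end Groth.Agent.Lib.H43ConeMod
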