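import Mathlib.Algebra.Homology.DerivedCategory.ShortExact
import Mathlib.Algebra.Homology.DerivedCategory.SingleTriangle
import Mathlib.Algebra.Homology.HomologicalComplexAbelian
import Mathlib.CategoryTheory.ObjectProperty.ClosedUnderIsomorphisms

/-!
# Peeling off the top term of a bounded above complex (any abelian category)

Namespace `Groth.Agent.Lib.DPeelTop`.

* `exists_peel_top K b`: if `K^i = 0` for `i > b`, there are a complex `K'` with `K'^i = 0` for
  `i ≥ b`, `K'^i ≅ K^i` for `i < b`, and a distinguished triangle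
  `(K^b)[-b] ⟶ Q(K) ⟶ Q(K') ⟶` in `D(C)`.
* `exists_peel_bottom K a`: dually, if `K^i = 0` for `i < a` there are `K'` with `K'^i = 0` for
  `i ≤ a`, `K'^i ≅ K^i` for `i > a`, and a distinguished triangle `Q(K') ⟶ Q(K) ⟶ (K^a)[-a] ⟶`.
* `termwise_devissage`: a property `W` of objects of `D(C)`, closed under isomorphisms and
  extensions, which holds for (the images of) complexes vanishing in degrees `≥ n` and for all
  `X[-i]` with `X ≅ K^i`, `i ≥ n`, holds for `Q(K)` when `K` is bounded above.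
-/

set_option autoImplicit false
universe w v u

open CategoryTheory CategoryTheory.Limits Category Pretriangulated

namespace Groth.Agent.Lib.DPeelTop

variable {C : Type u} [Category.{v} C] [Abelian C]

open HomologicalComplex

/-- the inclusion of the top term -/
noncomputable def topι (K : CochainComplex C ℤ) (b : ℤ) (hK : IsZero (K.X (b + 1))) :
    (single C (ComplexShape.up ℤ) b).obj (K.X b) ⟶ K :=
  mkHomFromSingle (𝟙 (K.X b)) (fun j (hj : b + 1 = j) => by
    subst hj
    exact hK.eq_of_tgt _ _)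

instance (K : CochainComplex C ℤ) (b : ℤ) (hK : IsZero (K.X (b + 1))) : Mono (topι K b hK) := by
  apply mono_of_mono_f
  intro i
  by_cases hi : i = b
  · subst hi
    rw [topι, mkHomFromSingle_f]
    infer_instance
  · exact ⟨fun _ _ _ => (isZero_single_obj_X (ComplexShape.up ℤ) b (K.X b) i hi).eq_of_tgt _ _⟩

/-- the short exact sequence `0 → K^b[-b] → K → K' → 0` -/
noncomputable def ses (K : CochainComplex C ℤ) (b : ℤ) (hK : IsZero (K.X (b + 1))) :
    ShortComplex (CochainComplex C ℤ) :=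
  ShortComplex.mk (topι K b hK) (cokernel.π (topι K b hK)) (cokernel.condition _)

lemma ses_shortExact (K : CochainComplex C ℤ) (b : ℤ) (hK : IsZero (K.X (b + 1))) :
    (ses K b hK).ShortExact where
  exact := ShortComplex.exact_of_g_is_cokernel _ (cokernelIsCokernel _)
  mono_f := by dsimp [ses]; infer_instance
  epi_g := by dsimp [ses]; infer_instance

lemma isZero_ses_X₃ (K : CochainComplex C ℤ) (b : ℤ) (hK : IsZero (K.X (b + 1))) :
    IsZero ((ses K b hK).X₃.X b) := by
  have h := (shortExact_iff_degreewise_shortExact _).mp (ses_shortExact K b hK) b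
  refine h.isIso_f_iff.mp ?_
  change IsIso ((topι K b hK).f b)
  rw [topι, mkHomFromSingle_f]
  infer_instance

lemma isIso_ses_g_f (K : CochainComplex C ℤ) (b : ℤ) (hK : IsZero (K.X (b + 1))) (i : ℤ)
    (hi : i ≠ b) : IsIso ((ses K b hK).g.f i) := by
  have h := (shortExact_iff_degreewise_shortExact _).mp (ses_shortExact K b hK) i
  exact h.isIso_g_iff.mpr (isZero_single_obj_X (ComplexShape.up ℤ) b (K.X b) i hi)

/-- the projection onto the bottom term -/
noncomputable def bottomπ (K : CochainComplex C ℤ) (a : ℤ) (hK : IsZero (K.X (a - 1))) :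
    K ⟶ (single C (ComplexShape.up ℤ) a).obj (K.X a) :=
  mkHomToSingle (𝟙 (K.X a)) (fun j (hj : j + 1 = a) => by
    obtain rfl : j = a - 1 := by lia
    exact hK.eq_of_src _ _)

instance (K : CochainComplex C ℤ) (a : ℤ) (hK : IsZero (K.X (a - 1))) : Epi (bottomπ K a hK) := by
  apply epi_of_epi_f
  intro i
  by_cases hi : i = a
  · subst hi
    rw [bottomπ, mkHomToSingle_f]
    infer_instance
  · exact ⟨fun _ _ _ => (isZero_single_obj_X (ComplexShape.up ℤ) a (K.X a) i hi).eq_of_src _ _⟩

/-- the short exact sequence `0 → K' → K → K^a[-a] → 0` -/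
noncomputable def ses' (K : CochainComplex C ℤ) (a : ℤ) (hK : IsZero (K.X (a - 1))) :
    ShortComplex (CochainComplex C ℤ) :=
  ShortComplex.mk (kernel.ι (bottomπ K a hK)) (bottomπ K a hK) (kernel.condition _)

lemma ses'_shortExact (K : CochainComplex C ℤ) (a : ℤ) (hK : IsZero (K.X (a - 1))) :
    (ses' K a hK).ShortExact where
  exact := ShortComplex.exact_of_f_is_kernel _ (kernelIsKernel _)
  mono_f := by dsimp [ses']; infer_instance
  epi_g := by dsimp [ses']; infer_instance

lemma isZero_ses'_X₁ (K : CochainComplex C ℤ) (a : ℤ) (hK : IsZero (K.X (a - 1))) :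
    IsZero ((ses' K a hK).X₁.X a) := by
  have h := (shortExact_iff_degreewise_shortExact _).mp (ses'_shortExact K a hK) a
  refine h.isIso_g_iff.mp ?_
  change IsIso ((bottomπ K a hK).f a)
  rw [bottomπ, mkHomToSingle_f]
  infer_instance

lemma isIso_ses'_f_f (K : CochainComplex C ℤ) (a : ℤ) (hK : IsZero (K.X (a - 1))) (i : ℤ)
    (hi : i ≠ a) : IsIso ((ses' K a hK).f.f i) := by
  have h := (shortExact_iff_degreewise_shortExact _).mp (ses'_shortExact K a hK) i
  exact h.isIso_f_iff.mpr (isZero_single_obj_X (ComplexShape.up ℤ) a (K.X a) i hi)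

variable [HasDerivedCategory.{w} C]

open DerivedCategory

/-- Peeling off the bottom term of a bounded below complex. -/
theorem exists_peel_bottom (K : CochainComplex C ℤ) (a : ℤ)
    (hK : ∀ i : ℤ, i < a → IsZero (K.X i)) :
    ∃ (K' : CochainComplex C ℤ) (T : Triangle (DerivedCategory C)),
      T ∈ distTriang (DerivedCategory C) ∧ Nonempty (T.obj₁ ≅ Q.obj K') ∧
      Nonempty (T.obj₂ ≅ Q.obj K) ∧ Nonempty (T.obj₃ ≅ (singleFunctor C a).obj (K.X a)) ∧
      (∀ i : ℤ, i ≤ a → IsZero (K'.X i)) ∧ (∀ i : ℤ, a < i → Nonempty (K'.X i ≅ K.X i)) := by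
  have ha := hK (a - 1) (by lia)
  refine ⟨(ses' K a ha).X₁, triangleOfSES (ses'_shortExact K a ha),
    triangleOfSES_distinguished _, ⟨Iso.refl _⟩, ⟨Iso.refl _⟩,
    ⟨((singleFunctorIsoCompQ C a).app (K.X a)).symm⟩, fun i hi => ?_, fun i hi => ?_⟩
  · obtain rfl | hi := hi.eq_or_lt
    · exact isZero_ses'_X₁ K i ha
    · have h1 := isIso_ses'_f_f K a ha i (by lia)
      exact (hK i hi).of_iso (@asIso _ _ _ _ _ h1)
  · have h1 := isIso_ses'_f_f K a ha i (by lia)
    exact ⟨@asIso _ _ _ _ _ h1⟩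

/-- Peeling off the top term of a bounded above complex. -/
theorem exists_peel_top (K : CochainComplex C ℤ) (b : ℤ) (hK : ∀ i : ℤ, b < i → IsZero (K.X i)) :
    ∃ (K' : CochainComplex C ℤ) (T : Triangle (DerivedCategory C)),
      T ∈ distTriang (DerivedCategory C) ∧ Nonempty (T.obj₁ ≅ (singleFunctor C b).obj (K.X b)) ∧
      Nonempty (T.obj₂ ≅ Q.obj K) ∧ Nonempty (T.obj₃ ≅ Q.obj K') ∧
      (∀ i : ℤ, b ≤ i → IsZero (K'.X i)) ∧ (∀ i : ℤ, i < b → Nonempty (K'.X i ≅ K.X i)) := by
  have hb := hK (b + 1) (by lia)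
  refine ⟨(ses K b hb).X₃, triangleOfSES (ses_shortExact K b hb),
    triangleOfSES_distinguished _, ⟨((singleFunctorIsoCompQ C b).app (K.X b)).symm⟩,
    ⟨Iso.refl _⟩, ⟨Iso.refl _⟩, fun i hi => ?_, fun i hi => ?_⟩
  · obtain rfl | hi := hi.eq_or_lt
    · exact isZero_ses_X₃ K b hb
    · have := isIso_ses_g_f K b hb i (by lia)
      exact (hK i hi).of_iso (asIso ((ses K b hb).g.f i)).symm
  · have := isIso_ses_g_f K b hb i (by lia)
    exact ⟨(asIso ((ses K b hb).g.f i)).symm⟩

open ZeroObject in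
/-- Termwise dévissage for bounded above complexes. -/
theorem termwise_devissage (W : ObjectProperty (DerivedCategory C)) [W.IsClosedUnderIsomorphisms]
    (hext : ∀ T ∈ distTriang (DerivedCategory C), W T.obj₁ → W T.obj₃ → W T.obj₂) (n : ℤ)
    (hlow : ∀ K : CochainComplex C ℤ, (∀ i : ℤ, n ≤ i → IsZero (K.X i)) → W (Q.obj K))
    (K : CochainComplex C ℤ) (b : ℤ) (hK : ∀ i : ℤ, b < i → IsZero (K.X i))
    (hterms : ∀ (i : ℤ) (X : C), n ≤ i → Nonempty (X ≅ K.X i) → W ((singleFunctor C i).obj X)) :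
    W (Q.obj K) := by
  suffices ∀ (k : ℕ) (K : CochainComplex C ℤ) (b : ℤ), (∀ i : ℤ, b < i → IsZero (K.X i)) →
      b < n + k → (∀ (i : ℤ) (X : C), n ≤ i → Nonempty (X ≅ K.X i) →
        W ((singleFunctor C i).obj X)) → W (Q.obj K) by
    obtain ⟨k, hk⟩ : ∃ k : ℕ, b < n + k := ⟨(b - n + 1).toNat, by lia⟩
    exact this k K b hK hk hterms
  intro k
  induction k with
  | zero =>
    intro K b hK hb _
    exact hlow K (fun i hi => hK i (by simp at hb; lia))
  | succ k ih =>
    intro K b hK hb hterms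
    by_cases hbk : b < n + k
    · exact ih K b hK hbk hterms
    · obtain ⟨K', T, hT, ⟨e₁⟩, ⟨e₂⟩, ⟨e₃⟩, h0, hiso⟩ := exists_peel_top K b hK
      refine W.prop_of_iso e₂ (hext T hT ?_ ?_)
      · exact W.prop_of_iso e₁.symm (hterms b (K.X b) (by push_cast at hb; lia) ⟨Iso.refl _⟩)
      · refine W.prop_of_iso e₃.symm (ih K' (b - 1) (fun i hi => h0 i (by lia))
          (by push_cast at hb; lia) ?_)
        intro i X hi ⟨e⟩
        by_cases hib : i < b
        · obtain ⟨e'⟩ := hiso i hib
          exact hterms i X hi ⟨e ≪≫ e'⟩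
        · -- `X` is a zero object
          have hX : IsZero X := (h0 i (by lia)).of_iso e
          have hZ : IsZero ((singleFunctor C i).obj X) := (singleFunctor C i).map_isZero hX
          have hZ' : IsZero (Q.obj (0 : CochainComplex C ℤ)) := Q.map_isZero (isZero_zero _)
          exact W.prop_of_iso (hZ'.iso hZ) (hlow 0 (fun j _ => by
            exact (eval C (ComplexShape.up ℤ) j).map_isZero (isZero_zero _)))

end Groth.Agent.Lib.DPeelTop
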