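import Groth.Agent.Lib.PCohD
import Groth.Agent.Lib.DPeelTop

/-!
# Termwise criterion for `n`-pseudo-coherence (SGA6 I, punctual case)

Namespace `Groth.Agent.Lib.PCohD`.

* `isNPC_Q_of_isZero`: a complex vanishing in degrees `≥ n` is `n`-pseudo-coherent.
* `termwise`: given 2-out-of-3, a bounded above complex `F` such that `F^i[0]` is
  `(n - i)`-pseudo-coherent for all `i ≥ n` is `n`-pseudo-coherent (`S5619`).
-/

set_option autoImplicit false
universe w v u

open CategoryTheory CategoryTheory.Limits Category Pretriangulated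

namespace Groth.Agent.Lib.PCohD

variable {C : Type u} [Category.{v} C] [Abelian C] [HasDerivedCategory.{w} C]
  {P : ObjectProperty C}

open DerivedCategory

lemma isNPC_Q_of_isZero [P.IsClosedUnderIsomorphisms] [P.ContainsZero] (n : ℤ)
    (K : CochainComplex C ℤ) (hK : ∀ i : ℤ, n ≤ i → IsZero (K.X i)) : IsNPC P n (Q.obj K) :=
  ⟨K, ⟨⟨n, fun i hi => hK i hi.le⟩, fun i hi => P.prop_of_isZero (hK i hi)⟩, ⟨Iso.refl _⟩⟩

theorem termwise [P.IsClosedUnderIsomorphisms] [P.ContainsZero] (h23 : TwoOfThree P) (n : ℤ)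
    (F : CochainComplex C ℤ) (b : ℤ) (hb : ∀ i : ℤ, b < i → IsZero (F.X i))
    (hfp : ∀ i : ℤ, n ≤ i → IsNPC P (n - i) ((singleFunctor C 0).obj (F.X i))) :
    IsNPC P n (Q.obj F) := by
  refine Groth.Agent.Lib.DPeelTop.termwise_devissage (IsNPC P n)
    (fun T hT h₁ h₃ => ext h23 T hT h₁ h₃) n (isNPC_Q_of_isZero n) F b hb ?_
  rintro i X hi ⟨e⟩
  exact isNPC_single_shift X (isNPC_of_iso ((singleFunctor C 0).mapIso e.symm) (hfp i hi))

end Groth.Agent.Lib.PCohD
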