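import Groth.Agent.Lib.DRingPCoh21
import Groth.Agent.S5605
import Groth.Agent.S5607
import Mathlib.Algebra.Homology.ShortComplex.Exact
import Mathlib.CategoryTheory.Preadditive.AdditiveFunctor

/-!
# Bridge PCoh ↔ DRing, part B (helper21): finite projective modules

* `isStrictPC_single`: the single complex of an object of `P` is strictly `n`-pseudo-coherent for all `n`.
* `isPC_single_of_fp`: a finite projective module in degree `0` is `FF`-pseudo-coherent.
* `isStrictPC_fp_iff`: `n`-pseudo-coherence relative to finite projectives = relative to finite frees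
  (`= DRing.IsPseudoCoherent A n K`).
-/

set_option autoImplicit false
universe u

open CategoryTheory CategoryTheory.Limits

namespace Groth.Agent.Lib.DRingPCoh21

section

variable {C : Type*} [Category C] [Abelian C] (P : ObjectProperty C)
  [P.IsClosedUnderIsomorphisms] [P.ContainsZero]

lemma isStrictPC_single (X : C) (hX : P X) (j n : ℤ) :
    PCoh.IsStrictPC P n ((HomologicalComplex.single C (ComplexShape.up ℤ) j).obj X) := by
  refine ⟨⟨j, fun i hi => HomologicalComplex.isZero_single_obj_X _ _ _ _ (by lia)⟩, fun i _ => ?_⟩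
  by_cases hi : i = j
  · subst hi
    exact P.prop_of_iso (HomologicalComplex.singleObjXSelf (ComplexShape.up ℤ) i X).symm hX
  · exact P.prop_of_isZero (HomologicalComplex.isZero_single_obj_X _ _ _ _ hi)

end

variable (A : Type u) [CommRing A]

attribute [local instance] HasDerivedCategory.standard

/-- a finite projective module is a direct summand of a finite free module (categorical form) -/
lemma exists_biprod_iso_of_fp (X : ModuleCat.{u} A) (hX : FP A X) :
    ∃ (F Q : ModuleCat.{u} A), FF A F ∧ Nonempty (F ≅ Q ⊞ X) := by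
  obtain ⟨h1, h2⟩ := hX
  obtain ⟨n, f, hf⟩ := Module.Finite.exists_fin' A X
  let F : ModuleCat.{u} A := ModuleCat.of A (Fin n → A)
  let p : F ⟶ X := ModuleCat.ofHom f
  have hp : Epi p := (ModuleCat.epi_iff_surjective p).2 hf
  have : Projective X := ModuleCat.projective_of_categoryTheory_projective X
  let S : ShortComplex (ModuleCat.{u} A) := ShortComplex.mk (kernel.ι p) p (kernel.condition p)
  have hS : S.Exact := ShortComplex.exact_of_f_is_kernel _ (kernelIsKernel p)
  have hf' : Mono S.f := by dsimp [S]; infer_instance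
  let σ := ShortComplex.Splitting.ofExactOfSection S hS (Projective.factorThru (𝟙 X) p)
    (Projective.factorThru_comp (𝟙 X) p) hf'
  exact ⟨F, kernel p, ⟨inferInstanceAs (Module.Finite A (Fin n → A)),
    inferInstanceAs (Module.Free A (Fin n → A))⟩, ⟨σ.isoBinaryBiproduct⟩⟩

theorem isPC_single_of_fp (X : ModuleCat.{u} A) (hX : FP A X) :
    PCoh.IsPC (FF A) ((DerivedCategory.singleFunctor (ModuleCat.{u} A) 0).obj X) := by
  intro n
  obtain ⟨F, Q, hF, ⟨e⟩⟩ := exists_biprod_iso_of_fp A X hX
  let sf := DerivedCategory.singleFunctor (ModuleCat.{u} A) 0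
  have : PreservesBinaryBiproducts sf := preservesBinaryBiproducts_of_preservesBiproducts sf
  have e' : sf.obj F ≅ sf.obj Q ⊞ sf.obj X := sf.mapIso e ≪≫ sf.mapBiprod Q X
  have h1 : ∃ E : CochainComplex (ModuleCat.{u} A) ℤ, PCoh.IsStrictPC (FF A) n E ∧
      Nonempty (DerivedCategory.Q.obj E ≅ (sf.obj Q ⊞ sf.obj X)) :=
    ⟨(HomologicalComplex.single (ModuleCat.{u} A) (ComplexShape.up ℤ) 0).obj F,
      isStrictPC_single (FF A) F hF 0 n, ⟨e'⟩⟩
  exact ((Groth.Agent.S5605.result (FF A) (ff_prod A) (fp_quasiStable A) (ff_quasiLiftable A) n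
    (sf.obj Q) (sf.obj X)).1 h1).2

theorem isStrictPC_fp_iff (n : ℤ) (K : Dual.D A) :
    (∃ E : CochainComplex (ModuleCat.{u} A) ℤ, PCoh.IsStrictPC (FP A) n E ∧
        Nonempty (DerivedCategory.Q.obj E ≅ K)) ↔ DRing.IsPseudoCoherent A n K := by
  rw [isPseudoCoherent_iff]
  exact Groth.Agent.S5607.result (FF A) (ff_prod A) (fp_quasiStable A) (ff_quasiLiftable A)
    (FP A) (fp_prod A) (ff_le_fp A) (isPC_single_of_fp A) n K

end Groth.Agent.Lib.DRingPCoh21
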