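import Mathlib.Algebra.Homology.HomotopyCategory.KInjective
import Mathlib.Algebra.Homology.DerivedCategory.KInjective
import Mathlib.Algebra.Homology.Factorizations.CM5a
import Mathlib.Algebra.Homology.HomotopyCategory.Plus
import Mathlib.Algebra.Homology.HomotopyCategory.Acyclic

/-!
# Chain maps versus derived category maps for complexes with projective top term

Namespace `Groth.Agent.Lib.DTwoTerm`.

* `nonempty_homotopy_zero`: if `M` is a cochain complex in degrees `≤ n` with `M^n` projective and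
  `L` is an acyclic complex in degrees `≥ n - 2`, every chain map `M ⟶ L` is null-homotopic.
* `comp_bijective_of_hom_eq_zero`: in a pretriangulated category, `Hom(A, X) → Hom(A, Y)` is
  bijective when `Hom(A, Z) = 0 = Hom(A[1], Z)` for the cone `Z`.
* `Qh_map_bijective`: if `M` is in degrees `≤ n` with `M^n` projective and `K` is in degrees
  `≥ n - 1` then `Hom_{K(C)}(M, K) → Hom_{D(C)}(M, K)` is bijective (enough injectives).
-/

set_option autoImplicit false
universe w v u

open CategoryTheory CategoryTheory.Limits Category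

namespace Groth.Agent.Lib.DTwoTerm

section NullHomotopy

variable {C : Type u} [Category.{v} C] [Abelian C]

open CochainComplex HomComplex

/-- If `M` is in degrees `≤ n` with `M^n` projective and `L` is acyclic in degrees `≥ n - 2`,
every chain map `M ⟶ L` is null-homotopic. -/
theorem nonempty_homotopy_zero (M L : CochainComplex C ℤ) (n : ℤ) [M.IsStrictlyLE n]
    [Projective (M.X n)] [L.IsStrictlyGE (n - 2)] (hL : ∀ i : ℤ, L.ExactAt i) (g : M ⟶ L) :
    Nonempty (Homotopy g 0) := by
  -- exactness in degrees `n`, `n - 1`, `n - 2`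
  have ex0 := (L.exactAt_iff' (n - 1) n (n + 1) (by simp) (by simp)).mp (hL n)
  have ex1 := (L.exactAt_iff' (n - 2) (n - 1) n (by simp; lia) (by simp)).mp (hL (n - 1))
  have ex2 := (L.exactAt_iff' (n - 3) (n - 2) (n - 1) (by simp; lia) (by simp; lia)).mp
    (hL (n - 2))
  have hmono : Mono (L.d (n - 2) (n - 1)) :=
    ex2.mono_g ((L.isZero_of_isStrictlyGE (n - 2) (n - 3) (by lia)).eq_of_src _ _)
  -- the first lift
  have hg0 : g.f n ≫ L.d n (n + 1) = 0 := by
    rw [g.comm]
    rw [(M.isZero_of_isStrictlyLE n (n + 1) (by lia)).eq_of_tgt (M.d n (n + 1)) 0, zero_comp]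
  obtain ⟨h0, hh0⟩ : ∃ h0 : M.X n ⟶ L.X (n - 1), h0 ≫ L.d (n - 1) n = g.f n :=
    ⟨ex0.liftFromProjective (g.f n) hg0, ex0.liftFromProjective_comp _ _⟩
  -- the second lift
  have hu : (g.f (n - 1) - M.d (n - 1) n ≫ h0) ≫ L.d (n - 1) n = 0 := by
    rw [Preadditive.sub_comp, assoc, hh0, g.comm, sub_self]
  have : Mono (HomologicalComplex.sc' L (n - 2) (n - 1) n).f := hmono
  obtain ⟨h1, hh1⟩ : ∃ h1 : M.X (n - 1) ⟶ L.X (n - 2),
      h1 ≫ L.d (n - 2) (n - 1) = g.f (n - 1) - M.d (n - 1) n ≫ h0 :=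
    ⟨ex1.lift _ hu, ex1.lift_f _ _⟩
  have hh2 : M.d (n - 2) (n - 1) ≫ h1 = g.f (n - 2) := by
    rw [← cancel_mono (L.d (n - 2) (n - 1)), assoc, hh1, Preadditive.comp_sub,
      HomologicalComplex.d_comp_d_assoc, zero_comp, sub_zero, g.comm]
  refine ⟨(Cochain.equivHomotopy g 0).symm
    ⟨Cochain.single h0 (-1) + Cochain.single h1 (-1), ?_⟩⟩
  have e0 := Cochain.δ_single h0 (-1) 0 (by simp) (n - 1) n (by lia) (by lia)
  have e1 := Cochain.δ_single h1 (-1) 0 (by simp) (n - 2) (n - 1) (by lia) (by lia)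
  rw [Cochain.ofHom_zero, add_zero, δ_add, e0, e1]
  have z1 : ∀ p : ℤ, p ≠ n →
      (Cochain.single (h0 ≫ L.d (n - 1) n) 0).v p p (add_zero p) = 0 :=
    fun p hp => Cochain.single_v_eq_zero _ _ _ _ _ hp
  have z2 : ∀ p : ℤ, p ≠ n - 1 →
      (Cochain.single (M.d (n - 1) n ≫ h0) 0).v p p (add_zero p) = 0 :=
    fun p hp => Cochain.single_v_eq_zero _ _ _ _ _ hp
  have z3 : ∀ p : ℤ, p ≠ n - 1 →
      (Cochain.single (h1 ≫ L.d (n - 2) (n - 1)) 0).v p p (add_zero p) = 0 :=
    fun p hp => Cochain.single_v_eq_zero _ _ _ _ _ hp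
  have z4 : ∀ p : ℤ, p ≠ n - 2 →
      (Cochain.single (M.d (n - 2) (n - 1) ≫ h1) 0).v p p (add_zero p) = 0 :=
    fun p hp => Cochain.single_v_eq_zero _ _ _ _ _ hp
  ext p
  simp only [Cochain.ofHom_v, Cochain.add_v, Int.negOnePow_zero, one_smul]
  by_cases hp0 : p = n
  · rw [z2 p (by lia), z3 p (by lia), z4 p (by lia)]
    subst hp0
    simp [hh0]
  · by_cases hp1 : p = n - 1
    · rw [z1 p (by lia), z4 p (by lia)]
      subst hp1
      simp [hh1]
    · by_cases hp2 : p = n - 2
      · rw [z1 p (by lia), z2 p (by lia), z3 p (by lia)]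
        subst hp2
        simp [hh2]
      · rw [z1 p (by lia), z2 p (by lia), z3 p (by lia), z4 p (by lia)]
        simp only [add_zero]
        by_cases hpn : n < p
        · exact (M.isZero_of_isStrictlyLE n p hpn).eq_of_src _ _
        · exact (L.isZero_of_isStrictlyGE (n - 2) p (by lia)).eq_of_tgt _ _

end NullHomotopy

section Triangulated

open Pretriangulated

variable {T : Type u} [Category.{v} T] [Preadditive T] [HasZeroObject T] [HasShift T ℤ]
  [∀ n : ℤ, (shiftFunctor T n).Additive] [Pretriangulated T]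

/-- In a pretriangulated category, `Hom(A, X) → Hom(A, Y)` is bijective as soon as
`Hom(A, Z) = 0 = Hom(A[1], Z)` where `X ⟶ Y ⟶ Z ⟶ X[1]` is distinguished. -/
theorem comp_bijective_of_hom_eq_zero (Tr : Triangle T) (hTr : Tr ∈ distTriang T) (A : T)
    (h0 : ∀ f : A ⟶ Tr.obj₃, f = 0) (h1 : ∀ f : A⟦(1 : ℤ)⟧ ⟶ Tr.obj₃, f = 0) :
    Function.Bijective (fun φ : A ⟶ Tr.obj₁ => φ ≫ Tr.mor₁) := by
  constructor
  · intro φ₁ φ₂ h
    dsimp only at h
    have h' : (φ₁ - φ₂) ≫ Tr.mor₁ = 0 := by rw [Preadditive.sub_comp, h, sub_self]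
    obtain ⟨g, hg⟩ := Triangle.coyoneda_exact₁ Tr hTr ((φ₁ - φ₂)⟦(1 : ℤ)⟧') (by
      rw [← Functor.map_comp, h', Functor.map_zero])
    rw [h1 g, zero_comp] at hg
    have : φ₁ - φ₂ = 0 := (shiftFunctor T (1 : ℤ)).map_injective (by rw [hg, Functor.map_zero])
    exact sub_eq_zero.mp this
  · intro f
    obtain ⟨g, hg⟩ := Triangle.coyoneda_exact₂ Tr hTr f (h0 _)
    exact ⟨g, hg.symm⟩

end Triangulated

section Main

variable {C : Type u} [Category.{v} C] [Abelian C] [HasDerivedCategory.{w} C]

open CochainComplex DerivedCategory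

omit [HasDerivedCategory.{w} C] in
/-- The mapping cone of a quasi-isomorphism is acyclic. -/
lemma exactAt_mappingCone {K L : CochainComplex C ℤ} (j : K ⟶ L) [QuasiIso j] (i : ℤ) :
    (mappingCone j).ExactAt i := by
  have h1 := (HomotopyCategory.subcategoryAcyclic C).trW_iff_of_distinguished _
    (HomotopyCategory.mappingCone_triangleh_distinguished j)
  rw [← HomotopyCategory.quasiIso_eq_trW_subcategoryAcyclic] at h1
  have h2 : HomotopyCategory.subcategoryAcyclic C
      ((HomotopyCategory.quotient _ _).obj (mappingCone j)) :=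
    h1.mp ((HomotopyCategory.quotient_map_mem_quasiIso_iff j).mpr
      ((HomologicalComplex.mem_quasiIso_iff j).mpr inferInstance))
  exact (HomotopyCategory.quotient_obj_mem_subcategoryAcyclic_iff_exactAt _).mp h2 i

omit [HasDerivedCategory.{w} C] in
/-- Morphisms in the homotopy category from a complex in degrees `≤ n` with projective top term
to an acyclic complex in degrees `≥ n - 2` vanish. -/
lemma hom_eq_zero (M L : CochainComplex C ℤ) (n : ℤ) [M.IsStrictlyLE n] [Projective (M.X n)]
    [L.IsStrictlyGE (n - 2)] (hL : ∀ i : ℤ, L.ExactAt i)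
    (f : (HomotopyCategory.quotient C (ComplexShape.up ℤ)).obj M ⟶
      (HomotopyCategory.quotient C (ComplexShape.up ℤ)).obj L) : f = 0 := by
  obtain ⟨g, rfl⟩ := (HomotopyCategory.quotient _ _).map_surjective f
  obtain ⟨h⟩ := nonempty_homotopy_zero M L n hL g
  rw [HomotopyCategory.eq_of_homotopy _ _ h, Functor.map_zero]

/-- If `M` is in degrees `≤ n` with `M^n` projective and `K` is in degrees `≥ n - 1`, then
`Hom_{K(C)}(M, K) → Hom_{D(C)}(M, K)` is bijective. -/
theorem Qh_map_bijective [EnoughInjectives C] (M K : CochainComplex C ℤ) (n : ℤ)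
    [M.IsStrictlyLE n] [Projective (M.X n)] [K.IsStrictlyGE (n - 1)] :
    Function.Bijective (fun φ : (HomotopyCategory.quotient C (ComplexShape.up ℤ)).obj M ⟶
      (HomotopyCategory.quotient C (ComplexShape.up ℤ)).obj K => Qh.map φ) := by
  obtain ⟨I, j, hj, hI, hIa⟩ :=
    CochainComplex.Plus.modelCategoryQuillen.exists_quasiIso_injective K (n - 1)
  have : I.IsKInjective := CochainComplex.isKInjective_of_injective I (n - 1)
  have hcone : (mappingCone j).IsStrictlyGE (n - 2) :=
    isStrictlyGE_mappingCone j (n - 1) (n - 1) (n - 2)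
  have hcone' : (mappingCone j).IsStrictlyGE (n - 1 - 2) :=
    (mappingCone j).isStrictlyGE_of_ge (n - 1 - 2) (n - 2) (by lia)
  have hex := exactAt_mappingCone j
  have hMs : (M⟦(1 : ℤ)⟧).IsStrictlyLE (n - 1) := M.isStrictlyLE_shift n 1 (n - 1) (by lia)
  have hMp : Projective ((M⟦(1 : ℤ)⟧).X (n - 1)) :=
    Projective.of_iso (M.XIsoOfEq (show n = n - 1 + 1 by lia)) inferInstance
  -- bijectivity of post-composition with `j` in the homotopy category
  have hb := comp_bijective_of_hom_eq_zero (mappingCone.triangleh j)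
    (HomotopyCategory.mappingCone_triangleh_distinguished j)
    ((HomotopyCategory.quotient _ _).obj M) (fun f => hom_eq_zero M _ n hex f) (fun f => by
      have h0 := hom_eq_zero (M⟦(1 : ℤ)⟧) (mappingCone j) (n - 1) hex
        ((((HomotopyCategory.quotient C (ComplexShape.up ℤ)).commShiftIso (1 : ℤ)).app M).hom ≫ f)
      exact (cancel_epi _).mp (h0.trans comp_zero.symm))
  have hI := CochainComplex.IsKInjective.Qh_map_bijective
    ((HomotopyCategory.quotient _ _).obj M) I
  have hjiso : IsIso (Qh.map ((HomotopyCategory.quotient C (ComplexShape.up ℤ)).map j)) := by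
    have : IsIso (Q.map j) := by
      rw [isIso_Q_map_iff_quasiIso]
      exact hj
    exact (NatIso.isIso_map_iff (quotientCompQhIso C) j).mpr this
  have hcomp : Function.Bijective (fun φ : (HomotopyCategory.quotient C (ComplexShape.up ℤ)).obj M ⟶
      (HomotopyCategory.quotient C (ComplexShape.up ℤ)).obj K =>
        Qh.map φ ≫ Qh.map ((HomotopyCategory.quotient C (ComplexShape.up ℤ)).map j)) := by
    have heq : (fun φ : (HomotopyCategory.quotient C (ComplexShape.up ℤ)).obj M ⟶
        (HomotopyCategory.quotient C (ComplexShape.up ℤ)).obj K =>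
          Qh.map φ ≫ Qh.map ((HomotopyCategory.quotient C (ComplexShape.up ℤ)).map j)) =
        Qh.map ∘ (fun φ => φ ≫ (mappingCone.triangleh j).mor₁) := by
      funext φ
      exact (Qh.map_comp φ _).symm
    rw [heq]
    exact hI.comp hb
  constructor
  · intro φ₁ φ₂ h
    apply hcomp.injective
    dsimp only at h ⊢
    rw [h]
  · intro ψ
    obtain ⟨φ, hφ⟩ := hcomp.surjective
      (ψ ≫ Qh.map ((HomotopyCategory.quotient C (ComplexShape.up ℤ)).map j))
    exact ⟨φ, (cancel_mono _).mp hφ⟩

end Main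

end Groth.Agent.Lib.DTwoTerm
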