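import Mathlib.Algebra.Homology.DerivedCategory.TStructure
import Mathlib.Algebra.Homology.DerivedCategory.KProjective
import Mathlib.CategoryTheory.Triangulated.TStructure.TruncLTGE

/-!
# Splitting off the top truncation in the derived category

Generic abelian category `C` with a derived category.

* `truncTriangle K n₀ n₁ h`: the distinguished triangle `Q(τ≤n₀ K) ⟶ Q K ⟶ Q(τ≥n₁ K) ⟶` of a
  complex, `truncTriangle_distinguished`, and `exists_truncTriangle_iso`: it is isomorphic to the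
  truncation triangle `(t.triangleLTGE n₁).obj X` of the canonical t-structure when `Q K ≅ X`.
* `exists_map_eq`, `nonempty_homotopy_zero`: morphisms `Q P ⟶ Q L` with `P` K-projective come from
  chain maps; chain maps killed by `Q` are null-homotopic.
* `hom_eq_zero`: `Hom(Q P, Y) = 0` for `P` K-projective strictly `≥ a` and `Y` which is `≤ n < a`.
* `toSingle`, `exists_factor_of_homotopy`, `exists_factor_of_Q_map_eq_zero`: a map `P ⟶ M[-a]`
  from a K-projective complex which dies in `D(C)` factors through `d^a`.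
* `projective_opcycles`: `d^a = q ≫ m`, `q` epi, `d^a ≫ s = q` ⇒ `coker d^a` is a retract of
  `P^{a+1}`.
* `split_of_projective_opcycles`, `split_of_projective_opcycles_of_exactAt`: the splittings
  `X ≅ τ<(a+1) X ⊞ τ≥(a+1) X` (resp. `τ<a X ⊞ τ≥(a+1) X` when `H^a = 0`).
-/

set_option autoImplicit false
universe u v w
open CategoryTheory CategoryTheory.Limits Category Pretriangulated Triangulated

namespace Groth.Agent.Lib.DSplit

variable {C : Type u} [Category.{v} C] [Abelian C]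

open HomologicalComplex

section NoD

/-- The chain map `P ⟶ M[-a]` induced by `q : P^a ⟶ M` killing the image of `d^{a-1}`. -/
noncomputable def toSingle (P : CochainComplex C ℤ) (a : ℤ) {M : C} (q : P.X a ⟶ M)
    (hq : P.d (a - 1) a ≫ q = 0) : P ⟶ (single C (ComplexShape.up ℤ) a).obj M :=
  mkHomToSingle q (by
    intro i hi
    obtain rfl : i = a - 1 := by simp at hi; lia
    exact hq)

/-- A null-homotopy of `toSingle q` gives a factorization of `q` through `d^a`. -/
lemma exists_factor_of_homotopy (P : CochainComplex C ℤ) (a : ℤ) {M : C} (q : P.X a ⟶ M)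
    (hq : P.d (a - 1) a ≫ q = 0) (H : Homotopy (toSingle P a q hq) 0) :
    ∃ s : P.X (a + 1) ⟶ M, P.d a (a + 1) ≫ s = q := by
  refine ⟨H.hom (a + 1) a ≫ (singleObjXSelf (ComplexShape.up ℤ) a M).hom, ?_⟩
  have h := H.comm a
  rw [dNext_eq H.hom (show (ComplexShape.up ℤ).Rel a (a + 1) by simp),
    prevD_eq H.hom (show (ComplexShape.up ℤ).Rel (a - 1) a by simp)] at h
  simp only [single_obj_d, comp_zero, add_zero, zero_f] at h
  rw [← reassoc_of% h]
  simp [toSingle, mkHomToSingle_f]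

/-- Data: `d^a = q ≫ m` with `q` epi and `s` with `d^a ≫ s = q`. Then `coker d^a` is a retract of
`P^{a+1}`. -/
lemma exists_retract_opcycles (P : CochainComplex C ℤ) (a : ℤ) {M : C} (q : P.X a ⟶ M) [Epi q]
    (m : M ⟶ P.X (a + 1)) (hqm : q ≫ m = P.d a (a + 1)) (s : P.X (a + 1) ⟶ M)
    (hs : P.d a (a + 1) ≫ s = q) :
    ∃ i : P.opcycles (a + 1) ⟶ P.X (a + 1), i ≫ P.pOpcycles (a + 1) = 𝟙 _ := by
  have hms : m ≫ s = 𝟙 M := by
    rw [← cancel_epi q, reassoc_of% hqm, hs, comp_id]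
  have hmp : m ≫ P.pOpcycles (a + 1) = 0 := by
    rw [← cancel_epi q, reassoc_of% hqm, d_pOpcycles, comp_zero]
  refine ⟨P.descOpcycles (𝟙 _ - s ≫ m) a (by simp) ?_, ?_⟩
  · rw [Preadditive.comp_sub, comp_id, reassoc_of% hs, hqm, sub_self]
  · rw [← cancel_epi (P.pOpcycles (a + 1)), p_descOpcycles_assoc, Preadditive.sub_comp, id_comp,
      assoc, hmp, comp_zero, sub_zero, comp_id]

lemma projective_opcycles (P : CochainComplex C ℤ) (a : ℤ) {M : C} (q : P.X a ⟶ M) [Epi q]
    (m : M ⟶ P.X (a + 1)) (hqm : q ≫ m = P.d a (a + 1)) (s : P.X (a + 1) ⟶ M)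
    (hs : P.d a (a + 1) ≫ s = q) [Projective (P.X (a + 1))] :
    Projective (P.opcycles (a + 1)) := by
  obtain ⟨i, hi⟩ := exists_retract_opcycles P a q m hqm s hs
  exact (Retract.mk i (P.pOpcycles (a + 1)) hi).projective


lemma projective_truncGE_X (P : CochainComplex C ℤ) (n : ℤ) [∀ i, Projective (P.X i)]
    [Projective (P.opcycles n)] (i : ℤ) : Projective ((P.truncGE n).X i) := by
  obtain h | rfl | h := lt_trichotomy i n
  · exact ((P.truncGE n).isZero_of_isStrictlyGE n i h).projective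
  · exact Projective.of_iso (P.truncGEXIsoOpcycles i).symm inferInstance
  · exact Projective.of_iso (P.truncGEXIso n i h).symm inferInstance

lemma isStrictlyLE_truncGE (P : CochainComplex C ℤ) (n b : ℤ) [P.IsStrictlyLE b] :
    (P.truncGE n).IsStrictlyLE b := by
  rw [CochainComplex.isStrictlyLE_iff]
  intro i hi
  obtain h | rfl | h := lt_trichotomy i n
  · exact (P.truncGE n).isZero_of_isStrictlyGE n i h
  · refine IsZero.of_iso ?_ (P.truncGEXIsoOpcycles i)
    have h0 : IsZero (P.X i) := P.isZero_of_isStrictlyLE b i hi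
    rw [IsZero.iff_id_eq_zero, ← cancel_epi (P.pOpcycles i)]
    exact h0.eq_of_src _ _
  · exact IsZero.of_iso (P.isZero_of_isStrictlyLE b i hi) (P.truncGEXIso n i h)


lemma isLE_truncLE_of_exactAt (P : CochainComplex C ℤ) (a : ℤ) (hex : P.ExactAt a) :
    (P.truncLE a).IsLE (a - 1) := by
  rw [CochainComplex.isLE_iff]
  intro i hi
  obtain h | rfl : a < i ∨ i = a := by lia
  · exact (P.truncLE a).exactAt_of_isLE a i h
  · have : QuasiIsoAt (P.ιTruncLE i) i := inferInstance
    rwa [quasiIsoAt_iff_exactAt' (P.ιTruncLE i) i hex] at this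


/-- If `coker d^{a-1} ⟶ P^{a+1}` has a retraction then `H^a(P) = 0`. -/
lemma exactAt_of_factor (P : CochainComplex C ℤ) (a : ℤ) (s : P.X (a + 1) ⟶ P.opcycles a)
    (hs : P.d a (a + 1) ≫ s = P.pOpcycles a) : P.ExactAt a := by
  have hδs : P.fromOpcycles a (a + 1) ≫ s = 𝟙 _ := by
    rw [← cancel_epi (P.pOpcycles a), p_fromOpcycles_assoc, hs, comp_id]
  rw [exactAt_iff_isZero_homology]
  apply IsZero.of_mono_eq_zero (P.homologyι a)
  have : P.homologyι a = P.homologyι a ≫ P.fromOpcycles a (a + 1) ≫ s := by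
    rw [hδs, comp_id]
  rw [this, homologyι_comp_fromOpcycles_assoc, zero_comp]

end NoD

variable [HasDerivedCategory.{w} C]

open DerivedCategory


lemma isIso_Q_map_toTruncGE (K : CochainComplex C ℤ) (n₀ n₁ : ℤ) (h : n₀ + 1 = n₁) :
    IsIso (Q.map (K.shortComplexTruncLEX₃ToTruncGE n₀ n₁ h)) := by
  rw [isIso_Q_map_iff_quasiIso]
  infer_instance

/-- The iso `Q(X₃) ≅ Q(τ≥n₁ K)`. -/
noncomputable def x₃Iso (K : CochainComplex C ℤ) (n₀ n₁ : ℤ) (h : n₀ + 1 = n₁) :
    Q.obj (K.shortComplexTruncLE n₀).X₃ ≅ Q.obj (K.truncGE n₁) :=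
  have := isIso_Q_map_toTruncGE K n₀ n₁ h
  asIso (Q.map (K.shortComplexTruncLEX₃ToTruncGE n₀ n₁ h))

/-- The connecting morphism of the truncation triangle of a complex. -/
noncomputable def truncδ (K : CochainComplex C ℤ) (n₀ n₁ : ℤ) (h : n₀ + 1 = n₁) :
    Q.obj (K.truncGE n₁) ⟶ (Q.obj (K.truncLE n₀))⟦(1 : ℤ)⟧ :=
  (x₃Iso K n₀ n₁ h).inv ≫ (triangleOfSES (K.shortComplexTruncLE_shortExact n₀)).mor₃

/-- The truncation triangle `Q(τ≤n₀ K) ⟶ Q K ⟶ Q(τ≥n₁ K) ⟶` of a complex. -/
noncomputable def truncTriangle (K : CochainComplex C ℤ) (n₀ n₁ : ℤ) (h : n₀ + 1 = n₁) :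
    Triangle (DerivedCategory C) :=
  Triangle.mk (Q.map (K.ιTruncLE n₀)) (Q.map (K.πTruncGE n₁)) (truncδ K n₀ n₁ h)

lemma truncTriangle_distinguished (K : CochainComplex C ℤ) (n₀ n₁ : ℤ) (h : n₀ + 1 = n₁) :
    truncTriangle K n₀ n₁ h ∈ distTriang _ := by
  have hS := K.shortComplexTruncLE_shortExact n₀
  refine isomorphic_distinguished _ (triangleOfSES_distinguished hS) _ (Iso.symm ?_)
  refine Triangle.isoMk (triangleOfSES hS) (truncTriangle K n₀ n₁ h) (Iso.refl _) (Iso.refl _)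
    (x₃Iso K n₀ n₁ h) ?_ ?_ ?_
  · dsimp [truncTriangle]
    erw [id_comp, comp_id]
    rfl
  · dsimp [truncTriangle, x₃Iso]
    erw [id_comp, ← Q.map_comp, CochainComplex.g_shortComplexTruncLEX₃ToTruncGE K n₀ n₁ h]
    rfl
  · dsimp [truncTriangle, truncδ]
    erw [CategoryTheory.Functor.map_id, comp_id, Iso.hom_inv_id_assoc]


/-- Morphisms in the derived category out of a K-projective complex come from chain maps. -/
lemma exists_map_eq {E₁ E₂ : CochainComplex C ℤ} [E₁.IsKProjective]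
    (g : Q.obj E₁ ⟶ Q.obj E₂) : ∃ φ : E₁ ⟶ E₂, Q.map φ = g := by
  obtain ⟨ψ, hψ⟩ := (CochainComplex.IsKProjective.Qh_map_bijective E₁
    ((HomotopyCategory.quotient _ _).obj E₂)).surjective
    ((quotientCompQhIso _).hom.app E₁ ≫ g ≫ (quotientCompQhIso _).inv.app E₂)
  obtain ⟨φ, rfl⟩ := (HomotopyCategory.quotient _ _).map_surjective ψ
  refine ⟨φ, ?_⟩
  have := quotientCompQhIso_hom_naturality (C := C) φ
  rw [hψ] at this
  simp only [Category.assoc, Iso.inv_hom_id_app, Category.comp_id] at this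
  exact ((cancel_epi _).mp this).symm

/-- A chain map out of a K-projective complex which vanishes in the derived category is
null-homotopic. -/
lemma nonempty_homotopy_zero {E₁ E₂ : CochainComplex C ℤ} [E₁.IsKProjective]
    (φ : E₁ ⟶ E₂) (h : Q.map φ = 0) : Nonempty (Homotopy φ 0) := by
  have h1 : Qh.map ((HomotopyCategory.quotient _ _).map φ) =
      Qh.map ((HomotopyCategory.quotient _ _).map (0 : E₁ ⟶ E₂)) := by
    have e1 := quotientCompQhIso_hom_naturality (C := C) φ
    rw [h] at e1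
    dsimp at e1
    rw [comp_zero] at e1
    rw [← cancel_mono ((quotientCompQhIso C).hom.app E₂), e1, Functor.map_zero,
      Functor.map_zero, zero_comp]
  have h2 := (CochainComplex.IsKProjective.Qh_map_bijective E₁
    ((HomotopyCategory.quotient _ _).obj E₂)).injective h1
  exact ⟨HomotopyCategory.homotopyOfEq _ _ h2⟩

/-- Morphisms from a K-projective complex concentrated in degrees `≥ a` to an object which is
`≤ n` with `n < a` vanish. -/
lemma hom_eq_zero (P : CochainComplex C ℤ) [P.IsKProjective] (a n : ℤ) (hn : n < a)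
    [P.IsStrictlyGE a] (Y : DerivedCategory C) [Y.IsLE n] (f : Q.obj P ⟶ Y) : f = 0 := by
  obtain ⟨K', hK', ⟨e⟩⟩ := exists_iso_Q_obj_of_isLE Y n
  obtain ⟨φ, hφ⟩ := exists_map_eq (f ≫ e.hom)
  have hφ0 : φ = 0 := by
    ext i : 1
    by_cases hi : i < a
    · exact (P.isZero_of_isStrictlyGE a i hi).eq_of_src _ _
    · exact (K'.isZero_of_isStrictlyLE n i (by lia)).eq_of_tgt _ _
  rw [hφ0, Functor.map_zero] at hφ
  have : f ≫ e.hom = 0 := hφ.symm
  rw [← cancel_mono e.hom, this, zero_comp]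


/-- If `P` is K-projective and the map `P ⟶ M[-a]` induced by `q : P^a ⟶ M` vanishes in the
derived category, then `q` factors through `d^a`. -/
lemma exists_factor_of_Q_map_eq_zero (P : CochainComplex C ℤ) [P.IsKProjective] (a : ℤ) {M : C}
    (q : P.X a ⟶ M) (hq : P.d (a - 1) a ≫ q = 0) (h : Q.map (toSingle P a q hq) = 0) :
    ∃ s : P.X (a + 1) ⟶ M, P.d a (a + 1) ≫ s = q := by
  obtain ⟨H⟩ := nonempty_homotopy_zero _ h
  exact exists_factor_of_homotopy P a q hq H

/-- The canonical t-structure on the derived category. -/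
noncomputable abbrev t : TStructure (DerivedCategory C) := DerivedCategory.TStructure.t

/-- Comparison of the truncation triangle of a complex with the truncation triangle of the
t-structure. -/
lemma exists_truncTriangle_iso (X : DerivedCategory C) (P : CochainComplex C ℤ)
    (e₀ : Q.obj P ≅ X) (n₀ n₁ : ℤ) (h : n₀ + 1 = n₁) :
    ∃ e : truncTriangle P n₀ n₁ h ≅ (t.triangleLTGE n₁).obj X, e.hom.hom₂ = e₀.hom := by
  have h1 : t.IsLE (truncTriangle P n₀ n₁ h).obj₁ n₀ := by
    change (Q.obj (P.truncLE n₀)).IsLE n₀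
    infer_instance
  have h3 : t.IsGE (truncTriangle P n₀ n₁ h).obj₃ n₁ := by
    change (Q.obj (P.truncGE n₁)).IsGE n₁
    infer_instance
  have h1' : t.IsLE ((t.triangleLTGE n₁).obj X).obj₁ n₀ := by
    obtain rfl : n₀ = n₁ - 1 := by lia
    infer_instance
  exact t.triangle_iso_exists (truncTriangle_distinguished P n₀ n₁ h)
    (t.triangleLTGE_distinguished n₁ X) e₀ n₀ n₁ h1 h3 h1' inferInstance


/-- If `X ≅ Q P` with `P` bounded above, termwise projective, and `coker d^a` projective, then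
`τ≥(a+1) X` is represented by the bounded complex of projectives `P.truncGE (a+1)`, and
`X` splits as `τ<(a+1) X ⊞ τ≥(a+1) X`. -/
theorem split_of_projective_opcycles (X : DerivedCategory C) (P : CochainComplex C ℤ)
    (e₀ : Q.obj P ≅ X) (a b : ℤ) [P.IsStrictlyLE b] [∀ i, Projective (P.X i)]
    [Projective (P.opcycles (a + 1))] :
    (∃ e : X ≅ (t.truncLT (a + 1)).obj X ⊞ (t.truncGE (a + 1)).obj X,
      (t.truncLTι (a + 1)).app X ≫ e.hom = biprod.inl ∧
        e.hom ≫ biprod.snd = (t.truncGEπ (a + 1)).app X) ∧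
      Nonempty (Q.obj (P.truncGE (a + 1)) ≅ (t.truncGE (a + 1)).obj X) := by
  obtain ⟨e, he⟩ := exists_truncTriangle_iso X P e₀ a (a + 1) rfl
  let β : Q.obj (P.truncGE (a + 1)) ≅ (t.truncGE (a + 1)).obj X := Triangle.π₃.mapIso e
  have := projective_truncGE_X P (a + 1)
  have := isStrictlyLE_truncGE P (a + 1) b
  have : (P.truncGE (a + 1)).IsKProjective :=
    CochainComplex.isKProjective_of_projective _ b
  have hT := t.triangleLTGE_distinguished (a + 1) X
  have hz : ((t.triangleLTGE (a + 1)).obj X).mor₃ = 0 := by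
    have : t.IsLE (((t.truncLT (a + 1)).obj X)⟦(1 : ℤ)⟧) (a - 1) :=
      t.isLE_shift _ a 1 (a - 1)
    have h0 := hom_eq_zero (P.truncGE (a + 1)) (a + 1) (a - 1) (by lia)
      (((t.truncLT (a + 1)).obj X)⟦(1 : ℤ)⟧) (β.hom ≫ ((t.triangleLTGE (a + 1)).obj X).mor₃)
    exact (cancel_epi β.hom).1 (h0.trans comp_zero.symm)
  obtain ⟨e', h1, h2⟩ := exists_iso_binaryBiproduct_of_distTriang _ hT hz
  exact ⟨⟨e', h1, h2.symm⟩, ⟨β⟩⟩


/-- Variant of `split_of_projective_opcycles` when moreover `H^a(P) = 0`: then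
`X ≅ τ<a X ⊞ τ≥(a+1) X`. -/
theorem split_of_projective_opcycles_of_exactAt (X : DerivedCategory C) (P : CochainComplex C ℤ)
    (e₀ : Q.obj P ≅ X) (a b : ℤ) [P.IsStrictlyLE b] [∀ i, Projective (P.X i)]
    [Projective (P.opcycles (a + 1))] (hex : P.ExactAt a) :
    ∃ e : X ≅ (t.truncLT a).obj X ⊞ (t.truncGE (a + 1)).obj X,
      (t.truncLTι a).app X ≫ e.hom = biprod.inl ∧
        e.hom ≫ biprod.snd = (t.truncGEπ (a + 1)).app X := by
  let T' := truncTriangle P a (a + 1) rfl
  have hT' : T' ∈ distTriang _ := truncTriangle_distinguished P a (a + 1) rfl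
  have := isLE_truncLE_of_exactAt P a hex
  have h1 : t.IsLE T'.obj₁ (a - 1) := by
    change (Q.obj (P.truncLE a)).IsLE (a - 1)
    infer_instance
  have h3 : t.IsGE T'.obj₃ (a + 1) := by
    change (Q.obj (P.truncGE (a + 1))).IsGE (a + 1)
    infer_instance
  have h3' : t.IsGE T'.obj₃ a := t.isGE_of_ge _ a (a + 1)
  have h1' : t.IsLE T'.obj₁ a := t.isLE_of_le _ (a - 1) a
  -- comparison with the two truncation triangles
  obtain ⟨e₁, he₁⟩ := t.triangle_iso_exists hT' (t.triangleLTGE_distinguished a X) e₀ (a - 1) a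
    h1 h3' inferInstance inferInstance
  have h1'' : t.IsLE ((t.triangleLTGE (a + 1)).obj X).obj₁ a := by
    have : t.IsLE ((t.triangleLTGE (a + 1)).obj X).obj₁ (a + 1 - 1) := inferInstance
    simpa using this
  obtain ⟨e₂, he₂⟩ := t.triangle_iso_exists hT' (t.triangleLTGE_distinguished (a + 1) X) e₀
    a (a + 1) h1' h3 h1'' inferInstance
  let α : T'.obj₁ ≅ (t.truncLT a).obj X := Triangle.π₁.mapIso e₁
  let β : T'.obj₃ ≅ (t.truncGE (a + 1)).obj X := Triangle.π₃.mapIso e₂
  let T'' : Triangle (DerivedCategory C) :=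
    Triangle.mk ((t.truncLTι a).app X) ((t.truncGEπ (a + 1)).app X)
      (β.inv ≫ T'.mor₃ ≫ α.hom⟦(1 : ℤ)⟧')
  have c1 : T'.mor₁ ≫ e₀.hom = α.hom ≫ T''.mor₁ := by
    have := e₁.hom.comm₁
    rw [he₁] at this
    exact this
  have c2 : T'.mor₂ ≫ β.hom = e₀.hom ≫ T''.mor₂ := by
    have := e₂.hom.comm₂
    rw [he₂] at this
    exact this
  have c3 : T'.mor₃ ≫ α.hom⟦(1 : ℤ)⟧' = β.hom ≫ T''.mor₃ :=
    (Iso.hom_inv_id_assoc β _).symm
  have hT'' : T'' ∈ distTriang _ :=
    isomorphic_distinguished _ hT' _ (Triangle.isoMk T' T'' α e₀ β c1 c2 c3).symm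
  -- the connecting morphism vanishes
  have := projective_truncGE_X P (a + 1)
  have := isStrictlyLE_truncGE P (a + 1) b
  have : (P.truncGE (a + 1)).IsKProjective :=
    CochainComplex.isKProjective_of_projective _ b
  have hz' : T'.mor₃ = 0 := by
    have : t.IsLE (T'.obj₁⟦(1 : ℤ)⟧) (a - 1) := t.isLE_shift _ a 1 (a - 1)
    exact hom_eq_zero (P.truncGE (a + 1)) (a + 1) (a - 1) (by lia) (T'.obj₁⟦(1 : ℤ)⟧) T'.mor₃
  have hz : T''.mor₃ = 0 := by
    change β.inv ≫ T'.mor₃ ≫ α.hom⟦(1 : ℤ)⟧' = 0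
    rw [hz', zero_comp, comp_zero]
  obtain ⟨e', h1, h2⟩ := exists_iso_binaryBiproduct_of_distTriang _ hT'' hz
  exact ⟨e', h1, h2.symm⟩


end Groth.Agent.Lib.DSplit
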