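import Groth.Agent.Lib.DConeRep
import Groth.Agent.Lib.DSplit

/-!
# Perfect complexes relative to a liftable class `C₀` (SGA6 I, punctual case)

Namespace `Groth.Agent.Lib.PCohPerf`.  `P : ObjectProperty C` is a class of objects of an abelian
category, closed under isomorphisms and binary products; "liftable" means every epimorphism onto
an object of `P` splits.

* `projective_of_liftable`: objects of a liftable class are projective.
* `BddP P E`: `E` is a bounded complex with terms in `P`; `coneClass_bddP`: this class is a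
  `DConeRep.ConeClass` (so 2-out-of-3 in distinguished triangles holds: `DConeRep.rep_obj₁/₂/₃`).
-/

set_option autoImplicit false
universe w v u

open CategoryTheory CategoryTheory.Limits

namespace Groth.Agent.Lib.PCohPerf

variable {C : Type u} [Category.{v} C] [Abelian C] (P : ObjectProperty C)

/-- Objects of a liftable class are projective. -/
lemma projective_of_liftable
    (hlift : ∀ (E F : C) (u : E ⟶ F), Epi u → P F → IsSplitEpi u) (X : C) (hX : P X) :
    Projective X where
  factors {E X'} f e _ := by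
    have := hlift _ _ (pullback.snd e f) inferInstance hX
    refine ⟨section_ (pullback.snd e f) ≫ pullback.fst e f, ?_⟩
    rw [Category.assoc, pullback.condition, ← Category.assoc, IsSplitEpi.id, Category.id_comp]

/-- bounded complexes with terms in `P` -/
def BddP (E : CochainComplex C ℤ) : Prop :=
  (∃ a b : ℤ, ∀ i : ℤ, i < a ∨ b < i → IsZero (E.X i)) ∧ ∀ i : ℤ, P (E.X i)

variable {P}

lemma isKProjective_of_bddP
    (hlift : ∀ (E F : C) (u : E ⟶ F), Epi u → P F → IsSplitEpi u)
    (E : CochainComplex C ℤ) (hE : BddP P E) : E.IsKProjective := by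
  obtain ⟨⟨a, b, hab⟩, hP⟩ := hE
  have : E.IsStrictlyLE b := by
    rw [CochainComplex.isStrictlyLE_iff]
    exact fun i hi => hab i (Or.inr hi)
  have : ∀ n : ℤ, Projective (E.X n) := fun n => projective_of_liftable P hlift _ (hP n)
  exact CochainComplex.isKProjective_of_projective E b

variable [HasDerivedCategory.{w} C]

theorem coneClass_bddP [P.IsClosedUnderIsomorphisms]
    (hsum : ∀ X Y : C, P X → P Y → P (X ⨯ Y))
    (hlift : ∀ (E F : C) (u : E ⟶ F), Epi u → P F → IsSplitEpi u) :
    Groth.Agent.Lib.DConeRep.ConeClass (BddP (C := C) P) where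
  lift := by
    intro E₁ E₂ hE₁ _ g
    have := isKProjective_of_bddP hlift E₁ hE₁
    exact Groth.Agent.Lib.DSplit.exists_map_eq g
  shift := by
    rintro E n ⟨⟨a, b, hab⟩, hI⟩
    refine ⟨⟨a - n, b - n, fun i hi => ?_⟩, fun i => ?_⟩
    · exact hab (i + n) (by lia)
    · exact hI (i + n)
  cone := by
    rintro E₁ E₂ φ ⟨⟨a₁, b₁, hb₁⟩, hI₁⟩ ⟨⟨a₂, b₂, hb₂⟩, hI₂⟩
    refine ⟨⟨min (a₁ - 1) a₂, max b₁ b₂, fun i hi => ?_⟩, fun i => ?_⟩
    · refine IsZero.of_iso ?_ (HomologicalComplex.homotopyCofiber.XIsoBiprod φ i (i + 1) rfl)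
      rw [biprod_isZero_iff]
      refine ⟨hb₁ _ ?_, hb₂ _ ?_⟩
      · have := le_max_left b₁ b₂
        have := min_le_left (a₁ - 1) a₂
        lia
      · have := le_max_right b₁ b₂
        have := min_le_right (a₁ - 1) a₂
        lia
    · exact P.prop_of_iso ((HomologicalComplex.homotopyCofiber.XIsoBiprod φ i (i + 1) rfl) ≪≫
        biprod.isoProd _ _).symm (hsum _ _ (hI₁ (i + 1)) (hI₂ i))

/-- the perfect-amplitude form used in the statements -/
lemma rep_iff (K : DerivedCategory C) :
    Groth.Agent.Lib.DConeRep.Rep (BddP (C := C) P) K ↔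
      ∃ (E : CochainComplex C ℤ) (a b : ℤ), (∀ i : ℤ, i < a ∨ b < i → IsZero (E.X i)) ∧
        (∀ i : ℤ, P (E.X i)) ∧ Nonempty (DerivedCategory.Q.obj E ≅ K) := by
  constructor
  · rintro ⟨E, ⟨⟨a, b, hab⟩, hP⟩, he⟩
    exact ⟨E, a, b, hab, hP, he⟩
  · rintro ⟨E, a, b, hab, hP, he⟩
    exact ⟨E, ⟨⟨a, b, hab⟩, hP⟩, he⟩

end Groth.Agent.Lib.PCohPerf
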