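import Groth.Agent.Lib.PCohTrunc
import Groth.Agent.Lib.PCohPerf
import Groth.Agent.Lib.DTwoTerm

/-!
# Bounded acyclic complexes with terms in a liftable class stable under kernels of epimorphisms

Namespace `Groth.Agent.Lib.PCohAcyclic` (SGA6 I, punctual case).

* `prop_cycles'`: variant of `PCohTrunc.prop_cycles` only requiring `F^i ∈ P` for `i ≥ b`.
* `prop_of_acyclic`: a bounded acyclic complex `K`, zero below `m`, with `K^i ∈ P` for all
  `i ≠ m + 1`, has `K^{m+1} ∈ P`.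
* `prop_of_biprod`: if `X ⊞ Y` and `X` are in `P` then so is `Y`.
* `prop_bottom_of_quasiIso`: for `φ : E ⟶ F` a quasi-isomorphism with `E` in `P`, both vanishing
  outside `[a, b]`, and `F^i ∈ P` for `i > a`: `F^a ∈ P`.
-/

set_option autoImplicit false
universe w v u

open CategoryTheory CategoryTheory.Limits Category

namespace Groth.Agent.Lib.PCohAcyclic

variable {C : Type u} [Category.{v} C] [Abelian C]

open HomologicalComplex Groth.Agent.Lib.PCohTrunc

variable (P : ObjectProperty C) [P.IsClosedUnderIsomorphisms] [P.ContainsZero]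

lemma prop_cycles'
    (hst : ∀ (E F : C) (u : E ⟶ F), Epi u → P E → P F → P (kernel u))
    (b c : ℤ) (F : CochainComplex C ℤ) (hP : ∀ i : ℤ, b ≤ i → P (F.X i))
    (hvan : ∀ i : ℤ, c < i → IsZero (F.X i)) (hex : ∀ i : ℤ, b < i → F.ExactAt i)
    (i : ℤ) (hi : b ≤ i) : P (F.cycles i) := by
  suffices ∀ (k : ℕ) (i : ℤ), b ≤ i → c < i + k → P (F.cycles i) by
    obtain ⟨k, hk⟩ : ∃ k : ℕ, c < i + k := ⟨(c - i + 1).toNat, by lia⟩
    exact this k i hi hk
  intro k
  induction k with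
  | zero =>
    intro i _ hc
    exact P.prop_of_isZero (IsZero.of_mono (F.iCycles i) (hvan i (by simpa using hc)))
  | succ k ih =>
    intro i hi hc
    have h1 : P (F.cycles (i + 1)) := ih (i + 1) (by lia) (by push_cast at hc; lia)
    have := epi_toCycles_of_exactAt F i (i + 1) rfl (hex _ (by lia))
    exact P.prop_of_iso (kernelToCyclesIso F i (i + 1) rfl) (hst _ _ _ this (hP i hi) h1)

/-- If `K` is exact at `m` and `K^{m-1} = 0` then `K^m ⟶ Z^{m+1}` is a monomorphism. -/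
lemma mono_toCycles_of_exactAt (K : CochainComplex C ℤ) (l m n : ℤ) (hlm : l + 1 = m)
    (hmn : m + 1 = n) (h : K.ExactAt m) (h0 : IsZero (K.X l)) : Mono (K.toCycles m n) := by
  rw [exactAt_iff' K l m n (by simp; lia) (by simp; lia)] at h
  have : Mono (K.d m n) := h.mono_g (h0.eq_of_src _ _)
  have : Mono (K.toCycles m n ≫ K.iCycles n) := by rw [toCycles_i]; infer_instance
  exact mono_of_mono _ (K.iCycles n)

/-- If `p : X ⟶ Z` is a split epimorphism with `ker p` and `Z` in `P` then `X ∈ P`. -/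
lemma prop_of_isSplitEpi (hsum : ∀ X Y : C, P X → P Y → P (X ⨯ Y)) {X Z : C} (p : X ⟶ Z)
    [IsSplitEpi p] (hk : P (kernel p)) (hZ : P Z) : P X := by
  let S : ShortComplex C := ShortComplex.mk (kernel.ι p) p (kernel.condition p)
  have hS : S.Exact := ShortComplex.exact_of_f_is_kernel _ (kernelIsKernel p)
  have hf : Mono S.f := by dsimp [S]; infer_instance
  let σ := ShortComplex.Splitting.ofExactOfSection S hS (section_ p) (IsSplitEpi.id p) hf
  exact P.prop_of_iso (σ.isoBinaryBiproduct ≪≫ biprod.isoProd _ _).symm (hsum _ _ hk hZ)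

/-- If `X ⊞ Y` and `X` are in `P` then so is `Y`. -/
lemma prop_of_biprod
    (hst : ∀ (E F : C) (u : E ⟶ F), Epi u → P E → P F → P (kernel u))
    (X Y : C) (h : P (X ⊞ Y)) (hX : P X) : P Y := by
  have h1 : P (kernel (biprod.fst : X ⊞ Y ⟶ X)) := hst _ _ _ inferInstance h hX
  exact P.prop_of_iso (IsLimit.conePointUniqueUpToIso (kernelIsKernel (biprod.fst : X ⊞ Y ⟶ X))
    (biprod.isKernelFstKernelFork X Y)) h1

theorem prop_of_acyclic (hsum : ∀ X Y : C, P X → P Y → P (X ⨯ Y))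
    (hlift : ∀ (E F : C) (u : E ⟶ F), Epi u → P F → IsSplitEpi u)
    (hst : ∀ (E F : C) (u : E ⟶ F), Epi u → P E → P F → P (kernel u))
    (m c : ℤ) (K : CochainComplex C ℤ) (hex : ∀ i : ℤ, K.ExactAt i)
    (hvan : ∀ i : ℤ, i < m ∨ c < i → IsZero (K.X i)) (hP : ∀ i : ℤ, i ≠ m + 1 → P (K.X i)) :
    P (K.X (m + 1)) := by
  have hZ : P (K.cycles (m + 2)) :=
    prop_cycles' P hst (m + 2) c K (fun i hi => hP i (by lia)) (fun i hi => hvan i (Or.inr hi))
      (fun i _ => hex i) (m + 2) le_rfl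
  have hepi := epi_toCycles_of_exactAt K (m + 1) (m + 2) (by lia) (hex _)
  have := hlift _ _ _ hepi hZ
  refine prop_of_isSplitEpi P hsum (K.toCycles (m + 1) (m + 2)) ?_ hZ
  refine P.prop_of_iso (kernelToCyclesIso K (m + 1) (m + 2) (by lia)).symm ?_
  have h1 := epi_toCycles_of_exactAt K m (m + 1) rfl (hex _)
  have h2 := mono_toCycles_of_exactAt K (m - 1) m (m + 1) (by lia) rfl (hex _)
    (hvan _ (Or.inl (by lia)))
  have : IsIso (K.toCycles m (m + 1)) := isIso_of_mono_of_epi _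
  exact P.prop_of_iso (asIso (K.toCycles m (m + 1))) (hP m (by lia))

theorem prop_bottom_of_quasiIso (hsum : ∀ X Y : C, P X → P Y → P (X ⨯ Y))
    (hlift : ∀ (E F : C) (u : E ⟶ F), Epi u → P F → IsSplitEpi u)
    (hst : ∀ (E F : C) (u : E ⟶ F), Epi u → P E → P F → P (kernel u))
    (a b : ℤ) {E F : CochainComplex C ℤ} (φ : E ⟶ F) [QuasiIso φ]
    (hE : ∀ i : ℤ, P (E.X i)) (hvanE : ∀ i : ℤ, i < a ∨ b < i → IsZero (E.X i))
    (hvan : ∀ i : ℤ, i < a ∨ b < i → IsZero (F.X i)) (hP : ∀ i : ℤ, a < i → P (F.X i)) :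
    P (F.X a) := by
  let K := CochainComplex.mappingCone φ
  let e : ∀ i : ℤ, K.X i ≅ E.X (i + 1) ⊞ F.X i :=
    fun i => HomologicalComplex.homotopyCofiber.XIsoBiprod φ i (i + 1) rfl
  have hK : P (K.X (a - 1 + 1)) := by
    refine prop_of_acyclic P hsum hlift hst (a - 1) b K
      (fun i => Groth.Agent.Lib.DTwoTerm.exactAt_mappingCone φ i) (fun i hi => ?_) (fun i hi => ?_)
    · refine IsZero.of_iso ?_ (e i)
      rw [biprod_isZero_iff]
      exact ⟨hvanE _ (by lia), hvan _ (by lia)⟩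
    · by_cases hia : a < i
      · exact P.prop_of_iso ((e i) ≪≫ biprod.isoProd _ _).symm (hsum _ _ (hE _) (hP i hia))
      · have h0 : IsZero (F.X i) := hvan i (Or.inl (by lia))
        have : IsIso (biprod.fst : E.X (i + 1) ⊞ F.X i ⟶ E.X (i + 1)) := by
          refine ⟨biprod.inl, ?_, biprod.inl_fst⟩
          apply biprod.hom_ext'
          · simp
          · exact h0.eq_of_src _ _
        exact P.prop_of_iso ((e i) ≪≫ asIso (biprod.fst : E.X (i + 1) ⊞ F.X i ⟶ _)).symm (hE _)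
  obtain ⟨a', ha'⟩ : ∃ a' : ℤ, a' = a - 1 + 1 := ⟨_, rfl⟩
  obtain rfl : a' = a := by lia
  rw [← ha'] at hK
  exact prop_of_biprod P hst _ _ (P.prop_of_iso (e a') hK) (hE _)

end Groth.Agent.Lib.PCohAcyclic
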