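import Mathlib

/-!
# Endomorphisms of bounded objects of `D(A)` inducing zero on cohomology are nilpotent

* `eq_zero_of_homologyMap_eq_zero`: a map between objects concentrated in the single degree `a`
  that is zero on `H^a` is zero.
* `pow_eq_zero`: if `X` is in `D^[a, a+n]` and `f : X ⟶ X` is zero on all `H^i`, then
  `f ^ (n+1) = 0`.
-/

open CategoryTheory Limits Category Pretriangulated Triangulated

universe w v u

namespace Groth.Agent.Lib.DNilp

variable {A : Type u} [Category.{v} A] [Abelian A] [HasDerivedCategory.{w} A]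

open DerivedCategory DerivedCategory.TStructure

lemma eq_zero_of_homologyMap_eq_zero (X Y : DerivedCategory A) (a : ℤ)
    [X.IsGE a] [X.IsLE a] [Y.IsGE a] [Y.IsLE a]
    (f : X ⟶ Y) (hf : (homologyFunctor A a).map f = 0) : f = 0 := by
  obtain ⟨M, ⟨e⟩⟩ := exists_iso_singleFunctor_obj_of_isGE_of_isLE X a
  obtain ⟨N, ⟨e'⟩⟩ := exists_iso_singleFunctor_obj_of_isGE_of_isLE Y a
  obtain ⟨g, hg⟩ := (singleFunctor A a).map_surjective (e.inv ≫ f ≫ e'.hom)
  have hg0 : g = 0 := by
    have h1 : (homologyFunctor A a).map ((singleFunctor A a).map g) = 0 := by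
      rw [hg, Functor.map_comp, Functor.map_comp, hf, zero_comp, comp_zero]
    have h2 := (singleFunctorCompHomologyFunctorIso A a).hom.naturality g
    simp only [Functor.comp_map, Functor.id_map] at h2
    rw [h1, zero_comp] at h2
    have h3 : ((singleFunctorCompHomologyFunctorIso A a).hom.app M) ≫ g =
        ((singleFunctorCompHomologyFunctorIso A a).hom.app M) ≫ 0 := by
      rw [← h2, comp_zero]
    exact (cancel_epi _).mp h3
  rw [hg0, Functor.map_zero] at hg
  have h4 : e.hom ≫ (e.inv ≫ f ≫ e'.hom) ≫ e'.inv = 0 := by rw [← hg]; simp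
  simpa using h4

/-- iterated composition of an endomorphism (avoids the `End` monoid for rewriting) -/
def iter {C : Type*} [Category C] {X : C} (f : X ⟶ X) : ℕ → (X ⟶ X)
  | 0 => 𝟙 X
  | (n + 1) => iter f n ≫ f

lemma iter_eq_pow {C : Type*} [Category C] {X : C} (f : X ⟶ X) (n : ℕ) :
    iter f n = ((show End X from f) ^ n : End X) := by
  induction n with
  | zero => rfl
  | succ n ih =>
    rw [pow_succ', End.mul_def]
    change iter f n ≫ f = _
    rw [ih]

lemma map_iter {C D : Type*} [Category C] [Category D] (F : C ⥤ D) {X : C} (f : X ⟶ X) (n : ℕ) :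
    F.map (iter f n) = iter (F.map f) n := by
  induction n with
  | zero => simp [iter]
  | succ n ih => simp [iter, ih]

theorem iter_eq_zero (n : ℕ) : ∀ (X : DerivedCategory A) (a : ℤ) [X.IsGE a] [X.IsLE (a + n)]
    (f : X ⟶ X) (_ : ∀ i : ℤ, (homologyFunctor A i).map f = 0), iter f (n + 1) = 0 := by
  induction n with
  | zero =>
    intro X a _ _ f hf
    have : X.IsLE a := by
      have h : X.IsLE (a + (0 : ℕ)) := inferInstance
      simpa using h
    change 𝟙 X ≫ f = 0
    rw [id_comp]
    exact eq_zero_of_homologyMap_eq_zero X X a f (hf a)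
  | succ n ih =>
    intro X a _ _ f hf
    have hXle : X.IsLE ((a + 1) + n) := by
      have h : X.IsLE (a + ((n + 1 : ℕ) : ℤ)) := inferInstance
      have e : a + ((n + 1 : ℕ) : ℤ) = (a + 1) + n := by push_cast; ring
      rwa [e] at h
    let L := (t.truncLE a).obj X
    let G := (t.truncGE (a + 1)).obj X
    let ι : L ⟶ X := (t.truncLEι a).app X
    let π : X ⟶ G := (t.truncGEπ (a + 1)).app X
    let δ : G ⟶ L⟦(1 : ℤ)⟧ := (t.truncGEδLE a (a + 1) rfl).app X
    have hT : Triangle.mk ι π δ ∈ distTriang (DerivedCategory A) :=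
      t.triangleLEGE_distinguished a (a + 1) rfl X
    have i1 : L.IsLE a := by dsimp [L]; infer_instance
    have i1' : L.IsGE a := by dsimp [L]; infer_instance
    have i3 : G.IsGE (a + 1) := by dsimp [G]; infer_instance
    have i3' : G.IsLE ((a + 1) + n) := by dsimp [G]; infer_instance
    let f₁ : L ⟶ L := (t.truncLE a).map f
    let f₃ : G ⟶ G := (t.truncGE (a + 1)).map f
    have nat₁ : f₁ ≫ ι = ι ≫ f := (t.truncLEι a).naturality f
    have nat₃ : ∀ g : X ⟶ X, g ≫ π = π ≫ (t.truncGE (a + 1)).map g :=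
      fun g => (t.truncGEπ (a + 1)).naturality g
    -- f₁ = 0
    have hf₁ : f₁ = 0 := by
      apply eq_zero_of_homologyMap_eq_zero _ _ a
      have hmono : Mono ((homologyFunctor A a).map ι) := by
        refine (HomologySequence.mono_homologyMap_mor₁_iff _ hT (a - 1) a (by lia)).mpr ?_
        exact (isZero_of_isGE G (a + 1) (a - 1) (by lia)).eq_of_src _ _
      rw [← cancel_mono ((homologyFunctor A a).map ι), zero_comp, ← Functor.map_comp, nat₁,
        Functor.map_comp, hf a, comp_zero]
    -- f₃ is zero on homology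
    have hf₃ : ∀ i : ℤ, (homologyFunctor A i).map f₃ = 0 := by
      intro i
      by_cases hi : i < a + 1
      · exact (isZero_of_isGE G (a + 1) i hi).eq_of_src _ _
      · have hepi : Epi ((homologyFunctor A i).map π) := by
          refine (HomologySequence.epi_homologyMap_mor₂_iff _ hT i (i + 1) rfl).mpr ?_
          exact (isZero_of_isLE L a (i + 1) (by lia)).eq_of_tgt _ _
        rw [← cancel_epi ((homologyFunctor A i).map π), comp_zero, ← Functor.map_comp]
        change (homologyFunctor A i).map (π ≫ (t.truncGE (a + 1)).map f) = 0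
        rw [← nat₃ f, Functor.map_comp, hf i, zero_comp]
    have hpow₃ : iter f₃ (n + 1) = 0 := ih G (a + 1) f₃ hf₃
    have hz : iter f (n + 1) ≫ π = 0 := by
      rw [nat₃, map_iter]
      change π ≫ iter f₃ (n + 1) = 0
      rw [hpow₃, comp_zero]
    obtain ⟨g, hg⟩ := Triangle.coyoneda_exact₂ _ hT _ hz
    have hg' : iter f (n + 1) = (show X ⟶ L from g) ≫ ι := hg
    change iter f (n + 1) ≫ f = 0
    rw [hg', assoc, ← nat₁, hf₁, zero_comp, comp_zero]

theorem pow_eq_zero (n : ℕ) (X : DerivedCategory A) (a : ℤ) [X.IsGE a] [X.IsLE (a + n)]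
    (f : End X) (hf : ∀ i : ℤ, (homologyFunctor A i).map f = 0) : f ^ (n + 1) = 0 := by
  have := iter_eq_zero n X a f hf
  rw [iter_eq_pow] at this
  exact this

end Groth.Agent.Lib.DNilp
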