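import Groth.Agent.Lib.DSplit
import Groth.Agent.Lib.DDevissage
import Groth.Agent.Lib.DNilp

/-!
# Morphisms from a projective object placed in degree `0`

Namespace `Groth.Agent.Lib.DProjHom`.

* `homToH0 P X : (P[0] ⟶ X) → (P ⟶ H⁰ X)`, natural in `P` (`homToH0_naturality`) and additive.
* `hom_single_eq_zero_of_isLE`: `Hom(P[0], W) = 0` for `P` projective and `W ∈ D^{≤ -1}`.
* `homToH0_bijective`: for `P` projective, `homToH0 P X` is bijective.
-/

set_option autoImplicit false
universe w v u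

open CategoryTheory CategoryTheory.Limits Category Pretriangulated

namespace Groth.Agent.Lib.DProjHom

variable {A : Type u} [Category.{v} A] [Abelian A] [HasDerivedCategory.{w} A]

open DerivedCategory DerivedCategory.TStructure

/-- The map `Hom_D(P[0], X) → Hom(P, H⁰ X)`. -/
noncomputable def homToH0 (P : A) (X : DerivedCategory A)
    (φ : (singleFunctor A 0).obj P ⟶ X) : P ⟶ (homologyFunctor A 0).obj X :=
  (singleFunctorCompHomologyFunctorIso A 0).inv.app P ≫ (homologyFunctor A 0).map φ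

lemma homToH0_naturality {P₁ P₀ : A} (u : P₁ ⟶ P₀) (X : DerivedCategory A)
    (φ : (singleFunctor A 0).obj P₀ ⟶ X) :
    homToH0 P₁ X ((singleFunctor A 0).map u ≫ φ) = u ≫ homToH0 P₀ X φ := by
  have h := (singleFunctorCompHomologyFunctorIso A 0).inv.naturality u
  simp only [Functor.id_map, Functor.comp_map] at h
  dsimp only [homToH0]
  rw [Functor.map_comp, ← assoc, ← h, assoc]

lemma homToH0_sub (P : A) (X : DerivedCategory A) (φ₁ φ₂ : (singleFunctor A 0).obj P ⟶ X) :
    homToH0 P X (φ₁ - φ₂) = homToH0 P X φ₁ - homToH0 P X φ₂ := by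
  dsimp only [homToH0]
  rw [Functor.map_sub, Preadditive.comp_sub]

lemma homToH0_comp (P : A) {X Y : DerivedCategory A} (φ : (singleFunctor A 0).obj P ⟶ X)
    (f : X ⟶ Y) : homToH0 P Y (φ ≫ f) = homToH0 P X φ ≫ (homologyFunctor A 0).map f := by
  dsimp only [homToH0]
  rw [Functor.map_comp, assoc]

/-- `Hom(P[0], W) = 0` for `P` projective and `W ∈ D^{≤ -1}`. -/
lemma hom_single_eq_zero_of_isLE (P : A) [Projective P] (W : DerivedCategory A) [W.IsLE (-1)]
    (φ : (singleFunctor A 0).obj P ⟶ W) : φ = 0 := by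
  let S : CochainComplex A ℤ := (HomologicalComplex.single A (ComplexShape.up ℤ) 0).obj P
  have hproj : ∀ n : ℤ, Projective (S.X n) := by
    intro n
    by_cases hn : n = 0
    · subst hn
      exact Projective.of_iso (HomologicalComplex.singleObjXSelf (ComplexShape.up ℤ) 0 P).symm
        inferInstance
    · exact (HomologicalComplex.isZero_single_obj_X _ _ _ _ hn).projective
  have : S.IsStrictlyLE 0 := by dsimp only [S]; infer_instance
  have : S.IsStrictlyGE 0 := by dsimp only [S]; infer_instance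
  have : S.IsKProjective := CochainComplex.isKProjective_of_projective S 0
  let e : (singleFunctor A 0).obj P ≅ Q.obj S := (singleFunctorIsoCompQ A 0).app P
  have h0 := Groth.Agent.Lib.DSplit.hom_eq_zero S 0 (-1) (by lia) W (e.inv ≫ φ)
  rw [← cancel_epi e.inv, h0, comp_zero]

/-- For `P` projective, `Hom_D(P[0], X) → Hom(P, H⁰ X)` is bijective. -/
theorem homToH0_bijective (P : A) [Projective P] (X : DerivedCategory A) :
    Function.Bijective (homToH0 P X) := by
  let Y := (t.truncLE 0).obj X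
  let ι : Y ⟶ X := (t.truncLEι 0).app X
  have hι : IsIso ((homologyFunctor A 0).map ι) :=
    Groth.Agent.Lib.DWayOut.isIso_homologyMap_truncLEι X 0 0 le_rfl
  let W := (t.truncLE (-1)).obj Y
  let Z := (t.truncGE 0).obj Y
  let j : W ⟶ Y := (t.truncLEι (-1)).app Y
  let π : Y ⟶ Z := (t.truncGEπ 0).app Y
  let δ : Z ⟶ W⟦(1 : ℤ)⟧ := (t.truncGEδLE (-1) 0 rfl).app Y
  have hT : Triangle.mk j π δ ∈ distTriang (DerivedCategory A) :=
    t.triangleLEGE_distinguished (-1) 0 rfl Y
  have hπ : IsIso ((homologyFunctor A 0).map π) :=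
    Groth.Agent.Lib.DWayOut.isIso_homologyMap_truncGEπ Y 0 0 le_rfl
  have iY : Y.IsLE 0 := by dsimp [Y]; infer_instance
  have iW : W.IsLE (-1) := by dsimp [W]; infer_instance
  have iZ : Z.IsGE 0 := by dsimp [Z]; infer_instance
  have iZ' : Z.IsLE 0 := by dsimp [Z]; infer_instance
  constructor
  · intro φ₁ φ₂ h
    have h1 : homToH0 P X (φ₁ - φ₂) = 0 := by rw [homToH0_sub, h, sub_self]
    suffices hz : φ₁ - φ₂ = 0 from sub_eq_zero.mp hz
    set φ := φ₁ - φ₂
    have h0 : (homologyFunctor A 0).map φ = 0 := by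
      dsimp only [homToH0] at h1
      exact (cancel_epi ((singleFunctorCompHomologyFunctorIso A 0).inv.app P)).mp
        (h1.trans comp_zero.symm)
    let φ' : (singleFunctor A 0).obj P ⟶ Y := t.liftTruncLE φ 0
    have hφ' : φ' ≫ ι = φ := t.liftTruncLE_ι φ 0
    have h2 : (homologyFunctor A 0).map φ' = 0 := by
      have : (homologyFunctor A 0).map φ' ≫ (homologyFunctor A 0).map ι = 0 := by
        rw [← Functor.map_comp, hφ', h0]
      exact (cancel_mono ((homologyFunctor A 0).map ι)).mp (this.trans zero_comp.symm)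
    have h3 : φ' ≫ π = 0 :=
      Groth.Agent.Lib.DNilp.eq_zero_of_homologyMap_eq_zero _ Z 0 (φ' ≫ π) (by
        rw [Functor.map_comp, h2, zero_comp])
    obtain ⟨φ'', hφ''⟩ : ∃ φ'' : (singleFunctor A 0).obj P ⟶ W, φ' = φ'' ≫ j :=
      Triangle.coyoneda_exact₂ _ hT φ' h3
    have h4 : φ'' = 0 := hom_single_eq_zero_of_isLE P W φ''
    rw [← hφ', hφ'', h4, zero_comp, zero_comp]
  · intro g
    obtain ⟨N, ⟨e⟩⟩ := exists_iso_singleFunctor_obj_of_isGE_of_isLE Z 0
    let g₂ : P ⟶ N := g ≫ inv ((homologyFunctor A 0).map ι) ≫ (homologyFunctor A 0).map π ≫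
      (homologyFunctor A 0).map e.hom ≫ (singleFunctorCompHomologyFunctorIso A 0).hom.app N
    let ψ : (singleFunctor A 0).obj P ⟶ Z := (singleFunctor A 0).map g₂ ≫ e.inv
    have iW1 : (W⟦(1 : ℤ)⟧).IsLE (-1) := by
      have : (W⟦(1 : ℤ)⟧).IsLE (-2) := t.isLE_shift W (-1) 1 (-2) (by lia)
      exact t.isLE_of_le _ (-2) (-1) (by lia)
    have hψ : ψ ≫ δ = 0 := hom_single_eq_zero_of_isLE P (W⟦(1 : ℤ)⟧) _
    obtain ⟨φ₁, hφ₁⟩ : ∃ φ₁ : (singleFunctor A 0).obj P ⟶ Y, ψ = φ₁ ≫ π :=
      Triangle.coyoneda_exact₃ _ hT ψ hψ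
    refine ⟨φ₁ ≫ ι, ?_⟩
    rw [homToH0_comp]
    have key : homToH0 P Y φ₁ ≫ (homologyFunctor A 0).map π =
        (g ≫ inv ((homologyFunctor A 0).map ι)) ≫ (homologyFunctor A 0).map π := by
      rw [← homToH0_comp]
      have : φ₁ ≫ π = ψ := hφ₁.symm
      rw [this]
      dsimp only [ψ]
      rw [homToH0_naturality]
      dsimp only [homToH0, g₂]
      simp only [assoc, ← Functor.map_comp, Iso.hom_inv_id, CategoryTheory.Functor.map_id,
        Iso.hom_inv_id_app_assoc, comp_id]
    have key' := (cancel_mono ((homologyFunctor A 0).map π)).mp key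
    rw [key', assoc, IsIso.inv_hom_id, comp_id]

end Groth.Agent.Lib.DProjHom
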