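import Groth.Agent.Lib.PCohAmp
import Groth.Agent.Lib.PCohAcyclic
import Groth.Agent.Lib.DProjHom
import Groth.Agent.Lib.DDevissage

/-!
# Perfect amplitude passes to retracts (SGA6 I, punctual case, `S5622`)

Namespace `Groth.Agent.Lib.PCohAmp`.

* `pa_trunc`.
* `retract_obj₃`: in a pretriangulated category, a retraction between the first two vertices of
  two distinguished triangles induces one between the third vertices.
* `pa_of_retract`: if `P` is liftable, stable under kernels of epimorphisms and direct factors,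
  a retract of an object of perfect amplitude in `[a, b]` has perfect amplitude in `[a, b]`.
-/

set_option autoImplicit false
universe w v u

open CategoryTheory CategoryTheory.Limits Category Pretriangulated

namespace Groth.Agent.Lib.PCohAmp

section Tri

variable {T : Type u} [Category.{v} T] [HasZeroObject T] [HasShift T ℤ] [Preadditive T]
  [∀ n : ℤ, (shiftFunctor T n).Additive] [Pretriangulated T]

/-- A retraction between the first two vertices of distinguished triangles induces a retraction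
between the third vertices. -/
lemma retract_obj₃ (T₁ T₂ : Triangle T) (h₁ : T₁ ∈ distTriang T) (h₂ : T₂ ∈ distTriang T)
    (a : T₁.obj₁ ⟶ T₂.obj₁) (b : T₁.obj₂ ⟶ T₂.obj₂) (comm : T₁.mor₁ ≫ b = a ≫ T₂.mor₁)
    (a' : T₂.obj₁ ⟶ T₁.obj₁) (b' : T₂.obj₂ ⟶ T₁.obj₂) (comm' : T₂.mor₁ ≫ b' = a' ≫ T₁.mor₁)
    (ha : a ≫ a' = 𝟙 _) (hb : b ≫ b' = 𝟙 _) :
    ∃ (c : T₁.obj₃ ⟶ T₂.obj₃) (c' : T₂.obj₃ ⟶ T₁.obj₃), c ≫ c' = 𝟙 _ := by
  obtain ⟨c, hc₁, hc₂⟩ := complete_distinguished_triangle_morphism T₁ T₂ h₁ h₂ a b comm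
  obtain ⟨c', hc'₁, hc'₂⟩ := complete_distinguished_triangle_morphism T₂ T₁ h₂ h₁ a' b' comm'
  let φ : T₁ ⟶ T₁ :=
    { hom₁ := a ≫ a'
      hom₂ := b ≫ b'
      hom₃ := c ≫ c'
      comm₁ := by rw [ha, hb, comp_id, id_comp]
      comm₂ := by rw [reassoc_of% hc₁, hc'₁, assoc]
      comm₃ := by rw [assoc, ← hc'₂, Functor.map_comp, reassoc_of% hc₂] }
  have : IsIso φ.hom₃ := isIso₃_of_isIso₁₂ φ h₁ h₁ (by dsimp [φ]; rw [ha]; infer_instance)
    (by dsimp [φ]; rw [hb]; infer_instance)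
  exact ⟨c, c' ≫ inv (c ≫ c'), by rw [← assoc]; exact IsIso.hom_inv_id (c ≫ c')⟩

end Tri

variable {C : Type u} [Category.{v} C] [Abelian C] [HasDerivedCategory.{w} C]
  {P : ObjectProperty C}

open DerivedCategory

lemma pa_trunc [P.IsClosedUnderIsomorphisms] [P.ContainsZero]
    (hst : ∀ (E F : C) (u : E ⟶ F), Epi u → P E → P F → P (kernel u))
    {a b c : ℤ} (hab : a ≤ b) {K : DerivedCategory C} (h : PA P a c K)
    (hK : ∀ i : ℤ, b < i → IsZero ((homologyFunctor C i).obj K)) : PA P a (min b c) K := by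
  by_cases hcb : c ≤ b
  · rw [min_eq_right hcb]
    exact h
  · have hbc : b < c := not_le.mp hcb
    rw [min_eq_left hbc.le]
    obtain ⟨F, hP, hvan, ⟨e⟩⟩ := h
    have hex : ∀ i : ℤ, b < i → F.ExactAt i := fun i hi => by
      rw [HomologicalComplex.exactAt_iff_isZero_homology]
      exact (hK i hi).of_iso (((homologyFunctorFactors C i).app F).symm ≪≫
        (homologyFunctor C i).mapIso e)
    obtain ⟨h1, h2, h3⟩ := Groth.Agent.Lib.PCohTrunc.truncLE_props P hst a b c hab F hP hvan hex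
    have : IsIso (DerivedCategory.Q.map (F.ιTruncLE b)) := by
      rw [DerivedCategory.isIso_Q_map_iff_quasiIso]
      exact h3
    exact ⟨F.truncLE b, h1, h2, ⟨asIso (DerivedCategory.Q.map (F.ιTruncLE b)) ≪≫ e⟩⟩

/-- a retract in an abelian category is a direct factor -/
lemma prop_of_retract [P.IsClosedUnderIsomorphisms]
    (hdf : ∀ (E' E'' : C) [HasBinaryBiproduct E' E''], P (E' ⊞ E'') → P E' ∧ P E'')
    {M N : C} (s : M ⟶ N) (r : N ⟶ M) (hsr : s ≫ r = 𝟙 M) (hN : P N) : P M := by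
  let S : ShortComplex C := ShortComplex.mk (kernel.ι r) r (kernel.condition r)
  have hS : S.Exact := ShortComplex.exact_of_f_is_kernel _ (kernelIsKernel r)
  have hf : Mono S.f := by dsimp [S]; infer_instance
  let σ := ShortComplex.Splitting.ofExactOfSection S hS s hsr hf
  exact (hdf _ _ (P.prop_of_iso σ.isoBinaryBiproduct hN)).2

lemma isZero_homology_of_retract {F F' : DerivedCategory C} (s : F' ⟶ F) (r : F ⟶ F')
    (hsr : s ≫ r = 𝟙 F') (i : ℤ) (h : IsZero ((homologyFunctor C i).obj F)) :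
    IsZero ((homologyFunctor C i).obj F') := by
  have : IsSplitMono ((homologyFunctor C i).map s) :=
    ⟨⟨(homologyFunctor C i).map r, by
      rw [← Functor.map_comp, hsr, CategoryTheory.Functor.map_id]⟩⟩
  exact IsZero.of_mono ((homologyFunctor C i).map s) h

/-- `H^a(Q E) ≅ E^a` for a complex concentrated in degree `a`. -/
lemma nonempty_homology_iso_of_concentrated (E : CochainComplex C ℤ) (a : ℤ)
    (hE : ∀ i : ℤ, i < a ∨ a < i → IsZero (E.X i)) :
    Nonempty ((homologyFunctor C a).obj (Q.obj E) ≅ E.X a) := by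
  have hf : (E.sc a).f = 0 := (hE _ (Or.inl (by simp))).eq_of_src _ _
  have hg : (E.sc a).g = 0 := (hE _ (Or.inr (by simp))).eq_of_tgt _ _
  exact ⟨(homologyFunctorFactors C a).app E ≪≫
    (ShortComplex.HomologyData.ofZeros (E.sc a) hf hg).left.homologyIso⟩

theorem pa_of_retract_base [P.IsClosedUnderIsomorphisms] [P.ContainsZero]
    (hdf : ∀ (E' E'' : C) [HasBinaryBiproduct E' E''], P (E' ⊞ E'') → P E' ∧ P E'')
    (a : ℤ) (F F' : DerivedCategory C) (s : F' ⟶ F) (r : F ⟶ F') (hsr : s ≫ r = 𝟙 F')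
    (hF : PA P a a F) : PA P a a F' := by
  have hz : ∀ i : ℤ, i < a ∨ a < i → IsZero ((homologyFunctor C i).obj F') := fun i hi =>
    isZero_homology_of_retract s r hsr i (isZero_homology_of_pa hF i hi)
  have : F'.IsGE a := by
    rw [isGE_iff]
    exact fun i hi => hz i (Or.inl hi)
  have : F'.IsLE a := by
    rw [isLE_iff]
    exact fun i hi => hz i (Or.inr hi)
  obtain ⟨e'⟩ := Groth.Agent.Lib.DDevissage.nonempty_iso_single_homology F' a
  obtain ⟨E, hP, hv, ⟨e⟩⟩ := hF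
  obtain ⟨ι⟩ := nonempty_homology_iso_of_concentrated E a hv
  have hN : P ((homologyFunctor C a).obj F) :=
    P.prop_of_iso (ι.symm ≪≫ (homologyFunctor C a).mapIso e) (hP a)
  have hM : P ((homologyFunctor C a).obj F') :=
    prop_of_retract hdf ((homologyFunctor C a).map s) ((homologyFunctor C a).map r)
      (by rw [← Functor.map_comp, hsr, CategoryTheory.Functor.map_id]) hN
  exact pa_of_iso e'.symm (pa_single _ hM a)

/-- an epimorphism from an object of `P` onto the top cohomology -/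
lemma exists_epi_top_homology {a : ℤ} {F : DerivedCategory C} (hF : PA P a 0 F) :
    ∃ (P₀ : C) (p : P₀ ⟶ (homologyFunctor C 0).obj F), P P₀ ∧ Epi p := by
  obtain ⟨E, hP, hv, ⟨e⟩⟩ := hF
  have hd : E.d 0 1 = 0 := (hv 1 (Or.inr (by lia))).eq_of_tgt _ _
  have : IsIso (E.iCycles 0) := E.isIso_iCycles 0 1 (by simp) hd
  let ι : E.homology 0 ≅ (homologyFunctor C 0).obj F :=
    ((homologyFunctorFactors C 0).app E).symm ≪≫ (homologyFunctor C 0).mapIso e
  have h2 : Epi (E.homologyπ 0 ≫ ι.hom) := epi_comp _ _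
  exact ⟨E.X 0, inv (E.iCycles 0) ≫ E.homologyπ 0 ≫ ι.hom, hP 0, epi_comp _ _⟩

open Groth.Agent.Lib.DProjHom in
theorem pa_of_retract_step [P.IsClosedUnderIsomorphisms] [P.ContainsZero]
    (hsum : ∀ X Y : C, P X → P Y → P (X ⨯ Y))
    (hlift : ∀ (E F : C) (u : E ⟶ F), Epi u → P F → IsSplitEpi u)
    (hst : ∀ (E F : C) (u : E ⟶ F), Epi u → P E → P F → P (kernel u))
    (a : ℤ) (ha : a < 0)
    (IH : ∀ (G G' : DerivedCategory C) (s : G' ⟶ G) (r : G ⟶ G'), s ≫ r = 𝟙 G' →
      PA P a (-1) G → PA P a (-1) G')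
    (F F' : DerivedCategory C) (s : F' ⟶ F) (r : F ⟶ F') (hsr : s ≫ r = 𝟙 F')
    (hF : PA P a 0 F) : PA P a 0 F' := by
  obtain ⟨P₀, p, hP₀, hp⟩ := exists_epi_top_homology hF
  have : Projective P₀ := Groth.Agent.Lib.PCohPerf.projective_of_liftable P hlift P₀ hP₀
  let H := homologyFunctor C 0
  let ε : H.obj F ⟶ H.obj F := H.map (r ≫ s)
  have hP₂ : P (P₀ ⊞ P₀) := P.prop_of_iso (biprod.isoProd P₀ P₀).symm (hsum _ _ hP₀ hP₀)
  let p₂ : P₀ ⊞ P₀ ⟶ H.obj F := biprod.desc (p ≫ ε) (p ≫ (𝟙 _ - ε))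
  have hp₂ : Epi p₂ := by
    have : biprod.lift (𝟙 P₀) (𝟙 P₀) ≫ p₂ = p := by
      dsimp only [p₂]
      rw [biprod.lift_desc, id_comp, id_comp, ← Preadditive.comp_add, add_sub_cancel, comp_id]
    exact epi_of_epi_fac this
  obtain ⟨Φ, hΦ⟩ := (homToH0_bijective (P₀ ⊞ P₀) F).2 p₂
  obtain ⟨φ', hφ'⟩ := (homToH0_bijective P₀ F').2 (p ≫ H.map r)
  have comm1 : φ' ≫ s = (singleFunctor C 0).map biprod.inl ≫ Φ := by
    apply (homToH0_bijective P₀ F).1
    rw [homToH0_naturality, hΦ, homToH0_comp, hφ']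
    dsimp only [p₂, ε, H]
    rw [biprod.inl_desc, assoc, ← Functor.map_comp]
  have comm2 : Φ ≫ r = (singleFunctor C 0).map biprod.fst ≫ φ' := by
    apply (homToH0_bijective (P₀ ⊞ P₀) F').1
    rw [homToH0_comp, hΦ, homToH0_naturality, hφ']
    dsimp only [p₂, ε, H]
    apply biprod.hom_ext'
    · rw [biprod.inl_desc_assoc, biprod.inl_fst_assoc, assoc, ← Functor.map_comp, assoc, hsr,
        comp_id]
    · rw [biprod.inr_desc_assoc, biprod.inr_fst_assoc, zero_comp, assoc,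
        Preadditive.sub_comp, id_comp, ← Functor.map_comp, assoc, hsr, comp_id, sub_self,
        comp_zero]
  obtain ⟨G₂, g₂, h₂, hT₂⟩ := distinguished_cocone_triangle Φ
  obtain ⟨G', g', h', hT₁⟩ := distinguished_cocone_triangle φ'
  obtain ⟨c, c', hc⟩ := retract_obj₃ (Triangle.mk φ' g' h') (Triangle.mk Φ g₂ h₂) hT₁ hT₂
    ((singleFunctor C 0).map biprod.inl) s comm1 ((singleFunctor C 0).map biprod.fst) r comm2
    (by
      change (singleFunctor C 0).map biprod.inl ≫ (singleFunctor C 0).map biprod.fst = 𝟙 _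
      rw [← Functor.map_comp, biprod.inl_fst, CategoryTheory.Functor.map_id]) hsr
  have hS₂ : PA P 0 0 ((singleFunctor C 0).obj (P₀ ⊞ P₀)) := pa_single _ hP₂ 0
  have hS₀ : PA P 0 0 ((singleFunctor C 0).obj P₀) := pa_single _ hP₀ 0
  have hG₂ : PA P a 0 G₂ :=
    pa_mono (le_min (by lia) le_rfl) (max_le (by lia) le_rfl)
      (pa_cone hsum hlift _ hT₂ hS₂ hF)
  have hG₂z : ∀ i : ℤ, -1 < i → IsZero ((homologyFunctor C i).obj G₂) := by
    intro i hi
    refine Groth.Agent.Lib.DLES.isZero_homology_obj₃ _ hT₂ i (i + 1) rfl ?_ ?_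
    · change Epi ((homologyFunctor C i).map Φ)
      obtain rfl | hi' := (show 0 ≤ i by lia).eq_or_lt
      · have : Epi ((singleFunctorCompHomologyFunctorIso C 0).inv.app (P₀ ⊞ P₀) ≫
            (homologyFunctor C 0).map Φ) := by
          change Epi (homToH0 (P₀ ⊞ P₀) F Φ)
          rw [hΦ]
          exact hp₂
        exact epi_of_epi ((singleFunctorCompHomologyFunctorIso C 0).inv.app (P₀ ⊞ P₀)) _
      · exact Groth.Agent.Lib.DLES.epi_of_isZero_tgt _ (isZero_homology_of_pa hF i (Or.inr hi'))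
    · change Mono ((homologyFunctor C (i + 1)).map Φ)
      exact Groth.Agent.Lib.DLES.mono_of_isZero_src _
        (isZero_homology_of_pa hS₂ (i + 1) (Or.inr (by lia)))
  have hG₂' : PA P a (-1) G₂ := by
    have := pa_trunc hst (show a ≤ -1 by lia) hG₂ hG₂z
    simpa using this
  have hG' : PA P a (-1) G' := IH G₂ G' c c' hc hG₂'
  have hrot := inv_rot_of_distTriang _ hT₁
  have h1 : PA P (a + 1) 0 (G'⟦(-1 : ℤ)⟧) := pa_mono (by lia) (by lia) (pa_shift hG' (-1))
  exact pa_mono (le_min (by lia) (by lia)) (max_le (by lia) le_rfl)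
    (pa_cone hsum hlift _ hrot h1 hS₀)

/-- Perfect amplitude in `[a, b]` passes to retracts, when `P` is stable under direct factors. -/
theorem pa_of_retract [P.IsClosedUnderIsomorphisms] [P.ContainsZero]
    (hsum : ∀ X Y : C, P X → P Y → P (X ⨯ Y))
    (hlift : ∀ (E F : C) (u : E ⟶ F), Epi u → P F → IsSplitEpi u)
    (hst : ∀ (E F : C) (u : E ⟶ F), Epi u → P E → P F → P (kernel u))
    (hdf : ∀ (E' E'' : C) [HasBinaryBiproduct E' E''], P (E' ⊞ E'') → P E' ∧ P E'')
    (k : ℕ) : ∀ (a b : ℤ), b - a = k → ∀ (F F' : DerivedCategory C) (s : F' ⟶ F) (r : F ⟶ F'),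
      s ≫ r = 𝟙 F' → PA P a b F → PA P a b F' := by
  induction k with
  | zero =>
    intro a b hab F F' s r hsr hF
    obtain rfl : a = b := by simp at hab; lia
    exact pa_of_retract_base hdf a F F' s r hsr hF
  | succ k ih =>
    intro a b hab F F' s r hsr hF
    have hF₁ : PA P (a - b) 0 (F⟦b⟧) := pa_mono le_rfl (by lia) (pa_shift hF b)
    have key := pa_of_retract_step hsum hlift hst (a - b) (by push_cast at hab; lia)
      (ih (a - b) (-1) (by push_cast at hab; lia)) (F⟦b⟧) (F'⟦b⟧) (s⟦b⟧') (r⟦b⟧')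
      (by rw [← Functor.map_comp, hsr, CategoryTheory.Functor.map_id]) hF₁
    exact pa_of_shift b (pa_mono le_rfl (by lia) key)

end Groth.Agent.Lib.PCohAmp
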