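import Groth.Agent.Lib.DRingPCoh21
import Groth.Agent.Lib.ArtinianFlat
import Groth.Agent.Lib.PCohAcyclic
import Groth.Agent.Lib.PCohAmp2
import Groth.Agent.Lib.DRingPCoh21B
import Groth.Agent.S5597
import Mathlib.Algebra.Homology.DerivedCategory.Fractions
import Mathlib.Algebra.Category.ModuleCat.Kernels
import Mathlib.RingTheory.Flat.EquationalCriterion
import Mathlib.Algebra.Module.FinitePresentation
import Mathlib.LinearAlgebra.TensorProduct.Prod

/-!
# Flat and finite projective modules as classes of objects of `ModuleCat A`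

Namespace `Groth.Agent.Lib.DRingPerfAmp`.

* `FL A`: flat modules; closed under isomorphisms, contains zero, stable under kernels of
  epimorphisms (`fl_kernel`).
* For `FP A = DRingPCoh21.FP A` (finite projective): `fp_lift` (liftable), `fp_kernel`
  (stable under kernels of epimorphisms), `fp_direct_factor`.
-/

set_option autoImplicit false
universe u

open CategoryTheory CategoryTheory.Limits Category

namespace Groth.Agent.Lib.DRingPerfAmp

open Groth.Agent.Lib.DRingPCoh21

variable (A : Type u) [CommRing A]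

/-- flat modules -/
def FL : ObjectProperty (ModuleCat.{u} A) := fun M => Module.Flat A M

instance : (FL A).IsClosedUnderIsomorphisms where
  of_iso {X Y} e h := by
    have : Module.Flat A X := h
    exact Module.Flat.of_linearEquiv e.toLinearEquiv.symm

instance : (FL A).ContainsZero where
  exists_zero := ⟨ModuleCat.of A PUnit, ModuleCat.isZero_of_subsingleton _, by
    change Module.Flat A PUnit.{u + 1}
    infer_instance⟩

lemma fl_kernel (E F : ModuleCat.{u} A) (u : E ⟶ F) (hu : Epi u) (hE : FL A E) (hF : FL A F) :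
    FL A (kernel u) := by
  have : Module.Flat A E := hE
  have : Module.Flat A F := hF
  have h : Module.Flat A (LinearMap.ker u.hom) :=
    Groth.Agent.Lib.ArtinianFlat.flat_of_flat_quotient (f := (LinearMap.ker u.hom).subtype)
      (g := u.hom) (Submodule.subtype_injective _) (LinearMap.exact_subtype_ker_map _)
      ((ModuleCat.epi_iff_surjective u).1 hu)
  exact (FL A).prop_of_iso (ModuleCat.kernelIsoKer u).symm h

lemma fp_lift (E F : ModuleCat.{u} A) (u : E ⟶ F) (hu : Epi u) (hF : FP A F) : IsSplitEpi u := by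
  obtain ⟨h1, h2⟩ := hF
  have : Projective F := ModuleCat.projective_of_categoryTheory_projective F
  exact ⟨⟨Projective.factorThru (𝟙 F) u, Projective.factorThru_comp _ _⟩⟩

lemma fp_of_retract {M N : ModuleCat.{u} A} (s : M ⟶ N) (r : N ⟶ M) (hsr : s ≫ r = 𝟙 M)
    (hN : FP A N) : FP A M := by
  obtain ⟨h1, h2⟩ := hN
  have hr : Function.Surjective r.hom := fun x => ⟨s.hom x, by
    have := congr($(hsr).hom x)
    simpa using this⟩
  refine ⟨Module.Finite.of_surjective r.hom hr, ?_⟩
  exact Module.Projective.of_split s.hom r.hom (by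
    ext x
    have := congr($(hsr).hom x)
    simpa using this)

lemma fp_kernel (E F : ModuleCat.{u} A) (u : E ⟶ F) (hu : Epi u) (hE : FP A E) (hF : FP A F) :
    FP A (kernel u) := by
  have := fp_lift A E F u hu hF
  have h0 : (𝟙 E - u ≫ section_ u) ≫ u = 0 := by
    rw [Preadditive.sub_comp, id_comp, assoc, IsSplitEpi.id, comp_id, sub_self]
  refine fp_of_retract A (kernel.ι u) (kernel.lift u (𝟙 E - u ≫ section_ u) h0) ?_ hE
  rw [← cancel_mono (kernel.ι u), assoc, kernel.lift_ι, Preadditive.comp_sub, comp_id,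
    kernel.condition_assoc, zero_comp, sub_zero, id_comp]

lemma fp_direct_factor (E' E'' : ModuleCat.{u} A) [HasBinaryBiproduct E' E'']
    (h : FP A (E' ⊞ E'')) : FP A E' ∧ FP A E'' :=
  ⟨fp_of_retract A biprod.inl biprod.fst biprod.inl_fst h,
    fp_of_retract A biprod.inr biprod.snd biprod.inr_snd h⟩

lemma fp_le_fl (M : ModuleCat.{u} A) (h : FP A M) : FL A M := by
  obtain ⟨h1, h2⟩ := h
  exact (inferInstance : Module.Flat A M)

lemma ff_le_fl (M : ModuleCat.{u} A) (h : FF A M) : FL A M := fp_le_fl A M (ff_le_fp A M h)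

/-- Products of flat modules are flat. -/
theorem flat_prod {R : Type*} [CommRing R] {M N : Type*} [AddCommGroup M] [Module R M]
    [AddCommGroup N] [Module R N] [Module.Flat R M] [Module.Flat R N] :
    Module.Flat R (M × N) := by
  rw [Module.Flat.iff_rTensor_injectiveₛ]
  intro P _ _ L
  have hA := Module.Flat.rTensor_preserves_injective_linearMap (M := M) L.subtype
    Subtype.val_injective
  have hB := Module.Flat.rTensor_preserves_injective_linearMap (M := N) L.subtype
    Subtype.val_injective
  have hcomm : (TensorProduct.prodRight R R P M N).toLinearMap ∘ₗ (L.subtype.rTensor (M × N)) =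
      (LinearMap.prodMap (L.subtype.rTensor M) (L.subtype.rTensor N)) ∘ₗ
        (TensorProduct.prodRight R R L M N).toLinearMap := by
    apply TensorProduct.ext'
    rintro x ⟨a, b⟩
    simp
  have hinj : Function.Injective ((LinearMap.prodMap (L.subtype.rTensor M)
      (L.subtype.rTensor N)) ∘ₗ (TensorProduct.prodRight R R L M N).toLinearMap) := by
    rw [LinearMap.coe_comp]
    exact (Function.Injective.prodMap hA hB).comp (LinearEquiv.injective _)
  rw [← hcomm, LinearMap.coe_comp] at hinj
  exact Function.Injective.of_comp hinj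

lemma fl_prod (X Y : ModuleCat.{u} A) (hX : FL A X) (hY : FL A Y) : FL A (X ⨯ Y) := by
  have : Module.Flat A X := hX
  have : Module.Flat A Y := hY
  have h : FL A (ModuleCat.of A (X × Y)) := (flat_prod : Module.Flat A (X × Y))
  exact (FL A).prop_of_iso ((ModuleCat.biprodIsoProd X Y).symm ≪≫ biprod.isoProd X Y) h

section General

variable {C : Type*} [Category C] [Abelian C] (P : ObjectProperty C)
  [P.IsClosedUnderIsomorphisms] [P.ContainsZero]

open HomologicalComplex Groth.Agent.Lib.PCohTrunc Groth.Agent.Lib.PCohAcyclic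

/-- The bottom term of an acyclic complex vanishing outside `[m, c]` whose terms above `m` are in
`P` is in `P` (only stability under kernels of epimorphisms is needed). -/
lemma prop_bottom_of_acyclic
    (hst : ∀ (E F : C) (u : E ⟶ F), Epi u → P E → P F → P (kernel u))
    (m c : ℤ) (K : CochainComplex C ℤ) (hex : ∀ i : ℤ, K.ExactAt i)
    (hvan : ∀ i : ℤ, i < m ∨ c < i → IsZero (K.X i)) (hP : ∀ i : ℤ, m < i → P (K.X i)) :
    P (K.X m) := by
  have hZ : P (K.cycles (m + 1)) :=
    prop_cycles' P hst (m + 1) c K (fun i hi => hP i (by lia)) (fun i hi => hvan i (Or.inr hi))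
      (fun i _ => hex i) (m + 1) le_rfl
  have h1 := epi_toCycles_of_exactAt K m (m + 1) rfl (hex _)
  have h2 := mono_toCycles_of_exactAt K (m - 1) m (m + 1) (by lia) rfl (hex _)
    (hvan _ (Or.inl (by lia)))
  have : IsIso (K.toCycles m (m + 1)) := isIso_of_mono_of_epi _
  exact P.prop_of_iso (asIso (K.toCycles m (m + 1))).symm hZ

/-- If `g : E ⟶ F` is a quasi-isomorphism, `F` has terms in `P` and vanishes outside `[m, c]`,
and `E` is bounded above with terms in `P` in degrees `> m`, then the bottom term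
`coker (E^{m-1} ⟶ E^m)` of the canonical truncation `τ_{≥ m} E` is in `P`. -/
theorem prop_truncGE_bottom (hsum : ∀ X Y : C, P X → P Y → P (X ⨯ Y))
    (hst : ∀ (E F : C) (u : E ⟶ F), Epi u → P E → P F → P (kernel u))
    (m c : ℤ) (hmc : m ≤ c) {E F : CochainComplex C ℤ} (g : E ⟶ F) [QuasiIso g]
    (hE : ∀ i : ℤ, m < i → P (E.X i)) (hvanE : ∀ i : ℤ, c < i → IsZero (E.X i))
    (hF : ∀ i : ℤ, P (F.X i)) (hvanF : ∀ i : ℤ, i < m ∨ c < i → IsZero (F.X i)) :
    P ((E.truncGE m).X m) := by
  have : F.IsStrictlyGE m := by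
    rw [CochainComplex.isStrictlyGE_iff]
    exact fun i hi => hvanF i (Or.inl hi)
  let φ := CochainComplex.truncGEMap g m
  have hφ : QuasiIso φ := by
    rw [CochainComplex.quasiIso_truncGEMap_iff]
    intro i _
    infer_instance
  let e : ∀ i : ℤ, (F.truncGE m).X i ≅ F.X i := fun i =>
    ((HomologicalComplex.eval _ _ i).mapIso (asIso (F.πTruncGE m))).symm
  let K := CochainComplex.mappingCone φ
  have hK : P (K.X (m - 1)) := by
    refine prop_bottom_of_acyclic P hst (m - 1) c K
      (fun i => Groth.Agent.Lib.DTwoTerm.exactAt_mappingCone φ i) ?_ ?_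
    · intro i hi
      refine IsZero.of_iso ?_ (homotopyCofiber.XIsoBiprod φ i (i + 1) rfl)
      rw [biprod_isZero_iff]
      rcases hi with hi | hi
      · exact ⟨(E.truncGE m).isZero_of_isStrictlyGE m (i + 1) (by lia),
          (hvanF i (Or.inl (by lia))).of_iso (e i)⟩
      · exact ⟨(hvanE (i + 1) (by lia)).of_iso (E.truncGEXIso m (i + 1) (by lia)),
          (hvanF i (Or.inr hi)).of_iso (e i)⟩
    · intro i hi
      refine P.prop_of_iso ((homotopyCofiber.XIsoBiprod φ i (i + 1) rfl) ≪≫
        biprod.isoProd _ _).symm (hsum _ _ ?_ ?_)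
      · exact P.prop_of_iso (E.truncGEXIso m (i + 1) (by lia)).symm (hE _ (by lia))
      · exact P.prop_of_iso (e i).symm (hF i)
  have h0 : IsZero ((F.truncGE m).X (m - 1)) := (hvanF _ (Or.inl (by lia))).of_iso (e _)
  have : IsIso (biprod.fst : (E.truncGE m).X m ⊞ (F.truncGE m).X (m - 1) ⟶ _) := by
    refine ⟨biprod.inl, ?_, biprod.inl_fst⟩
    apply biprod.hom_ext'
    · simp
    · exact h0.eq_of_src _ _
  exact P.prop_of_iso ((homotopyCofiber.XIsoBiprod φ (m - 1) m (by simp)) ≪≫
    asIso (biprod.fst : (E.truncGE m).X m ⊞ (F.truncGE m).X (m - 1) ⟶ _)) hK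

end General

/-- the cokernel of a map of finite free modules is finite projective as soon as it is flat -/
lemma fp_opcycles (E : CochainComplex (ModuleCat.{u} A) ℤ) (m : ℤ) (h1 : FF A (E.X (m - 1)))
    (h2 : FF A (E.X m)) (hflat : FL A (E.opcycles m)) : FP A (E.opcycles m) := by
  obtain ⟨h11, h12⟩ := h1
  obtain ⟨h21, h22⟩ := h2
  have : Module.Flat A (E.opcycles m) := hflat
  let S : ShortComplex (ModuleCat.{u} A) :=
    ShortComplex.mk (E.d (m - 1) m) (E.pOpcycles m) (E.d_pOpcycles _ _)
  have hS : S.Exact := ShortComplex.exact_of_g_is_cokernel _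
    (E.opcyclesIsCokernel (m - 1) m (by simp))
  have hex : Function.Exact (E.d (m - 1) m).hom (E.pOpcycles m).hom :=
    (ShortComplex.ShortExact.moduleCat_exact_iff_function_exact S).1 hS
  have hsurj : Function.Surjective (E.pOpcycles m).hom :=
    (ModuleCat.epi_iff_surjective _).1 inferInstance
  have hker : (LinearMap.ker (E.pOpcycles m).hom).FG := by
    rw [LinearMap.exact_iff.1 hex, LinearMap.range_eq_map]
    exact Submodule.FG.map _ (Module.finite_def.1 h11)
  have : Module.Projective A (E.X m) := Module.Projective.of_free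
  have : Module.FinitePresentation A (E.X m) := Module.finitePresentation_of_projective A _
  have hfp : Module.FinitePresentation A (E.opcycles m) :=
    Module.finitePresentation_of_surjective (E.pOpcycles m).hom hsurj hker
  exact ⟨Module.Finite.of_surjective _ hsurj, Module.Flat.projective_of_finitePresentation⟩

/-- **Key step of SGA 6 I 5.8.1**: if `g : E ⟶ F` is a quasi-isomorphism from a strictly
`(m-1)`-pseudo-coherent complex (for finite free modules) to a complex of flat modules vanishing
outside `[m, c]`, then `τ_{≥ m} E` is a complex of finite projective modules. -/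
theorem fp_truncGE (m c : ℤ) (hmc : m ≤ c) {E F : CochainComplex (ModuleCat.{u} A) ℤ}
    (g : E ⟶ F) [QuasiIso g] (hE : ∀ i : ℤ, m - 1 ≤ i → FF A (E.X i))
    (hvanE : ∀ i : ℤ, c < i → IsZero (E.X i)) (hF : ∀ i : ℤ, FL A (F.X i))
    (hvanF : ∀ i : ℤ, i < m ∨ c < i → IsZero (F.X i)) (i : ℤ) : FP A ((E.truncGE m).X i) := by
  rcases lt_trichotomy i m with hi | rfl | hi
  · exact (FP A).prop_of_isZero ((E.truncGE m).isZero_of_isStrictlyGE m i hi)
  · have h1 : FL A ((E.truncGE i).X i) :=
      prop_truncGE_bottom (FL A) (fl_prod A) (fl_kernel A) i c hmc g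
        (fun j hj => ff_le_fl A _ (hE j (by lia))) hvanE hF hvanF
    have h2 : FL A (E.opcycles i) := (FL A).prop_of_iso (E.truncGEXIsoOpcycles i) h1
    exact (FP A).prop_of_iso (E.truncGEXIsoOpcycles i).symm
      (fp_opcycles A E i (hE _ (by lia)) (hE _ (by lia)) h2)
  · exact (FP A).prop_of_iso (E.truncGEXIso m i hi).symm (ff_le_fp A _ (hE i (by lia)))

section Main

attribute [local instance] HasDerivedCategory.standard

open Groth.Agent.Lib.PCohAmp DerivedCategory

/-- **SGA 6 I 5.8.1, the nontrivial direction** (ring case): an object of `D(A)` which is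
`(m-1)`-pseudo-coherent and has flat amplitude in `[m, n]` has finite projective amplitude in
`[m, n]`. -/
theorem pa_fp_of_pc_of_flat (K : DerivedCategory (ModuleCat.{u} A)) (m n : ℤ) (hmn : m ≤ n)
    (h1 : ∃ E₀ : CochainComplex (ModuleCat.{u} A) ℤ, PCoh.IsStrictPC (FF A) (m - 1) E₀ ∧
      Nonempty (DerivedCategory.Q.obj E₀ ≅ K))
    (h2 : PA (FL A) m n K) : PA (FP A) m n K := by
  obtain ⟨E₀, hE₀, ⟨e1⟩⟩ := h1
  have hK : ∀ i : ℤ, n < i → IsZero ((DerivedCategory.homologyFunctor (ModuleCat.{u} A) i).obj K) :=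
    fun i hi => isZero_homology_of_pa h2 i (Or.inr hi)
  obtain ⟨F, hF2, hF1, ⟨e2⟩⟩ := h2
  obtain ⟨X', s, hs, g₀, hg₀⟩ := DerivedCategory.right_fac (e1.hom ≫ e2.inv)
  have hs' : QuasiIso s := (DerivedCategory.isIso_Q_map_iff_quasiIso _ s).1 hs
  have hg₀' : QuasiIso g₀ := by
    rw [← DerivedCategory.isIso_Q_map_iff_quasiIso]
    have : DerivedCategory.Q.map g₀ = DerivedCategory.Q.map s ≫ e1.hom ≫ e2.inv := by
      rw [hg₀, IsIso.hom_inv_id_assoc]
    rw [this]
    infer_instance
  obtain ⟨E, v, hE, hv⟩ := Groth.Agent.S5597.result (FF A) (ff_prod A) (fp_quasiStable A)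
    (ff_quasiLiftable A) (m - 1) X' E₀ hE₀ s hs'
  have hvg : QuasiIso (v ≫ g₀) := inferInstance
  obtain ⟨⟨b, hb⟩, hE2⟩ := hE
  have hfp := fp_truncGE A m (max (max b n) m) (le_max_right _ _) (v ≫ g₀) hE2
    (fun i hi => hb i (lt_of_le_of_lt ((le_max_left b n).trans (le_max_left _ m)) hi)) hF2
    (fun i hi => hF1 i (hi.imp id
      (fun h => lt_of_le_of_lt ((le_max_right b n).trans (le_max_left _ m)) h)))
  have hGE : E.IsGE m := by
    rw [CochainComplex.isGE_iff]
    intro i hi
    rw [HomologicalComplex.exactAt_iff_isZero_homology]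
    have h0 : IsZero (F.homology i) :=
      (HomologicalComplex.exactAt_iff_isZero_homology _ _).mp
        (HomologicalComplex.ExactAt.of_isZero (hF1 i (Or.inl hi)))
    exact h0.of_iso (asIso (HomologicalComplex.homologyMap (v ≫ g₀) i))
  have hiso : IsIso (DerivedCategory.Q.map (E.πTruncGE m)) := by
    rw [DerivedCategory.isIso_Q_map_iff_quasiIso]
    infer_instance
  have hv' : IsIso (DerivedCategory.Q.map v) := by
    rw [DerivedCategory.isIso_Q_map_iff_quasiIso]
    exact hv
  have hPA : PA (FP A) m (max (max b n) m) K :=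
    ⟨E.truncGE m, hfp, fun i hi => by
      rcases hi with hi | hi
      · exact (E.truncGE m).isZero_of_isStrictlyGE m i hi
      · exact (hb i (lt_of_le_of_lt ((le_max_left b n).trans (le_max_left _ m)) hi)).of_iso
          (E.truncGEXIso m i (lt_of_le_of_lt (le_max_right _ m) hi)),
      ⟨(asIso (DerivedCategory.Q.map (E.πTruncGE m))).symm ≪≫
        asIso (DerivedCategory.Q.map v) ≪≫ asIso (DerivedCategory.Q.map s) ≪≫ e1⟩⟩
  exact pa_mono (le_refl m) (min_le_left n _) (pa_trunc (fp_kernel A) hmn hPA hK)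

end Main

end Groth.Agent.Lib.DRingPerfAmp
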