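import Groth.Agent.Lib.KoszulPerfect
import Groth.Agent.Lib.DPerfBasic
import Groth.Agent.S6960
import Mathlib.RingTheory.TensorProduct.Quotient

/-!
# Local complete intersection ring maps are perfect

Namespace `Groth.Agent.Lib.LCIPerfect`.

* `isPerfectModule_quotient_of_isKoszulRegularIdeal` : `P/I` is a perfect `P`-module for a
  Koszul-regular ideal `I`.
* `isPerfectHom_of_isLCI`.
-/

set_option autoImplicit false
universe u
open CategoryTheory CategoryTheory.Limits TensorProduct
attribute [local instance] HasDerivedCategory.standard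

namespace Groth.Agent.Lib.LCIPerfect

open Groth.Agent.Lib.TorDimHom Groth.Agent.Lib.FlatBaseChangeD Groth.Agent.Lib.KoszulPerfect

variable {P : Type u} [CommRing P]

lemma isPerfectModule_of_linearEquiv {M M' : Type u} [AddCommGroup M] [Module P M]
    [AddCommGroup M'] [Module P M'] (e : M ≃ₗ[P] M') (h : DRing.IsPerfectModule P M) :
    DRing.IsPerfectModule P M' :=
  Groth.Agent.Lib.DPerf.isPerfect_of_iso P
    ((DerivedCategory.singleFunctor (ModuleCat.{u} P) 0).mapIso e.toModuleIso) h

lemma isPerfectModule_of_subsingleton (M : Type u) [AddCommGroup M] [Module P M]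
    [Subsingleton M] : DRing.IsPerfectModule P M :=
  Groth.Agent.Lib.DPerf.isPerfect_of_isZero P
    ((DerivedCategory.singleFunctor (ModuleCat.{u} P) 0).map_isZero
      (ModuleCat.isZero_of_subsingleton (ModuleCat.of P M)))

/-- the quotient by a Koszul-regular ideal is a perfect module -/
theorem isPerfectModule_quotient_of_isKoszulRegularIdeal (I : Ideal P)
    (hI : LCI.IsKoszulRegularIdeal I) : DRing.IsPerfectModule P (P ⧸ I) := by
  -- the good elements
  let S : Set P := {g | DRing.IsPerfectModule (Localization.Away g)
    (Localization.Away g ⧸ I.map (algebraMap P (Localization.Away g)))}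
  have hS : Ideal.span S = ⊤ := by
    by_contra hne
    obtain ⟨m, hm, hle⟩ := Ideal.exists_le_maximal _ hne
    have hmp : m.IsPrime := hm.isPrime
    by_cases hIm : I ≤ m
    · obtain ⟨g, hg, l, hl, hIl⟩ := hI ⟨m, hmp⟩ hIm
      refine hg (hle (Ideal.subset_span ?_))
      show DRing.IsPerfectModule (Localization.Away g)
        (Localization.Away g ⧸ I.map (algebraMap P (Localization.Away g)))
      rw [hIl]
      exact isPerfectModule_of_isKoszulRegularSeq l hl
    · obtain ⟨g, hgI, hgm⟩ := SetLike.not_le_iff_exists.1 hIm
      refine hgm (hle (Ideal.subset_span ?_))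
      show DRing.IsPerfectModule (Localization.Away g)
        (Localization.Away g ⧸ I.map (algebraMap P (Localization.Away g)))
      have htop : I.map (algebraMap P (Localization.Away g)) = ⊤ :=
        Ideal.eq_top_of_isUnit_mem _ (Ideal.mem_map_of_mem _ hgI)
          (IsLocalization.Away.algebraMap_isUnit g)
      have : Subsingleton (Localization.Away g ⧸ I.map (algebraMap P (Localization.Away g))) := by
        rw [htop]
        exact Ideal.Quotient.subsingleton_iff.2 rfl
      exact isPerfectModule_of_subsingleton _
  obtain ⟨s, hsS, hs⟩ := (Ideal.span_eq_top_iff_finite S).1 hS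
  let f : Fin s.card → P := fun i => (s.equivFin.symm i : P)
  have hf : Ideal.span (Set.range f) = ⊤ := by
    have : Set.range f = (s : Set P) := by
      ext x
      constructor
      · rintro ⟨i, rfl⟩
        exact (s.equivFin.symm i).2
      · intro hx
        exact ⟨s.equivFin ⟨x, hx⟩, by simp [f]⟩
    rw [this, hs]
  refine Groth.Agent.Lib.DPerf.isPerfect_of_iso P (toDsCxMIso P (P ⧸ I))
    (Groth.Agent.S6960.result f hf (sCxM P (P ⧸ I)) (fun i => ?_))
  have hgood : DRing.IsPerfectModule (Localization.Away (f i))
      (Localization.Away (f i) ⧸ I.map (algebraMap P (Localization.Away (f i)))) :=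
    hsS (s.equivFin.symm i).2
  have h2 : DRing.IsPerfectModule (Localization.Away (f i))
      (Localization.Away (f i) ⊗[P] (P ⧸ I)) :=
    isPerfectModule_of_linearEquiv
      (Algebra.TensorProduct.quotIdealMapEquivTensorQuot (Localization.Away (f i))
        I).toLinearEquiv hgood
  exact Groth.Agent.Lib.DPerf.isPerfect_of_iso _
    (bcsCxMIso (A := P) (Localization.Away (f i)) (P ⧸ I)).symm h2

variable {A B : Type u} [CommRing A] [CommRing B] [Algebra A B]

/-- a local complete intersection ring map is perfect -/
theorem isPerfectHom_of_isLCI (h : LCI.IsLCI A B) : MoreMor.IsPerfectHom A B := by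
  obtain ⟨-, n, f, hf, hI⟩ := h
  refine Groth.Agent.Lib.PerfHomPresentation.isPerfectHom_of_perfect_presentation f hf ?_
  let i1 : Algebra (MvPolynomial (Fin n) A) B := f.toRingHom.toAlgebra
  have h1 := isPerfectModule_quotient_of_isKoszulRegularIdeal _ hI
  have hsurj : Function.Surjective (Algebra.linearMap (MvPolynomial (Fin n) A) B) := hf
  let e0 : (MvPolynomial (Fin n) A ⧸ RingHom.ker f.toRingHom) ≃ₗ[MvPolynomial (Fin n) A] B :=
    Submodule.quotEquivOfEq (RingHom.ker f.toRingHom)
      (LinearMap.ker (Algebra.linearMap (MvPolynomial (Fin n) A) B)) (by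
        ext x
        rfl) ≪≫ₗ
      LinearMap.quotKerEquivOfSurjective (Algebra.linearMap (MvPolynomial (Fin n) A) B) hsurj
  exact isPerfectModule_of_linearEquiv e0 h1

end Groth.Agent.Lib.LCIPerfect
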