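import Groth.Agent.Lib.TorDimHomLocal

/-!
# Perfect ring maps form a local property; perfect morphisms of schemes

Namespace `Groth.Agent.Lib.PerfHomLocal`.

* `PerfHom φ := PCHom φ ∧ FTD φ` (`MoreMor.IsPerfectHom` for `φ.toAlgebra`), `perfHom_isLocal`.
* `isPerfectMor_iff : MoreMor.IsPerfectMor f ↔ affineLocally PerfHom f`.
* `isPerfectMor_iff_exists`, `isPerfectMor_comp`, `isPerfectMor_flat_baseChange`,
  `isPerfectMor_of_flat_surjective_qc_baseChange`.
* generic helpers `flat_baseChange_of_isPushout`, `descendsAlong_flat_of_flat_baseChange`.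
-/

set_option autoImplicit false
universe u
open CategoryTheory CategoryTheory.Limits TensorProduct
attribute [local instance] HasDerivedCategory.standard

namespace Groth.Agent.Lib.PerfHomLocal

open Groth.Agent.Lib.TorDimHom Groth.Agent.Lib.TorDimHomLocal Groth.Agent.Lib.PCohHomLocal
  Groth.Agent.Lib.PCohHomBaseChange Groth.Agent.Lib.PCohHomDescent

/-- the ring hom `φ` is perfect -/
def PerfHom {R S : Type u} [CommRing R] [CommRing S] (φ : R →+* S) : Prop :=
  PCHom φ ∧ FTD φ

section Ring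

theorem perfHom_isLocal : RingHom.PropertyIsLocal @PerfHom :=
  pcHom_isLocal.and ftd_isLocal

lemma perfHom_stableUnderComposition : RingHom.StableUnderComposition @PerfHom :=
  fun _ _ _ _ _ _ f g hf hg =>
    ⟨pcHom_stableUnderComposition f g hf.1 hg.1, ftd_stableUnderComposition f g hf.2 hg.2⟩

lemma perfHom_stableUnderCompositionWithLocalizationAwaySource :
    RingHom.StableUnderCompositionWithLocalizationAwaySource @PerfHom := by
  intro R S T _ _ _ _ r _ f hf
  exact ⟨pcHom_stableUnderCompositionWithLocalizationAway.1 S r f hf.1,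
    ftd_stableUnderCompositionWithLocalizationAway.1 S r f hf.2⟩

/-- flat base change of finite tor dimension, for a pushout square of commutative rings -/
theorem ftd_of_isPushout {R S R' S' : CommRingCat.{u}} {f : R ⟶ S} {g : R ⟶ R'}
    {inl : S ⟶ S'} {inr : R' ⟶ S'} (h : IsPushout f g inl inr) (hf : FTD f.hom)
    (hg : g.hom.Flat) : FTD inr.hom := by
  let i1 : Algebra R S := f.hom.toAlgebra
  let i2 : Algebra R R' := g.hom.toAlgebra
  let i3 : Algebra S S' := inl.hom.toAlgebra
  let i4 : Algebra R' S' := inr.hom.toAlgebra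
  let i5 : Algebra R S' := (f ≫ inl).hom.toAlgebra
  have t1 : IsScalarTower R S S' := IsScalarTower.of_algebraMap_eq' rfl
  have t2 : IsScalarTower R R' S' :=
    IsScalarTower.of_algebraMap_eq' (congr_arg CommRingCat.Hom.hom h.w)
  have hpo : Algebra.IsPushout R S R' S' :=
    (CommRingCat.isPushout_iff_isPushout (R := R) (S := R') (R' := S) (S' := S')).1 h
  have hfl : Module.Flat R R' := hg
  obtain ⟨d, hd⟩ := hf
  exact ⟨d, hasTorDimLE_flat_baseChange (A := R) (B := S) (A' := R') (B' := S') d hd⟩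

theorem perfHom_of_isPushout {R S R' S' : CommRingCat.{u}} {f : R ⟶ S} {g : R ⟶ R'}
    {inl : S ⟶ S'} {inr : R' ⟶ S'} (h : IsPushout f g inl inr) (hf : PerfHom f.hom)
    (hg : g.hom.Flat) : PerfHom inr.hom :=
  ⟨pcHom_of_isPushout h hf.1 hg, ftd_of_isPushout h hf.2 hg⟩

theorem ftd_codescendsAlong_faithfullyFlat :
    RingHom.CodescendsAlong @FTD RingHom.FaithfullyFlat := by
  intro R S R' S' _ _ _ _ _ _ _ _ _ _ _ _ hQ H
  rw [ftd_algebraMap_iff] at H ⊢
  have : Module.FaithfullyFlat R R' := RingHom.faithfullyFlat_algebraMap_iff.1 hQ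
  obtain ⟨d, hd⟩ := H
  exact ⟨d, hasTorDimLE_of_faithfullyFlat_baseChange (A := R) (A' := R') (B := S) (B' := S')
    d hd⟩

theorem perfHom_codescendsAlong_faithfullyFlat :
    RingHom.CodescendsAlong @PerfHom RingHom.FaithfullyFlat :=
  pcHom_codescendsAlong_faithfullyFlat.and ftd_codescendsAlong_faithfullyFlat

end Ring

section Generic

open AlgebraicGeometry TopologicalSpace MorphismProperty

variable (P : MorphismProperty Scheme.{u})
  (Q : ∀ {R S : Type u} [CommRing R] [CommRing S], (R →+* S) → Prop) [HasRingHomProperty P Q]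

/-- a property of morphisms induced by a ring hom property which is stable under flat base
change (for pushout squares of rings) is stable under flat base change -/
theorem flat_baseChange_of_isPushout
    (hQs : RingHom.StableUnderCompositionWithLocalizationAwaySource Q)
    (hQ : ∀ {R S R' S' : CommRingCat.{u}} {f : R ⟶ S} {g : R ⟶ R'} {inl : S ⟶ S'}
      {inr : R' ⟶ S'}, IsPushout f g inl inr → Q f.hom → g.hom.Flat → Q inr.hom)
    {X S X' S' : Scheme.{u}} (f : X ⟶ S) (f' : X' ⟶ S')
    (g' : X' ⟶ X) (g : S' ⟶ S) [Flat g] (hc : IsPullback g' f' f g) (hf : P f) : P f' := by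
  rw [HasRingHomProperty.iff_exists_appLE (P := P) hQs]
  intro x'
  obtain ⟨US, hUS, hxS, -⟩ := Opens.isBasis_iff_nbhd.mp S.isBasis_affineOpens
    (Opens.mem_top (f (g' x')))
  obtain ⟨UX, hUX, hxX, hUSX⟩ := Opens.isBasis_iff_nbhd.mp X.isBasis_affineOpens
    (show g' x' ∈ f ⁻¹ᵁ US from hxS)
  have hw : g (f' x') = f (g' x') := by
    rw [← Scheme.Hom.comp_apply, ← Scheme.Hom.comp_apply, hc.w]
  obtain ⟨UT, hUT, hxT, hUST⟩ := Opens.isBasis_iff_nbhd.mp S'.isBasis_affineOpens
    (show f' x' ∈ g ⁻¹ᵁ US from by show g (f' x') ∈ US; rw [hw]; exact hxS)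
  have a1 : IsAffine (Scheme.Opens.toScheme US) := hUS
  have a2 : IsAffine (Scheme.Opens.toScheme UT) := hUT
  have a3 : IsAffine (Scheme.Opens.toScheme UX) := hUX
  have hUY : IsAffineOpen (g' ⁻¹ᵁ UX ⊓ f' ⁻¹ᵁ UT) :=
    .of_isIso (Scheme.Hom.isPullback_resLE hc hUST hUSX rfl).isoPullback.hom
  refine ⟨⟨UT, hUT⟩, ⟨g' ⁻¹ᵁ UX ⊓ f' ⁻¹ᵁ UT, hUY⟩, ⟨hxX, hxT⟩, inf_le_right, ?_⟩
  have hiso := isIso_pushoutSection_of_isAffineOpen hc hUST hUSX rfl hUS hUT hUX
  have hpo := (isIso_pushoutSection_iff hc hUST hUSX rfl).1 hiso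
  have hflat : (g.appLE US UT hUST).hom.Flat :=
    HasRingHomProperty.appLE (P := @Flat) g inferInstance ⟨US, hUS⟩ ⟨UT, hUT⟩ hUST
  have hpc : Q (f.appLE US UX hUSX).hom :=
    HasRingHomProperty.appLE P f hf ⟨US, hUS⟩ ⟨UX, hUX⟩ hUSX
  exact hQ hpo hpc hflat

set_option backward.isDefEq.respectTransparency.types false in
/-- fpqc descent for a property of morphisms induced by a ring hom property which is stable under
flat base change and codescends along faithfully flat ring maps -/
theorem descendsAlong_flat_of_flat_baseChange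
    (hbc : ∀ {X S X' S' : Scheme.{u}} (f : X ⟶ S) (f' : X' ⟶ S') (g' : X' ⟶ X) (g : S' ⟶ S)
      [Flat g], IsPullback g' f' f g → P f → P f')
    (hcod : RingHom.CodescendsAlong Q RingHom.FaithfullyFlat) :
    P.DescendsAlong (@Surjective ⊓ @Flat ⊓ @QuasiCompact) := by
  refine descendsAlong' P (@Surjective ⊓ @Flat) Q RingHom.FaithfullyFlat ?_ ?_ ?_ hcod
  · intro X Y Z T f g p hp h
    have hle : (@IsLocalIso : MorphismProperty Scheme.{u}) ≤ @Flat :=
      IsLocalIso.le_of_isZariskiLocalAtSource @Flat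
    have : Flat p := hle _ _ p hp
    rw [← pullbackRightPullbackFstIso_inv_fst f g p, P.cancel_left_of_respectsIso]
    exact hbc (pullback.fst f g) (pullback.fst p (pullback.fst f g))
      (pullback.snd p (pullback.fst f g)) p (IsPullback.of_hasPullback _ _).flip h
  · rw [inf_comm]
    gcongr
    exact IsLocalIso.le_of_isZariskiLocalAtSource @Flat
  · intro R S f ⟨hf₁, hf₂⟩
    rw [RingHom.FaithfullyFlat.iff_flat_and_comap_surjective]
    refine ⟨?_, (Spec.map f).surjective⟩
    rwa [HasRingHomProperty.Spec_iff (P := @Flat)] at hf₂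

end Generic

section Scheme

open AlgebraicGeometry MorphismProperty

instance : HasRingHomProperty (affineLocally @PerfHom) @PerfHom where
  isLocal_ringHomProperty := perfHom_isLocal
  eq_affineLocally' := rfl

/-- `MoreMor.IsPerfectMor` is the morphism property attached to `PerfHom` -/
lemma isPerfectMor_iff {X Y : Scheme.{u}} (f : X ⟶ Y) :
    MoreMor.IsPerfectMor f ↔ affineLocally @PerfHom f := by
  rw [HasRingHomProperty.iff_appLE (P := affineLocally @PerfHom)]
  constructor
  · intro h V U e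
    exact h U.1 V.1 U.2 V.2 e
  · intro h U V hU hV e
    exact h ⟨V, hV⟩ ⟨U, hU⟩ e

lemma isPerfectMor_iff_exists {X Y : Scheme.{u}} (f : X ⟶ Y) :
    MoreMor.IsPerfectMor f ↔
      ∀ x : X, ∃ (U : Y.affineOpens) (V : X.affineOpens) (_ : x ∈ V.1) (e : V.1 ≤ f ⁻¹ᵁ U.1),
        PerfHom (f.appLE U V e).hom := by
  rw [isPerfectMor_iff]
  exact HasRingHomProperty.iff_exists_appLE (P := affineLocally @PerfHom)
    perfHom_stableUnderCompositionWithLocalizationAwaySource

lemma isPerfectMor_comp {X Y Z : Scheme.{u}} (f : X ⟶ Y) (g : Y ⟶ Z)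
    (hf : MoreMor.IsPerfectMor f) (hg : MoreMor.IsPerfectMor g) :
    MoreMor.IsPerfectMor (f ≫ g) := by
  rw [isPerfectMor_iff] at hf hg ⊢
  exact (HasRingHomProperty.stableUnderComposition (P := affineLocally @PerfHom)
    perfHom_stableUnderComposition).comp_mem f g hf hg

theorem isPerfectMor_flat_baseChange {X S X' S' : Scheme.{u}} (f : X ⟶ S) (f' : X' ⟶ S')
    (g' : X' ⟶ X) (g : S' ⟶ S) [Flat g] (hc : IsPullback g' f' f g)
    (hf : MoreMor.IsPerfectMor f) : MoreMor.IsPerfectMor f' := by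
  rw [isPerfectMor_iff] at hf ⊢
  exact flat_baseChange_of_isPushout (affineLocally @PerfHom.{u}) @PerfHom.{u}
    perfHom_stableUnderCompositionWithLocalizationAwaySource
    (fun h hf hg => perfHom_of_isPushout h hf hg) f f' g' g hc hf

theorem isPerfectMor_of_flat_surjective_qc_baseChange {X S X' S' : Scheme.{u}}
    (f : X ⟶ S) (f' : X' ⟶ S') (g' : X' ⟶ X) (g : S' ⟶ S) [Flat g] [Surjective g]
    [QuasiCompact g] (hc : IsPullback g' f' f g) (hf' : MoreMor.IsPerfectMor f') :
    MoreMor.IsPerfectMor f := by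
  rw [isPerfectMor_iff] at hf' ⊢
  have := descendsAlong_flat_of_flat_baseChange (affineLocally @PerfHom.{u}) @PerfHom.{u}
    (fun f f' g' g _ hc hf => by
      rw [← isPerfectMor_iff] at hf ⊢
      exact isPerfectMor_flat_baseChange f f' g' g hc hf)
    perfHom_codescendsAlong_faithfullyFlat
  exact MorphismProperty.of_isPullback_of_descendsAlong
    (Q := (@Surjective ⊓ @Flat ⊓ @QuasiCompact : MorphismProperty Scheme.{u})) hc.flip
    ⟨⟨inferInstance, inferInstance⟩, inferInstance⟩ hf'

end Scheme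

end Groth.Agent.Lib.PerfHomLocal
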