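import Groth.Agent.Lib.SecSmooth
import Groth.Agent.Lib.LCIPerfect
import Groth.Agent.Lib.KoszulPerfect
import Groth.Agent.Lib.PerfHomLocal
import Mathlib.AlgebraicGeometry.Morphisms.Smooth

/-!
# Sections of smooth morphisms are perfect; cancellation of smooth morphisms for perfect morphisms

Namespace `Groth.Agent.Lib.SecSmoothSch` (helper32, keystone SecSmooth).

* `perfHom_of_surjective_of_isKoszulRegularIdeal`, `perfHom_retraction_of_smooth` (ring level).
* `exists_section_chart` : compatible affine charts `V ∋ x`, `U ∋ s x` with `p(U) ⊆ V`, `s(V) ⊆ U` for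
  a section `s` of `p`; `appLE_comp_section`.
* `isPerfectMor_of_section_of_smooth` : a section of a smooth morphism is a perfect morphism.
* `isPerfectMor_of_comp_of_smooth` : `g` smooth, `f ≫ g` perfect ⟹ `f` perfect (graph trick).
-/

set_option autoImplicit false
universe u
open CategoryTheory CategoryTheory.Limits
attribute [local instance] HasDerivedCategory.standard

namespace Groth.Agent.Lib.SecSmoothSch

open Groth.Agent.Lib.PerfHomLocal Groth.Agent.Lib.PCohHomLocal Groth.Agent.Lib.TorDimHomLocal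
  Groth.Agent.Lib.SecSmooth

section Ring

/-- a surjective ring map with Koszul-regular kernel is perfect -/
theorem perfHom_of_surjective_of_isKoszulRegularIdeal {A B : Type u} [CommRing A] [CommRing B]
    (φ : A →+* B) (hφ : Function.Surjective φ) (hk : LCI.IsKoszulRegularIdeal (RingHom.ker φ)) :
    PerfHom φ := by
  have h1 : PerfHom (Ideal.Quotient.mk (RingHom.ker φ)) := by
    obtain ⟨hpc, a, b, hab⟩ := (Groth.Agent.S6954.result A _).1
      (Groth.Agent.Lib.LCIPerfect.isPerfectModule_quotient_of_isKoszulRegularIdeal _ hk)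
    have h : MoreMor.IsPerfectHom A (A ⧸ RingHom.ker φ) :=
      ⟨Groth.Agent.Lib.PCohHomLocal.pcHom_iff_module_of_finite.2 hpc,
        Groth.Agent.Lib.PerfHomPresentation.hasFiniteTorDim_of_hasTorAmplitudeIn _ a b hab⟩
    exact ⟨pcHom_algebraMap_iff.2 h.1, ftd_algebraMap_iff.2 h.2⟩
  have h2 := perfHom_isLocal.respectsIso.1 _ (RingHom.quotientKerEquivOfSurjective hφ) h1
  have e : (RingHom.quotientKerEquivOfSurjective hφ).toRingHom.comp
      (Ideal.Quotient.mk (RingHom.ker φ)) = φ := by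
    ext x
    simp
  rwa [e] at h2

/-- a retraction of a smooth algebra is a perfect ring map -/
theorem perfHom_retraction_of_smooth {C B : Type u} [CommRing C] [CommRing B] [Algebra C B]
    [Algebra.Smooth C B] (σ : B →ₐ[C] C) : PerfHom σ.toRingHom := by
  refine perfHom_of_surjective_of_isKoszulRegularIdeal _ ?_ (isKoszulRegularIdeal_ker_of_smooth σ)
  intro c
  exact ⟨algebraMap C B c, σ.commutes c⟩

end Ring

end Groth.Agent.Lib.SecSmoothSch

namespace Groth.Agent.Lib.SecSmoothSch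

open AlgebraicGeometry TopologicalSpace

section Chart

/-- compatible affine charts around a point of a section -/
theorem exists_section_chart {P X : Scheme.{u}} (p : P ⟶ X) (s : X ⟶ P) (hs : s ≫ p = 𝟙 X)
    (x : X) : ∃ (V : X.affineOpens) (U : P.affineOpens), x ∈ V.1 ∧ U.1 ≤ p ⁻¹ᵁ V.1 ∧
      V.1 ≤ s ⁻¹ᵁ U.1 := by
  -- an affine neighbourhood of `x`
  obtain ⟨V₀, hV₀, hxV₀, -⟩ :=
    Opens.isBasis_iff_nbhd.mp X.isBasis_affineOpens (show x ∈ (⊤ : X.Opens) from trivial)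
  -- an affine neighbourhood of `s x` inside `p⁻¹ V₀`
  have hsx : s x ∈ p ⁻¹ᵁ V₀ := by
    show p (s x) ∈ V₀
    have : p (s x) = x := by
      rw [← Scheme.Hom.comp_apply, hs]
      rfl
    rwa [this]
  obtain ⟨U₀, hU₀, hsxU₀, hU₀le⟩ := Opens.isBasis_iff_nbhd.mp P.isBasis_affineOpens hsx
  -- a basic open of `V₀` inside `s⁻¹ U₀`
  have hxW : x ∈ s ⁻¹ᵁ U₀ ⊓ V₀ := ⟨hsxU₀, hxV₀⟩
  obtain ⟨c, hcle, hxc⟩ := hV₀.exists_basicOpen_le ⟨x, hxW⟩ hxV₀
  have hbo : P.basicOpen (p.appLE V₀ U₀ hU₀le c) = U₀ ⊓ p ⁻¹ᵁ X.basicOpen c := by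
    rw [Scheme.preimage_basicOpen, Scheme.Hom.appLE, CommRingCat.comp_apply,
      Scheme.basicOpen_res]
  refine ⟨⟨X.basicOpen c, hV₀.basicOpen c⟩, ⟨P.basicOpen (p.appLE V₀ U₀ hU₀le c),
    hU₀.basicOpen _⟩, hxc, ?_, ?_⟩
  · show P.basicOpen (p.appLE V₀ U₀ hU₀le c) ≤ p ⁻¹ᵁ X.basicOpen c
    rw [hbo]
    exact inf_le_right
  · show X.basicOpen c ≤ s ⁻¹ᵁ P.basicOpen (p.appLE V₀ U₀ hU₀le c)
    rw [hbo]
    intro y hy
    refine ⟨(hcle hy).1, ?_⟩
    show p (s y) ∈ X.basicOpen c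
    have : p (s y) = y := by
      rw [← Scheme.Hom.comp_apply, hs]
      rfl
    rwa [this]

end Chart

end Groth.Agent.Lib.SecSmoothSch

namespace Groth.Agent.Lib.SecSmoothSch

open AlgebraicGeometry TopologicalSpace Groth.Agent.Lib.PerfHomLocal

section Sch

lemma appLE_eq_id {X : Scheme.{u}} (q : X ⟶ X) (hq : q = 𝟙 X) (V : X.Opens) (e : V ≤ q ⁻¹ᵁ V) :
    q.appLE V V e = 𝟙 _ := by
  subst hq
  simp only [Scheme.Hom.appLE, Scheme.Hom.id_app]
  exact X.presheaf.map_id _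

/-- the ring-level data attached to a chart of a section -/
theorem appLE_comp_section {P X : Scheme.{u}} (p : P ⟶ X) (s : X ⟶ P) (hs : s ≫ p = 𝟙 X)
    (V : X.Opens) (U : P.Opens) (e₁ : U ≤ p ⁻¹ᵁ V) (e₂ : V ≤ s ⁻¹ᵁ U) :
    p.appLE V U e₁ ≫ s.appLE U V e₂ = 𝟙 _ := by
  rw [Scheme.Hom.appLE_comp_appLE]
  exact appLE_eq_id _ hs _ _

/-- a section of a smooth morphism is perfect -/
theorem isPerfectMor_of_section_of_smooth {P X : Scheme.{u}} (p : P ⟶ X) [Smooth p] (s : X ⟶ P)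
    (hs : s ≫ p = 𝟙 X) : MoreMor.IsPerfectMor s := by
  rw [isPerfectMor_iff_exists]
  intro x
  obtain ⟨V, U, hxV, e₁, e₂⟩ := exists_section_chart p s hs x
  refine ⟨U, V, hxV, e₂, ?_⟩
  have hsm : (p.appLE V.1 U.1 e₁).hom.Smooth :=
    HasRingHomProperty.appLE (P := @Smooth) p inferInstance V U e₁
  let _ : Algebra Γ(X, V.1) Γ(P, U.1) := (p.appLE V.1 U.1 e₁).hom.toAlgebra
  have : Algebra.Smooth Γ(X, V.1) Γ(P, U.1) := hsm
  let σ : Γ(P, U.1) →ₐ[Γ(X, V.1)] Γ(X, V.1) :=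
    { toRingHom := (s.appLE U.1 V.1 e₂).hom
      commutes' := fun c => by
        have := appLE_comp_section p s hs V.1 U.1 e₁ e₂
        exact congrArg (fun φ => φ.hom c) this }
  exact perfHom_retraction_of_smooth σ

end Sch

end Groth.Agent.Lib.SecSmoothSch

namespace Groth.Agent.Lib.SecSmoothSch

open AlgebraicGeometry Groth.Agent.Lib.PerfHomLocal

/-- `g` smooth and `f ≫ g` perfect imply `f` perfect -/
theorem isPerfectMor_of_comp_of_smooth {X Y S : Scheme.{u}} (f : X ⟶ Y) (g : Y ⟶ S) [Smooth g]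
    (h : MoreMor.IsPerfectMor (f ≫ g)) : MoreMor.IsPerfectMor f := by
  let Γ : X ⟶ pullback (f ≫ g) g := pullback.lift (𝟙 X) f (by simp)
  have hΓ : Γ ≫ pullback.fst (f ≫ g) g = 𝟙 X := pullback.lift_fst _ _ _
  have h1 : MoreMor.IsPerfectMor Γ :=
    isPerfectMor_of_section_of_smooth (pullback.fst (f ≫ g) g) Γ hΓ
  have h2 : MoreMor.IsPerfectMor (pullback.snd (f ≫ g) g) :=
    isPerfectMor_flat_baseChange (f ≫ g) (pullback.snd (f ≫ g) g) (pullback.fst (f ≫ g) g) g
      (IsPullback.of_hasPullback (f ≫ g) g) h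
  have h3 := isPerfectMor_comp Γ (pullback.snd (f ≫ g) g) h1 h2
  have e : Γ ≫ pullback.snd (f ≫ g) g = f := pullback.lift_snd _ _ _
  rwa [e] at h3

end Groth.Agent.Lib.SecSmoothSch
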