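import Groth.Agent.Lib.KoszulImmPerfect
import Groth.Agent.Lib.KoszulIdeal
import Groth.Agent.Lib.RegSpreadGeom
import Groth.Agent.Lib.IdealComap
import Groth.Agent.Lib.SecSmoothSch
import Groth.Agent.S15821
import Groth.Agent.S1676

/-!
# Koszul-regular immersions on schemes (helper32)

Namespace `Groth.Agent.Lib.KRegImm`.

* `KChart i U d` : `U` is an affine open of the target over which `i` is a closed immersion whose
  ideal is generated by a Koszul-regular sequence of length `d`.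
* `isRegularImmersionAt_koszul_iff`, `isRegularImmersionOfCodim_koszul_iff` : the prelude notions in
  terms of charts.
* `KChart.basicOpen` : charts restrict to basic opens.
* `exists_kr_comp` (ring level), `KChart.comp`, `exists_kchart_comp` : composition.
* `KChart.baseChange` : flat base change.
* `exists_kchart_section` : a section of a smooth morphism has charts everywhere.
-/

set_option autoImplicit false
universe u
open CategoryTheory CategoryTheory.Limits AlgebraicGeometry TopologicalSpace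

namespace Groth.Agent.Lib.KRegImm

open Groth.Agent.Lib.KoszulQuot Groth.Agent.Lib.KoszulIdeal Groth.Agent.Lib.KoszulImmPerfect

section Ring

/-- ring-level composition: a surjection with Koszul-regular kernel followed by a map with
Koszul-regular kernel has Koszul-regular kernel -/
theorem exists_kr_comp {R R' R'' : Type u} [CommRing R] [CommRing R'] [CommRing R'']
    (π : R →+* R') (hπ : Function.Surjective π) (f : List R) (hker : RingHom.ker π = Ideal.ofList f)
    (hf : LCI.IsKoszulRegularSeq R f) (ψ : R' →+* R'') (g : List R')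
    (hg : LCI.IsKoszulRegularSeq R' g) (hkerψ : RingHom.ker ψ = Ideal.ofList g) :
    ∃ rs : List R, rs.length = g.length + f.length ∧ LCI.IsKoszulRegularSeq R rs ∧
      RingHom.ker (ψ.comp π) = Ideal.ofList rs := by
  have hmap : (g.map (Function.surjInv hπ)).map π = g := by
    rw [List.map_map]
    conv_rhs => rw [← List.map_id g]
    refine List.map_congr_left fun a _ => ?_
    exact Function.surjInv_eq hπ a
  refine ⟨g.map (Function.surjInv hπ) ++ f, by simp, ?_, ?_⟩
  · rw [isKoszulRegularSeq_append_iff π hπ f hker hf, hmap]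
    exact hg
  · rw [← RingHom.comap_ker, hkerψ, Ideal.ofList_append, ← hker]
    conv_lhs => rw [← hmap, ← Ideal.map_ofList]
    rw [Ideal.comap_map_of_surjective π hπ]
    rfl

end Ring

variable {Z X : Scheme.{u}}

/-- A Koszul chart of length `d` for `i` over the open `U`. -/
def KChart (i : Z ⟶ X) (U : X.Opens) (d : ℕ) : Prop :=
  IsAffineOpen U ∧ IsClosedImmersion (i ∣_ U) ∧
    ∃ rs : List Γ(X, U), rs.length = d ∧ LCI.IsKoszulRegularSeq Γ(X, U) rs ∧
      RingHom.ker (i.app U).hom = Ideal.ofList rs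

theorem isRegularImmersionAt_koszul_iff (i : Z ⟶ X) (z : Z) :
    RegImm.IsRegularImmersionAt .koszul i z ↔ ∃ (U : X.Opens) (d : ℕ), i z ∈ U ∧ KChart i U d := by
  constructor
  · rintro ⟨U, hz, hcl, rs, hrs, hker⟩
    exact ⟨U.1, rs.length, hz, U.2, hcl, rs, rfl, hrs, hker⟩
  · rintro ⟨U, d, hz, hU, hcl, rs, -, hrs, hker⟩
    exact ⟨⟨U, hU⟩, hz, hcl, rs, hrs, hker⟩

theorem isRegularImmersion_koszul_iff (i : Z ⟶ X) :
    RegImm.IsRegularImmersion .koszul i ↔
      IsImmersion i ∧ ∀ z : Z, ∃ (U : X.Opens) (d : ℕ), i z ∈ U ∧ KChart i U d := by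
  unfold RegImm.IsRegularImmersion
  simp only [isRegularImmersionAt_koszul_iff]

theorem isRegularImmersionOfCodim_koszul_iff (i : Z ⟶ X) (d : ℕ) :
    RegImm.IsRegularImmersionOfCodim .koszul d i ↔
      IsImmersion i ∧ ∀ z : Z, ∃ U : X.Opens, i z ∈ U ∧ KChart i U d := by
  unfold RegImm.IsRegularImmersionOfCodim
  refine and_congr Iff.rfl (forall_congr' fun z => ?_)
  constructor
  · rintro ⟨U, hz, hcl, rs, hlen, hrs, hker⟩
    exact ⟨U.1, hz, U.2, hcl, rs, hlen, hrs, hker⟩
  · rintro ⟨U, hz, hU, hcl, rs, hlen, hrs, hker⟩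
    exact ⟨⟨U, hU⟩, hz, hcl, rs, hlen, hrs, hker⟩

/-- charts restrict to basic opens -/
theorem KChart.basicOpen {i : Z ⟶ X} {U : X.Opens} {d : ℕ} (h : KChart i U d) (g : Γ(X, U)) :
    KChart i (X.basicOpen g) d := by
  obtain ⟨hU, hcl, rs, hlen, hrs, hker⟩ := h
  have hcl' : IsClosedImmersion (i ∣_ (⟨U, hU⟩ : X.affineOpens).1) := hcl
  refine ⟨hU.basicOpen g, ?_, ?_⟩
  · exact Groth.Agent.Lib.RegSpreadGeom.isClosedImmersion_restrict_basicOpen i ⟨U, hU⟩ g
  · have hloc : IsLocalization.Away g Γ(X, X.basicOpen g) := hU.isLocalization_basicOpen g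
    have hflat : Module.Flat Γ(X, U) Γ(X, X.basicOpen g) :=
      IsLocalization.flat _ (Submonoid.powers g)
    refine ⟨rs.map (algebraMap Γ(X, U) Γ(X, X.basicOpen g)), by simpa using hlen,
      isKoszulRegularSeq_map_of_flat rs hrs, ?_⟩
    have := Groth.Agent.Lib.RegSpreadGeom.ker_app_basicOpen i ⟨U, hU⟩ g
    rw [this, hker, Ideal.map_ofList]
    rfl

section Comp

variable {Y : Scheme.{u}}

/-- composition of charts over the same open -/
theorem KChart.comp {i : Y ⟶ X} {j : Z ⟶ Y} {U : X.Opens} {n m : ℕ} (hi : KChart i U n)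
    (hj : KChart j (i ⁻¹ᵁ U) m) : KChart (j ≫ i) U (m + n) := by
  obtain ⟨hU, hcli, f, hflen, hf, hkeri⟩ := hi
  obtain ⟨hV, hclj, g, hglen, hg, hkerj⟩ := hj
  refine ⟨hU, ?_, ?_⟩
  · rw [morphismRestrict_comp]
    exact @IsClosedImmersion.comp _ _ _ _ _ hclj hcli
  · have hsurj := app_surjective_of_isClosedImmersion_restrict i U hU
    obtain ⟨rs, hlen, hrs, hker⟩ := exists_kr_comp (i.app U).hom hsurj f hkeri hf
      (j.app (i ⁻¹ᵁ U)).hom g hg hkerj
    refine ⟨rs, by rw [hlen, hglen, hflen], hrs, ?_⟩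
    rw [← hker]
    ext x
    rw [RingHom.mem_ker, RingHom.mem_ker]
    rfl

/-- composition of charts at a point -/
theorem exists_kchart_comp {i : Y ⟶ X} {j : Z ⟶ Y} {U₁ : X.Opens} {W : Y.Opens} {n m : ℕ}
    (hi : KChart i U₁ n) (hj : KChart j W m) (z : Z) (hzW : j z ∈ W) (hzU : i (j z) ∈ U₁) :
    ∃ U : X.Opens, (j ≫ i) z ∈ U ∧ KChart (j ≫ i) U (m + n) := by
  have hU₁ := hi.1
  have hcl := hi.2.1
  have hV : IsAffineOpen (i ⁻¹ᵁ U₁) := isAffineOpen_preimage_of_isClosedImmersion_restrict i U₁ hU₁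
  obtain ⟨a, b, hab, hya⟩ := exists_basicOpen_le_affine_inter hV hj.1 (j z) ⟨hzU, hzW⟩
  obtain ⟨h, rfl⟩ := app_surjective_of_isClosedImmersion_restrict i U₁ hU₁ a
  have hpre : i ⁻¹ᵁ X.basicOpen h = Y.basicOpen b := by
    rw [Scheme.preimage_basicOpen, ← hab]
  refine ⟨X.basicOpen h, ?_, ?_⟩
  · show i (j z) ∈ X.basicOpen h
    have : j z ∈ i ⁻¹ᵁ X.basicOpen h := by
      rw [hpre, ← hab]
      exact hya
    exact this
  · refine KChart.comp (hi.basicOpen h) ?_
    rw [hpre]
    exact hj.basicOpen b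

end Comp

section BaseChange

/-- flat base change of charts -/
theorem KChart.baseChange {X Y X' Y' : Scheme.{u}} {i : Y ⟶ X} {g : X' ⟶ X} [Flat g]
    {i' : Y' ⟶ X'} {g' : Y' ⟶ Y} (hsq : IsPullback g' i' i g) {U : X.Opens} {d : ℕ}
    (h : KChart i U d) {U' : X'.Opens} (hU' : IsAffineOpen U') (hle : U' ≤ g ⁻¹ᵁ U) :
    KChart i' U' d := by
  obtain ⟨hU, hcl, rs, hlen, hrs, hker⟩ := h
  have hV : IsAffineOpen (i ⁻¹ᵁ U) := isAffineOpen_preimage_of_isClosedImmersion_restrict i U hU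
  have hUY : i' ⁻¹ᵁ U' = g' ⁻¹ᵁ (i ⁻¹ᵁ U) ⊓ i' ⁻¹ᵁ U' := by
    refine le_antisymm (le_inf ?_ le_rfl) inf_le_right
    intro z hz
    show i (g' z) ∈ U
    rw [← Scheme.Hom.comp_apply, hsq.w, Scheme.Hom.comp_apply]
    exact hle hz
  refine ⟨hU', ?_, ?_⟩
  · have hpb := Scheme.Hom.isPullback_resLE hsq hle (le_refl (i ⁻¹ᵁ U)) hUY
    have h1 : IsClosedImmersion (i.resLE U (i ⁻¹ᵁ U) le_rfl) := by
      rw [Scheme.Hom.resLE_eq_morphismRestrict]
      exact hcl
    have h2 := MorphismProperty.of_isPullback (P := @IsClosedImmersion) hpb h1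
    rwa [Scheme.Hom.resLE_eq_morphismRestrict] at h2
  · have hiso := isIso_pushoutSection_of_isAffineOpen hsq hle (le_refl (i ⁻¹ᵁ U)) hUY hU hU' hV
    have hpo := (isIso_pushoutSection_iff hsq hle (le_refl (i ⁻¹ᵁ U)) hUY).mp hiso
    have hsurj : Function.Surjective (i.appLE U (i ⁻¹ᵁ U) le_rfl).hom := by
      rw [Scheme.Hom.appLE_eq_app]
      exact app_surjective_of_isClosedImmersion_restrict i U hU
    have hk := Groth.Agent.Lib.IdealComap.ker_of_isPushout hpo hsurj
    rw [Scheme.Hom.appLE_eq_app, Scheme.Hom.appLE_eq_app, hker] at hk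
    have hfl : (g.appLE U U' hle).hom.Flat := g.flat_appLE hU hU' hle
    let _ : Algebra Γ(X, U) Γ(X', U') := (g.appLE U U' hle).hom.toAlgebra
    have : Module.Flat Γ(X, U) Γ(X', U') := hfl
    refine ⟨rs.map (algebraMap Γ(X, U) Γ(X', U')), by simpa using hlen,
      isKoszulRegularSeq_map_of_flat rs hrs, ?_⟩
    rw [hk, Ideal.map_ofList]
    rfl

end BaseChange

section Section

open Groth.Agent.Lib.SecSmooth Groth.Agent.Lib.SecSmoothSch

/-- a morphism which over the affine open `U` has affine preimage and is surjective on sections is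
a closed immersion over `U` -/
theorem isClosedImmersion_restrict_of_surjective (i : Z ⟶ X) (U : X.Opens) (hU : IsAffineOpen U)
    (hV : IsAffineOpen (i ⁻¹ᵁ U)) (h : Function.Surjective (i.app U).hom) :
    IsClosedImmersion (i ∣_ U) := by
  have : IsAffine (U : Scheme.{u}) := hU
  have : IsAffine ((i ⁻¹ᵁ U : Z.Opens) : Scheme.{u}) := hV
  apply IsClosedImmersion.of_surjective_of_isAffine
  rw [morphismRestrict_appTop]
  have key : ∀ W : X.Opens, W = U → Function.Surjective (i.app W).hom := by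
    rintro W rfl
    exact h
  have h1 := key _ U.ι_image_top
  have h2 : Function.Surjective
      (Z.presheaf.map (eqToHom (image_morphismRestrict_preimage i U ⊤)).op).hom :=
    (ConcreteCategory.bijective_of_isIso _).2
  intro y
  obtain ⟨y', rfl⟩ := h2 y
  obtain ⟨x, rfl⟩ := h1 y'
  exact ⟨x, rfl⟩

/-- a section of a smooth morphism has Koszul charts at every point -/
theorem exists_kchart_section {P : Scheme.{u}} (p : P ⟶ X) [Smooth p] (s : X ⟶ P)
    (hs : s ≫ p = 𝟙 X) (x : X) : ∃ (U : P.Opens) (d : ℕ), s x ∈ U ∧ KChart s U d := by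
  obtain ⟨V, U, hxV, e₁, e₂⟩ := exists_section_chart p s hs x
  have hsm : (p.appLE V.1 U.1 e₁).hom.Smooth :=
    HasRingHomProperty.appLE (P := @Smooth) p inferInstance V U e₁
  let _ : Algebra Γ(X, V.1) Γ(P, U.1) := (p.appLE V.1 U.1 e₁).hom.toAlgebra
  have : Algebra.Smooth Γ(X, V.1) Γ(P, U.1) := hsm
  let τ : Γ(P, U.1) →ₐ[Γ(X, V.1)] Γ(X, V.1) :=
    { toRingHom := (s.appLE U.1 V.1 e₂).hom
      commutes' := fun c => by
        have := appLE_comp_section p s hs V.1 U.1 e₁ e₂
        exact congrArg (fun φ => φ.hom c) this }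
  -- `s⁻¹ U = V`
  have hUV : s ⁻¹ᵁ U.1 = V.1 := by
    refine le_antisymm (fun y hy => ?_) e₂
    have h1 : p (s y) ∈ V.1 := e₁ hy
    have : p (s y) = y := by
      rw [← Scheme.Hom.comp_apply, hs]
      rfl
    rwa [this] at h1
  have hiso : IsIso (X.presheaf.map (homOfLE e₂).op) := by
    have : IsIso (homOfLE e₂) := by
      refine ⟨homOfLE hUV.le, ?_, ?_⟩ <;> rfl
    infer_instance
  have hbij : Function.Bijective (X.presheaf.map (homOfLE e₂).op).hom :=
    (ConcreteCategory.isIso_iff_bijective _).1 hiso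
  have happLE : ∀ b, (s.appLE U.1 V.1 e₂).hom b =
      (X.presheaf.map (homOfLE e₂).op).hom ((s.app U.1).hom b) := by
    intro b
    rw [Scheme.Hom.appLE, CommRingCat.comp_apply]
  -- the kernel on `U`
  have hker : RingHom.ker (s.app U.1).hom = RingHom.ker τ.toRingHom := by
    ext b
    simp only [RingHom.mem_ker]
    show (s.app U.1).hom b = 0 ↔ (s.appLE U.1 V.1 e₂).hom b = 0
    rw [happLE]
    constructor
    · intro h
      rw [h, map_zero]
    · intro h
      exact hbij.1 (by rw [h, map_zero])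
  -- surjectivity on `U`
  have hsurj : Function.Surjective (s.app U.1).hom := by
    intro y
    refine ⟨(p.appLE V.1 U.1 e₁).hom ((X.presheaf.map (homOfLE e₂).op).hom y), ?_⟩
    apply hbij.1
    rw [← happLE]
    have := appLE_comp_section p s hs V.1 U.1 e₁ e₂
    exact congrArg (fun φ => φ.hom ((X.presheaf.map (homOfLE e₂).op).hom y)) this
  have hcl : IsClosedImmersion (s ∣_ U.1) :=
    isClosedImmersion_restrict_of_surjective s U.1 U.2 (hUV ▸ V.2) hsurj
  -- the prime of `s x`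
  let 𝔓 := (U.2.primeIdealOf ⟨s x, e₂ hxV⟩).asIdeal
  have h𝔓 : 𝔓.IsPrime := (U.2.primeIdealOf ⟨s x, e₂ hxV⟩).isPrime
  have hJ𝔓 : RingHom.ker τ.toRingHom ≤ 𝔓 := by
    intro b hb
    have hc := IsAffineOpen.comap_primeIdealOf_appLE (f := s) U.1 U.2 V.1 V.2 e₂ hxV
    have : b ∈ ((V.2.primeIdealOf ⟨x, hxV⟩).comap (s.appLE U.1 V.1 e₂).hom).asIdeal := by
      show (s.appLE U.1 V.1 e₂).hom b ∈ (V.2.primeIdealOf ⟨x, hxV⟩).asIdeal
      have hb' : (s.appLE U.1 V.1 e₂).hom b = 0 := hb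
      rw [hb']
      exact Ideal.zero_mem _
    rw [hc] at this
    exact this
  obtain ⟨w, hw, u, hu, hJu⟩ := good_ker_of_smooth τ 𝔓 hJ𝔓
  have hloc : IsLocalization.Away w Γ(P, P.basicOpen w) := U.2.isLocalization_basicOpen w
  obtain ⟨rs, hrs, hmap⟩ := Groth.Agent.S1676.exists_isRegular_of_good (RingHom.ker τ.toRingHom) 𝔓
    hJ𝔓 w hw u hu hJu Γ(P, P.basicOpen w)
  refine ⟨P.basicOpen w, rs.length, ?_, U.2.basicOpen w, ?_, rs, rfl, ?_, ?_⟩
  · have h1 : U.2.primeIdealOf ⟨s x, e₂ hxV⟩ ∈ U.2.fromSpec ⁻¹ᵁ P.basicOpen w := by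
      rw [U.2.fromSpec_preimage_basicOpen]
      exact hw
    have h2 : U.2.fromSpec (U.2.primeIdealOf ⟨s x, e₂ hxV⟩) ∈ P.basicOpen w := h1
    rwa [U.2.fromSpec_primeIdealOf] at h2
  · have hcl' : IsClosedImmersion (s ∣_ (⟨U.1, U.2⟩ : P.affineOpens).1) := hcl
    exact Groth.Agent.Lib.RegSpreadGeom.isClosedImmersion_restrict_basicOpen s ⟨U.1, U.2⟩ w
  · exact (Groth.Agent.S15821.result _ rs hrs.toIsWeaklyRegular).1
  · have hcl' : IsClosedImmersion (s ∣_ (⟨U.1, U.2⟩ : P.affineOpens).1) := hcl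
    have := Groth.Agent.Lib.RegSpreadGeom.ker_app_basicOpen s ⟨U.1, U.2⟩ w
    rw [this, ← hmap]
    show Ideal.map _ (RingHom.ker (s.app U.1).hom) = _
    rw [hker]
    rfl

/-- a section of a smooth morphism is a Koszul-regular immersion -/
theorem isRegularImmersion_koszul_of_section {P : Scheme.{u}} (p : P ⟶ X) [Smooth p] (s : X ⟶ P)
    (hs : s ≫ p = 𝟙 X) : RegImm.IsRegularImmersion .koszul s := by
  rw [isRegularImmersion_koszul_iff]
  refine ⟨?_, fun x => exists_kchart_section p s hs x⟩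
  have : IsImmersion (s ≫ p) := by
    rw [hs]
    infer_instance
  exact IsImmersion.of_comp s p

end Section

section Global

/-- composition of Koszul-regular immersions -/
theorem isRegularImmersion_koszul_comp {X Y Z : Scheme.{u}} (i : Y ⟶ X) (j : Z ⟶ Y)
    (hi : RegImm.IsRegularImmersion .koszul i) (hj : RegImm.IsRegularImmersion .koszul j) :
    RegImm.IsRegularImmersion .koszul (j ≫ i) := by
  rw [isRegularImmersion_koszul_iff] at hi hj ⊢
  have := hi.1
  have := hj.1
  refine ⟨inferInstance, fun z => ?_⟩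
  obtain ⟨W, m, hzW, hW⟩ := hj.2 z
  obtain ⟨U₁, n, hzU, hU₁⟩ := hi.2 (j z)
  obtain ⟨U, hz, hU⟩ := exists_kchart_comp hU₁ hW z hzW hzU
  exact ⟨U, m + n, hz, hU⟩

/-- flat base change of Koszul-regular immersions -/
theorem isRegularImmersion_koszul_baseChange {X Y X' Y' : Scheme.{u}} (i : Y ⟶ X) (g : X' ⟶ X)
    [Flat g] (i' : Y' ⟶ X') (g' : Y' ⟶ Y) (hsq : IsPullback g' i' i g)
    (hi : RegImm.IsRegularImmersion .koszul i) : RegImm.IsRegularImmersion .koszul i' := by
  rw [isRegularImmersion_koszul_iff] at hi ⊢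
  have := hi.1
  refine ⟨MorphismProperty.of_isPullback (P := @IsImmersion) hsq hi.1, fun y' => ?_⟩
  obtain ⟨U, d, hyU, hU⟩ := hi.2 (g' y')
  have hmem : i' y' ∈ g ⁻¹ᵁ U := by
    show g (i' y') ∈ U
    rw [← Scheme.Hom.comp_apply, ← hsq.w, Scheme.Hom.comp_apply]
    exact hyU
  obtain ⟨U', hU', hyU', hle⟩ :=
    TopologicalSpace.Opens.isBasis_iff_nbhd.mp X'.isBasis_affineOpens hmem
  exact ⟨U', d, hyU', hU.baseChange hsq hU' hle⟩

/-- if `j ≫ p = i` with `p` smooth and `i` a Koszul-regular immersion then `j` is a Koszul-regular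
immersion (graph trick) -/
theorem isRegularImmersion_koszul_of_comp_smooth {X V V' : Scheme.{u}} (i : X ⟶ V) (j : X ⟶ V')
    (p : V' ⟶ V) [Smooth p] (h : j ≫ p = i) (hi : RegImm.IsRegularImmersion .koszul i) :
    RegImm.IsRegularImmersion .koszul j := by
  let Γ : X ⟶ pullback i p := pullback.lift (𝟙 X) j (by rw [h, Category.id_comp])
  have hΓ1 : Γ ≫ pullback.fst i p = 𝟙 X := pullback.lift_fst _ _ _
  have hΓ2 : Γ ≫ pullback.snd i p = j := pullback.lift_snd _ _ _
  have h1 : RegImm.IsRegularImmersion .koszul Γ :=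
    isRegularImmersion_koszul_of_section (pullback.fst i p) Γ hΓ1
  have h2 : RegImm.IsRegularImmersion .koszul (pullback.snd i p) :=
    isRegularImmersion_koszul_baseChange i p (pullback.snd i p) (pullback.fst i p)
      (IsPullback.of_hasPullback i p) hi
  have h3 := isRegularImmersion_koszul_comp (pullback.snd i p) Γ h2 h1
  rwa [hΓ2] at h3

end Global

end Groth.Agent.Lib.KRegImm
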