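import Groth.Agent.Lib.LCIDescent
import Groth.Agent.Lib.KRegImm
import Groth.Agent.Lib.ImmersionLocal
import Groth.Agent.Lib.UnramifiedLocusBC

/-!
# fpqc descent of lci ring maps on affine pairs, and of Koszul-regular immersions (helper32)

* `lciHom_appLE_of_baseChange`: for a cartesian square with `g : S' ⟶ S` flat, surjective and
  quasi-compact, `Γ(S, V) → Γ(X, U)` is lci as soon as the ring maps of the base change over all
  affine opens `W ≤ g⁻¹ V` are lci;
* `lciHom_iff_ker_of_surjective`: a surjective ring map is lci iff its kernel is Koszul-regular;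
* `isKoszulRegularIdeal_ker_app`: a Koszul-regular immersion has Koszul-regular ideal on every affine
  open over which it is a closed immersion;
* `exists_kchart_of_isKoszulRegularIdeal_ker`: conversely a Koszul chart near each point;
* `isRegularImmersion_koszul_of_baseChange`: fpqc descent of Koszul-regular immersions.
-/

set_option autoImplicit false
universe u
open CategoryTheory CategoryTheory.Limits AlgebraicGeometry TopologicalSpace

attribute [local instance] HasDerivedCategory.standard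

namespace Groth.Agent.Lib.LCIDescentSch

open Groth.Agent.Lib.LCIMaps Groth.Agent.Lib.LCIComp Groth.Agent.Lib.KoszulIdeal
  Groth.Agent.Lib.KRegImm Groth.Agent.Lib.KoszulImmPerfect

/-- scheme-level fpqc descent of lci ring maps for an affine pair -/
theorem lciHom_appLE_of_baseChange {X S X' S' : Scheme.{u}} (f : X ⟶ S) (f' : X' ⟶ S')
    (g' : X' ⟶ X) (g : S' ⟶ S) [Flat g] [Surjective g] [QuasiCompact g]
    (hc : IsPullback g' f' f g) (U : X.Opens) (V : S.Opens) (hU : IsAffineOpen U)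
    (hV : IsAffineOpen V) (hUV : U ≤ f ⁻¹ᵁ V)
    (H : ∀ W : S'.Opens, IsAffineOpen W → W ≤ g ⁻¹ᵁ V →
      LCIHom (f'.appLE W (g' ⁻¹ᵁ U ⊓ f' ⁻¹ᵁ W) inf_le_right).hom) :
    LCIHom (f.appLE V U hUV).hom := by
  have hK : IsCompact (X := S') (g ⁻¹ᵁ V) :=
    QuasiCompact.isCompact_preimage (f := g) V.1 V.2 hV.isCompact
  obtain ⟨s, hsfin, hsK⟩ := isCompact_iff_finite_and_eq_biUnion_affineOpens.mp hK
  have := hsfin.to_subtype
  let e : Fin (Nat.card s) ≃ s := (Finite.equivFin s).symm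
  let W : Fin (Nat.card s) → S'.Opens := fun i => ((e i).1 : S'.Opens)
  have hW : ∀ i, IsAffineOpen (W i) := fun i => (e i).1.2
  have hle : ∀ i, W i ≤ g ⁻¹ᵁ V := fun i => by
    rw [hsK]
    exact le_iSup₂ (f := fun (j : S'.affineOpens) (_ : j ∈ s) => (j : S'.Opens)) (e i).1 (e i).2
  let U' : Fin (Nat.card s) → X'.Opens := fun i => g' ⁻¹ᵁ U ⊓ f' ⁻¹ᵁ (W i)
  have hpo : ∀ i, IsPushout (f.appLE V U hUV) (g.appLE V (W i) (hle i))
      (g'.appLE U (U' i) inf_le_left) (f'.appLE (W i) (U' i) inf_le_right) := fun i =>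
    (isIso_pushoutSection_iff hc (hle i) hUV rfl).mp
      (isIso_pushoutSection_of_isAffineOpen hc (hle i) hUV rfl hV (hW i) hU)
  refine Groth.Agent.Lib.LCIDescent.lciHom_of_family (f.appLE V U hUV).hom
    (fun i => Γ(S', W i)) (fun i => Γ(X', U' i))
    (fun i => (g.appLE V (W i) (hle i)).hom) (fun i => (g'.appLE U (U' i) inf_le_left).hom)
    (fun i => (f'.appLE (W i) (U' i) inf_le_right).hom) (fun i => hpo i)
    (fun i => g.flat_appLE hV (hW i) (hle i)) ?_
    (fun i => H (W i) (hW i) (hle i))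
  intro 𝔭
  obtain ⟨y, hy⟩ : ∃ y : V, hV.primeIdealOf y = 𝔭 :=
    ⟨hV.isoSpec.inv 𝔭, by
      show hV.isoSpec.hom (hV.isoSpec.inv 𝔭) = 𝔭
      rw [← Scheme.Hom.comp_apply, Iso.inv_hom_id]
      rfl⟩
  obtain ⟨y', hy'⟩ := g.surjective y.1
  have hy'K : y' ∈ g ⁻¹ᵁ V := by
    show g y' ∈ V
    rw [hy']
    exact y.2
  rw [hsK] at hy'K
  simp only [TopologicalSpace.Opens.mem_iSup] at hy'K
  obtain ⟨j, hj, hy'j⟩ := hy'K
  have hmem : y' ∈ W (e.symm ⟨j, hj⟩) := by
    show y' ∈ ((e (e.symm ⟨j, hj⟩)).1 : S'.Opens)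
    rw [Equiv.apply_symm_apply]
    exact hy'j
  refine ⟨e.symm ⟨j, hj⟩, (hW _).primeIdealOf ⟨y', hmem⟩, ?_⟩
  rw [IsAffineOpen.comap_primeIdealOf_appLE V hV _ (hW _) (hle _), ← hy]
  congr 1
  exact Subtype.ext hy'

section surj

variable {A B : Type u} [CommRing A] [CommRing B]

/-- a surjective ring map is lci iff its kernel is a Koszul-regular ideal -/
theorem lciHom_iff_ker_of_surjective (ρ : A →+* B) (hρ : Function.Surjective ρ) :
    LCIHom ρ ↔ LCI.IsKoszulRegularIdeal (RingHom.ker ρ) := by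
  constructor
  · intro h
    let _ : Algebra A B := ρ.toAlgebra
    obtain ⟨hft, n, α, hα, hK⟩ := h
    let e0 : MvPolynomial (Fin 0) A ≃ₐ[A] A := MvPolynomial.isEmptyAlgEquiv A (Fin 0)
    let β : MvPolynomial (Fin 0) A →ₐ[A] B := (Algebra.ofId A B).comp e0.toAlgHom
    have hβ : Function.Surjective β := hρ.comp e0.surjective
    have hKβ := Groth.Agent.S9269.result A B n 0 α hα β hβ hK
    have hcomap : RingHom.ker ρ =
        (RingHom.ker β.toRingHom).comap (e0.symm.toRingEquiv : A →+* MvPolynomial (Fin 0) A) := by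
      ext x
      rw [Ideal.mem_comap, RingHom.mem_ker, RingHom.mem_ker]
      show ρ x = 0 ↔ ρ (e0 (e0.symm x)) = 0
      rw [e0.apply_symm_apply]
    rw [hcomap]
    exact isKoszulRegularIdeal_comap_ringEquiv e0.symm.toRingEquiv _ hKβ
  · intro h
    have h1 : LCI.IsLCI A (A ⧸ RingHom.ker ρ) :=
      Groth.Agent.Lib.SmoothLCI.isLCI_quotient _ h
    rw [← lciHom_algebraMap] at h1
    have h2 := h1.comp_ringEquiv (RingHom.quotientKerEquivOfSurjective hρ)
    have h3 : ((RingHom.quotientKerEquivOfSurjective hρ : A ⧸ RingHom.ker ρ →+* B)).comp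
        (algebraMap A (A ⧸ RingHom.ker ρ)) = ρ := by
      ext x
      exact RingHom.quotientKerEquivOfSurjective_apply_mk hρ x
    rwa [h3] at h2

end surj

section charts

variable {Z X : Scheme.{u}}

/-- the prime of a point of the image contains the kernel -/
theorem ker_app_le_primeIdealOf (i : Z ⟶ X) (U : X.Opens) (hU : IsAffineOpen U) (z : Z)
    (hz : i z ∈ U) : RingHom.ker (i.app U).hom ≤ (hU.primeIdealOf ⟨i z, hz⟩).asIdeal := by
  intro a ha
  by_contra hna
  have h1 : i z ∈ X.basicOpen a :=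
    (Groth.Agent.Lib.UnramifiedLocusBC.mem_basicOpen_iff_primeIdealOf hU a hz).mpr hna
  have h2 : z ∈ i ⁻¹ᵁ X.basicOpen a := h1
  rw [Scheme.preimage_basicOpen, RingHom.mem_ker.mp ha, Scheme.basicOpen_zero] at h2
  exact h2

/-- a Koszul-regular immersion has Koszul-regular ideal on every affine open over which it is a
closed immersion -/
theorem isKoszulRegularIdeal_ker_app (i : Z ⟶ X) (hi : RegImm.IsRegularImmersion .koszul i)
    (W : X.Opens) (hW : IsAffineOpen W) [IsClosedImmersion (i ∣_ W)] :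
    LCI.IsKoszulRegularIdeal (RingHom.ker (i.app W).hom) := by
  rw [isKoszulRegularIdeal_iff]
  intro 𝔮 h𝔮
  have hV : IsAffineOpen (i ⁻¹ᵁ W) := isAffineOpen_preimage_of_isClosedImmersion_restrict i W hW
  have hsurj : Function.Surjective (i.app W).hom :=
    app_surjective_of_isClosedImmersion_restrict i W hW
  obtain ⟨𝔯, h𝔯⟩ : 𝔮 ∈ Set.range (PrimeSpectrum.comap (i.app W).hom) := by
    rw [range_comap_of_surjective _ _ hsurj]
    exact h𝔮
  obtain ⟨z, hz𝔯⟩ : ∃ z : (i ⁻¹ᵁ W : Z.Opens), hV.primeIdealOf z = 𝔯 :=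
    ⟨hV.isoSpec.inv 𝔯, by
      show hV.isoSpec.hom (hV.isoSpec.inv 𝔯) = 𝔯
      rw [← Scheme.Hom.comp_apply, Iso.inv_hom_id]
      rfl⟩
  have hzW : i z.1 ∈ W := z.2
  have h𝔮eq : 𝔮 = hW.primeIdealOf ⟨i z.1, hzW⟩ := by
    rw [← h𝔯, ← hz𝔯, Scheme.Hom.app_eq_appLE]
    exact IsAffineOpen.comap_primeIdealOf_appLE W hW (i ⁻¹ᵁ W) hV le_rfl z.2
  obtain ⟨U'', d, hzU, hch⟩ := ((isRegularImmersion_koszul_iff i).mp hi).2 z.1
  obtain ⟨f, h, heq, hx⟩ := exists_basicOpen_le_affine_inter hW hch.1 (i z.1) ⟨hzW, hzU⟩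
  have hch' : KChart i (X.basicOpen f) d := heq ▸ hch.basicOpen h
  obtain ⟨_, _, rs, _, hrs, hker⟩ := hch'
  have hloc : IsLocalization.Away f Γ(X, X.basicOpen f) := hW.isLocalization_basicOpen f
  refine ⟨f, ?_, GenAt.mk Γ(X, X.basicOpen f) rs hrs ?_⟩
  · rw [h𝔮eq]
    exact (Groth.Agent.Lib.UnramifiedLocusBC.mem_basicOpen_iff_primeIdealOf hW f hzW).mp hx
  · have := Groth.Agent.Lib.RegSpreadGeom.ker_app_basicOpen i ⟨W, hW⟩ f
    rw [← hker, this]
    rfl

/-- a Koszul-regular ideal on an affine open over which `i` is a closed immersion gives a Koszul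
chart near each point of the image -/
theorem exists_kchart_of_isKoszulRegularIdeal_ker (i : Z ⟶ X) (U : X.Opens) (hU : IsAffineOpen U)
    [IsClosedImmersion (i ∣_ U)] (hK : LCI.IsKoszulRegularIdeal (RingHom.ker (i.app U).hom))
    (z : Z) (hz : i z ∈ U) : ∃ (U' : X.Opens) (d : ℕ), i z ∈ U' ∧ KChart i U' d := by
  obtain ⟨a, ha, hgen⟩ := (isKoszulRegularIdeal_iff _).mp hK (hU.primeIdealOf ⟨i z, hz⟩)
    (ker_app_le_primeIdealOf i U hU z hz)
  have hloc : IsLocalization.Away a Γ(X, X.basicOpen a) := hU.isLocalization_basicOpen a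
  obtain ⟨l, hl, hIl⟩ := hgen.exists_list Γ(X, X.basicOpen a)
  refine ⟨X.basicOpen a, l.length,
    (Groth.Agent.Lib.UnramifiedLocusBC.mem_basicOpen_iff_primeIdealOf hU a hz).mpr ha,
    hU.basicOpen a,
    Groth.Agent.Lib.RegSpreadGeom.isClosedImmersion_restrict_basicOpen i ⟨U, hU⟩ a, l, rfl, hl, ?_⟩
  rw [Groth.Agent.Lib.RegSpreadGeom.ker_app_basicOpen i ⟨U, hU⟩ a]
  exact hIl

end charts

section main

/-- **fpqc descent of Koszul-regular immersions** -/
theorem isRegularImmersion_koszul_of_baseChange {X Y X' Y' : Scheme.{u}} (i : Y ⟶ X)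
    [IsImmersion i] (g : X' ⟶ X) [Flat g] [Surjective g] [QuasiCompact g]
    (i' : Y' ⟶ X') (g' : Y' ⟶ Y) (hsq : IsPullback g' i' i g)
    (hi' : RegImm.IsRegularImmersion .koszul i') : RegImm.IsRegularImmersion .koszul i := by
  rw [isRegularImmersion_koszul_iff]
  refine ⟨inferInstance, fun y => ?_⟩
  obtain ⟨U, hyU, hcl⟩ := Groth.Agent.Lib.ImmersionLocal.exists_affine_isClosedImmersion_restrict i y
  have hV : IsAffineOpen (i ⁻¹ᵁ U.1) :=
    isAffineOpen_preimage_of_isClosedImmersion_restrict i U.1 U.2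
  have hK : LCI.IsKoszulRegularIdeal (RingHom.ker (i.app U.1).hom) := by
    rw [← lciHom_iff_ker_of_surjective _ (app_surjective_of_isClosedImmersion_restrict i U.1 U.2),
      Scheme.Hom.app_eq_appLE]
    refine lciHom_appLE_of_baseChange i i' g' g hsq (i ⁻¹ᵁ U.1) U.1 hV U.2 le_rfl ?_
    intro W hW hWle
    have hopen : i' ⁻¹ᵁ W = g' ⁻¹ᵁ (i ⁻¹ᵁ U.1) ⊓ i' ⁻¹ᵁ W := by
      refine le_antisymm (le_inf ?_ le_rfl) inf_le_right
      intro z hz
      show i (g' z) ∈ U.1
      rw [← Scheme.Hom.comp_apply, hsq.w, Scheme.Hom.comp_apply]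
      exact hWle hz
    have hclW : IsClosedImmersion (i' ∣_ W) := by
      have hpb := Scheme.Hom.isPullback_resLE hsq hWle (le_refl (i ⁻¹ᵁ U.1)) hopen
      have h1 : IsClosedImmersion (i.resLE U.1 (i ⁻¹ᵁ U.1) le_rfl) := by
        rw [Scheme.Hom.resLE_eq_morphismRestrict]
        exact hcl
      have h2 := MorphismProperty.of_isPullback (P := @IsClosedImmersion) hpb h1
      rwa [Scheme.Hom.resLE_eq_morphismRestrict] at h2
    have hKW := isKoszulRegularIdeal_ker_app i' hi' W hW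
    have hL : LCIHom (i'.app W).hom :=
      (lciHom_iff_ker_of_surjective _
        (app_surjective_of_isClosedImmersion_restrict i' W hW)).mpr hKW
    have key : ∀ (O : Y'.Opens) (hO : i' ⁻¹ᵁ W = O) (hle : O ≤ i' ⁻¹ᵁ W),
        LCIHom (i'.appLE W O hle).hom := by
      rintro O rfl hle
      rwa [Scheme.Hom.app_eq_appLE] at hL
    exact key _ hopen inf_le_right
  exact exists_kchart_of_isKoszulRegularIdeal_ker i U.1 U.2 hK y hyU

end main

end Groth.Agent.Lib.LCIDescentSch
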