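import Groth.Agent.Lib.KoszulAtLCI
import Groth.Agent.Lib.LCIDescentSch

/-!
# Koszul morphisms: all affine pairs, and fpqc descent (helper32)

Namespace `Groth.Agent.Lib.KoszulAtDescent`.

* `lciHom_away` : a localization away from an element is a local complete intersection.
* `lciHom_appLE_of_forall_isKoszulAt` : if `f` is Koszul at every point of the affine open `U`
  and `U` maps into the affine open `V` then `Γ(V) → Γ(U)` is a local complete intersection.
* `isKoszulAt_of_baseChange` : fpqc descent of "Koszul at every point".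
-/

set_option autoImplicit false
universe u
open CategoryTheory CategoryTheory.Limits AlgebraicGeometry TopologicalSpace

namespace Groth.Agent.Lib.KoszulAtDescent

open Groth.Agent.Lib.LCIMaps Groth.Agent.Lib.KoszulAtLCI Groth.Agent.Lib.LCIDescentSch

section ring

variable {A B : Type u} [CommRing A] [CommRing B]

/-- a localization away from an element is a local complete intersection -/
theorem lciHom_away (ψ : A →+* B) (a : A)
    (h : @IsLocalization.Away A _ a B _ ψ.toAlgebra) : LCIHom ψ := by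
  let _ := ψ.toAlgebra
  have : Algebra.Smooth A B := Algebra.Smooth.of_isLocalization_Away a
  exact Groth.Agent.Lib.SmoothLCI.isLCI_of_smooth

end ring

variable {X S : Scheme.{u}}

/-- restriction to a basic open of a local complete intersection affine pair -/
theorem lciHom_appLE_basicOpen (f : X ⟶ S) {U : X.Opens} {V : S.Opens} (hU : IsAffineOpen U)
    (e : U ≤ f ⁻¹ᵁ V) (h : LCIHom (f.appLE V U e).hom) (b : Γ(X, U)) :
    LCIHom (f.appLE V (X.basicOpen b) ((X.basicOpen_le b).trans e)).hom := by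
  have h1 : LCIHom (X.presheaf.map (homOfLE (X.basicOpen_le b)).op).hom :=
    lciHom_away _ b (hU.isLocalization_basicOpen b)
  have h2 := h.comp h1
  rw [← CommRingCat.hom_comp, Scheme.Hom.appLE_map] at h2
  exact h2

/-- if `f` is Koszul at every point of the affine open `U` and `U` maps into the affine open `V`
then `Γ(V) → Γ(U)` is a local complete intersection -/
theorem lciHom_appLE_of_forall_isKoszulAt (f : X ⟶ S) {U : X.Opens} {V : S.Opens}
    (hU : IsAffineOpen U) (hV : IsAffineOpen V) (e : U ≤ f ⁻¹ᵁ V)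
    (h : ∀ x ∈ U, Synt.IsKoszulAt f x) : LCIHom (f.appLE V U e).hom := by
  classical
  -- local witnesses
  have key : ∀ x : U, ∃ b : Γ(X, U), x.1 ∈ X.basicOpen b ∧
      LCIHom (f.appLE V (X.basicOpen b) ((X.basicOpen_le b).trans e)).hom := by
    intro x
    obtain ⟨U'', hU'', e'', hxU'', hL⟩ := exists_lciHom_of_isKoszulAt f x.1 (h x.1 x.2) hV (e x.2)
    obtain ⟨b, b'', heq, hxb⟩ := exists_basicOpen_le_affine_inter hU hU'' x.1 ⟨x.2, hxU''⟩
    refine ⟨b, hxb, ?_⟩
    have h1 := lciHom_appLE_basicOpen f hU'' e'' hL b''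
    have key2 : ∀ (O : X.Opens) (hO : X.basicOpen b'' = O) (hle : O ≤ f ⁻¹ᵁ V),
        LCIHom (f.appLE V O hle).hom := by
      rintro O rfl hle
      exact h1
    exact key2 _ heq.symm _
  choose b hxb hLb using key
  have hspan : Ideal.span (Set.range b) = ⊤ := by
    rw [← hU.self_le_iSup_basicOpen_iff]
    intro x hx
    rw [Opens.mem_iSup]
    exact ⟨⟨b ⟨x, hx⟩, ⟨_, rfl⟩⟩, hxb ⟨x, hx⟩⟩
  obtain ⟨s', hs', hs'top⟩ := (Ideal.span_eq_top_iff_finite _).mp hspan
  let m := s'.card
  let eq : Fin m ≃ s' := s'.equivFin.symm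
  let g : Fin m → Γ(X, U) := fun j => (eq j).1
  have hg : Ideal.span (Set.range g) = ⊤ := by
    rw [← hs'top]
    congr 1
    ext y
    constructor
    · rintro ⟨j, rfl⟩
      exact (eq j).2
    · intro hy
      exact ⟨eq.symm ⟨y, hy⟩, by simp [g]⟩
  have hgL : ∀ j, LCIHom (f.appLE V (X.basicOpen (g j)) ((X.basicOpen_le (g j)).trans e)).hom := by
    intro j
    obtain ⟨x, hx⟩ := hs' (eq j).2
    have : g j = b x := hx.symm
    rw [this]
    exact hLb x
  refine LCIHom.of_span_eq_top _ m g hg (fun j => Γ(X, X.basicOpen (g j)))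
    (fun j => (X.presheaf.map (homOfLE (X.basicOpen_le (g j))).op).hom)
    (fun j => hU.isLocalization_basicOpen (g j)) (fun j => ?_)
  rw [← CommRingCat.hom_comp, Scheme.Hom.appLE_map]
  exact hgL j

/-- **fpqc descent** of "Koszul at every point" -/
theorem isKoszulAt_of_baseChange {X Y X' Y' : Scheme.{u}} (f : X ⟶ Y) (g : Y' ⟶ Y) [Flat g]
    [Surjective g] [QuasiCompact g] (f' : X' ⟶ Y') (g' : X' ⟶ X) (hsq : IsPullback g' f' f g)
    (hf' : ∀ x' : X', Synt.IsKoszulAt f' x') (x : X) : Synt.IsKoszulAt f x := by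
  obtain ⟨_, ⟨V, hV, rfl⟩, hxV, -⟩ :=
    Y.isBasis_affineOpens.exists_subset_of_mem_open (Set.mem_univ (f x)) isOpen_univ
  obtain ⟨_, ⟨U, hU, rfl⟩, hxU, hUV⟩ :=
    X.isBasis_affineOpens.exists_subset_of_mem_open (show x ∈ (f ⁻¹ᵁ V : X.Opens) from hxV)
      (f ⁻¹ᵁ V).2
  have e : U ≤ f ⁻¹ᵁ V := hUV
  refine isKoszulAt_of_lciHom f x hU hV e hxU ?_
  refine lciHom_appLE_of_baseChange f f' g' g hsq U V hU hV e (fun W hW hWle => ?_)
  have hO : IsAffineOpen (g' ⁻¹ᵁ U ⊓ f' ⁻¹ᵁ W) := by
    have : IsAffine (V : Scheme.{u}) := hV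
    have : IsAffine (W : Scheme.{u}) := hW
    have : IsAffine (U : Scheme.{u}) := hU
    exact .of_isIso (Scheme.Hom.isPullback_resLE hsq hWle e rfl).isoPullback.hom
  exact lciHom_appLE_of_forall_isKoszulAt f' hO hW inf_le_right (fun x' _ => hf' x')

end Groth.Agent.Lib.KoszulAtDescent
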