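import Groth.Agent.Lib.H14LocPLCI
import Groth.Agent.Lib.KoszulAtDescent
import Groth.Agent.S9729

/-!
# Koszul morphisms are étale local on the target (helper14)

* `isKoszulAt_of_ι_comp` : `Synt.IsKoszulAt` can be checked on an open neighbourhood in the source.
* `isKoszulAt_smooth_comp`, `isKoszulAt_comp_smooth`.
* `isKoszulAt_of_etale_baseChange` : if the base change of `h` along an étale `r : V' ⟶ V` is Koszul
  at every point, then `h` is Koszul at every point over the image of `r` (no quasi-compactness;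
  reduces to helper32's fpqc descent `KoszulAtDescent.isKoszulAt_of_baseChange`).
-/

set_option autoImplicit false
set_option linter.style.haveILetI false
universe u

open CategoryTheory CategoryTheory.Limits AlgebraicGeometry

namespace Groth.Agent.Lib.H14KoszulEtLocal

open Groth.Agent.Lib Groth.Agent.Lib.KoszulAtLCI Groth.Agent.Lib.LCIMaps

variable {U V U' V' : Scheme.{u}}

/-- Being Koszul at a point can be checked on an open neighbourhood in the source. -/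
theorem isKoszulAt_of_ι_comp (h : U ⟶ V) (U₀ : U.Opens) (u₀ : U₀)
    (hk : Synt.IsKoszulAt (U₀.ι ≫ h) u₀) : Synt.IsKoszulAt h u₀.1 := by
  obtain ⟨_, ⟨V₁, hV₁, rfl⟩, huV₁, -⟩ :=
    V.isBasis_affineOpens.exists_subset_of_mem_open (Set.mem_univ ((U₀.ι ≫ h) u₀)) isOpen_univ
  obtain ⟨O, hO, e, hxO, hL⟩ := exists_lciHom_of_isKoszulAt (U₀.ι ≫ h) u₀ hk hV₁ huV₁
  have e' : U₀.ι ''ᵁ O ≤ h ⁻¹ᵁ V₁ := by
    rintro _ ⟨y, hy, rfl⟩
    exact e hy
  rw [ι_comp_appLE h U₀ V₁ O e e'] at hL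
  exact isKoszulAt_of_lciHom h u₀.1 (hO.image_of_isOpenImmersion U₀.ι) hV₁ e' ⟨u₀, hxO, rfl⟩ hL

/-- Precomposition with an open immersion (any smooth morphism) preserves Koszul-ness. -/
theorem isKoszulAt_smooth_comp {W : Scheme.{u}} (l : W ⟶ U) [Smooth l] (h : U ⟶ V) (w : W)
    (hk : Synt.IsKoszulAt h (l w)) : Synt.IsKoszulAt (l ≫ h) w :=
  isKoszulAt_comp l h w (H14LocPLCI.isKoszulAt_of_smooth l w) hk

theorem isKoszulAt_comp_smooth {W : Scheme.{u}} (h : U ⟶ V) (l : V ⟶ W) [Smooth l] (u : U)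
    (hk : Synt.IsKoszulAt h u) : Synt.IsKoszulAt (h ≫ l) u :=
  isKoszulAt_comp h l u hk (H14LocPLCI.isKoszulAt_of_smooth l _)

/-- **Koszul-ness is étale local on the target** (no quasi-compactness needed). -/
theorem isKoszulAt_of_etale_baseChange (h : U ⟶ V) (r : V' ⟶ V) [Etale r]
    (h' : U' ⟶ V') (pr : U' ⟶ U) (sq : IsPullback pr h' h r)
    (hK : ∀ x', Synt.IsKoszulAt h' x') (u : U) (hu : h u ∈ Set.range r) :
    Synt.IsKoszulAt h u := by
  obtain ⟨v', hv'⟩ := hu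
  obtain ⟨_, ⟨V₁, hV₁, rfl⟩, huV₁, -⟩ :=
    V.isBasis_affineOpens.exists_subset_of_mem_open (Set.mem_univ (h u)) isOpen_univ
  have hv'mem : v' ∈ r ⁻¹ᵁ V₁ := by
    show r v' ∈ V₁
    rw [hv']; exact huV₁
  obtain ⟨V'', hV'', hv'V'', hle⟩ : ∃ V'' : V'.Opens, IsAffineOpen V'' ∧ v' ∈ V'' ∧
      V'' ≤ r ⁻¹ᵁ V₁ := by
    obtain ⟨_, ⟨W, hW, rfl⟩, h1, h2⟩ :=
      V'.isBasis_affineOpens.exists_subset_of_mem_open hv'mem (r ⁻¹ᵁ V₁).2
    exact ⟨W, hW, h1, h2⟩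
  let r'' : (V'' : Scheme.{u}) ⟶ V := V''.ι ≫ r
  have hopen : IsOpen (Set.range r'') := r''.isOpenMap.isOpen_range
  let V₀ : V.Opens := ⟨Set.range r'', hopen⟩
  have hV₀le : V₀ ≤ V₁ := by
    rintro _ ⟨y, rfl⟩
    exact hle y.2
  have hrange : Set.range r'' ⊆ Set.range V₀.ι := by
    rw [Scheme.Opens.range_ι]
    exact subset_rfl
  let r₀ : (V'' : Scheme.{u}) ⟶ V₀ := IsOpenImmersion.lift V₀.ι r'' hrange
  have hr₀ : r₀ ≫ V₀.ι = r'' := IsOpenImmersion.lift_fac _ _ _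
  have hflat : Flat r₀ :=
    MorphismProperty.of_postcomp (W := @Flat) (W' := MorphismProperty.monomorphisms Scheme.{u})
      r₀ V₀.ι (inferInstanceAs (Mono V₀.ι)) (by rw [hr₀]; infer_instance)
  have hsurj : Surjective r₀ := by
    refine ⟨fun y => ?_⟩
    obtain ⟨x, hx⟩ := y.2
    refine ⟨x, ?_⟩
    apply V₀.ι.injective
    rw [← Scheme.Hom.comp_apply, hr₀]
    exact hx
  have : IsAffine (V₁ : Scheme.{u}) := hV₁
  have : IsAffine (V'' : Scheme.{u}) := hV''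
  have hqs : QuasiSeparatedSpace (V₀ : Scheme.{u}) :=
    quasiSeparatedSpace_of_quasiSeparated (V.homOfLE hV₀le)
  have hqc : QuasiCompact r₀ := inferInstance
  -- the restricted morphisms
  let U₀ : U.Opens := h ⁻¹ᵁ V₀
  let U'' : U'.Opens := h' ⁻¹ᵁ V''
  have s1 : IsPullback U''.ι (h' ∣_ V'') h' V''.ι := (isPullback_morphismRestrict h' V'').flip
  have big : IsPullback (U''.ι ≫ pr) (h' ∣_ V'') h (V''.ι ≫ r) := s1.paste_horiz sq
  have right : IsPullback U₀.ι (h ∣_ V₀) h V₀.ι := (isPullback_morphismRestrict h V₀).flip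
  have hrange' : Set.range (U''.ι ≫ pr) ⊆ Set.range U₀.ι := by
    rw [Scheme.Opens.range_ι]
    rintro _ ⟨y, rfl⟩
    show h ((U''.ι ≫ pr) y) ∈ V₀
    rw [← Scheme.Hom.comp_apply, Category.assoc, sq.w, ← Category.assoc, Scheme.Hom.comp_apply]
    refine ⟨⟨h' (U''.ι y), y.2⟩, ?_⟩
    rw [Scheme.Hom.comp_apply]
    rfl
  let k : (U'' : Scheme.{u}) ⟶ U₀ := IsOpenImmersion.lift U₀.ι (U''.ι ≫ pr) hrange'
  have hk : k ≫ U₀.ι = U''.ι ≫ pr := IsOpenImmersion.lift_fac _ _ _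
  have hcomm : k ≫ (h ∣_ V₀) = (h' ∣_ V'') ≫ r₀ := by
    rw [← cancel_mono V₀.ι, Category.assoc, Category.assoc, hr₀, ← right.w, ← Category.assoc, hk]
    exact big.w
  have left : IsPullback k (h' ∣_ V'') (h ∣_ V₀) r₀ := by
    refine IsPullback.of_right ?_ hcomm right
    rw [hk, hr₀]
    exact big
  have hK'' : ∀ x'', Synt.IsKoszulAt (h' ∣_ V'') x'' := by
    have h1 : ∀ x'', Synt.IsKoszulAt ((h' ∣_ V'') ≫ V''.ι) x'' := by
      intro x''
      rw [← s1.w]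
      exact isKoszulAt_smooth_comp U''.ι h' x'' (hK _)
    exact fun x'' => Groth.Agent.S9729.result (h' ∣_ V'') V''.ι h1 x''
  have hu₀ : u ∈ U₀ := by
    show h u ∈ V₀
    refine ⟨⟨v', hv'V''⟩, ?_⟩
    rw [Scheme.Hom.comp_apply]
    exact hv'
  have h2 : Synt.IsKoszulAt (h ∣_ V₀) ⟨u, hu₀⟩ :=
    KoszulAtDescent.isKoszulAt_of_baseChange (h ∣_ V₀) r₀ (h' ∣_ V'') k left hK'' ⟨u, hu₀⟩
  have h3 : Synt.IsKoszulAt (U₀.ι ≫ h) ⟨u, hu₀⟩ := by
    rw [right.w]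
    exact isKoszulAt_comp_smooth _ V₀.ι _ h2
  exact isKoszulAt_of_ι_comp h U₀ ⟨u, hu₀⟩ h3

end Groth.Agent.Lib.H14KoszulEtLocal
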