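import Groth.Agent.Lib.EtGerm

/-!
# More on germs of etale sheaves (helper39)

* `bot_mem_of_isEmpty`, `subsingleton_sect_of_isEmpty`: sections of a sheaf over an empty etale
  scheme are trivial;
* `openSub U W`, `openSubι U W`: the open subscheme `W ⊆ U.left` as an object of `X.Etale` with its
  inclusion into `U`;  `exists_nbhd_openSub`: shrinking etale neighbourhoods to open subsets;
* `isZero_stalk_of_forall_germ`, `germ_eq_zero_of_isEmpty`.
-/

set_option autoImplicit false
universe u
open CategoryTheory CategoryTheory.Limits AlgebraicGeometry Opposite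

namespace Groth.Agent.Lib.EtGerm

open Groth.Agent.Lib.EtStalkConservative Groth.Agent.Lib.EtAbStalk

variable {X : Scheme.{u}} {Ω : Type u} [Field Ω] [IsSepClosed Ω] (ξ : Spec (CommRingCat.of Ω) ⟶ X)

/-- the empty sieve covers an empty etale `X`-scheme -/
lemma bot_mem_of_isEmpty (V : X.Etale) [IsEmpty V.left] : (⊥ : Sieve V) ∈ X.smallEtaleTopology V := by
  apply sieve_mem_of_forall_stdPt
  intro x t
  exact (IsEmpty.false (Nbhd.pt (stdPt x) t)).elim

/-- sections over an empty etale `X`-scheme are trivial -/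
lemma subsingleton_sect_of_isEmpty (F : EtCoh.Ab X) (V : X.Etale) [IsEmpty V.left] :
    Subsingleton (EtCoh.sect F V) := by
  have hT : IsTerminal (F.obj.obj (op V)) := Sheaf.isTerminalOfBotCover F V (bot_mem_of_isEmpty V)
  have hZ : IsZero (F.obj.obj (op V)) := (isZero_zero _).of_iso (hT.uniqueUpToIso
    (IsZero.isTerminal (isZero_zero _)))
  exact AddCommGrpCat.subsingleton_of_isZero hZ

/-- an open subscheme of an etale `X`-scheme, as an etale `X`-scheme -/
noncomputable def openSub (U : X.Etale) (W : U.left.Opens) : X.Etale :=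
  Scheme.Etale.mk (W.ι ≫ U.hom)

/-- the inclusion of an open subscheme of an etale `X`-scheme -/
noncomputable def openSubι (U : X.Etale) (W : U.left.Opens) : openSub U W ⟶ U :=
  MorphismProperty.Over.homMk W.ι rfl trivial

lemma openSubι_left (U : X.Etale) (W : U.left.Opens) : (openSubι U W).left = W.ι := rfl

/-- etale neighbourhoods can be shrunk to open subsets containing the point -/
lemma exists_nbhd_openSub {U : X.Etale} (W : U.left.Opens) (y : Nbhd ξ U) (h : Nbhd.pt ξ y ∈ W) :
    ∃ z : Nbhd ξ (openSub U W), Nbhd.map ξ (openSubι U W) z = y := by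
  obtain ⟨z, hz, -⟩ := exists_nbhd_lift ξ (openSubι U W) y ⟨Nbhd.pt ξ y, h⟩ rfl
  exact ⟨z, hz⟩

/-- the germ of a section vanishes as soon as the neighbourhood can be shrunk to an open on which
the sheaf has trivial sections -/
lemma germ_eq_zero_of_subsingleton (F : EtCoh.Ab X) {U : X.Etale} (W : U.left.Opens) (y : Nbhd ξ U)
    (h : Nbhd.pt ξ y ∈ W) [Subsingleton (EtCoh.sect F (openSub U W))] (s : EtCoh.sect F U) :
    germ ξ F y s = 0 := by
  obtain ⟨z, hz⟩ := exists_nbhd_openSub ξ W y h
  rw [← hz, ← germ_res, Subsingleton.elim (F.obj.map (openSubι U W).op s) 0, map_zero]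

/-- a stalk vanishes if all germs vanish -/
lemma isZero_stalk_of_forall_germ (F : EtCoh.Ab X)
    (h : ∀ (U : X.Etale) (y : Nbhd ξ U) (s : EtCoh.sect F U), germ ξ F y s = 0) :
    IsZero ((EtCoh.stalk ξ).obj F) := by
  have : Subsingleton ((EtCoh.stalk ξ).obj F) := ⟨fun a b => by
    obtain ⟨U, y, s, rfl⟩ := germ_jointly_surjective ξ F a
    obtain ⟨U', y', s', rfl⟩ := germ_jointly_surjective ξ F b
    rw [h, h]⟩
  exact AddCommGrpCat.isZero_of_subsingleton _

end Groth.Agent.Lib.EtGerm
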