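import Mathlib
import Groth.Agent.Lib.EtGermB

/-!
# Lifting etale neighbourhoods along closed immersions (helper39)

* `exists_standardEtalePair_lift`: standard etale pairs lift along surjective ring maps;
* `exists_etale_lift`: (algebra) for `A ↠ A'`, an etale `A'`-algebra `B` and a point `φ : B → K` of
  `B`, there are an etale `A`-algebra `C`, an `A'`-algebra map `θ : B → A' ⊗_A C` and a point
  `Ψ : A' ⊗_A C → K` with `Ψ ∘ θ = φ`;
* `exists_lift_etale_nbhd`: (schemes) for a closed immersion `f : X ⟶ Y`, an etale `X`-scheme `U` and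
  a point `u` of `U` there are an etale `Y`-scheme `V`, a morphism `h : V ×_Y X ⟶ U` over `X` and a
  point `p` of `V ×_Y X` with `h p = u`.
-/

set_option autoImplicit false
universe u
open CategoryTheory CategoryTheory.Limits AlgebraicGeometry Opposite TensorProduct Polynomial

namespace Groth.Agent.Lib.EtLiftClosed

/-- Lifting a standard etale pair along a surjective ring homomorphism. -/
theorem exists_standardEtalePair_lift {A A' : Type u} [CommRing A] [CommRing A']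
    (π : A →+* A') (hπ : Function.Surjective π) (P : StandardEtalePair A') :
    ∃ (Q : StandardEtalePair A) (n : ℕ), Q.f.map π = P.f ∧ Q.g.map π = P.g ^ (n + 1) := by
  obtain ⟨p₁, p₂, n, e⟩ := P.cond
  obtain ⟨f, hf1, -, hf3⟩ := Polynomial.lifts_and_natDegree_eq_and_monic
    ((Polynomial.mem_lifts _).2 (Polynomial.map_surjective π hπ P.f)) P.monic_f
  obtain ⟨q₁, hq₁⟩ := Polynomial.map_surjective π hπ p₁
  obtain ⟨q₂, hq₂⟩ := Polynomial.map_surjective π hπ p₂
  obtain ⟨g₀, hg₀⟩ := Polynomial.map_surjective π hπ P.g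
  refine ⟨⟨f, hf3, (derivative f * q₁ + f * q₂) * g₀, ⟨q₁ * g₀, q₂ * g₀, 1, by ring⟩⟩, n, hf1, ?_⟩
  simp only [Polynomial.map_mul, Polynomial.map_add, hf1, hq₁, hq₂, hg₀]
  rw [← Polynomial.derivative_map, hf1, e, pow_succ]

/-- HasMap for a pair whose `f` agrees and whose `g` is a positive power. -/
lemma hasMap_of_pow {R S : Type*} [CommRing R] [CommRing S] [Algebra R S]
    (P Q : StandardEtalePair R) (n : ℕ) (hf : Q.f = P.f) (hg : Q.g = P.g ^ (n + 1)) {x : S}
    (h : Q.HasMap x) : P.HasMap x := by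
  refine ⟨by rw [← hf]; exact h.1, ?_⟩
  have h2 := h.2
  rw [hg, map_pow] at h2
  exact (isUnit_pow_succ_iff).1 h2

lemma hasMap_pow {R S : Type*} [CommRing R] [CommRing S] [Algebra R S]
    (P Q : StandardEtalePair R) (n : ℕ) (hf : Q.f = P.f) (hg : Q.g = P.g ^ (n + 1)) {x : S}
    (h : P.HasMap x) : Q.HasMap x := by
  refine ⟨by rw [hf]; exact h.1, ?_⟩
  rw [hg, map_pow]
  exact h.2.pow _

theorem exists_etale_lift {A A' B K : Type u} [CommRing A] [CommRing A'] [CommRing B] [Field K]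
    [Algebra A A'] (hπ : Function.Surjective (algebraMap A A')) [Algebra A' B] [Algebra.Etale A' B]
    (φ : B →+* K) :
    ∃ (C : Type u) (_ : CommRing C) (_ : Algebra A C) (_ : Algebra.Etale A C)
      (θ : B →ₐ[A'] (A' ⊗[A] C)) (Ψ : A' ⊗[A] C →+* K), Ψ.comp θ.toRingHom = φ := by
  -- the prime `q = ker φ`
  have hq : (RingHom.ker φ).IsPrime := RingHom.ker_isPrime φ
  obtain ⟨g, hg, hstd⟩ := Algebra.IsEtaleAt.exists_isStandardEtale (R := A') (RingHom.ker φ)
  have hgu : IsUnit (φ g) := by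
    rw [isUnit_iff_ne_zero]
    exact fun h => hg ((RingHom.mem_ker).2 h)
  let P := hstd.nonempty_standardEtalePresentation.some
  let φg : Localization.Away g →+* K := IsLocalization.Away.lift g hgu
  have hφg : φg.comp (algebraMap B (Localization.Away g)) = φ := IsLocalization.Away.lift_comp _ _
  obtain ⟨Q, n, hQf, hQg⟩ := exists_standardEtalePair_lift (algebraMap A A') hπ P.P
  -- algebra structures on `K`
  let algA'K : Algebra A' K := (φ.comp (algebraMap A' B)).toAlgebra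
  let algAK : Algebra A K := ((φ.comp (algebraMap A' B)).comp (algebraMap A A')).toAlgebra
  have : IsScalarTower A A' K := IsScalarTower.of_algebraMap_eq fun _ => rfl
  -- `φg` as an `A'`-algebra map
  let φg' : Localization.Away g →ₐ[A'] K :=
    { φg with
      commutes' := fun r => by
        show φg (algebraMap A' (Localization.Away g) r) = φ (algebraMap A' B r)
        rw [IsScalarTower.algebraMap_apply A' B (Localization.Away g), ← hφg]
        rfl }
  let ω : K := φg P.x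
  have hω' : P.HasMap ω := P.hasMap.map φg'
  have hω : Q.HasMap ω := by
    have h1 : (Q.map (algebraMap A A')).HasMap ω :=
      hasMap_pow P.P (Q.map (algebraMap A A')) n hQf hQg hω'
    refine ⟨?_, ?_⟩
    · have := h1.1
      simpa [StandardEtalePair.map] using this
    · have := h1.2
      simpa [StandardEtalePair.map] using this
  let χ : Q.Ring →ₐ[A] K := Q.lift ω hω
  let xbar : A' ⊗[A] Q.Ring := (1 : A') ⊗ₜ[A] Q.X
  have hxbar : P.HasMap xbar := by
    have h1 : Q.HasMap xbar :=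
      Q.hasMap_X.map (Algebra.TensorProduct.includeRight (R := A) (A := A') (B := Q.Ring))
    have h2 : (Q.map (algebraMap A A')).HasMap xbar := h1.map_algebraMap
    exact hasMap_of_pow P.P (Q.map (algebraMap A A')) n hQf hQg h2
  let θ : B →ₐ[A'] (A' ⊗[A] Q.Ring) :=
    ((P.lift xbar hxbar).comp P.equivRing.toAlgHom).comp
      (IsScalarTower.toAlgHom A' B (Localization.Away g))
  let Ψ : A' ⊗[A] Q.Ring →ₐ[A'] K :=
    Algebra.TensorProduct.lift (Algebra.ofId A' K) χ (fun _ _ => Commute.all _ _)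
  refine ⟨Q.Ring, inferInstance, inferInstance, inferInstance, θ, Ψ.toRingHom, ?_⟩
  have key : (Ψ.comp (P.lift xbar hxbar)) = φg'.comp P.equivRing.symm.toAlgHom := by
    apply StandardEtalePair.hom_ext
    simp [Ψ, xbar, χ, φg', ω]
  ext b
  have := congrArg (fun (h : P.Ring →ₐ[A'] K) => h (P.equivRing (algebraMap B _ b))) key
  simp only [AlgHom.comp_apply] at this
  simp [θ, this, φg', ← hφg]

variable {X Y : Scheme.{u}} (f : X ⟶ Y) [IsClosedImmersion f]

theorem exists_lift_etale_nbhd (U : X.Etale) (u : U.left) :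
    ∃ (V : Y.Etale) (h : (EtCoh.bc f).obj V ⟶ U) (p : ((EtCoh.bc f).obj V).left), h.left p = u := by
  -- affine opens
  obtain ⟨Y0, hY0, hyY0, -⟩ := exists_isAffineOpen_mem_and_subset
    (show f (U.hom u) ∈ (⊤ : Y.Opens) from trivial)
  have hX0 : IsAffineOpen (f ⁻¹ᵁ Y0) := hY0.preimage f
  obtain ⟨T0, hT0, huT0, hT0le⟩ := exists_isAffineOpen_mem_and_subset
    (show u ∈ U.hom ⁻¹ᵁ (f ⁻¹ᵁ Y0) from hyY0)
  -- the rings
  let πc : Γ(Y, Y0) ⟶ Γ(X, f ⁻¹ᵁ Y0) := f.appLE Y0 (f ⁻¹ᵁ Y0) le_rfl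
  let βc : Γ(X, f ⁻¹ᵁ Y0) ⟶ Γ(U.left, T0) := U.hom.appLE (f ⁻¹ᵁ Y0) T0 hT0le
  have hπ : Function.Surjective πc.hom := by
    have := f.app_surjective Y0 hY0
    rwa [Scheme.Hom.app_eq_appLE] at this
  have hβ : βc.hom.Etale :=
    HasRingHomProperty.appLE (P := @Etale) U.hom U.prop ⟨_, hX0⟩ ⟨_, hT0⟩ hT0le
  let algπ : Algebra Γ(Y, Y0) Γ(X, f ⁻¹ᵁ Y0) := πc.hom.toAlgebra
  let algβ : Algebra Γ(X, f ⁻¹ᵁ Y0) Γ(U.left, T0) := βc.hom.toAlgebra
  have : Algebra.Etale Γ(X, f ⁻¹ᵁ Y0) Γ(U.left, T0) := hβ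
  let φc : Γ(U.left, T0) ⟶ U.left.residueField u := U.left.evaluation T0 u huT0
  obtain ⟨C, _, _, _, θ, Ψ, hΨ⟩ := exists_etale_lift (A := Γ(Y, Y0)) (A' := Γ(X, f ⁻¹ᵁ Y0))
    (B := Γ(U.left, T0)) (K := U.left.residueField u) hπ φc.hom
  -- the etale `Y`-scheme `V`
  let γc : Γ(Y, Y0) ⟶ CommRingCat.of C := CommRingCat.ofHom (algebraMap Γ(Y, Y0) C)
  have hγ : Etale (Spec.map γc) :=
    (HasRingHomProperty.Spec_iff (P := @Etale)).2 (RingHom.etale_algebraMap.2 inferInstance)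
  let Vhom : Spec (CommRingCat.of C) ⟶ Y := Spec.map γc ≫ hY0.fromSpec
  have hVhom : Etale Vhom := inferInstance
  let V : Y.Etale := Scheme.Etale.mk Vhom
  let pr1 : pullback Vhom f ⟶ Spec (CommRingCat.of C) := pullback.fst Vhom f
  let pr2 : pullback Vhom f ⟶ X := pullback.snd Vhom f
  have hrange : Set.range pr2 ⊆ Set.range hX0.fromSpec := by
    rintro _ ⟨p, rfl⟩
    rw [hX0.range_fromSpec]
    show f (pr2 p) ∈ Y0
    have h1 : f (pr2 p) = Vhom (pr1 p) := by
      have := congrArg (fun k : pullback Vhom f ⟶ Y => k p) (pullback.condition (f := Vhom) (g := f))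
      exact this.symm
    rw [h1]
    have h2 : Vhom (pr1 p) ∈ Set.range hY0.fromSpec := ⟨Spec.map γc (pr1 p), rfl⟩
    rw [hY0.range_fromSpec] at h2
    exact h2
  let pr2' : pullback Vhom f ⟶ Spec Γ(X, f ⁻¹ᵁ Y0) := IsOpenImmersion.lift hX0.fromSpec pr2 hrange
  have hpr2' : pr2' ≫ hX0.fromSpec = pr2 := IsOpenImmersion.lift_fac _ _ _
  have e1 : Spec.map πc ≫ hY0.fromSpec = hX0.fromSpec ≫ f :=
    IsAffineOpen.SpecMap_appLE_fromSpec f hY0 hX0 le_rfl
  have e2 : Spec.map βc ≫ hX0.fromSpec = hT0.fromSpec ≫ U.hom :=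
    IsAffineOpen.SpecMap_appLE_fromSpec U.hom hX0 hT0 hT0le
  have cond : pr2' ≫ Spec.map πc = pr1 ≫ Spec.map γc := by
    rw [← cancel_mono hY0.fromSpec, Category.assoc, Category.assoc, e1, ← Category.assoc, hpr2']
    exact pullback.condition.symm
  -- the map to `Spec (A' ⊗ C)`
  let m : pullback Vhom f ⟶ pullback (Spec.map (CommRingCat.ofHom (algebraMap Γ(Y, Y0) Γ(X, f ⁻¹ᵁ Y0))))
      (Spec.map (CommRingCat.ofHom (algebraMap Γ(Y, Y0) C))) := pullback.lift pr2' pr1 cond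
  let iso := pullbackSpecIso Γ(Y, Y0) Γ(X, f ⁻¹ᵁ Y0) C
  let θc : Γ(U.left, T0) ⟶ CommRingCat.of (Γ(X, f ⁻¹ᵁ Y0) ⊗[Γ(Y, Y0)] C) :=
    CommRingCat.ofHom θ.toRingHom
  let hl : pullback Vhom f ⟶ U.left := m ≫ iso.hom ≫ Spec.map θc ≫ hT0.fromSpec
  have hθβ : βc ≫ θc = CommRingCat.ofHom
      (Algebra.TensorProduct.includeLeftRingHom : Γ(X, f ⁻¹ᵁ Y0) →+* Γ(X, f ⁻¹ᵁ Y0) ⊗[Γ(Y, Y0)] C) := by
    ext a
    exact θ.commutes a
  have hover : hl ≫ U.hom = pr2 := by
    show (m ≫ iso.hom ≫ Spec.map θc ≫ hT0.fromSpec) ≫ U.hom = pr2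
    simp only [Category.assoc]
    rw [← e2, ← Spec.map_comp_assoc, hθβ, pullbackSpecIso_hom_fst_assoc]
    rw [pullback.lift_fst_assoc, hpr2']
  -- the point
  let Ψc : CommRingCat.of (Γ(X, f ⁻¹ᵁ Y0) ⊗[Γ(Y, Y0)] C) ⟶ U.left.residueField u :=
    CommRingCat.ofHom Ψ
  have hΨc : θc ≫ Ψc = φc := by
    ext b
    exact congrArg (fun k : Γ(U.left, T0) →+* U.left.residueField u => k b) hΨ
  let sK' := Spec.map Ψc ≫ iso.inv
  let b' := sK' ≫ pullback.fst _ _
  let a := sK' ≫ pullback.snd _ _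
  have cond2 : a ≫ Vhom = (b' ≫ hX0.fromSpec) ≫ f := by
    show (sK' ≫ pullback.snd _ _) ≫ Spec.map γc ≫ hY0.fromSpec =
      ((sK' ≫ pullback.fst _ _) ≫ hX0.fromSpec) ≫ f
    simp only [Category.assoc]
    rw [← e1]
    have := pullback.condition (f := Spec.map (CommRingCat.ofHom (algebraMap Γ(Y, Y0) Γ(X, f ⁻¹ᵁ Y0))))
      (g := Spec.map (CommRingCat.ofHom (algebraMap Γ(Y, Y0) C)))
    rw [← reassoc_of% this]
    rfl
  let sK : Spec (U.left.residueField u) ⟶ pullback Vhom f := pullback.lift a (b' ≫ hX0.fromSpec) cond2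
  have hsKm : sK ≫ m = sK' := by
    apply pullback.hom_ext
    · rw [Category.assoc, pullback.lift_fst, ← cancel_mono hX0.fromSpec, Category.assoc, hpr2']
      exact pullback.lift_snd _ _ _
    · rw [Category.assoc, pullback.lift_snd]
      exact pullback.lift_fst _ _ _
  have hsKh : sK ≫ hl = U.left.fromSpecResidueField u := by
    show sK ≫ m ≫ iso.hom ≫ Spec.map θc ≫ hT0.fromSpec = _
    rw [← Category.assoc, hsKm]
    show (Spec.map Ψc ≫ iso.inv) ≫ iso.hom ≫ Spec.map θc ≫ hT0.fromSpec = _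
    rw [Category.assoc, Iso.inv_hom_id_assoc, ← Spec.map_comp_assoc, hΨc]
    have e3 := hT0.fromSpecStalk_eq_fromSpecStalk huT0
    calc Spec.map φc ≫ hT0.fromSpec
        = Spec.map (U.left.residue u) ≫ (Spec.map (U.left.presheaf.germ T0 u huT0) ≫ hT0.fromSpec) := by
          rw [← Spec.map_comp_assoc]
          rfl
      _ = Spec.map (U.left.residue u) ≫ U.left.fromSpecStalk u :=
          congrArg (fun k => Spec.map (U.left.residue u) ≫ k) e3
  let pt : Spec (U.left.residueField u) := Classical.arbitrary _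
  refine ⟨V, MorphismProperty.Over.homMk hl hover trivial, sK pt, ?_⟩
  show hl (sK pt) = u
  have := congrArg (fun k : Spec (U.left.residueField u) ⟶ U.left => k pt) hsKh
  exact this.trans (Scheme.fromSpecResidueField_apply _ _)

end Groth.Agent.Lib.EtLiftClosed
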