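import Groth.Agent.Lib.H69EtLocalRing
import Groth.Agent.Lib.EtLiftClosed
import Groth.Prelude.Def_AlgSpOX3
import Groth.Prelude.Def_AlgSpOX2

/-!
# helper69: the stalk of `i_* F` for a closed immersion `i` of algebraic spaces (S9998)

* `exists_lift_raw`: raw form of helper39's lifting of etale neighbourhoods along closed immersions of schemes;
* `bcLift`: the lift of a geometric point of `Z` to the base change of an etale neighbourhood of its image in `X`;
* `exists_refine`: every etale neighbourhood of `z` over the base change of an etale neighbourhood `N₀` of `i(z)` is dominated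
  by the base change of an etale neighbourhood of `i(z)` over `N₀`.
-/

set_option autoImplicit false
universe u
open CategoryTheory CategoryTheory.Limits AlgebraicGeometry Opposite

namespace Groth.Agent.Lib.H69PushClosedStalk

open AlgSp Groth.Agent.Lib.H69EtLocalRing

theorem exists_lift_raw {X Y U : Scheme.{u}} (f : X ⟶ Y) [IsClosedImmersion f] (g : U ⟶ X) [Etale g] (u : U) :
    ∃ (V : Scheme.{u}) (v : V ⟶ Y) (_ : Etale v) (h : pullback v f ⟶ U) (p : ↥(pullback v f)),
      h ≫ g = pullback.snd v f ∧ h p = u := by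
  obtain ⟨V, h, p, hp⟩ := Groth.Agent.Lib.EtLiftClosed.exists_lift_etale_nbhd f (Scheme.Etale.mk g) u
  exact ⟨V.left, V.hom, V.prop, h.left, p, MorphismProperty.Over.w h, hp⟩

variable {S : Scheme.{u}} {Z X : Sp S} (i : Z ⟶ X) (hi : RepWith @IsClosedImmersion i) (z : FieldPt Z)

/-- the lift of `z` to the base change of an etale neighbourhood of `i(z)` -/
noncomputable def bcLift {N : EtOver X} (n : (FieldPt.liftsTo (z.map i)).obj N) :
    (FieldPt.liftsTo z).obj ((EtOver.bc hi.1).obj N) :=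
  ⟨hi.1.lift z.toHom n.1 ((n.2.trans (FieldPt.toHom_map i z)).symm), hi.1.lift_fst _ _ _⟩

theorem bcLift_snd {N : EtOver X} (n : (FieldPt.liftsTo (z.map i)).obj N) :
    (bcLift i hi z n).1 ≫ EtOver.bcπ hi.1 N = n.1 := hi.1.lift_snd _ _ _

theorem bcLift_map {N N' : EtOver X} (q : N' ⟶ N) (n' : (FieldPt.liftsTo (z.map i)).obj N') :
    (FieldPt.liftsTo z).map ((EtOver.bc hi.1).map q) (bcLift i hi z n') =
      bcLift i hi z ((FieldPt.liftsTo (z.map i)).map q n') := by
  apply Subtype.ext
  apply hi.1.hom_ext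
  · have h1 : (yon S).map ((bcLift i hi z n').1 ≫ (EtOver.bcMap hi.1 q).hom.left) ≫ hi.1.fst N.obj.hom =
        (yon S).map (bcLift i hi z n').1 ≫ hi.1.fst N'.obj.hom := by
      rw [Functor.map_comp, Category.assoc]
      exact congrArg (fun t => (yon S).map (bcLift i hi z n').1 ≫ t) (EtOver.map_bcMap_fst hi.1 q)
    exact h1.trans (((bcLift i hi z n').2).trans ((bcLift i hi z ((FieldPt.liftsTo (z.map i)).map q n')).2).symm)
  · have h1 : ((bcLift i hi z n').1 ≫ (EtOver.bcMap hi.1 q).hom.left) ≫ hi.1.snd N.obj.hom =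
        ((bcLift i hi z n').1 ≫ hi.1.snd N'.obj.hom) ≫ q.hom.left := by
      rw [Category.assoc, Category.assoc]
      exact congrArg (fun t => (bcLift i hi z n').1 ≫ t) (EtOver.bcMap_snd hi.1 q)
    refine h1.trans ?_
    have h2 : (bcLift i hi z n').1 ≫ hi.1.snd N'.obj.hom = n'.1 := bcLift_snd i hi z n'
    rw [h2]
    exact (bcLift_snd i hi z ((FieldPt.liftsTo (z.map i)).map q n')).symm

set_option backward.isDefEq.respectTransparency false in
/-- Every etale neighbourhood `M` of `z` over the base change of an etale neighbourhood `N₀` of `i(z)` is dominated by the base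
change of an etale neighbourhood of `i(z)` over `N₀`. -/
theorem exists_refine (hz : z.IsGeometric) {N₀ : EtOver X} (n₀ : (FieldPt.liftsTo (z.map i)).obj N₀)
    {M : EtOver Z} (m : (FieldPt.liftsTo z).obj M) (g : M ⟶ (EtOver.bc hi.1).obj N₀)
    (hg : (FieldPt.liftsTo z).map g m = bcLift i hi z n₀) :
    ∃ (N : EtOver X) (n : (FieldPt.liftsTo (z.map i)).obj N) (q : N ⟶ N₀) (h : (EtOver.bc hi.1).obj N ⟶ M),
      (FieldPt.liftsTo (z.map i)).map q n = n₀ ∧ (FieldPt.liftsTo z).map h (bcLift i hi z n) = m ∧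
        h ≫ g = (EtOver.bc hi.1).map q := by
  have hK : IsAlgClosed z.K := hz
  let Z₀ : EtOver Z := (EtOver.bc hi.1).obj N₀
  let f₀ : Z₀.obj.left.left ⟶ N₀.obj.left.left := (EtOver.bcπ hi.1 N₀).left
  have hf₀ : IsClosedImmersion f₀ := hi.property_snd N₀.obj.hom
  let g₀ : M.obj.left.left ⟶ Z₀.obj.left.left := g.hom.left.left
  have hg₀ : Etale g₀ := EtOver.etale_left g
  obtain ⟨V, v, hv, h, p, hh, hp⟩ := exists_lift_raw f₀ g₀ (m.1.left (default : Spec (CommRingCat.of z.K)))
  have hhe : Etale h := by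
    refine MorphismProperty.HasOfPostcompProperty.of_postcomp (W := @Etale) h g₀ hg₀ ?_
    rw [hh]
    infer_instance
  obtain ⟨pbar, hpbar, -⟩ := Scheme.exists_fac_of_etale_of_isSepClosed (Ω := z.K) h m.1.left p hp
  -- the point of `Z₀`
  have e1 : m.1.left ≫ g₀ = (bcLift i hi z n₀).1.left := congrArg (fun t => t.1.left) hg
  have e2 : (bcLift i hi z n₀).1.left ≫ f₀ = n₀.1.left := congrArg (fun t => t.left) (bcLift_snd i hi z n₀)
  have hsnd : pbar ≫ pullback.snd v f₀ = (bcLift i hi z n₀).1.left := by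
    rw [← hh, ← Category.assoc, hpbar, e1]
  have hv1 : (pbar ≫ pullback.fst v f₀) ≫ v = n₀.1.left := by
    rw [Category.assoc, pullback.condition, ← Category.assoc, hsnd, e2]
  let N : EtOver X := sub N₀ v
  let q : N ⟶ N₀ := subHom N₀ v
  let n : (FieldPt.liftsTo (z.map i)).obj N := subLift N₀ v (z.map i) n₀ (pbar ≫ pullback.fst v f₀) hv1
  have hqn : (FieldPt.liftsTo (z.map i)).map q n = n₀ := map_subHom_subLift N₀ v (z.map i) n₀ _ hv1
  -- the map to the fibre product
  have hk : (EtOver.bcπ hi.1 N).left ≫ v = (EtOver.bcMap hi.1 q).hom.left.left ≫ f₀ :=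
    (congrArg (fun t => t.left) (EtOver.bcMap_snd hi.1 q)).symm
  let k : ((EtOver.bc hi.1).obj N).obj.left.left ⟶ pullback v f₀ :=
    pullback.lift (EtOver.bcπ hi.1 N).left (EtOver.bcMap hi.1 q).hom.left.left hk
  have hkg : (k ≫ h) ≫ g₀ = (EtOver.bcMap hi.1 q).hom.left.left := by
    rw [Category.assoc, hh]
    exact pullback.lift_snd _ _ _
  have hW : (k ≫ h) ≫ M.obj.left.hom = ((EtOver.bc hi.1).obj N).obj.left.hom := by
    have h1 : g₀ ≫ Z₀.obj.left.hom = M.obj.left.hom := Over.w g.hom.left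
    have h2 : (EtOver.bcMap hi.1 q).hom.left.left ≫ Z₀.obj.left.hom = ((EtOver.bc hi.1).obj N).obj.left.hom :=
      Over.w (EtOver.bcMap hi.1 q).hom.left
    rw [← h1, ← Category.assoc, hkg, h2]
  let hO : ((EtOver.bc hi.1).obj N).obj.left ⟶ M.obj.left := Over.homMk (k ≫ h) hW
  have hOg : hO ≫ g.hom.left = (EtOver.bcMap hi.1 q).hom.left := Over.OverMorphism.ext hkg
  have hO2 : (yon S).map hO ≫ M.obj.hom = ((EtOver.bc hi.1).obj N).obj.hom := by
    rw [← EtOver.w g, ← Category.assoc, ← Functor.map_comp, hOg]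
    exact EtOver.w (EtOver.bcMap hi.1 q)
  let h' : (EtOver.bc hi.1).obj N ⟶ M := EtOver.homMk hO hO2
  refine ⟨N, n, q, h', hqn, ?_, EtOver.hom_ext _ _ hOg⟩
  apply Subtype.ext
  apply Over.OverMorphism.ext
  change (bcLift i hi z n).1.left ≫ k ≫ h = m.1.left
  have hpk : (bcLift i hi z n).1.left ≫ k = pbar := by
    apply pullback.hom_ext
    · rw [Category.assoc, pullback.lift_fst]
      exact congrArg (fun t => t.left) (bcLift_snd i hi z n)
    · rw [Category.assoc, pullback.lift_snd, hsnd, ← hqn, ← bcLift_map]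
      rfl
  rw [← Category.assoc, hpk, hpbar]

end Groth.Agent.Lib.H69PushClosedStalk
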