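import Groth.Agent.Lib.LCIBaseChange

/-!
# The Koszul locus of a morphism of flat, finitely presented schemes commutes with base change (helper19)

Namespace `Groth.Agent.Lib.KoszulLocusBC`.

* `kLocus f` : the set of points with affine neighbourhoods `U → V` whose ring map is a local complete intersection.
* `mem_kLocus_iff` : `x ∈ kLocus f ↔ Synt.IsKoszulAt f x`.
* `isOpen_kLocus`.
* `kLocus_baseChange` : for `X → Y → S` with `X`, `Y` flat and locally of finite presentation over `S`,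
  `kLocus f' = gX ⁻¹' kLocus f` for any base change `S' → S`.
-/

set_option autoImplicit false
set_option linter.style.haveILetI false
universe u
open CategoryTheory CategoryTheory.Limits AlgebraicGeometry TopologicalSpace

namespace Groth.Agent.Lib.KoszulLocusBC

open Groth.Agent.Lib.LCIMaps Groth.Agent.Lib.KoszulAtLCI Groth.Agent.Lib.LCIBaseChange

section ring

variable {A B T T₁ T₂ : Type u} [CommRing A] [CommRing B] [CommRing T] [CommRing T₁] [CommRing T₂]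

theorem lciHom_comp_away {φ : A →+* B} (hφ : LCIHom φ) (ψ : B →+* T) (c : B)
    (hloc : @IsLocalization.Away B _ c T _ ψ.toAlgebra) : LCIHom (ψ.comp φ) := by
  refine hφ.comp (lciHom_of_smooth ψ ?_)
  letI := ψ.toAlgebra
  haveI := hloc
  exact Algebra.Smooth.of_isLocalization_Away c

theorem lciHom_away_congr (φ : A →+* B) (ψ₁ : B →+* T₁) (ψ₂ : B →+* T₂) (c : B)
    (h₁ : @IsLocalization.Away B _ c T₁ _ ψ₁.toAlgebra)
    (h₂ : @IsLocalization.Away B _ c T₂ _ ψ₂.toAlgebra) (h : LCIHom (ψ₁.comp φ)) :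
    LCIHom (ψ₂.comp φ) := by
  letI := ψ₁.toAlgebra
  letI := ψ₂.toAlgebra
  haveI := h₁
  haveI := h₂
  let e : T₁ ≃ₐ[B] T₂ := IsLocalization.algEquiv (Submonoid.powers c) T₁ T₂
  have h3 := h.comp_ringEquiv e.toRingEquiv
  convert h3 using 1
  ext a
  exact (e.commutes (φ a)).symm

end ring

section scheme

variable {X Y : Scheme.{u}}

/-- the Koszul locus of `f` -/
def kLocus (f : X ⟶ Y) : Set X :=
  {x | ∃ (U : X.Opens) (V : Y.Opens) (_ : IsAffineOpen U) (_ : IsAffineOpen V) (hUV : U ≤ f ⁻¹ᵁ V),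
    x ∈ U ∧ LCIHom (f.appLE V U hUV).hom}

theorem mem_kLocus_iff (f : X ⟶ Y) (x : X) : x ∈ kLocus f ↔ Synt.IsKoszulAt f x := by
  constructor
  · rintro ⟨U, V, hU, hV, hUV, hx, h⟩
    exact isKoszulAt_of_lciHom f x hU hV hUV hx h
  · intro h
    obtain ⟨V, hV, hxV, -⟩ := Opens.isBasis_iff_nbhd.mp Y.isBasis_affineOpens
      (show f x ∈ (⊤ : Y.Opens) from trivial)
    obtain ⟨U, hU, e, hx, hl⟩ := exists_lciHom_of_isKoszulAt f x h hV hxV
    exact ⟨U, V, hU, hV, e, hx, hl⟩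

theorem isOpen_kLocus (f : X ⟶ Y) : IsOpen (kLocus f) := by
  rw [isOpen_iff_forall_mem_open]
  rintro x ⟨U, V, hU, hV, hUV, hx, h⟩
  exact ⟨U.1, fun y hy => ⟨U, V, hU, hV, hUV, hy, h⟩, U.2, hx⟩

theorem mem_basicOpen_iff_notMem_primeIdealOf {U : X.Opens} (hU : IsAffineOpen U) (x : X) (hx : x ∈ U)
    (s : Γ(X, U)) : x ∈ X.basicOpen s ↔ s ∉ (hU.primeIdealOf ⟨x, hx⟩).asIdeal := by
  have h1 := hU.fromSpec_primeIdealOf ⟨x, hx⟩
  have h2 := hU.fromSpec_preimage_basicOpen s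
  have h3 : x ∈ X.basicOpen s ↔ hU.primeIdealOf ⟨x, hx⟩ ∈ hU.fromSpec ⁻¹ᵁ X.basicOpen s := by
    show _ ↔ hU.fromSpec (hU.primeIdealOf ⟨x, hx⟩) ∈ X.basicOpen s
    rw [h1]
  rw [h3, h2]
  rfl

end scheme

section chart

variable {X Y S X' Y' S' : Scheme.{u}}

set_option maxHeartbeats 1600000 in
/-- the affine chart computation: base change of the lci property downstairs and descent upstairs -/
theorem chart_main (f : X ⟶ Y) (g : Y ⟶ S)
    [Flat (f ≫ g)] [LocallyOfFinitePresentation (f ≫ g)] [Flat g] [LocallyOfFinitePresentation g]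
    (h : S' ⟶ S) (gY : Y' ⟶ Y) (g' : Y' ⟶ S') (hY : IsPullback gY g' g h)
    (gX : X' ⟶ X) (f' : X' ⟶ Y') (hX : IsPullback gX (f' ≫ g') (f ≫ g) h) (w : gX ≫ f = f' ≫ gY)
    {W : S.Opens} (hW : IsAffineOpen W) {W' : S'.Opens} (hW' : IsAffineOpen W') (hW'le : W' ≤ h ⁻¹ᵁ W)
    {V : Y.Opens} (hV : IsAffineOpen V) (hVW : V ≤ g ⁻¹ᵁ W) {U : X.Opens} (hU : IsAffineOpen U)
    (hUV : U ≤ f ⁻¹ᵁ V)
    {V' : Y'.Opens} (hV'def : V' = gY ⁻¹ᵁ V ⊓ g' ⁻¹ᵁ W')
    {U' : X'.Opens} (hU'def : U' = gX ⁻¹ᵁ U ⊓ (f' ≫ g') ⁻¹ᵁ W') :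
    ∃ (_ : IsAffineOpen V') (_ : IsAffineOpen U') (hU'V' : U' ≤ f' ⁻¹ᵁ V'),
      (LCIHom (f.appLE V U hUV).hom → LCIHom (f'.appLE V' U' hU'V').hom) ∧
      (∀ (x' : X') (_ : x' ∈ U') (b' : Γ(X', U')), x' ∈ X'.basicOpen b' →
        LCIHom (f'.appLE V' (X'.basicOpen b') ((X'.basicOpen_le b').trans hU'V')).hom →
        ∃ b : Γ(X, U), gX x' ∈ X.basicOpen b ∧
          LCIHom (f.appLE V (X.basicOpen b) ((X.basicOpen_le b).trans hUV)).hom) := by
  have hUW : U ≤ (f ≫ g) ⁻¹ᵁ W := fun y hy => hVW (hUV hy)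
  have hisoY := isIso_pushoutSection_of_isAffineOpen hY hW'le hVW hV'def hW hW' hV
  have hpoY := (isIso_pushoutSection_iff hY hW'le hVW hV'def).mp hisoY
  have hisoX := isIso_pushoutSection_of_isAffineOpen hX hW'le hUW hU'def hW hW' hU
  have hpoX := (isIso_pushoutSection_iff hX hW'le hUW hU'def).mp hisoX
  have hV' : IsAffineOpen V' := by
    have : IsAffine (W : Scheme) := hW
    have : IsAffine (W' : Scheme) := hW'
    have : IsAffine (V : Scheme) := hV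
    exact IsAffine.of_isIso (Scheme.Hom.isPullback_resLE hY hW'le hVW hV'def).isoPullback.hom
  have hU' : IsAffineOpen U' := by
    have : IsAffine (W : Scheme) := hW
    have : IsAffine (W' : Scheme) := hW'
    have : IsAffine (U : Scheme) := hU
    exact IsAffine.of_isIso (Scheme.Hom.isPullback_resLE hX hW'le hUW hU'def).isoPullback.hom
  have hV'V : V' ≤ gY ⁻¹ᵁ V := hV'def ▸ inf_le_left
  have hV'W' : V' ≤ g' ⁻¹ᵁ W' := hV'def ▸ inf_le_right
  have hU'U : U' ≤ gX ⁻¹ᵁ U := hU'def ▸ inf_le_left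
  have hU'W' : U' ≤ (f' ≫ g') ⁻¹ᵁ W' := hU'def ▸ inf_le_right
  have hU'V' : U' ≤ f' ⁻¹ᵁ V' := by
    intro y hy
    rw [hV'def]
    refine ⟨?_, hU'W' hy⟩
    show gY (f' y) ∈ V
    have : gY (f' y) = f (gX y) := by
      rw [← Scheme.Hom.comp_apply, ← Scheme.Hom.comp_apply, w]
    rw [this]
    exact hUV (hU'U hy)
  refine ⟨hV', hU', hU'V', ?_⟩
  -- ring level
  letI aRA : Algebra Γ(S, W) Γ(Y, V) := (g.appLE W V hVW).hom.toAlgebra
  letI aAB : Algebra Γ(Y, V) Γ(X, U) := (f.appLE V U hUV).hom.toAlgebra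
  letI aRB : Algebra Γ(S, W) Γ(X, U) := ((f ≫ g).appLE W U hUW).hom.toAlgebra
  haveI tRAB : IsScalarTower Γ(S, W) Γ(Y, V) Γ(X, U) := .of_algebraMap_eq fun r => by
    show ((f ≫ g).appLE W U hUW).hom r = (f.appLE V U hUV).hom ((g.appLE W V hVW).hom r)
    rw [← Scheme.Hom.appLE_comp_appLE f g W V U hVW hUV]
    rfl
  letI aRR' : Algebra Γ(S, W) Γ(S', W') := (h.appLE W W' hW'le).hom.toAlgebra
  letI aAA' : Algebra Γ(Y, V) Γ(Y', V') := (gY.appLE V V' hV'V).hom.toAlgebra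
  letI aR'A' : Algebra Γ(S', W') Γ(Y', V') := (g'.appLE W' V' hV'W').hom.toAlgebra
  letI aRA' : Algebra Γ(S, W) Γ(Y', V') :=
    ((algebraMap Γ(Y, V) Γ(Y', V')).comp (algebraMap Γ(S, W) Γ(Y, V))).toAlgebra
  haveI tRAA' : IsScalarTower Γ(S, W) Γ(Y, V) Γ(Y', V') := .of_algebraMap_eq fun _ => rfl
  haveI tRR'A' : IsScalarTower Γ(S, W) Γ(S', W') Γ(Y', V') := .of_algebraMap_eq fun r => by
    have := congrArg (fun φ => φ.hom r) hpoY.w
    exact this
  haveI poA : Algebra.IsPushout Γ(S, W) Γ(Y, V) Γ(S', W') Γ(Y', V') :=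
    CommRingCat.isPushout_iff_isPushout.mp hpoY
  letI aBB' : Algebra Γ(X, U) Γ(X', U') := (gX.appLE U U' hU'U).hom.toAlgebra
  letI aR'B' : Algebra Γ(S', W') Γ(X', U') := ((f' ≫ g').appLE W' U' hU'W').hom.toAlgebra
  letI aRB' : Algebra Γ(S, W) Γ(X', U') :=
    ((algebraMap Γ(X, U) Γ(X', U')).comp (algebraMap Γ(S, W) Γ(X, U))).toAlgebra
  haveI tRBB' : IsScalarTower Γ(S, W) Γ(X, U) Γ(X', U') := .of_algebraMap_eq fun _ => rfl
  haveI tRR'B' : IsScalarTower Γ(S, W) Γ(S', W') Γ(X', U') := .of_algebraMap_eq fun r => by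
    have := congrArg (fun φ => φ.hom r) hpoX.w
    exact this
  haveI poB : Algebra.IsPushout Γ(S, W) Γ(X, U) Γ(S', W') Γ(X', U') :=
    CommRingCat.isPushout_iff_isPushout.mp hpoX
  letI aA'B' : Algebra Γ(Y', V') Γ(X', U') := (f'.appLE V' U' hU'V').hom.toAlgebra
  letI aAB' : Algebra Γ(Y, V) Γ(X', U') :=
    ((algebraMap Γ(X, U) Γ(X', U')).comp (algebraMap Γ(Y, V) Γ(X, U))).toAlgebra
  haveI tABB' : IsScalarTower Γ(Y, V) Γ(X, U) Γ(X', U') := .of_algebraMap_eq fun _ => rfl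
  haveI tAA'B' : IsScalarTower Γ(Y, V) Γ(Y', V') Γ(X', U') := .of_algebraMap_eq fun a => by
    show (gX.appLE U U' hU'U).hom ((f.appLE V U hUV).hom a) =
      (f'.appLE V' U' hU'V').hom ((gY.appLE V V' hV'V).hom a)
    have e1 : U' ≤ (gX ≫ f) ⁻¹ᵁ V := fun y hy => hUV (hU'U hy)
    have h1 : f.appLE V U hUV ≫ gX.appLE U U' hU'U = (gX ≫ f).appLE V U' e1 :=
      Scheme.Hom.appLE_comp_appLE gX f V U U' hUV hU'U
    have h2 : gY.appLE V V' hV'V ≫ f'.appLE V' U' hU'V' = (f' ≫ gY).appLE V U' (w ▸ e1) :=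
      Scheme.Hom.appLE_comp_appLE f' gY V V' U' hV'V hU'V'
    have h3 := appLE_congr_hom (gX ≫ f) (f' ≫ gY) w V U' e1
    have h4 : f.appLE V U hUV ≫ gX.appLE U U' hU'U = gY.appLE V V' hV'V ≫ f'.appLE V' U' hU'V' := by
      rw [h1, h2, h3]
    exact congrArg (fun φ => φ.hom a) h4
  haveI tR'A'B' : IsScalarTower Γ(S', W') Γ(Y', V') Γ(X', U') := .of_algebraMap_eq fun r => by
    show ((f' ≫ g').appLE W' U' hU'W').hom r =
      (f'.appLE V' U' hU'V').hom ((g'.appLE W' V' hV'W').hom r)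
    rw [← Scheme.Hom.appLE_comp_appLE f' g' W' V' U' hV'W' hU'V']
    rfl
  haveI flA : Module.Flat Γ(S, W) Γ(Y, V) := g.flat_appLE hW hV hVW
  haveI flB : Module.Flat Γ(S, W) Γ(X, U) := (f ≫ g).flat_appLE hW hU hUW
  haveI fpA : Algebra.FinitePresentation Γ(S, W) Γ(Y, V) :=
    HasRingHomProperty.appLE @LocallyOfFinitePresentation g inferInstance ⟨W, hW⟩ ⟨V, hV⟩ hVW
  haveI fpB : Algebra.FinitePresentation Γ(S, W) Γ(X, U) :=
    HasRingHomProperty.appLE @LocallyOfFinitePresentation (f ≫ g) inferInstance ⟨W, hW⟩ ⟨U, hU⟩ hUW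
  constructor
  · intro hl
    exact isLCI_baseChange (R := Γ(S, W)) (R' := Γ(S', W')) hl
  · intro x' hx' b' hxb hl
    -- the prime of `x'`
    haveI : (hU'.primeIdealOf ⟨x', hx'⟩).asIdeal.IsPrime := (hU'.primeIdealOf ⟨x', hx'⟩).2
    have hb' : b' ∉ (hU'.primeIdealOf ⟨x', hx'⟩).asIdeal :=
      (mem_basicOpen_iff_notMem_primeIdealOf hU' x' hx' b').mp hxb
    -- `A' → B'_{b'}` is lci
    have hfac' : f'.appLE V' (X'.basicOpen b') ((X'.basicOpen_le b').trans hU'V') =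
        f'.appLE V' U' hU'V' ≫ X'.presheaf.map (homOfLE (X'.basicOpen_le b')).op :=
      (Scheme.Hom.appLE_map f' hU'V' (homOfLE (X'.basicOpen_le b')).op).symm
    have hl1 : LCIHom ((X'.presheaf.map (homOfLE (X'.basicOpen_le b')).op).hom.comp
        (algebraMap Γ(Y', V') Γ(X', U'))) := by
      rw [hfac'] at hl
      exact hl
    have hl2 : LCIHom ((algebraMap Γ(X', U') (Localization.Away b')).comp
        (algebraMap Γ(Y', V') Γ(X', U'))) :=
      lciHom_away_congr _ _ _ b' (hU'.isLocalization_basicOpen b')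
        (by rw [toAlgebra_algebraMap]; infer_instance) hl1
    have hl3 : LCI.IsLCI Γ(Y', V') (Localization.Away b') := by
      rw [← lciHom_algebraMap, IsScalarTower.algebraMap_eq Γ(Y', V') Γ(X', U') (Localization.Away b')]
      exact hl2
    obtain ⟨b, hb, hlb⟩ := exists_isLCI_away_of_baseChange (R := Γ(S, W)) (R' := Γ(S', W'))
      (A := Γ(Y, V)) (B := Γ(X, U)) (hU'.primeIdealOf ⟨x', hx'⟩).asIdeal b' hb' hl3
    refine ⟨b, ?_, ?_⟩
    · have hxU : gX x' ∈ U := hU'U hx'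
      rw [mem_basicOpen_iff_notMem_primeIdealOf hU (gX x') hxU b]
      have hc := IsAffineOpen.comap_primeIdealOf_appLE (f := gX) U hU U' hU' hU'U hx'
      rw [← hc]
      exact hb
    · have hfac : f.appLE V (X.basicOpen b) ((X.basicOpen_le b).trans hUV) =
          f.appLE V U hUV ≫ X.presheaf.map (homOfLE (X.basicOpen_le b)).op :=
        (Scheme.Hom.appLE_map f hUV (homOfLE (X.basicOpen_le b)).op).symm
      rw [← lciHom_algebraMap, IsScalarTower.algebraMap_eq Γ(Y, V) Γ(X, U) (Localization.Away b)] at hlb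
      have hlb2 := lciHom_away_congr _ _ (X.presheaf.map (homOfLE (X.basicOpen_le b)).op).hom b
        (by rw [toAlgebra_algebraMap]; infer_instance) (hU.isLocalization_basicOpen b) hlb
      rw [hfac]
      exact hlb2

/-- **the Koszul locus commutes with base change** -/
theorem kLocus_baseChange (f : X ⟶ Y) (g : Y ⟶ S)
    [Flat (f ≫ g)] [LocallyOfFinitePresentation (f ≫ g)] [Flat g] [LocallyOfFinitePresentation g]
    (h : S' ⟶ S) (gY : Y' ⟶ Y) (g' : Y' ⟶ S') (hY : IsPullback gY g' g h)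
    (gX : X' ⟶ X) (f' : X' ⟶ Y') (hX : IsPullback gX (f' ≫ g') (f ≫ g) h) (w : gX ≫ f = f' ≫ gY) :
    kLocus f' = gX ⁻¹' kLocus f := by
  ext x'
  -- affine opens of the bases
  obtain ⟨W, hW, hsW, -⟩ := Opens.isBasis_iff_nbhd.mp S.isBasis_affineOpens
    (show g (f (gX x')) ∈ (⊤ : S.Opens) from trivial)
  have hgs : h (g' (f' x')) = g (f (gX x')) := by
    have e1 : f (gX x') = gY (f' x') := by
      rw [← Scheme.Hom.comp_apply, ← Scheme.Hom.comp_apply, w]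
    have e2 : h (g' (f' x')) = (g' ≫ h) (f' x') := rfl
    have e3 : g (gY (f' x')) = (gY ≫ g) (f' x') := rfl
    rw [e1, e2, e3, hY.w]
  obtain ⟨W', hW', hsW', hW'le⟩ := Opens.isBasis_iff_nbhd.mp S'.isBasis_affineOpens
    (show g' (f' x') ∈ h ⁻¹ᵁ W from by show h (g' (f' x')) ∈ W; rw [hgs]; exact hsW)
  obtain ⟨V, hV, hyV, hVW⟩ := Opens.isBasis_iff_nbhd.mp Y.isBasis_affineOpens
    (show f (gX x') ∈ g ⁻¹ᵁ W from hsW)
  have hx'V' : f' x' ∈ gY ⁻¹ᵁ V ⊓ g' ⁻¹ᵁ W' := by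
    refine ⟨?_, hsW'⟩
    show gY (f' x') ∈ V
    have e1 : f (gX x') = gY (f' x') := by
      rw [← Scheme.Hom.comp_apply, ← Scheme.Hom.comp_apply, w]
    rw [← e1]
    exact hyV
  constructor
  · intro hx'
    have hK' := (mem_kLocus_iff f' x').mp hx'
    obtain ⟨U, hU, hxU, hUV⟩ := Opens.isBasis_iff_nbhd.mp X.isBasis_affineOpens
      (show gX x' ∈ f ⁻¹ᵁ V from hyV)
    obtain ⟨hV', hU', hU'V', -, hup⟩ := chart_main f g h gY g' hY gX f' hX w hW hW' hW'le hV hVW hU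
      hUV rfl rfl
    have hx'U' : x' ∈ gX ⁻¹ᵁ U ⊓ (f' ≫ g') ⁻¹ᵁ W' := ⟨hxU, hsW'⟩
    obtain ⟨U'', hU'', e'', hx'U'', hl⟩ := exists_lciHom_of_isKoszulAt f' x' hK' hV' hx'V'
    obtain ⟨b', c'', hbc, hxb⟩ := exists_basicOpen_le_affine_inter hU' hU'' x' ⟨hx'U', hx'U''⟩
    have key : ∀ (O : X'.Opens) (_ : O = X'.basicOpen c'')
        (hle : O ≤ f' ⁻¹ᵁ (gY ⁻¹ᵁ V ⊓ g' ⁻¹ᵁ W')), LCIHom (f'.appLE _ O hle).hom := by
      rintro _ rfl hle
      have h1 := lciHom_comp_away hl (X'.presheaf.map (homOfLE (X'.basicOpen_le c'')).op).hom c''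
        (hU''.isLocalization_basicOpen c'')
      have hfac : f'.appLE _ (X'.basicOpen c'') hle =
          f'.appLE _ U'' e'' ≫ X'.presheaf.map (homOfLE (X'.basicOpen_le c'')).op :=
        (Scheme.Hom.appLE_map f' e'' (homOfLE (X'.basicOpen_le c'')).op).symm
      rw [hfac]
      exact h1
    obtain ⟨b, hxb, hlb⟩ := hup x' hx'U' b' hxb (key _ hbc _)
    exact ⟨X.basicOpen b, V, hU.basicOpen b, hV, _, hxb, hlb⟩
  · intro hx
    have hK := (mem_kLocus_iff f (gX x')).mp hx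
    obtain ⟨U, hU, hUV, hxU, hl⟩ := exists_lciHom_of_isKoszulAt f (gX x') hK hV hyV
    obtain ⟨hV', hU', hU'V', hdown, -⟩ := chart_main f g h gY g' hY gX f' hX w hW hW' hW'le hV hVW
      hU hUV rfl rfl
    exact ⟨_, _, hU', hV', hU'V', ⟨hxU, hsW'⟩, hdown hl⟩

end chart

end Groth.Agent.Lib.KoszulLocusBC
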