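import Mathlib
import Groth.Agent.Lib.H14KoszulEtLocal
import Groth.Agent.Lib.H69PushClosedStalk
import Groth.Agent.Lib.KoszulLocusBC

/-!
# Being Koszul at a point descends along étale morphisms of the source (helper83)

* `isKoszulAt_of_comp_smooth` : pointwise cancellation of a smooth morphism on the target.
* `exists_local_factor` : a morphism locally of finite type factors, near a point, as a closed immersion into a
  scheme smooth over the target.
* `isKoszulAt_of_etale_comp` : if `g : X' ⟶ X` is étale, `f : X ⟶ Y` is locally of finite type and `g ≫ f` is Koszul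
  at `x'`, then `f` is Koszul at `g x'`.
* `isKoszulAt_etale_comp_iff`, `isKoszulAt_comp_etale_iff`.
-/

set_option autoImplicit false
set_option linter.style.haveILetI false
universe u

open CategoryTheory CategoryTheory.Limits AlgebraicGeometry

namespace Groth.Agent.Lib.KoszulEtSrc83

open Groth.Agent.Lib Groth.Agent.Lib.KoszulAtLCI Groth.Agent.Lib.LCIMaps
  Groth.Agent.Lib.H14KoszulEtLocal Groth.Agent.Lib.KoszulLocusBC

variable {X Y : Scheme.{u}}

/-- Pointwise cancellation of a smooth morphism on the target. -/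
theorem isKoszulAt_of_comp_smooth {Z : Scheme.{u}} (j : X ⟶ Y) (s : Y ⟶ Z) [Smooth s] (x : X)
    (h : Synt.IsKoszulAt (j ≫ s) x) : Synt.IsKoszulAt j x := by
  let O : X.Opens := ⟨kLocus (j ≫ s), isOpen_kLocus _⟩
  have hxO : x ∈ O := (mem_kLocus_iff _ _).2 h
  have h1 : ∀ y : O, Synt.IsKoszulAt ((O.ι ≫ j) ≫ s) y := by
    intro y
    rw [Category.assoc]
    exact isKoszulAt_smooth_comp O.ι (j ≫ s) y ((mem_kLocus_iff _ _).1 y.2)
  have h2 := Groth.Agent.S9729.result (O.ι ≫ j) s h1 ⟨x, hxO⟩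
  exact isKoszulAt_of_ι_comp j O ⟨x, hxO⟩ h2

/-- A morphism locally of finite type factors, near a point, as a closed immersion into a scheme smooth over the
target. -/
theorem exists_local_factor (f : X ⟶ Y) [LocallyOfFiniteType f] (x : X) :
    ∃ (X₀ : X.Opens) (T : Scheme.{u}) (i : (X₀ : Scheme.{u}) ⟶ T) (π : T ⟶ Y), x ∈ X₀ ∧
      IsClosedImmersion i ∧ Smooth π ∧ i ≫ π = X₀.ι ≫ f := by
  obtain ⟨V, hV, hxV⟩ : ∃ V : Y.Opens, IsAffineOpen V ∧ f x ∈ V := by
    obtain ⟨_, ⟨V, hV, rfl⟩, hxV, -⟩ :=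
      Y.isBasis_affineOpens.exists_subset_of_mem_open (Set.mem_univ (f x)) isOpen_univ
    exact ⟨V, hV, hxV⟩
  obtain ⟨U, hU, hxU, e⟩ : ∃ U : X.Opens, IsAffineOpen U ∧ x ∈ U ∧ U ≤ f ⁻¹ᵁ V := by
    obtain ⟨_, ⟨U, hU, rfl⟩, hxU, hUV⟩ :=
      X.isBasis_affineOpens.exists_subset_of_mem_open (show x ∈ (f ⁻¹ᵁ V : Set X) from hxV)
        (f ⁻¹ᵁ V).2
    exact ⟨U, hU, hxU, hUV⟩
  have hft : (f.appLE V U e).hom.FiniteType :=
    HasRingHomProperty.appLE (P := @LocallyOfFiniteType) f inferInstance ⟨V, hV⟩ ⟨U, hU⟩ e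
  letI := (f.appLE V U e).hom.toAlgebra
  have hft' : Algebra.FiniteType Γ(Y, V) Γ(X, U) := hft
  obtain ⟨n, α, hα⟩ := Algebra.FiniteType.iff_quotient_mvPolynomial''.1 hft'
  let R := MvPolynomial (Fin n) Γ(Y, V)
  let c : Γ(Y, V) ⟶ CommRingCat.of R := CommRingCat.ofHom (algebraMap Γ(Y, V) R)
  let a : CommRingCat.of R ⟶ Γ(X, U) := CommRingCat.ofHom α.toRingHom
  have hca : c ≫ a = f.appLE V U e := by
    ext r
    exact α.commutes r
  let π : Spec (CommRingCat.of R) ⟶ Y := Spec.map c ≫ hV.fromSpec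
  let i₀ : (U : Scheme.{u}) ⟶ Spec (CommRingCat.of R) := hU.isoSpec.hom ≫ Spec.map a
  have hfac : i₀ ≫ π = U.ι ≫ f := by
    simp only [i₀, π, Category.assoc]
    rw [← Spec.map_comp_assoc, hca, IsAffineOpen.SpecMap_appLE_fromSpec f hV hU e,
      ← Category.assoc, hU.isoSpec_hom_fromSpec]
  haveI : Smooth (Spec.map c) := by
    rw [HasRingHomProperty.Spec_iff (P := @Smooth)]
    show (algebraMap Γ(Y, V) R).Smooth
    rw [RingHom.smooth_algebraMap]
    exact ⟨inferInstance, inferInstance⟩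
  haveI : Smooth π := inferInstance
  haveI : IsClosedImmersion (Spec.map a) := IsClosedImmersion.spec_of_surjective a hα
  haveI : IsClosedImmersion i₀ := inferInstance
  exact ⟨U, Spec (CommRingCat.of R), i₀, π, hxU, inferInstance, inferInstance, hfac⟩

/-- **Étale descent on the source** for "Koszul at a point": if `g` is étale, `f` is locally of finite type and
`g ≫ f` is Koszul at `x'`, then `f` is Koszul at `g x'`. -/
theorem isKoszulAt_of_etale_comp {X' : Scheme.{u}} (g : X' ⟶ X) [Etale g] (f : X ⟶ Y)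
    [LocallyOfFiniteType f] (x' : X') (h : Synt.IsKoszulAt (g ≫ f) x') :
    Synt.IsKoszulAt f (g x') := by
  obtain ⟨X₀, T, i, π, hx₀, hi, hπ, hfac⟩ := exists_local_factor f (g x')
  -- restrict `g` over `X₀`
  let g₀ : (g ⁻¹ᵁ X₀ : Scheme.{u}) ⟶ X₀ := g ∣_ X₀
  have hg₀ : Etale g₀ := inferInstance
  have hres : g₀ ≫ X₀.ι = (g ⁻¹ᵁ X₀).ι ≫ g := morphismRestrict_ι g X₀
  let x'₀ : ↥(g ⁻¹ᵁ X₀) := ⟨x', hx₀⟩
  have hgx : g₀ x'₀ = ⟨g x', hx₀⟩ := by
    apply X₀.ι.injective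
    rw [← Scheme.Hom.comp_apply, hres]
    rfl
  obtain ⟨T', v, hv, hh, p, hhg, hp⟩ := H69PushClosedStalk.exists_lift_raw i g₀ x'₀
  have hhE : Etale hh := by
    haveI : Etale (hh ≫ g₀) := by rw [hhg]; infer_instance
    exact MorphismProperty.of_postcomp (W := @Etale) (W' := @Etale) hh g₀ hg₀ inferInstance
  -- `X'' ⟶ T' ⟶ Y` is Koszul at `p`
  have hK1 : Synt.IsKoszulAt (pullback.fst v i ≫ (v ≫ π)) p := by
    have e1 : pullback.fst v i ≫ (v ≫ π) = (hh ≫ (g ⁻¹ᵁ X₀).ι) ≫ (g ≫ f) := by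
      rw [← Category.assoc, pullback.condition, Category.assoc, hfac, ← hhg, Category.assoc,
        Category.assoc, ← Category.assoc g₀, hres, Category.assoc]
    rw [e1]
    refine isKoszulAt_smooth_comp (hh ≫ (g ⁻¹ᵁ X₀).ι) (g ≫ f) p ?_
    have e2 : (hh ≫ (g ⁻¹ᵁ X₀).ι) p = x' := by
      rw [Scheme.Hom.comp_apply, hp]
      rfl
    rw [e2]
    exact h
  have hK2 : Synt.IsKoszulAt (pullback.fst v i) p := isKoszulAt_of_comp_smooth _ (v ≫ π) p hK1
  -- shrink `T'` so that the base change of `i` is Koszul everywhere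
  have hcl : IsClosedImmersion (pullback.fst v i) := inferInstance
  obtain ⟨T'₀set, hT'₀open, hT'₀eq⟩ :=
    (pullback.fst v i).isEmbedding.isOpen_iff.1 (isOpen_kLocus (pullback.fst v i))
  let T'₀ : T'.Opens := ⟨T'₀set, hT'₀open⟩
  have hmem : ∀ y : ↥(pullback v i), y ∈ (pullback.fst v i) ⁻¹ᵁ T'₀ ↔
      Synt.IsKoszulAt (pullback.fst v i) y := by
    intro y
    rw [← mem_kLocus_iff, ← hT'₀eq]
    rfl
  have s1 : IsPullback ((pullback.fst v i) ⁻¹ᵁ T'₀).ι (pullback.fst v i ∣_ T'₀) (pullback.fst v i)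
      T'₀.ι := (isPullback_morphismRestrict (pullback.fst v i) T'₀).flip
  have s2 : IsPullback (pullback.snd v i) (pullback.fst v i) i v :=
    (IsPullback.of_hasPullback v i).flip
  have sq : IsPullback (((pullback.fst v i) ⁻¹ᵁ T'₀).ι ≫ pullback.snd v i)
      (pullback.fst v i ∣_ T'₀) i (T'₀.ι ≫ v) := s1.paste_horiz s2
  have hK : ∀ y, Synt.IsKoszulAt (pullback.fst v i ∣_ T'₀) y := by
    intro y
    refine isKoszulAt_of_comp_smooth _ T'₀.ι y ?_
    rw [morphismRestrict_ι]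
    exact isKoszulAt_smooth_comp _ (pullback.fst v i) y ((hmem _).1 y.2)
  have hpmem : (pullback.fst v i) p ∈ T'₀ := (hmem p).2 hK2
  have hu : i ⟨g x', hx₀⟩ ∈ Set.range (T'₀.ι ≫ v) := by
    refine ⟨⟨(pullback.fst v i) p, hpmem⟩, ?_⟩
    rw [Scheme.Hom.comp_apply]
    have e3 : T'₀.ι ⟨(pullback.fst v i) p, hpmem⟩ = (pullback.fst v i) p := rfl
    rw [e3, ← Scheme.Hom.comp_apply, pullback.condition, Scheme.Hom.comp_apply, ← hhg,
      Scheme.Hom.comp_apply, hp, hgx]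
  haveI : Etale (T'₀.ι ≫ v) := inferInstance
  have h3 : Synt.IsKoszulAt i ⟨g x', hx₀⟩ :=
    isKoszulAt_of_etale_baseChange i (T'₀.ι ≫ v) (pullback.fst v i ∣_ T'₀)
      (((pullback.fst v i) ⁻¹ᵁ T'₀).ι ≫ pullback.snd v i) sq hK ⟨g x', hx₀⟩ hu
  have h4 : Synt.IsKoszulAt (X₀.ι ≫ f) ⟨g x', hx₀⟩ := by
    rw [← hfac]
    exact isKoszulAt_comp_smooth i π _ h3
  exact isKoszulAt_of_ι_comp f X₀ ⟨g x', hx₀⟩ h4

/-- Being Koszul at a point is étale local on the source (morphisms locally of finite type). -/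
theorem isKoszulAt_etale_comp_iff {X' : Scheme.{u}} (g : X' ⟶ X) [Etale g] (f : X ⟶ Y)
    [LocallyOfFiniteType f] (x' : X') :
    Synt.IsKoszulAt (g ≫ f) x' ↔ Synt.IsKoszulAt f (g x') :=
  ⟨isKoszulAt_of_etale_comp g f x', isKoszulAt_smooth_comp g f x'⟩

/-- Being Koszul at a point is insensitive to an étale morphism on the target. -/
theorem isKoszulAt_comp_etale_iff {Z : Scheme.{u}} (f : X ⟶ Y) (e : Y ⟶ Z) [Etale e] (x : X) :
    Synt.IsKoszulAt (f ≫ e) x ↔ Synt.IsKoszulAt f x :=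
  ⟨isKoszulAt_of_comp_smooth f e x, isKoszulAt_comp_smooth f e x⟩

end Groth.Agent.Lib.KoszulEtSrc83
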