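import Mathlib
import Groth.Agent.Lib.KoszulEtSrc83
import Groth.Agent.Lib.AlgSpNear91
import Groth.Agent.Lib.AlgSpStrongChart36
import Groth.Agent.Lib.AlgSpLargestOpen
import Groth.Agent.Lib.H86AlgSpOpen
import Groth.Agent.Lib.AlgSpLocP
import Groth.Agent.S9959

/-!
# The Koszul locus of a morphism of algebraic spaces (helper83)

* `chart_indep` : "Koszul at a point" of the top arrow of an étale chart diagram of a morphism locally of finite
  presentation does not depend on the chart diagram.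
* `locPNear_lci_iff` : `LocPNear lci f (a u)` iff the top arrow of a chart diagram is Koszul at `u`.
* `isOpen_locPNear_lci`, `locP_lci_iff_forall_locPNear`.
* `locPNear_lci_baseChange_iff` : the Koszul locus commutes with base change.
-/

set_option autoImplicit false
set_option linter.style.haveILetI false
universe u
open CategoryTheory CategoryTheory.Limits AlgebraicGeometry Opposite

namespace Groth.Agent.Lib.AlgSpKoszul83

open AlgSp Groth.Agent.Lib.AlgSpNear91 Groth.Agent.Lib.AlgSpPoints Groth.Agent.Lib.AlgSpDecentSpec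
  Groth.Agent.Lib.AlgSpBasic Groth.Agent.Lib.KoszulEtSrc83 Groth.Agent.Lib.AlgSpStrongChart36
  Groth.Agent.Lib.AlgSpFibreChart36

variable {S : Scheme.{u}}

/-- **Chart independence** of "Koszul at a point" for a morphism locally of finite type. -/
theorem chart_indep {X Y : Sp S} (f : X ⟶ Y) (hf : LocP @LocallyOfFiniteType f)
    {U V U' V' : Over S} (a : (yon S).obj U ⟶ X) (b : (yon S).obj V ⟶ Y) (h : U ⟶ V)
    (a' : (yon S).obj U' ⟶ X) (b' : (yon S).obj V' ⟶ Y) (h' : U' ⟶ V')
    (ha : RepWith @Etale a) (hb : RepWith @Etale b) (ha' : RepWith @Etale a')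
    (hb' : RepWith @Etale b') (hc : a ≫ f = (yon S).map h ≫ b) (hc' : a' ≫ f = (yon S).map h' ≫ b')
    (u : ↥U.left) (u' : ↥U'.left) (hu : Points.ofPt a u = Points.ofPt a' u') :
    Synt.IsKoszulAt h.left u ↔ Synt.IsKoszulAt h'.left u' := by
  -- P = U' ×_X U
  have hrP := ((repWith_iff _ _).1 ha').1
  have sqP := hrP.isPullback' a
  obtain ⟨p, hp1, hp2⟩ := exists_point_of_ofPt_eq sqP u' u hu.symm
  have e1 : Etale (hrP.snd a).left := ((repWith_iff _ _).1 ha').2 _ _ _ sqP
  have e2 : Etale (hrP.fst' a).left := ((repWith_iff _ _).1 ha).2 _ _ _ sqP.flip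
  -- Q = V' ×_Y V
  have hrQ := ((repWith_iff _ _).1 hb').1
  have sqQ := hrQ.isPullback' b
  have e3 : Etale (hrQ.snd b).left := ((repWith_iff _ _).1 hb').2 _ _ _ sqQ
  have e4 : Etale (hrQ.fst' b).left := ((repWith_iff _ _).1 hb).2 _ _ _ sqQ.flip
  -- k : P ⟶ Q
  have hk : (yon S).map (hrP.fst' a ≫ h') ≫ b' = (yon S).map (hrP.snd a ≫ h) ≫ b := by
    rw [Functor.map_comp, Functor.map_comp, Category.assoc, Category.assoc, ← hc, ← hc',
      ← Category.assoc, ← Category.assoc, sqP.w]
  let k := hrQ.lift' (hrP.fst' a ≫ h') (hrP.snd a ≫ h) hk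
  have k1 : k ≫ hrQ.fst' b = hrP.fst' a ≫ h' := hrQ.lift'_fst _ _ hk
  have k2 : k ≫ hrQ.snd b = hrP.snd a ≫ h := hrQ.lift'_snd _ _ hk
  have k1' : k.left ≫ (hrQ.fst' b).left = (hrP.fst' a).left ≫ h'.left := by
    rw [← Over.comp_left, k1, Over.comp_left]
  have k2' : k.left ≫ (hrQ.snd b).left = (hrP.snd a).left ≫ h.left := by
    rw [← Over.comp_left, k2, Over.comp_left]
  haveI : LocallyOfFiniteType h.left := hf a b h ha hb hc
  haveI : LocallyOfFiniteType h'.left := hf a' b' h' ha' hb' hc'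
  haveI := e1; haveI := e2; haveI := e3; haveI := e4
  have r1 : Synt.IsKoszulAt h.left u ↔ Synt.IsKoszulAt k.left p := by
    rw [← hp2, ← isKoszulAt_etale_comp_iff (hrP.snd a).left h.left p, ← k2',
      isKoszulAt_comp_etale_iff]
  have r2 : Synt.IsKoszulAt h'.left u' ↔ Synt.IsKoszulAt k.left p := by
    rw [← hp1, ← isKoszulAt_etale_comp_iff (hrP.fst' a).left h'.left p, ← k1',
      isKoszulAt_comp_etale_iff]
  rw [r1, r2]

/-- "Koszul at a point" (open-neighbourhood form) can be tested on one étale chart diagram. -/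
theorem locPNear_lci_iff {X Y : Sp S} (f : X ⟶ Y) (hf : LocP @LocallyOfFiniteType f)
    {U V : Over S} (a : (yon S).obj U ⟶ X) (b : (yon S).obj V ⟶ Y) (k : U ⟶ V)
    (ha : RepWith @Etale a) (hb : RepWith @Etale b) (hc : a ≫ f = (yon S).map k ≫ b) (u : ↥U.left) :
    LocPNear lci f (Points.ofPt a u) ↔ Synt.IsKoszulAt k.left u := by
  haveI : LocallyOfFiniteType k.left := hf a b k ha hb hc
  constructor
  · rintro ⟨W, j, hj, ⟨w, hw⟩, hL⟩
    have sq := hj.rep.isPullback a
    obtain ⟨t', ht', -⟩ := exists_of_isPullback_yon sq w u hw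
    have hψ : IsOpenImmersion (hj.rep.snd a).left := hj.property_snd a
    have hg' : RepWith @Etale (hj.rep.fst a) := repWith_fst_of_isPullback _ sq ha
    have hcW : hj.rep.fst a ≫ (j ≫ f) = (yon S).map (hj.rep.snd a ≫ k) ≫ b := by
      rw [← Category.assoc, sq.w, Category.assoc, hc, Functor.map_comp, Category.assoc]
    have h1 : ∀ t, Synt.IsKoszulAt (hj.rep.snd a ≫ k).left t := hL _ b _ hg' hb hcW
    have h2 := h1 t'
    rw [Over.comp_left] at h2
    have h3 := isKoszulAt_of_etale_comp (hj.rep.snd a).left k.left t' h2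
    rwa [ht'] at h3
  · intro hK
    -- the open subspace: the image of the Koszul locus of the chart
    have hopen : IsOpen (Points.ofPt a '' KoszulLocusBC.kLocus k.left) :=
      Groth.Agent.Lib.H86AlgSpPoints.isOpenMap_ofPt ha _ (KoszulLocusBC.isOpen_kLocus k.left)
    refine ⟨Groth.Agent.Lib.H86AlgSpOpen.openSub X _, Groth.Agent.Lib.H86AlgSpOpen.openSubι X _,
      Groth.Agent.Lib.H86AlgSpOpen.openSubι_repWith hopen, ?_, ?_⟩
    · rw [Groth.Agent.Lib.H86AlgSpOpen.range_map_openSubι]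
      exact ⟨u, (KoszulLocusBC.mem_kLocus_iff _ _).2 hK, rfl⟩
    · intro U' V' a' b' k' ha' hb' hc' u'
      have hj := Groth.Agent.Lib.H86AlgSpOpen.openSubι_repWith (F := X) hopen
      have hje := Groth.Agent.Lib.AlgSpLargestOpen.repWith_etale_of_isOpenImmersion hj
      have hmem : Points.map (Groth.Agent.Lib.H86AlgSpOpen.openSubι X
          (Points.ofPt a '' KoszulLocusBC.kLocus k.left)) (Points.ofPt a' u') ∈
          Points.ofPt a '' KoszulLocusBC.kLocus k.left := by
        have h0 : Points.map (Groth.Agent.Lib.H86AlgSpOpen.openSubι X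
            (Points.ofPt a '' KoszulLocusBC.kLocus k.left)) (Points.ofPt a' u') ∈
            Set.range (Points.map (Groth.Agent.Lib.H86AlgSpOpen.openSubι X
              (Points.ofPt a '' KoszulLocusBC.kLocus k.left))) := ⟨_, rfl⟩
        rwa [Groth.Agent.Lib.H86AlgSpOpen.range_map_openSubι] at h0
      obtain ⟨u₀, hu₀, hu₀'⟩ := hmem
      rw [Points.map_ofPt] at hu₀'
      have hc'' : (a' ≫ Groth.Agent.Lib.H86AlgSpOpen.openSubι X
          (Points.ofPt a '' KoszulLocusBC.kLocus k.left)) ≫ f = (yon S).map k' ≫ b' := by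
        rw [Category.assoc]; exact hc'
      exact (chart_indep f hf a b k _ b' k' ha hb (MorphismProperty.comp_mem _ _ _ ha' hje) hb' hc
        hc'' u₀ u' hu₀').1 ((KoszulLocusBC.mem_kLocus_iff _ _).1 hu₀)

/-- The set of points at which a morphism is Koszul (open-neighbourhood form) is open. -/
theorem isOpen_locPNear_lci {X Y : Sp S} (f : X ⟶ Y) :
    IsOpen {x : Points X | LocPNear lci f x} := by
  rw [isOpen_iff_forall_mem_open]
  rintro x ⟨W, j, hj, hx, hL⟩
  refine ⟨Set.range (Points.map j), ?_, ?_, hx⟩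
  · intro y hy
    exact ⟨W, j, hj, hy, hL⟩
  · exact (Groth.Agent.Lib.H86AlgSpPoints.isOpenMap_map_of_etale
      (Groth.Agent.Lib.AlgSpLargestOpen.repWith_etale_of_isOpenImmersion hj)).isOpen_range

/-- A morphism locally of finite presentation is a Koszul morphism iff it is Koszul at every point. -/
theorem locP_lci_iff_forall_locPNear {X Y : Sp S} (f : X ⟶ Y)
    (hf : LocP @LocallyOfFiniteType f) :
    LocP lci f ↔ ∀ x : Points X, LocPNear lci f x := by
  constructor
  · intro h x
    refine ⟨X, 𝟙 X, Groth.Agent.Lib.AlgSpLargestOpen.repWith_isOpenImmersion_id X, ⟨x, ?_⟩, ?_⟩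
    · rw [Points.map_id]
    · rw [Category.id_comp]; exact h
  · intro h U V a b k ha hb hc u
    exact (locPNear_lci_iff f hf a b k ha hb hc u).1 (h _)

/-- **The Koszul locus commutes with base change** (algebraic spaces): for `X ⟶ Y ⟶ Z` with `X/Z` and `Y/Z` flat and
locally of finite presentation, and the base change along `Z' ⟶ Z`. -/
theorem locPNear_lci_baseChange_iff {X Y Z X' Y' Z' : Sp S} (hX : IsAlgSpace X) (hY : IsAlgSpace Y)
    (hZ : IsAlgSpace Z) (hZ' : IsAlgSpace Z')
    (f : X ⟶ Y) (q : Y ⟶ Z) (hp1 : LocP @Flat (f ≫ q))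
    (hp2 : LocP @LocallyOfFinitePresentation (f ≫ q)) (hq1 : LocP @Flat q)
    (hq2 : LocP @LocallyOfFinitePresentation q)
    {g : Z' ⟶ Z} {gY : Y' ⟶ Y} {q' : Y' ⟶ Z'} (sq1 : IsPullback gY q' q g)
    {gX : X' ⟶ X} {f' : X' ⟶ Y'} (sq2 : IsPullback gX f' f gY)
    (hf : LocP @LocallyOfFiniteType f) (hf' : LocP @LocallyOfFiniteType f')
    (x' : Points X') :
    LocPNear lci f' x' ↔ LocPNear lci f (Points.map gX x') := by
  obtain ⟨W, c, hc, hcs⟩ := hZ.atlas
  obtain ⟨W', c', gW, hc', hc's, commW, -⟩ := exists_global_chart hZ' g c hc hcs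
  obtain ⟨V, b, k₂, hV⟩ := exists_strong_chart hY q c hc
  have hb := hV.repWith_etale hc
  obtain ⟨U, a, k₁, hU⟩ := exists_strong_chart hX f b hb
  have ha := hU.repWith_etale hb
  -- the scheme-level base change of `V`
  let V' : Over S := Over.mk (pullback.fst k₂.left gW.left ≫ V.hom)
  let ιV : V' ⟶ V := Over.homMk (pullback.fst k₂.left gW.left) rfl
  have hτV : pullback.snd k₂.left gW.left ≫ W'.hom = V'.hom := by
    change _ = pullback.fst k₂.left gW.left ≫ V.hom
    rw [← Over.w gW, ← Category.assoc, ← pullback.condition, Category.assoc, Over.w k₂]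
  let τV : V' ⟶ W' := Over.homMk (pullback.snd k₂.left gW.left) hτV
  have hwV : ιV ≫ k₂ = τV ≫ gW := by
    ext
    exact pullback.condition
  let b' : (yon S).obj V' ⟶ Y' := sq1.lift ((yon S).map ιV ≫ b) ((yon S).map τV ≫ c') (by
    rw [Category.assoc, hV.comm, Category.assoc, commW, ← Category.assoc, ← Category.assoc,
      ← Functor.map_comp, ← Functor.map_comp, hwV])
  have hb'1 : b' ≫ gY = (yon S).map ιV ≫ b := sq1.lift_fst _ _ _
  have hb'2 : b' ≫ q' = (yon S).map τV ≫ c' := sq1.lift_snd _ _ _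
  have hV' : IsStrongChart q' b' c' τV :=
    hV.baseChange sq1 c' gW commW ιV τV (IsPullback.of_hasPullback k₂.left gW.left) b' hb'1 hb'2
  have hb' := hV'.repWith_etale hc'
  have hb's := hV'.repWith_surjective hc's
  -- the scheme-level base change of `U`
  let U' : Over S := Over.mk (pullback.fst k₁.left ιV.left ≫ U.hom)
  let ιU : U' ⟶ U := Over.homMk (pullback.fst k₁.left ιV.left) rfl
  have hτU : pullback.snd k₁.left ιV.left ≫ V'.hom = U'.hom := by
    change _ = pullback.fst k₁.left ιV.left ≫ U.hom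
    rw [← Over.w ιV, ← Category.assoc, ← pullback.condition, Category.assoc, Over.w k₁]
  let τU : U' ⟶ V' := Over.homMk (pullback.snd k₁.left ιV.left) hτU
  have hwU : ιU ≫ k₁ = τU ≫ ιV := by
    ext
    exact pullback.condition
  let a' : (yon S).obj U' ⟶ X' := sq2.lift ((yon S).map ιU ≫ a) ((yon S).map τU ≫ b') (by
    rw [Category.assoc, hU.comm, Category.assoc, hb'1, ← Category.assoc, ← Category.assoc,
      ← Functor.map_comp, ← Functor.map_comp, hwU])
  have ha'1 : a' ≫ gX = (yon S).map ιU ≫ a := sq2.lift_fst _ _ _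
  have ha'2 : a' ≫ f' = (yon S).map τU ≫ b' := sq2.lift_snd _ _ _
  have hU' : IsStrongChart f' a' b' τU :=
    hU.baseChange sq2 b' ιV hb'1 ιU τU (IsPullback.of_hasPullback k₁.left ιV.left) a' ha'1 ha'2
  have ha' := hU'.repWith_etale hb'
  have ha's := hU'.repWith_surjective hb's
  obtain ⟨u', rfl⟩ := Groth.Agent.Lib.H86AlgSpPoints.ofPt_surjective ha's x'
  have hpt : Points.map gX (Points.ofPt a' u') = Points.ofPt a (ιU.left u') := by
    rw [Points.map_ofPt, ha'1, Groth.Agent.Lib.AlgSpPoints.ofPt_yon_map_comp]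
  rw [hpt, locPNear_lci_iff f' hf' a' b' τU ha' hb' ha'2 u',
    locPNear_lci_iff f hf a b k₁ ha hb hU.comm]
  have commUW : a ≫ (f ≫ q) = (yon S).map (k₁ ≫ k₂) ≫ c := by
    rw [← Category.assoc, hU.comm, Category.assoc, hV.comm, Functor.map_comp, Category.assoc]
  have i1 : LocallyOfFinitePresentation (k₁.left ≫ k₂.left) := hp2 a c (k₁ ≫ k₂) ha hc commUW
  have i2 : Flat (k₁.left ≫ k₂.left) := hp1 a c (k₁ ≫ k₂) ha hc commUW
  have i3 : LocallyOfFinitePresentation k₂.left := hq2 b c k₂ hb hc hV.comm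
  have i4 : Flat k₂.left := hq1 b c k₂ hb hc hV.comm
  have sqY : IsPullback ιV.left τV.left k₂.left gW.left := IsPullback.of_hasPullback k₂.left gW.left
  have sqX0 : IsPullback ιU.left τU.left k₁.left ιV.left :=
    IsPullback.of_hasPullback k₁.left ιV.left
  have sqX : IsPullback ιU.left (τU.left ≫ τV.left) (k₁.left ≫ k₂.left) gW.left :=
    sqX0.paste_vert sqY
  have key := KoszulLocusBC.kLocus_baseChange k₁.left k₂.left gW.left ιV.left τV.left sqY ιU.left
    τU.left sqX sqX0.w
  rw [← KoszulLocusBC.mem_kLocus_iff, ← KoszulLocusBC.mem_kLocus_iff, key]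
  rfl

end Groth.Agent.Lib.AlgSpKoszul83
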