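import Mathlib
import Groth.Agent.Lib.KoszulEtSrc83
import Groth.Agent.S8658

/-!
# Flat descent for "Koszul at every point" (helper83)

* `lci` : the morphism property "Koszul at every point" (`= AlgSp.lci`), with `RespectsIso`,
  `IsZariskiLocalAtTarget` and `DescendsAlong (Surjective ⊓ Flat ⊓ QuasiCompact)` instances.
* `locallyOfFiniteType_of_forall_isKoszulAt`.
* `isKoszulAt_of_flat_baseChange_of_quasiSection` : descent along a flat morphism `r : V' ⟶ V` admitting an étale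
  quasi-section `V'' ⟶ V'` (no quasi-compactness or openness assumption on `r`).
-/

set_option autoImplicit false
set_option linter.style.haveILetI false
universe u

open CategoryTheory CategoryTheory.Limits AlgebraicGeometry

namespace Groth.Agent.Lib.KoszulFlatDesc83

open Groth.Agent.Lib Groth.Agent.Lib.KoszulAtLCI Groth.Agent.Lib.H14KoszulEtLocal
  Groth.Agent.Lib.KoszulEtSrc83

/-- "Koszul at every point" as a morphism property. -/
def lci : MorphismProperty Scheme.{u} := fun _ _ f => ∀ x, Synt.IsKoszulAt f x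

theorem lci_iff {X Y : Scheme.{u}} (f : X ⟶ Y) : lci f ↔ ∀ x, Synt.IsKoszulAt f x := Iff.rfl

instance : (lci.{u}).RespectsIso := by
  apply MorphismProperty.RespectsIso.mk
  · intro X Y Z e f hf x
    exact isKoszulAt_smooth_comp e.hom f x (hf _)
  · intro X Y Z e f hf x
    exact isKoszulAt_comp_smooth f e.hom x (hf _)

instance : IsZariskiLocalAtTarget lci.{u} := by
  apply IsZariskiLocalAtTarget.mk'
  · intro X Y f U hf x
    refine isKoszulAt_of_comp_smooth (f ∣_ U) U.ι x ?_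
    rw [morphismRestrict_ι]
    exact isKoszulAt_smooth_comp _ f x (hf _)
  · intro X Y f ι U hU hf x
    have hx : f x ∈ (⊤ : Y.Opens) := trivial
    rw [← hU, TopologicalSpace.Opens.mem_iSup] at hx
    obtain ⟨i, hi⟩ := hx
    have h1 : Synt.IsKoszulAt ((f ∣_ U i) ≫ (U i).ι) ⟨x, hi⟩ :=
      isKoszulAt_comp_smooth _ (U i).ι _ (hf i ⟨x, hi⟩)
    rw [morphismRestrict_ι] at h1
    exact isKoszulAt_of_ι_comp f (f ⁻¹ᵁ U i) ⟨x, hi⟩ h1

instance : (lci.{u}).DescendsAlong (@Surjective ⊓ @Flat ⊓ @QuasiCompact) where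
  of_isPullback {A X Y Z fst snd f g} sq hf hfst := by
    obtain ⟨⟨h1, h2⟩, h3⟩ := hf
    haveI : Surjective f := h1
    haveI : Flat f := h2
    haveI : QuasiCompact f := h3
    exact fun y => KoszulAtDescent.isKoszulAt_of_baseChange g f fst snd sq.flip hfst y

/-- A morphism which is Koszul at every point is locally of finite type. -/
theorem locallyOfFiniteType_of_forall_isKoszulAt {X Y : Scheme.{u}} (f : X ⟶ Y)
    (h : ∀ x, Synt.IsKoszulAt f x) : LocallyOfFiniteType f := by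
  choose U P i π hx hlft _ _ _ using h
  have hU : iSup U = ⊤ := by
    rw [eq_top_iff]
    intro x _
    exact TopologicalSpace.Opens.mem_iSup.2 ⟨x, hx x⟩
  exact (IsZariskiLocalAtSource.iff_of_iSup_eq_top (P := @LocallyOfFiniteType) U hU).2 hlft

/-- **Flat descent with an étale quasi-section**: if the base change of `h` along a flat morphism `r : V' ⟶ V` is
Koszul at every point, and `e = s ≫ r : V'' ⟶ V` is étale for some `s : V'' ⟶ V'`, then `h` is Koszul at every point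
over the image of `e`. -/
theorem isKoszulAt_of_flat_baseChange_of_quasiSection {U V U' V' V'' : Scheme.{u}}
    (h : U ⟶ V) (r : V' ⟶ V) [Flat r] (h' : U' ⟶ V') (pr : U' ⟶ U) (sq : IsPullback pr h' h r)
    (hK : ∀ x', Synt.IsKoszulAt h' x') (e : V'' ⟶ V) [Etale e] (s : V'' ⟶ V') (hs : s ≫ r = e)
    (u : U) (hu : h u ∈ Set.range e) : Synt.IsKoszulAt h u := by
  obtain ⟨v'', hv''⟩ := hu
  have hrs : ∀ z : V'', r (s z) = e z := fun z => by
    rw [← Scheme.Hom.comp_apply, hs]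
  obtain ⟨V₁, hV₁, huV₁⟩ : ∃ V₁ : V.Opens, IsAffineOpen V₁ ∧ h u ∈ V₁ := by
    obtain ⟨_, ⟨V₁, hV₁, rfl⟩, huV₁, -⟩ :=
      V.isBasis_affineOpens.exists_subset_of_mem_open (Set.mem_univ (h u)) isOpen_univ
    exact ⟨V₁, hV₁, huV₁⟩
  have hsv : s v'' ∈ r ⁻¹ᵁ V₁ := by
    show r (s v'') ∈ V₁
    rw [hrs, hv'']
    exact huV₁
  obtain ⟨V'₁, hV'₁, hv'V'₁, hle⟩ : ∃ V'₁ : V'.Opens, IsAffineOpen V'₁ ∧ s v'' ∈ V'₁ ∧
      V'₁ ≤ r ⁻¹ᵁ V₁ := by
    obtain ⟨_, ⟨W, hW, rfl⟩, h1, h2⟩ :=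
      V'.isBasis_affineOpens.exists_subset_of_mem_open hsv (r ⁻¹ᵁ V₁).2
    exact ⟨W, hW, h1, h2⟩
  -- the open image of `s⁻¹ V'₁`
  have hopen : IsOpen (e '' ((s ⁻¹ᵁ V'₁ : V''.Opens) : Set V'')) := e.isOpenMap _ (s ⁻¹ᵁ V'₁).2
  let N : V.Opens := ⟨e '' ((s ⁻¹ᵁ V'₁ : V''.Opens) : Set V''), hopen⟩
  have huN : h u ∈ N := ⟨v'', hv'V'₁, hv''⟩
  obtain ⟨a, haN, hua⟩ := hV₁.exists_basicOpen_le (V := N) ⟨h u, huN⟩ huV₁
  let V₀ : V.Opens := V.basicOpen a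
  have hV₀ : IsAffineOpen V₀ := hV₁.basicOpen a
  have hV₀le : V₀ ≤ V₁ := V.basicOpen_le a
  let V'₀ : V'.Opens := V'.basicOpen (r.appLE V₁ V'₁ hle a)
  have hV'₀ : IsAffineOpen V'₀ := hV'₁.basicOpen _
  have hV'₀eq : V'₀ = V'₁ ⊓ r ⁻¹ᵁ V₀ := Scheme.basicOpen_appLE r V'₁ V₁ hle a
  let r'' : (V'₀ : Scheme.{u}) ⟶ V := V'₀.ι ≫ r
  have hrange : Set.range r'' ⊆ Set.range V₀.ι := by
    rw [Scheme.Opens.range_ι]
    rintro _ ⟨y, rfl⟩
    have hy : y.1 ∈ V'₁ ⊓ r ⁻¹ᵁ V₀ := by rw [← hV'₀eq]; exact y.2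
    exact hy.2
  let r₀ : (V'₀ : Scheme.{u}) ⟶ V₀ := IsOpenImmersion.lift V₀.ι r'' hrange
  have hr₀ : r₀ ≫ V₀.ι = r'' := IsOpenImmersion.lift_fac _ _ _
  have hflat : Flat r₀ :=
    MorphismProperty.of_postcomp (W := @Flat) (W' := MorphismProperty.monomorphisms Scheme.{u})
      r₀ V₀.ι (inferInstanceAs (Mono V₀.ι)) (by rw [hr₀]; infer_instance)
  have hsurj : Surjective r₀ := by
    refine ⟨fun y => ?_⟩
    obtain ⟨z, hz, hzy⟩ := haN y.2
    have hmem : s z ∈ V'₀ := by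
      rw [hV'₀eq]
      refine ⟨hz, ?_⟩
      show r (s z) ∈ V₀
      rw [hrs, hzy]
      exact y.2
    refine ⟨⟨s z, hmem⟩, ?_⟩
    apply V₀.ι.injective
    rw [← Scheme.Hom.comp_apply, hr₀]
    show r (s z) = y.1
    rw [hrs, hzy]
  have : IsAffine (V₀ : Scheme.{u}) := hV₀
  have : IsAffine (V'₀ : Scheme.{u}) := hV'₀
  have hqc : QuasiCompact r₀ := inferInstance
  -- the restricted morphisms
  let U₀ : U.Opens := h ⁻¹ᵁ V₀
  let U'' : U'.Opens := h' ⁻¹ᵁ V'₀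
  have s1 : IsPullback U''.ι (h' ∣_ V'₀) h' V'₀.ι := (isPullback_morphismRestrict h' V'₀).flip
  have big : IsPullback (U''.ι ≫ pr) (h' ∣_ V'₀) h (V'₀.ι ≫ r) := s1.paste_horiz sq
  have right : IsPullback U₀.ι (h ∣_ V₀) h V₀.ι := (isPullback_morphismRestrict h V₀).flip
  have hrange' : Set.range (U''.ι ≫ pr) ⊆ Set.range U₀.ι := by
    rw [Scheme.Opens.range_ι]
    rintro _ ⟨y, rfl⟩
    show h ((U''.ι ≫ pr) y) ∈ V₀
    rw [← Scheme.Hom.comp_apply, Category.assoc, sq.w, ← Category.assoc, Scheme.Hom.comp_apply]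
    have hy : h' (U''.ι y) ∈ V'₁ ⊓ r ⁻¹ᵁ V₀ := by rw [← hV'₀eq]; exact y.2
    exact hy.2
  let k : (U'' : Scheme.{u}) ⟶ U₀ := IsOpenImmersion.lift U₀.ι (U''.ι ≫ pr) hrange'
  have hk : k ≫ U₀.ι = U''.ι ≫ pr := IsOpenImmersion.lift_fac _ _ _
  have hcomm : k ≫ (h ∣_ V₀) = (h' ∣_ V'₀) ≫ r₀ := by
    rw [← cancel_mono V₀.ι, Category.assoc, Category.assoc, hr₀, ← right.w, ← Category.assoc, hk]
    exact big.w
  have left : IsPullback k (h' ∣_ V'₀) (h ∣_ V₀) r₀ := by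
    refine IsPullback.of_right ?_ hcomm right
    rw [hk, hr₀]
    exact big
  have hK'' : ∀ x'', Synt.IsKoszulAt (h' ∣_ V'₀) x'' := by
    intro x''
    refine isKoszulAt_of_comp_smooth (h' ∣_ V'₀) V'₀.ι x'' ?_
    rw [← s1.w]
    exact isKoszulAt_smooth_comp U''.ι h' x'' (hK _)
  have hu₀ : u ∈ U₀ := hua
  have h2 : Synt.IsKoszulAt (h ∣_ V₀) ⟨u, hu₀⟩ :=
    KoszulAtDescent.isKoszulAt_of_baseChange (h ∣_ V₀) r₀ (h' ∣_ V'₀) k left hK'' ⟨u, hu₀⟩
  have h3 : Synt.IsKoszulAt (U₀.ι ≫ h) ⟨u, hu₀⟩ := by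
    rw [right.w]
    exact isKoszulAt_comp_smooth _ V₀.ι _ h2
  exact isKoszulAt_of_ι_comp h U₀ ⟨u, hu₀⟩ h3

end Groth.Agent.Lib.KoszulFlatDesc83
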