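import Mathlib
import Groth.Agent.Lib.KoszulFlatDesc83
import Groth.Agent.Lib.AlgSpKoszul83
import Groth.Agent.Lib.AlgSpFpqcLocP
import Groth.Agent.Lib.AlgSpFpqcIso

/-!
# Koszul (lci) morphisms of algebraic spaces: flat base change and fpqc descent (helper83)

* `locP_lft_of_locP_lci`, `locP_lci_of_chart`.
* `exists_baseChange_strongChart` : base change of a strong chart along an arbitrary morphism of the target, over a
  given étale chart of the new target.
* `locP_lci_of_isPullback_flat` : Koszul morphisms are stable under flat base change.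
* `locP_lci_of_hasFpqcRefinement` : fpqc descent.
-/

set_option autoImplicit false
set_option linter.style.haveILetI false
universe u
open CategoryTheory CategoryTheory.Limits AlgebraicGeometry Opposite

namespace Groth.Agent.Lib.AlgSpLCIFpqc83

open AlgSp Groth.Agent.Lib.AlgSpNear91 Groth.Agent.Lib.AlgSpPoints Groth.Agent.Lib.AlgSpDecentSpec
  Groth.Agent.Lib.AlgSpBasic Groth.Agent.Lib.KoszulEtSrc83 Groth.Agent.Lib.AlgSpStrongChart36
  Groth.Agent.Lib.AlgSpFibreChart36 Groth.Agent.Lib.AlgSpKoszul83 Groth.Agent.Lib.KoszulFlatDesc83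

variable {S : Scheme.{u}}

/-- A Koszul morphism is locally of finite type. -/
theorem locP_lft_of_locP_lci {X Y : Sp S} {f : X ⟶ Y} (h : LocP AlgSp.lci f) :
    LocP @LocallyOfFiniteType f := fun _ _ a b k ha hb hc =>
  locallyOfFiniteType_of_forall_isKoszulAt k.left (h a b k ha hb hc)

/-- A morphism locally of finite type is Koszul as soon as one étale chart diagram with surjective source chart has a
Koszul top arrow. -/
theorem locP_lci_of_chart {X Y : Sp S} (f : X ⟶ Y) (hft : LocP @LocallyOfFiniteType f)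
    {U V : Over S} (a : (yon S).obj U ⟶ X) (b : (yon S).obj V ⟶ Y) (k : U ⟶ V)
    (ha : RepWith @Etale a) (has : RepWith @Surjective a) (hb : RepWith @Etale b)
    (hc : a ≫ f = (yon S).map k ≫ b) (hK : ∀ u, Synt.IsKoszulAt k.left u) : LocP AlgSp.lci f := by
  intro U' V' a' b' k' ha' hb' hc' u'
  obtain ⟨u, hu⟩ := Groth.Agent.Lib.H86AlgSpPoints.ofPt_surjective has (Points.ofPt a' u')
  exact (chart_indep f hft a b k a' b' k' ha hb ha' hb' hc hc' u u' hu).1 (hK u)

/-- **Base change of a strong chart** along an arbitrary morphism `g : Y' ⟶ Y`, over a given étale chart `b₁` of `Y'`. -/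
theorem exists_baseChange_strongChart {X Y X' Y' : Sp S} {f : X ⟶ Y} {g : Y' ⟶ Y} {gX : X' ⟶ X}
    {f' : X' ⟶ Y'} (sq : IsPullback gX f' f g) {U V : Over S} {a : (yon S).obj U ⟶ X}
    {b : (yon S).obj V ⟶ Y} {k : U ⟶ V} (hU : IsStrongChart f a b k) (hb : RepWith @Etale b)
    {V₁ : Over S} (b₁ : (yon S).obj V₁ ⟶ Y') :
    ∃ (Q U' : Over S) (ρ : Q ⟶ V) (ε : Q ⟶ V₁) (ιU : U' ⟶ U) (τU : U' ⟶ Q)
      (a' : (yon S).obj U' ⟶ X'), Etale ε.left ∧ (RepWith @Surjective b → Surjective ε.left) ∧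
      IsPullback ((yon S).map ρ) ((yon S).map ε) b (b₁ ≫ g) ∧
      IsPullback ιU.left τU.left k.left ρ.left ∧
      IsStrongChart f' a' ((yon S).map ε ≫ b₁) τU ∧ a' ≫ gX = (yon S).map ιU ≫ a := by
  have hr := hb.rep
  have sqQ := hr.isPullback' (b₁ ≫ g)
  have hε : Etale (hr.snd (b₁ ≫ g)).left := hb.property_snd _
  have hb' : ((yon S).map (hr.snd (b₁ ≫ g)) ≫ b₁) ≫ g = (yon S).map (hr.fst' (b₁ ≫ g)) ≫ b := by
    rw [Category.assoc]; exact sqQ.w.symm
  -- the scheme-level base change of `U`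
  let ρ := hr.fst' (b₁ ≫ g)
  let U' : Over S := Over.mk (pullback.fst k.left ρ.left ≫ U.hom)
  let ιU : U' ⟶ U := Over.homMk (pullback.fst k.left ρ.left) rfl
  have hτU : pullback.snd k.left ρ.left ≫ (hr.pullback (b₁ ≫ g)).hom = U'.hom := by
    change _ = pullback.fst k.left ρ.left ≫ U.hom
    rw [← Over.w ρ, ← Category.assoc, ← pullback.condition, Category.assoc, Over.w k]
  let τU : U' ⟶ hr.pullback (b₁ ≫ g) := Over.homMk (pullback.snd k.left ρ.left) hτU
  have hwU : ιU ≫ k = τU ≫ ρ := by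
    ext
    exact pullback.condition
  let a' : (yon S).obj U' ⟶ X' := sq.lift ((yon S).map ιU ≫ a)
    ((yon S).map τU ≫ ((yon S).map (hr.snd (b₁ ≫ g)) ≫ b₁)) (by
    rw [Category.assoc, hU.comm, Category.assoc, hb', ← Category.assoc, ← Category.assoc,
      ← Functor.map_comp, ← Functor.map_comp, hwU])
  have ha'1 : a' ≫ gX = (yon S).map ιU ≫ a := sq.lift_fst _ _ _
  have ha'2 : a' ≫ f' = (yon S).map τU ≫ ((yon S).map (hr.snd (b₁ ≫ g)) ≫ b₁) := sq.lift_snd _ _ _
  have hU' : IsStrongChart f' a' ((yon S).map (hr.snd (b₁ ≫ g)) ≫ b₁) τU :=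
    hU.baseChange sq _ ρ hb' ιU τU (IsPullback.of_hasPullback k.left ρ.left) a' ha'1 ha'2
  refine ⟨hr.pullback (b₁ ≫ g), U', ρ, hr.snd (b₁ ≫ g), ιU, τU, a', hε, fun hbs => ?_, sqQ,
    IsPullback.of_hasPullback k.left ρ.left, hU', ha'1⟩
  exact hbs.property _ _ _ (hr.isPullback _)

/-- **Koszul morphisms of algebraic spaces are stable under flat base change.** -/
theorem locP_lci_of_isPullback_flat {X Y X' Y' : Sp S} (hX : IsAlgSpace X) (hY : IsAlgSpace Y)
    (hY' : IsAlgSpace Y') {f : X ⟶ Y} {g : Y' ⟶ Y} {gX : X' ⟶ X} {f' : X' ⟶ Y'}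
    (sq : IsPullback gX f' f g) (hg : LocP @Flat g) (h : LocP AlgSp.lci f) : LocP AlgSp.lci f' := by
  have hft : LocP @LocallyOfFiniteType f := locP_lft_of_locP_lci h
  have hft' : LocP @LocallyOfFiniteType f' :=
    Groth.Agent.Lib.AlgSpLocP.locP_of_isPullback Groth.Agent.Lib.AlgSpLocP.etLocalClass_lft
      hX hY hY' sq hft
  obtain ⟨V, b, hb, hbs⟩ := hY.atlas
  obtain ⟨U, a, k, hU⟩ := exists_strong_chart hX f b hb
  have ha := hU.repWith_etale hb
  obtain ⟨V₁, b₁, hb₁, hb₁s⟩ := hY'.atlas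
  obtain ⟨Q, U', ρ, ε, ιU, τU, a', hε, hεs, sqQ, sqU, hU', -⟩ :=
    exists_baseChange_strongChart sq hU hb b₁
  have hεs' : Surjective ε.left := hεs hbs
  have hb'e : RepWith @Etale ((yon S).map ε ≫ b₁) :=
    MorphismProperty.comp_mem _ _ _ ((repWith_yon_map_iff _ _).2 hε) hb₁
  have hb's : RepWith @Surjective ((yon S).map ε ≫ b₁) :=
    MorphismProperty.comp_mem _ _ _ ((repWith_yon_map_iff _ _).2 hεs') hb₁s
  have ha'e := hU'.repWith_etale hb'e
  have ha's := hU'.repWith_surjective hb's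
  haveI : Flat ρ.left := hg _ b ρ hb'e hb (by rw [Category.assoc]; exact sqQ.w.symm)
  have hK : ∀ u, Synt.IsKoszulAt k.left u := h a b k ha hb hU.comm
  have hK' : ∀ u', Synt.IsKoszulAt τU.left u' :=
    Groth.Agent.S8658.result k.left ρ.left τU.left ιU.left sqU hK
  exact locP_lci_of_chart f' hft' a' _ τU ha'e ha's hb'e hU'.comm hK'

/-- **fpqc descent of Koszul morphisms of algebraic spaces.** -/
theorem locP_lci_of_hasFpqcRefinement {ι : Type u} {X Y : Sp S} (hX : IsAlgSpace X)
    (hY : IsAlgSpace Y) {Yi : ι → Sp S} (hYi : ∀ i, IsAlgSpace (Yi i)) {f : X ⟶ Y}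
    {g : ∀ i, Yi i ⟶ Y} (hgf : ∀ i, LocP @Flat (g i))
    (hg : Groth.Agent.Lib.AlgSpFpqc.HasFpqcRefinement Yi g)
    {Xi : ι → Sp S} {p : ∀ i, Xi i ⟶ Yi i} {q : ∀ i, Xi i ⟶ X}
    (sq : ∀ i, IsPullback (q i) (p i) f (g i)) (hft : LocP @LocallyOfFiniteType f)
    (h : ∀ i, LocP AlgSp.lci (p i)) : LocP AlgSp.lci f := by
  obtain ⟨V, b, hb, hbs⟩ := hY.atlas
  obtain ⟨U, a, k, hU⟩ := exists_strong_chart hX f b hb
  have ha := hU.repWith_etale hb
  have has := hU.repWith_surjective hbs
  refine locP_lci_of_chart f hft a b k ha has hb hU.comm ?_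
  change KoszulFlatDesc83.lci k.left
  refine Groth.Agent.Lib.AlgSpFpqc.of_flat_refinement KoszulFlatDesc83.lci k.left fun A => ?_
  have hA : IsAffine (A.1 : Scheme) := A.2
  obtain ⟨m, W, c, hW, hc, hs, hl⟩ := hg (Over.mk (A.1.ι ≫ V.hom)) hA (restrictChart b A.1)
  refine ⟨m, fun j => (W j).left, fun j => (c j).left, hW, hc, hs, fun j => ?_⟩
  obtain ⟨i, l, hl'⟩ := hl j
  let jA : Over.mk (A.1.ι ≫ V.hom) ⟶ V := Over.homMk A.1.ι rfl
  let r : W j ⟶ V := c j ≫ jA
  have hrl : r.left = (c j).left ≫ A.1.ι := rfl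
  haveI : Flat (c j).left := hc j
  haveI : Flat r.left := by rw [hrl]; infer_instance
  refine ⟨pullback k.left r.left, pullback.fst k.left r.left, pullback.snd k.left r.left,
    IsPullback.of_hasPullback k.left r.left, ?_⟩
  -- the chart of `p i`
  obtain ⟨Vi, bi, hbi, hbis⟩ := (hYi i).atlas
  obtain ⟨Q, U', ρ, ε, ιU, τU, a', hε, -, sqQ, sqU, hU', -⟩ :=
    exists_baseChange_strongChart (sq i) hU hb bi
  have hb'e : RepWith @Etale ((yon S).map ε ≫ bi) :=
    MorphismProperty.comp_mem _ _ _ ((repWith_yon_map_iff _ _).2 hε) hbi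
  have ha'e := hU'.repWith_etale hb'e
  haveI : Flat ρ.left := hgf i _ b ρ hb'e hb (by rw [Category.assoc]; exact sqQ.w.symm)
  have hKQ : ∀ u', Synt.IsKoszulAt τU.left u' := h i a' _ τU ha'e hb'e hU'.comm
  -- the étale quasi-section
  have hri := hbi.rep
  have sqW := hri.isPullback' l
  haveI he : Etale (hri.snd l).left := hbi.property_snd _
  have hes : Surjective (hri.snd l).left := hbis.property _ _ _ (hri.isPullback _)
  have hcomp : (yon S).map (hri.snd l ≫ r) ≫ b = (yon S).map (hri.fst' l) ≫ (bi ≫ g i) := by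
    have e1 : (yon S).map (hri.fst' l) ≫ (bi ≫ g i) = (yon S).map (hri.snd l) ≫ (l ≫ g i) := by
      rw [← Category.assoc, sqW.w, Category.assoc]
    rw [e1, hl', Functor.map_comp, Functor.map_comp, Category.assoc, Category.assoc]
  obtain ⟨σ₀, hσ₀⟩ := (yon S).map_surjective (sqQ.lift _ _ hcomp)
  have hσρ : σ₀ ≫ ρ = hri.snd l ≫ r := by
    apply (yon S).map_injective
    rw [Functor.map_comp, hσ₀, sqQ.lift_fst]
  let s : (hri.pullback l).left ⟶ pullback ρ.left r.left :=
    pullback.lift σ₀.left (hri.snd l).left (by rw [← Over.comp_left, hσρ, Over.comp_left])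
  have hs_snd : s ≫ pullback.snd ρ.left r.left = (hri.snd l).left := pullback.lift_snd _ _ _
  -- the base change to `R = Q ×_V W j` is Koszul
  have hcommψ : (pullback.fst (pullback.snd k.left r.left) (pullback.snd ρ.left r.left) ≫
      pullback.fst k.left r.left) ≫ k.left =
      (pullback.snd (pullback.snd k.left r.left) (pullback.snd ρ.left r.left) ≫
        pullback.fst ρ.left r.left) ≫ ρ.left := by
    rw [Category.assoc, pullback.condition, ← Category.assoc, pullback.condition, Category.assoc,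
      Category.assoc, pullback.condition]
  let ψ := sqU.lift _ _ hcommψ
  have hψ1 : ψ ≫ ιU.left = pullback.fst (pullback.snd k.left r.left) (pullback.snd ρ.left r.left) ≫
      pullback.fst k.left r.left := sqU.lift_fst _ _ _
  have hψ2 : ψ ≫ τU.left = pullback.snd (pullback.snd k.left r.left) (pullback.snd ρ.left r.left) ≫
      pullback.fst ρ.left r.left := sqU.lift_snd _ _ _
  have big : IsPullback (ψ ≫ ιU.left)
      (pullback.snd (pullback.snd k.left r.left) (pullback.snd ρ.left r.left)) k.left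
      (pullback.fst ρ.left r.left ≫ ρ.left) := by
    rw [hψ1, pullback.condition]
    exact (IsPullback.of_hasPullback (pullback.snd k.left r.left)
      (pullback.snd ρ.left r.left)).paste_horiz (IsPullback.of_hasPullback k.left r.left)
  have left : IsPullback ψ
      (pullback.snd (pullback.snd k.left r.left) (pullback.snd ρ.left r.left)) τU.left
      (pullback.fst ρ.left r.left) := IsPullback.of_right big hψ2 sqU
  have hKR : ∀ x', Synt.IsKoszulAt
      (pullback.snd (pullback.snd k.left r.left) (pullback.snd ρ.left r.left)) x' :=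
    Groth.Agent.S8658.result τU.left (pullback.fst ρ.left r.left) _ ψ left hKQ
  intro u
  refine isKoszulAt_of_flat_baseChange_of_quasiSection (pullback.snd k.left r.left)
    (pullback.snd ρ.left r.left) _ _
    (IsPullback.of_hasPullback (pullback.snd k.left r.left) (pullback.snd ρ.left r.left)) hKR
    (hri.snd l).left s hs_snd u ?_
  exact (hri.snd l).left.surjective _

end Groth.Agent.Lib.AlgSpLCIFpqc83
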