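import Groth.Prelude.Def_AlgSpCov
import Groth.Agent.Lib.AlgSpLocP2
import Groth.Agent.Lib.H86AlgSpPoints

/-!
# Tools for smooth / etale-smooth locality on source-and-target (helper69)
-/

set_option autoImplicit false
universe u
open CategoryTheory CategoryTheory.Limits AlgebraicGeometry Opposite

namespace Groth.Agent.Lib.H69AlgSpLocST

open AlgSp

variable {S : Scheme.{u}}

/-- `LocP P (𝟙 Y)` as soon as `P` contains the etale morphisms. -/
theorem locP_id {P : MorphismProperty Scheme.{u}}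
    (hP : ∀ ⦃A B : Scheme.{u}⦄ (l : A ⟶ B), Etale l → P l) {Y : Sp S} (hY : IsAlgSpace Y) :
    LocP P (𝟙 Y) := by
  intro U V a b h ha hb comm
  rw [Category.comp_id] at comm
  exact hP _ (Groth.Agent.Lib.AlgSpBasic.etale_of_comp_chart
    (fun _ c => hY.representable_from_yon c) a b ha hb h comm.symm)

theorem locP_smooth_id {Y : Sp S} (hY : IsAlgSpace Y) : LocP @Smooth (𝟙 Y) :=
  locP_id (fun _ _ l hl => by have := hl; infer_instance) hY

theorem isEtaleMor_id (Y : Sp S) : IsEtaleMor (𝟙 Y) := by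
  intro U φ hφ
  rwa [Category.comp_id]

/-! ### Two-element families -/

/-- index type with two elements in universe `u` -/
abbrev Two : Type u := PUnit.{u+1} ⊕ PUnit.{u+1}

/-- the family `(X, Y)` -/
def pairObj (X Y : Sp S) : Two.{u} → Sp S := Sum.elim (fun _ => X) (fun _ => Y)

/-- the family `(f, 𝟙 Y)` of morphisms to `Y`. -/
def pairMap {X Y : Sp S} (f : X ⟶ Y) : ∀ i : Two.{u}, pairObj X Y i ⟶ Y
  | Sum.inl _ => f
  | Sum.inr _ => 𝟙 Y

theorem isAlgSpace_pairObj {X Y : Sp S} (hX : IsAlgSpace X) (hY : IsAlgSpace Y) :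
    ∀ i, IsAlgSpace (pairObj X Y i)
  | Sum.inl _ => hX
  | Sum.inr _ => hY

theorem isCover_pair (Q : MorphismProperty (Sp S)) {X Y : Sp S} (f : X ⟶ Y) (hf : Q f)
    (hid : Q (𝟙 Y)) : IsCover Q (pairObj X Y) (pairMap f) := by
  refine ⟨?_, fun x => ⟨Sum.inr ⟨⟩, x, Points.map_id x⟩⟩
  rintro (_ | _)
  · exact hf
  · exact hid

/-- general family of maps `pairObj X' X i ⟶ pairObj Y' Y i`. -/
def pairHom {X' X Y' Y : Sp S} (f' : X' ⟶ Y') (f : X ⟶ Y) :
    ∀ i : Two.{u}, pairObj X' X i ⟶ pairObj Y' Y i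
  | Sum.inl _ => f'
  | Sum.inr _ => f

/-! ### Smooth base change and composition -/

open Groth.Agent.Lib.AlgSpLocP Groth.Agent.Lib.AlgSpBasic in
theorem locP_smooth_snd {X Y X' Y' : Sp S} (hX : IsAlgSpace X) (hY : IsAlgSpace Y)
    (hY' : IsAlgSpace Y') {f : X ⟶ Y} {g : Y' ⟶ Y} {fst : X' ⟶ X} {snd : X' ⟶ Y'}
    (sq : IsPullback fst snd f g) (h : LocP @Smooth f) : LocP @Smooth snd :=
  locP_of_isPullback etLocalClass_smooth hX hY hY' sq h

theorem locP_smooth_fst {X Y X' Y' : Sp S} (hX : IsAlgSpace X) (hY : IsAlgSpace Y)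
    (hY' : IsAlgSpace Y') {f : X ⟶ Y} {g : Y' ⟶ Y} {fst : X' ⟶ X} {snd : X' ⟶ Y'}
    (sq : IsPullback fst snd f g) (h : LocP @Smooth g) : LocP @Smooth fst :=
  locP_smooth_snd hY' hY hX sq.flip h

open Groth.Agent.Lib.AlgSpLocP Groth.Agent.Lib.AlgSpBasic in
theorem locP_smooth_comp {X Y Z : Sp S} (hX : IsAlgSpace X) (hY : IsAlgSpace Y)
    (hZ : IsAlgSpace Z) {f : X ⟶ Y} {g : Y ⟶ Z} (hf : LocP @Smooth f) (hg : LocP @Smooth g) :
    LocP @Smooth (f ≫ g) :=
  locP_comp etLocalClass_smooth hX hY hZ hf hg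

end Groth.Agent.Lib.H69AlgSpLocST
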