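import Groth.Agent.Lib.SrcLocalSm
import Groth.Agent.Lib.AlgSpSrcCover
import Groth.Agent.Lib.AlgSpSrcCover3
import Groth.Agent.Lib.AlgSpFpqcLocP
import Groth.Agent.Lib.AlgSpFppfCover
import Groth.Agent.Lib.H69AlgSpLocST2
import Groth.Agent.S10567

/-!
# `LocP P` is smooth local on the source-and-target (helper64)

For `P` = locally of finite type, flat: `AlgSp.IsSmoothLocalST (AlgSp.LocP P)`.
General constructor `isSmoothLocalST_locP`.
-/

set_option autoImplicit false
universe u
open CategoryTheory CategoryTheory.Limits AlgebraicGeometry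
open AlgSp Groth.Agent.Lib.AlgSpBasic Groth.Agent.Lib.AlgSpLocP

namespace Groth.Agent.Lib.AlgSpSmLocalST

variable {S : Scheme.{u}}

/-- fpqc-local on the base implies smooth-local on the base. -/
theorem isLocalOnBase_sm_of_fpqc {P : MorphismProperty (AlgSp.Sp S)}
    (hP : AlgSp.IsLocalOnBase (AlgSp.IsFpqcCover (S := S)) P) :
    AlgSp.IsLocalOnBase (AlgSp.IsSmCover (S := S)) P := by
  intro ι Y Yi g hY hYi hcov X f hX Xi p q hXi sq
  have hcov' : AlgSp.IsFppfCover Yi g :=
    ⟨fun i => ⟨Groth.Agent.Lib.H69AlgSpLocST2.locP_mono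
        (fun _ _ l hl => by have : Smooth l := hl; exact (inferInstance : Flat l)) (hcov.1 i),
      Groth.Agent.Lib.H69AlgSpLocST2.locP_mono
        (fun _ _ l hl => by
          have : Smooth l := hl
          exact (inferInstance : LocallyOfFinitePresentation l)) (hcov.1 i)⟩, hcov.2⟩
  exact hP Yi g hY hYi (Groth.Agent.Lib.AlgSpFpqc.isFpqcCover_of_isFppfCover hY hYi hcov') f hX Xi p
    q hXi sq

/-- General constructor: a class `P` of morphisms of schemes that is étale local, contains the
smooth morphisms, is stable under composition, is local at the source for smooth coverings and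
whose `LocP` is fpqc local on the base gives a property smooth local on source-and-target. -/
theorem isSmoothLocalST_locP {P : MorphismProperty Scheme.{u}} (hP : EtLocalClass P)
    [P.IsStableUnderComposition] [P.IsLocalAtSource (Scheme.precoverage @Smooth)]
    (hle : ∀ ⦃A B : Scheme.{u}⦄ (l : A ⟶ B), Smooth l → P l)
    (hbase : AlgSp.IsLocalOnBase (AlgSp.IsFpqcCover (S := S)) (AlgSp.LocP P)) :
    AlgSp.IsSmoothLocalST (AlgSp.LocP (S := S) P) :=
  Groth.Agent.S10567.result (AlgSp.LocP P)
    (Groth.Agent.Lib.AlgSpSrcCover.isLocalOnSource_smCover (P := P))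
    (isLocalOnBase_sm_of_fpqc hbase)
    (fun X Y Z f g hf hg => by
      have := locP_comp hP X.property Y.property Z.property hf
        (Groth.Agent.Lib.H69AlgSpLocST2.locP_mono hle hg)
      exact this)

theorem isSmoothLocalST_locP_lft :
    AlgSp.IsSmoothLocalST (AlgSp.LocP (S := S) @LocallyOfFiniteType) := by
  have := Groth.Agent.Lib.SrcLocalSm.isLocalAtSource_smooth_lft.{u}
  exact isSmoothLocalST_locP etLocalClass_lft
    (fun _ _ l hl => by have : Smooth l := hl; exact (inferInstance : LocallyOfFiniteType l))
    Groth.Agent.Lib.AlgSpFpqc.isLocalOnBase_fpqc_locP_locallyOfFiniteType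

theorem isSmoothLocalST_locP_flat :
    AlgSp.IsSmoothLocalST (AlgSp.LocP (S := S) @Flat) := by
  have : MorphismProperty.IsLocalAtSource (@Flat : MorphismProperty Scheme.{u})
      (Scheme.precoverage @Smooth) :=
    MorphismProperty.IsLocalAtSource.of_le (L := Scheme.precoverage @Flat)
      (Scheme.precoverage_mono fun _ _ l hl => by
        have : Smooth l := hl
        exact (inferInstance : Flat l))
  exact isSmoothLocalST_locP etLocalClass_flat
    (fun _ _ l hl => by have : Smooth l := hl; exact (inferInstance : Flat l))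
    Groth.Agent.Lib.AlgSpFpqc.isLocalOnBase_fpqc_locP_flat

end Groth.Agent.Lib.AlgSpSmLocalST
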