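/-
helper56: keystone FibDim, stage 5: local dimension of finite type domains over a field,
fibres of polynomial rings and of standard smooth algebras.
-/
import Mathlib
import Groth.Prelude.Def_Flat
import Groth.Agent.Lib.H56LocDimSch
import Groth.Agent.Lib.H56LocDimRing
import Groth.Agent.S2680

set_option autoImplicit false
universe u

open TopologicalSpace Topology AlgebraicGeometry CategoryTheory

namespace Groth.Agent.Lib.H56LocDim

/-- Lower bound for the local dimension of a prime spectrum through principal localizations. -/
theorem le_localDim_primeSpectrum {S : Type*} [CommRing S] (q : PrimeSpectrum S)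
    (c : WithBot ℕ∞)
    (h : ∀ g : S, g ∉ q.asIdeal → c ≤ ringKrullDim (Localization.Away g)) :
    c ≤ FlatMor.localDim (PrimeSpectrum S) q := by
  unfold FlatMor.localDim
  refine le_iInf fun U => ?_
  obtain ⟨U, hqU⟩ := U
  obtain ⟨_, ⟨g, rfl⟩, hqg, hgU⟩ :=
    PrimeSpectrum.isTopologicalBasis_basic_opens.exists_subset_of_mem_open hqU U.2
  refine (h g hqg).trans ?_
  have hj : IsOpenEmbedding (PrimeSpectrum.comap (algebraMap S (Localization.Away g))) :=
    PrimeSpectrum.localization_away_isOpenEmbedding (Localization.Away g) g
  have hrange : Set.range (PrimeSpectrum.comap (algebraMap S (Localization.Away g))) =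
      PrimeSpectrum.basicOpen g :=
    PrimeSpectrum.localization_away_comap_range (Localization.Away g) g
  let κ : PrimeSpectrum (Localization.Away g) → (U : Set (PrimeSpectrum S)) := fun Q =>
    ⟨PrimeSpectrum.comap (algebraMap S (Localization.Away g)) Q, hgU (by
      have : PrimeSpectrum.comap (algebraMap S (Localization.Away g)) Q ∈
          Set.range (PrimeSpectrum.comap (algebraMap S (Localization.Away g))) :=
        Set.mem_range_self Q
      rw [hrange] at this
      exact this)⟩
  have hκ : IsInducing κ :=
    IsInducing.of_comp (Continuous.subtype_mk hj.continuous _) continuous_subtype_val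
      hj.isInducing
  have := hκ.topologicalKrullDim_le
  rwa [PrimeSpectrum.topologicalKrullDim_eq_ringKrullDim] at this

theorem localDim_primeSpectrum_le {S : Type*} [CommRing S] (q : PrimeSpectrum S) :
    FlatMor.localDim (PrimeSpectrum S) q ≤ ringKrullDim S := by
  have := Groth.Agent.Lib.TopKrullDim.localDim_le_dim_open q ⊤ trivial
  refine this.trans ?_
  rw [← PrimeSpectrum.topologicalKrullDim_eq_ringKrullDim]
  exact topologicalKrullDim_subspace_le _ _

/-- Transcendence degree of a domain equals that of its fraction field. -/
theorem trdeg_fractionRing (k S : Type u) [Field k] [CommRing S] [IsDomain S] [Algebra k S] :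
    Algebra.trdeg k (FractionRing S) = Algebra.trdeg k S := by
  have h := trdeg_add_eq k S (A := FractionRing S)
  have halg : Algebra.IsAlgebraic S (FractionRing S) :=
    IsLocalization.isAlgebraic (FractionRing S) (nonZeroDivisors S)
  have h0 : Algebra.trdeg S (FractionRing S) = 0 := trdeg_eq_zero
  rw [h0, add_zero] at h
  exact h.symm

/-- For a finite type domain over a field, principal localizations have the same dimension. -/
theorem ringKrullDim_away_eq (k S : Type u) [Field k] [CommRing S] [IsDomain S] [Algebra k S]
    [Algebra.FiniteType k S] (g : S) (hg : g ≠ 0) :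
    ringKrullDim (Localization.Away g) = ringKrullDim S := by
  have hle : ringKrullDim (Localization.Away g) ≤ ringKrullDim S := by
    rw [ringKrullDim_le_iff_height_le]
    intro p hp
    rw [← IsLocalization.height_under (Submonoid.powers g) p]
    exact Ideal.height_le_ringKrullDim_of_ne_top Ideal.IsPrime.ne_top'
  apply le_antisymm hle
  have hdom : IsDomain (Localization.Away g) :=
    IsLocalization.isDomain_localization
      (powers_le_nonZeroDivisors_of_noZeroDivisors hg)
  have hft : Algebra.FiniteType k (Localization.Away g) :=
    Algebra.FiniteType.trans (inferInstance : Algebra.FiniteType k S)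
      (IsLocalization.finiteType_of_monoid_fg (Submonoid.powers g) (Localization.Away g))
  obtain ⟨n, hn, hdim, -⟩ := Groth.Agent.S2680.result k S
  obtain ⟨n', hn', hdim', -⟩ := Groth.Agent.S2680.result k (Localization.Away g)
  rw [hdim, hdim']
  rw [trdeg_fractionRing] at hn hn'
  have hinj : Function.Injective (IsScalarTower.toAlgHom k S (Localization.Away g)) :=
    IsLocalization.injective (Localization.Away g)
      (powers_le_nonZeroDivisors_of_noZeroDivisors hg)
  have := trdeg_le_of_injective (IsScalarTower.toAlgHom k S (Localization.Away g)) hinj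
  rw [hn, hn'] at this
  exact_mod_cast this

/-- For a finite type domain over a field, the local dimension at every point is the dimension. -/
theorem localDim_primeSpectrum_of_isDomain (k S : Type u) [Field k] [CommRing S] [IsDomain S]
    [Algebra k S] [Algebra.FiniteType k S] (q : PrimeSpectrum S) :
    FlatMor.localDim (PrimeSpectrum S) q = ringKrullDim S := by
  apply le_antisymm (localDim_primeSpectrum_le q)
  apply le_localDim_primeSpectrum
  intro g hg
  have hg0 : g ≠ 0 := fun h => hg (h ▸ Ideal.zero_mem _)
  rw [ringKrullDim_away_eq k S g hg0]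

/-- Local dimension of the fibres of a polynomial ring. -/
theorem fibLocDim_mvPolynomial (R : Type u) [CommRing R] (n : ℕ)
    (z : PrimeSpectrum (MvPolynomial (Fin n) R)) :
    fibLocDim (PrimeSpectrum.comap (algebraMap R (MvPolynomial (Fin n) R))) z = n := by
  obtain ⟨p, hp⟩ : ∃ p, p = PrimeSpectrum.comap (algebraMap R (MvPolynomial (Fin n) R)) z :=
    ⟨_, rfl⟩
  rw [← localDim_fibre_eq _ z p hp.symm]
  let h1 := PrimeSpectrum.preimageHomeomorphFiber R (MvPolynomial (Fin n) R) p
  let e : p.asIdeal.Fiber (MvPolynomial (Fin n) R) ≃ₐ[p.asIdeal.ResidueField]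
      MvPolynomial (Fin n) p.asIdeal.ResidueField :=
    MvPolynomial.algebraTensorAlgEquiv R p.asIdeal.ResidueField
  let h2 : PrimeSpectrum (p.asIdeal.Fiber (MvPolynomial (Fin n) R)) ≃ₜ
      PrimeSpectrum (MvPolynomial (Fin n) p.asIdeal.ResidueField) :=
    PrimeSpectrum.homeomorphOfRingEquiv e.toRingEquiv
  rw [localDim_eq_of_homeomorph (h1.trans h2) ⟨z, hp.symm⟩,
    localDim_primeSpectrum_of_isDomain p.asIdeal.ResidueField,
    MvPolynomial.ringKrullDim_of_isNoetherianRing, ringKrullDim_eq_zero_of_field]
  simp

end Groth.Agent.Lib.H56LocDim
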