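import Mathlib
import Groth.Agent.Lib.H80SmoothFiber
import Groth.Agent.S9721

/-!
# Unramified / étale neighbourhoods of a point in terms of the stalk map

* `exists_formallyUnramified_nhd_iff`: for `f` locally of finite type, `f` is formally unramified
  on an open neighbourhood of `x` iff `O_{Y,f x} → O_{X,x}` is formally unramified.
* `exists_etale_nhd_iff`: for `f` locally of finite presentation, `f` is étale on an open
  neighbourhood of `x` iff the stalk map is formally smooth and formally unramified.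
* `mem_smoothLocus_of_flat_of_surjective`: abstract smoothness criterion at a point.
-/

open CategoryTheory AlgebraicGeometry IsLocalRing TensorProduct

universe u

namespace Groth.Agent.Lib.H80EtaleStalk

/-- If `Q` holds for `Γ(Y,U) → Γ(X,V)[1/r]`, then it holds for `Γ(Y,U) → Γ(X, D(r))`. -/
theorem appLE_basicOpen_of_away {Q : ∀ {R S : Type u} [CommRing R] [CommRing S], (R →+* S) → Prop}
    (hQ : RingHom.RespectsIso @Q) {X Y : Scheme.{u}} (f : X ⟶ Y) {U : Y.Opens} {V : X.Opens}
    (hV : IsAffineOpen V) (hVU : V ≤ f ⁻¹ᵁ U) (r : Γ(X, V))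
    (H : letI := (f.appLE U V hVU).hom.toAlgebra
      Q (algebraMap Γ(Y, U) (Localization.Away r))) :
    Q (f.appLE U (X.basicOpen r) ((X.basicOpen_le r).trans hVU)).hom := by
  let algA : Algebra Γ(Y, U) Γ(X, V) := (f.appLE U V hVU).hom.toAlgebra
  let algB : Algebra Γ(X, V) Γ(X, X.basicOpen r) :=
    (X.presheaf.map (homOfLE (X.basicOpen_le r)).op).hom.toAlgebra
  have hloc : IsLocalization.Away r Γ(X, X.basicOpen r) := hV.isLocalization_basicOpen r
  let eB : Localization.Away r ≃ₐ[Γ(X, V)] Γ(X, X.basicOpen r) :=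
    IsLocalization.algEquiv (Submonoid.powers r) _ _
  have h1 := hQ.1 _ eB.toRingEquiv H
  convert h1 using 1
  ext a
  have h2 := f.appLE_map hVU (homOfLE (X.basicOpen_le r)).op
  have h3 : (f.appLE U (X.basicOpen r) ((X.basicOpen_le r).trans hVU)).hom a =
      algebraMap Γ(X, V) Γ(X, X.basicOpen r) (algebraMap Γ(Y, U) Γ(X, V) a) :=
    congr($(h2).hom a).symm
  rw [h3]
  simp only [RingHom.comp_apply, IsScalarTower.algebraMap_apply Γ(Y, U) Γ(X, V)
    (Localization.Away r)]
  exact (eB.commutes _).symm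

theorem mem_basicOpen_of_notMem_primeIdealOf {X : Scheme.{u}} {V : X.Opens} (hV : IsAffineOpen V)
    {x : X} (hx : x ∈ V) (r : Γ(X, V)) (hr : r ∉ (hV.primeIdealOf ⟨x, hx⟩).asIdeal) :
    x ∈ X.basicOpen r := by
  have hq : hV.fromSpec (hV.primeIdealOf ⟨x, hx⟩) = x := hV.fromSpec_primeIdealOf ⟨x, hx⟩
  rw [← hq]
  show hV.primeIdealOf ⟨x, hx⟩ ∈ hV.fromSpec ⁻¹ᵁ X.basicOpen r
  rw [hV.fromSpec_preimage_basicOpen]
  exact hr

/-- `f` (locally of finite type) is formally unramified on an open neighbourhood of `x` iff the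
stalk map at `x` is formally unramified. -/
theorem exists_formallyUnramified_nhd_iff {X Y : Scheme.{u}} (f : X ⟶ Y)
    [LocallyOfFiniteType f] (x : X) :
    (∃ U : X.Opens, x ∈ U ∧ FormallyUnramified (U.ι ≫ f)) ↔
      (f.stalkMap x).hom.FormallyUnramified := by
  constructor
  · rintro ⟨W, hxW, hW⟩
    have h1 := FormallyUnramified.stalkMap (W.ι ≫ f) ⟨x, hxW⟩
    rw [Scheme.Hom.stalkMap_comp] at h1
    have hiso : IsIso (W.ι.stalkMap ⟨x, hxW⟩) := inferInstance
    exact (RingHom.FormallyUnramified.respectsIso.cancel_right_isIso (f.stalkMap (W.ι ⟨x, hxW⟩))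
      (W.ι.stalkMap ⟨x, hxW⟩)).mp h1
  · intro H
    obtain ⟨_, ⟨U, hU, rfl⟩, hxU, -⟩ :=
      Y.isBasis_affineOpens.exists_subset_of_mem_open (Set.mem_univ (f x)) isOpen_univ
    obtain ⟨_, ⟨V, hV, rfl⟩, hxV, hVU⟩ :=
      X.isBasis_affineOpens.exists_subset_of_mem_open hxU (U.2.preimage f.continuous)
    have := f.finiteType_appLE hU hV hVU
    algebraize [(f.appLE U V hVU).hom]
    let p := (hU.primeIdealOf ⟨f x, hVU hxV⟩).asIdeal
    let q := (hV.primeIdealOf ⟨x, hxV⟩).asIdeal
    have : q.LiesOver p :=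
      ⟨congr($(IsAffineOpen.comap_primeIdealOf_appLE U hU V hV hVU hxV).1).symm⟩
    let := Localization.AtPrime.algebraOfLiesOver p q
    have h1 : Algebra.FormallyUnramified (Localization.AtPrime p) (Localization.AtPrime q) := by
      rw [← RingHom.formallyUnramified_algebraMap]
      exact (RingHom.FormallyUnramified.respectsIso.arrow_mk_iso_iff
        (IsAffineOpen.arrowStalkMapIso f U hU V hV hVU hxV)).mp H
    have h2 : Algebra.IsUnramifiedAt Γ(Y, U) q :=
      Algebra.FormallyUnramified.comp _ (Localization.AtPrime p) _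
    obtain ⟨r, hr, hunr⟩ := Algebra.exists_formallyUnramified_of_isUnramifiedAt (R := Γ(Y, U)) q
    refine ⟨X.basicOpen r, mem_basicOpen_of_notMem_primeIdealOf hV hxV r hr, ?_⟩
    rw [← Scheme.Hom.resLE_comp_ι f ((X.basicOpen_le r).trans hVU)]
    have : FormallyUnramified (f.resLE U (X.basicOpen r) ((X.basicOpen_le r).trans hVU)) := by
      rw [Groth.Agent.S9721.resLE_iff (P := @FormallyUnramified) f (hV.basicOpen r) hU]
      apply appLE_basicOpen_of_away RingHom.FormallyUnramified.respectsIso f hV hVU r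
      rw [RingHom.formallyUnramified_algebraMap]
      exact hunr
    have hι : FormallyUnramified (Scheme.Opens.ι (U : Y.Opens)) := inferInstance
    exact MorphismProperty.comp_mem @FormallyUnramified _ _ this hι


/-- `f` (locally of finite presentation) is étale on an open neighbourhood of `x` iff the stalk
map at `x` is formally smooth and formally unramified. -/
theorem exists_etale_nhd_iff {X Y : Scheme.{u}} (f : X ⟶ Y)
    [LocallyOfFinitePresentation f] (x : X) :
    (∃ U : X.Opens, x ∈ U ∧ Etale (U.ι ≫ f)) ↔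
      (f.stalkMap x).hom.FormallySmooth ∧ (f.stalkMap x).hom.FormallyUnramified := by
  constructor
  · rintro ⟨W, hxW, hW⟩
    refine ⟨?_, (exists_formallyUnramified_nhd_iff f x).mp ⟨W, hxW, inferInstance⟩⟩
    have h2 := Scheme.Hom.preimage_smoothLocus_eq W.ι f
    rw [Scheme.Hom.smoothLocus_eq_top (W.ι ≫ f)] at h2
    have h3 : (⟨x, hxW⟩ : W) ∈ W.ι ⁻¹ᵁ f.smoothLocus := by rw [h2]; trivial
    exact h3
  · rintro ⟨hsm, hunr⟩
    obtain ⟨W₂, hxW₂, hW₂⟩ := (exists_formallyUnramified_nhd_iff f x).mpr hunr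
    set W₁ := f.smoothLocus with hW₁
    have hxW₁ : x ∈ W₁ := hsm
    refine ⟨W₁ ⊓ W₂, ⟨hxW₁, hxW₂⟩, ?_⟩
    have hsm1 : Smooth (W₁.ι ≫ f) := by
      rw [← Scheme.Hom.smoothLocus_eq_top_iff, ← Scheme.Hom.preimage_smoothLocus_eq]
      exact Scheme.Opens.ι_preimage_self W₁
    have h1 : Smooth ((W₁ ⊓ W₂).ι ≫ f) := by
      rw [← X.homOfLE_ι (inf_le_left : W₁ ⊓ W₂ ≤ W₁), Category.assoc]
      infer_instance
    have h2 : FormallyUnramified ((W₁ ⊓ W₂).ι ≫ f) := by
      rw [← X.homOfLE_ι (inf_le_right : W₁ ⊓ W₂ ≤ W₂), Category.assoc]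
      exact MorphismProperty.comp_mem @FormallyUnramified _ _
        (inferInstance : FormallyUnramified (X.homOfLE (inf_le_right : W₁ ⊓ W₂ ≤ W₂))) hW₂
    exact Etale.of_formallyUnramified_of_flat _

/-- Abstract smoothness criterion at a point: if `O_{S,f x} → O_{X,x}` is flat, and
`b : O_{X,x} → T` is a surjection with kernel `𝔪_{f x} O_{X,x}` such that `O_{S, f x} → T` factors
as a surjection onto a field `K` followed by a formally smooth map `K → T`,
then `f` is smooth at `x`. -/
theorem mem_smoothLocus_of_flat_of_surjective {X S : Scheme.{u}} (f : X ⟶ S)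
    [LocallyOfFinitePresentation f] (x : X)
    (hflat : (f.stalkMap x).hom.Flat)
    {T K : Type u} [CommRing T] [CommRing K] (hK : IsField K)
    (b : X.presheaf.stalk x →+* T) (hbsurj : Function.Surjective b)
    (hbker : RingHom.ker b = Ideal.map (f.stalkMap x).hom
      (maximalIdeal (S.presheaf.stalk (f x))))
    (ρ₀ : S.presheaf.stalk (f x) →+* K) (hρ₀ : Function.Surjective ρ₀)
    (χ : K →+* T) (hχ : χ.FormallySmooth)
    (hfac : b.comp (f.stalkMap x).hom = χ.comp ρ₀) :
    x ∈ f.smoothLocus := by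
  obtain ⟨_, ⟨U, hU, rfl⟩, hxU, -⟩ :=
    S.isBasis_affineOpens.exists_subset_of_mem_open (Set.mem_univ (f x)) isOpen_univ
  obtain ⟨_, ⟨V, hV, rfl⟩, hxV, hVU⟩ :=
    X.isBasis_affineOpens.exists_subset_of_mem_open hxU (U.2.preimage f.continuous)
  have := f.finitePresentation_appLE hU hV hVU
  algebraize [(f.appLE U V hVU).hom]
  rw [Scheme.Hom.mem_smoothLocus, formallySmooth_stalkMap_iff U hU V hV hVU hxV]
  let p := (hU.primeIdealOf ⟨f x, hVU hxV⟩).asIdeal
  let q := (hV.primeIdealOf ⟨x, hxV⟩).asIdeal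
  have : q.LiesOver p :=
    ⟨congr($(IsAffineOpen.comap_primeIdealOf_appLE U hU V hV hVU hxV).1).symm⟩
  let iso := IsAffineOpen.arrowStalkMapIso f U hU V hV hVU hxV
  let eR : S.presheaf.stalk (f x) ≃+* Localization.AtPrime p :=
    (Arrow.leftFunc.mapIso iso).commRingCatIsoToRingEquiv
  let eS : X.presheaf.stalk x ≃+* Localization.AtPrime q :=
    (Arrow.rightFunc.mapIso iso).commRingCatIsoToRingEquiv
  have hw : ∀ r, Localization.localRingHom p q (algebraMap _ _) Ideal.LiesOver.over (eR r) =
      eS ((f.stalkMap x).hom r) := by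
    intro r
    have := congr($(iso.hom.w) r)
    exact this
  change Algebra.IsSmoothAt _ q
  apply Groth.Agent.Lib.H80SmoothFiber.isSmoothAt_of_flat_of_fiber p q
  · let := Localization.AtPrime.algebraOfLiesOver p q
    rw [← RingHom.flat_algebraMap_iff]
    exact (RingHom.Flat.respectsIso.arrow_mk_iso_iff iso).mp hflat
  · let := Localization.AtPrime.algebraOfLiesOver p q
    have hloc : IsLocalHom (f.stalkMap x).hom := inferInstance
    refine Groth.Agent.Lib.H80SmoothFiber.formallySmooth_residueField_tensor_of_surjective hK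
      (b.comp eS.symm.toRingHom) ?_ ?_
      (ρ₀.comp eR.symm.toRingHom) ?_ χ hχ ?_
    · rw [RingHom.coe_comp]
      exact hbsurj.comp eS.symm.surjective
    · rw [← RingHom.comap_ker, hbker]
      have hm : maximalIdeal (Localization.AtPrime p) =
          Ideal.map eR.toRingHom (maximalIdeal _) :=
        (IsLocalRing.map_ringEquiv_maximalIdeal eR).symm
      rw [hm]
      change Ideal.comap eS.symm _ = _
      rw [Ideal.comap_symm]
      change Ideal.map eS.toRingHom _ = _
      rw [Ideal.map_map, Ideal.map_map]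
      congr 1
      ext r
      exact (hw r).symm
    · rw [RingHom.coe_comp]
      exact hρ₀.comp eR.symm.surjective
    · ext r'
      obtain ⟨r, rfl⟩ := eR.surjective r'
      have h1 : eS.symm (algebraMap (Localization.AtPrime p) (Localization.AtPrime q) (eR r)) =
          (f.stalkMap x).hom r := by
        rw [RingEquiv.symm_apply_eq]
        exact hw r
      have h2 := congr($hfac r)
      simp only [RingHom.comp_apply, RingEquiv.toRingHom_eq_coe, RingHom.coe_coe,
        RingEquiv.symm_apply_apply, h1]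
      exact h2.symm


/-- Stalk-level characterization of formal unramifiedness (`f` locally of finite type). -/
theorem stalk_formallyUnramified_iff {X Y : Scheme.{u}} (f : X ⟶ Y)
    [LocallyOfFiniteType f] (x : X) :
    (f.stalkMap x).hom.FormallyUnramified ↔
      ((IsLocalRing.maximalIdeal (Y.presheaf.stalk (f.base x))).map (f.stalkMap x).hom =
          IsLocalRing.maximalIdeal (X.presheaf.stalk x) ∧
        letI := (f.residueFieldMap x).hom.toAlgebra
        Module.Finite (Y.residueField (f.base x)) (X.residueField x) ∧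
          Algebra.IsSeparable (Y.residueField (f.base x)) (X.residueField x)) := by
  algebraize [(f.stalkMap x).hom]
  have : IsLocalHom (algebraMap (Y.presheaf.stalk (f x)) (X.presheaf.stalk x)) :=
    inferInstanceAs <| IsLocalHom (f.stalkMap x).hom
  have : Algebra.EssFiniteType (Y.presheaf.stalk (f x)) (X.presheaf.stalk x) := by
    rw [← RingHom.essFiniteType_algebraMap, RingHom.algebraMap_toAlgebra]
    exact LocallyOfFiniteType.stalkMap f x
  have halg : (f.residueFieldMap x).hom.toAlgebra =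
      (inferInstance : Algebra (IsLocalRing.ResidueField <| Y.presheaf.stalk (f x))
        (IsLocalRing.ResidueField <| X.presheaf.stalk x)) := by
    refine Algebra.algebra_ext _ _ fun x ↦ ?_
    obtain ⟨x, rfl⟩ := IsLocalRing.residue_surjective x
    rfl
  have h0 : (f.stalkMap x).hom.FormallyUnramified ↔
      Algebra.FormallyUnramified (Y.presheaf.stalk (f x)) (X.presheaf.stalk x) := by
    rw [← RingHom.formallyUnramified_algebraMap, RingHom.algebraMap_toAlgebra]
  rw [h0, Algebra.FormallyUnramified.iff_map_maximalIdeal_eq]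
  constructor
  · rintro ⟨hsep, hmap⟩
    have hunr : Algebra.FormallyUnramified (Y.presheaf.stalk (f x)) (X.presheaf.stalk x) :=
      Algebra.FormallyUnramified.iff_map_maximalIdeal_eq.mpr ⟨hsep, hmap⟩
    refine ⟨hmap, ?_⟩
    show @Module.Finite _ _ _ _ (f.residueFieldMap x).hom.toAlgebra.toModule ∧
      @Algebra.IsSeparable _ _ _ _ (f.residueFieldMap x).hom.toAlgebra
    rw [halg]
    have hfin : Module.Finite (IsLocalRing.ResidueField (Y.presheaf.stalk (f x)))
        (IsLocalRing.ResidueField (X.presheaf.stalk x)) := inferInstance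
    exact ⟨hfin, hsep⟩
  · rintro ⟨hmap, hfs⟩
    have hfs' : @Module.Finite _ _ _ _ (f.residueFieldMap x).hom.toAlgebra.toModule ∧
      @Algebra.IsSeparable _ _ _ _ (f.residueFieldMap x).hom.toAlgebra := hfs
    rw [halg] at hfs'
    exact ⟨hfs'.2, hmap⟩

/-- At a point of the smooth locus the stalk map is flat. -/
theorem flat_stalkMap_of_mem_smoothLocus {X Y : Scheme.{u}} (f : X ⟶ Y)
    [LocallyOfFinitePresentation f] (x : X) (hx : x ∈ f.smoothLocus) :
    (f.stalkMap x).hom.Flat := by
  set W := f.smoothLocus with hW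
  have hsm : Smooth (W.ι ≫ f) := by
    rw [← Scheme.Hom.smoothLocus_eq_top_iff, ← Scheme.Hom.preimage_smoothLocus_eq]
    exact Scheme.Opens.ι_preimage_self W
  have hfl : Flat (W.ι ≫ f) := inferInstance
  have h1 := Flat.stalkMap (W.ι ≫ f) ⟨x, hx⟩
  rw [Scheme.Hom.stalkMap_comp] at h1
  have hiso : IsIso (W.ι.stalkMap ⟨x, hx⟩) := inferInstance
  exact (RingHom.Flat.respectsIso.cancel_right_isIso (f.stalkMap (W.ι ⟨x, hx⟩))
    (W.ι.stalkMap ⟨x, hx⟩)).mp h1

end Groth.Agent.Lib.H80EtaleStalk
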