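/-
helper56: keystone FibDim, stage 5b: fibres of standard smooth algebras of relative dimension `n`
have local dimension `n` everywhere.
-/
import Mathlib
import Groth.Prelude.Def_Flat
import Groth.Agent.Lib.H56FibDimSmooth
import Groth.Agent.S7408

set_option autoImplicit false
universe u

open TopologicalSpace Topology AlgebraicGeometry CategoryTheory

namespace Groth.Agent.Lib.H56LocDim

theorem fibreDimAt_SpecMap {R S : CommRingCat.{u}} (φ : R ⟶ S) (q : PrimeSpectrum S) :
    FlatMor.fibreDimAt (Spec.map φ) q = fibLocDim (PrimeSpectrum.comap φ.hom) q :=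
  fibreDimAt_eq_fibLocDim (Spec.map φ) q

/-- Fibres of a standard smooth algebra of relative dimension `n` have local dimension `n`. -/
theorem fibLocDim_of_isStandardSmoothOfRelativeDimension (R S : Type u) [CommRing R] [CommRing S]
    [Algebra R S] (n : ℕ) (h : (algebraMap R S).IsStandardSmoothOfRelativeDimension n)
    (q : PrimeSpectrum S) :
    fibLocDim (PrimeSpectrum.comap (algebraMap R S)) q = n := by
  obtain ⟨g, hgC, hget⟩ := h.exists_etale_mvPolynomial
  let hh : Spec (CommRingCat.of (MvPolynomial (Fin n) R)) ⟶ Spec (CommRingCat.of R) :=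
    Spec.map (CommRingCat.ofHom (algebraMap R (MvPolynomial (Fin n) R)))
  let hh' : Spec (CommRingCat.of S) ⟶ Spec (CommRingCat.of R) :=
    Spec.map (CommRingCat.ofHom (algebraMap R S))
  let a : Spec (CommRingCat.of S) ⟶ Spec (CommRingCat.of (MvPolynomial (Fin n) R)) :=
    Spec.map (CommRingCat.ofHom g)
  have ha : Etale a := (HasRingHomProperty.Spec_iff (P := @Etale)).mpr hget
  have comm : hh' ≫ 𝟙 (Spec (CommRingCat.of R)) = a ≫ hh := by
    rw [Category.comp_id, ← Spec.map_comp, ← CommRingCat.ofHom_comp]
    have : g.comp (algebraMap R (MvPolynomial (Fin n) R)) = algebraMap R S := hgC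
    rw [this]
  have key := Groth.Agent.S7408.result hh hh' a (𝟙 _) comm q
  have h1 : FlatMor.fibreDimAt hh' q = fibLocDim (PrimeSpectrum.comap (algebraMap R S)) q :=
    fibreDimAt_SpecMap (CommRingCat.ofHom (algebraMap R S)) q
  have h2 : FlatMor.fibreDimAt hh (a.base q) = n := by
    have := fibreDimAt_SpecMap (CommRingCat.ofHom (algebraMap R (MvPolynomial (Fin n) R)))
      (a.base q)
    rw [this]
    exact fibLocDim_mvPolynomial R n _
  rw [← h1, ← key, h2]

end Groth.Agent.Lib.H56LocDim
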