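import Groth.Agent.Lib.FFDescent64
import Mathlib.RingTheory.Flat.FaithfullyFlat.Descent
import Mathlib.RingTheory.Finiteness.Descent

/-!
# Finite type / finite presentation descend along fppf ring maps (helper64)

`R → A → B` with `B` faithfully flat and finitely presented over `A`:
* `finiteType_of_faithfullyFlat_finitePresentation`: `B` of finite type over `R` ⇒ `A` of finite
  type over `R`;
* `finitePresentation_of_faithfullyFlat_finitePresentation`: `B` of finite presentation over `R` ⇒
  `A` of finite presentation over `R` (Stacks 00QP / 02KK-type, fppf version).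
-/

set_option autoImplicit false
set_option maxHeartbeats 400000

namespace Groth.Agent.Lib.FFDescentApp64

open TensorProduct Function Groth.Agent.Lib.FFDescent64

universe u

section Aux

variable {R A B A₀ B₀ : Type u} [CommRing R] [CommRing A] [CommRing B] [Algebra R A] [Algebra A B]
  [Algebra R B] [IsScalarTower R A B] [CommRing A₀] [CommRing B₀] [Algebra R A₀] [Algebra A₀ A]
  [IsScalarTower R A₀ A] [Algebra A₀ B₀]

omit [CommRing R] [CommRing B] [Algebra R A] [Algebra A B] [Algebra R B] [IsScalarTower R A B]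
  [Algebra R A₀] [IsScalarTower R A₀ A] in
theorem one_tmul_algebraMap (a₀ : A₀) :
    (1 : A) ⊗ₜ[A₀] (algebraMap A₀ B₀ a₀) = (algebraMap A₀ A a₀) ⊗ₜ[A₀] (1 : B₀) := by
  rw [Algebra.algebraMap_eq_smul_one, Algebra.algebraMap_eq_smul_one, TensorProduct.tmul_smul,
    TensorProduct.smul_tmul']

theorem forall_exists_of_adjoin_eq_top (s : Set B) (hs : Algebra.adjoin R s = ⊤)
    (e : B ≃ₐ[A] A ⊗[A₀] B₀) (he : ∀ b ∈ s, ∃ c : B₀, e b = 1 ⊗ₜ c) :
    ∀ b : B, ∃ c : B₀, e b = 1 ⊗ₜ c := by
  intro b
  have hb : b ∈ Algebra.adjoin R s := by rw [hs]; trivial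
  induction hb using Algebra.adjoin_induction with
  | mem x hx => exact he x hx
  | algebraMap r =>
    refine ⟨algebraMap A₀ B₀ (algebraMap R A₀ r), ?_⟩
    rw [IsScalarTower.algebraMap_apply R A B, AlgEquiv.commutes,
      Algebra.TensorProduct.algebraMap_apply, IsScalarTower.algebraMap_apply R A₀ A,
      one_tmul_algebraMap]
    simp
  | add x y _ _ hx hy =>
    obtain ⟨c, hc⟩ := hx
    obtain ⟨c', hc'⟩ := hy
    exact ⟨c + c', by rw [map_add, hc, hc', TensorProduct.tmul_add]⟩
  | mul x y _ _ hx hy =>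
    obtain ⟨c, hc⟩ := hx
    obtain ⟨c', hc'⟩ := hy
    exact ⟨c * c', by rw [map_mul, hc, hc', Algebra.TensorProduct.tmul_mul_tmul, mul_one]⟩

omit [Algebra R A] [Algebra R B] [IsScalarTower R A B] [Algebra R A₀] [IsScalarTower R A₀ A] in
theorem surjective_algebraMap_of_forall_exists [Module.FaithfullyFlat A₀ B₀]
    (e : B ≃ₐ[A] A ⊗[A₀] B₀) (he : ∀ b : B, ∃ c : B₀, e b = 1 ⊗ₜ c) :
    Surjective (algebraMap A₀ A) := by
  apply Module.FaithfullyFlat.surjective_of_tensorProduct (S := B₀)
  intro z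
  obtain ⟨c, hc⟩ := he (e.symm ((Algebra.TensorProduct.comm A₀ B₀ A) z))
  refine ⟨c, ?_⟩
  rw [AlgEquiv.apply_symm_apply] at hc
  apply (Algebra.TensorProduct.comm A₀ B₀ A).injective
  rw [hc, Algebra.TensorProduct.algebraMap_apply]
  simp

omit [Algebra R A] [Algebra R A₀] [IsScalarTower R A₀ A] in
theorem one_tmul_eq_zero_iff (hsurj : Surjective (algebraMap A₀ A)) (c : B₀) :
    (1 : A) ⊗ₜ[A₀] c = 0 ↔ c ∈ (RingHom.ker (algebraMap A₀ A)).map (algebraMap A₀ B₀) := by
  let f : A₀ →ₐ[A₀] A := Algebra.ofId A₀ A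
  have hker := Algebra.TensorProduct.rTensor_ker (R := A₀) (C := B₀) f hsurj
  have h1 : (1 : A) ⊗ₜ[A₀] c =
      Algebra.TensorProduct.map f (AlgHom.id A₀ B₀) ((1 : A₀) ⊗ₜ[A₀] c) := by
    simp
  have hKf : RingHom.ker f = RingHom.ker (algebraMap A₀ A) := rfl
  rw [h1, ← RingHom.mem_ker, hker, hKf]
  constructor
  · intro h
    have hle : (RingHom.ker (algebraMap A₀ A)).map
        (Algebra.TensorProduct.includeLeft : A₀ →ₐ[A₀] A₀ ⊗[A₀] B₀) ≤
        ((RingHom.ker (algebraMap A₀ A)).map (algebraMap A₀ B₀)).comap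
          (Algebra.TensorProduct.lid A₀ B₀) := by
      rw [Ideal.map_le_iff_le_comap]
      intro a ha
      rw [Ideal.mem_comap, Ideal.mem_comap]
      have : (Algebra.TensorProduct.lid A₀ B₀)
          ((Algebra.TensorProduct.includeLeft : A₀ →ₐ[A₀] A₀ ⊗[A₀] B₀) a) = algebraMap A₀ B₀ a := by
        simp [Algebra.algebraMap_eq_smul_one]
      rw [this]
      exact Ideal.mem_map_of_mem _ ha
    have := hle h
    rw [Ideal.mem_comap] at this
    simpa using this
  · intro h
    have hle : (RingHom.ker (algebraMap A₀ A)).map (algebraMap A₀ B₀) ≤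
        ((RingHom.ker (algebraMap A₀ A)).map
          (Algebra.TensorProduct.includeLeft : A₀ →ₐ[A₀] A₀ ⊗[A₀] B₀)).comap
          (Algebra.TensorProduct.includeRight : B₀ →ₐ[A₀] A₀ ⊗[A₀] B₀) := by
      rw [Ideal.map_le_iff_le_comap]
      intro a ha
      rw [Ideal.mem_comap, Ideal.mem_comap]
      have : (Algebra.TensorProduct.includeRight : B₀ →ₐ[A₀] A₀ ⊗[A₀] B₀) (algebraMap A₀ B₀ a) =
          (Algebra.TensorProduct.includeLeft : A₀ →ₐ[A₀] A₀ ⊗[A₀] B₀) a := by
        rw [Algebra.TensorProduct.includeRight_apply, Algebra.TensorProduct.includeLeft_apply,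
          Algebra.algebraMap_eq_smul_one, TensorProduct.tmul_smul, TensorProduct.smul_tmul']
        simp
      rw [this]
      exact Ideal.mem_map_of_mem _ ha
    exact hle h

end Aux

section Main

variable {R A B : Type u} [CommRing R] [CommRing A] [CommRing B] [Algebra R A] [Algebra A B]
  [Algebra R B] [IsScalarTower R A B] [Module.FaithfullyFlat A B] [Algebra.FinitePresentation A B]

/-- Finite type descends along an fppf ring map (source side). -/
theorem finiteType_of_faithfullyFlat_finitePresentation [Algebra.FiniteType R B] :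
    Algebra.FiniteType R A := by
  classical
  obtain ⟨s, hs⟩ := (Algebra.FiniteType.out : (⊤ : Subalgebra R B).FG)
  obtain ⟨A₀, B₀, _, _, _, _, hT, _, h1, h2, h3, e, he⟩ :=
    exists_descent (R := R) (A := A) (B := B) s
  have hall := forall_exists_of_adjoin_eq_top (R := R) (s : Set B) hs e (fun b hb => he b hb)
  have hsurj := surjective_algebraMap_of_forall_exists e hall
  have : Algebra.FiniteType R A₀ := inferInstance
  exact Algebra.FiniteType.of_surjective (IsScalarTower.toAlgHom R A₀ A) hsurj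

/-- Finite presentation descends along an fppf ring map (source side). -/
theorem finitePresentation_of_faithfullyFlat_finitePresentation
    [Algebra.FinitePresentation R B] : Algebra.FinitePresentation R A := by
  classical
  obtain ⟨s, hs⟩ := (Algebra.FiniteType.out : (⊤ : Subalgebra R B).FG)
  obtain ⟨A₀, B₀, _, _, _, _, hT, _, h1, h2, h3, e, he⟩ :=
    exists_descent (R := R) (A := A) (B := B) s
  have hall := forall_exists_of_adjoin_eq_top (R := R) (s : Set B) hs e (fun b hb => he b hb)
  have hsurj := surjective_algebraMap_of_forall_exists e hall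
  refine Algebra.FinitePresentation.of_surjective (f := IsScalarTower.toAlgHom R A₀ A) hsurj ?_
  change (RingHom.ker (algebraMap A₀ A)).FG
  apply Ideal.FG.of_FG_map_of_faithfullyFlat (S := B₀)
  let _ : Algebra R B₀ := ((algebraMap A₀ B₀).comp (algebraMap R A₀)).toAlgebra
  have : IsScalarTower R A₀ B₀ := IsScalarTower.of_algebraMap_eq (fun _ => rfl)
  have : Algebra.FinitePresentation R B₀ := Algebra.FinitePresentation.trans R A₀ B₀
  let ρ₀ : B₀ →+* B := (e.symm : A ⊗[A₀] B₀ →+* B).comp
    (Algebra.TensorProduct.includeRight : B₀ →ₐ[A₀] A ⊗[A₀] B₀).toRingHom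
  have hρ₀ : ∀ c, ρ₀ c = e.symm (1 ⊗ₜ c) := fun c => rfl
  let ρ : B₀ →ₐ[R] B :=
    { ρ₀ with
      commutes' := by
        intro r
        change ρ₀ (algebraMap A₀ B₀ (algebraMap R A₀ r)) = _
        rw [hρ₀, AlgEquiv.symm_apply_eq, IsScalarTower.algebraMap_apply R A B, AlgEquiv.commutes,
          Algebra.TensorProduct.algebraMap_apply, IsScalarTower.algebraMap_apply R A₀ A,
          one_tmul_algebraMap]
        simp }
  have hρ : Surjective ρ := by
    intro b
    obtain ⟨c, hc⟩ := hall b
    exact ⟨c, by change ρ₀ c = b; rw [hρ₀, ← hc, AlgEquiv.symm_apply_apply]⟩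
  have hker : (RingHom.ker ρ.toRingHom).FG := Algebra.FinitePresentation.ker_fG_of_surjective ρ hρ
  have heq : RingHom.ker ρ.toRingHom = (RingHom.ker (algebraMap A₀ A)).map (algebraMap A₀ B₀) := by
    ext c
    rw [RingHom.mem_ker, ← one_tmul_eq_zero_iff hsurj c]
    change ρ₀ c = 0 ↔ _
    rw [hρ₀, map_eq_zero_iff e.symm e.symm.injective]
  rw [← heq]
  exact hker

end Main

end Groth.Agent.Lib.FFDescentApp64
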