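import Mathlib
import Groth.Agent.Lib.FFDescentApp64

/-!
# Finite type / finite presentation are fppf local on the source (helper64)

Scheme level: if `p : X' ⟶ X` is surjective, flat and locally of finite presentation and `p ≫ h`
is locally of finite type (resp. presentation), then so is `h` (Stacks 06NB-type for the source).
Consequently `LocallyOfFiniteType` and `LocallyOfFinitePresentation` are local at the source for the
precoverage of jointly surjective families of flat, locally finitely presented morphisms.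
-/

set_option autoImplicit false
universe u
open TensorProduct CategoryTheory CategoryTheory.Limits AlgebraicGeometry

namespace Groth.Agent.Lib.SrcLocalFppf64

/-- `P` is fppf-local on the source: it can be checked after precomposing with a surjective, flat,
locally finitely presented morphism. -/
def SourceFppfLocal (P : MorphismProperty Scheme.{u}) : Prop :=
  ∀ ⦃X' X Y : Scheme.{u}⦄ (p : X' ⟶ X) (h : X ⟶ Y), Flat p → LocallyOfFinitePresentation p →
    Surjective p → P (p ≫ h) → P h

/-- A surjective flat lfp morphism to a quasi-compact scheme is refined by one from an affine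
scheme. -/
theorem exists_affine_refinement {X' X : Scheme.{u}} [CompactSpace X] (p : X' ⟶ X) [Flat p]
    [LocallyOfFinitePresentation p] [Surjective p] :
    ∃ (X'' : Scheme.{u}) (_ : IsAffine X'') (q : X'' ⟶ X'), Flat q ∧
      LocallyOfFinitePresentation q ∧ Surjective (q ≫ p) ∧
      ∀ (P : MorphismProperty Scheme.{u}) [IsZariskiLocalAtSource P] ⦃Z : Scheme.{u}⦄ (w : X' ⟶ Z),
        P w → P (q ≫ w) := by
  have hopen : IsOpenMap p := p.isOpenMap
  let W : X' → X'.Opens := fun x' => (X'.affineCover.f (X'.affineCover.idx x')).opensRange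
  have hW : ∀ x', x' ∈ W x' := fun x' => X'.affineCover.covers x'
  have hWaff : ∀ x', IsAffineOpen (W x') := fun x' => isAffineOpen_opensRange _
  obtain ⟨t, ht⟩ := isCompact_univ.elim_finite_subcover (fun x' : X' => p '' (W x' : Set X'))
    (fun x' => hopen _ (W x').2) (by
      intro x _
      obtain ⟨x', rfl⟩ := p.surjective x
      exact Set.mem_iUnion.2 ⟨x', ⟨x', hW x', rfl⟩⟩)
  let g : t → Scheme.{u} := fun k => (W k.1 : Scheme.{u})
  have : ∀ k, IsAffine (g k) := fun k => hWaff k.1
  refine ⟨∐ g, inferInstance, Sigma.desc (fun k => (W k.1).ι), ?_, ?_, ?_, ?_⟩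
  · exact IsZariskiLocalAtSource.sigmaDesc (fun k => inferInstance)
  · exact IsZariskiLocalAtSource.sigmaDesc (fun k => inferInstance)
  · refine ⟨fun x => ?_⟩
    obtain ⟨k, hk⟩ := Set.mem_iUnion.1 (ht (Set.mem_univ x))
    obtain ⟨hk1, x', hx', rfl⟩ := Set.mem_iUnion.1 hk
    refine ⟨(Sigma.ι g ⟨k, hk1⟩) ⟨x', hx'⟩, ?_⟩
    rw [← Scheme.Hom.comp_apply, Sigma.ι_desc_assoc]
    rfl
  · intro P _ Z w hw
    have e1 : Sigma.desc (fun k : t => (W k.1).ι) ≫ w = Sigma.desc (fun k : t => (W k.1).ι ≫ w) := by
      apply Sigma.hom_ext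
      intro k
      rw [Sigma.ι_desc_assoc, Sigma.ι_desc]
    rw [e1]
    exact IsZariskiLocalAtSource.sigmaDesc (fun k => IsZariskiLocalAtSource.comp hw _)

/-- Reduction of fppf-locality on the source to the affine case. -/
theorem sourceFppfLocal_of_affine {P : MorphismProperty Scheme.{u}} [IsZariskiLocalAtSource P]
    [IsZariskiLocalAtTarget P] [P.RespectsRight @IsOpenImmersion]
    (haff : ∀ ⦃X' X Y : Scheme.{u}⦄ [IsAffine X'] [IsAffine X] [IsAffine Y] (p : X' ⟶ X)
      (h : X ⟶ Y), Flat p → LocallyOfFinitePresentation p → Surjective p → P (p ≫ h) → P h) :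
    SourceFppfLocal P := by
  intro X' X Y p h hp hpfp hps hph
  rw [IsZariskiLocalAtSource.iff_exists_resLE (P := P)]
  intro x
  obtain ⟨U, hU, hxU⟩ : ∃ U : Y.Opens, IsAffineOpen U ∧ h x ∈ U := by
    obtain ⟨_, ⟨U, hU, rfl⟩, hx, -⟩ :=
      (Y.isBasis_affineOpens).exists_subset_of_mem_open (Set.mem_univ (h x)) isOpen_univ
    exact ⟨U, hU, hx⟩
  obtain ⟨V, hV, hxV, hVU⟩ : ∃ V : X.Opens, IsAffineOpen V ∧ x ∈ V ∧ V ≤ h ⁻¹ᵁ U := by
    obtain ⟨_, ⟨V, hV, rfl⟩, hx, hle⟩ :=
      (X.isBasis_affineOpens).exists_subset_of_mem_open (show x ∈ ((h ⁻¹ᵁ U : X.Opens) : Set X) from hxU)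
        (h ⁻¹ᵁ U).2
    exact ⟨V, hV, hx, hle⟩
  refine ⟨U, V, hxV, hVU, ?_⟩
  -- the restricted cover
  let pV : (p ⁻¹ᵁ V : X'.Opens).toScheme ⟶ V.toScheme := p ∣_ V
  have hpV : Flat pV := inferInstance
  have hpVfp : LocallyOfFinitePresentation pV := inferInstance
  have hpVs : Surjective pV :=
    MorphismProperty.of_isPullback (P := @Surjective) (isPullback_morphismRestrict p V).flip hps
  have hle : p ⁻¹ᵁ V ≤ (p ≫ h) ⁻¹ᵁ U := by
    rw [Scheme.Hom.comp_preimage]
    exact Scheme.Hom.preimage_mono p hVU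
  have hcomp : P (pV ≫ h.resLE U V hVU) := by
    have e1 : pV ≫ h.resLE U V hVU = (p ≫ h).resLE U (p ⁻¹ᵁ V) hle := by
      change (p ∣_ V) ≫ h.resLE U V hVU = _
      rw [← Scheme.Hom.resLE_eq_morphismRestrict, Scheme.Hom.resLE_comp_resLE]
    rw [e1]
    exact IsZariskiLocalAtSource.resLE _ hph
  have : IsAffine V.toScheme := hV
  have : IsAffine U.toScheme := hU
  have : CompactSpace V.toScheme := inferInstance
  obtain ⟨X'', hX'', q, hq, hqfp, hqs, hqP⟩ := exists_affine_refinement pV
  refine haff (q ≫ pV) (h.resLE U V hVU) inferInstance inferInstance hqs ?_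
  rw [Category.assoc]
  exact hqP P _ hcomp

/-- Ring data of a surjective flat lfp morphism of affine schemes. -/
theorem fppf_appTop {X' X : Scheme.{u}} [IsAffine X'] [IsAffine X] (p : X' ⟶ X)
    (hp : Flat p) (hpfp : LocallyOfFinitePresentation p) (hps : Surjective p) :
    p.appTop.hom.FinitePresentation ∧ p.appTop.hom.FaithfullyFlat := by
  have h1 : p.appTop.hom.FinitePresentation :=
    (HasRingHomProperty.iff_of_isAffine (P := @LocallyOfFinitePresentation)).1 hpfp
  have h2 : p.appTop.hom.FaithfullyFlat :=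
    (Flat.flat_and_surjective_iff_faithfullyFlat_of_isAffine (f := p)).1 ⟨hp, hps⟩
  exact ⟨h1, h2⟩

theorem finiteType_of_comp_fppf {A B B' : Type u} [CommRing A] [CommRing B] [CommRing B']
    (f : A →+* B) (g : B →+* B') (hg : g.FinitePresentation) (hgf : g.FaithfullyFlat)
    (hgf' : (g.comp f).FiniteType) : f.FiniteType := by
  algebraize [f, g, g.comp f]
  exact Groth.Agent.Lib.FFDescentApp64.finiteType_of_faithfullyFlat_finitePresentation
    (R := A) (A := B) (B := B')

theorem finitePresentation_of_comp_fppf {A B B' : Type u} [CommRing A] [CommRing B] [CommRing B']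
    (f : A →+* B) (g : B →+* B') (hg : g.FinitePresentation) (hgf : g.FaithfullyFlat)
    (hgf' : (g.comp f).FinitePresentation) : f.FinitePresentation := by
  algebraize [f, g, g.comp f]
  exact Groth.Agent.Lib.FFDescentApp64.finitePresentation_of_faithfullyFlat_finitePresentation
    (R := A) (A := B) (B := B')

theorem sourceFppfLocal_locallyOfFiniteType : SourceFppfLocal @LocallyOfFiniteType.{u} := by
  have : MorphismProperty.RespectsRight @LocallyOfFiniteType.{u} @IsOpenImmersion :=
    ⟨fun i hi f hf => by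
      have : IsOpenImmersion i := hi
      have : LocallyOfFiniteType f := hf
      exact (inferInstance : LocallyOfFiniteType (f ≫ i))⟩
  apply sourceFppfLocal_of_affine
  intro X' X Y _ _ _ p h hp hpfp hps hph
  obtain ⟨h1, h2⟩ := fppf_appTop p hp hpfp hps
  rw [HasRingHomProperty.iff_of_isAffine (P := @LocallyOfFiniteType)] at hph ⊢
  rw [Scheme.Hom.comp_appTop, CommRingCat.hom_comp] at hph
  exact finiteType_of_comp_fppf _ _ h1 h2 hph

theorem sourceFppfLocal_locallyOfFinitePresentation :
    SourceFppfLocal @LocallyOfFinitePresentation.{u} := by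
  have : MorphismProperty.RespectsRight @LocallyOfFinitePresentation.{u} @IsOpenImmersion :=
    ⟨fun i hi f hf => by
      have : IsOpenImmersion i := hi
      have : LocallyOfFinitePresentation f := hf
      exact (inferInstance : LocallyOfFinitePresentation (f ≫ i))⟩
  apply sourceFppfLocal_of_affine
  intro X' X Y _ _ _ p h hp hpfp hps hph
  obtain ⟨h1, h2⟩ := fppf_appTop p hp hpfp hps
  rw [HasRingHomProperty.iff_of_isAffine (P := @LocallyOfFinitePresentation)] at hph ⊢
  rw [Scheme.Hom.comp_appTop, CommRingCat.hom_comp] at hph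
  exact finitePresentation_of_comp_fppf _ _ h1 h2 hph

/-- Locality at the source for the fppf precoverage. -/
theorem isLocalAtSource_fppf {P : MorphismProperty Scheme.{u}}
    (pre : ∀ ⦃A B C : Scheme.{u}⦄ (l : A ⟶ B) (w : B ⟶ C), Flat l →
      LocallyOfFinitePresentation l → P w → P (l ≫ w))
    (src : SourceFppfLocal P) [IsZariskiLocalAtSource P] :
    P.IsLocalAtSource (Scheme.precoverage (@Flat ⊓ @LocallyOfFinitePresentation)) := by
  apply MorphismProperty.IsLocalAtSource.mk_of_small.{u}
  · intro X Y f 𝒰 hf i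
    exact pre _ _ (Scheme.Cover.map_prop 𝒰 i).1 (Scheme.Cover.map_prop 𝒰 i).2 hf
  · intro X Y f 𝒰 h
    have h1 : Flat (Sigma.desc 𝒰.f) :=
      IsZariskiLocalAtSource.sigmaDesc (fun i => (Scheme.Cover.map_prop 𝒰 i).1)
    have h1' : LocallyOfFinitePresentation (Sigma.desc 𝒰.f) :=
      IsZariskiLocalAtSource.sigmaDesc (fun i => (Scheme.Cover.map_prop 𝒰 i).2)
    have h2 : Surjective (Sigma.desc 𝒰.f) := by
      refine ⟨fun x => ?_⟩
      obtain ⟨i, y, hy⟩ := Scheme.Cover.exists_eq 𝒰 x
      refine ⟨(Sigma.ι 𝒰.X i) y, ?_⟩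
      rw [← Scheme.Hom.comp_apply, Sigma.ι_desc]
      exact hy
    apply src (Sigma.desc 𝒰.f) f h1 h1' h2
    have e1 : Sigma.desc 𝒰.f ≫ f = Sigma.desc (fun i => 𝒰.f i ≫ f) := by
      apply Sigma.hom_ext
      intro k
      rw [Sigma.ι_desc_assoc, Sigma.ι_desc]
    rw [e1]
    exact IsZariskiLocalAtSource.sigmaDesc (fun i => h i)

theorem isLocalAtSource_fppf_lft :
    MorphismProperty.IsLocalAtSource @LocallyOfFiniteType.{u}
      (Scheme.precoverage (@Flat ⊓ @LocallyOfFinitePresentation)) :=
  isLocalAtSource_fppf (fun _ _ _ l w _ hl hw => by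
    have : LocallyOfFinitePresentation l := hl
    have : LocallyOfFiniteType w := hw
    exact (inferInstance : LocallyOfFiniteType (l ≫ w))) sourceFppfLocal_locallyOfFiniteType

theorem isLocalAtSource_fppf_lfp :
    MorphismProperty.IsLocalAtSource @LocallyOfFinitePresentation.{u}
      (Scheme.precoverage (@Flat ⊓ @LocallyOfFinitePresentation)) :=
  isLocalAtSource_fppf (fun _ _ _ l w _ hl hw => by
    have : LocallyOfFinitePresentation l := hl
    have : LocallyOfFinitePresentation w := hw
    exact (inferInstance : LocallyOfFinitePresentation (l ≫ w)))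
    sourceFppfLocal_locallyOfFinitePresentation

end Groth.Agent.Lib.SrcLocalFppf64
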