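import Groth.Agent.Lib.H8CM8
import Groth.Agent.Lib.SerreSk

/-!
# Cohen–Macaulay / Serre conditions, part 9 (helper8): depth of `R_p` and associated primes of `R/(a)`

For a Noetherian ring `R`, a prime `p` and an `R`-regular element `a ∈ p`:
`depth R_p = 1` if `p ∈ Ass(R/aR)` and `depth R_p ≥ 2` otherwise.
-/

set_option autoImplicit false
set_option linter.unusedSectionVars false
universe u

namespace Groth.Agent.Lib.H8CM

open RingTheory.Sequence IsLocalRing Pointwise Module Groth.Agent.Lib.DepthBasic
  Groth.Agent.Lib.DepthRees LocCoh

variable {R : Type u} [CommRing R] [IsNoetherianRing R]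

/-- `p ∈ Ass_R(R/I)` iff the maximal ideal of `R_p` is an associated prime of `R_p/IR_p`. -/
theorem maximalIdeal_mem_associatedPrimes_localization_iff (p : Ideal R) [p.IsPrime]
    (I : Ideal R) :
    maximalIdeal (Localization.AtPrime p) ∈ associatedPrimes (Localization.AtPrime p)
      (Localization.AtPrime p ⧸ (show Submodule (Localization.AtPrime p) (Localization.AtPrime p)
        from I.map (algebraMap R (Localization.AtPrime p)))) ↔
      p ∈ associatedPrimes R (R ⧸ (show Submodule R R from I)) := by
  have hI' : (show Submodule R R from I).localized' (Localization.AtPrime p) p.primeCompl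
      (Algebra.linearMap R (Localization.AtPrime p)) =
      (show Submodule (Localization.AtPrime p) (Localization.AtPrime p)
        from I.map (algebraMap R (Localization.AtPrime p))) := by
    rw [Submodule.localized'_eq_span]
    rfl
  have key := Module.associatedPrimes.preimage_comap_associatedPrimes_eq_associatedPrimes_of_isLocalizedModule
    p.primeCompl (Localization.AtPrime p)
    ((show Submodule R R from I).toLocalizedQuotient'
      (Localization.AtPrime p) p.primeCompl (Algebra.linearMap R (Localization.AtPrime p)))
  rw [hI'] at key
  rw [← key, Set.mem_preimage]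
  have := IsLocalization.AtPrime.under_maximalIdeal (Localization.AtPrime p) p
  rw [Ideal.under] at this
  rw [this]

/-- For `a ∈ p` regular on `R`: `depth R_p = depth(R_p/aR_p) + 1`, and the maximal ideal of `R_p`
is associated to `R_p/aR_p` iff `p ∈ Ass(R/aR)`. -/
theorem depth_localization_of_mem_associatedPrimes (p : Ideal R) [p.IsPrime] {a : R}
    (hap : a ∈ p) (hreg : IsSMulRegular R a) :
    (p ∈ associatedPrimes R (R ⧸ (show Submodule R R from Ideal.span {a})) →
      depth (Localization.AtPrime p) (Localization.AtPrime p) = 1) ∧
    (p ∉ associatedPrimes R (R ⧸ (show Submodule R R from Ideal.span {a})) →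
      2 ≤ depth (Localization.AtPrime p) (Localization.AtPrime p)) := by
  have hxm : algebraMap R (Localization.AtPrime p) a ∈ maximalIdeal (Localization.AtPrime p) :=
    (IsLocalization.AtPrime.to_map_mem_maximal_iff _ p _).mpr hap
  have hxreg : IsSMulRegular (Localization.AtPrime p) (algebraMap R (Localization.AtPrime p) a) := by
    have h1 : IsWeaklyRegular R [a] := (isWeaklyRegular_singleton_iff R a).mpr hreg
    have h2 := h1.of_isLocalization (Localization.AtPrime p) p.primeCompl
    simpa [isWeaklyRegular_singleton_iff] using h2
  have hd := depth_quotSMulTop_add_one (Localization.AtPrime p) hxm hxreg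
  have hnt := nontrivial_quotSMulTop (M := Localization.AtPrime p) hxm
  have hiff := Groth.Agent.Lib.SerreSk.maximalIdeal_mem_associatedPrimes_iff
    (R := Localization.AtPrime p) (QuotSMulTop (algebraMap R (Localization.AtPrime p) a) (Localization.AtPrime p))
  have hsub : (algebraMap R (Localization.AtPrime p) a) •
      (⊤ : Submodule (Localization.AtPrime p) (Localization.AtPrime p)) =
      (show Submodule (Localization.AtPrime p) (Localization.AtPrime p)
        from (Ideal.span {a}).map (algebraMap R (Localization.AtPrime p))) := by
    rw [← Submodule.ideal_span_singleton_smul, Ideal.map_span, Set.image_singleton]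
    simp
  have hass : associatedPrimes (Localization.AtPrime p)
      (QuotSMulTop (algebraMap R (Localization.AtPrime p) a) (Localization.AtPrime p)) =
      associatedPrimes (Localization.AtPrime p)
      (Localization.AtPrime p ⧸ (show Submodule (Localization.AtPrime p) (Localization.AtPrime p)
        from (Ideal.span {a}).map (algebraMap R (Localization.AtPrime p)))) :=
    LinearEquiv.AssociatedPrimes.eq (Submodule.quotEquivOfEq _ _ hsub)
  rw [hass, maximalIdeal_mem_associatedPrimes_localization_iff] at hiff
  constructor
  · intro h
    have h1 := hiff.mp h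
    have h0 : depth (Localization.AtPrime p)
        (QuotSMulTop (algebraMap R (Localization.AtPrime p) a) (Localization.AtPrime p)) = 0 := by
      rw [Order.one_le_iff_ne_zero, not_not] at h1
      exact h1
    rw [← hd, h0, zero_add]
  · intro h
    have h1 : 1 ≤ depth (Localization.AtPrime p)
        (QuotSMulTop (algebraMap R (Localization.AtPrime p) a) (Localization.AtPrime p)) := by
      by_contra hcon
      exact h (hiff.mpr hcon)
    rw [← hd]
    calc (2 : ℕ∞) = 1 + 1 := by norm_num
      _ ≤ _ := add_le_add_left h1 1

/-- Serre's condition `(S_k)` for the ring `R` (as a module over itself) in terms of heights and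
the depth of `R_p` over itself. -/
theorem hasSk_self_iff (k : ℕ) :
    HasSk k R R ↔ ∀ (p : Ideal R) [p.IsPrime],
      min (k : ℕ∞) p.height ≤ depth (Localization.AtPrime p) (Localization.AtPrime p) := by
  have key : ∀ (p : Ideal R) [p.IsPrime],
      (min (k : WithBot ℕ∞)
        (Module.supportDim (Localization.AtPrime p) (LocalizedModule p.primeCompl R)) ≤
      ((depth (Localization.AtPrime p) (LocalizedModule p.primeCompl R) : ℕ∞) : WithBot ℕ∞)) ↔
      min (k : ℕ∞) p.height ≤ depth (Localization.AtPrime p) (Localization.AtPrime p) := by
    intro p _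
    rw [supportDim_eq_of_equiv (localizedModuleSelfEquiv p),
      depth_eq_of_equiv (localizedModuleSelfEquiv p), Module.supportDim_self_eq_ringKrullDim,
      IsLocalization.AtPrime.ringKrullDim_eq_height p]
    have : (min (k : WithBot ℕ∞) ((p.height : ℕ∞) : WithBot ℕ∞)) =
        ((min (k : ℕ∞) p.height : ℕ∞) : WithBot ℕ∞) := by
      rw [WithBot.coe_min]; rfl
    rw [this, WithBot.coe_le_coe]
  unfold HasSk
  exact ⟨fun h p _ ↦ (key p).mp (h p), fun h p _ ↦ (key p).mpr (h p)⟩

end Groth.Agent.Lib.H8CM
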