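/-
helper14: quotients of Cohen–Macaulay local rings by a regular element (ring level, for the
prelude's `LocCoh.IsCohenMacaulayLocalRing`), and `(A/I)_q ≅ A_P/IA_P`.  Used for S10834.
-/
import Mathlib
import Groth.Agent.Lib.H8CM6
import Groth.Agent.Lib.H8DepthBC2
import Groth.Agent.Lib.CMRingEquiv96

set_option autoImplicit false
set_option linter.style.haveILetI false
universe u

namespace Groth.Agent.Lib.H14CMQuot

open IsLocalRing LocCoh Module Groth.Agent.Lib.H8CM Pointwise

/-- The quotient of a Cohen–Macaulay local ring by a regular element of the maximal ideal is a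
Cohen–Macaulay local ring. -/
theorem isCMLocalRing_quotient_of_regular (R : Type u) [CommRing R] [IsCohenMacaulayLocalRing R]
    {x : R} (hx : x ∈ maximalIdeal R) (reg : IsSMulRegular R x) (J : Ideal R)
    (hJ : J = Ideal.span {x}) : IsCohenMacaulayLocalRing (R ⧸ J) := by
  subst hJ
  have hne : Ideal.span {x} ≠ (⊤ : Ideal R) := by
    intro h
    have : Ideal.span {x} ≤ maximalIdeal R := by
      rw [Ideal.span_le, Set.singleton_subset_iff]; exact hx
    rw [h] at this
    exact (maximalIdeal.isMaximal R).ne_top (top_le_iff.mp this)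
  haveI : Nontrivial (R ⧸ Ideal.span {x}) := Ideal.Quotient.nontrivial_iff.mpr hne
  haveI : IsLocalRing (R ⧸ Ideal.span {x}) :=
    IsLocalRing.of_surjective' (Ideal.Quotient.mk _) Ideal.Quotient.mk_surjective
  haveI : IsLocalHom (algebraMap R (R ⧸ Ideal.span {x})) :=
    IsLocalHom.of_surjective _ Ideal.Quotient.mk_surjective
  have h1 : IsCohenMacaulayModule R (QuotSMulTop x R) :=
    isCM_quotSMulTop (isCM_self_of_isCMLocalRing (R := R)) hx reg
  have hsub : x • (⊤ : Submodule R R) = (Ideal.span {x} : Ideal R) := by
    rw [← Submodule.ideal_span_singleton_smul]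
    simp
  have h2 : IsCohenMacaulayModule R (R ⧸ (Ideal.span {x} : Ideal R)) :=
    isCM_of_equiv (Submodule.quotEquivOfEq _ _ hsub) h1
  refine ⟨?_⟩
  rw [IsCohenMacaulayModule] at h2
  rw [supportDim_self_eq_ringKrullDim, ← supportDim_quotient_eq_ringKrullDim, h2,
    Groth.Agent.Lib.H8DepthBC.depth_eq_depth_of_isLocalHom (A := R) (B := R ⧸ Ideal.span {x})]

/-- The quotient of a Cohen–Macaulay local domain by a principal ideal generated by an element of
the maximal ideal (possibly zero) is a Cohen–Macaulay local ring. -/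
theorem isCMLocalRing_quotient_of_isDomain (R : Type u) [CommRing R] [IsDomain R]
    [IsCohenMacaulayLocalRing R] {x : R} (hx : x ∈ maximalIdeal R) (J : Ideal R)
    (hJ : J = Ideal.span {x}) : IsCohenMacaulayLocalRing (R ⧸ J) := by
  by_cases hx0 : x = 0
  · subst hx0
    have hJ' : J = ⊥ := by rw [hJ]; simp
    subst hJ'
    exact Groth.Agent.Lib.CMRingEquiv96.isCohenMacaulayLocalRing_of_ringEquiv
      (RingEquiv.quotientBot R).symm
  · exact isCMLocalRing_quotient_of_regular R hx (fun a b h => mul_left_cancel₀ hx0 h) J hJ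

/-- `(A/I)_q ≅ A_P / I A_P` for `P` the preimage of `q`. -/
noncomputable def localizationQuotientEquiv {A : Type u} [CommRing A] (I : Ideal A)
    (q : Ideal (A ⧸ I)) [q.IsPrime] :
    Localization.AtPrime q ≃+*
      (Localization.AtPrime (q.comap (Ideal.Quotient.mk I)) ⧸
        I.map (algebraMap A (Localization.AtPrime (q.comap (Ideal.Quotient.mk I))))) := by
  set P := q.comap (Ideal.Quotient.mk I) with hP
  have hsub : Algebra.algebraMapSubmonoid (A ⧸ I) P.primeCompl = q.primeCompl := by
    ext y
    constructor
    · rintro ⟨a, ha, rfl⟩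
      exact ha
    · intro hy
      obtain ⟨a, rfl⟩ := Ideal.Quotient.mk_surjective y
      exact ⟨a, hy, rfl⟩
  have h1 : IsLocalization (Algebra.algebraMapSubmonoid (A ⧸ I) P.primeCompl)
      (Localization.AtPrime P ⧸ I.map (algebraMap A (Localization.AtPrime P))) := inferInstance
  rw [hsub] at h1
  exact (IsLocalization.algEquiv q.primeCompl (Localization.AtPrime q)
      (Localization.AtPrime P ⧸ I.map (algebraMap A (Localization.AtPrime P)))).toRingEquiv

/-- If `A_P` is a Cohen–Macaulay local domain for the preimage `P` of `q`, then `(A/(f))_q` is a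
Cohen–Macaulay local ring. -/
theorem isCMLocalRing_localization_quotient_span_singleton {A : Type u} [CommRing A] (f : A)
    (q : Ideal (A ⧸ Ideal.span {f})) [q.IsPrime]
    [IsDomain (Localization.AtPrime (q.comap (Ideal.Quotient.mk (Ideal.span {f}))))]
    [IsCohenMacaulayLocalRing (Localization.AtPrime (q.comap (Ideal.Quotient.mk (Ideal.span {f}))))] :
    IsCohenMacaulayLocalRing (Localization.AtPrime q) := by
  set P := q.comap (Ideal.Quotient.mk (Ideal.span {f})) with hP
  have hfP : f ∈ P := by
    rw [hP, Ideal.mem_comap]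
    have : (Ideal.Quotient.mk (Ideal.span {f})) f = 0 :=
      Ideal.Quotient.eq_zero_iff_mem.mpr (Ideal.subset_span rfl)
    rw [this]; exact q.zero_mem
  have hx : algebraMap A (Localization.AtPrime P) f ∈ maximalIdeal (Localization.AtPrime P) :=
    (IsLocalization.AtPrime.to_map_mem_maximal_iff _ P _).mpr hfP
  have hJ : (Ideal.span {f}).map (algebraMap A (Localization.AtPrime P)) =
      Ideal.span {algebraMap A (Localization.AtPrime P) f} := by
    rw [Ideal.map_span, Set.image_singleton]
  haveI := isCMLocalRing_quotient_of_isDomain (Localization.AtPrime P) hx _ hJ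
  exact Groth.Agent.Lib.CMRingEquiv96.isCohenMacaulayLocalRing_of_ringEquiv
    (localizationQuotientEquiv (Ideal.span {f}) q).symm

end Groth.Agent.Lib.H14CMQuot
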