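/-
helper8: quotients of CM local rings by sequences cutting the dimension correctly are CM;
complete intersections `k[x_1..x_n]/(f_1..f_c)` of dimension `n - c` are Cohen–Macaulay rings.
-/
import Mathlib
import Groth.Agent.Lib.H14CMQuot
import Groth.Agent.Lib.EquidimCat33
import Groth.Agent.Lib.FTDim
import Groth.Prelude.Def_RegImm

set_option autoImplicit false
set_option linter.style.haveILetI false
universe u

namespace Groth.Agent.Lib.H8LCICM

open IsLocalRing LocCoh Module Groth.Agent.Lib.H8CM RingTheory.Sequence

/-- The quotient of a Cohen–Macaulay local ring by a sequence in the maximal ideal that cuts the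
dimension down by its length is a Cohen–Macaulay local ring (and the sequence is regular). -/
theorem isCMLocalRing_quotient_ofList (R : Type u) [CommRing R] [IsCohenMacaulayLocalRing R]
    (rs : List R) (hrs : ∀ r ∈ rs, r ∈ maximalIdeal R)
    (hdim : ringKrullDim (R ⧸ Ideal.ofList rs) + rs.length = ringKrullDim R) (J : Ideal R)
    (hJ : J = Ideal.ofList rs) : IsCohenMacaulayLocalRing (R ⧸ J) := by
  subst hJ
  have hreg : IsWeaklyRegular R rs := (isWeaklyRegular_self_iff rs hrs).2 hdim
  have hle : Ideal.ofList rs ≤ maximalIdeal R := by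
    rw [Ideal.ofList, Ideal.span_le]; intro x hx; exact hrs x hx
  have hne : Ideal.ofList rs ≠ ⊤ := fun h =>
    (maximalIdeal.isMaximal R).ne_top (top_le_iff.mp (h.ge.trans hle))
  haveI : Nontrivial (R ⧸ Ideal.ofList rs) := Ideal.Quotient.nontrivial_iff.mpr hne
  haveI : IsLocalRing (R ⧸ Ideal.ofList rs) :=
    IsLocalRing.of_surjective' (Ideal.Quotient.mk _) Ideal.Quotient.mk_surjective
  haveI : IsLocalHom (algebraMap R (R ⧸ Ideal.ofList rs)) :=
    IsLocalHom.of_surjective _ Ideal.Quotient.mk_surjective
  have h1 := (isWeaklyRegular_iff_of_isCM rs (isCM_self_of_isCMLocalRing (R := R)) hrs).2 hreg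
  have hsub : Ideal.ofList rs • (⊤ : Submodule R R) = (Ideal.ofList rs : Ideal R) := by simp
  have h2 : IsCohenMacaulayModule R (R ⧸ (Ideal.ofList rs : Ideal R)) :=
    isCM_of_equiv (Submodule.quotEquivOfEq _ _ hsub) h1
  refine ⟨?_⟩
  rw [IsCohenMacaulayModule] at h2
  rw [supportDim_self_eq_ringKrullDim, ← supportDim_quotient_eq_ringKrullDim, h2,
    Groth.Agent.Lib.H8DepthBC.depth_eq_depth_of_isLocalHom (A := R) (B := R ⧸ Ideal.ofList rs)]


theorem arith (a h : ℕ∞) (b e : WithBot ℕ∞) (c d : ℕ) (h1 : (h : WithBot ℕ∞) + b = d)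
    (h2 : (a : WithBot ℕ∞) + b ≤ e) (h3 : e + c ≤ d) (h4 : (h : WithBot ℕ∞) ≤ a + c) :
    (a : WithBot ℕ∞) + c = h := by
  induction b using WithBot.recBotCoe with
  | bot => simp at h1
  | coe b =>
    induction e using WithBot.recBotCoe with
    | bot =>
      exfalso
      rw [← WithBot.coe_add] at h2
      exact (WithBot.coe_ne_bot (le_bot_iff.mp h2))
    | coe e =>
      have h1' : h + b = (d : ℕ∞) := by exact_mod_cast h1
      have h2' : a + b ≤ e := by exact_mod_cast h2
      have h3' : e + (c : ℕ∞) ≤ (d : ℕ∞) := by exact_mod_cast h3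
      have h4' : h ≤ a + (c : ℕ∞) := by exact_mod_cast h4
      suffices a + (c : ℕ∞) = h by exact_mod_cast this
      induction h using ENat.recTopCoe with
      | top => simp at h1'
      | coe h =>
        induction b using ENat.recTopCoe with
        | top => simp at h1'
        | coe b =>
          induction e using ENat.recTopCoe with
          | top => simp at h3'
          | coe e =>
            induction a using ENat.recTopCoe with
            | top => simp at h2'
            | coe a =>
              have g1 : h + b = d := by exact_mod_cast h1'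
              have g2 : a + b ≤ e := by exact_mod_cast h2'
              have g3 : e + c ≤ d := by exact_mod_cast h3'
              have g4 : h ≤ a + c := by exact_mod_cast h4'
              have : a + c = h := by omega
              exact_mod_cast this

/-- Krull's bound in ring form. -/
theorem ringKrullDim_le_quotient_ofList_add {R : Type u} [CommRing R] [IsNoetherianRing R]
    [IsLocalRing R] (rs : List R) (hrs : ∀ r ∈ rs, r ∈ maximalIdeal R) :
    ringKrullDim R ≤ ringKrullDim (R ⧸ Ideal.ofList rs) + rs.length := by
  have := supportDim_le_supportDim_quotient_ofList_add rs (M := R) hrs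
  rwa [supportDim_self_eq_ringKrullDim, supportDim_quotient_smul_top_self] at this

section General

variable {B : Type u} [CommRing B] [IsCohenMacaulayRing B] (d : ℕ)
  (hB : ∀ (Q : Ideal B) [Q.IsPrime], (Q.height : WithBot ℕ∞) + ringKrullDim (B ⧸ Q) = d)
  (rs : List B) (hdim : ringKrullDim (B ⧸ Ideal.ofList rs) + rs.length ≤ d)

include hB hdim

/-- Dimension count: in a CM ring with `ht Q + dim B/Q = d` for all primes, if `dim B/(rs) + |rs| ≤ d`
then `rs` cuts the dimension of every `B_Q` (`Q ⊇ (rs)`) by exactly `|rs|`. -/
theorem ringKrullDim_localization_quotient_add_length (q : Ideal (B ⧸ Ideal.ofList rs))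
    [q.IsPrime] :
    ringKrullDim (Localization.AtPrime (q.comap (Ideal.Quotient.mk (Ideal.ofList rs))) ⧸
      Ideal.ofList (rs.map (algebraMap B
        (Localization.AtPrime (q.comap (Ideal.Quotient.mk (Ideal.ofList rs))))))) + rs.length =
      ringKrullDim (Localization.AtPrime (q.comap (Ideal.Quotient.mk (Ideal.ofList rs)))) := by
  set Q := q.comap (Ideal.Quotient.mk (Ideal.ofList rs)) with hQ
  haveI : Q.IsPrime := Ideal.comap_isPrime _ _
  have hIQ : Ideal.ofList rs ≤ Q := by
    intro x hx
    rw [hQ, Ideal.mem_comap, Ideal.Quotient.eq_zero_iff_mem.mpr hx]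
    exact q.zero_mem
  have hqQ : Q.map (Ideal.Quotient.mk (Ideal.ofList rs)) = q :=
    Ideal.map_comap_of_surjective _ Ideal.Quotient.mk_surjective q
  haveI : IsNoetherianRing B := inferInstance
  haveI : IsCohenMacaulayLocalRing (Localization.AtPrime Q) :=
    IsCohenMacaulayRing.isCohenMacaulayLocalRing_localization Q
  have hmem : ∀ r ∈ rs.map (algebraMap B (Localization.AtPrime Q)),
      r ∈ maximalIdeal (Localization.AtPrime Q) := by
    intro r hr
    obtain ⟨x, hx, rfl⟩ := List.mem_map.mp hr
    exact (IsLocalization.AtPrime.to_map_mem_maximal_iff _ Q _).mpr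
      (hIQ (Ideal.subset_span hx))
  have hK := ringKrullDim_le_quotient_ofList_add _ hmem
  rw [List.length_map] at hK
  have e1 : ringKrullDim (Localization.AtPrime Q) = Q.height :=
    IsLocalization.AtPrime.ringKrullDim_eq_height Q _
  have e2 : ringKrullDim (Localization.AtPrime Q ⧸
      Ideal.ofList (rs.map (algebraMap B (Localization.AtPrime Q)))) = q.height := by
    rw [← Ideal.map_ofList, ← IsLocalization.AtPrime.ringKrullDim_eq_height q
      (Localization.AtPrime q)]
    exact (ringKrullDim_eq_of_ringEquiv
      (Groth.Agent.Lib.H14CMQuot.localizationQuotientEquiv (Ideal.ofList rs) q)).symm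
  have e3 := Groth.Agent.Lib.EquidimCat33.height_add_ringKrullDim_quotient_le' q
  have e4 : ringKrullDim ((B ⧸ Ideal.ofList rs) ⧸ q) = ringKrullDim (B ⧸ Q) := by
    rw [← hqQ]
    exact Groth.Agent.Lib.EquidimCat33.ringKrullDim_quotQuot hIQ
  rw [e4] at e3
  rw [e1, e2] at hK ⊢
  exact arith q.height Q.height _ _ rs.length d (hB Q) e3 hdim hK


/-- Under the dimension hypothesis, all local rings of `B/(rs)` are Cohen–Macaulay. -/
theorem isCMLocalRing_localization_quotient (q : Ideal (B ⧸ Ideal.ofList rs)) [q.IsPrime] :
    IsCohenMacaulayLocalRing (Localization.AtPrime q) := by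
  have key := ringKrullDim_localization_quotient_add_length d hB rs hdim q
  set Q := q.comap (Ideal.Quotient.mk (Ideal.ofList rs)) with hQ
  haveI : Q.IsPrime := Ideal.comap_isPrime _ _
  have hIQ : Ideal.ofList rs ≤ Q := by
    intro x hx
    rw [hQ, Ideal.mem_comap, Ideal.Quotient.eq_zero_iff_mem.mpr hx]
    exact q.zero_mem
  haveI : IsCohenMacaulayLocalRing (Localization.AtPrime Q) :=
    IsCohenMacaulayRing.isCohenMacaulayLocalRing_localization Q
  have hmem : ∀ r ∈ rs.map (algebraMap B (Localization.AtPrime Q)),
      r ∈ maximalIdeal (Localization.AtPrime Q) := by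
    intro r hr
    obtain ⟨x, hx, rfl⟩ := List.mem_map.mp hr
    exact (IsLocalization.AtPrime.to_map_mem_maximal_iff _ Q _).mpr
      (hIQ (Ideal.subset_span hx))
  rw [← List.length_map (f := algebraMap B (Localization.AtPrime Q))] at key
  haveI := isCMLocalRing_quotient_ofList (Localization.AtPrime Q) _ hmem key
    ((Ideal.ofList rs).map (algebraMap B (Localization.AtPrime Q))) (Ideal.map_ofList _ _)
  exact Groth.Agent.Lib.CMRingEquiv96.isCohenMacaulayLocalRing_of_ringEquiv
    (Groth.Agent.Lib.H14CMQuot.localizationQuotientEquiv (Ideal.ofList rs) q).symm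

/-- Under the dimension hypothesis, `B/(rs)` is a Cohen–Macaulay ring. -/
theorem isCMRing_quotient : IsCohenMacaulayRing (B ⧸ Ideal.ofList rs) := by
  haveI : IsNoetherianRing B := inferInstance
  exact { isCohenMacaulayLocalRing_localization := fun q _ =>
    isCMLocalRing_localization_quotient d hB rs hdim q }

/-- Under the dimension hypothesis, `rs` is a regular sequence in `B_Q` for every prime
`Q ⊇ (rs)`. -/
theorem isRegular_localization (Q : Ideal B) [Q.IsPrime] (hIQ : Ideal.ofList rs ≤ Q) :
    IsRegular (Localization.AtPrime Q) (rs.map (algebraMap B (Localization.AtPrime Q))) := by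
  haveI : IsCohenMacaulayLocalRing (Localization.AtPrime Q) :=
    IsCohenMacaulayRing.isCohenMacaulayLocalRing_localization Q
  have hmem : ∀ r ∈ rs.map (algebraMap B (Localization.AtPrime Q)),
      r ∈ maximalIdeal (Localization.AtPrime Q) := by
    intro r hr
    obtain ⟨x, hx, rfl⟩ := List.mem_map.mp hr
    exact (IsLocalization.AtPrime.to_map_mem_maximal_iff _ Q _).mpr
      (hIQ (Ideal.subset_span hx))
  haveI hq : (Q.map (Ideal.Quotient.mk (Ideal.ofList rs))).IsPrime :=
    Ideal.isPrime_map_quotientMk_of_isPrime hIQ
  have hQ : (Q.map (Ideal.Quotient.mk (Ideal.ofList rs))).comap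
      (Ideal.Quotient.mk (Ideal.ofList rs)) = Q := by
    rw [Ideal.comap_map_of_surjective _ Ideal.Quotient.mk_surjective, ← RingHom.ker_eq_comap_bot,
      Ideal.mk_ker, sup_eq_left]
    exact hIQ
  have key : ∀ (Q' : Ideal B) [Q'.IsPrime], Q' = Q →
      ringKrullDim (Localization.AtPrime Q' ⧸
        Ideal.ofList (rs.map (algebraMap B (Localization.AtPrime Q')))) + rs.length =
      ringKrullDim (Localization.AtPrime Q') → 
      ringKrullDim (Localization.AtPrime Q ⧸
        Ideal.ofList (rs.map (algebraMap B (Localization.AtPrime Q)))) + rs.length =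
      ringKrullDim (Localization.AtPrime Q) := by
    intro Q' _ h
    subst h
    exact id
  have key2 := key _ hQ (ringKrullDim_localization_quotient_add_length d hB rs hdim
    (Q.map (Ideal.Quotient.mk (Ideal.ofList rs))))
  rw [← List.length_map (f := algebraMap B (Localization.AtPrime Q))] at key2
  refine ⟨(isWeaklyRegular_self_iff _ hmem).2 key2, ?_⟩
  have hle : Ideal.ofList (rs.map (algebraMap B (Localization.AtPrime Q))) ≤
      maximalIdeal (Localization.AtPrime Q) := by
    rw [Ideal.ofList, Ideal.span_le]; intro x hx; exact hmem x hx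
  intro h
  have h' : Ideal.ofList (rs.map (algebraMap B (Localization.AtPrime Q))) = ⊤ := by
    have : Ideal.ofList (rs.map (algebraMap B (Localization.AtPrime Q))) •
      (⊤ : Submodule (Localization.AtPrime Q) (Localization.AtPrime Q)) =
      Ideal.ofList (rs.map (algebraMap B (Localization.AtPrime Q))) := by simp
    rw [← this]; exact h.symm
  exact (maximalIdeal.isMaximal _).ne_top (top_le_iff.mp (h'.ge.trans hle))

end General


/-- If `S_g` is a Cohen–Macaulay ring and `g ∉ p`, then `S_p` is a Cohen–Macaulay local ring. -/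
theorem isCMLocalRing_atPrime_of_away {S : Type u} [CommRing S] (p : Ideal S) [hp : p.IsPrime]
    (g : S) (hg : g ∉ p) [IsCohenMacaulayRing (Localization.Away g)] :
    IsCohenMacaulayLocalRing (Localization.AtPrime p) := by
  have hdisj : Disjoint (Submonoid.powers g : Set S) (p : Set S) := by
    rw [Set.disjoint_left]
    rintro x ⟨n, rfl⟩ hx
    exact hg (hp.mem_of_pow_mem n hx)
  set p' := p.map (algebraMap S (Localization.Away g)) with hp'
  haveI : p'.IsPrime :=
    IsLocalization.isPrime_of_isPrime_disjoint (Submonoid.powers g) _ p hp hdisj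
  have hcomap : p'.comap (algebraMap S (Localization.Away g)) = p :=
    IsLocalization.under_map_of_isPrime_disjoint (Submonoid.powers g) _ hp hdisj
  have h1 : IsLocalization.AtPrime (Localization.AtPrime p')
      (p'.comap (algebraMap S (Localization.Away g))) :=
    IsLocalization.isLocalization_isLocalization_atPrime_isLocalization (.powers g) _ p'
  have h2 : IsLocalization p.primeCompl (Localization.AtPrime p') := by
    have : (p'.comap (algebraMap S (Localization.Away g))).primeCompl = p.primeCompl := by
      ext x
      simp only [Ideal.mem_primeCompl_iff]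
      rw [hcomap]
    rw [← this]
    exact h1
  haveI : IsCohenMacaulayLocalRing (Localization.AtPrime p') :=
    IsCohenMacaulayRing.isCohenMacaulayLocalRing_localization p'
  exact Groth.Agent.Lib.CMRingEquiv96.isCohenMacaulayLocalRing_of_ringEquiv
    (IsLocalization.algEquiv p.primeCompl (Localization.AtPrime p')
      (Localization.AtPrime p)).toRingEquiv

section Field

variable (k : Type u) [Field k]

/-- A polynomial ring over a field is a Cohen–Macaulay ring. -/
instance isCMRing_mvPolynomial (n : ℕ) : IsCohenMacaulayRing (MvPolynomial (Fin n) k) :=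
  { isCohenMacaulayLocalRing_localization := fun p _ =>
      isCMLocalRing_of_isRegularLocalRing (R := Localization.AtPrime p) }

theorem ofList_ofFn {R : Type*} [CommRing R] {c : ℕ} (r : Fin c → R) :
    Ideal.ofList (List.ofFn r) = Ideal.span (Set.range r) := by
  unfold Ideal.ofList
  congr 1
  ext x
  simp [List.mem_ofFn]

/-- A global complete intersection over a field is a Cohen–Macaulay ring. -/
theorem isCMRing_of_isGlobalCI (S : Type u) [CommRing S] [Algebra k S]
    (h : Synt.IsGlobalCI k S) : IsCohenMacaulayRing S := by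
  rcases h with hs | ⟨n, c, hcn, φ, r, hsurj, hker, hdim⟩
  · haveI : IsNoetherianRing S := inferInstance
    refine { isCohenMacaulayLocalRing_localization := fun p hp => ?_ }
    exact absurd (Subsingleton.elim _ _ : p = ⊤) hp.ne_top
  · have hker' : RingHom.ker φ.toRingHom = Ideal.ofList (List.ofFn r) := by
      rw [hker, ofList_ofFn]
    have e : (MvPolynomial (Fin n) k ⧸ Ideal.ofList (List.ofFn r)) ≃+* S :=
      (Ideal.quotEquivOfEq hker'.symm).trans
        (RingHom.quotientKerEquivOfSurjective (f := φ.toRingHom) hsurj)
    have hB : ∀ (Q : Ideal (MvPolynomial (Fin n) k)) [Q.IsPrime],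
        (Q.height : WithBot ℕ∞) + ringKrullDim (MvPolynomial (Fin n) k ⧸ Q) = n := by
      intro Q _
      rw [Groth.Agent.Lib.FTDim.height_add_ringKrullDim_quotient k _ Q,
        Groth.Agent.Lib.FTDim.ringKrullDim_mvPolynomial]
    have hdim' : ringKrullDim (MvPolynomial (Fin n) k ⧸ Ideal.ofList (List.ofFn r)) +
        (List.ofFn r).length ≤ n := by
      rw [ringKrullDim_eq_of_ringEquiv e, hdim, List.length_ofFn]
      have : (n - c) + c ≤ n := by omega
      exact_mod_cast this
    haveI := isCMRing_quotient n hB (List.ofFn r) hdim'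
    exact Groth.Agent.Lib.CMRingEquiv96.isCohenMacaulayRing_of_ringEquiv e

/-- A local complete intersection over a field is a Cohen–Macaulay ring. -/
theorem isCMRing_of_isLCIOver (S : Type u) [CommRing S] [Algebra k S]
    (h : Synt.IsLCIOver k S) : IsCohenMacaulayRing S := by
  obtain ⟨hft, hloc⟩ := h
  haveI : IsNoetherianRing S := Algebra.FiniteType.isNoetherianRing k S
  refine { isCohenMacaulayLocalRing_localization := fun p hp => ?_ }
  obtain ⟨g, hg, hgci⟩ := hloc ⟨p, hp⟩
  haveI := isCMRing_of_isGlobalCI k _ hgci
  exact isCMLocalRing_atPrime_of_away p g hg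

end Field

end Groth.Agent.Lib.H8LCICM
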