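/-
helper8: in a Cohen–Macaulay equidimensional finite type algebra over a field,
`ht Q + dim S/Q = d` for every prime `Q`.
-/
import Mathlib
import Groth.Agent.Lib.H8LCICM

set_option autoImplicit false
set_option linter.style.haveILetI false
universe u

namespace Groth.Agent.Lib.H8LCICM

open IsLocalRing LocCoh Module Groth.Agent.Lib.H8CM RingTheory.Sequence

/-- In a Cohen–Macaulay ring, heights do not change on passing to the quotient by a minimal
prime. -/
theorem height_comap_quotient_of_minimalPrime {S : Type u} [CommRing S] [IsCohenMacaulayRing S]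
    (p : Ideal S) (hp : p ∈ minimalPrimes S) (q : Ideal (S ⧸ p)) [q.IsPrime] :
    (q.comap (Ideal.Quotient.mk p)).height = q.height := by
  haveI : p.IsPrime := hp.1.1
  set Q := q.comap (Ideal.Quotient.mk p) with hQ
  haveI : Q.IsPrime := Ideal.comap_isPrime _ _
  have hpQ : p ≤ Q := by
    intro x hx
    rw [hQ, Ideal.mem_comap, Ideal.Quotient.eq_zero_iff_mem.mpr hx]
    exact q.zero_mem
  haveI : IsCohenMacaulayLocalRing (Localization.AtPrime Q) :=
    IsCohenMacaulayRing.isCohenMacaulayLocalRing_localization Q
  have hdisj : Disjoint (Q.primeCompl : Set S) (p : Set S) := by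
    rw [Set.disjoint_left]; intro x hx hxp; exact hx (hpQ hxp)
  set P := p.map (algebraMap S (Localization.AtPrime Q)) with hP
  haveI : P.IsPrime := IsLocalization.isPrime_of_isPrime_disjoint Q.primeCompl _ p ‹_› hdisj
  have h0 : P.height = 0 := by
    rw [hP, IsLocalization.height_map_of_disjoint Q.primeCompl p hdisj, Ideal.height_eq_zero_iff]
    exact hp
  have h1 := ringKrullDim_localization_add_quotient (R := Localization.AtPrime Q) P
  rw [IsLocalization.AtPrime.ringKrullDim_eq_height P (Localization.AtPrime P), h0] at h1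
  have h2 : ringKrullDim (Localization.AtPrime Q ⧸ P) = q.height := by
    rw [← IsLocalization.AtPrime.ringKrullDim_eq_height q (Localization.AtPrime q)]
    exact (ringKrullDim_eq_of_ringEquiv
      (Groth.Agent.Lib.H14CMQuot.localizationQuotientEquiv p q)).symm
  rw [h2, IsLocalization.AtPrime.ringKrullDim_eq_height Q _] at h1
  simp only [WithBot.coe_zero, add_zero] at h1
  exact_mod_cast h1

/-- In a Cohen–Macaulay finite type algebra over a field all of whose irreducible components have
dimension `d`: `ht Q + dim S/Q = d` for every prime `Q`. -/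
theorem height_add_ringKrullDim_quotient_of_equidim (k S : Type u) [Field k] [CommRing S]
    [Algebra k S] [Algebra.FiniteType k S] [IsCohenMacaulayRing S] (d : ℕ)
    (heq : ∀ p ∈ minimalPrimes S, ringKrullDim (S ⧸ p) = d) (Q : Ideal S) [Q.IsPrime] :
    (Q.height : WithBot ℕ∞) + ringKrullDim (S ⧸ Q) = d := by
  obtain ⟨p, hp, hpQ⟩ := Ideal.exists_minimalPrimes_le (bot_le : ⊥ ≤ Q)
  haveI : p.IsPrime := hp.1.1
  haveI hq : (Q.map (Ideal.Quotient.mk p)).IsPrime := Ideal.isPrime_map_quotientMk_of_isPrime hpQ
  have hQ : (Q.map (Ideal.Quotient.mk p)).comap (Ideal.Quotient.mk p) = Q := by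
    rw [Ideal.comap_map_of_surjective _ Ideal.Quotient.mk_surjective, ← RingHom.ker_eq_comap_bot,
      Ideal.mk_ker, sup_eq_left]
    exact hpQ
  have h1 := height_comap_quotient_of_minimalPrime p hp (Q.map (Ideal.Quotient.mk p))
  rw [hQ] at h1
  have h2 := Groth.Agent.Lib.FTDim.height_add_ringKrullDim_quotient k (S ⧸ p)
    (Q.map (Ideal.Quotient.mk p))
  rw [Groth.Agent.Lib.EquidimCat33.ringKrullDim_quotQuot hpQ, heq p hp, ← h1] at h2
  exact h2

end Groth.Agent.Lib.H8LCICM
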