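/-
helper8: basic double links — associated primes of `R/(J + fI)`, unmixedness of `R/(J + (f))`
for `R/J` Cohen–Macaulay.
-/
import Mathlib
import Groth.Agent.Lib.H8LCICM2
import Groth.Agent.Lib.H8CM9
import Groth.Prelude.Def_GrSyz

set_option autoImplicit false
set_option linter.style.haveILetI false
universe u

namespace Groth.Agent.Lib.H8DoubleLink

open IsLocalRing LocCoh Module Groth.Agent.Lib.H8CM RingTheory.Sequence

section Transfer

/-- Associated primes of a module over a quotient ring: if `p ∈ Ass_P(N)` for an `S`-module `N`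
with `P → S` surjective, then `pS ∈ Ass_S(N)`. -/
theorem map_mem_associatedPrimes_of_surjective {P S : Type*} [CommRing P] [CommRing S]
    [Algebra P S] (hs : Function.Surjective (algebraMap P S)) [IsNoetherianRing P]
    [IsNoetherianRing S] (N : Type*) [AddCommGroup N] [Module P N] [Module S N]
    (hsm : ∀ (a : P) (x : N), algebraMap P S a • x = a • x)
    {p : Ideal P} (hp : p ∈ associatedPrimes P N) :
    p.map (algebraMap P S) ∈ associatedPrimes S N := by
  rw [AssociatedPrimes.mem_iff, isAssociatedPrime_iff] at hp ⊢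
  obtain ⟨hpp, x, hx⟩ := hp
  have hmem : ∀ a : P, a ∈ p ↔ a • x = 0 := by
    intro a
    rw [hx, Submodule.mem_colon_singleton, Submodule.mem_bot]
  have hker : RingHom.ker (algebraMap P S) ≤ p := by
    intro a ha
    rw [hmem, ← hsm a x, (RingHom.mem_ker).mp ha, zero_smul]
  refine ⟨Ideal.map_isPrime_of_surjective hs hker, x, ?_⟩
  ext s
  rw [Submodule.mem_colon_singleton, Submodule.mem_bot, Ideal.mem_map_iff_of_surjective _ hs]
  constructor
  · rintro ⟨a, ha, rfl⟩
    rw [hsm]
    exact (hmem a).mp ha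
  · intro hsx
    obtain ⟨a, rfl⟩ := hs s
    rw [hsm] at hsx
    exact ⟨a, (hmem a).mpr hsx, rfl⟩

end Transfer

section Exact

variable {R : Type u} [CommRing R] (J I : Ideal R) (f : R)

/-- Multiplication by `f` as a map `R/I → R/(J + fI)`. -/
noncomputable def mulMap : (R ⧸ I) →ₗ[R] (R ⧸ (J ⊔ Ideal.span {f} * I)) :=
  Submodule.mapQ I (J ⊔ Ideal.span {f} * I) (LinearMap.lsmul R R f) (by
    intro x hx
    rw [Submodule.mem_comap]
    exact Ideal.mem_sup_right (Ideal.mul_mem_mul (Ideal.mem_span_singleton_self f) hx))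

theorem mulMap_mk (x : R) : mulMap J I f (Ideal.Quotient.mk I x) =
    Ideal.Quotient.mk (J ⊔ Ideal.span {f} * I) (f * x) := rfl

/-- The projection `R/(J + fI) → R/(J + (f))`. -/
noncomputable def projMap : (R ⧸ (J ⊔ Ideal.span {f} * I)) →ₗ[R] (R ⧸ (J ⊔ Ideal.span {f})) :=
  Submodule.mapQ (J ⊔ Ideal.span {f} * I) (J ⊔ Ideal.span {f}) LinearMap.id (by
    intro x hx
    rw [Submodule.mem_comap]
    exact (sup_le_sup_left Ideal.mul_le_left J) hx)

theorem projMap_mk (x : R) : projMap J I f (Ideal.Quotient.mk _ x) =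
    Ideal.Quotient.mk (J ⊔ Ideal.span {f}) x := rfl

variable {J I f}

theorem mulMap_injective (hJI : J ≤ I) (hJf : J.colon {f} = J) :
    Function.Injective (mulMap J I f) := by
  rw [injective_iff_map_eq_zero]
  intro a ha
  obtain ⟨a, rfl⟩ := Ideal.Quotient.mk_surjective a
  rw [mulMap_mk, Ideal.Quotient.eq_zero_iff_mem] at ha
  rw [Ideal.Quotient.eq_zero_iff_mem]
  obtain ⟨j, hj, t, ht, hjt⟩ := Submodule.mem_sup.mp ha
  obtain ⟨i, hi, rfl⟩ := Ideal.mem_span_singleton_mul.mp ht
  have h1 : a - i ∈ J.colon {f} := by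
    rw [Submodule.mem_colon_singleton, smul_eq_mul]
    have : (a - i) * f = j := by
      have : j = f * a - f * i := by rw [← hjt]; ring
      rw [this]; ring
    rw [this]; exact hj
  rw [hJf] at h1
  have : a = (a - i) + i := by ring
  rw [this]
  exact I.add_mem (hJI h1) hi

theorem exact_mulMap_projMap : Function.Exact (mulMap J I f) (projMap J I f) := by
  intro y
  obtain ⟨y, rfl⟩ := Ideal.Quotient.mk_surjective y
  rw [projMap_mk, Ideal.Quotient.eq_zero_iff_mem]
  constructor
  · intro hy
    obtain ⟨j, hj, t, ht, hjt⟩ := Submodule.mem_sup.mp hy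
    obtain ⟨a, rfl⟩ := Ideal.mem_span_singleton'.mp ht
    refine ⟨Ideal.Quotient.mk I a, ?_⟩
    rw [mulMap_mk, Ideal.Quotient.eq, ← hjt]
    have : f * a - (j + a * f) = -j := by ring
    rw [this]
    exact Ideal.mem_sup_left (J.neg_mem hj)
  · rintro ⟨a, ha⟩
    obtain ⟨a, rfl⟩ := Ideal.Quotient.mk_surjective a
    rw [mulMap_mk, Ideal.Quotient.eq] at ha
    have h1 : f * a ∈ J ⊔ Ideal.span {f} :=
      Ideal.mem_sup_right (Ideal.mul_mem_right _ _ (Ideal.mem_span_singleton_self f))
    have h2 : f * a - y ∈ J ⊔ Ideal.span {f} := (sup_le_sup_left Ideal.mul_le_left J) ha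
    have : y = f * a - (f * a - y) := by ring
    rw [this]
    exact Ideal.sub_mem _ h1 h2

end Exact

section CM

/-- In a Cohen–Macaulay ring, the associated primes of `S/(a)` for a nonzerodivisor `a` have
height one. -/
theorem height_eq_one_of_mem_associatedPrimes {S : Type u} [CommRing S] [IsCohenMacaulayRing S]
    {a : S} (hreg : IsSMulRegular S a) {q : Ideal S}
    (hq : q ∈ associatedPrimes S (S ⧸ Ideal.span {a})) : q.height = 1 := by
  haveI : q.IsPrime := hq.isPrime
  haveI : IsNoetherianRing S := inferInstance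
  have haq : a ∈ q := by
    have h1 := IsAssociatedPrime.annihilator_le hq
    rw [Submodule.annihilator_top, Ideal.annihilator_quotient] at h1
    exact h1 (Ideal.mem_span_singleton_self a)
  have hd := (depth_localization_of_mem_associatedPrimes q haq hreg).1 hq
  haveI : IsCohenMacaulayLocalRing (Localization.AtPrime q) :=
    IsCohenMacaulayRing.isCohenMacaulayLocalRing_localization q
  have h2 := IsCohenMacaulayLocalRing.supportDim_eq_depth (R := Localization.AtPrime q)
  rw [supportDim_self_eq_ringKrullDim, hd, IsLocalization.AtPrime.ringKrullDim_eq_height q] at h2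
  exact_mod_cast h2

/-- Variant of `height_eq_one_of_mem_associatedPrimes` with a propositional equality. -/
theorem height_eq_one_of_mem_associatedPrimes' {S : Type u} [CommRing S] [IsCohenMacaulayRing S]
    {a : S} (hreg : IsSMulRegular S a) (I' : Ideal S) (hI' : I' = Ideal.span {a}) {q : Ideal S}
    (hq : q ∈ associatedPrimes S (S ⧸ I')) : q.height = 1 := by
  subst hI'
  exact height_eq_one_of_mem_associatedPrimes hreg hq

end CM

section Graded

/-- Minimal primes over a homogeneous ideal are homogeneous. -/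
theorem isHomogeneous_of_mem_minimalPrimes {ι σ A : Type*} [CommRing A] [AddCommMonoid ι]
    [LinearOrder ι] [IsOrderedCancelAddMonoid ι] [SetLike σ A] [AddSubmonoidClass σ A]
    {𝒜 : ι → σ} [GradedRing 𝒜] {J Q : Ideal A} (hJ : J.IsHomogeneous 𝒜)
    (hQ : Q ∈ J.minimalPrimes) : Q.IsHomogeneous 𝒜 := by
  haveI : Q.IsPrime := hQ.1.1
  have h1 : (Q.homogeneousCore 𝒜).toIdeal.IsPrime := Ideal.IsPrime.homogeneousCore ‹_›
  have h2 : (Q.homogeneousCore 𝒜).toIdeal ≤ Q := Ideal.toIdeal_homogeneousCore_le 𝒜 Q
  have h3 : J ≤ (Q.homogeneousCore 𝒜).toIdeal := by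
    rw [← hJ.toIdeal_homogeneousCore_eq_self]
    exact Ideal.homogeneousCore_mono 𝒜 hQ.1.2
  have h4 : Q ≤ (Q.homogeneousCore 𝒜).toIdeal := hQ.2 ⟨h1, h3⟩ h2
  have h5 : (Q.homogeneousCore 𝒜).toIdeal = Q := le_antisymm h2 h4
  rw [← h5]
  exact (Q.homogeneousCore 𝒜).isHomogeneous

variable (K : Type u) [Field K] (σ : Type*)

/-- A proper homogeneous ideal of a polynomial ring over a field (standard grading) is contained
in the ideal of polynomials without constant term. -/
theorem le_ker_constantCoeff_of_isHomogeneous {Q : Ideal (MvPolynomial σ K)}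
    (hQ : Q.IsHomogeneous (GrSyz.stdGr K σ)) (hne : Q ≠ ⊤) :
    Q ≤ RingHom.ker (MvPolynomial.constantCoeff : MvPolynomial σ K →+* K) := by
  classical
  intro x hx
  rw [RingHom.mem_ker]
  by_contra hc
  have h0 : MvPolynomial.weightedHomogeneousComponent (fun _ : σ => (1 : ℤ)) 0 x ∈ Q :=
    MvPolynomial.weightedHomogeneousComponent_mem_of_mem K (fun _ : σ => (1 : ℤ)) hQ hx 0
  have h1 : MvPolynomial.weightedHomogeneousComponent (fun _ : σ => (1 : ℤ)) 0 x =
      MvPolynomial.C (MvPolynomial.constantCoeff x) := by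
    ext d
    rw [MvPolynomial.coeff_weightedHomogeneousComponent, MvPolynomial.coeff_C]
    by_cases hd : d = 0
    · subst hd
      simp [MvPolynomial.constantCoeff_eq]
    · rw [if_neg (Ne.symm hd), if_neg]
      intro hw
      apply hd
      have hw' : (∑ i ∈ d.support, (d i : ℤ)) = 0 := by
        simpa [Finsupp.weight_apply, Finsupp.sum] using hw
      ext i
      by_contra hi
      have hi' : i ∈ d.support := Finsupp.mem_support_iff.mpr hi
      have hpos : 0 < (∑ i ∈ d.support, (d i : ℤ)) := by
        apply Finset.sum_pos'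
        · intro j _; exact_mod_cast Nat.zero_le _
        · exact ⟨i, hi', by exact_mod_cast Nat.pos_of_ne_zero hi⟩
      omega
  rw [h1] at h0
  apply hne
  rw [Ideal.eq_top_iff_one]
  have : (1 : MvPolynomial σ K) =
      MvPolynomial.C ((MvPolynomial.constantCoeff x)⁻¹) *
        MvPolynomial.C (MvPolynomial.constantCoeff x) := by
    rw [← MvPolynomial.C_mul, inv_mul_cancel₀ hc, MvPolynomial.C_1]
  rw [this]
  exact Q.mul_mem_left _ h0

end Graded

section Equidim

/-- In a Cohen–Macaulay finite type algebra over a field, a minimal prime `q` contained in a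
maximal ideal `m` has `dim S/q = ht m`. -/
theorem ringKrullDim_quotient_minimalPrime_eq_height (k S : Type u) [Field k] [CommRing S]
    [Algebra k S] [Algebra.FiniteType k S] [IsCohenMacaulayRing S] (m : Ideal S) [hm : m.IsMaximal]
    (q : Ideal S) (hq : q ∈ minimalPrimes S) (hqm : q ≤ m) :
    ringKrullDim (S ⧸ q) = m.height := by
  haveI : q.IsPrime := hq.1.1
  haveI : m.IsPrime := hm.isPrime
  haveI hq' : (m.map (Ideal.Quotient.mk q)).IsPrime := Ideal.isPrime_map_quotientMk_of_isPrime hqm
  have hc : (m.map (Ideal.Quotient.mk q)).comap (Ideal.Quotient.mk q) = m := by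
    rw [Ideal.comap_map_of_surjective _ Ideal.Quotient.mk_surjective, ← RingHom.ker_eq_comap_bot,
      Ideal.mk_ker, sup_eq_left]
    exact hqm
  have h1 := Groth.Agent.Lib.H8LCICM.height_comap_quotient_of_minimalPrime q hq
    (m.map (Ideal.Quotient.mk q))
  rw [hc] at h1
  have h2 := Groth.Agent.Lib.FTDim.height_add_ringKrullDim_quotient k (S ⧸ q)
    (m.map (Ideal.Quotient.mk q))
  rw [Groth.Agent.Lib.EquidimCat33.ringKrullDim_quotQuot hqm] at h2
  letI : Field (S ⧸ m) := Ideal.Quotient.field m
  rw [ringKrullDim_eq_zero_of_field, add_zero, ← h1] at h2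
  exact h2.symm

end Equidim

section Main

theorem arith2 (a b : ℕ∞) (c : WithBot ℕ∞) (N d : ℕ) (h1 : (a : WithBot ℕ∞) + c = N)
    (h2 : (b : WithBot ℕ∞) + c = d) : a + d = b + N := by
  induction c using WithBot.recBotCoe with
  | bot => simp at h1
  | coe c =>
    have h1' : a + c = (N : ℕ∞) := by exact_mod_cast h1
    have h2' : b + c = (d : ℕ∞) := by exact_mod_cast h2
    induction a using ENat.recTopCoe with
    | top => simp at h1'
    | coe a =>
      induction b using ENat.recTopCoe with
      | top => simp at h2'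
      | coe b =>
        induction c using ENat.recTopCoe with
        | top => simp at h1'
        | coe c =>
          have g1 : a + c = N := by exact_mod_cast h1'
          have g2 : b + c = d := by exact_mod_cast h2'
          have : a + d = b + N := by omega
          exact_mod_cast this

variable (K : Type u) [Field K]

/-- For a homogeneous ideal `J` of height `h` in a polynomial ring over a field with `R/J`
Cohen–Macaulay, every prime `p ⊇ J` satisfies `ht p = h + ht (p/J)`. -/
theorem height_eq_add_height_map (N h : ℕ) (J : Ideal (MvPolynomial (Fin N) K))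
    (hJ : J.IsHomogeneous (GrSyz.stdGr K (Fin N))) (hJh : J.height = h)
    [IsCohenMacaulayRing (MvPolynomial (Fin N) K ⧸ J)]
    (p : Ideal (MvPolynomial (Fin N) K)) [p.IsPrime] (hJp : J ≤ p) :
    p.height = h + (p.map (Ideal.Quotient.mk J)).height := by
  have hJne : J ≠ ⊤ := by
    rintro rfl
    rw [Ideal.height_top] at hJh
    exact ENat.top_ne_natCast h hJh
  set m := RingHom.ker (MvPolynomial.constantCoeff : MvPolynomial (Fin N) K →+* K) with hm
  haveI hmmax : m.IsMaximal :=
    RingHom.ker_isMaximal_of_surjective _ (fun a => ⟨MvPolynomial.C a, by simp⟩)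
  have hJm : J ≤ m := le_ker_constantCoeff_of_isHomogeneous K (Fin N) hJ hJne
  haveI hmbar : (m.map (Ideal.Quotient.mk J)).IsMaximal :=
    Ideal.IsMaximal.map_of_surjective_of_ker_le Ideal.Quotient.mk_surjective
      (by rw [Ideal.mk_ker]; exact hJm)
  obtain ⟨d, hd⟩ := ENat.ne_top_iff_exists.mp
    (Ideal.height_ne_top (I := m.map (Ideal.Quotient.mk J)) hmbar.ne_top)
  have heq : ∀ q ∈ minimalPrimes (MvPolynomial (Fin N) K ⧸ J),
      ringKrullDim ((MvPolynomial (Fin N) K ⧸ J) ⧸ q) = d := by
    intro q hq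
    haveI : q.IsPrime := hq.1.1
    have hQ : q.comap (Ideal.Quotient.mk J) ∈ J.minimalPrimes := by
      rw [Ideal.minimalPrimes_eq_comap]
      exact Set.mem_image_of_mem _ hq
    have hQh := isHomogeneous_of_mem_minimalPrimes hJ hQ
    have hQne : q.comap (Ideal.Quotient.mk J) ≠ ⊤ := hQ.1.1.ne_top
    have hQm := le_ker_constantCoeff_of_isHomogeneous K (Fin N) hQh hQne
    have hqm : q ≤ m.map (Ideal.Quotient.mk J) := by
      rw [← Ideal.map_comap_of_surjective _ Ideal.Quotient.mk_surjective q]
      exact Ideal.map_mono hQm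
    rw [ringKrullDim_quotient_minimalPrime_eq_height K _ (m.map (Ideal.Quotient.mk J)) q hq hqm,
      ← hd]
    rfl
  have hB := fun (Q : Ideal (MvPolynomial (Fin N) K ⧸ J)) (hQ : Q.IsPrime) =>
    Groth.Agent.Lib.H8LCICM.height_add_ringKrullDim_quotient_of_equidim K _ d heq Q
  -- the comparison for every prime containing `J`
  have key : ∀ (p : Ideal (MvPolynomial (Fin N) K)) [p.IsPrime], J ≤ p →
      p.height + d = (p.map (Ideal.Quotient.mk J)).height + N := by
    intro p _ hJp
    haveI : (p.map (Ideal.Quotient.mk J)).IsPrime := Ideal.isPrime_map_quotientMk_of_isPrime hJp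
    have h1 := Groth.Agent.Lib.FTDim.height_add_ringKrullDim_quotient K (MvPolynomial (Fin N) K) p
    rw [Groth.Agent.Lib.FTDim.ringKrullDim_mvPolynomial] at h1
    have h2 := hB (p.map (Ideal.Quotient.mk J)) inferInstance
    rw [Groth.Agent.Lib.EquidimCat33.ringKrullDim_quotQuot hJp] at h2
    exact arith2 _ _ _ N d h1 h2
  -- minimal primes over `J` all have height `N - d`
  have hmin : ∀ Q ∈ J.minimalPrimes, Q.height + d = N := by
    intro Q hQ
    haveI : Q.IsPrime := hQ.1.1
    have h1 := key Q hQ.1.2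
    have h2 : (Q.map (Ideal.Quotient.mk J)).height = 0 := by
      haveI : (Q.map (Ideal.Quotient.mk J)).IsPrime :=
        Ideal.isPrime_map_quotientMk_of_isPrime hQ.1.2
      rw [Ideal.height_eq_zero_iff]
      rw [Ideal.minimalPrimes_eq_comap] at hQ
      obtain ⟨q, hq, rfl⟩ := hQ
      rwa [Ideal.map_comap_of_surjective _ Ideal.Quotient.mk_surjective q]
    rw [h2, zero_add] at h1
    exact h1
  have hJd : (h : ℕ∞) + d = N := by
    obtain ⟨Q, hQ⟩ := Ideal.nonempty_minimalPrimes hJne
    have h1 : J.height = Q.height := by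
      rw [Ideal.height_eq_inf_minimalPrimes]
      apply le_antisymm (iInf₂_le Q hQ)
      refine le_iInf₂ fun Q' hQ' => ?_
      have e1 := hmin Q hQ
      have e2 := hmin Q' hQ'
      have : Q.height + d = Q'.height + d := by rw [e1, e2]
      exact (ENat.add_left_injective_of_ne_top (ENat.natCast_ne_top d) this).le
    rw [← hJh, h1]
    exact hmin Q hQ
  have h3 := key p hJp
  have : p.height + d = (h + (p.map (Ideal.Quotient.mk J)).height) + d := by
    rw [h3, add_assoc, add_comm _ (d : ℕ∞), ← add_assoc, hJd, add_comm]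
  exact ENat.add_left_injective_of_ne_top (ENat.natCast_ne_top d) this

/-- Associated primes of `R/(J + (f))` have height `h + 1` when `R/J` is Cohen–Macaulay,
`J` homogeneous of height `h` and `f` a nonzerodivisor modulo `J`. -/
theorem height_of_mem_associatedPrimes_sup (N h : ℕ) (J : Ideal (MvPolynomial (Fin N) K))
    (hJ : J.IsHomogeneous (GrSyz.stdGr K (Fin N))) (hJh : J.height = h)
    [IsCohenMacaulayRing (MvPolynomial (Fin N) K ⧸ J)] (f : MvPolynomial (Fin N) K)
    (hJf : J.colon {f} = J) {p : Ideal (MvPolynomial (Fin N) K)}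
    (hp : p ∈ associatedPrimes (MvPolynomial (Fin N) K)
      (MvPolynomial (Fin N) K ⧸ (J ⊔ Ideal.span {f}))) :
    p.height = h + 1 := by
  haveI : p.IsPrime := hp.isPrime
  have hJp : J ≤ p := by
    have h1 := IsAssociatedPrime.annihilator_le hp
    rw [Submodule.annihilator_top, Ideal.annihilator_quotient] at h1
    exact le_sup_left.trans h1
  rw [height_eq_add_height_map K N h J hJ hJh p hJp]
  congr 1
  have hreg : IsSMulRegular (MvPolynomial (Fin N) K ⧸ J) (Ideal.Quotient.mk J f) := by
    intro a b hab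
    obtain ⟨a, rfl⟩ := Ideal.Quotient.mk_surjective a
    obtain ⟨b, rfl⟩ := Ideal.Quotient.mk_surjective b
    simp only [smul_eq_mul, ← map_mul] at hab
    rw [Ideal.Quotient.eq] at hab ⊢
    have h1 : a - b ∈ J.colon {f} := by
      rw [Submodule.mem_colon_singleton, smul_eq_mul]
      have : (a - b) * f = f * a - f * b := by ring
      rw [this]; exact hab
    rwa [hJf] at h1
  have hmap : (Ideal.span {f}).map (Ideal.Quotient.mk J) = Ideal.span {Ideal.Quotient.mk J f} := by
    rw [Ideal.map_span, Set.image_singleton]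
  refine height_eq_one_of_mem_associatedPrimes' hreg _ hmap ?_
  have e := (DoubleQuot.quotQuotEquivQuotSupₐ (MvPolynomial (Fin N) K) J
    (Ideal.span {f})).toLinearEquiv
  rw [← LinearEquiv.AssociatedPrimes.eq e] at hp
  refine map_mem_associatedPrimes_of_surjective (P := MvPolynomial (Fin N) K)
    (S := MvPolynomial (Fin N) K ⧸ J) Ideal.Quotient.mk_surjective _ (fun r x => ?_) hp
  obtain ⟨y, rfl⟩ := Ideal.Quotient.mk_surjective x
  obtain ⟨z, rfl⟩ := Ideal.Quotient.mk_surjective y
  rfl

end Main

end Groth.Agent.Lib.H8DoubleLink
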