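/-
helper8: Gorenstein ⇒ CM ring, CM ⇒ no embedded primes, and the linkage lemma
"directly linked without common components ⇒ geometrically linked".
-/
import Mathlib
import Groth.Agent.Lib.H8DoubleLink
import Groth.Agent.Lib.H29Gorenstein
import Groth.Agent.S2085

set_option autoImplicit false
set_option linter.style.haveILetI false
universe u

namespace Groth.Agent.Lib.H8Liaison

open IsLocalRing LocCoh Module Groth.Agent.Lib.H8CM

/-- A Gorenstein local ring is a Cohen–Macaulay local ring (helper29's theorem, repackaged). -/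
theorem isCMLocalRing_of_isGorensteinLocalRing (A : Type u) [CommRing A]
    [h : IsGorensteinLocalRing A] : IsCohenMacaulayLocalRing A := by
  obtain ⟨d, hd, hdepth, -⟩ := Groth.Agent.Lib.H29Gorenstein.gorenstein_invariants A
  haveI : IsNoetherianRing A := inferInstance
  haveI : IsLocalRing A := inferInstance
  refine ⟨?_⟩
  rw [supportDim_self_eq_ringKrullDim, hd, hdepth]
  rfl

/-- A Gorenstein ring is a Cohen–Macaulay ring. -/
theorem isCMRing_of_isGorensteinRing (A : Type u) [CommRing A] [h : IsGorensteinRing A] :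
    IsCohenMacaulayRing A := by
  haveI : IsNoetherianRing A := inferInstance
  refine { isCohenMacaulayLocalRing_localization := fun p _ => ?_ }
  haveI := h.isGorensteinLocalRing_localization p
  exact isCMLocalRing_of_isGorensteinLocalRing _

/-- A Cohen–Macaulay ring satisfies `(S_k)` for every `k`. -/
theorem hasSk_self_of_isCMRing (k : ℕ) (S : Type u) [CommRing S] [IsCohenMacaulayRing S] :
    HasSk k S S := by
  haveI : IsNoetherianRing S := inferInstance
  rw [hasSk_self_iff]
  intro p _
  haveI : IsCohenMacaulayLocalRing (Localization.AtPrime p) :=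
    IsCohenMacaulayRing.isCohenMacaulayLocalRing_localization p
  have h2 := IsCohenMacaulayLocalRing.supportDim_eq_depth (R := Localization.AtPrime p)
  rw [supportDim_self_eq_ringKrullDim, IsLocalization.AtPrime.ringKrullDim_eq_height p] at h2
  have h3 : p.height = depth (Localization.AtPrime p) (Localization.AtPrime p) := by
    exact_mod_cast h2
  rw [← h3]
  exact min_le_right _ _

/-- In a Cohen–Macaulay ring every associated prime (of the ring) is a minimal prime. -/
theorem mem_minimalPrimes_of_mem_associatedPrimes (S : Type u) [CommRing S] [IsCohenMacaulayRing S]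
    {q : Ideal S} (hq : q ∈ associatedPrimes S S) : q ∈ minimalPrimes S := by
  haveI : IsNoetherianRing S := inferInstance
  have h1 := (Groth.Agent.S2085.result (R := S) (M := S)).mpr (hasSk_self_of_isCMRing 1 S) q hq
  have h2 : Module.annihilator S S = ⊥ := by
    rw [eq_bot_iff]
    intro a ha
    have := Module.mem_annihilator.mp ha 1
    simpa using this
  rwa [h2] at h1

/-- If `R/𝔠` is a Cohen–Macaulay ring then `𝔠` has no embedded primes. -/
theorem mem_minimalPrimes_of_mem_associatedPrimes_quotient {R : Type u} [CommRing R]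
    [IsNoetherianRing R] (𝔠 : Ideal R) [IsCohenMacaulayRing (R ⧸ 𝔠)] {p : Ideal R}
    (hp : p ∈ associatedPrimes R (R ⧸ 𝔠)) : p ∈ 𝔠.minimalPrimes := by
  haveI : IsNoetherianRing (R ⧸ 𝔠) := inferInstance
  have h𝔠p : 𝔠 ≤ p := by
    have h1 := IsAssociatedPrime.annihilator_le hp
    rwa [Submodule.annihilator_top, Ideal.annihilator_quotient] at h1
  have h1 := Groth.Agent.Lib.H8DoubleLink.map_mem_associatedPrimes_of_surjective
    (P := R) (S := R ⧸ 𝔠) Ideal.Quotient.mk_surjective (R ⧸ 𝔠) (fun _ _ => rfl) hp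
  have h2 := mem_minimalPrimes_of_mem_associatedPrimes (R ⧸ 𝔠) h1
  rw [Ideal.minimalPrimes_eq_comap]
  refine ⟨_, h2, ?_⟩
  change (p.map (Ideal.Quotient.mk 𝔠)).comap (Ideal.Quotient.mk 𝔠) = p
  rw [Ideal.comap_map_of_surjective _ Ideal.Quotient.mk_surjective, ← RingHom.ker_eq_comap_bot,
    Ideal.mk_ker, sup_eq_left]
  exact h𝔠p

/-- **Directly linked ideals without common components are geometrically linked.** -/
theorem inf_eq_of_linked {R : Type u} [CommRing R] [IsNoetherianRing R] (𝔠 I J : Ideal R)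
    (hemb : ∀ p ∈ associatedPrimes R (R ⧸ 𝔠), p ∈ 𝔠.minimalPrimes)
    (hIJ : 𝔠.colon (I : Set R) = J) (hJI : 𝔠.colon (J : Set R) = I)
    (hdisj : Disjoint (associatedPrimes R (R ⧸ I)) (associatedPrimes R (R ⧸ J))) :
    I ⊓ J = 𝔠 := by
  have h𝔠I : 𝔠 ≤ I := by
    rw [← hJI]
    intro x hx
    rw [Submodule.mem_colon]
    intro b _
    exact 𝔠.mul_mem_right _ hx
  have h𝔠J : 𝔠 ≤ J := by
    rw [← hIJ]
    intro x hx
    rw [Submodule.mem_colon]
    intro b _
    exact 𝔠.mul_mem_right _ hx
  apply le_antisymm _ (le_inf h𝔠I h𝔠J)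
  intro x hx
  by_contra hx𝔠
  have hx0 : (Ideal.Quotient.mk 𝔠 x) ≠ 0 := by
    rwa [Ne, Ideal.Quotient.eq_zero_iff_mem]
  obtain ⟨p, hp, hle⟩ := exists_le_isAssociatedPrime_of_isNoetherianRing R
    (Ideal.Quotient.mk 𝔠 x) hx0
  have hpmin := hemb p hp
  haveI : p.IsPrime := hp.isPrime
  have hmem : ∀ a : R, x * a ∈ 𝔠 → a ∈ p := by
    intro a ha
    apply hle
    rw [Submodule.mem_colon_singleton, Submodule.mem_bot]
    change Ideal.Quotient.mk 𝔠 (a * x) = 0
    rw [Ideal.Quotient.eq_zero_iff_mem, mul_comm]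
    exact ha
  have hIp : I ≤ p := by
    intro a ha
    apply hmem
    have hxJ : x ∈ 𝔠.colon (I : Set R) := by rw [hIJ]; exact hx.2
    rw [Submodule.mem_colon] at hxJ
    exact hxJ a ha
  have hJp : J ≤ p := by
    intro b hb
    apply hmem
    have hxI : x ∈ 𝔠.colon (J : Set R) := by rw [hJI]; exact hx.1
    rw [Submodule.mem_colon] at hxI
    exact hxI b hb
  have hminI : p ∈ I.minimalPrimes :=
    ⟨⟨inferInstance, hIp⟩, fun q hq hqp => hpmin.2 ⟨hq.1, h𝔠I.trans hq.2⟩ hqp⟩
  have hminJ : p ∈ J.minimalPrimes :=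
    ⟨⟨inferInstance, hJp⟩, fun q hq hqp => hpmin.2 ⟨hq.1, h𝔠J.trans hq.2⟩ hqp⟩
  have hassI : p ∈ associatedPrimes R (R ⧸ I) := by
    have := Module.associatedPrimes.minimalPrimes_annihilator_subset_associatedPrimes R (R ⧸ I)
    rw [Ideal.annihilator_quotient] at this
    exact this hminI
  have hassJ : p ∈ associatedPrimes R (R ⧸ J) := by
    have := Module.associatedPrimes.minimalPrimes_annihilator_subset_associatedPrimes R (R ⧸ J)
    rw [Ideal.annihilator_quotient] at this
    exact this hminJ
  exact Set.disjoint_left.mp hdisj hassI hassJ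

end Groth.Agent.Lib.H8Liaison
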