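import Groth.Agent.Lib.H56SkFibre
import Groth.Agent.Lib.CMFieldExt33
import Groth.Agent.Lib.H8Liaison
import Mathlib

/-!
# Dimension, depth and `(S_n)` along flat maps with Cohen–Macaulay fibres (helper33)

For a flat map `R → S` of Noetherian rings, a prime `p` of `R` and a prime `Q` of the fibre ring
`p.Fiber S = κ(p) ⊗[R] S` with contraction `r` to `S`:

* `dim_depth_of_fiber`: `dim S_r = dim R_p + dim (p.Fiber S)_Q` and
  `depth S_r = depth R_p + depth (p.Fiber S)_Q`.
* `codepth_eq_of_fibre`: if all fibres of `R → S` are CM then `R_p` and `S_r` have the same codepth.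
* `hasSkAt_iff_of_fibre`: if all fibres are CM then `(S_n)` at `r ∩ R` (for `R`) iff `(S_n)` at `r`
  (for `S`), in the form of the frozen predicate `EGA4.HasSkAt`.
-/

set_option autoImplicit false
universe u

namespace Groth.Agent.Lib.FibreDimDepth33

open IsLocalRing Groth.Agent.Lib H56SkFibre TensorProduct

section Fibre

variable {R S : Type u} [CommRing R] [CommRing S] [Algebra R S] [Module.Flat R S]
  [IsNoetherianRing R] [IsNoetherianRing S]

/-- Dimension and depth formulas through the fibre ring. -/
theorem dim_depth_of_fiber (p : Ideal R) [p.IsPrime] (Q : Ideal (p.Fiber S)) [Q.IsPrime] :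
    ringKrullDim (Localization.AtPrime (Q.comap (Algebra.TensorProduct.includeRight
      (R := R) (A := p.ResidueField) (B := S)))) =
      ringKrullDim (Localization.AtPrime p) + ringKrullDim (Localization.AtPrime Q) ∧
    LocCoh.depth (Localization.AtPrime (Q.comap (Algebra.TensorProduct.includeRight
      (R := R) (A := p.ResidueField) (B := S))))
      (Localization.AtPrime (Q.comap (Algebra.TensorProduct.includeRight
      (R := R) (A := p.ResidueField) (B := S)))) =
      LocCoh.depth (Localization.AtPrime p) (Localization.AtPrime p) +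
        LocCoh.depth (Localization.AtPrime Q) (Localization.AtPrime Q) := by
  set r := Q.comap (Algebra.TensorProduct.includeRight (R := R) (A := p.ResidueField) (B := S))
    with hr
  let : Algebra (Localization.AtPrime p) (Localization.AtPrime r) :=
    Localization.AtPrime.algebraOfLiesOver p r
  have hloc : IsLocalHom (algebraMap (Localization.AtPrime p) (Localization.AtPrime r)) :=
    Localization.isLocalHom_localRingHom _ _ _ Ideal.LiesOver.over
  let e := Ideal.Fiber.algEquivAux₂ p Q
  have hI : (p.map (algebraMap R S)).map (algebraMap S (Localization.AtPrime r)) =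
      (maximalIdeal (Localization.AtPrime p)).map
        (algebraMap (Localization.AtPrime p) (Localization.AtPrime r)) := by
    rw [← Localization.AtPrime.map_eq_maximalIdeal, Ideal.map_map, Ideal.map_map]
    congr 1
    rw [← IsScalarTower.algebraMap_eq, ← IsScalarTower.algebraMap_eq]
  have hlq : IsLocalRing (Localization.AtPrime r ⧸ (maximalIdeal (Localization.AtPrime p)).map
      (algebraMap (Localization.AtPrime p) (Localization.AtPrime r))) :=
    CMFlat33.isLocalRing_quotient_map _
  have hlq' : IsLocalRing (Localization.AtPrime r ⧸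
      (p.map (algebraMap R S)).map (algebraMap S (Localization.AtPrime r))) := by
    rw [hI]; exact hlq
  let e' : Localization.AtPrime Q ≃+* (Localization.AtPrime r ⧸
      (maximalIdeal (Localization.AtPrime p)).map
        (algebraMap (Localization.AtPrime p) (Localization.AtPrime r))) :=
    e.toRingEquiv.trans (Ideal.quotEquivOfEq hI)
  have hflat : (algebraMap (Localization.AtPrime p) (Localization.AtPrime r)).Flat :=
    RingHom.flat_algebraMap_iff.mpr inferInstance
  constructor
  · rw [CMFlat33.ringKrullDim_eq_add' (algebraMap (Localization.AtPrime p)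
      (Localization.AtPrime r)) hflat, ringKrullDim_eq_of_ringEquiv e']
  · have hd := CMRingEquiv96.depth_eq (R := Localization.AtPrime Q) e'
    rw [CMFlat33.depth_eq_add' (algebraMap (Localization.AtPrime p)
      (Localization.AtPrime r)) hflat, ← hd]

/-- If the local ring of the fibre at `Q` is Cohen–Macaulay, then `R_p` and `S_r` have the same
codepth (written additively). -/
theorem codepth_eq_of_fiber (p : Ideal R) [p.IsPrime] (Q : Ideal (p.Fiber S)) [Q.IsPrime]
    (hQ : LocCoh.IsCohenMacaulayLocalRing (Localization.AtPrime Q)) :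
    ringKrullDim (Localization.AtPrime p) +
      ((LocCoh.depth (Localization.AtPrime (Q.comap (Algebra.TensorProduct.includeRight
        (R := R) (A := p.ResidueField) (B := S))))
        (Localization.AtPrime (Q.comap (Algebra.TensorProduct.includeRight
        (R := R) (A := p.ResidueField) (B := S)))) : ℕ∞) : WithBot ℕ∞) =
    ringKrullDim (Localization.AtPrime (Q.comap (Algebra.TensorProduct.includeRight
        (R := R) (A := p.ResidueField) (B := S)))) +
      ((LocCoh.depth (Localization.AtPrime p) (Localization.AtPrime p) : ℕ∞) : WithBot ℕ∞) := by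
  obtain ⟨h1, h2⟩ := dim_depth_of_fiber p Q
  have h3 := hQ.supportDim_eq_depth
  rw [Module.supportDim_self_eq_ringKrullDim] at h3
  rw [h1, h2, h3, WithBot.coe_add]
  ac_rfl

/-- Variant of `codepth_eq_of_fiber` for a prime `r` of `S` over `p`. -/
theorem codepth_eq_of_fiber' (p : Ideal R) [p.IsPrime] (Q : Ideal (p.Fiber S)) [Q.IsPrime]
    (r : Ideal S) [r.IsPrime]
    (hr : Q.comap (Algebra.TensorProduct.includeRight
      (R := R) (A := p.ResidueField) (B := S)) = r)
    (hQ : LocCoh.IsCohenMacaulayLocalRing (Localization.AtPrime Q)) :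
    ringKrullDim (Localization.AtPrime p) +
      ((LocCoh.depth (Localization.AtPrime r) (Localization.AtPrime r) : ℕ∞) : WithBot ℕ∞) =
    ringKrullDim (Localization.AtPrime r) +
      ((LocCoh.depth (Localization.AtPrime p) (Localization.AtPrime p) : ℕ∞) : WithBot ℕ∞) := by
  subst hr
  exact codepth_eq_of_fiber p Q hQ

/-- **Codepth is preserved along flat maps with Cohen–Macaulay fibres.** -/
theorem codepth_eq_of_fibre
    (hfib : ∀ (p : Ideal R) [p.IsPrime], LocCoh.IsCohenMacaulayRing (p.Fiber S))
    (r : Ideal S) [r.IsPrime] :
    ringKrullDim (Localization.AtPrime (r.comap (algebraMap R S))) +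
      ((LocCoh.depth (Localization.AtPrime r) (Localization.AtPrime r) : ℕ∞) : WithBot ℕ∞) =
    ringKrullDim (Localization.AtPrime r) +
      ((LocCoh.depth (Localization.AtPrime (r.comap (algebraMap R S)))
        (Localization.AtPrime (r.comap (algebraMap R S))) : ℕ∞) : WithBot ℕ∞) := by
  have : r.LiesOver (r.comap (algebraMap R S)) := ⟨rfl⟩
  obtain ⟨Q, hQp, hQ⟩ := exists_fiber_prime (r.comap (algebraMap R S)) r
  have := (hfib (r.comap (algebraMap R S))).isCohenMacaulayLocalRing_localization Q
  exact codepth_eq_of_fiber' _ Q r hQ this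

end Fibre

section Sk

/-- `(S_n)` is invariant under linear equivalences. -/
theorem hasSk_congr {A : Type u} [CommRing A] {M M' : Type u} [AddCommGroup M] [Module A M]
    [AddCommGroup M'] [Module A M'] (e : M ≃ₗ[A] M') (n : ℕ) :
    LocCoh.HasSk n A M ↔ LocCoh.HasSk n A M' := by
  unfold LocCoh.HasSk
  refine forall_congr' fun P => forall_congr' fun hP => ?_
  let eP : LocalizedModule P.primeCompl M ≃ₗ[Localization.AtPrime P]
      LocalizedModule P.primeCompl M' :=
    (IsLocalizedModule.linearEquiv P.primeCompl (LocalizedModule.mkLinearMap P.primeCompl M)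
      ((LocalizedModule.mkLinearMap P.primeCompl M') ∘ₗ e.toLinearMap)).extendScalarsOfIsLocalization
        P.primeCompl (Localization.AtPrime P)
  rw [Module.supportDim_eq_of_equiv eP, DepthFlat33.depth_congr eP]

theorem skIneq_of_eq {A : Type u} [CommRing A] {n : ℕ} {t t' : Ideal A} [t.IsPrime] [t'.IsPrime]
    (h : t = t') (ht : SkIneq n (Localization.AtPrime t)) : SkIneq n (Localization.AtPrime t') := by
  subst h
  exact ht

/-- `(S_n)` at a prime `p`, for the ring itself, in terms of the primes below `p`. -/
theorem hasSkAt_self_iff (n : ℕ) (A : Type u) [CommRing A] (p : Ideal A) [p.IsPrime] :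
    EGA4.HasSkAt n A A p ↔
      ∀ (t : Ideal A) [t.IsPrime], t ≤ p → SkIneq n (Localization.AtPrime t) := by
  unfold EGA4.HasSkAt
  rw [← hasSk_congr (H56SerreFlat.selfEquiv A p) n, hasSk_self_iff']
  have key : ∀ (P : Ideal (Localization.AtPrime p)) [P.IsPrime],
      Nonempty (Localization.AtPrime (P.comap (algebraMap A (Localization.AtPrime p))) ≃+*
        Localization.AtPrime P) := by
    intro P _
    have : IsLocalization.AtPrime (Localization.AtPrime P)
        (P.comap (algebraMap A (Localization.AtPrime p))) :=
      IsLocalization.isLocalization_isLocalization_atPrime_isLocalization p.primeCompl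
        (Localization.AtPrime P) P
    exact ⟨(IsLocalization.algEquiv (P.comap (algebraMap A (Localization.AtPrime p))).primeCompl
      (Localization.AtPrime (P.comap (algebraMap A (Localization.AtPrime p))))
      (Localization.AtPrime P)).toRingEquiv⟩
  constructor
  · intro h t ht htp
    have hd : Disjoint (p.primeCompl : Set A) (t : Set A) := by
      rw [Set.disjoint_left]
      intro x hx hxt
      exact hx (htp hxt)
    have hP : (t.map (algebraMap A (Localization.AtPrime p))).IsPrime :=
      IsLocalization.isPrime_of_isPrime_disjoint p.primeCompl _ t ht hd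
    have hc : (t.map (algebraMap A (Localization.AtPrime p))).comap
        (algebraMap A (Localization.AtPrime p)) = t :=
      IsLocalization.under_map_of_isPrime_disjoint p.primeCompl _ ht hd
    obtain ⟨e⟩ := key (t.map (algebraMap A (Localization.AtPrime p)))
    have h1 := skIneq_of_ringEquiv e.symm (h (t.map (algebraMap A (Localization.AtPrime p))))
    exact skIneq_of_eq hc h1
  · intro h P hP
    obtain ⟨e⟩ := key P
    have hle : P.comap (algebraMap A (Localization.AtPrime p)) ≤ p := by
      have hle : P ≤ maximalIdeal (Localization.AtPrime p) := le_maximalIdeal hP.ne_top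
      have := Ideal.comap_mono (f := algebraMap A (Localization.AtPrime p)) hle
      have hc : Ideal.comap (algebraMap A (Localization.AtPrime p))
          (maximalIdeal (Localization.AtPrime p)) = p :=
        IsLocalization.AtPrime.under_maximalIdeal (Localization.AtPrime p) p
      rwa [hc] at this
    exact skIneq_of_ringEquiv e (h _ hle)

end Sk

section Main

variable {R S : Type u} [CommRing R] [CommRing S] [Algebra R S] [Module.Flat R S]
  [IsNoetherianRing R] [IsNoetherianRing S]

/-- **`(S_n)` is preserved and reflected along flat maps with Cohen–Macaulay fibres** (pointwise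
form, EGA IV 6.4.1/6.7.1). -/
theorem hasSkAt_iff_of_fibre
    (hfib : ∀ (p : Ideal R) [p.IsPrime], LocCoh.IsCohenMacaulayRing (p.Fiber S))
    (n : ℕ) (r : Ideal S) [r.IsPrime] :
    EGA4.HasSkAt n R R (r.comap (algebraMap R S)) ↔ EGA4.HasSkAt n S S r := by
  rw [hasSkAt_self_iff, hasSkAt_self_iff]
  constructor
  · intro h t' ht' hle
    have hlo : t'.LiesOver (t'.comap (algebraMap R S)) := ⟨rfl⟩
    obtain ⟨Q, hQp, hQ⟩ := exists_fiber_prime (t'.comap (algebraMap R S)) t'
    have hCM := hfib (t'.comap (algebraMap R S))
    have hsk := (hasSk_self_iff' n _).1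
      (H8Liaison.hasSk_self_of_isCMRing n ((t'.comap (algebraMap R S)).Fiber S)) Q
    exact skIneq_of_fiber' _ Q t' hQ (h _ (Ideal.comap_mono hle)) hsk
  · intro h t ht hle
    have hlo : r.LiesOver (r.comap (algebraMap R S)) := ⟨rfl⟩
    obtain ⟨P, hPr, hPprime, hPover⟩ :=
      Ideal.exists_ideal_le_liesOver_of_le (p := t) (q := r.comap (algebraMap R S)) r hle
    have hmap : t.map (algebraMap R S) ≤ P := by
      rw [Ideal.map_le_iff_le_comap]; exact (hPover.over).le
    obtain ⟨t', ht'min, ht'P⟩ := Ideal.exists_minimalPrimes_le hmap
    have ht'prime : t'.IsPrime := ht'min.isPrime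
    have hover : t'.LiesOver t := by
      constructor
      apply le_antisymm
      · rw [Ideal.under, ← Ideal.map_le_iff_le_comap]; exact ht'min.1.2
      · have := Ideal.comap_mono (f := algebraMap R S) ht'P
        rw [hPover.over]
        exact this
    obtain ⟨hdim, hdepth⟩ := H56SerreFlat.dim_depth_eq_of_mem_minimalPrimes t t' ht'min
    have hsk := h t' (ht'P.trans hPr)
    unfold SkIneq at hsk ⊢
    rwa [hdim, ← hdepth] at hsk

end Main

end Groth.Agent.Lib.FibreDimDepth33
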