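import Groth.Agent.Lib.H8LCICM
import Groth.Agent.Lib.FibreDimDepth33
import Groth.Agent.Lib.NoethDescent
import Mathlib

/-!
# Cohen–Macaulay and `(S_k)` are local in the syntomic topology (helper33)

Ring level: for a syntomic ring map `R → T` of Noetherian rings and a prime `r` of `T` over `p`,
`R_p` is CM iff `T_r` is, and `R_p` has `(S_k)` iff `T_r` has.

Scheme level: for a morphism `f : X ⟶ S` of locally Noetherian schemes which is syntomic at `x`,
the same for the stalks at `f x` and `x`; syntomic morphisms are flat and locally of finite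
presentation; local Noetherianity descends along jointly surjective syntomic families.
-/

set_option autoImplicit false
universe u

open IsLocalRing CategoryTheory AlgebraicGeometry Groth.Agent.Lib

namespace Groth.Agent.Lib.SyntLocal33

section Ring

/-- `(S_k)` of a ring (as a module over itself) is invariant under ring isomorphisms. -/
theorem hasSk_self_of_ringEquiv {A A' : Type u} [CommRing A] [CommRing A'] (e : A ≃+* A') (k : ℕ)
    (h : LocCoh.HasSk k A A) : LocCoh.HasSk k A' A' := by
  rw [H56SkFibre.hasSk_self_iff'] at h ⊢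
  intro P' hP'
  have hP : (P'.comap (e : A →+* A')).IsPrime := Ideal.comap_isPrime _ _
  have hmap : Submonoid.map (e : A →+* A').toMonoidHom (P'.comap (e : A →+* A')).primeCompl =
      P'.primeCompl := by
    ext a
    constructor
    · rintro ⟨b, hb, rfl⟩
      exact hb
    · intro ha
      refine ⟨e.symm a, ?_, by simp⟩
      change e.symm a ∉ P'.comap (e : A →+* A')
      rw [Ideal.mem_comap]
      simpa using ha
  exact H56SkFibre.skIneq_of_ringEquiv
    (IsLocalization.ringEquivOfRingEquiv (Localization.AtPrime (P'.comap (e : A →+* A')))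
      (Localization.AtPrime P') e hmap) (h _)

theorem hasSk_self_iff_of_ringEquiv {A A' : Type u} [CommRing A] [CommRing A'] (e : A ≃+* A')
    (k : ℕ) : LocCoh.HasSk k A A ↔ LocCoh.HasSk k A' A' :=
  ⟨hasSk_self_of_ringEquiv e k, hasSk_self_of_ringEquiv e.symm k⟩

theorem isCM_iff_of_ringEquiv {A A' : Type u} [CommRing A] [CommRing A'] (e : A ≃+* A') :
    LocCoh.IsCohenMacaulayLocalRing A ↔ LocCoh.IsCohenMacaulayLocalRing A' :=
  ⟨fun _ => CMRingEquiv96.isCohenMacaulayLocalRing_of_ringEquiv (R := A) (R' := A') e,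
    fun _ => CMRingEquiv96.isCohenMacaulayLocalRing_of_ringEquiv (R := A') (R' := A) e.symm⟩

variable {R T : Type u} [CommRing R] [CommRing T] [Algebra R T]

/-- The fibre rings of a syntomic ring map are Cohen–Macaulay rings. -/
theorem isCMRing_fiber (h : Synt.IsSyntomic R T) (p : Ideal R) [hp : p.IsPrime] :
    LocCoh.IsCohenMacaulayRing (p.Fiber T) :=
  H8LCICM.isCMRing_of_isLCIOver _ _ (h.2.2 ⟨p, hp⟩)

/-- For a syntomic map of Noetherian rings, `(S_k)` at a prime of the target is equivalent to
`(S_k)` at its contraction. -/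
theorem hasSk_localization_iff [IsNoetherianRing R] [IsNoetherianRing T]
    (h : Synt.IsSyntomic R T) (k : ℕ) (r : Ideal T) [r.IsPrime] (p : Ideal R) [p.IsPrime]
    (hp : r.comap (algebraMap R T) = p) :
    LocCoh.HasSk k (Localization.AtPrime p) (Localization.AtPrime p) ↔
      LocCoh.HasSk k (Localization.AtPrime r) (Localization.AtPrime r) := by
  subst hp
  have : Module.Flat R T := h.1
  have key := FibreDimDepth33.hasSkAt_iff_of_fibre (R := R) (S := T)
    (fun p _ => isCMRing_fiber h p) k r
  unfold EGA4.HasSkAt at key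
  rw [FibreDimDepth33.hasSk_congr (H56SerreFlat.selfEquiv R (r.comap (algebraMap R T))) k,
    FibreDimDepth33.hasSk_congr (H56SerreFlat.selfEquiv T r) k]
  exact key

theorem exists_nat_dim_depth (A : Type u) [CommRing A] [IsLocalRing A] [IsNoetherianRing A] :
    ∃ n a : ℕ, ringKrullDim A = (n : WithBot ℕ∞) ∧ LocCoh.depth A A = (a : ℕ∞) := by
  have h1 : ringKrullDim A < ⊤ := ringKrullDim_lt_top
  have h2 : ringKrullDim A ≠ ⊥ := ringKrullDim_ne_bot
  obtain ⟨d, hd⟩ := WithBot.ne_bot_iff_exists.1 h2
  rw [← hd] at h1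
  have h3 : d ≠ ⊤ := by
    rintro rfl
    exact lt_irrefl _ h1
  obtain ⟨n, rfl⟩ := ENat.ne_top_iff_exists.1 h3
  obtain ⟨a, ha⟩ := H8CM.exists_nat_depth (R := A) (M := A)
  exact ⟨n, a, hd.symm, ha⟩

theorem isCM_iff_nat (A : Type u) [CommRing A] [IsLocalRing A] [IsNoetherianRing A] {n a : ℕ}
    (hn : ringKrullDim A = (n : WithBot ℕ∞)) (ha : LocCoh.depth A A = (a : ℕ∞)) :
    LocCoh.IsCohenMacaulayLocalRing A ↔ n = a := by
  constructor
  · intro h
    have h1 := h.supportDim_eq_depth
    rw [Module.supportDim_self_eq_ringKrullDim, hn, ha] at h1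
    exact_mod_cast h1
  · intro h
    refine ⟨?_⟩
    rw [Module.supportDim_self_eq_ringKrullDim, hn, ha, h]
    rfl

/-- For a syntomic map of Noetherian rings, the local ring at a prime of the target is CM iff the
local ring at its contraction is. -/
theorem isCM_localization_iff [IsNoetherianRing R] [IsNoetherianRing T]
    (h : Synt.IsSyntomic R T) (r : Ideal T) [r.IsPrime] (p : Ideal R) [p.IsPrime]
    (hp : r.comap (algebraMap R T) = p) :
    LocCoh.IsCohenMacaulayLocalRing (Localization.AtPrime p) ↔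
      LocCoh.IsCohenMacaulayLocalRing (Localization.AtPrime r) := by
  subst hp
  have : Module.Flat R T := h.1
  have key := FibreDimDepth33.codepth_eq_of_fibre (R := R) (S := T)
    (fun p _ => isCMRing_fiber h p) r
  obtain ⟨n, a, hn, ha⟩ := exists_nat_dim_depth (Localization.AtPrime (r.comap (algebraMap R T)))
  obtain ⟨m, b, hm, hb⟩ := exists_nat_dim_depth (Localization.AtPrime r)
  rw [hn, hm, ha, hb] at key
  have key' : n + b = m + a := by exact_mod_cast key
  rw [isCM_iff_nat _ hn ha, isCM_iff_nat _ hm hb]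
  omega

end Ring

section Scheme

variable {X S : Scheme.{u}}

/-- A syntomic morphism is flat. -/
theorem flat_of_isSyntomicMor (f : X ⟶ S) (hf : Synt.IsSyntomicMor f) : Flat f := by
  rw [HasRingHomProperty.iff_exists_appLE (P := @Flat)
    (RingHom.Flat.stableUnderComposition.stableUnderCompositionWithLocalizationAway
      RingHom.Flat.holdsForLocalizationAway).left]
  intro x
  obtain ⟨U, V, e, hxU, hsyn⟩ := hf x
  exact ⟨V, U, hxU, e, hsyn.1⟩

/-- A syntomic morphism is locally of finite presentation. -/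
theorem lfp_of_isSyntomicMor (f : X ⟶ S) (hf : Synt.IsSyntomicMor f) :
    LocallyOfFinitePresentation f := by
  rw [HasRingHomProperty.iff_exists_appLE (P := @LocallyOfFinitePresentation)
    (RingHom.finitePresentation_stableUnderComposition.stableUnderCompositionWithLocalizationAway
      RingHom.finitePresentation_holdsForLocalizationAway).left]
  intro x
  obtain ⟨U, V, e, hxU, hsyn⟩ := hf x
  exact ⟨V, U, hxU, e, hsyn.2.1⟩

/-- For a morphism of locally Noetherian schemes which is syntomic at `x`, the local ring at `f x`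
is CM (resp. `(S_k)`) iff the local ring at `x` is. -/
theorem stalk_iff_of_isSyntomicAt [IsLocallyNoetherian X] [IsLocallyNoetherian S] (f : X ⟶ S)
    (x : X) (hx : Synt.IsSyntomicAt f x) :
    (LocCoh.IsCohenMacaulayLocalRing (S.presheaf.stalk (f x)) ↔
      LocCoh.IsCohenMacaulayLocalRing (X.presheaf.stalk x)) ∧
    ∀ k : ℕ, (LocCoh.HasSk k (S.presheaf.stalk (f x)) (S.presheaf.stalk (f x)) ↔
      LocCoh.HasSk k (X.presheaf.stalk x) (X.presheaf.stalk x)) := by
  obtain ⟨U, V, e, hxU, hsyn⟩ := hx
  let alg : Algebra Γ(S, V.1) Γ(X, U.1) := (f.appLE V.1 U.1 e).hom.toAlgebra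
  have hsyn' : Synt.IsSyntomic Γ(S, V.1) Γ(X, U.1) := hsyn
  have hNS : IsNoetherianRing Γ(S, V.1) := IsLocallyNoetherian.component_noetherian V
  have hNX : IsNoetherianRing Γ(X, U.1) := IsLocallyNoetherian.component_noetherian U
  have hcomap : (U.2.primeIdealOf ⟨x, hxU⟩).asIdeal.comap (algebraMap Γ(S, V.1) Γ(X, U.1)) =
      (V.2.primeIdealOf ⟨f x, e hxU⟩).asIdeal :=
    congr($(IsAffineOpen.comap_primeIdealOf_appLE V.1 V.2 U.1 U.2 e hxU).1)
  let aS := S.presheaf.algebra_section_stalk ⟨f x, e hxU⟩
  have lS := V.2.isLocalization_stalk ⟨f x, e hxU⟩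
  let aX := X.presheaf.algebra_section_stalk ⟨x, hxU⟩
  have lX := U.2.isLocalization_stalk ⟨x, hxU⟩
  let eS : S.presheaf.stalk (f x) ≃+*
      Localization.AtPrime (V.2.primeIdealOf ⟨f x, e hxU⟩).asIdeal :=
    (IsLocalization.algEquiv (V.2.primeIdealOf ⟨f x, e hxU⟩).asIdeal.primeCompl
      (S.presheaf.stalk (f x))
      (Localization.AtPrime (V.2.primeIdealOf ⟨f x, e hxU⟩).asIdeal)).toRingEquiv
  let eX : X.presheaf.stalk x ≃+* Localization.AtPrime (U.2.primeIdealOf ⟨x, hxU⟩).asIdeal :=
    (IsLocalization.algEquiv (U.2.primeIdealOf ⟨x, hxU⟩).asIdeal.primeCompl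
      (X.presheaf.stalk x)
      (Localization.AtPrime (U.2.primeIdealOf ⟨x, hxU⟩).asIdeal)).toRingEquiv
  refine ⟨?_, fun k => ?_⟩
  · rw [isCM_iff_of_ringEquiv eS, isCM_iff_of_ringEquiv eX]
    exact isCM_localization_iff hsyn' _ _ hcomap
  · rw [hasSk_self_iff_of_ringEquiv eS k, hasSk_self_iff_of_ringEquiv eX k]
    exact hasSk_localization_iff hsyn' k _ _ hcomap

end Scheme

section Family

open Limits

variable {ι : Type u} {S : Scheme.{u}} {X : ι → Scheme.{u}}

/-- Local Noetherianity descends along a jointly surjective family of syntomic morphisms. -/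
theorem isLocallyNoetherian_of_family (f : ∀ i, X i ⟶ S)
    (hsurj : ∀ s : S, ∃ i, s ∈ Set.range (f i).base) (hsyn : ∀ i, Synt.IsSyntomicMor (f i))
    (hN : ∀ i, IsLocallyNoetherian (X i)) : IsLocallyNoetherian S := by
  have hflat : ∀ i, Flat (f i) := fun i => flat_of_isSyntomicMor _ (hsyn i)
  have hlfp : ∀ i, LocallyOfFinitePresentation (f i) := fun i => lfp_of_isSyntomicMor _ (hsyn i)
  have h1 : Flat (Sigma.desc f) := IsZariskiLocalAtSource.sigmaDesc hflat
  have h2 : LocallyOfFinitePresentation (Sigma.desc f) := IsZariskiLocalAtSource.sigmaDesc hlfp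
  have h3 : Surjective (Sigma.desc f) := by
    refine ⟨fun s => ?_⟩
    obtain ⟨i, x, hx⟩ := hsurj s
    refine ⟨(Sigma.ι X i) x, ?_⟩
    rw [← Scheme.Hom.comp_apply, Sigma.ι_desc]
    exact hx
  have h4 : IsLocallyNoetherian (∐ X) :=
    (isLocallyNoetherian_iff_openCover (AlgebraicGeometry.sigmaOpenCover X)).2 hN
  exact NoethDescent.isLocallyNoetherian_of_fppf (Sigma.desc f)

/-- Local Noetherianity ascends along syntomic morphisms. -/
theorem isLocallyNoetherian_of_isSyntomicMor {Y : Scheme.{u}} (g : Y ⟶ S)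
    (hg : Synt.IsSyntomicMor g) [IsLocallyNoetherian S] : IsLocallyNoetherian Y := by
  have := lfp_of_isSyntomicMor g hg
  exact LocallyOfFiniteType.isLocallyNoetherian g

end Family

end Groth.Agent.Lib.SyntLocal33
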