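import Groth.Agent.Lib.KoszulLocusBC

/-!
# Koszul morphisms are local complete intersections on ALL affine pairs (helper19)

Namespace `Groth.Agent.Lib.KoszulAffine`.

* `lciHom_appLE_of_forall_isKoszulAt` : if `f` is Koszul at every point of an affine open `U` mapping into an affine
  open `V`, then `Γ(V) → Γ(U)` is a local complete intersection ring map.
-/

set_option autoImplicit false
set_option linter.style.haveILetI false
universe u
open CategoryTheory CategoryTheory.Limits AlgebraicGeometry TopologicalSpace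

namespace Groth.Agent.Lib.KoszulAffine

open Groth.Agent.Lib.LCIMaps Groth.Agent.Lib.KoszulAtLCI Groth.Agent.Lib.KoszulLocusBC

variable {X Y : Scheme.{u}}

/-- local step: a basic open neighbourhood of `x` in `U` on which the ring map is lci -/
theorem exists_basicOpen_lciHom (f : X ⟶ Y) {U : X.Opens} {V : Y.Opens} (hU : IsAffineOpen U)
    (hV : IsAffineOpen V) (e : U ≤ f ⁻¹ᵁ V) (x : X) (hx : x ∈ U) (h : Synt.IsKoszulAt f x) :
    ∃ b : Γ(X, U), x ∈ X.basicOpen b ∧
      LCIHom (f.appLE V (X.basicOpen b) ((X.basicOpen_le b).trans e)).hom := by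
  obtain ⟨U₁, hU₁, e₁, hxU₁, hl⟩ := exists_lciHom_of_isKoszulAt f x h hV (e hx)
  obtain ⟨b, c, hbc, hxb⟩ := exists_basicOpen_le_affine_inter hU hU₁ x ⟨hx, hxU₁⟩
  refine ⟨b, hxb, ?_⟩
  have key : ∀ (O : X.Opens) (_ : O = X.basicOpen c) (hle : O ≤ f ⁻¹ᵁ V),
      LCIHom (f.appLE V O hle).hom := by
    rintro _ rfl hle
    have h1 := lciHom_comp_away hl (X.presheaf.map (homOfLE (X.basicOpen_le c)).op).hom c
      (hU₁.isLocalization_basicOpen c)
    have hfac : f.appLE V (X.basicOpen c) hle =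
        f.appLE V U₁ e₁ ≫ X.presheaf.map (homOfLE (X.basicOpen_le c)).op :=
      (Scheme.Hom.appLE_map f e₁ (homOfLE (X.basicOpen_le c)).op).symm
    rw [hfac]
    exact h1
  exact key _ hbc _

/-- **Koszul at every point of an affine `U` over an affine `V` ⇒ `Γ(V) → Γ(U)` is lci** -/
theorem lciHom_appLE_of_forall_isKoszulAt (f : X ⟶ Y) {U : X.Opens} {V : Y.Opens}
    (hU : IsAffineOpen U) (hV : IsAffineOpen V) (e : U ≤ f ⁻¹ᵁ V)
    (h : ∀ x ∈ U, Synt.IsKoszulAt f x) : LCIHom (f.appLE V U e).hom := by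
  choose b hb₁ hb₂ using fun (x : U) => exists_basicOpen_lciHom f hU hV e x.1 x.2 (h x.1 x.2)
  have hspan : Ideal.span (Set.range b) = ⊤ := by
    rw [← hU.self_le_iSup_basicOpen_iff]
    intro x hx
    rw [iSup_range', Opens.mem_iSup]
    exact ⟨⟨x, hx⟩, hb₁ ⟨x, hx⟩⟩
  obtain ⟨t, ht₁, ht₂⟩ := (Ideal.span_eq_top_iff_finite _).mp hspan
  -- enumerate
  let m := t.card
  let g : Fin m → Γ(X, U) := fun j => (t.equivFin.symm j).1
  have hg : Ideal.span (Set.range g) = ⊤ := by
    have : Set.range g = (t : Set Γ(X, U)) := by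
      ext y
      constructor
      · rintro ⟨j, rfl⟩
        exact (t.equivFin.symm j).2
      · intro hy
        exact ⟨t.equivFin ⟨y, hy⟩, by simp [g]⟩
    rw [this]
    exact ht₂
  have hgx : ∀ j, ∃ x : U, b x = g j := fun j => ht₁ (t.equivFin.symm j).2
  choose xs hxs using hgx
  refine LCIHom.of_span_eq_top (f.appLE V U e).hom m g hg (fun j => Γ(X, X.basicOpen (g j)))
    (fun j => (X.presheaf.map (homOfLE (X.basicOpen_le (g j))).op).hom)
    (fun j => hU.isLocalization_basicOpen (g j)) (fun j => ?_)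
  have h1 := hb₂ (xs j)
  have key : ∀ (b' : Γ(X, U)) (_ : b' = g j),
      LCIHom (f.appLE V (X.basicOpen b') ((X.basicOpen_le b').trans e)).hom →
      LCIHom ((X.presheaf.map (homOfLE (X.basicOpen_le (g j))).op).hom.comp (f.appLE V U e).hom) := by
    rintro _ rfl h2
    have hfac : f.appLE V (X.basicOpen (g j)) ((X.basicOpen_le (g j)).trans e) =
        f.appLE V U e ≫ X.presheaf.map (homOfLE (X.basicOpen_le (g j))).op :=
      (Scheme.Hom.appLE_map f e (homOfLE (X.basicOpen_le (g j))).op).symm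
    rw [hfac] at h2
    exact h2
  exact key _ (hxs j) h1

end Groth.Agent.Lib.KoszulAffine
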