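import Groth.Agent.Lib.KoszulDepth
import Mathlib.RingTheory.Nakayama

/-!
# Acyclic Koszul complex in negative degrees ⇒ regular sequence (helper19)

For a Noetherian local ring `R`, a finite module `M` and `xs ⊆ 𝔪`: if `H^j(K(xs; M)) = 0` for all `j < 0`
then `xs` is a weakly regular sequence on `M`.
-/

universe u

open CategoryTheory CategoryTheory.Limits CochainComplex HomologicalComplex
open scoped Pointwise

namespace Groth.Agent.Lib.KoszulAcyclic

open Groth.Agent.Lib.KoszulCone Groth.Agent.Lib.KoszulElem Groth.Agent.Lib.KoszulDepth CohIII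
  RingTheory.Sequence

variable {R : Type u} [CommRing R]

section finite

variable [IsNoetherianRing R]

/-- the terms of the Koszul complex of a finite module are finite -/
theorem finite_X (M : ModuleCat.{u} R) [Module.Finite R M] :
    ∀ (fs : List R) (j : ℤ), Module.Finite R ((koszulCx M fs).X j)
  | [], j => by
    by_cases hj : j = 0
    · exact Module.Finite.equiv
        (HomologicalComplex.singleObjXIsoOfEq (ComplexShape.up ℤ) 0 M j hj).toLinearEquiv.symm
    · have : Subsingleton ((koszulCx M []).X j) :=
        ModuleCat.subsingleton_of_isZero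
          (HomologicalComplex.isZero_single_obj_X (ComplexShape.up ℤ) 0 M j hj)
      infer_instance
  | f :: fs, j => by
    have h1 := finite_X M fs (j + 1)
    have h2 := finite_X M fs j
    let e : (koszulCx M (f :: fs)).X j →ₗ[R] ((koszulCx M fs).X (j + 1) × (koszulCx M fs).X j) :=
      (fstL (f • 𝟙 (koszulCx M fs)) j).prod (sndL (f • 𝟙 (koszulCx M fs)) j)
    have he : Function.Injective e := by
      intro z z' h
      have h1 := congrArg Prod.fst h
      have h2 := congrArg Prod.snd h
      exact ext_cone (f • 𝟙 (koszulCx M fs)) j z z' h1 h2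
    exact Module.Finite.of_injective e he

/-- the cohomology of a complex of finite modules over a Noetherian ring is finite -/
theorem finite_homology (K : CochainComplex (ModuleCat.{u} R) ℤ) (j : ℤ)
    [Module.Finite R (K.X j)] : Module.Finite R (K.homology j) := by
  have hm : Function.Injective (K.iCycles j) :=
    (ModuleCat.mono_iff_injective (K.iCycles j)).mp inferInstance
  have : Module.Finite R (K.cycles j) := Module.Finite.of_injective (K.iCycles j).hom hm
  have hs : Function.Surjective (K.homologyπ j) :=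
    (ModuleCat.epi_iff_surjective (K.homologyπ j)).mp inferInstance
  exact Module.Finite.of_surjective (K.homologyπ j).hom hs

end finite

/-- Nakayama: a finite module over a local ring on which some `f ∈ 𝔪` acts surjectively is zero -/
theorem subsingleton_of_smul_surjective [IsLocalRing R] (N : Type u) [AddCommGroup N] [Module R N]
    [Module.Finite R N] (f : R) (hf : f ∈ IsLocalRing.maximalIdeal R)
    (h : ∀ x : N, ∃ y : N, f • y = x) : Subsingleton N := by
  have h1 : (⊤ : Submodule R N) = ⊥ := by
    apply Submodule.eq_bot_of_le_smul_of_le_jacobson_bot (Ideal.span {f}) ⊤ Module.Finite.fg_top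
    · intro x _
      obtain ⟨y, rfl⟩ := h x
      exact Submodule.smul_mem_smul (Ideal.subset_span rfl) Submodule.mem_top
    · rw [IsLocalRing.jacobson_eq_maximalIdeal ⊥ bot_ne_top]
      exact (Ideal.span_singleton_le_iff_mem _).mpr hf
  have h2 : Subsingleton (Submodule R N) := subsingleton_of_bot_eq_top h1.symm
  exact (Submodule.subsingleton_iff R).mp h2

section cone

variable {F G : CochainComplex (ModuleCat.{u} R) ℤ} (φ : F ⟶ G)

/-- If `H^j(cone φ) = 0`, every `j`-cocycle of `G` is `φ` of a cocycle of `F` up to a coboundary. -/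
theorem exists_of_isZero_homology_cone (i j : ℤ) (hij : i + 1 = j)
    (hZ : IsZero ((mappingCone φ).homology j)) (c : G.X j) (hc : G.d j (j + 1) c = 0) :
    ∃ (a : F.X j) (b : G.X i), F.d j (j + 1) a = 0 ∧ c = φ.f j a + G.d i j b := by
  subst hij
  have hz : (mappingCone φ).d (i + 1) (i + 1 + 1) (mkE φ (i + 1) 0 c) = 0 := by
    rw [d_eq_zero_iff, fstE_mkE, sndE_mkE, map_zero, map_zero, zero_add]
    exact ⟨rfl, hc⟩
  obtain ⟨cc, hcc⟩ := exists_cycle_of_d_eq_zero (mappingCone φ) (i + 1) (i + 1 + 1) rfl _ hz
  have hπ : (mappingCone φ).homologyπ (i + 1) cc = 0 :=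
    (ModuleCat.subsingleton_of_isZero hZ).elim _ _
  obtain ⟨w, hw⟩ := exists_boundary_of_homologyπ_eq_zero (mappingCone φ) i (i + 1) rfl cc hπ
  rw [hcc] at hw
  have h1 := congrArg (fstE φ (i + 1)) hw
  have h2 := congrArg (sndE φ (i + 1)) hw
  rw [fstE_mkE, fstE_d] at h1
  rw [sndE_mkE, sndE_d] at h2
  exact ⟨fstE φ i w, sndE φ i w, neg_eq_zero.mp h1.symm, h2⟩

/-- If `H^j(cone φ) = 0`, a `(j+1)`-cocycle of `F` whose image under `φ` is a coboundary is a
coboundary. -/
theorem exists_of_isZero_homology_cone' (i j : ℤ) (hij : i + 1 = j)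
    (hZ : IsZero ((mappingCone φ).homology j)) (a : F.X (j + 1)) (ha : F.d (j + 1) (j + 1 + 1) a = 0)
    (b : G.X j) (hb : φ.f (j + 1) a = G.d j (j + 1) b) :
    ∃ a' : F.X j, a = F.d j (j + 1) a' := by
  subst hij
  have hz : (mappingCone φ).d (i + 1) (i + 1 + 1) (mkE φ (i + 1) a (-b)) = 0 := by
    rw [d_eq_zero_iff, fstE_mkE, sndE_mkE, map_neg, hb, add_neg_cancel]
    exact ⟨ha, rfl⟩
  obtain ⟨cc, hcc⟩ := exists_cycle_of_d_eq_zero (mappingCone φ) (i + 1) (i + 1 + 1) rfl _ hz
  have hπ : (mappingCone φ).homologyπ (i + 1) cc = 0 :=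
    (ModuleCat.subsingleton_of_isZero hZ).elim _ _
  obtain ⟨w, hw⟩ := exists_boundary_of_homologyπ_eq_zero (mappingCone φ) i (i + 1) rfl cc hπ
  rw [hcc] at hw
  have h1 := congrArg (fstE φ (i + 1)) hw
  rw [fstE_mkE, fstE_d] at h1
  refine ⟨-(fstE φ i w), ?_⟩
  rw [map_neg]
  exact h1

end cone


section main

variable [IsNoetherianRing R] [IsLocalRing R]

/-- **Acyclicity criterion.** If the Koszul complex of `xs ⊆ 𝔪` on a finite module `M` over a
Noetherian local ring has no cohomology in negative degrees, then `xs` is weakly regular on `M`. -/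
theorem isWeaklyRegular_of_isZero_homology (M : Type u) [AddCommGroup M] [Module R M]
    [Module.Finite R M] : ∀ (xs : List R), (∀ x ∈ xs, x ∈ IsLocalRing.maximalIdeal R) →
    (∀ j : ℤ, j < 0 → IsZero ((koszulCx (ModuleCat.of R M) xs).homology j)) →
    IsWeaklyRegular M xs
  | [], _, _ => IsWeaklyRegular.nil R M
  | f :: fs, hxs, hZ => by
    have hf : f ∈ IsLocalRing.maximalIdeal R := hxs f List.mem_cons_self
    have hfs : ∀ x ∈ fs, x ∈ IsLocalRing.maximalIdeal R :=
      fun x hx => hxs x (List.mem_cons_of_mem _ hx)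
    have hMfin : Module.Finite R (ModuleCat.of R M) := ‹Module.Finite R M›
    -- Step 1: the Koszul complex of `fs` is acyclic in negative degrees
    have hZ' : ∀ j : ℤ, j < 0 → IsZero ((koszulCx (ModuleCat.of R M) fs).homology j) := by
      intro j hj
      have : Module.Finite R ((koszulCx (ModuleCat.of R M) fs).X j) :=
        finite_X (ModuleCat.of R M) fs j
      have hfin : Module.Finite R ((koszulCx (ModuleCat.of R M) fs).homology j) :=
        finite_homology _ j
      have hsub : Subsingleton ((koszulCx (ModuleCat.of R M) fs).homology j) := by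
        apply subsingleton_of_smul_surjective _ f hf
        intro x
        obtain ⟨c, rfl⟩ := exists_cycle (koszulCx (ModuleCat.of R M) fs) j x
        obtain ⟨a, b, ha, hab⟩ := exists_of_isZero_homology_cone
          (f • 𝟙 (koszulCx (ModuleCat.of R M) fs)) (j - 1) j (by ring) (hZ j hj)
          ((koszulCx (ModuleCat.of R M) fs).iCycles j c) (d_iCycles _ j (j + 1) c)
        obtain ⟨ca, hca⟩ := exists_cycle_of_d_eq_zero (koszulCx (ModuleCat.of R M) fs) j (j + 1) rfl
          a ha
        refine ⟨(koszulCx (ModuleCat.of R M) fs).homologyπ j ca, ?_⟩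
        rw [← map_smul, ← sub_eq_zero, ← map_sub]
        apply homologyπ_eq_zero_of_boundary _ (j - 1) j (by ring) _ (-b)
        rw [map_sub, map_smul, hca, hab, smul_id_f_apply, map_neg]
        abel
      exact ModuleCat.isZero_of_subsingleton _
    -- Step 2: induction
    have ih := isWeaklyRegular_of_isZero_homology M fs hfs hZ'
    -- Step 3: `f` is regular on `M/(fs)M`
    have hreg : IsSMulRegular (M ⧸ (Ideal.ofList fs • (⊤ : Submodule R M))) f := by
      rw [isSMulRegular_iff_right_eq_zero_of_smul]
      intro x hx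
      obtain ⟨m, rfl⟩ := Submodule.mkQ_surjective _ x
      rw [Submodule.mkQ_apply, ← Submodule.Quotient.mk_smul, Submodule.Quotient.mk_eq_zero] at hx
      rw [Submodule.mkQ_apply, Submodule.Quotient.mk_eq_zero]
      obtain ⟨a, ha⟩ := (top_bijective (ModuleCat.of R M) fs 0 rfl).2 m
      obtain ⟨w, hw⟩ := (exists_top_d_eq_iff (ModuleCat.of R M) fs (-1) 0 (by norm_num) rfl
        (f • m)).mpr hx
      have hs : Subsingleton ((koszulCx (ModuleCat.of R M) fs).X (-1 + 1 + 1)) :=
        subsingleton_X _ fs _ (Or.inr (by norm_num))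
      have hfa : (f • 𝟙 (koszulCx (ModuleCat.of R M) fs) :
          koszulCx (ModuleCat.of R M) fs ⟶ koszulCx (ModuleCat.of R M) fs).f (-1 + 1) a =
            (koszulCx (ModuleCat.of R M) fs).d (-1) (-1 + 1) w := by
        apply (top_bijective (ModuleCat.of R M) fs (-1 + 1) (by norm_num)).1
        rw [smul_id_f_apply, map_smul]
        exact (congrArg (f • ·) ha).trans hw.symm
      obtain ⟨a', ha'⟩ := exists_of_isZero_homology_cone'
        (f • 𝟙 (koszulCx (ModuleCat.of R M) fs)) (-2) (-1) (by norm_num) (hZ (-1) (by norm_num))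
        a (Subsingleton.elim _ _) w hfa
      rw [← ha, ha']
      exact (exists_top_d_eq_iff (ModuleCat.of R M) fs (-1) (-1 + 1) rfl (by norm_num) _).mp
        ⟨a', rfl⟩
    -- Step 4: permute
    have happ : IsWeaklyRegular M (fs ++ [f]) := by
      rw [isWeaklyRegular_append_iff, isWeaklyRegular_singleton_iff]
      exact ⟨ih, hreg⟩
    have hN : IsNoetherian R M := isNoetherian_of_isNoetherianRing_of_finite R M
    refine IsLocalRing.isWeaklyRegular_of_perm_of_subset_maximalIdeal happ
      (List.perm_append_singleton f fs) ?_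
    intro r hr
    rw [List.mem_append, List.mem_singleton] at hr
    rcases hr with hr | rfl
    · exact hfs r hr
    · exact hf

end main

end Groth.Agent.Lib.KoszulAcyclic
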