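import Groth.Agent.Lib.TorLES
import Mathlib.Algebra.Homology.QuasiIso
import Mathlib.Algebra.Homology.SingleHomology

/-!
# Flat resolutions of the FIRST variable compute Mathlib's `Tor` (helper35)

Mathlib's `Tor (ModuleCat R) n` resolves the second variable.  Using the first-variable long exact
sequence of `Lib/TorLES`, we show by dimension shifting that for a chain complex `Q` of flat modules
with a quasi-isomorphism `Q ⟶ M[0]`, `Tor_n(M, N) ≅ H_n(Q ⊗ N)` (non-canonically stated as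
`Nonempty`).  Consequences: balancing (`Tor_n(M,N) ≅ H_n(P_M ⊗ N)`), symmetry
`Tor_n(M,N) ≅ Tor_n(N,M)` (objectwise).
-/

set_option autoImplicit false

universe u

open CategoryTheory MonoidalCategory Limits

namespace Groth.Agent.Lib.TorBalance

open Groth.Agent.Lib.TorLES

variable {R : Type u} [CommRing R]

section general

variable {S : ShortComplex (ModuleCat.{u} R)} (hS : S.ShortExact) (N : ModuleCat.{u} R)

include hS in
lemma isIso_δ_of_flat [Module.Flat R S.X₂] (n : ℕ) :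
    IsIso (δ (ProjectiveResolution.of N) hS (n + 1)) := by
  have h2 : IsZero (((Tor (ModuleCat.{u} R) (n + 1 + 1)).obj S.X₂).obj N) :=
    isZero_tor_succ_of_flat_left _ _ (n + 1)
  have h1 : IsZero (((Tor (ModuleCat.{u} R) (n + 1)).obj S.X₂).obj N) :=
    isZero_tor_succ_of_flat_left _ _ n
  have hm : Mono (δ (ProjectiveResolution.of N) hS (n + 1)) :=
    (exact₃ (ProjectiveResolution.of N) hS (n + 1)).mono_g (h2.eq_of_src _ _)
  have he : Epi (δ (ProjectiveResolution.of N) hS (n + 1)) :=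
    (exact₁ (ProjectiveResolution.of N) hS (n + 1)).epi_f (h1.eq_of_tgt _ _)
  exact isIso_of_mono_of_epi _

/-- `Tor_{n+2}(X₃, N) ≅ Tor_{n+1}(X₁, N)` if the middle term is flat. -/
noncomputable def δIso [Module.Flat R S.X₂] (n : ℕ) :
    ((Tor (ModuleCat.{u} R) (n + 1 + 1)).obj S.X₃).obj N ≅
      ((Tor (ModuleCat.{u} R) (n + 1)).obj S.X₁).obj N :=
  haveI := isIso_δ_of_flat hS N n
  asIso (δ (ProjectiveResolution.of N) hS (n + 1))

/-- `Tor_1(X₃, N) ≅ ker (X₁ ⊗ N ⟶ X₂ ⊗ N)` if the middle term is flat. -/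
noncomputable def torOneIsoKernel [Module.Flat R S.X₂] :
    ((Tor (ModuleCat.{u} R) (0 + 1)).obj S.X₃).obj N ≅ kernel (S.f ▷ N) := by
  have h2 : IsZero (((Tor (ModuleCat.{u} R) (0 + 1)).obj S.X₂).obj N) :=
    isZero_tor_succ_of_flat_left _ _ 0
  have hm : Mono (δ (ProjectiveResolution.of N) hS 0) :=
    (exact₃ (ProjectiveResolution.of N) hS 0).mono_g (h2.eq_of_src _ _)
  have hm' : Mono (ShortComplex.mk _ _ (δ_comp (ProjectiveResolution.of N) hS 0)).f := hm
  exact IsLimit.conePointUniqueUpToIso (exact₁ (ProjectiveResolution.of N) hS 0).fIsKernel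
      (kernelIsKernel _) ≪≫
    kernel.mapIso _ _ (torZeroIso S.X₁ N) (torZeroIso S.X₂ N)
      (torZeroIso_hom_naturality S.f N)

end general

section complex

variable (Q : ChainComplex (ModuleCat.{u} R) ℕ)

lemma prev_eq (n : ℕ) : (ComplexShape.down ℕ).prev n = n + 1 := ChainComplex.prev ℕ n

lemma next_succ (n : ℕ) : (ComplexShape.down ℕ).next (n + 1) = n := ChainComplex.next_nat_succ n

/-- The syzygy short complex `C_{j+1} ⟶ Q_j ⟶ C_j` where `C_j = coker (Q_{j+1} ⟶ Q_j)`. -/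
noncomputable def syz (j : ℕ) : ShortComplex (ModuleCat.{u} R) :=
  ShortComplex.mk (Q.fromOpcycles (j + 1) j) (Q.pOpcycles j) (by
    rw [← cancel_epi (Q.pOpcycles (j + 1)), HomologicalComplex.p_fromOpcycles_assoc,
      HomologicalComplex.d_pOpcycles, comp_zero])

lemma mono_fromOpcycles (j : ℕ) (h : Q.ExactAt (j + 1)) : Mono (Q.fromOpcycles (j + 1) j) := by
  rw [Q.exactAt_iff' (j + 1 + 1) (j + 1) j (prev_eq _) (next_succ _)] at h
  have h1 : Mono (Q.sc' (j + 1 + 1) (j + 1) j).fromOpcycles := h.mono_fromOpcycles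
  have h2 := Q.opcyclesIsoSc'_inv_fromOpcycles (j + 1 + 1) (j + 1) j (prev_eq _) (next_succ _)
  have h3 : Q.fromOpcycles (j + 1) j =
      (Q.opcyclesIsoSc' (j + 1 + 1) (j + 1) j (prev_eq _) (next_succ _)).hom ≫
        ((Q.opcyclesIsoSc' (j + 1 + 1) (j + 1) j (prev_eq _) (next_succ _)).inv ≫
          Q.fromOpcycles (j + 1) j) := by
    rw [Iso.hom_inv_id_assoc]
  rw [h3]
  have h4 : Mono ((Q.opcyclesIsoSc' (j + 1 + 1) (j + 1) j (prev_eq _) (next_succ _)).inv ≫
          Q.fromOpcycles (j + 1) j) := by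
    rw [h2]
    exact h1
  exact mono_comp _ _

lemma syz_shortExact (j : ℕ) (h : Q.ExactAt (j + 1)) : (syz Q j).ShortExact := by
  have hm : Mono (syz Q j).f := mono_fromOpcycles Q j h
  have he : Epi (syz Q j).g := inferInstanceAs (Epi (Q.pOpcycles j))
  refine ⟨?_⟩
  let S' : ShortComplex (ModuleCat.{u} R) :=
    ShortComplex.mk (Q.d (j + 1) j) (Q.pOpcycles j) (HomologicalComplex.d_pOpcycles _ _ _)
  have hS' : S'.Exact :=
    S'.exact_of_g_is_cokernel (Q.opcyclesIsCokernel (j + 1) j (prev_eq j))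
  let φ : S' ⟶ syz Q j :=
    { τ₁ := Q.pOpcycles (j + 1)
      τ₂ := 𝟙 _
      τ₃ := 𝟙 _
      comm₁₂ := by
        dsimp [S', syz]
        rw [HomologicalComplex.p_fromOpcycles, Category.comp_id]
      comm₂₃ := by
        dsimp [S', syz]
        rw [Category.comp_id, Category.id_comp] }
  have : Epi φ.τ₁ := inferInstanceAs (Epi (Q.pOpcycles (j + 1)))
  have : IsIso φ.τ₂ := inferInstanceAs (IsIso (𝟙 _))
  have : Mono φ.τ₃ := inferInstanceAs (Mono (𝟙 _))
  exact (ShortComplex.exact_iff_of_epi_of_isIso_of_mono φ).mp hS'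

end complex

section shift

variable (Q : ChainComplex (ModuleCat.{u} R) ℕ) (hflat : ∀ i, Module.Flat R (Q.X i))
  (hex : ∀ j, Q.ExactAt (j + 1)) (N : ModuleCat.{u} R)

include hflat hex in
/-- `Tor_{k+1}(C_j, N) ≅ Tor_1(C_{j+k}, N)` by dimension shifting along the flat resolution. -/
lemma torShift (k : ℕ) : ∀ (j m : ℕ), m = j + k →
    Nonempty (((Tor (ModuleCat.{u} R) (k + 1)).obj (Q.opcycles j)).obj N ≅
      ((Tor (ModuleCat.{u} R) (0 + 1)).obj (Q.opcycles m)).obj N) := by
  induction k with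
  | zero =>
    intro j m hm
    obtain rfl : m = j := by omega
    exact ⟨Iso.refl _⟩
  | succ k ih =>
    intro j m hm
    obtain ⟨e⟩ := ih (j + 1) m (by omega)
    have hS := syz_shortExact Q j (hex j)
    have : Module.Flat R (syz Q j).X₂ := hflat j
    exact ⟨δIso hS N k ≪≫ e⟩

end shift

section tensor

variable (Q : ChainComplex (ModuleCat.{u} R) ℕ) (N : ModuleCat.{u} R)

/-- The complex `Q ⊗ N`. -/
noncomputable abbrev QN : ChainComplex (ModuleCat.{u} R) ℕ :=
  ((tensorRight N).mapHomologicalComplex (ComplexShape.down ℕ)).obj Q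

/-- `- ⊗ N` is right exact, hence commutes with `opcycles`. -/
noncomputable def opcyclesTensorIso (n : ℕ) : (QN Q N).opcycles n ≅ Q.opcycles n ⊗ N :=
  IsColimit.coconePointUniqueUpToIso ((QN Q N).opcyclesIsCokernel (n + 1) n (prev_eq n))
    (CokernelCofork.mapIsColimit _ (Q.opcyclesIsCokernel (n + 1) n (prev_eq n)) (tensorRight N))

lemma pOpcycles_opcyclesTensorIso_hom (n : ℕ) :
    (QN Q N).pOpcycles n ≫ (opcyclesTensorIso Q N n).hom = Q.pOpcycles n ▷ N :=
  IsColimit.comp_coconePointUniqueUpToIso_hom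
    ((QN Q N).opcyclesIsCokernel (n + 1) n (prev_eq n))
    (CokernelCofork.mapIsColimit _ (Q.opcyclesIsCokernel (n + 1) n (prev_eq n)) (tensorRight N))
    WalkingParallelPair.one

lemma opcyclesTensorIso_hom_fromOpcycles (n m : ℕ) :
    (opcyclesTensorIso Q N n).hom ≫ Q.fromOpcycles n m ▷ N = (QN Q N).fromOpcycles n m := by
  have h : Q.pOpcycles n ▷ N ≫ Q.fromOpcycles n m ▷ N = Q.d n m ▷ N := by
    rw [← comp_whiskerRight, HomologicalComplex.p_fromOpcycles]
  apply (cancel_epi ((QN Q N).pOpcycles n)).mp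
  refine ((Category.assoc _ _ _).symm.trans ?_).trans ((QN Q N).p_fromOpcycles n m).symm
  refine (congrArg (· ≫ Q.fromOpcycles n m ▷ N) (pOpcycles_opcyclesTensorIso_hom Q N n)).trans ?_
  exact h

end tensor

section main

variable (Q : ChainComplex (ModuleCat.{u} R) ℕ) (N : ModuleCat.{u} R)

/-- `H_{n+1}(Q ⊗ N) ≅ ker (C_{n+1} ⊗ N ⟶ Q_n ⊗ N)`. -/
noncomputable def homologySuccIsoKernel (n : ℕ) :
    (QN Q N).homology (n + 1) ≅ kernel (Q.fromOpcycles (n + 1) n ▷ N) :=
  IsLimit.conePointUniqueUpToIso ((QN Q N).homologyIsKernel (n + 1) n (next_succ n))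
      (kernelIsKernel _) ≪≫
    kernel.mapIso ((QN Q N).fromOpcycles (n + 1) n) (Q.fromOpcycles (n + 1) n ▷ N)
      (opcyclesTensorIso Q N (n + 1)) (Iso.refl _)
      ((Category.comp_id _).trans (opcyclesTensorIso_hom_fromOpcycles Q N (n + 1) n).symm)

/-- `H_0(Q ⊗ N) ≅ C_0 ⊗ N`. -/
noncomputable def homologyZeroIso : (QN Q N).homology 0 ≅ Q.opcycles 0 ⊗ N :=
  (QN Q N).isoHomologyι₀ ≪≫ opcyclesTensorIso Q N 0

variable (hflat : ∀ i, Module.Flat R (Q.X i)) (hex : ∀ j, Q.ExactAt (j + 1))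

include hflat hex in
/-- For an exact-in-positive-degrees complex `Q` of flat modules, `Tor_n(coker(Q₁ ⟶ Q₀), N)` is
the homology of `Q ⊗ N`. -/
theorem tor_opcycles_zero_iso_homology (n : ℕ) :
    Nonempty (((Tor (ModuleCat.{u} R) n).obj (Q.opcycles 0)).obj N ≅ (QN Q N).homology n) := by
  cases n with
  | zero => exact ⟨torZeroIso _ N ≪≫ (homologyZeroIso Q N).symm⟩
  | succ n =>
    obtain ⟨e⟩ := torShift Q hflat hex N n 0 n (by omega)
    have hS := syz_shortExact Q n (hex n)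
    have : Module.Flat R (syz Q n).X₂ := hflat n
    exact ⟨e ≪≫ torOneIsoKernel hS N ≪≫ (homologySuccIsoKernel Q N n).symm⟩

end main

section resolution

variable (Q : ChainComplex (ModuleCat.{u} R) ℕ) (N : ModuleCat.{u} R)
  {M : ModuleCat.{u} R} (φ : Q ⟶ (ChainComplex.single₀ (ModuleCat.{u} R)).obj M)
  [QuasiIso φ]

include φ in
lemma exactAt_succ_of_quasiIso (j : ℕ) : Q.ExactAt (j + 1) :=
  (quasiIsoAt_iff_exactAt' φ (j + 1)
    (HomologicalComplex.exactAt_single_obj (ComplexShape.down ℕ) 0 M (j + 1) (by omega))).mp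
    inferInstance

/-- `coker (Q₁ ⟶ Q₀) ≅ M` for a resolution `Q ⟶ M[0]`. -/
noncomputable def opcyclesZeroIso : Q.opcycles 0 ≅ M :=
  Q.isoHomologyι₀.symm ≪≫ isoOfQuasiIsoAt φ 0 ≪≫
    HomologicalComplex.singleObjHomologySelfIso (ComplexShape.down ℕ) 0 M

include φ in
/-- **Flat resolutions of the first variable compute `Tor`.** -/
theorem tor_iso_homology_of_flatResolution (hflat : ∀ i, Module.Flat R (Q.X i)) (n : ℕ) :
    Nonempty (((Tor (ModuleCat.{u} R) n).obj M).obj N ≅ (QN Q N).homology n) := by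
  obtain ⟨e⟩ := tor_opcycles_zero_iso_homology Q N hflat (exactAt_succ_of_quasiIso Q φ) n
  exact ⟨(torMapIso (opcyclesZeroIso Q φ) n).symm ≪≫ e⟩

end resolution

section balancing

/-- **Balancing of `Tor`**: `Tor_n(M, N)` (Mathlib: resolves `N`) is computed by a projective
resolution of `M`. -/
theorem tor_iso_homology_projectiveResolution_left {M : ModuleCat.{u} R}
    (P : ProjectiveResolution M) (N : ModuleCat.{u} R) (n : ℕ) :
    Nonempty (((Tor (ModuleCat.{u} R) n).obj M).obj N ≅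
      (((tensorRight N).mapHomologicalComplex (ComplexShape.down ℕ)).obj P.complex).homology n) :=
  tor_iso_homology_of_flatResolution P.complex N P.π (fun _ => flat_of_projective _) n

/-- `Tor` and `Tor'` agree objectwise. -/
theorem tor_iso_tor' (M N : ModuleCat.{u} R) (n : ℕ) :
    Nonempty (((Tor (ModuleCat.{u} R) n).obj M).obj N ≅ ((Tor' (ModuleCat.{u} R) n).obj M).obj N) := by
  obtain ⟨e⟩ := tor_iso_homology_projectiveResolution_left (ProjectiveResolution.of M) N n
  exact ⟨e ≪≫ ((ProjectiveResolution.of M).isoLeftDerivedObj (tensorRight N) n).symm⟩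

/-- Symmetry of `Tor` (objectwise). -/
theorem tor_symm (M N : ModuleCat.{u} R) (n : ℕ) :
    Nonempty (((Tor (ModuleCat.{u} R) n).obj M).obj N ≅ ((Tor (ModuleCat.{u} R) n).obj N).obj M) := by
  obtain ⟨e⟩ := tor_iso_homology_projectiveResolution_left (ProjectiveResolution.of M) N n
  let P := ProjectiveResolution.of M
  let α : tensorRight N ≅ tensorLeft N := (BraidedCategory.tensorLeftIsoTensorRight N).symm
  let β := (NatIso.mapHomologicalComplex α (ComplexShape.down ℕ)).app P.complex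
  exact ⟨e ≪≫ (HomologicalComplex.homologyFunctor _ _ n).mapIso β ≪≫
    (P.isoLeftDerivedObj (tensorLeft N) n).symm⟩

lemma isZero_tor_symm {M N : ModuleCat.{u} R} {n : ℕ}
    (h : IsZero (((Tor (ModuleCat.{u} R) n).obj M).obj N)) :
    IsZero (((Tor (ModuleCat.{u} R) n).obj N).obj M) := by
  obtain ⟨e⟩ := tor_symm M N n
  exact h.of_iso e.symm

end balancing

end Groth.Agent.Lib.TorBalance
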