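import Groth.Agent.Lib.SerreMult
import Groth.Agent.Lib.TorBalance
import Groth.Prelude.Def_IntMult
import Mathlib.Algebra.Homology.Embedding.RestrictionHomology
import Mathlib.LinearAlgebra.TensorProduct.Quotient

/-!
# `Tor_n(A/(l), M)` versus Koszul homology for a regular sequence `l` (helper25)

`length_tor_eq`: for `l` weakly `A`-regular, `length Tor_n(A/(l), M) = length H^{-n}(kcx M l)`.
-/

set_option autoImplicit false
universe u

open CategoryTheory Limits CochainComplex MonoidalCategory
open Groth.Agent.Lib.KoszulCone Groth.Agent.Lib.KoszulElem Groth.Agent.Lib.KoszulFilt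
  Groth.Agent.Lib.KoszulEuler Groth.Agent.Lib.TorLES Groth.Agent.Lib.TorBalance

namespace Groth.Agent.Lib.KoszulTor

variable {A : Type u} [CommRing A]

theorem kcx_eq' (M : ModuleCat.{u} A) : ∀ fs : List A, kcx M fs = CohIII.koszulCx M fs
  | [] => rfl
  | f :: fs => by
    show CochainComplex.mappingCone (f • 𝟙 (kcx M fs)) =
      CochainComplex.mappingCone (f • 𝟙 (CohIII.koszulCx M fs))
    rw [kcx_eq' M fs]

theorem koszul_eq : ∀ l : List A, Koszul.koszul A l = kcx (ModuleCat.of A A) l
  | [] => rfl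
  | f :: l => by
    show CochainComplex.mappingCone (f • 𝟙 (Koszul.koszul A l)) =
      CochainComplex.mappingCone (f • 𝟙 (kcx (ModuleCat.of A A) l))
    rw [koszul_eq l]

theorem free_X_kcx_self : ∀ (l : List A) (n : ℤ), Module.Free A ((kcx (ModuleCat.of A A) l).X n)
  | [], n => by
    by_cases hn : n = 0
    · exact Module.Free.of_equiv
        (HomologicalComplex.singleObjXIsoOfEq (ComplexShape.up ℤ) 0 (ModuleCat.of A A) n
          hn).toLinearEquiv.symm
    · have : Subsingleton ((kcx (ModuleCat.of A A) ([] : List A)).X n) :=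
        ModuleCat.subsingleton_of_isZero (HomologicalComplex.isZero_single_obj_X _ _ _ _ hn)
      infer_instance
  | x :: l, n => by
    have h1 := free_X_kcx_self l (n + 1)
    have h2 := free_X_kcx_self l n
    exact Module.Free.of_equiv (coneEquiv (x • 𝟙 (kcx (ModuleCat.of A A) l)) n).symm

/-- the Koszul complex of `A` as a chain complex. -/
noncomputable def Q (l : List A) : ChainComplex (ModuleCat.{u} A) ℕ :=
  (kcx (ModuleCat.of A A) l).restriction (ComplexShape.embeddingUpIntLE 0)

lemma flat_Q (l : List A) (n : ℕ) : Module.Flat A ((Q l).X n) := by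
  have := free_X_kcx_self l ((ComplexShape.embeddingUpIntLE 0).f n)
  change Module.Flat A ((kcx (ModuleCat.of A A) l).X ((ComplexShape.embeddingUpIntLE 0).f n))
  infer_instance

lemma exactAt_Q (l : List A) (hl : RingTheory.Sequence.IsWeaklyRegular A l) (j : ℕ) :
    (Q l).ExactAt (j + 1) := by
  rw [HomologicalComplex.exactAt_iff_isZero_homology]
  have hz := isZero_homology_of_isWeaklyRegular l A hl (-(j + 1 : ℤ)) (by omega)
  refine IsZero.of_iso hz ((kcx (ModuleCat.of A A) l).restrictionHomologyIso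
    (ComplexShape.embeddingUpIntLE 0) (j + 2) (j + 1) j (by simp) (by simp)
    (i' := -(j + 2 : ℤ)) (j' := -(j + 1 : ℤ)) (k' := -(j : ℤ)) ?_ ?_ ?_ ?_ ?_)
  · simp [ComplexShape.embeddingUpIntLE]
  · simp [ComplexShape.embeddingUpIntLE]
  · simp [ComplexShape.embeddingUpIntLE]
  · simp; ring
  · simp

/-- the degree-`0` term of `kcx M fs` is `M`, and the image of the last differential is
`(fs) M` (transfer of helper19's `top`). -/
theorem exists_top (M : ModuleCat.{u} A) (fs : List A) (i j : ℤ) (hij : i + 1 = j) (hj : j = 0) :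
    ∃ t : (kcx M fs).X j →ₗ[A] M, Function.Bijective t ∧
      ∀ y : M, (∃ w : (kcx M fs).X i, t ((kcx M fs).d i j w) = y) ↔
        y ∈ Ideal.ofList fs • (⊤ : Submodule A M) := by
  rw [kcx_eq']
  exact ⟨top M fs j hj, top_bijective M fs j hj, exists_top_d_eq_iff M fs i j hij hj⟩

theorem nonempty_opcycles_iso (l : List A) :
    Nonempty ((Q l).opcycles 0 ≅ ModuleCat.of A (A ⧸ Ideal.ofList l)) := by
  obtain ⟨t, ht, hd⟩ := exists_top (ModuleCat.of A A) l
    ((ComplexShape.embeddingUpIntLE 0).f 1) ((ComplexShape.embeddingUpIntLE 0).f 0)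
    (by simp [ComplexShape.embeddingUpIntLE]) (by simp [ComplexShape.embeddingUpIntLE])
  let e1 := IsColimit.coconePointUniqueUpToIso ((Q l).opcyclesIsCokernel 1 0 (by simp))
    (ModuleCat.cokernelIsColimit ((Q l).d 1 0))
  let te : (Q l).X 0 ≃ₗ[A] A := LinearEquiv.ofBijective t ht
  have hmap : (LinearMap.range ((Q l).d 1 0).hom).map (te : (Q l).X 0 →ₗ[A] A) =
      (Ideal.ofList l : Submodule A A) := by
    ext y
    rw [Submodule.mem_map]
    have := hd y
    rw [smul_eq_mul, Ideal.mul_top] at this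
    rw [← this]
    constructor
    · rintro ⟨z, ⟨w, rfl⟩, rfl⟩
      exact ⟨w, rfl⟩
    · rintro ⟨w, rfl⟩
      exact ⟨_, ⟨w, rfl⟩, rfl⟩
  exact ⟨e1 ≪≫ (Submodule.Quotient.equiv _ _ te hmap).toModuleIso⟩

/-- `K(l; A) ⊗ M ≅ K(l; M)` with `kcx` on both sides. -/
noncomputable def tensorKcxIso (M : ModuleCat.{u} A) (l : List A) :
    DRing.tensorCx (kcx (ModuleCat.of A A) l) M ≅ kcx M l :=
  eqToIso (by rw [koszul_eq]) ≪≫ tensorCxKoszulIso M l

/-- tensoring commutes with restriction. -/
noncomputable def qnIso (M : ModuleCat.{u} A) (l : List A) :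
    QN (Q l) M ≅ (DRing.tensorCx (kcx (ModuleCat.of A A) l) M).restriction
      (ComplexShape.embeddingUpIntLE 0) :=
  HomologicalComplex.Hom.isoOfComponents (fun _ => Iso.refl _) (by
    intro i j _
    simp only [Iso.refl_hom, Category.comp_id, Category.id_comp]
    rfl)

theorem nonempty_tor_succ_iso (l : List A) (hl : RingTheory.Sequence.IsWeaklyRegular A l)
    (M : ModuleCat.{u} A) (n : ℕ) :
    Nonempty (((Tor (ModuleCat.{u} A) (n + 1)).obj (ModuleCat.of A (A ⧸ Ideal.ofList l))).obj M ≅
      (kcx M l).homology (-((n + 1 : ℕ) : ℤ))) := by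
  obtain ⟨e0⟩ := nonempty_opcycles_iso l
  obtain ⟨e1⟩ := tor_opcycles_zero_iso_homology (Q l) M (flat_Q l) (exactAt_Q l hl) (n + 1)
  let e2 := (HomologicalComplex.homologyFunctor _ _ (n + 1)).mapIso (qnIso M l)
  let K := DRing.tensorCx (kcx (ModuleCat.of A A) l) M
  let e3 : (K.restriction (ComplexShape.embeddingUpIntLE 0)).homology (n + 1) ≅
      K.homology (-((n + 1 : ℕ) : ℤ)) :=
    K.restrictionHomologyIso (ComplexShape.embeddingUpIntLE 0) (n + 2) (n + 1) n (by simp)
      (by simp) (i' := -((n + 2 : ℕ) : ℤ)) (j' := -((n + 1 : ℕ) : ℤ)) (k' := -(n : ℤ))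
      (by simp [ComplexShape.embeddingUpIntLE]) (by simp [ComplexShape.embeddingUpIntLE])
      (by simp [ComplexShape.embeddingUpIntLE]) (by simp; ring) (by simp)
  let e4 := (HomologicalComplex.homologyFunctor _ _ (-((n + 1 : ℕ) : ℤ))).mapIso (tensorKcxIso M l)
  exact ⟨(torMapIso e0 (n + 1)).symm ≪≫ e1 ≪≫ e2 ≪≫ e3 ≪≫ e4⟩

theorem length_tor_zero (l : List A) (M : Type u) [AddCommGroup M] [Module A M] :
    Module.length A (DRing.Tor A 0 (A ⧸ Ideal.ofList l) M) =
      Module.length A ((kcx (ModuleCat.of A M) l).homology 0) := by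
  have e1 := (torZeroIso (ModuleCat.of A (A ⧸ Ideal.ofList l)) (ModuleCat.of A M)).toLinearEquiv
  have e2 := TensorProduct.quotTensorEquivQuotSMul M (Ideal.ofList l)
  obtain ⟨e3⟩ : Nonempty ((kcx (ModuleCat.of A M) l).homology 0 ≃ₗ[A]
      (M ⧸ (Ideal.ofList l • (⊤ : Submodule A M)))) := by
    rw [kcx_eq']
    exact nonempty_homology_top_linearEquiv (ModuleCat.of A M) l 0 rfl
  rw [e3.length_eq, ← e2.length_eq]
  exact e1.length_eq

theorem length_tor_eq (l : List A) (hl : RingTheory.Sequence.IsWeaklyRegular A l)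
    (M : Type u) [AddCommGroup M] [Module A M] (n : ℕ) :
    Module.length A (DRing.Tor A n (A ⧸ Ideal.ofList l) M) =
      Module.length A ((kcx (ModuleCat.of A M) l).homology (-(n : ℤ))) := by
  cases n with
  | zero => simpa using length_tor_zero l M
  | succ n =>
    obtain ⟨e⟩ := nonempty_tor_succ_iso l hl (ModuleCat.of A M) n
    exact e.toLinearEquiv.length_eq

/-- **Serre's Tor-formula Euler characteristic is the Koszul Euler characteristic**, for a
(weakly) regular sequence. -/
theorem chi_tor_eq_kchi (l : List A) (hl : RingTheory.Sequence.IsWeaklyRegular A l)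
    (M : Type u) [AddCommGroup M] [Module A M] :
    IntMult.chi A (A ⧸ Ideal.ofList l) M = kchi M l := by
  unfold IntMult.chi kchi Groth.Agent.Lib.EulerD.chi Groth.Agent.Lib.EulerLES.eul
  have hL : ∀ i : ℤ, (i < -(l.length : ℤ) ∨ 0 < i) →
      Module.length A ((kcx (ModuleCat.of A M) l).homology i) = 0 :=
    fun i hi => length_homology_kcx_eq_zero _ _ _ hi
  rw [finsum_eq_sum_of_support_subset (s := Finset.range (l.length + 1)) _ ?_,
    finsum_eq_sum_of_support_subset
      (s := (Finset.range (l.length + 1)).image (fun n : ℕ => -(n : ℤ))) _ ?_]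
  · rw [Finset.sum_image (by intro a _ b _ h; simpa using h)]
    refine Finset.sum_congr rfl fun i _ => ?_
    rw [length_tor_eq l hl M i, Int.negOnePow_neg, Int.coe_negOnePow_natCast]
  · intro i hi
    rw [Function.mem_support] at hi
    by_contra hni
    apply hi
    rw [hL i, ENat.toNat_zero, Nat.cast_zero, mul_zero]
    by_contra hcon
    push Not at hcon
    apply hni
    simp only [Finset.coe_image, Finset.coe_range, Set.mem_image, Set.mem_Iio]
    exact ⟨i.natAbs, by omega, by omega⟩
  · intro i hi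
    rw [Function.mem_support] at hi
    by_contra hni
    apply hi
    rw [length_tor_eq l hl M i, hL (-(i : ℤ)), ENat.toNat_zero, Nat.cast_zero, mul_zero]
    left
    simp only [Finset.coe_range, Set.mem_Iio, not_lt] at hni
    omega

end Groth.Agent.Lib.KoszulTor
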