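import Groth.Agent.Lib.KoszulAway
import Mathlib.RingTheory.Regular.RegularSequence
import Mathlib.RingTheory.Localization.Algebra
import Mathlib.RingTheory.Localization.Away.Basic

/-!
# Presenting `(A[X]/I)[1/g]` by a regular sequence in one more variable (helper19)

Namespace `Groth.Agent.Lib.RegAwayPres`.

* `exists_presentation_away` : if `I·A[X]_h` is generated by a weakly regular sequence of `A[X]_h`,
  then `(A[X]/I)[1/h]` is `A[X₀,X]/(P)` for a regular sequence `P` (starting with `h X₀ - 1`).
-/

set_option autoImplicit false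
set_option linter.style.haveILetI false
universe u

namespace Groth.Agent.Lib.RegAwayPres

open MvPolynomial RingTheory.Sequence Groth.Agent.Lib.KoszulAway
open scoped Pointwise

variable {A : Type u} [CommRing A] {n : ℕ}

section

variable (I : Ideal (MvPolynomial (Fin n) A)) (h₀ : MvPolynomial (Fin n) A)

/-- the map `A[X]_h → (A[X]/I)_h` -/
noncomputable def μ : Localization.Away h₀ →+* Localization.Away (Ideal.Quotient.mk I h₀) :=
  IsLocalization.map (M := Submonoid.powers h₀) (T := Submonoid.powers (Ideal.Quotient.mk I h₀))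
    (Localization.Away (Ideal.Quotient.mk I h₀)) (Ideal.Quotient.mk I)
    ((Submonoid.map_powers (Ideal.Quotient.mk I) h₀).symm ▸ (Submonoid.powers h₀).le_comap_map)

theorem ker_μ : RingHom.ker (μ I h₀) =
    I.map (algebraMap (MvPolynomial (Fin n) A) (Localization.Away h₀)) := by
  have := IsLocalization.ker_map (M := Submonoid.powers h₀)
    (T := Submonoid.powers (Ideal.Quotient.mk I h₀)) (S := Localization.Away h₀)
    (Localization.Away (Ideal.Quotient.mk I h₀)) (Ideal.Quotient.mk I)
    (Submonoid.map_powers (Ideal.Quotient.mk I) h₀)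
  rw [Ideal.mk_ker] at this
  exact this

theorem μ_algebraMap (p : MvPolynomial (Fin n) A) :
    μ I h₀ (algebraMap _ (Localization.Away h₀) p) =
      algebraMap _ (Localization.Away (Ideal.Quotient.mk I h₀)) (Ideal.Quotient.mk I p) :=
  IsLocalization.map_eq _ p

theorem μ_surjective : Function.Surjective (μ I h₀) := by
  intro y
  obtain ⟨k, b, hb⟩ := IsLocalization.Away.surj (Ideal.Quotient.mk I h₀) y
  obtain ⟨p, rfl⟩ := Ideal.Quotient.mk_surjective b
  refine ⟨algebraMap _ (Localization.Away h₀) p * IsLocalization.Away.invSelf h₀ ^ k, ?_⟩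
  have hinv : μ I h₀ (IsLocalization.Away.invSelf h₀) *
      algebraMap _ (Localization.Away (Ideal.Quotient.mk I h₀)) (Ideal.Quotient.mk I h₀) = 1 := by
    rw [← μ_algebraMap, ← map_mul, mul_comm, IsLocalization.Away.mul_invSelf, map_one]
  rw [map_mul, map_pow, μ_algebraMap, ← hb, mul_assoc, mul_comm _ (μ I h₀ _ ^ k), ← mul_pow,
    hinv, one_pow, mul_one]

end

section main

variable (I : Ideal (MvPolynomial (Fin n) A)) (h₀ : MvPolynomial (Fin n) A)

theorem isSMulRegular_z₀ : IsSMulRegular (MvPolynomial (Fin (n + 1)) A) (z₀ h₀) := by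
  intro a b hab
  have h1 : z₀ h₀ * (a - b) = 0 := by
    rw [mul_sub, sub_eq_zero]
    exact hab
  exact sub_eq_zero.mp (z₀_regular h₀ _ h1)

theorem exists_presentation_away (f : List (Localization.Away h₀))
    (hf : IsWeaklyRegular (Localization.Away h₀) f)
    (hI : I.map (algebraMap (MvPolynomial (Fin n) A) (Localization.Away h₀)) = Ideal.ofList f)
    [Nontrivial (Localization.Away (Ideal.Quotient.mk I h₀))] :
    ∃ (d : ℕ) (P : Fin d → MvPolynomial (Fin (n + 1)) A),
      IsRegular (MvPolynomial (Fin (n + 1)) A) (List.ofFn P) ∧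
      Nonempty (Localization.Away (Ideal.Quotient.mk I h₀) ≃ₐ[A]
        (MvPolynomial (Fin (n + 1)) A ⧸ Ideal.ofList (List.ofFn P))) := by
  have hθ : Function.Surjective (θ h₀) := θ_surjective h₀
  let ft : List (MvPolynomial (Fin (n + 1)) A) := f.map (Function.surjInv hθ)
  have hft : ft.map (θ h₀) = f := by
    rw [List.map_map]
    conv_rhs => rw [← List.map_id f]
    refine List.map_congr_left fun a _ => ?_
    exact Function.surjInv_eq hθ a
  let l : List (MvPolynomial (Fin (n + 1)) A) := z₀ h₀ :: ft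
  let Ψ : MvPolynomial (Fin (n + 1)) A →ₐ[A] Localization.Away (Ideal.Quotient.mk I h₀) :=
    { toRingHom := (μ I h₀).comp (θ h₀).toRingHom
      commutes' := by
        intro a
        show μ I h₀ (θ h₀ (algebraMap A _ a)) = _
        rw [(θ h₀).commutes, IsScalarTower.algebraMap_apply A (MvPolynomial (Fin n) A)
          (Localization.Away h₀), μ_algebraMap]
        rfl }
  have hΨ : Function.Surjective Ψ := (μ_surjective I h₀).comp hθ
  have hker : RingHom.ker Ψ.toRingHom = Ideal.ofList l := by
    have h1 : RingHom.ker Ψ.toRingHom = (RingHom.ker (μ I h₀)).comap (θ h₀).toRingHom := by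
      ext x
      rw [RingHom.mem_ker, Ideal.mem_comap, RingHom.mem_ker]
      rfl
    rw [h1, ker_μ, hI, ← hft]
    have h2 : Ideal.ofList (ft.map (θ h₀)) = (Ideal.ofList ft).map (θ h₀).toRingHom := by
      rw [Ideal.map_ofList]
      rfl
    rw [h2, Ideal.comap_map_of_surjective (θ h₀).toRingHom hθ, ← RingHom.ker_eq_comap_bot, ker_θ]
    show _ = Ideal.ofList (z₀ h₀ :: ft)
    rw [Ideal.ofList_cons (z₀ h₀) ft, Ideal.ofList_singleton, sup_comm]
  have hw : IsWeaklyRegular (MvPolynomial (Fin (n + 1)) A) l := by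
    rw [isWeaklyRegular_cons_iff]
    refine ⟨isSMulRegular_z₀ h₀, ?_⟩
    letI : Algebra (MvPolynomial (Fin (n + 1)) A) (Localization.Away h₀) :=
      (θ h₀).toRingHom.toAlgebra
    have hkerEq : (z₀ h₀ • ⊤ : Submodule (MvPolynomial (Fin (n + 1)) A)
        (MvPolynomial (Fin (n + 1)) A)) =
        LinearMap.ker (Algebra.linearMap (MvPolynomial (Fin (n + 1)) A) (Localization.Away h₀)) := by
      ext x
      rw [LinearMap.mem_ker, Algebra.linearMap_apply]
      have h3 : x ∈ RingHom.ker (θ h₀).toRingHom ↔ algebraMap (MvPolynomial (Fin (n + 1)) A)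
          (Localization.Away h₀) x = 0 := Iff.rfl
      rw [← h3, ker_θ, Ideal.ofList_singleton, Submodule.mem_smul_pointwise_iff_exists,
        Ideal.mem_span_singleton']
      constructor
      · rintro ⟨y, -, rfl⟩
        exact ⟨y, by rw [smul_eq_mul, mul_comm]⟩
      · rintro ⟨y, rfl⟩
        exact ⟨y, Submodule.mem_top, by rw [smul_eq_mul, mul_comm]⟩
    let e : QuotSMulTop (z₀ h₀) (MvPolynomial (Fin (n + 1)) A) ≃ₗ[MvPolynomial (Fin (n + 1)) A]
        Localization.Away h₀ :=
      (Submodule.quotEquivOfEq _ _ hkerEq).trans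
        (LinearMap.quotKerEquivOfSurjective
          (Algebra.linearMap (MvPolynomial (Fin (n + 1)) A) (Localization.Away h₀)) hθ)
    rw [e.isWeaklyRegular_congr ft,
      ← isWeaklyRegular_map_algebraMap_iff (Localization.Away h₀) (Localization.Away h₀) ft]
    have h4 : ft.map (algebraMap (MvPolynomial (Fin (n + 1)) A) (Localization.Away h₀)) = f := hft
    rw [h4]
    exact hf
  have hreg : IsRegular (MvPolynomial (Fin (n + 1)) A) l := by
    rw [RingTheory.Sequence.isRegular_iff]
    refine ⟨hw, ?_⟩
    rw [smul_eq_mul, Ideal.mul_top, ← hker]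
    intro htop
    have h1 : (1 : MvPolynomial (Fin (n + 1)) A) ∈ RingHom.ker Ψ.toRingHom := by
      rw [← htop]; trivial
    rw [RingHom.mem_ker, map_one] at h1
    exact one_ne_zero h1
  refine ⟨l.length, l.get, ?_, ?_⟩
  · rw [List.ofFn_get]
    exact hreg
  · rw [List.ofFn_get]
    exact ⟨(Ideal.quotientKerAlgEquivOfSurjective hΨ).symm.trans
      (Ideal.quotientEquivAlgOfEq A hker)⟩

end main

end Groth.Agent.Lib.RegAwayPres
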