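import Groth.Agent.Lib.SyntLCI2
import Groth.Agent.Lib.KoszulAcyclic
import Groth.Agent.Lib.KoszulTor
import Groth.Agent.Lib.RegAwayPres
import Groth.Agent.S2680

/-!
# Local complete intersection algebras over a field are local complete intersections in the sense of `Synt` (helper19)

Namespace `Groth.Agent.Lib.SyntLCI`.

* `isWeaklyRegular_of_isKoszulRegularSeq` : Noetherian local, Koszul-regular in `𝔪` ⇒ regular.
* `ringKrullDim_quotient_of_isKoszulRegularSeq` : `dim k[x_1..x_N]/(rs) = N - |rs|` for a Koszul-regular `rs`.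
-/

set_option autoImplicit false
set_option linter.style.haveILetI false
universe u
open CategoryTheory CategoryTheory.Limits TensorProduct Function MvPolynomial IsLocalRing

namespace Groth.Agent.Lib.SyntLCI

open Groth.Agent.Lib Groth.Agent.Lib.KoszulIdeal LocCoh

/-- In a Noetherian local ring a Koszul-regular sequence contained in the maximal ideal is a
(weakly) regular sequence. -/
theorem isWeaklyRegular_of_isKoszulRegularSeq {T : Type u} [CommRing T] [IsLocalRing T]
    [IsNoetherianRing T] (l : List T) (hl : LCI.IsKoszulRegularSeq T l)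
    (hmem : ∀ x ∈ l, x ∈ maximalIdeal T) : RingTheory.Sequence.IsWeaklyRegular T l := by
  refine KoszulAcyclic.isWeaklyRegular_of_isZero_homology T l hmem ?_
  intro j hj
  have h1 := (KoszulQuot.isKoszulRegularSeq_iff l).mp hl j hj
  exact ((HomologicalComplex.homologyFunctor _ _ j).mapIso
    (eqToIso (KoszulTor.kcx_eq' (ModuleCat.of T T) l))).isZero_iff.mp h1

section dim

variable (k : Type u) [Field k] (N : ℕ) (rs : List (MvPolynomial (Fin N) k))

/-- every maximal ideal of `k[x]/(rs)` has height `N - |rs|` for Koszul-regular `rs` -/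
theorem height_add_length_of_isKoszulRegularSeq
    (hrs : LCI.IsKoszulRegularSeq (MvPolynomial (Fin N) k) rs)
    (q : Ideal (MvPolynomial (Fin N) k ⧸ Ideal.ofList rs)) [hq : q.IsMaximal] :
    (q.height : WithBot ℕ∞) + rs.length = N := by
  set Q := q.comap (Ideal.Quotient.mk (Ideal.ofList rs)) with hQ
  haveI hQmax : Q.IsMaximal := Ideal.comap_isMaximal_of_surjective _ Ideal.Quotient.mk_surjective
  have hIQ : Ideal.ofList rs ≤ Q := by
    intro x hx
    rw [hQ, Ideal.mem_comap, Ideal.Quotient.eq_zero_iff_mem.mpr hx]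
    exact q.zero_mem
  haveI : IsCohenMacaulayLocalRing (Localization.AtPrime Q) :=
    IsCohenMacaulayRing.isCohenMacaulayLocalRing_localization Q
  have hmem : ∀ r ∈ rs.map (algebraMap (MvPolynomial (Fin N) k) (Localization.AtPrime Q)),
      r ∈ maximalIdeal (Localization.AtPrime Q) := by
    intro r hr
    obtain ⟨x, hx, rfl⟩ := List.mem_map.mp hr
    exact (IsLocalization.AtPrime.to_map_mem_maximal_iff _ Q _).mpr
      (hIQ (Ideal.subset_span hx))
  have hkr := KoszulQuot.isKoszulRegularSeq_map_of_flat (R' := Localization.AtPrime Q) rs hrs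
  have hwr := isWeaklyRegular_of_isKoszulRegularSeq _ hkr hmem
  have key := (Groth.Agent.Lib.H8CM.isWeaklyRegular_self_iff _ hmem).mp hwr
  rw [List.length_map] at key
  have e1 : ringKrullDim (Localization.AtPrime Q) = Q.height :=
    IsLocalization.AtPrime.ringKrullDim_eq_height Q _
  have e2 : ringKrullDim (Localization.AtPrime Q ⧸
      Ideal.ofList (rs.map (algebraMap (MvPolynomial (Fin N) k) (Localization.AtPrime Q)))) =
        q.height := by
    rw [← Ideal.map_ofList, ← IsLocalization.AtPrime.ringKrullDim_eq_height q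
      (Localization.AtPrime q)]
    exact (ringKrullDim_eq_of_ringEquiv
      (Groth.Agent.Lib.H14CMQuot.localizationQuotientEquiv (Ideal.ofList rs) q)).symm
  rw [e1, e2, Groth.Agent.S2680.height_of_isMaximal_mvPolynomial k N Q] at key
  exact key

/-- `dim k[x_1..x_N]/(rs) = N - |rs|` for a Koszul-regular sequence `rs` generating a proper ideal -/
theorem ringKrullDim_quotient_of_isKoszulRegularSeq
    (hrs : LCI.IsKoszulRegularSeq (MvPolynomial (Fin N) k) rs)
    [Nontrivial (MvPolynomial (Fin N) k ⧸ Ideal.ofList rs)] :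
    rs.length ≤ N ∧ ringKrullDim (MvPolynomial (Fin N) k ⧸ Ideal.ofList rs) =
      ((N - rs.length : ℕ) : WithBot ℕ∞) := by
  have hall : ∀ (q : Ideal (MvPolynomial (Fin N) k ⧸ Ideal.ofList rs)), q.IsMaximal →
      rs.length ≤ N ∧ q.height = ((N - rs.length : ℕ) : ℕ∞) := by
    intro q hq
    have h := height_add_length_of_isKoszulRegularSeq k N rs hrs q
    cases hh : q.height with
    | top =>
      rw [hh] at h
      exfalso
      have h1 : (((⊤ : ℕ∞) + (rs.length : ℕ∞) : ℕ∞) : WithBot ℕ∞) = ((N : ℕ∞) : WithBot ℕ∞) := by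
        exact_mod_cast h
      rw [WithBot.coe_inj, top_add] at h1
      exact ENat.top_ne_natCast N h1
    | coe a =>
      rw [hh] at h
      have h' : a + rs.length = N := by exact_mod_cast h
      refine ⟨by omega, ?_⟩
      have : a = N - rs.length := by omega
      rw [this]
  obtain ⟨q, hq⟩ := Ideal.exists_maximal (MvPolynomial (Fin N) k ⧸ Ideal.ofList rs)
  refine ⟨(hall q hq).1, ?_⟩
  rw [← Ideal.sup_isMaximal_height_eq_ringKrullDim]
  congr 1
  exact le_antisymm (iSup₂_le fun I hI => (hall I hI).2.le) (le_iSup₂_of_le q hq (hall q hq).2.ge)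

end dim

section core

open Groth.Agent.Lib.KoszulAway Groth.Agent.Lib.RegAwayPres Groth.Agent.Lib.KRDescB
  Groth.Agent.Lib.KRDescC

variable (k : Type u) [Field k] (n : ℕ)

/-- the localization `(k[x]/I)_h` as a global complete intersection, given Koszul-regular generators of `I k[x]_h` -/
theorem isGlobalCI_away_of_isKoszulRegularSeq (I : Ideal (MvPolynomial (Fin n) k))
    (h₀ : MvPolynomial (Fin n) k) {c : ℕ} (v : Fin c → MvPolynomial (Fin n) k)
    (hkr : LCI.IsKoszulRegularSeq (Localization.Away h₀)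
      (List.ofFn (algebraMap (MvPolynomial (Fin n) k) (Localization.Away h₀) ∘ v)))
    (hID : I.map (algebraMap (MvPolynomial (Fin n) k) (Localization.Away h₀)) =
      Ideal.ofList (List.ofFn (algebraMap (MvPolynomial (Fin n) k) (Localization.Away h₀) ∘ v)))
    [Nontrivial (Localization.Away (Ideal.Quotient.mk I h₀))] :
    Synt.IsGlobalCI k (Localization.Away (Ideal.Quotient.mk I h₀)) := by
  have hθ : Function.Surjective (θ h₀) := θ_surjective h₀
  let ft : List (MvPolynomial (Fin (n + 1)) k) := List.ofFn (jHom ∘ v)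
  have hft : ft.map (θ h₀) =
      List.ofFn (algebraMap (MvPolynomial (Fin n) k) (Localization.Away h₀) ∘ v) := by
    rw [List.map_ofFn]
    congr 1
    funext i
    exact θ_jHom h₀ (v i)
  let l : List (MvPolynomial (Fin (n + 1)) k) := ft ++ [z₀ h₀]
  let Ψ : MvPolynomial (Fin (n + 1)) k →ₐ[k] Localization.Away (Ideal.Quotient.mk I h₀) :=
    { toRingHom := (μ I h₀).comp (θ h₀).toRingHom
      commutes' := by
        intro a
        show μ I h₀ (θ h₀ (algebraMap k _ a)) = _
        rw [(θ h₀).commutes, IsScalarTower.algebraMap_apply k (MvPolynomial (Fin n) k)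
          (Localization.Away h₀), μ_algebraMap]
        rfl }
  have hΨ : Function.Surjective Ψ := (μ_surjective I h₀).comp hθ
  have hker : RingHom.ker Ψ.toRingHom = Ideal.ofList l := by
    have h1 : RingHom.ker Ψ.toRingHom = (RingHom.ker (μ I h₀)).comap (θ h₀).toRingHom := by
      ext x
      rw [RingHom.mem_ker, Ideal.mem_comap, RingHom.mem_ker]
      rfl
    rw [h1, ker_μ, hID, ← hft]
    have h2 : Ideal.ofList (ft.map (θ h₀)) = (Ideal.ofList ft).map (θ h₀).toRingHom := by
      rw [Ideal.map_ofList]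
      rfl
    rw [h2, Ideal.comap_map_of_surjective (θ h₀).toRingHom hθ, ← RingHom.ker_eq_comap_bot, ker_θ]
    show _ = Ideal.ofList (ft ++ [z₀ h₀])
    rw [Ideal.ofList_append]
  have hl : LCI.IsKoszulRegularSeq (MvPolynomial (Fin (n + 1)) k) l := by
    refine (KoszulQuot.isKoszulRegularSeq_append_iff (θ h₀).toRingHom hθ [z₀ h₀] (ker_θ h₀)
      (isKoszulRegularSeq_z₀ h₀) ft).mpr ?_
    have : ft.map (θ h₀).toRingHom = ft.map (θ h₀) := rfl
    rw [this, hft]
    exact hkr
  let e : (MvPolynomial (Fin (n + 1)) k ⧸ Ideal.ofList l) ≃+*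
      Localization.Away (Ideal.Quotient.mk I h₀) :=
    (Ideal.quotEquivOfEq hker.symm).trans (RingHom.quotientKerEquivOfSurjective (f := Ψ.toRingHom) hΨ)
  haveI : Nontrivial (MvPolynomial (Fin (n + 1)) k ⧸ Ideal.ofList l) := e.toEquiv.nontrivial
  obtain ⟨hlen, hdim⟩ := ringKrullDim_quotient_of_isKoszulRegularSeq k (n + 1) l hl
  refine Or.inr ⟨n + 1, l.length, hlen, Ψ, l.get, hΨ, ?_, ?_⟩
  · rw [hker, Set.range_list_get]
  · rw [← ringKrullDim_eq_of_ringEquiv e, hdim]

/-- `k[x]/I` is a local complete intersection over `k` in the sense of `Synt` when `I` is a Koszul-regular ideal -/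
theorem isLCIOver_quotient_of_isKoszulRegularIdeal (I : Ideal (MvPolynomial (Fin n) k))
    (hI : LCI.IsKoszulRegularIdeal I) : Synt.IsLCIOver k (MvPolynomial (Fin n) k ⧸ I) := by
  refine ⟨inferInstance, fun p => ?_⟩
  haveI := p.2
  let 𝔮 : PrimeSpectrum (MvPolynomial (Fin n) k) :=
    ⟨p.asIdeal.comap (Ideal.Quotient.mk I), inferInstance⟩
  have hI𝔮 : I ≤ 𝔮.asIdeal := by
    intro x hx
    show Ideal.Quotient.mk I x ∈ p.asIdeal
    rw [Ideal.Quotient.eq_zero_iff_mem.mpr hx]
    exact p.asIdeal.zero_mem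
  obtain ⟨G₀, hG₀, hGen⟩ := (isKoszulRegularIdeal_iff I).mp hI 𝔮 hI𝔮
  obtain ⟨s, hs⟩ := hGen.exists_genLen
  have hIfg : I.FG := IsNoetherian.noetherian I
  have hs' : GenLen (I.map (algebraMap (MvPolynomial (Fin n) k) (MvPolynomial (Fin n) k))) G₀ s := by
    rw [Algebra.algebraMap_self, Ideal.map_id]
    exact hs
  obtain ⟨n', hn', v, a, ha, hv⟩ := GenLen.exists_nearGen (A := MvPolynomial (Fin n) k)
    (B := MvPolynomial (Fin n) k) hIfg hs' 𝔮.asIdeal hG₀
  have ha' : a ∉ 𝔮.asIdeal := ha
  have hh₀ : a * G₀ ∉ 𝔮.asIdeal := fun h =>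
    (Ideal.IsPrime.mem_or_mem inferInstance h).elim ha' hG₀
  have hu : IsUnit (algebraMap (MvPolynomial (Fin n) k) (Localization.Away (a * G₀)) (a * G₀)) :=
    IsLocalization.Away.algebraMap_isUnit (a * G₀)
  rw [map_mul] at hu
  have hau := isUnit_of_mul_isUnit_left hu
  have hGu := isUnit_of_mul_isUnit_right hu
  have hkr := kr_of_genLen hv hn' hs' (Localization.Away (a * G₀)) hau hGu
  have hID : I.map (algebraMap (MvPolynomial (Fin n) k) (Localization.Away (a * G₀))) =
      Ideal.ofList (List.ofFn (algebraMap (MvPolynomial (Fin n) k) (Localization.Away (a * G₀)) ∘ v)) := by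
    rw [Groth.Agent.Lib.KRDescC.ofList_ofFn]
    exact hv.map_eq (algebraMap _ _) hau
  have hgp : Ideal.Quotient.mk I (a * G₀) ∉ p.asIdeal := hh₀
  refine ⟨Ideal.Quotient.mk I (a * G₀), hgp, ?_⟩
  haveI : Nontrivial (Localization.Away (Ideal.Quotient.mk I (a * G₀))) := by
    rw [← not_subsingleton_iff_nontrivial,
      IsLocalization.subsingleton_iff (M := Submonoid.powers (Ideal.Quotient.mk I (a * G₀)))]
    rintro ⟨m, hm⟩
    apply hgp
    apply Ideal.IsPrime.mem_of_pow_mem inferInstance m
    simp only at hm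
    rw [hm]
    exact p.asIdeal.zero_mem
  exact isGlobalCI_away_of_isKoszulRegularSeq k n I (a * G₀) v hkr hID

/-- **a local complete intersection algebra over a field is a local complete intersection in the sense of `Synt`** -/
theorem isLCIOver_of_isLCI {S : Type u} [CommRing S] [Algebra k S] (h : LCI.IsLCI k S) :
    Synt.IsLCIOver k S := by
  obtain ⟨-, n, α, hα, hK⟩ := h
  have h1 := isLCIOver_quotient_of_isKoszulRegularIdeal k n _ hK
  exact Groth.Agent.Lib.GlobalCI.isLCIOver_of_algEquiv (Ideal.quotientKerAlgEquivOfSurjective hα) h1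

end core

section syntomic

attribute [local instance] Algebra.TensorProduct.rightAlgebra

/-- **a flat local complete intersection ring map is syntomic** -/
theorem isSyntomic_of_isLCI_of_flat {R S : Type u} [CommRing R] [CommRing S] [Algebra R S]
    [Module.Flat R S] (h : LCI.IsLCI R S) : Synt.IsSyntomic R S := by
  refine ⟨inferInstance, ?_, fun p => ?_⟩
  · obtain ⟨-, n, α, hα, hK⟩ := h
    exact Algebra.FinitePresentation.of_surjective hα
      (Groth.Agent.Lib.KRDescC.fg_of_isKoszulRegularIdeal hK)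
  · exact isLCIOver_of_isLCI _ (Groth.Agent.Lib.LCIBaseChange.isLCI_baseChange (R := R)
      (R' := p.asIdeal.ResidueField) (A := R) (A' := p.asIdeal.ResidueField) (B := S)
      (B' := p.asIdeal.Fiber S) h)

/-- syntomic ⇔ flat and a local complete intersection -/
theorem isSyntomic_iff {R S : Type u} [CommRing R] [CommRing S] [Algebra R S] :
    Synt.IsSyntomic R S ↔ Module.Flat R S ∧ LCI.IsLCI R S :=
  ⟨fun h => ⟨h.1, isLCI_of_isSyntomic h⟩, fun ⟨h1, h2⟩ => haveI := h1; isSyntomic_of_isLCI_of_flat h2⟩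

end syntomic

end Groth.Agent.Lib.SyntLCI
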