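import Groth.Agent.Lib.SyntSrcDesc3
import Groth.Agent.Lib.SrcLocalFppf64
import Groth.Agent.Lib.SyntLocal33
import Groth.Agent.Lib.KoszulAtDescent
import Groth.Agent.Lib.KoszulLocusBC
import Groth.Agent.S9363

/-!
# Local complete intersection morphisms are syntomic local on the source (helper19)

Namespace `Groth.Agent.Lib.SyntSrcDesc`.

* `isKoszulAt_of_syntomic_surjective_precomp` : `g : X' ⟶ X` syntomic and surjective, `g ≫ f` Koszul at
  every point; then `f` is Koszul at every point.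
-/

set_option autoImplicit false
set_option linter.style.haveILetI false
universe u
open CategoryTheory CategoryTheory.Limits AlgebraicGeometry TopologicalSpace

namespace Groth.Agent.Lib.SyntSrcDesc

open Groth.Agent.Lib.LCIMaps Groth.Agent.Lib.SyntChart89 Groth.Agent.Lib.KoszulAtLCI
  Groth.Agent.Lib.KoszulLocusBC

variable {X' X Y : Scheme.{u}}

theorem isKoszulAt_of_syntomic_surjective_precomp (g : X' ⟶ X) (hg : Synt.IsSyntomicMor g)
    [Surjective g] (f : X ⟶ Y) (h : ∀ x' : X', Synt.IsKoszulAt (g ≫ f) x') (x : X) :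
    Synt.IsKoszulAt f x := by
  haveI hgflat : Flat g := Groth.Agent.Lib.SyntLocal33.flat_of_isSyntomicMor g hg
  haveI hglfp : LocallyOfFinitePresentation g := Groth.Agent.Lib.SyntLocal33.lfp_of_isSyntomicMor g hg
  -- `g ≫ f` and then `f` are locally of finite type
  have hgf : LocallyOfFiniteType (g ≫ f) := by
    rw [HasRingHomProperty.iff_exists_appLE (P := @LocallyOfFiniteType)
      (RingHom.finiteType_stableUnderComposition.stableUnderCompositionWithLocalizationAway
        RingHom.finiteType_holdsForLocalizationAway).left]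
    intro x'
    obtain ⟨V, hV, hx'V, -⟩ := Opens.isBasis_iff_nbhd.mp Y.isBasis_affineOpens
      (show (g ≫ f) x' ∈ (⊤ : Y.Opens) from trivial)
    obtain ⟨U, hU, e, hx', hl⟩ := exists_lciHom_of_isKoszulAt (g ≫ f) x' (h x') hV hx'V
    exact ⟨⟨V, hV⟩, ⟨U, hU⟩, hx', e, hl.1⟩
  haveI hf : LocallyOfFiniteType f :=
    Groth.Agent.Lib.SrcLocalFppf64.sourceFppfLocal_locallyOfFiniteType g f hgflat hglfp
      inferInstance hgf
  -- charts
  obtain ⟨x', rfl⟩ := g.surjective x
  obtain ⟨V, hV, hxV, -⟩ := Opens.isBasis_iff_nbhd.mp Y.isBasis_affineOpens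
    (show f (g x') ∈ (⊤ : Y.Opens) from trivial)
  obtain ⟨U, hU, hxU, hUV⟩ := Opens.isBasis_iff_nbhd.mp X.isBasis_affineOpens
    (show g x' ∈ f ⁻¹ᵁ V from hxV)
  obtain ⟨U'', hU'', e'', hx'U'', hl⟩ := exists_lciHom_of_isKoszulAt (g ≫ f) x' (h x') hV hxV
  obtain ⟨c, hc, hx'c⟩ := hU''.exists_basicOpen_le (V := g ⁻¹ᵁ U) ⟨x', hxU⟩ hx'U''
  have hU' : IsAffineOpen (X'.basicOpen c) := hU''.basicOpen c
  have eU' : X'.basicOpen c ≤ (g ≫ f) ⁻¹ᵁ V := (X'.basicOpen_le c).trans e''
  have hl' : LCIHom ((g ≫ f).appLE V (X'.basicOpen c) eU').hom :=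
    Groth.Agent.Lib.KoszulAtDescent.lciHom_appLE_basicOpen (g ≫ f) hU'' e'' hl c
  -- the ring maps
  have hψ : SyntHom (g.appLE U (X'.basicOpen c) hc).hom :=
    (isSyntomic_toAlgebra_iff _).mp
      ((Groth.Agent.S9363.result g).mp hg ⟨X'.basicOpen c, hU'⟩ ⟨U, hU⟩ hc)
  have hφ : (f.appLE V U hUV).hom.FiniteType := f.finiteType_appLE hV hU hUV
  have hcomp : (g.appLE U (X'.basicOpen c) hc).hom.comp (f.appLE V U hUV).hom =
      ((g ≫ f).appLE V (X'.basicOpen c) eU').hom := by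
    rw [← CommRingCat.hom_comp, Scheme.Hom.appLE_comp_appLE]
  haveI : (hU'.primeIdealOf ⟨x', hx'c⟩).asIdeal.IsPrime := (hU'.primeIdealOf ⟨x', hx'c⟩).isPrime
  obtain ⟨a, ha, hla⟩ := exists_lciHom_away (f.appLE V U hUV).hom
    (g.appLE U (X'.basicOpen c) hc).hom hφ hψ (by rw [hcomp]; exact hl')
    (hU'.primeIdealOf ⟨x', hx'c⟩).asIdeal
  -- the point lies in `D(a)`
  have hxa : g x' ∈ X.basicOpen a := by
    have h1 : x' ∈ X'.basicOpen ((g.appLE U (X'.basicOpen c) hc).hom a) :=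
      (mem_basicOpen_iff_notMem_primeIdealOf hU' x' hx'c _).mpr ha
    have h2 := Scheme.basicOpen_appLE g (X'.basicOpen c) U hc a
    rw [h2] at h1
    exact h1.2
  -- conclusion
  have hUa : IsAffineOpen (X.basicOpen a) := hU.basicOpen a
  have eUa : X.basicOpen a ≤ f ⁻¹ᵁ V := (X.basicOpen_le a).trans hUV
  refine isKoszulAt_of_lciHom f (g x') hUa hV eUa hxa ?_
  have h3 := lciHom_away_congr (f.appLE V U hUV).hom (algebraMap Γ(X, U) (Localization.Away a))
    (X.presheaf.map (homOfLE (X.basicOpen_le a)).op).hom a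
    (by rw [toAlgebra_algebraMap]; infer_instance) (hU.isLocalization_basicOpen a) hla
  rw [← CommRingCat.hom_comp, Scheme.Hom.appLE_map] at h3
  exact h3

end Groth.Agent.Lib.SyntSrcDesc
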