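import Groth.Agent.Lib.KoszulSurj
import Mathlib.Algebra.MvPolynomial.PDeriv
import Mathlib.RingTheory.Localization.Away.Basic

/-!
# `R[x₁,…,xₙ, t] → R[x]_g`, `t ↦ 1/g`, is a surjection with Koszul-regular kernel (helper19)

* `awaySurjKR g` : `SurjKR (Localization.Away g) (MvPolynomial (Fin (n+1)) R)` for
  `g : MvPolynomial (Fin n) R`, with kernel generated by `g t - 1` (`t = X 0`).
-/

set_option autoImplicit false
universe u

namespace Groth.Agent.Lib.KoszulAway

open MvPolynomial Groth.Agent.Lib.KoszulQuot Groth.Agent.Lib.KoszulIdeal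
  Groth.Agent.Lib.KoszulSurj

variable {R : Type u} [CommRing R] {n : ℕ} (g : MvPolynomial (Fin n) R)

/-- the inclusion `R[x] → R[t, x]` -/
noncomputable def jHom : MvPolynomial (Fin n) R →ₐ[R] MvPolynomial (Fin (n + 1)) R :=
  rename Fin.succ

/-- the generator `g t - 1` of the kernel -/
noncomputable def z₀ : MvPolynomial (Fin (n + 1)) R := jHom g * X 0 - 1

/-- the map `R[t, x] → R[x]_g` -/
noncomputable def θ : MvPolynomial (Fin (n + 1)) R →ₐ[R] Localization.Away g :=
  aeval (Fin.cases (IsLocalization.Away.invSelf g)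
    (fun i => algebraMap (MvPolynomial (Fin n) R) (Localization.Away g) (X i)))

theorem θ_X_zero : θ g (X 0) = IsLocalization.Away.invSelf g := by
  simp [θ]

theorem θ_X_succ (i : Fin n) :
    θ g (X i.succ) = algebraMap (MvPolynomial (Fin n) R) (Localization.Away g) (X i) := by
  simp [θ]

theorem θ_jHom (p : MvPolynomial (Fin n) R) :
    θ g (jHom p) = algebraMap (MvPolynomial (Fin n) R) (Localization.Away g) p := by
  have h : (θ g).comp jHom = IsScalarTower.toAlgHom R (MvPolynomial (Fin n) R) (Localization.Away g) := by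
    apply MvPolynomial.algHom_ext
    intro i
    rw [AlgHom.comp_apply, jHom, rename_X, θ_X_succ]
    rfl
  exact AlgHom.congr_fun h p

theorem θ_z₀ : θ g (z₀ g) = 0 := by
  rw [z₀, map_sub, map_mul, θ_jHom, θ_X_zero, IsLocalization.Away.mul_invSelf, map_one, sub_self]

theorem θ_surjective : Function.Surjective (θ g) := by
  intro y
  obtain ⟨k, a, ha⟩ := IsLocalization.Away.surj g y
  refine ⟨jHom a * X 0 ^ k, ?_⟩
  rw [map_mul, map_pow, θ_jHom, θ_X_zero, ← ha, mul_assoc, ← mul_pow,
    IsLocalization.Away.mul_invSelf, one_pow, mul_one]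

theorem ker_θ : RingHom.ker (θ g).toRingHom = Ideal.ofList [z₀ g] := by
  rw [Ideal.ofList_singleton]
  apply le_antisymm
  · -- via the universal property of the localization
    intro p hp
    have hp' : θ g p = 0 := hp
    let q := Ideal.Quotient.mk (Ideal.span {z₀ g})
    have hq1 : q (jHom g) * q (X 0) = 1 := by
      rw [← map_mul, ← sub_eq_zero, ← map_one q, ← map_sub]
      exact Ideal.Quotient.eq_zero_iff_mem.mpr (Ideal.mem_span_singleton_self _)
    have hunit : IsUnit ((q.comp (jHom : MvPolynomial (Fin n) R →ₐ[R] _).toRingHom) g) :=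
      ⟨⟨q (jHom g), q (X 0), hq1, by rw [mul_comm]; exact hq1⟩, rfl⟩
    let lft : Localization.Away g →+* (MvPolynomial (Fin (n + 1)) R ⧸ Ideal.span {z₀ g}) :=
      IsLocalization.Away.lift g hunit
    have hlft : ∀ a, lft (algebraMap _ _ a) = q (jHom a) := fun a =>
      IsLocalization.Away.lift_eq g hunit a
    have hinv : lft (IsLocalization.Away.invSelf g) = q (X 0) := by
      have h1 : q (jHom g) * lft (IsLocalization.Away.invSelf g) = 1 := by
        rw [← hlft, ← map_mul, IsLocalization.Away.mul_invSelf, map_one]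
      calc lft (IsLocalization.Away.invSelf g)
          = (q (X 0) * q (jHom g)) * lft (IsLocalization.Away.invSelf g) := by
            rw [mul_comm (q (X 0)), hq1, one_mul]
        _ = q (X 0) * (q (jHom g) * lft (IsLocalization.Away.invSelf g)) := by ring
        _ = q (X 0) := by rw [h1, mul_one]
    have hcomp : lft.comp (θ g).toRingHom = q := by
      apply MvPolynomial.ringHom_ext
      · intro r
        show lft (θ g (C r)) = q (C r)
        have : (C r : MvPolynomial (Fin (n + 1)) R) = jHom (C r) := by simp [jHom]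
        rw [this, θ_jHom, hlft]
      · intro i
        show lft (θ g (X i)) = q (X i)
        refine Fin.cases ?_ (fun i => ?_) i
        · rw [θ_X_zero, hinv]
        · rw [θ_X_succ, hlft, jHom, rename_X]
    have h2 : q p = 0 := by
      rw [← hcomp]
      show lft (θ g p) = 0
      rw [hp', map_zero]
    exact Ideal.Quotient.eq_zero_iff_mem.mp h2
  · rw [Ideal.span_singleton_le_iff_mem]
    exact θ_z₀ g


/-- `g t - 1` is a nonzerodivisor -/
theorem z₀_regular (p : MvPolynomial (Fin (n + 1)) R) (hp : z₀ g * p = 0) : p = 0 := by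
  classical
  by_contra hne
  have hsupp : p.support.Nonempty := by
    rw [Finset.nonempty_iff_ne_empty, Ne, MvPolynomial.support_eq_empty]
    exact hne
  obtain ⟨m, hm, hmin⟩ := Finset.exists_min_image p.support (fun m => m 0) hsupp
  have hp' : p = X 0 * (jHom g * p) := by
    have : z₀ g * p = X 0 * (jHom g * p) - p := by rw [z₀]; ring
    rw [this, sub_eq_zero] at hp
    exact hp.symm
  have hm2 : m ∈ (X 0 * (jHom g * p)).support := by rw [← hp']; exact hm
  rw [support_X_mul, Finset.mem_map] at hm2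
  obtain ⟨m', hm', rfl⟩ := hm2
  have hm3 := MvPolynomial.support_mul _ _ hm'
  obtain ⟨a, _, b, hb, rfl⟩ := Finset.mem_add.mp hm3
  have := hmin b hb
  simp only [addLeftEmbedding_apply, Finsupp.add_apply, Finsupp.single_eq_same] at this
  omega

theorem isKoszulRegularSeq_z₀ : LCI.IsKoszulRegularSeq (MvPolynomial (Fin (n + 1)) R) [z₀ g] := by
  have hwr : RingTheory.Sequence.IsWeaklyRegular (MvPolynomial (Fin (n + 1)) R) [z₀ g] := by
    rw [RingTheory.Sequence.isWeaklyRegular_cons_iff]
    refine ⟨?_, RingTheory.Sequence.IsWeaklyRegular.nil _ _⟩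
    rw [isSMulRegular_iff_right_eq_zero_of_smul]
    intro p hp
    exact z₀_regular g p hp
  rw [isKoszulRegularSeq_iff]
  intro i hi
  exact Groth.Agent.Lib.KoszulCone.isZero_homology_of_isWeaklyRegular _ _ hwr i (by omega)

theorem pderiv_z₀ : pderiv 0 (z₀ g) = jHom g := by
  classical
  have h1 : pderiv (0 : Fin (n + 1)) (jHom g) = 0 := by
    apply pderiv_eq_zero_of_notMem_vars
    intro h0
    have := vars_rename Fin.succ g h0
    rw [Finset.mem_image] at this
    obtain ⟨i, _, hi⟩ := this
    exact Fin.succ_ne_zero i hi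
  rw [z₀, map_sub, Derivation.leibniz, h1, pderiv_X, Pi.single_eq_same]
  simp

/-- the independence: `s (g t - 1) ∉ 𝔮 K` -/
theorem z₀_indep (K 𝔮 : Ideal (MvPolynomial (Fin (n + 1)) R)) [𝔮.IsPrime]
    (hzK : z₀ g ∈ K) (hK𝔮 : K ≤ 𝔮) (s : MvPolynomial (Fin (n + 1)) R) (hs : s ∉ 𝔮) :
    s * z₀ g ∉ 𝔮 * K := by
  intro hmem
  have hD : ∀ w ∈ 𝔮 * K, pderiv (0 : Fin (n + 1)) w ∈ 𝔮 := by
    intro w hw
    refine Submodule.mul_induction_on hw ?_ ?_
    · intro a ha b hb
      rw [Derivation.leibniz]
      exact Ideal.add_mem _ (Ideal.mul_mem_right _ _ ha) (Ideal.mul_mem_right _ _ (hK𝔮 hb))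
    · intro a b ha hb
      rw [map_add]
      exact Ideal.add_mem _ ha hb
  have h1 := hD _ hmem
  rw [Derivation.leibniz, pderiv_z₀, smul_eq_mul, smul_eq_mul] at h1
  have hz𝔮 : z₀ g ∈ 𝔮 := hK𝔮 hzK
  have h2 : s * jHom g ∈ 𝔮 := by
    have := Ideal.sub_mem _ h1 (Ideal.mul_mem_right ((pderiv 0) s) _ hz𝔮)
    rwa [add_sub_cancel_right] at this
  have h3 : jHom g ∈ 𝔮 := (Ideal.IsPrime.mem_or_mem inferInstance h2).resolve_left hs
  have h4 : (1 : MvPolynomial (Fin (n + 1)) R) ∈ 𝔮 := by
    have : (1 : MvPolynomial (Fin (n + 1)) R) = jHom g * X 0 - z₀ g := by rw [z₀]; ring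
    rw [this]
    exact Ideal.sub_mem _ (Ideal.mul_mem_right _ _ h3) hz𝔮
  exact (Ideal.IsPrime.ne_top inferInstance) ((Ideal.eq_top_iff_one _).mpr h4)

/-- `R[t, x] → R[x]_g` as a surjection with Koszul-regular kernel -/
noncomputable def awaySurjKR :
    SurjKR (Localization.Away g) (MvPolynomial (Fin (n + 1)) R) where
  ev := (θ g).toRingHom
  surj := θ_surjective g
  z := [z₀ g]
  hz := isKoszulRegularSeq_z₀ g
  hker := ker_θ g
  indep := fun K 𝔮 _ hzK hK𝔮 pre y post hz s hs => by
    have hz' : pre = [] ∧ y = z₀ g := by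
      rcases pre with _ | ⟨a, pre⟩
      · simp at hz
        exact ⟨rfl, hz.1.symm⟩
      · exfalso
        have := congrArg List.length hz
        simp at this
    obtain ⟨rfl, rfl⟩ := hz'
    rw [Ideal.ofList_nil, bot_sup_eq]
    exact z₀_indep g K 𝔮 (hzK (Ideal.subset_span List.mem_cons_self)) hK𝔮 s hs

end Groth.Agent.Lib.KoszulAway
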