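import Groth.Agent.Lib.KoszulRetract
import Mathlib.RingTheory.MvPolynomial.Ideal
import Mathlib.RingTheory.Regular.RegularSequence

/-!
# Eliminating polynomial variables is a retraction with Koszul-regular kernel (helper19)

* `isWeaklyRegular_X`: distinct variables form a weakly regular sequence in `MvPolynomial ρ R`;
* `polyRetr e f`: for `e : σ ⊕ Fin m ≃ ρ` and `f : Fin m → R[σ]`, the retraction
  `R[ρ] → R[σ]`, `X (e (inl i)) ↦ X i`, `X (e (inr j)) ↦ f j`, as a `Retr`.
-/

set_option autoImplicit false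
universe u

namespace Groth.Agent.Lib.KoszulPolyRetr

open MvPolynomial Groth.Agent.Lib.KoszulQuot Groth.Agent.Lib.KoszulIdeal
  Groth.Agent.Lib.KoszulRetract

variable {R : Type u} [CommRing R]

section vars

variable {ρ : Type}

theorem mem_span_X_image_of_X_mul_mem (S : Set ρ) (w : ρ) (hw : w ∉ S) (p : MvPolynomial ρ R)
    (h : X w * p ∈ Ideal.span (X '' S : Set (MvPolynomial ρ R))) :
    p ∈ Ideal.span (X '' S : Set (MvPolynomial ρ R)) := by
  rw [mem_ideal_span_X_image] at h ⊢
  intro m hm
  have hm' : Finsupp.single w 1 + m ∈ (X w * p).support := by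
    rw [support_X_mul]
    exact Finset.mem_map.mpr ⟨m, hm, rfl⟩
  obtain ⟨v, hv, hne⟩ := h _ hm'
  refine ⟨v, hv, ?_⟩
  have hvw : w ≠ v := fun h' => hw (h' ▸ hv)
  rwa [Finsupp.add_apply, Finsupp.single_eq_of_ne' hvw, zero_add] at hne

/-- distinct variables form a weakly regular sequence -/
theorem isWeaklyRegular_X (l : List ρ) (hl : l.Nodup) :
    RingTheory.Sequence.IsWeaklyRegular (MvPolynomial ρ R) (l.map (X : ρ → MvPolynomial ρ R)) := by
  rw [RingTheory.Sequence.isWeaklyRegular_iff]
  intro i hi
  rw [isSMulRegular_quotient_iff_mem_of_smul_mem]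
  have hi' : i < l.length := by simpa using hi
  have hset : Ideal.ofList ((l.map (X : ρ → MvPolynomial ρ R)).take i) •
      (⊤ : Submodule (MvPolynomial ρ R) (MvPolynomial ρ R)) =
      Ideal.span (X '' {v | v ∈ l.take i} : Set (MvPolynomial ρ R)) := by
    rw [smul_eq_mul, Ideal.mul_top]
    have h1 : (l.map (X : ρ → MvPolynomial ρ R)).take i = (l.take i).map X := by
      simp [List.map_take]
    rw [h1]
    show Ideal.span {r | r ∈ (l.take i).map (X : ρ → MvPolynomial ρ R)} = _
    congr 1
    ext x
    simp only [Set.mem_setOf_eq, List.mem_map, Set.mem_image]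
  rw [hset]
  intro p hp
  rw [List.getElem_map, smul_eq_mul] at hp
  refine mem_span_X_image_of_X_mul_mem _ l[i] ?_ p hp
  intro hmem
  have hmem' : l[i] ∈ l.take i := hmem
  obtain ⟨j, hj, hj'⟩ := List.getElem_of_mem hmem'
  rw [List.getElem_take] at hj'
  have hji : j < i := by
    have := hj; rw [List.length_take] at this; omega
  have := (hl.getElem_inj_iff).mp hj'
  omega

end vars


section retr

variable {σ ρ : Type} (m : ℕ) (e : σ ⊕ Fin m ≃ ρ) (f : Fin m → MvPolynomial σ R)

/-- values of the variables under the retraction -/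
noncomputable def evFun : ρ → MvPolynomial σ R := fun v => Sum.elim X f (e.symm v)

/-- the inclusion `R[σ] → R[ρ]` -/
noncomputable def ιHom : MvPolynomial σ R →ₐ[R] MvPolynomial ρ R :=
  rename (fun i => e (Sum.inl i))

/-- the retraction `R[ρ] → R[σ]` -/
noncomputable def evHom : MvPolynomial ρ R →ₐ[R] MvPolynomial σ R := aeval (evFun m e f)

theorem evHom_X_inl (i : σ) : evHom m e f (X (e (Sum.inl i))) = X i := by
  simp [evHom, evFun]

theorem evHom_X_inr (j : Fin m) : evHom m e f (X (e (Sum.inr j))) = f j := by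
  simp [evHom, evFun]

theorem ιHom_X (i : σ) : ιHom m e (X i : MvPolynomial σ R) = X (e (Sum.inl i)) := by
  simp [ιHom]

theorem evHom_ιHom (p : MvPolynomial σ R) : evHom m e f (ιHom m e p) = p := by
  have h : (evHom m e f).comp (ιHom m e) = AlgHom.id R _ := by
    apply MvPolynomial.algHom_ext
    intro i
    rw [AlgHom.comp_apply, ιHom_X, evHom_X_inl, AlgHom.id_apply]
  exact AlgHom.congr_fun h p

/-- the generators of the kernel -/
noncomputable def zFun (j : Fin m) : MvPolynomial ρ R := X (e (Sum.inr j)) - ιHom m e (f j)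

theorem sub_mem (p : MvPolynomial ρ R) :
    p - ιHom m e (evHom m e f p) ∈ Ideal.span (Set.range (zFun m e f)) := by
  induction p using MvPolynomial.induction_on with
  | C a =>
    have : ιHom m e (evHom m e f (C a)) = C a := by simp [evHom, ιHom]
    rw [this, sub_self]
    exact Ideal.zero_mem _
  | add p q hp hq =>
    have : p + q - ιHom m e (evHom m e f (p + q)) =
        (p - ιHom m e (evHom m e f p)) + (q - ιHom m e (evHom m e f q)) := by
      rw [map_add, map_add]; ring
    rw [this]
    exact Ideal.add_mem _ hp hq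
  | mul_X p v hp =>
    have h1 : p * X v - ιHom m e (evHom m e f (p * X v)) =
        (p - ιHom m e (evHom m e f p)) * X v +
          ιHom m e (evHom m e f p) * (X v - ιHom m e (evHom m e f (X v))) := by
      rw [map_mul, map_mul]; ring
    rw [h1]
    refine Ideal.add_mem _ (Ideal.mul_mem_right _ _ hp) (Ideal.mul_mem_left _ _ ?_)
    obtain ⟨s, rfl⟩ := e.surjective v
    cases s with
    | inl i =>
      rw [evHom_X_inl, ιHom_X, sub_self]
      exact Ideal.zero_mem _
    | inr j =>
      rw [evHom_X_inr]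
      exact Ideal.subset_span ⟨j, rfl⟩

theorem ofList_ofFn {A : Type*} [CommRing A] {n : ℕ} (g : Fin n → A) :
    Ideal.ofList (List.ofFn g) = Ideal.span (Set.range g) := by
  show Ideal.span {r | r ∈ List.ofFn g} = _
  congr 1
  ext x
  simp [List.mem_ofFn]

theorem ker_evHom : RingHom.ker (evHom m e f).toRingHom =
    Ideal.ofList (List.ofFn (zFun m e f)) := by
  rw [ofList_ofFn]
  apply le_antisymm
  · intro p hp
    have hp' : evHom m e f p = 0 := hp
    have := sub_mem m e f p
    rwa [hp', map_zero, sub_zero] at this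
  · rw [Ideal.span_le]
    rintro _ ⟨j, rfl⟩
    show evHom m e f (zFun m e f j) = 0
    rw [zFun, map_sub, evHom_X_inr, evHom_ιHom, sub_self]

/-- the automorphism `X (e (inr j)) ↦ X (e (inr j)) - ι (f j)` and its inverse -/
noncomputable def shiftHom (c : R) : MvPolynomial ρ R →ₐ[R] MvPolynomial ρ R :=
  aeval (fun v => Sum.elim (fun i => (X (e (Sum.inl i)) : MvPolynomial ρ R))
    (fun j => X (e (Sum.inr j)) + c • ιHom m e (f j)) (e.symm v))

theorem shiftHom_X_inl (c : R) (i : σ) :
    shiftHom m e f c (X (e (Sum.inl i))) = X (e (Sum.inl i)) := by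
  simp [shiftHom]

theorem shiftHom_X_inr (c : R) (j : Fin m) :
    shiftHom m e f c (X (e (Sum.inr j))) = X (e (Sum.inr j)) + c • ιHom m e (f j) := by
  simp [shiftHom]

theorem shiftHom_ιHom (c : R) (p : MvPolynomial σ R) :
    shiftHom m e f c (ιHom m e p) = ιHom m e p := by
  have h : (shiftHom m e f c).comp (ιHom m e) = ιHom m e := by
    apply MvPolynomial.algHom_ext
    intro i
    rw [AlgHom.comp_apply, ιHom_X, shiftHom_X_inl]
  exact AlgHom.congr_fun h p

theorem shiftHom_comp (c d : R) (hcd : c + d = 0) :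
    (shiftHom m e f c).comp (shiftHom m e f d) = AlgHom.id R _ := by
  apply MvPolynomial.algHom_ext
  intro v
  obtain ⟨s, rfl⟩ := e.surjective v
  cases s with
  | inl i => rw [AlgHom.comp_apply, shiftHom_X_inl, shiftHom_X_inl, AlgHom.id_apply]
  | inr j =>
    rw [AlgHom.comp_apply, shiftHom_X_inr, map_add, map_smul, shiftHom_ιHom, shiftHom_X_inr,
      AlgHom.id_apply, add_assoc, ← add_smul, hcd, zero_smul, add_zero]

/-- the shift automorphism -/
noncomputable def shiftEquiv : MvPolynomial ρ R ≃ₐ[R] MvPolynomial ρ R :=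
  AlgEquiv.ofAlgHom (shiftHom m e f (-1)) (shiftHom m e f 1)
    (shiftHom_comp m e f (-1) 1 (by ring)) (shiftHom_comp m e f 1 (-1) (by ring))

theorem shiftEquiv_X_inr (j : Fin m) :
    shiftEquiv m e f (X (e (Sum.inr j))) = zFun m e f j := by
  show shiftHom m e f (-1) (X (e (Sum.inr j))) = _
  rw [shiftHom_X_inr, zFun, neg_one_smul, sub_eq_add_neg]

theorem isKoszulRegularSeq_zFun :
    LCI.IsKoszulRegularSeq (MvPolynomial ρ R) (List.ofFn (zFun m e f)) := by
  have hnodup : (List.ofFn (fun j : Fin m => e (Sum.inr j))).Nodup := by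
    rw [List.nodup_ofFn]
    intro a b hab
    exact Sum.inr_injective (e.injective hab)
  have hwr := isWeaklyRegular_X (R := R) _ hnodup
  have hKR : LCI.IsKoszulRegularSeq (MvPolynomial ρ R)
      ((List.ofFn (fun j : Fin m => e (Sum.inr j))).map (X : ρ → MvPolynomial ρ R)) := by
    rw [isKoszulRegularSeq_iff]
    intro i hi
    exact Groth.Agent.Lib.KoszulCone.isZero_homology_of_isWeaklyRegular _ _ hwr i (by omega)
  have h2 := (isKoszulRegularSeq_map_ringEquiv (shiftEquiv m e f).toRingEquiv _).mp hKR
  have h3 : ((List.ofFn (fun j : Fin m => e (Sum.inr j))).map (X : ρ → MvPolynomial ρ R)).map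
      (shiftEquiv m e f).toRingEquiv = List.ofFn (zFun m e f) := by
    rw [List.map_map, List.map_ofFn]
    congr 1
    funext j
    exact shiftEquiv_X_inr m e f j
  rwa [h3] at h2

/-- eliminating the variables `e (inr j)` as a retraction with Koszul-regular kernel -/
noncomputable def polyRetr : Retr (MvPolynomial σ R) (MvPolynomial ρ R) where
  ι := (ιHom m e).toRingHom
  ev := (evHom m e f).toRingHom
  ev_ι := evHom_ιHom m e f
  z := List.ofFn (zFun m e f)
  hz := isKoszulRegularSeq_zFun m e f
  hker := ker_evHom m e f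

end retr

end Groth.Agent.Lib.KoszulPolyRetr
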