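import Groth.Agent.Lib.LCIComp
import Groth.Agent.S9253

/-!
# Local complete intersection ring homomorphisms (helper19)

`LCIHom φ`: the ring map `φ : A →+* B` makes `B` a local complete intersection `A`-algebra.

* `LCIHom.comp`, `LCIHom.comp_ringEquiv`;
* `LCIHom.of_span_eq_top`: `LCIHom` can be checked on a cover by localizations of the target.
-/

set_option autoImplicit false
universe u

set_option linter.style.haveILetI false

namespace Groth.Agent.Lib.LCIMaps

open Groth.Agent.Lib.LCIComp

/-- `φ` is a local complete intersection homomorphism -/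
def LCIHom {A B : Type u} [CommRing A] [CommRing B] (φ : A →+* B) : Prop :=
  @LCI.IsLCI A _ B _ φ.toAlgebra

variable {A B C : Type u} [CommRing A] [CommRing B] [CommRing C]

theorem lciHom_algebraMap [Algebra A B] : LCIHom (algebraMap A B) ↔ LCI.IsLCI A B := by
  unfold LCIHom
  rw [toAlgebra_algebraMap]

theorem LCIHom.comp {φ : A →+* B} {ψ : B →+* C} (hφ : LCIHom φ) (hψ : LCIHom ψ) :
    LCIHom (ψ.comp φ) := by
  letI := φ.toAlgebra
  letI := ψ.toAlgebra
  letI := (ψ.comp φ).toAlgebra
  haveI : IsScalarTower A B C := IsScalarTower.of_algebraMap_eq (fun _ => rfl)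
  exact isLCI_comp (A := A) (B := B) (C := C) hφ hψ

theorem LCIHom.comp_ringEquiv {φ : A →+* B} (hφ : LCIHom φ) (e : B ≃+* C) :
    LCIHom ((e : B →+* C).comp φ) := by
  letI := φ.toAlgebra
  letI := ((e : B →+* C).comp φ).toAlgebra
  exact isLCI_of_algEquiv (A := A) ({ e with commutes' := fun _ => rfl } : B ≃ₐ[A] C) hφ

/-- `LCIHom` is local on the target ring -/
theorem LCIHom.of_span_eq_top (φ : A →+* B) (m : ℕ) (g : Fin m → B)
    (hg : Ideal.span (Set.range g) = ⊤) (T : Fin m → Type u) [∀ j, CommRing (T j)]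
    (ψ : ∀ j, B →+* T j) (hloc : ∀ j, @IsLocalization.Away B _ (g j) (T j) _ (ψ j).toAlgebra)
    (h : ∀ j, LCIHom ((ψ j).comp φ)) : LCIHom φ := by
  letI := φ.toAlgebra
  refine Groth.Agent.S9253.result A B m g hg (fun j => ?_)
  letI := (ψ j).toAlgebra
  haveI := hloc j
  let e : T j ≃ₐ[B] Localization.Away (g j) :=
    IsLocalization.algEquiv (Submonoid.powers (g j)) (T j) (Localization.Away (g j))
  have h1 := (h j).comp_ringEquiv e.toRingEquiv
  have h2 : ((e.toRingEquiv : T j →+* Localization.Away (g j)).comp ((ψ j).comp φ)) =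
      algebraMap A (Localization.Away (g j)) := by
    ext x
    show e (algebraMap B (T j) (φ x)) = _
    rw [e.commutes]
    exact (IsScalarTower.algebraMap_apply A B (Localization.Away (g j)) x).symm
  rw [h2, lciHom_algebraMap] at h1
  exact h1

end Groth.Agent.Lib.LCIMaps
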