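import Groth.Agent.Lib.KRegImmSmooth2
import Groth.Agent.Lib.LCIHom

/-!
# `Synt.IsKoszulAt` versus local complete intersection ring maps (helper19)

Namespace `Groth.Agent.Lib.KoszulAtLCI`.

* `lciHom_of_smooth`, `lciHom_of_surjective` : smooth ring maps and surjections with Koszul-regular
  kernel are `LCIHom`.
* `exists_lciHom_of_isKoszulAt` : if `f` is Koszul at `x` then for EVERY affine open `V ∋ f x` there is
  an affine open `U ∋ x` mapping into `V` with `Γ(V) → Γ(U)` a local complete intersection.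
* `isKoszulAt_of_lciHom` : conversely one such pair suffices.
* `isKoszulAt_comp` : composition of Koszul morphisms.
-/

set_option autoImplicit false
set_option linter.style.haveILetI false
universe u
open CategoryTheory CategoryTheory.Limits AlgebraicGeometry TopologicalSpace

namespace Groth.Agent.Lib.KoszulAtLCI

open Groth.Agent.Lib.KRegImm Groth.Agent.Lib.KRegImmSmooth Groth.Agent.Lib.LCIMaps
  Groth.Agent.Lib.KoszulImmPerfect

section ring

variable {A B C : Type u} [CommRing A] [CommRing B] [CommRing C]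

theorem lciHom_of_smooth (φ : A →+* B) (hφ : φ.Smooth) : LCIHom φ := by
  letI := φ.toAlgebra
  haveI : Algebra.Smooth A B := hφ
  exact Groth.Agent.Lib.SmoothLCI.isLCI_of_smooth

theorem lciHom_of_surjective (χ : B →+* C) (hχ : Function.Surjective χ)
    (hK : LCI.IsKoszulRegularIdeal (RingHom.ker χ)) : LCIHom χ := by
  have h1 : LCI.IsLCI B (B ⧸ RingHom.ker χ) := Groth.Agent.Lib.SmoothLCI.isLCI_quotient _ hK
  rw [← lciHom_algebraMap] at h1
  have h2 := h1.comp_ringEquiv (RingHom.quotientKerEquivOfSurjective hχ)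
  convert h2 using 1
  ext b
  rfl

end ring

variable {X S : Scheme.{u}}

theorem appLE_congr_hom {Y : Scheme.{u}} (k₁ k₂ : Y ⟶ S) (hk : k₁ = k₂) (V : S.Opens) (O : Y.Opens)
    (e₁ : O ≤ k₁ ⁻¹ᵁ V) : k₁.appLE V O e₁ = k₂.appLE V O (hk ▸ e₁) := by
  subst hk
  rfl

theorem ι_comp_appLE (f : X ⟶ S) (U₀ : X.Opens) (V : S.Opens) (O : U₀.toScheme.Opens)
    (e' : O ≤ (U₀.ι ≫ f) ⁻¹ᵁ V) (e : U₀.ι ''ᵁ O ≤ f ⁻¹ᵁ V) :
    (U₀.ι ≫ f).appLE V O e' = f.appLE V (U₀.ι ''ᵁ O) e := by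
  have h1 := Scheme.Hom.appLE_comp_appLE U₀.ι f V (U₀.ι ''ᵁ O) O e
    (by rw [Scheme.Hom.preimage_image_eq])
  rw [← h1, Scheme.Opens.ι_appLE]
  have : (homOfLE (by rfl : U₀.ι ''ᵁ O ≤ U₀.ι ''ᵁ O)).op = 𝟙 _ := rfl
  erw [this, X.presheaf.map_id, Category.comp_id]

/-- if `f` is Koszul at `x`, every affine open `V ∋ f x` admits an affine open `U ∋ x` over it with
`Γ(V) → Γ(U)` a local complete intersection -/
theorem exists_lciHom_of_isKoszulAt (f : X ⟶ S) (x : X) (h : Synt.IsKoszulAt f x)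
    {V : S.Opens} (hV : IsAffineOpen V) (hxV : f x ∈ V) :
    ∃ (U : X.Opens) (_ : IsAffineOpen U) (e : U ≤ f ⁻¹ᵁ V), x ∈ U ∧ LCIHom (f.appLE V U e).hom := by
  obtain ⟨U₀, P, i₀, π, hxU₀, -, hi₀, hπ, hfac⟩ := h
  haveI := hπ
  let x₀ : U₀ := ⟨x, hxU₀⟩
  obtain ⟨W₀, d, hxW₀, hK₀⟩ := ((isRegularImmersion_koszul_iff i₀).mp hi₀).2 x₀
  have hpt : ∀ y₀ : U₀, π (i₀ y₀) = f y₀.1 := by
    intro y₀
    have := congrArg (fun k : (U₀ : Scheme.{u}) ⟶ S => k y₀) hfac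
    exact this
  have hx₀ : i₀ x₀ ∈ π ⁻¹ᵁ V := by
    show π (i₀ x₀) ∈ V
    rw [hpt]
    exact hxV
  obtain ⟨g, hg, hxg⟩ := hK₀.1.exists_basicOpen_le (V := π ⁻¹ᵁ V) ⟨i₀ x₀, hx₀⟩ hxW₀
  have hK : KChart i₀ (P.basicOpen g) d := hK₀.basicOpen g
  haveI := hK.2.1
  have hO : IsAffineOpen (i₀ ⁻¹ᵁ P.basicOpen g) :=
    isAffineOpen_preimage_of_isClosedImmersion_restrict i₀ _ hK.1
  have hU : IsAffineOpen (U₀.ι ''ᵁ (i₀ ⁻¹ᵁ P.basicOpen g)) := hO.image_of_isOpenImmersion U₀.ι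
  have e : U₀.ι ''ᵁ (i₀ ⁻¹ᵁ P.basicOpen g) ≤ f ⁻¹ᵁ V := by
    rintro _ ⟨y₀, hy₀, rfl⟩
    show f y₀.1 ∈ V
    rw [← hpt]
    exact hg hy₀
  refine ⟨_, hU, e, ⟨x₀, hxg, rfl⟩, ?_⟩
  have hφ : (π.appLE V (P.basicOpen g) hg).hom.Smooth :=
    HasRingHomProperty.appLE @Smooth π inferInstance ⟨V, hV⟩ ⟨_, hK.1⟩ hg
  have h1 : LCIHom (π.appLE V (P.basicOpen g) hg).hom := lciHom_of_smooth _ hφ
  have h2 : LCIHom (i₀.app (P.basicOpen g)).hom :=
    lciHom_of_surjective _ (app_surjective_of_isClosedImmersion_restrict i₀ _ hK.1)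
      (KChart.isKoszulRegularIdeal hK)
  have h3 := h1.comp h2
  have h4 : (i₀.app (P.basicOpen g)).hom.comp (π.appLE V (P.basicOpen g) hg).hom =
      (f.appLE V (U₀.ι ''ᵁ (i₀ ⁻¹ᵁ P.basicOpen g)) e).hom := by
    have e₁ : i₀ ⁻¹ᵁ P.basicOpen g ≤ (i₀ ≫ π) ⁻¹ᵁ V := fun y hy => hg hy
    have h5 : π.appLE V (P.basicOpen g) hg ≫ i₀.app (P.basicOpen g) =
        (i₀ ≫ π).appLE V (i₀ ⁻¹ᵁ P.basicOpen g) e₁ := by
      rw [← Scheme.Hom.appLE_eq_app, Scheme.Hom.appLE_comp_appLE]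
    have h6 := appLE_congr_hom (i₀ ≫ π) (U₀.ι ≫ f) hfac V _ e₁
    have h7 := ι_comp_appLE f U₀ V (i₀ ⁻¹ᵁ P.basicOpen g) (hfac ▸ e₁) e
    rw [← CommRingCat.hom_comp, h5, h6, h7]
    rfl
  rw [h4] at h3
  exact h3

/-- conversely, one affine pair with a local complete intersection ring map suffices -/
theorem isKoszulAt_of_lciHom (f : X ⟶ S) (x : X) {U : X.Opens} {V : S.Opens} (hU : IsAffineOpen U)
    (hV : IsAffineOpen V) (e : U ≤ f ⁻¹ᵁ V) (hx : x ∈ U) (h : LCIHom (f.appLE V U e).hom) :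
    Synt.IsKoszulAt f x := by
  letI := (f.appLE V U e).hom.toAlgebra
  obtain ⟨-, n, α, hα, hK⟩ := h
  let R := MvPolynomial (Fin n) Γ(S, V)
  let c : Γ(S, V) ⟶ CommRingCat.of R := CommRingCat.ofHom (algebraMap Γ(S, V) R)
  let a : CommRingCat.of R ⟶ Γ(X, U) := CommRingCat.ofHom α.toRingHom
  have hca : c ≫ a = f.appLE V U e := by
    ext r
    exact α.commutes r
  let π : Spec (CommRingCat.of R) ⟶ S := Spec.map c ≫ hV.fromSpec
  let i₀ : (U : Scheme.{u}) ⟶ Spec (CommRingCat.of R) := hU.isoSpec.hom ≫ Spec.map a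
  have hfac : i₀ ≫ π = U.ι ≫ f := by
    simp only [i₀, π, Category.assoc]
    rw [← Spec.map_comp_assoc, hca, IsAffineOpen.SpecMap_appLE_fromSpec f hV hU e,
      ← Category.assoc, hU.isoSpec_hom_fromSpec]
  haveI : Smooth (Spec.map c) := by
    rw [HasRingHomProperty.Spec_iff (P := @Smooth)]
    show (algebraMap Γ(S, V) R).Smooth
    rw [RingHom.smooth_algebraMap]
    exact ⟨inferInstance, inferInstance⟩
  haveI : Smooth π := inferInstance
  haveI : IsClosedImmersion (Spec.map a) := IsClosedImmersion.spec_of_surjective a hα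
  haveI : IsClosedImmersion i₀ := inferInstance
  refine ⟨U, Spec (CommRingCat.of R), i₀, π, hx, ?_, ⟨inferInstance, fun z => ?_⟩, inferInstance,
    hfac⟩
  · rw [← hfac]
    infer_instance
  · rw [isRegularImmersionAt_koszul_iff]
    haveI : IsClosedImmersion (i₀ ∣_ (⊤ : (Spec (CommRingCat.of R)).Opens)) := inferInstance
    have hI : LCI.IsKoszulRegularIdeal (RingHom.ker (i₀.app ⊤).hom) := by
      let eR : Γ(Spec (CommRingCat.of R), ⊤) ≃+* R :=
        (Scheme.ΓSpecIso (CommRingCat.of R)).commRingCatIsoToRingEquiv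
      have h1 := Groth.Agent.Lib.LCIComp.isKoszulRegularIdeal_comap_ringEquiv eR _ hK
      convert h1 using 1
      ext r
      rw [Ideal.mem_comap, RingHom.mem_ker, RingHom.mem_ker]
      have hbij : Function.Bijective (hU.isoSpec.hom.app ((Spec.map a) ⁻¹ᵁ ⊤)).hom :=
        ConcreteCategory.bijective_of_isIso _
      have hbij2 : Function.Bijective (Scheme.ΓSpecIso Γ(X, U)).hom.hom :=
        ConcreteCategory.bijective_of_isIso _
      have hnat := Scheme.ΓSpecIso_naturality a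
      have hnat' : (Scheme.ΓSpecIso Γ(X, U)).hom.hom ((Spec.map a).appTop.hom r) =
          α.toRingHom (eR r) := congr($(hnat).hom r)
      have happ : (i₀.app ⊤).hom r =
          (hU.isoSpec.hom.app ((Spec.map a) ⁻¹ᵁ ⊤)).hom ((Spec.map a).appTop.hom r) := rfl
      rw [happ]
      constructor
      · intro h0
        have h2 : (Spec.map a).appTop.hom r = 0 := hbij.1 (h0.trans (map_zero _).symm)
        exact (show α.toRingHom ((eR : _ →+* R) r) = _ from hnat'.symm).trans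
          (by rw [h2, map_zero])
      · intro h0
        have h2 : (Spec.map a).appTop.hom r = 0 :=
          hbij2.1 ((hnat'.trans (show α.toRingHom (eR r) = 0 from h0)).trans (map_zero _).symm)
        exact (congrArg (hU.isoSpec.hom.app ((Spec.map a) ⁻¹ᵁ ⊤)).hom h2).trans (map_zero _)
    obtain ⟨g, d, hzg, hKg⟩ := exists_kchart_of_isKoszulRegularIdeal i₀ (isAffineOpen_top _) hI z
      trivial
    exact ⟨_, d, hzg, hKg⟩

/-- composition of Koszul morphisms -/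
theorem isKoszulAt_comp {Y Z : Scheme.{u}} (f : X ⟶ Y) (g : Y ⟶ Z) (x : X)
    (hf : Synt.IsKoszulAt f x) (hg : Synt.IsKoszulAt g (f x)) : Synt.IsKoszulAt (f ≫ g) x := by
  obtain ⟨_, ⟨W, hW, rfl⟩, hxW, -⟩ :=
    Z.isBasis_affineOpens.exists_subset_of_mem_open (Set.mem_univ (g (f x))) isOpen_univ
  obtain ⟨V, hV, eV, hxV, hLg⟩ := exists_lciHom_of_isKoszulAt g (f x) hg hW hxW
  obtain ⟨U, hU, eU, hxU, hLf⟩ := exists_lciHom_of_isKoszulAt f x hf hV hxV
  have h3 := hLg.comp hLf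
  have e : U ≤ (f ≫ g) ⁻¹ᵁ W := fun y hy => eV (eU hy)
  refine isKoszulAt_of_lciHom (f ≫ g) x hU hW e hxU ?_
  have h4 : (f.appLE V U eU).hom.comp (g.appLE W V eV).hom = ((f ≫ g).appLE W U e).hom := by
    rw [← CommRingCat.hom_comp, Scheme.Hom.appLE_comp_appLE]
  rw [h4] at h3
  exact h3

end Groth.Agent.Lib.KoszulAtLCI
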