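import Mathlib
import Groth.Agent.Lib.AlgSpLCIFpqc83
import Groth.Agent.Lib.AlgSpSmLocalST
import Groth.Agent.Lib.KoszulEtSrc83
import Groth.Agent.S10567
import Groth.Agent.S10667
import Groth.Agent.S9730
import Groth.Agent.S9699

/-!
# Koszul (lci) morphisms of algebraic spaces are smooth local on source-and-target (helper83)

* `isZariskiLocalAtSource_lci`, `sourceSmLocal_lci`, `isLocalAtSource_smooth_lci` : for schemes, being Koszul at
  every point is local at the source for the smooth precoverage (via S9730 + S9699).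
* `locP_lci_comp_smooth` : Koszul followed by smooth is Koszul (algebraic spaces).
* `isSmoothLocalST_isLCIMor` : `AlgSp.IsSmoothLocalST AlgSp.IsLCIMor`.
-/

set_option autoImplicit false
set_option linter.style.haveILetI false
universe u
open CategoryTheory CategoryTheory.Limits AlgebraicGeometry Opposite

namespace Groth.Agent.Lib.AlgSpLCISmLocal83

open AlgSp Groth.Agent.Lib.AlgSpBasic Groth.Agent.Lib.KoszulEtSrc83
  Groth.Agent.Lib.AlgSpStrongChart36 Groth.Agent.Lib.AlgSpLCIFpqc83 Groth.Agent.Lib.H14KoszulEtLocal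
  Groth.Agent.Lib.AlgSpLocP

instance respectsIso_lci : (AlgSp.lci.{u}).RespectsIso :=
  inferInstanceAs (Groth.Agent.Lib.KoszulFlatDesc83.lci.{u}).RespectsIso

/-- Being Koszul at every point is Zariski local at the source. -/
instance isZariskiLocalAtSource_lci : IsZariskiLocalAtSource AlgSp.lci.{u} := by
  apply IsZariskiLocalAtSource.mk'
  · intro X Y f U hf x
    exact isKoszulAt_smooth_comp U.ι f x (hf _)
  · intro X Y f ι U hU hf x
    have hx : x ∈ (⨆ i, U i : X.Opens) := by rw [hU]; trivial
    obtain ⟨i, hi⟩ := TopologicalSpace.Opens.mem_iSup.1 hx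
    exact isKoszulAt_of_ι_comp f (U i) ⟨x, hi⟩ (hf i ⟨x, hi⟩)

/-- Being Koszul at every point can be checked after precomposing with a smooth surjective morphism. -/
theorem sourceSmLocal_lci : Groth.Agent.Lib.SrcLocalSm.SourceSmLocal AlgSp.lci.{u} := by
  intro X' X Y p h hp hps hph
  haveI : Smooth p := hp
  haveI : Surjective p := hps
  exact (Groth.Agent.S9730.result p (Groth.Agent.S9699.result p) h).1 hph

/-- Being Koszul at every point is local at the source for the smooth precoverage. -/
instance isLocalAtSource_smooth_lci :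
    MorphismProperty.IsLocalAtSource AlgSp.lci.{u} (Scheme.precoverage @Smooth) :=
  Groth.Agent.Lib.SrcLocalSm.isLocalAtSource_smooth (fun _ _ _ l w hl hw x => by
    haveI : Smooth l := hl
    exact isKoszulAt_smooth_comp l w x (hw _)) sourceSmLocal_lci

variable {S : Scheme.{u}}

/-- A Koszul morphism followed by a smooth morphism is Koszul. -/
theorem locP_lci_comp_smooth {X Y Z : Sp S} (hX : IsAlgSpace X) (hY : IsAlgSpace Y)
    (hZ : IsAlgSpace Z) {f : X ⟶ Y} {g : Y ⟶ Z} (hf : LocP AlgSp.lci f) (hg : LocP @Smooth g) :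
    LocP AlgSp.lci (f ≫ g) := by
  have hft : LocP @LocallyOfFiniteType (f ≫ g) :=
    locP_comp etLocalClass_lft hX hY hZ (locP_lft_of_locP_lci hf)
      (Groth.Agent.Lib.H69AlgSpLocST2.locP_mono (fun _ _ l hl => by
        have : Smooth l := hl
        exact (inferInstance : LocallyOfFiniteType l)) hg)
  obtain ⟨W, c, hce, hcs⟩ := hZ.atlas
  obtain ⟨V, b, k₂, hV⟩ := exists_strong_chart hY g c hce
  have hbe := hV.repWith_etale hce
  have hbs := hV.repWith_surjective hcs
  obtain ⟨U, a, k₁, hU⟩ := exists_strong_chart hX f b hbe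
  have hae := hU.repWith_etale hbe
  have has := hU.repWith_surjective hbs
  have comm : a ≫ f ≫ g = (yon S).map (k₁ ≫ k₂) ≫ c := by
    rw [← Category.assoc, hU.comm, Category.assoc, hV.comm, Functor.map_comp, Category.assoc]
  refine locP_lci_of_chart (f ≫ g) hft a c (k₁ ≫ k₂) hae has hce comm ?_
  intro u
  have h1 : Synt.IsKoszulAt k₁.left u := hf a b k₁ hae hbe hU.comm u
  haveI : Smooth k₂.left := hg b c k₂ hbe hce hV.comm
  rw [Over.comp_left]
  exact isKoszulAt_comp_smooth k₁.left k₂.left u h1

/-- Koszul morphisms of algebraic spaces are smooth local on the source-and-target. -/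
theorem isSmoothLocalST_isLCIMor : AlgSp.IsSmoothLocalST (AlgSp.IsLCIMor (S := S)) :=
  Groth.Agent.S10567.result (AlgSp.LocP AlgSp.lci)
    (Groth.Agent.Lib.AlgSpSrcCover.isLocalOnSource_smCover (P := AlgSp.lci))
    (Groth.Agent.Lib.AlgSpSmLocalST.isLocalOnBase_sm_of_fpqc Groth.Agent.S10667.result)
    (fun X Y Z _ _ hf hg => locP_lci_comp_smooth X.property Y.property Z.property hf hg)

end Groth.Agent.Lib.AlgSpLCISmLocal83
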