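import Groth.Agent.Lib.LocFinIrred46
import Groth.Agent.Lib.AlgSpQFAt

/-!
# helper46: algebraic spaces whose étale charts have locally finitely many irreducible components

* `finite_irreducibleComponents_iff_finite_maximal`: in a quasi-sober T0 space, finitely many irreducible
  components iff finitely many maximal points.
* `lfi_of_chart`: if one étale surjective chart is `LFI`, then every étale chart is.
* `restrictSpace`, `restrictHom`: a quasi-compact open of a chart as an algebraic space étale over `X`.
-/

set_option autoImplicit false
universe u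
open CategoryTheory CategoryTheory.Limits AlgebraicGeometry Topology TopologicalSpace
open AlgSp

namespace Groth.Agent.Lib.AlgSpLFI46

open Groth.Agent.Lib.LocFinIrred46 Groth.Agent.Lib.AlgSpDecentSpec

/-- In a quasi-sober T0 space, there are finitely many irreducible components iff there are finitely many
maximal points. -/
theorem finite_irreducibleComponents_iff_finite_maximal (α : Type*) [TopologicalSpace α] [T0Space α]
    [QuasiSober α] :
    (irreducibleComponents α).Finite ↔ {x : α | ∀ x' : α, x' ⤳ x → x' = x}.Finite := by
  constructor
  · intro h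
    refine Set.Finite.of_finite_image (f := fun x : α => closure ({x} : Set α)) (h.subset ?_) ?_
    · rintro _ ⟨x, hx, rfl⟩
      obtain ⟨T, hT, hxT⟩ :=
        (Groth.Agent.Lib.AlgSpGenericPt.exists_component_generic_iff x).2 hx
      show closure ({x} : Set α) ∈ irreducibleComponents α
      rw [hxT.def]; exact hT
    · intro x _ y _ hxy
      exact ((specializes_iff_closure_subset.2 hxy.le).antisymm
        (specializes_iff_closure_subset.2 hxy.ge)).eq.symm
  · intro h
    refine (h.image fun x : α => closure ({x} : Set α)).subset ?_
    intro C hC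
    obtain ⟨x, hx⟩ := QuasiSober.sober hC.prop (isClosed_of_mem_irreducibleComponents C hC)
    exact ⟨x, (Groth.Agent.Lib.AlgSpGenericPt.exists_component_generic_iff x).1 ⟨C, hC, hx⟩, hx.def⟩

/-- For a scheme: finitely many irreducible components iff finitely many points with zero-dimensional local
ring. -/
theorem finite_irreducibleComponents_iff_finite_dim_zero (T : Scheme.{u}) :
    (irreducibleComponents ↥T).Finite ↔
      {t : ↥T | ringKrullDim ↥(T.presheaf.stalk t) = 0}.Finite := by
  rw [finite_irreducibleComponents_iff_finite_maximal]
  have : {t : ↥T | ringKrullDim ↥(T.presheaf.stalk t) = 0} = {x : ↥T | ∀ x' : ↥T, x' ⤳ x → x' = x} := by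
    ext t
    exact Groth.Agent.Lib.AlgSpGenericPt.ringKrullDim_stalk_eq_zero_iff t
  rw [this]

/-- An `LFI` quasi-compact scheme has finitely many irreducible components. -/
theorem LFI.finite_of_compactSpace {T : Scheme.{u}} (h : LFI T) [CompactSpace ↥T] :
    (irreducibleComponents ↥T).Finite := by
  have h1 := h ⊤ (by simpa using isCompact_univ)
  exact Groth.Agent.Lib.FiniteIrredCompH44.finite_irreducibleComponents_of_homeomorph
    (Homeomorph.Set.univ ↥T) h1

variable {S : Scheme.{u}}

/-- If one étale surjective chart is `LFI`, then every étale chart is. -/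
theorem lfi_of_chart {X : Sp S} (hX : EtaleLocally LFI X) {U : Over S} (a : (yon S).obj U ⟶ X)
    (ha : RepWith @Etale a) : LFI U.left := by
  obtain ⟨V, q, hqe, hqs, hV⟩ := hX
  obtain ⟨W, p, r, sq, hp, hr⟩ := Groth.Agent.Lib.AlgSpQFAt.exists_fibre_product a ha q hqe
  have hps : Surjective p.left := hqs.2 a _ _ sq.flip
  have hW : LFI W.left := LFI.of_flat_lft r.left hV
  exact LFI.of_surjective_open p.left hps.surj p.left.isOpenMap hW

/-- An open of a chart, as an algebraic space. -/
noncomputable abbrev restrictSpace (U : Over S) (W : U.left.Opens) : AlgSp.Space S :=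
  ⟨(yon S).obj (restrictOver U W), IsAlgSpace.yon_obj _⟩

/-- The morphism from an open of a chart to the space. -/
noncomputable abbrev restrictHom {X : AlgSp.Space S} {U : Over S} (a : (yon S).obj U ⟶ X.obj)
    (W : U.left.Opens) : restrictSpace U W ⟶ X :=
  ObjectProperty.homMk ((yon S).map (restrictOverι U W) ≫ a)

theorem isEtaleMor_restrictHom {X : AlgSp.Space S} {U : Over S} (a : (yon S).obj U ⟶ X.obj)
    (ha : RepWith @Etale a) (W : U.left.Opens) : IsEtaleMor (restrictHom a W).hom := by
  intro T φ hφ
  exact MorphismProperty.comp_mem _ _ _ hφ (repWith_etale_restrict a ha W)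

theorem isQuasiCompactSp_restrictSpace (U : Over S) (W : U.left.Opens)
    (hW : IsCompact (W : Set ↥U.left)) : IsQuasiCompactSp (restrictSpace U W).obj := by
  rw [Groth.Agent.Lib.AlgSpQC.isQuasiCompactSp_yon_iff]
  exact isCompact_iff_compactSpace.1 hW

end Groth.Agent.Lib.AlgSpLFI46
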