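import Groth.Prelude.Def_AlgSp2
import Mathlib.AlgebraicGeometry.Morphisms.UniversallyOpen
import Mathlib.AlgebraicGeometry.Morphisms.Etale

set_option autoImplicit false
universe u
open CategoryTheory CategoryTheory.Limits AlgebraicGeometry Topology TopologicalSpace

namespace Groth.Agent.Lib.AlgSpPts66

open AlgSp

variable {S : Scheme.{u}}

/-- Points of a pullback of sheaves surject onto the fibre product of points. -/
theorem exists_of_isPullback {X Y Z P : AlgSp.Sp S} (f : X ⟶ Y) (g : Z ⟶ Y)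
    (fst : P ⟶ Z) (snd : P ⟶ X) (h : IsPullback fst snd g f)
    (z : AlgSp.Points Z) (x : AlgSp.Points X)
    (e : AlgSp.Points.map g z = AlgSp.Points.map f x) :
    ∃ p : AlgSp.Points P, AlgSp.Points.map fst p = z ∧ AlgSp.Points.map snd p = x := by
  induction z using AlgSp.Points.ind with
  | h pz =>
  induction x using AlgSp.Points.ind with
  | h px =>
  rw [AlgSp.Points.map_mk, AlgSp.Points.map_mk, AlgSp.Points.mk_eq_mk_iff] at e
  obtain ⟨Ω, hΩ, w, a, b, hab⟩ := e
  have h1 := h.map (sheafToPresheaf _ _)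
  have h2 := h1.map ((evaluation _ _).obj (Opposite.op (Over.mk w)))
  obtain ⟨q, hq1, hq2⟩ := Types.exists_of_isPullback h2 (Z.obj.map a.op pz.val)
    (X.obj.map b.op px.val) (by
      change g.hom.app _ (Z.obj.map a.op pz.val) = f.hom.app _ (X.obj.map b.op px.val)
      rw [NatTrans.naturality_apply, NatTrans.naturality_apply]
      exact hab)
  refine ⟨AlgSp.Points.mk ⟨Ω, w, q⟩, ?_, ?_⟩
  · rw [AlgSp.Points.map_mk, AlgSp.Points.mk_eq_mk_iff]
    refine ⟨Ω, hΩ, w, 𝟙 _, a, ?_⟩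
    change Z.obj.map (𝟙 _).op (fst.hom.app _ q) = _
    rw [op_id, Functor.map_id_apply]
    exact hq1
  · rw [AlgSp.Points.map_mk, AlgSp.Points.mk_eq_mk_iff]
    refine ⟨Ω, hΩ, w, 𝟙 _, b, ?_⟩
    change X.obj.map (𝟙 _).op (snd.hom.app _ q) = _
    rw [op_id, Functor.map_id_apply]
    exact hq2

/-- The point of `h_{T'}` defined by `t ∈ T` and `h_φ` is the point `φ t`. -/
theorem ofPt_yonMap {T T' : Over S} (φ : T ⟶ T') (t : ↥T.left) :
    AlgSp.Points.ofPt ((AlgSp.yon S).map φ) t = AlgSp.Points.ofScheme T' (φ.left t) := by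
  apply (AlgSp.Points.schemeEquiv T').symm.injective
  change AlgSp.Points.toScheme T' (AlgSp.Points.ofPt ((AlgSp.yon S).map φ) t) =
    AlgSp.Points.toScheme T' (AlgSp.Points.ofScheme T' (φ.left t))
  rw [AlgSp.Points.toScheme_ofPt, AlgSp.Points.toScheme_ofScheme]

theorem ofPt_yonMap_comp {F : AlgSp.Sp S} {T T' : Over S} (φ : T ⟶ T')
    (g : (AlgSp.yon S).obj T' ⟶ F) (t : ↥T.left) :
    AlgSp.Points.ofPt ((AlgSp.yon S).map φ ≫ g) t = AlgSp.Points.ofPt g (φ.left t) := by
  rw [← AlgSp.Points.map_ofPt, ofPt_yonMap, AlgSp.Points.map_ofPt, Category.id_comp]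

/-- Given a pullback square `h_V → h_U`, `h_V → h_T` over `F`, points `t`, `u` with the same image in `|F|`
come from a point of `V`. -/
theorem exists_of_isPullback_yon {F : AlgSp.Sp S} {T U V : Over S}
    (a : (AlgSp.yon S).obj U ⟶ F) (g : (AlgSp.yon S).obj T ⟶ F)
    (fst : (AlgSp.yon S).obj V ⟶ (AlgSp.yon S).obj U) (snd : V ⟶ T)
    (h : IsPullback fst ((AlgSp.yon S).map snd) a g) (u : ↥U.left) (t : ↥T.left)
    (e : AlgSp.Points.ofPt a u = AlgSp.Points.ofPt g t) :
    ∃ v : ↥V.left, AlgSp.Points.ofPt fst v = AlgSp.Points.ofScheme U u ∧ snd.left v = t := by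
  obtain ⟨p, hp1, hp2⟩ := exists_of_isPullback g a fst ((AlgSp.yon S).map snd) h
    (AlgSp.Points.ofScheme U u) (AlgSp.Points.ofScheme T t) (by
      rw [← AlgSp.Points.ofPt_eq_map_ofScheme, ← AlgSp.Points.ofPt_eq_map_ofScheme, e])
  refine ⟨AlgSp.Points.toScheme V p, ?_, ?_⟩
  · rw [AlgSp.Points.ofPt_eq_map_ofScheme, AlgSp.Points.ofScheme_toScheme, hp1]
  · have := ofPt_yonMap snd (AlgSp.Points.toScheme V p)
    rw [AlgSp.Points.ofPt_eq_map_ofScheme, AlgSp.Points.ofScheme_toScheme, hp2] at this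
    exact ((AlgSp.Points.schemeEquiv T).injective this).symm

theorem isOpenMap_of_etale {X Y : Scheme.{u}} (f : X ⟶ Y) [Etale f] : IsOpenMap f :=
  f.isOpenMap

/-- In a pullback square `h_V → h_U`, `h_V → h_T` over `F`, the two images of a point of `V` have the
same image in `|F|`. -/
theorem ofPt_toScheme_ofPt_fst {F : AlgSp.Sp S} {T U V : Over S}
    (a : (AlgSp.yon S).obj U ⟶ F) (g : (AlgSp.yon S).obj T ⟶ F)
    (fst : (AlgSp.yon S).obj V ⟶ (AlgSp.yon S).obj U) (snd : V ⟶ T)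
    (w : fst ≫ a = (AlgSp.yon S).map snd ≫ g) (v : ↥V.left) :
    AlgSp.Points.ofPt a (AlgSp.Points.toScheme U (AlgSp.Points.ofPt fst v)) =
      AlgSp.Points.ofPt g (snd.left v) := by
  rw [AlgSp.Points.ofPt_eq_map_ofScheme, AlgSp.Points.ofScheme_toScheme, AlgSp.Points.map_ofPt,
    w, ofPt_yonMap_comp]

/-- Representable etale maps from schemes induce open maps on points. -/
theorem isOpenMap_ofPt {F : AlgSp.Sp S} {U : Over S}
    (a : (AlgSp.yon S).obj U ⟶ F) (ha : AlgSp.RepWith @Etale a) :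
    IsOpenMap (AlgSp.Points.ofPt a) := by
  intro W hW
  rw [AlgSp.Points.isOpen_iff]
  intro T g
  have hpb := ha.rep.isPullback g
  have het : Etale (ha.rep.snd g).left := ha.property_snd g
  have : AlgSp.Points.ofPt g ⁻¹' (AlgSp.Points.ofPt a '' W) =
      (ha.rep.snd g).left '' ((AlgSp.Points.toScheme U ∘ AlgSp.Points.ofPt (ha.rep.fst g)) ⁻¹' W) := by
    ext t
    constructor
    · rintro ⟨u, hu, e⟩
      obtain ⟨v, hv1, hv2⟩ := exists_of_isPullback_yon a g _ _ hpb u t e
      refine ⟨v, ?_, hv2⟩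
      change AlgSp.Points.toScheme U (AlgSp.Points.ofPt (ha.rep.fst g) v) ∈ W
      rw [hv1, AlgSp.Points.toScheme_ofScheme]
      exact hu
    · rintro ⟨v, hv, rfl⟩
      exact ⟨_, hv, ofPt_toScheme_ofPt_fst a g _ _ hpb.w v⟩
  rw [this]
  apply isOpenMap_of_etale (ha.rep.snd g).left
  exact hW.preimage ((AlgSp.Points.schemeHomeo U).symm.continuous.comp
    (AlgSp.Points.continuous_ofPt _))

/-- The morphism `h_{Spec K} ⟶ F` defined by a field-valued point. -/
noncomputable def FieldPt.toHom {F : AlgSp.Sp S} (p : AlgSp.FieldPt F) :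
    (AlgSp.yon S).obj p.pt ⟶ F :=
  (AlgSp.J S).uliftYonedaEquiv.symm p.val

/-- A field-valued point is the image of the closed point of `Spec K` under its morphism. -/
theorem ofPt_toHom {F : AlgSp.Sp S} (p : AlgSp.FieldPt F) :
    AlgSp.Points.ofPt (FieldPt.toHom p) (IsLocalRing.closedPoint p.K) = AlgSp.Points.mk p := by
  have h1 := AlgSp.Points.ofScheme_apply_eq_mk p.pt (K := p.K) (str := p.str) (𝟙 _)
    (Category.id_comp _)
  rw [AlgSp.Points.ofPt_eq_map_ofScheme]
  have h2 : (𝟙 (Spec (CommRingCat.of p.K)) : Spec (CommRingCat.of p.K) ⟶ _)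
      (IsLocalRing.closedPoint p.K) = IsLocalRing.closedPoint p.K := rfl
  rw [h2] at h1
  rw [h1, AlgSp.Points.map_mk]
  congr 1
  obtain ⟨K, str, val⟩ := p
  change AlgSp.FieldPt.mk K str _ = AlgSp.FieldPt.mk K str val
  congr 1
  change ((AlgSp.J S).uliftYonedaEquiv.symm val).hom.app _ ⟨Over.homMk (𝟙 _) _⟩ = val
  rw [GrothendieckTopology.uliftYonedaEquiv_symm_app_apply]
  have : (Over.homMk (𝟙 (Spec (CommRingCat.of K))) (Category.id_comp _) :
      Over.mk str ⟶ Over.mk str) = 𝟙 _ := rfl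
  rw [this]
  have h3 : (𝟙 (Over.mk str)).op = 𝟙 (Opposite.op (Over.mk str)) := rfl
  rw [h3, Functor.map_id_apply]

/-- Representable surjective maps from schemes induce surjective maps on points. -/
theorem surjective_ofPt {F : AlgSp.Sp S} {U : Over S}
    (a : (AlgSp.yon S).obj U ⟶ F) (hs : AlgSp.RepWith @Surjective a) :
    Function.Surjective (AlgSp.Points.ofPt a) := by
  intro x
  induction x using AlgSp.Points.ind with
  | h p =>
  have hpb := hs.rep.isPullback (FieldPt.toHom p)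
  have hsurj : Surjective (hs.rep.snd (FieldPt.toHom p)).left := hs.property_snd _
  obtain ⟨v, hv⟩ := (hs.rep.snd (FieldPt.toHom p)).left.surjective (IsLocalRing.closedPoint p.K)
  refine ⟨AlgSp.Points.toScheme U (AlgSp.Points.ofPt (hs.rep.fst (FieldPt.toHom p)) v), ?_⟩
  rw [ofPt_toScheme_ofPt_fst a _ _ _ hpb.w v, hv, ofPt_toHom]

/-- A representable etale surjective chart induces a quotient map on points. -/
theorem isQuotientMap_ofPt {F : AlgSp.Sp S} {U : Over S}
    (p : (AlgSp.yon S).obj U ⟶ F) (hp : AlgSp.RepWith @Etale p)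
    (hs : AlgSp.RepWith @Surjective p) : IsQuotientMap (AlgSp.Points.ofPt p) :=
  (isOpenMap_ofPt p hp).isQuotientMap (AlgSp.Points.continuous_ofPt p) (surjective_ofPt p hs)

/-- For a presentation, two points of `U` have the same image iff they come from a point of `R`. -/
theorem ofPt_eq_ofPt_iff_of_isPresentation {F : AlgSp.Sp S} {R U : Over S}
    (s t : R ⟶ U) (p : (AlgSp.yon S).obj U ⟶ F) (hp : AlgSp.IsPresentation s t p)
    (u u' : ↥U.left) :
    AlgSp.Points.ofPt p u = AlgSp.Points.ofPt p u' ↔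
      ∃ r : ↥R.left, t.left r = u ∧ s.left r = u' := by
  constructor
  · intro e
    obtain ⟨v, hv1, hv2⟩ := exists_of_isPullback_yon p p _ _ hp.isPullback u u' e
    refine ⟨v, ?_, hv2⟩
    rw [ofPt_yonMap] at hv1
    exact (AlgSp.Points.schemeEquiv U).injective hv1
  · rintro ⟨r, rfl, rfl⟩
    rw [← ofPt_yonMap_comp, ← ofPt_yonMap_comp, hp.isPullback.w]

/-- A representable map from a scheme that is surjective on points is representable surjective. -/
theorem repWith_surjective_of_surjective_ofPt {F : AlgSp.Sp S} {U : Over S}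
    (a : (AlgSp.yon S).obj U ⟶ F) (ha : AlgSp.Representable a)
    (hs : Function.Surjective (AlgSp.Points.ofPt a)) : AlgSp.RepWith @Surjective a := by
  apply MorphismProperty.relative_of_snd ha
  intro T g
  change Surjective (ha.snd g).left
  refine ⟨fun t => ?_⟩
  obtain ⟨u, hu⟩ := hs (AlgSp.Points.ofPt g t)
  obtain ⟨v, -, hv⟩ := exists_of_isPullback_yon a g _ _ (ha.isPullback g) u t hu
  exact ⟨v, hv⟩

/-- Refinement of an etale chart by finitely many affine opens whose images cover: gives an affine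
etale surjective chart. -/
theorem exists_affine_chart_of_finite_cover {F : AlgSp.Sp S} {U : Over S}
    (p : (AlgSp.yon S).obj U ⟶ F) (hp : AlgSp.RepWith @Etale p)
    (s : Finset U.left.affineOpens)
    (hs : ∀ x : AlgSp.Points F, ∃ V ∈ s, ∃ u ∈ (V : U.left.Opens), AlgSp.Points.ofPt p u = x) :
    ∃ (U' : Over S) (p' : (AlgSp.yon S).obj U' ⟶ F),
      IsAffine U'.left ∧ AlgSp.RepWith @Etale p' ∧ AlgSp.RepWith @Surjective p' := by
  let σ : Type u := {V // V ∈ s}
  let g : σ → Scheme.{u} := fun V => (V.1.1 : U.left.Opens)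
  have hg : ∀ i, IsAffine (g i) := fun V => V.1.2
  let ι : (∐ g) ⟶ U.left := Sigma.desc fun V => (V.1.1 : U.left.Opens).ι
  have hι : Etale ι := IsZariskiLocalAtSource.sigmaDesc (fun V => inferInstance)
  let U' : Over S := Over.mk (ι ≫ U.hom)
  let ιo : U' ⟶ U := Over.homMk ι rfl
  have h1 : AlgSp.RepWith @Etale ((AlgSp.yon S).map ιo) := (AlgSp.repWith_yon_map_iff _ _).2 hι
  have h2 : AlgSp.RepWith @Etale ((AlgSp.yon S).map ιo ≫ p) :=
    MorphismProperty.comp_mem _ _ _ h1 hp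
  refine ⟨U', (AlgSp.yon S).map ιo ≫ p, ?_, h2, ?_⟩
  · change IsAffine (∐ g)
    infer_instance
  · apply repWith_surjective_of_surjective_ofPt _ h2.rep
    intro x
    obtain ⟨V, hV, u, hu, rfl⟩ := hs x
    refine ⟨Sigma.ι g ⟨V, hV⟩ ⟨u, hu⟩, ?_⟩
    rw [ofPt_yonMap_comp]
    congr 1
    change ι (Sigma.ι g ⟨V, hV⟩ ⟨u, hu⟩) = u
    rw [← Scheme.Hom.comp_apply, Sigma.ι_desc]
    rfl

end Groth.Agent.Lib.AlgSpPts66
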