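import Groth.Agent.Lib.H86Limits2
import Groth.Agent.Lib.AlgSpPts66
import Mathlib.AlgebraicGeometry.AffineTransitionLimit

/-!
# helper86: points of cofiltered limits of algebraic spaces with affine transition maps

* `exists_affine_chart_of_isQuasiCompactSp`: a quasi-compact sheaf has an affine étale surjective chart.
* `nonempty_points_of_isLimit`: a cofiltered limit of quasi-compact nonempty algebraic spaces with affine
  transition maps has a point.
-/

set_option autoImplicit false
set_option linter.style.haveILetI false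
universe w w' u
open CategoryTheory CategoryTheory.Limits AlgebraicGeometry Opposite

namespace Groth.Agent.Lib.H86Limits
open AlgSp

variable {S : Scheme.{u}}

/-- A quasi-compact sheaf has an étale surjective chart from an affine scheme. -/
theorem exists_affine_chart_of_isQuasiCompactSp {F : Sp S} (hF : IsQuasiCompactSp F) :
    ∃ (U : Over S) (p : (yon S).obj U ⟶ F),
      IsAffine U.left ∧ RepWith @Etale p ∧ RepWith @Surjective p := by
  obtain ⟨U, p, hpe, hps, hUc⟩ := hF
  haveI : CompactSpace ↥U.left := hUc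
  obtain ⟨s, hs, hcov⟩ := (isCompact_and_isOpen_iff_finite_and_eq_biUnion_affineOpens
    (X := U.left) (U := Set.univ)).1 ⟨isCompact_univ, isOpen_univ⟩
  refine AlgSpPts66.exists_affine_chart_of_finite_cover p hpe hs.toFinset fun x => ?_
  obtain ⟨u, rfl⟩ := AlgSpPts66.surjective_ofPt p hps x
  have hu : u ∈ ⋃ i ∈ s, ((i : U.left.Opens) : Set ↥U.left) := by rw [← hcov]; trivial
  simp only [Set.mem_iUnion] at hu
  obtain ⟨V, hV, huV⟩ := hu
  exact ⟨V, hs.mem_toFinset.2 hV, u, huV, rfl⟩

/-- A cofiltered limit of quasi-compact nonempty sheaves with affine transition maps has a point. -/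
theorem nonempty_points_of_isLimit {I : Type u} [SmallCategory I] [IsCofiltered I] (D : I ⥤ Sp S)
    (hDa : ∀ (i j : I) (φ : i ⟶ j), IsAffineMor (D.map φ)) (c : Cone D) (hc : IsLimit c)
    (hqc : ∀ i, IsQuasiCompactSp (D.obj i)) (hne : ∀ i, Nonempty (Points (D.obj i))) :
    Nonempty (Points c.pt) := by
  obtain ⟨i₀⟩ := IsCofiltered.nonempty (C := I)
  obtain ⟨U₀, z, hU₀, hze, hzs⟩ := exists_affine_chart_of_isQuasiCompactSp (hqc i₀)
  -- the fibre products over the chart are affine schemes
  choose W w fst sq hWaff using fun j : Over i₀ => hDa j.left i₀ j.hom hU₀ z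
  have e : ∀ j : Over i₀, (yon S).obj (W j) ≅ (pbDiagram D i₀ z).obj j := fun j =>
    (sq j).isoPullback
  haveI : IsConnected (Over i₀) := IsCofiltered.isConnected _
  obtain ⟨cW, hcW, el, hcWaff, hel⟩ := exists_limit_liftYon (pbDiagram D i₀ z) W hWaff e
    (pbCone D c i₀ z) (isLimitPbCone i₀ z hc)
  -- each member is nonempty
  have hWne : ∀ j : Over i₀, Nonempty ↥(W j).left := by
    intro j
    -- `h_{W j} ⟶ D j` is surjective
    have hsb := repWith_isStableUnderBaseChange (S := S) @Surjective
    have hs : RepWith @Surjective (fst j) := hsb.of_isPullback (sq j).flip hzs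
    obtain ⟨x⟩ := hne j.left
    obtain ⟨y, -⟩ := AlgSpPts66.surjective_ofPt (fst j) hs x
    exact ⟨y⟩
  -- the limit of the underlying schemes is nonempty
  have hlim : IsLimit ((Over.forget S).mapCone cW) := isLimitMapConeForget hcW
  haveI : ∀ j, IsAffine ((liftYon (pbDiagram D i₀ z) W e ⋙ Over.forget S).obj j) := hWaff
  haveI : ∀ j, Nonempty ↥((liftYon (pbDiagram D i₀ z) W e ⋙ Over.forget S).obj j) := hWne
  haveI : ∀ j, CompactSpace ↥((liftYon (pbDiagram D i₀ z) W e ⋙ Over.forget S).obj j) := fun j =>
    inferInstance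
  obtain ⟨x⟩ : Nonempty ↥cW.pt.left :=
    Scheme.nonempty_of_isLimit (liftYon (pbDiagram D i₀ z) W e ⋙ Over.forget S) _ hlim
  exact ⟨Points.ofPt (el.hom ≫ pbConeFst D c i₀ z) x⟩

end Groth.Agent.Lib.H86Limits
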