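import Groth.Agent.Lib.FlatLimOpenBC88
import Mathlib.RingTheory.Flat.Localization

/-!
# Global descent of flatness to a finitely generated stage (helper64)

Built on helper88's `FlatLim*88` libraries (pointwise descent of flatness to a finitely generated
stage, openness of the flat locus for Noetherian models).

* `cancelBaseChange_smul'`, `cancelBaseChange_one_tmul'`: semilinearity of the cancellation
  isomorphism `T ⊗[A] (A ⊗[k] M₀) ≃ T ⊗[k] M₀` for a general `k`-algebra `A` and `A`-algebra `T`.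
* `exists_notMem_forall_flat_unif`: uniform (in the base change) neighbourhood of flatness for a
  Noetherian model.
* `exists_notMem_forall_flat_stage`: the same at a Noetherian stage `A`, for all `A`-algebras `T`.
* `exists_fg_flat_global`: `k` Noetherian, `S₀` of finite type over `k`, `M₀` finite over `S₀`, `R`
  any `k`-algebra with `R ⊗[k] M₀` flat over `R`: there is a finitely generated `k`-subalgebra
  `A ⊆ R` such that `T ⊗[k] M₀` is flat over `T` for every `k`-algebra `T` receiving a map from `A`.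
-/

set_option autoImplicit false
set_option maxHeartbeats 400000

namespace Groth.Agent.Lib.FlatLimGlobal64

open TensorProduct Function Groth.Agent.Lib.FlatLimT88 Groth.Agent.Lib.FlatLimLoc88
  Groth.Agent.Lib.FlatLimStage88 Groth.Agent.Lib.FlatLimBC88 Groth.Agent.Lib.FlatLimCore88
  Groth.Agent.Lib.FlatCrit Groth.Agent.Lib.FlatLimOpen88 Groth.Agent.Lib.FlatLimOpenBC88
open scoped Groth.Agent.Lib.FlatLimStage88

universe u

section Cancel

variable {k A T S₀ M₀ : Type u} [CommRing k] [CommRing A] [Algebra k A] [CommRing T] [Algebra k T]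
  [Algebra A T] [IsScalarTower k A T]
  [CommRing S₀] [Algebra k S₀]
  [AddCommGroup M₀] [Module k M₀] [Module S₀ M₀] [IsScalarTower k S₀ M₀]

set_option synthInstance.maxHeartbeats 400000 in
theorem cancelBaseChange_smul' (c : T ⊗[A] (A ⊗[k] S₀)) (x : T ⊗[A] (A ⊗[k] M₀)) :
    AlgebraTensorModule.cancelBaseChange k A T T M₀ (c • x) =
      Algebra.TensorProduct.cancelBaseChange k A T T S₀ c •
        AlgebraTensorModule.cancelBaseChange k A T T M₀ x := by
  have hL : ∀ (c : T ⊗[A] (A ⊗[k] S₀)) (x : T ⊗[A] (A ⊗[k] M₀)),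
      c • x = actHom A T (A ⊗[k] S₀) (A ⊗[k] M₀) c x := fun _ _ => rfl
  rw [hL]
  induction c with
  | zero => rw [map_zero, LinearMap.zero_apply, map_zero, map_zero, zero_smul]
  | add c₁ c₂ h₁ h₂ => rw [map_add, LinearMap.add_apply, map_add, h₁, h₂, map_add, add_smul]
  | tmul r c =>
    induction x with
    | zero => rw [map_zero, map_zero, smul_zero]
    | add x₁ x₂ h₁ h₂ => rw [map_add, map_add, h₁, h₂, map_add, smul_add]
    | tmul r' x =>
      rw [← hL, tmul_smul_tmul]
      induction c with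
      | zero =>
        have hL' : ∀ (c : A ⊗[k] S₀) (x : A ⊗[k] M₀), c • x = actHom k A S₀ M₀ c x :=
          fun _ _ => rfl
        rw [hL', map_zero, LinearMap.zero_apply, tmul_zero, tmul_zero, map_zero, map_zero,
          zero_smul]
      | add c₁ c₂ h₁ h₂ =>
        rw [add_smul, tmul_add, tmul_add, map_add, map_add, add_smul, h₁, h₂]
      | tmul b s =>
        induction x with
        | zero => rw [smul_zero, tmul_zero, tmul_zero, map_zero, smul_zero]
        | add x₁ x₂ h₁ h₂ =>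
          rw [smul_add, tmul_add, tmul_add, map_add, map_add, smul_add, h₁, h₂]
        | tmul b' m =>
          rw [tmul_smul_tmul, AlgebraTensorModule.cancelBaseChange_tmul,
            AlgebraTensorModule.cancelBaseChange_tmul,
            Algebra.TensorProduct.cancelBaseChange_tmul, tmul_smul_tmul, smul_mul_smul_comm]

theorem cancelBaseChange_one_tmul' (x : A ⊗[k] S₀) :
    Algebra.TensorProduct.cancelBaseChange k A T T S₀ ((1 : T) ⊗ₜ[A] x) =
      sMap (IsScalarTower.toAlgHom k A T) S₀ x := by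
  induction x with
  | zero => simp
  | add x₁ x₂ h₁ h₂ => simp only [tmul_add, map_add, h₁, h₂]
  | tmul b s =>
    simp only [Algebra.TensorProduct.cancelBaseChange_tmul, sMap_tmul]
    rw [Algebra.smul_def, mul_one]
    rfl

end Cancel

section Unif

variable {k : Type u} [CommRing k] [IsNoetherianRing k]
  {S₀ : Type u} [CommRing S₀] [Algebra k S₀] [Algebra.FiniteType k S₀]
  {M₀ : Type u} [AddCommGroup M₀] [Module k M₀] [Module S₀ M₀] [IsScalarTower k S₀ M₀]
  [Module.Finite S₀ M₀]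

/-- Uniform version of `exists_notMem_forall_flat_baseChange`: the neighbourhood `D(g₀)` of `q₁` in
`Spec S₀` works after every base change. -/
theorem exists_notMem_forall_flat_unif (q₁ : Ideal S₀) [q₁.IsPrime]
    (h : Module.Flat k (LocalizedModule q₁.primeCompl M₀)) :
    ∃ g₀ : S₀, g₀ ∉ q₁ ∧ ∀ (R : Type u) [CommRing R] [Algebra k R]
      (q' : Ideal (R ⊗[k] S₀)) [q'.IsPrime], (1 : R) ⊗ₜ[k] g₀ ∉ q' →
      Module.Flat R (LocalizedModule q'.primeCompl (R ⊗[k] M₀)) := by
  have hopen := isOpen_flatLocus_of_noetherian (A := k) (C := S₀) (X := M₀)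
  let q₀ : PrimeSpectrum S₀ := ⟨q₁, inferInstance⟩
  have hq₀ : q₀ ∈ {Q : PrimeSpectrum S₀ |
      Module.Flat k (LocalizedModule Q.asIdeal.primeCompl M₀)} := h
  obtain ⟨_, ⟨g₀, rfl⟩, hg₀, hsub⟩ :=
    PrimeSpectrum.isTopologicalBasis_basic_opens.exists_subset_of_mem_open hq₀ hopen
  refine ⟨g₀, hg₀, ?_⟩
  intro R _ _ q' _ hq'
  let Q : PrimeSpectrum S₀ :=
    ⟨q'.comap (Algebra.TensorProduct.includeRight : S₀ →ₐ[k] R ⊗[k] S₀), inferInstance⟩
  have hQ : Module.Flat k (LocalizedModule Q.asIdeal.primeCompl M₀) := hsub hq'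
  have hWV : stageSubmonoid k R Q.asIdeal.primeCompl ≤ q'.primeCompl := by
    intro x hx
    obtain ⟨w, hw, rfl⟩ := (mem_stageSubmonoid k R _).mp hx
    exact hw
  have hfl : Module.Flat R (R ⊗[k] LocalizedModule Q.asIdeal.primeCompl M₀) := inferInstance
  exact Groth.Agent.Lib.H77GenFlatAlg.flat_of_isLocalizedModule R
    (M := R ⊗[k] LocalizedModule Q.asIdeal.primeCompl M₀)
    (N := LocalizedModule q'.primeCompl (R ⊗[k] M₀)) q'.primeCompl
    (lamOf k R Q.asIdeal.primeCompl (LocalizedModule.mkLinearMap Q.asIdeal.primeCompl M₀)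
      q'.primeCompl hWV)

end Unif

section Stage

variable {k : Type u} [CommRing k]
  {S₀ : Type u} [CommRing S₀] [Algebra k S₀]
  {M₀ : Type u} [AddCommGroup M₀] [Module k M₀] [Module S₀ M₀] [IsScalarTower k S₀ M₀]
  [Module.Finite S₀ M₀]

/-- At a Noetherian stage `A` (with `A ⊗ S₀` of finite type over `A`) where `(A ⊗ M₀)_{q₁}` is flat
over `A`, there is `g ∉ q₁` in `A ⊗ S₀` such that for every `A`-algebra `T` the module `T ⊗ M₀` is
flat over `T` at all primes of `T ⊗ S₀` not containing the image of `g`. -/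
theorem exists_notMem_forall_flat_stage (A : Type u) [CommRing A] [Algebra k A]
    [IsNoetherianRing A] [Algebra.FiniteType k S₀]
    (q₁ : Ideal (A ⊗[k] S₀)) [q₁.IsPrime]
    (h : Module.Flat A (LocalizedModule q₁.primeCompl (A ⊗[k] M₀))) :
    ∃ g : A ⊗[k] S₀, g ∉ q₁ ∧ ∀ (T : Type u) [CommRing T] [Algebra k T] (φ : A →ₐ[k] T)
      (q' : Ideal (T ⊗[k] S₀)) [q'.IsPrime], sMap φ S₀ g ∉ q' →
      Module.Flat T (LocalizedModule q'.primeCompl (T ⊗[k] M₀)) := by
  obtain ⟨g₀, hg₀, hall⟩ := exists_notMem_forall_flat_unif (k := A) (S₀ := A ⊗[k] S₀)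
    (M₀ := A ⊗[k] M₀) q₁ h
  refine ⟨g₀, hg₀, ?_⟩
  intro T _ _ φ q' _ hq'
  let _ : Algebra A T := φ.toRingHom.toAlgebra
  have : IsScalarTower k A T := IsScalarTower.of_algebraMap_eq (fun x => (φ.commutes x).symm)
  have hφ : IsScalarTower.toAlgHom k A T = φ := by
    ext x
    rfl
  let eS := Algebra.TensorProduct.cancelBaseChange k A T T S₀
  let eM := AlgebraTensorModule.cancelBaseChange k A T T M₀
  have h1 : Module.Flat T (LocalizedModule (q'.comap eS).primeCompl (T ⊗[A] (A ⊗[k] M₀))) := by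
    apply hall T (q'.comap eS)
    rw [Ideal.mem_comap]
    change ¬ (Algebra.TensorProduct.cancelBaseChange k A T T S₀ ((1 : T) ⊗ₜ[A] g₀) ∈ q')
    rw [cancelBaseChange_one_tmul', hφ]
    exact hq'
  exact flat_localizedModule_of_semilinearEquiv eS.toRingEquiv eM
    (fun c x => cancelBaseChange_smul' c x) q' h1

end Stage

section Global

variable {k : Type u} [CommRing k] [IsNoetherianRing k]
  {S₀ : Type u} [CommRing S₀] [Algebra k S₀] [Algebra.FiniteType k S₀]
  {M₀ : Type u} [AddCommGroup M₀] [Module k M₀] [Module S₀ M₀] [IsScalarTower k S₀ M₀]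
  [Module.Finite S₀ M₀]
  {R : Type u} [CommRing R] [Algebra k R]

/-- Pointwise datum: a finitely generated stage `A` and a function `g` on `Spec (A ⊗ S₀)`, not
vanishing at `q`, on whose non-vanishing locus flatness holds after every base change. -/
theorem exists_stage_nhd [Module.Flat R (R ⊗[k] M₀)] (q : Ideal (R ⊗[k] S₀)) [q.IsPrime] :
    ∃ (A : Subalgebra k R) (_ : A.FG) (g : A ⊗[k] S₀), sMap A.val S₀ g ∉ q ∧
      ∀ (T : Type u) [CommRing T] [Algebra k T] (φ : A →ₐ[k] T)
        (q' : Ideal (T ⊗[k] S₀)) [q'.IsPrime], sMap φ S₀ g ∉ q' →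
        Module.Flat T (LocalizedModule q'.primeCompl (T ⊗[k] M₀)) := by
  have hq : Module.Flat R (LocalizedModule q.primeCompl (R ⊗[k] M₀)) :=
    Groth.Agent.Lib.H77GenFlatAlg.flat_of_isLocalizedModule R (M := R ⊗[k] M₀)
      (N := LocalizedModule q.primeCompl (R ⊗[k] M₀)) q.primeCompl
      (LocalizedModule.mkLinearMap q.primeCompl (R ⊗[k] M₀))
  obtain ⟨A, hA, hflat⟩ := exists_fg_flat_stage (S := S₀) (M := M₀) q
  have hA' := hflat A le_rfl hA
  have : Algebra.FiniteType k A := (Subalgebra.fg_iff_finiteType A).mp hA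
  have : IsNoetherianRing A := Algebra.FiniteType.isNoetherianRing k A
  obtain ⟨g, hg, hall⟩ := exists_notMem_forall_flat_stage (M₀ := M₀) A (q.comap (sMap A.val S₀)) hA'
  exact ⟨A, hA, g, hg, hall⟩

variable (S₀) in
include S₀ in
/-- **Global descent of flatness to a finitely generated stage** (Stacks 02JO-type). -/
theorem exists_fg_flat_global [Module.Flat R (R ⊗[k] M₀)] :
    ∃ A : Subalgebra k R, A.FG ∧ ∀ (T : Type u) [CommRing T] [Algebra k T] (_ : A →ₐ[k] T),
      Module.Flat T (T ⊗[k] M₀) := by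
  classical
  choose A hA g hg hall using fun q : PrimeSpectrum (R ⊗[k] S₀) =>
    exists_stage_nhd (M₀ := M₀) q.asIdeal
  let G : PrimeSpectrum (R ⊗[k] S₀) → R ⊗[k] S₀ := fun q => sMap (A q).val S₀ (g q)
  have htop : Ideal.span (Set.range G) = ⊤ := by
    by_contra hne
    obtain ⟨m, hm, hle⟩ := Ideal.exists_le_maximal _ hne
    exact hg ⟨m, hm.isPrime⟩ (hle (Ideal.subset_span ⟨⟨m, hm.isPrime⟩, rfl⟩))
  have h1 : (1 : R ⊗[k] S₀) ∈ Ideal.span (Set.range G) := by rw [htop]; trivial
  obtain ⟨c, hc⟩ := Finsupp.mem_ideal_span_range_iff_exists_finsupp.mp h1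
  let s := c.support
  -- the common stage
  let A₁ : Subalgebra k R := s.sup A
  have hA₁ : A₁.FG := fg_finset_sup _ A hA
  obtain ⟨A₂, hA₂, hx⟩ := exists_fg_lift S₀ (fun q : s => c q)
  choose x hx using hx
  let A₃ := A₁ ⊔ A₂
  have hA₃ : A₃.FG := hA₁.sup hA₂
  have hle : ∀ q : s, A q ≤ A₃ := fun q => le_trans (Finset.le_sup q.2) le_sup_left
  have hle₂ : A₂ ≤ A₃ := le_sup_right
  let E : A₃ ⊗[k] S₀ := ∑ q : s, sMap (Subalgebra.inclusion hle₂) S₀ (x q) *
    sMap (Subalgebra.inclusion (hle q)) S₀ (g q) - 1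
  have hE : mMap A₃.val S₀ E = 0 := by
    rw [← sMap_eq_mMap]
    simp only [E, map_sub, map_sum, map_mul, map_one]
    have e1 : ∀ q : s, sMap A₃.val S₀ (sMap (Subalgebra.inclusion hle₂) S₀ (x q)) = c q := by
      intro q
      rw [sMap_eq_mMap, sMap_eq_mMap, mMap_val_inclusion]
      exact hx q
    have e2 : ∀ q : s, sMap A₃.val S₀ (sMap (Subalgebra.inclusion (hle q)) S₀ (g q)) = G q := by
      intro q
      rw [sMap_eq_mMap, sMap_eq_mMap, mMap_val_inclusion, ← sMap_eq_mMap]
    simp only [e1, e2]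
    rw [sub_eq_zero, ← hc, Finsupp.sum]
    exact Finset.sum_coe_sort s (fun a => c a * G a)
  obtain ⟨B, hAB, hB, hEB⟩ := exists_fg_eq_zero S₀ hA₃ (fun _ : Unit => E) (fun _ => hE)
  have hEB' : sMap (Subalgebra.inclusion hAB) S₀ E = 0 := by
    rw [sMap_eq_mMap]; exact hEB ()
  refine ⟨B, hB, ?_⟩
  intro T _ _ φ
  have hsum : ∑ q : s, sMap (φ.comp (Subalgebra.inclusion (le_trans hle₂ hAB))) S₀ (x q) *
      sMap (φ.comp (Subalgebra.inclusion (le_trans (hle q) hAB))) S₀ (g q) = 1 := by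
    have h2 := congrArg (sMap φ S₀) hEB'
    simp only [E, map_sub, map_sum, map_mul, map_one, map_zero] at h2
    rw [sub_eq_zero] at h2
    rw [← h2]
    refine Finset.sum_congr rfl (fun q _ => ?_)
    congr 1
    · simp only [sMap_eq_mMap, mMap_mMap]
      rfl
    · simp only [sMap_eq_mMap, mMap_mMap]
      rfl
  refine Module.flat_of_isLocalized_maximal (T ⊗[k] S₀) (T ⊗[k] M₀)
    (fun P _ => LocalizedModule P.primeCompl (T ⊗[k] M₀))
    (fun P _ => LocalizedModule.mkLinearMap P.primeCompl (T ⊗[k] M₀)) ?_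
  intro P hP
  have hPp : P.IsPrime := hP.isPrime
  have hex : ∃ q : s, sMap (φ.comp (Subalgebra.inclusion (le_trans (hle q) hAB))) S₀ (g q) ∉ P := by
    by_contra hcon
    push Not at hcon
    have : (1 : T ⊗[k] S₀) ∈ P := by
      rw [← hsum]
      exact Ideal.sum_mem _ (fun q _ => Ideal.mul_mem_left _ _ (hcon q))
    exact hPp.ne_top ((Ideal.eq_top_iff_one _).mpr this)
  obtain ⟨q, hq⟩ := hex
  exact hall q.1 T (φ.comp (Subalgebra.inclusion (le_trans (hle q) hAB))) P hq

end Global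

end Groth.Agent.Lib.FlatLimGlobal64
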