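import Groth.Agent.Lib.LimDescentSmooth96
import Groth.Agent.Lib.FlatLimGlobal64
import Mathlib.RingTheory.Extension.Presentation.Core
import Mathlib.AlgebraicGeometry.Morphisms.Flat

/-!
# Descent of flatness through cofiltered limits of schemes (Stacks 04AI) (helper64)

* `flat_descent`: ring level.  `(G i → A)` a weak filtered colimit system of `R`-algebras
  (helper96's `IsWeakColimAlg`), `S` a finitely presented `R`-algebra with `A ⊗[R] S` flat over
  `A`; then `G j ⊗[R] S` is flat over `G j` for some `j`.  (Via a Noetherian model and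
  `FlatLimGlobal64.exists_fg_flat_global`.)
* `exists_flat_stage_of_isAffine`, `exists_flat_stage_of_compactSpace`: scheme level, in helper62's
  `LimDescent` framework.
-/

set_option autoImplicit false
set_option maxHeartbeats 400000
set_option linter.style.haveILetI false
universe u

open CategoryTheory Limits AlgebraicGeometry TensorProduct

namespace Groth.Agent.Lib.LimDescentFlat64

open Groth.Agent.Lib.ColimTensor96

section Ring

variable {R : Type u} [CommRing R] {ι : Type*} {G : ι → Type u} [∀ i, CommRing (G i)]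
  [∀ i, Algebra R (G i)] {A : Type u} [CommRing A] [Algebra R A] {g : ∀ i, G i →ₐ[R] A}

/-- Restriction of scalars of a weak filtered colimit system. -/
theorem isWeakColimAlg_restrictScalars (hW : IsWeakColimAlg G g) (k : Type*) [CommRing k]
    [Algebra k R] [∀ i, Algebra k (G i)] [Algebra k A] [∀ i, IsScalarTower k R (G i)]
    [IsScalarTower k R A] :
    IsWeakColimAlg (R := k) G (fun i => (g i).restrictScalars k) where
  nonempty := hW.nonempty
  dir i i' := by
    obtain ⟨j, h, h', hh, hh'⟩ := hW.dir i i'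
    refine ⟨j, h.restrictScalars k, h'.restrictScalars k, ?_, ?_⟩
    · ext x; exact AlgHom.congr_fun hh x
    · ext x; exact AlgHom.congr_fun hh' x
  lift a := hW.lift a
  kill i x hx := by
    obtain ⟨j, h, hh, hk⟩ := hW.kill i x hx
    exact ⟨j, h.restrictScalars k, by ext x; exact AlgHom.congr_fun hh x, hk⟩

set_option synthInstance.maxHeartbeats 400000 in
/-- Flatness of a finitely presented algebra descends through a weak filtered colimit. -/
theorem flat_descent (hW : IsWeakColimAlg G g) (S : Type u) [CommRing S] [Algebra R S]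
    [Algebra.FinitePresentation R S] (h : Module.Flat A (A ⊗[R] S)) :
    ∃ j : ι, Module.Flat (G j) (G j ⊗[R] S) := by
  classical
  let P := Algebra.Presentation.ofFinitePresentation R S
  let k := P.Core
  let S₀ := P.ModelOfHasCoeffs k
  let e₀ : R ⊗[k] S₀ ≃ₐ[R] S := P.tensorModelOfHasCoeffsEquiv k
  have : IsNoetherianRing k := Algebra.FiniteType.isNoetherianRing ℤ k
  -- `k`-algebra structures
  letI algA : Algebra k A := ((algebraMap R A).comp (algebraMap k R)).toAlgebra
  haveI : IsScalarTower k R A := IsScalarTower.of_algebraMap_eq fun _ => rfl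
  letI algG : ∀ i, Algebra k (G i) := fun i =>
    ((algebraMap R (G i)).comp (algebraMap k R)).toAlgebra
  haveI : ∀ i, IsScalarTower k R (G i) := fun i => IsScalarTower.of_algebraMap_eq fun _ => rfl
  -- transfer of flatness
  have key : ∀ (T : Type u) [CommRing T] [Algebra R T] [Algebra k T] [IsScalarTower k R T],
      Nonempty ((T ⊗[R] S) ≃ₗ[T] (T ⊗[k] S₀)) := fun T _ _ _ _ =>
    ⟨(AlgebraTensorModule.congr (LinearEquiv.refl T T) e₀.symm.toLinearEquiv) ≪≫ₗ
      (AlgebraTensorModule.cancelBaseChange k R T T S₀)⟩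
  obtain ⟨eA⟩ := key A
  haveI : Module.Flat A (A ⊗[k] S₀) := Module.Flat.of_linearEquiv eA.symm
  obtain ⟨A', hA', hflat⟩ :=
    Groth.Agent.Lib.FlatLimGlobal64.exists_fg_flat_global (k := k) (R := A) S₀ (M₀ := S₀)
  have hft : Algebra.FiniteType k A' := (Subalgebra.fg_iff_finiteType A').mp hA'
  have hfp : Algebra.FinitePresentation k A' := Algebra.FinitePresentation.of_finiteType.mp hft
  have hWk := isWeakColimAlg_restrictScalars hW k
  obtain ⟨i₀⟩ := hW.nonempty
  obtain ⟨j, -, l, -, -⟩ :=
    Groth.Agent.Lib.ColimSmooth96.exists_algHom_lift hWk A'.val i₀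
  refine ⟨j, ?_⟩
  have hj : Module.Flat (G j) (G j ⊗[k] S₀) := hflat (G j) l
  obtain ⟨eG⟩ := key (G j)
  exact Module.Flat.of_linearEquiv eG

end Ring

section Affine

open Groth.Agent.Lib.LimDescent Groth.Agent.Lib.LimPullback

variable {I : Type u} [Category.{u} I] (D : I ⥤ Scheme.{u}) (c : Cone D)
variable {i₀ : I} {Y₀ : Scheme.{u}} (g₀ : Y₀ ⟶ D.obj i₀)
variable [IsCofiltered I] (hc : IsLimit c) [∀ {i j} (f : i ⟶ j), IsAffineHom (D.map f)]
  [IsAffine Y₀]
variable {X₀ : Scheme.{u}} (f₀ : X₀ ⟶ Y₀) [IsAffine X₀]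

attribute [local instance] stageAlg limAlg

include hc in
/-- Affine case of the descent of flatness. -/
theorem exists_flat_stage_of_isAffine [LocallyOfFinitePresentation f₀]
    (h : Flat (bcMap f₀ g₀ (c.π.app i₀))) : ∃ j : Over i₀, Flat (bcMap f₀ g₀ (D.map j.hom)) := by
  refine exists_stage_of_isAffine_of_ringDescent D c g₀ hc f₀ @Flat RingHom.Flat ?_ h
  let _ : Algebra Γ(Y₀, ⊤) Γ(X₀, ⊤) := f₀.appTop.hom.toAlgebra
  intro hW hQ
  have hfp : Algebra.FinitePresentation Γ(Y₀, ⊤) Γ(X₀, ⊤) :=
    (HasRingHomProperty.iff_of_isAffine (P := @LocallyOfFinitePresentation)).mp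
      (inferInstance : LocallyOfFinitePresentation f₀)
  rw [RingHom.flat_algebraMap_iff] at hQ
  obtain ⟨j, hj⟩ := flat_descent hW Γ(X₀, ⊤) hQ
  exact ⟨j, RingHom.flat_algebraMap_iff.mpr hj⟩

end Affine

section Stage

open Groth.Agent.Lib.LimDescent Groth.Agent.Lib.LimPullback

variable {I : Type u} [Category.{u} I] (D : I ⥤ Scheme.{u}) (c : Cone D) [IsCofiltered I]
variable {i₀ : I} {X₀ Y₀ : Scheme.{u}} (f₀ : X₀ ⟶ Y₀) (g₀ : Y₀ ⟶ D.obj i₀)
variable (hc : IsLimit c) [∀ {i j} (f : i ⟶ j), IsAffineHom (D.map f)]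

include hc in
/-- Descent of flatness with only `X₀` quasi-compact. -/
theorem exists_flat_stage_of_compactSpace [CompactSpace X₀]
    [LocallyOfFinitePresentation f₀] (h : Flat (bcMap f₀ g₀ (c.π.app i₀))) :
    ∃ j : Over i₀, Flat (bcMap f₀ g₀ (D.map j.hom)) := by
  have : IsZariskiLocalAtSource @Flat.{u} := HasRingHomProperty.instIsZariskiLocalAtSource
  refine exists_stage_of_compactSpace D c f₀ g₀ @Flat (fun ι _ => inferInstance)
    (fun U V hU hV e h' => ?_) h
  have : IsAffine U := hU
  have : IsAffine V := hV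
  exact exists_flat_stage_of_isAffine D c _ hc _ h'

end Stage

end Groth.Agent.Lib.LimDescentFlat64
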