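import Groth.Agent.Lib.LimDescentBC
import Mathlib.AlgebraicGeometry.Morphisms.UniversallyInjective
import Mathlib.AlgebraicGeometry.PullbackCarrier

/-!
# Descent of surjective / universally injective morphisms through cofiltered limits
(EGA IV 8.10.5 (vi), (vii))
-/

set_option autoImplicit false
universe u

open CategoryTheory Limits AlgebraicGeometry

namespace Groth.Agent.Lib.LimDescent

open Groth.Agent.Lib.LimPullback

variable {I : Type u} [Category.{u} I] (D : I ⥤ Scheme.{u}) (c : Cone D)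
variable [IsCofiltered I] (hc : IsLimit c) [∀ {i j} (f : i ⟶ j), IsAffineHom (D.map f)]

include hc in
theorem exists_surjective_stage {i₀ : I} [CompactSpace (D.obj i₀)] [QuasiSeparatedSpace (D.obj i₀)]
    {X₀ Y₀ : Scheme.{u}} (f₀ : X₀ ⟶ Y₀) (g₀ : Y₀ ⟶ D.obj i₀)
    [QuasiCompact g₀] [QuasiSeparated g₀] [QuasiCompact f₀] [LocallyOfFinitePresentation f₀]
    (h : Surjective (bcMap f₀ g₀ (c.π.app i₀))) :
    ∃ j : Over i₀, Surjective (bcMap f₀ g₀ (D.map j.hom)) := by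
  haveI : CompactSpace Y₀ := QuasiCompact.compactSpace_of_compactSpace g₀
  haveI : QuasiSeparatedSpace Y₀ := quasiSeparatedSpace_of_quasiSeparated g₀
  let j₀ : Over i₀ := Over.mk (𝟙 i₀)
  haveI : CompactSpace ↥(pullback g₀ (D.map j₀.hom)) := compactSpace_pb D i₀ g₀ j₀
  haveI : QuasiSeparatedSpace ↥(pullback g₀ (D.map j₀.hom)) := quasiSeparatedSpace_pb D i₀ g₀ j₀
  haveI : LocallyOfFinitePresentation (bcMap f₀ g₀ (D.map j₀.hom)) :=
    MorphismProperty.of_isPullback (isPullback_bcMap f₀ g₀ (D.map j₀.hom)) inferInstance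
  haveI : QuasiCompact (bcMap f₀ g₀ (D.map j₀.hom)) :=
    MorphismProperty.of_isPullback (isPullback_bcMap f₀ g₀ (D.map j₀.hom)) inferInstance
  -- the constructible set of points not in the image
  let E : Set ↥(pullback g₀ (D.map j₀.hom)) := (Set.range (bcMap f₀ g₀ (D.map j₀.hom)).base)ᶜ
  have hE : Topology.IsConstructible E := by
    have := (bcMap f₀ g₀ (D.map j₀.hom)).isConstructible_image
      (s := Set.univ) Topology.IsConstructible.univ
    rw [Set.image_univ] at this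
    exact this.compl
  have key : ∀ {P Q : Scheme.{u}} (p : P ⟶ pullback (f₀ ≫ g₀) (D.map j₀.hom))
      (h' : P ⟶ Q) (q : Q ⟶ pullback g₀ (D.map j₀.hom)),
      IsPullback p h' (bcMap f₀ g₀ (D.map j₀.hom)) q →
      Set.range h'.base = q.base ⁻¹' Set.range (bcMap f₀ g₀ (D.map j₀.hom)).base := by
    intro P Q p h' q sq
    have := Scheme.image_preimage_eq_of_isPullback sq Set.univ
    rwa [Set.preimage_univ, Set.image_univ, Set.image_univ] at this
  have hlim : (pbProj D c i₀ g₀ j₀).base ⁻¹' E = ∅ := by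
    rw [Set.preimage_compl, ← key _ _ _ (isPullback_pbProj_bcMap D c f₀ g₀ j₀),
      Set.compl_empty_iff]
    exact Set.range_eq_univ.mpr h.surj
  obtain ⟨k, φ, hk⟩ := Groth.Agent.Lib.LimConstructible.exists_map_preimage_inter_subset
    (pbDiagram D i₀ g₀) (pbCone D c i₀ g₀) (isLimitPbCone hc) (i := j₀) E hE ⊤
    (by simpa using isCompact_univ) ⊥ (by
      change (pbProj D c i₀ g₀ j₀).base ⁻¹' (Set.univ ∩ E) ⊆ (pbProj D c i₀ g₀ j₀).base ⁻¹' ∅
      rw [Set.univ_inter, hlim]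
      exact Set.empty_subset _)
  change (pbMap D i₀ g₀ φ).base ⁻¹' (Set.univ ∩ E) ⊆ (pbMap D i₀ g₀ φ).base ⁻¹' ∅ at hk
  rw [Set.univ_inter, Set.preimage_empty, Set.subset_empty_iff, Set.preimage_compl,
    Set.compl_empty_iff, ← key _ _ _ (isPullback_pbMap_bcMap D f₀ g₀ φ)] at hk
  exact ⟨k, ⟨Set.range_eq_univ.mp hk⟩⟩

include hc in
theorem exists_universallyInjective_stage {i₀ : I} [CompactSpace (D.obj i₀)]
    [QuasiSeparatedSpace (D.obj i₀)]
    {X₀ Y₀ : Scheme.{u}} (f₀ : X₀ ⟶ Y₀) (g₀ : Y₀ ⟶ D.obj i₀)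
    [QuasiCompact g₀] [QuasiSeparated g₀] [LocallyOfFinitePresentation g₀]
    [QuasiCompact (f₀ ≫ g₀)] [QuasiSeparated (f₀ ≫ g₀)] [LocallyOfFinitePresentation (f₀ ≫ g₀)]
    (h : UniversallyInjective (bcMap f₀ g₀ (c.π.app i₀))) :
    ∃ j : Over i₀, UniversallyInjective (bcMap f₀ g₀ (D.map j.hom)) := by
  obtain ⟨h1, h2, h3, h4, h5, h6, h7⟩ := diagonal_setup f₀ g₀
  haveI : QuasiCompact (pullback.diagonal f₀) :=
    QuasiCompact.of_comp (pullback.diagonal f₀) (pullback.fst f₀ f₀ ≫ f₀ ≫ g₀)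
  have hlim : Surjective
      (bcMap (pullback.diagonal f₀) (pullback.fst f₀ f₀ ≫ f₀ ≫ g₀) (c.π.app i₀)) :=
    ((isBC_bcMap f₀ g₀ (c.π.app i₀)).diagonal.iff @Surjective).mp
      ((UniversallyInjective.iff_diagonal _).mp h)
  obtain ⟨j, hj⟩ := exists_surjective_stage D c hc (pullback.diagonal f₀)
    (pullback.fst f₀ f₀ ≫ f₀ ≫ g₀) hlim
  exact ⟨j, (UniversallyInjective.iff_diagonal _).mpr
    (((isBC_bcMap f₀ g₀ (D.map j.hom)).diagonal.iff @Surjective).mpr hj)⟩

end Groth.Agent.Lib.LimDescent
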