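import Groth.Agent.Lib.ColimDescentProps96

/-!
# Descending bijective / smooth / étale through weak filtered colimits (helper96)

Continuation of `ColimDescentProps96`, for `S` of finite presentation over `R`.
-/

set_option autoImplicit false
universe u v w

namespace Groth.Agent.Lib.ColimSmooth96

open TensorProduct Groth.Agent.Lib.ColimTensor96 Groth.Agent.Lib.ColimDescentProps96

section Lift

variable {R : Type*} [CommRing R] {ι : Type*} {G : ι → Type*} [∀ i, CommRing (G i)]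
  [∀ i, Algebra R (G i)] {A : Type*} [CommRing A] [Algebra R A] {g : ∀ i, G i →ₐ[R] A}

/-- A map from a finitely presented `R`-algebra to `A` lifts to a stage (after any given one). -/
theorem exists_algHom_lift (hW : IsWeakColimAlg G g) {P : Type*} [CommRing P] [Algebra R P]
    [Algebra.FinitePresentation R P] (φ : P →ₐ[R] A) (i₀ : ι) :
    ∃ (j : ι) (u : G i₀ →ₐ[R] G j) (l : P →ₐ[R] G j),
      (g j).comp u = g i₀ ∧ (g j).comp l = φ := by
  classical
  obtain ⟨n, f, hf, T, hT⟩ := Algebra.FinitePresentation.out (R := R) (A := P)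
  obtain ⟨j₁, u₁, x, hu₁, hx⟩ := hW.lift_fun i₀ (fun t : Fin n => φ (f (MvPolynomial.X t)))
  let ψ : MvPolynomial (Fin n) R →ₐ[R] G j₁ := MvPolynomial.aeval x
  have hψ : (g j₁).comp ψ = φ.comp f := by
    apply MvPolynomial.algHom_ext
    intro t
    simp [ψ, hx]
  have hTker : ∀ k ∈ T, f k = 0 := fun k hk => by
    have : k ∈ RingHom.ker f.toRingHom := hT ▸ Ideal.subset_span hk
    exact this
  obtain ⟨j₂, u₂, hu₂, hkill⟩ := hW.kill_finset j₁ (T.image ψ) (by
    intro y hy
    obtain ⟨k, hk, rfl⟩ := Finset.mem_image.1 hy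
    have := AlgHom.congr_fun hψ k
    rw [AlgHom.comp_apply, AlgHom.comp_apply, hTker k hk, map_zero] at this
    exact this)
  have hker : RingHom.ker f.toRingHom ≤ RingHom.ker (u₂.comp ψ).toRingHom := by
    rw [← hT, Ideal.span_le]
    intro k hk
    exact hkill _ (Finset.mem_image_of_mem ψ hk)
  refine ⟨j₂, u₂.comp u₁, AlgHom.liftOfSurjective f hf (u₂.comp ψ) hker, ?_, ?_⟩
  · rw [← AlgHom.comp_assoc, hu₂, hu₁]
  · apply (AlgHom.cancel_right hf).1
    rw [AlgHom.comp_assoc, AlgHom.liftOfSurjective_comp, ← AlgHom.comp_assoc, hu₂, hψ]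

/-- `(G i ⊗[R] Q → A ⊗[R] Q)` is a weak colimit system of `R`-algebras. -/
theorem tensorRight (hW : IsWeakColimAlg G g) (Q : Type*) [CommRing Q] [Algebra R Q] :
    IsWeakColimAlg (R := R) (fun i => G i ⊗[R] Q)
      (fun i => Algebra.TensorProduct.map (g i) (AlgHom.id R Q)) where
  nonempty := hW.nonempty
  dir i i' := by
    obtain ⟨j, h, h', hh, hh'⟩ := hW.dir i i'
    refine ⟨j, Algebra.TensorProduct.map h (AlgHom.id R Q),
      Algebra.TensorProduct.map h' (AlgHom.id R Q), ?_, ?_⟩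
    · rw [← Algebra.TensorProduct.map_comp, hh, AlgHom.comp_id]
    · rw [← Algebra.TensorProduct.map_comp, hh', AlgHom.comp_id]
  lift w := by
    obtain ⟨i, z, hz⟩ := hW.lift_rTensor Q w
    exact ⟨i, z, by rw [map_id_right_apply, hz]⟩
  kill i z hz := by
    rw [map_id_right_apply] at hz
    obtain ⟨j, h, hc, hk⟩ := hW.kill_rTensor Q i z hz
    refine ⟨j, Algebra.TensorProduct.map h (AlgHom.id R Q), ?_, by rw [map_id_right_apply, hk]⟩
    rw [← Algebra.TensorProduct.map_comp, hc, AlgHom.comp_id]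

variable (S : Type*) [CommRing S] [Algebra R S]

/-- Bijectivity descends (for `S` of finite presentation). -/
theorem bijective_descent (hW : IsWeakColimAlg G g) [Algebra.FinitePresentation R S]
    (h : Function.Bijective (algebraMap A (A ⊗[R] S))) (i₀ : ι) :
    ∃ (j : ι) (u : G i₀ →ₐ[R] G j), (g j).comp u = g i₀ ∧
      Function.Bijective (algebraMap (G j) (G j ⊗[R] S)) := by
  let e : A ≃ₐ[A] A ⊗[R] S := AlgEquiv.ofBijective (Algebra.ofId A _) h
  let φ : S →ₐ[R] A := (e.symm.toAlgHom.restrictScalars R).comp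
    Algebra.TensorProduct.includeRight
  obtain ⟨j₁, u₁, l, hu₁, -⟩ := exists_algHom_lift hW φ i₀
  obtain ⟨j₂, u₂, hu₂, hs⟩ := surjective_descent S hW h.2 j₁
  refine ⟨j₂, u₂.comp u₁, by rw [← AlgHom.comp_assoc, hu₂, hu₁], ⟨?_, hs⟩⟩
  let ψ : G j₂ ⊗[R] S →ₐ[G j₂] G j₂ := Algebra.TensorProduct.lift (Algebra.ofId _ _)
    (u₂.comp l) (fun _ _ => Commute.all _ _)
  apply Function.LeftInverse.injective (g := ψ)
  intro x
  rw [ψ.commutes]
  rfl

end Lift

section Smooth

variable {R : Type*} [CommRing R] {S : Type*} [CommRing S] [Algebra R S]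
  {P₀ : Type*} [CommRing P₀] [Algebra R P₀] (π : P₀ →ₐ[R] S)

/-- The square-zero thickening `P₀ / (ker π)²` of `S`. -/
abbrev Thick : Type _ := P₀ ⧸ RingHom.ker π.toRingHom ^ 2

variable (L : Type*) [CommRing L] [Algebra R L]

/-- The base change `L ⊗ P₀/(ker π)² → L ⊗ S`. -/
noncomputable abbrev qL : L ⊗[R] Thick π →ₐ[L] L ⊗[R] S :=
  Algebra.TensorProduct.map (AlgHom.id L L) π.kerSquareLift

/-- The base change `L ⊗ P₀ → L ⊗ S`. -/
noncomputable abbrev fL : L ⊗[R] P₀ →ₐ[L] L ⊗[R] S :=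
  Algebra.TensorProduct.map (AlgHom.id L L) π

theorem one_tmul_mem_ker_sq (a : P₀) (ha : a ∈ RingHom.ker π.toRingHom ^ 2) :
    (1 : L) ⊗ₜ[R] a ∈ RingHom.ker (fL π L).toRingHom ^ 2 := by
  have h1 : Ideal.map (Algebra.TensorProduct.includeRight : P₀ →ₐ[R] L ⊗[R] P₀)
      (RingHom.ker π.toRingHom) ≤ RingHom.ker (fL π L).toRingHom := by
    rw [Ideal.map_le_iff_le_comap]
    intro b hb
    rw [Ideal.mem_comap, RingHom.mem_ker]
    have hb' : π b = 0 := hb
    show (fL π L) ((1 : L) ⊗ₜ[R] b) = 0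
    rw [Algebra.TensorProduct.map_tmul, hb', TensorProduct.tmul_zero]
  have h2 := Ideal.pow_right_mono h1 2
  rw [← Ideal.map_pow] at h2
  exact h2 (Ideal.mem_map_of_mem _ ha)

/-- The comparison map `L ⊗ (P₀/(ker π)²) → (L ⊗ P₀)/(ker (L ⊗ π))²`. -/
noncomputable def theta : L ⊗[R] Thick π →ₐ[L] (L ⊗[R] P₀) ⧸ RingHom.ker (fL π L).toRingHom ^ 2 :=
  Algebra.TensorProduct.lift (Algebra.ofId L _)
    (Ideal.Quotient.liftₐ (RingHom.ker π.toRingHom ^ 2)
      (((Ideal.Quotient.mkₐ L (RingHom.ker (fL π L).toRingHom ^ 2)).restrictScalars R).comp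
        (Algebra.TensorProduct.includeRight : P₀ →ₐ[R] L ⊗[R] P₀))
      (fun a ha => by
        show Ideal.Quotient.mk _ ((1 : L) ⊗ₜ[R] a) = 0
        rw [Ideal.Quotient.eq_zero_iff_mem]
        exact one_tmul_mem_ker_sq π L a ha))
    (fun _ _ => Commute.all _ _)

theorem kerSquareLift_comp_theta : (fL π L).kerSquareLift.comp (theta π L) = qL π L := by
  apply Algebra.TensorProduct.ext
  · ext
  · apply Ideal.Quotient.algHom_ext
    ext a
    show (fL π L).kerSquareLift (theta π L ((1 : L) ⊗ₜ[R] (Ideal.Quotient.mk _ a))) =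
      (1 : L) ⊗ₜ[R] (π.kerSquareLift (Ideal.Quotient.mk _ a))
    rw [theta, Algebra.TensorProduct.lift_tmul, map_one, one_mul, AlgHom.kerSquareLift_mk]
    show (fL π L).kerSquareLift (Ideal.Quotient.mk _ ((1 : L) ⊗ₜ[R] a)) = _
    rw [AlgHom.kerSquareLift_mk, Algebra.TensorProduct.map_tmul, map_one]

/-- A section of `L ⊗ P₀/(ker π)² → L ⊗ S` makes `L ⊗ S` formally smooth over `L`, provided
`P₀` is formally smooth over `R`. -/
theorem formallySmooth_of_section [Algebra.FormallySmooth R P₀]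
    (σ : L ⊗[R] S →ₐ[L] L ⊗[R] Thick π) (hσ : (qL π L).comp σ = AlgHom.id L _) :
    Algebra.FormallySmooth L (L ⊗[R] S) :=
  Algebra.FormallySmooth.of_split (fL π L) ((theta π L).comp σ) (by
    rw [← AlgHom.comp_assoc, kerSquareLift_comp_theta, hσ])

theorem qL_surjective (hπ : Function.Surjective π) : Function.Surjective (qL π L) := by
  apply Algebra.TensorProduct.map_surjective _ _ Function.surjective_id
  exact Ideal.Quotient.lift_surjective_of_surjective _ _ hπ

theorem ker_qL_sq (hπ : Function.Surjective π) :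
    RingHom.ker ((qL π L : L ⊗[R] Thick π →ₐ[L] L ⊗[R] S) : L ⊗[R] Thick π →+* L ⊗[R] S) ^ 2
      = ⊥ := by
  have hq : Function.Surjective π.kerSquareLift :=
    Ideal.Quotient.lift_surjective_of_surjective _ _ hπ
  have h1 := Algebra.TensorProduct.lTensor_ker (A := L) π.kerSquareLift hq
  have h2 : RingHom.ker ((qL π L : L ⊗[R] Thick π →ₐ[L] L ⊗[R] S) :
      L ⊗[R] Thick π →+* L ⊗[R] S) =
      RingHom.ker (Algebra.TensorProduct.map (AlgHom.id R L) π.kerSquareLift) := by
    ext z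
    rw [RingHom.mem_ker, RingHom.mem_ker]
    rfl
  rw [h2, h1, ← Ideal.map_pow]
  have h3 : RingHom.ker π.kerSquareLift ^ 2 = ⊥ := by
    have := AlgHom.ker_kerSquareLift π
    have h4 : RingHom.ker π.kerSquareLift = (RingHom.ker π.toRingHom).cotangentIdeal := this
    rw [h4, Ideal.cotangentIdeal_square]
  rw [h3, Ideal.map_bot]

end Smooth

section SmoothDescent

variable {R : Type*} [CommRing R] {ι : Type*} {G : ι → Type*} [∀ i, CommRing (G i)]
  [∀ i, Algebra R (G i)] {A : Type*} [CommRing A] [Algebra R A] {g : ∀ i, G i →ₐ[R] A}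
  (S : Type*) [CommRing S] [Algebra R S]

theorem qL_nat {P₀ : Type*} [CommRing P₀] [Algebra R P₀] (π : P₀ →ₐ[R] S) {L L' : Type*}
    [CommRing L] [Algebra R L] [CommRing L'] [Algebra R L'] (u : L →ₐ[R] L')
    (z : L ⊗[R] Thick π) :
    Algebra.TensorProduct.map u (AlgHom.id R S) (qL π L z) =
      qL π L' (Algebra.TensorProduct.map u (AlgHom.id R (Thick π)) z) := by
  induction z using TensorProduct.induction_on with
  | zero => simp
  | tmul x y => simp
  | add z₁ z₂ h₁ h₂ => simp only [map_add, h₁, h₂]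

/-- Formal smoothness descends (for `S` of finite presentation). -/
theorem formallySmooth_descent (hW : IsWeakColimAlg G g) [Algebra.FinitePresentation R S]
    (h : Algebra.FormallySmooth A (A ⊗[R] S)) (i₀ : ι) :
    ∃ (j : ι) (u : G i₀ →ₐ[R] G j), (g j).comp u = g i₀ ∧
      Algebra.FormallySmooth (G j) (G j ⊗[R] S) := by
  classical
  obtain ⟨n, π, hπ, -⟩ := Algebra.FinitePresentation.out (R := R) (A := S)
  obtain ⟨s, hs⟩ := (Algebra.FiniteType.out : (⊤ : Subalgebra R S).FG)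
  -- a section at the top
  let σ : A ⊗[R] S →ₐ[A] A ⊗[R] Thick π :=
    Algebra.FormallySmooth.liftOfSurjective (AlgHom.id A _) (qL π A) (qL_surjective π A hπ)
      ⟨2, ker_qL_sq π A hπ⟩
  have hσ : (qL π A).comp σ = AlgHom.id A _ :=
    Algebra.FormallySmooth.comp_liftOfSurjective _ _ _ _
  let φ : S →ₐ[R] A ⊗[R] Thick π :=
    (σ.restrictScalars R).comp Algebra.TensorProduct.includeRight
  obtain ⟨j₁, -, l₁, -, hl₁⟩ :=
    exists_algHom_lift (tensorRight hW (Thick π)) φ hW.nonempty.some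
  obtain ⟨j₂, v, v', hv, hv'⟩ := hW.dir i₀ j₁
  let l₂ : S →ₐ[R] G j₂ ⊗[R] Thick π :=
    (Algebra.TensorProduct.map v' (AlgHom.id R (Thick π))).comp l₁
  have hl₂ : (Algebra.TensorProduct.map (g j₂) (AlgHom.id R (Thick π))).comp l₂ = φ := by
    rw [← AlgHom.comp_assoc, ← Algebra.TensorProduct.map_comp, hv', AlgHom.comp_id, hl₁]
  obtain ⟨j₃, w, hw, hk⟩ := hW.kill_rTensor_finset S j₂
    (s.image fun c => (qL π (G j₂)) (l₂ c) - (1 : G j₂) ⊗ₜ[R] c) (by
      intro z hz
      obtain ⟨c, -, rfl⟩ := Finset.mem_image.1 hz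
      rw [map_sub, sub_eq_zero, ← map_id_right_apply, ← map_id_right_apply, qL_nat]
      have h1 : Algebra.TensorProduct.map (g j₂) (AlgHom.id R (Thick π)) (l₂ c) = φ c :=
        AlgHom.congr_fun hl₂ c
      rw [h1]
      have h2 : qL π A (σ ((1 : A) ⊗ₜ[R] c)) = (1 : A) ⊗ₜ[R] c := AlgHom.congr_fun hσ _
      rw [Algebra.TensorProduct.map_tmul, map_one]
      exact h2)
  let l₃ : S →ₐ[R] G j₃ ⊗[R] Thick π :=
    (Algebra.TensorProduct.map w (AlgHom.id R (Thick π))).comp l₂
  have hEq : ((qL π (G j₃)).restrictScalars R).comp l₃ =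
      (Algebra.TensorProduct.includeRight : S →ₐ[R] G j₃ ⊗[R] S) := by
    apply AlgHom.ext_of_adjoin_eq_top hs
    intro c hc
    have h1 := hk _ (Finset.mem_image_of_mem _ hc)
    rw [map_sub, sub_eq_zero, ← map_id_right_apply, ← map_id_right_apply, qL_nat,
      Algebra.TensorProduct.map_tmul, map_one] at h1
    exact h1
  let σ₃ : G j₃ ⊗[R] S →ₐ[G j₃] G j₃ ⊗[R] Thick π :=
    Algebra.TensorProduct.lift (Algebra.ofId (G j₃) _) l₃ (fun _ _ => Commute.all _ _)
  have hσ₃ : (qL π (G j₃)).comp σ₃ = AlgHom.id _ _ := by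
    apply Algebra.TensorProduct.ext
    · ext
    · ext c
      show qL π (G j₃) (σ₃ ((1 : G j₃) ⊗ₜ[R] c)) = (1 : G j₃) ⊗ₜ[R] c
      rw [Algebra.TensorProduct.lift_tmul, map_one, one_mul]
      exact AlgHom.congr_fun hEq c
  exact ⟨j₃, w.comp v, by rw [← AlgHom.comp_assoc, hw, hv],
    formallySmooth_of_section π (G j₃) σ₃ hσ₃⟩

end SmoothDescent

section Persist

variable {R : Type*} [CommRing R] (S : Type*) [CommRing S] [Algebra R S]

/-- Formal unramifiedness of `L ⊗ S` over `L` passes along any `R`-algebra map `L → L'`. -/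
theorem formallyUnramified_of_algHom {L L' : Type*} [CommRing L] [Algebra R L] [CommRing L']
    [Algebra R L'] (u : L →ₐ[R] L') (h : Algebra.FormallyUnramified L (L ⊗[R] S)) :
    Algebra.FormallyUnramified L' (L' ⊗[R] S) := by
  let _ : Algebra L L' := u.toRingHom.toAlgebra
  have : IsScalarTower R L L' := IsScalarTower.of_algebraMap_eq (fun r => (u.commutes r).symm)
  exact Algebra.FormallyUnramified.of_equiv (Algebra.TensorProduct.cancelBaseChange R L L' L' S)

/-- Formal smoothness of `L ⊗ S` over `L` passes along any `R`-algebra map `L → L'`. -/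
theorem formallySmooth_of_algHom {L L' : Type*} [CommRing L] [Algebra R L] [CommRing L']
    [Algebra R L'] (u : L →ₐ[R] L') (h : Algebra.FormallySmooth L (L ⊗[R] S)) :
    Algebra.FormallySmooth L' (L' ⊗[R] S) := by
  let _ : Algebra L L' := u.toRingHom.toAlgebra
  have : IsScalarTower R L L' := IsScalarTower.of_algebraMap_eq (fun r => (u.commutes r).symm)
  exact Algebra.FormallySmooth.of_equiv (Algebra.TensorProduct.cancelBaseChange R L L' L' S)

variable {ι : Type*} {G : ι → Type*} [∀ i, CommRing (G i)]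
  [∀ i, Algebra R (G i)] {A : Type*} [CommRing A] [Algebra R A] {g : ∀ i, G i →ₐ[R] A}

/-- Smoothness descends. -/
theorem smooth_descent (hW : IsWeakColimAlg G g) [Algebra.FinitePresentation R S]
    (h : Algebra.FormallySmooth A (A ⊗[R] S)) (i₀ : ι) :
    ∃ (j : ι) (u : G i₀ →ₐ[R] G j), (g j).comp u = g i₀ ∧
      Algebra.FormallySmooth (G j) (G j ⊗[R] S) ∧
      Algebra.FinitePresentation (G j) (G j ⊗[R] S) := by
  obtain ⟨j, u, hu, hj⟩ := formallySmooth_descent S hW h i₀
  exact ⟨j, u, hu, hj, inferInstance⟩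

/-- Formal étaleness descends (for `S` of finite presentation). -/
theorem formallyEtale_descent (hW : IsWeakColimAlg G g) [Algebra.FinitePresentation R S]
    (h : Algebra.FormallyEtale A (A ⊗[R] S)) (i₀ : ι) :
    ∃ (j : ι) (u : G i₀ →ₐ[R] G j), (g j).comp u = g i₀ ∧
      Algebra.FormallyEtale (G j) (G j ⊗[R] S) := by
  obtain ⟨h1, h2⟩ := Algebra.FormallyEtale.iff_formallyUnramified_and_formallySmooth.1 h
  obtain ⟨j₁, u₁, hu₁, hj₁⟩ := formallyUnramified_descent S hW h1 i₀
  obtain ⟨j₂, u₂, hu₂, hj₂⟩ := formallySmooth_descent S hW h2 j₁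
  exact ⟨j₂, u₂.comp u₁, by rw [← AlgHom.comp_assoc, hu₂, hu₁],
    Algebra.FormallyEtale.iff_formallyUnramified_and_formallySmooth.2
      ⟨formallyUnramified_of_algHom S u₂ hj₁, hj₂⟩⟩

end Persist

end Groth.Agent.Lib.ColimSmooth96
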