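import Groth.Agent.Lib.LimDescentSrc
import Groth.Agent.Lib.ColimSmooth96
import Mathlib.AlgebraicGeometry.Morphisms.Smooth
import Mathlib.AlgebraicGeometry.Morphisms.Etale

/-!
# Descent of smooth / étale morphisms through cofiltered limits (EGA IV 17.7.8) (helper96)

On top of helper62's `LimDescent` framework: the affine case is the ring-level descent of
`Lib/ColimSmooth96` (formal smoothness / étaleness of `T ⊗[R] S` over `T = colim T_j`).
-/

set_option autoImplicit false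
universe u

open CategoryTheory Limits AlgebraicGeometry TensorProduct

namespace Groth.Agent.Lib.LimDescent

open Groth.Agent.Lib.LimPullback Groth.Agent.Lib.ColimTensor96

section Bridge

/-- For a pullback square of affine schemes, `Γ(P) = Γ(Y) ⊗_{Γ(Z)} Γ(X)` compatibly with `snd`. -/
theorem exists_ringEquiv_of_isPullback {P X Y Z : Scheme.{u}} [IsAffine X] [IsAffine Y]
    [IsAffine Z] {fst : P ⟶ X} {snd : P ⟶ Y} {f : X ⟶ Z} {g : Y ⟶ Z}
    (h : IsPullback fst snd f g) :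
    letI := g.appTop.hom.toAlgebra
    letI := f.appTop.hom.toAlgebra
    ∃ e : (Γ(Y, ⊤) ⊗[Γ(Z, ⊤)] Γ(X, ⊤)) ≃+* Γ(P, ⊤),
      (e : (Γ(Y, ⊤) ⊗[Γ(Z, ⊤)] Γ(X, ⊤)) →+* Γ(P, ⊤)).comp
        (algebraMap Γ(Y, ⊤) (Γ(Y, ⊤) ⊗[Γ(Z, ⊤)] Γ(X, ⊤))) = snd.appTop.hom := by
  let _ := g.appTop.hom.toAlgebra
  let _ := f.appTop.hom.toAlgebra
  have sq : IsPushout g.appTop f.appTop snd.appTop fst.appTop :=
    (isPushout_appTop_of_isPullback h).flip
  have sq' := CommRingCat.isPushout_tensorProduct Γ(Z, ⊤) Γ(Y, ⊤) Γ(X, ⊤)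
  have e1 : CommRingCat.ofHom (algebraMap Γ(Z, ⊤) Γ(Y, ⊤)) = g.appTop := rfl
  have e2 : CommRingCat.ofHom (algebraMap Γ(Z, ⊤) Γ(X, ⊤)) = f.appTop := rfl
  rw [e1, e2] at sq'
  refine ⟨(sq'.isoIsPushout _ _ sq).commRingCatIsoToRingEquiv, ?_⟩
  have h1 := IsPushout.inl_isoIsPushout_hom _ _ sq' sq
  ext y
  exact congr($h1 y)

end Bridge

section Affine

theorem appTop_comp_apply96 {A B C : Scheme.{u}} (p : A ⟶ B) (q : B ⟶ C) (x : Γ(C, ⊤)) :
    p.appTop (q.appTop x) = (p ≫ q).appTop x := rfl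

variable {I : Type u} [Category.{u} I] (D : I ⥤ Scheme.{u}) (c : Cone D)
variable {i₀ : I} {Y₀ : Scheme.{u}} (g₀ : Y₀ ⟶ D.obj i₀)

/-- Global sections of the stage `Y_j = Y₀ ×_{S_{i₀}} S_j`. -/
abbrev stageRing (j : Over i₀) : Type u := Γ(pullback g₀ (D.map j.hom), ⊤)

/-- Global sections of the limit `Y = Y₀ ×_{S_{i₀}} S`. -/
abbrev limRing : Type u := Γ(pullback g₀ (c.π.app i₀), ⊤)

/-- `Γ(Y_j)` as a `Γ(Y₀)`-algebra. -/
@[reducible] noncomputable def stageAlg (j : Over i₀) : Algebra Γ(Y₀, ⊤) (stageRing D g₀ j) :=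
  (pullback.fst g₀ (D.map j.hom)).appTop.hom.toAlgebra

/-- `Γ(Y)` as a `Γ(Y₀)`-algebra. -/
@[reducible] noncomputable def limAlg : Algebra Γ(Y₀, ⊤) (limRing D c g₀) :=
  (pullback.fst g₀ (c.π.app i₀)).appTop.hom.toAlgebra

attribute [local instance] stageAlg limAlg

/-- The map `Γ(Y_j) → Γ(Y)`. -/
noncomputable def stageToLim (j : Over i₀) : stageRing D g₀ j →ₐ[Γ(Y₀, ⊤)] limRing D c g₀ where
  toRingHom := (pbProj D c i₀ g₀ j).appTop.hom
  commutes' r := by
    change (pbProj D c i₀ g₀ j).appTop ((pullback.fst g₀ (D.map j.hom)).appTop r) =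
      (pullback.fst g₀ (c.π.app i₀)).appTop r
    rw [appTop_comp_apply96, pbProj_fst]

/-- The transition map `Γ(Y_k) → Γ(Y_j)` for `j ⟶ k`. -/
noncomputable def stageTrans {j k : Over i₀} (m : j ⟶ k) :
    stageRing D g₀ k →ₐ[Γ(Y₀, ⊤)] stageRing D g₀ j where
  toRingHom := (pbMap D i₀ g₀ m).appTop.hom
  commutes' r := by
    change (pbMap D i₀ g₀ m).appTop ((pullback.fst g₀ (D.map k.hom)).appTop r) =
      (pullback.fst g₀ (D.map j.hom)).appTop r
    rw [appTop_comp_apply96, pbMap_fst]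

theorem stageToLim_comp_stageTrans {j k : Over i₀} (m : j ⟶ k) :
    (stageToLim D c g₀ j).comp (stageTrans D g₀ m) = stageToLim D c g₀ k := by
  ext x
  change (pbProj D c i₀ g₀ j).appTop ((pbMap D i₀ g₀ m).appTop x) = (pbProj D c i₀ g₀ k).appTop x
  rw [appTop_comp_apply96, pbProj_pbMap]

variable [IsCofiltered I] (hc : IsLimit c) [∀ {i j} (f : i ⟶ j), IsAffineHom (D.map f)]
  [IsAffine Y₀]

include hc in
/-- The rings of global sections of the stages form a weak filtered colimit system with colimit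
the global sections of the limit. -/
theorem isWeakColimAlg_stage : IsWeakColimAlg (stageRing D g₀) (stageToLim D c g₀) := by
  have : ∀ j : Over i₀, IsAffine ((pbDiagram D i₀ g₀).obj j) := fun j =>
    (inferInstance : IsAffine (pullback g₀ (D.map j.hom)))
  refine ⟨⟨Over.mk (𝟙 i₀)⟩, fun j j' => ?_, fun a => ?_, fun j x hx => ?_⟩
  · exact ⟨IsCofiltered.min j j', stageTrans D g₀ (IsCofiltered.minToLeft j j'),
      stageTrans D g₀ (IsCofiltered.minToRight j j'), stageToLim_comp_stageTrans D c g₀ _,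
      stageToLim_comp_stageTrans D c g₀ _⟩
  · obtain ⟨j, t, ht⟩ := exists_appTop_π_eq_of_isAffine_of_isLimit (pbDiagram D i₀ g₀)
      (pbCone D c i₀ g₀) (isLimitPbCone hc) a
    exact ⟨j, t, ht⟩
  · obtain ⟨k, m, hk⟩ := exists_appTop_map_eq_zero_of_isAffine_of_isLimit (pbDiagram D i₀ g₀)
      (pbCone D c i₀ g₀) (isLimitPbCone hc) j x hx
    exact ⟨k, stageTrans D g₀ m, stageToLim_comp_stageTrans D c g₀ m, hk⟩

variable {X₀ : Scheme.{u}} (f₀ : X₀ ⟶ Y₀) [IsAffine X₀]

include hc in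
/-- Generic affine case: a property of morphisms given by a property of ring maps descends to a
finite stage as soon as the ring-level descent through weak colimits holds. -/
theorem exists_stage_of_isAffine_of_ringDescent (P : MorphismProperty Scheme.{u})
    (Q : ∀ {R S : Type u} [CommRing R] [CommRing S], (R →+* S) → Prop) [HasRingHomProperty P Q]
    (HQ : letI := f₀.appTop.hom.toAlgebra
      IsWeakColimAlg (stageRing D g₀) (stageToLim D c g₀) →
      Q (algebraMap (limRing D c g₀) (limRing D c g₀ ⊗[Γ(Y₀, ⊤)] Γ(X₀, ⊤))) →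
      ∃ j : Over i₀, Q (algebraMap (stageRing D g₀ j) (stageRing D g₀ j ⊗[Γ(Y₀, ⊤)] Γ(X₀, ⊤))))
    (h : P (bcMap f₀ g₀ (c.π.app i₀))) : ∃ j : Over i₀, P (bcMap f₀ g₀ (D.map j.hom)) := by
  have := isAffineHom_π_app D c hc i₀
  have : IsAffine (pullback g₀ (c.π.app i₀)) := inferInstance
  have : IsAffine (pullback (f₀ ≫ g₀) (c.π.app i₀)) := inferInstance
  have hiso : RingHom.RespectsIso Q := (HasRingHomProperty.isLocal_ringHomProperty P).respectsIso
  let _ := f₀.appTop.hom.toAlgebra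
  obtain ⟨e, he⟩ := exists_ringEquiv_of_isPullback (isPullback_bcMap f₀ g₀ (c.π.app i₀))
  have h1 : Q (bcMap f₀ g₀ (c.π.app i₀)).appTop.hom :=
    (HasRingHomProperty.iff_of_isAffine (P := P)).mp h
  have h2 : Q (algebraMap (limRing D c g₀) (limRing D c g₀ ⊗[Γ(Y₀, ⊤)] Γ(X₀, ⊤))) := by
    have h3 : algebraMap (limRing D c g₀) (limRing D c g₀ ⊗[Γ(Y₀, ⊤)] Γ(X₀, ⊤)) =
        (e.symm : _ →+* _).comp (bcMap f₀ g₀ (c.π.app i₀)).appTop.hom := by
      rw [← he]
      ext x
      simp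
    rw [h3]
    exact hiso.1 _ e.symm h1
  obtain ⟨j, hj⟩ := HQ (isWeakColimAlg_stage D c g₀ hc) h2
  refine ⟨j, ?_⟩
  have : IsAffine (pullback g₀ (D.map j.hom)) := inferInstance
  have : IsAffine (pullback (f₀ ≫ g₀) (D.map j.hom)) := inferInstance
  obtain ⟨e', he'⟩ := exists_ringEquiv_of_isPullback (isPullback_bcMap f₀ g₀ (D.map j.hom))
  rw [HasRingHomProperty.iff_of_isAffine (P := P), ← he']
  exact hiso.1 _ e' hj

include hc in
/-- Affine case of the descent of smoothness. -/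
theorem exists_smooth_stage_of_isAffine [LocallyOfFinitePresentation f₀]
    (h : Smooth (bcMap f₀ g₀ (c.π.app i₀))) : ∃ j : Over i₀, Smooth (bcMap f₀ g₀ (D.map j.hom)) := by
  refine exists_stage_of_isAffine_of_ringDescent D c g₀ hc f₀ @Smooth RingHom.Smooth ?_ h
  let _ : Algebra Γ(Y₀, ⊤) Γ(X₀, ⊤) := f₀.appTop.hom.toAlgebra
  intro hW hQ
  have hfp : Algebra.FinitePresentation Γ(Y₀, ⊤) Γ(X₀, ⊤) :=
    (HasRingHomProperty.iff_of_isAffine (P := @LocallyOfFinitePresentation)).mp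
      (inferInstance : LocallyOfFinitePresentation f₀)
  rw [RingHom.smooth_algebraMap] at hQ
  obtain ⟨j, -, -, hj⟩ := Groth.Agent.Lib.ColimSmooth96.formallySmooth_descent Γ(X₀, ⊤) hW
    hQ.formallySmooth (Over.mk (𝟙 i₀))
  refine ⟨j, ?_⟩
  rw [RingHom.smooth_algebraMap]
  exact ⟨hj, inferInstance⟩

include hc in
/-- Affine case of the descent of étaleness. -/
theorem exists_etale_stage_of_isAffine [LocallyOfFinitePresentation f₀]
    (h : Etale (bcMap f₀ g₀ (c.π.app i₀))) : ∃ j : Over i₀, Etale (bcMap f₀ g₀ (D.map j.hom)) := by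
  refine exists_stage_of_isAffine_of_ringDescent D c g₀ hc f₀ @Etale RingHom.Etale ?_ h
  let _ : Algebra Γ(Y₀, ⊤) Γ(X₀, ⊤) := f₀.appTop.hom.toAlgebra
  intro hW hQ
  have hfp : Algebra.FinitePresentation Γ(Y₀, ⊤) Γ(X₀, ⊤) :=
    (HasRingHomProperty.iff_of_isAffine (P := @LocallyOfFinitePresentation)).mp
      (inferInstance : LocallyOfFinitePresentation f₀)
  rw [RingHom.etale_algebraMap] at hQ
  obtain ⟨j, -, -, hj⟩ := Groth.Agent.Lib.ColimSmooth96.formallyEtale_descent Γ(X₀, ⊤) hW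
    hQ.formallyEtale (Over.mk (𝟙 i₀))
  refine ⟨j, ?_⟩
  rw [RingHom.etale_algebraMap]
  exact ⟨hj, inferInstance⟩

end Affine

section Stage

variable {I : Type u} [Category.{u} I] (D : I ⥤ Scheme.{u}) (c : Cone D) [IsCofiltered I]
variable {i₀ : I} {X₀ Y₀ : Scheme.{u}} (f₀ : X₀ ⟶ Y₀) (g₀ : Y₀ ⟶ D.obj i₀)
variable (hc : IsLimit c) [∀ {i j} (f : i ⟶ j), IsAffineHom (D.map f)]

include hc in
/-- Descent of smoothness with only `X₀` quasi-compact. -/
theorem exists_smooth_stage_of_compactSpace [CompactSpace X₀]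
    [LocallyOfFinitePresentation f₀] (h : Smooth (bcMap f₀ g₀ (c.π.app i₀))) :
    ∃ j : Over i₀, Smooth (bcMap f₀ g₀ (D.map j.hom)) := by
  have : IsZariskiLocalAtSource @Smooth.{u} := HasRingHomProperty.instIsZariskiLocalAtSource
  refine exists_stage_of_compactSpace D c f₀ g₀ @Smooth (fun ι _ => inferInstance)
    (fun U V hU hV e h' => ?_) h
  have : IsAffine U := hU
  have : IsAffine V := hV
  exact exists_smooth_stage_of_isAffine D c _ hc _ h'

include hc in
/-- Descent of étaleness with only `X₀` quasi-compact. -/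
theorem exists_etale_stage_of_compactSpace [CompactSpace X₀]
    [LocallyOfFinitePresentation f₀] (h : Etale (bcMap f₀ g₀ (c.π.app i₀))) :
    ∃ j : Over i₀, Etale (bcMap f₀ g₀ (D.map j.hom)) := by
  have : IsZariskiLocalAtSource @Etale.{u} := HasRingHomProperty.instIsZariskiLocalAtSource
  have : MorphismProperty.IsStableUnderComposition @Etale.{u} :=
    (inferInstance : MorphismProperty.IsMultiplicative @Etale.{u}).toIsStableUnderComposition
  refine exists_stage_of_compactSpace D c f₀ g₀ @Etale (fun ι _ => inferInstance)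
    (fun U V hU hV e h' => ?_) h
  have : IsAffine U := hU
  have : IsAffine V := hV
  exact exists_etale_stage_of_isAffine D c _ hc _ h'

end Stage

end Groth.Agent.Lib.LimDescent
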