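import Mathlib
import Groth.Agent.Lib.H86Limits3
import Groth.Agent.Lib.H86QcProd
import Groth.Agent.Lib.AlgSpStrongChart36
import Groth.Agent.Lib.AlgSpLocP
import Groth.Agent.Lib.AlgSpLocP2
import Groth.Agent.Lib.AlgSpQC
import Groth.Agent.S9191
import Groth.Agent.S9192
import Groth.Agent.S2075
import Groth.Agent.S2581

/-!
# Descent of properties of morphisms through cofiltered limits of algebraic spaces (helper83)

Frame (Stacks, Limits of Spaces 70.6): `B = lim B_i` cofiltered limit of algebraic spaces over `S` (quasi-separated) with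
affine transition maps, `f₀ : X₀ ⟶ Y₀` over `B_{i₀}` with `X₀`, `Y₀` quasi-compact, `Y₀` quasi-separated, `f_i`, `f` the base
changes.

* `exists_chart_of_baseChange`, `exists_strongChart_of_baseChange` : charts of base changes.
* `exists_affine_system` : the system of affine schemes `V_j = B_j ×_{B_{i₀}} V₀` with its limit (uses helper86 `H86Limits`).
* `AffLimDescends P` : scheme-level input (`P` descends through limits of affine schemes); instances for `Smooth`, `Etale`,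
  `Flat`, `Surjective` from S9191, S9192, S2075, S2581.
* `descend_of_chart` : generic descent theorem for a property read off strong étale charts.
* `descend_locP`, `descend_isEtaleMor`, `descend_isSurjectiveMor`.
-/

set_option autoImplicit false
set_option linter.style.haveILetI false
universe u
open CategoryTheory CategoryTheory.Limits AlgebraicGeometry Opposite

namespace Groth.Agent.Lib.AlgSpLimDesc83

open AlgSp Groth.Agent.Lib.AlgSpBasic Groth.Agent.Lib.AlgSpStrongChart36 Groth.Agent.Lib.H86Limits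
  Groth.Agent.Lib.AlgSpLocP

variable {S : Scheme.{u}}

/-- Chart of a base change of the target: if `h_{V'} = B' ×_{B₀} h_{V₀}` and `Y' = Y₀ ×_{B₀} B'`, then
`h_{V'} = Y' ×_{Y₀} h_{V₀}`. -/
theorem exists_chart_of_baseChange {Y₀ B₀ B' Y' : Sp S} {b₀ : Y₀ ⟶ B₀} {β : B' ⟶ B₀}
    {pY : Y' ⟶ Y₀} {qY : Y' ⟶ B'} (hY : IsPullback pY qY b₀ β)
    {V₀ V' : Over S} (v₀ : (yon S).obj V₀ ⟶ Y₀) (w : V' ⟶ V₀) (t : (yon S).obj V' ⟶ B')
    (sq : IsPullback t ((yon S).map w) β (v₀ ≫ b₀)) :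
    ∃ b' : (yon S).obj V' ⟶ Y', b' ≫ pY = (yon S).map w ≫ v₀ ∧ b' ≫ qY = t ∧
      IsPullback b' ((yon S).map w) pY v₀ := by
  have hw : ((yon S).map w ≫ v₀) ≫ b₀ = t ≫ β := by rw [Category.assoc]; exact sq.w.symm
  refine ⟨hY.lift _ _ hw, hY.lift_fst _ _ hw, hY.lift_snd _ _ hw, ?_⟩
  refine IsPullback.of_right (h₁₂ := qY) (v₁₃ := β) (h₂₂ := b₀) ?_ (hY.lift_fst _ _ hw) hY.flip
  rw [hY.lift_snd _ _ hw]
  exact sq

/-- Strong chart of a base change, from a scheme-level pullback square. -/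
theorem exists_strongChart_of_baseChange {X₀ Y₀ X' Y' : Sp S} {f₀ : X₀ ⟶ Y₀} {pY : Y' ⟶ Y₀}
    {pX : X' ⟶ X₀} {f' : X' ⟶ Y'} (hX : IsPullback pX f' f₀ pY) {U₀ V₁ : Over S}
    {a₀ : (yon S).obj U₀ ⟶ X₀} {b : (yon S).obj V₁ ⟶ Y₀} {u₀ : U₀ ⟶ V₁}
    (hch : IsStrongChart f₀ a₀ b u₀) {V' : Over S} (b' : (yon S).obj V' ⟶ Y') (gV : V' ⟶ V₁)
    (hb' : b' ≫ pY = (yon S).map gV ≫ b) {U' : Over S} (pr₁ : U' ⟶ U₀) (pr₂ : U' ⟶ V')
    (sqU : IsPullback pr₁.left pr₂.left u₀.left gV.left) :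
    ∃ a' : (yon S).obj U' ⟶ X', IsStrongChart f' a' b' pr₂ := by
  have hw : pr₁ ≫ u₀ = pr₂ ≫ gV := by
    ext
    simpa using sqU.w
  have hc : ((yon S).map pr₁ ≫ a₀) ≫ f₀ = ((yon S).map pr₂ ≫ b') ≫ pY := by
    rw [Category.assoc, hch.comm, ← Category.assoc, ← Functor.map_comp, hw, Functor.map_comp,
      Category.assoc, Category.assoc, hb']
  exact ⟨hX.lift _ _ hc, hch.baseChange hX b' gV hb' pr₁ pr₂ sqU _ (hX.lift_fst _ _ hc)
    (hX.lift_snd _ _ hc)⟩

section System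

variable {I : Type u} [SmallCategory I] [IsCofiltered I] (D : I ⥤ Sp S)
  (hDa : ∀ (i j : I) (φ : i ⟶ j), IsAffineMor (D.map φ)) (c : Cone D) (hc : IsLimit c) (i₀ : I)
  {V₀ : Over S} (hV₀ : IsAffine V₀.left) (z : (yon S).obj V₀ ⟶ D.obj i₀)

include hDa hc hV₀ in
/-- The system of affine schemes `V_j = B_j ×_{B_{i₀}} V₀` (`j ⟶ i₀`) with its limit `B ×_{B_{i₀}} V₀`. -/
theorem exists_affine_system :
    ∃ (𝒱 : Over i₀ ⥤ Over S) (w : ∀ j, 𝒱.obj j ⟶ V₀)
      (t : ∀ j : Over i₀, (yon S).obj (𝒱.obj j) ⟶ D.obj j.left)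
      (cW : Cone 𝒱) (_ : IsLimit cW) (tl : (yon S).obj cW.pt ⟶ c.pt),
      (∀ j, IsAffine (𝒱.obj j).left) ∧ IsAffine cW.pt.left ∧
      (∀ j : Over i₀, IsPullback (t j) ((yon S).map (w j)) (D.map j.hom) z) ∧
      (∀ {j k : Over i₀} (φ : j ⟶ k), 𝒱.map φ ≫ w k = w j) ∧
      (∀ j, IsPullback tl ((yon S).map (cW.π.app j ≫ w j)) (c.π.app i₀) z) := by
  choose W w fst sq hWaff using fun j : Over i₀ => hDa j.left i₀ j.hom hV₀ z
  let e : ∀ j : Over i₀, (yon S).obj (W j) ≅ (pbDiagram D i₀ z).obj j := fun j => (sq j).isoPullback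
  have he1 : ∀ j, (e j).hom ≫ pbFst D i₀ z j = fst j := fun j => (sq j).isoPullback_hom_fst
  have he2 : ∀ j, (e j).hom ≫ pbSnd D i₀ z j = (yon S).map (w j) := fun j =>
    (sq j).isoPullback_hom_snd
  haveI : IsConnected (Over i₀) := IsCofiltered.isConnected _
  obtain ⟨cW, hcW, el, haff, hel⟩ := exists_limit_liftYon (pbDiagram D i₀ z) W hWaff e
    (pbCone D c i₀ z) (isLimitPbCone i₀ z hc)
  let 𝒱 : Over i₀ ⥤ Over S := liftYon (pbDiagram D i₀ z) W e
  let w' : ∀ j, 𝒱.obj j ⟶ V₀ := w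
  let e' : ∀ j : Over i₀, (yon S).obj (𝒱.obj j) ≅ (pbDiagram D i₀ z).obj j := e
  have he2' : ∀ j, (e' j).hom ≫ pbSnd D i₀ z j = (yon S).map (w' j) := he2
  have h0 : ∀ {j k : Over i₀} (φ : j ⟶ k),
      (yon S).map (𝒱.map φ) = (e' j).hom ≫ (pbDiagram D i₀ z).map φ ≫ (e' k).inv :=
    fun φ => yon_map_liftYon_map _ W e φ
  have hel' : ∀ j : Over i₀,
      el.hom ≫ (pbCone D c i₀ z).π.app j = (yon S).map (cW.π.app j) ≫ (e' j).hom := hel
  have hcompat : ∀ {j k : Over i₀} (φ : j ⟶ k), 𝒱.map φ ≫ w' k = w' j := by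
    intro j k φ
    apply (yon S).map_injective
    rw [Functor.map_comp, h0, Category.assoc, Category.assoc, ← he2' k, Iso.inv_hom_id_assoc,
      pbDiagram_map_snd, he2']
  refine ⟨𝒱, w', fst, cW, hcW, el.hom ≫ pbConeFst D c i₀ z, hWaff, haff, sq, hcompat,
    fun j => ?_⟩
  have h1 : (yon S).map (cW.π.app j ≫ w' j) = el.hom ≫ pbConeSnd D c i₀ z := by
    rw [Functor.map_comp, ← he2' j, ← Category.assoc, ← hel' j, Category.assoc, pbCone_π_snd]
  rw [h1]
  exact IsPullback.of_iso_pullback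
    ⟨by rw [Category.assoc, Category.assoc, pbCone_condition]⟩ el rfl rfl

end System

/-- Scheme-level input: `P` descends from a cofiltered limit of affine schemes to a finite stage, for base
changes of a morphism locally of finite presentation from an affine scheme. -/
def AffLimDescends (P : MorphismProperty Scheme.{u}) : Prop :=
  ∀ {J : Type u} [SmallCategory J] [IsCofiltered J] (E : J ⥤ Scheme.{u}) (c : Cone E) (_ : IsLimit c)
    (_ : ∀ j, IsAffine (E.obj j)) (j₀ : J) {X₀ : Scheme.{u}} (_ : IsAffine X₀) (f₀ : X₀ ⟶ E.obj j₀)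
    (_ : LocallyOfFinitePresentation f₀) {X : Scheme.{u}} (f : X ⟶ c.pt) (qX : X ⟶ X₀)
    (_ : IsPullback qX f f₀ (c.π.app j₀)), P f →
    ∃ (j : J) (φ : j ⟶ j₀) (Xj : Scheme.{u}) (fj : Xj ⟶ E.obj j) (pX : Xj ⟶ X₀),
      IsPullback pX fj f₀ (E.map φ) ∧ P fj

/-- Adaptor from the general scheme-level form (with `g₀ = 𝟙`). -/
theorem affLimDescends_of (P : MorphismProperty Scheme.{u}) [P.RespectsIso]
    (h : ∀ {I : Type u} [SmallCategory I] [IsCofiltered I] (D : I ⥤ Scheme.{u}) (c : Cone D)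
      (_ : IsLimit c) (_ : ∀ i, IsAffine (D.obj i)) (i₀ : I) {X₀ : Scheme.{u}} (_ : IsAffine X₀)
      (f₀ : X₀ ⟶ D.obj i₀) (_ : LocallyOfFinitePresentation f₀) {X : Scheme.{u}} (f : X ⟶ c.pt)
      (qX : X ⟶ X₀)
      (_ : IsPullback (c.π.app i₀) (𝟙 c.pt) (𝟙 (D.obj i₀)) (c.π.app i₀))
      (_ : IsPullback qX f f₀ (c.π.app i₀)), P f →
      ∃ (i : I) (φ : i ⟶ i₀) (Xi Yi : Scheme.{u}) (fi : Xi ⟶ Yi) (gi : Yi ⟶ D.obj i)
        (pY : Yi ⟶ D.obj i₀) (pX : Xi ⟶ X₀), IsPullback pY gi (𝟙 (D.obj i₀)) (D.map φ) ∧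
          IsPullback pX fi f₀ pY ∧ P fi) : AffLimDescends P := by
  intro J _ _ E c hc hE j₀ X₀ hX₀ f₀ hf₀ X f qX hX hPf
  have hY : IsPullback (c.π.app j₀) (𝟙 c.pt) (𝟙 (E.obj j₀)) (c.π.app j₀) := by
    haveI : IsIso (𝟙 c.pt) := IsIso.id _
    haveI : IsIso (𝟙 (E.obj j₀)) := IsIso.id _
    exact IsPullback.of_vert_isIso ⟨by simp⟩
  obtain ⟨i, φ, Xi, Yi, fi, gi, pY, pX, h1, h2, h3⟩ := h E c hc hE j₀ hX₀ f₀ hf₀ f qX hY hX hPf
  haveI : IsIso (𝟙 (E.obj j₀)) := IsIso.id _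
  haveI : IsIso gi := IsPullback.isIso_snd_of_isIso h1
  have hpY : pY = gi ≫ E.map φ := by simpa using h1.w
  refine ⟨i, φ, Xi, fi ≫ gi, pX, ?_, (P.cancel_right_of_respectsIso fi gi).2 h3⟩
  subst hpY
  exact IsPullback.of_iso h2 (Iso.refl _) (Iso.refl _) (asIso gi) (Iso.refl _) (by simp) (by simp)
    (by simp) (by simp)

theorem affLimDescends_smooth : AffLimDescends (@Smooth : MorphismProperty Scheme.{u}) := by
  apply affLimDescends_of
  intro I _ _ D c hc hD i₀ X₀ hX₀ f₀ hf₀ X f qX hY hX hf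
  haveI := hD
  haveI : Smooth f := hf
  exact Groth.Agent.S9191.result D c hc i₀ f₀ (𝟙 _) f (𝟙 _) (c.π.app i₀) qX hY hX

theorem affLimDescends_etale : AffLimDescends (@Etale : MorphismProperty Scheme.{u}) := by
  apply affLimDescends_of
  intro I _ _ D c hc hD i₀ X₀ hX₀ f₀ hf₀ X f qX hY hX hf
  haveI := hD
  haveI : Etale f := hf
  exact Groth.Agent.S9192.result D c hc i₀ f₀ (𝟙 _) f (𝟙 _) (c.π.app i₀) qX hY hX

theorem affLimDescends_flat : AffLimDescends (@Flat : MorphismProperty Scheme.{u}) := by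
  apply affLimDescends_of
  intro I _ _ D c hc hD i₀ X₀ hX₀ f₀ hf₀ X f qX hY hX hf
  haveI := hD
  haveI : Flat f := hf
  exact Groth.Agent.S2075.result D c hc i₀ f₀ (𝟙 _) f (𝟙 _) (c.π.app i₀) qX hY hX

theorem affLimDescends_surjective : AffLimDescends (@Surjective : MorphismProperty Scheme.{u}) := by
  apply affLimDescends_of
  intro I _ _ D c hc hD i₀ X₀ hX₀ f₀ hf₀ X f qX hY hX hf
  haveI := hD
  haveI : Surjective f := hf
  exact Groth.Agent.S2581.result D c hc i₀ f₀ (𝟙 _) f (𝟙 _) (c.π.app i₀) qX hY hX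


section Main

variable (P : MorphismProperty Scheme.{u}) (Q : MorphismProperty (Sp S))

/-- **Descent through limits of algebraic spaces, chart form.**  If `P` descends through limits of affine schemes,
and the property `Q` of morphisms of sheaves is read off strong étale charts by `P`, then `Q` descends through cofiltered
limits of algebraic spaces with affine transition maps. -/
theorem descend_of_chart (hlim : AffLimDescends P)
    (hup : ∀ {X Y : Sp S} (f : X ⟶ Y), IsAlgSpace X → IsAlgSpace Y → ∀ {U V : Over S}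
      (a : (yon S).obj U ⟶ X) (b : (yon S).obj V ⟶ Y) (k : U ⟶ V), IsStrongChart f a b k →
        RepWith @Etale b → Q f → P k.left)
    (hdown : ∀ {X Y : Sp S} (f : X ⟶ Y), IsAlgSpace X → IsAlgSpace Y → ∀ {U V : Over S}
      (a : (yon S).obj U ⟶ X) (b : (yon S).obj V ⟶ Y) (k : U ⟶ V), IsStrongChart f a b k →
        RepWith @Etale b → RepWith @Surjective b → P k.left → Q f)
    [QuasiSeparatedSpace S] {I : Type u} [SmallCategory I] [IsCofiltered I]
    (D : I ⥤ Sp S) (hD : ∀ i, IsAlgSpace (D.obj i))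
    (hDa : ∀ (i j : I) (φ : i ⟶ j), IsAffineMor (D.map φ))
    (c : Cone D) (hc : IsLimit c) (i₀ : I)
    {X₀ Y₀ : Sp S} (hX₀ : IsAlgSpace X₀) (hY₀ : IsAlgSpace Y₀) (f₀ : X₀ ⟶ Y₀) (b₀ : Y₀ ⟶ D.obj i₀)
    (hXqc : IsQuasiCompactSp X₀) (hYqc : IsQuasiCompactSp Y₀) (hYqs : IsQuasiSeparatedSp Y₀)
    {X Y : Sp S} (f : X ⟶ Y) (pY : Y ⟶ Y₀) (qY : Y ⟶ c.pt)
    (hY : IsPullback pY qY b₀ (c.π.app i₀)) (pX : X ⟶ X₀) (hX : IsPullback pX f f₀ pY)
    (hf : Q f) (hf₀ : LocP @LocallyOfFinitePresentation f₀) :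
    ∃ (i : I) (φ : i ⟶ i₀), ∀ (Xi Yi : Sp S) (fi : Xi ⟶ Yi) (pYi : Yi ⟶ Y₀) (qYi : Yi ⟶ D.obj i)
      (_ : IsPullback pYi qYi b₀ (D.map φ)) (pXi : Xi ⟶ X₀) (_ : IsPullback pXi fi f₀ pYi),
      Q fi := by
  -- affine chart of `Y₀`
  obtain ⟨V₀, v₀, hV₀, hv₀e, hv₀s⟩ := exists_affine_chart_of_isQuasiCompactSp hYqc
  obtain ⟨𝒱, w, t, cW, hcW, tl, h𝒱aff, hcWaff, hsq, hcompat, hsql⟩ :=
    exists_affine_system D hDa c hc i₀ hV₀ (v₀ ≫ b₀)
  let j₀ : Over i₀ := Over.mk (𝟙 i₀)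
  -- `w j₀` is an isomorphism
  have hwiso : IsIso ((yon S).map (w j₀)) := by
    have h1 : IsIso (D.map j₀.hom) := inferInstanceAs (IsIso (D.map (𝟙 i₀)))
    exact IsPullback.isIso_snd_of_isIso (hsq j₀)
  -- chart of `Y₀` over `V₁ = 𝒱 j₀`
  let b : (yon S).obj (𝒱.obj j₀) ⟶ Y₀ := (yon S).map (w j₀) ≫ v₀
  have hbe : RepWith @Etale b := (MorphismProperty.cancel_left_of_respectsIso _ _ _).2 hv₀e
  have hbs : RepWith @Surjective b := (MorphismProperty.cancel_left_of_respectsIso _ _ _).2 hv₀s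
  -- affine strong chart of `f₀`
  have hV₁qc : IsQuasiCompactSp ((yon S).obj (𝒱.obj j₀)) := by
    rw [Groth.Agent.Lib.AlgSpQC.isQuasiCompactSp_yon_iff]
    haveI := h𝒱aff j₀
    infer_instance
  have hW₀qc : IsQuasiCompactSp (pullback f₀ b) :=
    Groth.Agent.Lib.H86QcProd.isQuasiCompactSp_of_isPullback_of_quasiSeparated hYqs
      (IsPullback.of_hasPullback f₀ b) hXqc hV₁qc
  obtain ⟨U₀, e₀, hU₀, he₀e, he₀s⟩ := exists_affine_chart_of_isQuasiCompactSp hW₀qc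
  let a₀ : (yon S).obj U₀ ⟶ X₀ := e₀ ≫ pullback.fst f₀ b
  let u₀ : U₀ ⟶ 𝒱.obj j₀ := (yon S).preimage (e₀ ≫ pullback.snd f₀ b)
  have hu₀ : (yon S).map u₀ = e₀ ≫ pullback.snd f₀ b := (yon S).map_preimage _
  have hcomm₀ : a₀ ≫ f₀ = (yon S).map u₀ ≫ b := by
    rw [hu₀, Category.assoc, Category.assoc, pullback.condition]
  have hlift₀ : pullback.lift a₀ ((yon S).map u₀) hcomm₀ = e₀ := by
    apply pullback.hom_ext
    · rw [pullback.lift_fst]
    · rw [pullback.lift_snd, hu₀]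
  have hch : IsStrongChart f₀ a₀ b u₀ := ⟨hcomm₀, by rw [hlift₀]; exact he₀e, by rw [hlift₀]; exact he₀s⟩
  haveI hu₀lfp : LocallyOfFinitePresentation u₀.left :=
    hf₀ a₀ b u₀ (hch.repWith_etale hbe) hbe hcomm₀
  -- the system of schemes
  haveI : IsConnected (Over i₀) := IsCofiltered.isConnected _
  let E : Over i₀ ⥤ Scheme.{u} := 𝒱 ⋙ Over.forget S
  let cE : Cone E := (Over.forget S).mapCone cW
  have hcE : IsLimit cE := isLimitMapConeForget hcW
  -- the chart of `f` at the limit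
  let T : Scheme.{u} := pullback u₀.left (cW.π.app j₀).left
  let p₁ : T ⟶ U₀.left := pullback.fst _ _
  let p₂ : T ⟶ cW.pt.left := pullback.snd _ _
  have sqT : IsPullback p₁ p₂ u₀.left (cW.π.app j₀).left := IsPullback.of_hasPullback _ _
  let U' : Over S := Over.mk (p₁ ≫ U₀.hom)
  let pr₁ : U' ⟶ U₀ := Over.homMk p₁ rfl
  have hw₂ : p₂ ≫ cW.pt.hom = p₁ ≫ U₀.hom := by
    have h3 : (cW.π.app j₀).left ≫ (𝒱.obj j₀).hom = cW.pt.hom := Over.w (cW.π.app j₀)
    rw [← h3, ← Category.assoc, ← sqT.w, Category.assoc, Over.w u₀]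
  let pr₂ : U' ⟶ cW.pt := Over.homMk p₂ hw₂
  obtain ⟨bl, hbl1, -, hblsq⟩ :=
    exists_chart_of_baseChange hY v₀ (cW.π.app j₀ ≫ w j₀) tl (hsql j₀)
  have hble : RepWith @Etale bl := repWith_fst_of_isPullback _ hblsq hv₀e
  have hbl' : bl ≫ pY = (yon S).map (cW.π.app j₀) ≫ b := by
    rw [hbl1, Functor.map_comp, Category.assoc]
  obtain ⟨al, hal⟩ := exists_strongChart_of_baseChange hX hch bl (cW.π.app j₀) hbl' pr₁ pr₂ sqT
  have hB_alg : IsAlgSpace c.pt := (isAlgSpace_of_isLimit_of_isAffineMor D hD hDa c hc).1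
  have hY_alg : IsAlgSpace Y :=
    isAlgSpace_of_isPullback hY₀ hB_alg (fun _ a => (hD i₀).representable_from_yon a) hY
  have hX_alg : IsAlgSpace X :=
    isAlgSpace_of_isPullback hX₀ hY_alg (fun _ a => hY₀.representable_from_yon a) hX
  have hPp₂ : P p₂ := hup f hX_alg hY_alg al bl pr₂ hal hble hf
  obtain ⟨j, φ', Xj, fj, pXj, sqj, hPfj⟩ :=
    hlim E cE hcE (fun j => h𝒱aff j) j₀ hU₀ u₀.left hu₀lfp p₂ p₁ sqT hPp₂
  refine ⟨j.left, j.hom, ?_⟩
  intro Xi Yi fi pYi qYi hYi pXi hXi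
  have hwj : w j = 𝒱.map φ' ≫ w j₀ := (hcompat φ').symm
  obtain ⟨bj, hbj1, -, hbjsq⟩ := exists_chart_of_baseChange hYi v₀ (w j) (t j) (hsq j)
  have hbje : RepWith @Etale bj := repWith_fst_of_isPullback _ hbjsq hv₀e
  have hbjs : RepWith @Surjective bj := repWith_fst_of_isPullback _ hbjsq hv₀s
  have hbj' : bj ≫ pYi = (yon S).map (𝒱.map φ') ≫ b := by
    rw [hbj1, hwj, Functor.map_comp, Category.assoc]
  let Uj : Over S := Over.mk (pXj ≫ U₀.hom)
  let q₁ : Uj ⟶ U₀ := Over.homMk pXj rfl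
  let fj' : Xj ⟶ (𝒱.obj j).left := fj
  have hPfj' : P fj' := hPfj
  have sqj' : IsPullback pXj fj' u₀.left (𝒱.map φ').left := sqj
  have hwq : fj' ≫ (𝒱.obj j).hom = pXj ≫ U₀.hom := by
    have h3 : (𝒱.map φ').left ≫ (𝒱.obj j₀).hom = (𝒱.obj j).hom := Over.w (𝒱.map φ')
    rw [← h3, ← Category.assoc, ← sqj'.w, Category.assoc, Over.w u₀]
  let q₂ : Uj ⟶ 𝒱.obj j := Over.homMk fj' hwq
  obtain ⟨aj, haj⟩ := exists_strongChart_of_baseChange hXi hch bj (𝒱.map φ') hbj' q₁ q₂ sqj'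
  have hYi_alg : IsAlgSpace Yi :=
    isAlgSpace_of_isPullback hY₀ (hD j.left) (fun _ a => (hD i₀).representable_from_yon a) hYi
  have hXi_alg : IsAlgSpace Xi :=
    isAlgSpace_of_isPullback hX₀ hYi_alg (fun _ a => hY₀.representable_from_yon a) hXi
  exact hdown fi hXi_alg hYi_alg aj bj q₂ haj hbje hbjs hPfj'

end Main

theorem points_map_comp {F G H : Sp S} (f : F ⟶ G) (g : G ⟶ H) :
    Points.map (f ≫ g) = Points.map g ∘ Points.map f :=
  funext fun x => Points.map_comp f g x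

section Instances

variable [QuasiSeparatedSpace S] {I : Type u} [SmallCategory I] [IsCofiltered I]
  (D : I ⥤ Sp S) (hD : ∀ i, IsAlgSpace (D.obj i))
  (hDa : ∀ (i j : I) (φ : i ⟶ j), IsAffineMor (D.map φ))
  (c : Cone D) (hc : IsLimit c) (i₀ : I)
  {X₀ Y₀ : Sp S} (hX₀ : IsAlgSpace X₀) (hY₀ : IsAlgSpace Y₀) (f₀ : X₀ ⟶ Y₀) (b₀ : Y₀ ⟶ D.obj i₀)
  (hXqc : IsQuasiCompactSp X₀) (hYqc : IsQuasiCompactSp Y₀) (hYqs : IsQuasiSeparatedSp Y₀)
  {X Y : Sp S} (f : X ⟶ Y) (pY : Y ⟶ Y₀) (qY : Y ⟶ c.pt)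
  (hY : IsPullback pY qY b₀ (c.π.app i₀)) (pX : X ⟶ X₀) (hX : IsPullback pX f f₀ pY)
  (hf₀ : LocP @LocallyOfFinitePresentation f₀)

include hD hDa hc hX₀ hY₀ hXqc hYqc hYqs hY hX hf₀

/-- `LocP P` descends through limits, for an étale local class `P` descending through limits of affine schemes. -/
theorem descend_locP {P : MorphismProperty Scheme.{u}} (hP : EtLocalClass P) (hlim : AffLimDescends P)
    (hf : LocP P f) :
    ∃ (i : I) (φ : i ⟶ i₀), ∀ (Xi Yi : Sp S) (fi : Xi ⟶ Yi) (pYi : Yi ⟶ Y₀) (qYi : Yi ⟶ D.obj i)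
      (_ : IsPullback pYi qYi b₀ (D.map φ)) (pXi : Xi ⟶ X₀) (_ : IsPullback pXi fi f₀ pYi),
      LocP P fi :=
  descend_of_chart P (LocP P) hlim
    (by
      intro X Y f _ _ U V a b k hch hb hf
      exact hf a b k (hch.repWith_etale hb) hb hch.comm)
    (by
      intro X Y f _ _ U V a b k hch hb hbs hk
      exact locP_of_chart hP f a b k (hch.repWith_etale hb) (hch.repWith_surjective hbs) hb
        hch.comm hk)
    D hD hDa c hc i₀ hX₀ hY₀ f₀ b₀ hXqc hYqc hYqs f pY qY hY pX hX hf hf₀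

/-- Étale morphisms descend through limits. -/
theorem descend_isEtaleMor (hf : IsEtaleMor f) :
    ∃ (i : I) (φ : i ⟶ i₀), ∀ (Xi Yi : Sp S) (fi : Xi ⟶ Yi) (pYi : Yi ⟶ Y₀) (qYi : Yi ⟶ D.obj i)
      (_ : IsPullback pYi qYi b₀ (D.map φ)) (pXi : Xi ⟶ X₀) (_ : IsPullback pXi fi f₀ pYi),
      IsEtaleMor fi :=
  descend_of_chart @Etale IsEtaleMor affLimDescends_etale
    (by
      intro X Y f _ hY U V a b k hch hb hf
      exact ((isEtaleMor_iff_locP hY f).1 hf) a b k (hch.repWith_etale hb) hb hch.comm)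
    (by
      intro X Y f _ hY U V a b k hch hb hbs hk
      exact (isEtaleMor_iff_locP hY f).2
        (locP_of_chart etLocalClass_etale f a b k (hch.repWith_etale hb)
          (hch.repWith_surjective hbs) hb hch.comm hk))
    D hD hDa c hc i₀ hX₀ hY₀ f₀ b₀ hXqc hYqc hYqs f pY qY hY pX hX hf hf₀

/-- Surjective morphisms descend through limits. -/
theorem descend_isSurjectiveMor (hf : IsSurjectiveMor f) :
    ∃ (i : I) (φ : i ⟶ i₀), ∀ (Xi Yi : Sp S) (fi : Xi ⟶ Yi) (pYi : Yi ⟶ Y₀) (qYi : Yi ⟶ D.obj i)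
      (_ : IsPullback pYi qYi b₀ (D.map φ)) (pXi : Xi ⟶ X₀) (_ : IsPullback pXi fi f₀ pYi),
      IsSurjectiveMor fi := by
  refine descend_of_chart @Surjective IsSurjectiveMor affLimDescends_surjective ?_ ?_
    D hD hDa c hc i₀ hX₀ hY₀ f₀ b₀ hXqc hYqc hYqs f pY qY hY pX hX hf hf₀
  · intro X Y f _ _ U V a b k hch hb hf
    have h1 : Function.Surjective (Points.map (pullback.lift a ((yon S).map k) hch.comm)) :=
      Groth.Agent.Lib.AlgSpQC.surjective_map_of_repWith_surjective hch.surj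
    have h2 : Function.Surjective (Points.map (pullback.snd f b)) :=
      Groth.Agent.Lib.AlgSpPoints.isSurjectiveMor_of_isPullback (IsPullback.of_hasPullback f b) hf
    have h3 : Function.Surjective (Points.map ((yon S).map k)) := by
      rw [← pullback.lift_snd a ((yon S).map k) hch.comm, points_map_comp]
      exact h2.comp h1
    exact ⟨(Groth.Agent.Lib.AlgSpPoints.surjective_map_yon_map_iff k).1 h3⟩
  · intro X Y f _ _ U V a b k hch hb hbs hk
    have h1 : Function.Surjective (Points.map ((yon S).map k)) :=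
      (Groth.Agent.Lib.AlgSpPoints.surjective_map_yon_map_iff k).2 hk.surj
    have h2 : Function.Surjective (Points.map b) :=
      Groth.Agent.Lib.AlgSpQC.surjective_map_of_repWith_surjective hbs
    have h3 : Function.Surjective (Points.map (a ≫ f)) := by
      rw [hch.comm, points_map_comp]
      exact h2.comp h1
    rw [points_map_comp] at h3
    exact Function.Surjective.of_comp h3

end Instances

end Groth.Agent.Lib.AlgSpLimDesc83
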