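import Mathlib.CategoryTheory.Limits.Shapes.Pullback.IsPullback.Basic
import Mathlib.CategoryTheory.Limits.Shapes.Diagonal

/-!
# Base change of the relative diagonal (helper36)

Pure category theory: for a pullback square `X' = X ×_Y Y'` the fibre square `X' ×_{Y'} X'` is the base
change of `X ×_Y X` along `X' ⟶ X` (via either projection), and the relative diagonal of `X'/Y'` is the
base change of the relative diagonal of `X/Y`.
-/

set_option autoImplicit false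
universe v u
open CategoryTheory CategoryTheory.Limits

namespace Groth.Agent.Lib.DiagBaseChange36

variable {C : Type u} [Category.{v} C]
variable {X Y X' Y' XX XX' : C} {f : X ⟶ Y} {f' : X' ⟶ Y'} {gX : X' ⟶ X} {gY : Y' ⟶ Y}
variable {pr0 pr1 : XX ⟶ X} {pr0' pr1' : XX' ⟶ X'} {gXX : XX' ⟶ XX}

/-- `XX' = X' ×_{X, pr0} XX`. -/
theorem isPullback_fst (sq : IsPullback gX f' f gY) (hXX : IsPullback pr0 pr1 f f)
    (hXX' : IsPullback pr0' pr1' f' f') (h0 : gXX ≫ pr0 = pr0' ≫ gX) (h1 : gXX ≫ pr1 = pr1' ≫ gX) :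
    IsPullback pr0' gXX gX pr0 := by
  have s := hXX'.paste_vert sq.flip
  rw [← sq.w, ← h1] at s
  exact IsPullback.of_bot s h0.symm hXX

/-- `XX' = X' ×_{X, pr1} XX`. -/
theorem isPullback_snd (sq : IsPullback gX f' f gY) (hXX : IsPullback pr0 pr1 f f)
    (hXX' : IsPullback pr0' pr1' f' f') (h0 : gXX ≫ pr0 = pr0' ≫ gX) (h1 : gXX ≫ pr1 = pr1' ≫ gX) :
    IsPullback pr1' gXX gX pr1 :=
  isPullback_fst sq hXX.flip hXX'.flip h1 h0

/-- The relative diagonal of the base change is the base change of the relative diagonal. -/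
theorem isPullback_diag (sq : IsPullback gX f' f gY) (hXX : IsPullback pr0 pr1 f f)
    (hXX' : IsPullback pr0' pr1' f' f') (h0 : gXX ≫ pr0 = pr0' ≫ gX) (h1 : gXX ≫ pr1 = pr1' ≫ gX)
    {Δ : X ⟶ XX} {Δ' : X' ⟶ XX'} (hΔ0 : Δ ≫ pr0 = 𝟙 X) (hΔ1 : Δ ≫ pr1 = 𝟙 X)
    (hΔ0' : Δ' ≫ pr0' = 𝟙 X') (hΔ1' : Δ' ≫ pr1' = 𝟙 X') :
    IsPullback Δ' gX gXX Δ := by
  have t := isPullback_snd sq hXX hXX' h0 h1
  have p : Δ' ≫ gXX = gX ≫ Δ := by
    apply hXX.hom_ext
    · rw [Category.assoc, h0, ← Category.assoc, hΔ0', Category.assoc, hΔ0, Category.id_comp,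
        Category.comp_id]
    · rw [Category.assoc, h1, ← Category.assoc, hΔ1', Category.assoc, hΔ1, Category.id_comp,
        Category.comp_id]
  refine IsPullback.of_right ?_ p t
  rw [hΔ1', hΔ1]
  exact IsPullback.of_horiz_isIso ⟨by rw [Category.id_comp, Category.comp_id]⟩

/-- `XX' = XX ×_Z Z'` for a double base change. -/
theorem isPullback_over {Z Z' : C} {q : Y ⟶ Z} {q' : Y' ⟶ Z'} {g : Z' ⟶ Z}
    (sq1 : IsPullback gY q' q g) (sq : IsPullback gX f' f gY) (hXX : IsPullback pr0 pr1 f f)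
    (hXX' : IsPullback pr0' pr1' f' f') (h0 : gXX ≫ pr0 = pr0' ≫ gX) (h1 : gXX ≫ pr1 = pr1' ≫ gX) :
    IsPullback gXX (pr1' ≫ f' ≫ q') (pr1 ≫ f ≫ q) g :=
  (isPullback_snd sq hXX hXX' h0 h1).flip.paste_vert (sq.paste_vert sq1)

end Groth.Agent.Lib.DiagBaseChange36
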