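import Mathlib
import Groth.Agent.Lib.AlgSpLimDesc83
import Groth.Agent.Lib.DiagBaseChange36
import Groth.Agent.Lib.AlgSpFibre
import Groth.Agent.Lib.AlgSpBasic3
import Groth.Agent.Lib.H86QcProd
import Groth.Agent.Lib.H86AlgSpSub
import Groth.Agent.S10261

set_option autoImplicit false
set_option linter.style.haveILetI false
universe u
open CategoryTheory CategoryTheory.Limits AlgebraicGeometry Opposite

namespace Groth.Agent.Lib.AlgSpLimDescDiag83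

open AlgSp Groth.Agent.Lib.AlgSpBasic Groth.Agent.Lib.AlgSpStrongChart36 Groth.Agent.Lib.H86Limits
  Groth.Agent.Lib.AlgSpLocP Groth.Agent.Lib.AlgSpLimDesc83

variable {S : Scheme.{u}}

/-- The diagonal of a morphism of algebraic spaces locally of finite type is locally of finite presentation. -/
theorem locP_lfp_diagonal {X₀ Y₀ : Sp S} (hX₀ : IsAlgSpace X₀) (hY₀ : IsAlgSpace Y₀) (f₀ : X₀ ⟶ Y₀)
    (hf₀ : LocP @LocallyOfFiniteType f₀) :
    LocP @LocallyOfFinitePresentation (pullback.diagonal f₀) := by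
  obtain ⟨U, a₀, hae, has⟩ := hX₀.atlas
  obtain ⟨W, q, wU, wV, hqe, hqs, e1, e2, sqW⟩ :=
    Groth.Agent.Lib.AlgSpFibre.exists_atlas_of_isPullback hY₀.diag
      (IsPullback.of_hasPullback f₀ f₀) a₀ a₀ hae has hae has
  have h1 : LocP @LocallyOfFiniteType (a₀ ≫ f₀) := locP_comp_of_etale _ a₀ hae f₀ hf₀
  have h2 : RepWith @LocallyOfFiniteType (a₀ ≫ f₀) :=
    repWith_of_locP etLocalClass_lft hY₀ (hY₀.representable_from_yon _) h1
  have h3 : LocallyOfFiniteType wV.left := h2.property (a₀ ≫ f₀) ((yon S).map wU) wV sqW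
  let δ : U ⟶ W := (yon S).preimage (sqW.lift (𝟙 _) (𝟙 _) rfl)
  have hδ : (yon S).map δ = sqW.lift (𝟙 _) (𝟙 _) rfl := (yon S).map_preimage _
  have hδU : δ ≫ wU = 𝟙 U := by
    apply (yon S).map_injective
    rw [Functor.map_comp, hδ, sqW.lift_fst, (yon S).map_id]
  have hδV : δ ≫ wV = 𝟙 U := by
    apply (yon S).map_injective
    rw [Functor.map_comp, hδ, sqW.lift_snd, (yon S).map_id]
  have hδlfp : LocallyOfFinitePresentation δ.left := by
    refine locallyOfFinitePresentation_of_comp δ.left wV.left ?_ h3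
    rw [← Over.comp_left, hδV]
    exact (inferInstance : LocallyOfFinitePresentation (𝟙 U.left))
  have comm : a₀ ≫ pullback.diagonal f₀ = (yon S).map δ ≫ q := by
    apply pullback.hom_ext
    · rw [Category.assoc, pullback.diagonal_fst, Category.comp_id, Category.assoc, e1,
        ← Category.assoc, ← Functor.map_comp, hδU, (yon S).map_id, Category.id_comp]
    · rw [Category.assoc, pullback.diagonal_snd, Category.comp_id, Category.assoc, e2,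
        ← Category.assoc, ← Functor.map_comp, hδV, (yon S).map_id, Category.id_comp]
  exact locP_of_chart etLocalClass_lfp _ a₀ q δ hae has hqe comm hδlfp

/-- The comparison map of self fibre products. -/
noncomputable def gXX {X₀ Y₀ X Y : Sp S} {f₀ : X₀ ⟶ Y₀} {f : X ⟶ Y} {pY : Y ⟶ Y₀} {pX : X ⟶ X₀}
    (hX : IsPullback pX f f₀ pY) : pullback f f ⟶ pullback f₀ f₀ :=
  pullback.lift (pullback.fst f f ≫ pX) (pullback.snd f f ≫ pX)
    (by rw [Category.assoc, Category.assoc, hX.w, ← Category.assoc, ← Category.assoc,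
      pullback.condition])

theorem gXX_fst {X₀ Y₀ X Y : Sp S} {f₀ : X₀ ⟶ Y₀} {f : X ⟶ Y} {pY : Y ⟶ Y₀} {pX : X ⟶ X₀}
    (hX : IsPullback pX f f₀ pY) : gXX hX ≫ pullback.fst f₀ f₀ = pullback.fst f f ≫ pX :=
  pullback.lift_fst _ _ _

theorem gXX_snd {X₀ Y₀ X Y : Sp S} {f₀ : X₀ ⟶ Y₀} {f : X ⟶ Y} {pY : Y ⟶ Y₀} {pX : X ⟶ X₀}
    (hX : IsPullback pX f f₀ pY) : gXX hX ≫ pullback.snd f₀ f₀ = pullback.snd f f ≫ pX :=
  pullback.lift_snd _ _ _

/-- The frame squares for the diagonal. -/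
theorem diag_frame {B₀ B' X₀ Y₀ X Y : Sp S} {f₀ : X₀ ⟶ Y₀} {b₀ : Y₀ ⟶ B₀} {β : B' ⟶ B₀} {f : X ⟶ Y}
    {pY : Y ⟶ Y₀} {qY : Y ⟶ B'} (hY : IsPullback pY qY b₀ β) {pX : X ⟶ X₀}
    (hX : IsPullback pX f f₀ pY) :
    IsPullback (gXX hX) (pullback.snd f f ≫ f ≫ qY) (pullback.snd f₀ f₀ ≫ f₀ ≫ b₀) β ∧
      IsPullback pX (pullback.diagonal f) (pullback.diagonal f₀) (gXX hX) :=
  ⟨Groth.Agent.Lib.DiagBaseChange36.isPullback_over hY hX (IsPullback.of_hasPullback f₀ f₀)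
      (IsPullback.of_hasPullback f f) (gXX_fst hX) (gXX_snd hX),
    (Groth.Agent.Lib.DiagBaseChange36.isPullback_diag hX (IsPullback.of_hasPullback f₀ f₀)
      (IsPullback.of_hasPullback f f) (gXX_fst hX) (gXX_snd hX) (pullback.diagonal_fst f₀)
      (pullback.diagonal_snd f₀) (pullback.diagonal_fst f) (pullback.diagonal_snd f)).flip⟩

section Diag

variable [QuasiSeparatedSpace S] {I : Type u} [SmallCategory I] [IsCofiltered I]
  (D : I ⥤ Sp S) (hD : ∀ i, IsAlgSpace (D.obj i))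
  (hDa : ∀ (i j : I) (φ : i ⟶ j), IsAffineMor (D.map φ))
  (c : Cone D) (hc : IsLimit c) (i₀ : I)
  {X₀ Y₀ : Sp S} (hX₀ : IsAlgSpace X₀) (hY₀ : IsAlgSpace Y₀) (f₀ : X₀ ⟶ Y₀) (b₀ : Y₀ ⟶ D.obj i₀)
  (hXqc : IsQuasiCompactSp X₀) (hXqs : IsQuasiSeparatedSp X₀) (hYqs : IsQuasiSeparatedSp Y₀)
  {X Y : Sp S} (f : X ⟶ Y) (pY : Y ⟶ Y₀) (qY : Y ⟶ c.pt)
  (hY : IsPullback pY qY b₀ (c.π.app i₀)) (pX : X ⟶ X₀) (hX : IsPullback pX f f₀ pY)
  (hf₀ : LocP @LocallyOfFiniteType f₀)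

include hD hDa hc hX₀ hY₀ hXqc hXqs hYqs hY hX hf₀

/-- Surjectivity of the diagonal descends through limits. -/
theorem descend_isSurjectiveMor_diagonal (hf : IsSurjectiveMor (pullback.diagonal f)) :
    ∃ (i : I) (φ : i ⟶ i₀), ∀ (Xi Yi : Sp S) (fi : Xi ⟶ Yi) (pYi : Yi ⟶ Y₀) (qYi : Yi ⟶ D.obj i)
      (_ : IsPullback pYi qYi b₀ (D.map φ)) (pXi : Xi ⟶ X₀) (_ : IsPullback pXi fi f₀ pYi),
      IsSurjectiveMor (pullback.diagonal fi) := by
  have hXX₀_alg : IsAlgSpace (pullback f₀ f₀) :=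
    isAlgSpace_of_isPullback hX₀ hX₀ (fun _ a => hY₀.representable_from_yon a)
      (IsPullback.of_hasPullback f₀ f₀)
  have hXX₀qc : IsQuasiCompactSp (pullback f₀ f₀) :=
    Groth.Agent.Lib.H86QcProd.isQuasiCompactSp_of_isPullback_of_quasiSeparated hYqs
      (IsPullback.of_hasPullback f₀ f₀) hXqc hXqc
  have hXX₀qs : IsQuasiSeparatedSp (pullback f₀ f₀) :=
    Groth.Agent.Lib.H86QcProd.repWith_diag_of_isPullback @QuasiCompact
      (IsPullback.of_hasPullback f₀ f₀) hXqs hXqs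
  obtain ⟨h1, h2⟩ := diag_frame hY hX
  obtain ⟨i, φ, H⟩ := descend_isSurjectiveMor D hD hDa c hc i₀ hX₀ hXX₀_alg (pullback.diagonal f₀)
    (pullback.snd f₀ f₀ ≫ f₀ ≫ b₀) hXqc hXX₀qc hXX₀qs (pullback.diagonal f) (gXX hX)
    (pullback.snd f f ≫ f ≫ qY) h1 pX h2 (locP_lfp_diagonal hX₀ hY₀ f₀ hf₀) hf
  refine ⟨i, φ, ?_⟩
  intro Xi Yi fi pYi qYi hYi pXi hXi
  obtain ⟨h1i, h2i⟩ := diag_frame hYi hXi
  exact H Xi (pullback fi fi) (pullback.diagonal fi) (gXX hXi) _ h1i pXi h2i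

/-- Universally injective morphisms descend through limits. -/
theorem descend_isUnivInjectiveMor (hf : IsUnivInjectiveMor f) :
    ∃ (i : I) (φ : i ⟶ i₀), ∀ (Xi Yi : Sp S) (fi : Xi ⟶ Yi) (pYi : Yi ⟶ Y₀) (qYi : Yi ⟶ D.obj i)
      (_ : IsPullback pYi qYi b₀ (D.map φ)) (pXi : Xi ⟶ X₀) (_ : IsPullback pXi fi f₀ pYi),
      IsUnivInjectiveMor fi := by
  have hΔ : IsSurjectiveMor (pullback.diagonal f) :=
    Groth.Agent.Lib.AlgSpBasic.isSurjectiveMor_diagonal_of_isUnivInjectiveMor f hf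
  obtain ⟨i, φ, H⟩ := descend_isSurjectiveMor_diagonal D hD hDa c hc i₀ hX₀ hY₀ f₀ b₀ hXqc hXqs hYqs
    f pY qY hY pX hX hf₀ hΔ
  refine ⟨i, φ, ?_⟩
  intro Xi Yi fi pYi qYi hYi pXi hXi
  have hYi_alg : IsAlgSpace Yi :=
    isAlgSpace_of_isPullback hY₀ (hD i) (fun _ a => (hD i₀).representable_from_yon a) hYi
  have hXi_alg : IsAlgSpace Xi :=
    isAlgSpace_of_isPullback hX₀ hYi_alg (fun _ a => hY₀.representable_from_yon a) hXi
  exact ((Groth.Agent.Lib.AlgSpBasic.univInjective_tfae hXi_alg.diag fi).2).2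
    (H Xi Yi fi pYi qYi hYi pXi hXi)

end Diag


/-- `UnivSp Q` is stable under base change. -/
theorem univSp_of_isPullback (Q : MorphismProperty (Sp S)) {X Y X' Y' : Sp S} {f : X ⟶ Y} {g : Y' ⟶ Y}
    {fst : X' ⟶ X} {snd : X' ⟶ Y'} (sq : IsPullback fst snd f g) (hf : UnivSp Q f) :
    UnivSp Q snd := by
  intro Z Z' hZ g' fst' snd' sq'
  exact hf hZ (g' ≫ g) (fst' ≫ fst) snd' (sq'.paste_horiz sq)

/-- Étale morphisms of algebraic spaces are stable under base change. -/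
theorem isEtaleMor_of_isPullback {X Y X' Y' : Sp S} {f : X ⟶ Y} {g : Y' ⟶ Y}
    {fst : X' ⟶ X} {snd : X' ⟶ Y'} (hX : IsAlgSpace X) (hY : IsAlgSpace Y) (hY' : IsAlgSpace Y')
    (sq : IsPullback fst snd f g) (hf : IsEtaleMor f) : IsEtaleMor snd :=
  (isEtaleMor_iff_locP hY' snd).2
    (locP_of_isPullback etLocalClass_etale hX hY hY' sq ((isEtaleMor_iff_locP hY f).1 hf))

/-- An isomorphism is étale. -/
theorem isEtaleMor_of_isIso {X Y : Sp S} (f : X ⟶ Y) [IsIso f] : IsEtaleMor f := by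
  intro U φ hφ
  exact (RepWith @Etale).comp_mem _ _ hφ (MorphismProperty.of_isIso (RepWith @Etale) f)

/-- An isomorphism is surjective. -/
theorem isSurjectiveMor_of_isIso {X Y : Sp S} (f : X ⟶ Y) [IsIso f] : IsSurjectiveMor f := by
  intro y
  exact ⟨Points.map (inv f) y, by rw [← Points.map_comp, IsIso.inv_hom_id, Points.map_id]⟩

/-- An isomorphism is universally injective. -/
theorem isUnivInjectiveMor_of_isIso {X Y : Sp S} (f : X ⟶ Y) [IsIso f] : IsUnivInjectiveMor f := by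
  intro Z Z' _ g fst snd sq
  haveI : IsIso snd := sq.isIso_snd_of_isIso
  intro x y h
  have := congrArg (Points.map (inv snd)) h
  rwa [← Points.map_comp, ← Points.map_comp, IsIso.hom_inv_id, Points.map_id, Points.map_id] at this

section Iso

variable [QuasiSeparatedSpace S] {I : Type u} [SmallCategory I] [IsCofiltered I]
  (D : I ⥤ Sp S) (hD : ∀ i, IsAlgSpace (D.obj i))
  (hDa : ∀ (i j : I) (φ : i ⟶ j), IsAffineMor (D.map φ))
  (c : Cone D) (hc : IsLimit c) (i₀ : I)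
  {X₀ Y₀ : Sp S} (hX₀ : IsAlgSpace X₀) (hY₀ : IsAlgSpace Y₀) (f₀ : X₀ ⟶ Y₀) (b₀ : Y₀ ⟶ D.obj i₀)
  (hXqc : IsQuasiCompactSp X₀) (hXqs : IsQuasiSeparatedSp X₀) (hYqc : IsQuasiCompactSp Y₀)
  (hYqs : IsQuasiSeparatedSp Y₀)
  {X Y : Sp S} (f : X ⟶ Y) (pY : Y ⟶ Y₀) (qY : Y ⟶ c.pt)
  (hY : IsPullback pY qY b₀ (c.π.app i₀)) (pX : X ⟶ X₀) (hX : IsPullback pX f f₀ pY)

omit [QuasiSeparatedSpace S] [IsCofiltered I] in
include hD hX₀ hY₀ in
/-- Monotonicity in the stage: a base-change-stable property that holds for all base changes at the stage `i`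
holds for all base changes at any further stage `i' ⟶ i`. -/
theorem stage_mono (Q : MorphismProperty (Sp S))
    (hQ : ∀ {X Y X' Y' : Sp S} {f : X ⟶ Y} {g : Y' ⟶ Y} {fst : X' ⟶ X} {snd : X' ⟶ Y'},
      IsAlgSpace X → IsAlgSpace Y → IsAlgSpace Y' → IsPullback fst snd f g → Q f → Q snd)
    {i i' : I} (φ : i ⟶ i₀) (ψ : i' ⟶ i) (φ' : i' ⟶ i₀) (hφ' : ψ ≫ φ = φ')
    (H : ∀ (Xi Yi : Sp S) (fi : Xi ⟶ Yi) (pYi : Yi ⟶ Y₀) (qYi : Yi ⟶ D.obj i)
      (_ : IsPullback pYi qYi b₀ (D.map φ)) (pXi : Xi ⟶ X₀) (_ : IsPullback pXi fi f₀ pYi), Q fi) :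
    ∀ (Xi Yi : Sp S) (fi : Xi ⟶ Yi) (pYi : Yi ⟶ Y₀) (qYi : Yi ⟶ D.obj i')
      (_ : IsPullback pYi qYi b₀ (D.map φ')) (pXi : Xi ⟶ X₀) (_ : IsPullback pXi fi f₀ pYi),
      Q fi := by
  intro Xi Yi fi pYi qYi hYi pXi hXi
  subst hφ'
  let p₁ : pullback b₀ (D.map φ) ⟶ Y₀ := pullback.fst _ _
  let f₁ : pullback f₀ p₁ ⟶ pullback b₀ (D.map φ) := pullback.snd _ _
  have hQ₁ : Q f₁ := H _ _ f₁ p₁ (pullback.snd _ _) (IsPullback.of_hasPullback _ _)
    (pullback.fst _ _) (IsPullback.of_hasPullback _ _)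
  have hw : pYi ≫ b₀ = (qYi ≫ D.map ψ) ≫ D.map φ := by
    rw [Category.assoc, ← D.map_comp]; exact hYi.w
  let h : Yi ⟶ pullback b₀ (D.map φ) := pullback.lift pYi (qYi ≫ D.map ψ) hw
  have hh : h ≫ p₁ = pYi := pullback.lift_fst _ _ _
  have hw2 : pXi ≫ f₀ = (fi ≫ h) ≫ p₁ := by rw [Category.assoc, hh]; exact hXi.w
  let k : Xi ⟶ pullback f₀ p₁ := pullback.lift pXi (fi ≫ h) hw2
  have hk1 : k ≫ pullback.fst f₀ p₁ = pXi := pullback.lift_fst _ _ _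
  have hk2 : k ≫ f₁ = fi ≫ h := pullback.lift_snd _ _ _
  have sq : IsPullback k fi f₁ h := by
    refine IsPullback.of_right (h₁₂ := pullback.fst f₀ p₁) (v₁₃ := f₀) (h₂₂ := p₁) ?_ hk2
      (IsPullback.of_hasPullback f₀ p₁)
    rw [hk1, hh]
    exact hXi
  have hY₁_alg : IsAlgSpace (pullback b₀ (D.map φ)) :=
    isAlgSpace_of_isPullback hY₀ (hD i) (fun _ a => (hD i₀).representable_from_yon a)
      (IsPullback.of_hasPullback _ _)
  have hX₁_alg : IsAlgSpace (pullback f₀ p₁) :=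
    isAlgSpace_of_isPullback hX₀ hY₁_alg (fun _ a => hY₀.representable_from_yon a)
      (IsPullback.of_hasPullback _ _)
  have hYi_alg : IsAlgSpace Yi :=
    isAlgSpace_of_isPullback hY₀ (hD i') (fun _ a => (hD i₀).representable_from_yon a) hYi
  exact hQ hX₁_alg hY₁_alg hYi_alg sq hQ₁


include hD hDa hc hX₀ hY₀ hXqc hXqs hYqc hYqs hY hX in
/-- Isomorphisms descend through limits. -/
theorem descend_isIso [IsIso f] (hf₀ : LocP @LocallyOfFinitePresentation f₀) :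
    ∃ (i : I) (φ : i ⟶ i₀), ∀ (Xi Yi : Sp S) (fi : Xi ⟶ Yi) (pYi : Yi ⟶ Y₀) (qYi : Yi ⟶ D.obj i)
      (_ : IsPullback pYi qYi b₀ (D.map φ)) (pXi : Xi ⟶ X₀) (_ : IsPullback pXi fi f₀ pYi),
      IsIso fi := by
  have hlft : LocP @LocallyOfFiniteType f₀ :=
    Groth.Agent.Lib.H69AlgSpLocST2.locP_mono
      (fun _ _ l hl => by have : LocallyOfFinitePresentation l := hl; infer_instance) hf₀
  obtain ⟨i1, φ1, H1⟩ := descend_isEtaleMor D hD hDa c hc i₀ hX₀ hY₀ f₀ b₀ hXqc hYqc hYqs f pY qY hY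
    pX hX hf₀ (isEtaleMor_of_isIso f)
  obtain ⟨i2, φ2, H2⟩ := descend_isSurjectiveMor D hD hDa c hc i₀ hX₀ hY₀ f₀ b₀ hXqc hYqc hYqs f pY
    qY hY pX hX hf₀ (isSurjectiveMor_of_isIso f)
  obtain ⟨i3, φ3, H3⟩ := descend_isUnivInjectiveMor D hD hDa c hc i₀ hX₀ hY₀ f₀ b₀ hXqc hXqs hYqs f
    pY qY hY pX hX hlft (isUnivInjectiveMor_of_isIso f)
  let o1 : Over i₀ := Over.mk φ1
  let o2 : Over i₀ := Over.mk φ2
  let o3 : Over i₀ := Over.mk φ3
  let j : Over i₀ := IsCofiltered.min (IsCofiltered.min o1 o2) o3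
  let m1 : j ⟶ o1 := IsCofiltered.minToLeft _ _ ≫ IsCofiltered.minToLeft _ _
  let m2 : j ⟶ o2 := IsCofiltered.minToLeft _ _ ≫ IsCofiltered.minToRight _ _
  let m3 : j ⟶ o3 := IsCofiltered.minToRight _ _
  have w1 : m1.left ≫ φ1 = j.hom := Over.w m1
  have w2 : m2.left ≫ φ2 = j.hom := Over.w m2
  have w3 : m3.left ≫ φ3 = j.hom := Over.w m3
  have K1 := stage_mono D hD i₀ hX₀ hY₀ f₀ b₀ IsEtaleMor
    (fun hX hY hY' sq h => isEtaleMor_of_isPullback hX hY hY' sq h) φ1 m1.left j.hom w1 H1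
  have K2 := stage_mono D hD i₀ hX₀ hY₀ f₀ b₀ IsSurjectiveMor
    (fun _ _ _ sq h => Groth.Agent.Lib.AlgSpPoints.isSurjectiveMor_of_isPullback sq h)
    φ2 m2.left j.hom w2 H2
  have K3 := stage_mono D hD i₀ hX₀ hY₀ f₀ b₀ IsUnivInjectiveMor
    (fun _ _ _ sq h => univSp_of_isPullback _ sq h) φ3 m3.left j.hom w3 H3
  refine ⟨j.left, j.hom, ?_⟩
  intro Xi Yi fi pYi qYi hYi pXi hXi
  have hYi_alg : IsAlgSpace Yi :=
    isAlgSpace_of_isPullback hY₀ (hD j.left) (fun _ a => (hD i₀).representable_from_yon a) hYi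
  have hXi_alg : IsAlgSpace Xi :=
    isAlgSpace_of_isPullback hX₀ hYi_alg (fun _ a => hY₀.representable_from_yon a) hXi
  let Xs : AlgSp.Space S := ⟨Xi, hXi_alg⟩
  let Ys : AlgSp.Space S := ⟨Yi, hYi_alg⟩
  let fs : Xs ⟶ Ys := ObjectProperty.homMk fi
  have hopen : RepWith @IsOpenImmersion fi :=
    Groth.Agent.S10261.result fs (K1 Xi Yi fi pYi qYi hYi pXi hXi) (K3 Xi Yi fi pYi qYi hYi pXi hXi)
  exact Groth.Agent.Lib.H86AlgSpSub.isIso_of_repWith_isOpenImmersion_of_surjective hopen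
    (K2 Xi Yi fi pYi qYi hYi pXi hXi)


include hD hDa hc hX₀ hY₀ hXqc hXqs hYqs hY hX in
/-- Monomorphisms descend through limits. -/
theorem descend_mono [Mono f] (hf₀ : LocP @LocallyOfFiniteType f₀) :
    ∃ (i : I) (φ : i ⟶ i₀), ∀ (Xi Yi : Sp S) (fi : Xi ⟶ Yi) (pYi : Yi ⟶ Y₀) (qYi : Yi ⟶ D.obj i)
      (_ : IsPullback pYi qYi b₀ (D.map φ)) (pXi : Xi ⟶ X₀) (_ : IsPullback pXi fi f₀ pYi),
      Mono fi := by
  have hXX₀_alg : IsAlgSpace (pullback f₀ f₀) :=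
    isAlgSpace_of_isPullback hX₀ hX₀ (fun _ a => hY₀.representable_from_yon a)
      (IsPullback.of_hasPullback f₀ f₀)
  have hXX₀qc : IsQuasiCompactSp (pullback f₀ f₀) :=
    Groth.Agent.Lib.H86QcProd.isQuasiCompactSp_of_isPullback_of_quasiSeparated hYqs
      (IsPullback.of_hasPullback f₀ f₀) hXqc hXqc
  have hXX₀qs : IsQuasiSeparatedSp (pullback f₀ f₀) :=
    Groth.Agent.Lib.H86QcProd.repWith_diag_of_isPullback @QuasiCompact
      (IsPullback.of_hasPullback f₀ f₀) hXqs hXqs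
  obtain ⟨h1, h2⟩ := diag_frame hY hX
  obtain ⟨i, φ, H⟩ := descend_isIso D hD hDa c hc i₀ hX₀ hXX₀_alg (pullback.diagonal f₀)
    (pullback.snd f₀ f₀ ≫ f₀ ≫ b₀) hXqc hXqs hXX₀qc hXX₀qs (pullback.diagonal f) (gXX hX)
    (pullback.snd f f ≫ f ≫ qY) h1 pX h2 (locP_lfp_diagonal hX₀ hY₀ f₀ hf₀)
  refine ⟨i, φ, ?_⟩
  intro Xi Yi fi pYi qYi hYi pXi hXi
  obtain ⟨h1i, h2i⟩ := diag_frame hYi hXi
  have : IsIso (pullback.diagonal fi) :=
    H Xi (pullback fi fi) (pullback.diagonal fi) (gXX hXi) _ h1i pXi h2i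
  exact (pullback.isIso_diagonal_iff fi).1 this

end Iso

end Groth.Agent.Lib.AlgSpLimDescDiag83
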