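import Groth.Agent.Lib.LimDescentPrime
import Mathlib.AlgebraicGeometry.Morphisms.ClosedImmersion
import Mathlib.AlgebraicGeometry.Morphisms.FiniteType

/-!
# Descent of closed immersions through cofiltered limits (EGA IV 8.10.5 (iv))
-/

set_option autoImplicit false
universe u

open CategoryTheory Limits AlgebraicGeometry

namespace Groth.Agent.Lib.LimDescent

open Groth.Agent.Lib.LimPullback

section ring

/-- In a pushout square of commutative rings, if the image of `B₀ → C` is contained in the image of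
`A → C` then `A → C` is surjective. -/
theorem surjective_of_isPushout {A₀ B₀ A C : CommRingCat.{u}} {φ₀ : A₀ ⟶ B₀} {α : A₀ ⟶ A}
    {β : B₀ ⟶ C} {φ : A ⟶ C} (sq : IsPushout φ₀ α β φ) (H : ∀ x : B₀, ∃ a : A, φ a = β x) :
    Function.Surjective φ := by
  let R' : Subring C := φ.hom.range
  let ρ : A ⟶ CommRingCat.of R' := CommRingCat.ofHom φ.hom.rangeRestrict
  let σ : B₀ ⟶ CommRingCat.of R' := CommRingCat.ofHom (β.hom.codRestrict R' (fun x => by
    obtain ⟨a, ha⟩ := H x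
    exact ⟨a, ha⟩))
  let incl : CommRingCat.of R' ⟶ C := CommRingCat.ofHom R'.subtype
  have hρ : ρ ≫ incl = φ := by ext a; rfl
  have hσ : σ ≫ incl = β := by ext a; rfl
  have w : φ₀ ≫ σ = α ≫ ρ := by
    ext a
    exact congr($(sq.w) a)
  let d : C ⟶ CommRingCat.of R' := sq.desc σ ρ w
  have hd1 : β ≫ d = σ := sq.inl_desc _ _ _
  have hd2 : φ ≫ d = ρ := sq.inr_desc _ _ _
  have hid : d ≫ incl = 𝟙 C := by
    apply sq.hom_ext
    · rw [← Category.assoc, hd1, hσ, Category.comp_id]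
    · rw [← Category.assoc, hd2, hρ, Category.comp_id]
  intro y
  have hy : incl (d y) = y := congr($hid y)
  obtain ⟨a, ha⟩ := (d y).2
  exact ⟨a, ha.trans hy⟩

/-- A finite generating set detects containment of images. -/
theorem exists_finset_generators {A₀ B₀ : CommRingCat.{u}} (φ₀ : A₀ ⟶ B₀)
    (hft : RingHom.FiniteType φ₀.hom) :
    ∃ s : Finset B₀, ∀ {A C : CommRingCat.{u}} (α : A₀ ⟶ A) (β : B₀ ⟶ C) (φ : A ⟶ C),
      φ₀ ≫ β = α ≫ φ → (∀ x ∈ s, ∃ a : A, φ a = β x) → ∀ x : B₀, ∃ a : A, φ a = β x := by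
  letI := φ₀.hom.toAlgebra
  obtain ⟨s, hs⟩ := (hft : Algebra.FiniteType A₀ B₀).out
  refine ⟨s, fun {A C} α β φ w H => ?_⟩
  let S : Subalgebra A₀ B₀ :=
    { (φ.hom.range.comap β.hom).toSubsemiring with
      algebraMap_mem' := fun a₀ => by
        change β.hom (φ₀.hom a₀) ∈ φ.hom.range
        exact ⟨α.hom a₀, (congr($w a₀)).symm⟩ }
  have hle : Algebra.adjoin A₀ (s : Set B₀) ≤ S := Algebra.adjoin_le (fun x hx => H x hx)
  intro x
  have hx : x ∈ S := hle (hs ▸ Algebra.mem_top)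
  exact hx

end ring

section

theorem appTop_comp_apply {A B C : Scheme.{u}} (p : A ⟶ B) (q : B ⟶ C) (x : Γ(C, ⊤)) :
    p.appTop (q.appTop x) = (p ≫ q).appTop x := rfl

variable {I : Type u} [Category.{u} I] (D : I ⥤ Scheme.{u}) (c : Cone D)
variable [IsCofiltered I] (hc : IsLimit c) [∀ {i j} (f : i ⟶ j), IsAffineHom (D.map f)]
variable {i₀ : I} {X₀ Y₀ : Scheme.{u}} (f₀ : X₀ ⟶ Y₀) (g₀ : Y₀ ⟶ D.obj i₀)

include hc in
/-- Core affine case. -/
theorem exists_isClosedImmersion_stage_of_isAffine [IsAffine X₀] [IsAffine Y₀]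
    [LocallyOfFiniteType f₀] (h : IsClosedImmersion (bcMap f₀ g₀ (c.π.app i₀))) :
    ∃ j : Over i₀, IsClosedImmersion (bcMap f₀ g₀ (D.map j.hom)) := by
  classical
  haveI := isAffineHom_π_app D c hc i₀
  haveI hYaff : ∀ j : Over i₀, IsAffine ((pbDiagram D i₀ g₀).obj j) := fun j =>
    (inferInstance : IsAffine (pullback g₀ (D.map j.hom)))
  haveI hXaff : ∀ j : Over i₀, IsAffine ((pbDiagram D i₀ (f₀ ≫ g₀)).obj j) := fun j =>
    (inferInstance : IsAffine (pullback (f₀ ≫ g₀) (D.map j.hom)))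
  haveI hYaff' : ∀ j : Over i₀, IsAffine (pullback g₀ (D.map j.hom)) := fun j => inferInstance
  haveI hXaff' : ∀ j : Over i₀, IsAffine (pullback (f₀ ≫ g₀) (D.map j.hom)) :=
    fun j => inferInstance
  haveI : IsAffine (pullback g₀ (c.π.app i₀)) := inferInstance
  haveI : IsAffine (pullback (f₀ ≫ g₀) (c.π.app i₀)) := inferInstance
  have hft : RingHom.FiniteType f₀.appTop.hom :=
    (HasRingHomProperty.iff_of_isAffine (P := @LocallyOfFiniteType)).mp inferInstance
  obtain ⟨s, hsgen⟩ := exists_finset_generators f₀.appTop hft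
  -- the property of a stage
  let Good : Over i₀ → Γ(X₀, ⊤) → Prop := fun k x =>
    ∃ a : Γ(pullback g₀ (D.map k.hom), ⊤),
      (bcMap f₀ g₀ (D.map k.hom)).appTop a = (pullback.fst (f₀ ≫ g₀) (D.map k.hom)).appTop x
  have hmono : ∀ {k k' : Over i₀} (m : k' ⟶ k) (x : Γ(X₀, ⊤)), Good k x → Good k' x := by
    rintro k k' m x ⟨a, ha⟩
    refine ⟨(pbMap D i₀ g₀ m).appTop a, ?_⟩
    rw [appTop_comp_apply, ← pbMap_bcMap D f₀ g₀ m, ← appTop_comp_apply, ha, appTop_comp_apply,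
      pbMap_fst]
  have hsurj := (IsClosedImmersion.isAffine_surjective_of_isAffine
    (bcMap f₀ g₀ (c.π.app i₀))).2
  have hex : ∀ x : Γ(X₀, ⊤), ∃ k : Over i₀, Good k x := by
    intro x
    obtain ⟨α, hα⟩ := hsurj ((pullback.fst (f₀ ≫ g₀) (c.π.app i₀)).appTop x)
    obtain ⟨j, a, ha⟩ := exists_appTop_π_eq_of_isAffine_of_isLimit (pbDiagram D i₀ g₀)
      (pbCone D c i₀ g₀) (isLimitPbCone hc) α
    change (pbProj D c i₀ g₀ j).appTop a = α at ha
    obtain ⟨a, ha⟩ : ∃ a : Γ(pullback g₀ (D.map j.hom), ⊤), (pbProj D c i₀ g₀ j).appTop a = α :=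
      ⟨a, ha⟩
    let β : Γ(pullback (f₀ ≫ g₀) (D.map j.hom), ⊤) :=
      (pullback.fst (f₀ ≫ g₀) (D.map j.hom)).appTop x - (bcMap f₀ g₀ (D.map j.hom)).appTop a
    have hβ : (pbProj D c i₀ (f₀ ≫ g₀) j).appTop β = 0 := by
      simp only [β, map_sub]
      rw [appTop_comp_apply, pbProj_fst, appTop_comp_apply, pbProj_bcMap D c f₀ g₀ j,
        ← appTop_comp_apply, ha, hα, sub_self]
    obtain ⟨k, m, hk⟩ := exists_appTop_map_eq_zero_of_isAffine_of_isLimit
      (pbDiagram D i₀ (f₀ ≫ g₀)) (pbCone D c i₀ (f₀ ≫ g₀)) (isLimitPbCone hc) j β hβ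
    change (pbMap D i₀ (f₀ ≫ g₀) m).appTop β = 0 at hk
    simp only [β, map_sub, sub_eq_zero] at hk
    refine ⟨k, (pbMap D i₀ g₀ m).appTop a, ?_⟩
    rw [appTop_comp_apply, ← pbMap_bcMap D f₀ g₀ m, ← appTop_comp_apply, ← hk, appTop_comp_apply,
      pbMap_fst]
  choose k hk using hex
  obtain ⟨k', hk'⟩ := IsCofiltered.inf_objs_exists (s.image k)
  have hall : ∀ x ∈ s, Good k' x := fun x hx => by
    obtain ⟨m⟩ := hk' (Finset.mem_image_of_mem k hx)
    exact hmono m x (hk x)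
  refine ⟨k', ?_⟩
  have sq := isPushout_appTop_of_isPullback (isPullback_bcMap f₀ g₀ (D.map k'.hom))
  have hall' := hsgen (pullback.fst g₀ (D.map k'.hom)).appTop
    (pullback.fst (f₀ ≫ g₀) (D.map k'.hom)).appTop (bcMap f₀ g₀ (D.map k'.hom)).appTop sq.w hall
  exact IsClosedImmersion.of_surjective_of_isAffine _ (surjective_of_isPushout sq hall')

include hc in
/-- Affine target. -/
theorem exists_isClosedImmersion_stage_of_isAffine_target [IsAffine Y₀] [QuasiCompact f₀]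
    [QuasiSeparated f₀] [LocallyOfFiniteType f₀]
    (h : IsClosedImmersion (bcMap f₀ g₀ (c.π.app i₀))) :
    ∃ j : Over i₀, IsClosedImmersion (bcMap f₀ g₀ (D.map j.hom)) := by
  obtain ⟨k, hk⟩ := exists_isAffineHom_stage' D c hc f₀ g₀ (inferInstance : IsAffineHom _)
  refine exists_stage_of_rebase D c f₀ g₀ @IsClosedImmersion k (fun h' => ?_) h
  haveI : IsAffine (pullback g₀ (D.map k.hom)) := inferInstance
  haveI : IsAffine (pullback (f₀ ≫ g₀) (D.map k.hom)) :=
    isAffine_of_isAffineHom (bcMap f₀ g₀ (D.map k.hom))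
  haveI : LocallyOfFiniteType (bcMap f₀ g₀ (D.map k.hom)) :=
    MorphismProperty.of_isPullback (isPullback_bcMap f₀ g₀ (D.map k.hom)) inferInstance
  exact exists_isClosedImmersion_stage_of_isAffine D c hc _ _ h'

include hc in
/-- EGA IV 8.10.5 (iv): descent of closed immersions (finite type suffices). -/
theorem exists_isClosedImmersion_stage [CompactSpace Y₀] [QuasiCompact f₀]
    [QuasiSeparated f₀] [LocallyOfFiniteType f₀]
    (h : IsClosedImmersion (bcMap f₀ g₀ (c.π.app i₀))) :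
    ∃ j : Over i₀, IsClosedImmersion (bcMap f₀ g₀ (D.map j.hom)) :=
  exists_stage_of_openCover D c f₀ g₀ @IsClosedImmersion Y₀.affineCover.finiteSubcover
    (fun a h' => exists_isClosedImmersion_stage_of_isAffine_target D c hc _ _ h') h

end

end Groth.Agent.Lib.LimDescent
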