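import Mathlib
import Groth.Agent.Lib.AlgSpLimDescDiag83
import Groth.Agent.Lib.FpqcDescent
import Groth.Agent.Lib.H69AlgSpMor
import Groth.Agent.Lib.AlgSpAffineSpace
import Groth.Agent.S9189

/-!
# Descent through limits of algebraic spaces, for representable morphisms (helper83)

Same frame as `AlgSpLimDesc83`; here `f₀` is representable and locally of finite type, and a property
`P` that descends through limits of affine schemes for base changes of morphisms locally of finite type from qcqs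
schemes (`QcqsLimDescends P`), and descends along fppf coverings, gives descent of `RepWith P`.
-/

set_option autoImplicit false
set_option linter.style.haveILetI false
universe u
open CategoryTheory CategoryTheory.Limits AlgebraicGeometry Opposite

namespace Groth.Agent.Lib.AlgSpLimDescRep83

open AlgSp Groth.Agent.Lib.AlgSpBasic Groth.Agent.Lib.AlgSpStrongChart36 Groth.Agent.Lib.H86Limits
  Groth.Agent.Lib.AlgSpLocP Groth.Agent.Lib.AlgSpLimDesc83 Groth.Agent.Lib.AlgSpLimDescDiag83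

variable {S : Scheme.{u}}

/-- Scheme-level input: `P` descends from a cofiltered limit of affine schemes to a finite stage, for base
changes of a morphism locally of finite type from a quasi-compact quasi-separated scheme. -/
def QcqsLimDescends (P : MorphismProperty Scheme.{u}) : Prop :=
  ∀ {J : Type u} [SmallCategory J] [IsCofiltered J] (E : J ⥤ Scheme.{u}) (c : Cone E) (_ : IsLimit c)
    (_ : ∀ j, IsAffine (E.obj j)) (j₀ : J) {X₀ : Scheme.{u}} (_ : CompactSpace X₀)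
    (_ : QuasiSeparatedSpace X₀) (f₀ : X₀ ⟶ E.obj j₀)
    (_ : LocallyOfFiniteType f₀) {X : Scheme.{u}} (f : X ⟶ c.pt) (qX : X ⟶ X₀)
    (_ : IsPullback qX f f₀ (c.π.app j₀)), P f →
    ∃ (j : J) (φ : j ⟶ j₀) (Xj : Scheme.{u}) (fj : Xj ⟶ E.obj j) (pX : Xj ⟶ X₀),
      IsPullback pX fj f₀ (E.map φ) ∧ P fj

theorem qcqsLimDescends_isClosedImmersion :
    QcqsLimDescends (@IsClosedImmersion : MorphismProperty Scheme.{u}) := by
  intro J _ _ E c hc hE j₀ X₀ hX₀c hX₀s f₀ hf₀ X f qX hX hPf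
  haveI := hE
  haveI : IsClosedImmersion f := hPf
  have hY : IsPullback (c.π.app j₀) (𝟙 c.pt) (𝟙 (E.obj j₀)) (c.π.app j₀) := by
    haveI : IsIso (𝟙 c.pt) := IsIso.id _
    haveI : IsIso (𝟙 (E.obj j₀)) := IsIso.id _
    exact IsPullback.of_vert_isIso ⟨by simp⟩
  obtain ⟨i, φ, Xi, Yi, fi, gi, pY, pX, h1, h2, h3⟩ :=
    Groth.Agent.S9189.result E c hc j₀ f₀ (𝟙 _) f (𝟙 _) (c.π.app j₀) qX hY hX
  haveI : IsIso (𝟙 (E.obj j₀)) := IsIso.id _
  haveI : IsIso gi := IsPullback.isIso_snd_of_isIso h1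
  have hpY : pY = gi ≫ E.map φ := by simpa using h1.w
  refine ⟨i, φ, Xi, fi ≫ gi, pX, ?_,
    (MorphismProperty.cancel_right_of_respectsIso @IsClosedImmersion fi gi).2 h3⟩
  subst hpY
  exact IsPullback.of_iso h2 (Iso.refl _) (Iso.refl _) (asIso gi) (Iso.refl _) (by simp) (by simp)
    (by simp) (by simp)

/-- Cartesian chart of a base change, from a scheme-level pullback square. -/
theorem exists_cartChart_of_baseChange {X₀ Y₀ X' Y' : Sp S} {f₀ : X₀ ⟶ Y₀} {pY : Y' ⟶ Y₀}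
    {pX : X' ⟶ X₀} {f' : X' ⟶ Y'} (hX : IsPullback pX f' f₀ pY) {U₀ V₁ : Over S}
    {a₀ : (yon S).obj U₀ ⟶ X₀} {b : (yon S).obj V₁ ⟶ Y₀} {u₀ : U₀ ⟶ V₁}
    (sq₀ : IsPullback a₀ ((yon S).map u₀) f₀ b) {V' : Over S} (b' : (yon S).obj V' ⟶ Y')
    (gV : V' ⟶ V₁) (hb' : b' ≫ pY = (yon S).map gV ≫ b) {U' : Over S} (pr₁ : U' ⟶ U₀)
    (pr₂ : U' ⟶ V') (sqU : IsPullback pr₁.left pr₂.left u₀.left gV.left) :
    ∃ a' : (yon S).obj U' ⟶ X', IsPullback a' ((yon S).map pr₂) f' b' := by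
  have sqU' : IsPullback ((yon S).map pr₁) ((yon S).map pr₂) ((yon S).map u₀) ((yon S).map gV) :=
    Groth.Agent.Lib.AlgSpAffineSpace.isPullback_yon_of_left sqU
  have big : IsPullback ((yon S).map pr₁ ≫ a₀) ((yon S).map pr₂) f₀ ((yon S).map gV ≫ b) :=
    sqU'.paste_horiz sq₀
  rw [← hb'] at big
  have hc : ((yon S).map pr₁ ≫ a₀) ≫ f₀ = ((yon S).map pr₂ ≫ b') ≫ pY := by
    rw [Category.assoc _ b' pY]; exact big.w
  refine ⟨hX.lift _ _ hc, ?_⟩
  refine IsPullback.of_right (h₁₂ := pX) (v₁₃ := f₀) (h₂₂ := pY) ?_ (hX.lift_snd _ _ hc) hX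
  rw [hX.lift_fst _ _ hc]; exact big


/-- The representing scheme of a quasi-separated sheaf over a quasi-separated base is quasi-separated. -/
theorem quasiSeparatedSpace_of_isQuasiSeparatedSp [QuasiSeparatedSpace S] {U : Over S}
    (h : IsQuasiSeparatedSp ((yon S).obj U)) : QuasiSeparatedSpace U.left := by
  have h1 : QuasiCompact (pullback.diagonal U.hom) := (repWith_diag_yon_iff @QuasiCompact U).1 h
  haveI : QuasiSeparated U.hom := ⟨h1⟩
  exact quasiSeparatedSpace_of_quasiSeparated U.hom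

theorem isQuasiSeparatedSp_yon_of_quasiSeparatedSpace {U : Over S}
    [QuasiSeparatedSpace U.left] : IsQuasiSeparatedSp ((yon S).obj U) := by
  refine (repWith_diag_yon_iff @QuasiCompact U).2 ?_
  infer_instance

/-- **Descent of `RepWith P` through limits of algebraic spaces, for representable `f₀` locally of finite type.** -/
theorem descend_repWith (P : MorphismProperty Scheme.{u}) [P.IsStableUnderBaseChange]
    [P.DescendsAlong fppfCov]
    (hlim : QcqsLimDescends P)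
    [QuasiSeparatedSpace S] {I : Type u} [SmallCategory I] [IsCofiltered I]
    (D : I ⥤ Sp S)
    (hDa : ∀ (i j : I) (φ : i ⟶ j), IsAffineMor (D.map φ))
    (c : Cone D) (hc : IsLimit c) (i₀ : I)
    {X₀ Y₀ : Sp S} (f₀ : X₀ ⟶ Y₀) (b₀ : Y₀ ⟶ D.obj i₀)
    (hXqc : IsQuasiCompactSp X₀) (hXqs : IsQuasiSeparatedSp X₀) (hYqc : IsQuasiCompactSp Y₀)
    (hYqs : IsQuasiSeparatedSp Y₀)
    {X Y : Sp S} (f : X ⟶ Y) (pY : Y ⟶ Y₀) (qY : Y ⟶ c.pt)
    (hY : IsPullback pY qY b₀ (c.π.app i₀)) (pX : X ⟶ X₀) (hX : IsPullback pX f f₀ pY)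
    (hf₀ : RepWith @LocallyOfFiniteType f₀) (hf : RepWith P f) :
    ∃ (i : I) (φ : i ⟶ i₀), ∀ (Xi Yi : Sp S) (fi : Xi ⟶ Yi) (pYi : Yi ⟶ Y₀) (qYi : Yi ⟶ D.obj i)
      (_ : IsPullback pYi qYi b₀ (D.map φ)) (pXi : Xi ⟶ X₀) (_ : IsPullback pXi fi f₀ pYi),
      RepWith P fi := by
  -- affine chart of `Y₀`
  obtain ⟨V₀, v₀, hV₀, hv₀e, hv₀s⟩ :=
    exists_affine_chart_of_isQuasiCompactSp hYqc
  obtain ⟨𝒱, w, t, cW, hcW, tl, h𝒱aff, hcWaff, hsq, hcompat, hsql⟩ :=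
    exists_affine_system D hDa c hc i₀ hV₀ (v₀ ≫ b₀)
  let j₀ : Over i₀ := Over.mk (𝟙 i₀)
  have hwiso : IsIso ((yon S).map (w j₀)) := by
    have h1 : IsIso (D.map j₀.hom) := inferInstanceAs (IsIso (D.map (𝟙 i₀)))
    exact IsPullback.isIso_snd_of_isIso (hsq j₀)
  let b : (yon S).obj (𝒱.obj j₀) ⟶ Y₀ := (yon S).map (w j₀) ≫ v₀
  have hbe : RepWith @Etale b := (MorphismProperty.cancel_left_of_respectsIso _ _ _).2 hv₀e
  have hbs : RepWith @Surjective b := (MorphismProperty.cancel_left_of_respectsIso _ _ _).2 hv₀s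
  -- cartesian chart of `f₀`
  let U₀ : Over S := hf₀.rep.pullback b
  let u₀ : U₀ ⟶ 𝒱.obj j₀ := hf₀.rep.snd b
  let a₀ : (yon S).obj U₀ ⟶ X₀ := hf₀.rep.fst b
  have sq₀ : IsPullback a₀ ((yon S).map u₀) f₀ b := hf₀.rep.isPullback b
  haveI hu₀lft : LocallyOfFiniteType u₀.left := hf₀.property b a₀ u₀ sq₀
  haveI := h𝒱aff j₀
  have hV₁qc : IsQuasiCompactSp ((yon S).obj (𝒱.obj j₀)) := by
    rw [Groth.Agent.Lib.AlgSpQC.isQuasiCompactSp_yon_iff]
    infer_instance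
  have hU₀qc : IsQuasiCompactSp ((yon S).obj U₀) :=
    Groth.Agent.Lib.H86QcProd.isQuasiCompactSp_of_isPullback_of_quasiSeparated hYqs sq₀ hXqc hV₁qc
  haveI hU₀c : CompactSpace U₀.left := (Groth.Agent.Lib.AlgSpQC.isQuasiCompactSp_yon_iff U₀).1 hU₀qc
  have hV₁qs : IsQuasiSeparatedSp ((yon S).obj (𝒱.obj j₀)) :=
    isQuasiSeparatedSp_yon_of_quasiSeparatedSpace
  have hU₀qs : IsQuasiSeparatedSp ((yon S).obj U₀) :=
    Groth.Agent.Lib.H86QcProd.repWith_diag_of_isPullback @QuasiCompact sq₀ hXqs hV₁qs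
  haveI hU₀s : QuasiSeparatedSpace U₀.left := quasiSeparatedSpace_of_isQuasiSeparatedSp hU₀qs
  -- the system of schemes
  haveI : IsConnected (Over i₀) := IsCofiltered.isConnected _
  let E : Over i₀ ⥤ Scheme.{u} := 𝒱 ⋙ Over.forget S
  let cE : Cone E := (Over.forget S).mapCone cW
  have hcE : IsLimit cE := isLimitMapConeForget hcW
  -- the chart of `f` at the limit
  let T : Scheme.{u} := pullback u₀.left (cW.π.app j₀).left
  let p₁ : T ⟶ U₀.left := pullback.fst _ _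
  let p₂ : T ⟶ cW.pt.left := pullback.snd _ _
  have sqT : IsPullback p₁ p₂ u₀.left (cW.π.app j₀).left := IsPullback.of_hasPullback _ _
  let U' : Over S := Over.mk (p₁ ≫ U₀.hom)
  let pr₁ : U' ⟶ U₀ := Over.homMk p₁ rfl
  have hw₂ : p₂ ≫ cW.pt.hom = p₁ ≫ U₀.hom := by
    have h3 : (cW.π.app j₀).left ≫ (𝒱.obj j₀).hom = cW.pt.hom := Over.w (cW.π.app j₀)
    rw [← h3, ← Category.assoc, ← sqT.w, Category.assoc, Over.w u₀]
  let pr₂ : U' ⟶ cW.pt := Over.homMk p₂ hw₂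
  obtain ⟨bl, hbl1, -, hblsq⟩ :=
    exists_chart_of_baseChange hY v₀ (cW.π.app j₀ ≫ w j₀) tl (hsql j₀)
  have hbl' : bl ≫ pY = (yon S).map (cW.π.app j₀) ≫ b := by
    rw [hbl1, Functor.map_comp, Category.assoc]
  obtain ⟨al, hal⟩ := exists_cartChart_of_baseChange hX sq₀ bl (cW.π.app j₀) hbl' pr₁ pr₂ sqT
  have hPp₂ : P p₂ := hf.property bl al pr₂ hal
  obtain ⟨j, φ', Xj, fj, pXj, sqj, hPfj⟩ :=
    hlim E cE hcE (fun j => h𝒱aff j) j₀ hU₀c hU₀s u₀.left hu₀lft p₂ p₁ sqT hPp₂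
  refine ⟨j.left, j.hom, ?_⟩
  intro Xi Yi fi pYi qYi hYi pXi hXi
  have hwj : w j = 𝒱.map φ' ≫ w j₀ := (hcompat φ').symm
  obtain ⟨bj, hbj1, -, hbjsq⟩ := exists_chart_of_baseChange hYi v₀ (w j) (t j) (hsq j)
  have hbje : RepWith @Etale bj := repWith_fst_of_isPullback _ hbjsq hv₀e
  have hbjs : RepWith @Surjective bj := repWith_fst_of_isPullback _ hbjsq hv₀s
  have hbj' : bj ≫ pYi = (yon S).map (𝒱.map φ') ≫ b := by
    rw [hbj1, hwj, Functor.map_comp, Category.assoc]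
  let Uj : Over S := Over.mk (pXj ≫ U₀.hom)
  let q₁ : Uj ⟶ U₀ := Over.homMk pXj rfl
  let fj' : Xj ⟶ (𝒱.obj j).left := fj
  have hPfj' : P fj' := hPfj
  have sqj' : IsPullback pXj fj' u₀.left (𝒱.map φ').left := sqj
  have hwq : fj' ≫ (𝒱.obj j).hom = pXj ≫ U₀.hom := by
    have h3 : (𝒱.map φ').left ≫ (𝒱.obj j₀).hom = (𝒱.obj j).hom := Over.w (𝒱.map φ')
    rw [← h3, ← Category.assoc, ← sqj'.w, Category.assoc, Over.w u₀]
  let q₂ : Uj ⟶ 𝒱.obj j := Over.homMk fj' hwq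
  obtain ⟨aj, haj⟩ := exists_cartChart_of_baseChange hXi sq₀ bj (𝒱.map φ') hbj' q₁ q₂ sqj'
  have hfi_rep : Representable fi :=
    (Representable (S := S)).of_isPullback hXi hf₀.rep
  have hq₂ : RepWith P ((yon S).map q₂) := (repWith_yon_map_iff P q₂).2 hPfj'
  exact repWith_of_fppfCov P hfi_rep (repWith_fppfCov_of_etale_surjective hbje hbjs) haj hq₂


section Sep

variable [QuasiSeparatedSpace S] {I : Type u} [SmallCategory I] [IsCofiltered I]
  (D : I ⥤ Sp S)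
  (hDa : ∀ (i j : I) (φ : i ⟶ j), IsAffineMor (D.map φ))
  (c : Cone D) (hc : IsLimit c) (i₀ : I)
  {X₀ Y₀ : Sp S} (hX₀ : IsAlgSpace X₀) (hY₀ : IsAlgSpace Y₀) (f₀ : X₀ ⟶ Y₀) (b₀ : Y₀ ⟶ D.obj i₀)
  (hXqc : IsQuasiCompactSp X₀) (hXqs : IsQuasiSeparatedSp X₀) (hYqc : IsQuasiCompactSp Y₀)
  (hYqs : IsQuasiSeparatedSp Y₀)
  {X Y : Sp S} (f : X ⟶ Y) (pY : Y ⟶ Y₀) (qY : Y ⟶ c.pt)
  (hY : IsPullback pY qY b₀ (c.π.app i₀)) (pX : X ⟶ X₀) (hX : IsPullback pX f f₀ pY)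

include hDa hc hXqc hXqs hYqc hYqs hY hX in
/-- Closed immersions descend through limits, for representable `f₀` locally of finite type. -/
theorem descend_isClosedImmersion_of_representable (hf₀ : RepWith @LocallyOfFiniteType f₀)
    (hf : RepWith @IsClosedImmersion f) :
    ∃ (i : I) (φ : i ⟶ i₀), ∀ (Xi Yi : Sp S) (fi : Xi ⟶ Yi) (pYi : Yi ⟶ Y₀) (qYi : Yi ⟶ D.obj i)
      (_ : IsPullback pYi qYi b₀ (D.map φ)) (pXi : Xi ⟶ X₀) (_ : IsPullback pXi fi f₀ pYi),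
      RepWith @IsClosedImmersion fi :=
  descend_repWith @IsClosedImmersion qcqsLimDescends_isClosedImmersion D hDa c hc i₀ f₀ b₀ hXqc hXqs
    hYqc hYqs f pY qY hY pX hX hf₀ hf

include hDa hc hX₀ hY₀ hXqc hXqs hYqs hY hX in
/-- Separated morphisms descend through limits (no finiteness condition on `f₀`). -/
theorem descend_isSeparatedMor (hf : IsSeparatedMor f) :
    ∃ (i : I) (φ : i ⟶ i₀), ∀ (Xi Yi : Sp S) (fi : Xi ⟶ Yi) (pYi : Yi ⟶ Y₀) (qYi : Yi ⟶ D.obj i)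
      (_ : IsPullback pYi qYi b₀ (D.map φ)) (pXi : Xi ⟶ X₀) (_ : IsPullback pXi fi f₀ pYi),
      IsSeparatedMor fi := by
  have hXX₀qc : IsQuasiCompactSp (pullback f₀ f₀) :=
    Groth.Agent.Lib.H86QcProd.isQuasiCompactSp_of_isPullback_of_quasiSeparated hYqs
      (IsPullback.of_hasPullback f₀ f₀) hXqc hXqc
  have hXX₀qs : IsQuasiSeparatedSp (pullback f₀ f₀) :=
    Groth.Agent.Lib.H86QcProd.repWith_diag_of_isPullback @QuasiCompact
      (IsPullback.of_hasPullback f₀ f₀) hXqs hXqs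
  let Xs : AlgSp.Space S := ⟨X₀, hX₀⟩
  let Ys : AlgSp.Space S := ⟨Y₀, hY₀⟩
  let fs : Xs ⟶ Ys := ObjectProperty.homMk f₀
  have hΔlft : RepWith @LocallyOfFiniteType (pullback.diagonal f₀) :=
    (Groth.Agent.Lib.H69AlgSpMor.diagonal_hom_properties fs).2.1
  obtain ⟨h1, h2⟩ := diag_frame hY hX
  obtain ⟨i, φ, H⟩ := descend_isClosedImmersion_of_representable D hDa c hc i₀ (pullback.diagonal f₀)
    (pullback.snd f₀ f₀ ≫ f₀ ≫ b₀) hXqc hXqs hXX₀qc hXX₀qs (pullback.diagonal f) (gXX hX)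
    (pullback.snd f f ≫ f ≫ qY) h1 pX h2 hΔlft hf
  refine ⟨i, φ, ?_⟩
  intro Xi Yi fi pYi qYi hYi pXi hXi
  obtain ⟨h1i, h2i⟩ := diag_frame hYi hXi
  exact H Xi (pullback fi fi) (pullback.diagonal fi) (gXX hXi) _ h1i pXi h2i

end Sep

end Groth.Agent.Lib.AlgSpLimDescRep83
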