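import Groth.Agent.Lib.LimStructureMap

/-!
# Closed immersions into a limit are closed immersions into a stage (Stacks 0A0R-type)

`X = lim Xᵢ` over `S` (affine transitions), `h : Y → X` a closed immersion with `Y → S` locally of
finite type: then `Y → Xᵢ` is a closed immersion for small `i`.
-/

set_option autoImplicit false
universe u

open CategoryTheory Limits AlgebraicGeometry

namespace Groth.Agent.Lib.LimStructureMap

open Groth.Agent.Lib.LimDescent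

theorem isClosedImmersion_restrict_of_eq {X Y : Scheme.{u}} (f : Y ⟶ X) (U : X.Opens)
    (W : Y.Opens) (hW : W = f ⁻¹ᵁ U) (g : W.toScheme ⟶ U.toScheme) (hg : g ≫ U.ι = W.ι ≫ f)
    [IsClosedImmersion g] : IsClosedImmersion (f ∣_ U) := by
  subst hW
  have : g = f ∣_ U := by rw [← cancel_mono U.ι, hg, morphismRestrict_ι]
  rwa [← this]

section limit

variable {I : Type u} [Category.{u} I] [IsCofiltered I] (D : I ⥤ Scheme.{u}) (c : Cone D)
variable (hc : IsLimit c) {S : Scheme.{u}} (τ : ∀ i, D.obj i ⟶ S)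
variable (hτ : ∀ {i j : I} (f : i ⟶ j), D.map f ≫ τ j = τ i)

include hc hτ in
/-- Core step over one affine open `U ⊆ X_{i₀}` mapping into an affine open `V ⊆ S`. -/
theorem exists_isClosedImmersion_restrict_stage [∀ {i j : I} (f : i ⟶ j), IsAffineHom (D.map f)]
    (i₀ : I) (U : (D.obj i₀).Opens) (hU : IsAffineOpen U) (V : S.Opens) (hV : IsAffineOpen V)
    (hUV : U ≤ τ i₀ ⁻¹ᵁ V) {Y : Scheme.{u}} (h : Y ⟶ c.pt) [IsClosedImmersion h]
    [LocallyOfFiniteType (h ≫ c.π.app i₀ ≫ τ i₀)] :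
    ∃ j : Over i₀, ∀ (k : Over i₀) (_ : k ⟶ j),
      IsClosedImmersion ((h ≫ c.π.app k.left) ∣_ (D.map k.hom ⁻¹ᵁ U)) := by
  classical
  have hEc : IsLimit (opensCone D c i₀ U) := isLimitOpensCone D c hc i₀ U
  haveI hEaff : ∀ j : Over i₀, IsAffine (D.map j.hom ⁻¹ᵁ U).toScheme :=
    fun j => hU.preimage (D.map j.hom)
  haveI hEaff' : ∀ j : Over i₀, IsAffine ((opensDiagram D i₀ U).obj j) := hEaff
  haveI hEcaff : IsAffine (c.π.app i₀ ⁻¹ᵁ U).toScheme := by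
    haveI := isAffineHom_π_app D c hc i₀
    exact hU.preimage (c.π.app i₀)
  let YU : Y.Opens := h ⁻¹ᵁ (c.π.app i₀ ⁻¹ᵁ U)
  let hU' : YU.toScheme ⟶ (c.π.app i₀ ⁻¹ᵁ U).toScheme := h ∣_ (c.π.app i₀ ⁻¹ᵁ U)
  haveI : IsClosedImmersion hU' :=
    (inferInstance : IsClosedImmersion (h ∣_ (c.π.app i₀ ⁻¹ᵁ U)))
  haveI hYUaff : IsAffine YU.toScheme := isAffine_of_isAffineHom hU'
  have hsurj : Function.Surjective hU'.appTop :=
    (IsClosedImmersion.isAffine_surjective_of_isAffine hU').2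
  have hUι : hU' ≫ (c.π.app i₀ ⁻¹ᵁ U).ι = YU.ι ≫ h := morphismRestrict_ι _ _
  let π' : ∀ j : Over i₀, (c.π.app i₀ ⁻¹ᵁ U).toScheme ⟶ (D.map j.hom ⁻¹ᵁ U).toScheme := fun j =>
    (c.π.app j.left).resLE (D.map j.hom ⁻¹ᵁ U) (c.π.app i₀ ⁻¹ᵁ U)
      (by rw [← Scheme.Hom.comp_preimage, c.w])
  have hπ'ι : ∀ j : Over i₀, π' j ≫ (D.map j.hom ⁻¹ᵁ U).ι =
      (c.π.app i₀ ⁻¹ᵁ U).ι ≫ c.π.app j.left := fun j => Scheme.Hom.resLE_comp_ι _ _
  let μ : ∀ {j j' : Over i₀} (_ : j' ⟶ j),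
      (D.map j'.hom ⁻¹ᵁ U).toScheme ⟶ (D.map j.hom ⁻¹ᵁ U).toScheme :=
    fun m => (opensDiagram D i₀ U).map m
  have hπ'map : ∀ {j j' : Over i₀} (m : j' ⟶ j), π' j' ≫ μ m = π' j :=
    fun m => (opensCone D c i₀ U).w m
  let ρ : ∀ j : Over i₀, YU.toScheme ⟶ (D.map j.hom ⁻¹ᵁ U).toScheme := fun j => hU' ≫ π' j
  have hρι : ∀ j : Over i₀, ρ j ≫ (D.map j.hom ⁻¹ᵁ U).ι = YU.ι ≫ h ≫ c.π.app j.left := by
    intro j
    change (hU' ≫ π' j) ≫ _ = _
    rw [Category.assoc, hπ'ι, ← Category.assoc, hUι, Category.assoc]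
  have hρmap : ∀ {j j' : Over i₀} (m : j' ⟶ j), ρ j' ≫ μ m = ρ j := by
    intro j j' m
    change (hU' ≫ π' j') ≫ μ m = hU' ≫ π' j
    rw [Category.assoc, hπ'map m]
  have hle : ∀ j : Over i₀, D.map j.hom ⁻¹ᵁ U ≤ τ j.left ⁻¹ᵁ V := by
    intro j
    refine (Scheme.Hom.preimage_mono _ hUV).trans ?_
    rw [← Scheme.Hom.comp_preimage, hτ]
  let s : ∀ j : Over i₀, (D.map j.hom ⁻¹ᵁ U).toScheme ⟶ V.toScheme := fun j =>
    (τ j.left).resLE V (D.map j.hom ⁻¹ᵁ U) (hle j)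
  have hsι : ∀ j : Over i₀, s j ≫ V.ι = (D.map j.hom ⁻¹ᵁ U).ι ≫ τ j.left :=
    fun j => Scheme.Hom.resLE_comp_ι _ _
  have hπτ : ∀ j : Over i₀, c.π.app j.left ≫ τ j.left = c.π.app i₀ ≫ τ i₀ := by
    intro j
    rw [← c.w j.hom, Category.assoc, hτ]
  have hρs : ∀ j : Over i₀, (ρ j ≫ s j) ≫ V.ι = YU.ι ≫ h ≫ c.π.app i₀ ≫ τ i₀ := by
    intro j
    rw [Category.assoc, hsι, ← Category.assoc, hρι, Category.assoc, Category.assoc, hπτ]
  let j₀ : Over i₀ := Over.mk (𝟙 i₀)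
  let r : YU.toScheme ⟶ V.toScheme := ρ j₀ ≫ s j₀
  have hr : ∀ j : Over i₀, ρ j ≫ s j = r := by
    intro j
    rw [← cancel_mono V.ι, hρs, hρs]
  haveI : LocallyOfFiniteType (r ≫ V.ι) := by
    rw [hρs]
    infer_instance
  haveI : LocallyOfFiniteType r := locallyOfFiniteType_of_comp r V.ι
  haveI : IsAffine V.toScheme := hV
  have hft : RingHom.FiniteType r.appTop.hom :=
    (HasRingHomProperty.iff_of_isAffine (P := @LocallyOfFiniteType)).mp inferInstance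
  obtain ⟨gens, hgens⟩ := exists_finset_generators r.appTop hft
  let Good : Over i₀ → Γ(YU.toScheme, ⊤) → Prop := fun j x =>
    ∃ a : Γ((D.map j.hom ⁻¹ᵁ U).toScheme, ⊤), (ρ j).appTop a = x
  have hmono : ∀ {j j' : Over i₀} (m : j' ⟶ j) (x : Γ(YU.toScheme, ⊤)),
      Good j x → Good j' x := by
    rintro j j' m x ⟨a, ha⟩
    refine ⟨(μ m).appTop a, ?_⟩
    rw [appTop_comp_apply, hρmap m, ha]
  have hex : ∀ x : Γ(YU.toScheme, ⊤), ∃ j : Over i₀, Good j x := by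
    intro x
    obtain ⟨y, hy⟩ := hsurj x
    obtain ⟨j, a, ha⟩ : ∃ (j : Over i₀) (a : Γ((D.map j.hom ⁻¹ᵁ U).toScheme, ⊤)),
        (π' j).appTop a = y :=
      exists_appTop_π_eq_of_isAffine_of_isLimit (opensDiagram D i₀ U) (opensCone D c i₀ U) hEc y
    refine ⟨j, a, ?_⟩
    change (hU' ≫ π' j).appTop a = x
    rw [← appTop_comp_apply, ha, hy]
  choose k hk using hex
  obtain ⟨k', hk'⟩ := IsCofiltered.inf_objs_exists (gens.image k)
  have hall : ∀ x ∈ gens, Good k' x := fun x hx => by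
    obtain ⟨m⟩ := hk' (Finset.mem_image_of_mem k hx)
    exact hmono m x (hk x)
  have hall' : ∀ x : Γ(YU.toScheme, ⊤), Good k' x := by
    intro x
    have := hgens (s k').appTop (𝟙 _) (ρ k').appTop
      (by rw [Category.comp_id, ← Scheme.Hom.comp_appTop, hr]) hall x
    exact this
  refine ⟨k', fun l m => ?_⟩
  have hsurjl : Function.Surjective (ρ l).appTop := fun x => hmono m x (hall' x)
  haveI : IsClosedImmersion (ρ l) := IsClosedImmersion.of_surjective_of_isAffine _ hsurjl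
  refine isClosedImmersion_restrict_of_eq (h ≫ c.π.app l.left) (D.map l.hom ⁻¹ᵁ U) YU ?_ (ρ l)
    ?_
  · change h ⁻¹ᵁ (c.π.app i₀ ⁻¹ᵁ U) = (h ≫ c.π.app l.left) ⁻¹ᵁ (D.map l.hom ⁻¹ᵁ U)
    rw [Scheme.Hom.comp_preimage, ← Scheme.Hom.comp_preimage (c.π.app l.left), c.w]
  · rw [hρι]

end limit

end Groth.Agent.Lib.LimStructureMap
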