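import Mathlib
import Groth.Agent.Lib.AlgSpLimDescRep83
import Groth.Agent.S2076

/-!
# Closed immersions into a limit of algebraic spaces (helper83)
-/

set_option autoImplicit false
set_option linter.style.haveILetI false
universe u
open CategoryTheory CategoryTheory.Limits AlgebraicGeometry Opposite

namespace Groth.Agent.Lib.AlgSpLimClosed83

open AlgSp Groth.Agent.Lib.AlgSpBasic Groth.Agent.Lib.AlgSpStrongChart36 Groth.Agent.Lib.H86Limits
  Groth.Agent.Lib.AlgSpLocP Groth.Agent.Lib.AlgSpLimDesc83 Groth.Agent.Lib.AlgSpLimDescDiag83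
  Groth.Agent.Lib.AlgSpLimDescRep83

variable {S : Scheme.{u}}

section System

variable {I : Type u} [SmallCategory I] [IsCofiltered I] (D : I ⥤ Sp S)
  (hDa : ∀ (i j : I) (φ : i ⟶ j), IsAffineMor (D.map φ)) (c : Cone D) (hc : IsLimit c) (i₀ : I)
  {V₀ : Over S} (hV₀ : IsAffine V₀.left) (z : (yon S).obj V₀ ⟶ D.obj i₀)

include hDa hc hV₀ in
/-- The system of affine schemes `V_j = B_j ×_{B_{i₀}} V₀` (`j ⟶ i₀`) with its limit `B ×_{B_{i₀}} V₀`, with the
compatibility of the projections to `B_j` and `B`. -/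
theorem exists_affine_system' :
    ∃ (𝒱 : Over i₀ ⥤ Over S) (w : ∀ j, 𝒱.obj j ⟶ V₀)
      (t : ∀ j : Over i₀, (yon S).obj (𝒱.obj j) ⟶ D.obj j.left)
      (cW : Cone 𝒱) (_ : IsLimit cW) (tl : (yon S).obj cW.pt ⟶ c.pt),
      (∀ j, IsAffine (𝒱.obj j).left) ∧ IsAffine cW.pt.left ∧
      (∀ j : Over i₀, IsPullback (t j) ((yon S).map (w j)) (D.map j.hom) z) ∧
      (∀ {j k : Over i₀} (φ : j ⟶ k), 𝒱.map φ ≫ w k = w j) ∧
      (∀ j, IsPullback tl ((yon S).map (cW.π.app j ≫ w j)) (c.π.app i₀) z) ∧
      (∀ j : Over i₀, tl ≫ c.π.app j.left = (yon S).map (cW.π.app j) ≫ t j) := by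
  choose W w fst sq hWaff using fun j : Over i₀ => hDa j.left i₀ j.hom hV₀ z
  let e : ∀ j : Over i₀, (yon S).obj (W j) ≅ (pbDiagram D i₀ z).obj j := fun j => (sq j).isoPullback
  have he1 : ∀ j, (e j).hom ≫ pbFst D i₀ z j = fst j := fun j => (sq j).isoPullback_hom_fst
  have he2 : ∀ j, (e j).hom ≫ pbSnd D i₀ z j = (yon S).map (w j) := fun j =>
    (sq j).isoPullback_hom_snd
  haveI : IsConnected (Over i₀) := IsCofiltered.isConnected _
  obtain ⟨cW, hcW, el, haff, hel⟩ := exists_limit_liftYon (pbDiagram D i₀ z) W hWaff e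
    (pbCone D c i₀ z) (isLimitPbCone i₀ z hc)
  let 𝒱 : Over i₀ ⥤ Over S := liftYon (pbDiagram D i₀ z) W e
  let w' : ∀ j, 𝒱.obj j ⟶ V₀ := w
  let e' : ∀ j : Over i₀, (yon S).obj (𝒱.obj j) ≅ (pbDiagram D i₀ z).obj j := e
  have he1' : ∀ j, (e' j).hom ≫ pbFst D i₀ z j = fst j := he1
  have he2' : ∀ j, (e' j).hom ≫ pbSnd D i₀ z j = (yon S).map (w' j) := he2
  have h0 : ∀ {j k : Over i₀} (φ : j ⟶ k),
      (yon S).map (𝒱.map φ) = (e' j).hom ≫ (pbDiagram D i₀ z).map φ ≫ (e' k).inv :=
    fun φ => yon_map_liftYon_map _ W e φ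
  have hel' : ∀ j : Over i₀,
      el.hom ≫ (pbCone D c i₀ z).π.app j = (yon S).map (cW.π.app j) ≫ (e' j).hom := hel
  have hcompat : ∀ {j k : Over i₀} (φ : j ⟶ k), 𝒱.map φ ≫ w' k = w' j := by
    intro j k φ
    apply (yon S).map_injective
    rw [Functor.map_comp, h0, Category.assoc, Category.assoc, ← he2' k, Iso.inv_hom_id_assoc,
      pbDiagram_map_snd, he2']
  refine ⟨𝒱, w', fst, cW, hcW, el.hom ≫ pbConeFst D c i₀ z, hWaff, haff, sq, hcompat,
    fun j => ?_, fun j => ?_⟩
  · have h1 : (yon S).map (cW.π.app j ≫ w' j) = el.hom ≫ pbConeSnd D c i₀ z := by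
      rw [Functor.map_comp, ← he2' j, ← Category.assoc, ← hel' j, Category.assoc, pbCone_π_snd]
    rw [h1]
    exact IsPullback.of_iso_pullback
      ⟨by rw [Category.assoc, Category.assoc, pbCone_condition]⟩ el rfl rfl
  · rw [Category.assoc, ← pbCone_π_fst, ← Category.assoc, hel' j, Category.assoc, he1' j]

end System


/-- **A closed immersion into a cofiltered limit of quasi-compact algebraic spaces with affine transition maps, from a
space locally of finite type over the base, is a closed immersion into all late stages.** -/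
theorem closedImmersion_into_stage {I : Type u} [SmallCategory I] [IsCofiltered I]
    {B : Sp S} (hB : IsAlgSpace B) (D : I ⥤ Sp S) (hD : ∀ i, IsAlgSpace (D.obj i))
    (t : D ⟶ (Functor.const I).obj B)
    (hDa : ∀ (i j : I) (φ : i ⟶ j), IsAffineMor (D.map φ))
    (c : Cone D) (hc : IsLimit c) (hqc : ∀ i, IsQuasiCompactSp (D.obj i))
    {Y : Sp S} (y : Y ⟶ c.pt) (hy : RepWith @IsClosedImmersion y) (i₁ : I)
    (hYB : LocP @LocallyOfFiniteType (y ≫ c.π.app i₁ ≫ t.app i₁)) :
    ∃ i₀ : I, ∀ (i : I) (_ : i ⟶ i₀), RepWith @IsClosedImmersion (y ≫ c.π.app i) := by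
  obtain ⟨U₁, z, hU₁, hze, hzs⟩ := exists_affine_chart_of_isQuasiCompactSp (hqc i₁)
  obtain ⟨𝒱, w, t', cW, hcW, tl, h𝒱aff, hcWaff, hsq, hcompat, hsql, htl⟩ :=
    exists_affine_system' D hDa c hc i₁ hU₁ z
  haveI : IsConnected (Over i₁) := IsCofiltered.isConnected _
  let j₁ : Over i₁ := Over.mk (𝟙 i₁)
  -- the closed subscheme `Y_U` of `U`
  let YU : Over S := hy.rep.pullback tl
  let h : YU ⟶ cW.pt := hy.rep.snd tl
  let aY : (yon S).obj YU ⟶ Y := hy.rep.fst tl
  have sqY : IsPullback aY ((yon S).map h) y tl := hy.rep.isPullback tl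
  haveI hh : IsClosedImmersion h.left := hy.property tl aY h sqY
  have htle : RepWith @Etale tl := (RepWith @Etale).of_isPullback (hsql j₁).flip hze
  have haYe : RepWith @Etale aY := (RepWith @Etale).of_isPullback sqY.flip htle
  -- `Y_U ⟶ U₁` is locally of finite type
  have hlft1 : LocP @LocallyOfFiniteType (y ≫ c.π.app i₁) := by
    have h1 : LocP @LocallyOfFiniteType ((y ≫ c.π.app i₁) ≫ t.app i₁) := by
      rwa [Category.assoc]
    exact locP_of_comp @LocallyOfFiniteType
      (fun _ _ _ f g hfg => by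
        haveI : LocallyOfFiniteType (f ≫ g) := hfg
        exact locallyOfFiniteType_of_comp f g) hB _ _ h1
  let k : YU ⟶ U₁ := h ≫ cW.π.app j₁ ≫ w j₁
  have hk : LocallyOfFiniteType k.left := by
    refine hlft1 aY z k haYe hze ?_
    rw [← Category.assoc, sqY.w, Category.assoc, (hsql j₁).w, ← Category.assoc, ← Functor.map_comp]
  -- the system of affine schemes over `U₁`
  have hwleft : ∀ {j k : Over i₁} (φ : j ⟶ k), (𝒱.map φ).left ≫ (w k).left = (w j).left := by
    intro j k φ
    rw [← Over.comp_left, hcompat φ]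
  let D' : Over i₁ ⥤ Over U₁.left :=
    { obj := fun j => Over.mk (w j).left
      map := fun {j k} φ => Over.homMk (𝒱.map φ).left (hwleft φ)
      map_id := fun j => by
        ext
        simp
      map_comp := fun φ ψ => by
        ext
        simp }
  have hπw : ∀ j : Over i₁, (cW.π.app j).left ≫ (w j).left = (cW.π.app j₁ ≫ w j₁).left := by
    intro j
    let τ : j ⟶ j₁ := Over.homMk j.hom (by simp [j₁])
    have h1 : cW.π.app j ≫ w j = cW.π.app j₁ ≫ w j₁ := by
      rw [← hcompat τ, ← Category.assoc, cW.w]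
    rw [← Over.comp_left, h1]
  let c' : Cone D' :=
    { pt := Over.mk (cW.π.app j₁ ≫ w j₁).left
      π :=
        { app := fun j => Over.homMk (cW.π.app j).left (hπw j)
          naturality := fun j k φ => by
            ext
            have h1 : (cW.π.app j ≫ 𝒱.map φ).left = (cW.π.app k).left :=
              congrArg (fun m => m.left) (cW.w φ)
            simp only [D', Functor.const_obj_obj, Functor.const_obj_map, Category.id_comp,
              Over.comp_left, Over.homMk_left]
            exact h1.symm } }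
  have hcE : IsLimit ((Over.forget S).mapCone cW) := isLimitMapConeForget hcW
  have hc' : IsLimit c' := by
    have h1 : IsLimit ((Over.forget U₁.left).mapCone c') := hcE
    exact isLimitOfReflects (Over.forget U₁.left) h1
  haveI hDaff : ∀ (j k : Over i₁) (f : j ⟶ k), IsAffineHom (D'.map f).left := by
    intro j k f
    haveI := h𝒱aff j
    haveI := h𝒱aff k
    exact inferInstanceAs (IsAffineHom (𝒱.map f).left)
  haveI hDc : ∀ j, CompactSpace (D'.obj j).left := by
    intro j
    haveI := h𝒱aff j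
    exact inferInstanceAs (CompactSpace (𝒱.obj j).left)
  let h' : YU.left ⟶ c'.pt.left := h.left
  haveI : IsClosedImmersion h' := hh
  haveI : LocallyOfFiniteType (h' ≫ c'.pt.hom) := hk
  obtain ⟨j, hj⟩ := Groth.Agent.S2076.result U₁.left D' c' hc' h'
  have hj' : IsClosedImmersion (h.left ≫ (cW.π.app j).left) := hj
  refine ⟨j.left, fun i φ => ?_⟩
  let j' : Over i₁ := Over.mk (φ ≫ j.hom)
  let ψ : j' ⟶ j := Over.homMk φ rfl
  haveI := h𝒱aff j
  haveI := h𝒱aff j'
  have hcl : IsClosedImmersion (h ≫ cW.π.app j').left := by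
    have e : (h ≫ cW.π.app j').left ≫ (𝒱.map ψ).left = h.left ≫ (cW.π.app j).left := by
      rw [← Over.comp_left, Category.assoc, cW.w]
      rfl
    haveI : IsClosedImmersion ((h ≫ cW.π.app j').left ≫ (𝒱.map ψ).left) := by
      rw [e]; exact hj'
    exact IsClosedImmersion.of_comp _ (𝒱.map ψ).left
  -- representability
  have hπaff : IsAffineMor (c.π.app i) := (isAlgSpace_of_isLimit_of_isAffineMor D hD hDa c hc).2 i
  have hπrep : Representable (c.π.app i) :=
    ((Groth.Agent.Lib.H86ZarGlue.isAffineMor_iff_repWith (c.π.app i)).1 hπaff).rep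
  have hrep : Representable (y ≫ c.π.app i) :=
    (Representable (S := S)).comp_mem _ _ hy.rep hπrep
  -- the chart square
  have hsqX : IsPullback tl ((yon S).map (cW.π.app j')) (c.π.app i) (t' j') := by
    have big : IsPullback ((yon S).map (cW.π.app j') ≫ (yon S).map (w j')) tl z
        (c.π.app i ≫ D.map j'.hom) := by
      rw [← Functor.map_comp]
      have hw : c.π.app i ≫ D.map j'.hom = c.π.app i₁ := c.w j'.hom
      rw [hw]
      exact (hsql j').flip
    exact (IsPullback.of_right big (htl j').symm (hsq j').flip).flip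
  have sq : IsPullback aY ((yon S).map (h ≫ cW.π.app j')) (y ≫ c.π.app i) (t' j') := by
    rw [Functor.map_comp]
    exact sqY.paste_vert hsqX
  have ht'e : RepWith @Etale (t' j') := (RepWith @Etale).of_isPullback (hsq j').flip hze
  have ht's : RepWith @Surjective (t' j') := (RepWith @Surjective).of_isPullback (hsq j').flip hzs
  exact repWith_of_fppfCov @IsClosedImmersion hrep (repWith_fppfCov_of_etale_surjective ht'e ht's) sq
    ((repWith_yon_map_iff _ _).2 hcl)

end Groth.Agent.Lib.AlgSpLimClosed83
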