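import Mathlib
import Groth.Agent.Lib.AlgSpLimClosed83
import Groth.Agent.Lib.H69AlgSpMor
import Groth.Agent.Lib.H86Coprod

/-!
# Separatedness of the stages of a limit of algebraic spaces (helper83)
-/

set_option autoImplicit false
set_option linter.style.haveILetI false
universe u
open CategoryTheory CategoryTheory.Limits AlgebraicGeometry Opposite

namespace Groth.Agent.Lib.AlgSpLimSep83

open AlgSp Groth.Agent.Lib.AlgSpBasic Groth.Agent.Lib.H86Limits
  Groth.Agent.Lib.AlgSpLocP Groth.Agent.Lib.AlgSpLimDesc83 Groth.Agent.Lib.AlgSpLimDescDiag83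
  Groth.Agent.Lib.AlgSpLimDescRep83 Groth.Agent.Lib.AlgSpLimClosed83

variable {S : Scheme.{u}}


section ProdLimit

variable {J : Type*} [Category J] {C : Type*} [Category C] [HasBinaryProducts C]

/-- The diagram `j ↦ X × K j`. -/
noncomputable def prodDiagram (X : C) (K : J ⥤ C) : J ⥤ C where
  obj j := X ⨯ K.obj j
  map φ := prod.map (𝟙 X) (K.map φ)
  map_id j := by rw [K.map_id, prod.map_id_id]
  map_comp φ ψ := by rw [K.map_comp, prod.map_map, Category.comp_id]

/-- The cone `X × c` on `j ↦ X × K j`. -/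
noncomputable def prodCone (X : C) {K : J ⥤ C} (c : Cone K) : Cone (prodDiagram X K) where
  pt := X ⨯ c.pt
  π :=
    { app := fun j => prod.map (𝟙 X) (c.π.app j)
      naturality := fun j k φ => by
        change 𝟙 _ ≫ prod.map (𝟙 X) (c.π.app k) =
          prod.map (𝟙 X) (c.π.app j) ≫ prod.map (𝟙 X) (K.map φ)
        rw [Category.id_comp, prod.map_map, Category.comp_id, c.w] }

/-- The legs of a cone on `j ↦ X × K j`, with their types made explicit. -/
def prodLeg (X : C) {K : J ⥤ C} (s : Cone (prodDiagram X K)) (j : J) : s.pt ⟶ X ⨯ K.obj j :=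
  s.π.app j

theorem prodLeg_w (X : C) {K : J ⥤ C} (s : Cone (prodDiagram X K)) {j k : J} (φ : j ⟶ k) :
    prodLeg X s j ≫ prod.map (𝟙 X) (K.map φ) = prodLeg X s k := s.w φ

/-- `X × -` preserves connected limits (universe-general version of Mathlib's
`prod_preservesConnectedLimits`). -/
noncomputable def isLimitProdCone [IsConnected J] (X : C) {K : J ⥤ C} {c : Cone K} (l : IsLimit c) :
    IsLimit (prodCone X c) := by
  have key : ∀ (s : Cone (prodDiagram X K)) (j j' : J),
      prodLeg X s j ≫ prod.fst = prodLeg X s j' ≫ prod.fst := by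
    intro s
    let α : (Functor.const J).obj s.pt ⟶ (Functor.const J).obj X :=
      { app := fun j => prodLeg X s j ≫ prod.fst
        naturality := fun j k φ => by
          change 𝟙 _ ≫ prodLeg X s k ≫ prod.fst = (prodLeg X s j ≫ prod.fst) ≫ 𝟙 _
          rw [Category.id_comp, Category.comp_id, ← prodLeg_w X s φ, Category.assoc, prod.map_fst,
            Category.comp_id] }
    exact fun j j' => nat_trans_from_is_connected α j j'
  let sc : Cone (prodDiagram X K) → Cone K := fun s =>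
    { pt := s.pt
      π :=
        { app := fun j => prodLeg X s j ≫ prod.snd
          naturality := fun j k φ => by
            change 𝟙 _ ≫ prodLeg X s k ≫ prod.snd = (prodLeg X s j ≫ prod.snd) ≫ K.map φ
            rw [Category.id_comp, ← prodLeg_w X s φ, Category.assoc, prod.map_snd, Category.assoc] } }
  refine
    { lift := fun s => prod.lift (prodLeg X s (Classical.arbitrary J) ≫ prod.fst) (l.lift (sc s))
      fac := fun s j => ?_
      uniq := fun s m L => ?_ }
  · change prod.lift _ _ ≫ prod.map (𝟙 X) (c.π.app j) = prodLeg X s j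
    apply Limits.prod.hom_ext
    · rw [Category.assoc, prod.map_fst, Category.comp_id, prod.lift_fst]
      exact key s _ _
    · rw [Category.assoc, prod.map_snd, ← Category.assoc, prod.lift_snd, l.fac]
  · let m' : s.pt ⟶ X ⨯ c.pt := m
    have L' : ∀ j, m' ≫ prod.map (𝟙 X) (c.π.app j) = prodLeg X s j := L
    change m' = _
    apply Limits.prod.hom_ext
    · rw [prod.lift_fst, ← L' (Classical.arbitrary J), Category.assoc, prod.map_fst,
        Category.comp_id]
    · rw [prod.lift_snd]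
      apply l.uniq (sc s)
      intro j
      change (m' ≫ prod.snd) ≫ c.π.app j = prodLeg X s j ≫ prod.snd
      rw [← L' j, Category.assoc, Category.assoc, prod.map_snd]

end ProdLimit

section Prod

/-- Products of sheaves as pullbacks over the terminal sheaf `h_S`. -/
theorem isPullback_prod (A B : Sp S) :
    IsPullback (prod.fst : A ⨯ B ⟶ A) prod.snd
      ((Groth.Agent.Lib.H86Coprod.isTerminalYonOne S).from A)
      ((Groth.Agent.Lib.H86Coprod.isTerminalYonOne S).from B) :=
  IsPullback.of_is_product (limit.isLimit _) (Groth.Agent.Lib.H86Coprod.isTerminalYonOne S)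

theorem isAlgSpace_prod {A B : Sp S} (hA : IsAlgSpace A) (hB : IsAlgSpace B) : IsAlgSpace (A ⨯ B) :=
  isAlgSpace_of_isPullback hA hB
    (fun _ a => (IsAlgSpace.yon_obj (Groth.Agent.Lib.H86Coprod.one S)).representable_from_yon a)
    (isPullback_prod A B)

theorem isQuasiCompactSp_prod [QuasiSeparatedSpace S] {A B : Sp S} (hA : IsQuasiCompactSp A)
    (hB : IsQuasiCompactSp B) : IsQuasiCompactSp (A ⨯ B) := by
  haveI : QuasiSeparatedSpace (Groth.Agent.Lib.H86Coprod.one S).left :=
    inferInstanceAs (QuasiSeparatedSpace S)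
  exact Groth.Agent.Lib.H86QcProd.isQuasiCompactSp_of_isPullback_of_quasiSeparated
    isQuasiSeparatedSp_yon_of_quasiSeparatedSpace (isPullback_prod A B) hA hB

theorem isQuasiSeparatedSp_prod {A B : Sp S} (hA : IsQuasiSeparatedSp A)
    (hB : IsQuasiSeparatedSp B) : IsQuasiSeparatedSp (A ⨯ B) :=
  Groth.Agent.Lib.H86QcProd.repWith_diag_of_isPullback @QuasiCompact (isPullback_prod A B) hA hB

/-- `X × A ⟶ X × B` is the base change of `A ⟶ B`. -/
theorem isPullback_prod_map_snd (X : Sp S) {A B : Sp S} (φ : A ⟶ B) :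
    IsPullback (prod.snd : X ⨯ A ⟶ A) (prod.map (𝟙 X) φ) φ prod.snd := by
  let t := Groth.Agent.Lib.H86Coprod.isTerminalYonOne S
  refine IsPullback.of_bot (v₂₁ := (prod.fst : X ⨯ B ⟶ X)) (v₂₂ := t.from B) (h₃₁ := t.from X) ?_
    (by simp) (isPullback_prod X B).flip
  have e1 : prod.map (𝟙 X) φ ≫ (prod.fst : X ⨯ B ⟶ X) = prod.fst := by simp
  have e2 : φ ≫ t.from B = t.from A := t.hom_ext _ _
  rw [e1, e2]
  exact (isPullback_prod X A).flip

/-- `A × X ⟶ B × X` is the base change of `A ⟶ B`. -/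
theorem isPullback_prod_map_fst (X : Sp S) {A B : Sp S} (φ : A ⟶ B) :
    IsPullback (prod.map φ (𝟙 X)) (prod.fst : A ⨯ X ⟶ A) prod.fst φ := by
  let t := Groth.Agent.Lib.H86Coprod.isTerminalYonOne S
  refine (IsPullback.of_bot (v₂₁ := (prod.snd : B ⨯ X ⟶ X)) (v₂₂ := t.from B) (h₃₁ := t.from X) ?_
    (by simp) (isPullback_prod B X)).flip
  have e1 : prod.map φ (𝟙 X) ≫ (prod.snd : B ⨯ X ⟶ X) = prod.snd := by simp
  have e2 : φ ≫ t.from B = t.from A := t.hom_ext _ _
  rw [e1, e2]
  exact isPullback_prod A X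

/-- The graph of `π : X ⟶ A` is the base change of the diagonal of `A`. -/
theorem isPullback_graph {X A : Sp S} (π : X ⟶ A) :
    IsPullback π (prod.lift (𝟙 X) π) (Limits.diag A) (prod.map π (𝟙 A)) := by
  refine IsPullback.of_bot (v₂₁ := (prod.fst : X ⨯ A ⟶ X)) (v₂₂ := (prod.fst : A ⨯ A ⟶ A))
    (h₃₁ := π) ?_ (by ext <;> simp) (isPullback_prod_map_fst A π)
  have e1 : prod.lift (𝟙 X) π ≫ (prod.fst : X ⨯ A ⟶ X) = 𝟙 X := Limits.prod.lift_fst _ _
  have e2 : Limits.diag A ≫ (prod.fst : A ⨯ A ⟶ A) = 𝟙 A := Limits.prod.lift_fst _ _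
  rw [e1, e2]
  exact IsPullback.of_vert_isIso ⟨by simp⟩

end Prod


section Affine

/-- Affine morphisms are stable under base change. -/
theorem isAffineMor_of_isPullback {X Y X' Y' : Sp S} {f : X ⟶ Y} {g : Y' ⟶ Y} {fst : X' ⟶ X}
    {snd : X' ⟶ Y'} (sq : IsPullback fst snd f g) (hf : IsAffineMor f) : IsAffineMor snd :=
  (Groth.Agent.Lib.H86ZarGlue.isAffineMor_iff_repWith snd).2
    ((RepWith @IsAffineHom).of_isPullback sq
      ((Groth.Agent.Lib.H86ZarGlue.isAffineMor_iff_repWith f).1 hf))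

/-- An affine morphism of algebraic spaces is separated. -/
theorem isSeparatedMor_of_isAffineMor {X Y : Sp S} (hX : IsAlgSpace X) (hY : IsAlgSpace Y)
    {f : X ⟶ Y} (hf : IsAffineMor f) : IsSeparatedMor f := by
  have h1 : RepWith @IsAffineHom f := (Groth.Agent.Lib.H86ZarGlue.isAffineMor_iff_repWith f).1 hf
  have h2 : RepWith @IsSeparated f :=
    repWith_mono (fun _ _ g (hg : IsAffineHom g) => (inferInstance : IsSeparated g)) h1
  let Xs : AlgSp.Space S := ⟨X, hX⟩
  let Ys : AlgSp.Space S := ⟨Y, hY⟩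
  let fs : Xs ⟶ Ys := ObjectProperty.homMk f
  exact ((Groth.Agent.Lib.H69AlgSpMor.separation_iff_repWith_of_representable fs h1.rep).1).2 h2

/-- Cancellation: if `c ≫ q` is a closed immersion and `q` is separated, then `c` is a closed immersion. -/
theorem repWith_isClosedImmersion_of_comp {A B V : Sp S} (c : A ⟶ B) (q : B ⟶ V)
    (hq : IsSeparatedMor q) (hcq : RepWith @IsClosedImmersion (c ≫ q)) :
    RepWith @IsClosedImmersion c := by
  have : (IsSeparatedMor (S := S)).IsStableUnderBaseChange :=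
    ⟨fun sq h => Groth.Agent.Lib.AlgSpProper.isSeparatedMor_of_isPullback sq h⟩
  have : MorphismProperty.HasOfPostcompProperty (RepWith (S := S) @IsClosedImmersion)
      (IsSeparatedMor (S := S)) := by
    rw [MorphismProperty.hasOfPostcompProperty_iff_le_diagonal]
    intro B' V' q' hq'
    exact hq'
  exact MorphismProperty.of_postcomp (W := RepWith (S := S) @IsClosedImmersion)
    (W' := IsSeparatedMor (S := S)) c q hq hcq

end Affine


section Main

variable {I : Type u} [SmallCategory I] [IsCofiltered I]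
  (D : I ⥤ Sp S) (hD : ∀ i, IsAlgSpace (D.obj i))
  (hDa : ∀ (i j : I) (φ : i ⟶ j), IsAffineMor (D.map φ))
  (c : Cone D) (hc : IsLimit c)

include hDa hc in
/-- The limit of a cofiltered system with affine transition maps is quasi-compact as soon as one stage is. -/
theorem isQuasiCompactSp_limit (i₁ : I) (hqc : IsQuasiCompactSp (D.obj i₁)) :
    IsQuasiCompactSp c.pt := by
  obtain ⟨U₁, z, hU₁, hze, hzs⟩ := exists_affine_chart_of_isQuasiCompactSp hqc
  obtain ⟨𝒱, w, t', cW, hcW, tl, h𝒱aff, hcWaff, hsq, hcompat, hsql, htl⟩ :=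
    exists_affine_system' D hDa c hc i₁ hU₁ z
  let j₁ : Over i₁ := Over.mk (𝟙 i₁)
  refine ⟨cW.pt, tl, (RepWith @Etale).of_isPullback (hsql j₁).flip hze,
    (RepWith @Surjective).of_isPullback (hsql j₁).flip hzs, ?_⟩
  haveI := hcWaff
  change CompactSpace cW.pt.left
  infer_instance

theorem locP_lft_id {X : Sp S} (hX : IsAlgSpace X) : LocP @LocallyOfFiniteType (𝟙 X) :=
  Groth.Agent.Lib.H69AlgSpLocST2.locP_mono
    (fun _ _ l hl => by have : Etale l := hl; infer_instance)
    ((isEtaleMor_iff_locP hX (𝟙 X)).1 (isEtaleMor_of_isIso (𝟙 X)))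

include hD hDa hc in
/-- **If the limit is separated, some stage is separated.** -/
theorem exists_isSeparatedSp_stage [QuasiSeparatedSpace S]
    (hqc : ∀ i, IsQuasiCompactSp (D.obj i)) (hqs : ∀ i, IsQuasiSeparatedSp (D.obj i))
    (hX : IsSeparatedSp c.pt) : ∃ i, IsSeparatedSp (D.obj i) := by
  haveI : IsConnected I := IsCofiltered.isConnected _
  obtain ⟨hX_alg, hπaff⟩ := isAlgSpace_of_isLimit_of_isAffineMor D hD hDa c hc
  obtain ⟨i₁⟩ := IsCofiltered.nonempty (C := I)
  have hXqc : IsQuasiCompactSp c.pt := isQuasiCompactSp_limit D hDa c hc i₁ (hqc i₁)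
  -- Step 1: the graph `X ⟶ X × X_i` is a closed immersion for late `i`
  let D' : I ⥤ Sp S := prodDiagram c.pt D
  let c' : Cone D' := prodCone c.pt c
  have hc' : IsLimit c' := isLimitProdCone c.pt hc
  let t' : D' ⟶ (Functor.const I).obj c.pt :=
    { app := fun i => (prod.fst : c.pt ⨯ D.obj i ⟶ c.pt)
      naturality := fun i j φ => by
        change prod.map (𝟙 c.pt) (D.map φ) ≫ prod.fst = prod.fst ≫ 𝟙 _
        simp }
  have hD' : ∀ i, IsAlgSpace (D'.obj i) := fun i => isAlgSpace_prod hX_alg (hD i)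
  have hDa' : ∀ (i j : I) (φ : i ⟶ j), IsAffineMor (D'.map φ) := fun i j φ =>
    isAffineMor_of_isPullback (isPullback_prod_map_snd c.pt (D.map φ)) (hDa i j φ)
  have hqc' : ∀ i, IsQuasiCompactSp (D'.obj i) := fun i => isQuasiCompactSp_prod hXqc (hqc i)
  let y : c.pt ⟶ c'.pt := Limits.diag c.pt
  have hy : RepWith @IsClosedImmersion y := hX
  have hYB : LocP @LocallyOfFiniteType (y ≫ c'.π.app i₁ ≫ t'.app i₁) := by
    have e : y ≫ c'.π.app i₁ ≫ t'.app i₁ = 𝟙 c.pt := by
      change Limits.diag c.pt ≫ prod.map (𝟙 c.pt) (c.π.app i₁) ≫ prod.fst = 𝟙 c.pt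
      rw [prod.map_fst, Category.comp_id]
      exact Limits.prod.lift_fst _ _
    rw [e]
    exact locP_lft_id hX_alg
  obtain ⟨i₀, H1⟩ := closedImmersion_into_stage hX_alg D' hD' t' hDa' c' hc' hqc' y hy i₁ hYB
  have hΓ : RepWith @IsClosedImmersion (prod.lift (𝟙 c.pt) (c.π.app i₀)) := by
    have h1 := H1 i₀ (𝟙 i₀)
    have e : y ≫ c'.π.app i₀ = prod.lift (𝟙 c.pt) (c.π.app i₀) := by
      change Limits.diag c.pt ≫ prod.map (𝟙 c.pt) (c.π.app i₀) = _
      ext <;> simp
    rwa [e] at h1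
  -- Step 2: descend to a stage
  let As : AlgSp.Space S := ⟨D.obj i₀, hD i₀⟩
  have hf₀ : RepWith @LocallyOfFiniteType (Limits.diag (D.obj i₀)) :=
    (Groth.Agent.Lib.H69AlgSpDiag.repWith_diag_properties As).1
  obtain ⟨k, φ, H2⟩ := descend_isClosedImmersion_of_representable D hDa c hc i₀
    (Limits.diag (D.obj i₀)) (prod.fst : D.obj i₀ ⨯ D.obj i₀ ⟶ D.obj i₀)
    (hqc i₀) (hqs i₀) (isQuasiCompactSp_prod (hqc i₀) (hqc i₀))
    (isQuasiSeparatedSp_prod (hqs i₀) (hqs i₀))
    (prod.lift (𝟙 c.pt) (c.π.app i₀)) (prod.map (c.π.app i₀) (𝟙 (D.obj i₀)))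
    (prod.fst : c.pt ⨯ D.obj i₀ ⟶ c.pt)
    (isPullback_prod_map_fst (D.obj i₀) (c.π.app i₀)) (c.π.app i₀)
    (isPullback_graph (c.π.app i₀)) hf₀ hΓ
  have hΓk : RepWith @IsClosedImmersion (prod.lift (𝟙 (D.obj k)) (D.map φ)) :=
    H2 (D.obj k) (D.obj k ⨯ D.obj i₀) (prod.lift (𝟙 (D.obj k)) (D.map φ))
      (prod.map (D.map φ) (𝟙 (D.obj i₀))) prod.fst (isPullback_prod_map_fst (D.obj i₀) (D.map φ))
      (D.map φ) (isPullback_graph (D.map φ))
  -- Step 3: cancellation
  refine ⟨k, ?_⟩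
  have hq : IsSeparatedMor (prod.map (𝟙 (D.obj k)) (D.map φ)) :=
    isSeparatedMor_of_isAffineMor (isAlgSpace_prod (hD k) (hD k)) (isAlgSpace_prod (hD k) (hD i₀))
      (isAffineMor_of_isPullback (isPullback_prod_map_snd (D.obj k) (D.map φ)) (hDa k i₀ φ))
  have e : Limits.diag (D.obj k) ≫ prod.map (𝟙 (D.obj k)) (D.map φ) =
      prod.lift (𝟙 (D.obj k)) (D.map φ) := by
    ext <;> simp
  exact repWith_isClosedImmersion_of_comp (Limits.diag (D.obj k))
    (prod.map (𝟙 (D.obj k)) (D.map φ)) hq (by rw [e]; exact hΓk)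

end Main

end Groth.Agent.Lib.AlgSpLimSep83
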