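import Mathlib
import Groth.Agent.Lib.AlgSpLimSep83
import Groth.Agent.Lib.H86AlgSpSub

set_option autoImplicit false
set_option linter.style.haveILetI false
universe u
open CategoryTheory CategoryTheory.Limits AlgebraicGeometry Opposite

namespace Groth.Agent.Lib.AlgSpLimIso83

open AlgSp Groth.Agent.Lib.AlgSpBasic Groth.Agent.Lib.H86Limits
  Groth.Agent.Lib.AlgSpLocP Groth.Agent.Lib.AlgSpLimDesc83 Groth.Agent.Lib.AlgSpLimDescDiag83
  Groth.Agent.Lib.AlgSpLimDescRep83 Groth.Agent.Lib.AlgSpLimClosed83 Groth.Agent.Lib.AlgSpLimSep83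

variable {S : Scheme.{u}}

section Sch

variable {J : Type u} [SmallCategory J] [IsCofiltered J]

/-- A cofiltered limit of closed subschemes of an affine scheme which is locally of finite presentation over it
is equal to one of the subschemes. -/
theorem exists_isIso_π_of_closedImmersions (E : J ⥤ Scheme.{u}) [∀ j, IsAffine (E.obj j)]
    (c : Cone E) (hc : IsLimit c) [IsAffine c.pt] {U₁ : Scheme.{u}} [IsAffine U₁]
    (w : ∀ j, E.obj j ⟶ U₁) (hwn : ∀ {j k : J} (f : j ⟶ k), E.map f ≫ w k = w j)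
    (hw : ∀ j, IsClosedImmersion (w j)) (j₁ : J)
    (hlfp : LocallyOfFinitePresentation (c.π.app j₁ ≫ w j₁)) :
    ∃ j : J, IsIso (c.π.app j) := by
  classical
  haveI : Nonempty J := IsCofiltered.nonempty
  let π : ∀ j, c.pt ⟶ E.obj j := fun j => c.π.app j
  have hπw : ∀ {j k : J} (f : j ⟶ k), π j ≫ E.map f = π k := fun f => c.w f
  have hcw : ∀ j, π j ≫ w j = π j₁ ≫ w j₁ := by
    intro j
    let a := IsCofiltered.minToLeft j j₁
    let b := IsCofiltered.minToRight j j₁
    rw [← hπw a, Category.assoc, hwn a, ← hπw b, Category.assoc, hwn b]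
  let ψ : Γ(U₁, ⊤) ⟶ Γ(c.pt, ⊤) := (π j₁ ≫ w j₁).appTop
  have hψ : ∀ j, ψ = (w j).appTop ≫ (π j).appTop := by
    intro j
    change (π j₁ ≫ w j₁).appTop = _
    rw [← hcw j, Scheme.Hom.comp_appTop]
  have hφs : ∀ j, Function.Surjective (w j).appTop := fun j =>
    haveI := hw j
    (IsClosedImmersion.isAffine_surjective_of_isAffine (w j)).2
  -- `ψ` is surjective
  have hψs : Function.Surjective ψ := by
    intro s
    obtain ⟨j, t, ht⟩ := exists_appTop_π_eq_of_isAffine_of_isLimit E c hc s
    obtain ⟨r, hr⟩ := hφs j t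
    refine ⟨r, ?_⟩
    rw [hψ j, CommRingCat.comp_apply, hr]
    exact ht
  -- its kernel is finitely generated
  have hfp : ψ.hom.FinitePresentation :=
    (HasRingHomProperty.iff_of_isAffine (P := @LocallyOfFinitePresentation)).1 hlfp
  have hker : (RingHom.ker ψ.hom).FG := by
    algebraize [ψ.hom]
    have := Algebra.FinitePresentation.ker_fG_of_surjective
      (Algebra.ofId Γ(U₁, ⊤) Γ(c.pt, ⊤)) hψs
    exact this
  obtain ⟨G, hG⟩ := hker
  -- each generator dies at a finite stage
  have hgen : ∀ g ∈ G, ∃ (j : J), (w j).appTop g = 0 := by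
    intro g hg
    have h0 : ψ g = 0 := by
      have : g ∈ RingHom.ker ψ.hom := by rw [← hG]; exact Ideal.subset_span hg
      exact this
    rw [hψ j₁, CommRingCat.comp_apply] at h0
    obtain ⟨j, f, hj⟩ := exists_appTop_map_eq_zero_of_isAffine_of_isLimit E c hc j₁ _ h0
    refine ⟨j, ?_⟩
    rw [← hwn f, Scheme.Hom.comp_appTop, CommRingCat.comp_apply]
    exact hj
  choose! jg hjg using hgen
  obtain ⟨j, hj⟩ := IsCofiltered.inf_objs_exists (G.image jg)
  have hGj : ∀ g ∈ G, (w j).appTop g = 0 := by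
    intro g hg
    obtain ⟨f⟩ := hj (Finset.mem_image_of_mem jg hg)
    rw [← hwn f, Scheme.Hom.comp_appTop, CommRingCat.comp_apply, hjg g hg, map_zero]
  have hle : RingHom.ker ψ.hom ≤ RingHom.ker (w j).appTop.hom := by
    rw [← hG, Ideal.span_le]
    intro g hg
    exact hGj g hg
  refine ⟨j, ?_⟩
  haveI := hw j
  haveI : IsClosedImmersion (π j ≫ w j) :=
    IsClosedImmersion.of_surjective_of_isAffine _ (by
      rw [hcw j]
      exact hψs)
  haveI : IsClosedImmersion (π j) := IsClosedImmersion.of_comp (π j) (w j)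
  change IsIso (π j)
  apply IsClosedImmersion.isIso_of_injective_of_isAffine
  rw [injective_iff_map_eq_zero]
  intro x hx
  obtain ⟨r, rfl⟩ := hφs j x
  have : r ∈ RingHom.ker ψ.hom := by
    change ψ r = 0
    rw [hψ j, CommRingCat.comp_apply]
    exact hx
  exact hle this

end Sch

/-- A morphism of sheaves which becomes an isomorphism after base change along an etale surjective chart of the
target is an isomorphism. -/
theorem isIso_of_isPullback_chart {F G : Sp S} {f : F ⟶ G} (hf : Representable f) {V W : Over S}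
    {c : (yon S).obj V ⟶ G} (hce : RepWith @Etale c) (hcs : RepWith @Surjective c)
    {fst : (yon S).obj W ⟶ F} {snd : W ⟶ V} (sq : IsPullback fst ((yon S).map snd) f c)
    (hs : IsIso snd.left) : IsIso f := by
  have h1 : RepWith (MorphismProperty.isomorphisms Scheme.{u}) ((yon S).map snd) :=
    (repWith_yon_map_iff _ _).2 hs
  have h2 : RepWith (MorphismProperty.isomorphisms Scheme.{u}) f :=
    repWith_of_fppfCov _ hf (repWith_fppfCov_of_etale_surjective hce hcs) sq h1
  exact Groth.Agent.Lib.H86AlgSpSub.isIso_of_repWith_iso h2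


section Main

variable {I : Type u} [SmallCategory I] [IsCofiltered I]

/-- **A limit of closed immersions of quasi-compact algebraic spaces locally of finite type over `B`, which is
locally of finite presentation over `B`, is eventually constant.** -/
theorem eventually_isIso_π {B : Sp S} (hB : IsAlgSpace B) (D : I ⥤ Sp S)
    (hD : ∀ i, IsAlgSpace (D.obj i)) (t : D ⟶ (Functor.const I).obj B)
    (hDc : ∀ (i j : I) (φ : i ⟶ j), RepWith @IsClosedImmersion (D.map φ))
    (c : Cone D) (hc : IsLimit c) (hqc : ∀ i, IsQuasiCompactSp (D.obj i))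
    (hft : ∀ i, LocP @LocallyOfFiniteType (t.app i)) (i₁ : I)
    (hX : LocP @LocallyOfFinitePresentation (c.π.app i₁ ≫ t.app i₁)) :
    ∃ i₀ : I, ∀ (i : I) (_ : i ⟶ i₀), IsIso (c.π.app i) := by
  have hDa : ∀ (i j : I) (φ : i ⟶ j), IsAffineMor (D.map φ) := fun i j φ =>
    (Groth.Agent.Lib.H86ZarGlue.isAffineMor_iff_repWith _).2
      (repWith_mono (fun _ _ g (hg : IsClosedImmersion g) => (inferInstance : IsAffineHom g))
        (hDc i j φ))
  obtain ⟨U₁, z, hU₁, hze, hzs⟩ := exists_affine_chart_of_isQuasiCompactSp (hqc i₁)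
  obtain ⟨𝒱, w, t', cW, hcW, tl, h𝒱aff, hcWaff, hsq, hcompat, hsql, htl⟩ :=
    exists_affine_system' D hDa c hc i₁ hU₁ z
  haveI : IsConnected (Over i₁) := IsCofiltered.isConnected _
  let j₁ : Over i₁ := Over.mk (𝟙 i₁)
  have htle : RepWith @Etale tl := (RepWith @Etale).of_isPullback (hsql j₁).flip hze
  -- `X ⟶ X_{i₁}` is locally of finite presentation
  have hlfp1 : LocP @LocallyOfFinitePresentation (c.π.app i₁) :=
    locP_of_comp' @LocallyOfFinitePresentation @LocallyOfFiniteType
      (fun _ _ _ f g hfg hg => locallyOfFinitePresentation_of_comp f g hfg hg) hB _ _ hX (hft i₁)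
  let k : cW.pt ⟶ U₁ := cW.π.app j₁ ≫ w j₁
  have hk : LocallyOfFinitePresentation k.left := hlfp1 tl z k htle hze (hsql j₁).w
  -- the closed subschemes of `U₁`
  have hwcl : ∀ j, IsClosedImmersion (w j).left := fun j =>
    (hDc j.left i₁ j.hom).property z (t' j) (w j) (hsq j)
  have hwleft : ∀ {j k : Over i₁} (φ : j ⟶ k), (𝒱.map φ).left ≫ (w k).left = (w j).left := by
    intro j k φ
    rw [← Over.comp_left, hcompat φ]
  haveI : IsAffine U₁.left := hU₁
  haveI : ∀ j, IsAffine ((𝒱 ⋙ Over.forget S).obj j) := h𝒱aff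
  haveI : IsAffine ((Over.forget S).mapCone cW).pt := hcWaff
  have hcE : IsLimit ((Over.forget S).mapCone cW) := isLimitMapConeForget hcW
  obtain ⟨j, hj⟩ := exists_isIso_π_of_closedImmersions (𝒱 ⋙ Over.forget S)
    ((Over.forget S).mapCone cW) hcE (fun j => (w j).left) (fun φ => hwleft φ) hwcl j₁ hk
  have hj' : IsIso (cW.π.app j).left := hj
  refine ⟨j.left, fun i φ => ?_⟩
  let j' : Over i₁ := Over.mk (φ ≫ j.hom)
  let ψ : j' ⟶ j := Over.homMk φ rfl
  -- `W ⟶ U_{j'}` is an isomorphism
  have hiso : IsIso (cW.π.app j').left := by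
    have e : (cW.π.app j').left ≫ (𝒱.map ψ).left = (cW.π.app j).left := by
      rw [← Over.comp_left, cW.w]
    haveI := hwcl j
    haveI : IsClosedImmersion ((𝒱.map ψ).left ≫ (w j).left) := by
      rw [hwleft ψ]; exact hwcl j'
    haveI : IsClosedImmersion (𝒱.map ψ).left := IsClosedImmersion.of_comp _ (w j).left
    haveI : Mono (𝒱.map ψ).left := inferInstance
    haveI : IsIso ((cW.π.app j').left ≫ (𝒱.map ψ).left) := by rw [e]; exact hj'
    haveI : IsSplitEpi (𝒱.map ψ).left :=
      ⟨⟨⟨inv ((cW.π.app j').left ≫ (𝒱.map ψ).left) ≫ (cW.π.app j').left, by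
        rw [Category.assoc, IsIso.inv_hom_id]⟩⟩⟩
    haveI : IsIso (𝒱.map ψ).left := isIso_of_mono_of_isSplitEpi _
    exact IsIso.of_isIso_comp_right (cW.π.app j').left (𝒱.map ψ).left
  -- descend along the chart
  have hπaff : IsAffineMor (c.π.app i) := (isAlgSpace_of_isLimit_of_isAffineMor D hD hDa c hc).2 i
  have hπrep : Representable (c.π.app i) :=
    ((Groth.Agent.Lib.H86ZarGlue.isAffineMor_iff_repWith (c.π.app i)).1 hπaff).rep
  have hsqX : IsPullback tl ((yon S).map (cW.π.app j')) (c.π.app i) (t' j') := by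
    have big : IsPullback ((yon S).map (cW.π.app j') ≫ (yon S).map (w j')) tl z
        (c.π.app i ≫ D.map j'.hom) := by
      rw [← Functor.map_comp]
      have hw : c.π.app i ≫ D.map j'.hom = c.π.app i₁ := c.w j'.hom
      rw [hw]
      exact (hsql j').flip
    exact (IsPullback.of_right big (htl j').symm (hsq j').flip).flip
  have ht'e : RepWith @Etale (t' j') := (RepWith @Etale).of_isPullback (hsq j').flip hze
  have ht's : RepWith @Surjective (t' j') := (RepWith @Surjective).of_isPullback (hsq j').flip hzs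
  exact isIso_of_isPullback_chart hπrep ht'e ht's hsqX hiso

end Main

end Groth.Agent.Lib.AlgSpLimIso83
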