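import Mathlib
import Groth.Agent.Lib.AlgSpLimIso83

/-!
# Monomorphisms into the stages of a limit of algebraic spaces (helper83)
-/

set_option autoImplicit false
set_option linter.style.haveILetI false
universe u
open CategoryTheory CategoryTheory.Limits AlgebraicGeometry Opposite

namespace Groth.Agent.Lib.AlgSpLimMono83

open AlgSp Groth.Agent.Lib.AlgSpBasic Groth.Agent.Lib.H86Limits
  Groth.Agent.Lib.AlgSpLocP Groth.Agent.Lib.AlgSpLimDesc83 Groth.Agent.Lib.AlgSpLimDescDiag83
  Groth.Agent.Lib.AlgSpLimDescRep83 Groth.Agent.Lib.AlgSpLimClosed83 Groth.Agent.Lib.AlgSpLimSep83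
  Groth.Agent.Lib.AlgSpLimIso83

section Generic

variable {C : Type*} [Category C] [HasPullbacks C]

/-- `A ×_T A' ⟶ A ×_{T'} A'` is the base change of the diagonal of `T ⟶ T'`. -/
theorem isPullback_diagonal_of_map {A A' T T' : C} (f : A ⟶ T) (g : A' ⟶ T) (i : T ⟶ T')
    (f' : A ⟶ T') (g' : A' ⟶ T') (hf : f ≫ i = f') (hg : g ≫ i = g')
    (m : pullback f g ⟶ pullback f' g') (hm1 : m ≫ pullback.fst f' g' = pullback.fst f g)
    (hm2 : m ≫ pullback.snd f' g' = pullback.snd f g)
    (n : pullback f' g' ⟶ pullback i i) (hn1 : n ≫ pullback.fst i i = pullback.fst f' g' ≫ f)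
    (hn2 : n ≫ pullback.snd i i = pullback.snd f' g' ≫ g) :
    IsPullback (pullback.fst f g ≫ f) m (pullback.diagonal i) n := by
  subst hf hg
  have em : m = pullback.map f g (f ≫ i) (g ≫ i) (𝟙 _) (𝟙 _) i (Category.id_comp _).symm
      (Category.id_comp _).symm := by
    apply pullback.hom_ext
    · rw [hm1, pullback.lift_fst, Category.comp_id]
    · rw [hm2, pullback.lift_snd, Category.comp_id]
  have en : n = pullback.map (f ≫ i) (g ≫ i) i i f g (𝟙 _) (Category.comp_id _)
      (Category.comp_id _) := by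
    apply pullback.hom_ext
    · rw [hn1, pullback.lift_fst]
    · rw [hn2, pullback.lift_snd]
  rw [em, en]
  exact pullback_map_diagonal_isPullback f g i

end Generic

section KernelPair

variable {J : Type*} [Category J] {C : Type*} [Category C] [HasPullbacks C]

/-- The transition maps of the system of kernel pairs `Y ×_{X_i} Y`. -/
noncomputable def kpMap {Y : C} {K : J ⥤ C} (m : ∀ j, Y ⟶ K.obj j)
    (hm : ∀ {i j : J} (φ : i ⟶ j), m i ≫ K.map φ = m j) {i j : J} (φ : i ⟶ j) :
    pullback (m i) (m i) ⟶ pullback (m j) (m j) :=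
  pullback.lift (pullback.fst (m i) (m i)) (pullback.snd (m i) (m i)) (by
    rw [← hm φ, pullback.condition_assoc])

@[reassoc (attr := simp)]
theorem kpMap_fst {Y : C} {K : J ⥤ C} (m : ∀ j, Y ⟶ K.obj j)
    (hm : ∀ {i j : J} (φ : i ⟶ j), m i ≫ K.map φ = m j) {i j : J} (φ : i ⟶ j) :
    kpMap m hm φ ≫ pullback.fst (m j) (m j) = pullback.fst (m i) (m i) :=
  pullback.lift_fst _ _ _

@[reassoc (attr := simp)]
theorem kpMap_snd {Y : C} {K : J ⥤ C} (m : ∀ j, Y ⟶ K.obj j)
    (hm : ∀ {i j : J} (φ : i ⟶ j), m i ≫ K.map φ = m j) {i j : J} (φ : i ⟶ j) :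
    kpMap m hm φ ≫ pullback.snd (m j) (m j) = pullback.snd (m i) (m i) :=
  pullback.lift_snd _ _ _

/-- The system of kernel pairs `j ↦ Y ×_{X_j} Y`. -/
noncomputable def kpDiagram {Y : C} {K : J ⥤ C} (m : ∀ j, Y ⟶ K.obj j)
    (hm : ∀ {i j : J} (φ : i ⟶ j), m i ≫ K.map φ = m j) : J ⥤ C where
  obj j := pullback (m j) (m j)
  map φ := kpMap m hm φ
  map_id j := by
    apply pullback.hom_ext
    · rw [kpMap_fst, Category.id_comp]
    · rw [kpMap_snd, Category.id_comp]
  map_comp φ ψ := by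
    apply pullback.hom_ext
    · rw [kpMap_fst, Category.assoc, kpMap_fst, kpMap_fst]
    · rw [kpMap_snd, Category.assoc, kpMap_snd, kpMap_snd]

/-- The cone of diagonals over the system of kernel pairs. -/
noncomputable def kpCone {Y : C} {K : J ⥤ C} (m : ∀ j, Y ⟶ K.obj j)
    (hm : ∀ {i j : J} (φ : i ⟶ j), m i ≫ K.map φ = m j) : Cone (kpDiagram m hm) where
  pt := Y
  π :=
    { app := fun j => pullback.diagonal (m j)
      naturality := fun i j φ => by
        change 𝟙 _ ≫ pullback.diagonal (m j) = pullback.diagonal (m i) ≫ kpMap m hm φ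
        rw [Category.id_comp]
        apply pullback.hom_ext
        · rw [pullback.diagonal_fst, Category.assoc, kpMap_fst, pullback.diagonal_fst]
        · rw [pullback.diagonal_snd, Category.assoc, kpMap_snd, pullback.diagonal_snd] }

/-- The legs of a cone over the system of kernel pairs, with explicit types. -/
def kpLeg {Y : C} {K : J ⥤ C} (m : ∀ j, Y ⟶ K.obj j)
    (hm : ∀ {i j : J} (φ : i ⟶ j), m i ≫ K.map φ = m j) (s : Cone (kpDiagram m hm)) (j : J) :
    s.pt ⟶ pullback (m j) (m j) :=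
  s.π.app j

theorem kpLeg_w {Y : C} {K : J ⥤ C} (m : ∀ j, Y ⟶ K.obj j)
    (hm : ∀ {i j : J} (φ : i ⟶ j), m i ≫ K.map φ = m j) (s : Cone (kpDiagram m hm)) {i j : J}
    (φ : i ⟶ j) : kpLeg m hm s i ≫ kpMap m hm φ = kpLeg m hm s j := s.w φ

/-- If `Y ⟶ lim X_j` is a monomorphism then `Y` is the limit of the kernel pairs `Y ×_{X_j} Y`. -/
noncomputable def isLimitKpCone [IsConnected J] {Y : C} {K : J ⥤ C} {c : Cone K} (l : IsLimit c)
    (y : Y ⟶ c.pt) [Mono y] (m : ∀ j, Y ⟶ K.obj j) (hy : ∀ j, y ≫ c.π.app j = m j)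
    (hm : ∀ {i j : J} (φ : i ⟶ j), m i ≫ K.map φ = m j) : IsLimit (kpCone m hm) := by
  have key1 : ∀ (s : Cone (kpDiagram m hm)) (j j' : J),
      kpLeg m hm s j ≫ pullback.fst (m j) (m j) = kpLeg m hm s j' ≫ pullback.fst (m j') (m j') := by
    intro s
    let α : (Functor.const J).obj s.pt ⟶ (Functor.const J).obj Y :=
      { app := fun j => kpLeg m hm s j ≫ pullback.fst (m j) (m j)
        naturality := fun j k φ => by
          change 𝟙 _ ≫ kpLeg m hm s k ≫ pullback.fst (m k) (m k) =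
            (kpLeg m hm s j ≫ pullback.fst (m j) (m j)) ≫ 𝟙 _
          rw [Category.id_comp, Category.comp_id, ← kpLeg_w m hm s φ, Category.assoc, kpMap_fst] }
    exact fun j j' => nat_trans_from_is_connected α j j'
  have key2 : ∀ (s : Cone (kpDiagram m hm)) (j j' : J),
      kpLeg m hm s j ≫ pullback.snd (m j) (m j) = kpLeg m hm s j' ≫ pullback.snd (m j') (m j') := by
    intro s
    let α : (Functor.const J).obj s.pt ⟶ (Functor.const J).obj Y :=
      { app := fun j => kpLeg m hm s j ≫ pullback.snd (m j) (m j)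
        naturality := fun j k φ => by
          change 𝟙 _ ≫ kpLeg m hm s k ≫ pullback.snd (m k) (m k) =
            (kpLeg m hm s j ≫ pullback.snd (m j) (m j)) ≫ 𝟙 _
          rw [Category.id_comp, Category.comp_id, ← kpLeg_w m hm s φ, Category.assoc, kpMap_snd] }
    exact fun j j' => nat_trans_from_is_connected α j j'
  let j₀ : J := Classical.arbitrary J
  have key3 : ∀ (s : Cone (kpDiagram m hm)),
      kpLeg m hm s j₀ ≫ pullback.fst (m j₀) (m j₀) = kpLeg m hm s j₀ ≫ pullback.snd (m j₀) (m j₀) := by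
    intro s
    have e : ∀ j, (kpLeg m hm s j₀ ≫ pullback.fst (m j₀) (m j₀)) ≫ m j =
        (kpLeg m hm s j₀ ≫ pullback.snd (m j₀) (m j₀)) ≫ m j := by
      intro j
      rw [key1 s j₀ j, key2 s j₀ j, Category.assoc, Category.assoc, pullback.condition]
    rw [← cancel_mono y]
    apply l.hom_ext
    intro j
    have h1 : ((kpLeg m hm s j₀ ≫ pullback.fst (m j₀) (m j₀)) ≫ y) ≫ c.π.app j =
        (kpLeg m hm s j₀ ≫ pullback.fst (m j₀) (m j₀)) ≫ m j := by
      rw [Category.assoc, hy j]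
    have h2 : ((kpLeg m hm s j₀ ≫ pullback.snd (m j₀) (m j₀)) ≫ y) ≫ c.π.app j =
        (kpLeg m hm s j₀ ≫ pullback.snd (m j₀) (m j₀)) ≫ m j := by
      rw [Category.assoc, hy j]
    rw [h1, h2]
    exact e j
  refine
    { lift := fun s => kpLeg m hm s j₀ ≫ pullback.fst (m j₀) (m j₀)
      fac := fun s j => ?_
      uniq := fun s a L => ?_ }
  · change (kpLeg m hm s j₀ ≫ pullback.fst (m j₀) (m j₀)) ≫ pullback.diagonal (m j) = kpLeg m hm s j
    apply pullback.hom_ext
    · rw [Category.assoc, pullback.diagonal_fst, Category.comp_id]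
      exact key1 s _ _
    · rw [Category.assoc, pullback.diagonal_snd, Category.comp_id, key3 s]
      exact key2 s _ _
  · let a' : s.pt ⟶ Y := a
    have L' : a' ≫ pullback.diagonal (m j₀) = kpLeg m hm s j₀ := L j₀
    have e : a' = (a' ≫ pullback.diagonal (m j₀)) ≫ pullback.fst (m j₀) (m j₀) := by
      rw [Category.assoc, pullback.diagonal_fst, Category.comp_id]
    change a' = _
    rw [e, L']
    rfl

end KernelPair

section Main

variable {S : Scheme.{u}} {I : Type u} [SmallCategory I] [IsCofiltered I]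

theorem locP_lfp_id {X : Sp S} (hX : IsAlgSpace X) : LocP @LocallyOfFinitePresentation (𝟙 X) :=
  Groth.Agent.Lib.H69AlgSpLocST2.locP_mono
    (fun _ _ l hl => by have : Etale l := hl; infer_instance)
    ((isEtaleMor_iff_locP hX (𝟙 X)).1 (isEtaleMor_of_isIso (𝟙 X)))

/-- Auxiliary form of `eventually_mono` with the composites `Y ⟶ X_i` as variables. -/
theorem eventually_mono_aux [QuasiSeparatedSpace S] {B : Sp S} (hB : IsAlgSpace B) (D : I ⥤ Sp S)
    (hD : ∀ i, IsAlgSpace (D.obj i)) (t : D ⟶ (Functor.const I).obj B)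
    (hDa : ∀ (i j : I) (φ : i ⟶ j), IsAffineMor (D.map φ))
    (c : Cone D) (hc : IsLimit c) (hqs : ∀ i, IsQuasiSeparatedSp (D.obj i))
    {Y : Sp S} (hY : IsAlgSpace Y) (hYqc : IsQuasiCompactSp Y) (y : Y ⟶ c.pt) [Mono y]
    (m : ∀ i, Y ⟶ D.obj i) (hmy : ∀ i, y ≫ c.π.app i = m i) (i₁ : I)
    (hYB : LocP @LocallyOfFiniteType (m i₁ ≫ t.app i₁)) :
    ∃ i₀ : I, ∀ (i : I) (_ : i ⟶ i₀), Mono (m i) := by
  haveI : IsConnected I := IsCofiltered.isConnected _
  have hm : ∀ {i j : I} (φ : i ⟶ j), m i ≫ D.map φ = m j := fun {i j} φ => by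
    rw [← hmy i, ← hmy j, Category.assoc, c.w]
  have hnat : ∀ {i j : I} (φ : i ⟶ j), D.map φ ≫ t.app j = t.app i := fun φ => by
    have := t.naturality φ
    rw [Functor.const_obj_map] at this
    exact this.trans (Category.comp_id _)
  have hmt : ∀ i, m i ≫ t.app i = m i₁ ≫ t.app i₁ := by
    intro i
    let a := IsCofiltered.minToLeft i i₁
    let b := IsCofiltered.minToRight i i₁
    rw [← hm a, Category.assoc, hnat a, ← hm b, Category.assoc, hnat b]
  have hmlft : ∀ i, LocP @LocallyOfFiniteType (m i) := fun i =>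
    locP_of_comp @LocallyOfFiniteType
      (fun _ _ _ f g hfg => by
        haveI : LocallyOfFiniteType (f ≫ g) := hfg
        exact locallyOfFiniteType_of_comp f g) hB (m i) (t.app i) (by
        rw [hmt i]
        exact hYB)
  let Z : I ⥤ Sp S := kpDiagram m hm
  let cZ : Cone Z := kpCone m hm
  have hcZ : IsLimit cZ := isLimitKpCone hc y m hmy hm
  let tZ : Z ⟶ (Functor.const I).obj Y :=
    { app := fun i => pullback.fst (m i) (m i)
      naturality := fun i j φ => by
        change kpMap m hm φ ≫ pullback.fst (m j) (m j) = pullback.fst (m i) (m i) ≫ 𝟙 _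
        rw [kpMap_fst, Category.comp_id] }
  have hZ : ∀ i, IsAlgSpace (Z.obj i) := fun i =>
    isAlgSpace_of_isPullback hY hY (fun _ a => (hD i).representable_from_yon a)
      (IsPullback.of_hasPullback (m i) (m i))
  have hZc : ∀ (i j : I) (φ : i ⟶ j), RepWith @IsClosedImmersion (Z.map φ) := fun i j φ => by
    have hsep : IsSeparatedMor (D.map φ) :=
      isSeparatedMor_of_isAffineMor (hD i) (hD j) (hDa i j φ)
    let n : pullback (m j) (m j) ⟶ pullback (D.map φ) (D.map φ) :=
      pullback.lift (pullback.fst (m j) (m j) ≫ m i) (pullback.snd (m j) (m j) ≫ m i)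
        (by rw [Category.assoc, Category.assoc, hm φ, pullback.condition])
    have sq := isPullback_diagonal_of_map (m i) (m i) (D.map φ) (m j) (m j) (hm φ) (hm φ)
      (kpMap m hm φ) (kpMap_fst m hm φ) (kpMap_snd m hm φ) n (pullback.lift_fst _ _ _)
      (pullback.lift_snd _ _ _)
    exact (RepWith (S := S) @IsClosedImmersion).of_isPullback sq hsep
  have hZqc : ∀ i, IsQuasiCompactSp (Z.obj i) := fun i =>
    Groth.Agent.Lib.H86QcProd.isQuasiCompactSp_of_isPullback_of_quasiSeparated (hqs i)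
      (IsPullback.of_hasPullback (m i) (m i)) hYqc hYqc
  have hZft : ∀ i, LocP @LocallyOfFiniteType (tZ.app i) := fun i =>
    locP_of_isPullback etLocalClass_lft hY (hD i) hY (IsPullback.of_hasPullback (m i) (m i)).flip
      (hmlft i)
  have hZX : LocP @LocallyOfFinitePresentation (cZ.π.app i₁ ≫ tZ.app i₁) := by
    have e : cZ.π.app i₁ ≫ tZ.app i₁ = 𝟙 Y := pullback.diagonal_fst _
    rw [e]
    exact locP_lfp_id hY
  obtain ⟨i₀, H⟩ := eventually_isIso_π hY Z hZ tZ hZc cZ hcZ hZqc hZft i₁ hZX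
  refine ⟨i₀, fun i φ => ?_⟩
  have h1 : IsIso (pullback.diagonal (m i)) := H i φ
  exact (pullback.isIso_diagonal_iff (m i)).1 h1

/-- **A monomorphism from a quasi-compact algebraic space locally of finite type over `B` into a limit is a
monomorphism into all late stages.** -/
theorem eventually_mono [QuasiSeparatedSpace S] {B : Sp S} (hB : IsAlgSpace B) (D : I ⥤ Sp S)
    (hD : ∀ i, IsAlgSpace (D.obj i)) (t : D ⟶ (Functor.const I).obj B)
    (hDa : ∀ (i j : I) (φ : i ⟶ j), IsAffineMor (D.map φ))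
    (c : Cone D) (hc : IsLimit c) (hqs : ∀ i, IsQuasiSeparatedSp (D.obj i))
    {Y : Sp S} (hY : IsAlgSpace Y) (hYqc : IsQuasiCompactSp Y) (y : Y ⟶ c.pt) [Mono y] (i₁ : I)
    (hYB : LocP @LocallyOfFiniteType (y ≫ c.π.app i₁ ≫ t.app i₁)) :
    ∃ i₀ : I, ∀ (i : I) (_ : i ⟶ i₀), Mono (y ≫ c.π.app i) :=
  eventually_mono_aux hB D hD t hDa c hc hqs hY hYqc y (fun i => y ≫ c.π.app i) (fun _ => rfl) i₁
    (by rwa [Category.assoc])

end Main

end Groth.Agent.Lib.AlgSpLimMono83
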