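import Mathlib
import Groth.Agent.Lib.AlgSpLimSep83

/-!
# Relative separatedness of the stages of a limit of algebraic spaces (helper83)
-/

set_option autoImplicit false
set_option linter.style.haveILetI false
universe u
open CategoryTheory CategoryTheory.Limits AlgebraicGeometry Opposite

namespace Groth.Agent.Lib.AlgSpLimSepRel83

open AlgSp Groth.Agent.Lib.AlgSpBasic Groth.Agent.Lib.H86Limits
  Groth.Agent.Lib.AlgSpLocP Groth.Agent.Lib.AlgSpLimDesc83 Groth.Agent.Lib.AlgSpLimDescDiag83
  Groth.Agent.Lib.AlgSpLimDescRep83 Groth.Agent.Lib.AlgSpLimClosed83 Groth.Agent.Lib.AlgSpLimSep83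

section Generic

variable {C : Type*} [Category C] [HasPullbacks C]

/-- A map of fibre products over `Y` changing only the first factor is a base change of that change. -/
theorem isPullback_fst_of_map {A A' B Y : C} (a : A ⟶ Y) (b : B ⟶ Y) (a' : A' ⟶ Y) (φ : A' ⟶ A)
    (hφ : φ ≫ a = a') (m : pullback a' b ⟶ pullback a b)
    (h1 : m ≫ pullback.fst a b = pullback.fst a' b ≫ φ)
    (h2 : m ≫ pullback.snd a b = pullback.snd a' b) :
    IsPullback m (pullback.fst a' b) (pullback.fst a b) φ := by
  refine IsPullback.of_right (h₁₂ := pullback.snd a b) (v₁₃ := b) (h₂₂ := a) ?_ h1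
    (IsPullback.of_hasPullback a b).flip
  rw [h2, hφ]
  exact (IsPullback.of_hasPullback a' b).flip

/-- A map of fibre products over `Y` changing only the second factor is a base change of that change. -/
theorem isPullback_snd_of_map {A B B' Y : C} (a : A ⟶ Y) (b : B ⟶ Y) (b' : B' ⟶ Y) (φ : B' ⟶ B)
    (hφ : φ ≫ b = b') (m : pullback a b' ⟶ pullback a b)
    (h1 : m ≫ pullback.fst a b = pullback.fst a b')
    (h2 : m ≫ pullback.snd a b = pullback.snd a b' ≫ φ) :
    IsPullback m (pullback.snd a b') (pullback.snd a b) φ := by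
  refine IsPullback.of_right (h₁₂ := pullback.fst a b) (v₁₃ := a) (h₂₂ := b) ?_ h2
    (IsPullback.of_hasPullback a b)
  rw [h1, hφ]
  exact IsPullback.of_hasPullback a b'

/-- The relative graph of `π : X ⟶ A` over `Y` is the base change of the relative diagonal of `A`. -/
theorem isPullback_graph_rel {X A Y : C} (g : X ⟶ Y) (a : A ⟶ Y) (π : X ⟶ A) (hπ : π ≫ a = g)
    (Γ : X ⟶ pullback g a) (hΓ1 : Γ ≫ pullback.fst g a = 𝟙 X) (hΓ2 : Γ ≫ pullback.snd g a = π)
    (m : pullback g a ⟶ pullback a a) (hm1 : m ≫ pullback.fst a a = pullback.fst g a ≫ π)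
    (hm2 : m ≫ pullback.snd a a = pullback.snd g a) :
    IsPullback π Γ (pullback.diagonal a) m := by
  refine IsPullback.of_bot (v₂₁ := pullback.fst g a) (v₂₂ := pullback.fst a a) (h₃₁ := π) ?_ ?_
    (isPullback_fst_of_map a a g π hπ m hm1 hm2)
  · rw [hΓ1, pullback.diagonal_fst]
    exact IsPullback.of_vert_isIso ⟨by simp⟩
  · apply pullback.hom_ext
    · rw [Category.assoc, Category.assoc, pullback.diagonal_fst, hm1, ← Category.assoc, hΓ1,
        Category.id_comp, Category.comp_id]
    · rw [Category.assoc, Category.assoc, pullback.diagonal_snd, hm2, hΓ2, Category.comp_id]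

end Generic

section RelLimit

variable {J : Type*} [Category J] {C : Type*} [Category C] [HasPullbacks C]

/-- The transition maps of `j ↦ X ×_Y K j`. -/
noncomputable def relMap {X Y : C} (g : X ⟶ Y) {K : J ⥤ C} (t : K ⟶ (Functor.const J).obj Y)
    {i j : J} (φ : i ⟶ j) : pullback g (t.app i) ⟶ pullback g (t.app j) :=
  pullback.lift (pullback.fst g (t.app i)) (pullback.snd g (t.app i) ≫ K.map φ) (by
    have := t.naturality φ
    simp only [Functor.const_obj_obj, Functor.const_obj_map, Category.comp_id] at this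
    rw [Category.assoc, this, pullback.condition])

@[reassoc (attr := simp)]
theorem relMap_fst {X Y : C} (g : X ⟶ Y) {K : J ⥤ C} (t : K ⟶ (Functor.const J).obj Y)
    {i j : J} (φ : i ⟶ j) : relMap g t φ ≫ pullback.fst g (t.app j) = pullback.fst g (t.app i) :=
  pullback.lift_fst _ _ _

@[reassoc (attr := simp)]
theorem relMap_snd {X Y : C} (g : X ⟶ Y) {K : J ⥤ C} (t : K ⟶ (Functor.const J).obj Y)
    {i j : J} (φ : i ⟶ j) :
    relMap g t φ ≫ pullback.snd g (t.app j) = pullback.snd g (t.app i) ≫ K.map φ :=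
  pullback.lift_snd _ _ _

/-- The diagram `j ↦ X ×_Y K j`. -/
noncomputable def relDiagram {X Y : C} (g : X ⟶ Y) {K : J ⥤ C} (t : K ⟶ (Functor.const J).obj Y) :
    J ⥤ C where
  obj j := pullback g (t.app j)
  map φ := relMap g t φ
  map_id j := by
    apply pullback.hom_ext
    · rw [relMap_fst, Category.id_comp]
    · rw [relMap_snd, K.map_id, Category.comp_id, Category.id_comp]
  map_comp φ ψ := by
    apply pullback.hom_ext
    · rw [relMap_fst, Category.assoc, relMap_fst, relMap_fst]
    · rw [relMap_snd, Category.assoc, relMap_snd, relMap_snd_assoc, K.map_comp]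

/-- The legs of the cone `X ×_Y c` on `j ↦ X ×_Y K j`. -/
noncomputable def relConeLeg {X Y : C} (g : X ⟶ Y) {K : J ⥤ C} (t : K ⟶ (Functor.const J).obj Y)
    (c : Cone K) (γ : c.pt ⟶ Y) (hγ : ∀ j, c.π.app j ≫ t.app j = γ) (j : J) :
    pullback g γ ⟶ pullback g (t.app j) :=
  pullback.lift (pullback.fst g γ) (pullback.snd g γ ≫ c.π.app j) (by
    rw [Category.assoc, hγ j, pullback.condition])

@[reassoc (attr := simp)]
theorem relConeLeg_fst {X Y : C} (g : X ⟶ Y) {K : J ⥤ C} (t : K ⟶ (Functor.const J).obj Y)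
    (c : Cone K) (γ : c.pt ⟶ Y) (hγ : ∀ j, c.π.app j ≫ t.app j = γ) (j : J) :
    relConeLeg g t c γ hγ j ≫ pullback.fst g (t.app j) = pullback.fst g γ :=
  pullback.lift_fst _ _ _

@[reassoc (attr := simp)]
theorem relConeLeg_snd {X Y : C} (g : X ⟶ Y) {K : J ⥤ C} (t : K ⟶ (Functor.const J).obj Y)
    (c : Cone K) (γ : c.pt ⟶ Y) (hγ : ∀ j, c.π.app j ≫ t.app j = γ) (j : J) :
    relConeLeg g t c γ hγ j ≫ pullback.snd g (t.app j) = pullback.snd g γ ≫ c.π.app j :=
  pullback.lift_snd _ _ _

/-- The cone `X ×_Y c` on `j ↦ X ×_Y K j`. -/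
noncomputable def relCone {X Y : C} (g : X ⟶ Y) {K : J ⥤ C} (t : K ⟶ (Functor.const J).obj Y)
    (c : Cone K) (γ : c.pt ⟶ Y) (hγ : ∀ j, c.π.app j ≫ t.app j = γ) : Cone (relDiagram g t) where
  pt := pullback g γ
  π :=
    { app := fun j => relConeLeg g t c γ hγ j
      naturality := fun j k φ => by
        change 𝟙 _ ≫ relConeLeg g t c γ hγ k = relConeLeg g t c γ hγ j ≫ relMap g t φ
        rw [Category.id_comp]
        apply pullback.hom_ext
        · rw [relConeLeg_fst, Category.assoc, relMap_fst, relConeLeg_fst]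
        · rw [relConeLeg_snd, Category.assoc, relMap_snd, relConeLeg_snd_assoc, c.w] }

/-- The legs of a cone on `j ↦ X ×_Y K j`, with their types made explicit. -/
def relLeg {X Y : C} (g : X ⟶ Y) {K : J ⥤ C} (t : K ⟶ (Functor.const J).obj Y)
    (s : Cone (relDiagram g t)) (j : J) : s.pt ⟶ pullback g (t.app j) :=
  s.π.app j

theorem relLeg_w {X Y : C} (g : X ⟶ Y) {K : J ⥤ C} (t : K ⟶ (Functor.const J).obj Y)
    (s : Cone (relDiagram g t)) {j k : J} (φ : j ⟶ k) :
    relLeg g t s j ≫ relMap g t φ = relLeg g t s k := s.w φ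

/-- `X ×_Y -` preserves connected limits. -/
noncomputable def isLimitRelCone [IsConnected J] {X Y : C} (g : X ⟶ Y) {K : J ⥤ C}
    (t : K ⟶ (Functor.const J).obj Y) {c : Cone K} (l : IsLimit c) (γ : c.pt ⟶ Y)
    (hγ : ∀ j, c.π.app j ≫ t.app j = γ) : IsLimit (relCone g t c γ hγ) := by
  have key : ∀ (s : Cone (relDiagram g t)) (j j' : J),
      relLeg g t s j ≫ pullback.fst g (t.app j) = relLeg g t s j' ≫ pullback.fst g (t.app j') := by
    intro s
    let α : (Functor.const J).obj s.pt ⟶ (Functor.const J).obj X :=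
      { app := fun j => relLeg g t s j ≫ pullback.fst g (t.app j)
        naturality := fun j k φ => by
          change 𝟙 _ ≫ relLeg g t s k ≫ pullback.fst g (t.app k) =
            (relLeg g t s j ≫ pullback.fst g (t.app j)) ≫ 𝟙 _
          rw [Category.id_comp, Category.comp_id, ← relLeg_w g t s φ, Category.assoc, relMap_fst] }
    exact fun j j' => nat_trans_from_is_connected α j j'
  let sc : Cone (relDiagram g t) → Cone K := fun s =>
    { pt := s.pt
      π :=
        { app := fun j => relLeg g t s j ≫ pullback.snd g (t.app j)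
          naturality := fun j k φ => by
            change 𝟙 _ ≫ relLeg g t s k ≫ pullback.snd g (t.app k) =
              (relLeg g t s j ≫ pullback.snd g (t.app j)) ≫ K.map φ
            rw [Category.id_comp, ← relLeg_w g t s φ, Category.assoc, relMap_snd,
              Category.assoc] } }
  have hsc : ∀ (s : Cone (relDiagram g t)) (j : J),
      l.lift (sc s) ≫ c.π.app j = relLeg g t s j ≫ pullback.snd g (t.app j) := fun s j =>
    l.fac (sc s) j
  let j₀ : J := Classical.arbitrary J
  refine
    { lift := fun s => pullback.lift (relLeg g t s j₀ ≫ pullback.fst g (t.app j₀)) (l.lift (sc s))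
        (by rw [← hγ j₀, ← Category.assoc (l.lift (sc s)), hsc, Category.assoc, Category.assoc,
          pullback.condition])
      fac := fun s j => ?_
      uniq := fun s m L => ?_ }
  · change pullback.lift _ _ _ ≫ relConeLeg g t c γ hγ j = relLeg g t s j
    apply pullback.hom_ext
    · rw [Category.assoc, relConeLeg_fst, pullback.lift_fst]
      exact key s _ _
    · rw [Category.assoc, relConeLeg_snd, ← Category.assoc, pullback.lift_snd, hsc]
  · let m' : s.pt ⟶ pullback g γ := m
    have L' : ∀ j, m' ≫ relConeLeg g t c γ hγ j = relLeg g t s j := L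
    change m' = _
    apply pullback.hom_ext
    · rw [pullback.lift_fst, ← L' j₀, Category.assoc, relConeLeg_fst]
    · rw [pullback.lift_snd]
      apply l.uniq (sc s)
      intro j
      change (m' ≫ pullback.snd g γ) ≫ c.π.app j = relLeg g t s j ≫ pullback.snd g (t.app j)
      rw [← L' j, Category.assoc, Category.assoc, relConeLeg_snd]

end RelLimit

section Main

variable {S : Scheme.{u}} {I : Type u} [SmallCategory I] [IsCofiltered I]
  {Y : Sp S} (hY : IsAlgSpace Y)
  (D : I ⥤ Sp S) (hD : ∀ i, IsAlgSpace (D.obj i))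
  (t : D ⟶ (Functor.const I).obj Y)
  (hDa : ∀ (i j : I) (φ : i ⟶ j), IsAffineMor (D.map φ))
  (c : Cone D) (hc : IsLimit c) (g : c.pt ⟶ Y) (hg : ∀ i, c.π.app i ≫ t.app i = g)

include hY hD hDa hc hg in
/-- **If the limit is separated over `Y`, some stage is separated over `Y`.** -/
theorem exists_isSeparatedMor_stage [QuasiSeparatedSpace S]
    (hqc : ∀ i, IsQuasiCompactSp (D.obj i)) (hqs : ∀ i, IsQuasiSeparatedSp (D.obj i))
    (hYqs : IsQuasiSeparatedSp Y) (hX : IsSeparatedMor g) : ∃ i, IsSeparatedMor (t.app i) := by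
  haveI : IsConnected I := IsCofiltered.isConnected _
  obtain ⟨hX_alg, hπaff⟩ := isAlgSpace_of_isLimit_of_isAffineMor D hD hDa c hc
  obtain ⟨i₁⟩ := IsCofiltered.nonempty (C := I)
  have hXqc : IsQuasiCompactSp c.pt := isQuasiCompactSp_limit D hDa c hc i₁ (hqc i₁)
  have hpb_alg : ∀ {A B : Sp S} (a : A ⟶ Y) (b : B ⟶ Y), IsAlgSpace A → IsAlgSpace B →
      IsAlgSpace (pullback a b) := fun a b hA hB =>
    isAlgSpace_of_isPullback hA hB (fun _ z => hY.representable_from_yon z)
      (IsPullback.of_hasPullback a b)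
  have hpb_qc : ∀ {A B : Sp S} (a : A ⟶ Y) (b : B ⟶ Y), IsQuasiCompactSp A → IsQuasiCompactSp B →
      IsQuasiCompactSp (pullback a b) := fun a b hA hB =>
    Groth.Agent.Lib.H86QcProd.isQuasiCompactSp_of_isPullback_of_quasiSeparated hYqs
      (IsPullback.of_hasPullback a b) hA hB
  have hpb_qs : ∀ {A B : Sp S} (a : A ⟶ Y) (b : B ⟶ Y), IsQuasiSeparatedSp A →
      IsQuasiSeparatedSp B → IsQuasiSeparatedSp (pullback a b) := fun a b hA hB =>
    Groth.Agent.Lib.H86QcProd.repWith_diag_of_isPullback @QuasiCompact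
      (IsPullback.of_hasPullback a b) hA hB
  have hnat : ∀ {i j : I} (φ : i ⟶ j), D.map φ ≫ t.app j = t.app i := fun φ => by
    have := t.naturality φ
    rw [Functor.const_obj_map] at this
    exact this.trans (Category.comp_id _)
  -- Step 1: the relative graph `X ⟶ X ×_Y X_i` is a closed immersion for late `i`
  let D' : I ⥤ Sp S := relDiagram g t
  let c' : Cone D' := relCone g t c g hg
  have hc' : IsLimit c' := isLimitRelCone g t hc g hg
  let t' : D' ⟶ (Functor.const I).obj c.pt :=
    { app := fun i => pullback.fst g (t.app i)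
      naturality := fun i j φ => by
        change relMap g t φ ≫ pullback.fst g (t.app j) = pullback.fst g (t.app i) ≫ 𝟙 _
        rw [relMap_fst, Category.comp_id] }
  have hD' : ∀ i, IsAlgSpace (D'.obj i) := fun i => hpb_alg g (t.app i) hX_alg (hD i)
  have hDa' : ∀ (i j : I) (φ : i ⟶ j), IsAffineMor (D'.map φ) := fun i j φ =>
    isAffineMor_of_isPullback
      (isPullback_snd_of_map g (t.app j) (t.app i) (D.map φ) (hnat φ) (relMap g t φ)
        (relMap_fst g t φ) (relMap_snd g t φ)).flip (hDa i j φ)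
  have hqc' : ∀ i, IsQuasiCompactSp (D'.obj i) := fun i => hpb_qc g (t.app i) hXqc (hqc i)
  let y : c.pt ⟶ c'.pt := pullback.diagonal g
  have hy : RepWith @IsClosedImmersion y := hX
  have hYB : LocP @LocallyOfFiniteType (y ≫ c'.π.app i₁ ≫ t'.app i₁) := by
    have e : y ≫ c'.π.app i₁ ≫ t'.app i₁ = 𝟙 c.pt := by
      change pullback.diagonal g ≫ relConeLeg g t c g hg i₁ ≫ pullback.fst g (t.app i₁) = 𝟙 c.pt
      rw [relConeLeg_fst, pullback.diagonal_fst]
    rw [e]
    exact locP_lft_id hX_alg
  obtain ⟨i₀, H1⟩ := closedImmersion_into_stage hX_alg D' hD' t' hDa' c' hc' hqc' y hy i₁ hYB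
  let Γ : c.pt ⟶ pullback g (t.app i₀) :=
    pullback.lift (𝟙 c.pt) (c.π.app i₀) (by rw [Category.id_comp, hg])
  have hΓ : RepWith @IsClosedImmersion Γ := by
    have h1 := H1 i₀ (𝟙 i₀)
    have e : y ≫ c'.π.app i₀ = Γ := by
      change pullback.diagonal g ≫ relConeLeg g t c g hg i₀ = _
      apply pullback.hom_ext
      · rw [Category.assoc, relConeLeg_fst, pullback.diagonal_fst, pullback.lift_fst]
      · rw [Category.assoc, relConeLeg_snd, pullback.diagonal_snd_assoc, pullback.lift_snd]
    rwa [e] at h1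
  -- Step 2: descend to a stage
  let As : AlgSp.Space S := ⟨D.obj i₀, hD i₀⟩
  let Ys : AlgSp.Space S := ⟨Y, hY⟩
  let ts : As ⟶ Ys := ObjectProperty.homMk (t.app i₀)
  have hf₀ : RepWith @LocallyOfFiniteType (pullback.diagonal (t.app i₀)) :=
    (Groth.Agent.Lib.H69AlgSpMor.diagonal_hom_properties ts).2.1
  let pY : pullback g (t.app i₀) ⟶ pullback (t.app i₀) (t.app i₀) :=
    pullback.lift (pullback.fst g (t.app i₀) ≫ c.π.app i₀) (pullback.snd g (t.app i₀))
      (by rw [Category.assoc, hg, pullback.condition])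
  obtain ⟨k, φ, H2⟩ := descend_isClosedImmersion_of_representable D hDa c hc i₀
    (pullback.diagonal (t.app i₀)) (pullback.fst (t.app i₀) (t.app i₀))
    (hqc i₀) (hqs i₀) (hpb_qc _ _ (hqc i₀) (hqc i₀)) (hpb_qs _ _ (hqs i₀) (hqs i₀))
    Γ pY (pullback.fst g (t.app i₀))
    (isPullback_fst_of_map (t.app i₀) (t.app i₀) g (c.π.app i₀) (hg i₀) pY
      (pullback.lift_fst _ _ _) (pullback.lift_snd _ _ _))
    (c.π.app i₀)
    (isPullback_graph_rel g (t.app i₀) (c.π.app i₀) (hg i₀) Γ (pullback.lift_fst _ _ _)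
      (pullback.lift_snd _ _ _) pY (pullback.lift_fst _ _ _) (pullback.lift_snd _ _ _)) hf₀ hΓ
  have hφ : D.map φ ≫ t.app i₀ = t.app k := hnat φ
  let Γk : D.obj k ⟶ pullback (t.app k) (t.app i₀) :=
    pullback.lift (𝟙 _) (D.map φ) (by rw [Category.id_comp, hφ])
  let pYk : pullback (t.app k) (t.app i₀) ⟶ pullback (t.app i₀) (t.app i₀) :=
    pullback.lift (pullback.fst (t.app k) (t.app i₀) ≫ D.map φ) (pullback.snd (t.app k) (t.app i₀))
      (by rw [Category.assoc, hφ, pullback.condition])
  have hΓk : RepWith @IsClosedImmersion Γk :=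
    H2 (D.obj k) (pullback (t.app k) (t.app i₀)) Γk pYk (pullback.fst (t.app k) (t.app i₀))
      (isPullback_fst_of_map (t.app i₀) (t.app i₀) (t.app k) (D.map φ) hφ pYk
        (pullback.lift_fst _ _ _) (pullback.lift_snd _ _ _))
      (D.map φ)
      (isPullback_graph_rel (t.app k) (t.app i₀) (D.map φ) hφ Γk (pullback.lift_fst _ _ _)
        (pullback.lift_snd _ _ _) pYk (pullback.lift_fst _ _ _) (pullback.lift_snd _ _ _))
  -- Step 3: cancellation
  let q : pullback (t.app k) (t.app k) ⟶ pullback (t.app k) (t.app i₀) :=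
    pullback.lift (pullback.fst (t.app k) (t.app k)) (pullback.snd (t.app k) (t.app k) ≫ D.map φ)
      (by rw [Category.assoc, hφ, pullback.condition])
  have hq : IsSeparatedMor q :=
    isSeparatedMor_of_isAffineMor (hpb_alg _ _ (hD k) (hD k)) (hpb_alg _ _ (hD k) (hD i₀))
      (isAffineMor_of_isPullback
        (isPullback_snd_of_map (t.app k) (t.app i₀) (t.app k) (D.map φ) hφ q
          (pullback.lift_fst _ _ _) (pullback.lift_snd _ _ _)).flip (hDa k i₀ φ))
  have e : pullback.diagonal (t.app k) ≫ q = Γk := by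
    apply pullback.hom_ext
    · rw [Category.assoc, pullback.lift_fst, pullback.diagonal_fst, pullback.lift_fst]
    · rw [Category.assoc, pullback.lift_snd, pullback.diagonal_snd_assoc, pullback.lift_snd]
  exact ⟨k, repWith_isClosedImmersion_of_comp (pullback.diagonal (t.app k)) q hq
    (by rw [e]; exact hΓk)⟩

include hY hD hDa hc hg in
/-- **If the limit is separated over `Y`, all late stages are separated over `Y`.** -/
theorem eventually_isSeparatedMor [QuasiSeparatedSpace S]
    (hqc : ∀ i, IsQuasiCompactSp (D.obj i)) (hqs : ∀ i, IsQuasiSeparatedSp (D.obj i))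
    (hYqs : IsQuasiSeparatedSp Y) (hX : IsSeparatedMor g) :
    ∃ i₀ : I, ∀ (i : I) (_ : i ⟶ i₀), IsSeparatedMor (t.app i) := by
  obtain ⟨k, hk⟩ := exists_isSeparatedMor_stage hY D hD t hDa c hc g hg hqc hqs hYqs hX
  refine ⟨k, fun i ψ => ?_⟩
  have e : t.app i = D.map ψ ≫ t.app k := by
    have := t.naturality ψ
    rw [Functor.const_obj_map] at this
    exact (this.trans (Category.comp_id _)).symm
  rw [e]
  exact Groth.Agent.Lib.AlgSpProper.isSeparatedMor_comp
    (isSeparatedMor_of_isAffineMor (hD i) (hD k) (hDa i k ψ)) hk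

end Main

end Groth.Agent.Lib.AlgSpLimSepRel83
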