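import Groth.Prelude
import Groth.Agent.Lib.AlgSpBasic

set_option autoImplicit false

universe u
open CategoryTheory CategoryTheory.Limits AlgebraicGeometry Opposite
open AlgSp

namespace Groth.Agent.Lib.AlgSpLocNoeth46
open Groth.Agent.Lib.AlgSpBasic

variable {S : Scheme.{u}}

/-- A sheaf with a representable locally of finite type morphism to a locally Noetherian one is locally Noetherian. -/
theorem isLocNoethSp_of_repWith_lft {Z X : Sp S} (i : Z ⟶ X) (hi : RepWith @LocallyOfFiniteType i)
    (hX : IsLocNoethSp X) : IsLocNoethSp Z := by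
  obtain ⟨U, a, hae, has, hU⟩ := hX
  have sq := hi.rep.isPullback a
  have h1 : LocallyOfFiniteType (hi.rep.snd a).left := hi.property_snd a
  have : IsLocallyNoetherian U.left := hU
  exact ⟨hi.rep.pullback a, hi.rep.fst a, repWith_fst_of_isPullback _ sq hae,
    repWith_fst_of_isPullback _ sq has, LocallyOfFiniteType.isLocallyNoetherian (hi.rep.snd a).left⟩

end Groth.Agent.Lib.AlgSpLocNoeth46
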