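import Groth.Prelude.Def_Flat
import Mathlib.AlgebraicGeometry.Morphisms.UniversallyInjective
import Mathlib.AlgebraicGeometry.Morphisms.UniversallyClosed
import Mathlib.AlgebraicGeometry.Morphisms.UniversallyOpen
import Mathlib.AlgebraicGeometry.Morphisms.UnderlyingMap
import Mathlib.AlgebraicGeometry.Morphisms.Immersion
import Mathlib.AlgebraicGeometry.Morphisms.Separated
import Mathlib.AlgebraicGeometry.PullbackCarrier
import Mathlib.AlgebraicGeometry.Morphisms.Integral

set_option autoImplicit false
universe u

namespace Groth.Agent.Lib.UnivHomeo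

open AlgebraicGeometry CategoryTheory Limits MorphismProperty FlatMor

variable {X Y Z : Scheme.{u}}

theorem isUnivHomeo_iff (f : X ⟶ Y) :
    IsUnivHomeo f ↔ universally (topologically fun f => IsHomeomorph f) f := Iff.rfl

theorem isHomeomorph {f : X ⟶ Y} (h : IsUnivHomeo f) : IsHomeomorph f :=
  universally_le _ _ h

theorem universallyInjective {f : X ⟶ Y} (h : IsUnivHomeo f) : UniversallyInjective f :=
  ⟨universally_mono (fun _ _ _ hg ↦ IsHomeomorph.injective hg) _ h⟩

theorem universallyClosed {f : X ⟶ Y} (h : IsUnivHomeo f) : UniversallyClosed f :=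
  ⟨universally_mono (fun _ _ _ hg ↦ IsHomeomorph.isClosedMap hg) _ h⟩

theorem universallyOpen {f : X ⟶ Y} (h : IsUnivHomeo f) : UniversallyOpen f :=
  ⟨universally_mono (fun _ _ _ hg ↦ IsHomeomorph.isOpenMap hg) _ h⟩

theorem surjective {f : X ⟶ Y} (h : IsUnivHomeo f) : Surjective f :=
  ⟨(isHomeomorph h).surjective⟩

theorem quasiCompact {f : X ⟶ Y} (h : IsUnivHomeo f) : QuasiCompact f :=
  have := universallyClosed h
  inferInstance

instance : IsStableUnderBaseChange (IsUnivHomeo : MorphismProperty Scheme.{u}) :=
  universally_isStableUnderBaseChange _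

instance : (IsUnivHomeo : MorphismProperty Scheme.{u}).RespectsIso :=
  universally_respectsIso _

instance : (topologically fun f => IsHomeomorph f).IsStableUnderComposition :=
  topologically_isStableUnderComposition _ (fun _ _ hf hg ↦ hg.comp hf)

instance : IsStableUnderComposition (IsUnivHomeo : MorphismProperty Scheme.{u}) :=
  IsStableUnderComposition.universally _

theorem of_isIso (f : X ⟶ Y) [IsIso f] : IsUnivHomeo f := by
  intro X' Y' i₁ i₂ f' H
  have : IsIso f' := H.isIso_fst_of_isIso
  exact f'.homeomorph.isHomeomorph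

instance : IsMultiplicative (IsUnivHomeo : MorphismProperty Scheme.{u}) where
  id_mem _ := of_isIso _

theorem comp {f : X ⟶ Y} {g : Y ⟶ Z} (hf : IsUnivHomeo f) (hg : IsUnivHomeo g) :
    IsUnivHomeo (f ≫ g) :=
  comp_mem _ f g hf hg

/-- A morphism is a universal homeomorphism iff it is universally injective, surjective and
universally closed. -/
theorem iff_universallyInjective_surjective_universallyClosed (f : X ⟶ Y) :
    IsUnivHomeo f ↔ UniversallyInjective f ∧ Surjective f ∧ UniversallyClosed f := by
  refine ⟨fun h ↦ ⟨universallyInjective h, surjective h, universallyClosed h⟩, ?_⟩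
  rintro ⟨h1, h2, h3⟩ X' Y' i₁ i₂ f' H
  have h1' : UniversallyInjective f' := MorphismProperty.of_isPullback H.flip h1
  have h2' : Surjective f' := MorphismProperty.of_isPullback H.flip h2
  have h3' : UniversallyClosed f' := MorphismProperty.of_isPullback H.flip h3
  exact (isHomeomorph_iff_continuous_isClosedMap_bijective).mpr
    ⟨f'.continuous, f'.isClosedMap, f'.injective, f'.surjective⟩

/-- A surjective immersion is a universal homeomorphism. -/
theorem of_isImmersion_of_surjective (f : X ⟶ Y) [IsImmersion f] [Surjective f] :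
    IsUnivHomeo f := by
  intro X' Y' i₁ i₂ f' H
  have h1' : IsImmersion f' := MorphismProperty.of_isPullback H.flip inferInstance
  have h2' : Surjective f' := MorphismProperty.of_isPullback H.flip inferInstance
  exact isHomeomorph_iff_isEmbedding_surjective.mpr ⟨f'.isEmbedding, f'.surjective⟩

/-- The diagonal of a universal homeomorphism is a universal homeomorphism. -/
theorem diagonal {f : X ⟶ Y} (h : IsUnivHomeo f) : IsUnivHomeo (pullback.diagonal f) := by
  have := (UniversallyInjective.iff_diagonal f).mp (universallyInjective h)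
  exact of_isImmersion_of_surjective _

/-- If `g ≫ h` and `h` are universal homeomorphisms, so is `g`. -/
theorem of_comp_right {g : X ⟶ Y} {h : Y ⟶ Z} (hgh : IsUnivHomeo (g ≫ h)) (hh : IsUnivHomeo h) :
    IsUnivHomeo g := by
  have : HasOfPostcompProperty (IsUnivHomeo : MorphismProperty Scheme.{u}) IsUnivHomeo := by
    rw [hasOfPostcompProperty_iff_le_diagonal]
    intro X Y f hf
    exact diagonal hf
  exact of_postcomp _ (W' := IsUnivHomeo) g h hh hgh

/-- If `g ≫ h` and `g` are universal homeomorphisms, so is `h`. -/
theorem of_comp_left {g : X ⟶ Y} {h : Y ⟶ Z} (hgh : IsUnivHomeo (g ≫ h)) (hg : IsUnivHomeo g) :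
    IsUnivHomeo h := by
  intro Y' Z' i₁ i₂ h' H
  -- form the pullback of g along i₁
  have H' : IsPullback (pullback.snd g i₁) (pullback.fst g i₁) i₁ g :=
    (IsPullback.of_hasPullback g i₁).flip
  have hg' : IsHomeomorph (pullback.snd g i₁) := hg _ _ _ H'
  have hgh' : IsHomeomorph (pullback.snd g i₁ ≫ h') := hgh _ _ _ (H'.paste_horiz H)
  have : (h' : Y' → Z') = (pullback.snd g i₁ ≫ h') ∘ hg'.homeomorph.symm := by
    ext y
    simp only [Function.comp_apply, Scheme.Hom.comp_apply]
    congr 1
    exact (hg'.homeomorph.apply_symm_apply y).symm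
  show IsHomeomorph h'
  rw [this]
  exact hgh'.comp hg'.homeomorph.symm.isHomeomorph

/-- A universal homeomorphism is an affine morphism. -/
theorem isAffineHom {f : X ⟶ Y} (h : IsUnivHomeo f) : IsAffineHom f := by
  have hf := isHomeomorph h
  refine isAffineHom_of_isInducing f hf.isInducing ?_
  rw [hf.surjective.range_eq]
  exact isClosed_univ

/-- A universal homeomorphism is integral. -/
theorem isIntegralHom {f : X ⟶ Y} (h : IsUnivHomeo f) : IsIntegralHom f :=
  IsIntegralHom.iff_universallyClosed_and_isAffineHom.mpr ⟨universallyClosed h, isAffineHom h⟩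

/-- A morphism is a universal homeomorphism iff it is integral, universally injective and
surjective. -/
theorem iff_isIntegralHom_universallyInjective_surjective (f : X ⟶ Y) :
    IsUnivHomeo f ↔ IsIntegralHom f ∧ UniversallyInjective f ∧ Surjective f := by
  refine ⟨fun h ↦ ⟨isIntegralHom h, universallyInjective h, surjective h⟩, ?_⟩
  rintro ⟨h1, h2, h3⟩
  exact (iff_universallyInjective_surjective_universallyClosed f).mpr ⟨h2, h3, inferInstance⟩

end Groth.Agent.Lib.UnivHomeo
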