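import Mathlib
import Groth.Agent.Lib.UnivHomeo

/-!
# Topological invariance of étale morphisms: full faithfulness (helper80)

For `X` étale over `S` and `g : S' ⟶ S` a universal homeomorphism, base change along `g` is a
bijection `Hom_S(Y, X) ≃ Hom_{S'}(Y', X')` for every `S`-scheme `Y`.
-/

set_option autoImplicit false
universe u
open CategoryTheory CategoryTheory.Limits AlgebraicGeometry Opposite

namespace Groth.Agent.Lib.H80TopInv

/-- Two `Y`-morphisms into an unramified `Y`-scheme that agree after a surjective map agree. -/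
theorem eq_of_surjective_comp_eq {T T' U Y : Scheme.{u}} (f : U ⟶ Y)
    [IsOpenImmersion (pullback.diagonal f)] (a b : T ⟶ U) (hab : a ≫ f = b ≫ f)
    (j : T' ⟶ T) [Surjective j] (hj : j ≫ a = j ≫ b) : a = b := by
  let l : T ⟶ pullback f f := pullback.lift a b hab
  let e : pullback l (pullback.diagonal f) ⟶ T := pullback.fst l (pullback.diagonal f)
  have he : e ≫ a = e ≫ b := by
    have h1 : e ≫ l = pullback.snd l (pullback.diagonal f) ≫ pullback.diagonal f :=
      pullback.condition
    have h2 := congrArg (· ≫ pullback.fst f f) h1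
    have h3 := congrArg (· ≫ pullback.snd f f) h1
    simp only [Category.assoc, l, pullback.lift_fst, pullback.lift_snd, pullback.diagonal_fst,
      pullback.diagonal_snd, Category.comp_id] at h2 h3
    rw [h2, h3]
  have hjl : j ≫ l = (j ≫ a) ≫ pullback.diagonal f := by
    apply pullback.hom_ext
    · simp only [l, Category.assoc]
      rw [pullback.lift_fst, pullback.diagonal_fst, Category.comp_id]
    · simp only [l, Category.assoc]
      rw [pullback.lift_snd, pullback.diagonal_snd, Category.comp_id, hj]
  let m : T' ⟶ pullback l (pullback.diagonal f) := pullback.lift j (j ≫ a) hjl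
  have hm : m ≫ e = j := pullback.lift_fst _ _ _
  have hes : Surjective e := by
    refine ⟨fun t => ?_⟩
    obtain ⟨t', rfl⟩ := (‹Surjective j›).surj t
    exact ⟨m t', by rw [← Scheme.Hom.comp_apply, hm]⟩
  have : IsIso e := by
    rw [isIso_iff_isOpenImmersion_and_epi_base]
    refine ⟨inferInstance, ?_⟩
    rw [TopCat.epi_iff_surjective]
    exact hes.surj
  exact (cancel_epi e).1 he

/-- An étale morphism whose base change along a surjective morphism is a monomorphism and which is
surjective is an isomorphism. -/
theorem isIso_of_etale_of_mono_baseChange {U Y Y' : Scheme.{u}} (f : U ⟶ Y) [Etale f]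
    (j : Y' ⟶ Y) [Surjective j] [Mono (pullback.snd f j)] [Surjective f] : IsIso f := by
  have hmono : Mono f := by
    refine ⟨fun {T} a b hab => ?_⟩
    let jT : pullback (a ≫ f) j ⟶ T := pullback.fst (a ≫ f) j
    let a' : pullback (a ≫ f) j ⟶ pullback f j :=
      pullback.lift (jT ≫ a) (pullback.snd (a ≫ f) j) (by
        rw [Category.assoc]; exact pullback.condition)
    let b' : pullback (a ≫ f) j ⟶ pullback f j :=
      pullback.lift (jT ≫ b) (pullback.snd (a ≫ f) j) (by
        rw [Category.assoc, ← hab]; exact pullback.condition)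
    have hab' : a' = b' := by
      rw [← cancel_mono (pullback.snd f j)]
      simp only [a', b']
      rw [pullback.lift_snd, pullback.lift_snd]
    have hj : jT ≫ a = jT ≫ b := by
      have h1 : a' ≫ pullback.fst f j = jT ≫ a := pullback.lift_fst _ _ _
      have h2 : b' ≫ pullback.fst f j = jT ≫ b := pullback.lift_fst _ _ _
      rw [← h1, ← h2, hab']
    exact eq_of_surjective_comp_eq f a b hab jT hj
  have : IsOpenImmersion f := IsOpenImmersion.of_flat_of_mono f
  rw [isIso_iff_isOpenImmersion_and_epi_base]
  refine ⟨inferInstance, ?_⟩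
  rw [TopCat.epi_iff_surjective]
  exact (‹Surjective f›).surj


/-- A section of a morphism with open-immersion diagonal is an open immersion. -/
theorem isOpenImmersion_of_section {A B : Scheme.{u}} (p : A ⟶ B)
    [IsOpenImmersion (pullback.diagonal p)] (s : B ⟶ A) (hs : s ≫ p = 𝟙 B) :
    IsOpenImmersion s := by
  have : (@IsOpenImmersion).HasOfPostcompProperty (@IsOpenImmersion).diagonal := by
    rw [MorphismProperty.hasOfPostcompProperty_iff_le_diagonal]
  exact MorphismProperty.of_postcomp (W := @IsOpenImmersion) (W' := (@IsOpenImmersion).diagonal) s p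
    (inferInstanceAs (IsOpenImmersion (pullback.diagonal p))) (by rw [hs]; infer_instance)

/-- Sections of an étale morphism extend uniquely along universal homeomorphisms of the base. -/
theorem exists_section_of_section_baseChange {W Y Y' : Scheme.{u}} (p : W ⟶ Y) [Etale p]
    (j : Y' ⟶ Y) (hj : FlatMor.IsUnivHomeo j)
    (s' : Y' ⟶ pullback p j) (hs' : s' ≫ pullback.snd p j = 𝟙 Y') :
    ∃ s : Y ⟶ W, s ≫ p = 𝟙 Y ∧ j ≫ s = s' ≫ pullback.fst p j := by
  have hjs : Surjective j := Groth.Agent.Lib.UnivHomeo.surjective hj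
  have hq : IsHomeomorph (pullback.fst p j) := hj _ _ _ (IsPullback.of_hasPullback p j)
  have : IsOpenImmersion s' := isOpenImmersion_of_section (pullback.snd p j) s' hs'
  let U' : (pullback p j).Opens := s'.opensRange
  let U : W.Opens := ⟨pullback.fst p j '' U', hq.isOpenMap _ U'.2⟩
  let pU : U.toScheme ⟶ Y := U.ι ≫ p
  have hsurj : Surjective pU := by
    refine ⟨fun y => ?_⟩
    obtain ⟨y', rfl⟩ := hjs.surj y
    refine ⟨⟨pullback.fst p j (s' y'), ⟨s' y', ⟨y', rfl⟩, rfl⟩⟩, ?_⟩
    change p (pullback.fst p j (s' y')) = j y'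
    rw [← Scheme.Hom.comp_apply, ← Scheme.Hom.comp_apply, pullback.condition,
      ← Category.assoc, hs', Category.id_comp]
  have hmono : Mono (pullback.snd pU j) := by
    refine ⟨fun {T} a b hab => ?_⟩
    let k : pullback pU j ⟶ pullback p j :=
      pullback.lift (pullback.fst pU j ≫ U.ι) (pullback.snd pU j) (by
        rw [Category.assoc]; exact pullback.condition)
    have hk1 : k ≫ pullback.fst p j = pullback.fst pU j ≫ U.ι := pullback.lift_fst _ _ _
    have hk2 : k ≫ pullback.snd p j = pullback.snd pU j := pullback.lift_snd _ _ _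
    have hfac : ∀ c : T ⟶ pullback pU j, c ≫ k = (c ≫ pullback.snd pU j) ≫ s' := by
      intro c
      have hc : Set.range (c ≫ k) ⊆ Set.range s' := by
        rintro _ ⟨t, rfl⟩
        have h1 : pullback.fst p j ((c ≫ k) t) ∈ (U : Set W) := by
          rw [← Scheme.Hom.comp_apply, Category.assoc, hk1, ← Category.assoc,
            Scheme.Hom.comp_apply]
          exact (pullback.fst pU j (c t)).2
        obtain ⟨u', hu', hu'2⟩ := h1
        rw [← hq.injective hu'2]
        exact hu'
      obtain ⟨l, hl⟩ : ∃ l : T ⟶ Y', l ≫ s' = c ≫ k :=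
        ⟨IsOpenImmersion.lift s' (c ≫ k) hc, IsOpenImmersion.lift_fac _ _ _⟩
      have hl2 : l = c ≫ pullback.snd pU j := by
        rw [← hk2, ← Category.assoc, ← hl, Category.assoc, hs', Category.comp_id]
      rw [← hl, hl2]
    have h3 : a ≫ k = b ≫ k := by rw [hfac a, hfac b, hab]
    apply pullback.hom_ext
    · rw [← cancel_mono U.ι, Category.assoc, Category.assoc, ← hk1, ← Category.assoc,
        ← Category.assoc, h3]
    · exact hab
  have hiso : IsIso pU := isIso_of_etale_of_mono_baseChange pU j
  refine ⟨inv pU ≫ U.ι, by rw [Category.assoc]; exact IsIso.inv_hom_id pU, ?_⟩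
  have hrange : Set.range (s' ≫ pullback.fst p j) ⊆ Set.range U.ι := by
    rintro _ ⟨y', rfl⟩
    rw [Scheme.Opens.range_ι]
    exact ⟨s' y', ⟨y', rfl⟩, rfl⟩
  obtain ⟨l, hl⟩ : ∃ l : Y' ⟶ U.toScheme, l ≫ U.ι = s' ≫ pullback.fst p j :=
    ⟨IsOpenImmersion.lift U.ι (s' ≫ pullback.fst p j) hrange, IsOpenImmersion.lift_fac _ _ _⟩
  have hl2 : l ≫ pU = j := by
    simp only [pU]
    rw [← Category.assoc, hl, Category.assoc, pullback.condition, ← Category.assoc, hs',
      Category.id_comp]
  rw [← hl, ← hl2, Category.assoc, IsIso.hom_inv_id_assoc]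

/-- Topological invariance of étale morphisms (full faithfulness). -/
theorem bijective_pullback_map {S S' : Scheme.{u}} (g : S' ⟶ S) (hg : FlatMor.IsUnivHomeo g)
    (X Y : Over S) [Etale X.hom] :
    Function.Bijective (fun φ : Y ⟶ X => (Over.pullback g).map φ) := by
  have hgs : Surjective g := Groth.Agent.Lib.UnivHomeo.surjective hg
  constructor
  · intro φ ψ h
    have h' : (Over.pullback g).map φ = (Over.pullback g).map ψ := h
    have hL : ∀ φ : Y ⟶ X, ((Over.pullback g).map φ).left ≫ pullback.fst X.hom g =
        pullback.fst Y.hom g ≫ φ.left := fun φ => pullback.lift_fst _ _ _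
    have h2 : pullback.fst Y.hom g ≫ φ.left = pullback.fst Y.hom g ≫ ψ.left := by
      rw [← hL φ, ← hL ψ, h']
    apply Over.OverMorphism.ext
    exact eq_of_surjective_comp_eq X.hom φ.left ψ.left (by rw [Over.w φ, Over.w ψ])
      (pullback.fst Y.hom g) h2
  · intro ψ'
    -- the étale morphism `p : X ×_S Y ⟶ Y`
    let p : pullback X.hom Y.hom ⟶ Y.left := pullback.snd X.hom Y.hom
    let jY : pullback Y.hom g ⟶ Y.left := pullback.fst Y.hom g
    have hjY : FlatMor.IsUnivHomeo jY :=
      MorphismProperty.of_isPullback (P := FlatMor.IsUnivHomeo)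
        (IsPullback.of_hasPullback Y.hom g).flip hg
    let t : pullback Y.hom g ⟶ X.left := ψ'.left ≫ pullback.fst X.hom g
    have ht : t ≫ X.hom = jY ≫ Y.hom := by
      simp only [t, jY]
      rw [Category.assoc, pullback.condition, ← Category.assoc]
      have hw : ψ'.left ≫ pullback.snd X.hom g = pullback.snd Y.hom g := Over.w ψ'
      rw [hw, pullback.condition]
    let s' : pullback Y.hom g ⟶ pullback p jY :=
      pullback.lift (pullback.lift t jY ht) (𝟙 _) (by
        simp only [p]
        rw [pullback.lift_snd, Category.id_comp])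
    have hs' : s' ≫ pullback.snd p jY = 𝟙 _ := pullback.lift_snd _ _ _
    obtain ⟨s, hs1, hs2⟩ := exists_section_of_section_baseChange p jY hjY s' hs'
    have hs3 : jY ≫ s = pullback.lift t jY ht := by
      rw [hs2]; exact pullback.lift_fst _ _ _
    let φl : Y.left ⟶ X.left := s ≫ pullback.fst X.hom Y.hom
    have hφ : φl ≫ X.hom = Y.hom := by
      simp only [φl]
      rw [Category.assoc, pullback.condition, ← Category.assoc]
      have : s ≫ pullback.snd X.hom Y.hom = 𝟙 _ := hs1
      rw [this, Category.id_comp]
    have hjφ : jY ≫ φl = t := by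
      simp only [φl]
      rw [← Category.assoc, hs3, pullback.lift_fst]
    refine ⟨Over.homMk φl hφ, ?_⟩
    apply Over.OverMorphism.ext
    change pullback.lift (pullback.fst Y.hom g ≫ φl) (pullback.snd Y.hom g) _ = ψ'.left
    apply pullback.hom_ext
    · rw [pullback.lift_fst]
      exact hjφ
    · rw [pullback.lift_snd]
      have hw : ψ'.left ≫ pullback.snd X.hom g = pullback.snd Y.hom g := Over.w ψ'
      exact hw.symm

end Groth.Agent.Lib.H80TopInv
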