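import Groth.Agent.Lib.AlgSpDecentPt91l
import Groth.Agent.Lib.H80TopInv

set_option autoImplicit false
universe u
open CategoryTheory CategoryTheory.Limits AlgebraicGeometry Opposite Topology TensorProduct

namespace Groth.Agent.Lib.AlgSpLocSep91

/-- Two families of vectors in a finite-dimensional space that are dual to each other are finite. -/
theorem finite_of_dual_families {Ω : Type*} [Field Ω] {ι σ : Type*} [Fintype σ] (v w : ι → σ → Ω)
    (h1 : ∀ t, ∑ l, v t l * w t l = 1) (h0 : ∀ t t', t ≠ t' → ∑ l, v t l * w t' l = 0) :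
    Finite ι := by
  classical
  have hli : LinearIndependent Ω v := by
    rw [linearIndependent_iff']
    intro s c hc t₀ ht₀
    have h2 := congrArg (fun x : σ → Ω => ∑ l, x l * w t₀ l) hc
    simp only [Finset.sum_apply, Pi.smul_apply, smul_eq_mul, Pi.zero_apply, zero_mul,
      Finset.sum_const_zero, Finset.sum_mul] at h2
    rw [Finset.sum_comm] at h2
    have h3 : ∀ t ∈ s, ∑ l, c t * v t l * w t₀ l = if t = t₀ then c t₀ else 0 := by
      intro t _
      have : ∑ l, c t * v t l * w t₀ l = c t * ∑ l, v t l * w t₀ l := by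
        rw [Finset.mul_sum]; exact Finset.sum_congr rfl fun l _ => mul_assoc _ _ _
      rw [this]
      split_ifs with h
      · subst h; rw [h1, mul_one]
      · rw [h0 t t₀ h, mul_zero]
    rw [Finset.sum_congr rfl h3, Finset.sum_ite_eq' s t₀, if_pos ht₀] at h2
    exact h2
  exact hli.finite

/-- An open neighbourhood of the diagonal in `Spec (A ⊗[R] A)` is cut out by an element `f` with `μ(f) = 1` vanishing at all points
outside the neighbourhood. -/
theorem exists_tensor_sep {R A : Type u} [CommRing R] [CommRing A] [Algebra R A]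
    (O : Set (PrimeSpectrum (A ⊗[R] A))) (hO : IsOpen O)
    (hdiag : Set.range (PrimeSpectrum.comap (Algebra.TensorProduct.lmul' R (S := A)).toRingHom) ⊆ O) :
    ∃ f : A ⊗[R] A, Algebra.TensorProduct.lmul' R (S := A) f = 1 ∧
      ∀ p : PrimeSpectrum (A ⊗[R] A), p ∉ O → f ∈ p.asIdeal := by
  obtain ⟨I, hI⟩ := (PrimeSpectrum.isClosed_iff_zeroLocus_ideal Oᶜ).1 hO.isClosed_compl
  set μ := (Algebra.TensorProduct.lmul' R (S := A)).toRingHom with hμ
  have hsurj : Function.Surjective μ := fun a => ⟨a ⊗ₜ 1, by simp [hμ]⟩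
  have htop : I ⊔ RingHom.ker μ = ⊤ := by
    rw [← PrimeSpectrum.zeroLocus_empty_iff_eq_top, PrimeSpectrum.zeroLocus_sup, ← hI,
      ← _root_.range_comap_of_surjective _ μ hsurj]
    rw [Set.eq_empty_iff_forall_notMem]
    rintro p ⟨hp1, hp2⟩
    exact hp1 (hdiag hp2)
  obtain ⟨f, hf, g, hg, hfg⟩ := Submodule.mem_sup.1 (htop ▸ Submodule.mem_top : (1 : A ⊗[R] A) ∈ I ⊔ RingHom.ker μ)
  refine ⟨f, ?_, ?_⟩
  · have h1 : μ f + μ g = 1 := by rw [← map_add, hfg, map_one]
    rw [RingHom.mem_ker.1 hg, add_zero] at h1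
    exact h1
  · intro p hp
    have : p ∈ PrimeSpectrum.zeroLocus (I : Set (A ⊗[R] A)) := by rw [← hI]; exact hp
    exact this hf

/-- A prime of an étale algebra over a field is the kernel of a map to any algebraically closed extension of the field. -/
theorem exists_ringHom_algClosed {K B : Type u} [Field K] [CommRing B] (ρ : K →+* B) (hρ : ρ.Etale)
    (𝔭 : Ideal B) [h𝔭 : 𝔭.IsPrime] (Ω : Type u) [Field Ω] [Algebra K Ω] [IsAlgClosed Ω] :
    ∃ ψ : B →+* Ω, ψ.comp ρ = algebraMap K Ω ∧ RingHom.ker ψ = 𝔭 := by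
  algebraize [ρ]
  have : Algebra.Etale K B := hρ
  have : Module.Finite K B := Algebra.FormallyUnramified.finite_of_free K B
  have : IsArtinianRing B := IsArtinianRing.of_finite K B
  have hmax : 𝔭.IsMaximal := inferInstance
  let _ := Ideal.Quotient.field 𝔭
  have : Algebra.IsAlgebraic K (B ⧸ 𝔭) := Algebra.IsAlgebraic.of_finite K (B ⧸ 𝔭)
  let l : (B ⧸ 𝔭) →ₐ[K] Ω := IsAlgClosed.lift
  refine ⟨l.toRingHom.comp (Ideal.Quotient.mk 𝔭), ?_, ?_⟩
  · ext x
    simp only [RingHom.comp_apply]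
    have : (Ideal.Quotient.mk 𝔭) (ρ x) = algebraMap K (B ⧸ 𝔭) x := rfl
    rw [this]
    exact l.commutes x
  · ext b
    rw [RingHom.mem_ker, RingHom.comp_apply]
    have hinj : Function.Injective l.toRingHom := l.toRingHom.injective
    rw [← map_zero l.toRingHom, hinj.eq_iff, Ideal.Quotient.eq_zero_iff_mem]

/-- **Finiteness from an immersion into an affine square.**  Let `Rs ⇉ Spec A` be two morphisms with a common section `e` that is an open
immersion, such that `Rs ⟶ Spec A ×_{Spec R} Spec A` is an immersion.  Any family of pairwise distinct `Ω`-points of `Spec A`, any two of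
which are the two projections of one `Ω`-point of `Rs`, is finite. -/
theorem finite_of_immersion_diag {A R : Type u} [CommRing A] [CommRing R]
    (z : Spec (.of A) ⟶ Spec (.of R)) {Rs : Scheme.{u}} (fst snd : Rs ⟶ Spec (.of A))
    (e : Spec (.of A) ⟶ Rs) [IsOpenImmersion e] (he1 : e ≫ fst = 𝟙 _) (he2 : e ≫ snd = 𝟙 _)
    (Φ : Rs ⟶ pullback z z) [IsImmersion Φ] (hΦ1 : Φ ≫ pullback.fst z z = fst)
    (hΦ2 : Φ ≫ pullback.snd z z = snd) {Ω : Type u} [Field Ω] {ι : Type*}
    (ω : ι → (Spec (.of Ω) ⟶ Spec (.of A))) (hω : Function.Injective ω)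
    (hρ : ∀ t t', ∃ ρ : Spec (.of Ω) ⟶ Rs, ρ ≫ fst = ω t ∧ ρ ≫ snd = ω t') : Finite ι := by
  classical
  obtain ⟨z, rfl⟩ := Spec.map_surjective z
  algebraize [z.hom]
  let θ : pullback (Spec.map z) (Spec.map z) ≅ Spec (.of (A ⊗[R] A)) := pullbackSpecIso R A A
  have hθ1 : θ.hom ≫ Spec.map (CommRingCat.ofHom
      (Algebra.TensorProduct.includeLeftRingHom : A →+* A ⊗[R] A)) = pullback.fst _ _ :=
    pullbackSpecIso_hom_fst R A A
  have hθ2 : θ.hom ≫ Spec.map (CommRingCat.ofHom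
      (Algebra.TensorProduct.includeRight (R := R) (A := A) (B := A)).toRingHom) = pullback.snd _ _ :=
    pullbackSpecIso_hom_snd R A A
  obtain ⟨Φ', hΦ'⟩ : ∃ Φ' : Rs ⟶ Spec (.of (A ⊗[R] A)), Φ' = Φ ≫ θ.hom := ⟨_, rfl⟩
  have hΦ'imm : IsImmersion Φ' := by rw [hΦ']; infer_instance
  have hΦ'1 : Φ' ≫ Spec.map (CommRingCat.ofHom
      (Algebra.TensorProduct.includeLeftRingHom : A →+* A ⊗[R] A)) = fst := by
    rw [hΦ', Category.assoc, hθ1, hΦ1]
  have hΦ'2 : Φ' ≫ Spec.map (CommRingCat.ofHom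
      (Algebra.TensorProduct.includeRight (R := R) (A := A) (B := A)).toRingHom) = snd := by
    rw [hΦ', Category.assoc, hθ2, hΦ2]
  clear_value θ
  -- the diagonal
  have hdiagmor : e ≫ Φ' = Spec.map (CommRingCat.ofHom
      (Algebra.TensorProduct.lmul' R (S := A)).toRingHom) := by
    rw [hΦ', ← Category.assoc, ← Iso.eq_comp_inv]
    apply pullback.hom_ext
    · rw [Category.assoc, hΦ1, he1, Category.assoc, ← hθ1, Iso.inv_hom_id_assoc, ← Spec.map_comp]
      have : CommRingCat.ofHom (Algebra.TensorProduct.includeLeftRingHom : A →+* A ⊗[R] A) ≫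
          CommRingCat.ofHom (Algebra.TensorProduct.lmul' R (S := A)).toRingHom = 𝟙 _ := by
        ext a
        simp
      rw [this, Spec.map_id]
    · rw [Category.assoc, hΦ2, he2, Category.assoc, ← hθ2, Iso.inv_hom_id_assoc, ← Spec.map_comp]
      have : CommRingCat.ofHom
          (Algebra.TensorProduct.includeRight (R := R) (A := A) (B := A)).toRingHom ≫
          CommRingCat.ofHom (Algebra.TensorProduct.lmul' R (S := A)).toRingHom = 𝟙 _ := by
        ext a
        simp
      rw [this, Spec.map_id]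
  have hE : IsOpen (Set.range e) := e.isOpenEmbedding.isOpen_range
  obtain ⟨O, hO, hOE⟩ := (Φ'.isEmbedding.isInducing.isOpen_iff).1 hE
  have hdiag : Set.range (PrimeSpectrum.comap (Algebra.TensorProduct.lmul' R (S := A)).toRingHom) ⊆
      (O : Set (PrimeSpectrum (A ⊗[R] A))) := by
    rintro _ ⟨p, rfl⟩
    have h1 : e p ∈ Φ' ⁻¹' O := by rw [hOE]; exact ⟨p, rfl⟩
    have h2 : (e ≫ Φ') p ∈ O := h1
    rw [hdiagmor] at h2
    exact h2
  obtain ⟨f, hf1, hf0⟩ := exists_tensor_sep (O : Set (PrimeSpectrum (A ⊗[R] A))) hO hdiag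
  obtain ⟨s, hs⟩ := TensorProduct.exists_finset f
  let ψ : ι → (A →+* Ω) := fun t => (Spec.preimage (ω t)).hom
  have hψ : ∀ t, Spec.map (CommRingCat.ofHom (ψ t)) = ω t := fun t => Spec.map_preimage (ω t)
  let pt : ↥(Spec (.of Ω)) := (⟨⊥, Ideal.isPrime_bot⟩ : PrimeSpectrum Ω)
  have hpt : ∀ y : ↥(Spec (.of Ω)), y = pt := fun y =>
    Subsingleton.elim (α := PrimeSpectrum Ω) _ _
  refine finite_of_dual_families (σ := ↥s) (fun t l => ψ t l.1.1) (fun t l => ψ t l.1.2) ?_ ?_
  · intro t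
    rw [Finset.sum_coe_sort s (fun i => ψ t i.1 * ψ t i.2)]
    have : ∑ i ∈ s, ψ t i.1 * ψ t i.2 = ψ t (Algebra.TensorProduct.lmul' R (S := A) f) := by
      rw [hs, map_sum, map_sum]
      refine Finset.sum_congr rfl fun i _ => ?_
      rw [Algebra.TensorProduct.lmul'_apply_tmul, map_mul]
    rw [this, hf1, map_one]
  · intro t t' htt'
    rw [Finset.sum_coe_sort s (fun i => ψ t i.1 * ψ t' i.2)]
    obtain ⟨ρ, hρ1, hρ2⟩ := hρ t t'
    obtain ⟨χ, hχ⟩ : ∃ χ : CommRingCat.of (A ⊗[R] A) ⟶ CommRingCat.of Ω, Spec.map χ = ρ ≫ Φ' :=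
      ⟨Spec.preimage (ρ ≫ Φ'), Spec.map_preimage _⟩
    have hχ1 : ∀ a : A, χ.hom (a ⊗ₜ 1) = ψ t a := by
      have : CommRingCat.ofHom (Algebra.TensorProduct.includeLeftRingHom : A →+* A ⊗[R] A) ≫ χ =
          CommRingCat.ofHom (ψ t) := by
        apply Spec.map_injective
        rw [Spec.map_comp, hχ, Category.assoc, hΦ'1, hρ1, hψ]
      intro a
      have h2 := congrArg (fun k => k.hom a) this
      exact h2
    have hχ2 : ∀ a : A, χ.hom (1 ⊗ₜ a) = ψ t' a := by
      have : CommRingCat.ofHom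
          (Algebra.TensorProduct.includeRight (R := R) (A := A) (B := A)).toRingHom ≫ χ =
          CommRingCat.ofHom (ψ t') := by
        apply Spec.map_injective
        rw [Spec.map_comp, hχ, Category.assoc, hΦ'2, hρ2, hψ]
      intro a
      have h2 := congrArg (fun k => k.hom a) this
      exact h2
    have hsum : ∑ i ∈ s, ψ t i.1 * ψ t' i.2 = χ.hom f := by
      rw [hs, map_sum]
      refine Finset.sum_congr rfl fun i _ => ?_
      rw [← hχ1, ← hχ2, ← map_mul, Algebra.TensorProduct.tmul_mul_tmul, mul_one, one_mul]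
    rw [hsum]
    have hnot : (Spec.map χ) pt ∉ O := by
      intro hmem
      rw [hχ] at hmem
      have h1 : ρ pt ∈ Φ' ⁻¹' O := hmem
      rw [hOE] at h1
      have hsub : Set.range ρ ⊆ Set.range e := by
        rintro _ ⟨y, rfl⟩
        rw [hpt y]; exact h1
      have hl := IsOpenImmersion.lift_fac e ρ hsub
      apply htt'
      apply hω
      rw [← hρ1, ← hρ2, ← hl, Category.assoc, Category.assoc, he1, he2]
    have h3 := hf0 ((Spec.map χ) pt) hnot
    rw [Spec.map_apply, PrimeSpectrum.comap_asIdeal, Ideal.mem_comap] at h3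
    exact (Submodule.mem_bot _).1 h3

/-- Every point of a scheme étale over a field `K` is the image of a `K`-morphism from the spectrum of any algebraically closed extension of
`K`. -/
theorem exists_geometric_point {K : Type u} [Field K] {T : Scheme.{u}} (c : T ⟶ Spec (.of K)) [Etale c]
    (Ω : Type u) [Field Ω] [Algebra K Ω] [IsAlgClosed Ω] (t : ↥T) :
    ∃ τ : Spec (.of Ω) ⟶ T, τ ≫ c = Spec.map (CommRingCat.ofHom (algebraMap K Ω)) ∧
      ∀ y, τ y = t := by
  obtain ⟨N, hN, htN⟩ : ∃ N : T.Opens, IsAffineOpen N ∧ t ∈ N := by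
    obtain ⟨_, ⟨N, hN, rfl⟩, htN, -⟩ :=
      (T.isBasis_affineOpens).exists_subset_of_mem_open (Set.mem_univ t) isOpen_univ
    exact ⟨N, hN, htN⟩
  have hc' : Etale (hN.fromSpec ≫ c) := inferInstance
  obtain ⟨ρ, hρ⟩ : ∃ ρ : CommRingCat.of K ⟶ Γ(T, N), Spec.map ρ = hN.fromSpec ≫ c :=
    ⟨Spec.preimage _, Spec.map_preimage _⟩
  have hρe : ρ.hom.Etale := by
    rw [← hρ] at hc'
    exact (HasRingHomProperty.Spec_iff (P := @Etale)).1 hc'
  obtain ⟨ψ, hψ1, hψ2⟩ := exists_ringHom_algClosed ρ.hom hρe (hN.primeIdealOf ⟨t, htN⟩).asIdeal Ω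
  refine ⟨Spec.map (CommRingCat.ofHom ψ) ≫ hN.fromSpec, ?_, ?_⟩
  · rw [Category.assoc, ← hρ, ← Spec.map_comp]
    congr 1
    ext x
    exact congrArg (fun k => k x) hψ1
  · intro y
    rw [Scheme.Hom.comp_apply]
    have h1 : (Spec.map (CommRingCat.ofHom ψ)) y = hN.primeIdealOf ⟨t, htN⟩ := by
      rw [Spec.map_apply]
      apply PrimeSpectrum.ext
      rw [PrimeSpectrum.comap_asIdeal, ← hψ2]
      have : (y : PrimeSpectrum Ω).asIdeal = ⊥ := by
        have := (y : PrimeSpectrum Ω).isPrime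
        exact (Ideal.eq_bot_or_top _).resolve_right this.ne_top
      rw [this]
      rfl
    rw [h1]
    exact hN.fromSpec_primeIdealOf ⟨t, htN⟩

open AlgSp Groth.Agent.Lib.H80DecentPt Groth.Agent.Lib.AlgSpDecentPt91 in
/-- **Core finiteness.**  For a sheaf `X` locally separated over `S`, an étale chart `φ : h_{Spec A} ⟶ X` from an affine scheme and a
field-valued point `q`, the fibre product `Spec q.K ×_X Spec A` has finitely many points. -/
theorem finite_pullback_of_isLocallySeparatedSp {S : Scheme.{u}} {X : Sp S}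
    (hX : IsLocallySeparatedSp X)
    {A : Type u} [CommRing A] (f : Spec (.of A) ⟶ S) (φ : (yon S).obj (Over.mk f) ⟶ X)
    (hφ : RepWith @Etale φ) (q : FieldPt X) {T : Over S} (c : T ⟶ q.pt) (g : T ⟶ Over.mk f)
    (sq : IsPullback ((yon S).map c) ((yon S).map g) q.toHom φ) : Finite ↥T.left := by
  classical
  have hφ' := (repWith_iff _ _).1 hφ
  have hrep : Representable φ := hφ'.1
  obtain ⟨Rr, fst, snd, sqR⟩ : ∃ (Rr : Over S) (fst snd : Rr ⟶ Over.mk f),
      IsPullback ((yon S).map fst) ((yon S).map snd) φ φ :=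
    ⟨hrep.pullback φ, hrep.fst' φ, hrep.snd φ, hrep.isPullback' φ⟩
  have hfstE : Etale fst.left := hφ'.2 φ ((yon S).map snd) fst sqR.flip
  obtain ⟨e, he⟩ := (yon S).map_surjective (sqR.lift (𝟙 _) (𝟙 _) rfl)
  have he1 : e ≫ fst = 𝟙 _ :=
    (yon S).map_injective (by rw [Functor.map_comp, he, sqR.lift_fst, CategoryTheory.Functor.map_id])
  have he2 : e ≫ snd = 𝟙 _ :=
    (yon S).map_injective (by rw [Functor.map_comp, he, sqR.lift_snd, CategoryTheory.Functor.map_id])
  have he1' : e.left ≫ fst.left = 𝟙 _ := by rw [← Over.comp_left, he1]; rfl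
  have he2' : e.left ≫ snd.left = 𝟙 _ := by rw [← Over.comp_left, he2]; rfl
  have heO : IsOpenImmersion e.left :=
    Groth.Agent.Lib.H80TopInv.isOpenImmersion_of_section fst.left e.left he1'
  have hΦ0 : IsImmersion (prod.lift fst snd).left :=
    ((repWith_iff _ _).1 hX).2 _ _ _ (Groth.Agent.Lib.H86AlgSpDiag.isPullback_diag_yon sqR)
  obtain ⟨i, -⟩ : ∃ i : S ⟶ Spec (.of (ULift.{u} ℤ)), i = specULiftZIsTerminal.from S := ⟨_, rfl⟩
  obtain ⟨Φ, hΦ⟩ : ∃ Φ : Rr.left ⟶ pullback (f ≫ i) (f ≫ i),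
      Φ = (prod.lift fst snd).left ≫ (Over.prodLeftIsoPullback (Over.mk f) (Over.mk f)).hom ≫
        pullback.mapDesc f f i := ⟨_, rfl⟩
  have hΦimm : IsImmersion Φ := by rw [hΦ]; infer_instance
  have hΦ1 : Φ ≫ pullback.fst (f ≫ i) (f ≫ i) = fst.left := by
    rw [hΦ, Category.assoc, Category.assoc, pullback.lift_fst, Category.comp_id]
    erw [Over.prodLeftIsoPullback_hom_fst]
    rw [← Over.comp_left, prod.lift_fst]
  have hΦ2 : Φ ≫ pullback.snd (f ≫ i) (f ≫ i) = snd.left := by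
    rw [hΦ, Category.assoc, Category.assoc, pullback.lift_snd, Category.comp_id]
    erw [Over.prodLeftIsoPullback_hom_snd]
    rw [← Over.comp_left, prod.lift_snd]
  -- geometric points
  have hcE : Etale c.left := hφ'.2 q.toHom ((yon S).map g) c sq.flip
  choose τ hτ1 hτ2 using fun t : ↥T.left =>
    exists_geometric_point (K := q.K) c.left (AlgebraicClosure q.K) t
  obtain ⟨σ, hσ⟩ : ∃ σ : Spec (.of (AlgebraicClosure q.K)) ⟶ Spec (.of q.K),
      σ = Spec.map (CommRingCat.ofHom (algebraMap q.K (AlgebraicClosure q.K))) := ⟨_, rfl⟩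
  rw [← hσ] at hτ1
  let σO : Over.mk (σ ≫ q.str) ⟶ q.pt := Over.homMk σ rfl
  have hτw : ∀ t, τ t ≫ T.hom = σ ≫ q.str := by
    intro t
    have := Over.w c
    rw [← this, ← Category.assoc, hτ1]
    rfl
  let τO : ∀ t : ↥T.left, Over.mk (σ ≫ q.str) ⟶ T := fun t => Over.homMk (τ t) (hτw t)
  have hτc : ∀ t, τO t ≫ c = σO := fun t => Over.OverMorphism.ext (hτ1 t)
  let pt : ↥(Spec (.of (AlgebraicClosure q.K))) :=
    (⟨⊥, Ideal.isPrime_bot⟩ : PrimeSpectrum (AlgebraicClosure q.K))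
  refine finite_of_immersion_diag (f ≫ i) fst.left snd.left e.left he1' he2' Φ hΦ1 hΦ2
    (fun t => (τO t ≫ g).left) ?_ ?_
  · intro t t' h
    have h1 : τO t ≫ g = τO t' ≫ g := Over.OverMorphism.ext h
    have h2 : (yon S).map (τO t) = (yon S).map (τO t') := by
      apply sq.hom_ext
      · rw [← Functor.map_comp, ← Functor.map_comp, hτc, hτc]
      · rw [← Functor.map_comp, ← Functor.map_comp, h1]
    have h3 := (yon S).map_injective h2
    have h4 : τ t = τ t' := congrArg (fun k => k.left) h3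
    rw [← hτ2 t pt, ← hτ2 t' pt, h4]
  · intro t t'
    have hcomm : (yon S).map (τO t ≫ g) ≫ φ = (yon S).map (τO t' ≫ g) ≫ φ := by
      rw [Functor.map_comp, Category.assoc, ← sq.w, ← Category.assoc, ← Functor.map_comp, hτc,
        Functor.map_comp, Category.assoc, ← sq.w, ← Category.assoc, ← Functor.map_comp, hτc]
    obtain ⟨ρ, hρ⟩ := (yon S).map_surjective (sqR.lift _ _ hcomm)
    have hρ1 : ρ ≫ fst = τO t ≫ g :=
      (yon S).map_injective (by rw [Functor.map_comp, hρ, sqR.lift_fst])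
    have hρ2 : ρ ≫ snd = τO t' ≫ g :=
      (yon S).map_injective (by rw [Functor.map_comp, hρ, sqR.lift_snd])
    exact ⟨ρ.left, by rw [← Over.comp_left, hρ1], by rw [← Over.comp_left, hρ2]⟩

open AlgSp Groth.Agent.Lib.H80DecentPt Groth.Agent.Lib.AlgSpDecentPt91 Groth.Agent.Lib.AlgSpPoints in
/-- **A locally separated algebraic space is decent.** -/
theorem isDecent_of_isLocallySeparatedSp {S : Scheme.{u}} {X : Sp S} (hA : IsAlgSpace X)
    (hX : IsLocallySeparatedSp X) : IsDecent X := by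
  intro x
  obtain ⟨q, rfl⟩ := Points.mk_surjective x
  obtain ⟨V, b, hb, hbs⟩ := hA.atlas
  have hchart : ∀ (W : V.left.Opens) (hW : IsAffineOpen W),
      RepWith @Etale ((yon S).map
        (Over.homMk hW.fromSpec rfl : Over.mk (hW.fromSpec ≫ V.hom) ⟶ V) ≫ b) := by
    intro W hW
    have hj : RepWith @Etale ((yon S).map
        (Over.homMk hW.fromSpec rfl : Over.mk (hW.fromSpec ≫ V.hom) ⟶ V)) :=
      (repWith_yon_map_iff _ _).2 (inferInstance : Etale hW.fromSpec)
    exact MorphismProperty.comp_mem _ _ _ hj hb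
  have hfinV : ∀ W : V.left.Opens, IsAffineOpen W →
      ((Points.ofPt b ⁻¹' {Points.mk q}) ∩ (W : Set ↥V.left)).Finite := by
    intro W hW
    have hrq := hA.representable_from_yon q.toHom
    have sq := hrq.isPullback' ((yon S).map
        (Over.homMk hW.fromSpec rfl : Over.mk (hW.fromSpec ≫ V.hom) ⟶ V) ≫ b)
    have hT : Finite ↥(hrq.pullback ((yon S).map
        (Over.homMk hW.fromSpec rfl : Over.mk (hW.fromSpec ≫ V.hom) ⟶ V) ≫ b)).left :=
      finite_pullback_of_isLocallySeparatedSp hX (A := ↑Γ(V.left, W)) (hW.fromSpec ≫ V.hom) _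
        (hchart W hW) q _ _ sq
    have h1 := finite_fibre_of_finite_pullback q _ _ _ sq hT
    refine (h1.image hW.fromSpec).subset ?_
    rintro w ⟨hw1, hw2⟩
    obtain ⟨w', rfl⟩ : w ∈ Set.range hW.fromSpec := by rw [hW.range_fromSpec]; exact hw2
    refine ⟨w', ?_, rfl⟩
    rw [Set.mem_preimage, ofPt_yon_map_comp]
    exact hw1
  obtain ⟨v, hv⟩ := Groth.Agent.Lib.H86AlgSpPoints.ofPt_surjective hbs (Points.mk q)
  obtain ⟨W, hW, hvW⟩ : ∃ W : V.left.Opens, IsAffineOpen W ∧ v ∈ W := by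
    obtain ⟨_, ⟨W, hW, rfl⟩, hvW, -⟩ :=
      (V.left.isBasis_affineOpens).exists_subset_of_mem_open (Set.mem_univ v) isOpen_univ
    exact ⟨W, hW, hvW⟩
  obtain ⟨u, hu⟩ : v ∈ Set.range hW.fromSpec := by rw [hW.range_fromSpec]; exact hvW
  have hφ := hchart W hW
  obtain ⟨φ, hφdef⟩ : ∃ φ, φ = (yon S).map
      (Over.homMk hW.fromSpec rfl : Over.mk (hW.fromSpec ≫ V.hom) ⟶ V) ≫ b := ⟨_, rfl⟩
  rw [← hφdef] at hφ
  have huq : Points.ofPt φ u = Points.mk q := by
    rw [hφdef, ofPt_yon_map_comp]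
    change Points.ofPt b (hW.fromSpec u) = _
    rw [hu]; exact hv
  have hr : Representable (FieldPt.ofPt φ u).toHom := hA.representable_from_yon _
  have hF : Finite ↥(hr.pullback φ).left :=
    finite_pullback_of_isLocallySeparatedSp hX (A := ↑Γ(V.left, W)) (hW.fromSpec ≫ V.hom) φ hφ
      (FieldPt.ofPt φ u) _ _ (hr.isPullback' φ)
  exact exists_mono_point_of_atlas_finite hA _ b hb hbs hfinV φ hφ u huq hr
    (finite_pullback_residue_of_finite_pullback_chart φ u hr hF)

end Groth.Agent.Lib.AlgSpLocSep91
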