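import Groth.Agent.Lib.FppfSurjSrc64
import Groth.Agent.Lib.SrcLocalFppf64
import Groth.Agent.Lib.AlgSpSrcCover
import Groth.Agent.Lib.AlgSpSrcCover3
import Groth.Agent.Lib.H69AlgSp

/-!
# `LocP P` descends along surjections of fppf sheaves, `P` = flat, lft, lfp (helper64)

`g : X ⟶ Y` a locally surjective map of fppf sheaves from an algebraic space, `h : Y ⟶ Z`.  If
`g ≫ h` is flat / locally of finite type / locally of finite presentation on étale charts, so is `h`
(Stacks 0AHC).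
-/

set_option autoImplicit false
universe u
open CategoryTheory CategoryTheory.Limits AlgebraicGeometry
open AlgSp Groth.Agent.Lib.AlgSpBasic Groth.Agent.Lib.SrcLocal Groth.Agent.Lib.AlgSpLocP

namespace Groth.Agent.Lib.AlgSpLocSurj64

variable {S : Scheme.{u}}

/-- The covering construction: for an étale chart `a' : h_{U'} ⟶ Y` there is an étale chart
`α : h_U ⟶ X` with a compatible `c : U ⟶ U'` such that every point of `U'` is hit by a flat lfp
morphism `T ⟶ U'` which lifts to `U`. -/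
theorem exists_chart_lift {X Y : Sp S} (hX : IsAlgSpace X) (g : X ⟶ Y)
    [Sheaf.IsLocallySurjective g] {U' : Over S} (a' : (yon S).obj U' ⟶ Y)
    (ha' : RepWith @Etale a') :
    ∃ (U : Over S) (α : (yon S).obj U ⟶ X) (c : U ⟶ U'), RepWith @Etale α ∧
      α ≫ g = (yon S).map c ≫ a' ∧
      ∀ v : ↥U'.left, ∃ (T : Scheme.{u}) (l : T ⟶ U.left) (x : ↥T), Flat (l ≫ c.left) ∧
        LocallyOfFinitePresentation (l ≫ c.left) ∧ (l ≫ c.left) x = v := by
  obtain ⟨U₀, p, hpe, hps⟩ := hX.atlas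
  -- the chart `U = U₀ ×_Y U'`
  have sqU := ha'.rep.isPullback' (p ≫ g)
  have hsndE : Etale (ha'.rep.snd (p ≫ g)).left := ha'.property_snd _
  refine ⟨ha'.rep.pullback (p ≫ g), (yon S).map (ha'.rep.snd (p ≫ g)) ≫ p,
    ha'.rep.fst' (p ≫ g), ?_, ?_, ?_⟩
  · exact MorphismProperty.comp_mem _ _ _ ((repWith_yon_map_iff _ _).2 hsndE) hpe
  · rw [Category.assoc]
    exact sqU.w.symm
  · intro v
    obtain ⟨R, hR, hlift⟩ := Groth.Agent.Lib.H69AlgSp.exists_cover_lift g a'
    change R ∈ Scheme.precoverage (@Flat ⊓ @LocallyOfFinitePresentation) _ at hR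
    rw [Precoverage.mem_iff_exists_zeroHypercover] at hR
    obtain ⟨𝒰, rfl⟩ := hR
    obtain ⟨i, x₁, hx₁⟩ := Scheme.Cover.exists_eq 𝒰 v
    have hti : (@Flat ⊓ @LocallyOfFinitePresentation : MorphismProperty Scheme.{u}) (𝒰.f i) :=
      Scheme.Cover.map_prop 𝒰 i
    obtain ⟨y, hy⟩ := hlift (𝒰.f i) ⟨i⟩
    -- the étale cover of `T₁ = 𝒰.X i` on which `y` lifts to the atlas `U₀`
    let t' : Over.mk (𝒰.f i ≫ U'.hom) ⟶ U' := Over.homMk (𝒰.f i)
    have hy' : y ≫ g = (yon S).map t' ≫ a' := hy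
    have sq₂ := hpe.rep.isPullback' y
    have hs₂E : Etale (hpe.rep.snd y).left := hpe.property_snd _
    have hs₂S : Surjective (hpe.rep.snd y).left := hps.property_snd y
    -- the lift into `U`
    have hl : (yon S).map (hpe.rep.snd y ≫ t') ≫ a' =
        (yon S).map (hpe.rep.fst' y) ≫ (p ≫ g) := by
      rw [Functor.map_comp, Category.assoc, ← hy', ← Category.assoc, ← sq₂.w, Category.assoc]
    let l := ha'.rep.lift' (hpe.rep.snd y ≫ t') (hpe.rep.fst' y) hl
    have hl1 : l ≫ ha'.rep.fst' (p ≫ g) = hpe.rep.snd y ≫ t' := ha'.rep.lift'_fst _ _ _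
    obtain ⟨x₂, hx₂⟩ := hs₂S.surj x₁
    have hcomp : l.left ≫ (ha'.rep.fst' (p ≫ g)).left = (hpe.rep.snd y).left ≫ 𝒰.f i := by
      rw [← Over.comp_left, hl1, Over.comp_left]
      rfl
    refine ⟨(hpe.rep.pullback y).left, l.left, x₂, ?_, ?_, ?_⟩
    · rw [hcomp]
      have : Flat (𝒰.f i) := hti.1
      infer_instance
    · rw [hcomp]
      have : LocallyOfFinitePresentation (𝒰.f i) := hti.2
      infer_instance
    · rw [hcomp, Scheme.Hom.comp_apply, hx₂, hx₁]

open Groth.Agent.Lib.FppfSurjSrc64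

theorem locP_flat_of_comp {X Y Z : Sp S} (hX : IsAlgSpace X) (g : X ⟶ Y) (h : Y ⟶ Z)
    [Sheaf.IsLocallySurjective g] (hgh : LocP @Flat (g ≫ h)) : LocP @Flat h := by
  intro U' V' a' b' k ha' hb' comm
  obtain ⟨U, α, c, hα, hαg, hcov⟩ := exists_chart_lift hX g a' ha'
  have hck : Flat (c ≫ k).left := hgh α b' (c ≫ k) hα hb' (by
    rw [← Category.assoc, hαg, Category.assoc, comm, Functor.map_comp, Category.assoc])
  have hck' : Flat (c.left ≫ k.left) := hck
  rw [Flat.iff_flat_stalkMap]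
  intro v
  obtain ⟨T, l, x, hfl, hfp, rfl⟩ := hcov v
  exact flat_stalkMap_of_section c.left k.left l x

theorem locP_lft_of_comp {X Y Z : Sp S} (hX : IsAlgSpace X) (g : X ⟶ Y) (h : Y ⟶ Z)
    [Sheaf.IsLocallySurjective g] (hgh : LocP @LocallyOfFiniteType (g ≫ h)) :
    LocP @LocallyOfFiniteType h := by
  intro U' V' a' b' k ha' hb' comm
  obtain ⟨U, α, c, hα, hαg, hcov⟩ := exists_chart_lift hX g a' ha'
  have hck : LocallyOfFiniteType (c ≫ k).left := hgh α b' (c ≫ k) hα hb' (by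
    rw [← Category.assoc, hαg, Category.assoc, comm, Functor.map_comp, Category.assoc])
  have hck' : LocallyOfFiniteType (c.left ≫ k.left) := hck
  choose T l x hfl hfp hx using hcov
  have := Groth.Agent.Lib.SrcLocalFppf64.isLocalAtSource_fppf_lft.{u}
  refine Groth.Agent.Lib.AlgSpSrcCover.of_family (P := @LocallyOfFiniteType)
    (Q := @Flat ⊓ @LocallyOfFinitePresentation) (fun v => T v) (fun v => l v ≫ c.left)
    (fun v => ⟨hfl v, hfp v⟩) (fun v => ⟨v, x v, hx v⟩) k.left (fun v => ?_)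
  have := hfp v
  exact lft_of_section c.left k.left (l v)

theorem locP_lfp_of_comp {X Y Z : Sp S} (hX : IsAlgSpace X) (g : X ⟶ Y) (h : Y ⟶ Z)
    [Sheaf.IsLocallySurjective g] (hgh : LocP @LocallyOfFinitePresentation (g ≫ h)) :
    LocP @LocallyOfFinitePresentation h := by
  intro U' V' a' b' k ha' hb' comm
  obtain ⟨U, α, c, hα, hαg, hcov⟩ := exists_chart_lift hX g a' ha'
  have hck : LocallyOfFinitePresentation (c ≫ k).left := hgh α b' (c ≫ k) hα hb' (by
    rw [← Category.assoc, hαg, Category.assoc, comm, Functor.map_comp, Category.assoc])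
  have hck' : LocallyOfFinitePresentation (c.left ≫ k.left) := hck
  choose T l x hfl hfp hx using hcov
  have := Groth.Agent.Lib.SrcLocalFppf64.isLocalAtSource_fppf_lfp.{u}
  refine Groth.Agent.Lib.AlgSpSrcCover.of_family (P := @LocallyOfFinitePresentation)
    (Q := @Flat ⊓ @LocallyOfFinitePresentation) (fun v => T v) (fun v => l v ≫ c.left)
    (fun v => ⟨hfl v, hfp v⟩) (fun v => ⟨v, x v, hx v⟩) k.left (fun v => ?_)
  have := hfp v
  exact lfp_of_section c.left k.left (l v)

end Groth.Agent.Lib.AlgSpLocSurj64
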