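import Groth.Agent.Lib.TopKrullDim
import Groth.Agent.Lib.H86DimAt
import Groth.Agent.Lib.AlgSpAtPt
import Mathlib.AlgebraicGeometry.ZariskisMainTheorem
import Mathlib.AlgebraicGeometry.Fiber

/-!
# Relative dimension zero and quasi-finiteness at a point (owner: helper86)
-/

set_option autoImplicit false
set_option linter.style.haveILetI false
universe u
open CategoryTheory CategoryTheory.Limits AlgebraicGeometry TopologicalSpace Order
open AlgSp

namespace Groth.Agent.Lib.H86RelDimZero

/-- In a locally Noetherian scheme a point is isolated iff the local dimension there is zero. -/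
theorem isOpen_singleton_iff_localDim_eq_zero {F : Scheme.{u}} [IsLocallyNoetherian F] (p : ↥F) :
    IsOpen ({p} : Set ↥F) ↔ FlatMor.localDim ↥F p = 0 := by
  obtain ⟨O, hO, hpO, -⟩ := exists_isAffineOpen_mem_and_subset (TopologicalSpace.Opens.mem_top p)
  haveI : IsNoetherianRing Γ(F, O) := IsLocallyNoetherian.component_noetherian ⟨O, hO⟩
  haveI : NoetherianSpace ↥(O : Scheme.{u}) := noetherianSpace_of_isAffineOpen O hO
  obtain ⟨q, rfl⟩ : ∃ q : ↥(O : Scheme.{u}), O.ι q = p := ⟨⟨p, hpO⟩, rfl⟩
  have h1 : FlatMor.localDim ↥(O : Scheme.{u}) q = FlatMor.localDim ↥F (O.ι q) :=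
    Groth.Agent.Lib.H86DimAt.localDim_eq_of_etale O.ι q
  rw [← h1]
  have h2 := Groth.Agent.Lib.TopKrullDim.isOpen_singleton_iff_localDim_eq_zero
    (X := ↥(O : Scheme.{u})) q
  rw [← h2, O.ι.isOpenEmbedding.isOpen_iff_image_isOpen, Set.image_singleton]

/-- A morphism locally of finite type has relative dimension zero at a point iff it is quasi-finite there. -/
theorem fibreDimAt_eq_zero_iff {U V : Scheme.{u}} (h : U ⟶ V) [LocallyOfFiniteType h] (u : ↥U) :
    FlatMor.fibreDimAt h u = 0 ↔ h.QuasiFiniteAt u := by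
  rw [Scheme.Hom.quasiFiniteAt_iff_isOpen_singleton_asFiber]
  haveI : LocallyOfFiniteType (h.fiberToSpecResidueField (h u)) :=
    inferInstanceAs (LocallyOfFiniteType (pullback.snd h (V.fromSpecResidueField (h u))))
  haveI : IsLocallyNoetherian (h.fiber (h u)) :=
    LocallyOfFiniteType.isLocallyNoetherian (h.fiberToSpecResidueField (h u))
  exact (isOpen_singleton_iff_localDim_eq_zero (F := h.fiber (h u)) (h.asFiber u)).symm

/-- The restriction of a morphism locally of finite type to its quasi-finite locus is locally quasi-finite. -/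
theorem locallyQuasiFinite_quasiFiniteLocus_ι_comp {U V : Scheme.{u}} (h : U ⟶ V)
    [LocallyOfFiniteType h] : LocallyQuasiFinite (h.quasiFiniteLocus.ι ≫ h) := by
  rw [← Scheme.Hom.quasiFiniteLocus_eq_top_iff, Scheme.Hom.quasiFiniteLocus_comp]
  ext x
  exact ⟨fun _ => trivial, fun _ => x.2⟩

end Groth.Agent.Lib.H86RelDimZero
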