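/-
helper85: for a quasi-compact morphism with dense image, every point of the target is a
specialization of a point in the image (Stacks 01K9-type statement).
-/
import Mathlib

set_option autoImplicit false
universe u
open CategoryTheory CategoryTheory.Limits AlgebraicGeometry

namespace Groth.Agent.Lib.DenseSpecializes

/-- For a ring map, every point in the closure of the image of `Spec` is a specialization of a
point in the image. -/
lemma exists_comap_specializes {R B : Type u} [CommRing R] [CommRing B] (φ : R →+* B)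
    (x : PrimeSpectrum R) (hx : x ∈ closure (Set.range (PrimeSpectrum.comap φ))) :
    ∃ p : PrimeSpectrum B, PrimeSpectrum.comap φ p ⤳ x := by
  have h1 : closure (Set.range (PrimeSpectrum.comap φ)) =
      PrimeSpectrum.zeroLocus ((⊥ : Ideal B).comap φ) := by
    rw [← PrimeSpectrum.closure_image_comap_zeroLocus]
    simp
  rw [h1] at hx
  have hx' : (⊥ : Ideal B).comap φ ≤ x.asIdeal := hx
  obtain ⟨q, hq₁, hq₂⟩ := Ideal.exists_minimalPrimes_le hx'
  obtain ⟨p', hp', -, rfl⟩ := Ideal.exists_comap_eq_of_mem_minimalPrimes φ _ hq₁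
  exact ⟨⟨p', hp'⟩, (PrimeSpectrum.le_iff_specializes _ x).mp hq₂⟩

lemma exists_SpecMap_specializes {R B : CommRingCat.{u}} (φ : R ⟶ B) (x : Spec R)
    (hx : x ∈ closure (Set.range (Spec.map φ))) : ∃ p : Spec B, Spec.map φ p ⤳ x :=
  exists_comap_specializes φ.hom x hx

/-- For a quasi-compact morphism with dense image, every point of the target is a specialization
of a point in the image. -/
lemma exists_specializes_of_denseRange {U X : Scheme.{u}} (h : U ⟶ X) [QuasiCompact h]
    (hd : DenseRange h) (x : X) : ∃ u : U, h u ⤳ x := by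
  obtain ⟨_, ⟨W, hW : IsAffineOpen W, rfl⟩, hxW, -⟩ :=
    (X.isBasis_affineOpens).exists_subset_of_mem_open (Set.mem_univ x) isOpen_univ
  have hc : IsCompact (h ⁻¹ᵁ W : Set U) := QuasiCompact.isCompact_preimage _ W.2 hW.isCompact
  obtain ⟨B, g, hg⟩ := isCompact_iff_exists.mp hc
  have hsub : Set.range (g ≫ h) ⊆ Set.range hW.fromSpec := by
    rw [hW.range_fromSpec]
    rintro _ ⟨b, rfl⟩
    have : g b ∈ (h ⁻¹ᵁ W : Set U) := hg ▸ Set.mem_range_self b
    exact this
  let l : Spec B ⟶ Spec Γ(X, W) := IsOpenImmersion.lift hW.fromSpec (g ≫ h) hsub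
  have hl : l ≫ hW.fromSpec = g ≫ h := IsOpenImmersion.lift_fac _ _ _
  obtain ⟨φ, hφ⟩ : ∃ φ : Γ(X, W) ⟶ B, Spec.map φ = l := ⟨Spec.preimage l, Spec.map_preimage l⟩
  obtain ⟨x', hx'⟩ : ∃ x', hW.fromSpec x' = x := by
    have : x ∈ Set.range hW.fromSpec := by rw [hW.range_fromSpec]; exact hxW
    exact this
  have hcl : x' ∈ closure (Set.range (Spec.map φ)) := by
    rw [mem_closure_iff]
    intro V' hV' hxV'
    have hopen : IsOpen (hW.fromSpec '' V') := hW.fromSpec.isOpenEmbedding.isOpenMap _ hV'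
    obtain ⟨_, ⟨v, hv, rfl⟩, ⟨u, hu⟩⟩ := hd.inter_open_nonempty _ hopen ⟨x, x', hxV', hx'⟩
    have huW : u ∈ (h ⁻¹ᵁ W : Set U) := by
      change h u ∈ W
      rw [hu]
      have : hW.fromSpec v ∈ Set.range hW.fromSpec := ⟨v, rfl⟩
      rwa [hW.range_fromSpec] at this
    rw [← hg] at huW
    obtain ⟨b, rfl⟩ := huW
    refine ⟨v, hv, b, ?_⟩
    apply hW.fromSpec.isOpenEmbedding.injective
    rw [← hu, ← Scheme.Hom.comp_apply, ← Scheme.Hom.comp_apply, ← hl, ← hφ]
  obtain ⟨p, hp⟩ := exists_SpecMap_specializes φ x' hcl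
  refine ⟨g p, ?_⟩
  have := hp.map hW.fromSpec.continuous
  rw [hx'] at this
  convert this using 1
  rw [← Scheme.Hom.comp_apply, ← hl, ← hφ, Scheme.Hom.comp_apply]

end Groth.Agent.Lib.DenseSpecializes
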