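import Groth.Agent.Lib.H30FibBC
import Mathlib

/-!
helper30: generizations lift along the base change of an arbitrary morphism, inside the fibres of
the base-change map; maximal points of a flat base change.
-/

set_option autoImplicit false
universe u
open CategoryTheory CategoryTheory.Limits AlgebraicGeometry

namespace Groth.Agent.Lib.H30GenFib

/-- points of a pullback square -/
theorem exists_preimage_of_isPullback {P X Y Z : Scheme.{u}} {fst : P ⟶ X} {snd : P ⟶ Y}
    {f : X ⟶ Z} {g : Y ⟶ Z} (h : IsPullback fst snd f g) (x : X) (y : Y) (hxy : f x = g y) :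
    ∃ p : P, fst p = x ∧ snd p = y := by
  obtain ⟨z, hz1, hz2⟩ := Scheme.Pullback.exists_preimage_pullback (f := f) (g := g) x y hxy
  refine ⟨h.isoPullback.inv z, ?_, ?_⟩
  · rw [← Scheme.Hom.comp_apply, h.isoPullback_inv_fst]; exact hz1
  · rw [← Scheme.Hom.comp_apply, h.isoPullback_inv_snd]; exact hz2

/-- generization lifting along the fibres of `g` for the base change of an arbitrary morphism -/
theorem exists_generization_snd {X Y Y' : Scheme.{u}} (f : X ⟶ Y) (g : Y' ⟶ Y)
    (ζ' : ↥(pullback f g)) (η₁ : Y') (hsp : η₁ ⤳ (pullback.snd f g) ζ')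
    (hη : g η₁ = g ((pullback.snd f g) ζ')) :
    ∃ ζ₁ : ↥(pullback f g), ζ₁ ⤳ ζ' ∧ (pullback.snd f g) ζ₁ = η₁ := by
  obtain ⟨η, hηdef⟩ : ∃ η : Y, η = g ((pullback.snd f g) ζ') := ⟨_, rfl⟩
  rw [← hηdef] at hη
  have hw : (pullback.fst (f.fiberToSpecResidueField η) (g.fiberToSpecResidueField η) ≫ f.fiberι η) ≫ f
      = (pullback.snd (f.fiberToSpecResidueField η) (g.fiberToSpecResidueField η) ≫ g.fiberι η) ≫ g := by
    have h1 : f.fiberι η ≫ f = f.fiberToSpecResidueField η ≫ Y.fromSpecResidueField η :=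
      pullback.condition
    have h2 : g.fiberι η ≫ g = g.fiberToSpecResidueField η ≫ Y.fromSpecResidueField η :=
      pullback.condition
    rw [Category.assoc, Category.assoc, h1, h2, ← Category.assoc, ← Category.assoc,
      pullback.condition]
  have hsq : IsPullback
      (pullback.lift (pullback.fst (f.fiberToSpecResidueField η) (g.fiberToSpecResidueField η) ≫ f.fiberι η)
        (pullback.snd (f.fiberToSpecResidueField η) (g.fiberToSpecResidueField η) ≫ g.fiberι η) hw)
      (pullback.snd (f.fiberToSpecResidueField η) (g.fiberToSpecResidueField η))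
      (pullback.snd f g) (g.fiberι η) := by
    refine IsPullback.of_right ?_ (pullback.lift_snd _ _ _) (IsPullback.of_hasPullback f g)
    rw [pullback.lift_fst]
    have s' := (IsPullback.of_hasPullback (f.fiberToSpecResidueField η)
      (g.fiberToSpecResidueField η)).paste_horiz
      (IsPullback.of_hasPullback f (Y.fromSpecResidueField η))
    have h2 : g.fiberι η ≫ g = g.fiberToSpecResidueField η ≫ Y.fromSpecResidueField η :=
      pullback.condition
    rw [h2]
    exact s'
  haveI : Flat (pullback.snd (f.fiberToSpecResidueField η) (g.fiberToSpecResidueField η)) :=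
    inferInstance
  haveI : IsPreimmersion (pullback.lift
      (pullback.fst (f.fiberToSpecResidueField η) (g.fiberToSpecResidueField η) ≫ f.fiberι η)
      (pullback.snd (f.fiberToSpecResidueField η) (g.fiberToSpecResidueField η) ≫ g.fiberι η) hw) :=
    MorphismProperty.of_isPullback hsq.flip inferInstance
  -- points
  obtain ⟨t', ht'⟩ : (pullback.snd f g) ζ' ∈ Set.range (g.fiberι η) := by
    rw [g.range_fiberι η]; exact hηdef.symm
  obtain ⟨t₁, ht₁⟩ : η₁ ∈ Set.range (g.fiberι η) := by
    rw [g.range_fiberι η]; exact hη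
  have hsp' : t₁ ⤳ t' := by
    rw [← (g.fiberι η).isEmbedding.isInducing.specializes_iff, ht', ht₁]
    exact hsp
  obtain ⟨π, hπ1, hπ2⟩ := exists_preimage_of_isPullback hsq ζ' t' ht'.symm
  rw [← hπ2] at hsp'
  obtain ⟨π₁, hπ₁sp, hπ₁⟩ := Flat.generalizingMap
    (pullback.snd (f.fiberToSpecResidueField η) (g.fiberToSpecResidueField η)) hsp'
  refine ⟨(pullback.lift
      (pullback.fst (f.fiberToSpecResidueField η) (g.fiberToSpecResidueField η) ≫ f.fiberι η)
      (pullback.snd (f.fiberToSpecResidueField η) (g.fiberToSpecResidueField η) ≫ g.fiberι η) hw) π₁,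
      ?_, ?_⟩
  · rw [← hπ1]
    exact hπ₁sp.map (Scheme.Hom.continuous _)
  · rw [← Scheme.Hom.comp_apply, hsq.w, Scheme.Hom.comp_apply, hπ₁, ht₁]

/-- A point is maximal (has no proper generization). -/
def IsMaxPt {T : Type*} [TopologicalSpace T] (x : T) : Prop := ∀ ξ : T, ξ ⤳ x → ξ = x

/-- maximal points of a base change map to maximal points, provided their image in `Y` is maximal -/
theorem isMax_snd {X Y Y' : Scheme.{u}} (f : X ⟶ Y) (g : Y' ⟶ Y)
    (ζ' : ↥(pullback f g)) (hζ' : IsMaxPt ζ') (hη : IsMaxPt (g ((pullback.snd f g) ζ'))) :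
    IsMaxPt ((pullback.snd f g) ζ') := by
  intro η₁ hsp
  have h1 : g η₁ = g ((pullback.snd f g) ζ') := hη _ (hsp.map g.continuous)
  obtain ⟨ζ₁, hζ₁sp, hζ₁⟩ := exists_generization_snd f g ζ' η₁ hsp h1
  rw [← hζ₁, hζ' ζ₁ hζ₁sp]

/-- flat morphisms map maximal points to maximal points -/
theorem isMax_of_flat {X Y : Scheme.{u}} (f : X ⟶ Y) [Flat f] (x : X) (hx : IsMaxPt x) :
    IsMaxPt (f x) := by
  intro η hsp
  obtain ⟨ξ, hξsp, hξ⟩ := Flat.generalizingMap f hsp
  rw [← hξ, hx ξ hξsp]

end Groth.Agent.Lib.H30GenFib
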