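import Groth.Agent.Lib.H30DimFormulaGen
import Groth.Agent.Lib.FibreDimAtFormula
import Groth.Agent.S2594
import Groth.Agent.S6462
import Groth.Prelude.Def_EGA43
import Groth.Prelude.Def_EGA4b
import Mathlib

/-!
helper30: equidimensionality of a morphism at a point (EGA IV 13.3): reformulation in terms of
maximal points and the local fibre dimension; dictionary between minimal primes of the local ring
and maximal points; the dimension formula for equidimensional morphisms.
-/

set_option autoImplicit false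
universe u
open CategoryTheory AlgebraicGeometry

namespace Groth.Agent.Lib.H30EquidimAt

open Groth.Agent.Lib.H30GenFib Groth.Agent.Lib.H30FibBC Groth.Agent.Lib.H30DimField
  Groth.Agent.Lib.H30DimFormulaGen Groth.Agent.Lib.H30DimRel Groth.Agent.Lib.H30IrrFib
  Groth.Agent.S2594

section Dict

variable {X : Scheme.{u}}

theorem fromSpecStalk_ker (x ζ : X) (h : ζ ⤳ x) :
    X.fromSpecStalk x ⟨RingHom.ker (Cyc.specMap x ζ h), RingHom.ker_isPrime _⟩ = ζ := by
  have h1 : (⟨RingHom.ker (Cyc.specMap x ζ h), RingHom.ker_isPrime _⟩ :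
      PrimeSpectrum (X.presheaf.stalk x)) =
      (Spec.map (X.presheaf.stalkSpecializes h))
        (IsLocalRing.closedPoint (X.presheaf.stalk ζ)) := by
    apply PrimeSpectrum.ext
    exact Groth.Agent.S6462.ker_specMap x ζ h
  have h2 : (Spec.map (X.presheaf.stalkSpecializes h) ≫ X.fromSpecStalk x)
      (IsLocalRing.closedPoint (X.presheaf.stalk ζ)) = ζ := by
    rw [Scheme.SpecMap_stalkSpecializes_fromSpecStalk]
    exact Scheme.fromSpecStalk_closedPoint
  rw [h1]
  exact h2

/-- every prime of the local ring at `x` is the prime of a generization of `x` -/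
theorem exists_specializes_ker_eq (x : X) (p : Ideal (X.presheaf.stalk x)) [hp : p.IsPrime] :
    ∃ (ζ : X) (h : ζ ⤳ x), RingHom.ker (Cyc.specMap x ζ h) = p := by
  have hmem : X.fromSpecStalk x ⟨p, hp⟩ ∈ Set.range (X.fromSpecStalk x) := ⟨_, rfl⟩
  rw [X.range_fromSpecStalk] at hmem
  refine ⟨X.fromSpecStalk x ⟨p, hp⟩, hmem, ?_⟩
  have h1 := fromSpecStalk_ker x _ hmem
  have h2 := (X.fromSpecStalk x).isEmbedding.injective h1
  exact congrArg PrimeSpectrum.asIdeal h2

theorem ker_le_ker_iff (x ζ ξ : X) (hζ : ζ ⤳ x) (hξ : ξ ⤳ x) :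
    RingHom.ker (Cyc.specMap x ξ hξ) ≤ RingHom.ker (Cyc.specMap x ζ hζ) ↔ ξ ⤳ ζ := by
  have h1 : ((⟨RingHom.ker (Cyc.specMap x ξ hξ), RingHom.ker_isPrime _⟩ :
      PrimeSpectrum (X.presheaf.stalk x)) ≤ ⟨RingHom.ker (Cyc.specMap x ζ hζ), RingHom.ker_isPrime _⟩)
      ↔ RingHom.ker (Cyc.specMap x ξ hξ) ≤ RingHom.ker (Cyc.specMap x ζ hζ) := Iff.rfl
  have h2 := (X.fromSpecStalk x).isEmbedding.isInducing.specializes_iff
    (x := ⟨RingHom.ker (Cyc.specMap x ξ hξ), RingHom.ker_isPrime _⟩)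
    (y := ⟨RingHom.ker (Cyc.specMap x ζ hζ), RingHom.ker_isPrime _⟩)
  rw [fromSpecStalk_ker, fromSpecStalk_ker] at h2
  exact h1.symm.trans ((PrimeSpectrum.le_iff_specializes _ _).trans h2.symm)

/-- minimal primes of the local ring correspond to maximal points -/
theorem ker_mem_minimalPrimes_iff (x ζ : X) (h : ζ ⤳ x) :
    RingHom.ker (Cyc.specMap x ζ h) ∈ minimalPrimes (X.presheaf.stalk x) ↔ IsMaxPt ζ := by
  constructor
  · intro hmin ξ hξ
    have hξx : ξ ⤳ x := hξ.trans h
    have h1 := (ker_le_ker_iff x ζ ξ h hξx).mpr hξ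
    have h2 := hmin.2 ⟨RingHom.ker_isPrime _, bot_le⟩ h1
    exact ((ker_le_ker_iff x ξ ζ hξx h).mp h2).antisymm hξ |>.eq.symm
  · intro hmax
    refine ⟨⟨RingHom.ker_isPrime _, bot_le⟩, ?_⟩
    rintro q ⟨hq, -⟩ hle
    obtain ⟨ξ, hξ, rfl⟩ := exists_specializes_ker_eq x q
    have h1 := (ker_le_ker_iff x ζ ξ h hξ).mp hle
    have h2 := hmax ξ h1
    subst h2
    exact le_refl _

end Dict

section Ring

/-- in a ring of finite Krull dimension, the dimension is attained on a minimal prime -/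
theorem exists_minimalPrimes_dim_eq (R : Type u) [CommRing R] [Nontrivial R]
    (hfin : ringKrullDim R < ⊤) :
    ∃ p ∈ minimalPrimes R, ringKrullDim (R ⧸ p) = ringKrullDim R := by
  have key : ∀ P : PrimeSpectrum R, ringKrullDim (R ⧸ P.asIdeal) = Order.coheight P := by
    intro P
    rw [ringKrullDim_quotient, Order.coheight_eq_krullDim_Ici]
    have hset : PrimeSpectrum.zeroLocus (P.asIdeal : Set R) = Set.Ici P := by
      ext Q
      rw [PrimeSpectrum.mem_zeroLocus, Set.mem_Ici]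
      rfl
    rw [hset]
  have hdim : ringKrullDim R = ((⨆ a : PrimeSpectrum R, Order.coheight a : ℕ∞) : WithBot ℕ∞) :=
    Order.krullDim_eq_iSup_coheight_of_nonempty
  have hlt : (⨆ a : PrimeSpectrum R, Order.coheight a) < ⊤ := by
    rw [hdim] at hfin
    rw [lt_top_iff_ne_top]
    intro htop
    rw [htop] at hfin
    exact lt_irrefl _ hfin
  obtain ⟨a, ha⟩ := ENat.exists_eq_iSup_of_lt_top hlt
  obtain ⟨p, hp, hpa⟩ := Ideal.exists_minimalPrimes_le (bot_le : (⊥ : Ideal R) ≤ a.asIdeal)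
  haveI : p.IsPrime := hp.1.1
  refine ⟨p, hp, ?_⟩
  have h1 := key ⟨p, hp.1.1⟩
  rw [h1, hdim]
  congr 1
  apply le_antisymm (le_iSup (fun a : PrimeSpectrum R => Order.coheight a) _)
  rw [← ha]
  exact Order.coheight_anti (show (⟨p, hp.1.1⟩ : PrimeSpectrum R) ≤ a from hpa)

end Ring

section Equidim

variable {X Y : Scheme.{u}}

/-- reformulation of equidimensionality at a point via maximal points and the local fibre
dimension -/
theorem isEquidimAt_iff (f : X ⟶ Y) [LocallyOfFiniteType f] (x : X) :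
    EGA43.IsEquidimAt f x ↔ ∃ (e : ℕ) (U : X.Opens), x ∈ U ∧
      (∀ ζ ∈ U, IsMaxPt ζ → IsMaxPt (f ζ) ∧ f ζ ⤳ f x) ∧
      (∀ z ∈ U, FlatMor.fibreDimAt f z = (e : WithBot ℕ∞)) := by
  constructor
  · rintro ⟨e, U, hxU, hcomp, hfib⟩
    have hcomp' : ∀ Z ∈ irreducibleComponents (U.toScheme : Type u),
        ∃ W ∈ irreducibleComponents (Y : Type u), f x ∈ W ∧ closure ((U.ι ≫ f) '' Z) = W := hcomp
    have hfib' : ∀ x' : U.toScheme,
        ∀ Z ∈ irreducibleComponents (↥((U.ι ≫ f).fiber ((U.ι ≫ f).base x')) : Type u),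
        topologicalKrullDim (↥Z : Type u) = e := hfib
    clear hcomp hfib
    refine ⟨e, U, hxU, ?_, ?_⟩
    · intro ζ hζU hζmax
      obtain ⟨ζU, rfl⟩ : ζ ∈ Set.range U.ι := by
        rw [Scheme.Opens.range_ι]; exact hζU
      have hζUmax : IsMaxPt ζU := isMax_of_ι U ζU hζmax
      have hZ₀ : closure ({ζU} : Set U.toScheme) ∈ irreducibleComponents U.toScheme :=
        (closure_mem_irreducibleComponents_iff ζU).mpr hζUmax
      obtain ⟨W, hW, hxW, hWeq⟩ := hcomp' _ hZ₀
      have hWeq' : closure ({f (U.ι ζU)} : Set Y) = W := by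
        rw [← hWeq, closure_image_closure (U.ι ≫ f).continuous, Set.image_singleton]
        rfl
      rw [← hWeq'] at hW hxW
      exact ⟨(closure_mem_irreducibleComponents_iff _).mp hW,
        specializes_iff_mem_closure.mpr hxW⟩
    · intro z hzU
      obtain ⟨zU, rfl⟩ : z ∈ Set.range U.ι := by
        rw [Scheme.Opens.range_ι]; exact hzU
      have key := (fib_cond_iff (U.ι ≫ f) e).mp hfib' zU
      rw [fibreDimAt_comp_of_isOpenImmersion] at key
      exact key
  · rintro ⟨e, U, hxU, hmax, hfib⟩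
    have h2 : ∀ Z ∈ irreducibleComponents (U.toScheme : Type u),
        ∃ W ∈ irreducibleComponents (Y : Type u), f x ∈ W ∧
          closure ((U.ι ≫ f) '' Z) = W := by
      intro Z hZ
      obtain ⟨ζU, hζU⟩ : ∃ z, IsGenericPoint z Z :=
        QuasiSober.sober hZ.1 (isClosed_of_mem_irreducibleComponents Z hZ)
      have hζUmax : IsMaxPt ζU := by
        rw [← hζU.def] at hZ
        exact (closure_mem_irreducibleComponents_iff ζU).mp hZ
      have hζmax : IsMaxPt (U.ι ζU) := isMax_ι U ζU hζUmax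
      obtain ⟨h1, h2⟩ := hmax _ ζU.2 hζmax
      refine ⟨closure {f (U.ι ζU)}, (closure_mem_irreducibleComponents_iff _).mpr h1,
        specializes_iff_mem_closure.mp h2, ?_⟩
      rw [← hζU.def, closure_image_closure (U.ι ≫ f).continuous, Set.image_singleton]
      rfl
    have h3 : ∀ x' : U.toScheme,
        ∀ Z ∈ irreducibleComponents
          (↥((U.ι ≫ f).fiber ((U.ι ≫ f).base x')) : Type u),
        topologicalKrullDim (↥Z : Type u) = e := by
      rw [fib_cond_iff]
      intro u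
      rw [fibreDimAt_comp_of_isOpenImmersion]
      exact hfib _ u.2
    exact ⟨e, U, hxU, h2, h3⟩

/-- EGA IV 13.3.6: the dimension of the quotients of `O_{X,x}` by its minimal primes, for a
morphism equidimensional at `x` when `O_{Y,f x}` is equidimensional and universally catenary -/
theorem dim_quot_add (f : X ⟶ Y) [IsLocallyNoetherian Y] [LocallyOfFiniteType f] (x : X)
    (hY : EGA4.IsEquidim (Y.presheaf.stalk (f x)))
    (hcat : CAlg.IsUniversallyCatenary (Y.presheaf.stalk (f x)))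
    (h : EGA43.IsEquidimAt f x) :
    ∃ e : ℕ, FlatMor.fibreDimAt f x = (e : WithBot ℕ∞) ∧
      ∀ p ∈ minimalPrimes (X.presheaf.stalk x),
        ringKrullDim (X.presheaf.stalk x ⧸ p) + ((rt f x : ℕ) : WithBot ℕ∞) =
          ringKrullDim (Y.presheaf.stalk (f x)) + (e : WithBot ℕ∞) := by
  obtain ⟨e, U, hxU, hmax, hfib⟩ := (isEquidimAt_iff f x).mp h
  refine ⟨e, hfib x hxU, ?_⟩
  intro p hp
  haveI : p.IsPrime := hp.1.1
  obtain ⟨ζ, hζ, rfl⟩ := exists_specializes_ker_eq x p
  have hζmax : IsMaxPt ζ := (ker_mem_minimalPrimes_iff x ζ hζ).mp hp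
  have hζU : ζ ∈ U := hζ.mem_open U.isOpen hxU
  obtain ⟨hfζmax, hfζsp⟩ := hmax ζ hζU hζmax
  obtain ⟨a, b, ha, hb, hab⟩ := gen_formula f x hcat ζ hζ
  have hb' : ringKrullDim (Y.presheaf.stalk (f x)) = b := by
    rw [← hb]
    exact (hY _ ((ker_mem_minimalPrimes_iff (f x) (f ζ) (hζ.map f.continuous)).mpr hfζmax)).symm
  have hrt : rt f ζ = e := by
    have h1 := fibreDimAt_of_maximal f ζ hζmax
    rw [hfib ζ hζU] at h1
    exact_mod_cast h1.symm
  rw [hrt] at hab
  have ha' : ringKrullDim (X.presheaf.stalk x ⧸ RingHom.ker (Cyc.specMap x ζ hζ)) = a := ha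
  rw [ha', hb']
  exact_mod_cast hab

end Equidim

end Groth.Agent.Lib.H30EquidimAt
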