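import Mathlib
import Groth.Agent.Lib.GenericDense68

/-!
# Constructible sets containing all generizations of a point are neighbourhoods

`Groth.Agent.Lib.H56ConsNhds`:

* `exists_specializes_of_mem_closure`: in `Spec R`, every point of the closure of a constructible set
  `T` is a specialization of a point of `T`.
* `mem_nhds_of_isConstructible`: in `Spec R`, a constructible set containing all generizations of
  `y` is a neighbourhood of `y`.
* `mem_nhds_of_isLocallyConstructible`: the same on a scheme, for locally constructible sets.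
* `exists_nhds_forall_exists_generic`: in a quasi-sober T0 space, a point `y` with a Noetherian open
  neighbourhood has a neighbourhood `V` such that every `z ∈ V` is a specialization of a maximal
  point `η` that also specializes to `y`.
-/

set_option autoImplicit false
universe u

namespace Groth.Agent.Lib.H56ConsNhds

open TopologicalSpace Topology

section Spec

variable {R : Type u} [CommRing R]

/-- In `Spec R`, every point of the closure of a constructible set `T` is a specialization of a
point of `T`. -/
theorem exists_specializes_of_mem_closure {T : Set (PrimeSpectrum R)} (hT : IsConstructible T)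
    (y : PrimeSpectrum R) (hy : y ∈ closure T) : ∃ ξ ∈ T, ξ ⤳ y := by
  obtain ⟨S, _, f, rfl⟩ := PrimeSpectrum.exists_range_eq_of_isConstructible hT
  rw [PrimeSpectrum.closure_range_comap, PrimeSpectrum.mem_zeroLocus, SetLike.coe_subset_coe] at hy
  obtain ⟨p, hpmin, hpy⟩ := Ideal.exists_minimalPrimes_le hy
  have hpmin' : p ∈ ((⊥ : Ideal S).comap f).minimalPrimes := by
    rwa [← RingHom.ker_eq_comap_bot]
  obtain ⟨p', hp', -, rfl⟩ := Ideal.exists_comap_eq_of_mem_minimalPrimes f p hpmin'
  refine ⟨PrimeSpectrum.comap f ⟨p', hp'⟩, ⟨⟨p', hp'⟩, rfl⟩, ?_⟩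
  rw [← PrimeSpectrum.le_iff_specializes]
  exact hpy

/-- In `Spec R`, a constructible set containing all generizations of `y` is a neighbourhood of
`y`. -/
theorem mem_nhds_of_isConstructible {C : Set (PrimeSpectrum R)} (hC : IsConstructible C)
    (y : PrimeSpectrum R) (h : ∀ ξ : PrimeSpectrum R, ξ ⤳ y → ξ ∈ C) : C ∈ nhds y := by
  have hy : y ∉ closure Cᶜ := by
    intro hy
    obtain ⟨ξ, hξ, hξy⟩ := exists_specializes_of_mem_closure hC.compl y hy
    exact hξ (h ξ hξy)
  have h1 : (closure Cᶜ)ᶜ ∈ nhds y := isClosed_closure.isOpen_compl.mem_nhds hy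
  refine Filter.mem_of_superset h1 ?_
  intro z hz
  by_contra hzC
  exact hz (subset_closure hzC)

end Spec

section Sch

open AlgebraicGeometry

/-- On a scheme, a locally constructible set containing all generizations of `y` is a neighbourhood
of `y`. -/
theorem mem_nhds_of_isLocallyConstructible (Y : Scheme.{u}) {C : Set Y}
    (hC : IsLocallyConstructible C) (y : Y) (h : ∀ ξ : Y, ξ ⤳ y → ξ ∈ C) : C ∈ nhds y := by
  obtain ⟨_, ⟨W, hW, rfl⟩, hyW, -⟩ := Y.isBasis_affineOpens.exists_subset_of_mem_open
    (Set.mem_univ y) isOpen_univ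
  have hW' : IsAffineOpen W := hW
  have hyr : y ∈ Set.range hW'.fromSpec := by rw [hW'.range_fromSpec]; exact hyW
  obtain ⟨p, rfl⟩ := hyr
  have hC' : IsConstructible (hW'.fromSpec ⁻¹' C) :=
    (hC.preimage_of_isOpenEmbedding hW'.fromSpec.isOpenEmbedding).isConstructible
  have hnhds : (hW'.fromSpec ⁻¹' C) ∈ nhds (p : PrimeSpectrum Γ(Y, W)) := by
    refine mem_nhds_of_isConstructible hC' p ?_
    intro ξ hξ
    exact h _ (hξ.map hW'.fromSpec.continuous)
  have h2 := hW'.fromSpec.isOpenEmbedding.isOpenMap.image_mem_nhds hnhds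
  refine Filter.mem_of_superset h2 ?_
  rintro _ ⟨z, hz, rfl⟩
  exact hz

end Sch

section Top

/-- In a quasi-sober space, a point `y` with a Noetherian open neighbourhood `W` has a
neighbourhood `V` such that every `z ∈ V` is a specialization of a maximal point `η` (the generic
point of an irreducible component of the whole space) which also specializes to `y`. -/
theorem exists_nhds_forall_exists_generic {X : Type*} [TopologicalSpace X] [QuasiSober X]
    (W : Set X) (hW : IsOpen W) (hN : NoetherianSpace W) (y : X) (hy : y ∈ W) :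
    ∃ V ∈ nhds y, ∀ z ∈ V, ∃ η : X, η ⤳ z ∧ η ⤳ y ∧
      closure {η} ∈ irreducibleComponents X := by
  have hqs : QuasiSober W := hW.isOpenEmbedding_subtypeVal.quasiSober
  let yW : W := ⟨y, hy⟩
  have hfin : (irreducibleComponents W).Finite := NoetherianSpace.finite_irreducibleComponents
  let S : Set (Set W) := {T ∈ irreducibleComponents W | yW ∉ T}
  have hSfin : S.Finite := hfin.subset (fun T hT => hT.1)
  have hKclosed : IsClosed (⋃₀ S) := by
    rw [Set.sUnion_eq_biUnion]
    exact hSfin.isClosed_biUnion (fun T hT => isClosed_of_mem_irreducibleComponents T hT.1)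
  have hyK : yW ∉ ⋃₀ S := by
    rintro ⟨T, hT, hyT⟩
    exact hT.2 hyT
  have hVopen : IsOpen (Subtype.val '' (⋃₀ S)ᶜ : Set X) :=
    hW.isOpenEmbedding_subtypeVal.isOpenMap _ hKclosed.isOpen_compl
  refine ⟨Subtype.val '' (⋃₀ S)ᶜ, hVopen.mem_nhds ⟨yW, hyK, rfl⟩, ?_⟩
  rintro _ ⟨zW, hzK, rfl⟩
  have hTmem : irreducibleComponent zW ∈ irreducibleComponents W :=
    irreducibleComponent_mem_irreducibleComponents zW
  have hzT : zW ∈ irreducibleComponent zW := mem_irreducibleComponent
  have hyT : yW ∈ irreducibleComponent zW := by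
    by_contra hcon
    exact hzK ⟨_, ⟨hTmem, hcon⟩, hzT⟩
  obtain ⟨ηW, hηW⟩ := QuasiSober.sober (isIrreducible_irreducibleComponent (x := zW))
    (isClosed_irreducibleComponent (x := zW))
  have hηz : ηW ⤳ zW := by
    rw [specializes_iff_mem_closure, hηW.def]; exact hzT
  have hηy : ηW ⤳ yW := by
    rw [specializes_iff_mem_closure, hηW.def]; exact hyT
  refine ⟨ηW.1, hηz.map continuous_subtype_val, hηy.map continuous_subtype_val, ?_⟩
  apply Groth.Agent.Lib.GenericDense68.closure_singleton_mem_irreducibleComponents
  intro ξ hξ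
  have hξW : ξ ∈ W := hξ.mem_open hW ηW.2
  let ξW : W := ⟨ξ, hξW⟩
  have h1 : ξW ⤳ ηW := Topology.IsInducing.subtypeVal.specializes_iff.mp hξ
  have h2 : irreducibleComponent zW ⊆ closure {ξW} := by
    rw [← hηW.def]
    exact specializes_iff_closure_subset.mp h1
  have h3 : closure {ξW} ⊆ irreducibleComponent zW :=
    hTmem.2 isIrreducible_singleton.closure h2
  have h4 : ηW ⤳ ξW := by
    rw [specializes_iff_mem_closure, hηW.def]
    exact h3 (subset_closure rfl)
  exact h4.map continuous_subtype_val

end Top

section Sch2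

open AlgebraicGeometry

/-- On a locally Noetherian scheme every point `y` has a neighbourhood `V` such that each `z ∈ V`
is a specialization of the generic point `η` of an irreducible component through `y`. -/
theorem exists_nhds_forall_exists_generic_of_isLocallyNoetherian (Y : Scheme.{u})
    [IsLocallyNoetherian Y] (y : Y) :
    ∃ V ∈ nhds y, ∀ z ∈ V, ∃ η : Y, η ⤳ z ∧ η ⤳ y ∧
      closure {η} ∈ irreducibleComponents (Y : Type u) := by
  obtain ⟨_, ⟨W, hW, rfl⟩, hyW, -⟩ := Y.isBasis_affineOpens.exists_subset_of_mem_open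
    (Set.mem_univ y) isOpen_univ
  have hW' : IsAffineOpen W := hW
  have : IsNoetherianRing Γ(Y, W) := IsLocallyNoetherian.component_noetherian ⟨W, hW'⟩
  have hN : NoetherianSpace W := noetherianSpace_of_isAffineOpen W hW'
  exact exists_nhds_forall_exists_generic (W : Set Y) W.isOpen hN y hyW

end Sch2

end Groth.Agent.Lib.H56ConsNhds
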