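import Groth.Agent.S2150
import Mathlib.RingTheory.Unramified.Field
import Mathlib.AlgebraicGeometry.Geometrically.Irreducible
import Mathlib.AlgebraicGeometry.Fiber
import Mathlib.Topology.Sober

/-!
Geometric irreducibility via function fields (helper77).
-/

set_option autoImplicit false
universe u

namespace Groth.Agent.Lib.H77GeomIrr

section Field

open TensorProduct IntermediateField

variable {k K : Type u} [Field k] [Field K] [Algebra k K]

/-- If `Spec (K ⊗[k] K)` is irreducible, every finite separable subextension of `K/k` is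
trivial. -/
theorem finrank_eq_one_of_irreducibleSpace_tensor_self
    (hirr : IrreducibleSpace (PrimeSpectrum (K ⊗[k] K)))
    (L : Type u) [Field L] [Algebra k L] [FiniteDimensional k L] [Algebra.IsSeparable k L]
    (i : L →ₐ[k] K) : Module.finrank k L = 1 := by
  classical
  -- `K ⊗ L` is reduced
  have hunr : Algebra.FormallyUnramified k L := Algebra.FormallyUnramified.of_isSeparable k L
  have hred : IsReduced (K ⊗[k] L) := Algebra.FormallyUnramified.isReduced_of_field K (K ⊗[k] L)
  -- the inclusion `K ⊗ L → K ⊗ K`
  let incl : K ⊗[k] L →ₐ[K] K ⊗[k] K := Algebra.TensorProduct.map (AlgHom.id K K) i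
  have hincl : Function.Injective incl := by
    have h : Function.Injective (LinearMap.lTensor K i.toLinearMap) :=
      Module.Flat.lTensor_preserves_injective_linearMap _ i.injective
    intro x y hxy
    exact h hxy
  -- `(0)` is prime in `K ⊗ L`
  have hN := PrimeSpectrum.irreducibleSpace_iff_isPrime_nilradical.mp hirr
  have hdom : IsDomain (K ⊗[k] L) := by
    have hnt : Nontrivial (K ⊗[k] L) := by
      refine ⟨⟨0, 1, fun h01 => ?_⟩⟩
      apply hN.ne_top
      rw [Ideal.eq_top_iff_one, mem_nilradical]
      refine ⟨1, ?_⟩
      rw [pow_one, ← map_one incl, ← h01, map_zero]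
    have : NoZeroDivisors (K ⊗[k] L) := by
      refine ⟨fun {a b} hab => ?_⟩
      have h1 : incl a * incl b ∈ nilradical (K ⊗[k] K) := by
        rw [← map_mul, hab, map_zero]
        exact Ideal.zero_mem _
      rcases hN.mem_or_mem h1 with h | h
      · left
        obtain ⟨n, hn⟩ := mem_nilradical.mp h
        rw [← map_pow] at hn
        have : a ^ n = 0 := hincl (by rw [hn, map_zero])
        exact IsReduced.eq_zero _ ⟨n, this⟩
      · right
        obtain ⟨n, hn⟩ := mem_nilradical.mp h
        rw [← map_pow] at hn
        have : b ^ n = 0 := hincl (by rw [hn, map_zero])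
        exact IsReduced.eq_zero _ ⟨n, this⟩
    exact NoZeroDivisors.to_isDomain _
  -- the multiplication map `K ⊗ L → K` is injective since `K ⊗ L` is a field
  let μ : K ⊗[k] L →ₐ[K] K :=
    Algebra.TensorProduct.lift (AlgHom.id K K) i (fun _ _ => Commute.all _ _)
  have hart : IsArtinianRing (K ⊗[k] L) := IsArtinianRing.of_finite K (K ⊗[k] L)
  have hfield : IsField (K ⊗[k] L) := IsArtinianRing.isField_of_isDomain _
  have hμinj : Function.Injective μ := by
    letI := hfield.toField
    exact μ.toRingHom.injective
  have hfr : Module.finrank K (K ⊗[k] L) ≤ Module.finrank K K :=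
    LinearMap.finrank_le_finrank_of_injective (f := μ.toLinearMap) hμinj
  rw [Module.finrank_baseChange, Module.finrank_self] at hfr
  exact le_antisymm hfr Module.finrank_pos

/-- If `Spec (K ⊗[k] K)` is irreducible, then `k` is separably closed in `K`. -/
theorem mem_range_of_irreducibleSpace_tensor_self
    (hirr : IrreducibleSpace (PrimeSpectrum (K ⊗[k] K))) (α : K) (hα : IsSeparable k α) :
    α ∈ Set.range (algebraMap k K) := by
  classical
  have hαint : IsIntegral k α := hα.isIntegral
  have hPirr : Irreducible (minpoly k α) := minpoly.irreducible hαint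
  have : Fact (Irreducible (minpoly k α)) := ⟨hPirr⟩
  let L := AdjoinRoot (minpoly k α)
  let e : L ≃ₐ[k] k⟮α⟯ := IntermediateField.adjoinRootEquivAdjoin k hαint
  have hsepL' : Algebra.IsSeparable k k⟮α⟯ :=
    (isSeparable_adjoin_simple_iff_isSeparable k K).mpr hα
  have hsepL : Algebra.IsSeparable k L := Algebra.IsSeparable.of_algHom k k⟮α⟯ e.toAlgHom
  have hfinL : FiniteDimensional k L := (AdjoinRoot.powerBasis hPirr.ne_zero).finite
  let i : L →ₐ[k] K := (IntermediateField.val k⟮α⟯).comp e.toAlgHom
  have h1 := finrank_eq_one_of_irreducibleSpace_tensor_self hirr L i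
  have h2 : Module.finrank k L = (minpoly k α).natDegree := by
    rw [(AdjoinRoot.powerBasis hPirr.ne_zero).finrank, AdjoinRoot.powerBasis_dim]
  rw [h2] at h1
  exact (minpoly.natDegree_eq_one_iff (A := k) (B := K)).mp h1

end Field

section Top

variable {X Y : Type*} [TopologicalSpace X] [TopologicalSpace Y]

/-- The fibre through a generic point of the source is irreducible. -/
lemma isIrreducible_preimage_of_isGenericPoint (p : Y → X) {ζ : Y}
    (hζ : IsGenericPoint ζ Set.univ) : IsIrreducible (p ⁻¹' {p ζ}) := by
  refine ⟨⟨ζ, rfl⟩, ?_⟩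
  rintro U V hU hV ⟨a, -, haU⟩ ⟨b, -, hbV⟩
  have hζU : ζ ∈ U := (hζ.mem_open_set_iff hU).mpr ⟨a, trivial, haU⟩
  have hζV : ζ ∈ V := (hζ.mem_open_set_iff hV).mpr ⟨b, trivial, hbV⟩
  exact ⟨ζ, rfl, hζU, hζV⟩

end Top

section Scheme

open AlgebraicGeometry CategoryTheory CategoryTheory.Limits TensorProduct

variable {X Y : Scheme.{u}}

/-- The generic fibre of a dominant morphism of irreducible schemes is irreducible. -/
theorem irreducibleSpace_fiber_genericPoint (p : Y ⟶ X) [IrreducibleSpace Y] [IrreducibleSpace X]
    (hp : DenseRange p) : IrreducibleSpace ↥(p.fiber (genericPoint X)) := by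
  have h1 : IsGenericPoint (p (genericPoint Y)) (Set.univ : Set X) := by
    have := (genericPoint_spec Y).image p.continuous
    rwa [Set.image_univ, hp.closure_range] at this
  have h2 : p (genericPoint Y) = genericPoint X := h1.eq (genericPoint_spec X)
  have h3 : IsIrreducible (p ⁻¹' {genericPoint X}) := by
    rw [← h2]
    exact isIrreducible_preimage_of_isGenericPoint p (genericPoint_spec Y)
  have h4 : IrreducibleSpace ↥(p ⁻¹' {genericPoint X}) := Subtype.irreducibleSpace h3
  exact (p.fiberHomeo (genericPoint X)).irreducibleSpace_iff.mpr h4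

/-- A scheme with an open morphism to an irreducible scheme and irreducible generic fibre is
irreducible. -/
theorem irreducibleSpace_of_fiber_genericPoint (p : Y ⟶ X) (hopen : IsOpenMap p)
    [IrreducibleSpace X] [Nonempty Y]
    (hfib : IrreducibleSpace ↥(p.fiber (genericPoint X))) : IrreducibleSpace Y := by
  have h1 : IsPreirreducible (p ⁻¹' {genericPoint X}) := by
    have : IrreducibleSpace ↥(p ⁻¹' {genericPoint X}) :=
      (p.fiberHomeo (genericPoint X)).irreducibleSpace_iff.mp hfib
    exact (IsIrreducible.of_subtype (s := p ⁻¹' {genericPoint X})).isPreirreducible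
  have h2 : IsPreirreducible (p ⁻¹' (Set.univ : Set X)) := by
    refine (IrreducibleSpace.isIrreducible_univ X).isPreirreducible
      |>.preimage_of_dense_isPreirreducible_fiber p hopen ?_
    intro x _
    have hmem : genericPoint X ∈ Set.univ ∩ {x : X | IsPreirreducible (p ⁻¹' {x})} := ⟨trivial, h1⟩
    have hcl : x ∈ closure ({genericPoint X} : Set X) := by
      rw [(genericPoint_spec X).def]
      trivial
    exact closure_mono (Set.singleton_subset_iff.mpr hmem) hcl
  rw [Set.preimage_univ] at h2
  have : PreirreducibleSpace Y := ⟨h2⟩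
  exact ⟨inferInstance⟩

/-- Transport of irreducibility along an isomorphism of schemes. -/
lemma irreducibleSpace_of_iso {Z W : Scheme.{u}} (e : Z ≅ W) [IrreducibleSpace Z] :
    IrreducibleSpace W :=
  e.hom.homeomorph.irreducibleSpace_iff.mp inferInstance

variable {k : Type u} [Field k]

/-- Key step: if `X` is irreducible with function field `K` (as a `k`-algebra `K'` via an
identification of the map `Spec K → Spec k`), and `Spec (k' ⊗[k] K)` is irreducible, then
`X ×ₖ Spec k'` is irreducible. -/
theorem irreducibleSpace_pullback_of_genericFibre (f : X ⟶ Spec (CommRingCat.of k))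
    [IrreducibleSpace X] (K : Type u) [Field K] [Algebra k K]
    (ι : Spec (CommRingCat.of K) ⟶ X) (hι : ι ≫ f = Spec.map (CommRingCat.ofHom (algebraMap k K)))
    (e : Spec (CommRingCat.of K) ≅ Spec (X.residueField (genericPoint X)))
    (he : e.hom ≫ X.fromSpecResidueField (genericPoint X) = ι)
    (k' : Type u) [Field k'] [Algebra k k']
    (hirr : IrreducibleSpace (PrimeSpectrum (k' ⊗[k] K))) :
    IrreducibleSpace ↥(pullback f (Spec.map (CommRingCat.ofHom (algebraMap k k')))) := by
  set y := Spec.map (CommRingCat.ofHom (algebraMap k k')) with hy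
  let r := pullback.fst f y
  have hne : Nonempty X := inferInstance
  have hfsurj : Surjective y := Groth.Agent.Lib.GeomDescent.surjective_of_nonempty_of_field _
  have hrsurj : Surjective r := MorphismProperty.pullback_fst _ _ hfsurj
  have : Nonempty ↥(pullback f y) := by
    obtain ⟨x⟩ := hne
    obtain ⟨z, -⟩ := r.surjective x
    exact ⟨z⟩
  have hropen : IsOpenMap r := r.isOpenMap
  refine irreducibleSpace_of_fiber_genericPoint r hropen ?_
  -- the generic fibre is `Spec (K ⊗ k')`
  have h1 : IrreducibleSpace ↥(Spec (CommRingCat.of (K ⊗[k] k'))) := by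
    have : IrreducibleSpace (PrimeSpectrum (K ⊗[k] k')) :=
      (PrimeSpectrum.homeomorphOfRingEquiv
        (Algebra.TensorProduct.comm k k' K).toRingEquiv).irreducibleSpace_iff.mp hirr
    exact this
  have h2 : IrreducibleSpace ↥(pullback (Spec.map (CommRingCat.ofHom (algebraMap k K))) y) :=
    irreducibleSpace_of_iso (pullbackSpecIso k K k').symm
  have h3 : IrreducibleSpace ↥(pullback (ι ≫ f) y) := by rw [hι]; exact h2
  have h4 : IrreducibleSpace ↥(pullback ι r) :=
    irreducibleSpace_of_iso (pullbackRightPullbackFstIso f y ι).symm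
  -- replace `ι` by the canonical map from the residue field
  have h5 : IrreducibleSpace ↥(pullback (X.fromSpecResidueField (genericPoint X)) r) := by
    have eiso : pullback ι r ≅ pullback (X.fromSpecResidueField (genericPoint X)) r :=
      asIso (pullback.map ι r (X.fromSpecResidueField (genericPoint X)) r e.hom (𝟙 _) (𝟙 _)
        (by rw [Category.comp_id, he]) (by simp))
    exact irreducibleSpace_of_iso eiso
  exact irreducibleSpace_of_iso (pullbackSymmetry (X.fromSpecResidueField (genericPoint X)) r)

/-- If `X ×ₖ X` is irreducible, then `X` is geometrically irreducible over `k`. -/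
theorem geometricallyIrreducible_of_irreducibleSpace_pullback_self
    (f : X ⟶ Spec (CommRingCat.of k)) [IrreducibleSpace ↥(pullback f f)] :
    GeometricallyIrreducible f := by
  have hneP : Nonempty ↥(pullback f f) := inferInstance
  have hneX : Nonempty X := ⟨pullback.fst f f (Classical.arbitrary _)⟩
  have hfsurj : Surjective f := Groth.Agent.Lib.GeomDescent.surjective_of_nonempty_of_field f
  have hfst : Surjective (pullback.fst f f) := MorphismProperty.pullback_fst _ _ hfsurj
  have hX : IrreducibleSpace X :=
    (pullback.fst f f).surjective.irreducibleSpace (pullback.fst f f).continuous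
  let K : Type u := X.residueField (genericPoint X)
  let ι : Spec (CommRingCat.of K) ⟶ X := X.fromSpecResidueField (genericPoint X)
  let g : Spec (CommRingCat.of K) ⟶ Spec (CommRingCat.of k) := ι ≫ f
  let ψ : CommRingCat.of k ⟶ CommRingCat.of K := Spec.preimage g
  have hψ : Spec.map ψ = g := Spec.map_preimage g
  let _ : Algebra k K := ψ.hom.toAlgebra
  have hι : ι ≫ f = Spec.map (CommRingCat.ofHom (algebraMap k K)) := hψ.symm
  -- Step 1: `Spec K ×ₖ X` is irreducible
  have hfib1 : IrreducibleSpace ↥(pullback (pullback.fst f f) ι) :=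
    irreducibleSpace_fiber_genericPoint (pullback.fst f f) (pullback.fst f f).surjective.denseRange
  have hY0 : IrreducibleSpace ↥(pullback ι (pullback.fst f f)) :=
    irreducibleSpace_of_iso (pullbackSymmetry (pullback.fst f f) ι)
  have hY : IrreducibleSpace ↥(pullback g f) :=
    irreducibleSpace_of_iso (pullbackRightPullbackFstIso f f ι)
  -- Step 2: `Spec K ×ₖ Spec K` is irreducible
  have hgsurj : Surjective g := Groth.Agent.Lib.GeomDescent.surjective_of_nonempty_of_field g
  have hq : Surjective (pullback.snd g f) := MorphismProperty.pullback_snd _ _ hgsurj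
  have hfib2 : IrreducibleSpace ↥(pullback (pullback.snd g f) ι) :=
    irreducibleSpace_fiber_genericPoint (pullback.snd g f) (pullback.snd g f).surjective.denseRange
  have hKK0 : IrreducibleSpace ↥(pullback g g) :=
    irreducibleSpace_of_iso (pullbackLeftPullbackSndIso g f ι)
  have hKK1 : IrreducibleSpace ↥(pullback (Spec.map (CommRingCat.ofHom (algebraMap k K)))
      (Spec.map (CommRingCat.ofHom (algebraMap k K)))) := by
    rw [← hι]; exact hKK0
  have hKK : IrreducibleSpace (PrimeSpectrum (K ⊗[k] K)) := by
    have : IrreducibleSpace ↥(Spec (CommRingCat.of (K ⊗[k] K))) :=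
      irreducibleSpace_of_iso (pullbackSpecIso k K K)
    exact this
  -- Steps 3, 4
  have hsep : ∀ α : K, IsSeparable k α → α ∈ Set.range (algebraMap k K) :=
    mem_range_of_irreducibleSpace_tensor_self hKK
  have hall := (Groth.Agent.S2150.result (k := k) (K := K)).mpr hsep
  -- Steps 5, 6
  refine ⟨(geometrically_iff_of_isClosedUnderIsomorphisms).mpr fun K' _ y => ?_⟩
  obtain ⟨ψ', rfl⟩ := Spec.map_surjective y
  let _ : Algebra k K' := ψ'.hom.toAlgebra
  exact irreducibleSpace_pullback_of_genericFibre f K ι hι (Iso.refl _) (Category.id_comp _) K'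
    (hall K')

end Scheme

end Groth.Agent.Lib.H77GeomIrr
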