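/-
helper56: keystone FibDim, stage 6: generic fibre dimension is a lower bound for the local fibre
dimension (EGA IV 13.1.1).
-/
import Mathlib
import Groth.Prelude.Def_Flat
import Groth.Agent.Lib.H56FibDimSup
import Groth.Agent.Lib.H30DimField
import Groth.Agent.Lib.H77GeomIrr
import Groth.Agent.S0402

set_option autoImplicit false
universe u

open TopologicalSpace Topology AlgebraicGeometry CategoryTheory

namespace Groth.Agent.Lib.H56LocDim

/-- For an irreducible scheme locally of finite type over a field, the local dimension at every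
point equals the dimension. -/
theorem localDim_eq_dim_of_irreducible (k : Type u) [Field k] (Z : Scheme.{u})
    [Z.Over (Spec (CommRingCat.of k))] [LocallyOfFiniteType (Z ↘ Spec (CommRingCat.of k))]
    [IrreducibleSpace Z] (z : Z) : FlatMor.localDim Z z = topologicalKrullDim Z := by
  unfold FlatMor.localDim
  apply le_antisymm
  · refine (iInf_le _ (⟨⊤, trivial⟩ : {U : Opens Z // z ∈ U})).trans ?_
    exact le_of_eq ((Groth.Agent.Lib.H30DimField.krullDim_open_eq k Z
      (((⊤ : Opens Z)) : Set Z) (⊤ : Opens Z).2 ⟨z, trivial⟩).trans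
      (Groth.Agent.Lib.H30DimField.krullDim_eq_td k Z).symm)
  · refine le_iInf fun U => ?_
    exact le_of_eq ((Groth.Agent.Lib.H30DimField.krullDim_eq_td k Z).trans
      (Groth.Agent.Lib.H30DimField.krullDim_open_eq k Z
      ((U.1 : Opens Z) : Set Z) U.1.2 ⟨z, U.2⟩).symm)

/-- If the fibre `f⁻¹(y)` is irreducible (and `f` is locally of finite type), then the local fibre
dimension at every point over `y` is the dimension of the fibre. -/
theorem fibreDimAt_eq_dim_fiber_of_irreducible {X Y : Scheme.{u}} (f : X ⟶ Y)
    [LocallyOfFiniteType f] (y : Y) [IrreducibleSpace (f.fiber y)] (x : X) (hx : f.base x = y) :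
    FlatMor.fibreDimAt f x = topologicalKrullDim (f.fiber y) := by
  let z : f.fiber y := (f.fiberHomeo y).symm ⟨x, hx⟩
  have hz : f.fiberι y z = x := f.fiberι_fiberHomeo_symm y ⟨x, hx⟩
  rw [← localDim_fiber_eq f x y hx z hz]
  let _ : (f.fiber y).Over (Spec (CommRingCat.of (Y.residueField y))) :=
    ⟨f.fiberToSpecResidueField y⟩
  have : LocallyOfFiniteType (f.fiber y ↘ Spec (CommRingCat.of (Y.residueField y))) := by
    change LocallyOfFiniteType (f.fiberToSpecResidueField y)
    unfold Scheme.Hom.fiberToSpecResidueField
    exact MorphismProperty.pullback_snd (P := @LocallyOfFiniteType) f _ inferInstance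
  exact localDim_eq_dim_of_irreducible (Y.residueField y) (f.fiber y) z

/-- EGA IV 13.1.1: for a dominant morphism locally of finite type between irreducible schemes, the
dimension of the generic fibre bounds the local fibre dimension from below. -/
theorem dim_generic_fiber_le_fibreDimAt {X Y : Scheme.{u}} [IrreducibleSpace X]
    [IrreducibleSpace Y] (f : X ⟶ Y) [LocallyOfFiniteType f] (hf : DenseRange f.base) (x : X) :
    topologicalKrullDim (f.fiber (genericPoint Y)) ≤ FlatMor.fibreDimAt f x := by
  have hirr : IrreducibleSpace (f.fiber (genericPoint Y)) :=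
    Groth.Agent.Lib.H77GeomIrr.irreducibleSpace_fiber_genericPoint f hf
  have h1 : IsGenericPoint (f.base (genericPoint X)) (Set.univ : Set Y) := by
    have := (genericPoint_spec X).image f.continuous
    rwa [Set.image_univ, hf.closure_range] at this
  have h2 : f.base (genericPoint X) = genericPoint Y := h1.eq (genericPoint_spec Y)
  have hgen := fibreDimAt_eq_dim_fiber_of_irreducible f (genericPoint Y) (genericPoint X) h2
  rw [← hgen]
  -- the value at `x` is a natural number
  obtain ⟨n, hn⟩ := exists_nat_fibreDimAt_le f x
  have h0 := fibreDimAt_nonneg f x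
  obtain ⟨m, hm⟩ : ∃ m : ℕ, FlatMor.fibreDimAt f x = (m : WithBot ℕ∞) := by
    generalize FlatMor.fibreDimAt f x = v at hn h0
    induction v using WithBot.recBotCoe with
    | bot => simp at h0
    | coe b =>
      have hb : b ≤ (n : ℕ∞) := by exact_mod_cast hn
      obtain ⟨m, rfl⟩ := ENat.ne_top_iff_exists.mp (ne_top_of_le_ne_top (ENat.natCast_ne_top n) hb)
      exact ⟨m, rfl⟩
  rw [hm]
  have hopen := Groth.Agent.S0402.result f m
  have hxU : x ∈ {x : X | FlatMor.fibreDimAt f x ≤ (m : WithBot ℕ∞)} := hm.le
  exact (genericPoint_specializes x).mem_open hopen hxU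

end Groth.Agent.Lib.H56LocDim
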