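import Mathlib.RingTheory.Ideal.KrullsHeightTheorem
import Mathlib.RingTheory.Ideal.GoingDown
import Mathlib.RingTheory.KrullDimension.Basic
import Mathlib.RingTheory.LocalRing.RingHom.Basic
import Mathlib.Tactic

/-!
# Dimension inequality for local homomorphisms (helper33)

`dim B ≤ dim A + dim B/𝔪_A B` for a local homomorphism `A → B` of Noetherian local rings.
-/

set_option autoImplicit false
set_option linter.style.haveILetI false
universe u v

namespace Groth.Agent.Lib.DimFibre33

open IsLocalRing

section Alg

variable {A : Type u} {B : Type v} [CommRing A] [CommRing B] [IsLocalRing A] [IsLocalRing B]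
  [IsNoetherianRing A] [IsNoetherianRing B] [Algebra A B] [IsLocalHom (algebraMap A B)]

/-- Dimension inequality for local homomorphisms: `dim B ≤ dim A + dim B/𝔪_A B`. -/
theorem ringKrullDim_le_add :
    ringKrullDim B ≤ ringKrullDim A +
      ringKrullDim (B ⧸ (maximalIdeal A).map (algebraMap A B)) := by
  haveI : (maximalIdeal B).LiesOver (maximalIdeal A) :=
    ⟨(maximalIdeal_comap (algebraMap A B)).symm⟩
  have h := Ideal.height_le_height_add_of_liesOver (maximalIdeal A) (maximalIdeal B)
  haveI : Nontrivial (B ⧸ (maximalIdeal A).map (algebraMap A B)) :=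
    Ideal.Quotient.nontrivial_iff.mpr (map_maximalIdeal_lt_top (algebraMap A B)).ne
  haveI : IsLocalRing (B ⧸ (maximalIdeal A).map (algebraMap A B)) :=
    IsLocalRing.of_surjective' (Ideal.Quotient.mk _) Ideal.Quotient.mk_surjective
  have hmax : (maximalIdeal B).map (Ideal.Quotient.mk ((maximalIdeal A).map (algebraMap A B))) =
      maximalIdeal (B ⧸ (maximalIdeal A).map (algebraMap A B)) := by
    have := Ideal.map_eq_top_or_isMaximal_of_surjective
      (Ideal.Quotient.mk ((maximalIdeal A).map (algebraMap A B))) Ideal.Quotient.mk_surjective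
      (maximalIdeal.isMaximal B)
    rcases this with h1 | h1
    · exfalso
      have h2 := congrArg (Ideal.comap (Ideal.Quotient.mk ((maximalIdeal A).map (algebraMap A B)))) h1
      rw [Ideal.comap_map_of_surjective _ Ideal.Quotient.mk_surjective, Ideal.comap_top,
        ← RingHom.ker_eq_comap_bot, Ideal.mk_ker,
        sup_eq_left.mpr (map_maximalIdeal_le (algebraMap A B))] at h2
      exact (maximalIdeal.isMaximal B).ne_top h2
    · exact IsLocalRing.eq_maximalIdeal h1
  rw [hmax] at h
  rw [← IsLocalRing.maximalIdeal_height_eq_ringKrullDim,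
    ← IsLocalRing.maximalIdeal_height_eq_ringKrullDim,
    ← IsLocalRing.maximalIdeal_height_eq_ringKrullDim]
  exact_mod_cast h

end Alg

/-- Ring-hom form. -/
theorem ringKrullDim_le_add' {A B : Type u} [CommRing A] [CommRing B] [IsLocalRing A]
    [IsLocalRing B] [IsNoetherianRing A] [IsNoetherianRing B] (φ : A →+* B) [IsLocalHom φ] :
    ringKrullDim B ≤ ringKrullDim A + ringKrullDim (B ⧸ Ideal.map φ (maximalIdeal A)) := by
  let _ : Algebra A B := φ.toAlgebra
  have : IsLocalHom (algebraMap A B) := ‹IsLocalHom φ›
  exact ringKrullDim_le_add (A := A) (B := B)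

end Groth.Agent.Lib.DimFibre33
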