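import Groth.Agent.Lib.SpecDim
import Mathlib.AlgebraicGeometry.Properties
import Mathlib.RingTheory.RegularLocalRing.Defs
import Mathlib.RingTheory.DiscreteValuationRing.TFAE
import Mathlib.LinearAlgebra.FreeModule.PID

/-!
# Regular local rings of dimension at most one; dimension of stalks

* `dim_stalk_le`: `dim O_{X,x} ≤ dim X`.
* `isPrincipalIdealRing_of_regular_of_dim_le_one`: a regular local domain of dimension `≤ 1` is
  a principal ideal ring.
* `free_of_regular_of_dim_le_one`: finite torsion-free modules over such rings are free.
-/

set_option autoImplicit false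
universe u

open AlgebraicGeometry

namespace Groth.Agent.Lib.RegularDimOne

/-- The dimension of a local ring of a scheme is at most the dimension of the scheme. -/
theorem dim_stalk_le (X : Scheme.{u}) (x : X) :
    ringKrullDim (X.presheaf.stalk x) ≤ topologicalKrullDim X := by
  rw [ringKrullDim_stalk_eq_coheight]
  have h1 : topologicalKrullDim X = Order.krullDim X :=
    Groth.Agent.Lib.SpecDim.topologicalKrullDim_eq_krullDim (A := X)
  rw [h1]
  exact Order.coheight_le_krullDim x

/-- A regular local domain of dimension at most one is a principal ideal ring. -/
theorem isPrincipalIdealRing_of_regular_of_dim_le_one (R : Type*) [CommRing R]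
    [IsRegularLocalRing R] [IsDomain R] (h : ringKrullDim R ≤ 1) : IsPrincipalIdealRing R := by
  have h1 := (IsRegularLocalRing.iff_finrank_cotangentSpace R).mp inferInstance
  have h2 : Module.finrank (IsLocalRing.ResidueField R) (IsLocalRing.CotangentSpace R) ≤ 1 := by
    have : ((Module.finrank (IsLocalRing.ResidueField R) (IsLocalRing.CotangentSpace R) : ℕ) :
        WithBot ℕ∞) ≤ 1 := by rw [h1]; exact h
    exact_mod_cast this
  exact ((tfae_of_isNoetherianRing_of_isLocalRing_of_isDomain R).out 5 0).mp h2

/-- A finite torsion-free module over a regular local domain of dimension at most one is free. -/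
theorem free_of_regular_of_dim_le_one (R : Type*) [CommRing R] [IsRegularLocalRing R]
    [IsDomain R] (h : ringKrullDim R ≤ 1) (M : Type*) [AddCommGroup M] [Module R M]
    [Module.Finite R M] [NoZeroSMulDivisors R M] : Module.Free R M := by
  have := isPrincipalIdealRing_of_regular_of_dim_le_one R h
  infer_instance

end Groth.Agent.Lib.RegularDimOne
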