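import Groth.Agent.Lib.DimFormulaScheme
import Groth.Agent.S0554
import Groth.Agent.Lib.DimFibre33
import Groth.Agent.Lib.FibreStalk33
import Groth.Agent.Lib.RegularDimOne
import Groth.Agent.Lib.SpecDim

/-!
# Consequences of the dimension formula for schemes (helper63)

Setting: `f : X ⟶ S` locally of finite type, `S` locally Noetherian, `ξ : X` specializing to every
point of `X` and `f ξ` specializing to every point of `S`; `e₀ = trdeg κ(ξ)/κ(f ξ)`.

* `dim_stalk_le_add`: `dim O_{X,x} ≤ dim O_{S,f x} + e₀` (no catenarity needed).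
* `exists_dim_stalk_eq_add`: if the local rings of `S` are universally catenary, every nonempty
  fibre contains a point `z` with `dim O_{X,z} = dim O_{S,f z} + e₀`.
* `topologicalKrullDim_fiber_eq`: the fibre over `f ξ` has dimension `e₀`.
-/

set_option autoImplicit false
universe u

namespace Groth.Agent.Lib.DimFormulaScheme

open Cardinal AlgebraicGeometry Groth.Agent.Lib.TrdegTransfer Groth.Agent.Lib.DimIneqCore
  Groth.Agent.Lib.DimIneqScheme Groth.Agent.Lib.GenericFibrePoint

/-- The dimension inequality S0554, as the hypothesis `DimIneq`. -/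
theorem dimIneq : DimIneq.{u} :=
  fun R _ _ _ S _ _ _ _ _ p _ q _ _ => Groth.Agent.S0554.result R S p q

variable {X S : Scheme.{u}}

/-- A point specializing to every point has a zero-dimensional local ring. -/
theorem ringKrullDim_stalk_eq_zero_of_forall_specializes (g : S) (hg : ∀ y : S, g ⤳ y) :
    ringKrullDim (S.presheaf.stalk g) = 0 := by
  rw [ringKrullDim_stalk_eq_coheight]
  have : Order.coheight g = 0 := by
    rw [Order.coheight_eq_zero]
    intro b _
    exact hg b
  rw [this]
  rfl

/-- The local rings of a fibre are quotients of the local rings of the total space. -/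
theorem ringKrullDim_stalk_fiber_le (f : X ⟶ S) (y : S) (x' : f.fiber y) :
    ringKrullDim ((f.fiber y).presheaf.stalk x') ≤
      ringKrullDim (X.presheaf.stalk (f.fiberι y x')) :=
  ringKrullDim_le_of_surjective ((f.fiberι y).stalkMap x').hom
    ((f.fiberι y).stalkMap_surjective x')

/-- A scheme of dimension at least `n` has a local ring of dimension at least `n`. -/
theorem exists_le_ringKrullDim_stalk (Z : Scheme.{u}) (n : ℕ)
    (h : (n : WithBot ℕ∞) ≤ topologicalKrullDim Z) :
    ∃ z : Z, (n : WithBot ℕ∞) ≤ ringKrullDim (Z.presheaf.stalk z) := by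
  rw [Groth.Agent.Lib.SpecDim.topologicalKrullDim_eq_krullDim (A := Z), Order.le_krullDim_iff] at h
  obtain ⟨l, hl⟩ := h
  refine ⟨l.head, ?_⟩
  rw [ringKrullDim_stalk_eq_coheight, ← hl]
  exact_mod_cast Order.length_le_coheight_head (p := l)

section Main

variable (f : X ⟶ S) [IsLocallyNoetherian S] [LocallyOfFiniteType f]
  (ξ : X) (hξ : ∀ x : X, ξ ⤳ x) (hfξ : ∀ y : S, f ξ ⤳ y)

include hξ hfξ

/-- `dim O_{X,x} ≤ dim O_{S,f x} + e₀`. -/
theorem dim_stalk_le_add (e₀ : ℕ)
    (he : letI := (f.residueFieldMap ξ).hom.toAlgebra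
      Algebra.trdeg (S.residueField (f ξ)) (X.residueField ξ) = e₀) (x : X) :
    ringKrullDim (X.presheaf.stalk x) ≤ ringKrullDim (S.presheaf.stalk (f x)) + e₀ := by
  obtain ⟨a, b, ha, hb, hineq⟩ := stalk_ineq f dimIneq x (e₀ : Cardinal.{u}) (fun ξ' h1 _ => by
    have : ξ' = ξ := by
      have h2 : ξ ⤳ ξ' := hξ ξ'
      have h3 : ξ' ⤳ ξ := by
        have hmax : closure {ξ'} = closure {ξ} := by
          have hle : closure {ξ'} ⊆ closure {ξ} :=
            closure_minimal (Set.singleton_subset_iff.mpr (specializes_iff_mem_closure.mp h2))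
              isClosed_closure
          exact le_antisymm hle (h1.2 isIrreducible_singleton.closure hle)
        rw [specializes_iff_mem_closure, hmax]
        exact subset_closure rfl
      exact (h3.antisymm h2).eq
    rw [this, he])
  have h1 : (a : Cardinal.{u}) ≤ b + e₀ := le_trans (le_add_right le_rfl) hineq
  have h2 : a ≤ b + e₀ := by exact_mod_cast h1
  rw [ha, hb]
  calc ((a : ℕ) : WithBot ℕ∞) ≤ ((b + e₀ : ℕ) : WithBot ℕ∞) := by exact_mod_cast h2
    _ = (b : WithBot ℕ∞) + e₀ := by push_cast; rfl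

/-- Every nonempty fibre contains a point where the dimension formula holds with
`trdeg κ(z)/κ(f z) = 0`. -/
theorem exists_dim_stalk_eq_add
    (hUC : ∀ y : S, CAlg.IsUniversallyCatenary (S.presheaf.stalk y)) (e₀ : ℕ)
    (he : letI := (f.residueFieldMap ξ).hom.toAlgebra
      Algebra.trdeg (S.residueField (f ξ)) (X.residueField ξ) = e₀) (x₀ : X) :
    ∃ z : X, f z = f x₀ ∧
      ringKrullDim (X.presheaf.stalk z) = ringKrullDim (S.presheaf.stalk (f x₀)) + e₀ := by
  obtain ⟨n, z, -, hfz, -, -, htr⟩ := exists_point_trdeg_zero f dimIneq x₀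
  obtain ⟨a, b, ha, hb, hform⟩ := stalk_formula f hUC ξ hξ hfξ z
  rw [htr, he, add_zero] at hform
  have h2 : a = b + e₀ := by exact_mod_cast hform
  refine ⟨z, hfz, ?_⟩
  rw [← hfz, ha, hb, h2]
  push_cast
  rfl

/-- The fibre over `f ξ` (the generic fibre) has dimension `e₀ = trdeg κ(ξ)/κ(f ξ)`. -/
theorem topologicalKrullDim_fiber_eq (e₀ : ℕ)
    (he : letI := (f.residueFieldMap ξ).hom.toAlgebra
      Algebra.trdeg (S.residueField (f ξ)) (X.residueField ξ) = e₀) :
    topologicalKrullDim (f.fiber (f ξ)) = e₀ := by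
  have h0 : ringKrullDim (S.presheaf.stalk (f ξ)) = 0 :=
    ringKrullDim_stalk_eq_zero_of_forall_specializes (f ξ) hfξ
  apply le_antisymm
  · rw [Groth.Agent.Lib.SpecDim.topologicalKrullDim_eq_krullDim (A := f.fiber (f ξ)),
      Order.krullDim_eq_iSup_coheight]
    apply iSup_le
    intro x'
    rw [← ringKrullDim_stalk_eq_coheight]
    have hfx : f (f.fiberι (f ξ) x') = f ξ := by
      have : f.fiberι (f ξ) x' ∈ Set.range (f.fiberι (f ξ)) := Set.mem_range_self x'
      rw [f.range_fiberι] at this
      exact this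
    have h1 := dim_stalk_le_add f ξ hξ hfξ e₀ he (f.fiberι (f ξ) x')
    rw [hfx, h0, zero_add] at h1
    exact (ringKrullDim_stalk_fiber_le f (f ξ) x').trans h1
  · haveI : IsLocallyNoetherian X := LocallyOfFiniteType.isLocallyNoetherian f
    obtain ⟨z, -, hfz, hdim⟩ := exists_point_stalk_dim_ge f ξ e₀ he
    have h1 := Groth.Agent.Lib.DimFibre33.ringKrullDim_le_add' (f.stalkMap z).hom
    have h2 : ringKrullDim (X.presheaf.stalk z ⧸ Ideal.map (f.stalkMap z).hom
        (IsLocalRing.maximalIdeal (S.presheaf.stalk (f z)))) =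
        ringKrullDim ((f.fiber (f z)).presheaf.stalk (f.asFiber z)) :=
      ringKrullDim_eq_of_ringEquiv (Groth.Agent.Lib.FibreStalk33.fibreStalkEquiv f z)
    have h3 : ringKrullDim ((f.fiber (f z)).presheaf.stalk (f.asFiber z)) ≤
        topologicalKrullDim (f.fiber (f z)) :=
      Groth.Agent.Lib.RegularDimOne.dim_stalk_le _ _
    have h4 : ringKrullDim (S.presheaf.stalk (f z)) = 0 := by rw [hfz]; exact h0
    rw [h2, h4, zero_add] at h1
    have h5 : (e₀ : WithBot ℕ∞) ≤ topologicalKrullDim (f.fiber (f z)) :=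
      hdim.trans (h1.trans h3)
    rwa [hfz] at h5

end Main

end Groth.Agent.Lib.DimFormulaScheme
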