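import Mathlib

/-!
# Local homomorphisms with surjective `Spec` do not lower dimension

`Groth.Agent.Lib.H56OpenDim`:

* `krull_chain_false`: Krull's principal ideal theorem in the form "no chain `P < Q < p` with `p`
  minimal over `P + (x)`".
* `exists_prime_gt_not_mem`: in a Noetherian ring, if `coheight P ≥ s + 2` and `a ∉ P`, there is a
  prime `p₁ > P` not containing `a` with `coheight p₁ ≥ s + 1`.
* `exists_comap_eq_coheight_le`: for a local homomorphism `φ : A → B` of Noetherian local rings with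
  `Spec B → Spec A` surjective, every prime `P` of `A` has a prime `𝔮` over it with
  `coheight P ≤ coheight 𝔮`.
* `ringKrullDim_le_of_comap_surjective`: hence `dim A ≤ dim B`.
-/

set_option autoImplicit false

namespace Groth.Agent.Lib.H56OpenDim

open Ideal

/-- Krull's principal ideal theorem: there is no chain of primes `P < Q < p` with `p` minimal over
`P + (x)`. -/
theorem krull_chain_false {A : Type*} [CommRing A] [IsNoetherianRing A]
    {P Q p : Ideal A} [P.IsPrime] [Q.IsPrime] [p.IsPrime] (hPQ : P < Q) (hQp : Q < p) {x : A}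
    (hp : p ∈ (P ⊔ Ideal.span {x}).minimalPrimes) : False := by
  have h := Ideal.map_height_le_one_of_mem_minimalPrimes hp
  set f := Ideal.Quotient.mk P with hf
  have hsurj : Function.Surjective f := Ideal.Quotient.mk_surjective
  have hker : RingHom.ker f = P := Ideal.mk_ker
  have hQ' : (Q.map f).IsPrime := Ideal.map_isPrime_of_surjective hsurj (hker.trans_le hPQ.le)
  have hp' : (p.map f).IsPrime :=
    Ideal.map_isPrime_of_surjective hsurj (hker.trans_le (hPQ.le.trans hQp.le))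
  have hcQ : (Q.map f).comap f = Q := by
    rw [Ideal.comap_map_of_surjective f hsurj, ← RingHom.ker_eq_comap_bot, hker]
    exact sup_eq_left.mpr hPQ.le
  have hcp : (p.map f).comap f = p := by
    rw [Ideal.comap_map_of_surjective f hsurj, ← RingHom.ker_eq_comap_bot, hker]
    exact sup_eq_left.mpr (hPQ.le.trans hQp.le)
  have h1 : (⊥ : Ideal (A ⧸ P)) < Q.map f := by
    refine lt_of_le_of_ne bot_le fun e => ?_
    have : Q = P := by rw [← hcQ, ← e, ← RingHom.ker_eq_comap_bot, hker]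
    exact hPQ.ne' this
  have h2 : Q.map f < p.map f := by
    refine lt_of_le_of_ne (Ideal.map_mono hQp.le) fun e => ?_
    have : Q = p := by rw [← hcQ, e, hcp]
    exact hQp.ne this
  have h3 := Ideal.height_add_one_le_of_lt_of_isPrime h1
  have h4 := Ideal.height_add_one_le_of_lt_of_isPrime h2
  have h5 : (Q.map f).height + 1 ≤ 1 := h4.trans h
  have h6 : (Q.map f).height = 0 := by
    have : (Q.map f).height + 1 ≤ 0 + 1 := by simpa using h5
    exact le_antisymm ((ENat.add_le_add_iff_right (by simp)).mp this) zero_le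
  rw [h6] at h3
  simp at h3

/-- In a Noetherian ring, if `coheight P ≥ s + 2` and `a ∉ P`, there is a prime `p₁ > P` not
containing `a` with `coheight p₁ ≥ s + 1`. -/
theorem exists_prime_gt_not_mem {A : Type*} [CommRing A] [IsNoetherianRing A]
    (P : PrimeSpectrum A) (a : A) (ha : a ∉ P.asIdeal) (s : ℕ)
    (hs : ((s + 2 : ℕ) : ℕ∞) ≤ Order.coheight P) :
    ∃ p₁ : PrimeSpectrum A, P < p₁ ∧ a ∉ p₁.asIdeal ∧ ((s + 1 : ℕ) : ℕ∞) ≤ Order.coheight p₁ := by
  classical
  obtain ⟨l, hhead, hlen⟩ := Order.exists_series_of_le_coheight P hs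
  have h1lt : 1 < l.length + 1 := by omega
  have h2lt : 2 < l.length + 1 := by omega
  set P1 : PrimeSpectrum A := l ⟨1, h1lt⟩ with hP1
  set P2 : PrimeSpectrum A := l ⟨2, h2lt⟩ with hP2
  have hPP1 : P < P1 := by
    rw [← hhead]
    exact l.strictMono (by simp [Fin.lt_def])
  have hP1P2 : P1 < P2 := l.strictMono (by simp [Fin.lt_def])
  have hcoP2 : (s : ℕ∞) ≤ Order.coheight P2 := by
    have := Order.rev_index_le_coheight l ⟨2, h2lt⟩
    refine le_trans ?_ this
    simp [Fin.rev, hlen]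
  have hPP1' : P.asIdeal < P1.asIdeal := hPP1
  have hP1P2' : P1.asIdeal < P2.asIdeal := hP1P2
  -- prime avoidance
  set I := P.asIdeal ⊔ Ideal.span {a} with hI
  have hfin : I.minimalPrimes.Finite := Ideal.finite_minimalPrimes_of_isNoetherianRing A I
  set T : Finset (Ideal A) := insert P.asIdeal hfin.toFinset with hT
  have hTprime : ∀ i ∈ T, i.IsPrime := by
    intro i hi
    rw [hT, Finset.mem_insert] at hi
    rcases hi with rfl | hi
    · exact P.2
    · exact ((hfin.mem_toFinset).mp hi).1.1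
  have hnot : ¬ ((P2.asIdeal : Set A) ⊆ ⋃ i ∈ (↑T : Set (Ideal A)), (i : Set A)) := by
    intro hsub
    rw [Ideal.subset_union_prime (f := fun i : Ideal A => i) P.asIdeal P.asIdeal
      (fun i hi _ _ => hTprime i hi)] at hsub
    obtain ⟨i, hi, hle⟩ := hsub
    rw [hT, Finset.mem_insert] at hi
    rcases hi with rfl | hi
    · exact (lt_of_lt_of_le (hPP1'.trans hP1P2') hle).false
    · have hi' := (hfin.mem_toFinset).mp hi
      have := hi'.1.1
      exact krull_chain_false hPP1' (lt_of_lt_of_le hP1P2' hle) hi'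
  obtain ⟨b, hbP2, hbnot⟩ := Set.not_subset.mp hnot
  have hbT : ∀ i ∈ T, b ∉ i := by
    intro i hi hb
    exact hbnot (Set.mem_biUnion (Finset.mem_coe.mpr hi) hb)
  have hbP : b ∉ P.asIdeal := hbT _ (by simp [hT])
  have hJle : P.asIdeal ⊔ Ideal.span {b} ≤ P2.asIdeal :=
    sup_le (hPP1'.trans hP1P2').le ((Ideal.span_singleton_le_iff_mem _).mpr hbP2)
  obtain ⟨p, hpmin, hpP2⟩ := Ideal.exists_minimalPrimes_le hJle
  have hpprime : p.IsPrime := hpmin.1.1
  have hPp : P.asIdeal ≤ p := le_sup_left.trans hpmin.1.2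
  have hbp : b ∈ p := hpmin.1.2 (Ideal.mem_sup_right (Ideal.mem_span_singleton_self b))
  have hPp' : P.asIdeal < p := lt_of_le_of_ne hPp fun e => hbP (e ▸ hbp)
  have hpneP2 : p ≠ P2.asIdeal := by
    rintro rfl
    exact krull_chain_false hPP1' hP1P2' hpmin
  refine ⟨⟨p, hpprime⟩, hPp', ?_, ?_⟩
  · intro hap
    change a ∈ p at hap
    have hIle : I ≤ p := sup_le hPp ((Ideal.span_singleton_le_iff_mem _).mpr hap)
    obtain ⟨Q, hQmin, hQp⟩ := Ideal.exists_minimalPrimes_le hIle
    have hQprime : Q.IsPrime := hQmin.1.1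
    have haQ : a ∈ Q := hQmin.1.2 (Ideal.mem_sup_right (Ideal.mem_span_singleton_self a))
    have hPQ : P.asIdeal < Q :=
      lt_of_le_of_ne (le_sup_left.trans hQmin.1.2) fun e => ha (e ▸ haQ)
    rcases eq_or_lt_of_le hQp with rfl | hlt
    · exact hbT Q (by simp [hT, hQmin]) hbp
    · exact krull_chain_false hPQ hlt hpmin
  · have hlt : (⟨p, hpprime⟩ : PrimeSpectrum A) < P2 := lt_of_le_of_ne hpP2 fun e => hpneP2 (congrArg PrimeSpectrum.asIdeal e)
    have := Order.coheight_add_one_le hlt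
    refine le_trans ?_ this
    push_cast
    gcongr

/-- For a local homomorphism `φ : A → B` of Noetherian local rings with `Spec B → Spec A`
surjective, every prime `P` of `A` has a prime `𝔮` over it with `coheight P ≤ coheight 𝔮`. -/
theorem exists_comap_eq_coheight_le {A B : Type*} [CommRing A] [CommRing B]
    [IsNoetherianRing A] [IsNoetherianRing B] [IsLocalRing A] [IsLocalRing B]
    (φ : A →+* B) [IsLocalHom φ]
    (hsurj : Function.Surjective (PrimeSpectrum.comap φ)) (P : PrimeSpectrum A) :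
    ∃ 𝔮 : PrimeSpectrum B, PrimeSpectrum.comap φ 𝔮 = P ∧
      Order.coheight P ≤ Order.coheight 𝔮 := by
  classical
  have hfinP := Order.coheight_lt_top P
  obtain ⟨n, hn⟩ := ENat.ne_top_iff_exists.mp hfinP.ne
  induction n using Nat.strong_induction_on generalizing P with
  | _ n ih =>
  rcases n with _ | _ | s
  · obtain ⟨𝔮, h𝔮⟩ := hsurj P
    exact ⟨𝔮, h𝔮, by rw [← hn]; simp⟩
  · obtain ⟨𝔮, h𝔮⟩ := hsurj P
    refine ⟨𝔮, h𝔮, ?_⟩
    rw [← hn]
    have hne : 𝔮 ≠ ⊤ := by
      rintro rfl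
      have h1 : PrimeSpectrum.comap φ (IsLocalRing.closedPoint B) = IsLocalRing.closedPoint A :=
        IsLocalRing.comap_closedPoint φ
      have h2 : P = ⊤ := h𝔮.symm.trans h1
      rw [h2, Order.coheight_top] at hn
      simp at hn
    have := Order.coheight_pos_of_lt_top (lt_top_iff_ne_top.mpr hne)
    simpa using Order.one_le_iff_pos.mpr this
  · -- coheight P = s + 2
    set Sg := (P.asIdeal.map φ).minimalPrimes with hSg
    have hfin : Sg.Finite := Ideal.finite_minimalPrimes_of_isNoetherianRing B _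
    let g : Ideal B → A := fun 𝔮 =>
      if h : ∃ x, x ∈ 𝔮.comap φ ∧ x ∉ P.asIdeal then h.choose else 1
    have hg1 : ∀ 𝔮, g 𝔮 ∉ P.asIdeal := by
      intro 𝔮
      by_cases h : ∃ x, x ∈ 𝔮.comap φ ∧ x ∉ P.asIdeal
      · simp only [g, dif_pos h]; exact h.choose_spec.2
      · simp only [g, dif_neg h]; exact fun h1 => P.2.ne_top ((Ideal.eq_top_iff_one _).mpr h1)
    have hg2 : ∀ 𝔮, (∃ x, x ∈ 𝔮.comap φ ∧ x ∉ P.asIdeal) → g 𝔮 ∈ 𝔮.comap φ := by
      intro 𝔮 h
      simp only [g, dif_pos h]; exact h.choose_spec.1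
    set a : A := ∏ 𝔮 ∈ hfin.toFinset, g 𝔮 with ha
    have haP : a ∉ P.asIdeal := by
      rw [ha, P.2.prod_mem_iff]
      push Not
      exact fun 𝔮 _ => hg1 𝔮
    obtain ⟨p₁, hPp₁, hap₁, hco⟩ := exists_prime_gt_not_mem P a haP s (by rw [← hn])
    have hlt : Order.coheight p₁ < Order.coheight P := Order.coheight_strictAnti hPp₁ (Order.coheight_lt_top p₁)
    obtain ⟨m, hm⟩ := ENat.ne_top_iff_exists.mp (hlt.trans hfinP).ne
    have hmlt : m < s + 1 + 1 := by
      rw [← hn, ← hm] at hlt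
      exact_mod_cast hlt
    obtain ⟨𝔮₁, h𝔮₁, hco₁⟩ := ih m hmlt p₁ (Order.coheight_lt_top p₁) hm
    have hle : P.asIdeal.map φ ≤ 𝔮₁.asIdeal := by
      rw [Ideal.map_le_iff_le_comap]
      have : (PrimeSpectrum.comap φ 𝔮₁).asIdeal = p₁.asIdeal := by rw [h𝔮₁]
      exact hPp₁.le.trans this.ge
    obtain ⟨𝔮₀, h𝔮₀min, h𝔮₀le⟩ := Ideal.exists_minimalPrimes_le hle
    have h𝔮₀prime : 𝔮₀.IsPrime := h𝔮₀min.1.1
    have hP𝔮₀ : P.asIdeal ≤ 𝔮₀.comap φ := Ideal.map_le_iff_le_comap.mp h𝔮₀min.1.2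
    have hcomap : 𝔮₀.comap φ = P.asIdeal := by
      by_contra hne
      have hex : ∃ x, x ∈ 𝔮₀.comap φ ∧ x ∉ P.asIdeal := by
        by_contra hno
        push Not at hno
        exact hne (le_antisymm hno hP𝔮₀)
      have h1 : g 𝔮₀ ∈ 𝔮₀.comap φ := hg2 𝔮₀ hex
      have h2 : a ∈ 𝔮₀.comap φ := by
        rw [ha]
        exact Ideal.mem_of_dvd _ (Finset.dvd_prod_of_mem g ((hfin.mem_toFinset).mpr h𝔮₀min)) h1
      have h3 : a ∈ 𝔮₁.asIdeal.comap φ := Ideal.comap_mono h𝔮₀le h2
      have : (PrimeSpectrum.comap φ 𝔮₁).asIdeal = p₁.asIdeal := by rw [h𝔮₁]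
      exact hap₁ (this ▸ h3)
    refine ⟨⟨𝔮₀, h𝔮₀prime⟩, PrimeSpectrum.ext hcomap, ?_⟩
    have hlt' : (⟨𝔮₀, h𝔮₀prime⟩ : PrimeSpectrum B) < 𝔮₁ := by
      refine lt_of_le_of_ne h𝔮₀le fun e => ?_
      have : P = p₁ := by
        rw [← h𝔮₁, ← e]
        exact (PrimeSpectrum.ext hcomap).symm
      exact hPp₁.ne this
    have := Order.coheight_add_one_le hlt'
    rw [← hn]
    refine le_trans ?_ this
    refine le_trans ?_ (add_le_add_left hco₁ 1)
    refine le_trans ?_ (add_le_add_left hco 1)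
    push_cast
    rfl

/-- A local homomorphism of Noetherian local rings that is surjective on spectra does not lower
the Krull dimension. -/
theorem ringKrullDim_le_of_comap_surjective {A B : Type*} [CommRing A] [CommRing B]
    [IsNoetherianRing A] [IsNoetherianRing B] [IsLocalRing A] [IsLocalRing B]
    (φ : A →+* B) [IsLocalHom φ]
    (hsurj : Function.Surjective (PrimeSpectrum.comap φ)) :
    ringKrullDim A ≤ ringKrullDim B := by
  rw [ringKrullDim, ringKrullDim, Order.krullDim_eq_iSup_coheight, Order.krullDim_eq_iSup_coheight]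
  refine iSup_le fun P => ?_
  obtain ⟨𝔮, -, h⟩ := exists_comap_eq_coheight_le φ hsurj P
  exact le_trans (by exact_mod_cast h) (le_iSup (fun 𝔮 : PrimeSpectrum B =>
    ((Order.coheight 𝔮 : ℕ∞) : WithBot ℕ∞)) 𝔮)

end Groth.Agent.Lib.H56OpenDim
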