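import Mathlib
import Groth.Agent.Lib.H56OpenDim
import Groth.Agent.Lib.DimFormulaScheme2

/-!
# Going-down at a prime and transcendence degrees of residue field extensions

`Groth.Agent.Lib.H56OpenDim` (ring part II):

* `ringKrullDim_quotient_eq_coheight`: `dim A/I = coheight I` for a prime `I`.
* `ringKrullDim_quotient_map_eq_height`: `dim A_p / P₀ A_p = ht (p / P₀)`.
* `exists_prime_under_eq_trdeg_le`: `R` Noetherian, `B` of finite type over `R`, `q` a prime of `B`
  such that every prime of `R` below `q ∩ R` is the contraction of a prime below `q`.  Then for every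
  prime `P₀ ≤ q ∩ R` there is a prime `Q₀ ≤ q` over `P₀` with
  `trdeg κ(q)/κ(q ∩ R) ≤ trdeg κ(Q₀)/κ(P₀)`.
-/

set_option autoImplicit false
universe u

namespace Groth.Agent.Lib.H56OpenDim

open Ideal

/-- `dim A/I = coheight I` for a prime `I`. -/
theorem ringKrullDim_quotient_eq_coheight {A : Type*} [CommRing A] (I : PrimeSpectrum A) :
    ringKrullDim (A ⧸ I.asIdeal) = Order.coheight I := by
  rw [ringKrullDim_quotient, Order.coheight_eq_krullDim_Ici]
  have : PrimeSpectrum.zeroLocus (R := A) (I.asIdeal : Set A) = Set.Ici I := by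
    ext x
    simp [PrimeSpectrum.mem_zeroLocus, PrimeSpectrum.asIdeal_le_asIdeal]
  rw [this]

/-- `dim A_p / P₀ A_p = ht (p / P₀)`. -/
theorem ringKrullDim_quotient_map_eq_height {R : Type*} [CommRing R] (p : Ideal R) [p.IsPrime]
    (P₀ : Ideal R) (hP₀ : P₀ ≤ p) (A : Type*) [CommRing A] [Algebra R A]
    [IsLocalization.AtPrime A p] [(p.map (Ideal.Quotient.mk P₀)).IsPrime] :
    ringKrullDim (A ⧸ P₀.map (algebraMap R A)) = (p.map (Ideal.Quotient.mk P₀)).height := by
  have inst : IsLocalization (Algebra.algebraMapSubmonoid (R ⧸ P₀) p.primeCompl)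
      (A ⧸ P₀.map (algebraMap R A)) := inferInstance
  have hsub : Algebra.algebraMapSubmonoid (R ⧸ P₀) p.primeCompl =
      (p.map (Ideal.Quotient.mk P₀)).primeCompl := by
    ext x
    obtain ⟨r, rfl⟩ := Ideal.Quotient.mk_surjective x
    simp only [Algebra.algebraMapSubmonoid, Submonoid.mem_map, Ideal.mem_primeCompl_iff]
    constructor
    · rintro ⟨r', hr', e⟩ hmem
      have e' : Ideal.Quotient.mk P₀ r' = Ideal.Quotient.mk P₀ r := e
      rw [← e', Ideal.mem_quotient_iff_mem hP₀] at hmem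
      exact hr' hmem
    · intro hr
      exact ⟨r, fun h => hr ((Ideal.mem_quotient_iff_mem hP₀).mpr h), rfl⟩
  rw [hsub] at inst
  have inst' : IsLocalization.AtPrime (A ⧸ P₀.map (algebraMap R A))
      (p.map (Ideal.Quotient.mk P₀)) := inst
  exact IsLocalization.AtPrime.ringKrullDim_eq_height (p.map (Ideal.Quotient.mk P₀)) _

open Groth.Agent.Lib.DimIneqCore Groth.Agent.Lib.TrdegTransfer in
/-- The dimension inequality for the quotient by a prime `Q₀ ≤ q`, keeping the height of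
`(q ∩ R)/(Q₀ ∩ R)` on the right hand side (refinement of `DimIneqCore.ineq_of_prime_le`). -/
theorem ineq_of_prime_le' {R B : Type u} [CommRing R] [CommRing B] [Algebra R B]
    [IsNoetherianRing R] [Algebra.FiniteType R B]
    (q : Ideal B) [q.IsPrime] (Q₀ : Ideal B) [Q₀.IsPrime] (hle : Q₀ ≤ q) :
    ((q.map (Ideal.Quotient.mk Q₀)).height : Cardinal.{u}) +
        Algebra.trdeg (R ⧸ q.under R) (B ⧸ q) ≤
      (((q.under R).map (Ideal.Quotient.mk (Q₀.under R))).height : Cardinal.{u}) +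
        Algebra.trdeg (R ⧸ Q₀.under R) (B ⧸ Q₀) := by
  have H := Groth.Agent.Lib.DimFormulaScheme.dimIneq.{u}
  have hPle : Q₀.under R ≤ q.under R := Ideal.comap_mono hle
  have hp' : ((q.under R).map (Ideal.Quotient.mk (Q₀.under R))).IsPrime :=
    isPrime_map_mk (Q₀.under R) (q.under R) hPle
  have hq' : (q.map (Ideal.Quotient.mk Q₀)).IsPrime := isPrime_map_mk Q₀ q hle
  have : (q.map (Ideal.Quotient.mk Q₀)).LiesOver
      ((q.under R).map (Ideal.Quotient.mk (Q₀.under R))) := by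
    constructor
    ext x
    obtain ⟨r, rfl⟩ := Ideal.Quotient.mk_surjective x
    have h1 : Ideal.Quotient.mk (Q₀.under R) r ∈
        (q.under R).map (Ideal.Quotient.mk (Q₀.under R)) ↔ r ∈ q.under R :=
      Ideal.mem_quotient_iff_mem hPle
    have h2 : Ideal.Quotient.mk (Q₀.under R) r ∈
        (q.map (Ideal.Quotient.mk Q₀)).under (R ⧸ Q₀.under R) ↔ algebraMap R B r ∈ q := by
      change Ideal.Quotient.mk Q₀ (algebraMap R B r) ∈ q.map (Ideal.Quotient.mk Q₀) ↔ _
      exact Ideal.mem_quotient_iff_mem hle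
    rw [h1, h2]
    rfl
  have : Algebra.FiniteType R (B ⧸ Q₀) :=
    Algebra.FiniteType.of_surjective (Ideal.Quotient.mkₐ R Q₀) Ideal.Quotient.mk_surjective
  have : Algebra.FiniteType (R ⧸ Q₀.under R) (B ⧸ Q₀) :=
    Algebra.FiniteType.of_restrictScalars_finiteType R (R ⧸ Q₀.under R) (B ⧸ Q₀)
  have h1 := H (R ⧸ Q₀.under R) (B ⧸ Q₀) ((q.under R).map (Ideal.Quotient.mk (Q₀.under R)))
    (q.map (Ideal.Quotient.mk Q₀))
  have h3 : Algebra.trdeg ((R ⧸ Q₀.under R) ⧸ (q.under R).map (Ideal.Quotient.mk (Q₀.under R)))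
      ((B ⧸ Q₀) ⧸ q.map (Ideal.Quotient.mk Q₀)) = Algebra.trdeg (R ⧸ q.under R) (B ⧸ q) := by
    refine trdeg_eq_of_ringEquiv (DoubleQuot.quotQuotEquivQuotOfLE hPle)
      (DoubleQuot.quotQuotEquivQuotOfLE hle) (fun a => ?_)
    obtain ⟨a', rfl⟩ := Ideal.Quotient.mk_surjective a
    obtain ⟨r, rfl⟩ := Ideal.Quotient.mk_surjective a'
    rfl
  rw [h3] at h1
  exact h1

/-- **Going-down at a prime raises transcendence degrees of residue fields.**
`R` Noetherian, `B` of finite type over `R`, `q` a prime of `B` such that every prime of `R` below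
`q ∩ R` is the contraction of a prime below `q`.  Then for every prime `P₀ ≤ q ∩ R` there is a prime
`Q₀ ≤ q` over `P₀` with `ht ((q ∩ R)/P₀) ≤ ht (q/Q₀)` and
`trdeg κ(q)/κ(q ∩ R) ≤ trdeg κ(Q₀)/κ(P₀)`. -/
theorem exists_prime_under_eq_trdeg_le {R B : Type u} [CommRing R] [CommRing B] [Algebra R B]
    [IsNoetherianRing R] [Algebra.FiniteType R B] (q : Ideal B) [q.IsPrime]
    (hgd : ∀ P' : Ideal R, P'.IsPrime → P' ≤ q.under R →
      ∃ Q' : Ideal B, Q'.IsPrime ∧ Q' ≤ q ∧ Q'.under R = P')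
    (P₀ : Ideal R) [hP₀prime : P₀.IsPrime] (hP₀ : P₀ ≤ q.under R) :
    ∃ Q₀ : Ideal B, ∃ _ : Q₀.IsPrime, Q₀ ≤ q ∧ Q₀.under R = P₀ ∧
      Algebra.trdeg (R ⧸ q.under R) (B ⧸ q) ≤ Algebra.trdeg (R ⧸ Q₀.under R) (B ⧸ Q₀) := by
  have hBN : IsNoetherianRing B := Algebra.FiniteType.isNoetherianRing R B
  set p := q.under R with hp
  have hpprime : p.IsPrime := Ideal.IsPrime.under R q
  let A := Localization.AtPrime p
  let B' := Localization.AtPrime q
  let φ : A →+* B' := Localization.localRingHom p q (algebraMap R B) rfl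
  have hφloc : IsLocalHom φ := Localization.isLocalHom_localRingHom p q (algebraMap R B) rfl
  have hcomm : φ.comp (algebraMap R A) = (algebraMap B B').comp (algebraMap R B) := by
    ext r
    exact Localization.localRingHom_to_map p q (algebraMap R B) rfl r
  -- contraction of ideals of `A` is injective
  have hAinj : ∀ J₁ J₂ : Ideal A, J₁.comap (algebraMap R A) = J₂.comap (algebraMap R A) → J₁ = J₂ := by
    intro J₁ J₂ h
    have h1 := IsLocalization.map_under p.primeCompl A J₁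
    have h2 := IsLocalization.map_under p.primeCompl A J₂
    rw [← h1, ← h2]
    exact congrArg (Ideal.map (algebraMap R A)) h
  have hdisjB : ∀ Q' : Ideal B, Q' ≤ q → Disjoint (q.primeCompl : Set B) (Q' : Set B) := by
    intro Q' hQ'
    rw [Set.disjoint_left]
    intro x hx hx'
    exact hx (hQ' hx')
  have hdisjA : ∀ P' : Ideal R, P' ≤ p → Disjoint (p.primeCompl : Set R) (P' : Set R) := by
    intro P' hP'
    rw [Set.disjoint_left]
    intro x hx hx'
    exact hx (hP' hx')
  have hsurj : Function.Surjective (PrimeSpectrum.comap φ) := by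
    intro P
    have hP := (IsLocalization.isPrime_iff_isPrime_disjoint p.primeCompl A P.asIdeal).mp P.2
    have hP'le : P.asIdeal.comap (algebraMap R A) ≤ p := by
      intro x hx
      by_contra hxp
      exact Set.disjoint_left.mp hP.2 hxp hx
    obtain ⟨Q', hQ'prime, hQ'q, hQ'⟩ := hgd _ hP.1 hP'le
    have h𝔮prime : (Q'.map (algebraMap B B')).IsPrime :=
      IsLocalization.isPrime_of_isPrime_disjoint q.primeCompl B' Q' hQ'prime (hdisjB Q' hQ'q)
    refine ⟨⟨Q'.map (algebraMap B B'), h𝔮prime⟩, PrimeSpectrum.ext ?_⟩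
    apply hAinj
    change ((Q'.map (algebraMap B B')).comap φ).comap (algebraMap R A) = _
    rw [Ideal.comap_comap, hcomm, ← Ideal.comap_comap]
    have h1 : (Q'.map (algebraMap B B')).comap (algebraMap B B') = Q' :=
      IsLocalization.under_map_of_isPrime_disjoint q.primeCompl B' hQ'prime (hdisjB Q' hQ'q)
    rw [h1]
    exact hQ'
  have hPprime : (P₀.map (algebraMap R A)).IsPrime :=
    IsLocalization.isPrime_of_isPrime_disjoint p.primeCompl A P₀ hP₀prime (hdisjA P₀ hP₀)
  obtain ⟨𝔮, h𝔮, hco⟩ := exists_comap_eq_coheight_le φ hsurj ⟨P₀.map (algebraMap R A), hPprime⟩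
  have h𝔮' := (IsLocalization.isPrime_iff_isPrime_disjoint q.primeCompl B' 𝔮.asIdeal).mp 𝔮.2
  set Q₀ := 𝔮.asIdeal.comap (algebraMap B B') with hQ₀
  have hQ₀prime : Q₀.IsPrime := h𝔮'.1
  have hQ₀q : Q₀ ≤ q := by
    intro x hx
    by_contra hxq
    exact Set.disjoint_left.mp h𝔮'.2 hxq hx
  have hQ₀map : Q₀.map (algebraMap B B') = 𝔮.asIdeal := IsLocalization.map_under q.primeCompl B' _
  have hQ₀under : Q₀.under R = P₀ := by
    change (𝔮.asIdeal.comap (algebraMap B B')).comap (algebraMap R B) = P₀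
    rw [Ideal.comap_comap, ← hcomm, ← Ideal.comap_comap]
    have : 𝔮.asIdeal.comap φ = P₀.map (algebraMap R A) := congrArg PrimeSpectrum.asIdeal h𝔮
    rw [this]
    exact IsLocalization.under_map_of_isPrime_disjoint p.primeCompl A hP₀prime (hdisjA P₀ hP₀)
  refine ⟨Q₀, hQ₀prime, hQ₀q, hQ₀under, ?_⟩
  subst hQ₀under
  have hp₁prime : (p.map (Ideal.Quotient.mk (Q₀.under R))).IsPrime :=
    Groth.Agent.Lib.DimIneqCore.isPrime_map_mk _ _ hP₀
  have hq₁prime : (q.map (Ideal.Quotient.mk Q₀)).IsPrime :=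
    Groth.Agent.Lib.DimIneqCore.isPrime_map_mk _ _ hQ₀q
  have h1 : ringKrullDim (A ⧸ (Q₀.under R).map (algebraMap R A)) =
      (p.map (Ideal.Quotient.mk (Q₀.under R))).height :=
    ringKrullDim_quotient_map_eq_height p (Q₀.under R) hP₀ A
  have h2 : ringKrullDim (B' ⧸ Q₀.map (algebraMap B B')) =
      (q.map (Ideal.Quotient.mk Q₀)).height :=
    ringKrullDim_quotient_map_eq_height q Q₀ hQ₀q B'
  have h3 := ringKrullDim_quotient_eq_coheight
    (⟨(Q₀.under R).map (algebraMap R A), hPprime⟩ : PrimeSpectrum A)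
  have h4 := ringKrullDim_quotient_eq_coheight 𝔮
  have h5 : ringKrullDim (B' ⧸ Q₀.map (algebraMap B B')) = Order.coheight 𝔮 := by
    rw [← h4, hQ₀map]
  have hht : (p.map (Ideal.Quotient.mk (Q₀.under R))).height ≤
      (q.map (Ideal.Quotient.mk Q₀)).height := by
    have : ((p.map (Ideal.Quotient.mk (Q₀.under R))).height : WithBot ℕ∞) ≤
        ((q.map (Ideal.Quotient.mk Q₀)).height : WithBot ℕ∞) := by
      rw [← h1, ← h2, h3, h5]
      exact_mod_cast hco
    exact_mod_cast this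
  have hineq := ineq_of_prime_le' (R := R) q Q₀ hQ₀q
  obtain ⟨a, ha⟩ := ENat.ne_top_iff_exists.mp
    (Ideal.height_ne_top_of_isPrime (I := p.map (Ideal.Quotient.mk (Q₀.under R))))
  obtain ⟨b, hb⟩ := ENat.ne_top_iff_exists.mp
    (Ideal.height_ne_top_of_isPrime (I := q.map (Ideal.Quotient.mk Q₀)))
  rw [← ha, ← hb] at hht
  have hab : a ≤ b := by exact_mod_cast hht
  rw [← ha, ← hb] at hineq
  have h6 : (a : Cardinal.{u}) + Algebra.trdeg (R ⧸ p) (B ⧸ q) ≤
      (a : Cardinal.{u}) + Algebra.trdeg (R ⧸ Q₀.under R) (B ⧸ Q₀) := by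
    refine le_trans ?_ hineq
    gcongr
    exact_mod_cast hab
  rw [add_comm (a : Cardinal.{u}), add_comm (a : Cardinal.{u})] at h6
  exact (Cardinal.add_le_add_iff_of_lt_aleph0 (Cardinal.natCast_lt_aleph0 (n := a))).mp h6

end Groth.Agent.Lib.H56OpenDim
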