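import Groth.Agent.Lib.H8CM6
import Mathlib.RingTheory.Regular.Flat
import Mathlib.RingTheory.Ideal.AssociatedPrime.Localization
import Mathlib.RingTheory.Ideal.KrullsHeightTheorem

/-!
# Cohen–Macaulay rings, part 8 (helper8): ideal depth versus height in (non-local) Noetherian rings

* `idealDepth_le_height`: `depth(a, R) ≤ ht a` for every proper ideal of a Noetherian ring.
* `height_le_idealDepth`: equality in a Cohen–Macaulay ring.
* `isCMRing_iff_idealDepth_eq_height`.
-/

set_option autoImplicit false
set_option linter.unusedSectionVars false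
universe u

namespace Groth.Agent.Lib.H8CM

open RingTheory.Sequence IsLocalRing Pointwise Module Groth.Agent.Lib.DepthBasic
  Groth.Agent.Lib.DepthRees LocCoh

variable {R : Type u} [CommRing R] [IsNoetherianRing R]

theorem smul_top_self_ne_top {a : Ideal R} (ha : a ≠ ⊤) : a • (⊤ : Submodule R R) ≠ ⊤ := by
  have : a • (⊤ : Submodule R R) = a := by simp
  rwa [this]

/-- A weakly regular sequence in a prime `p` bounds the depth of `R_p` from below. -/
theorem length_le_depth_localization (p : Ideal R) [p.IsPrime] {rs : List R}
    (hreg : IsWeaklyRegular R rs) (hmem : ∀ r ∈ rs, r ∈ p) :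
    (rs.length : ℕ∞) ≤ depth (Localization.AtPrime p) (Localization.AtPrime p) := by
  rw [natCast_le_depth_iff]
  refine ⟨rs.map (algebraMap R (Localization.AtPrime p)), by simp, ?_,
    hreg.of_isLocalization _ p.primeCompl⟩
  intro r hr
  obtain ⟨r0, hr0, rfl⟩ := List.mem_map.mp hr
  exact (IsLocalization.AtPrime.to_map_mem_maximal_iff _ p _).mpr (hmem r0 hr0)

theorem idealDepth_le_height_of_le {a p : Ideal R} [hp : p.IsPrime] (hap : a ≤ p) :
    idealDepth a R ≤ p.height := by
  have ha : a • (⊤ : Submodule R R) ≠ ⊤ := by
    apply smul_top_self_ne_top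
    rintro rfl
    exact hp.ne_top (top_le_iff.mp hap)
  refine ENat.forall_natCast_le_iff_le.mp fun n hn => ?_
  obtain ⟨rs, rfl, hmem, hreg⟩ := (natCast_le_idealDepth_iff a R ha n).mp hn
  have h1 := length_le_depth_localization p hreg (fun r hr => hap (hmem r hr))
  have h2 := depth_le_supportDim (R := Localization.AtPrime p) (Localization.AtPrime p)
  rw [Module.supportDim_self_eq_ringKrullDim,
    IsLocalization.AtPrime.ringKrullDim_eq_height p] at h2
  have : ((rs.length : ℕ∞) : WithBot ℕ∞) ≤ p.height := le_trans (WithBot.coe_le_coe.mpr h1) h2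
  exact_mod_cast this

/-- In a Noetherian ring, `depth(a, R) ≤ ht a`. -/
theorem idealDepth_le_height {a : Ideal R} (ha : a ≠ ⊤) : idealDepth a R ≤ a.height := by
  rw [Ideal.height_eq_inf_minimalPrimes]
  refine le_iInf₂ fun J hJ => ?_
  have := hJ.1.1
  exact idealDepth_le_height_of_le hJ.1.2

/-- Localising an associated prime of `R/(rs)`: the maximal ideal of `R_p` is an associated prime of
`R_p/(rs)R_p`. -/
theorem maximalIdeal_mem_associatedPrimes_localization (p : Ideal R) [p.IsPrime] (rs : List R)
    (hp : p ∈ associatedPrimes R (R ⧸ Ideal.ofList rs • (⊤ : Submodule R R))) :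
    maximalIdeal (Localization.AtPrime p) ∈ associatedPrimes (Localization.AtPrime p)
      (Localization.AtPrime p ⧸ Ideal.ofList (rs.map (algebraMap R (Localization.AtPrime p))) •
        (⊤ : Submodule (Localization.AtPrime p) (Localization.AtPrime p))) := by
  have hI' : (Ideal.ofList rs • (⊤ : Submodule R R)).localized' (Localization.AtPrime p)
      p.primeCompl (Algebra.linearMap R (Localization.AtPrime p)) =
      Ideal.ofList (rs.map (algebraMap R (Localization.AtPrime p))) •
        (⊤ : Submodule (Localization.AtPrime p) (Localization.AtPrime p)) := by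
    rw [Submodule.localized'_smul, Submodule.localized'_top, ← Ideal.map_ofList,
      Submodule.localized'_eq_span]
    rfl
  have key := Module.associatedPrimes.mem_associatedPrimes_of_comap_mem_associatedPrimes_of_isLocalizedModule
    p.primeCompl ((Ideal.ofList rs • (⊤ : Submodule R R)).toLocalizedQuotient'
      (Localization.AtPrime p) p.primeCompl (Algebra.linearMap R (Localization.AtPrime p)))
    (maximalIdeal (Localization.AtPrime p))
    (by
      have := IsLocalization.AtPrime.under_maximalIdeal (Localization.AtPrime p) p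
      rw [Ideal.under] at this
      rwa [this])
  rwa [hI'] at key

/-- In a Cohen–Macaulay ring, `ht a ≤ depth(a, R)`. -/
theorem height_le_idealDepth [hR : IsCohenMacaulayRing R] {a : Ideal R} (ha : a ≠ ⊤) :
    a.height ≤ idealDepth a R := by
  have haM := smul_top_self_ne_top ha
  by_cases htop : idealDepth a R = ⊤
  · rw [htop]; exact le_top
  obtain ⟨n, hn⟩ := ENat.ne_top_iff_exists.mp htop
  obtain ⟨rs, hlen, hmem, hreg⟩ := (natCast_le_idealDepth_iff a R haM n).mp (le_of_eq hn)
  have hmax : ∀ x ∈ a, ¬ IsSMulRegular (R ⧸ Ideal.ofList rs • (⊤ : Submodule R R)) x := by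
    intro x hx hxreg
    have h1 : ((n + 1 : ℕ) : ℕ∞) ≤ idealDepth a R := by
      rw [natCast_le_idealDepth_iff a R haM]
      refine ⟨rs ++ [x], by simp [hlen], ?_, ?_⟩
      · intro r hr
        rcases List.mem_append.mp hr with h | h
        · exact hmem r h
        · rw [List.mem_singleton] at h
          rw [h]; exact hx
      · rw [isWeaklyRegular_append_iff]
        exact ⟨hreg, by rw [isWeaklyRegular_singleton_iff]; exact hxreg⟩
    rw [← hn] at h1
    have : n + 1 ≤ n := by exact_mod_cast h1
    omega
  obtain ⟨p, hp, hap⟩ := exists_associatedPrime_ge_of_forall_not_isSMulRegular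
    (M := R ⧸ Ideal.ofList rs • (⊤ : Submodule R R)) a hmax
  have hpprime : p.IsPrime := hp.isPrime
  have hCMloc := hR.isCohenMacaulayLocalRing_localization p
  have hmem' : ∀ r ∈ rs.map (algebraMap R (Localization.AtPrime p)),
      r ∈ maximalIdeal (Localization.AtPrime p) := by
    intro r hr
    obtain ⟨r0, hr0, rfl⟩ := List.mem_map.mp hr
    exact (IsLocalization.AtPrime.to_map_mem_maximal_iff _ p _).mpr (hap (hmem r0 hr0))
  have hreg' : IsWeaklyRegular (Localization.AtPrime p)
      (rs.map (algebraMap R (Localization.AtPrime p))) := hreg.of_isLocalization _ p.primeCompl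
  have hass := maximalIdeal_mem_associatedPrimes_localization p rs hp
  obtain ⟨h1, h2⟩ := isWeaklyRegular_iff_of_isCM (rs.map (algebraMap R (Localization.AtPrime p)))
    (isCM_self_of_isCMLocalRing (R := Localization.AtPrime p)) hmem'
  have hdim := h1.mp hreg'
  have hCM' := h2 hreg'
  have hz := ringKrullDim_quotient_eq_of_isCM hCM' hass
  have h0 : ringKrullDim (Localization.AtPrime p ⧸ maximalIdeal (Localization.AtPrime p)) = 0 :=
    ringKrullDim_eq_zero_of_isField
      ((Ideal.Quotient.maximal_ideal_iff_isField_quotient _).mp inferInstance)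
  rw [← hz, h0, zero_add, supportDim_self_eq_ringKrullDim,
    IsLocalization.AtPrime.ringKrullDim_eq_height p, List.length_map, hlen] at hdim
  have hpn : p.height = n := by exact_mod_cast hdim.symm
  calc a.height ≤ p.height := Ideal.height_mono hap
    _ = n := hpn
    _ = idealDepth a R := hn

/-- In a Cohen–Macaulay ring, `depth(a, R) = ht a` for every proper ideal. -/
theorem idealDepth_eq_height [IsCohenMacaulayRing R] {a : Ideal R} (ha : a ≠ ⊤) :
    idealDepth a R = a.height :=
  le_antisymm (idealDepth_le_height ha) (height_le_idealDepth ha)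

/-- A Noetherian ring is Cohen–Macaulay iff `depth(a, R) = ht a` for all proper ideals. -/
theorem isCMRing_iff_idealDepth_eq_height :
    IsCohenMacaulayRing R ↔ ∀ a : Ideal R, a ≠ ⊤ → idealDepth a R = a.height := by
  constructor
  · intro h a ha
    exact idealDepth_eq_height ha
  · intro h
    refine ⟨fun p hp ↦ ?_⟩
    have hp' := h p hp.ne_top
    have hfin : p.height ≠ ⊤ := Ideal.height_ne_top hp.ne_top
    obtain ⟨n, hn⟩ := ENat.ne_top_iff_exists.mp hfin
    rw [← hn] at hp'
    obtain ⟨rs, hlen, hmem, hreg⟩ :=
      (natCast_le_idealDepth_iff p R (smul_top_self_ne_top hp.ne_top) n).mp (le_of_eq hp'.symm)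
    have h1 := length_le_depth_localization p hreg hmem
    have h2 := depth_le_supportDim (R := Localization.AtPrime p) (Localization.AtPrime p)
    apply isCMLocalRing_of_isCM_self
    refine le_antisymm ?_ h2
    rw [Module.supportDim_self_eq_ringKrullDim,
      IsLocalization.AtPrime.ringKrullDim_eq_height p, ← hn, ← hlen]
    exact WithBot.coe_le_coe.mpr h1

end Groth.Agent.Lib.H8CM
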