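import Groth.Agent.Lib.H29LocCohReg
import Groth.Agent.Lib.LocCohH0

/-!
# Faltings' finiteness criterion, elementary form (Brodmann–Sharp 9.1.2) (helper53)

For a finite module `M` over a Noetherian ring: `H^i_I(M)` is finite for all `i ≤ n` iff some power
of `I` kills `H^i_I(M)` for all `i ≤ n`.
-/

set_option maxHeartbeats 400000
universe u
open CategoryTheory CategoryTheory.Limits Opposite

namespace Groth.Agent.Lib.LocCohFaltings
open Groth.Agent.Lib.LocCohConcrete Groth.Agent.Lib.LocCohLES Groth.Agent.Lib.LocCohTorsion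
open Groth.Agent.Lib.LocCohH0 Groth.Agent.Lib.H29LocCohReg Groth.Agent.Lib.H47Reflexive

variable {R : Type u} [CommRing R] (I : Ideal R)

/-- a finite `I`-power torsion module is killed by a power of `I`. -/
theorem exists_pow_annihilates_of_finite (N : Type u) [AddCommGroup N] [Module R N]
    [Module.Finite R N] (hN : LocCoh.IsPowerTorsion I N) :
    ∃ k : ℕ, ∀ a ∈ I ^ k, ∀ x : N, a • x = 0 := by
  classical
  obtain ⟨G, hG⟩ := (Module.Finite.fg_top : (⊤ : Submodule R N).FG)
  choose nf hnf using hN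
  refine ⟨G.sup nf, fun a ha x => ?_⟩
  have hx : x ∈ Submodule.span R (G : Set N) := by rw [hG]; trivial
  induction hx using Submodule.span_induction with
  | mem g hg => exact hnf g a (Ideal.pow_le_pow_right (Finset.le_sup (f := nf) hg) ha)
  | zero => rw [smul_zero]
  | add x y _ _ hx hy => rw [smul_add, hx, hy, add_zero]
  | smul c x _ hx => rw [smul_comm, hx, smul_zero]

/-- If `IM = M` for a finite module `M` then all `H^i_I(M)` vanish. -/
theorem subsingleton_H_of_smul_top_eq_top (M : Type u) [AddCommGroup M] [Module R M]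
    [Module.Finite R M] (h : I • (⊤ : Submodule R M) = ⊤) (i : ℕ) :
    Subsingleton (LocCoh.H I i M) := by
  obtain ⟨r, hr1, hr⟩ := Submodule.exists_sub_one_mem_and_smul_eq_zero_of_fg_of_le_smul I
    (⊤ : Submodule R M) Module.Finite.fg_top (by rw [h])
  refine subsingleton_of_forall_eq 0 fun y => ?_
  have hry : r • y = 0 :=
    smul_eq_zero_of_forall_smul_eq_zero I r (fun x => hr x trivial) i y
  obtain ⟨n, hn⟩ := isPowerTorsion_H I M i y
  have hy : ∀ j : ℕ, (1 - r) ^ j • y = y := by
    intro j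
    induction j with
    | zero => simp
    | succ j ih => rw [pow_succ, mul_smul, sub_smul, one_smul, hry, sub_zero, ih]
  rw [← hy n]
  refine hn _ (Ideal.pow_mem_pow ?_ n)
  have := I.neg_mem hr1
  simpa using this

/-- in a module without `I`-torsion, nothing is killed by a power of `I`. -/
theorem eq_zero_of_tf (M : Type u) [AddCommGroup M] [Module R M] (hTF : TF I M) :
    ∀ (t : ℕ) (m : M), (∀ a ∈ I ^ t, a • m = 0) → m = 0 := by
  intro t
  induction t with
  | zero =>
    intro m hm
    have h1 : (1 : R) ∈ I ^ 0 := by rw [pow_zero, Ideal.one_eq_top]; trivial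
    have := hm 1 h1
    rwa [one_smul] at this
  | succ t ih =>
    intro m hm
    apply hTF
    intro a ha
    apply ih
    intro c hc
    have hca : c * a ∈ I ^ (t + 1) := by rw [pow_succ]; exact Ideal.mul_mem_mul hc ha
    rw [← mul_smul]
    exact hm (c * a) hca

variable [IsNoetherianRing R]

theorem finite_H_zero (M : Type u) [AddCommGroup M] [Module R M] [Module.Finite R M] :
    Module.Finite R (LocCoh.H I 0 M) := by
  have : IsNoetherian R M := isNoetherian_of_isNoetherianRing_of_finite R M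
  exact Module.Finite.equiv (gammaEquiv I M).symm

/-- the torsion-free step. -/
theorem finite_H_succ_of_tf (n : ℕ)
    (ih : ∀ (M : Type u) [AddCommGroup M] [Module R M] [Module.Finite R M] (k : ℕ),
      (∀ i : ℕ, i ≤ n → ∀ a ∈ I ^ k, ∀ x : LocCoh.H I i M, a • x = 0) →
      ∀ i : ℕ, i ≤ n → Module.Finite R (LocCoh.H I i M))
    (M : Type u) [AddCommGroup M] [Module R M] [Module.Finite R M] (hTF : TF I M) (k : ℕ)
    (hk : ∀ i : ℕ, i ≤ n + 1 → ∀ a ∈ I ^ k, ∀ x : LocCoh.H I i M, a • x = 0)
    (j : ℕ) (hj : j ≤ n) : Module.Finite R (LocCoh.H I (j + 1) M) := by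
  by_cases hIM : I • (⊤ : Submodule R M) = ⊤
  · have := subsingleton_H_of_smul_top_eq_top I M hIM (j + 1)
    exact Module.Finite.of_surjective (0 : R →ₗ[R] LocCoh.H I (j + 1) M)
      (fun y => ⟨0, Subsingleton.elim _ _⟩)
  · obtain ⟨r, hrI, hr⟩ := exists_regular_of_tf I M hIM hTF
    have hu : IsSMulRegular M (r ^ k) := hr.pow k
    have huI : r ^ k ∈ I ^ k := Ideal.pow_mem_pow hrI k
    -- `I^(k+k)` kills `H^i(M/uM)` for `i ≤ n`
    have hk'' : ∀ i : ℕ, i ≤ n → ∀ a ∈ I ^ (k + k),
        ∀ x : LocCoh.H I i (M ⧸ LinearMap.range (mulMap (M := M) (r ^ k))), a • x = 0 := by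
      intro i hi a ha x
      rw [pow_add] at ha
      refine Submodule.mul_induction_on ha ?_ ?_
      · intro a1 ha1 a2 ha2
        have h0 : Hδ I (mulMap (M := M) (r ^ k)) (quotMap (r ^ k)) (mulMap_injective hu)
            (mul_exact (r ^ k)) (quotMap_surjective (r ^ k)) i (a2 • x) = 0 := by
          rw [map_smul]
          exact hk (i + 1) (by omega) a2 ha2 _
        obtain ⟨w, hw⟩ := (exact₃ I (mulMap (M := M) (r ^ k)) (quotMap (r ^ k))
          (mulMap_injective hu) (mul_exact (r ^ k)) (quotMap_surjective (r ^ k)) i (a2 • x)).1 h0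
        rw [mul_smul, ← hw, ← map_smul, hk i (by omega) a1 ha1 w, map_zero]
      · intro a1 a2 h1 h2
        rw [add_smul, h1, h2, add_zero]
    have hfin := ih (M ⧸ LinearMap.range (mulMap (M := M) (r ^ k))) (k + k) hk'' j hj
    have hsurj : Function.Surjective (Hδ I (mulMap (M := M) (r ^ k)) (quotMap (r ^ k))
        (mulMap_injective hu) (mul_exact (r ^ k)) (quotMap_surjective (r ^ k)) j) := by
      intro y
      have h0 : Hmap I (mulMap (M := M) (r ^ k)) (j + 1) y = 0 := by
        rw [Hmap_smul, Hmap_id]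
        exact hk (j + 1) (by omega) _ huI y
      exact (exact₁ I (mulMap (M := M) (r ^ k)) (quotMap (r ^ k)) (mulMap_injective hu)
        (mul_exact (r ^ k)) (quotMap_surjective (r ^ k)) j y).1 h0
    exact Module.Finite.of_surjective _ hsurj

theorem finite_H_of_pow_annihilates : ∀ (n : ℕ) (M : Type u) [AddCommGroup M] [Module R M]
    [Module.Finite R M] (k : ℕ),
    (∀ i : ℕ, i ≤ n → ∀ a ∈ I ^ k, ∀ x : LocCoh.H I i M, a • x = 0) →
    ∀ i : ℕ, i ≤ n → Module.Finite R (LocCoh.H I i M) := by
  intro n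
  induction n with
  | zero =>
    intro M _ _ _ k _ i hi
    obtain rfl : i = 0 := by omega
    exact finite_H_zero I M
  | succ n ih =>
    intro M _ _ _ k hk i hi
    rcases i with _ | j
    · exact finite_H_zero I M
    · have hTF : TF I (M ⧸ DRing.torsionSub I M) :=
        tf_quotient_torsionSub I M (IsNoetherian.noetherian _)
      have hb : ∀ i : ℕ, Function.Bijective (Hmap I (DRing.torsionSub I M).mkQ (i + 1)) :=
        fun i => Hmap_mkQ_torsionSub_bijective I M (i + 1) (Nat.succ_pos i)
      have hk' : ∀ i : ℕ, i ≤ n + 1 → ∀ a ∈ I ^ k,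
          ∀ x : LocCoh.H I i (M ⧸ DRing.torsionSub I M), a • x = 0 := by
        intro i hi a ha x
        rcases i with _ | i
        · have hx : x = 0 := by
            apply toGamma_injective I _
            apply Subtype.ext
            rw [map_zero]
            obtain ⟨t, ht⟩ := (toGamma I _ x).2
            exact eq_zero_of_tf I _ hTF t _ ht
          rw [hx, smul_zero]
        · obtain ⟨y, rfl⟩ := (hb i).2 x
          rw [← map_smul, hk (i + 1) hi a ha y, map_zero]
      have hfin := finite_H_succ_of_tf I n ih (M ⧸ DRing.torsionSub I M) hTF k hk' j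
        (by omega)
      exact Module.Finite.equiv (LinearEquiv.ofBijective _ (hb j)).symm

omit [IsNoetherianRing R] in
/-- finite for `i ≤ n` implies killed by a common power of `I`. -/
theorem exists_pow_annihilates_of_finite_H (M : Type u) [AddCommGroup M] [Module R M] (n : ℕ)
    (h : ∀ i : ℕ, i ≤ n → Module.Finite R (LocCoh.H I i M)) :
    ∃ k : ℕ, 0 < k ∧ ∀ i : ℕ, i ≤ n → ∀ a ∈ I ^ k, ∀ x : LocCoh.H I i M, a • x = 0 := by
  have h1 : ∀ i : ℕ, ∃ k : ℕ, i ≤ n → ∀ a ∈ I ^ k, ∀ x : LocCoh.H I i M, a • x = 0 := by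
    intro i
    by_cases hi : i ≤ n
    · have := h i hi
      obtain ⟨k, hk⟩ := exists_pow_annihilates_of_finite I (LocCoh.H I i M) (isPowerTorsion_H I M i)
      exact ⟨k, fun _ => hk⟩
    · exact ⟨0, fun h' => absurd h' hi⟩
  choose kf hkf using h1
  refine ⟨(Finset.range (n + 1)).sup kf + 1, Nat.succ_pos _, fun i hi a ha x => ?_⟩
  refine hkf i hi a (Ideal.pow_le_pow_right ?_ ha) x
  have : kf i ≤ (Finset.range (n + 1)).sup kf :=
    Finset.le_sup (f := kf) (Finset.mem_range.2 (by omega))
  omega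

/-- Faltings' criterion (elementary form). -/
theorem finite_H_iff (M : Type u) [AddCommGroup M] [Module R M] [Module.Finite R M] (n : ℕ) :
    (∀ i : ℕ, i ≤ n → Module.Finite R (LocCoh.H I i M)) ↔
      ∃ J : Ideal R, I ≤ J.radical ∧
        ∀ i : ℕ, i ≤ n → ∀ a ∈ J, ∀ x : LocCoh.H I i M, a • x = 0 := by
  constructor
  · intro h
    obtain ⟨k, hk0, hk⟩ := exists_pow_annihilates_of_finite_H I M n h
    refine ⟨I ^ k, ?_, hk⟩
    rw [Ideal.radical_pow I (Nat.pos_iff_ne_zero.1 hk0)]
    exact Ideal.le_radical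
  · rintro ⟨J, hJ1, hJ2⟩
    obtain ⟨k, hk⟩ := Ideal.exists_pow_le_of_le_radical_of_fg hJ1 (IsNoetherian.noetherian I)
    exact finite_H_of_pow_annihilates I n M k (fun i hi a ha x => hJ2 i hi a (hk ha) x)

end Groth.Agent.Lib.LocCohFaltings
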