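import Groth.Agent.Lib.IdealTransform3

/-!
Ideal transforms: universal property of the colimit `D_I(M)`; principal ideals `D_{Ra}(M) ≅ M_a`.
-/

universe u
open CategoryTheory CategoryTheory.Limits Opposite

namespace Groth.Agent.Lib.IdealTransform
open LocCoh
variable {R : Type u} [CommRing R] (I : Ideal R) (M : Type u) [AddCommGroup M] [Module R M]

section desc
variable (N : Type u) [AddCommGroup N] [Module R N]
  (φ : ∀ n, (↥(I ^ n) →ₗ[R] M) →ₗ[R] N)
  (hφ : ∀ (n k : ℕ) (h : n ≤ k) (f : ↥(I ^ n) →ₗ[R] M),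
    φ k (f ∘ₗ Submodule.inclusion (Ideal.pow_le_pow_right h)) = φ n f)

/-- The cocone defined by a compatible family of maps out of `Hom(I^n, M)`. -/
noncomputable def descCocone :
    Cocone (transformDiagram I ⋙ (evaluation _ _).obj (ModuleCat.of R M)) where
  pt := ModuleCat.of R N
  ι :=
    { app := fun j => ModuleCat.ofHom (φ j.unop.unop ∘ₗ
        (ModuleCat.homLinearEquiv (S := R) (M := ModuleCat.of R ↥(I ^ j.unop.unop))
          (N := ModuleCat.of R M)).toLinearMap)
      naturality := by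
        intro j j' a
        ext g
        exact hφ j.unop.unop j'.unop.unop a.unop.unop.le g.hom }

/-- The map out of `D_I(M)` defined by a compatible family of maps out of `Hom(I^n, M)`. -/
noncomputable def desc : DT I M →ₗ[R] N :=
  ((colimitObjIsoColimitCompEvaluation (transformDiagram I) (ModuleCat.of R M)).hom ≫
    colimit.desc _ (descCocone I M N φ hφ)).hom

theorem desc_ι (n : ℕ) (f : ↥(I ^ n) →ₗ[R] M) : desc I M N φ hφ (ι I M n f) = φ n f := by
  have h1 := colimitObjIsoColimitCompEvaluation_ι_app_hom (transformDiagram I) (op (op n))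
    (ModuleCat.of R M)
  have h2 := colimit.ι_desc (descCocone I M N φ hφ) (op (op n))
  have h3 : (colimit.ι (transformDiagram I) (op (op n))).app (ModuleCat.of R M) ≫
      ((colimitObjIsoColimitCompEvaluation (transformDiagram I) (ModuleCat.of R M)).hom ≫
        colimit.desc _ (descCocone I M N φ hφ)) = (descCocone I M N φ hφ).ι.app (op (op n)) := by
    rw [← Category.assoc, h1, h2]
  have h4 := LinearMap.congr_fun (congrArg ModuleCat.Hom.hom h3)
    (ModuleCat.ofHom f : ModuleCat.of R ↥(I ^ n) ⟶ ModuleCat.of R M)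
  exact h4

end desc

section principal
variable (a : R)

theorem pow_mem_span_pow (t : ℕ) : a ^ t ∈ (Ideal.span {a}) ^ t :=
  Ideal.pow_mem_pow (Ideal.mem_span_singleton_self a) t

theorem exists_eq_mul_pow {t : ℕ} {x : R} (hx : x ∈ (Ideal.span {a}) ^ t) : ∃ r, x = r * a ^ t := by
  rw [Ideal.span_singleton_pow, Ideal.mem_span_singleton'] at hx
  obtain ⟨r, rfl⟩ := hx
  exact ⟨r, rfl⟩

/-- `f ↦ f(a^t)/a^t`. -/
noncomputable def evalDiv (t : ℕ) :
    (↥((Ideal.span {a}) ^ t) →ₗ[R] M) →ₗ[R] LocalizedModule (Submonoid.powers a) M :=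
  LocalizedModule.divBy ⟨a ^ t, pow_mem (Submonoid.mem_powers a) t⟩ ∘ₗ
    LocalizedModule.mkLinearMap (Submonoid.powers a) M ∘ₗ
    LinearMap.applyₗ (⟨a ^ t, pow_mem_span_pow a t⟩ : ↥((Ideal.span {a}) ^ t))

theorem evalDiv_apply (t : ℕ) (f : ↥((Ideal.span {a}) ^ t) →ₗ[R] M) :
    evalDiv M a t f = LocalizedModule.mk (f ⟨a ^ t, pow_mem_span_pow a t⟩)
      ⟨a ^ t, pow_mem (Submonoid.mem_powers a) t⟩ := by
  simp only [evalDiv, LinearMap.comp_apply, LinearMap.applyₗ_apply_apply,
    LocalizedModule.mkLinearMap_apply, LocalizedModule.divBy_apply, LocalizedModule.liftOn_mk,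
    one_mul]

theorem evalDiv_compat (n k : ℕ) (h : n ≤ k) (f : ↥((Ideal.span {a}) ^ n) →ₗ[R] M) :
    evalDiv M a k (f ∘ₗ Submodule.inclusion (Ideal.pow_le_pow_right h)) = evalDiv M a n f := by
  rw [evalDiv_apply, evalDiv_apply]
  obtain ⟨j, rfl⟩ := Nat.exists_eq_add_of_le h
  have h1 : (f ∘ₗ Submodule.inclusion (Ideal.pow_le_pow_right h)) ⟨a ^ (n + j), pow_mem_span_pow a (n + j)⟩
      = (⟨a ^ j, pow_mem (Submonoid.mem_powers a) j⟩ : Submonoid.powers a) •
        f ⟨a ^ n, pow_mem_span_pow a n⟩ := by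
    rw [Submonoid.smul_def, ← map_smul]
    simp only [LinearMap.comp_apply]
    congr 1
    ext
    simp [pow_add, mul_comm]
  have h2 : (⟨a ^ (n + j), pow_mem (Submonoid.mem_powers a) (n + j)⟩ : Submonoid.powers a) =
      ⟨a ^ j, pow_mem (Submonoid.mem_powers a) j⟩ * ⟨a ^ n, pow_mem (Submonoid.mem_powers a) n⟩ := by
    ext
    simp [pow_add, mul_comm]
  rw [h1, h2, LocalizedModule.mk_cancel_common_left]

/-- `ω : D_{Ra}(M) → M_a`. -/
noncomputable def omega : DT (Ideal.span {a}) M →ₗ[R] LocalizedModule (Submonoid.powers a) M :=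
  desc (Ideal.span {a}) M _ (evalDiv M a) (evalDiv_compat M a)

theorem omega_ι (t : ℕ) (f : ↥((Ideal.span {a}) ^ t) →ₗ[R] M) :
    omega M a (ι (Ideal.span {a}) M t f) = LocalizedModule.mk (f ⟨a ^ t, pow_mem_span_pow a t⟩)
      ⟨a ^ t, pow_mem (Submonoid.mem_powers a) t⟩ := by
  rw [omega, desc_ι, evalDiv_apply]

theorem omega_injective : Function.Injective (omega M a) := by
  rw [injective_iff_map_eq_zero]
  intro x hx
  obtain ⟨t, f, rfl⟩ := exists_rep _ M x
  rw [omega_ι, ← LocalizedModule.zero_mk 1, LocalizedModule.mk_eq] at hx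
  obtain ⟨⟨u, j, rfl⟩, hu⟩ := hx
  simp only [smul_zero, one_smul, Submonoid.smul_def] at hu
  rw [ι_eq_zero_iff]
  refine ⟨t + j, Nat.le_add_right t j, ?_⟩
  ext ⟨x, hx⟩
  obtain ⟨r, rfl⟩ := exists_eq_mul_pow a hx
  simp only [LinearMap.comp_apply, LinearMap.zero_apply]
  have : (Submodule.inclusion (Ideal.pow_le_pow_right (Nat.le_add_right t j))
      (⟨r * a ^ (t + j), hx⟩ : ↥((Ideal.span {a}) ^ (t + j)))) =
      (r * a ^ j) • (⟨a ^ t, pow_mem_span_pow a t⟩ : ↥((Ideal.span {a}) ^ t)) := by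
    ext
    simp only [Submodule.coe_inclusion, SetLike.val_smul, smul_eq_mul, pow_add]
    ring
  rw [this, map_smul, mul_smul, hu, smul_zero]

theorem omega_surjective [IsNoetherianRing R] : Function.Surjective (omega M a) := by
  intro z
  induction z using LocalizedModule.induction_on with
  | h m s =>
    obtain ⟨s, t, rfl⟩ := s
    -- stabilization of annihilators of powers of `a`
    let A : ℕ →o Submodule R R :=
      ⟨fun j => LinearMap.ker (LinearMap.mulRight R (a ^ j)), by
        apply monotone_nat_of_le_succ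
        intro j r hr
        rw [LinearMap.mem_ker, LinearMap.mulRight_apply] at hr ⊢
        rw [pow_succ, ← mul_assoc, hr, zero_mul]⟩
    obtain ⟨t₀, ht₀⟩ := monotone_stabilizes_iff_noetherian.2 (inferInstance : IsNoetherian R R) A
    -- the surjection R → I^(t+t₀)
    let π : R →ₗ[R] ↥((Ideal.span {a}) ^ (t + t₀)) :=
      LinearMap.toSpanSingleton R _ ⟨a ^ (t + t₀), pow_mem_span_pow a (t + t₀)⟩
    have hπ : Function.Surjective π := by
      rintro ⟨x, hx⟩
      obtain ⟨r, rfl⟩ := exists_eq_mul_pow a hx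
      exact ⟨r, Subtype.ext (by simp [π])⟩
    let ψ : R →ₗ[R] M := LinearMap.toSpanSingleton R M (a ^ t₀ • m)
    have hle : LinearMap.ker π ≤ LinearMap.ker ψ := by
      intro r hr
      rw [LinearMap.mem_ker] at hr ⊢
      have h1 : r * a ^ (t + t₀) = 0 := by
        have := congrArg Subtype.val hr
        simpa [π] using this
      have h2 : r ∈ A (t + t₀) := by
        change r ∈ LinearMap.ker (LinearMap.mulRight R (a ^ (t + t₀)))
        rw [LinearMap.mem_ker, LinearMap.mulRight_apply, h1]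
      rw [← ht₀ (t + t₀) (Nat.le_add_left t₀ t)] at h2
      change r ∈ LinearMap.ker (LinearMap.mulRight R (a ^ t₀)) at h2
      rw [LinearMap.mem_ker, LinearMap.mulRight_apply] at h2
      simp only [ψ, LinearMap.toSpanSingleton_apply]
      rw [← mul_smul, h2, zero_smul]
    obtain ⟨f, hf⟩ := exists_factor_of_surjective π hπ ψ hle
    refine ⟨ι _ M (t + t₀) f, ?_⟩
    rw [omega_ι]
    have h1 : f ⟨a ^ (t + t₀), pow_mem_span_pow a (t + t₀)⟩ =
        (⟨a ^ t₀, pow_mem (Submonoid.mem_powers a) t₀⟩ : Submonoid.powers a) • m := by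
      have := hf 1
      simp only [π, ψ, LinearMap.toSpanSingleton_apply, one_smul] at this
      rw [this]
      rfl
    have h2 : (⟨a ^ (t + t₀), pow_mem (Submonoid.mem_powers a) (t + t₀)⟩ : Submonoid.powers a) =
        ⟨a ^ t₀, pow_mem (Submonoid.mem_powers a) t₀⟩ * ⟨a ^ t, ⟨t, rfl⟩⟩ := by
      ext
      simp [pow_add, mul_comm]
    rw [h1, h2, LocalizedModule.mk_cancel_common_left]

/-- Brodmann–Sharp 2.2.19 (for one module): `D_{Ra}(M) ≃ M_a`. -/
noncomputable def omegaEquiv [IsNoetherianRing R] :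
    DT (Ideal.span {a}) M ≃ₗ[R] LocalizedModule (Submonoid.powers a) M :=
  LinearEquiv.ofBijective (omega M a) ⟨omega_injective M a, omega_surjective M a⟩

theorem omega_comp_toDT :
    omega M a ∘ₗ toDT (Ideal.span {a}) M = LocalizedModule.mkLinearMap (Submonoid.powers a) M := by
  ext m
  rw [LinearMap.comp_apply, toDT_eq_zero, omega_ι, LocalizedModule.mkLinearMap_apply]
  simp only [smulMap_apply, pow_zero, one_smul]
  rfl

end principal

end Groth.Agent.Lib.IdealTransform
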