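import Groth.Agent.Lib.LocCohConcrete
import Groth.Agent.Lib.IdealTransform4

/-!
# `H^1_I(M) ≅ coker (M → D_I(M))` (Brodmann–Sharp 2.2.6(i)(b) / 2.2.4) (helper53)
-/

set_option maxHeartbeats 400000
universe u
open CategoryTheory CategoryTheory.Limits Opposite

namespace Groth.Agent.Lib.LocCohH1
open Groth.Agent.Lib.ExtBridge Groth.Agent.Lib.LocCohConcrete Groth.Agent.Lib.IdealTransform
open Abelian

variable {R : Type u} [CommRing R] (I : Ideal R) (M : Type u) [AddCommGroup M] [Module R M]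

/-- `0 → I^n → R → R/I^n → 0`. -/
abbrev sesN (n : ℕ) : ShortComplex (ModuleCat.{u} R) :=
  ShortComplex.mk (ModuleCat.ofHom (I ^ n).subtype) (ModuleCat.ofHom (I ^ n).mkQ) (by
    ext x
    exact (Submodule.Quotient.mk_eq_zero _).2 x.2)

theorem sesN_shortExact (n : ℕ) : (sesN I n).ShortExact := by
  apply ModuleCat.shortComplex_shortExact
  · intro x
    constructor
    · intro hx
      exact ⟨⟨x, (Submodule.Quotient.mk_eq_zero _).1 hx⟩, rfl⟩
    · rintro ⟨y, rfl⟩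
      exact (Submodule.Quotient.mk_eq_zero _).2 y.2
  · exact Subtype.val_injective
  · exact Submodule.Quotient.mk_surjective _

/-- the morphism of short exact sequences for `n ≤ k`. -/
def sesMap {n k : ℕ} (h : n ≤ k) : sesN I k ⟶ sesN I n where
  τ₁ := ModuleCat.ofHom (Submodule.inclusion (Ideal.pow_le_pow_right h))
  τ₂ := 𝟙 _
  τ₃ := proj I h
  comm₁₂ := by ext; rfl
  comm₂₃ := by ext; rfl

/-- connecting map `Hom(I^n, M) → Ext^1(R/I^n, M)`. -/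
noncomputable def δ (n : ℕ) :
    (↥(I ^ n) →ₗ[R] M) →ₗ[R] Ext.{u} (Q I n) (ModuleCat.of R M) 1 where
  toFun f := (sesN_shortExact I n).extClass.comp
    (Ext.mk₀ (ModuleCat.ofHom f : (sesN I n).X₁ ⟶ ModuleCat.of R M)) (add_zero 1)
  map_add' f g := by
    rw [ModuleCat.ofHom_add, Ext.mk₀_add, Ext.comp_add]
  map_smul' r f := by
    have : (ModuleCat.ofHom (r • f) : ModuleCat.of R ↥(I ^ n) ⟶ ModuleCat.of R M) =
        r • ModuleCat.ofHom f := rfl
    rw [this, Ext.mk₀_smul, Ext.comp_smul]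
    rfl

theorem δ_apply (n : ℕ) (f : ↥(I ^ n) →ₗ[R] M) :
    δ I M n f = (sesN_shortExact I n).extClass.comp
      (Ext.mk₀ (ModuleCat.ofHom f : (sesN I n).X₁ ⟶ ModuleCat.of R M)) (add_zero 1) := rfl

theorem δ_compat {n k : ℕ} (h : n ≤ k) (f : ↥(I ^ n) →ₗ[R] M) :
    δ I M k (f ∘ₗ Submodule.inclusion (Ideal.pow_le_pow_right h)) =
      (Ext.mk₀ (proj I h)).comp (δ I M n f) (zero_add 1) := by
  rw [δ_apply, δ_apply]
  have h1 : (ModuleCat.ofHom (f ∘ₗ Submodule.inclusion (Ideal.pow_le_pow_right h)) :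
      (sesN I k).X₁ ⟶ ModuleCat.of R M) = (sesMap I h).τ₁ ≫ ModuleCat.ofHom f := rfl
  rw [h1, ← Ext.mk₀_comp_mk₀, ← Ext.comp_assoc _ _ _ (add_zero 1) (zero_add 0) (by norm_num),
    ShortComplex.ShortExact.extClass_naturality (sesN_shortExact I k) (sesN_shortExact I n)
      (sesMap I h), Ext.comp_assoc _ _ _ (zero_add 1) (add_zero 1) (by norm_num)]
  rfl

/-- `θ_n : Hom(I^n, M) → H^1_I(M)`. -/
noncomputable def θ (n : ℕ) : (↥(I ^ n) →ₗ[R] M) →ₗ[R] LocCoh.H I 1 M :=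
  HιE I M 1 n ∘ₗ δ I M n

theorem θ_compat (n k : ℕ) (h : n ≤ k) (f : ↥(I ^ n) →ₗ[R] M) :
    θ I M k (f ∘ₗ Submodule.inclusion (Ideal.pow_le_pow_right h)) = θ I M n f := by
  simp only [θ, LinearMap.comp_apply]
  rw [δ_compat I M h, HιE_transition]

/-- `Θ : D_I(M) → H^1_I(M)`. -/
noncomputable def Θ : LocCoh.DT I M →ₗ[R] LocCoh.H I 1 M :=
  desc I M (LocCoh.H I 1 M) (θ I M) (θ_compat I M)

theorem Θ_ι (n : ℕ) (f : ↥(I ^ n) →ₗ[R] M) : Θ I M (ι I M n f) = HιE I M 1 n (δ I M n f) := by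
  rw [Θ, desc_ι]
  rfl

theorem Θ_surjective : Function.Surjective (Θ I M) := by
  intro y
  obtain ⟨n, x, rfl⟩ := exists_rep I M 1 y
  have h0 : (Ext.mk₀ (sesN I n).g).comp x (zero_add 1) = 0 := by
    have : Projective (sesN I n).X₂ :=
      (ModuleCat.of R R).projective_of_categoryTheory_projective
    exact Ext.eq_zero_of_projective _
  obtain ⟨x₁, hx₁⟩ := Ext.contravariant_sequence_exact₃ (sesN_shortExact I n) _ x h0
    (show 1 + 0 = 1 by norm_num)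
  obtain ⟨f, rfl⟩ := (Ext.mk₀_bijective _ _).2 x₁
  refine ⟨ι I M n f.hom, ?_⟩
  rw [Θ_ι, δ_apply, ← hx₁]
  rfl

theorem range_toDT_le_ker_Θ : LinearMap.range (LocCoh.toDT I M) ≤ LinearMap.ker (Θ I M) := by
  rintro _ ⟨m, rfl⟩
  rw [LinearMap.mem_ker, toDT_eq_zero, Θ_ι, δ_apply]
  have h1 : (ModuleCat.ofHom (smulMap I 0 m) : (sesN I 0).X₁ ⟶ ModuleCat.of R M) =
      (sesN I 0).f ≫ ModuleCat.ofHom (LinearMap.toSpanSingleton R M m) := by
    ext x
    simp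
  rw [h1, ← Ext.mk₀_comp_mk₀, ShortComplex.ShortExact.extClass_comp_assoc, map_zero]

theorem ker_Θ_le_range_toDT : LinearMap.ker (Θ I M) ≤ LinearMap.range (LocCoh.toDT I M) := by
  intro z hz
  rw [LinearMap.mem_ker] at hz
  obtain ⟨n, f, rfl⟩ := IdealTransform.exists_rep I M z
  rw [Θ_ι, HιE_eq_zero_iff] at hz
  obtain ⟨k, h, hk⟩ := hz
  rw [← δ_compat, δ_apply] at hk
  obtain ⟨x₂, hx₂⟩ := Ext.contravariant_sequence_exact₁ (sesN_shortExact I k) _ _ (add_zero 1) hk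
  obtain ⟨g, rfl⟩ := (Ext.mk₀_bijective _ _).2 x₂
  rw [Ext.mk₀_comp_mk₀] at hx₂
  have h3 := (Ext.mk₀_bijective _ _).1 hx₂
  refine ⟨g.hom (1 : R), ?_⟩
  rw [toDT_eq I M k, ← ι_restrict I M h]
  congr 1
  ext x
  have h4 := LinearMap.congr_fun (congrArg ModuleCat.Hom.hom h3) x
  simp only [ModuleCat.hom_comp, LinearMap.comp_apply, ModuleCat.hom_ofHom] at h4
  rw [LinearMap.comp_apply, ← h4, smulMap_apply]
  change (x : R) • g.hom (1 : R) = g.hom ((x : R))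
  rw [← map_smul, smul_eq_mul, mul_one]

theorem ker_Θ : LinearMap.ker (Θ I M) = LinearMap.range (LocCoh.toDT I M) :=
  le_antisymm (ker_Θ_le_range_toDT I M) (range_toDT_le_ker_Θ I M)

/-- Brodmann–Sharp: `coker (η_M) ≃ H^1_I(M)`. -/
noncomputable def cokerEquiv :
    (LocCoh.DT I M ⧸ LinearMap.range (LocCoh.toDT I M)) ≃ₗ[R] LocCoh.H I 1 M :=
  (Submodule.quotEquivOfEq _ _ (ker_Θ I M).symm).trans
    ((Θ I M).quotKerEquivOfSurjective (Θ_surjective I M))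

end Groth.Agent.Lib.LocCohH1
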