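import Groth.Agent.Lib.LocCohSupSpan
import Groth.Agent.Lib.LocCohH1
import Groth.Agent.Lib.ExtSmul

/-!
# `0 → H^1_{Rb}(H^i_a(M)) → H^{i+1}_{a+Rb}(M) → Γ_{Rb}(H^{i+1}_a(M)) → 0` (helper53)

* `isLocalizedModule_lam`: `H^i_a(M) → H^i_a(M_b)` is the localization of `H^i_a(M)` at `b`;
* `mem_range_ψ_iff`: the image of `H^{i}_{a+Rb}(M) → H^{i}_a(M)` is the `b`-power torsion;
* `nonempty_kerEquiv`: `ker (H^{i+1}_{a+Rb}(M) → H^{i+1}_a(M)) ≃ H^1_{Rb}(H^i_a(M))`.
-/

set_option maxHeartbeats 400000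
universe u
open CategoryTheory CategoryTheory.Limits Opposite

namespace Groth.Agent.Lib.LocCohSupSpan
open Groth.Agent.Lib.LocCohConcrete Groth.Agent.Lib.LocCohLES Groth.Agent.Lib.LocCohH0
open Groth.Agent.Lib.LocCohTorsion Groth.Agent.Lib.LocCohCompare Groth.Agent.Lib.LocCohLocInj
open Groth.Agent.Lib.IdealTransform

variable {R : Type u} [CommRing R] (a : Ideal R) (b : R)

/-- elements of `H^i_{a+Rb}(M)` are killed by a power of `b`. -/
theorem exists_pow_smul_eq_zero (i : ℕ) (M : Type u) [AddCommGroup M] [Module R M]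
    (v : LocCoh.H (a ⊔ Ideal.span {b}) i M) : ∃ n : ℕ, b ^ n • v = 0 := by
  obtain ⟨n, hn⟩ := Groth.Agent.Lib.ExtSmul.isPowerTorsion_localCohomology
    (a ⊔ Ideal.span {b}) i (ModuleCat.of R M) v
  refine ⟨n, hn _ (Ideal.pow_mem_pow ?_ n)⟩
  exact Ideal.mem_sup_right (Ideal.mem_span_singleton_self b)

/-- multiplication by `b^n` is bijective on `H^i_a(M_b)`. -/
theorem smul_bijective_H_loc (i : ℕ) (M : Type u) [AddCommGroup M] [Module R M]
    (s : Submonoid.powers b) :
    Function.Bijective (fun y : LocCoh.H a i (Loc b M) => (s : R) • y) := by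
  have hu := IsLocalizedModule.map_units (mk b M) s
  obtain ⟨u, hu'⟩ := hu
  have h1 : (u : Module.End R (Loc b M)) = (s : R) • LinearMap.id := by
    rw [hu']
    refine LinearMap.ext fun x => ?_
    rfl
  have h2 : ((s : R) • LinearMap.id) ∘ₗ (↑u⁻¹ : Module.End R (Loc b M)) = LinearMap.id := by
    rw [← h1]
    exact u.mul_inv
  have h3 : (↑u⁻¹ : Module.End R (Loc b M)) ∘ₗ ((s : R) • LinearMap.id) = LinearMap.id := by
    rw [← h1]
    exact u.inv_mul
  refine Function.bijective_iff_has_inverse.2 ⟨Hmap a (↑u⁻¹ : Module.End R (Loc b M)) i, ?_, ?_⟩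
  · intro y
    change Hmap a _ i ((s : R) • y) = y
    have e1 : (s : R) • y = Hmap a ((s : R) • LinearMap.id) i y := by
      rw [Hmap_smul, Hmap_id]
    rw [e1, ← Hmap_comp, h3, Hmap_id]
  · intro y
    change (s : R) • Hmap a _ i y = y
    have e1 : (s : R) • Hmap a (↑u⁻¹ : Module.End R (Loc b M)) i y =
        Hmap a ((s : R) • LinearMap.id) i (Hmap a (↑u⁻¹ : Module.End R (Loc b M)) i y) := by
      rw [Hmap_smul, Hmap_id]
    rw [e1, ← Hmap_comp, h2, Hmap_id]

variable [IsNoetherianRing R]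

/-- a fraction in `Γ_a(M_b)` has numerator in `Γ_a(M)` after multiplying by a power of `b`. -/
theorem exists_pow_smul_mem_torsionSub (M : Type u) [AddCommGroup M] [Module R M] (x : M)
    (s : Submonoid.powers b)
    (ht : LocalizedModule.mk x s ∈ DRing.torsionSub a (Loc b M)) :
    ∃ K : ℕ, b ^ K • x ∈ DRing.torsionSub a M := by
  classical
  obtain ⟨t, ht⟩ := ht
  obtain ⟨G, hG⟩ := (IsNoetherian.noetherian (a ^ t) : (a ^ t).FG)
  have h1 : ∀ r ∈ G, ∃ k : ℕ, b ^ k • r • x = 0 := by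
    intro r hr
    have hr' : r ∈ a ^ t := by rw [← hG]; exact Submodule.subset_span hr
    have h2 := ht r hr'
    rw [LocalizedModule.smul'_mk, IsLocalizedModule.mk_eq_mk',
      IsLocalizedModule.mk'_eq_zero' (mk b M)] at h2
    obtain ⟨⟨u, k, rfl⟩, hu⟩ := h2
    rw [Submonoid.smul_def] at hu
    exact ⟨k, hu⟩
  choose! kf hkf using h1
  refine ⟨G.sup kf, t, fun r hr => ?_⟩
  rw [← hG] at hr
  induction hr using Submodule.span_induction with
  | mem r hr =>
    have hle : kf r ≤ G.sup kf := Finset.le_sup hr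
    obtain ⟨d, hd⟩ := Nat.exists_eq_add_of_le hle
    rw [smul_comm, hd, pow_add, mul_comm, mul_smul, hkf r hr, smul_zero]
  | zero => rw [zero_smul]
  | add r r' _ _ hr hr' => rw [add_smul, hr, hr', add_zero]
  | smul c r _ hr => rw [smul_eq_mul, mul_smul, hr, smul_zero]

/-- every element of `H^i_a(M_b)` is carried into the image of `H^i_a(M)` by a power of `b`. -/
theorem exists_pow_smul_mem_range_lam : ∀ (i : ℕ) (M : Type u) [AddCommGroup M] [Module R M]
    (z : LocCoh.H a i (Loc b M)), ∃ n : ℕ, b ^ n • z ∈ LinearMap.range (lam a b i M) := by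
  intro i
  induction i with
  | zero =>
    intro M _ _ z
    have ht := (toGamma a (Loc b M) z).2
    generalize hτ : (toGamma a (Loc b M) z : Loc b M) = τ at ht
    induction τ using LocalizedModule.induction_on with
    | h x s =>
      obtain ⟨k, hk⟩ := s.2
      have hs : (s : R) = b ^ k := hk.symm
      obtain ⟨K, hK⟩ := exists_pow_smul_mem_torsionSub a b M x s ht
      obtain ⟨w, hw⟩ := toGamma_surjective a M ⟨_, hK⟩
      refine ⟨K + k, w, ?_⟩
      apply toGamma_injective a (Loc b M)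
      apply Subtype.ext
      change ((toGamma a (Loc b M) (Hmap a (mk b M) 0 w) : DRing.torsionSub a (Loc b M)) :
        Loc b M) = _
      rw [toGamma_Hmap, hw]
      change mk b M (b ^ K • x) = _
      rw [map_smul (toGamma a (Loc b M)), Submodule.coe_smul, hτ, map_smul,
        LocalizedModule.mkLinearMap_apply]
      rw [pow_add, mul_smul, ← hs]
      congr 1
      rw [LocalizedModule.smul'_mk, LocalizedModule.mk_eq]
      refine ⟨1, ?_⟩
      rw [one_smul, one_smul, one_smul, Submonoid.smul_def]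
  | succ i ih =>
    intro M _ _ z
    obtain ⟨E, _, _, f, hf, hE⟩ := Groth.Agent.S0299.exists_injective_embedding R M
    let g := (LinearMap.range f).mkQ
    have hg : Function.Surjective g := Submodule.mkQ_surjective _
    have hfg : Function.Exact f g := LinearMap.exact_map_mkQ_range f
    have hLE : Subsingleton (LocCoh.H a (i + 1) (Loc b E)) :=
      subsingleton_H_localized b E a hE (i + 1) (Nat.succ_pos i)
    obtain ⟨z', rfl⟩ := (exact₁ a (lmap b f) (lmap b g) (lmap_injective b f hf)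
      (lmap_exact b f g hfg) (lmap_surjective b g hg) i z).1 (Subsingleton.elim _ _)
    obtain ⟨n, y', hy'⟩ := ih _ z'
    refine ⟨n, Hδ a f g hf hfg hg i y', ?_⟩
    rw [← lam_Hδ, hy', map_smul]

/-- `H^i_a(M) → H^i_a(M_b)` is the localization at `b`. -/
theorem isLocalizedModule_lam (i : ℕ) (M : Type u) [AddCommGroup M] [Module R M] :
    IsLocalizedModule (Submonoid.powers b) (lam a b i M) where
  map_units s := by
    rw [Module.End.isUnit_iff]
    exact smul_bijective_H_loc a b i M s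
  surj z := by
    obtain ⟨n, y, hy⟩ := exists_pow_smul_mem_range_lam a b i M z
    exact ⟨(y, ⟨b ^ n, n, rfl⟩), hy.symm⟩
  exists_of_eq {x₁ x₂} h := by
    have h0 : lam a b i M (x₁ - x₂) = 0 := by rw [map_sub, h, sub_self]
    obtain ⟨v, hv⟩ := (exact_ψ_lam a b i M _).1 h0
    obtain ⟨n, hn⟩ := exists_pow_smul_eq_zero a b i M v
    refine ⟨⟨b ^ n, n, rfl⟩, ?_⟩
    rw [Submonoid.smul_def, Submonoid.smul_def, ← sub_eq_zero, ← smul_sub, ← hv, ← map_smul, hn,
      map_zero]

/-- the image of the comparison map is the `b`-power torsion. -/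
theorem mem_range_ψ_iff (i : ℕ) (M : Type u) [AddCommGroup M] [Module R M]
    (x : LocCoh.H a i M) :
    x ∈ LinearMap.range (ψ a b i M) ↔ ∃ n : ℕ, b ^ n • x = 0 := by
  constructor
  · rintro ⟨v, rfl⟩
    obtain ⟨n, hn⟩ := exists_pow_smul_eq_zero a b i M v
    exact ⟨n, by rw [← map_smul, hn, map_zero]⟩
  · rintro ⟨n, hn⟩
    apply (exact_ψ_lam a b i M x).1
    apply (smul_bijective_H_loc a b i M ⟨b ^ n, n, rfl⟩).1
    change b ^ n • lam a b i M x = b ^ n • 0
    rw [← map_smul, hn, map_zero, smul_zero]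

/-- `ker (H^{i+1}_{a+Rb}(M) → H^{i+1}_a(M)) ≃ H^1_{Rb}(H^i_a(M))`. -/
theorem nonempty_kerEquiv (i : ℕ) (M : Type u) [AddCommGroup M] [Module R M] :
    Nonempty (LinearMap.ker (ψ a b (i + 1) M) ≃ₗ[R]
      LocCoh.H (Ideal.span {b}) 1 (LocCoh.H a i M)) := by
  obtain ⟨e₁⟩ := nonempty_cokerEquiv a b i M
  have hloc := isLocalizedModule_lam a b i M
  -- `coker lam ≃ coker (X → X_b)`
  let ι := IsLocalizedModule.iso (Submonoid.powers b) (lam a b i M)
  have hι : ι.toLinearMap ∘ₗ mk b (LocCoh.H a i M) = lam a b i M := by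
    ext x
    simp [ι]
  let e₂ : (Loc b (LocCoh.H a i M) ⧸ LinearMap.range (mk b (LocCoh.H a i M))) ≃ₗ[R]
      (LocCoh.H a i (Loc b M) ⧸ LinearMap.range (lam a b i M)) :=
    Submodule.Quotient.equiv _ _ ι (by rw [← LinearMap.range_comp, hι])
  -- `coker (X → D_{Rb}(X)) ≃ coker (X → X_b)`
  let ω := omegaEquiv (LocCoh.H a i M) b
  have hω : ω.toLinearMap ∘ₗ LocCoh.toDT (Ideal.span {b}) (LocCoh.H a i M) =
      mk b (LocCoh.H a i M) := omega_comp_toDT (LocCoh.H a i M) b
  let e₃ : (LocCoh.DT (Ideal.span {b}) (LocCoh.H a i M) ⧸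
      LinearMap.range (LocCoh.toDT (Ideal.span {b}) (LocCoh.H a i M))) ≃ₗ[R]
      (Loc b (LocCoh.H a i M) ⧸ LinearMap.range (mk b (LocCoh.H a i M))) :=
    Submodule.Quotient.equiv _ _ ω (by rw [← LinearMap.range_comp, hω])
  exact ⟨e₁.symm.trans (e₂.symm.trans (e₃.symm.trans
    (Groth.Agent.Lib.LocCohH1.cokerEquiv (Ideal.span {b}) (LocCoh.H a i M))))⟩

end Groth.Agent.Lib.LocCohSupSpan
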