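import Groth.Agent.Lib.H29LocCohAnn
import Groth.Agent.S5790
import Groth.Agent.S11654
import Mathlib.RingTheory.LocalRing.Module

/-!
# Uniform annihilators of local cohomology, finite projective dimension (BS 9.4.x) (helper29)

* `hasProjectiveDimensionLE_ker_localized`: syzygy step for the projective dimension of `M_p`.
* `exists_smul_H_eq_zero_of_pd`: if `pd M_p ≤ h` there is `s ∉ p` killing `H^i_b(M)` for all proper
  ideals `b` and all `i` with `i + h < depth_b R`.
-/

set_option autoImplicit false
universe u

open CategoryTheory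

namespace Groth.Agent.Lib.H29LocCohAnn

open Groth.Agent.Lib.LocCohLES Groth.Agent.Lib.LocCohTorsion Groth.Agent.Lib.LocCohConcrete

variable {R : Type u} [CommRing R] [IsNoetherianRing R]

/-- dimension shifting for annihilators: `0 → M₁ → M₂ → M₃ → 0` with `H^i_b(M₂) = 0`; if `s` kills
`H^{i+1}_b(M₁)` then `s` kills `H^i_b(M₃)`. -/
theorem smul_eq_zero_of_shift {R : Type u} [CommRing R] (b : Ideal R) {M₁ M₂ M₃ : Type u}
    [AddCommGroup M₁] [Module R M₁] [AddCommGroup M₂] [Module R M₂] [AddCommGroup M₃]
    [Module R M₃] (f : M₁ →ₗ[R] M₂) (g : M₂ →ₗ[R] M₃) (hf : Function.Injective f)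
    (hfg : Function.Exact f g) (hg : Function.Surjective g) (i : ℕ)
    (hF : Subsingleton (LocCoh.H b i M₂)) (s : R)
    (hs : ∀ y : LocCoh.H b (i + 1) M₁, s • y = 0) (x : LocCoh.H b i M₃) : s • x = 0 := by
  have hδ : Hδ b f g hf hfg hg i (s • x) = 0 := by
    rw [map_smul]
    exact hs _
  obtain ⟨z, hz⟩ := (exact₃ b f g hf hfg hg i (s • x)).1 hδ
  rw [← hz, hF.elim z 0, map_zero]

/-- syzygy step: `pd M_p ≤ h + 1 ⇒ pd (ker π)_p ≤ h` for `π : F → M` surjective, `F` projective. -/
theorem hasProjectiveDimensionLE_ker_localized {F M : Type u} [AddCommGroup F] [Module R F]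
    [AddCommGroup M] [Module R M] [Module.Projective R F] (π : F →ₗ[R] M)
    (hπ : Function.Surjective π) (p : Ideal R) [p.IsPrime] (h : ℕ)
    (hpd : HasProjectiveDimensionLE
      (ModuleCat.of (Localization.AtPrime p) (LocalizedModule p.primeCompl M)) (h + 1)) :
    HasProjectiveDimensionLE
      (ModuleCat.of (Localization.AtPrime p) (LocalizedModule p.primeCompl (LinearMap.ker π))) h := by
  let S := π.shortComplexKer
  have S_exact := LinearMap.shortExact_shortComplexKer hπ
  have proj : Projective S.X₂ := (ModuleCat.of R F).projective_of_categoryTheory_projective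
  let Sp := S.map (ModuleCat.localizedModuleFunctor p.primeCompl)
  have Sp_exact : Sp.ShortExact :=
    S_exact.map_of_exact (ModuleCat.localizedModuleFunctor p.primeCompl)
  have projp : Projective Sp.X₂ :=
    (ModuleCat.localizedModuleFunctor.{u} p.primeCompl).projective_obj_of_projective proj
  have h3 : HasProjectiveDimensionLT Sp.X₃ (h + 2) :=
    hasProjectiveDimensionLT_of_iso (Groth.Agent.S5790.locIso R M p.primeCompl).symm (h + 2)
  have h1 : HasProjectiveDimensionLT Sp.X₁ (h + 1) :=
    (Sp_exact.hasProjectiveDimensionLT_X₃_iff h projp).mp h3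
  have h1' : HasProjectiveDimensionLT
      ((ModuleCat.of R (LinearMap.ker π)).localizedModule p.primeCompl) (h + 1) := h1
  exact hasProjectiveDimensionLT_of_iso
    (Groth.Agent.S5790.locIso R (LinearMap.ker π) p.primeCompl) (h + 1)

/-- BS 9.4: if `pd M_p ≤ h` there is `s ∉ p` killing `H^i_b(M)` for all proper ideals `b` and all `i`
with `i + h < depth_b R`. -/
theorem exists_smul_H_eq_zero_of_pd (p : Ideal R) [p.IsPrime] (h : ℕ) :
    ∀ (M : Type u) [AddCommGroup M] [Module R M] [Module.Finite R M],
      HasProjectiveDimensionLE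
        (ModuleCat.of (Localization.AtPrime p) (LocalizedModule p.primeCompl M)) h →
      ∃ s : R, s ∉ p ∧ ∀ (b : Ideal R), b ≠ ⊤ → ∀ (i : ℕ),
        ((i + h : ℕ) : ℕ∞) < LocCoh.idealDepth b R → ∀ x : LocCoh.H b i M, s • x = 0 := by
  induction h with
  | zero =>
    intro M _ _ _ hpd
    have hfin : Module.Finite (Localization.AtPrime p) (LocalizedModule p.primeCompl M) :=
      Module.Finite.of_isLocalizedModule p.primeCompl
        (LocalizedModule.mkLinearMap p.primeCompl M)
    have hproj : Module.Projective (Localization.AtPrime p) (LocalizedModule p.primeCompl M) := by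
      have h1 : HasProjectiveDimensionLT
          (ModuleCat.of (Localization.AtPrime p) (LocalizedModule p.primeCompl M)) 1 := hpd
      have h2 : Projective
          (ModuleCat.of (Localization.AtPrime p) (LocalizedModule p.primeCompl M)) :=
        projective_iff_hasProjectiveDimensionLT_one.mpr h1
      exact (IsProjective.iff_projective _).mpr h2
    have hfree : Module.Free (Localization.AtPrime p) (LocalizedModule p.primeCompl M) :=
      Module.free_of_flat_of_isLocalRing
    obtain ⟨s, hs, hs'⟩ := exists_smul_H_eq_zero_of_free M p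
    exact ⟨s, hs, fun b hb i hi x => hs' b hb i (by simpa using hi) x⟩
  | succ h ih =>
    intro M _ _ _ hpd
    obtain ⟨n, g, hg⟩ := Module.Finite.exists_fin (R := R) (M := M)
    let π : (ULift.{u} (Fin n) →₀ R) →ₗ[R] M := Finsupp.linearCombination R (g ∘ ULift.down)
    have hπ : Function.Surjective π := by
      rw [← LinearMap.range_eq_top, Finsupp.range_linearCombination]
      have : Set.range (g ∘ ULift.down) = Set.range g := by
        ext y
        constructor
        · rintro ⟨⟨j⟩, rfl⟩; exact ⟨j, rfl⟩
        · rintro ⟨j, rfl⟩; exact ⟨⟨j⟩, rfl⟩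
      rw [this, hg]
    have hK := hasProjectiveDimensionLE_ker_localized π hπ p h hpd
    obtain ⟨s, hs, hs'⟩ := ih (LinearMap.ker π) hK
    refine ⟨s, hs, fun b hb i hi x => ?_⟩
    -- `H^i_b(F) = 0`
    have hi' : (i : ℕ∞) < LocCoh.idealDepth b R := lt_of_le_of_lt (by exact_mod_cast Nat.le_add_right i (h + 1)) hi
    have hF := subsingleton_H_free_of_lt b hb (ULift.{u} (Fin n)) i hi'
    refine smul_eq_zero_of_shift (M₁ := LinearMap.ker π) (M₂ := ULift.{u} (Fin n) →₀ R) (M₃ := M)
      b (LinearMap.ker π).subtype π (Submodule.injective_subtype _)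
      (LinearMap.exact_subtype_ker_map π) hπ i hF s (fun y => ?_) x
    exact hs' b hb (i + 1) (by
      have : i + 1 + h = i + (h + 1) := by omega
      rw [this]; exact hi) y

end Groth.Agent.Lib.H29LocCohAnn
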