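import Groth.Agent.Lib.FinDimRel53a
import Groth.Agent.S11654
import Groth.Agent.S11656
import Groth.Agent.Lib.H87AB
import Groth.Agent.Lib.H87GlDim2
import Groth.Agent.Lib.CMAscent33
import Groth.Agent.Lib.H8CM8
import Groth.Agent.Lib.LocCohSupSpan2
import Groth.Agent.Lib.LocCohFaltings
import Groth.Agent.Lib.DepthRees

/-!
# Faltings' annihilator theorem over a regular ring (Brodmann–Sharp 9.5.1) (helper53)

`R` regular, `i < λ_a^b(M)` ⇒ `b ⊆ rad ann H^i_a(M)`.
-/

set_option maxHeartbeats 400000
set_option linter.unusedSectionVars false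
universe u

namespace Groth.Agent.Lib.Faltings53
open Groth.Agent.Lib.LocCohLES Groth.Agent.Lib.AdjDepth53 Groth.Agent.Lib.FinDimRel53
open Groth.Agent.Lib.LocCohSupSpan CategoryTheory

section height
variable {R : Type u} [CommRing R]

theorem height_add_quot_le_aux (p : Ideal R) [p.IsPrime] :
    ∀ (n : ℕ) (Q' : Ideal (R ⧸ p)) [Q'.IsPrime], (n : ℕ∞) ≤ Q'.height →
      p.height + n ≤ (Q'.comap (Ideal.Quotient.mk p)).height := by
  intro n
  induction n with
  | zero =>
    intro Q' _ _
    rw [Nat.cast_zero, add_zero]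
    exact Ideal.height_mono (le_comap_mk p Q')
  | succ n ih =>
    intro Q' hQ' hn
    have hnot : ¬ Q'.height ≤ (n : ℕ∞) := by
      rw [not_le]
      refine lt_of_lt_of_le ?_ hn
      exact_mod_cast Nat.lt_succ_self n
    rw [Ideal.height_le_iff] at hnot
    push Not at hnot
    obtain ⟨Q'', hQ'', hlt, hle⟩ := hnot
    have h1 := ih Q'' hle
    have hlt' := comap_mk_lt_comap_mk p hlt
    have h2 := Ideal.height_add_one_le_of_lt_of_isPrime hlt'
    calc p.height + ((n + 1 : ℕ) : ℕ∞) = (p.height + n) + 1 := by rw [Nat.cast_succ, add_assoc]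
      _ ≤ (Q''.comap (Ideal.Quotient.mk p)).height + 1 := by gcongr
      _ ≤ _ := h2

/-- `ht p + ht(q/p) ≤ ht q`. -/
theorem height_add_quot_le (p q : Ideal R) [p.IsPrime] [q.IsPrime] (hpq : p ≤ q) :
    p.height + (q.map (Ideal.Quotient.mk p)).height ≤ q.height := by
  haveI := Groth.Agent.Lib.DimIneqCore.isPrime_map_mk p q hpq
  have key := fun n hn => height_add_quot_le_aux p n (q.map (Ideal.Quotient.mk p)) hn
  rw [Groth.Agent.Lib.DimIneqCore.comap_map_mk_eq p q hpq] at key
  rcases h : (q.map (Ideal.Quotient.mk p)).height with _ | n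
  · have htop : q.height = ⊤ := by
      rw [ENat.eq_top_iff_forall_ge]
      intro n
      refine le_trans ?_ (key n (by rw [h]; exact le_top))
      exact le_add_self
    rw [htop]
    exact le_top
  · exact key n (by rw [h]; exact le_refl _)

end height

section mono
variable {R : Type u} [CommRing R]

theorem minAdjDepth_mono {a a' : Ideal R} (h : a ≤ a') (b : Ideal R) (M : Type u)
    [AddCommGroup M] [Module R M] : LocCoh.minAdjDepth a b M ≤ LocCoh.minAdjDepth a' b M := by
  unfold LocCoh.minAdjDepth LocCoh.adjDepth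
  exact iInf₂_mono fun p _ => add_le_add le_rfl
    (Ideal.height_mono (Ideal.map_mono (sup_le_sup_right h _)))

end mono

section regular
variable {R : Type u} [CommRing R] [IsRegularRing R] (a b : Ideal R)
  (M : Type u) [AddCommGroup M] [Module R M] [Module.Finite R M]

/-- the key pointwise statement. -/
theorem exists_not_mem_annihilates (i : ℕ) (hi : (i : ℕ∞) < LocCoh.minAdjDepth a b M)
    (ha : a ≠ ⊤) (h : ℕ) (hh : a.height = h) (q : Ideal R) [q.IsPrime] (haq : a ≤ q)
    (hq : q.height = h) (p : PrimeSpectrum R) (hpq : p.asIdeal ≤ q) (hbp : ¬ b ≤ p.asIdeal) :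
    ∃ s : R, s ∉ p.asIdeal ∧ ∀ x : LocCoh.H a i M, s • x = 0 := by
  have hle : LocCoh.minAdjDepth a b M ≤ LocCoh.adjDepth a M p := iInf₂_le p hbp
  have hlt := lt_of_lt_of_le hi hle
  unfold LocCoh.adjDepth at hlt
  rcases subsingleton_or_nontrivial (LocalizedModule p.asIdeal.primeCompl M) with hsub | hnt
  · have hp : p ∉ Module.support R M := by
      rw [Module.mem_support_iff]
      exact not_nontrivial_iff_subsingleton.2 hsub
    obtain ⟨s, hs, hkill⟩ := Groth.Agent.S11654.result R M p hp
    exact ⟨s, hs, fun x => hkill a i x⟩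
  · have hdp : ringKrullDim (Localization.AtPrime p.asIdeal) =
        ((IsLocalRing.maximalIdeal (Localization.AtPrime p.asIdeal)).spanFinrank : ℕ) :=
      IsRegularLocalRing.spanFinrank_maximalIdeal.symm
    have hpd := Groth.Agent.Lib.H87GlDim2.hasProjectiveDimensionLT_of_isRegularLocalRing
      (A := Localization.AtPrime p.asIdeal) _ hdp
      (ModuleCat.of _ (LocalizedModule p.asIdeal.primeCompl M))
    obtain ⟨e, -, h1, h2⟩ := Groth.Agent.Lib.H87AB.exists_projectiveDimension_eq
      (LocalizedModule p.asIdeal.primeCompl M) _ hpd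
    have hAB := Groth.Agent.Lib.H87AB.auslander_buchsbaum'
      (LocalizedModule p.asIdeal.primeCompl M) e h1 h2
    have hdepthp := Groth.Agent.Lib.H87AB.depth_self_of_isRegularLocalRing
      (Localization.AtPrime p.asIdeal)
    have hdimp := IsLocalization.AtPrime.ringKrullDim_eq_height p.asIdeal
      (Localization.AtPrime p.asIdeal)
    obtain ⟨dM, hdM⟩ := ENat.ne_top_iff_exists.mp
      (Groth.Agent.Lib.DepthRees.depth_ne_top (R := Localization.AtPrime p.asIdeal)
        (LocalizedModule p.asIdeal.primeCompl M))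
    rw [← hdM] at hAB hlt
    rw [hAB, hdimp] at hdepthp
    have hph : p.asIdeal.height = ((e + dM : ℕ) : ℕ∞) := by
      have : ((p.asIdeal.height : ℕ∞) : WithBot ℕ∞) = (((e + dM : ℕ) : ℕ∞) : WithBot ℕ∞) := by
        rw [← hdepthp]
        push_cast
        rfl
      exact_mod_cast this
    have hHT := height_add_quot_le p.asIdeal q hpq
    rw [hq, hph] at hHT
    have hxfin : (q.map (Ideal.Quotient.mk p.asIdeal)).height ≠ ⊤ :=
      ne_top_of_le_ne_top (ENat.natCast_ne_top h) (le_trans le_add_self hHT)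
    obtain ⟨x, hx⟩ := ENat.ne_top_iff_exists.1 hxfin
    have hmono : ((a ⊔ p.asIdeal).map (Ideal.Quotient.mk p.asIdeal)).height ≤
        (q.map (Ideal.Quotient.mk p.asIdeal)).height :=
      Ideal.height_mono (Ideal.map_mono (sup_le haq hpq))
    rw [← hx] at hHT hmono
    have hlt' : (i : ℕ∞) < (dM : ℕ∞) + (x : ℕ∞) := lt_of_lt_of_le hlt (by gcongr)
    have h3 : i < dM + x := by exact_mod_cast hlt'
    have h4 : e + dM + x ≤ h := by exact_mod_cast hHT
    have hpd' : HasProjectiveDimensionLE (ModuleCat.of (Localization.AtPrime p.asIdeal)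
        (LocalizedModule p.asIdeal.primeCompl M)) (h - i - 1) :=
      hasProjectiveDimensionLT_of_ge _ (e + 1) (h - i - 1 + 1) (by omega)
    obtain ⟨s, hs, hkill⟩ := Groth.Agent.S11656.result R M p.asIdeal (h - i - 1) hpd'
    refine ⟨s, hs, hkill a ha i ?_⟩
    haveI := Groth.Agent.Lib.CMAscent33.isCohenMacaulayRing_of_isRegularRing R
    rw [Groth.Agent.Lib.H8CM.idealDepth_eq_height ha, hh]
    have : i + (h - i - 1) < h := by omega
    exact_mod_cast this

/-- **Faltings' annihilator theorem over a regular ring**. -/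
theorem le_radical_of_lt : ∀ (a : Ideal R) (i : ℕ), (i : ℕ∞) < LocCoh.minAdjDepth a b M →
    b ≤ (Module.annihilator R (LocCoh.H a i M)).radical := by
  intro a
  refine IsNoetherian.induction (P := fun a : Ideal R => ∀ (i : ℕ),
    (i : ℕ∞) < LocCoh.minAdjDepth a b M →
      b ≤ (Module.annihilator R (LocCoh.H a i M)).radical) (fun a IH => ?_) a
  intro i hi
  by_cases ha : a = ⊤
  · subst ha
    have hsub : Subsingleton (LocCoh.H (⊤ : Ideal R) i M) :=
      Groth.Agent.Lib.LocCohFaltings.subsingleton_H_of_smul_top_eq_top (I := ⊤) M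
        (Submodule.top_smul _) i
    rw [le_radical_annihilator_iff]
    exact fun e _ => ⟨0, fun x => Subsingleton.elim _ _⟩
  · obtain ⟨h, hh⟩ := ENat.ne_top_iff_exists.1 (Ideal.height_ne_top ha)
    obtain ⟨q, hqprime, haq, hq⟩ := Ideal.exists_isPrime_height_eq hh.symm
    have hstar : ∀ P : Ideal R, P.IsPrime → P ≤ q → ¬ b ≤ P →
        ¬ Module.annihilator R (LocCoh.H a i M) ≤ P := by
      intro P hP hPq hbP hle
      obtain ⟨s, hs, hkill⟩ := exists_not_mem_annihilates a b M i hi ha h hh.symm q haq hq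
        ⟨P, hP⟩ hPq hbP
      exact hs (hle (Module.mem_annihilator.2 hkill))
    classical
    have hfin := Ideal.finite_minimalPrimes_of_isNoetherianRing R
      (Module.annihilator R (LocCoh.H a i M))
    set T : Finset (Ideal R) := hfin.toFinset.filter (fun P => ¬ b ≤ P) with hT
    have hTq : ¬ T.inf id ≤ q := by
      rw [Ideal.IsPrime.inf_le' hqprime]
      rintro ⟨P, hPT, hPq⟩
      rw [hT, Finset.mem_filter, Set.Finite.mem_toFinset] at hPT
      exact hstar P hPT.1.1.1 hPq hPT.2 hPT.1.1.2
    obtain ⟨y, hyT, hyq⟩ := SetLike.not_le_iff_exists.1 hTq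
    have hlt : a < a ⊔ Ideal.span {y} := by
      refine lt_of_le_of_ne le_sup_left fun heq => hyq (haq ?_)
      rw [heq]
      exact Ideal.mem_sup_right (Ideal.mem_span_singleton_self y)
    have hIH := IH (a ⊔ Ideal.span {y}) hlt i
      (lt_of_lt_of_le hi (minAdjDepth_mono le_sup_left b M))
    have hrad : ∀ e ∈ b, e * y ∈ (Module.annihilator R (LocCoh.H a i M)).radical := by
      intro e he
      rw [← Ideal.sInf_minimalPrimes, Ideal.mem_sInf]
      intro P hP
      by_cases hbP : b ≤ P
      · exact P.mul_mem_right _ (hbP he)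
      · have hPT : P ∈ T := by
          rw [hT, Finset.mem_filter, Set.Finite.mem_toFinset]
          exact ⟨hP, hbP⟩
        have : T.inf id ≤ P := Finset.inf_le hPT
        exact P.mul_mem_left _ (this hyT)
    rw [le_radical_annihilator_iff] at hIH ⊢
    intro e he
    obtain ⟨k, hk⟩ := hrad e he
    obtain ⟨k', hk'⟩ := hIH e he
    refine ⟨k' + k, fun z => ?_⟩
    have h1 : y ^ k • (e ^ k • z) = 0 := by
      rw [← mul_smul, ← mul_pow, mul_comm]
      exact Module.mem_annihilator.1 hk z
    have h2 : lam a y i M (e ^ k • z) = 0 := by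
      apply (smul_bijective_H_loc a y i M ⟨y ^ k, k, rfl⟩).1
      change y ^ k • lam a y i M (e ^ k • z) = y ^ k • 0
      rw [smul_zero, ← map_smul, h1, map_zero]
    obtain ⟨w, hw⟩ := (exact_ψ_lam a y i M (e ^ k • z)).1 h2
    rw [pow_add, mul_smul, ← hw, ← map_smul, hk', map_zero]

end regular

end Groth.Agent.Lib.Faltings53
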