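import Groth.Agent.Lib.DimIneqScheme
import Groth.Agent.Lib.Faltings53a
import Groth.Agent.Lib.FibreStalk33
import Mathlib.RingTheory.Ideal.MinimalPrime.Localization
import Mathlib.RingTheory.Localization.Ideal

/-!
# Local rings of fibres on affine charts, and generic points of fibre components (helper63)

* `exists_minimalPrimes_height_add_le`: in a Noetherian ring `B`, for an ideal `I` contained in a
  prime `q` there is a prime `Q` minimal over `I`, contained in `q`, with
  `ht Q + ht (q / I) ≤ ht q`.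
* `ringKrullDim_fibre_stalk_eq`: on affine charts `U ⊆ f⁻¹ V`, the local ring of the fibre at `x`
  has dimension `ht (q / pB)`, `q` the prime of `x` and `p = q ∩ Γ(S, V)`.
* `exists_generization_fibre_generic`: for `f` locally of finite type over a locally Noetherian base,
  every `x` has a generization `z` in its fibre whose fibre local ring has dimension `0`, with
  `dim O_{X,z} + dim O_{X_{f x},x} ≤ dim O_{X,x}`.
-/

set_option autoImplicit false
universe u

namespace Groth.Agent.Lib.FibreStalkChart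

open CategoryTheory AlgebraicGeometry IsLocalRing Groth.Agent.Lib.DimIneqCore
  Groth.Agent.Lib.DimIneqScheme

section Alg

variable {B : Type u} [CommRing B]

theorem exists_minimalPrimes_height_add_le [IsNoetherianRing B] (I q : Ideal B) [q.IsPrime]
    (hIq : I ≤ q) :
    ∃ Q : Ideal B, Q ∈ I.minimalPrimes ∧ Q ≤ q ∧ (Q.map (Ideal.Quotient.mk I)).height = 0 ∧
      Q.height + (q.map (Ideal.Quotient.mk I)).height ≤ q.height := by
  haveI hq' : (q.map (Ideal.Quotient.mk I)).IsPrime := isPrime_map_mk I q hIq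
  obtain ⟨Q₀', hQ₀', hle', hht'⟩ := exists_minimalPrimes_height_le (q.map (Ideal.Quotient.mk I))
  haveI hQ₀'prime : Q₀'.IsPrime := hQ₀'.1.1
  have hQmin : Q₀'.comap (Ideal.Quotient.mk I) ∈ I.minimalPrimes := by
    rw [Ideal.minimalPrimes_eq_comap]
    exact ⟨Q₀', hQ₀', rfl⟩
  haveI hQprime : (Q₀'.comap (Ideal.Quotient.mk I)).IsPrime := hQmin.1.1
  have hIQ : I ≤ Q₀'.comap (Ideal.Quotient.mk I) := hQmin.1.2
  have hQq : Q₀'.comap (Ideal.Quotient.mk I) ≤ q := by
    have := Ideal.comap_mono (f := Ideal.Quotient.mk I) hle'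
    rwa [comap_map_mk_eq I q hIq] at this
  have hmap : (Q₀'.comap (Ideal.Quotient.mk I)).map (Ideal.Quotient.mk I) = Q₀' :=
    Ideal.map_comap_of_surjective _ Ideal.Quotient.mk_surjective Q₀'
  refine ⟨Q₀'.comap (Ideal.Quotient.mk I), hQmin, hQq, ?_, ?_⟩
  · rw [hmap]
    exact Ideal.height_eq_zero_iff.mpr hQ₀'
  · -- compare the two quotients
    let E : ((B ⧸ I) ⧸ Q₀') ≃+* (B ⧸ Q₀'.comap (Ideal.Quotient.mk I)) :=
      (Ideal.quotEquivOfEq hmap.symm).trans (DoubleQuot.quotQuotEquivQuotOfLE hIQ)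
    have hE : ∀ b : B, E (Ideal.Quotient.mk Q₀' (Ideal.Quotient.mk I b)) =
        Ideal.Quotient.mk (Q₀'.comap (Ideal.Quotient.mk I)) b := fun b => rfl
    have hcomap : (q.map (Ideal.Quotient.mk (Q₀'.comap (Ideal.Quotient.mk I)))).comap
        (E : ((B ⧸ I) ⧸ Q₀') →+* _) =
        (q.map (Ideal.Quotient.mk I)).map (Ideal.Quotient.mk Q₀') := by
      ext y
      obtain ⟨y', rfl⟩ := Ideal.Quotient.mk_surjective y
      obtain ⟨b, rfl⟩ := Ideal.Quotient.mk_surjective y'
      rw [Ideal.mem_comap]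
      change E _ ∈ _ ↔ _
      rw [hE b, Ideal.mem_quotient_iff_mem hQq, Ideal.mem_quotient_iff_mem hle',
        Ideal.mem_quotient_iff_mem hIq]
    have hheq : ((q.map (Ideal.Quotient.mk I)).map (Ideal.Quotient.mk Q₀')).height =
        (q.map (Ideal.Quotient.mk (Q₀'.comap (Ideal.Quotient.mk I)))).height := by
      rw [← hcomap]
      exact RingEquiv.height_comap E _
    rw [hheq] at hht'
    calc (Q₀'.comap (Ideal.Quotient.mk I)).height + (q.map (Ideal.Quotient.mk I)).height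
        ≤ (Q₀'.comap (Ideal.Quotient.mk I)).height +
          (q.map (Ideal.Quotient.mk (Q₀'.comap (Ideal.Quotient.mk I)))).height := by gcongr
      _ ≤ q.height := Groth.Agent.Lib.Faltings53.height_add_quot_le _ q hQq

/-- `dim (C / I C) = ht (q / I)` for `C = B_q`. -/
theorem ringKrullDim_quotient_map_eq_height (I q : Ideal B) [q.IsPrime] (hIq : I ≤ q)
    (C : Type u) [CommRing C] [Algebra B C] [IsLocalization.AtPrime C q] :
    ringKrullDim (C ⧸ I.map (algebraMap B C)) = (q.map (Ideal.Quotient.mk I)).height := by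
  haveI hq' : (q.map (Ideal.Quotient.mk I)).IsPrime := isPrime_map_mk I q hIq
  have hsub : Algebra.algebraMapSubmonoid (B ⧸ I) q.primeCompl =
      (q.map (Ideal.Quotient.mk I)).primeCompl := by
    ext y
    constructor
    · rintro ⟨a, ha, rfl⟩
      intro hmem
      exact ha ((Ideal.mem_quotient_iff_mem hIq).mp hmem)
    · intro hy
      obtain ⟨a, rfl⟩ := Ideal.Quotient.mk_surjective y
      refine ⟨a, ?_, rfl⟩
      intro ha
      exact hy (Ideal.mem_map_of_mem _ ha)
  have h1 : IsLocalization (Algebra.algebraMapSubmonoid (B ⧸ I) q.primeCompl)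
      (C ⧸ I.map (algebraMap B C)) := inferInstance
  rw [hsub] at h1
  haveI : IsLocalization.AtPrime (C ⧸ I.map (algebraMap B C)) (q.map (Ideal.Quotient.mk I)) := h1
  exact IsLocalization.AtPrime.ringKrullDim_eq_height (q.map (Ideal.Quotient.mk I)) _

end Alg

section Sch

variable {X S : Scheme.{u}} (f : X ⟶ S) {U : X.Opens} {V : S.Opens}

/-- The extension of the maximal ideal of `O_{S,f x}` to `O_{X,x}` is generated by the prime of
`f x` in an affine chart. -/
theorem map_stalkMap_maximalIdeal (hU : IsAffineOpen U) (hV : IsAffineOpen V) (e : U ≤ f ⁻¹ᵁ V)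
    (x : X) (hx : x ∈ U) :
    letI := (f.appLE V U e).hom.toAlgebra
    letI := X.presheaf.algebra_section_stalk ⟨x, hx⟩
    Ideal.map (f.stalkMap x).hom (maximalIdeal (S.presheaf.stalk (f x))) =
      (((hU.primeIdealOf ⟨x, hx⟩).asIdeal.under Γ(S, V)).map (algebraMap Γ(S, V) Γ(X, U))).map
        (algebraMap Γ(X, U) (X.presheaf.stalk x)) := by
  letI := (f.appLE V U e).hom.toAlgebra
  letI := X.presheaf.algebra_section_stalk ⟨x, hx⟩
  letI := S.presheaf.algebra_section_stalk ⟨f x, e hx⟩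
  haveI := hV.isLocalization_stalk ⟨f x, e hx⟩
  have hunder : (hU.primeIdealOf ⟨x, hx⟩).asIdeal.under Γ(S, V) =
      (hV.primeIdealOf ⟨f x, e hx⟩).asIdeal :=
    congrArg PrimeSpectrum.asIdeal (IsAffineOpen.comap_primeIdealOf_appLE V hV U hU e hx)
  rw [hunder, ← IsLocalization.AtPrime.map_eq_maximalIdeal (hV.primeIdealOf ⟨f x, e hx⟩).asIdeal
    (S.presheaf.stalk (f x)), Ideal.map_map, Ideal.map_map]
  congr 1
  ext r
  change f.stalkMap x (S.presheaf.germ V (f x) (e hx) r) =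
    X.presheaf.germ U x hx (f.appLE V U e r)
  rw [Scheme.Hom.germ_stalkMap_apply]
  change _ = X.presheaf.germ U x hx (X.presheaf.map (homOfLE e).op (f.app V r))
  rw [TopCat.Presheaf.germ_res_apply]

/-- On affine charts, the local ring of the fibre at `x` has dimension `ht (q / I)`, where `q` is the
prime of `x` and `I = (q ∩ Γ(S,V)) Γ(X,U)`. -/
theorem ringKrullDim_fibre_stalk_eq (hU : IsAffineOpen U) (hV : IsAffineOpen V) (e : U ≤ f ⁻¹ᵁ V)
    (x : X) (hx : x ∈ U) (I : Ideal Γ(X, U))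
    (hI : letI := (f.appLE V U e).hom.toAlgebra
      I = ((hU.primeIdealOf ⟨x, hx⟩).asIdeal.under Γ(S, V)).map (algebraMap Γ(S, V) Γ(X, U))) :
    ringKrullDim ((f.fiber (f x)).presheaf.stalk (f.asFiber x)) =
      ((hU.primeIdealOf ⟨x, hx⟩).asIdeal.map (Ideal.Quotient.mk I)).height := by
  letI := (f.appLE V U e).hom.toAlgebra
  letI := X.presheaf.algebra_section_stalk ⟨x, hx⟩
  haveI := hU.isLocalization_stalk ⟨x, hx⟩
  have hIq : I ≤ (hU.primeIdealOf ⟨x, hx⟩).asIdeal := by
    rw [hI, Ideal.map_le_iff_le_comap]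
  have h1 := map_stalkMap_maximalIdeal f hU hV e x hx
  rw [← hI] at h1
  rw [← ringKrullDim_eq_of_ringEquiv (Groth.Agent.Lib.FibreStalk33.fibreStalkEquiv f x),
    ringKrullDim_eq_of_ringEquiv (Ideal.quotEquivOfEq h1)]
  exact ringKrullDim_quotient_map_eq_height I _ hIq (X.presheaf.stalk x)

/-- For `f` locally of finite type over a locally Noetherian base, every point `x` has a
generization `z` in the same fibre which is a generic point of the fibre (its fibre local ring has
dimension `0`), such that `dim O_{X,z} + dim O_{X_{f x},x} ≤ dim O_{X,x}`. -/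
theorem exists_generization_fibre_generic [IsLocallyNoetherian S] [LocallyOfFiniteType f] (x : X) :
    ∃ z : X, z ⤳ x ∧ f z = f x ∧
      ringKrullDim ((f.fiber (f z)).presheaf.stalk (f.asFiber z)) = 0 ∧
      ringKrullDim (X.presheaf.stalk z) +
        ringKrullDim ((f.fiber (f x)).presheaf.stalk (f.asFiber x)) ≤
        ringKrullDim (X.presheaf.stalk x) := by
  obtain ⟨V, hV, hfxV⟩ : ∃ V : S.Opens, IsAffineOpen V ∧ f x ∈ V := by
    obtain ⟨_, ⟨V, hV, rfl⟩, hxV, -⟩ := S.isBasis_affineOpens.exists_subset_of_mem_open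
      (Set.mem_univ (f x)) isOpen_univ
    exact ⟨V, hV, hxV⟩
  obtain ⟨U, hU, hx, e⟩ : ∃ U : X.Opens, IsAffineOpen U ∧ x ∈ U ∧ U ≤ f ⁻¹ᵁ V := by
    obtain ⟨_, ⟨U, hU, rfl⟩, hxU, hUV⟩ := X.isBasis_affineOpens.exists_subset_of_mem_open
      (show x ∈ ((f ⁻¹ᵁ V : X.Opens) : Set X) from hfxV) (f ⁻¹ᵁ V).isOpen
    exact ⟨U, hU, hxU, hUV⟩
  letI alg := (f.appLE V U e).hom.toAlgebra
  haveI : IsNoetherianRing Γ(S, V) := IsLocallyNoetherian.component_noetherian ⟨V, hV⟩
  haveI : Algebra.FiniteType Γ(S, V) Γ(X, U) := f.finiteType_appLE hV hU e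
  haveI : IsNoetherianRing Γ(X, U) := Algebra.FiniteType.isNoetherianRing Γ(S, V) Γ(X, U)
  obtain ⟨I, hI⟩ : ∃ I : Ideal Γ(X, U),
      I = ((hU.primeIdealOf ⟨x, hx⟩).asIdeal.under Γ(S, V)).map (algebraMap Γ(S, V) Γ(X, U)) :=
    ⟨_, rfl⟩
  have hIq : I ≤ (hU.primeIdealOf ⟨x, hx⟩).asIdeal := by
    rw [hI, Ideal.map_le_iff_le_comap]
  obtain ⟨Q, hQmin, hQq, hQ0, hsum⟩ :=
    exists_minimalPrimes_height_add_le I (hU.primeIdealOf ⟨x, hx⟩).asIdeal hIq
  haveI hQprime : Q.IsPrime := hQmin.1.1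
  have hIQ : I ≤ Q := hQmin.1.2
  let P : Spec Γ(X, U) := ⟨Q, hQprime⟩
  have hzU : hU.fromSpec P ∈ U := by
    have : hU.fromSpec P ∈ Set.range hU.fromSpec := Set.mem_range_self P
    rwa [hU.range_fromSpec] at this
  have hP : hU.primeIdealOf ⟨hU.fromSpec P, hzU⟩ = P :=
    hU.fromSpec.isOpenEmbedding.injective (hU.fromSpec_primeIdealOf ⟨_, hzU⟩)
  have hPQ : (hU.primeIdealOf ⟨hU.fromSpec P, hzU⟩).asIdeal = Q :=
    congrArg PrimeSpectrum.asIdeal hP
  have hund : Q.under Γ(S, V) = (hU.primeIdealOf ⟨x, hx⟩).asIdeal.under Γ(S, V) := by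
    apply le_antisymm (Ideal.comap_mono hQq)
    refine le_trans ?_ (Ideal.comap_mono hIQ)
    rw [hI]
    exact Ideal.le_comap_map
  have hfz : f (hU.fromSpec P) = f x := by
    have h1 : (hU.primeIdealOf ⟨x, hx⟩).asIdeal.under Γ(S, V) =
        (hV.primeIdealOf ⟨f x, e hx⟩).asIdeal :=
      congrArg PrimeSpectrum.asIdeal (IsAffineOpen.comap_primeIdealOf_appLE V hV U hU e hx)
    have h2 : (hU.primeIdealOf ⟨hU.fromSpec P, hzU⟩).asIdeal.under Γ(S, V) =
        (hV.primeIdealOf ⟨f (hU.fromSpec P), e hzU⟩).asIdeal :=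
      congrArg PrimeSpectrum.asIdeal (IsAffineOpen.comap_primeIdealOf_appLE V hV U hU e hzU)
    rw [hP] at h2
    have h3 : hV.primeIdealOf ⟨f (hU.fromSpec P), e hzU⟩ = hV.primeIdealOf ⟨f x, e hx⟩ := by
      apply PrimeSpectrum.ext
      rw [← h2, ← h1]
      exact hund
    have h4 := congrArg hV.fromSpec h3
    rwa [hV.fromSpec_primeIdealOf ⟨_, e hzU⟩, hV.fromSpec_primeIdealOf ⟨_, e hx⟩] at h4
  refine ⟨hU.fromSpec P, ?_, hfz, ?_, ?_⟩
  · have h1 : P ⤳ hU.primeIdealOf ⟨x, hx⟩ := (PrimeSpectrum.le_iff_specializes P _).mp hQq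
    have h2 := h1.map hU.fromSpec.continuous
    rwa [hU.fromSpec_primeIdealOf ⟨x, hx⟩] at h2
  · rw [ringKrullDim_fibre_stalk_eq f hU hV e (hU.fromSpec P) hzU I (by rw [hPQ, hund, hI]), hPQ,
      hQ0]
    rfl
  · have hdimx : ringKrullDim (X.presheaf.stalk x) = (hU.primeIdealOf ⟨x, hx⟩).asIdeal.height := by
      letI := X.presheaf.algebra_section_stalk ⟨x, hx⟩
      haveI := hU.isLocalization_stalk ⟨x, hx⟩
      exact IsLocalization.AtPrime.ringKrullDim_eq_height _ _
    have hdimz : ringKrullDim (X.presheaf.stalk (hU.fromSpec P)) = Q.height := by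
      letI := X.presheaf.algebra_section_stalk ⟨hU.fromSpec P, hzU⟩
      haveI := hU.isLocalization_stalk ⟨hU.fromSpec P, hzU⟩
      rw [hP] at this
      exact IsLocalization.AtPrime.ringKrullDim_eq_height Q _
    rw [hdimx, hdimz, ringKrullDim_fibre_stalk_eq f hU hV e x hx I hI]
    exact_mod_cast hsum

end Sch

end Groth.Agent.Lib.FibreStalkChart
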