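import Groth.Agent.S3403
import Groth.Prelude.Def_EGA43
import Mathlib.AlgebraicGeometry.Morphisms.FinitePresentation
import Mathlib.AlgebraicGeometry.AffineScheme

set_option autoImplicit false
universe u
open CategoryTheory AlgebraicGeometry TopologicalSpace

namespace Groth.Agent.Lib.OpenAt45

theorem exists_le_prime_comap_eq {A B : Type*} [CommRing A] [CommRing B] (φ : A →+* B)
    (p : Ideal B) [p.IsPrime] (q' : Ideal A) [q'.IsPrime]
    (h : ∀ s : B, s ∉ p → ∃ P : Ideal B, P.IsPrime ∧ s ∉ P ∧ P.comap φ = q') :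
    ∃ P : Ideal B, P.IsPrime ∧ P ≤ p ∧ P.comap φ = q' := by
  classical
  let T : Submonoid B := p.primeCompl ⊔ (q'.primeCompl.map φ)
  have hT : ∀ t ∈ T, ∃ s a, s ∉ p ∧ a ∉ q' ∧ t = s * φ a := by
    intro t ht
    obtain ⟨s, hs, b, hb, rfl⟩ := Submonoid.mem_sup.mp ht
    obtain ⟨a, ha, rfl⟩ := Submonoid.mem_map.mp hb
    exact ⟨s, a, hs, ha, rfl⟩
  have hdisj : Disjoint (q'.map φ : Set B) (T : Set B) := by
    rw [Set.disjoint_left]
    intro t htI htT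
    obtain ⟨s, a, hs, ha, rfl⟩ := hT t htT
    obtain ⟨P₀, hP₀, hsP₀, hcomap⟩ := h s hs
    have hI : q'.map φ ≤ P₀ := by
      rw [Ideal.map_le_iff_le_comap, hcomap]
    have h1 : s * φ a ∈ P₀ := hI htI
    rcases hP₀.mem_or_mem h1 with h2 | h2
    · exact hsP₀ h2
    · apply ha
      rw [← hcomap]
      exact h2
  obtain ⟨P, hP, hIP, hPT⟩ := Ideal.exists_le_prime_disjoint (q'.map φ) T hdisj
  refine ⟨P, hP, ?_, ?_⟩
  · intro b hb
    by_contra hbp
    exact Set.disjoint_left.mp hPT hb (Submonoid.mem_sup_left (S := p.primeCompl) hbp)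
  · apply le_antisymm
    · intro a ha
      by_contra haq
      refine Set.disjoint_left.mp hPT ha (Submonoid.mem_sup_right ?_)
      exact Submonoid.mem_map.mpr ⟨a, haq, rfl⟩
    · rw [← Ideal.map_le_iff_le_comap]
      exact hIP

variable {X Y : Scheme.{u}}

theorem map_fromSpec (f : X ⟶ Y) {U : X.Opens} {V : Y.Opens} (hU : IsAffineOpen U)
    (hV : IsAffineOpen V) (e : U ≤ f ⁻¹ᵁ V) (P : Spec Γ(X, U)) :
    f (hU.fromSpec P) = hV.fromSpec (Spec.map (f.appLE V U e) P) := by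
  rw [← Scheme.Hom.comp_apply, ← Scheme.Hom.comp_apply, IsAffineOpen.SpecMap_appLE_fromSpec]

theorem exists_generization_of_isOpenAt (f : X ⟶ Y) (x : X)
    (hopen : EGA43.IsOpenAt f.base x) (y' : Y) (hy' : y' ⤳ f.base x) :
    ∃ x' : X, x' ⤳ x ∧ f.base x' = y' := by
  obtain ⟨_, ⟨V, hV, rfl⟩, hfxV, -⟩ := Y.isBasis_affineOpens.exists_subset_of_mem_open
    (Set.mem_univ (f x)) isOpen_univ
  have hxV : x ∈ f ⁻¹ᵁ V := hfxV
  obtain ⟨_, ⟨U, hU, rfl⟩, hxU, hUV⟩ := X.isBasis_affineOpens.exists_subset_of_mem_open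
    hxV (f ⁻¹ᵁ V).isOpen
  replace hV : IsAffineOpen V := hV
  replace hU : IsAffineOpen U := hU
  have e : U ≤ f ⁻¹ᵁ V := hUV
  let φ := f.appLE V U e
  let p : Spec Γ(X, U) := hU.primeIdealOf ⟨x, hxU⟩
  have hp : hU.fromSpec p = x := hU.fromSpec_primeIdealOf ⟨x, hxU⟩
  have hy'V : y' ∈ V := hy'.mem_open V.isOpen hfxV
  let q' : Spec Γ(Y, V) := hV.primeIdealOf ⟨y', hy'V⟩
  have hq' : hV.fromSpec q' = y' := hV.fromSpec_primeIdealOf ⟨y', hy'V⟩
  have hinjV : Function.Injective hV.fromSpec := hV.fromSpec.isOpenEmbedding.injective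
  have key : ∀ s : Γ(X, U), s ∉ p.asIdeal →
      ∃ P : Ideal Γ(X, U), P.IsPrime ∧ s ∉ P ∧ P.comap φ.hom = q'.asIdeal := by
    intro s hs
    have hxN : x ∈ X.basicOpen s := by
      rw [← hp]
      have : p ∈ hU.fromSpec ⁻¹ᵁ X.basicOpen s := by
        rw [hU.fromSpec_preimage_basicOpen]
        exact hs
      exact this
    have hN : (X.basicOpen s : Set X) ∈ nhds x := (X.basicOpen s).isOpen.mem_nhds hxN
    have h1 : f '' (X.basicOpen s : Set X) ∈ nhds (f x) := hopen _ hN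
    have h2 : y' ∈ f '' (X.basicOpen s : Set X) := mem_of_mem_nhds (hy' h1)
    obtain ⟨x₀, hx₀N, hx₀⟩ := h2
    have hx₀U : x₀ ∈ U := X.basicOpen_le s hx₀N
    let P₀ : Spec Γ(X, U) := hU.primeIdealOf ⟨x₀, hx₀U⟩
    have hP₀ : hU.fromSpec P₀ = x₀ := hU.fromSpec_primeIdealOf ⟨x₀, hx₀U⟩
    refine ⟨P₀.asIdeal, P₀.isPrime, ?_, ?_⟩
    · have : P₀ ∈ hU.fromSpec ⁻¹ᵁ X.basicOpen s := by
        change hU.fromSpec P₀ ∈ X.basicOpen s
        rw [hP₀]; exact hx₀N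
      rw [hU.fromSpec_preimage_basicOpen] at this
      exact this
    · have h3 : hV.fromSpec (Spec.map φ P₀) = hV.fromSpec q' := by
        rw [← map_fromSpec f hU hV e, hP₀, hq']
        exact hx₀
      have h4 := hinjV h3
      exact congrArg PrimeSpectrum.asIdeal h4
  obtain ⟨P, hP, hPp, hPq⟩ := exists_le_prime_comap_eq φ.hom p.asIdeal q'.asIdeal key
  let P' : Spec Γ(X, U) := ⟨P, hP⟩
  refine ⟨hU.fromSpec P', ?_, ?_⟩
  · rw [← hp]
    have : P' ⤳ p := (PrimeSpectrum.le_iff_specializes P' p).mp hPp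
    exact this.map hU.fromSpec.continuous
  · rw [map_fromSpec f hU hV e, ← hq']
    congr 1
    exact PrimeSpectrum.ext hPq

theorem isOpenAt_of_forall_generization (f : X ⟶ Y) [LocallyOfFinitePresentation f] (x : X)
    (hgen : ∀ y' : Y, y' ⤳ f.base x → ∃ x' : X, x' ⤳ x ∧ f.base x' = y') :
    EGA43.IsOpenAt f.base x := by
  intro N hN
  obtain ⟨_, ⟨V, hV, rfl⟩, hfxV, -⟩ := Y.isBasis_affineOpens.exists_subset_of_mem_open
    (Set.mem_univ (f x)) isOpen_univ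
  replace hV : IsAffineOpen V := hV
  obtain ⟨V, rfl⟩ : ∃ V' : Y.Opens, V' = V := ⟨V, rfl⟩
  have hxW : x ∈ (f ⁻¹ᵁ V : Set X) ∩ interior N := ⟨hfxV, mem_interior_iff_mem_nhds.mpr hN⟩
  obtain ⟨_, ⟨U₀, hU₀, rfl⟩, hxU₀, hU₀W⟩ := X.isBasis_affineOpens.exists_subset_of_mem_open
    hxW ((f ⁻¹ᵁ V).isOpen.inter isOpen_interior)
  replace hU₀ : IsAffineOpen U₀ := hU₀
  obtain ⟨U₀, rfl⟩ : ∃ U' : X.Opens, U' = U₀ := ⟨U₀, rfl⟩
  have e : U₀ ≤ f ⁻¹ᵁ V := fun z hz => (hU₀W hz).1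
  have hU₀N : (U₀ : Set X) ⊆ N := fun z hz => interior_subset (hU₀W hz).2
  let g : (U₀ : Scheme.{u}) ⟶ (V : Scheme.{u}) := f.resLE V U₀ e
  have hg : g ≫ V.ι = U₀.ι ≫ f := Scheme.Hom.resLE_comp_ι f e
  have iV : IsAffine (V : Scheme.{u}) := hV
  have iU : IsAffine (U₀ : Scheme.{u}) := hU₀
  have hlfp : LocallyOfFinitePresentation g := inferInstance
  have hqc : QuasiCompact g := inferInstance
  let E : Set (V : Scheme.{u}) := Set.range g
  have hE : Topology.IsLocallyConstructible E := by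
    have := g.isLocallyConstructible_image (s := Set.univ) Topology.IsLocallyConstructible.univ
    rwa [Set.image_univ] at this
  have hE' : ProCons.IsIndConstructible E :=
    Groth.Agent.Lib.ConsTop.isIndConstructible_of_isLocallyConstructible hE
  let y₀ : (V : Scheme.{u}) := ⟨f x, hfxV⟩
  have hint : y₀ ∈ interior E := by
    rw [Groth.Agent.S3403.result (V : Scheme.{u}) E hE' y₀]
    intro y'' hy''
    have h1 : V.ι y'' ⤳ f x := hy''.map V.ι.continuous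
    obtain ⟨x', hx'x, hx'⟩ := hgen _ h1
    have hx'U : x' ∈ U₀ := hx'x.mem_open U₀.isOpen hxU₀
    let z : (U₀ : Scheme.{u}) := ⟨x', hx'U⟩
    refine ⟨z, ?_⟩
    apply V.ι.isOpenEmbedding.injective
    have h5 : V.ι (g z) = (g ≫ V.ι) z := rfl
    rw [h5, hg]
    exact hx'
  have h2 : V.ι '' E ∈ nhds (V.ι y₀) :=
    V.ι.isOpenEmbedding.image_mem_nhds.mpr (mem_interior_iff_mem_nhds.mp hint)
  have h3 : V.ι '' E ⊆ f '' N := by
    rintro _ ⟨_, ⟨z, rfl⟩, rfl⟩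
    refine ⟨U₀.ι z, hU₀N z.2, ?_⟩
    have h5 : V.ι (g z) = (g ≫ V.ι) z := rfl
    rw [h5, hg]
    rfl
  exact Filter.mem_of_superset h2 h3

end Groth.Agent.Lib.OpenAt45
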