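import Mathlib
import Groth.Agent.Lib.H56OpenDim
import Groth.Agent.Lib.FibreStalkChart
import Groth.Agent.Lib.OpenAt45
import Groth.Agent.Lib.DimFibre33

/-!
# Morphisms open at a point do not lower the dimension of local rings (EGA IV 14.2.1)

`Groth.Agent.Lib.H56OpenDim` (scheme part):

* `comap_stalkMap_surjective_of_isOpenAt`: if `f` is open at `z`, then
  `Spec O_{X,z} → Spec O_{Y,f z}` is surjective.
* `ringKrullDim_stalk_le_of_isOpenAt`: for locally Noetherian `X`, `Y` and `f` open at `z`,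
  `dim O_{Y,f z} ≤ dim O_{X,z}`.
-/

set_option autoImplicit false
universe u

namespace Groth.Agent.Lib.H56OpenDim

open AlgebraicGeometry CategoryTheory

variable {X Y : Scheme.{u}}

/-- If `f` is open at `z`, then `Spec O_{X,z} → Spec O_{Y,f z}` is surjective. -/
theorem comap_stalkMap_surjective_of_isOpenAt (f : X ⟶ Y) (z : X)
    (hopen : EGA43.IsOpenAt f.base z) :
    Function.Surjective (PrimeSpectrum.comap (f.stalkMap z).hom) := by
  intro P
  let P' : ↥(Spec (Y.presheaf.stalk (f z))) := P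
  have hy' : Y.fromSpecStalk (f z) P' ⤳ f z := by
    have : Y.fromSpecStalk (f z) P' ∈ Set.range (Y.fromSpecStalk (f z)) := ⟨P', rfl⟩
    rwa [Scheme.range_fromSpecStalk] at this
  obtain ⟨x', hx', hfx'⟩ :=
    Groth.Agent.Lib.OpenAt45.exists_generization_of_isOpenAt f z hopen _ hy'
  have hx'r : x' ∈ Set.range (X.fromSpecStalk z) := by
    rw [Scheme.range_fromSpecStalk]; exact hx'
  obtain ⟨𝔮, rfl⟩ := hx'r
  refine ⟨𝔮, ?_⟩
  have hinj : Function.Injective (Y.fromSpecStalk (f z)) :=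
    (Y.fromSpecStalk (f z)).isEmbedding.injective
  apply hinj
  have h1 := Scheme.SpecMap_stalkMap_fromSpecStalk (f := f) (x := z)
  have h2 : (Spec.map (f.stalkMap z) ≫ Y.fromSpecStalk (f z)) 𝔮 = (X.fromSpecStalk z ≫ f) 𝔮 := by
    rw [h1]
  rw [Scheme.Hom.comp_apply, Scheme.Hom.comp_apply] at h2
  exact h2.trans hfx'

/-- For locally Noetherian `X`, `Y` and `f` open at `z`, `dim O_{Y,f z} ≤ dim O_{X,z}`. -/
theorem ringKrullDim_stalk_le_of_isOpenAt [IsLocallyNoetherian X] [IsLocallyNoetherian Y]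
    (f : X ⟶ Y) (z : X) (hopen : EGA43.IsOpenAt f.base z) :
    ringKrullDim (Y.presheaf.stalk (f z)) ≤ ringKrullDim (X.presheaf.stalk z) :=
  ringKrullDim_le_of_comap_surjective (f.stalkMap z).hom
    (comap_stalkMap_surjective_of_isOpenAt f z hopen)

/-- A point whose fibre local ring has dimension `0` has no proper generization in its fibre. -/
theorem eq_of_specializes_of_fibre_stalk_dim_zero (f : X ⟶ Y) (z : X)
    (h0 : ringKrullDim ((f.fiber (f z)).presheaf.stalk (f.asFiber z)) = 0)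
    (w : X) (hw : w ⤳ z) (hfw : f w = f z) : w = z := by
  have hwr : w ∈ Set.range (f.fiberι (f z)) := by
    rw [Scheme.Hom.range_fiberι]; exact hfw
  obtain ⟨w₀, rfl⟩ := hwr
  have hsp : w₀ ⤳ f.asFiber z := by
    rw [← (f.fiberι (f z)).isEmbedding.isInducing.specializes_iff, f.fiberι_asFiber]
    exact hw
  have hw₀r : w₀ ∈ Set.range ((f.fiber (f z)).fromSpecStalk (f.asFiber z)) := by
    rw [Scheme.range_fromSpecStalk]; exact hsp
  obtain ⟨𝔮, rfl⟩ := hw₀r
  have hK : Ring.KrullDimLE 0 ((f.fiber (f z)).presheaf.stalk (f.asFiber z)) :=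
    (Ring.krullDimLE_iff).mpr h0.le
  have hsub : Subsingleton (PrimeSpectrum ((f.fiber (f z)).presheaf.stalk (f.asFiber z))) :=
    Ring.KrullDimLE.subsingleton_primeSpectrum _
  have h𝔮 : 𝔮 = IsLocalRing.closedPoint ((f.fiber (f z)).presheaf.stalk (f.asFiber z)) :=
    hsub.elim _ _
  rw [h𝔮, Scheme.fromSpecStalk_closedPoint, f.fiberι_asFiber]

open Groth.Agent.Lib.FibreStalkChart in
/-- Variant of `FibreStalkChart.exists_generization_fibre_generic` for a locally Noetherian source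
(no finiteness assumption on `f`): every point `x` has a generization `z` in the same fibre which is
a generic point of the fibre (its fibre local ring has dimension `0`), such that
`dim O_{X,z} + dim O_{X_{f x},x} ≤ dim O_{X,x}`. -/
theorem exists_generization_fibre_generic' [IsLocallyNoetherian X] (f : X ⟶ Y) (x : X) :
    ∃ z : X, z ⤳ x ∧ f z = f x ∧
      ringKrullDim ((f.fiber (f z)).presheaf.stalk (f.asFiber z)) = 0 ∧
      ringKrullDim (X.presheaf.stalk z) +
        ringKrullDim ((f.fiber (f x)).presheaf.stalk (f.asFiber x)) ≤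
        ringKrullDim (X.presheaf.stalk x) := by
  obtain ⟨V, hV, hfxV⟩ : ∃ V : Y.Opens, IsAffineOpen V ∧ f x ∈ V := by
    obtain ⟨_, ⟨V, hV, rfl⟩, hxV, -⟩ := Y.isBasis_affineOpens.exists_subset_of_mem_open
      (Set.mem_univ (f x)) isOpen_univ
    exact ⟨V, hV, hxV⟩
  obtain ⟨U, hU, hx, e⟩ : ∃ U : X.Opens, IsAffineOpen U ∧ x ∈ U ∧ U ≤ f ⁻¹ᵁ V := by
    obtain ⟨_, ⟨U, hU, rfl⟩, hxU, hUV⟩ := X.isBasis_affineOpens.exists_subset_of_mem_open
      (show x ∈ ((f ⁻¹ᵁ V : X.Opens) : Set X) from hfxV) (f ⁻¹ᵁ V).isOpen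
    exact ⟨U, hU, hxU, hUV⟩
  let alg := (f.appLE V U e).hom.toAlgebra
  have : IsNoetherianRing Γ(X, U) := IsLocallyNoetherian.component_noetherian ⟨U, hU⟩
  obtain ⟨I, hI⟩ : ∃ I : Ideal Γ(X, U),
      I = ((hU.primeIdealOf ⟨x, hx⟩).asIdeal.under Γ(Y, V)).map (algebraMap Γ(Y, V) Γ(X, U)) :=
    ⟨_, rfl⟩
  have hIq : I ≤ (hU.primeIdealOf ⟨x, hx⟩).asIdeal := by
    rw [hI, Ideal.map_le_iff_le_comap]
  obtain ⟨Q, hQmin, hQq, hQ0, hsum⟩ :=
    exists_minimalPrimes_height_add_le I (hU.primeIdealOf ⟨x, hx⟩).asIdeal hIq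
  have hQprime : Q.IsPrime := hQmin.1.1
  have hIQ : I ≤ Q := hQmin.1.2
  let P : Spec Γ(X, U) := ⟨Q, hQprime⟩
  have hzU : hU.fromSpec P ∈ U := by
    have : hU.fromSpec P ∈ Set.range hU.fromSpec := Set.mem_range_self P
    rwa [hU.range_fromSpec] at this
  have hP : hU.primeIdealOf ⟨hU.fromSpec P, hzU⟩ = P :=
    hU.fromSpec.isOpenEmbedding.injective (hU.fromSpec_primeIdealOf ⟨_, hzU⟩)
  have hPQ : (hU.primeIdealOf ⟨hU.fromSpec P, hzU⟩).asIdeal = Q :=
    congrArg PrimeSpectrum.asIdeal hP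
  have hund : Q.under Γ(Y, V) = (hU.primeIdealOf ⟨x, hx⟩).asIdeal.under Γ(Y, V) := by
    apply le_antisymm (Ideal.comap_mono hQq)
    refine le_trans ?_ (Ideal.comap_mono hIQ)
    rw [hI]
    exact Ideal.le_comap_map
  have hfz : f (hU.fromSpec P) = f x := by
    have h1 : (hU.primeIdealOf ⟨x, hx⟩).asIdeal.under Γ(Y, V) =
        (hV.primeIdealOf ⟨f x, e hx⟩).asIdeal :=
      congrArg PrimeSpectrum.asIdeal (IsAffineOpen.comap_primeIdealOf_appLE V hV U hU e hx)
    have h2 : (hU.primeIdealOf ⟨hU.fromSpec P, hzU⟩).asIdeal.under Γ(Y, V) =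
        (hV.primeIdealOf ⟨f (hU.fromSpec P), e hzU⟩).asIdeal :=
      congrArg PrimeSpectrum.asIdeal (IsAffineOpen.comap_primeIdealOf_appLE V hV U hU e hzU)
    rw [hP] at h2
    have h3 : hV.primeIdealOf ⟨f (hU.fromSpec P), e hzU⟩ = hV.primeIdealOf ⟨f x, e hx⟩ := by
      apply PrimeSpectrum.ext
      rw [← h2, ← h1]
      exact hund
    have h4 := congrArg hV.fromSpec h3
    rwa [hV.fromSpec_primeIdealOf ⟨_, e hzU⟩, hV.fromSpec_primeIdealOf ⟨_, e hx⟩] at h4
  refine ⟨hU.fromSpec P, ?_, hfz, ?_, ?_⟩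
  · have h1 : P ⤳ hU.primeIdealOf ⟨x, hx⟩ := (PrimeSpectrum.le_iff_specializes P _).mp hQq
    have h2 := h1.map hU.fromSpec.continuous
    rwa [hU.fromSpec_primeIdealOf ⟨x, hx⟩] at h2
  · rw [ringKrullDim_fibre_stalk_eq f hU hV e (hU.fromSpec P) hzU I (by rw [hPQ, hund, hI]), hPQ,
      hQ0]
    rfl
  · have hdimx : ringKrullDim (X.presheaf.stalk x) = (hU.primeIdealOf ⟨x, hx⟩).asIdeal.height := by
      let _ := X.presheaf.algebra_section_stalk ⟨x, hx⟩
      have := hU.isLocalization_stalk ⟨x, hx⟩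
      exact IsLocalization.AtPrime.ringKrullDim_eq_height _ _
    have hdimz : ringKrullDim (X.presheaf.stalk (hU.fromSpec P)) = Q.height := by
      let _ := X.presheaf.algebra_section_stalk ⟨hU.fromSpec P, hzU⟩
      have := hU.isLocalization_stalk ⟨hU.fromSpec P, hzU⟩
      rw [hP] at this
      exact IsLocalization.AtPrime.ringKrullDim_eq_height Q _
    rw [hdimx, hdimz, ringKrullDim_fibre_stalk_eq f hU hV e x hx I hI]
    exact_mod_cast hsum

/-- **EGA IV 14.2.1.**  Let `f : X ⟶ Y` be a morphism of locally Noetherian schemes and `x ∈ X`.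
If `f` is open at every generization `z` of `x` in the fibre through `x` whose fibre local ring has
dimension `0` (i.e. at the generic points of the irreducible components of the fibre through `x`),
then `dim O_{X,x} = dim O_{Y,f x} + dim O_{X_{f x},x}`. -/
theorem ringKrullDim_stalk_eq_add_of_isOpenAt [IsLocallyNoetherian X] [IsLocallyNoetherian Y]
    (f : X ⟶ Y) (x : X)
    (h : ∀ z : X, z ⤳ x → f z = f x →
      ringKrullDim ((f.fiber (f z)).presheaf.stalk (f.asFiber z)) = 0 → EGA43.IsOpenAt f.base z) :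
    ringKrullDim (X.presheaf.stalk x) =
      ringKrullDim (Y.presheaf.stalk (f x)) +
        ringKrullDim ((f.fiber (f x)).presheaf.stalk (f.asFiber x)) := by
  apply le_antisymm
  · have h1 := Groth.Agent.Lib.DimFibre33.ringKrullDim_le_add' (f.stalkMap x).hom
    rwa [ringKrullDim_eq_of_ringEquiv (Groth.Agent.Lib.FibreStalk33.fibreStalkEquiv f x)] at h1
  · obtain ⟨z, hzx, hfz, h0, hsum⟩ := exists_generization_fibre_generic' f x
    have hle := ringKrullDim_stalk_le_of_isOpenAt f z (h z hzx hfz h0)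
    rw [hfz] at hle
    exact le_trans (add_le_add_left hle _) hsum

end Groth.Agent.Lib.H56OpenDim
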