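import Mathlib
import Groth.Agent.Lib.H56OpenDimRing
import Groth.Agent.Lib.H56OpenDimSch

/-!
# Morphisms open at a point: transcendence degrees at generizations (EGA IV 14.2)

* `exists_generization_trdeg_le`: `f : X ⟶ Y` locally of finite type, `Y` locally Noetherian, `f` open
  at `ζ`, `y' ⤳ f ζ`.  Then there is `ξ ⤳ ζ` with `f ξ = y'` and
  `trdeg κ(ζ)/κ(f ζ) ≤ trdeg κ(ξ)/κ(y')`.
-/

set_option autoImplicit false
universe u

namespace Groth.Agent.Lib.H56OpenDim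

open AlgebraicGeometry CategoryTheory Groth.Agent.Lib.DimIneqScheme

variable {X Y : Scheme.{u}}

/-- `f` open at `ζ`, `y' ⤳ f ζ`: there is a generization `ξ` of `ζ` over `y'` whose residue field
extension has transcendence degree at least that of `ζ`. -/
theorem exists_generization_trdeg_le [IsLocallyNoetherian Y] (f : X ⟶ Y) [LocallyOfFiniteType f]
    (ζ : X) (hopen : EGA43.IsOpenAt f.base ζ) (y' : Y) (hy' : y' ⤳ f ζ) :
    ∃ ξ : X, ξ ⤳ ζ ∧ f ξ = y' ∧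
      (letI := (f.residueFieldMap ζ).hom.toAlgebra
       Algebra.trdeg (Y.residueField (f ζ)) (X.residueField ζ)) ≤
      (letI := (f.residueFieldMap ξ).hom.toAlgebra
       Algebra.trdeg (Y.residueField (f ξ)) (X.residueField ξ)) := by
  obtain ⟨V, hV, hfζV⟩ : ∃ V : Y.Opens, IsAffineOpen V ∧ f ζ ∈ V := by
    obtain ⟨_, ⟨V, hV, rfl⟩, hxV, -⟩ := Y.isBasis_affineOpens.exists_subset_of_mem_open
      (Set.mem_univ (f ζ)) isOpen_univ
    exact ⟨V, hV, hxV⟩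
  obtain ⟨U, hU, hζU, e⟩ : ∃ U : X.Opens, IsAffineOpen U ∧ ζ ∈ U ∧ U ≤ f ⁻¹ᵁ V := by
    obtain ⟨_, ⟨U, hU, rfl⟩, hxU, hUV⟩ := X.isBasis_affineOpens.exists_subset_of_mem_open
      (show ζ ∈ ((f ⁻¹ᵁ V : X.Opens) : Set X) from hfζV) (f ⁻¹ᵁ V).isOpen
    exact ⟨U, hU, hxU, hUV⟩
  let alg := (f.appLE V U e).hom.toAlgebra
  have : IsNoetherianRing Γ(Y, V) := IsLocallyNoetherian.component_noetherian ⟨V, hV⟩
  have : Algebra.FiniteType Γ(Y, V) Γ(X, U) := f.finiteType_appLE hV hU e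
  have hinjV : Function.Injective hV.fromSpec := hV.fromSpec.isOpenEmbedding.injective
  have hinjU : Function.Injective hU.fromSpec := hU.fromSpec.isOpenEmbedding.injective
  -- the prime of `ζ`
  set q : Spec Γ(X, U) := hU.primeIdealOf ⟨ζ, hζU⟩ with hq
  have hqζ : hU.fromSpec q = ζ := hU.fromSpec_primeIdealOf ⟨ζ, hζU⟩
  -- contraction of the prime of a point of `U`
  have hunder : ∀ (x : X) (hx : x ∈ U), (hU.primeIdealOf ⟨x, hx⟩).asIdeal.under Γ(Y, V) =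
      (hV.primeIdealOf ⟨f x, e hx⟩).asIdeal := fun x hx =>
    congrArg PrimeSpectrum.asIdeal (IsAffineOpen.comap_primeIdealOf_appLE V hV U hU e hx)
  -- going down at `q`
  have hgd : ∀ P' : Ideal Γ(Y, V), P'.IsPrime → P' ≤ q.asIdeal.under Γ(Y, V) →
      ∃ Q' : Ideal Γ(X, U), Q'.IsPrime ∧ Q' ≤ q.asIdeal ∧ Q'.under Γ(Y, V) = P' := by
    intro P' hP' hle
    let P'' : Spec Γ(Y, V) := ⟨P', hP'⟩
    have hsp : hV.fromSpec P'' ⤳ f ζ := by
      have h1 : P'' ⤳ hV.primeIdealOf ⟨f ζ, e hζU⟩ := by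
        refine (PrimeSpectrum.le_iff_specializes (⟨P', hP'⟩ : PrimeSpectrum Γ(Y, V))
          (hV.primeIdealOf ⟨f ζ, e hζU⟩)).mp ?_
        change P' ≤ _
        rw [← hunder ζ hζU]
        exact hle
      have h2 := h1.map hV.fromSpec.continuous
      rwa [hV.fromSpec_primeIdealOf ⟨f ζ, e hζU⟩] at h2
    obtain ⟨x', hx'ζ, hfx'⟩ :=
      Groth.Agent.Lib.OpenAt45.exists_generization_of_isOpenAt f ζ hopen _ hsp
    have hx'U : x' ∈ U := hx'ζ.mem_open U.isOpen hζU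
    refine ⟨(hU.primeIdealOf ⟨x', hx'U⟩).asIdeal, (hU.primeIdealOf ⟨x', hx'U⟩).isPrime, ?_, ?_⟩
    · have h2 : (hU.primeIdealOf ⟨x', hx'U⟩ : Spec Γ(X, U)) ⤳ q :=
        hU.fromSpec.isOpenEmbedding.isInducing.specializes_iff.mp (by
          rw [hU.fromSpec_primeIdealOf ⟨x', hx'U⟩, hqζ]; exact hx'ζ)
      exact (PrimeSpectrum.le_iff_specializes _ q).mpr h2
    · rw [hunder x' hx'U]
      have h3 : hV.primeIdealOf ⟨f x', e hx'U⟩ = P'' := by
        apply hinjV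
        rw [hV.fromSpec_primeIdealOf ⟨f x', e hx'U⟩]
        exact hfx'
      exact congrArg PrimeSpectrum.asIdeal h3
  -- the prime of `y'`
  have hy'V : y' ∈ V := hy'.mem_open V.isOpen hfζV
  set P₀ : Spec Γ(Y, V) := hV.primeIdealOf ⟨y', hy'V⟩ with hP₀
  have hP₀y' : hV.fromSpec P₀ = y' := hV.fromSpec_primeIdealOf ⟨y', hy'V⟩
  have hP₀le : P₀.asIdeal ≤ q.asIdeal.under Γ(Y, V) := by
    rw [hunder ζ hζU]
    have h2 : (P₀ : Spec Γ(Y, V)) ⤳ hV.primeIdealOf ⟨f ζ, e hζU⟩ :=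
      hV.fromSpec.isOpenEmbedding.isInducing.specializes_iff.mp (by
        rw [hV.fromSpec_primeIdealOf ⟨f ζ, e hζU⟩, hP₀y']; exact hy')
    exact (PrimeSpectrum.le_iff_specializes P₀ _).mpr h2
  have hP₀prime : P₀.asIdeal.IsPrime := P₀.isPrime
  have hqprime : q.asIdeal.IsPrime := q.isPrime
  obtain ⟨Q₀, hQ₀prime, hQ₀q, hQ₀under, htr⟩ :=
    exists_prime_under_eq_trdeg_le q.asIdeal hgd P₀.asIdeal hP₀le
  let Q : Spec Γ(X, U) := ⟨Q₀, hQ₀prime⟩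
  have hξU : hU.fromSpec Q ∈ U := by
    have : hU.fromSpec Q ∈ Set.range hU.fromSpec := Set.mem_range_self Q
    rwa [hU.range_fromSpec] at this
  have hQ : hU.primeIdealOf ⟨hU.fromSpec Q, hξU⟩ = Q :=
    hinjU (hU.fromSpec_primeIdealOf ⟨_, hξU⟩)
  have hQ' : (hU.primeIdealOf ⟨hU.fromSpec Q, hξU⟩).asIdeal = Q₀ := congrArg PrimeSpectrum.asIdeal hQ
  refine ⟨hU.fromSpec Q, ?_, ?_, ?_⟩
  · have h1 : Q ⤳ q := (PrimeSpectrum.le_iff_specializes Q q).mp hQ₀q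
    have h2 := h1.map hU.fromSpec.continuous
    rwa [hqζ] at h2
  · have h1 := hunder (hU.fromSpec Q) hξU
    rw [hQ', hQ₀under] at h1
    have h2 : hV.primeIdealOf ⟨f (hU.fromSpec Q), e hξU⟩ = P₀ := (PrimeSpectrum.ext h1).symm
    have h3 := congrArg hV.fromSpec h2
    rwa [hV.fromSpec_primeIdealOf ⟨_, e hξU⟩, hP₀y'] at h3
  · rw [trdeg_residueField_eq f hU hV e ζ hζU, trdeg_residueField_eq f hU hV e _ hξU]
    have h1 : Algebra.trdeg (Γ(Y, V) ⧸ (hU.primeIdealOf ⟨hU.fromSpec Q, hξU⟩).asIdeal.under Γ(Y, V))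
        (Γ(X, U) ⧸ (hU.primeIdealOf ⟨hU.fromSpec Q, hξU⟩).asIdeal) =
        Algebra.trdeg (Γ(Y, V) ⧸ Q₀.under Γ(Y, V)) (Γ(X, U) ⧸ Q₀) := by
      rw [hQ]
    rw [h1]
    exact htr

end Groth.Agent.Lib.H56OpenDim
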