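import Mathlib
import Groth.Agent.Lib.H56OpenDimSch2
import Groth.Agent.Lib.H30FibRes
import Groth.Agent.Lib.H56FibDimSup

/-!
# Dimension of fibres via transcendence degrees, and open morphisms (EGA IV 14.2)

* `tdeg f x`: `trdeg κ(x)/κ(f x)` as a natural number.
* `tdeg_le_dim_fiber`, `exists_le_tdeg_of_le_dim_fiber`: `dim f⁻¹(y) = sup_{x ∈ f⁻¹(y)} tdeg f x`.
* `dim_fiber_le_of_specializes_of_isOpenAt`: if `f` is open at all points of `f⁻¹(y)` and `y' ⤳ y`,
  then `dim f⁻¹(y) ≤ dim f⁻¹(y')`.
-/

set_option autoImplicit false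
universe u

namespace Groth.Agent.Lib.H56OpenDim

open AlgebraicGeometry CategoryTheory Groth.Agent.Lib.H30DimField Groth.Agent.Lib.H30FibRes

variable {X Y : Scheme.{u}}

/-- `trdeg κ(x)/κ(f x)` as a natural number. -/
noncomputable def tdeg (f : X ⟶ Y) (x : X) : ℕ :=
  letI := (f.residueFieldMap x).hom.toAlgebra
  Cardinal.toNat (Algebra.trdeg (Y.residueField (f x)) (X.residueField x))

theorem trdeg_eq_tdeg (f : X ⟶ Y) [LocallyOfFiniteType f] (x : X) :
    (letI := (f.residueFieldMap x).hom.toAlgebra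
     Algebra.trdeg (Y.residueField (f x)) (X.residueField x)) = (tdeg f x : Cardinal.{u}) := by
  let _ := (f.residueFieldMap x).hom.toAlgebra
  let _ := fiberOver f (f x)
  have := lft_fiber f (f x)
  have h1 : Algebra.trdeg (Y.residueField (f x)) (X.residueField x) =
      (((td (Y.residueField (f x)) (f.fiber (f x)) (f.asFiber x)).toNat : ℕ) : Cardinal.{u}) :=
    (trdeg_asFiber_eq f x).symm.trans
      (trdeg_eq_td (Y.residueField (f x)) (f.fiber (f x)) (f.asFiber x))
  unfold tdeg
  rw [h1, Cardinal.toNat_natCast]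

/-- the fibre has dimension at least `trdeg κ(x)/κ(f x)` -/
theorem tdeg_le_dim_fiber (f : X ⟶ Y) [LocallyOfFiniteType f] (x : X) :
    (tdeg f x : WithBot ℕ∞) ≤ topologicalKrullDim (f.fiber (f x)) := by
  have h1 := krullDim_closure_asFiber f x (tdeg f x) (trdeg_eq_tdeg f x)
  rw [← h1]
  exact topologicalKrullDim_subspace_le _ _

theorem tdeg_le_dim_fiber' (f : X ⟶ Y) [LocallyOfFiniteType f] (x : X) (y : Y) (h : f x = y) :
    (tdeg f x : WithBot ℕ∞) ≤ topologicalKrullDim (f.fiber y) := by
  subst h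
  exact tdeg_le_dim_fiber f x

/-- `td` of a point of the fibre is `tdeg` of its image -/
theorem td_fiber_eq (f : X ⟶ Y) [LocallyOfFiniteType f] (y : Y) (w : f.fiber y) :
    letI := fiberOver f y
    td (Y.residueField y) (f.fiber y) w = (tdeg f (f.fiberι y w) : ℤ) := by
  let _ := fiberOver f y
  have := lft_fiber f y
  apply td_eq_of_trdeg_eq
  rw [trdeg_fiber_eq f y w, trdeg_eq_tdeg f (f.fiberι y w)]

/-- if the fibre has dimension at least `n`, some point of it has `tdeg ≥ n` -/
theorem exists_le_tdeg_of_le_dim_fiber (f : X ⟶ Y) [LocallyOfFiniteType f] (y : Y) (n : ℕ)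
    (h : (n : WithBot ℕ∞) ≤ topologicalKrullDim (f.fiber y)) :
    ∃ x : X, f x = y ∧ n ≤ tdeg f x := by
  let _ := fiberOver f y
  have := lft_fiber f y
  have hfib : ∀ w : f.fiber y, f (f.fiberι y w) = y := fun w => (f.fiberHomeo y w).2
  cases n with
  | zero =>
    obtain ⟨x, hx, -⟩ := (Groth.Agent.Lib.H56LocDim.le_dim_fiber_iff f y 0).mp h
    exact ⟨x, hx, Nat.zero_le _⟩
  | succ m =>
    by_contra hcon
    push Not at hcon
    have hle : topologicalKrullDim (f.fiber y) ≤ (m : WithBot ℕ∞) := by
      refine krullDim_le (td (Y.residueField y) (f.fiber y))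
        (isDimensionFunction_of_isDimFun (isDimFun (Y.residueField y) (f.fiber y)))
        (fun w => td_nonneg _ _ w) m (fun w => ?_)
      rw [td_fiber_eq f y w]
      have := hcon (f.fiberι y w) (hfib w)
      exact_mod_cast Nat.lt_succ_iff.mp this
    have h2 := h.trans hle
    have : (m + 1 : ℕ) ≤ m := by exact_mod_cast h2
    omega

/-- a `WithBot ℕ∞` inequality can be tested on natural numbers -/
theorem withBot_enat_le_of_forall_nat (a b : WithBot ℕ∞)
    (h : ∀ n : ℕ, (n : WithBot ℕ∞) ≤ a → (n : WithBot ℕ∞) ≤ b) : a ≤ b := by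
  induction a using WithBot.recBotCoe with
  | bot => exact bot_le
  | coe a =>
    induction b using WithBot.recBotCoe with
    | bot =>
      have := h 0 (by exact_mod_cast (zero_le (a := a)))
      simp at this
    | coe b =>
      have : a ≤ b := by
        rw [← ENat.forall_natCast_le_iff_le]
        intro n hn
        have := h n (by exact_mod_cast hn)
        exact_mod_cast this
      exact_mod_cast this

/-- **EGA IV 14.2.2-type statement.** If `f` (locally of finite type over a locally Noetherian base)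
is open at all points of the fibre over `y`, then for every generization `y'` of `y` the fibre over
`y'` has dimension at least that of the fibre over `y`. -/
theorem dim_fiber_le_of_specializes_of_isOpenAt [IsLocallyNoetherian Y] (f : X ⟶ Y)
    [LocallyOfFiniteType f] (y : Y) (hopen : ∀ x : X, f x = y → EGA43.IsOpenAt f.base x)
    (y' : Y) (hy' : y' ⤳ y) :
    topologicalKrullDim (f.fiber y) ≤ topologicalKrullDim (f.fiber y') := by
  apply withBot_enat_le_of_forall_nat
  intro n hn
  obtain ⟨ζ, hζ, hnζ⟩ := exists_le_tdeg_of_le_dim_fiber f y n hn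
  subst hζ
  obtain ⟨ξ, -, hξ, htr⟩ := exists_generization_trdeg_le f ζ (hopen ζ rfl) y' hy'
  rw [trdeg_eq_tdeg f ζ, trdeg_eq_tdeg f ξ] at htr
  have h1 : tdeg f ζ ≤ tdeg f ξ := by exact_mod_cast htr
  have h2 := tdeg_le_dim_fiber' f ξ y' hξ
  refine le_trans ?_ h2
  exact_mod_cast hnζ.trans h1

end Groth.Agent.Lib.H56OpenDim
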