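import Mathlib
import Groth.Agent.Lib.H56OpenFibDim
import Groth.Agent.Lib.H56ConsNhds
import Groth.Agent.S0402

/-!
# Semicontinuity of the fibre dimension on the target

* `isClosed_le_fibreDimAt`: `{x | n ≤ dim_x f⁻¹(f x)}` is closed (Chevalley).
* `image_le_fibreDimAt`: its image is `{z | n ≤ dim f⁻¹(z)}`.
* `isClosed_le_dim_fiber`: for a closed map, `{z | n ≤ dim f⁻¹(z)}` is closed.
* `exists_nhds_dim_fiber_le`: for a closed map, `dim f⁻¹(z) ≤ dim f⁻¹(y)` near `y`.
-/

set_option autoImplicit false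
universe u

namespace Groth.Agent.Lib.H56OpenDim

open AlgebraicGeometry CategoryTheory Groth.Agent.Lib.H56LocDim

variable {X Y : Scheme.{u}}

/-- Chevalley: `{x | n ≤ dim_x f⁻¹(f x)}` is closed. -/
theorem isClosed_le_fibreDimAt (f : X ⟶ Y) [LocallyOfFiniteType f] (n : ℕ) :
    IsClosed {x : X | (n : WithBot ℕ∞) ≤ FlatMor.fibreDimAt f x} := by
  cases n with
  | zero =>
    have : {x : X | ((0 : ℕ) : WithBot ℕ∞) ≤ FlatMor.fibreDimAt f x} = Set.univ := by
      ext x
      simp only [Set.mem_ofPred_eq, Set.mem_univ, iff_true]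
      exact_mod_cast fibreDimAt_nonneg f x
    rw [this]
    exact isClosed_univ
  | succ m =>
    have : {x : X | ((m + 1 : ℕ) : WithBot ℕ∞) ≤ FlatMor.fibreDimAt f x} =
        {x : X | FlatMor.fibreDimAt f x ≤ m}ᶜ := by
      ext x
      simp only [Set.mem_ofPred_eq, Set.mem_compl_iff, ← lt_succ_iff_le, not_lt]
    rw [this]
    exact (Groth.Agent.S0402.result f m).isClosed_compl

theorem image_le_fibreDimAt (f : X ⟶ Y) (n : ℕ) :
    f.base '' {x : X | (n : WithBot ℕ∞) ≤ FlatMor.fibreDimAt f x} =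
      {z : Y | (n : WithBot ℕ∞) ≤ topologicalKrullDim (f.fiber z)} := by
  ext z
  simp only [Set.mem_image, Set.mem_ofPred_eq, le_dim_fiber_iff]
  constructor
  · rintro ⟨x, hx, rfl⟩
    exact ⟨x, rfl, hx⟩
  · rintro ⟨x, rfl, hx⟩
    exact ⟨x, hx, rfl⟩

/-- for a closed map, `{z | n ≤ dim f⁻¹(z)}` is closed -/
theorem isClosed_le_dim_fiber (f : X ⟶ Y) [LocallyOfFiniteType f] (hcl : IsClosedMap f.base)
    (n : ℕ) : IsClosed {z : Y | (n : WithBot ℕ∞) ≤ topologicalKrullDim (f.fiber z)} := by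
  rw [← image_le_fibreDimAt]
  exact hcl _ (isClosed_le_fibreDimAt f n)

/-- for a closed map, `dim f⁻¹(z) ≤ dim f⁻¹(y)` for `z` near `y` -/
theorem exists_nhds_dim_fiber_le (f : X ⟶ Y) [LocallyOfFiniteType f] (hcl : IsClosedMap f.base)
    (y : Y) : ∃ V ∈ nhds y, ∀ z ∈ V,
      topologicalKrullDim (f.fiber z) ≤ topologicalKrullDim (f.fiber y) := by
  obtain ⟨d, hd⟩ : ∃ d, topologicalKrullDim (f.fiber y) = d := ⟨_, rfl⟩
  induction d using WithBot.recBotCoe with
  | bot =>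
    have hy : y ∉ {z : Y | ((0 : ℕ) : WithBot ℕ∞) ≤ topologicalKrullDim (f.fiber z)} := by
      simp [hd]
    refine ⟨_, (isClosed_le_dim_fiber f hcl 0).isOpen_compl.mem_nhds hy, fun z hz => ?_⟩
    rw [hd]
    simp only [Set.mem_compl_iff, Set.mem_ofPred_eq, not_le] at hz
    obtain ⟨a, ha⟩ : ∃ a, topologicalKrullDim (f.fiber z) = a := ⟨_, rfl⟩
    rw [ha] at hz ⊢
    induction a using WithBot.recBotCoe with
    | bot => exact le_refl _
    | coe b =>
      exfalso
      have h1 : ((b : ℕ∞) : WithBot ℕ∞) < ((0 : ℕ∞) : WithBot ℕ∞) := by exact_mod_cast hz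
      exact not_lt_zero (WithBot.coe_lt_coe.mp h1)
  | coe d =>
    induction d using ENat.recTopCoe with
    | top => exact ⟨Set.univ, Filter.univ_mem, fun z _ => by rw [hd]; exact le_top⟩
    | coe k =>
      have hy : y ∉ {z : Y | ((k + 1 : ℕ) : WithBot ℕ∞) ≤ topologicalKrullDim (f.fiber z)} := by
        simp only [Set.mem_ofPred_eq, hd, not_le]
        exact_mod_cast Nat.lt_succ_self k
      refine ⟨_, (isClosed_le_dim_fiber f hcl (k + 1)).isOpen_compl.mem_nhds hy, fun z hz => ?_⟩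
      rw [hd]
      simp only [Set.mem_compl_iff, Set.mem_ofPred_eq, not_le] at hz
      exact (lt_succ_iff_le _ k).mp hz

end Groth.Agent.Lib.H56OpenDim
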