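import Mathlib
import Groth.Agent.Lib.H56OpenFibDim2
import Groth.Agent.Lib.H56FibDimGen

/-!
# Open at a maximal point of a fibre: dominating components of the same fibre dimension
(EGA IV 14.2.3 / 14.3.x)

* `dim_closure_fiber_point`: `dim closure {w} = tdeg f (ι w)` in a fibre.
* `tdeg_le_of_specializes'`: `tdeg` grows under generization inside a fibre.
* `fibreDimAt_eq_tdeg_of_maximal'`: at a maximal point of a fibre, `fibreDimAt = tdeg`.
* `fibreDimAt_le_of_specializes`: Chevalley, `fibreDimAt` decreases under generization.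
* `exists_maximal_generization`: maximal points above a point in a quasi-sober T0 space.
* `exists_maximal_generization_tdeg_eq`: the central statement.
-/

set_option autoImplicit false
universe u

namespace Groth.Agent.Lib.H56OpenDim

open AlgebraicGeometry CategoryTheory Groth.Agent.Lib.H30DimField Groth.Agent.Lib.H30FibRes
  Groth.Agent.Lib.H56LocDim TopologicalSpace Topology

variable {X Y : Scheme.{u}}

/-- `dim closure {w} = trdeg κ(w)/κ(y)` for a point `w` of the fibre over `y` -/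
theorem dim_closure_fiber_point (f : X ⟶ Y) [LocallyOfFiniteType f] (y : Y) (w : f.fiber y) :
    topologicalKrullDim ↥(closure ({w} : Set (f.fiber y))) =
      (tdeg f (f.fiberι y w) : WithBot ℕ∞) := by
  let _ := fiberOver f y
  have := lft_fiber f y
  have := jacobsonSpace (Y.residueField y) (f.fiber y)
  have h1 := Groth.Agent.S6462.part1 (isDimFun (Y.residueField y) (f.fiber y))
    (td_eq_zero_of_isClosed (Y.residueField y) (f.fiber y)) w
  rw [h1, td_fiber_eq f y w, Int.toNat_natCast]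

/-- `tdeg` grows under generization inside a fibre -/
theorem tdeg_le_of_specializes (f : X ⟶ Y) [LocallyOfFiniteType f] (y : Y) (w w₀ : f.fiber y)
    (h : w ⤳ w₀) : tdeg f (f.fiberι y w₀) ≤ tdeg f (f.fiberι y w) := by
  let _ := fiberOver f y
  have := lft_fiber f y
  have h1 := Groth.Agent.S6462.delta_le_of_specializes
    (isDimFun (Y.residueField y) (f.fiber y)) h
  rw [td_fiber_eq f y w, td_fiber_eq f y w₀] at h1
  exact_mod_cast h1

theorem tdeg_le_of_specializes' (f : X ⟶ Y) [LocallyOfFiniteType f] (ξ ξ₀ : X) (h : ξ ⤳ ξ₀)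
    (hf : f ξ = f ξ₀) : tdeg f ξ₀ ≤ tdeg f ξ := by
  let w : f.fiber (f ξ₀) := (f.fiberHomeo (f ξ₀)).symm ⟨ξ, hf⟩
  have hw : f.fiberι (f ξ₀) w = ξ := f.fiberι_fiberHomeo_symm (f ξ₀) ⟨ξ, hf⟩
  have hsp : w ⤳ f.asFiber ξ₀ := by
    rw [← (f.fiberι (f ξ₀)).isEmbedding.isInducing.specializes_iff, hw, f.fiberι_asFiber]
    exact h
  have := tdeg_le_of_specializes f (f ξ₀) w (f.asFiber ξ₀) hsp
  rwa [hw, f.fiberι_asFiber] at this

/-- at a maximal point of a fibre, the local fibre dimension is the transcendence degree -/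
theorem fibreDimAt_eq_tdeg_of_maximal (f : X ⟶ Y) [LocallyOfFiniteType f] (y : Y) (w : f.fiber y)
    (hmax : ∀ w' : f.fiber y, w' ⤳ w → w' = w) :
    FlatMor.fibreDimAt f (f.fiberι y w) = (tdeg f (f.fiberι y w) : WithBot ℕ∞) := by
  let _ := fiberOver f y
  have := lft_fiber f y
  rw [← localDim_fiber_eq' f y w, localDim_eq (Y.residueField y) (f.fiber y) w,
    td_fiber_eq f y w, Int.toNat_natCast]
  have h0 : ringKrullDim ((f.fiber y).presheaf.stalk w) = 0 := by
    rw [ringKrullDim_stalk_eq_coheight]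
    have : Order.coheight w = 0 := by
      rw [Order.coheight_eq_zero]
      intro b hb
      have : b = w := hmax b hb
      rw [this]
    rw [this]
    rfl
  rw [h0, zero_add]

theorem fibreDimAt_eq_tdeg_of_maximal' (f : X ⟶ Y) [LocallyOfFiniteType f] (ζ : X)
    (hmax : ∀ w : X, w ⤳ ζ → f w = f ζ → w = ζ) :
    FlatMor.fibreDimAt f ζ = (tdeg f ζ : WithBot ℕ∞) := by
  have hfib : ∀ w : f.fiber (f ζ), f (f.fiberι (f ζ) w) = f ζ := fun w => (f.fiberHomeo (f ζ) w).2
  have := fibreDimAt_eq_tdeg_of_maximal f (f ζ) (f.asFiber ζ) (fun w' hw' => by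
    apply (f.fiberι (f ζ)).isEmbedding.injective
    rw [f.fiberι_asFiber]
    refine hmax _ ?_ (hfib w')
    have := hw'.map (f.fiberι (f ζ)).continuous
    rwa [f.fiberι_asFiber] at this)
  rwa [f.fiberι_asFiber] at this

/-- Chevalley: the local fibre dimension decreases under generization -/
theorem fibreDimAt_le_of_specializes (f : X ⟶ Y) [LocallyOfFiniteType f] (ξ ζ : X) (h : ξ ⤳ ζ) :
    FlatMor.fibreDimAt f ξ ≤ FlatMor.fibreDimAt f ζ := by
  obtain ⟨n, hn⟩ := exists_nat_fibreDimAt_le f ζ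
  have h0 := fibreDimAt_nonneg f ζ
  obtain ⟨m, hm⟩ : ∃ m : ℕ, FlatMor.fibreDimAt f ζ = (m : WithBot ℕ∞) := by
    generalize FlatMor.fibreDimAt f ζ = v at hn h0
    induction v using WithBot.recBotCoe with
    | bot => simp at h0
    | coe b =>
      have hb : b ≤ (n : ℕ∞) := by exact_mod_cast hn
      obtain ⟨m, rfl⟩ := ENat.ne_top_iff_exists.mp (ne_top_of_le_ne_top (ENat.natCast_ne_top n) hb)
      exact ⟨m, rfl⟩
  rw [hm]
  have hopen := Groth.Agent.S0402.result f m
  have hxU : ζ ∈ {x : X | FlatMor.fibreDimAt f x ≤ (m : WithBot ℕ∞)} := hm.le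
  exact h.mem_open hopen hxU

/-- every point of a quasi-sober T0 space has a maximal generization -/
theorem exists_maximal_generization {T : Type*} [TopologicalSpace T] [QuasiSober T] [T0Space T]
    (x : T) : ∃ ξ : T, ξ ⤳ x ∧ ∀ ξ' : T, ξ' ⤳ ξ → ξ' = ξ := by
  obtain ⟨ξ, hξ⟩ := QuasiSober.sober (isIrreducible_irreducibleComponent (x := x))
    (isClosed_irreducibleComponent (x := x))
  refine ⟨ξ, ?_, fun ξ' hξ' => ?_⟩
  · rw [specializes_iff_mem_closure, hξ.def]; exact mem_irreducibleComponent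
  · have h2 : irreducibleComponent x ⊆ closure {ξ'} := by
      rw [← hξ.def]
      exact specializes_iff_closure_subset.mp hξ'
    have h3 : closure {ξ'} ⊆ irreducibleComponent x :=
      (irreducibleComponent_mem_irreducibleComponents x).2 isIrreducible_singleton.closure h2
    have h4 : ξ ⤳ ξ' := by
      rw [specializes_iff_mem_closure, hξ.def]
      exact h3 (subset_closure rfl)
    exact (hξ'.antisymm h4).eq

/-- **Central statement (EGA IV 14.2.3).**  Let `f : X ⟶ Y` be locally of finite type over a locally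
Noetherian base, `ζ` a maximal point of its fibre at which `f` is open, and `η` a maximal point of
`Y` specializing to `f ζ`.  Then there is a maximal point `ξ` of `X` with `ξ ⤳ ζ`, `f ξ = η` and
`trdeg κ(ξ)/κ(η) = trdeg κ(ζ)/κ(f ζ)`. -/
theorem exists_maximal_generization_tdeg_eq [IsLocallyNoetherian Y] (f : X ⟶ Y)
    [LocallyOfFiniteType f] (ζ : X) (hζmax : ∀ w : X, w ⤳ ζ → f w = f ζ → w = ζ)
    (hopen : EGA43.IsOpenAt f.base ζ) (η : Y) (hη : η ⤳ f ζ) (hηmax : ∀ η' : Y, η' ⤳ η → η' = η) :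
    ∃ ξ : X, ξ ⤳ ζ ∧ f ξ = η ∧ (∀ ξ' : X, ξ' ⤳ ξ → ξ' = ξ) ∧ tdeg f ξ = tdeg f ζ := by
  obtain ⟨ξ₀, hξ₀ζ, hfξ₀, htr⟩ := exists_generization_trdeg_le f ζ hopen η hη
  rw [trdeg_eq_tdeg f ζ, trdeg_eq_tdeg f ξ₀] at htr
  have h1 : tdeg f ζ ≤ tdeg f ξ₀ := by exact_mod_cast htr
  obtain ⟨ξ, hξξ₀, hξmax⟩ := exists_maximal_generization ξ₀
  have hfξ : f ξ = η := by
    apply hηmax
    have := hξξ₀.map f.continuous
    rwa [hfξ₀] at this
  have h2 : tdeg f ξ₀ ≤ tdeg f ξ := tdeg_le_of_specializes' f ξ ξ₀ hξξ₀ (hfξ.trans hfξ₀.symm)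
  have hξζ : ξ ⤳ ζ := hξξ₀.trans hξ₀ζ
  have h3 := fibreDimAt_le_of_specializes f ξ ζ hξζ
  rw [fibreDimAt_eq_tdeg_of_maximal' f ζ hζmax,
    fibreDimAt_eq_tdeg_of_maximal' f ξ (fun w hw _ => hξmax w hw)] at h3
  have h4 : tdeg f ξ ≤ tdeg f ζ := by exact_mod_cast h3
  exact ⟨ξ, hξζ, hfξ, hξmax, le_antisymm h4 (h1.trans h2)⟩

end Groth.Agent.Lib.H56OpenDim
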