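import Mathlib
import Groth.Agent.Lib.H56OpenComp

/-!
# Topological form of EGA IV 14.2.3 (irreducible components of `X` cut out on fibres)

* `dim_closure_inter_range`: for an embedding `ι`, `dim closure {w} = dim (closure {ι w} ∩ range ι)`.
* `dim_closure_inter_fiber`: `dim (closure {ξ} ∩ f⁻¹(f ξ)) = tdeg f ξ`.
* `exists_open_subset_closure_of_maximal`: a maximal point of a locally Noetherian scheme has an
  open neighbourhood contained in its closure.
* `localDim_inter_fiber_of_maximal`: for `ζ` maximal in its fibre and a closed `X' ∋ ζ`,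
  `dim_ζ (X' ∩ f⁻¹(f ζ)) = tdeg f ζ`.
* `exists_irreducibleComponent_of_isOpenAt`: the main statement.
-/

set_option autoImplicit false
universe u

namespace Groth.Agent.Lib.H56OpenDim

open AlgebraicGeometry CategoryTheory Groth.Agent.Lib.H30DimField Groth.Agent.Lib.H30FibRes
  Groth.Agent.Lib.H56LocDim TopologicalSpace Topology Set.Notation

/-- for an embedding `ι`, `closure {w}` is homeomorphic to `closure {ι w} ∩ range ι` -/
theorem dim_closure_inter_range {F T : Type*} [TopologicalSpace F] [TopologicalSpace T]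
    (ι : F → T) (hι : IsEmbedding ι) (w : F) :
    topologicalKrullDim ↥(closure ({w} : Set F)) =
      topologicalKrullDim ↥(closure ({ι w} : Set T) ∩ Set.range ι) := by
  have hcl : closure ({w} : Set F) = ι ⁻¹' closure {ι w} := by
    rw [hι.isInducing.closure_eq_preimage_closure_image, Set.image_singleton]
  have hmem : ∀ v : ↥(closure ({w} : Set F)),
      (ι ∘ Subtype.val) v ∈ closure ({ι w} : Set T) ∩ Set.range ι := fun v =>
    ⟨by have h1 : v.1 ∈ ι ⁻¹' closure {ι w} := hcl ▸ v.2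
        exact h1, Set.mem_range_self _⟩
  let g : ↥(closure ({w} : Set F)) → ↥(closure ({ι w} : Set T) ∩ Set.range ι) :=
    Set.codRestrict (ι ∘ Subtype.val) _ hmem
  have hg : IsEmbedding g :=
    (hι.comp IsEmbedding.subtypeVal).codRestrict _ hmem
  have hsurj : Function.Surjective g := by
    rintro ⟨x, hx, ⟨v, rfl⟩⟩
    exact ⟨⟨v, by rw [hcl]; exact hx⟩, rfl⟩
  exact IsHomeomorph.topologicalKrullDim_eq g (hg.toHomeomorphOfSurjective hsurj).isHomeomorph

variable {X Y : Scheme.{u}}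

/-- `dim (closure {ξ} ∩ f⁻¹(f ξ)) = trdeg κ(ξ)/κ(f ξ)` -/
theorem dim_closure_inter_fiber (f : X ⟶ Y) [LocallyOfFiniteType f] (ξ : X) :
    topologicalKrullDim ↥(closure ({ξ} : Set X) ∩ f.base ⁻¹' {f.base ξ}) =
      (tdeg f ξ : WithBot ℕ∞) := by
  have h1 := dim_closure_inter_range (f.fiberι (f.base ξ)).base
    (f.fiberι (f.base ξ)).isEmbedding (f.asFiber ξ)
  rw [dim_closure_fiber_point, f.fiberι_asFiber] at h1
  rw [h1]
  have : Set.range (f.fiberι (f.base ξ)).base = f.base ⁻¹' {f.base ξ} := f.range_fiberι (f.base ξ)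
  rw [this]

/-- a maximal point of a locally Noetherian scheme has an open neighbourhood inside its closure -/
theorem exists_open_subset_closure_of_maximal {F : Scheme.{u}} [IsLocallyNoetherian F] (w : F)
    (hw : ∀ v : F, v ⤳ w → v = w) :
    ∃ O : Set F, IsOpen O ∧ w ∈ O ∧ O ⊆ closure {w} := by
  obtain ⟨W₀, hW, hwW, -⟩ := Opens.isBasis_iff_nbhd.mp F.isBasis_affineOpens
    (show w ∈ (⊤ : F.Opens) from trivial)
  let W : F.Opens := W₀
  have hA : IsAffine (W : Scheme.{u}) := hW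
  have hN : IsNoetherian (W : Scheme.{u}) := {}
  let w' : (W : Scheme.{u}) := ⟨w, hwW⟩
  have hw' : ∀ y : (W : Scheme.{u}), y ⤳ w' → w' ⤳ y := by
    intro y hy
    have h1 : W.ι y ⤳ W.ι w' := hy.map W.ι.continuous
    have h2 : W.ι y = W.ι w' := hw _ h1
    have h3 : y = w' := W.ι.isOpenEmbedding.injective h2
    rw [h3]
  have hcomp := Groth.Agent.Lib.GenericDense68.closure_singleton_mem_irreducibleComponents w' hw'
  obtain ⟨o, ho, hne, hsub⟩ :=
    NoetherianSpace.exists_isOpen_nonempty_subset_irreducibleComponent _ hcomp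
  obtain ⟨z', hz'o⟩ := hne
  have h3 : w' ⤳ z' := specializes_iff_mem_closure.mpr (hsub hz'o)
  have hw'o : w' ∈ o := h3.mem_open ho hz'o
  refine ⟨W.ι '' o, W.ι.isOpenEmbedding.isOpenMap o ho, ⟨w', hw'o, rfl⟩, ?_⟩
  rintro _ ⟨v, hv, rfl⟩
  have h4 : w' ⤳ v := specializes_iff_mem_closure.mpr (hsub hv)
  exact specializes_iff_mem_closure.mp (h4.map W.ι.continuous)

/-- for `ζ` maximal in its fibre and a closed `X' ∋ ζ`, `dim_ζ (X' ∩ f⁻¹(f ζ)) = tdeg f ζ` -/
theorem localDim_inter_fiber_of_maximal (f : X ⟶ Y) [LocallyOfFiniteType f] (ζ : X)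
    (hζmax : ∀ w : X, w ⤳ ζ → f w = f ζ → w = ζ) (X' : Set X) (hX' : IsClosed X')
    (hζ : ζ ∈ X') :
    FlatMor.localDim ↥(X' ∩ f.base ⁻¹' {f.base ζ}) ⟨ζ, hζ, rfl⟩ = (tdeg f ζ : WithBot ℕ∞) := by
  let _ := fiberOver f (f ζ)
  have := lft_fiber f (f ζ)
  have hFN : IsLocallyNoetherian (f.fiber (f ζ)) :=
    isLocallyNoetherian (Y.residueField (f ζ)) (f.fiber (f ζ))
  have hfib : ∀ w : f.fiber (f ζ), f (f.fiberι (f ζ) w) = f ζ := fun w => (f.fiberHomeo (f ζ) w).2
  have hwmax : ∀ v : f.fiber (f ζ), v ⤳ f.asFiber ζ → v = f.asFiber ζ := by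
    intro v hv
    apply (f.fiberι (f ζ)).isEmbedding.injective
    rw [f.fiberι_asFiber]
    refine hζmax _ ?_ (hfib v)
    have := hv.map (f.fiberι (f ζ)).continuous
    rwa [f.fiberι_asFiber] at this
  obtain ⟨O, hO, hwO, hOcl⟩ := exists_open_subset_closure_of_maximal (f.asFiber ζ) hwmax
  set B : Set X := f.base ⁻¹' {f.base ζ} with hB
  set OX : Set X := (f.fiberι (f ζ)).base '' O with hOX
  have hOXB : OX ⊆ B := by
    rintro _ ⟨v, -, rfl⟩
    exact hfib v
  have hOXA : OX ⊆ X' ∩ B := by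
    rintro _ ⟨v, hv, rfl⟩
    refine ⟨?_, hfib v⟩
    have h1 : f.asFiber ζ ⤳ v := specializes_iff_mem_closure.mpr (hOcl hv)
    have h2 := h1.map (f.fiberι (f ζ)).continuous
    rw [f.fiberι_asFiber] at h2
    exact h2.mem_closed hX' hζ
  have hζOX : ζ ∈ OX := ⟨f.asFiber ζ, hwO, f.fiberι_asFiber ζ⟩
  have hopenB : IsOpen (B ↓∩ OX) := by
    have : (B ↓∩ OX) = (f.fiberHomeo (f ζ)) '' O := by
      ext x
      constructor
      · rintro ⟨v, hv, hvx⟩
        exact ⟨v, hv, Subtype.ext hvx⟩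
      · rintro ⟨v, hv, rfl⟩
        exact ⟨v, hv, rfl⟩
    rw [this]
    exact (f.fiberHomeo (f ζ)).isOpenMap O hO
  have hopenA : IsOpen ((X' ∩ B) ↓∩ OX) := by
    have : ((X' ∩ B) ↓∩ OX) = (Set.inclusion (Set.inter_subset_right : X' ∩ B ⊆ B)) ⁻¹' (B ↓∩ OX) := by
      ext x
      rfl
    rw [this]
    exact hopenB.preimage (continuous_inclusion _)
  have h1 := localDim_eq_of_isOpenEmbedding (IsOpenEmbedding.inclusion hOXA hopenA) ⟨ζ, hζOX⟩
  have h2 := localDim_eq_of_isOpenEmbedding (IsOpenEmbedding.inclusion hOXB hopenB) ⟨ζ, hζOX⟩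
  have h3 : FlatMor.localDim ↥B ⟨ζ, rfl⟩ = FlatMor.fibreDimAt f ζ :=
    (fibreDimAt_eq_fibLocDim f ζ).symm
  change FlatMor.localDim ↥(X' ∩ B) (Set.inclusion hOXA ⟨ζ, hζOX⟩) = _
  rw [← h1, h2]
  change FlatMor.localDim ↥B ⟨ζ, rfl⟩ = _
  rw [h3, fibreDimAt_eq_tdeg_of_maximal' f ζ hζmax]

/-- **EGA IV 14.2.3 / 14.3.x, topological form.**  Let `f : X ⟶ Y` be locally of finite type over
a locally Noetherian base, `ζ` a maximal point of its fibre at which `f` is open, and `η` a maximal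
point of `Y` specializing to `f ζ`.  Then there is an irreducible component `X'` of `X` through `ζ`
dominating `closure {η}` with `dim_ζ (X' ∩ f⁻¹(f ζ)) = trdeg κ(ζ)/κ(f ζ) = dim (X' ∩ f⁻¹(η))`. -/
theorem exists_irreducibleComponent_of_isOpenAt [IsLocallyNoetherian Y] (f : X ⟶ Y)
    [LocallyOfFiniteType f] (ζ : X) (hζmax : ∀ w : X, w ⤳ ζ → f w = f ζ → w = ζ)
    (hopen : EGA43.IsOpenAt f.base ζ) (η : Y) (hη : η ⤳ f ζ) (hηmax : ∀ η' : Y, η' ⤳ η → η' = η) :
    ∃ X' ∈ irreducibleComponents (X : Type u), ∃ hζ : ζ ∈ X',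
      closure (f.base '' X') = closure {η} ∧
      FlatMor.localDim ↥(X' ∩ f.base ⁻¹' {f.base ζ}) ⟨ζ, hζ, rfl⟩ = (tdeg f ζ : WithBot ℕ∞) ∧
      topologicalKrullDim ↥(X' ∩ f.base ⁻¹' {η}) = (tdeg f ζ : WithBot ℕ∞) := by
  obtain ⟨ξ, hξζ, rfl, hξmax, htd⟩ :=
    exists_maximal_generization_tdeg_eq f ζ hζmax hopen η hη hηmax
  have hζX' : ζ ∈ closure ({ξ} : Set X) := specializes_iff_mem_closure.mp hξζ
  refine ⟨closure {ξ}, (closure_mem_irreducibleComponents_iff ξ).mpr hξmax, hζX', ?_, ?_, ?_⟩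
  · apply le_antisymm
    · apply closure_minimal _ isClosed_closure
      refine (image_closure_subset_closure_image f.continuous).trans ?_
      rw [Set.image_singleton]
    · apply closure_mono
      rw [Set.singleton_subset_iff]
      exact ⟨ξ, subset_closure rfl, rfl⟩
  · exact localDim_inter_fiber_of_maximal f ζ hζmax _ isClosed_closure hζX'
  · rw [dim_closure_inter_fiber f ξ, htd]

end Groth.Agent.Lib.H56OpenDim
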