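import Mathlib
import Groth.Agent.Lib.H56OpenFibDim2

/-!
# Lower semicontinuity of the fibre dimension on the target via constructibility

* `isLocallyConstructible_of_isClosed`: closed subsets of locally Noetherian schemes are locally
  constructible.
* `exists_nat_dim_fiber_le`: fibres of a quasi-compact morphism locally of finite type are finite
  dimensional.
* `isLocallyConstructible_le_dim_fiber`: `{z | n ≤ dim f⁻¹(z)}` is locally constructible.
* `mem_nhds_le_dim_fiber`: if `dim f⁻¹(y) ≤ dim f⁻¹(ξ)` for all generizations `ξ` of `y`, the same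
  holds for all `z` near `y`.
-/

set_option autoImplicit false
universe u

namespace Groth.Agent.Lib.H56OpenDim

open AlgebraicGeometry CategoryTheory Groth.Agent.Lib.H56LocDim TopologicalSpace Topology Set.Notation

variable {X Y : Scheme.{u}}

/-- closed subsets of locally Noetherian schemes are locally constructible -/
theorem isLocallyConstructible_of_isClosed (X : Scheme.{u}) [IsLocallyNoetherian X] {F : Set X}
    (hF : IsClosed F) : IsLocallyConstructible F := by
  intro x
  obtain ⟨_, ⟨W, hW, rfl⟩, hxW, -⟩ := X.isBasis_affineOpens.exists_subset_of_mem_open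
    (Set.mem_univ x) isOpen_univ
  have hW' : IsAffineOpen W := hW
  have : IsNoetherianRing Γ(X, W) := IsLocallyNoetherian.component_noetherian ⟨W, hW'⟩
  have hN : NoetherianSpace ↥(W : Set X) := noetherianSpace_of_isAffineOpen W hW'
  refine ⟨W, W.isOpen.mem_nhds hxW, W.isOpen, ?_⟩
  have h1 : IsConstructible ((W : Set X) ↓∩ F)ᶜ :=
    IsCompact.isConstructible (NoetherianSpace.isCompact _)
      (hF.preimage continuous_subtype_val).isOpen_compl
  exact isConstructible_compl.mp h1

/-- fibres of a quasi-compact morphism locally of finite type are finite dimensional -/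
theorem exists_nat_dim_fiber_le (f : X ⟶ Y) [LocallyOfFiniteType f] [QuasiCompact f] (y : Y) :
    ∃ N : ℕ, topologicalKrullDim (f.fiber y) ≤ N := by
  have hK : IsCompact (f.base ⁻¹' {y}) := f.isCompact_preimage_singleton y
  have hcov : f.base ⁻¹' {y} ⊆ ⋃ n : ℕ, {x : X | FlatMor.fibreDimAt f x ≤ n} := by
    intro x _
    obtain ⟨n, hn⟩ := exists_nat_fibreDimAt_le f x
    exact Set.mem_iUnion.mpr ⟨n, hn⟩
  have hdir : Directed (· ⊆ ·) (fun n : ℕ => {x : X | FlatMor.fibreDimAt f x ≤ n}) := by
    intro a b
    refine ⟨max a b, fun x hx => ?_, fun x hx => ?_⟩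
    · change FlatMor.fibreDimAt f x ≤ _
      exact le_trans hx (by exact_mod_cast le_max_left a b)
    · change FlatMor.fibreDimAt f x ≤ _
      exact le_trans hx (by exact_mod_cast le_max_right a b)
  obtain ⟨N, hN⟩ := hK.elim_directed_cover _ (fun n => Groth.Agent.S0402.result f n) hcov hdir
  exact ⟨N, (dim_fiber_le_iff f y N).mpr fun x hx => hN hx⟩

/-- `{z | n ≤ dim f⁻¹(z)}` is locally constructible -/
theorem isLocallyConstructible_le_dim_fiber [IsLocallyNoetherian Y] (f : X ⟶ Y)
    [LocallyOfFiniteType f] [QuasiCompact f] (n : ℕ) :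
    IsLocallyConstructible {z : Y | (n : WithBot ℕ∞) ≤ topologicalKrullDim (f.fiber z)} := by
  have : IsLocallyNoetherian X := LocallyOfFiniteType.isLocallyNoetherian f
  rw [← image_le_fibreDimAt]
  exact f.isLocallyConstructible_image
    (isLocallyConstructible_of_isClosed X (isClosed_le_fibreDimAt f n))

/-- if `dim f⁻¹(y) ≤ dim f⁻¹(ξ)` for all generizations `ξ` of `y`, the same holds near `y` -/
theorem mem_nhds_le_dim_fiber [IsLocallyNoetherian Y] (f : X ⟶ Y)
    [LocallyOfFiniteType f] [QuasiCompact f] (y : Y)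
    (hgen : ∀ ξ : Y, ξ ⤳ y → topologicalKrullDim (f.fiber y) ≤ topologicalKrullDim (f.fiber ξ)) :
    {z : Y | topologicalKrullDim (f.fiber y) ≤ topologicalKrullDim (f.fiber z)} ∈ nhds y := by
  obtain ⟨N, hN⟩ := exists_nat_dim_fiber_le f y
  obtain ⟨d, hd⟩ : ∃ d, topologicalKrullDim (f.fiber y) = d := ⟨_, rfl⟩
  rw [hd] at hN hgen ⊢
  induction d using WithBot.recBotCoe with
  | bot => simp
  | coe d =>
    have hdN : d ≤ (N : ℕ∞) := by exact_mod_cast hN
    obtain ⟨k, rfl⟩ := ENat.ne_top_iff_exists.mp (ne_top_of_le_ne_top (ENat.natCast_ne_top N) hdN)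
    exact Groth.Agent.Lib.H56ConsNhds.mem_nhds_of_isLocallyConstructible Y
      (isLocallyConstructible_le_dim_fiber f k) y hgen

end Groth.Agent.Lib.H56OpenDim
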