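import Mathlib
import Groth.Agent.Lib.H56OpenFibDim3
import Groth.Agent.Lib.H56LocDim
import Groth.Agent.Lib.H56LocDimSch

/-!
# Fibres of the restriction of a morphism to an open subscheme

* `fibreDimAt_ι_comp`: `fibreDimAt (U.ι ≫ f) u = fibreDimAt f u`.
* `dim_inter_preimage_eq`: `dim (U ∩ f⁻¹(z)) = dim (U.ι ≫ f)⁻¹(z)`.
-/

set_option autoImplicit false
universe u

namespace Groth.Agent.Lib.H56OpenDim

open AlgebraicGeometry CategoryTheory Groth.Agent.Lib.H56LocDim TopologicalSpace Topology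

variable {X Y : Scheme.{u}}

theorem fibreDimAt_ι_comp (f : X ⟶ Y) (U : X.Opens) (u : U) :
    FlatMor.fibreDimAt (U.ι ≫ f) u = FlatMor.fibreDimAt f (U.ι.base u) := by
  rw [fibreDimAt_eq_fibLocDim, fibreDimAt_eq_fibLocDim]
  exact fibLocDim_eq_of_square (j := U.ι.base) U.ι.isOpenEmbedding (i := id)
    Function.injective_id ((U.ι ≫ f).base) (f.base) (fun x' => rfl) u

/-- the fibre of `U.ι ≫ f` over `z` is homeomorphic to `U ∩ f⁻¹(z)` -/
noncomputable def fiberιCompHomeo (f : X ⟶ Y) (U : X.Opens) (z : Y) :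
    (U.ι ≫ f).fiber z ≃ₜ ↥((U : Set X) ∩ f.base ⁻¹' {z}) :=
  ((U.ι ≫ f).fiberHomeo z).trans
    { toFun := fun w => ⟨w.1.1, w.1.2, w.2⟩
      invFun := fun w => ⟨⟨w.1, w.2.1⟩, w.2.2⟩
      left_inv := fun _ => rfl
      right_inv := fun _ => rfl
      continuous_toFun :=
        Continuous.subtype_mk (continuous_subtype_val.comp continuous_subtype_val) _
      continuous_invFun :=
        Continuous.subtype_mk (Continuous.subtype_mk continuous_subtype_val _) _ }

theorem dim_inter_preimage_eq (f : X ⟶ Y) (U : X.Opens) (z : Y) :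
    topologicalKrullDim ↥((U : Set X) ∩ f.base ⁻¹' {z}) =
      topologicalKrullDim ((U.ι ≫ f).fiber z) :=
  (IsHomeomorph.topologicalKrullDim_eq _ (fiberιCompHomeo f U z).isHomeomorph).symm

end Groth.Agent.Lib.H56OpenDim
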