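import Mathlib
import Groth.Agent.Lib.H56OpenComp2
import Groth.Agent.Lib.H56OpenFibDim4
import Groth.Agent.Lib.H56ConsNhds
import Groth.Agent.S0402

/-!
# Dimensions of the irreducible components of the fibres (EGA IV 14.2.x)

* `IsMaxInFibre f x`: `x` is maximal under generization in its fibre.
* `compDims f z : Set ℕ`: the set of `tdeg f x` for `x` maximal in the fibre over `z`.
* `image_dim_irreducibleComponents_fiber`: the set of dimensions of the irreducible components of
  `f.fiber z` is the image of `compDims f z`.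
* `compDims_subset_of_specializes`: `f` open at the points over `z`, `η ⤳ z` maximal ⇒
  `compDims f z ⊆ compDims f η`.
* `exists_maxInFibre_fibreDimAt_eq`: `fibreDimAt f x = tdeg f w` for some `w ⤳ x` maximal in the
  fibre.
* `compDims_mem_nhds`: for `f` open of finite type, `n ∈ compDims f y` ⇒ `n ∈ compDims f z` for
  `z` near `y`.
-/

set_option autoImplicit false
universe u

namespace Groth.Agent.Lib.H56OpenDim

open AlgebraicGeometry CategoryTheory Groth.Agent.Lib.H30DimField Groth.Agent.Lib.H30FibRes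
  Groth.Agent.Lib.H56LocDim TopologicalSpace Topology Set.Notation

variable {X Y : Scheme.{u}}

/-- `x` is maximal under generization in its fibre -/
def IsMaxInFibre (f : X ⟶ Y) (x : X) : Prop := ∀ v : X, v ⤳ x → f v = f x → v = x

/-- the set of transcendence degrees of the maximal points of the fibre over `z` -/
def compDims (f : X ⟶ Y) [LocallyOfFiniteType f] (z : Y) : Set ℕ :=
  {n | ∃ x : X, f x = z ∧ IsMaxInFibre f x ∧ tdeg f x = n}

theorem isMaxInFibre_fiberι_iff (f : X ⟶ Y) (z : Y) (w : f.fiber z) :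
    IsMaxInFibre f (f.fiberι z w) ↔ ∀ w' : f.fiber z, w' ⤳ w → w' = w := by
  have hfib : ∀ v : ↥(f.fiber z), f ((f.fiberι z) v) = z := fun v => (f.fiberHomeo z v).2
  constructor
  · intro h w' hw'
    apply (f.fiberι z).isEmbedding.injective
    exact h _ (hw'.map (f.fiberι z).continuous) ((hfib w').trans (hfib w).symm)
  · intro h v hv hfv
    have hfv' : f v = z := hfv.trans (hfib w)
    let v' : ↥(f.fiber z) := (f.fiberHomeo z).symm ⟨v, hfv'⟩
    have hv' : (f.fiberι z) v' = v := f.fiberι_fiberHomeo_symm z ⟨v, hfv'⟩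
    have hsp : v' ⤳ w := by
      rw [← (f.fiberι z).isEmbedding.isInducing.specializes_iff, hv']
      exact hv
    rw [← hv', h v' hsp]

/-- the dimensions of the irreducible components of a fibre -/
theorem image_dim_irreducibleComponents_fiber (f : X ⟶ Y) [LocallyOfFiniteType f] (z : Y) :
    (fun Z : Set ↥(f.fiber z) => topologicalKrullDim ↥Z) '' irreducibleComponents ↥(f.fiber z) =
      (fun n : ℕ => (n : WithBot ℕ∞)) '' compDims f z := by
  have hfib : ∀ v : ↥(f.fiber z), f ((f.fiberι z) v) = z := fun v => (f.fiberHomeo z v).2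
  apply Set.Subset.antisymm
  · rintro _ ⟨Z, hZ, rfl⟩
    obtain ⟨w, hw⟩ := QuasiSober.sober hZ.1 (isClosed_of_mem_irreducibleComponents Z hZ)
    obtain rfl := hw.def
    have hwmax : ∀ w' : ↥(f.fiber z), w' ⤳ w → w' = w :=
      (Groth.Agent.Lib.H30DimField.closure_mem_irreducibleComponents_iff w).mp hZ
    refine ⟨tdeg f (f.fiberι z w), ⟨f.fiberι z w, hfib w,
      (isMaxInFibre_fiberι_iff f z w).mpr hwmax, rfl⟩, ?_⟩
    exact (dim_closure_fiber_point f z w).symm
  · rintro _ ⟨n, ⟨x, hx, hmax, rfl⟩, rfl⟩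
    let w : ↥(f.fiber z) := (f.fiberHomeo z).symm ⟨x, hx⟩
    have hw : (f.fiberι z) w = x := f.fiberι_fiberHomeo_symm z ⟨x, hx⟩
    have hwmax : ∀ w' : ↥(f.fiber z), w' ⤳ w → w' = w := by
      rw [← isMaxInFibre_fiberι_iff, hw]
      exact hmax
    refine ⟨closure {w},
      (Groth.Agent.Lib.H30DimField.closure_mem_irreducibleComponents_iff w).mpr hwmax, ?_⟩
    change topologicalKrullDim ↥(closure ({w} : Set ↥(f.fiber z))) = _
    rw [dim_closure_fiber_point, hw]

/-- if `f` is open at the points over `z` and `η` is a maximal generization of `z`, every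
component dimension of the fibre over `z` is a component dimension of the fibre over `η` -/
theorem compDims_subset_of_specializes [IsLocallyNoetherian Y] (f : X ⟶ Y)
    [LocallyOfFiniteType f] (z η : Y) (hopen : ∀ x : X, f x = z → EGA43.IsOpenAt f.base x)
    (hη : η ⤳ z) (hηmax : ∀ η' : Y, η' ⤳ η → η' = η) :
    compDims f z ⊆ compDims f η := by
  rintro n ⟨x, hx, hmax, rfl⟩
  obtain ⟨ξ, -, hfξ, hξmax, htd⟩ := exists_maximal_generization_tdeg_eq f x hmax (hopen x hx) η
    (hx ▸ hη) hηmax
  exact ⟨ξ, hfξ, fun v hv _ => hξmax v hv, htd⟩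

/-- the local fibre dimension at `x` is the transcendence degree of a maximal point of the fibre
generizing `x` -/
theorem exists_maxInFibre_fibreDimAt_eq (f : X ⟶ Y) [LocallyOfFiniteType f] (x : X) :
    ∃ w : X, w ⤳ x ∧ f w = f x ∧ IsMaxInFibre f w ∧
      FlatMor.fibreDimAt f x = (tdeg f w : WithBot ℕ∞) := by
  let _ := fiberOver f (f x)
  have := lft_fiber f (f x)
  have hfib : ∀ v : ↥(f.fiber (f x)), f ((f.fiberι (f x)) v) = f x :=
    fun v => (f.fiberHomeo (f x) v).2
  have hN : IsLocallyNoetherian (f.fiber (f x)) :=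
    LocallyOfFiniteType.isLocallyNoetherian ((f.fiber (f x)) ↘ Spec (CommRingCat.of (Y.residueField (f x))))
  have hδ := isDimFun (Y.residueField (f x)) (f.fiber (f x))
  obtain ⟨ξ, hξmax, hξz, hdim⟩ := stalk_dim_exists hδ (f.asFiber x)
  refine ⟨f.fiberι (f x) ξ, ?_, hfib ξ, (isMaxInFibre_fiberι_iff f (f x) ξ).mpr hξmax, ?_⟩
  · have := hξz.map (f.fiberι (f x)).continuous
    rwa [f.fiberι_asFiber] at this
  · have h1 := localDim_fiber_eq' f (f x) (f.asFiber x)
    rw [f.fiberι_asFiber] at h1
    rw [← h1, localDim_eq (Y.residueField (f x)) (f.fiber (f x)) (f.asFiber x), hdim]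
    have hle := Groth.Agent.S6462.delta_le_of_specializes hδ hξz
    have h0 := td_nonneg (Y.residueField (f x)) (f.fiber (f x)) (f.asFiber x)
    have h2 := td_fiber_eq f (f x) ξ
    have h3 : (td (Y.residueField (f x)) (f.fiber (f x)) ξ -
        td (Y.residueField (f x)) (f.fiber (f x)) (f.asFiber x)).toNat +
        (td (Y.residueField (f x)) (f.fiber (f x)) (f.asFiber x)).toNat =
        tdeg f (f.fiberι (f x) ξ) := by
      omega
    rw [← h3]
    push_cast
    rfl

/-- for an open morphism of finite type, a component dimension of the fibre over `y` is a component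
dimension of the fibres over all nearby points -/
theorem compDims_mem_nhds [IsLocallyNoetherian Y] (f : X ⟶ Y) [LocallyOfFiniteType f]
    [QuasiCompact f] (hf : IsOpenMap f.base) (y : Y) (n : ℕ) (hn : n ∈ compDims f y) :
    {z : Y | n ∈ compDims f z} ∈ nhds y := by
  obtain ⟨x₀, hx₀, hmax₀, htd₀⟩ := hn
  have hXN : IsLocallyNoetherian X := LocallyOfFiniteType.isLocallyNoetherian f
  have hd₀ : FlatMor.fibreDimAt f x₀ = (n : WithBot ℕ∞) := by
    rw [fibreDimAt_eq_tdeg_of_maximal' f x₀ hmax₀, htd₀]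
  let U : X.Opens := ⟨{x : X | FlatMor.fibreDimAt f x ≤ n}, Groth.Agent.S0402.result f n⟩
  let g : (U : Scheme.{u}) ⟶ Y := U.ι ≫ f
  have hgopen : IsOpenMap g.base := by
    have : g.base = f.base ∘ U.ι.base := rfl
    rw [this]
    exact hf.comp U.ι.isOpenEmbedding.isOpenMap
  have hgle : ∀ z : Y, topologicalKrullDim (g.fiber z) ≤ (n : WithBot ℕ∞) := by
    intro z
    rw [dim_fiber_le_iff]
    intro u _
    rw [fibreDimAt_ι_comp]
    exact u.2
  have hgy : topologicalKrullDim (g.fiber y) = (n : WithBot ℕ∞) := by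
    apply le_antisymm (hgle y)
    rw [le_dim_fiber_iff]
    refine ⟨⟨x₀, hd₀.le⟩, hx₀, ?_⟩
    rw [fibreDimAt_ι_comp]
    exact hd₀.ge
  have hgopenAt : ∀ u : (U : Scheme.{u}), EGA43.IsOpenAt g.base u :=
    fun u W hW => hgopen.image_mem_nhds hW
  have hC := mem_nhds_le_dim_fiber g y (fun ξ hξ =>
    dim_fiber_le_of_specializes_of_isOpenAt g y (fun u _ => hgopenAt u) ξ hξ)
  refine Filter.mem_of_superset hC ?_
  intro z hz
  have hz' : (n : WithBot ℕ∞) ≤ topologicalKrullDim (g.fiber z) := hgy ▸ hz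
  rw [le_dim_fiber_iff] at hz'
  obtain ⟨u, hu, hnu⟩ := hz'
  rw [fibreDimAt_ι_comp] at hnu
  have hdu : FlatMor.fibreDimAt f (U.ι.base u) = (n : WithBot ℕ∞) := le_antisymm u.2 hnu
  obtain ⟨w, -, hfw, hwmax, hw⟩ := exists_maxInFibre_fibreDimAt_eq f (U.ι.base u)
  refine ⟨w, hfw.trans hu, hwmax, ?_⟩
  rw [hdu] at hw
  exact_mod_cast hw.symm

/-- the set of component dimensions of a fibre of a quasi-compact morphism is finite -/
theorem finite_compDims (f : X ⟶ Y) [LocallyOfFiniteType f] [QuasiCompact f] (y : Y) :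
    (compDims f y).Finite := by
  obtain ⟨N, hN⟩ := exists_nat_dim_fiber_le f y
  refine (Set.finite_le_nat N).subset ?_
  rintro n ⟨x, hx, -, rfl⟩
  have := (tdeg_le_dim_fiber' f x y hx).trans hN
  exact_mod_cast this

/-- **EGA IV 14.2.x**: for an open morphism of finite type to a locally Noetherian scheme, if the
set of component dimensions of the fibre over `y` equals that over the generic points of the
irreducible components through `y`, it is constant near `y`. -/
theorem compDims_eventually_eq [IsLocallyNoetherian Y] (f : X ⟶ Y) [LocallyOfFiniteType f]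
    [QuasiCompact f] (hf : IsOpenMap f.base) (y : Y)
    (h : ∀ η : Y, η ⤳ y → closure {η} ∈ irreducibleComponents (Y : Type u) →
      compDims f y = compDims f η) :
    ∃ V ∈ nhds y, ∀ z ∈ V, compDims f z = compDims f y := by
  obtain ⟨V₀, hV₀, hV₀'⟩ :=
    Groth.Agent.Lib.H56ConsNhds.exists_nhds_forall_exists_generic_of_isLocallyNoetherian Y y
  have hfin := finite_compDims f y
  have hV₁ : (⋂ n ∈ compDims f y, {z : Y | n ∈ compDims f z}) ∈ nhds y :=
    (Filter.biInter_mem hfin).mpr (fun n hn => compDims_mem_nhds f hf y n hn)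
  refine ⟨V₀ ∩ ⋂ n ∈ compDims f y, {z : Y | n ∈ compDims f z}, Filter.inter_mem hV₀ hV₁, ?_⟩
  rintro z ⟨hz₀, hz₁⟩
  obtain ⟨η, hηz, hηy, hηcomp⟩ := hV₀' z hz₀
  have hηmax : ∀ η' : Y, η' ⤳ η → η' = η :=
    (Groth.Agent.Lib.H30DimField.closure_mem_irreducibleComponents_iff η).mp hηcomp
  apply Set.Subset.antisymm
  · rw [h η hηy hηcomp]
    exact compDims_subset_of_specializes f z η (fun x _ U hU => hf.image_mem_nhds hU) hηz hηmax
  · intro n hn
    have := Set.mem_iInter₂.mp hz₁ n hn
    exact this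

end Groth.Agent.Lib.H56OpenDim
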