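import Mathlib
import Groth.Agent.Lib.H56OpenComp3
import Groth.Agent.Lib.H30EquidimAt

/-!
# Component dimensions of fibres over a universally catenary base point (EGA IV 14.2.x)

* `mem_minimalPrimes_of_dim_quotient_eq`: in a ring of finite dimension, a prime `P` with
  `dim R/P = dim R` is minimal.
* `exists_maxPt_tdeg_eq_of_dim_eq`: if `O_{Y,f z}` is universally catenary, `z` is maximal in its
  fibre and `dim O_{X,z} = dim O_{Y,f z}`, then some maximal point `ζ ⤳ z` of `X` lies over a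
  maximal point of `Y` and has `tdeg f ζ = tdeg f z`.
* `dim_fiber_le_of_compDims_subset`.
-/

set_option autoImplicit false
universe u

namespace Groth.Agent.Lib.H56OpenDim

open AlgebraicGeometry CategoryTheory Groth.Agent.Lib.H30DimField Groth.Agent.Lib.H30FibRes
  Groth.Agent.Lib.H56LocDim TopologicalSpace Topology Set.Notation
  Groth.Agent.Lib.H30GenFib Groth.Agent.Lib.H30EquidimAt Groth.Agent.Lib.H30DimFormulaGen
  Groth.Agent.Lib.H30DimRel

theorem mem_minimalPrimes_of_dim_quotient_eq (R : Type u) [CommRing R] (P : Ideal R) [hP : P.IsPrime]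
    (hfin : ringKrullDim R < ⊤) (h : ringKrullDim (R ⧸ P) = ringKrullDim R) :
    P ∈ minimalPrimes R := by
  have key : ∀ Q : PrimeSpectrum R, ringKrullDim (R ⧸ Q.asIdeal) = Order.coheight Q := by
    intro Q
    rw [ringKrullDim_quotient, Order.coheight_eq_krullDim_Ici]
    have hset : PrimeSpectrum.zeroLocus (Q.asIdeal : Set R) = Set.Ici Q := by
      ext Q'
      rw [PrimeSpectrum.mem_zeroLocus, Set.mem_Ici]
      rfl
    rw [hset]
  obtain ⟨p, hp, hpP⟩ := Ideal.exists_minimalPrimes_le (bot_le : (⊥ : Ideal R) ≤ P)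
  by_cases hpe : p = P
  · rw [← hpe]; exact hp
  exfalso
  have hlt : (⟨p, hp.1.1⟩ : PrimeSpectrum R) < ⟨P, hP⟩ := lt_of_le_of_ne hpP (fun h => hpe
    (congrArg PrimeSpectrum.asIdeal h))
  have hPfin : Order.coheight (⟨P, hP⟩ : PrimeSpectrum R) < ⊤ := by
    have h1 := key ⟨P, hP⟩
    rw [h] at h1
    rw [h1] at hfin
    exact WithBot.coe_lt_coe.mp (by simpa using hfin)
  have h2 := Order.coheight_strictAnti hlt hPfin
  have h3 : ((Order.coheight (⟨p, hp.1.1⟩ : PrimeSpectrum R) : ℕ∞) : WithBot ℕ∞) ≤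
      ringKrullDim R := Order.coheight_le_krullDim _
  rw [← h, key ⟨P, hP⟩] at h3
  have h4 : Order.coheight (⟨p, hp.1.1⟩ : PrimeSpectrum R) ≤ Order.coheight (⟨P, hP⟩ :
      PrimeSpectrum R) := by exact_mod_cast h3
  exact absurd h2 (not_lt.mpr h4)

variable {X Y : Scheme.{u}}

/-- if `O_{Y,f z}` is universally catenary, `z` is maximal in its fibre and
`dim O_{X,z} = dim O_{Y,f z}`, then some maximal point `ζ ⤳ z` lies over a maximal point of `Y`
and has the same relative transcendence degree. -/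
theorem exists_maxPt_tdeg_eq_of_dim_eq [IsLocallyNoetherian Y] (f : X ⟶ Y) [LocallyOfFiniteType f]
    (z : X) (hUC : CAlg.IsUniversallyCatenary (Y.presheaf.stalk (f z)))
    (hmax : IsMaxInFibre f z)
    (hdim : ringKrullDim (X.presheaf.stalk z) = ringKrullDim (Y.presheaf.stalk (f z))) :
    ∃ ζ : X, ζ ⤳ z ∧ IsMaxPt ζ ∧ IsMaxPt (f ζ) ∧ tdeg f ζ = tdeg f z := by
  have hXN : IsLocallyNoetherian X := LocallyOfFiniteType.isLocallyNoetherian f
  have hfinX : ringKrullDim (X.presheaf.stalk z) < ⊤ := ringKrullDim_lt_top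
  have hfinY : ringKrullDim (Y.presheaf.stalk (f z)) < ⊤ := ringKrullDim_lt_top
  obtain ⟨p, hp, hpdim⟩ := exists_minimalPrimes_dim_eq (X.presheaf.stalk z) hfinX
  have hpprime : p.IsPrime := hp.1.1
  obtain ⟨ζ, h, rfl⟩ := exists_specializes_ker_eq z p
  have hζmax : IsMaxPt ζ := (ker_mem_minimalPrimes_iff z ζ h).mp hp
  obtain ⟨a, b, ha, hb, hab⟩ := gen_formula f z hUC ζ h
  have hζfib : ∀ w : X, w ⤳ ζ → f w = f ζ → w = ζ := fun w hw _ => hζmax w hw
  have h1 := fibreDimAt_le_of_specializes f ζ z h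
  rw [fibreDimAt_eq_tdeg_of_maximal' f ζ hζfib, fibreDimAt_eq_tdeg_of_maximal' f z hmax] at h1
  have h1' : tdeg f ζ ≤ tdeg f z := by exact_mod_cast h1
  have hrz : rt f z = tdeg f z := rfl
  have hrζ : rt f ζ = tdeg f ζ := rfl
  rw [hrz, hrζ] at hab
  have hble : ringKrullDim (Cyc.LocQuot (f z) (f ζ) (h.map f.continuous)) ≤
      ringKrullDim (Y.presheaf.stalk (f z)) := ringKrullDim_quotient_le _
  have ha' : ringKrullDim (X.presheaf.stalk z) = (a : WithBot ℕ∞) := by
    rw [← hpdim]; exact ha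
  rw [hb, ← hdim, ha'] at hble
  have hba : b ≤ a := by exact_mod_cast hble
  have hbeq : b = a := by omega
  have htd : tdeg f ζ = tdeg f z := by omega
  refine ⟨ζ, h, hζmax, ?_, htd⟩
  rw [← ker_mem_minimalPrimes_iff (f z) (f ζ) (h.map f.continuous)]
  have hkprime : (RingHom.ker (Cyc.specMap (f z) (f ζ) (h.map f.continuous))).IsPrime :=
    RingHom.ker_isPrime _
  apply mem_minimalPrimes_of_dim_quotient_eq _ _ hfinY
  change ringKrullDim (Cyc.LocQuot (f z) (f ζ) (h.map f.continuous)) = _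
  rw [hb, hbeq, ← ha', hdim]

/-- if every component dimension of the fibre over `y` is one of the fibre over `η`, then
`dim X_y ≤ dim X_η` -/
theorem dim_fiber_le_of_compDims_subset (f : X ⟶ Y) [LocallyOfFiniteType f] (y η : Y)
    (h : compDims f y ⊆ compDims f η) :
    topologicalKrullDim (f.fiber y) ≤ topologicalKrullDim (f.fiber η) := by
  rw [dim_fiber_le_iff]
  intro x hx
  obtain ⟨w, -, hfw, hwmax, hw⟩ := exists_maxInFibre_fibreDimAt_eq f x
  obtain ⟨ζ, hζ, -, hζtd⟩ := h ⟨w, hfw.trans hx, hwmax, rfl⟩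
  rw [hw, ← hζtd]
  exact tdeg_le_dim_fiber' f ζ η hζ

end Groth.Agent.Lib.H56OpenDim
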