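import Groth.Agent.Lib.GenericFibrePoint

/-!
# Closed points of fibres: transcendence degree zero (helper63)

Complements to `Lib/GenericFibrePoint`:

* `exists_nat_trdeg_eq`: the transcendence degree of a finite type extension of domains is finite.
* `ineq_of_prime_le'`: relative form of the dimension inequality for a pair of primes `Q₀ ≤ q`.
* `exists_prime_over'`: over a Noetherian base, a prime `P` of a finite type algebra `B` specializes
  to a prime `Q` with the same contraction, `ht (Q / P) = trdeg κ(P)/κ(P ∩ R)` and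
  `trdeg κ(Q)/κ(Q ∩ R) = 0`.
* `exists_point_trdeg_zero`: the scheme version (a point of the fibre through `x` in the closure of
  `x` whose residue field is algebraic over the residue field of the base point).
-/

set_option autoImplicit false
universe u

namespace Groth.Agent.Lib.GenericFibrePoint

open Cardinal Groth.Agent.Lib.TrdegTransfer Groth.Agent.Lib.DimIneqCore
  Groth.Agent.Lib.DimIneqScheme

section Alg

/-- The transcendence degree of a finite type extension of domains is a natural number. -/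
theorem exists_nat_trdeg_eq {R B : Type u} [CommRing R] [CommRing B] [IsDomain R] [IsDomain B]
    [Algebra R B] [FaithfulSMul R B] [Algebra.FiniteType R B] :
    ∃ n : ℕ, Algebra.trdeg R B = n := by
  let M := nonZeroDivisors R
  let K := Localization M
  let D := Localization (Algebra.algebraMapSubmonoid B M)
  have hM : Algebra.algebraMapSubmonoid B M ≤ nonZeroDivisors B :=
    map_le_nonZeroDivisors_of_injective _ (FaithfulSMul.algebraMap_injective R B) le_rfl
  haveI : IsDomain D := IsLocalization.isDomain_localization hM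
  letI : Field K := inferInstanceAs (Field (FractionRing R))
  haveI : Algebra.FiniteType K D := by
    have h0 : (algebraMap R B).FiniteType := RingHom.finiteType_algebraMap.mpr inferInstance
    haveI : IsLocalization (Submonoid.map (algebraMap R B) M) D :=
      inferInstanceAs (IsLocalization (Algebra.algebraMapSubmonoid B M) D)
    have := RingHom.finiteType_localizationPreserves (algebraMap R B) M K D h0
    exact RingHom.finiteType_algebraMap.mp this
  obtain ⟨n', h1, -, -⟩ := Groth.Agent.S2680.result K D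
  have h6 : Algebra.trdeg K (FractionRing D) = Algebra.trdeg R B := by
    haveI : Algebra.IsAlgebraic R K := IsLocalization.isAlgebraic K M
    haveI : Algebra.IsAlgebraic B D := IsLocalization.isAlgebraic D (Algebra.algebraMapSubmonoid B M)
    haveI : Algebra.IsAlgebraic D (FractionRing D) :=
      IsLocalization.isAlgebraic (FractionRing D) (nonZeroDivisors D)
    haveI : Algebra.IsAlgebraic B (FractionRing D) := Algebra.IsAlgebraic.trans B D (FractionRing D)
    haveI : FaithfulSMul B D :=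
      (faithfulSMul_iff_algebraMap_injective _ _).mpr (IsLocalization.injective D hM)
    haveI : FaithfulSMul B (FractionRing D) := FaithfulSMul.trans B D (FractionRing D)
    haveI : FaithfulSMul K (FractionRing D) :=
      (faithfulSMul_iff_algebraMap_injective _ _).mpr (algebraMap K (FractionRing D)).injective
    exact trdeg_eq_of_isAlgebraic_square (A := R) (B := B) (K := K) (L := FractionRing D)
  exact ⟨n', by rw [← h6, h1]⟩

variable {R B : Type u} [CommRing R] [CommRing B] [Algebra R B]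

/-- Finiteness of the transcendence degree of the residue extension at a prime of a finite type
algebra. -/
theorem exists_nat_trdeg_quotient_eq [Algebra.FiniteType R B] (P : Ideal B) [P.IsPrime] :
    ∃ n : ℕ, Algebra.trdeg (R ⧸ P.under R) (B ⧸ P) = n := by
  haveI : Algebra.FiniteType R (B ⧸ P) :=
    Algebra.FiniteType.of_surjective (Ideal.Quotient.mkₐ R P) Ideal.Quotient.mk_surjective
  haveI : Algebra.FiniteType (R ⧸ P.under R) (B ⧸ P) :=
    Algebra.FiniteType.of_restrictScalars_finiteType R (R ⧸ P.under R) (B ⧸ P)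
  exact exists_nat_trdeg_eq

/-- The dimension inequality for the quotient by a prime `Q₀ ≤ q` of `B`, in relative form. -/
theorem ineq_of_prime_le' (H : DimIneq.{u}) [IsNoetherianRing R] [Algebra.FiniteType R B]
    (q : Ideal B) [q.IsPrime] (Q₀ : Ideal B) [Q₀.IsPrime] (hle : Q₀ ≤ q) :
    ((q.map (Ideal.Quotient.mk Q₀)).height : Cardinal.{u}) +
        Algebra.trdeg (R ⧸ q.under R) (B ⧸ q) ≤
      (((q.under R).map (Ideal.Quotient.mk (Q₀.under R))).height : Cardinal.{u}) +
        Algebra.trdeg (R ⧸ Q₀.under R) (B ⧸ Q₀) := by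
  have hPle : Q₀.under R ≤ q.under R := Ideal.comap_mono hle
  haveI hp' : ((q.under R).map (Ideal.Quotient.mk (Q₀.under R))).IsPrime :=
    isPrime_map_mk (Q₀.under R) (q.under R) hPle
  haveI hq' : (q.map (Ideal.Quotient.mk Q₀)).IsPrime := isPrime_map_mk Q₀ q hle
  haveI : (q.map (Ideal.Quotient.mk Q₀)).LiesOver
      ((q.under R).map (Ideal.Quotient.mk (Q₀.under R))) := by
    constructor
    ext x
    obtain ⟨r, rfl⟩ := Ideal.Quotient.mk_surjective x
    have h1 : Ideal.Quotient.mk (Q₀.under R) r ∈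
        (q.under R).map (Ideal.Quotient.mk (Q₀.under R)) ↔ r ∈ q.under R :=
      Ideal.mem_quotient_iff_mem hPle
    have h2 : Ideal.Quotient.mk (Q₀.under R) r ∈
        (q.map (Ideal.Quotient.mk Q₀)).under (R ⧸ Q₀.under R) ↔ algebraMap R B r ∈ q := by
      change Ideal.Quotient.mk Q₀ (algebraMap R B r) ∈ q.map (Ideal.Quotient.mk Q₀) ↔ _
      exact Ideal.mem_quotient_iff_mem hle
    rw [h1, h2]
    rfl
  haveI : Algebra.FiniteType R (B ⧸ Q₀) :=
    Algebra.FiniteType.of_surjective (Ideal.Quotient.mkₐ R Q₀) Ideal.Quotient.mk_surjective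
  haveI : Algebra.FiniteType (R ⧸ Q₀.under R) (B ⧸ Q₀) :=
    Algebra.FiniteType.of_restrictScalars_finiteType R (R ⧸ Q₀.under R) (B ⧸ Q₀)
  have h1 := H (R ⧸ Q₀.under R) (B ⧸ Q₀) ((q.under R).map (Ideal.Quotient.mk (Q₀.under R)))
    (q.map (Ideal.Quotient.mk Q₀))
  have h3 : Algebra.trdeg ((R ⧸ Q₀.under R) ⧸ (q.under R).map (Ideal.Quotient.mk (Q₀.under R)))
      ((B ⧸ Q₀) ⧸ q.map (Ideal.Quotient.mk Q₀)) = Algebra.trdeg (R ⧸ q.under R) (B ⧸ q) := by
    refine trdeg_eq_of_ringEquiv (DoubleQuot.quotQuotEquivQuotOfLE hPle)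
      (DoubleQuot.quotQuotEquivQuotOfLE hle) (fun a => ?_)
    obtain ⟨a', rfl⟩ := Ideal.Quotient.mk_surjective a
    obtain ⟨r, rfl⟩ := Ideal.Quotient.mk_surjective a'
    rfl
  rw [h3] at h1
  exact h1

/-- Over a Noetherian base, every prime `P` of a finite type algebra specializes to a prime `Q` with
the same contraction, of relative height `trdeg κ(P)/κ(P ∩ R)`, and with algebraic residue
extension. -/
theorem exists_prime_over' (H : DimIneq.{u}) [IsNoetherianRing R] [Algebra.FiniteType R B]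
    (P : Ideal B) [P.IsPrime] :
    ∃ (n : ℕ) (Q : Ideal B), Q.IsPrime ∧ P ≤ Q ∧ Q.under R = P.under R ∧
      Algebra.trdeg (R ⧸ P.under R) (B ⧸ P) = n ∧ (n : ℕ∞) ≤ Q.height ∧
      Algebra.trdeg (R ⧸ Q.under R) (B ⧸ Q) = 0 := by
  obtain ⟨n, hn⟩ := exists_nat_trdeg_quotient_eq (R := R) P
  haveI : Algebra.FiniteType R (B ⧸ P) :=
    Algebra.FiniteType.of_surjective (Ideal.Quotient.mkₐ R P) Ideal.Quotient.mk_surjective
  haveI : Algebra.FiniteType (R ⧸ P.under R) (B ⧸ P) :=
    Algebra.FiniteType.of_restrictScalars_finiteType R (R ⧸ P.under R) (B ⧸ P)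
  obtain ⟨q, hq, hq0, hqh⟩ := exists_prime_height_eq (R := R ⧸ P.under R) (B := B ⧸ P) n hn
  have hPle : P ≤ q.comap (Ideal.Quotient.mk P) := by
    intro b hb
    rw [Ideal.mem_comap, Ideal.Quotient.eq_zero_iff_mem.mpr hb]
    exact zero_mem _
  have hund : (q.comap (Ideal.Quotient.mk P)).under R = P.under R := by
    ext r
    have h1 : r ∈ (q.comap (Ideal.Quotient.mk P)).under R ↔
        Ideal.Quotient.mk (P.under R) r ∈ q.under (R ⧸ P.under R) := Iff.rfl
    rw [h1, hq0, Ideal.mem_bot, Ideal.Quotient.eq_zero_iff_mem]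
  have hmap : (q.comap (Ideal.Quotient.mk P)).map (Ideal.Quotient.mk P) = q :=
    Ideal.map_comap_of_surjective _ Ideal.Quotient.mk_surjective q
  haveI hQ : (q.comap (Ideal.Quotient.mk P)).IsPrime := inferInstance
  refine ⟨n, q.comap (Ideal.Quotient.mk P), hQ, hPle, hund, hn, ?_, ?_⟩
  · have h1 := height_map_mk_le P (q.comap (Ideal.Quotient.mk P)) hPle
    rw [hmap] at h1
    rw [← hqh]
    exact h1
  · have h1 := ineq_of_prime_le' (R := R) H (q.comap (Ideal.Quotient.mk P)) P hPle
    have h0 : (((q.comap (Ideal.Quotient.mk P)).under R).map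
        (Ideal.Quotient.mk (P.under R))).height = 0 := by
      rw [hund, Ideal.map_quotient_self, Ideal.height_bot]
    rw [hmap, hqh, hn, h0] at h1
    by_contra hne
    have h2 : (1 : Cardinal.{u}) ≤ Algebra.trdeg (R ⧸ (q.comap (Ideal.Quotient.mk P)).under R)
        (B ⧸ q.comap (Ideal.Quotient.mk P)) := Cardinal.one_le_iff_ne_zero.mpr hne
    have h3 : ((n : ℕ∞) : Cardinal.{u}) + 1 ≤ ((0 : ℕ∞) : Cardinal.{u}) + (n : Cardinal.{u}) :=
      (add_le_add le_rfl h2).trans h1
    have h4 : ((n + 1 : ℕ) : Cardinal.{u}) ≤ ((n : ℕ) : Cardinal.{u}) := by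
      have e1 : ((n : ℕ∞) : Cardinal.{u}) = (n : Cardinal.{u}) := Cardinal.ofENat_nat n
      have e2 : ((0 : ℕ∞) : Cardinal.{u}) = 0 := Cardinal.ofENat_zero
      rw [e1, e2, zero_add] at h3
      exact_mod_cast h3
    have h5 : n + 1 ≤ n := by exact_mod_cast h4
    omega

end Alg

section Sch

open AlgebraicGeometry

variable {X S : Scheme.{u}} (f : X ⟶ S)

/-- The transcendence degree of a residue field extension of a morphism locally of finite type is
finite. -/
theorem exists_nat_trdeg_residueField [LocallyOfFiniteType f] (x : X) :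
    ∃ n : ℕ, letI := (f.residueFieldMap x).hom.toAlgebra
      Algebra.trdeg (S.residueField (f x)) (X.residueField x) = n := by
  obtain ⟨V, hV, hfxV⟩ : ∃ V : S.Opens, IsAffineOpen V ∧ f x ∈ V := by
    obtain ⟨_, ⟨V, hV, rfl⟩, hxV, -⟩ := S.isBasis_affineOpens.exists_subset_of_mem_open
      (Set.mem_univ (f x)) isOpen_univ
    exact ⟨V, hV, hxV⟩
  obtain ⟨U, hU, hx, e⟩ : ∃ U : X.Opens, IsAffineOpen U ∧ x ∈ U ∧ U ≤ f ⁻¹ᵁ V := by
    obtain ⟨_, ⟨U, hU, rfl⟩, hxU, hUV⟩ := X.isBasis_affineOpens.exists_subset_of_mem_open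
      (show x ∈ ((f ⁻¹ᵁ V : X.Opens) : Set X) from hfxV) (f ⁻¹ᵁ V).isOpen
    exact ⟨U, hU, hxU, hUV⟩
  letI alg := (f.appLE V U e).hom.toAlgebra
  haveI : Algebra.FiniteType Γ(S, V) Γ(X, U) := f.finiteType_appLE hV hU e
  obtain ⟨n, hn⟩ := exists_nat_trdeg_quotient_eq (R := Γ(S, V)) (hU.primeIdealOf ⟨x, hx⟩).asIdeal
  refine ⟨n, ?_⟩
  rw [trdeg_residueField_eq f hU hV e x hx]
  exact hn

/-- For `f` locally of finite type over a locally Noetherian base and `x : X` there is a
specialization `z` of `x` in the same fibre with `dim O_{X,z} ≥ trdeg κ(x)/κ(f x)` and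
`trdeg κ(z)/κ(f z) = 0` (a closed point of the closure of `x` in its fibre). -/
theorem exists_point_trdeg_zero (H : DimIneq.{u}) [IsLocallyNoetherian S] [LocallyOfFiniteType f]
    (x : X) :
    ∃ (n : ℕ) (z : X), x ⤳ z ∧ f z = f x ∧
      (letI := (f.residueFieldMap x).hom.toAlgebra;
        Algebra.trdeg (S.residueField (f x)) (X.residueField x) = n) ∧
      (n : WithBot ℕ∞) ≤ ringKrullDim (X.presheaf.stalk z) ∧
      (letI := (f.residueFieldMap z).hom.toAlgebra;
        Algebra.trdeg (S.residueField (f z)) (X.residueField z) = 0) := by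
  obtain ⟨V, hV, hfxV⟩ : ∃ V : S.Opens, IsAffineOpen V ∧ f x ∈ V := by
    obtain ⟨_, ⟨V, hV, rfl⟩, hxV, -⟩ := S.isBasis_affineOpens.exists_subset_of_mem_open
      (Set.mem_univ (f x)) isOpen_univ
    exact ⟨V, hV, hxV⟩
  obtain ⟨U, hU, hx, e⟩ : ∃ U : X.Opens, IsAffineOpen U ∧ x ∈ U ∧ U ≤ f ⁻¹ᵁ V := by
    obtain ⟨_, ⟨U, hU, rfl⟩, hxU, hUV⟩ := X.isBasis_affineOpens.exists_subset_of_mem_open
      (show x ∈ ((f ⁻¹ᵁ V : X.Opens) : Set X) from hfxV) (f ⁻¹ᵁ V).isOpen
    exact ⟨U, hU, hxU, hUV⟩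
  letI alg := (f.appLE V U e).hom.toAlgebra
  haveI : IsNoetherianRing Γ(S, V) := IsLocallyNoetherian.component_noetherian ⟨V, hV⟩
  haveI : Algebra.FiniteType Γ(S, V) Γ(X, U) := f.finiteType_appLE hV hU e
  obtain ⟨n, Q, hQ, hPQ, hund, hn, hht, htr⟩ :=
    exists_prime_over' (R := Γ(S, V)) H (hU.primeIdealOf ⟨x, hx⟩).asIdeal
  let P : Spec Γ(X, U) := ⟨Q, hQ⟩
  have hzU : hU.fromSpec P ∈ U := by
    have : hU.fromSpec P ∈ Set.range hU.fromSpec := Set.mem_range_self P
    rwa [hU.range_fromSpec] at this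
  have hP : hU.primeIdealOf ⟨hU.fromSpec P, hzU⟩ = P :=
    hU.fromSpec.isOpenEmbedding.injective (hU.fromSpec_primeIdealOf ⟨_, hzU⟩)
  refine ⟨n, hU.fromSpec P, ?_, ?_, ?_, ?_, ?_⟩
  · have h1 : hU.primeIdealOf ⟨x, hx⟩ ⤳ P := (PrimeSpectrum.le_iff_specializes _ P).mp hPQ
    have h2 := h1.map hU.fromSpec.continuous
    rwa [hU.fromSpec_primeIdealOf ⟨x, hx⟩] at h2
  · have h1 : (hU.primeIdealOf ⟨x, hx⟩).asIdeal.under Γ(S, V) =
        (hV.primeIdealOf ⟨f x, e hx⟩).asIdeal :=
      congrArg PrimeSpectrum.asIdeal (IsAffineOpen.comap_primeIdealOf_appLE V hV U hU e hx)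
    have h2 : (hU.primeIdealOf ⟨hU.fromSpec P, hzU⟩).asIdeal.under Γ(S, V) =
        (hV.primeIdealOf ⟨f (hU.fromSpec P), e hzU⟩).asIdeal :=
      congrArg PrimeSpectrum.asIdeal (IsAffineOpen.comap_primeIdealOf_appLE V hV U hU e hzU)
    rw [hP] at h2
    have h3 : hV.primeIdealOf ⟨f (hU.fromSpec P), e hzU⟩ = hV.primeIdealOf ⟨f x, e hx⟩ := by
      apply PrimeSpectrum.ext
      rw [← h2, ← h1]
      exact hund
    have h4 := congrArg hV.fromSpec h3
    rwa [hV.fromSpec_primeIdealOf ⟨_, e hzU⟩, hV.fromSpec_primeIdealOf ⟨_, e hx⟩] at h4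
  · rw [trdeg_residueField_eq f hU hV e x hx]
    exact hn
  · have hdimX : ringKrullDim (X.presheaf.stalk (hU.fromSpec P)) = Q.height := by
      letI := X.presheaf.algebra_section_stalk ⟨hU.fromSpec P, hzU⟩
      haveI := hU.isLocalization_stalk ⟨hU.fromSpec P, hzU⟩
      rw [hP] at this
      exact IsLocalization.AtPrime.ringKrullDim_eq_height Q _
    rw [hdimX]
    exact_mod_cast hht
  · rw [trdeg_residueField_eq f hU hV e (hU.fromSpec P) hzU]
    have h5 : (hU.primeIdealOf ⟨hU.fromSpec P, hzU⟩).asIdeal = Q := congrArg PrimeSpectrum.asIdeal hP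
    rw [h5]
    exact htr

end Sch

end Groth.Agent.Lib.GenericFibrePoint
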