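import Groth.Agent.Lib.DimFormulaLocal
import Groth.Agent.Lib.DimFormulaScheme2
import Groth.Agent.Lib.GenericFibrePoint2
import Groth.Agent.Lib.Faltings53a
import Groth.Agent.Lib.H30FibRes

/-!
# The dimension inequality along an irreducible component (helper63)

* `stalk_ineq_component`: for `f : X ⟶ S` locally of finite type over a locally Noetherian base and
  `x : X` there is a generic point `ξ ⤳ x` of an irreducible component of `X` with
  `dim O_{X,x} + trdeg κ(x)/κ(f x) + dim O_{S,f ξ} ≤ dim O_{S,f x} + trdeg κ(ξ)/κ(f ξ)`.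
* `stalk_formula_local_le`: if `O_{S,f x}` is universally catenary, `ξ ⤳ x` and `f ξ` is a generic
  point of `S`, then `dim O_{S,f x} + trdeg κ(ξ)/κ(f ξ) ≤ dim O_{X,x} + trdeg κ(x)/κ(f x)`.
* `topologicalKrullDim_closure_inter_fibre`: the closure of `ξ` in its fibre, as a subspace of `X`,
  has dimension `trdeg κ(ξ)/κ(f ξ)`.
-/

set_option autoImplicit false
universe u

namespace Groth.Agent.Lib.DimIneqComponent

open CategoryTheory AlgebraicGeometry Cardinal Groth.Agent.Lib.DimIneqCore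
  Groth.Agent.Lib.DimIneqScheme Groth.Agent.Lib.DimFormulaScheme Groth.Agent.Lib.DimFormulaLocal
  Groth.Agent.Lib.GenericFibrePoint

variable {X S : Scheme.{u}}

theorem card_arith (a b c e1 e2 : ℕ) (tx tξ : Cardinal.{u}) (hae : a ≤ e1) (hce : c + e2 ≤ b)
    (h : (e1 : Cardinal.{u}) + tx ≤ e2 + tξ) : (a : Cardinal.{u}) + tx + c ≤ b + tξ := by
  calc (a : Cardinal.{u}) + tx + c ≤ (e1 : Cardinal.{u}) + tx + c := by
        gcongr
    _ ≤ (e2 : Cardinal.{u}) + tξ + c := by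
        gcongr
    _ = ((c + e2 : ℕ) : Cardinal.{u}) + tξ := by
        push_cast; ring
    _ ≤ (b : Cardinal.{u}) + tξ := by
        gcongr

theorem primeIdealOf_le_of_specializes {U : X.Opens} (hU : IsAffineOpen U) (ξ x : X)
    (hξ : ξ ∈ U) (hx : x ∈ U) (h : ξ ⤳ x) :
    (hU.primeIdealOf ⟨ξ, hξ⟩).asIdeal ≤ (hU.primeIdealOf ⟨x, hx⟩).asIdeal := by
  have h1 : hU.fromSpec (hU.primeIdealOf ⟨ξ, hξ⟩) = ξ := hU.fromSpec_primeIdealOf ⟨ξ, hξ⟩
  have h2 : hU.fromSpec (hU.primeIdealOf ⟨x, hx⟩) = x := hU.fromSpec_primeIdealOf ⟨x, hx⟩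
  have h3 : (hU.primeIdealOf ⟨ξ, hξ⟩ : Spec Γ(X, U)) ⤳ hU.primeIdealOf ⟨x, hx⟩ :=
    hU.fromSpec.isOpenEmbedding.isInducing.specializes_iff.mp (by rw [h1, h2]; exact h)
  exact (PrimeSpectrum.le_iff_specializes _ _).mpr h3

theorem ringKrullDim_stalk_eq_height {U : X.Opens} (hU : IsAffineOpen U) (x : X) (hx : x ∈ U) :
    ringKrullDim (X.presheaf.stalk x) = (hU.primeIdealOf ⟨x, hx⟩).asIdeal.height := by
  letI := X.presheaf.algebra_section_stalk ⟨x, hx⟩
  haveI := hU.isLocalization_stalk ⟨x, hx⟩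
  exact IsLocalization.AtPrime.ringKrullDim_eq_height _ _

/-- **The dimension inequality along a suitable irreducible component through `x`.** -/
theorem stalk_ineq_component (f : X ⟶ S) [IsLocallyNoetherian S] [LocallyOfFiniteType f] (x : X) :
    ∃ ξ : X, closure {ξ} ∈ irreducibleComponents X ∧ ξ ⤳ x ∧
      ∃ a b c : ℕ, ringKrullDim (X.presheaf.stalk x) = a ∧
        ringKrullDim (S.presheaf.stalk (f x)) = b ∧
        ringKrullDim (S.presheaf.stalk (f ξ)) = c ∧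
        (letI := (f.residueFieldMap x).hom.toAlgebra;
         letI := (f.residueFieldMap ξ).hom.toAlgebra;
         (a : Cardinal.{u}) + Algebra.trdeg (S.residueField (f x)) (X.residueField x) + c ≤
          b + Algebra.trdeg (S.residueField (f ξ)) (X.residueField ξ)) := by
  obtain ⟨V, hV, hfxV⟩ : ∃ V : S.Opens, IsAffineOpen V ∧ f x ∈ V := by
    obtain ⟨_, ⟨V, hV, rfl⟩, hxV, -⟩ := S.isBasis_affineOpens.exists_subset_of_mem_open
      (Set.mem_univ (f x)) isOpen_univ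
    exact ⟨V, hV, hxV⟩
  obtain ⟨U, hU, hx, e⟩ : ∃ U : X.Opens, IsAffineOpen U ∧ x ∈ U ∧ U ≤ f ⁻¹ᵁ V := by
    obtain ⟨_, ⟨U, hU, rfl⟩, hxU, hUV⟩ := X.isBasis_affineOpens.exists_subset_of_mem_open
      (show x ∈ ((f ⁻¹ᵁ V : X.Opens) : Set X) from hfxV) (f ⁻¹ᵁ V).isOpen
    exact ⟨U, hU, hxU, hUV⟩
  letI alg := (f.appLE V U e).hom.toAlgebra
  haveI : IsNoetherianRing Γ(S, V) := IsLocallyNoetherian.component_noetherian ⟨V, hV⟩
  haveI : Algebra.FiniteType Γ(S, V) Γ(X, U) := f.finiteType_appLE hV hU e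
  haveI : IsNoetherianRing Γ(X, U) := Algebra.FiniteType.isNoetherianRing Γ(S, V) Γ(X, U)
  obtain ⟨Q₀, hQ₀, hle, hht⟩ := exists_minimalPrimes_height_le (hU.primeIdealOf ⟨x, hx⟩).asIdeal
  haveI : Q₀.IsPrime := hQ₀.1.1
  obtain ⟨ξ, hξU, hirr, hspec, hQ⟩ := exists_generic_of_minimalPrime hU x hx Q₀ hQ₀ hle
  refine ⟨ξ, hirr, hspec, ?_⟩
  have h1 := ineq_of_prime_le' (R := Γ(S, V)) dimIneq (hU.primeIdealOf ⟨x, hx⟩).asIdeal Q₀ hle
  have hPle : Q₀.under Γ(S, V) ≤ (hU.primeIdealOf ⟨x, hx⟩).asIdeal.under Γ(S, V) :=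
    Ideal.comap_mono hle
  have h2 := Groth.Agent.Lib.Faltings53.height_add_quot_le (Q₀.under Γ(S, V))
    ((hU.primeIdealOf ⟨x, hx⟩).asIdeal.under Γ(S, V)) hPle
  have hunder : (hU.primeIdealOf ⟨x, hx⟩).asIdeal.under Γ(S, V) =
      (hV.primeIdealOf ⟨f x, e hx⟩).asIdeal :=
    congrArg PrimeSpectrum.asIdeal (IsAffineOpen.comap_primeIdealOf_appLE V hV U hU e hx)
  have hunderξ : Q₀.under Γ(S, V) = (hV.primeIdealOf ⟨f ξ, e hξU⟩).asIdeal := by
    rw [← hQ]
    exact congrArg PrimeSpectrum.asIdeal (IsAffineOpen.comap_primeIdealOf_appLE V hV U hU e hξU)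
  have htx := trdeg_residueField_eq f hU hV e x hx
  have htξ := trdeg_residueField_eq f hU hV e ξ hξU
  rw [hQ] at htξ
  rw [← htx, ← htξ] at h1
  -- all the heights are finite
  haveI hq'prime : ((hU.primeIdealOf ⟨x, hx⟩).asIdeal.map (Ideal.Quotient.mk Q₀)).IsPrime :=
    isPrime_map_mk Q₀ _ hle
  haveI hp'prime : (((hU.primeIdealOf ⟨x, hx⟩).asIdeal.under Γ(S, V)).map
      (Ideal.Quotient.mk (Q₀.under Γ(S, V)))).IsPrime := isPrime_map_mk _ _ hPle
  obtain ⟨a, ha⟩ := ENat.ne_top_iff_exists.mp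
    (Ideal.height_ne_top_of_isPrime (I := (hU.primeIdealOf ⟨x, hx⟩).asIdeal))
  obtain ⟨b, hb⟩ := ENat.ne_top_iff_exists.mp
    (Ideal.height_ne_top_of_isPrime (I := (hU.primeIdealOf ⟨x, hx⟩).asIdeal.under Γ(S, V)))
  obtain ⟨c, hc⟩ := ENat.ne_top_iff_exists.mp
    (Ideal.height_ne_top_of_isPrime (I := Q₀.under Γ(S, V)))
  obtain ⟨e1, he1⟩ := ENat.ne_top_iff_exists.mp
    (Ideal.height_ne_top_of_isPrime
      (I := (hU.primeIdealOf ⟨x, hx⟩).asIdeal.map (Ideal.Quotient.mk Q₀)))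
  obtain ⟨e2, he2⟩ := ENat.ne_top_iff_exists.mp
    (Ideal.height_ne_top_of_isPrime
      (I := ((hU.primeIdealOf ⟨x, hx⟩).asIdeal.under Γ(S, V)).map
        (Ideal.Quotient.mk (Q₀.under Γ(S, V)))))
  rw [← ha, ← he1] at hht
  rw [← hc, ← he2, ← hb] at h2
  rw [← he1, ← he2] at h1
  have hae : a ≤ e1 := by exact_mod_cast hht
  have hce : c + e2 ≤ b := by exact_mod_cast h2
  refine ⟨a, b, c, ?_, ?_, ?_, ?_⟩
  · rw [ringKrullDim_stalk_eq_height hU x hx, ← ha]; rfl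
  · rw [ringKrullDim_stalk_eq_height hV (f x) (e hx), ← hunder, ← hb]; rfl
  · rw [ringKrullDim_stalk_eq_height hV (f ξ) (e hξU), ← hunderξ, ← hc]; rfl
  · have h1' : ((e1 : ℕ) : Cardinal.{u}) +
        (letI := (f.residueFieldMap x).hom.toAlgebra;
          Algebra.trdeg (S.residueField (f x)) (X.residueField x)) ≤
        ((e2 : ℕ) : Cardinal.{u}) +
        (letI := (f.residueFieldMap ξ).hom.toAlgebra;
          Algebra.trdeg (S.residueField (f ξ)) (X.residueField ξ)) := by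
      simpa using h1
    exact card_arith a b c e1 e2 _ _ hae hce h1'

/-- **Lower bound from the dimension formula**: if `O_{S,f x}` is universally catenary, `ξ ⤳ x`
and `f ξ` specializes to every point of `S`, then
`dim O_{S,f x} + trdeg κ(ξ)/κ(f ξ) ≤ dim O_{X,x} + trdeg κ(x)/κ(f x)`. -/
theorem stalk_formula_local_le (f : X ⟶ S) [IsLocallyNoetherian S] [LocallyOfFiniteType f] (x : X)
    (hUC : CAlg.IsUniversallyCatenary (S.presheaf.stalk (f x)))
    (ξ : X) (hξx : ξ ⤳ x) (hfξ : ∀ y : S, f ξ ⤳ y) :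
    ∃ a b : ℕ, ringKrullDim (X.presheaf.stalk x) = a ∧
      ringKrullDim (S.presheaf.stalk (f x)) = b ∧
      (letI := (f.residueFieldMap x).hom.toAlgebra;
       letI := (f.residueFieldMap ξ).hom.toAlgebra;
      (b : Cardinal.{u}) + Algebra.trdeg (S.residueField (f ξ)) (X.residueField ξ) ≤
        a + Algebra.trdeg (S.residueField (f x)) (X.residueField x)) := by
  obtain ⟨V, hV, hfxV⟩ : ∃ V : S.Opens, IsAffineOpen V ∧ f x ∈ V := by
    obtain ⟨_, ⟨V, hV, rfl⟩, hxV, -⟩ := S.isBasis_affineOpens.exists_subset_of_mem_open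
      (Set.mem_univ (f x)) isOpen_univ
    exact ⟨V, hV, hxV⟩
  obtain ⟨U, hU, hx, e⟩ : ∃ U : X.Opens, IsAffineOpen U ∧ x ∈ U ∧ U ≤ f ⁻¹ᵁ V := by
    obtain ⟨_, ⟨U, hU, rfl⟩, hxU, hUV⟩ := X.isBasis_affineOpens.exists_subset_of_mem_open
      (show x ∈ ((f ⁻¹ᵁ V : X.Opens) : Set X) from hfxV) (f ⁻¹ᵁ V).isOpen
    exact ⟨U, hU, hxU, hUV⟩
  have hξU : ξ ∈ U := hξx.mem_open U.isOpen hx
  letI alg := (f.appLE V U e).hom.toAlgebra
  haveI : IsNoetherianRing Γ(S, V) := IsLocallyNoetherian.component_noetherian ⟨V, hV⟩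
  haveI : Algebra.FiniteType Γ(S, V) Γ(X, U) := f.finiteType_appLE hV hU e
  haveI : IsNoetherianRing Γ(X, U) := Algebra.FiniteType.isNoetherianRing Γ(S, V) Γ(X, U)
  have hunder : (hU.primeIdealOf ⟨x, hx⟩).asIdeal.under Γ(S, V) =
      (hV.primeIdealOf ⟨f x, e hx⟩).asIdeal :=
    congrArg PrimeSpectrum.asIdeal (IsAffineOpen.comap_primeIdealOf_appLE V hV U hU e hx)
  have hR : CAlg.IsUniversallyCatenary
      (Localization.AtPrime ((hU.primeIdealOf ⟨x, hx⟩).asIdeal.under Γ(S, V))) := by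
    refine uc_atPrime_of_eq _ _ hunder.symm ?_
    letI := S.presheaf.algebra_section_stalk ⟨f x, e hx⟩
    haveI := hV.isLocalization_stalk ⟨f x, e hx⟩
    let E : S.presheaf.stalk (f x) ≃ₐ[Γ(S, V)]
        Localization.AtPrime (hV.primeIdealOf ⟨f x, e hx⟩).asIdeal :=
      IsLocalization.algEquiv (hV.primeIdealOf ⟨f x, e hx⟩).asIdeal.primeCompl _ _
    exact Groth.Agent.Lib.ComplUC33.isUniversallyCatenary_of_surjective
      (E : S.presheaf.stalk (f x) →+* _) E.surjective hUC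
  have hle : (hU.primeIdealOf ⟨ξ, hξU⟩).asIdeal ≤ (hU.primeIdealOf ⟨x, hx⟩).asIdeal :=
    primeIdealOf_le_of_specializes hU ξ x hξU hx hξx
  have hmain := eq_of_prime_le_local (R := Γ(S, V)) (hU.primeIdealOf ⟨x, hx⟩).asIdeal hR
    (hU.primeIdealOf ⟨ξ, hξU⟩).asIdeal hle
  rw [← trdeg_residueField_eq f hU hV e x hx, ← trdeg_residueField_eq f hU hV e ξ hξU] at hmain
  have hunderξ : (hU.primeIdealOf ⟨ξ, hξU⟩).asIdeal.under Γ(S, V) =
      (hV.primeIdealOf ⟨f ξ, e hξU⟩).asIdeal :=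
    congrArg PrimeSpectrum.asIdeal (IsAffineOpen.comap_primeIdealOf_appLE V hV U hU e hξU)
  have hh1 : ((hU.primeIdealOf ⟨x, hx⟩).asIdeal.map
      (Ideal.Quotient.mk (hU.primeIdealOf ⟨ξ, hξU⟩).asIdeal)).height ≤
      (hU.primeIdealOf ⟨x, hx⟩).asIdeal.height :=
    height_map_mk_le _ _ hle
  have hh2 : (((hU.primeIdealOf ⟨x, hx⟩).asIdeal.under Γ(S, V)).map
      (Ideal.Quotient.mk ((hU.primeIdealOf ⟨ξ, hξU⟩).asIdeal.under Γ(S, V)))).height =
      (hV.primeIdealOf ⟨f x, e hx⟩).asIdeal.height := by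
    rw [hunder, hunderξ]
    exact height_map_mk_eq _ _
      (fun P hP => primeIdealOf_le_of_forall_specializes hV (f ξ) (e hξU) hfξ P hP)
  rw [hh2] at hmain
  haveI hq'prime : ((hU.primeIdealOf ⟨x, hx⟩).asIdeal.map
      (Ideal.Quotient.mk (hU.primeIdealOf ⟨ξ, hξU⟩).asIdeal)).IsPrime := isPrime_map_mk _ _ hle
  obtain ⟨a, ha⟩ := ENat.ne_top_iff_exists.mp
    (Ideal.height_ne_top_of_isPrime (I := (hU.primeIdealOf ⟨x, hx⟩).asIdeal))
  obtain ⟨b, hb⟩ := ENat.ne_top_iff_exists.mp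
    (Ideal.height_ne_top_of_isPrime (I := (hV.primeIdealOf ⟨f x, e hx⟩).asIdeal))
  obtain ⟨e1, he1⟩ := ENat.ne_top_iff_exists.mp
    (Ideal.height_ne_top_of_isPrime
      (I := (hU.primeIdealOf ⟨x, hx⟩).asIdeal.map
        (Ideal.Quotient.mk (hU.primeIdealOf ⟨ξ, hξU⟩).asIdeal)))
  rw [← he1, ← ha] at hh1
  rw [← he1, ← hb] at hmain
  have hea : e1 ≤ a := by exact_mod_cast hh1
  refine ⟨a, b, ?_, ?_, ?_⟩
  · rw [ringKrullDim_stalk_eq_height hU x hx, ← ha]; rfl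
  · rw [ringKrullDim_stalk_eq_height hV (f x) (e hx), ← hb]; rfl
  · have h1' : ((b : ℕ) : Cardinal.{u}) +
        (letI := (f.residueFieldMap ξ).hom.toAlgebra;
          Algebra.trdeg (S.residueField (f ξ)) (X.residueField ξ)) =
        ((e1 : ℕ) : Cardinal.{u}) +
        (letI := (f.residueFieldMap x).hom.toAlgebra;
          Algebra.trdeg (S.residueField (f x)) (X.residueField x)) := by
      simpa using hmain.symm
    rw [h1']
    gcongr

/-- The closure of `ξ` inside its fibre, as a subspace of `X`, has dimension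
`trdeg κ(ξ)/κ(f ξ)`. -/
theorem topologicalKrullDim_closure_inter_fibre (f : X ⟶ S) [LocallyOfFiniteType f] (ξ : X)
    (n : ℕ)
    (hn : (letI := (f.residueFieldMap ξ).hom.toAlgebra
      Algebra.trdeg (S.residueField (f ξ)) (X.residueField ξ)) = n) :
    topologicalKrullDim ↥(closure {ξ} ∩ f ⁻¹' {f ξ} : Set X) = (n : WithBot ℕ∞) := by
  rw [← Groth.Agent.Lib.H30FibRes.krullDim_closure_asFiber f ξ n hn]
  have himg : (f.fiberι (f ξ)) '' (closure ({f.asFiber ξ} : Set (f.fiber (f ξ)))) =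
      closure {ξ} ∩ f ⁻¹' {f ξ} := by
    rw [(f.fiberι (f ξ)).isEmbedding.isInducing.closure_eq_preimage_closure_image,
      Set.image_preimage_eq_inter_range, Set.image_singleton, f.fiberι_asFiber,
      Scheme.Hom.range_fiberι]
  rw [← himg]
  exact (IsHomeomorph.topologicalKrullDim_eq _
    ((f.fiberι (f ξ)).isEmbedding.homeomorphImage _).isHomeomorph).symm

end Groth.Agent.Lib.DimIneqComponent
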