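import Mathlib

/-!
# Transcendence degree of residue fields over a valuation ring

* `exists_dvd_all`: in a valuation ring, a nonempty finite set has an element dividing all others.
* `algebraicIndependent_of_quotient`: `V` a valuation ring, `C ⊇ V` a domain, `q` a prime of `C`;
  a family of `C` whose image in `C/q` is algebraically independent over `V/(q ∩ V)` is
  algebraically independent over `V`.
* `trdeg_quotient_le_of_valuationRing`: `trdeg_{V/(q ∩ V)} (C/q) ≤ trdeg_V C`.
-/

set_option autoImplicit false
universe u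

namespace Groth.Agent.Lib.H56ValTrdeg

theorem exists_dvd_all {V : Type*} [CommRing V] [IsDomain V] [ValuationRing V] (s : Finset V)
    (hs : s.Nonempty) : ∃ c ∈ s, ∀ a ∈ s, c ∣ a := by
  induction hs using Finset.Nonempty.cons_induction with
  | singleton a => exact ⟨a, by simp, by simp⟩
  | cons a s ha hs ih =>
    obtain ⟨c, hc, hdiv⟩ := ih
    rcases ValuationRing.dvd_total a c with h | h
    · refine ⟨a, by simp, fun b hb => ?_⟩
      rcases Finset.mem_cons.mp hb with rfl | hb
      · exact dvd_rfl
      · exact h.trans (hdiv b hb)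
    · refine ⟨c, by simp [hc], fun b hb => ?_⟩
      rcases Finset.mem_cons.mp hb with rfl | hb
      · exact h
      · exact hdiv b hb

/-- a nonzero polynomial over a valuation ring is a nonzero constant times a polynomial with a
coefficient equal to `1` -/
theorem exists_eq_C_mul {V : Type*} [CommRing V] [IsDomain V] [ValuationRing V] {ι : Type*}
    (P : MvPolynomial ι V) (hP : P ≠ 0) :
    ∃ (c : V) (Q : MvPolynomial ι V) (m : ι →₀ ℕ), c ≠ 0 ∧ P = MvPolynomial.C c * Q ∧
      MvPolynomial.coeff m Q = 1 := by
  classical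
  have hne : (P.support.image (fun m => P.coeff m)).Nonempty :=
    (MvPolynomial.support_nonempty.mpr hP).image _
  obtain ⟨c, hc, hdiv⟩ := exists_dvd_all _ hne
  obtain ⟨m₀, hm₀, rfl⟩ := Finset.mem_image.mp hc
  have hc0 : P.coeff m₀ ≠ 0 := MvPolynomial.mem_support_iff.mp hm₀
  have hdiv' : ∀ m, P.coeff m₀ ∣ P.coeff m := by
    intro m
    by_cases hm : m ∈ P.support
    · exact hdiv _ (Finset.mem_image.mpr ⟨m, hm, rfl⟩)
    · rw [MvPolynomial.notMem_support_iff.mp hm]; exact dvd_zero _
  choose d hd using hdiv'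
  refine ⟨P.coeff m₀, ∑ m ∈ P.support, MvPolynomial.monomial m (d m), m₀, hc0, ?_, ?_⟩
  · ext m
    rw [MvPolynomial.coeff_C_mul, MvPolynomial.coeff_sum]
    simp only [MvPolynomial.coeff_monomial]
    rw [Finset.sum_ite_eq' P.support m]
    by_cases hm : m ∈ P.support
    · rw [if_pos hm]; exact hd m
    · rw [if_neg hm, mul_zero]; exact MvPolynomial.notMem_support_iff.mp hm
  · rw [MvPolynomial.coeff_sum]
    simp only [MvPolynomial.coeff_monomial]
    rw [Finset.sum_ite_eq' P.support m₀, if_pos hm₀]
    have := hd m₀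
    exact (mul_left_cancel₀ hc0 (by rw [← this, mul_one])).symm

variable {V C : Type u} [CommRing V] [IsDomain V] [ValuationRing V] [CommRing C] [IsDomain C]
  [Algebra V C] [FaithfulSMul V C]

theorem algebraicIndependent_of_quotient (q : Ideal C) [q.IsPrime] {ι : Type*} (x : ι → C)
    (hx : AlgebraicIndependent (V ⧸ q.under V) (fun i => Ideal.Quotient.mk q (x i))) :
    AlgebraicIndependent V x := by
  rw [algebraicIndependent_iff]
  intro P hP
  by_contra hP0
  obtain ⟨c, Q, m, hc, rfl, hQm⟩ := exists_eq_C_mul P hP0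
  rw [map_mul, MvPolynomial.aeval_C] at hP
  have hcC : algebraMap V C c ≠ 0 := fun h =>
    hc ((FaithfulSMul.algebraMap_injective V C) (by rw [h, map_zero]))
  have hQ : MvPolynomial.aeval x Q = 0 := (mul_eq_zero.mp hP).resolve_left hcC
  have hmap : MvPolynomial.aeval (fun i => Ideal.Quotient.mk q (x i))
      (MvPolynomial.map (Ideal.Quotient.mk (q.under V)) Q) = 0 := by
    rw [MvPolynomial.aeval_def, MvPolynomial.eval₂_map]
    have hcomp : (algebraMap (V ⧸ q.under V) (C ⧸ q)).comp (Ideal.Quotient.mk (q.under V)) =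
        (Ideal.Quotient.mk q).comp (algebraMap V C) := by
      ext v
      rfl
    rw [hcomp]
    have := MvPolynomial.eval₂_comp_left (Ideal.Quotient.mk q) (algebraMap V C) x Q
    rw [MvPolynomial.aeval_def] at hQ
    rw [hQ, map_zero] at this
    exact this.symm
  have h0 := (algebraicIndependent_iff.mp hx) _ hmap
  have h1 := congrArg (MvPolynomial.coeff m) h0
  rw [MvPolynomial.coeff_map, hQm, map_one, MvPolynomial.coeff_zero] at h1
  exact one_ne_zero h1

/-- **Valuation ring inequality**: `trdeg κ(q)/κ(q ∩ V) ≤ trdeg C/V`. -/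
theorem trdeg_quotient_le_of_valuationRing (q : Ideal C) [q.IsPrime] :
    Algebra.trdeg (V ⧸ q.under V) (C ⧸ q) ≤ Algebra.trdeg V C := by
  rw [Algebra.trdeg]
  refine ciSup_le' fun i => ?_
  have hsurj : Function.Surjective (Ideal.Quotient.mk q) := Ideal.Quotient.mk_surjective
  refine AlgebraicIndependent.cardinalMk_le_trdeg
    (x := fun a : i.1 => Function.surjInv hsurj a.1) ?_
  apply algebraicIndependent_of_quotient q
  convert i.2 using 1
  ext a
  simp [Function.surjInv_eq hsurj]

end Groth.Agent.Lib.H56ValTrdeg
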