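import Mathlib
import Groth.Agent.Lib.H56ValTrdeg
import Groth.Agent.Lib.H56OpenDimRing
import Groth.Agent.Lib.H56OpenFibDim
import Groth.Agent.Lib.DimIneqComponent

/-!
# Transcendence degrees of residue fields along specializations over a valuation ring

* `trdeg_le_of_prime_le_of_valuationRing`: `R` a valuation ring, `B` an `R`-algebra, `Q₀ ≤ q` primes
  of `B`: `trdeg κ(q)/κ(q ∩ R) ≤ trdeg κ(Q₀)/κ(Q₀ ∩ R)`.
* `tdeg_le_of_specializes_of_valuationRing`: scheme version over an affine open of the base whose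
  ring of sections is a valuation ring.
* `tdeg_le_of_specializes_Spec`: over `Spec R`.
-/

set_option autoImplicit false
universe u

namespace Groth.Agent.Lib.H56ValTrdeg

open Groth.Agent.Lib.DimIneqCore Groth.Agent.Lib.TrdegTransfer

theorem trdeg_le_of_prime_le_of_valuationRing {R B : Type u} [CommRing R] [IsDomain R]
    [ValuationRing R] [CommRing B] [Algebra R B]
    (q : Ideal B) [q.IsPrime] (Q₀ : Ideal B) [Q₀.IsPrime] (hle : Q₀ ≤ q) :
    Algebra.trdeg (R ⧸ q.under R) (B ⧸ q) ≤ Algebra.trdeg (R ⧸ Q₀.under R) (B ⧸ Q₀) := by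
  have hPle : Q₀.under R ≤ q.under R := Ideal.comap_mono hle
  have hp' : ((q.under R).map (Ideal.Quotient.mk (Q₀.under R))).IsPrime :=
    isPrime_map_mk (Q₀.under R) (q.under R) hPle
  have hq' : (q.map (Ideal.Quotient.mk Q₀)).IsPrime := isPrime_map_mk Q₀ q hle
  have hlo : (q.map (Ideal.Quotient.mk Q₀)).under (R ⧸ Q₀.under R) =
      ((q.under R).map (Ideal.Quotient.mk (Q₀.under R))) := by
    ext x
    obtain ⟨r, rfl⟩ := Ideal.Quotient.mk_surjective x
    have h1 : Ideal.Quotient.mk (Q₀.under R) r ∈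
        (q.under R).map (Ideal.Quotient.mk (Q₀.under R)) ↔ r ∈ q.under R :=
      Ideal.mem_quotient_iff_mem hPle
    have h2 : Ideal.Quotient.mk (Q₀.under R) r ∈
        (q.map (Ideal.Quotient.mk Q₀)).under (R ⧸ Q₀.under R) ↔ algebraMap R B r ∈ q := by
      change Ideal.Quotient.mk Q₀ (algebraMap R B r) ∈ q.map (Ideal.Quotient.mk Q₀) ↔ _
      exact Ideal.mem_quotient_iff_mem hle
    rw [h1, h2]
    rfl
  have hVR : ValuationRing (R ⧸ Q₀.under R) :=
    Function.Surjective.valuationRing (Ideal.Quotient.mk (Q₀.under R)) Ideal.Quotient.mk_surjective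
  have h1 := trdeg_quotient_le_of_valuationRing (V := R ⧸ Q₀.under R) (C := B ⧸ Q₀)
    (q.map (Ideal.Quotient.mk Q₀))
  have hp'' : ((q.map (Ideal.Quotient.mk Q₀)).under (R ⧸ Q₀.under R)).IsPrime := hlo ▸ hp'
  have h3 : Algebra.trdeg ((R ⧸ Q₀.under R) ⧸ (q.map (Ideal.Quotient.mk Q₀)).under (R ⧸ Q₀.under R))
      ((B ⧸ Q₀) ⧸ q.map (Ideal.Quotient.mk Q₀)) = Algebra.trdeg (R ⧸ q.under R) (B ⧸ q) := by
    refine trdeg_eq_of_ringEquiv
      ((Ideal.quotEquivOfEq hlo).trans (DoubleQuot.quotQuotEquivQuotOfLE hPle))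
      (DoubleQuot.quotQuotEquivQuotOfLE hle) (fun a => ?_)
    obtain ⟨a', rfl⟩ := Ideal.Quotient.mk_surjective a
    obtain ⟨r, rfl⟩ := Ideal.Quotient.mk_surjective a'
    rfl
  rw [h3] at h1
  exact h1

open AlgebraicGeometry CategoryTheory Groth.Agent.Lib.DimIneqScheme Groth.Agent.Lib.H56OpenDim

variable {X Y : Scheme.{u}}

/-- over an affine open of the base whose coordinate ring is a valuation ring, the relative
transcendence degree of the residue field grows under generization -/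
theorem tdeg_le_of_specializes_of_valuationRing (f : X ⟶ Y) [LocallyOfFiniteType f]
    {V : Y.Opens} (hV : IsAffineOpen V) [IsDomain Γ(Y, V)] [ValuationRing Γ(Y, V)]
    (x x' : X) (h : x' ⤳ x) (hx : f x ∈ V) : tdeg f x ≤ tdeg f x' := by
  obtain ⟨U, hU, hxU, e⟩ : ∃ U : X.Opens, IsAffineOpen U ∧ x ∈ U ∧ U ≤ f ⁻¹ᵁ V := by
    obtain ⟨_, ⟨U, hU, rfl⟩, hxU, hUV⟩ := X.isBasis_affineOpens.exists_subset_of_mem_open
      (show x ∈ ((f ⁻¹ᵁ V : X.Opens) : Set X) from hx) (f ⁻¹ᵁ V).isOpen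
    exact ⟨U, hU, hxU, hUV⟩
  have hx'U : x' ∈ U := h.mem_open U.isOpen hxU
  let alg := (f.appLE V U e).hom.toAlgebra
  have hle := Groth.Agent.Lib.DimIneqComponent.primeIdealOf_le_of_specializes hU x' x hx'U hxU h
  have h1 := trdeg_le_of_prime_le_of_valuationRing (R := Γ(Y, V)) (B := Γ(X, U))
    (hU.primeIdealOf ⟨x, hxU⟩).asIdeal (hU.primeIdealOf ⟨x', hx'U⟩).asIdeal hle
  rw [← trdeg_residueField_eq f hU hV e x hxU, ← trdeg_residueField_eq f hU hV e x' hx'U,
    trdeg_eq_tdeg f x, trdeg_eq_tdeg f x'] at h1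
  exact_mod_cast h1

/-- over the spectrum of a valuation ring, the relative transcendence degree of the residue field
grows under generization -/
theorem tdeg_le_of_specializes_Spec (R : Type u) [CommRing R] [IsDomain R] [ValuationRing R]
    (f : X ⟶ Spec (CommRingCat.of R)) [LocallyOfFiniteType f] (x x' : X) (h : x' ⤳ x) :
    tdeg f x ≤ tdeg f x' := by
  have hV : IsAffineOpen (⊤ : (Spec (CommRingCat.of R)).Opens) := isAffineOpen_top _
  let e : R ≃+* Γ(Spec (CommRingCat.of R), ⊤) :=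
    (Scheme.ΓSpecIso (CommRingCat.of R)).symm.commRingCatIsoToRingEquiv
  have hdom : IsDomain Γ(Spec (CommRingCat.of R), ⊤) := MulEquiv.isDomain R e.symm.toMulEquiv
  have hval : ValuationRing Γ(Spec (CommRingCat.of R), ⊤) :=
    Function.Surjective.valuationRing e.toRingHom e.surjective
  exact tdeg_le_of_specializes_of_valuationRing f hV x x' h trivial

end Groth.Agent.Lib.H56ValTrdeg
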