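import Mathlib
import Groth.Agent.Lib.H56ValTrdeg2
import Groth.Agent.Lib.H56OpenComp4

/-!
# Fibres of morphisms of finite type over a valuation ring (EGA IV 14.3.10)

* `tdeg_lt_of_specializes_of_ne`: `tdeg` strictly grows under proper generization inside a fibre.
* `tdeg_le_fibreDimAt`: `tdeg f x ≤ dim_x X_{f x}`.
* `isMaxInFibre_of_specializes_Spec`: over a valuation ring, generizations of fibre-generic points
  are fibre-generic.
* `compDims_eq_singleton_Spec`: `X` irreducible of finite type over a valuation ring: every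
  irreducible component of every nonempty fibre has dimension `tdeg f ξ`, `ξ` the generic point.
* `dim_fiber_eq_of_irreducible_Spec`: all nonempty fibres have the same dimension.
-/

set_option autoImplicit false
universe u

namespace Groth.Agent.Lib.H56ValTrdeg

open AlgebraicGeometry CategoryTheory Groth.Agent.Lib.H30DimField Groth.Agent.Lib.H30FibRes
  Groth.Agent.Lib.H56LocDim Groth.Agent.Lib.H56OpenDim TopologicalSpace Topology

variable {X Y : Scheme.{u}}

theorem tdeg_lt_of_specializes_of_ne (f : X ⟶ Y) [LocallyOfFiniteType f] (ξ ξ₀ : X) (h : ξ ⤳ ξ₀)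
    (hf : f ξ = f ξ₀) (hne : ξ ≠ ξ₀) : tdeg f ξ₀ < tdeg f ξ := by
  let _ := fiberOver f (f ξ₀)
  have := lft_fiber f (f ξ₀)
  let w : f.fiber (f ξ₀) := (f.fiberHomeo (f ξ₀)).symm ⟨ξ, hf⟩
  have hw : f.fiberι (f ξ₀) w = ξ := f.fiberι_fiberHomeo_symm (f ξ₀) ⟨ξ, hf⟩
  have hsp : w ⤳ f.asFiber ξ₀ := by
    rw [← (f.fiberι (f ξ₀)).isEmbedding.isInducing.specializes_iff, hw, f.fiberι_asFiber]
    exact h
  have hne' : w ≠ f.asFiber ξ₀ := by
    intro he
    apply hne
    rw [← hw, he, f.fiberι_asFiber]
  have h1 := (isDimFun (Y.residueField (f ξ₀)) (f.fiber (f ξ₀)) w (f.asFiber ξ₀) hsp hne').1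
  rw [td_fiber_eq f (f ξ₀) w, td_fiber_eq f (f ξ₀) (f.asFiber ξ₀), hw, f.fiberι_asFiber] at h1
  exact_mod_cast h1

theorem tdeg_le_fibreDimAt (f : X ⟶ Y) [LocallyOfFiniteType f] (x : X) :
    (tdeg f x : WithBot ℕ∞) ≤ FlatMor.fibreDimAt f x := by
  obtain ⟨w, hwx, hfw, hwmax, hw⟩ := exists_maxInFibre_fibreDimAt_eq f x
  rw [hw]
  exact_mod_cast tdeg_le_of_specializes' f w x hwx hfw

/-- over a valuation ring, every generization of a fibre-generic point is fibre-generic -/
theorem isMaxInFibre_of_specializes_Spec (R : Type u) [CommRing R] [IsDomain R] [ValuationRing R]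
    (f : X ⟶ Spec (CommRingCat.of R)) [LocallyOfFiniteType f] (x x' : X) (hgen : x' ⤳ x)
    (hx : IsMaxInFibre f x) : IsMaxInFibre f x' := by
  intro y hy hfy
  by_contra hne
  have h1 : tdeg f x ≤ tdeg f x' := tdeg_le_of_specializes_Spec R f x x' hgen
  have h2 : tdeg f x' < tdeg f y := tdeg_lt_of_specializes_of_ne f y x' hy hfy hne
  have h3 := tdeg_le_fibreDimAt f y
  have h4 := fibreDimAt_le_of_specializes f y x (hy.trans hgen)
  rw [fibreDimAt_eq_tdeg_of_maximal' f x hx] at h4
  have h5 : tdeg f y ≤ tdeg f x := by exact_mod_cast h3.trans h4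
  omega

/-- `X` irreducible, locally of finite type over a valuation ring: all irreducible components of all
nonempty fibres have dimension `tdeg f ξ`, for `ξ` the generic point of `X` -/
theorem compDims_eq_singleton_Spec (R : Type u) [CommRing R] [IsDomain R] [ValuationRing R]
    (f : X ⟶ Spec (CommRingCat.of R)) [LocallyOfFiniteType f] [IrreducibleSpace X]
    (s : Spec (CommRingCat.of R)) (hs : ∃ x : X, f x = s) :
    compDims f s = {tdeg f (genericPoint X)} := by
  have hξmax : IsMaxInFibre f (genericPoint X) := fun v hv _ =>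
    (hv.antisymm (genericPoint_specializes v)).eq
  have key : ∀ z : X, IsMaxInFibre f z → tdeg f z = tdeg f (genericPoint X) := by
    intro z hz
    apply le_antisymm (tdeg_le_of_specializes_Spec R f z _ (genericPoint_specializes z))
    have h4 := fibreDimAt_le_of_specializes f _ z (genericPoint_specializes z)
    rw [fibreDimAt_eq_tdeg_of_maximal' f z hz, fibreDimAt_eq_tdeg_of_maximal' f _ hξmax] at h4
    exact_mod_cast h4
  apply Set.Subset.antisymm
  · rintro n ⟨z, -, hzmax, rfl⟩
    exact key z hzmax
  · rintro n rfl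
    obtain ⟨x, hx⟩ := hs
    obtain ⟨w, -, hfw, hwmax, -⟩ := exists_maxInFibre_fibreDimAt_eq f x
    exact ⟨w, hfw.trans hx, hwmax, key w hwmax⟩

/-- **EGA IV 14.3.10**: `X` irreducible, locally of finite type over a valuation ring: all nonempty
fibres have the same dimension. -/
theorem dim_fiber_eq_of_irreducible_Spec (R : Type u) [CommRing R] [IsDomain R] [ValuationRing R]
    (f : X ⟶ Spec (CommRingCat.of R)) [LocallyOfFiniteType f] [IrreducibleSpace X]
    (s s' : Spec (CommRingCat.of R)) (hs : ∃ x : X, f x = s) (hs' : ∃ x : X, f x = s') :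
    topologicalKrullDim (f.fiber s) = topologicalKrullDim (f.fiber s') := by
  have h1 := compDims_eq_singleton_Spec R f s hs
  have h2 := compDims_eq_singleton_Spec R f s' hs'
  exact le_antisymm (dim_fiber_le_of_compDims_subset f s s' (h1.trans h2.symm).le)
    (dim_fiber_le_of_compDims_subset f s' s (h2.trans h1.symm).le)

/-- a dominant morphism from an irreducible scheme maps the generic point to the generic point -/
theorem map_genericPoint_of_isDominant [IrreducibleSpace X] [IrreducibleSpace Y] (f : X ⟶ Y)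
    [IsDominant f] : f (genericPoint X) = genericPoint Y := by
  have h1 : IsGenericPoint (f (genericPoint X)) (closure (f '' Set.univ)) :=
    (genericPoint_spec X).image f.continuous
  rw [Set.image_univ, f.denseRange.closure_range] at h1
  exact ((genericPoint_spec Y).eq h1).symm

end Groth.Agent.Lib.H56ValTrdeg
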