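import Groth.Agent.Lib.FlatLimGlobal64
import Mathlib.RingTheory.Extension.Presentation.Core
import Mathlib.Algebra.Category.Ring.Constructions
import Mathlib.AlgebraicGeometry.Pullbacks

/-!
# Noetherian approximation of a flat finitely presented algebra (helper64)

`exists_model_flat`: a flat finitely presented `R`-algebra `B` is the base change of a flat finite
type algebra `B₀` over a finite type `ℤ`-algebra `R₀` (pushout square of commutative rings).
-/

set_option autoImplicit false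
set_option maxHeartbeats 400000

namespace Groth.Agent.Lib.FlatModel64

open TensorProduct CategoryTheory Limits Groth.Agent.Lib.FlatLimGlobal64

universe u

open Groth.Agent.Lib.FlatLimStage88 in
set_option synthInstance.maxHeartbeats 400000 in
/-- The pushout square attached to a stage `A₁ → R` of a model `R ⊗[k] S₀ ≃ B`. -/
theorem isPushout_of_stage {k A₁ R S₀ B : Type u} [CommRing k] [CommRing A₁] [CommRing R]
    [CommRing S₀] [CommRing B] [Algebra k A₁] [Algebra k R] [Algebra k S₀] [Algebra R B]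
    (φ : A₁ →ₐ[k] R) (e₀ : R ⊗[k] S₀ ≃ₐ[R] B) :
    IsPushout (CommRingCat.ofHom φ.toRingHom)
      (CommRingCat.ofHom (algebraMap A₁ (A₁ ⊗[k] S₀)))
      (CommRingCat.ofHom (algebraMap R B))
      (CommRingCat.ofHom (e₀.toAlgHom.toRingHom.comp (sMap φ S₀).toRingHom)) := by
  let _ : Algebra A₁ R := φ.toRingHom.toAlgebra
  have : IsScalarTower k A₁ R := IsScalarTower.of_algebraMap_eq (fun x => (φ.commutes x).symm)
  have hφ : IsScalarTower.toAlgHom k A₁ R = φ := by
    ext x
    rfl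
  let e : R ⊗[A₁] (A₁ ⊗[k] S₀) ≃ₐ[R] B :=
    (Algebra.TensorProduct.cancelBaseChange k A₁ R R S₀).trans e₀
  refine (CommRingCat.isPushout_tensorProduct A₁ R (A₁ ⊗[k] S₀)).of_iso (Iso.refl _) (Iso.refl _)
    (Iso.refl _) e.toRingEquiv.toCommRingCatIso ?_ ?_ ?_ ?_
  · simp
    rfl
  · simp
  · ext x
    change e (x ⊗ₜ[A₁] 1) = algebraMap R B x
    have h : (x ⊗ₜ[A₁] (1 : A₁ ⊗[k] S₀) : R ⊗[A₁] (A₁ ⊗[k] S₀)) =
        algebraMap R (R ⊗[A₁] (A₁ ⊗[k] S₀)) x :=
      (Algebra.TensorProduct.algebraMap_apply (R := A₁) (S := R) (A := R)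
        (B := A₁ ⊗[k] S₀) x).symm
    rw [h, e.commutes]
  · apply CommRingCat.hom_ext
    apply RingHom.ext
    intro x
    change e₀ ((Algebra.TensorProduct.cancelBaseChange k A₁ R R S₀) ((1 : R) ⊗ₜ[A₁] x)) =
      e₀ (sMap φ S₀ x)
    rw [cancelBaseChange_one_tmul', hφ]

set_option synthInstance.maxHeartbeats 400000 in
theorem exists_model_flat (R B : Type u) [CommRing R] [CommRing B] [Algebra R B]
    [Algebra.FinitePresentation R B] [Module.Flat R B] :
    ∃ (R₀ B₀ : Type u) (_ : CommRing R₀) (_ : CommRing B₀) (φ₀ : R₀ →+* B₀) (a : R₀ →+* R)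
      (b : B₀ →+* B),
      IsPushout (CommRingCat.ofHom a) (CommRingCat.ofHom φ₀)
        (CommRingCat.ofHom (algebraMap R B)) (CommRingCat.ofHom b) ∧
      Algebra.FiniteType ℤ R₀ ∧ φ₀.FiniteType ∧ φ₀.Flat := by
  let P := Algebra.Presentation.ofFinitePresentation R B
  let k := P.Core
  let S₀ := P.ModelOfHasCoeffs k
  let e₀ : R ⊗[k] S₀ ≃ₐ[R] B := P.tensorModelOfHasCoeffsEquiv k
  have : IsNoetherianRing k := Algebra.FiniteType.isNoetherianRing ℤ k
  have hfl : Module.Flat R (R ⊗[k] S₀) := Module.Flat.of_linearEquiv e₀.toLinearEquiv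
  obtain ⟨A₁, hA₁, hflat⟩ := exists_fg_flat_global (k := k) (R := R) S₀ (M₀ := S₀)
  have hfl₁ : Module.Flat A₁ (A₁ ⊗[k] S₀) := hflat A₁ (AlgHom.id k A₁)
  have : Algebra.FiniteType k A₁ := (Subalgebra.fg_iff_finiteType A₁).mp hA₁
  have hftZ : Algebra.FiniteType ℤ A₁ :=
    Algebra.FiniteType.trans (S := k) inferInstance inferInstance
  refine ⟨A₁, A₁ ⊗[k] S₀, inferInstance, inferInstance, algebraMap A₁ (A₁ ⊗[k] S₀),
    A₁.val.toRingHom, _, isPushout_of_stage A₁.val e₀, hftZ, ?_, ?_⟩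
  · have : Algebra.FinitePresentation A₁ (A₁ ⊗[k] S₀) := inferInstance
    have : Algebra.FiniteType A₁ (A₁ ⊗[k] S₀) := inferInstance
    exact (RingHom.finiteType_algebraMap (A := A₁) (B := A₁ ⊗[k] S₀)).mpr this
  · exact (RingHom.flat_algebraMap_iff (R := A₁) (S := A₁ ⊗[k] S₀)).mpr hfl₁

end Groth.Agent.Lib.FlatModel64
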