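import Mathlib
import Groth.Prelude.Def_FlatCA

/-!
# A kernel criterion for flatness at a prime, and its transfer along flat / integral maps
-/

set_option autoImplicit false
universe u

namespace Groth.Agent.Lib.FlatAtCrit22

open TensorProduct

section KL

variable {R S : Type u} [CommRing R] [CommRing S] [Algebra R S] (q : Ideal S) [q.IsPrime]
  (N : Type u) [AddCommGroup N] [Module S N] [Module R N] [IsScalarTower R S N]

/-- Kernel criterion: `N` is flat over `R` at the prime `q` of `S` iff for every ideal `I` of `R`,
every element of the kernel of `N ⊗ I → N ⊗ R` is killed by an element of `S ∖ q`. -/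
theorem flatAt_iff :
    FlatCA.FlatAt R q N ↔
      ∀ (I : Ideal R) (x : N ⊗[R] I), (I.subtype.lTensor N) x = 0 →
        ∃ s ∈ q.primeCompl, s • x = 0 := by
  classical
  let g : N →ₗ[S] LocalizedModule q.primeCompl N := LocalizedModule.mkLinearMap q.primeCompl N
  have hF : ∀ (P : Type u) [AddCommGroup P] [Module R P],
      IsLocalizedModule q.primeCompl (AlgebraTensorModule.rTensor R P g) := fun P _ _ =>
    inferInstance
  have hcomm : ∀ (I : Ideal R) (x : N ⊗[R] I),
      (I.subtype.lTensor (LocalizedModule q.primeCompl N)) (AlgebraTensorModule.rTensor R I g x) =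
        AlgebraTensorModule.rTensor R R g ((I.subtype.lTensor N) x) := by
    intro I x
    induction x with
    | zero => simp
    | tmul n i => simp
    | add a b ha hb => simp only [map_add, ha, hb]
  unfold FlatCA.FlatAt
  constructor
  · intro hflat I x hx
    have hinj := (Module.Flat.iff_lTensor_injective'.mp hflat) I
    have h0 : AlgebraTensorModule.rTensor R I g x = 0 := by
      apply hinj
      rw [hcomm, hx, map_zero, map_zero]
    obtain ⟨s, hs⟩ := (IsLocalizedModule.eq_zero_iff q.primeCompl
      (AlgebraTensorModule.rTensor R I g)).mp h0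
    exact ⟨s.1, s.2, hs⟩
  · intro H
    rw [Module.Flat.iff_lTensor_injective']
    intro I
    rw [injective_iff_map_eq_zero]
    intro y hy
    obtain ⟨⟨x, s⟩, hxs⟩ := IsLocalizedModule.surj q.primeCompl
      (AlgebraTensorModule.rTensor R I g) y
    have h1 : AlgebraTensorModule.rTensor R R g ((I.subtype.lTensor N) x) = 0 := by
      rw [← hcomm, ← hxs]
      have : (I.subtype.lTensor (LocalizedModule q.primeCompl N)) (s • y) =
          s • (I.subtype.lTensor (LocalizedModule q.primeCompl N)) y := by
        exact (AlgebraTensorModule.lTensor S (LocalizedModule q.primeCompl N)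
          (I.subtype)).map_smul (s : S) y
      rw [this, hy, smul_zero]
    obtain ⟨s', hs'⟩ := (IsLocalizedModule.eq_zero_iff q.primeCompl
      (AlgebraTensorModule.rTensor R R g)).mp h1
    have h2 : (I.subtype.lTensor N) ((s' : S) • x) = 0 := by
      have h3 : (I.subtype.lTensor N) ((s' : S) • x) = (s' : S) • (I.subtype.lTensor N) x :=
        (AlgebraTensorModule.lTensor S N (I.subtype)).map_smul (s' : S) x
      rw [h3]; exact hs'
    obtain ⟨s'', hs''mem, hs''⟩ := H I _ h2
    have h4 : AlgebraTensorModule.rTensor R I g x = 0 := by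
      rw [IsLocalizedModule.eq_zero_iff q.primeCompl]
      refine ⟨⟨s'', hs''mem⟩ * s', ?_⟩
      rw [Submonoid.smul_def, Submonoid.coe_mul, mul_smul]
      exact hs''
    rw [h4] at hxs
    exact IsLocalizedModule.smul_injective (AlgebraTensorModule.rTensor R I g) s
      (by simpa using hxs)

end KL

section Transfer

variable {R S T : Type u} [CommRing R] [CommRing S] [CommRing T] [Algebra R S] [Algebra S T]
  [Algebra R T] [IsScalarTower R S T]
  (M : Type u) [AddCommGroup M] [Module S M] [Module R M] [IsScalarTower R S M]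
  (N : Type u) [AddCommGroup N] [Module T N] [Module S N] [Module R N] [IsScalarTower S T N]
  [IsScalarTower R T N] [IsScalarTower R S N]

omit [IsScalarTower R S T] [IsScalarTower R T N] in
/-- `ψ ⊗ id` commutes with `id ⊗ ι`. -/
theorem lTensor_rTensor_comm (ψ : M →ₗ[S] N) (I : Ideal R) (x : M ⊗[R] I) :
    (I.subtype.lTensor N) (AlgebraTensorModule.rTensor R I ψ x) =
      AlgebraTensorModule.rTensor R R ψ ((I.subtype.lTensor M) x) := by
  induction x with
  | zero => simp
  | tmul n i => simp
  | add a b ha hb => simp only [map_add, ha, hb]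

omit [IsScalarTower R S T] [IsScalarTower R T N] in
theorem rTensor_symm_apply (ψ : M ≃ₗ[S] N) (P : Type u) [AddCommGroup P] [Module R P]
    (x : M ⊗[R] P) :
    AlgebraTensorModule.rTensor R P ψ.symm.toLinearMap
      (AlgebraTensorModule.rTensor R P ψ.toLinearMap x) = x := by
  induction x with
  | zero => simp
  | tmul n i => simp
  | add a b ha hb => simp only [map_add, ha, hb]

omit [IsScalarTower R S T] [IsScalarTower R T N] in
theorem rTensor_apply_symm (ψ : M ≃ₗ[S] N) (P : Type u) [AddCommGroup P] [Module R P]
    (y : N ⊗[R] P) :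
    AlgebraTensorModule.rTensor R P ψ.toLinearMap
      (AlgebraTensorModule.rTensor R P ψ.symm.toLinearMap y) = y := by
  induction y with
  | zero => simp
  | tmul n i => simp
  | add a b ha hb => simp only [map_add, ha, hb]

omit [IsScalarTower R S T] in
/-- Integral (indeed arbitrary) case, easy direction: if `M ≃ N` over `S` and `r` lies over `q`,
flatness of `M` at `q` gives flatness of `N` at `r`. -/
theorem flatAt_of_equiv (ψ : M ≃ₗ[S] N) (r : Ideal T) [r.IsPrime] (q : Ideal S) [q.IsPrime]
    (hq : r.comap (algebraMap S T) = q) (h : FlatCA.FlatAt R q M) : FlatCA.FlatAt R r N := by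
  rw [flatAt_iff] at h ⊢
  intro I y hy
  have hx : (I.subtype.lTensor M) (AlgebraTensorModule.rTensor R I ψ.symm.toLinearMap y) = 0 := by
    have h1 := lTensor_rTensor_comm N M ψ.symm.toLinearMap I y
    rw [hy, map_zero] at h1
    exact h1
  obtain ⟨s, hs, hsx⟩ := h I _ hx
  refine ⟨algebraMap S T s, ?_, ?_⟩
  · intro hmem
    apply hs
    rw [← hq]
    exact hmem
  · rw [algebraMap_smul]
    have := congrArg (AlgebraTensorModule.rTensor R I ψ.toLinearMap) hsx
    rw [map_smul, rTensor_apply_symm, map_zero] at this
    exact this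

omit [IsScalarTower R S T] in
/-- Integral case, converse: if `T` is integral over `S`, `M ≃ N` over `S`, and `N` is flat at every
prime of `T` over `q`, then `M` is flat at `q`. -/
theorem flatAt_of_forall_equiv [Algebra.IsIntegral S T] (ψ : M ≃ₗ[S] N) (q : Ideal S) [q.IsPrime]
    (h : ∀ (r : Ideal T) [r.IsPrime], r.comap (algebraMap S T) = q → FlatCA.FlatAt R r N) :
    FlatCA.FlatAt R q M := by
  rw [flatAt_iff]
  intro I x hx
  set y := AlgebraTensorModule.rTensor R I ψ.toLinearMap x with hy
  have hy0 : (I.subtype.lTensor N) y = 0 := by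
    rw [hy, lTensor_rTensor_comm, hx, map_zero]
  -- annihilator of y in T
  let σ : T →ₗ[T] N ⊗[R] I := LinearMap.toSpanSingleton T _ y
  let J : Ideal T := LinearMap.ker σ
  by_contra hcon
  push Not at hcon
  have hJq : J.comap (algebraMap S T) ≤ q := by
    intro s hs
    by_contra hsq
    apply hcon s hsq
    have h1 : algebraMap S T s • y = 0 := by
      have : σ (algebraMap S T s) = 0 := hs
      simpa [σ] using this
    rw [algebraMap_smul] at h1
    have := congrArg (AlgebraTensorModule.rTensor R I ψ.symm.toLinearMap) h1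
    rw [hy, map_smul, rTensor_symm_apply, map_zero] at this
    exact this
  obtain ⟨r, hJr, hrp, hrq⟩ := Ideal.exists_ideal_over_prime_of_isIntegral q J hJq
  have hfl := h r hrq
  rw [flatAt_iff] at hfl
  obtain ⟨t, ht, hty⟩ := hfl I y hy0
  apply ht
  apply hJr
  change σ t = 0
  simpa [σ] using hty

/-- Flat case: if `T` is flat over `S`, `N = T ⊗_S M`, and `r` lies over `q`, then `M` is flat over
`R` at `q` iff `N` is flat over `R` at `r`. -/
theorem flatAt_iff_of_isBaseChange [Module.Flat S T] (ψ : M →ₗ[S] N) (hψ : IsBaseChange T ψ)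
    (r : Ideal T) [r.IsPrime] (q : Ideal S) [q.IsPrime]
    (hq : r.comap (algebraMap S T) = q) : FlatCA.FlatAt R q M ↔ FlatCA.FlatAt R r N := by
  have hΨ : ∀ (P : Type u) [AddCommGroup P] [Module R P],
      IsBaseChange T (AlgebraTensorModule.rTensor R P ψ) := fun P _ _ =>
    isBaseChange_tensorProduct_map (R := R) (P := P) T hψ
  have hmem : ∀ s : S, s ∈ q.primeCompl → algebraMap S T s ∈ r.primeCompl := by
    intro s hs hmem
    apply hs
    rw [← hq]
    exact hmem
  constructor
  · intro h
    rw [flatAt_iff] at h ⊢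
    intro I y hy
    let lam : M ⊗[R] I →ₗ[S] M ⊗[R] R := AlgebraTensorModule.lTensor S M I.subtype
    let K : Submodule S (M ⊗[R] I) := LinearMap.ker lam
    have hex : Function.Exact K.subtype lam := LinearMap.exact_subtype_ker_map lam
    have hex' : Function.Exact (K.subtype.lTensor T) (lam.lTensor T) :=
      Module.Flat.lTensor_exact T hex
    set y' := (hΨ I).equiv.symm y with hy'
    have hyy' : (hΨ I).equiv y' = y := by simp [hy']
    have hcomm : ∀ w : T ⊗[S] (M ⊗[R] I),
        (hΨ R).equiv ((lam.lTensor T) w) = (I.subtype.lTensor N) ((hΨ I).equiv w) := by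
      intro w
      induction w with
      | zero => simp
      | tmul t x =>
        rw [LinearMap.lTensor_tmul, IsBaseChange.equiv_tmul, IsBaseChange.equiv_tmul]
        have h1 : (I.subtype.lTensor N) (t • (AlgebraTensorModule.rTensor R I ψ) x) =
            t • (I.subtype.lTensor N) ((AlgebraTensorModule.rTensor R I ψ) x) :=
          (AlgebraTensorModule.lTensor T N (I.subtype)).map_smul t _
        rw [h1, lTensor_rTensor_comm]
        rfl
      | add a b ha hb => simp only [map_add, ha, hb]
    have hker : (lam.lTensor T) y' = 0 := by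
      apply (hΨ R).equiv.injective
      rw [hcomm, hyy', hy, map_zero]
    obtain ⟨z, hz⟩ := (hex' y').mp hker
    have hclaim : ∀ z : T ⊗[S] K, ∃ s ∈ q.primeCompl, s • z = 0 := by
      intro z
      induction z with
      | zero => exact ⟨1, Submonoid.one_mem _, by simp⟩
      | tmul t k =>
        have hk : (I.subtype.lTensor M) (k : M ⊗[R] I) = 0 := k.2
        obtain ⟨s, hs, hsk⟩ := h I _ hk
        refine ⟨s, hs, ?_⟩
        have : s • k = 0 := Subtype.ext (by simpa using hsk)
        rw [← TensorProduct.tmul_smul, this, TensorProduct.tmul_zero]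
      | add a b ha hb =>
        obtain ⟨s₁, hs₁, h1⟩ := ha
        obtain ⟨s₂, hs₂, h2⟩ := hb
        refine ⟨s₁ * s₂, Submonoid.mul_mem _ hs₁ hs₂, ?_⟩
        rw [smul_add, mul_smul s₁ s₂ b, h2, smul_zero, mul_comm, mul_smul, h1, smul_zero, add_zero]
    obtain ⟨s, hs, hsz⟩ := hclaim z
    refine ⟨algebraMap S T s, hmem s hs, ?_⟩
    rw [algebraMap_smul, ← hyy', ← hz]
    have h1 : s • (hΨ I).equiv ((K.subtype.lTensor T) z) =
        (hΨ I).equiv ((K.subtype.lTensor T) (s • z)) := by
      rw [map_smul, ← algebraMap_smul T s ((K.subtype.lTensor T) z), map_smul, algebraMap_smul]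
    rw [h1, hsz, map_zero, map_zero]
  · intro h
    rw [flatAt_iff] at h ⊢
    intro I x hx
    set y := AlgebraTensorModule.rTensor R I ψ x with hy
    have hy0 : (I.subtype.lTensor N) y = 0 := by
      rw [hy, lTensor_rTensor_comm, hx, map_zero]
    obtain ⟨t, ht, hty⟩ := h I y hy0
    let σ : S →ₗ[S] M ⊗[R] I := LinearMap.toSpanSingleton S _ x
    let 𝔞 : Ideal S := LinearMap.ker σ
    have hex : Function.Exact (Submodule.subtype 𝔞) σ := LinearMap.exact_subtype_ker_map σ
    have hex' : Function.Exact ((Submodule.subtype 𝔞).lTensor T) (σ.lTensor T) :=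
      Module.Flat.lTensor_exact T hex
    have h0 : (σ.lTensor T) (t ⊗ₜ[S] (1 : S)) = 0 := by
      apply (hΨ I).equiv.injective
      rw [LinearMap.lTensor_tmul, IsBaseChange.equiv_tmul, map_zero]
      simpa [σ, hy] using hty
    obtain ⟨w, hw⟩ := (hex' _).mp h0
    have hclaim : ∀ w : T ⊗[S] 𝔞, TensorProduct.rid S T (((Submodule.subtype 𝔞).lTensor T) w) ∈
        Ideal.map (algebraMap S T) 𝔞 := by
      intro w
      induction w with
      | zero => simp
      | tmul t' a =>
        rw [LinearMap.lTensor_tmul, TensorProduct.rid_tmul, Submodule.subtype_apply,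
          Algebra.smul_def]
        exact Ideal.mul_mem_right _ _ (Ideal.mem_map_of_mem _ a.2)
      | add a b ha hb =>
        rw [map_add, map_add]
        exact Ideal.add_mem _ ha hb
    have htmem : t ∈ Ideal.map (algebraMap S T) 𝔞 := by
      have := hclaim w
      rw [hw, TensorProduct.rid_tmul, one_smul] at this
      exact this
    by_contra hcon
    push Not at hcon
    have hle : 𝔞 ≤ q := by
      intro s hs
      by_contra hsq
      apply hcon s hsq
      have : σ s = 0 := hs
      simpa [σ] using this
    apply ht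
    have h1 : Ideal.map (algebraMap S T) 𝔞 ≤ r := by
      rw [Ideal.map_le_iff_le_comap, hq]
      exact hle
    exact h1 htmem

end Transfer

end Groth.Agent.Lib.FlatAtCrit22
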