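import Mathlib
import Groth.Prelude.Def_FlatCA
import Groth.Agent.Lib.FlatAtCrit22

/-!
# Flatness at a prime is preserved by base change (helper84)

* `exists_smul_eq_zero_of_flatAt`: local vanishing of kernels for a module flat at a prime.
* `Φ`, `Φ_bijective`: `M ⊗[R] P ≃ M' ⊗[R'] P` when `M' = R' ⊗ M`.
* `flatAt_baseChange`: `FlatAt R (q' ∩ S) M → FlatAt R' q' M'` for a pushout square, `M' = S' ⊗_S M`.
-/

set_option autoImplicit false
set_option linter.style.haveILetI false
universe u

namespace Groth.Agent.Lib.FlatAtBC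

open TensorProduct

section LV

variable {A B : Type u} [CommRing A] [CommRing B] [Algebra A B]
variable (M : Type u) [AddCommGroup M] [Module B M] [Module A M] [IsScalarTower A B M]

/-- local vanishing: an element of `ker (M ⊗ P → M ⊗ P')` is killed by some `s ∉ q` when `M_q` is
flat over `A`. -/
theorem exists_smul_eq_zero_of_flatAt {P P' : Type u} [AddCommGroup P] [Module A P]
    [AddCommGroup P'] [Module A P'] (i : P →ₗ[A] P') (hi : Function.Injective i) (q : Ideal B)
    [q.IsPrime] (hq : FlatCA.FlatAt A q M) (y : M ⊗[A] P) (hy : i.lTensor M y = 0) :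
    ∃ s ∉ q, s • y = 0 := by
  have hflat : Module.Flat A (LocalizedModule q.primeCompl M) := hq
  let g : M →ₗ[B] LocalizedModule q.primeCompl M := LocalizedModule.mkLinearMap q.primeCompl M
  have hcomm : ∀ z : M ⊗[A] P, i.lTensor (LocalizedModule q.primeCompl M)
      (AlgebraTensorModule.rTensor A P g z) = AlgebraTensorModule.rTensor A P' g (i.lTensor M z) := by
    intro z
    induction z with
    | zero => simp
    | add a b ha hb => simp only [map_add, ha, hb]
    | tmul a b => simp
  have h0 : AlgebraTensorModule.rTensor A P g y = 0 := by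
    apply Module.Flat.lTensor_preserves_injective_linearMap (M := LocalizedModule q.primeCompl M) i hi
    rw [hcomm, hy, map_zero, map_zero]
  obtain ⟨c, hc⟩ := (IsLocalizedModule.eq_zero_iff q.primeCompl
    (AlgebraTensorModule.rTensor A P g)).mp h0
  exact ⟨c.1, c.2, hc⟩

end LV

section Phi

variable {R R' : Type u} [CommRing R] [CommRing R'] [Algebra R R']
  {M M' : Type u} [AddCommGroup M] [Module R M] [AddCommGroup M'] [Module R' M'] [Module R M']
  [IsScalarTower R R' M'] (f : M →ₗ[R] M')
  (P : Type u) [AddCommGroup P] [Module R' P] [Module R P] [IsScalarTower R R' P]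

variable (R') in
/-- The comparison map `M ⊗[R] P → M' ⊗[R'] P`, `m ⊗ p ↦ f m ⊗ p`. -/
noncomputable def Φ : M ⊗[R] P →ₗ[R] M' ⊗[R'] P :=
  (TensorProduct.mapOfCompatibleSMul R' R R M' P) ∘ₗ (TensorProduct.map f LinearMap.id)

@[simp] theorem Φ_tmul (m : M) (p : P) : Φ R' f P (m ⊗ₜ p) = f m ⊗ₜ p := rfl

variable {f}

theorem Φ_bijective (hf : IsBaseChange R' f) : Function.Bijective (Φ R' f P) := by
  let Θ : M' ⊗[R'] P → M ⊗[R] P := fun x =>
    TensorProduct.comm R P M (AlgebraTensorModule.cancelBaseChange R R' R' P M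
      (TensorProduct.congr (LinearEquiv.refl R' P) hf.equiv.symm (TensorProduct.comm R' M' P x)))
  have hΘinj : Function.Injective Θ := by
    intro a b hab
    simpa [Θ] using hab
  have hΘΦ : ∀ y, Θ (Φ R' f P y) = y := by
    intro y
    induction y with
    | zero => simp [Θ]
    | add a b ha hb => 
      have : ∀ u v, Θ (u + v) = Θ u + Θ v := fun u v => by simp [Θ]
      rw [map_add, this, ha, hb]
    | tmul m p =>
      simp only [Θ, Φ_tmul, TensorProduct.comm_tmul, TensorProduct.congr_tmul, LinearEquiv.refl_apply]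
      rw [IsBaseChange.equiv_symm_apply]
      simp
  constructor
  · intro a b hab
    rw [← hΘΦ a, ← hΘΦ b, hab]
  · intro x
    exact ⟨Θ x, hΘinj (hΘΦ _)⟩

end Phi

section Main

variable {R S R' S' : Type u} [CommRing R] [CommRing S] [CommRing R'] [CommRing S']
    [Algebra R S] [Algebra R R'] [Algebra S S'] [Algebra R' S'] [Algebra R S'] [IsScalarTower R S S']
    [IsScalarTower R R' S'] [Algebra.IsPushout R S R' S']
    {M M' : Type u} [AddCommGroup M] [Module S M] [Module R M] [IsScalarTower R S M]
    [AddCommGroup M'] [Module S' M'] [Module R' M'] [IsScalarTower R' S' M'] [Module S M']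
    [IsScalarTower S S' M']

/-- Flatness at a prime is preserved by base change: if `M_q` is `R`-flat, `q = q' ∩ S`, then
`(M ⊗_R R')_{q'}` is `R'`-flat. -/
theorem flatAt_baseChange (f : M →ₗ[S] M') (hf : IsBaseChange S' f) (q' : Ideal S') [q'.IsPrime]
    (h : FlatCA.FlatAt R (q'.comap (algebraMap S S')) M) : FlatCA.FlatAt R' q' M' := by
  letI : Module R M' := Module.compHom M' (algebraMap R R')
  haveI : IsScalarTower R R' M' := IsScalarTower.of_algebraMap_smul fun r x => rfl
  have hsm : ∀ (r : R) (x : M'), r • x = (algebraMap R S r) • x := by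
    intro r x
    change (algebraMap R R' r) • x = _
    rw [← algebraMap_smul S' (algebraMap R R' r) x, ← algebraMap_smul S' (algebraMap R S r) x,
      ← IsScalarTower.algebraMap_apply, ← IsScalarTower.algebraMap_apply]
  haveI : IsScalarTower R S M' := IsScalarTower.of_algebraMap_smul fun r x => (hsm r x).symm
  let f₀ : M →ₗ[R] M' := f.restrictScalars R
  haveI : Algebra.IsPushout R R' S S' := Algebra.IsPushout.symm inferInstance
  let E : R' ⊗[R] M ≃ₗ[R'] M' :=
    (Algebra.IsPushout.cancelBaseChange R R' S S' M).symm ≪≫ₗ (hf.equiv.restrictScalars R')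
  have hf₀ : IsBaseChange R' f₀ := IsBaseChange.of_equiv E fun m => by
    simp [E, f₀, IsBaseChange.equiv_tmul]
  rw [Groth.Agent.Lib.FlatAtCrit22.flatAt_iff]
  intro I'' x hx
  obtain ⟨y, rfl⟩ := (Φ_bijective (↥I'') hf₀).2 x
  let ι : ↥I'' →ₗ[R] R' := I''.subtype.restrictScalars R
  have hι : Function.Injective ι := Subtype.val_injective
  have hnat : ∀ z : M ⊗[R] ↥I'', Φ R' f₀ R' (ι.lTensor M z) = I''.subtype.lTensor M' (Φ R' f₀ ↥I'' z) := by
    intro z
    induction z with
    | zero => simp
    | add a b ha hb => simp only [map_add, ha, hb]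
    | tmul m p => simp [ι]
  have hy : ι.lTensor M y = 0 := by
    apply (Φ_bijective R' hf₀).1
    rw [hnat, hx, map_zero]
  obtain ⟨s, hs, hsy⟩ := exists_smul_eq_zero_of_flatAt M ι hι _ h y hy
  refine ⟨algebraMap S S' s, hs, ?_⟩
  have hlin : ∀ z : M ⊗[R] ↥I'', Φ R' f₀ ↥I'' (s • z) = (algebraMap S S' s) • Φ R' f₀ ↥I'' z := by
    intro z
    induction z with
    | zero => simp
    | add a b ha hb => simp only [smul_add, map_add, ha, hb]
    | tmul m p =>
      rw [TensorProduct.smul_tmul', Φ_tmul, Φ_tmul, TensorProduct.smul_tmul']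
      simp [f₀]
  rw [← hlin, hsy, map_zero]

end Main

end Groth.Agent.Lib.FlatAtBC
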