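import Mathlib
import Groth.Agent.S0392
import Groth.Agent.Lib.FlatAtBC
import Groth.Agent.Lib.FlatModel64

set_option autoImplicit false
universe u
open IsLocalRing TensorProduct

/-!
helper79: lower semicontinuity of fibre dimension for flat finitely presented ring maps.

* `flat_localization_of_map_eq`: Noetherian fibre criterion when the fibre of the middle ring is a
  field (`A → C → B`, `P = pC`): `B_q` is flat over `C`.
* `exists_prime_le_under_eq`: going down at a prime where the algebra is flat.
* `polyAlg`, `under_polyAlg_eq_map_of_algebraicIndependent`, ...: `A[X_ι] → B` given by a family.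
* `flat_localization_polyAlg_of_model`: flatness of `B_q` over `A[X_ι]` from a Noetherian model.
* `exists_prime_le_trdeg_ge`: **key lemma**: `A → B` flat f.p., `q' ≤ q`: there is `w ≤ q'` in the fibre
  of `q'` with `trdeg κ(q)/κ(q ∩ A) ≤ trdeg κ(w)/κ(w ∩ A)`.
-/

namespace Groth.Agent.Lib.H79FlatGenDim

theorem flat_quotient_of_isMaximal {R M : Type*} [CommRing R] (I : Ideal R) [I.IsMaximal]
    [AddCommGroup M] [Module (R ⧸ I) M] : Module.Flat (R ⧸ I) M := by
  let _ := Ideal.Quotient.field I
  infer_instance

/-- Noetherian fibre criterion in the special case where the fibre of the middle ring is a field: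
`A → C → B` Noetherian, `B` flat over `A`, primes `q ⊇ P ⊇ p` with `P = pC`.  Then `B_q` is flat
over `C`. -/
theorem flat_localization_of_map_eq {A C B : Type u} [CommRing A] [CommRing C] [CommRing B]
    [Algebra A C] [Algebra C B] [Algebra A B] [IsScalarTower A C B]
    [IsNoetherianRing A] [IsNoetherianRing C] [IsNoetherianRing B] [Module.Flat A B]
    (p : Ideal A) [p.IsPrime] (P : Ideal C) [P.IsPrime] (q : Ideal B) [q.IsPrime]
    [P.LiesOver p] [q.LiesOver P] [q.LiesOver p] (hP : P = p.map (algebraMap A C)) :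
    Module.Flat C (Localization.AtPrime q) := by
  let _ := Localization.AtPrime.algebraOfLiesOver p P
  let _ := Localization.AtPrime.algebraOfLiesOver P q
  let _ := Localization.AtPrime.algebraOfLiesOver p q
  have hloc1 : IsLocalHom (algebraMap (Localization.AtPrime p) (Localization.AtPrime P)) := by
    rw [RingHom.algebraMap_toAlgebra]
    exact Localization.isLocalHom_localRingHom p P (algebraMap A C) Ideal.LiesOver.over
  have hloc2 : IsLocalHom (algebraMap (Localization.AtPrime P) (Localization.AtPrime q)) := by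
    rw [RingHom.algebraMap_toAlgebra]
    exact Localization.isLocalHom_localRingHom P q (algebraMap C B) Ideal.LiesOver.over
  have hN1 : IsNoetherianRing (Localization.AtPrime p) :=
    IsLocalization.isNoetherianRing p.primeCompl _ inferInstance
  have hN2 : IsNoetherianRing (Localization.AtPrime P) :=
    IsLocalization.isNoetherianRing P.primeCompl _ inferInstance
  have hN3 : IsNoetherianRing (Localization.AtPrime q) :=
    IsLocalization.isNoetherianRing q.primeCompl _ inferInstance
  -- flatness of `B_q` over `A_p`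
  have hfl0 : Module.Flat A (Localization.AtPrime q) := Module.Flat.trans A B _
  have hfl : Module.Flat (Localization.AtPrime p) (Localization.AtPrime q) :=
    (Module.flat_iff_of_isLocalization (Localization.AtPrime p) p.primeCompl _).mpr hfl0
  -- the fibre of `C_P` is a field
  have hmax : (maximalIdeal (Localization.AtPrime p)).map
      (algebraMap (Localization.AtPrime p) (Localization.AtPrime P)) =
      maximalIdeal (Localization.AtPrime P) := by
    rw [← Localization.AtPrime.map_eq_maximalIdeal, ← Localization.AtPrime.map_eq_maximalIdeal,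
      Ideal.map_map, ← IsScalarTower.algebraMap_eq, IsScalarTower.algebraMap_eq A C, ← Ideal.map_map,
      ← hP]
  have h : Module.Flat (Localization.AtPrime P ⧸ (maximalIdeal (Localization.AtPrime p)).map
      (algebraMap (Localization.AtPrime p) (Localization.AtPrime P)))
      ((Localization.AtPrime P ⧸ (maximalIdeal (Localization.AtPrime p)).map
      (algebraMap (Localization.AtPrime p) (Localization.AtPrime P))) ⊗[Localization.AtPrime P]
        Localization.AtPrime q) := by
    have hm : ((maximalIdeal (Localization.AtPrime p)).map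
      (algebraMap (Localization.AtPrime p) (Localization.AtPrime P))).IsMaximal := by
      rw [hmax]; infer_instance
    exact flat_quotient_of_isMaximal _
  have key := (Groth.Agent.S0392.result (R := Localization.AtPrime p)
    (S := Localization.AtPrime P) (S' := Localization.AtPrime q) (M := Localization.AtPrime q) h).2
  exact Module.Flat.trans C (Localization.AtPrime P) _

/-- Going down at a prime where the algebra is flat. -/
theorem exists_prime_le_under_eq {C B : Type*} [CommRing C] [CommRing B] [Algebra C B]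
    (q : Ideal B) [q.IsPrime] [Module.Flat C (Localization.AtPrime q)]
    (q' : Ideal B) [q'.IsPrime] (hle : q' ≤ q) (P'' : Ideal C) [P''.IsPrime]
    (hP : P'' ≤ q'.under C) :
    ∃ w : Ideal B, w.IsPrime ∧ w ≤ q' ∧ w.under C = P'' := by
  set Q' : Ideal (Localization.AtPrime q) := q'.map (algebraMap B (Localization.AtPrime q)) with hQ'
  have hQ'prime : Q'.IsPrime := Ideal.isPrime_map_of_isLocalizationAtPrime q hle
  have hQ'under : Q'.under B = q' := Ideal.under_map_of_isLocalizationAtPrime q hle
  have hover : Q'.LiesOver (q'.under C) := ⟨by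
    rw [← hQ'under, Ideal.under_under]⟩
  obtain ⟨W, hWle, hWprime, hWover⟩ :=
    Ideal.exists_ideal_le_liesOver_of_le (p := P'') (q := q'.under C) Q' hP
  refine ⟨W.under B, Ideal.IsPrime.under B W, ?_, ?_⟩
  · rw [← hQ'under]
    exact Ideal.comap_mono hWle
  · rw [Ideal.under_under]
    exact hWover.over.symm


theorem flatAt_iff_flat_localization {C B : Type u} [CommRing C] [CommRing B] [Algebra C B]
    (q : Ideal B) [q.IsPrime] :
    FlatCA.FlatAt C q B ↔ Module.Flat C (Localization.AtPrime q) := by
  unfold FlatCA.FlatAt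
  let e : LocalizedModule q.primeCompl B ≃ₗ[C] Localization.AtPrime q :=
    (IsLocalizedModule.iso q.primeCompl (Algebra.linearMap B (Localization.AtPrime q))).restrictScalars C
  exact ⟨fun h => Module.Flat.of_linearEquiv e.symm, fun h => Module.Flat.of_linearEquiv e⟩


open MvPolynomial

section K
variable {A B : Type*} [CommRing A] [CommRing B] [Algebra A B] {ι : Type*} (t : ι → B)

variable (A) in
/-- the `A[X_ι]`-algebra structure on `B` given by a family `t`. -/
@[reducible] noncomputable def polyAlg : Algebra (MvPolynomial ι A) B :=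
  (aeval t : MvPolynomial ι A →ₐ[A] B).toRingHom.toAlgebra

theorem polyAlg_isScalarTower :
    let := polyAlg A t
    IsScalarTower A (MvPolynomial ι A) B := by
  let := polyAlg A t
  refine IsScalarTower.of_algebraMap_eq fun a => ?_
  change _ = aeval t (C a)
  simp

theorem mk_aeval_eq (q : Ideal B) [q.IsPrime] (f : MvPolynomial ι A) :
    Ideal.Quotient.mk q (aeval t f) =
      aeval (fun i => Ideal.Quotient.mk q (t i))
        (map (algebraMap A (A ⧸ q.under A)) f) := by
  rw [aeval_map_algebraMap]
  have : (Ideal.Quotient.mk q) (aeval t f) = (Ideal.Quotient.mkₐ A q) (aeval t f) := rfl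
  rw [this, ← AlgHom.comp_apply, comp_aeval]
  rfl

theorem under_polyAlg_eq_map_of_algebraicIndependent (q : Ideal B) [q.IsPrime]
    (hind : AlgebraicIndependent (A ⧸ q.under A) (fun i => Ideal.Quotient.mk q (t i))) :
    let := polyAlg A t
    q.under (MvPolynomial ι A) = (q.under A).map (C : A →+* MvPolynomial ι A) := by
  let := polyAlg A t
  ext f
  rw [Ideal.mem_comap, ← Ideal.Quotient.eq_zero_iff_mem]
  change Ideal.Quotient.mk q (aeval t f) = 0 ↔ _
  rw [mk_aeval_eq, ← map_zero (aeval (R := A ⧸ q.under A) fun i => Ideal.Quotient.mk q (t i)), hind.eq_iff,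
    ← RingHom.mem_ker, ker_map]
  rw [show algebraMap A (A ⧸ q.under A) = Ideal.Quotient.mk (q.under A) from rfl, Ideal.mk_ker]

theorem algebraicIndependent_of_under_polyAlg_eq_map (q : Ideal B) [q.IsPrime]
    (h : letI := polyAlg A t
      q.under (MvPolynomial ι A) = (q.under A).map (C : A →+* MvPolynomial ι A)) :
    AlgebraicIndependent (A ⧸ q.under A) (fun i => Ideal.Quotient.mk q (t i)) := by
  let := polyAlg A t
  rw [algebraicIndependent_iff]
  intro g hg
  obtain ⟨f, rfl⟩ := map_surjective (Ideal.Quotient.mk (q.under A)) Ideal.Quotient.mk_surjective g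
  have h1 : Ideal.Quotient.mk q (aeval t f) = 0 := by
    rw [mk_aeval_eq]; exact hg
  rw [Ideal.Quotient.eq_zero_iff_mem] at h1
  have h2 : f ∈ q.under (MvPolynomial ι A) := h1
  rw [h, ← Ideal.mk_ker (I := q.under A), ← ker_map] at h2
  exact h2

theorem isPrime_map_C (p : Ideal A) [p.IsPrime] :
    (p.map (C : A →+* MvPolynomial ι A)).IsPrime := by
  have h : p.map (C : A →+* MvPolynomial ι A) = RingHom.ker (map (σ := ι) (Ideal.Quotient.mk p)) := by
    rw [ker_map, Ideal.mk_ker]
  rw [h]
  exact RingHom.ker_isPrime _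

theorem comap_C_map_C (p : Ideal A) :
    (p.map (C : A →+* MvPolynomial ι A)).comap (C : A →+* MvPolynomial ι A) = p := by
  classical
  ext a
  rw [Ideal.mem_comap, mem_map_C_iff]
  constructor
  · intro h
    have := h 0
    simpa using this
  · intro h m
    rw [coeff_C]
    split_ifs
    · exact h
    · exact zero_mem _

end K



section M
attribute [local instance] MvPolynomial.algebraMvPolynomial

variable {A₀ B₀ A B : Type u} [CommRing A₀] [CommRing B₀] [CommRing A] [CommRing B]
    [Algebra A₀ B₀] [Algebra A₀ A] [Algebra B₀ B] [Algebra A B] [Algebra A₀ B]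
    [IsScalarTower A₀ B₀ B] [IsScalarTower A₀ A B]

theorem flat_localization_polyAlg_of_model [Algebra.IsPushout A₀ B₀ A B]
    [IsNoetherianRing A₀] [Algebra.FiniteType A₀ B₀] [Module.Flat A₀ B₀]
    {ι : Type u} [Finite ι] (t₀ : ι → B₀) (q : Ideal B) [q.IsPrime]
    (hind : AlgebraicIndependent (A ⧸ q.under A)
      (fun i => Ideal.Quotient.mk q (algebraMap B₀ B (t₀ i)))) :
    let := polyAlg A (fun i => algebraMap B₀ B (t₀ i))
    Module.Flat (MvPolynomial ι A) (Localization.AtPrime q) := by
  let t : ι → B := fun i => algebraMap B₀ B (t₀ i)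
  let iCB : Algebra (MvPolynomial ι A) B := polyAlg A t
  let iC₀B₀ : Algebra (MvPolynomial ι A₀) B₀ := polyAlg A₀ t₀
  let iC₀B : Algebra (MvPolynomial ι A₀) B :=
    ((algebraMap B₀ B).comp (algebraMap (MvPolynomial ι A₀) B₀)).toAlgebra
  have : IsScalarTower A (MvPolynomial ι A) B := polyAlg_isScalarTower t
  have : IsScalarTower A₀ (MvPolynomial ι A₀) B₀ := polyAlg_isScalarTower t₀
  have : IsScalarTower (MvPolynomial ι A₀) B₀ B := IsScalarTower.of_algebraMap_eq' rfl
  have : IsScalarTower (MvPolynomial ι A₀) (MvPolynomial ι A) B := by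
    refine IsScalarTower.of_algebraMap_eq' ?_
    apply MvPolynomial.ringHom_ext
    · intro a
      change algebraMap B₀ B (aeval t₀ (C a)) = aeval t (map (algebraMap A₀ A) (C a))
      simp [← IsScalarTower.algebraMap_apply]
    · intro i
      change algebraMap B₀ B (aeval t₀ (X i)) = aeval t (map (algebraMap A₀ A) (X i))
      simp [t]
  have : IsScalarTower A₀ (MvPolynomial ι A₀) B := by
    refine IsScalarTower.of_algebraMap_eq' ?_
    rw [IsScalarTower.algebraMap_eq A₀ B₀ B, IsScalarTower.algebraMap_eq A₀ (MvPolynomial ι A₀) B₀]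
    rfl
  have : IsScalarTower A₀ (MvPolynomial ι A) B := by
    refine IsScalarTower.of_algebraMap_eq' ?_
    rw [IsScalarTower.algebraMap_eq A₀ A B, IsScalarTower.algebraMap_eq A (MvPolynomial ι A) B,
      IsScalarTower.algebraMap_eq A₀ A (MvPolynomial ι A), RingHom.comp_assoc]
  -- the right-hand square is a pushout
  have hpo : Algebra.IsPushout (MvPolynomial ι A₀) B₀ (MvPolynomial ι A) B :=
    (Algebra.IsPushout.comp_iff A₀ (MvPolynomial ι A₀) A (S' := MvPolynomial ι A) (T := B₀)
      (T' := B)).mp inferInstance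
  -- the primes
  set q₀ : Ideal B₀ := q.under B₀ with hq₀
  set p₀ : Ideal A₀ := q₀.under A₀ with hp₀
  set P₀ : Ideal (MvPolynomial ι A₀) := q₀.under (MvPolynomial ι A₀) with hP₀
  have : q₀.IsPrime := Ideal.IsPrime.under B₀ q
  have : p₀.IsPrime := Ideal.IsPrime.under A₀ q₀
  have : P₀.IsPrime := Ideal.IsPrime.under (MvPolynomial ι A₀) q₀
  have : P₀.LiesOver p₀ := ⟨by rw [hP₀, Ideal.under_under]⟩
  -- algebraic independence at the model level
  have hp₀' : p₀ = (q.under A).under A₀ := by
    rw [hp₀, hq₀, Ideal.under_under, Ideal.under_under]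
  have hind₀ : AlgebraicIndependent (A₀ ⧸ q₀.under A₀) (fun i => Ideal.Quotient.mk q₀ (t₀ i)) := by
    let f : (A₀ ⧸ q₀.under A₀) →+* (A ⧸ q.under A) :=
      Ideal.quotientMap (q.under A) (algebraMap A₀ A) (le_of_eq hp₀')
    let g : (B₀ ⧸ q₀) →+* (B ⧸ q) := Ideal.quotientMap q (algebraMap B₀ B) le_rfl
    have hf : Function.Injective f := Ideal.quotientMap_injective' (le_of_eq hp₀'.symm)
    refine AlgebraicIndependent.of_ringHom_of_comp_eq f g (S := A ⧸ q.under A) (B := B ⧸ q)
      hind hf ?_
    apply Ideal.Quotient.ringHom_ext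
    ext a
    change algebraMap (A ⧸ q.under A) (B ⧸ q) (Ideal.Quotient.mk _ (algebraMap A₀ A a)) =
      Ideal.Quotient.mk q (algebraMap B₀ B (algebraMap A₀ B₀ a))
    rw [← IsScalarTower.algebraMap_apply A₀ B₀ B, IsScalarTower.algebraMap_apply A₀ A B]
    rfl
  have hP : P₀ = p₀.map (algebraMap A₀ (MvPolynomial ι A₀)) :=
    under_polyAlg_eq_map_of_algebraicIndependent t₀ q₀ hind₀
  have : IsNoetherianRing B₀ := Algebra.FiniteType.isNoetherianRing A₀ B₀
  have hfl₀ : Module.Flat (MvPolynomial ι A₀) (Localization.AtPrime q₀) :=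
    flat_localization_of_map_eq p₀ P₀ q₀ hP
  have hat₀ : FlatCA.FlatAt (MvPolynomial ι A₀) (q.comap (algebraMap B₀ B)) B₀ :=
    (flatAt_iff_flat_localization q₀).mpr hfl₀
  have hat : FlatCA.FlatAt (MvPolynomial ι A) q B :=
    Groth.Agent.Lib.FlatAtBC.flatAt_baseChange (R := MvPolynomial ι A₀) (S := B₀)
      (R' := MvPolynomial ι A) (S' := B) (M := B₀) (M' := B) (Algebra.linearMap B₀ B)
      (IsBaseChange.linearMap B₀ B) q hat₀
  exact (flatAt_iff_flat_localization q).mp hat
end M

section Main

open Cardinal in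
/-- **Key lemma (going down with transcendence degree, flat finitely presented case).**
`A → B` flat of finite presentation, `q' ≤ q` primes of `B`.  Then there is a prime `w ≤ q'` of `B`
in the same fibre as `q'` with `trdeg κ(q)/κ(q ∩ A) ≤ trdeg κ(w)/κ(w ∩ A)`. -/
theorem exists_prime_le_trdeg_ge {A B : Type u} [CommRing A] [CommRing B] [Algebra A B]
    [Algebra.FinitePresentation A B] [Module.Flat A B] (q q' : Ideal B) [q.IsPrime] [q'.IsPrime]
    (hle : q' ≤ q) :
    ∃ w : Ideal B, ∃ _ : w.IsPrime, w ≤ q' ∧ w.under A = q'.under A ∧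
      Algebra.trdeg (A ⧸ q.under A) (B ⧸ q) ≤ Algebra.trdeg (A ⧸ w.under A) (B ⧸ w) := by
  classical
  obtain ⟨A₀, B₀, _, _, φ₀, a, b, hpo, hft, hφft, hφfl⟩ :=
    Groth.Agent.Lib.FlatModel64.exists_model_flat A B
  let : Algebra A₀ B₀ := φ₀.toAlgebra
  let : Algebra A₀ A := a.toAlgebra
  let : Algebra B₀ B := b.toAlgebra
  let : Algebra A₀ B := ((algebraMap A B).comp a).toAlgebra
  have : IsScalarTower A₀ A B := IsScalarTower.of_algebraMap_eq' rfl
  have : IsScalarTower A₀ B₀ B := IsScalarTower.of_algebraMap_eq' (by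
    have := congrArg CommRingCat.Hom.hom hpo.w
    exact this)
  have hpo' : Algebra.IsPushout A₀ A B₀ B := CommRingCat.isPushout_iff_isPushout.mp hpo
  have : Algebra.IsPushout A₀ B₀ A B := hpo'.symm
  have : IsNoetherianRing A₀ := Algebra.FiniteType.isNoetherianRing ℤ A₀
  have : Algebra.FiniteType A₀ B₀ := hφft
  have : Module.Flat A₀ B₀ := hφfl
  -- a transcendence basis of `B/q` over `A/p` coming from `B₀`
  set s : Set (B ⧸ q) := Set.range (fun x : B₀ => Ideal.Quotient.mk q (algebraMap B₀ B x)) with hs
  have hadj : ∀ l : B ⧸ q, l ∈ Algebra.adjoin (A ⧸ q.under A) s := by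
    intro l
    obtain ⟨y, rfl⟩ := Ideal.Quotient.mk_surjective l
    refine hpo'.out.inductionOn y (fun y => Ideal.Quotient.mk q y ∈ Algebra.adjoin (A ⧸ q.under A) s)
      ?_ ?_ ?_ ?_
    · simp
    · intro m
      exact Algebra.subset_adjoin ⟨m, rfl⟩
    · intro r n hn
      have : Ideal.Quotient.mk q (r • n) =
          (Ideal.Quotient.mk (q.under A) r) • Ideal.Quotient.mk q n := by
        rw [Algebra.smul_def, Algebra.smul_def, map_mul]
        rfl
      rw [this]
      exact Subalgebra.smul_mem _ hn _
    · intro n₁ n₂ h₁ h₂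
      rw [map_add]
      exact Subalgebra.add_mem _ h₁ h₂
  have : Algebra.IsAlgebraic (Algebra.adjoin (A ⧸ q.under A) s) (B ⧸ q) :=
    ⟨fun l => isAlgebraic_algebraMap (⟨l, hadj l⟩ : Algebra.adjoin (A ⧸ q.under A) s)⟩
  obtain ⟨T, hTs, hT⟩ := exists_isTranscendenceBasis_subset (R := A ⧸ q.under A) s
  -- finiteness
  have : Algebra.FiniteType (A ⧸ q.under A) (B ⧸ q) :=
    Algebra.FiniteType.of_restrictScalars_finiteType A _ _
  have hfin : Algebra.trdeg (A ⧸ q.under A) (B ⧸ q) < ℵ₀ := trdeg_lt_aleph0_of_finiteType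
  have hcard : #T = Algebra.trdeg (A ⧸ q.under A) (B ⧸ q) := hT.cardinalMk_eq_trdeg
  have : Finite T := by
    rw [← Cardinal.lt_aleph0_iff_finite, hcard]; exact hfin
  -- lifts to `B₀`
  choose t₀ ht₀ using fun i : T => hTs i.2
  have hind : AlgebraicIndependent (A ⧸ q.under A)
      (fun i : T => Ideal.Quotient.mk q (algebraMap B₀ B (t₀ i))) := by
    have : (fun i : T => Ideal.Quotient.mk q (algebraMap B₀ B (t₀ i))) = ((↑) : T → B ⧸ q) :=
      funext ht₀
    rw [this]
    exact hT.1
  let t : T → B := fun i => algebraMap B₀ B (t₀ i)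
  let iCB : Algebra (MvPolynomial T A) B := polyAlg A t
  have : IsScalarTower A (MvPolynomial T A) B := polyAlg_isScalarTower t
  have hflat : Module.Flat (MvPolynomial T A) (Localization.AtPrime q) :=
    flat_localization_polyAlg_of_model (A₀ := A₀) (B₀ := B₀) (A := A) (B := B) t₀ q hind
  set p' : Ideal A := q'.under A with hp'
  have : (p'.map (C : A →+* MvPolynomial T A)).IsPrime := isPrime_map_C p'
  have hP'' : p'.map (C : A →+* MvPolynomial T A) ≤ q'.under (MvPolynomial T A) := by
    rw [Ideal.map_le_iff_le_comap]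
    intro r hr
    change algebraMap (MvPolynomial T A) B (C r) ∈ q'
    have : algebraMap (MvPolynomial T A) B (C r) = algebraMap A B r := by
      change aeval t (C r) = _
      simp
    rw [this]
    exact hr
  obtain ⟨w, hwprime, hwle, hwunder⟩ :=
    exists_prime_le_under_eq q q' hle (p'.map (C : A →+* MvPolynomial T A)) hP''
  have hwA : w.under A = p' := by
    rw [← Ideal.under_under (B := MvPolynomial T A) w, hwunder]
    exact comap_C_map_C p'
  refine ⟨w, hwprime, hwle, hwA, ?_⟩
  have hindw : AlgebraicIndependent (A ⧸ w.under A) (fun i => Ideal.Quotient.mk w (t i)) :=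
    algebraicIndependent_of_under_polyAlg_eq_map t w (by rw [hwunder, hwA])
  rw [← hcard]
  exact hindw.cardinalMk_le_trdeg

end Main

end Groth.Agent.Lib.H79FlatGenDim
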