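import Mathlib
import Groth.Agent.Lib.H79FlatGenDim
import Groth.Agent.Lib.DimIneqScheme
import Groth.Agent.Lib.H30IrrFib
import Groth.Agent.Lib.FibreDimAtFormula
import Groth.Agent.Lib.H56FibDimSup
import Groth.Agent.Lib.H30FlatDim
import Groth.Agent.S9357
import Groth.Agent.S0402

/-!
helper79: lower semicontinuity of the local fibre dimension for flat morphisms locally of finite
presentation (scheme level), on top of `Lib/H79FlatGenDim`.
-/

set_option autoImplicit false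
universe u

namespace Groth.Agent.Lib.H79FlatGenDimSch

open AlgebraicGeometry CategoryTheory Groth.Agent.Lib.DimIneqScheme
open Groth.Agent.Lib.H30DimRel Groth.Agent.Lib.H30IrrFib

variable {X S : Scheme.{u}}

/-- **Lower semicontinuity of residue transcendence degrees for flat lfp morphisms**: for `x' ⤳ x`
there is a generization `ξ` of `x'` in the fibre of `x'` with
`trdeg κ(x)/κ(f x) ≤ trdeg κ(ξ)/κ(f ξ)`. -/
theorem exists_generization_trdeg_ge (f : X ⟶ S) [Flat f] [LocallyOfFinitePresentation f]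
    (x x' : X) (hsp : x' ⤳ x) :
    ∃ ξ : X, ξ ⤳ x' ∧ f ξ = f x' ∧
      (letI := (f.residueFieldMap x).hom.toAlgebra
       Algebra.trdeg (S.residueField (f x)) (X.residueField x)) ≤
      (letI := (f.residueFieldMap ξ).hom.toAlgebra
       Algebra.trdeg (S.residueField (f ξ)) (X.residueField ξ)) := by
  obtain ⟨V, hV, hfxV⟩ : ∃ V : S.Opens, IsAffineOpen V ∧ f x ∈ V := by
    obtain ⟨_, ⟨V, hV, rfl⟩, hxV, -⟩ := S.isBasis_affineOpens.exists_subset_of_mem_open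
      (Set.mem_univ (f x)) isOpen_univ
    exact ⟨V, hV, hxV⟩
  obtain ⟨U, hU, hxU, e⟩ : ∃ U : X.Opens, IsAffineOpen U ∧ x ∈ U ∧ U ≤ f ⁻¹ᵁ V := by
    obtain ⟨_, ⟨U, hU, rfl⟩, hxU, hUV⟩ := X.isBasis_affineOpens.exists_subset_of_mem_open
      (show x ∈ ((f ⁻¹ᵁ V : X.Opens) : Set X) from hfxV) (f ⁻¹ᵁ V).isOpen
    exact ⟨U, hU, hxU, hUV⟩
  let alg := (f.appLE V U e).hom.toAlgebra
  have hfp : Algebra.FinitePresentation Γ(S, V) Γ(X, U) :=
    HasRingHomProperty.appLE (P := @LocallyOfFinitePresentation) f inferInstance ⟨V, hV⟩ ⟨U, hU⟩ e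
  have hflat : Module.Flat Γ(S, V) Γ(X, U) :=
    HasRingHomProperty.appLE (P := @Flat) f inferInstance ⟨V, hV⟩ ⟨U, hU⟩ e
  have hinjV : Function.Injective hV.fromSpec := hV.fromSpec.isOpenEmbedding.injective
  have hinjU : Function.Injective hU.fromSpec := hU.fromSpec.isOpenEmbedding.injective
  have hx'U : x' ∈ U := hsp.mem_open U.isOpen hxU
  set q : Spec Γ(X, U) := hU.primeIdealOf ⟨x, hxU⟩ with hq
  set q' : Spec Γ(X, U) := hU.primeIdealOf ⟨x', hx'U⟩ with hq'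
  have hqx : hU.fromSpec q = x := hU.fromSpec_primeIdealOf ⟨x, hxU⟩
  have hq'x' : hU.fromSpec q' = x' := hU.fromSpec_primeIdealOf ⟨x', hx'U⟩
  have hunder : ∀ (z : X) (hz : z ∈ U), (hU.primeIdealOf ⟨z, hz⟩).asIdeal.under Γ(S, V) =
      (hV.primeIdealOf ⟨f z, e hz⟩).asIdeal := fun z hz =>
    congrArg PrimeSpectrum.asIdeal (IsAffineOpen.comap_primeIdealOf_appLE V hV U hU e hz)
  have hle : q'.asIdeal ≤ q.asIdeal := by
    have h2 : (q' : Spec Γ(X, U)) ⤳ q :=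
      hU.fromSpec.isOpenEmbedding.isInducing.specializes_iff.mp (by
        rw [hqx, hq'x']; exact hsp)
    exact (PrimeSpectrum.le_iff_specializes q' q).mpr h2
  have hqprime : q.asIdeal.IsPrime := q.isPrime
  have hq'prime : q'.asIdeal.IsPrime := q'.isPrime
  obtain ⟨w, hwprime, hwle, hwunder, htr⟩ :=
    Groth.Agent.Lib.H79FlatGenDim.exists_prime_le_trdeg_ge (A := Γ(S, V)) (B := Γ(X, U))
      q.asIdeal q'.asIdeal hle
  let Q : Spec Γ(X, U) := ⟨w, hwprime⟩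
  have hξU : hU.fromSpec Q ∈ U := by
    have : hU.fromSpec Q ∈ Set.range hU.fromSpec := Set.mem_range_self Q
    rwa [hU.range_fromSpec] at this
  have hQ : hU.primeIdealOf ⟨hU.fromSpec Q, hξU⟩ = Q :=
    hinjU (hU.fromSpec_primeIdealOf ⟨_, hξU⟩)
  have hQ' : (hU.primeIdealOf ⟨hU.fromSpec Q, hξU⟩).asIdeal = w := congrArg PrimeSpectrum.asIdeal hQ
  refine ⟨hU.fromSpec Q, ?_, ?_, ?_⟩
  · have h1 : Q ⤳ q' := (PrimeSpectrum.le_iff_specializes Q q').mp hwle
    have h2 := h1.map hU.fromSpec.continuous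
    rwa [hq'x'] at h2
  · have h1 := hunder (hU.fromSpec Q) hξU
    rw [hQ', hwunder, hunder x' hx'U] at h1
    have h2 : hV.primeIdealOf ⟨f (hU.fromSpec Q), e hξU⟩ = hV.primeIdealOf ⟨f x', e hx'U⟩ :=
      (PrimeSpectrum.ext h1).symm
    have h3 := congrArg hV.fromSpec h2
    rwa [hV.fromSpec_primeIdealOf ⟨_, e hξU⟩, hV.fromSpec_primeIdealOf ⟨_, e hx'U⟩] at h3
  · rw [trdeg_residueField_eq f hU hV e x hxU, trdeg_residueField_eq f hU hV e _ hξU]
    have h1 : Algebra.trdeg (Γ(S, V) ⧸ (hU.primeIdealOf ⟨hU.fromSpec Q, hξU⟩).asIdeal.under Γ(S, V))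
        (Γ(X, U) ⧸ (hU.primeIdealOf ⟨hU.fromSpec Q, hξU⟩).asIdeal) =
        Algebra.trdeg (Γ(S, V) ⧸ w.under Γ(S, V)) (Γ(X, U) ⧸ w) := by
      rw [hQ]
    rw [h1]
    exact htr


/-- natural-number form -/
theorem exists_generization_rt_ge (f : X ⟶ S) [Flat f] [LocallyOfFinitePresentation f]
    (x x' : X) (hsp : x' ⤳ x) :
    ∃ ξ : X, ξ ⤳ x' ∧ f ξ = f x' ∧ rt f x ≤ rt f ξ := by
  obtain ⟨ξ, h1, h2, h3⟩ := exists_generization_trdeg_ge f x x' hsp
  refine ⟨ξ, h1, h2, ?_⟩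
  rw [trdeg_eq_rt f x, trdeg_eq_rt f ξ] at h3
  exact_mod_cast h3

/-- for `x' ⤳ x` the local fibre dimension at `x'` is at least `trdeg κ(x)/κ(f x)`. -/
theorem rt_le_fibreDimAt_of_specializes (f : X ⟶ S) [Flat f] [LocallyOfFinitePresentation f]
    (x x' : X) (hsp : x' ⤳ x) :
    ((rt f x : ℕ) : WithBot ℕ∞) ≤ FlatMor.fibreDimAt f x' := by
  obtain ⟨ξ, h1, h2, h3⟩ := exists_generization_rt_ge f x x' hsp
  calc ((rt f x : ℕ) : WithBot ℕ∞) ≤ ((rt f ξ : ℕ) : WithBot ℕ∞) := by exact_mod_cast h3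
    _ ≤ FlatMor.fibreDimAt f ξ := Groth.Agent.S9357.rt_le_fibreDimAt' f ξ
    _ ≤ FlatMor.fibreDimAt f x' := Groth.Agent.S9357.fibreDimAt_mono f h1 h2

/-- Chevalley: the local fibre dimension can only go down under generization. -/
theorem fibreDimAt_le_of_specializes (f : X ⟶ S) [LocallyOfFiniteType f]
    (x x' : X) (hsp : x' ⤳ x) : FlatMor.fibreDimAt f x' ≤ FlatMor.fibreDimAt f x := by
  obtain ⟨w, -, -, -, hw⟩ := exists_rt_eq_fibreDimAt f x
  have h1 : x ∈ {y : X | FlatMor.fibreDimAt f y ≤ ((rt f w : ℕ) : WithBot ℕ∞)} := hw.symm.le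
  have h2 := hsp.mem_open (Groth.Agent.S0402.result f (rt f w)) h1
  rw [← hw]
  exact h2

/-- **S9739**: at a point `x` which is maximal (for generization) in its fibre, the local fibre
dimension is constant on the generizations of `x`. -/
theorem fibreDimAt_eq_of_specializes_of_maximal (f : X ⟶ S) [Flat f]
    [LocallyOfFinitePresentation f] (x x' : X) (hsp : x' ⤳ x)
    (hmax : ∀ z : X, f z = f x → z ⤳ x → z = x) :
    FlatMor.fibreDimAt f x' = FlatMor.fibreDimAt f x := by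
  refine le_antisymm (fibreDimAt_le_of_specializes f x x' hsp) ?_
  obtain ⟨w, hw1, hw2, -, hw⟩ := exists_rt_eq_fibreDimAt f x
  rw [hmax w hw1 hw2] at hw
  rw [← hw]
  exact rt_le_fibreDimAt_of_specializes f x x' hsp

end Groth.Agent.Lib.H79FlatGenDimSch
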