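/-
helper56: keystone FibDim, stage 7: invariance of the local dimension under base field extension
(Stacks 00P4-type), via open generalizing maps.
-/
import Mathlib
import Groth.Prelude.Def_Flat
import Groth.Agent.Lib.H56FibDimSmooth
import Groth.Agent.Lib.SpecDim
import Groth.Agent.Lib.H77DimFieldExt

set_option autoImplicit false
universe u

open TopologicalSpace Topology TensorProduct Order

namespace Groth.Agent.Lib.H56LocDim

section order

variable {α β : Type*} [Preorder α] [Preorder β]

/-- If strict inequalities above `f a` lift, then `coheight (f a) ≤ coheight a`. -/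
lemma coheight_apply_le_of_lift (f : α → β)
    (h : ∀ a : α, ∀ b : β, f a < b → ∃ (a' : α), a < a' ∧ f a' = b) (a : α) :
    coheight (f a) ≤ coheight a := by
  refine coheight_le_iff'.mpr fun p hp ↦ ?_
  induction p using RelSeries.inductionOn generalizing a with
  | singleton x => simp
  | cons p x hx ih =>
    simp only [RelSeries.head_cons] at hp
    obtain ⟨a', haa', ha'⟩ := h a p.head (by grind)
    grw [RelSeries.cons_length, Nat.cast_add, Nat.cast_one, ih a' ha'.symm]
    exact coheight_add_one_le haa'

end order

section top

variable {A B : Type*} [TopologicalSpace A] [TopologicalSpace B]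

attribute [local instance] specializationOrder

/-- A continuous surjective generalizing map does not raise the dimension of the target above
that of the source. -/
theorem topologicalKrullDim_le_of_generalizingMap [QuasiSober A] [T0Space A] [QuasiSober B]
    [T0Space B] (φ : A → B) (hc : Continuous φ) (hs : Function.Surjective φ)
    (hg : GeneralizingMap φ) : topologicalKrullDim B ≤ topologicalKrullDim A := by
  rw [Groth.Agent.Lib.SpecDim.topologicalKrullDim_eq_krullDim,
    Groth.Agent.Lib.SpecDim.topologicalKrullDim_eq_krullDim]
  have hlift : ∀ a : A, ∀ b : B, φ a < b → ∃ a' : A, a < a' ∧ φ a' = b := by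
    intro a b hab
    obtain ⟨a', ha', rfl⟩ := hg hab.1
    refine ⟨a', ⟨ha', fun h => hab.2 (h.map hc)⟩, rfl⟩
  rw [krullDim_eq_iSup_coheight, krullDim_eq_iSup_coheight, ← hs.iSup_comp]
  refine iSup_mono fun a => ?_
  exact_mod_cast coheight_apply_le_of_lift φ hlift a

end top

section localDim

variable {X X' : Type*} [TopologicalSpace X] [TopologicalSpace X'] [QuasiSober X] [T0Space X]
  [QuasiSober X'] [T0Space X']

/-- Local dimension does not drop along an open generalizing continuous map. -/
theorem localDim_le_of_isOpenMap_of_generalizingMap (π : X' → X) (hc : Continuous π)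
    (ho : IsOpenMap π) (hg : GeneralizingMap π) (x' : X') :
    FlatMor.localDim X (π x') ≤ FlatMor.localDim X' x' := by
  unfold FlatMor.localDim
  refine le_iInf fun W => ?_
  obtain ⟨W, hW⟩ := W
  let U : Opens X := ⟨π '' (W : Set X'), ho _ W.2⟩
  have hU : π x' ∈ U := ⟨x', hW, rfl⟩
  refine (iInf_le _ (⟨U, hU⟩ : {U : Opens X // π x' ∈ U})).trans ?_
  change topologicalKrullDim (π '' (W : Set X')) ≤ topologicalKrullDim (W : Set X')
  have : QuasiSober (W : Set X') := W.2.isOpenEmbedding_subtypeVal.quasiSober
  have : QuasiSober (π '' (W : Set X')) := (ho _ W.2).isOpenEmbedding_subtypeVal.quasiSober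
  let φ : ↥(W : Set X') → ↥(π '' (W : Set X')) := fun w => ⟨π w.1, w.1, w.2, rfl⟩
  apply topologicalKrullDim_le_of_generalizingMap φ
  · exact (hc.comp continuous_subtype_val).subtype_mk _
  · rintro ⟨_, w, hw, rfl⟩
    exact ⟨⟨w, hw⟩, rfl⟩
  · intro a b hab
    have h1 : (b : X) ⤳ π a.1 := by
      have := hab.map continuous_subtype_val
      exact this
    obtain ⟨a', ha', hfa'⟩ := hg h1
    have ha'W : a' ∈ (W : Set X') := ha'.mem_open W.2 a.2
    exact ⟨⟨a', ha'W⟩, (subtype_specializes_iff _ _).mpr ha', Subtype.ext hfa'⟩

end localDim

/-- Upper bound of the local dimension by the dimension of a principal open neighbourhood. -/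
theorem localDim_primeSpectrum_le_away {S : Type*} [CommRing S] (q : PrimeSpectrum S) (g : S)
    (hg : g ∉ q.asIdeal) :
    FlatMor.localDim (PrimeSpectrum S) q ≤ ringKrullDim (Localization.Away g) := by
  have h1 := Groth.Agent.Lib.TopKrullDim.localDim_le_dim_open q (PrimeSpectrum.basicOpen g) hg
  refine h1.trans ?_
  have hj : IsOpenEmbedding (PrimeSpectrum.comap (algebraMap S (Localization.Away g))) :=
    PrimeSpectrum.localization_away_isOpenEmbedding (Localization.Away g) g
  have hrange : Set.range (PrimeSpectrum.comap (algebraMap S (Localization.Away g))) =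
      PrimeSpectrum.basicOpen g :=
    PrimeSpectrum.localization_away_comap_range (Localization.Away g) g
  rw [← PrimeSpectrum.topologicalKrullDim_eq_ringKrullDim]
  have e : PrimeSpectrum (Localization.Away g) ≃ₜ
      Set.range (PrimeSpectrum.comap (algebraMap S (Localization.Away g))) :=
    hj.isEmbedding.toHomeomorph
  rw [← hrange]
  exact e.symm.isInducing.topologicalKrullDim_le

/-- The local dimension is attained on a principal open neighbourhood. -/
theorem exists_away_dim_le_localDim {S : Type*} [CommRing S] (q : PrimeSpectrum S) :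
    ∃ g : S, g ∉ q.asIdeal ∧
      ringKrullDim (Localization.Away g) ≤ FlatMor.localDim (PrimeSpectrum S) q := by
  obtain ⟨U, hqU, hU⟩ := Groth.Agent.Lib.TopKrullDim.exists_open_dim_eq_localDim q
  obtain ⟨_, ⟨g, rfl⟩, hqg, hgU⟩ :=
    PrimeSpectrum.isTopologicalBasis_basic_opens.exists_subset_of_mem_open hqU U.2
  refine ⟨g, hqg, ?_⟩
  rw [← hU]
  have hj : IsOpenEmbedding (PrimeSpectrum.comap (algebraMap S (Localization.Away g))) :=
    PrimeSpectrum.localization_away_isOpenEmbedding (Localization.Away g) g
  have hrange : Set.range (PrimeSpectrum.comap (algebraMap S (Localization.Away g))) =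
      PrimeSpectrum.basicOpen g :=
    PrimeSpectrum.localization_away_comap_range (Localization.Away g) g
  let κ : PrimeSpectrum (Localization.Away g) → ↥(U : Set (PrimeSpectrum S)) := fun Q =>
    ⟨PrimeSpectrum.comap (algebraMap S (Localization.Away g)) Q, hgU (by
      have : PrimeSpectrum.comap (algebraMap S (Localization.Away g)) Q ∈
          Set.range (PrimeSpectrum.comap (algebraMap S (Localization.Away g))) :=
        Set.mem_range_self Q
      rw [hrange] at this
      exact this)⟩
  have hκ : IsInducing κ :=
    IsInducing.of_comp (Continuous.subtype_mk hj.continuous _) continuous_subtype_val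
      hj.isInducing
  have := hκ.topologicalKrullDim_le
  rwa [PrimeSpectrum.topologicalKrullDim_eq_ringKrullDim] at this

end Groth.Agent.Lib.H56LocDim

namespace Groth.Agent.Lib.H56LocDim

/-- **Local dimension is invariant under extension of the base field** (Stacks 00P4-type): for `S`
of finite type over a field `k`, a field extension `K/k` and a prime `qK` of `K ⊗[k] S`, the local
dimension of `Spec (K ⊗[k] S)` at `qK` equals that of `Spec S` at the contraction of `qK`. -/
theorem localDim_tensor_field_eq (k S K : Type u) [Field k] [CommRing S] [Algebra k S]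
    [Algebra.FiniteType k S] [Field K] [Algebra k K] (qK : PrimeSpectrum (K ⊗[k] S)) :
    FlatMor.localDim (PrimeSpectrum (K ⊗[k] S)) qK =
      FlatMor.localDim (PrimeSpectrum S)
        (PrimeSpectrum.comap (Algebra.TensorProduct.includeRight.toRingHom : S →+* K ⊗[k] S)
          qK) := by
  obtain ⟨q, hq⟩ : ∃ q, q = PrimeSpectrum.comap
    (Algebra.TensorProduct.includeRight.toRingHom : S →+* K ⊗[k] S) qK := ⟨_, rfl⟩
  rw [← hq]
  apply le_antisymm
  · -- upper bound through a principal open
    obtain ⟨g, hg, hdim⟩ := exists_away_dim_le_localDim q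
    have hgK : ((1 : K) ⊗ₜ[k] g) ∉ qK.asIdeal := by
      intro h
      apply hg
      rw [hq]
      exact h
    refine (localDim_primeSpectrum_le_away qK _ hgK).trans (le_trans (le_of_eq ?_) hdim)
    have hm : (Submonoid.powers g).map (Algebra.TensorProduct.includeRight (R := k) (A := K)) =
        Submonoid.powers ((1 : K) ⊗ₜ[k] g) := Submonoid.map_powers _ g
    have hloc : IsLocalization ((Submonoid.powers g).map
        (Algebra.TensorProduct.includeRight (R := k) (A := K)))
        (Localization.Away ((1 : K) ⊗ₜ[k] g)) := by
      rw [hm]; infer_instance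
    let e := IsLocalization.tensorProductEquivOfMapIncludeRight k K (Submonoid.powers g)
      (Localization.Away g) (Localization.Away ((1 : K) ⊗ₜ[k] g))
    have hft : Algebra.FiniteType k (Localization.Away g) :=
      Algebra.FiniteType.trans (inferInstance : Algebra.FiniteType k S)
        (IsLocalization.finiteType_of_monoid_fg (Submonoid.powers g) (Localization.Away g))
    rw [← ringKrullDim_eq_of_ringEquiv e.toRingEquiv,
      Groth.Agent.Lib.H77DimFieldExt.ringKrullDim_tensor_field_eq k K (Localization.Away g)]
  · -- lower bound: the projection is open and generalizing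
    let e : S ⊗[k] K ≃ₐ[k] K ⊗[k] S := Algebra.TensorProduct.comm k S K
    have hcomp : (Algebra.TensorProduct.includeRight.toRingHom : S →+* K ⊗[k] S) =
        e.toAlgHom.toRingHom.comp (algebraMap S (S ⊗[k] K)) := by
      ext s
      simp [e, Algebra.TensorProduct.algebraMap_apply]
    let π₁ := PrimeSpectrum.comap (algebraMap S (S ⊗[k] K))
    let π₂ := PrimeSpectrum.comap e.toAlgHom.toRingHom
    have hπ : ∀ z, PrimeSpectrum.comap
        (Algebra.TensorProduct.includeRight.toRingHom : S →+* K ⊗[k] S) z = π₁ (π₂ z) := by
      intro z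
      rw [hcomp, PrimeSpectrum.comap_comp_apply]
    have h₂ : IsHomeomorph π₂ := PrimeSpectrum.isHomeomorph_comap_of_bijective e.bijective
    have h₁o : IsOpenMap π₁ :=
      PrimeSpectrum.isOpenMap_comap_algebraMap_tensorProduct_of_field
    have h₁g : GeneralizingMap π₁ :=
      Algebra.HasGoingDown.iff_generalizingMap_primeSpectrumComap.mp inferInstance
    rw [hq, hπ]
    have := localDim_le_of_isOpenMap_of_generalizingMap (π₁ ∘ π₂)
      ((PrimeSpectrum.continuous_comap _).comp h₂.continuous) (h₁o.comp h₂.isOpenMap)
      (h₂.isOpenEmbedding.generalizingMap.comp h₁g) qK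
    exact this

end Groth.Agent.Lib.H56LocDim
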