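/-
helper56: keystone FibDim: Stacks 00QE in `Localization.Away` form, and translation between
`fibLocDim` and the local dimension of `PrimeSpectrum (p.Fiber S)`.
-/
import Mathlib
import Groth.Prelude.Def_Flat
import Groth.Agent.Lib.H56LocDimRing

set_option autoImplicit false
universe u

open TopologicalSpace Topology TensorProduct

namespace Groth.Agent.Lib.H56LocDim

/-- `fibLocDim` in terms of the spectrum of the fibre ring. -/
theorem fibLocDim_eq_localDim_fiber {R S : Type*} [CommRing R] [CommRing S] [Algebra R S]
    (p : PrimeSpectrum R) (Q : PrimeSpectrum (p.asIdeal.Fiber S)) :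
    fibLocDim (PrimeSpectrum.comap (algebraMap R S))
        (PrimeSpectrum.comap (Algebra.TensorProduct.includeRight.toRingHom) Q) =
      FlatMor.localDim (PrimeSpectrum (p.asIdeal.Fiber S)) Q := by
  let hB := PrimeSpectrum.preimageHomeomorphFiber R S p
  have h1 : ((hB.symm Q).1 : PrimeSpectrum S) =
      PrimeSpectrum.comap (Algebra.TensorProduct.includeRight.toRingHom) Q := rfl
  have h2 : PrimeSpectrum.comap (algebraMap R S)
      (PrimeSpectrum.comap (Algebra.TensorProduct.includeRight.toRingHom) Q) = p := by
    rw [← h1]; exact (hB.symm Q).2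
  rw [← localDim_fibre_eq _ _ p h2]
  have h3 : (⟨PrimeSpectrum.comap
        (Algebra.TensorProduct.includeRight.toRingHom : S →+* p.asIdeal.Fiber S) Q, h2⟩ :
      ((PrimeSpectrum.comap (algebraMap R S)) ⁻¹' {p} : Set (PrimeSpectrum S))) = hB.symm Q :=
    Subtype.ext h1.symm
  rw [h3, localDim_eq_of_homeomorph hB (hB.symm Q), hB.apply_symm_apply]

/-- **Stacks 00QE**: if the fibre through `q` has local dimension `n` at `q`, some principal
localization `S_g`, `g ∉ q`, is quasi-finite (and of finite type) over `R[t_1, …, t_n]`. -/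
theorem exists_away_quasiFinite_mvPolynomial {R S : Type*} [CommRing R] [CommRing S]
    [Algebra R S] [Algebra.FiniteType R S] (q : PrimeSpectrum S) (n : ℕ)
    (h : fibLocDim (PrimeSpectrum.comap (algebraMap R S)) q = n) :
    ∃ g : S, g ∉ q.asIdeal ∧ ∃ φ : MvPolynomial (Fin n) R →ₐ[R] Localization.Away g,
      φ.toRingHom.FiniteType ∧ φ.toRingHom.QuasiFinite := by
  obtain ⟨g0, hg0, hdim⟩ := exists_away_dim_fiber_le q n h.le
  obtain ⟨p, hp⟩ : ∃ p, p = PrimeSpectrum.comap (algebraMap R S) q := ⟨_, rfl⟩
  rw [← hp] at hdim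
  have hftB : Algebra.FiniteType R (Localization.Away g0) :=
    Algebra.FiniteType.trans (inferInstance : Algebra.FiniteType R S)
      (IsLocalization.finiteType_of_monoid_fg (Submonoid.powers g0) (Localization.Away g0))
  have hj : IsOpenEmbedding (PrimeSpectrum.comap (algebraMap S (Localization.Away g0))) :=
    PrimeSpectrum.localization_away_isOpenEmbedding (Localization.Away g0) g0
  have hqr : q ∈ Set.range (PrimeSpectrum.comap (algebraMap S (Localization.Away g0))) := by
    rw [PrimeSpectrum.localization_away_comap_range (Localization.Away g0) g0]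
    exact hg0
  obtain ⟨Q0, hQ0⟩ := hqr
  have hQ0p : PrimeSpectrum.comap (algebraMap R (Localization.Away g0)) Q0 = p := by
    rw [hp, ← hQ0, ← PrimeSpectrum.comap_comp_apply, ← IsScalarTower.algebraMap_eq]
  have hnt : Nontrivial (p.asIdeal.Fiber (Localization.Away g0)) :=
    (PrimeSpectrum.preimageHomeomorphFiber R (Localization.Away g0) p ⟨Q0, hQ0p⟩).nontrivial
  obtain ⟨d, Ψ, hd, hfin⟩ := exists_algHom_fiber_finite (R := R) (B := Localization.Away g0)
    p.asIdeal
  -- `d = n`
  have hsq := fibLocDim_eq_of_square hj (i := id) Function.injective_id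
      (PrimeSpectrum.comap (algebraMap R (Localization.Away g0)))
      (PrimeSpectrum.comap (algebraMap R S)) (fun z => by
        simp only [id_eq]
        rw [← PrimeSpectrum.comap_comp_apply, ← IsScalarTower.algebraMap_eq]) Q0
  have hnd : (n : WithBot ℕ∞) ≤ d := by
    rw [← h, ← hQ0, ← hsq, ← hd]
    refine (fibLocDim_le_dim _ _).trans ?_
    rw [hQ0p, topologicalKrullDim_fibre_eq]
  have hdn : (d : WithBot ℕ∞) ≤ n := hd ▸ hdim
  have hdn' : d = n := by
    have h1 : d ≤ n := by exact_mod_cast hdn
    have h2 : n ≤ d := by exact_mod_cast hnd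
    omega
  subst hdn'
  let _ : Algebra (MvPolynomial (Fin d) R) (Localization.Away g0) := Ψ.toRingHom.toAlgebra
  have hst : IsScalarTower R (MvPolynomial (Fin d) R) (Localization.Away g0) :=
    IsScalarTower.of_algebraMap_eq (fun r => (Ψ.commutes r).symm)
  have hftP : Algebra.FiniteType (MvPolynomial (Fin d) R) (Localization.Away g0) :=
    Algebra.FiniteType.of_restrictScalars_finiteType R _ _
  have hΨ : IsScalarTower.toAlgHom R (MvPolynomial (Fin d) R) (Localization.Away g0) = Ψ := by
    ext x; rfl
  have hqf : Algebra.QuasiFiniteAt (MvPolynomial (Fin d) R) Q0.asIdeal :=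
    quasiFiniteAt_of_fiber_finite p.asIdeal (by rw [hΨ]; exact hfin) Q0 hQ0p
  obtain ⟨r, hr, hqfr⟩ := exists_away_quasiFinite (P := MvPolynomial (Fin d) R) Q0.asIdeal
  obtain ⟨k, a, hka⟩ := IsLocalization.Away.surj g0 r
  have hunit : IsUnit (algebraMap S (Localization.Away g0) g0 ^ k) :=
    IsLocalization.Away.algebraMap_pow_isUnit g0 k
  have hassoc : Associated (algebraMap S (Localization.Away g0) a) r := by
    refine Associated.symm ⟨hunit.unit, ?_⟩
    rw [IsUnit.unit_spec, hka]
  have haQ0 : algebraMap S (Localization.Away g0) a ∉ Q0.asIdeal := by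
    rw [← hka]
    intro hmem
    rcases Q0.2.mem_or_mem hmem with h1 | h1
    · exact hr h1
    · exact Q0.2.ne_top (Ideal.eq_top_of_isUnit_mem _ h1 hunit)
  have haq : a ∉ q.asIdeal := by
    rw [← hQ0]
    exact haQ0
  have hloc : IsLocalization.Away (g0 * a) (Localization.Away r) :=
    IsLocalization.Away.mul_of_associated g0 a r hassoc
  refine ⟨g0 * a, q.2.mul_notMem hg0 haq, ?_⟩
  let e : Localization.Away r ≃ₐ[S] Localization.Away (g0 * a) :=
    IsLocalization.algEquiv (Submonoid.powers (g0 * a)) _ _
  have hst' : IsScalarTower R (MvPolynomial (Fin d) R) (Localization.Away r) :=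
    IsScalarTower.of_algebraMap_eq (R := R) (S := MvPolynomial (Fin d) R)
      (A := Localization.Away r) (fun x => by
      rw [IsScalarTower.algebraMap_apply R (Localization.Away g0) (Localization.Away r) x,
        IsScalarTower.algebraMap_apply (MvPolynomial (Fin d) R) (Localization.Away g0)
          (Localization.Away r),
        ← IsScalarTower.algebraMap_apply R (MvPolynomial (Fin d) R) (Localization.Away g0)])
  have hftr : Algebra.FiniteType R (Localization.Away r) :=
    Algebra.FiniteType.trans hftB
      (IsLocalization.finiteType_of_monoid_fg (Submonoid.powers r) (Localization.Away r))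
  have hftPr : Algebra.FiniteType (MvPolynomial (Fin d) R) (Localization.Away r) :=
    Algebra.FiniteType.of_restrictScalars_finiteType R _ _
  let φ : MvPolynomial (Fin d) R →ₐ[R] Localization.Away (g0 * a) :=
    (e.restrictScalars R).toAlgHom.comp
      (IsScalarTower.toAlgHom R (MvPolynomial (Fin d) R) (Localization.Away r))
  have hφ : φ.toRingHom = e.toRingEquiv.toRingHom.comp
      (algebraMap (MvPolynomial (Fin d) R) (Localization.Away r)) := rfl
  refine ⟨φ, ?_, ?_⟩
  · rw [hφ]
    exact RingHom.FiniteType.comp (RingHom.FiniteType.of_surjective _ e.surjective)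
      (RingHom.finiteType_algebraMap.mpr hftPr)
  · rw [hφ]
    exact RingHom.QuasiFinite.comp
      (RingHom.QuasiFinite.of_finite (RingHom.Finite.of_surjective _ e.surjective))
      (RingHom.quasiFinite_algebraMap.mpr hqfr)

end Groth.Agent.Lib.H56LocDim
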