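/-
helper79: BASE CHANGE INVARIANCE of the local dimension of fibres, ring level (Stacks 02FY), on top
of helper56's FibDim keystone (`fibLocDim`), and quasi-compactness of the Chevalley opens
`{q | fibLocDim q ≤ n}` for finitely presented ring maps (Noetherian approximation).
-/
import Mathlib
import Groth.Prelude.Def_Flat
import Groth.Agent.Lib.H56LocDimRing2
import Groth.Agent.Lib.H56LocDimBC
open TensorProduct Groth.Agent.Lib.H56LocDim
universe u
set_option linter.style.haveILetI false
namespace Groth.Agent.Lib.H79FibLocDimBC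

variable {R S R' : Type u} [CommRing R] [CommRing S] [Algebra R S] [Algebra.FiniteType R S]
  [CommRing R'] [Algebra R R']

omit [Algebra.FiniteType R S] in
theorem comap_includeRight_injective (p : Ideal R) [p.IsPrime] :
    Function.Injective (PrimeSpectrum.comap
      (Algebra.TensorProduct.includeRight.toRingHom : S →+* p.Fiber S)) := by
  intro Q₁ Q₂ h
  have := (PrimeSpectrum.preimageEquivFiber R S ⟨p, inferInstance⟩).symm.injective
    (a₁ := Q₁) (a₂ := Q₂) (Subtype.ext h)
  exact this

theorem localDim_fiber_baseChange (p : Ideal R) [p.IsPrime] (p' : Ideal R') [p'.IsPrime]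
    (hp : p = p'.comap (algebraMap R R'))
    (Q' : PrimeSpectrum (p'.Fiber (R' ⊗[R] S))) (Q : PrimeSpectrum (p.Fiber S))
    (hQ : PrimeSpectrum.comap (Algebra.TensorProduct.includeRight.toRingHom : S →+* p.Fiber S) Q =
      PrimeSpectrum.comap (Algebra.TensorProduct.includeRight.toRingHom : S →+* R' ⊗[R] S)
        (PrimeSpectrum.comap
          (Algebra.TensorProduct.includeRight.toRingHom : R' ⊗[R] S →+* p'.Fiber (R' ⊗[R] S)) Q')) :
    FlatMor.localDim (PrimeSpectrum (p'.Fiber (R' ⊗[R] S))) Q' =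
      FlatMor.localDim (PrimeSpectrum (p.Fiber S)) Q := by
  let k := p.ResidueField
  let K := p'.ResidueField
  let φ : k →+* K := Ideal.ResidueField.map p p' (algebraMap R R') hp
  letI : Algebra k K := φ.toAlgebra
  haveI : IsScalarTower R k K := IsScalarTower.of_algebraMap_eq' (by
    ext r
    simp only [RingHom.comp_apply]
    change _ = φ (algebraMap R k r)
    rw [Ideal.ResidueField.map_algebraMap]
    rw [← IsScalarTower.algebraMap_apply])
  let Φ₁ := Algebra.TensorProduct.cancelBaseChange R R' R' K S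
  let Φ₂ := Algebra.TensorProduct.cancelBaseChange R k k K S
  let Ψ := Φ₁.toRingEquiv.trans Φ₂.symm.toRingEquiv
  let e := PrimeSpectrum.homeomorphOfRingEquiv Ψ
  rw [localDim_eq_of_homeomorph e Q', localDim_tensor_field_eq k (p.Fiber S) K (e Q')]
  congr 1
  refine comap_includeRight_injective (S := S) p (Eq.trans ?_ hQ.symm)
  have hring : ((Ψ.symm : K ⊗[k] (p.Fiber S) →+* p'.Fiber (R' ⊗[R] S)).comp
      (Algebra.TensorProduct.includeRight.toRingHom : p.Fiber S →+* K ⊗[k] p.Fiber S)).comp
      (Algebra.TensorProduct.includeRight.toRingHom : S →+* p.Fiber S) =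
      (Algebra.TensorProduct.includeRight.toRingHom : R' ⊗[R] S →+* p'.Fiber (R' ⊗[R] S)).comp
      (Algebra.TensorProduct.includeRight.toRingHom : S →+* R' ⊗[R] S) := by
    ext s
    change Φ₁.symm (Φ₂ ((1 : K) ⊗ₜ[k] ((1 : k) ⊗ₜ[R] s))) = (1 : K) ⊗ₜ[R'] ((1 : R') ⊗ₜ[R] s)
    rw [Algebra.TensorProduct.cancelBaseChange_tmul, one_smul,
      Algebra.TensorProduct.cancelBaseChange_symm_tmul]
  calc _ = PrimeSpectrum.comap (((Ψ.symm : K ⊗[k] (p.Fiber S) →+* p'.Fiber (R' ⊗[R] S)).comp
      (Algebra.TensorProduct.includeRight.toRingHom : p.Fiber S →+* K ⊗[k] p.Fiber S)).comp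
      (Algebra.TensorProduct.includeRight.toRingHom : S →+* p.Fiber S)) Q' := rfl
    _ = _ := by rw [hring]; rfl

/-- **Base change invariance of the local dimension of fibres, ring level** (Stacks 02FY):
for `R → S` of finite type, any `R → R'`, and a prime `q'` of `R' ⊗[R] S`, the local dimension at
`q'` of its fibre over `Spec R'` equals the local dimension at `q' ∩ S` of its fibre over
`Spec R`. -/
theorem fibLocDim_baseChange (q' : PrimeSpectrum (R' ⊗[R] S)) :
    fibLocDim (PrimeSpectrum.comap (algebraMap R' (R' ⊗[R] S))) q' =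
      fibLocDim (PrimeSpectrum.comap (algebraMap R S))
        (PrimeSpectrum.comap
          (Algebra.TensorProduct.includeRight.toRingHom : S →+* R' ⊗[R] S) q') := by
  obtain ⟨p', hp'⟩ : ∃ p', p' = PrimeSpectrum.comap (algebraMap R' (R' ⊗[R] S)) q' := ⟨_, rfl⟩
  obtain ⟨q, hq⟩ : ∃ q, q = PrimeSpectrum.comap
    (Algebra.TensorProduct.includeRight.toRingHom : S →+* R' ⊗[R] S) q' := ⟨_, rfl⟩
  obtain ⟨p, hp⟩ : ∃ p, p = PrimeSpectrum.comap (algebraMap R S) q := ⟨_, rfl⟩
  rw [← hq]
  have hpp : p.asIdeal = p'.asIdeal.comap (algebraMap R R') := by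
    rw [hp, hq, hp']
    ext r
    simp only [PrimeSpectrum.comap_asIdeal, Ideal.mem_comap, AlgHom.toRingHom_eq_coe,
      RingHom.coe_coe, Algebra.TensorProduct.includeRight_apply]
    rw [Algebra.TensorProduct.algebraMap_apply, Algebra.algebraMap_self, RingHom.id_apply,
      Algebra.algebraMap_eq_smul_one, Algebra.algebraMap_eq_smul_one, ← TensorProduct.smul_tmul]
  let Q' := PrimeSpectrum.preimageEquivFiber R' (R' ⊗[R] S) p' ⟨q', hp'.symm⟩
  have hQ' : PrimeSpectrum.comap (Algebra.TensorProduct.includeRight.toRingHom :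
      R' ⊗[R] S →+* p'.asIdeal.Fiber (R' ⊗[R] S)) Q' = q' :=
    congrArg Subtype.val ((PrimeSpectrum.preimageEquivFiber R' (R' ⊗[R] S) p').symm_apply_apply
      ⟨q', hp'.symm⟩)
  let Q := PrimeSpectrum.preimageEquivFiber R S p ⟨q, hp.symm⟩
  have hQ : PrimeSpectrum.comap (Algebra.TensorProduct.includeRight.toRingHom :
      S →+* p.asIdeal.Fiber S) Q = q :=
    congrArg Subtype.val ((PrimeSpectrum.preimageEquivFiber R S p).symm_apply_apply
      ⟨q, hp.symm⟩)
  have h1 := fibLocDim_eq_localDim_fiber p' Q'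
  rw [hQ'] at h1
  have h2 := fibLocDim_eq_localDim_fiber p Q
  rw [hQ] at h2
  rw [h1, h2]
  exact localDim_fiber_baseChange p.asIdeal p'.asIdeal hpp Q' Q (by rw [hQ, hQ', hq])

omit [Algebra.FiniteType R S] in
/-- `fibLocDim` is invariant under isomorphisms of `R`-algebras. -/
theorem fibLocDim_algEquiv {A B : Type*} [CommRing A] [CommRing B] [Algebra R A] [Algebra R B]
    (e : A ≃ₐ[R] B) (q : PrimeSpectrum B) :
    fibLocDim (PrimeSpectrum.comap (algebraMap R B)) q =
      fibLocDim (PrimeSpectrum.comap (algebraMap R A))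
        (PrimeSpectrum.comap (e : A →+* B) q) := by
  have hj : Topology.IsOpenEmbedding (PrimeSpectrum.comap (e : A →+* B)) :=
    (PrimeSpectrum.homeomorphOfRingEquiv e.symm.toRingEquiv).isOpenEmbedding
  refine fibLocDim_eq_of_square hj (i := id) Function.injective_id _ _ (fun x => ?_) q
  rw [← PrimeSpectrum.comap_comp_apply]
  congr 1
  ext r
  simp

omit [Algebra.FiniteType R S] [Algebra R S] [Algebra R R'] in
/-- Preimages of quasi-compact opens under `Spec` of a ring map are quasi-compact open. -/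
theorem isCompact_isOpen_preimage_comap {A B : Type*} [CommRing A] [CommRing B] (f : A →+* B)
    {s : Set (PrimeSpectrum A)} (hs : IsCompact s ∧ IsOpen s) :
    IsCompact (PrimeSpectrum.comap f ⁻¹' s) ∧ IsOpen (PrimeSpectrum.comap f ⁻¹' s) := by
  classical
  obtain ⟨t, rfl⟩ := PrimeSpectrum.isCompact_isOpen_iff.1 hs
  refine PrimeSpectrum.isCompact_isOpen_iff.2 ⟨t.image f, ?_⟩
  rw [Set.preimage_compl, PrimeSpectrum.preimage_comap_zeroLocus, Finset.coe_image]

/-- **Chevalley opens are quasi-compact for finitely presented ring maps** (Stacks 05F9 /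
EGA IV 13.1.3 + 9): for `R → S` of finite presentation the set of primes `q` of `S` at which the
fibre has local dimension `≤ n` is quasi-compact and open. -/
theorem isCompact_isOpen_fibLocDim_le (R S : Type u) [CommRing R] [CommRing S] [Algebra R S]
    [Algebra.FinitePresentation R S] (n : ℕ) :
    IsCompact {q : PrimeSpectrum S |
        fibLocDim (PrimeSpectrum.comap (algebraMap R S)) q ≤ (n : WithBot ℕ∞)} ∧
      IsOpen {q : PrimeSpectrum S |
        fibLocDim (PrimeSpectrum.comap (algebraMap R S)) q ≤ (n : WithBot ℕ∞)} := by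
  classical
  let P := Algebra.Presentation.ofFinitePresentation R S
  let R₀ := P.Core
  let S₀ := P.ModelOfHasCoeffs R₀
  let e := P.tensorModelOfHasCoeffsEquiv R₀
  haveI : IsNoetherianRing R₀ := Algebra.FiniteType.isNoetherianRing ℤ R₀
  haveI : Algebra.FiniteType R₀ S₀ := inferInstance
  haveI : IsNoetherianRing S₀ := Algebra.FiniteType.isNoetherianRing R₀ S₀
  let U₀ : Set (PrimeSpectrum S₀) :=
    {q₀ | fibLocDim (PrimeSpectrum.comap (algebraMap R₀ S₀)) q₀ ≤ (n : WithBot ℕ∞)}
  have hU₀ : IsCompact U₀ ∧ IsOpen U₀ :=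
    ⟨TopologicalSpace.NoetherianSpace.isCompact _, isOpen_fibLocDim_le n⟩
  let f : S₀ →+* S := (e : R ⊗[R₀] S₀ →+* S).comp
    (Algebra.TensorProduct.includeRight.toRingHom : S₀ →+* R ⊗[R₀] S₀)
  have hset : {q : PrimeSpectrum S |
      fibLocDim (PrimeSpectrum.comap (algebraMap R S)) q ≤ (n : WithBot ℕ∞)} =
      PrimeSpectrum.comap f ⁻¹' U₀ := by
    ext q
    simp only [Set.mem_ofPred_eq, Set.mem_preimage, U₀]
    rw [fibLocDim_algEquiv (A := R ⊗[R₀] S₀) e q, fibLocDim_baseChange (R := R₀) (S := S₀) (R' := R),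
      ← PrimeSpectrum.comap_comp_apply]
    rfl
  rw [hset]
  exact isCompact_isOpen_preimage_comap f hU₀

end Groth.Agent.Lib.H79FibLocDimBC
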