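import Mathlib
import Groth.Agent.Lib.H79FlatGenDimSch
import Groth.Agent.Lib.H56ConsNhds
import Groth.Agent.S9355

/-!
helper79: for `f` flat, locally of finite presentation and quasi-compact, `{s | c < dim X_s}` is open
(lower semicontinuity of the fibre dimension on the base).
-/

set_option autoImplicit false
universe u

namespace Groth.Agent.Lib.H79FlatGenDimOpen

open AlgebraicGeometry CategoryTheory Limits Topology
open Groth.Agent.Lib.H30DimRel Groth.Agent.Lib.H30IrrFib Groth.Agent.Lib.H79FlatGenDimSch
  Groth.Agent.Lib.H56LocDim Groth.Agent.Lib.H56ConsNhds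

variable {X S : Scheme.{u}}

theorem lt_iff_succ_le (a : WithBot ℕ∞) (n : ℕ) :
    (n : WithBot ℕ∞) < a ↔ ((n + 1 : ℕ) : WithBot ℕ∞) ≤ a := by
  induction a using WithBot.recBotCoe with
  | bot => simp
  | coe a =>
    induction a using ENat.recTopCoe with
    | top =>
      constructor
      · intro _; exact le_top
      · intro _
        exact_mod_cast (WithBot.coe_lt_coe.2 (ENat.natCast_lt_top n))
    | coe m =>
      constructor
      · intro h
        have : n < m := by exact_mod_cast h
        exact_mod_cast Nat.succ_le_of_lt this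
      · intro h
        have : n + 1 ≤ m := by exact_mod_cast h
        exact_mod_cast Nat.lt_of_succ_le this

/-- the set of points of the base whose fibre has dimension `≥ n + 1` is the image of the closed
set `{x | n + 1 ≤ dim_x X_{f x}}`. -/
theorem setOf_lt_dim_fiber_eq_image (f : X ⟶ S) (n : ℕ) :
    {s : S | (n : WithBot ℕ∞) < topologicalKrullDim (f.fiber s)} =
      f '' {x : X | FlatMor.fibreDimAt f x ≤ (n : WithBot ℕ∞)}ᶜ := by
  ext s
  simp only [Set.mem_ofPred_eq, Set.mem_image, Set.mem_compl_iff, not_le]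
  rw [lt_iff_succ_le, le_dim_fiber_iff]
  constructor
  · rintro ⟨x, hx, h⟩
    exact ⟨x, (lt_iff_succ_le _ _).2 h, hx⟩
  · rintro ⟨x, h, hx⟩
    exact ⟨x, hx, (lt_iff_succ_le _ _).1 h⟩

theorem isOpen_setOf_lt_dim_fiber (f : X ⟶ S) [Flat f] [LocallyOfFinitePresentation f]
    [QuasiCompact f] (n : ℕ) :
    IsOpen {s : S | (n : WithBot ℕ∞) < topologicalKrullDim (f.fiber s)} := by
  rw [isOpen_iff_mem_nhds]
  intro s hs
  have hcons : IsLocallyConstructible
      {s : S | (n : WithBot ℕ∞) < topologicalKrullDim (f.fiber s)} := by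
    rw [setOf_lt_dim_fiber_eq_image]
    apply f.isLocallyConstructible_image
    have hopen : IsOpen {x : X | FlatMor.fibreDimAt f x ≤ (n : WithBot ℕ∞)} :=
      Groth.Agent.S0402.result f n
    have hretro : IsRetrocompact {x : X | FlatMor.fibreDimAt f x ≤ (n : WithBot ℕ∞)} :=
      Groth.Agent.S9355.result f n
    exact (hretro.isConstructible hopen).compl.isLocallyConstructible
  refine mem_nhds_of_isLocallyConstructible S hcons s ?_
  intro s' hs'
  -- a fibre-maximal point over `s` with large transcendence degree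
  have hs2 : ((n + 1 : ℕ) : WithBot ℕ∞) ≤ topologicalKrullDim (f.fiber s) :=
    (lt_iff_succ_le _ _).1 hs
  obtain ⟨x, hxs, hx⟩ := (le_dim_fiber_iff f s (n + 1)).1 hs2
  obtain ⟨w, hw1, hw2, -, hw⟩ := exists_rt_eq_fibreDimAt f x
  have hfw : f w = s := hw1.trans hxs
  obtain ⟨w', hw'w, hfw'⟩ : ∃ w' : X, w' ⤳ w ∧ f w' = s' := by
    obtain ⟨w', h1, h2⟩ := (Flat.generalizingMap f) (show s' ⤳ f w by rw [hfw]; exact hs')
    exact ⟨w', h1, h2⟩
  have h3 := rt_le_fibreDimAt_of_specializes f w w' hw'w
  rw [hw] at h3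
  change (n : WithBot ℕ∞) < topologicalKrullDim (f.fiber s')
  rw [lt_iff_succ_le, le_dim_fiber_iff]
  exact ⟨w', hfw', hx.trans h3⟩

/-- **S0404** -/
theorem isOpen_setOf_lt_dim_fiber' (f : X ⟶ S) [Flat f] [LocallyOfFinitePresentation f]
    [QuasiCompact f] (c : WithBot ℕ∞) :
    IsOpen {s : S | c < topologicalKrullDim (f.fiber s)} := by
  induction c using WithBot.recBotCoe with
  | bot =>
    have : {s : S | (⊥ : WithBot ℕ∞) < topologicalKrullDim (f.fiber s)} = Set.range f := by
      ext s
      have h0 : (⊥ : WithBot ℕ∞) < topologicalKrullDim (f.fiber s) ↔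
          ((0 : ℕ) : WithBot ℕ∞) ≤ topologicalKrullDim (f.fiber s) := by
        generalize topologicalKrullDim (f.fiber s) = a
        induction a using WithBot.recBotCoe with
        | bot => simp
        | coe a =>
          simp only [WithBot.bot_lt_coe, true_iff]
          exact_mod_cast (zero_le (a := a))
      simp only [Set.mem_ofPred_eq, Set.mem_range]
      rw [h0, le_dim_fiber_iff]
      constructor
      · rintro ⟨x, hx, -⟩
        exact ⟨x, hx⟩
      · rintro ⟨x, hx⟩
        exact ⟨x, hx, by exact_mod_cast fibreDimAt_nonneg f x⟩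
    rw [this]
    exact f.isOpenMap.isOpen_range
  | coe a =>
    induction a using ENat.recTopCoe with
    | top =>
      have : {s : S | ((⊤ : ℕ∞) : WithBot ℕ∞) < topologicalKrullDim (f.fiber s)} = ∅ := by
        ext s
        simp only [Set.mem_ofPred_eq, Set.mem_empty_iff_false, iff_false, not_lt]
        exact le_top
      rw [this]
      exact isOpen_empty
    | coe n => exact isOpen_setOf_lt_dim_fiber f n

end Groth.Agent.Lib.H79FlatGenDimOpen
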