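import Mathlib
import Groth.Agent.Lib.H79FlatGenDimSch
import Groth.Agent.Lib.FlatModel64
import Groth.Agent.Lib.H30FibBC
import Groth.Agent.Lib.H56LocDimSch
import Groth.Agent.Lib.H56ConsNhds
import Groth.Agent.Lib.H79FlatGenDimOpen

/-!
helper79: for `f` flat and locally of finite presentation the local fibre dimension is locally
constant near every point which is maximal (for generization) in its fibre.

* `isConstructible_fibreDimAt_le_Spec`: for `φ : A ⟶ B` flat of finite presentation the set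
  `{q | fibreDimAt (Spec.map φ) q ≤ n}` is constructible in `Spec B` (Noetherian model).
* `isConstructible_fromSpec_preimage`: the same on an affine chart of an arbitrary flat lfp `f`.
* `setOf_fibreDimAt_eq_mem_nhds`: `{x | fibreDimAt f x = fibreDimAt f ξ} ∈ 𝓝 ξ` for `ξ` maximal in
  its fibre.
-/

set_option autoImplicit false
universe u

namespace Groth.Agent.Lib.H79FibDimStrata

open AlgebraicGeometry CategoryTheory Topology
open Groth.Agent.Lib.H56LocDim Groth.Agent.Lib.H56ConsNhds
open Groth.Agent.Lib.H30DimRel Groth.Agent.Lib.H30IrrFib Groth.Agent.Lib.H79FlatGenDimSch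

/-- For `φ : A ⟶ B` flat of finite presentation, the locus of `Spec B` where the local fibre
dimension of `Spec B ⟶ Spec A` is at most `n` is constructible. -/
theorem isConstructible_fibreDimAt_le_Spec {A B : CommRingCat.{u}} (φ : A ⟶ B)
    (hfp : φ.hom.FinitePresentation) (hfl : φ.hom.Flat) (n : ℕ) :
    IsConstructible {q : Spec B | FlatMor.fibreDimAt (Spec.map φ) q ≤ n} := by
  letI : Algebra A B := φ.hom.toAlgebra
  haveI : Algebra.FinitePresentation A B := hfp
  haveI : Module.Flat A B := hfl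
  obtain ⟨A₀, B₀, _, _, φ₀, a, b, hpo, hft, hφft, hφfl⟩ :=
    Groth.Agent.Lib.FlatModel64.exists_model_flat A B
  have hpo' : IsPushout (CommRingCat.ofHom a) (CommRingCat.ofHom φ₀) φ (CommRingCat.ofHom b) :=
    hpo
  have hpb := isPullback_SpecMap_of_isPushout _ _ _ _ hpo'.flip
  haveI : IsNoetherianRing A₀ := Algebra.FiniteType.isNoetherianRing ℤ A₀
  haveI : IsNoetherianRing B₀ := by
    letI : Algebra A₀ B₀ := φ₀.toAlgebra
    haveI : Algebra.FiniteType A₀ B₀ := hφft
    exact Algebra.FiniteType.isNoetherianRing A₀ B₀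
  haveI : LocallyOfFiniteType (Spec.map (CommRingCat.ofHom φ₀)) := by
    rw [HasRingHomProperty.Spec_iff (P := @LocallyOfFiniteType)]
    exact hφft
  have hopen := Groth.Agent.S0402.result (Spec.map (CommRingCat.ofHom φ₀)) n
  have hcons : IsConstructible
      {q : Spec (CommRingCat.of B₀) |
        FlatMor.fibreDimAt (Spec.map (CommRingCat.ofHom φ₀)) q ≤ n} := by
    refine IsRetrocompact.isConstructible hopen ?_
    intro U _ _
    exact TopologicalSpace.NoetherianSpace.isCompact _
  have hpre := (Spec.map (CommRingCat.ofHom b)).isConstructible_preimage hcons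
  have heq : {q : Spec B | FlatMor.fibreDimAt (Spec.map φ) q ≤ n} =
      (Spec.map (CommRingCat.ofHom b)) ⁻¹' {q : Spec (CommRingCat.of B₀) |
        FlatMor.fibreDimAt (Spec.map (CommRingCat.ofHom φ₀)) q ≤ n} := by
    ext q
    simp only [Set.mem_ofPred_eq, Set.mem_preimage]
    rw [Groth.Agent.Lib.H30FibBC.fibreDimAt_eq_of_isPullback _ _ _ _ hpb q]
  rw [heq]
  exact hpre

variable {X S : Scheme.{u}}

/-- on an affine chart the local fibre dimension of `f` is that of `Spec.map (f.appLE V U e)`. -/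
theorem fibreDimAt_fromSpec_eq (f : X ⟶ S) {U : X.Opens} {V : S.Opens}
    (hU : IsAffineOpen U) (hV : IsAffineOpen V) (e : U ≤ f ⁻¹ᵁ V)
    (q : Spec Γ(X, U)) :
    FlatMor.fibreDimAt f (hU.fromSpec q) = FlatMor.fibreDimAt (Spec.map (f.appLE V U e)) q := by
  rw [fibreDimAt_fromSpec f hU hV e q, fibreDimAt_eq_fibLocDim]
  rfl

/-- constructibility of the locus `fibreDimAt ≤ n` on an affine chart. -/
theorem isConstructible_fromSpec_preimage (f : X ⟶ S) [Flat f] [LocallyOfFinitePresentation f]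
    {U : X.Opens} {V : S.Opens} (hU : IsAffineOpen U) (hV : IsAffineOpen V) (e : U ≤ f ⁻¹ᵁ V)
    (n : ℕ) :
    IsConstructible (hU.fromSpec ⁻¹' {x : X | FlatMor.fibreDimAt f x ≤ n}) := by
  have hfp : (f.appLE V U e).hom.FinitePresentation :=
    HasRingHomProperty.appLE (P := @LocallyOfFinitePresentation) f inferInstance ⟨V, hV⟩ ⟨U, hU⟩ e
  have hfl : (f.appLE V U e).hom.Flat :=
    HasRingHomProperty.appLE (P := @Flat) f inferInstance ⟨V, hV⟩ ⟨U, hU⟩ e
  have heq : hU.fromSpec ⁻¹' {x : X | FlatMor.fibreDimAt f x ≤ n} =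
      {q : Spec Γ(X, U) | FlatMor.fibreDimAt (Spec.map (f.appLE V U e)) q ≤ n} := by
    ext q
    simp only [Set.mem_preimage, Set.mem_ofPred_eq]
    rw [fibreDimAt_fromSpec_eq f hU hV e q]
  rw [heq]
  exact isConstructible_fibreDimAt_le_Spec (f.appLE V U e) hfp hfl n

/-- **Local constancy of the fibre dimension at maximal points of fibres** (`f` flat lfp). -/
theorem setOf_fibreDimAt_eq_mem_nhds (f : X ⟶ S) [Flat f] [LocallyOfFinitePresentation f]
    (ξ : X) (hmax : ∀ z : X, f z = f ξ → z ⤳ ξ → z = ξ) :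
    {x : X | FlatMor.fibreDimAt f x = FlatMor.fibreDimAt f ξ} ∈ 𝓝 ξ := by
  -- the value is a natural number
  obtain ⟨w, hw1, hw2, -, hw⟩ := exists_rt_eq_fibreDimAt f ξ
  rw [hmax w hw1 hw2] at hw
  generalize rt f ξ = d at hw
  -- the set `fibreDimAt ≤ d` is an open neighbourhood
  have hle : {x : X | FlatMor.fibreDimAt f x ≤ d} ∈ 𝓝 ξ :=
    (Groth.Agent.S0402.result f d).mem_nhds hw.symm.le
  -- the set `d ≤ fibreDimAt` is a neighbourhood
  have hge : {x : X | (d : WithBot ℕ∞) ≤ FlatMor.fibreDimAt f x} ∈ 𝓝 ξ := by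
    cases d with
    | zero =>
      refine Filter.univ_mem' fun x => ?_
      exact Groth.Agent.Lib.H56LocDim.fibreDimAt_nonneg f x
    | succ m =>
      obtain ⟨V, hV, hfξV⟩ : ∃ V : S.Opens, IsAffineOpen V ∧ f ξ ∈ V := by
        obtain ⟨_, ⟨V, hV, rfl⟩, hxV, -⟩ := S.isBasis_affineOpens.exists_subset_of_mem_open
          (Set.mem_univ (f ξ)) isOpen_univ
        exact ⟨V, hV, hxV⟩
      obtain ⟨U, hU, hξU, hUV⟩ : ∃ U : X.Opens, IsAffineOpen U ∧ ξ ∈ U ∧ U ≤ f ⁻¹ᵁ V := by
        obtain ⟨_, ⟨U, hU, rfl⟩, hxU, hUle⟩ := X.isBasis_affineOpens.exists_subset_of_mem_open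
          (show ξ ∈ ((f ⁻¹ᵁ V : X.Opens) : Set X) from hfξV) (f ⁻¹ᵁ V).isOpen
        exact ⟨U, hU, hxU, hUle⟩
      have hξr : ξ ∈ Set.range hU.fromSpec := by rw [hU.range_fromSpec]; exact hξU
      obtain ⟨p, hp⟩ := hξr
      have hC := (isConstructible_fromSpec_preimage f hU hV hUV m).compl
      have hn : (hU.fromSpec ⁻¹' {x : X | FlatMor.fibreDimAt f x ≤ m})ᶜ ∈ 𝓝 p := by
        refine mem_nhds_of_isConstructible hC p ?_
        intro η hη
        have hsp : hU.fromSpec η ⤳ ξ := by
          rw [← hp]; exact hη.map hU.fromSpec.continuous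
        have := fibreDimAt_eq_of_specializes_of_maximal f ξ (hU.fromSpec η) hsp hmax
        change ¬ (FlatMor.fibreDimAt f (hU.fromSpec η) ≤ (m : WithBot ℕ∞))
        rw [this, ← hw, not_le]
        exact_mod_cast Nat.lt_succ_self m
      have himg := hU.fromSpec.isOpenEmbedding.image_mem_nhds.mpr hn
      rw [hp] at himg
      refine Filter.mem_of_superset himg ?_
      rintro _ ⟨q, hq, rfl⟩
      simp only [Set.mem_compl_iff, Set.mem_preimage, Set.mem_ofPred_eq, not_le] at hq
      simp only [Set.mem_ofPred_eq]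
      exact (Groth.Agent.Lib.H79FlatGenDimOpen.lt_iff_succ_le _ m).mp hq
  filter_upwards [hle, hge] with x h1 h2
  rw [← hw]
  exact le_antisymm h1 h2

end Groth.Agent.Lib.H79FibDimStrata
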