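/-
Realizing a specialization `x' ⤳ x` in a scheme by a valuation ring of the residue field of `x'`
(helper12), and consequences for the valuative lifting property `HTop.HasValLift`.
-/
import Groth.Prelude.Def_HTop
import Mathlib.AlgebraicGeometry.ValuativeCriterion
import Mathlib.AlgebraicGeometry.Morphisms.UniversallyOpen
import Mathlib.AlgebraicGeometry.PullbackCarrier

set_option autoImplicit false
universe w u
open CategoryTheory CategoryTheory.Limits AlgebraicGeometry IsLocalRing

namespace Groth.Agent.Lib.ValSpecialize

/-- A specialization `x' ⤳ x` in a scheme is realized by a valuation subring `A` of `κ(x')`: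
there is `l : Spec A ⟶ X` sending the closed point to `x`, whose restriction to `Spec κ(x')` is
the canonical point `x'`. -/
theorem exists_valuationSubring_of_specializes {X : Scheme.{u}} {x' x : X} (h : x' ⤳ x) :
    ∃ (A : ValuationSubring (X.residueField x')) (l : Spec (CommRingCat.of A) ⟶ X),
      l (closedPoint A) = x ∧
      Spec.map (CommRingCat.ofHom (algebraMap A (X.residueField x'))) ≫ l =
        X.fromSpecResidueField x' := by
  let ρ : X.presheaf.stalk x ⟶ X.residueField x' :=
    X.presheaf.stalkSpecializes h ≫ X.residue x'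
  obtain ⟨A, hA, hA_local⟩ := exists_factor_valuationRing ρ.hom
  let ρA : X.presheaf.stalk x ⟶ CommRingCat.of A :=
    CommRingCat.ofHom (ρ.hom.codRestrict _ hA)
  refine ⟨A, Spec.map ρA ≫ X.fromSpecStalk x, ?_, ?_⟩
  · rw [Scheme.Hom.comp_apply]
    have : Spec.map ρA (closedPoint A) = closedPoint (X.presheaf.stalk x) :=
      comap_closedPoint (S := A) (ρ.hom.codRestrict A.toSubring hA)
    rw [this, Scheme.fromSpecStalk_closedPoint]
  · rw [Scheme.fromSpecResidueField, ← Scheme.SpecMap_stalkSpecializes_fromSpecStalk h,
      ← Spec.map_comp_assoc, ← Spec.map_comp_assoc]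
    rfl

open HTop

/-- the generic point of the spectrum of a domain specializes to every point -/
theorem bot_specializes {R : Type u} [CommRing R] [IsDomain R] (x : PrimeSpectrum R) :
    (⟨⊥, Ideal.isPrime_bot⟩ : PrimeSpectrum R) ⤳ x := by
  rw [← PrimeSpectrum.le_iff_specializes]
  exact bot_le (a := x.asIdeal)

/-- If `ψ : Spec A ⟶ Spec V` (with `A` a valuation subring of a field `K`) sends the closed point
to the closed point and the generic point to the generic point then it comes from an extension of
valuation rings. -/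
theorem isExtVal_of_points (V : CommRingCat.{u}) [IsDomain V] [ValuationRing V]
    {K : Type u} [Field K] (A : ValuationSubring K)
    (φ : V ⟶ CommRingCat.of A)
    (hc : Spec.map φ (closedPoint A) = closedPoint V)
    (hg : Spec.map φ ⟨⊥, Ideal.isPrime_bot⟩ = ⟨⊥, Ideal.isPrime_bot⟩) :
    IsExtVal V (CommRingCat.of A) φ := by
  refine ⟨?_, ?_⟩
  · rw [RingHom.injective_iff_ker_eq_bot]
    have := congrArg PrimeSpectrum.asIdeal hg
    simpa [Spec.map_apply, RingHom.ker] using this
  · refine ((local_hom_TFAE φ.hom).out 4 0).mp ?_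
    have := congrArg PrimeSpectrum.asIdeal hc
    simpa [Spec.map_apply, closedPoint] using this

/-- A family with a flat member covering the image of the closed point: valuative lifting along a
flat family. Precisely, if `g : Spec V ⟶ T` and `f : Y ⟶ T` is flat with `g (closedPoint) ∈ range f`
then `g` lifts to `Y` after an extension of valuation rings. -/
theorem exists_lift_of_flat {T Y : Scheme.{u}} (f : Y ⟶ T) [Flat f]
    (V : CommRingCat.{u}) [IsDomain V] [ValuationRing V] (g : Spec V ⟶ T)
    (hmem : g (closedPoint V) ∈ Set.range f) :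
    ∃ (W : CommRingCat.{u}) (_ : IsDomain W) (_ : ValuationRing W) (φ : V ⟶ W),
      IsExtVal V W φ ∧ ∃ (g' : Spec W ⟶ Y), g' ≫ f = Spec.map φ ≫ g := by
  obtain ⟨y, hy⟩ := hmem
  obtain ⟨z, hz1, hz2⟩ :=
    Scheme.Pullback.exists_preimage_pullback (f := g) (g := f) (closedPoint V) y hy.symm
  -- generalize along the flat base change
  have hflat : Flat (pullback.fst g f) := inferInstance
  have hgen := Flat.generalizingMap (pullback.fst g f)
  let η : Spec V := ⟨⊥, Ideal.isPrime_bot⟩
  have hη : η ⤳ pullback.fst g f z := by
    rw [hz1]; exact bot_specializes _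
  obtain ⟨z', hz'z, hz'η⟩ := hgen hη
  obtain ⟨A, l, hl1, hl2⟩ := exists_valuationSubring_of_specializes hz'z
  let φ : V ⟶ CommRingCat.of A := Spec.preimage (l ≫ pullback.fst g f)
  have hφ : Spec.map φ = l ≫ pullback.fst g f := Spec.map_preimage _
  refine ⟨CommRingCat.of A, inferInstance, inferInstance, φ, ?_, l ≫ pullback.snd g f, ?_⟩
  · apply isExtVal_of_points
    · rw [hφ, Scheme.Hom.comp_apply, hl1, hz1]
    · rw [hφ, Scheme.Hom.comp_apply]
      have h1 : l ⟨⊥, Ideal.isPrime_bot⟩ = z' := by
        have h2 : (Spec.map (CommRingCat.ofHom (algebraMap A ((pullback g f).residueField z'))))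
            (closedPoint ((pullback g f).residueField z')) = ⟨⊥, Ideal.isPrime_bot⟩ := by
          apply PrimeSpectrum.ext
          rw [Spec.map_apply]
          ext a
          simp only [PrimeSpectrum.comap_asIdeal, Ideal.mem_comap, Ideal.mem_bot]
          have : (closedPoint ((pullback g f).residueField z')).asIdeal = ⊥ := by
            rw [closedPoint]; exact IsLocalRing.maximalIdeal_eq_bot
          rw [this, Ideal.mem_bot]
          exact (map_eq_zero_iff _ (IsFractionRing.injective A _))
        have h3 := congrArg (fun ψ : Spec ((pullback g f).residueField z') ⟶ pullback g f =>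
          ψ (closedPoint ((pullback g f).residueField z'))) hl2
        simp only [Scheme.Hom.comp_apply, Scheme.fromSpecResidueField_apply] at h3
        rw [h2] at h3
        exact h3
      rw [h1, hz'η]
  · rw [Category.assoc, ← pullback.condition, ← Category.assoc, ← hφ]

/-- valuative lifting along a surjective morphism satisfying the existence part of the valuative
criterion (e.g. a universally closed surjective morphism). -/
theorem exists_lift_of_existence {T U : Scheme.{u}} (f : U ⟶ T) [Surjective f]
    (hf : ValuativeCriterion.Existence f)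
    (V : CommRingCat.{u}) [IsDomain V] [ValuationRing V] (g : Spec V ⟶ T) :
    ∃ (W : CommRingCat.{u}) (_ : IsDomain W) (_ : ValuationRing W) (φ : V ⟶ W),
      IsExtVal V W φ ∧ ∃ (g' : Spec W ⟶ U), g' ≫ f = Spec.map φ ≫ g := by
  have hsurj : Surjective (pullback.fst g f) := inferInstance
  let η : Spec V := ⟨⊥, Ideal.isPrime_bot⟩
  obtain ⟨z, hz⟩ := (pullback.fst g f).surjective η
  -- the residue field at `z` and the induced ring map
  let L := (pullback g f).residueField z
  let ρ : V ⟶ L := Spec.preimage ((pullback g f).fromSpecResidueField z ≫ pullback.fst g f)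
  have hρ : Spec.map ρ = (pullback g f).fromSpecResidueField z ≫ pullback.fst g f :=
    Spec.map_preimage _
  have hρinj : Function.Injective ρ.hom := by
    rw [RingHom.injective_iff_ker_eq_bot]
    have h1 : Spec.map ρ (closedPoint L) = η := by
      rw [hρ, Scheme.Hom.comp_apply, Scheme.fromSpecResidueField_apply, hz]
    have h2 := congrArg PrimeSpectrum.asIdeal h1
    have h3 : (closedPoint L).asIdeal = ⊥ := by
      rw [closedPoint]; exact IsLocalRing.maximalIdeal_eq_bot
    simpa [Spec.map_apply, h3, RingHom.ker] using h2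
  obtain ⟨A, hA, hA_local⟩ := exists_factor_valuationRing ρ.hom
  let φ : V ⟶ CommRingCat.of A := CommRingCat.ofHom (ρ.hom.codRestrict _ hA)
  have hφρ : φ ≫ CommRingCat.ofHom (algebraMap A L) = ρ := rfl
  have hφ : IsExtVal V (CommRingCat.of A) φ := by
    refine ⟨?_, hA_local⟩
    intro a b hab
    apply hρinj
    have := congrArg (fun x : A => (x : L)) hab
    exact this
  -- the valuative square
  have w : ((pullback g f).fromSpecResidueField z ≫ pullback.snd g f) ≫ f =
      Spec.map (CommRingCat.ofHom (algebraMap A L)) ≫ (Spec.map φ ≫ g) := by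
    rw [Category.assoc, ← pullback.condition, ← Category.assoc, ← hρ, ← Category.assoc,
      ← Spec.map_comp, hφρ]
  obtain ⟨l, hl₁, hl₂⟩ := (hf { R := A, K := L, commSq := ⟨w⟩, .. }).exists_lift
  exact ⟨CommRingCat.of A, inferInstance, inferInstance, φ, hφ, l, hl₂⟩

/-- the generic point of a valuation subring `A` of `K`, as the image of the point of `Spec K`. -/
theorem specMap_algebraMap_closedPoint {K : Type u} [Field K] (A : ValuationSubring K) :
    Spec.map (CommRingCat.ofHom (algebraMap A K)) (closedPoint K) =
      (⟨⊥, Ideal.isPrime_bot⟩ : PrimeSpectrum A) := by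
  apply PrimeSpectrum.ext
  rw [Spec.map_apply]
  ext a
  simp only [PrimeSpectrum.comap_asIdeal, Ideal.mem_comap, Ideal.mem_bot]
  have : (closedPoint K).asIdeal = ⊥ := by
    rw [closedPoint]; exact IsLocalRing.maximalIdeal_eq_bot
  rw [this, Ideal.mem_bot]
  exact (map_eq_zero_iff _ (IsFractionRing.injective A _))

/-- version of `exists_valuationSubring_of_specializes` recording the image of the generic
point. -/
theorem exists_valuationSubring_of_specializes' {X : Scheme.{u}} {x' x : X} (h : x' ⤳ x) :
    ∃ (A : ValuationSubring (X.residueField x')) (l : Spec (CommRingCat.of A) ⟶ X),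
      l (closedPoint A) = x ∧ l (⟨⊥, Ideal.isPrime_bot⟩ : PrimeSpectrum A) = x' := by
  obtain ⟨A, l, hl1, hl2⟩ := exists_valuationSubring_of_specializes h
  refine ⟨A, l, hl1, ?_⟩
  have h3 := congrArg (fun ψ : Spec (X.residueField x') ⟶ X =>
    ψ (closedPoint (X.residueField x'))) hl2
  simp only [Scheme.Hom.comp_apply, Scheme.fromSpecResidueField_apply] at h3
  rw [specMap_algebraMap_closedPoint] at h3
  exact h3

/-- If a specialization in `Spec V ×_T Y` lies over `generic ⤳ closed` of `Spec V`, then
`g : Spec V ⟶ T` lifts to `Y` after an extension of valuation rings. -/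
theorem exists_lift_of_specializes_pullback {T Y : Scheme.{u}} (f : Y ⟶ T)
    (V : CommRingCat.{u}) [IsDomain V] [ValuationRing V] (g : Spec V ⟶ T)
    (z' z : ↑(pullback g f)) (hz'z : z' ⤳ z)
    (hz : pullback.fst g f z = closedPoint V)
    (hz' : pullback.fst g f z' = (⟨⊥, Ideal.isPrime_bot⟩ : PrimeSpectrum V)) :
    ∃ (W : CommRingCat.{u}) (_ : IsDomain W) (_ : ValuationRing W) (φ : V ⟶ W),
      IsExtVal V W φ ∧ ∃ (g' : Spec W ⟶ Y), g' ≫ f = Spec.map φ ≫ g := by
  obtain ⟨A, l, hl1, hl2⟩ := exists_valuationSubring_of_specializes' hz'z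
  let φ : V ⟶ CommRingCat.of A := Spec.preimage (l ≫ pullback.fst g f)
  have hφ : Spec.map φ = l ≫ pullback.fst g f := Spec.map_preimage _
  refine ⟨CommRingCat.of A, inferInstance, inferInstance, φ, ?_, l ≫ pullback.snd g f, ?_⟩
  · apply isExtVal_of_points
    · rw [hφ, Scheme.Hom.comp_apply, hl1, hz]
    · rw [hφ, Scheme.Hom.comp_apply]
      exact (congrArg _ hl2).trans hz'
  · rw [Category.assoc, ← pullback.condition, ← Category.assoc, ← hφ]

/-- an extension of valuation rings maps generic point to generic point and closed point to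
closed point. -/
theorem IsExtVal.specMap_bot {V W : CommRingCat.{u}} [IsDomain V] [ValuationRing V] [IsDomain W]
    [ValuationRing W] {φ : V ⟶ W} (hφ : IsExtVal V W φ) :
    Spec.map φ (⟨⊥, Ideal.isPrime_bot⟩ : PrimeSpectrum W) =
      (⟨⊥, Ideal.isPrime_bot⟩ : PrimeSpectrum V) := by
  apply PrimeSpectrum.ext
  rw [Spec.map_apply]
  simp only [PrimeSpectrum.comap_asIdeal]
  exact (RingHom.injective_iff_ker_eq_bot _).mp hφ.1

theorem IsExtVal.specMap_closedPoint {V W : CommRingCat.{u}} [IsDomain V] [ValuationRing V]
    [IsDomain W] [ValuationRing W] {φ : V ⟶ W} (hφ : IsExtVal V W φ) :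
    Spec.map φ (closedPoint W) = closedPoint V := by
  have := hφ.2
  exact comap_closedPoint φ.hom

end Groth.Agent.Lib.ValSpecialize
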