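import Groth.Agent.Lib.AlgSpPtwise91
import Groth.Agent.Lib.H86RelDimZero
import Groth.Agent.Lib.H56FibDimSup
import Groth.Agent.Lib.H86AlgSpSub
import Groth.Agent.Lib.AlgSpDiagUnrOpen36
import Groth.Agent.S1240

/-!
# Flat morphisms of algebraic spaces, locally quasi-finite over a dense open (helper36)

Algebraic-space form of the "fibre dimension over a dense open" lemma: a flat morphism locally of finite type which is
locally quasi-finite over a dense open subspace `V` of the target is locally quasi-finite, provided `f` is locally of finite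
presentation or `V ⟶ Y` is quasi-compact.
-/

set_option autoImplicit false
set_option linter.style.haveILetI false
universe u
open CategoryTheory CategoryTheory.Limits AlgebraicGeometry Opposite

namespace Groth.Agent.Lib.AlgSpLqfDense36

open AlgSp Groth.Agent.Lib.AlgSpBasic Groth.Agent.Lib.AlgSpLocP Groth.Agent.Lib.AlgSpQC
  Groth.Agent.Lib.AlgSpQFBC91 Groth.Agent.Lib.AlgSpPtwise91 Groth.Agent.Lib.AlgSpQFAt91

variable {S : Scheme.{u}}

/-- The range of a quasi-compact open immersion is retrocompact. -/
theorem isRetrocompact_range {A B : Scheme.{u}} (i : A ⟶ B) [QuasiCompact i] :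
    IsRetrocompact (Set.range i) := by
  intro O hOc hOo
  have h1 : IsCompact (i ⁻¹' O) := QuasiCompact.isCompact_preimage (f := i) O hOo hOc
  have h2 : Set.range i ∩ O = i '' (i ⁻¹' O) := by
    rw [Set.image_preimage_eq_inter_range, Set.inter_comm]
  rw [h2]
  exact h1.image i.continuous

/-- The inverse image in a chart of an open subspace. -/
theorem isOpen_range_of_isOpenImmersion {V Y : Sp S} {j : V ⟶ Y} (hj : RepWith @IsOpenImmersion j) :
    IsOpen (Set.range (Points.map j)) :=
  (isOpenMap_map_of_repWith_etale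
    (Groth.Agent.Lib.AlgSpDiagUnrOpen36.repWith_etale_of_isOpenImmersion hj)).isOpen_range

/-- The inverse image in an etale chart of a quasi-compact open subspace is retrocompact. -/
theorem isRetrocompact_preimage {V Y : Sp S} {j : V ⟶ Y} (hj : RepWith @IsOpenImmersion j)
    (hqc : IsQuasiCompactMor j) {V₀ : Over S} (c : (yon S).obj V₀ ⟶ Y) :
    IsRetrocompact (Points.ofPt c ⁻¹' Set.range (Points.map j)) := by
  have hjq : RepWith @QuasiCompact j := repWith_quasiCompact_of_isQuasiCompactMor hj.rep hqc
  have sq := hj.rep.isPullback c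
  have h1 : QuasiCompact (hj.rep.snd c).left := hjq.property_snd c
  rw [← Groth.Agent.Lib.H86AlgSpSub.range_left_eq_preimage sq]
  exact isRetrocompact_range (hj.rep.snd c).left

/-- **Locally quasi-finite over a dense open ⇒ locally quasi-finite**, for flat morphisms locally of finite type. -/
theorem locP_lqf_of_dense_open {X Y V P : Sp S} (hX : IsAlgSpace X) (hY : IsAlgSpace Y)
    (hV : IsAlgSpace V) (hP : IsAlgSpace P) (f : X ⟶ Y) (j : V ⟶ Y)
    (hj : RepWith @IsOpenImmersion j) (hdense : Dense (Set.range (Points.map j)))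
    {fst : P ⟶ X} {snd : P ⟶ V} (sq : IsPullback fst snd f j)
    (hflat : LocP @Flat f) (hlft : LocP @LocallyOfFiniteType f)
    (hqf : LocP (@LocallyQuasiFinite ⊓ @LocallyOfFiniteType) snd)
    (h : LocP @LocallyOfFinitePresentation f ∨ IsQuasiCompactMor j) :
    LocP (@LocallyQuasiFinite ⊓ @LocallyOfFiniteType) f := by
  have hlft' : LocP @LocallyOfFiniteType snd :=
    locP_of_isPullback etLocalClass_lft hX hY hV sq hlft
  rw [pointwiseBC_lqf.locP_iff hX hY f hlft]
  intro x
  obtain ⟨U, V₀, a, c, k, u, ha, hc, hcomm, rfl⟩ := exists_chart_diagram hX hY f x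
  rw [hasAtMor_opens_iff f hlft, mem_qfLocus_iff f hlft a c k ha hc hcomm u]
  have hkl : LocallyOfFiniteType k.left := hlft a c k ha hc hcomm
  have hkf : Flat k.left := hflat a c k ha hc hcomm
  have hjo : IsOpen (Set.range (Points.map j)) := isOpen_range_of_isOpenImmersion hj
  let W₀ : V₀.left.Opens :=
    ⟨Points.ofPt c ⁻¹' Set.range (Points.map j), hjo.preimage (Points.continuous_ofPt c)⟩
  have hW₀d : Dense (W₀ : Set V₀.left) :=
    hdense.preimage (Groth.Agent.Lib.H86AlgSpPoints.isOpenMap_ofPt hc)
  have hle : ∀ u' : U.left, k.left u' ∈ W₀ → FlatMor.fibreDimAt k.left u' ≤ ((0 : ℕ) : WithBot ℕ∞) := by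
    intro u' hu'
    obtain ⟨v, hv⟩ := hu'
    have e1 : Points.map f (Points.ofPt a u') = Points.map j v := by
      rw [hv, Points.map_ofPt, hcomm, Groth.Agent.Lib.AlgSpPoints.ofPt_yon_map_comp]
    obtain ⟨p, hp1, -⟩ := Groth.Agent.Lib.AlgSpPoints.exists_point_of_isPullback sq _ _ e1
    have hp : p ∈ qfLocus snd :=
      (hasAtMor_opens_iff snd hlft' p).1 ((pointwiseBC_lqf.locP_iff hP hV snd hlft').1 hqf p)
    have h2 := (mem_qfLocus_baseChange hX hY hP hV sq hlft p).2 hp
    rw [hp1, mem_qfLocus_iff f hlft a c k ha hc hcomm u'] at h2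
    rw [(Groth.Agent.Lib.H86RelDimZero.fibreDimAt_eq_zero_iff k.left u').2 h2]
    rfl
  have h' : LocallyOfFinitePresentation k.left ∨ IsRetrocompact (W₀ : Set V₀.left) := by
    rcases h with h | h
    · exact Or.inl (h a c k ha hc hcomm)
    · exact Or.inr (isRetrocompact_preimage hj h c)
  have h3 := Groth.Agent.S1240.result k.left W₀ hW₀d 0 hle h' u
  have h0 : FlatMor.fibreDimAt k.left u = 0 :=
    le_antisymm (by exact_mod_cast h3) (Groth.Agent.Lib.H56LocDim.fibreDimAt_nonneg k.left u)
  exact (Groth.Agent.Lib.H86RelDimZero.fibreDimAt_eq_zero_iff k.left u).1 h0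

end Groth.Agent.Lib.AlgSpLqfDense36
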