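import Groth.Agent.Lib.AlgSpFpqcIso
import Groth.Agent.Lib.AlgSpFlatPt
import Groth.Agent.Lib.AlgSpFibre
import Groth.Agent.Lib.H80DecentPt

/-!
# Monomorphisms to the spectrum of a field (helper36)

ns `Groth.Agent.Lib.AlgSpMonoField`

* `isIso_of_mono_to_field` : (Stacks 06MG) a nonempty algebraic space with a monomorphism to the
  spectrum of a field is that spectrum.
-/

set_option autoImplicit false

universe u
open CategoryTheory CategoryTheory.Limits AlgebraicGeometry Opposite
open AlgSp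

namespace Groth.Agent.Lib.AlgSpMonoField

open Groth.Agent.Lib.AlgSpFpqc Groth.Agent.Lib.AlgSpFlatPt Groth.Agent.Lib.H80DecentPt

variable {S : Scheme.{u}}

/-- A nonempty algebraic space with a monomorphism to the spectrum of a field is that spectrum. -/
theorem isIso_of_mono_to_field {Z : AlgSp.Sp S} (hZ : AlgSp.IsAlgSpace Z) (k : Type u) [Field k]
    (a : Spec (CommRingCat.of k) ⟶ S) (f : Z ⟶ (AlgSp.yon S).obj (Over.mk a)) [Mono f]
    (hne : Nonempty (AlgSp.Points Z)) : IsIso f := by
  obtain ⟨x⟩ := hne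
  obtain ⟨p, rfl⟩ := AlgSp.Points.mk_surjective x
  obtain ⟨b, hb⟩ := (AlgSp.yon S).map_surjective (p.toHom ≫ f)
  have sq := IsPullback.of_hasPullback f ((yon S).map b)
  have hP : IsAlgSpace (pullback f ((yon S).map b)) :=
    Groth.Agent.Lib.AlgSpFibre.isAlgSpace_of_isPullback (IsAlgSpace.yon_obj _).diag hZ
      (IsAlgSpace.yon_obj _) sq
  haveI : Mono (pullback.snd f ((yon S).map b)) := inferInstance
  let s : (yon S).obj p.pt ⟶ pullback f ((yon S).map b) :=
    pullback.lift p.toHom (𝟙 _) (by rw [Category.id_comp, hb])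
  have hs : s ≫ pullback.snd f ((yon S).map b) = 𝟙 _ := pullback.lift_snd _ _ _
  haveI : IsSplitEpi (pullback.snd f ((yon S).map b)) := ⟨⟨⟨s, hs⟩⟩⟩
  haveI hiso : IsIso (pullback.snd f ((yon S).map b)) := isIso_of_mono_of_isSplitEpi _
  have key := isLocalOnBase_fpqc_isomorphisms (S := S)
    (fun _ : PUnit.{u+1} => (yon S).obj p.pt) (fun _ => (yon S).map b)
    (IsAlgSpace.yon_obj _) (fun _ => IsAlgSpace.yon_obj _) (isFpqcCover_field_ext p.str a b) f hZ
    (fun _ => pullback f ((yon S).map b)) (fun _ => pullback.snd _ _) (fun _ => pullback.fst _ _)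
    (fun _ => hP) (fun _ => sq)
  exact key.2 (fun _ => hiso)

end Groth.Agent.Lib.AlgSpMonoField
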