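import Groth.Agent.Lib.NagataNormFin96C
import Mathlib.AlgebraicGeometry.Noetherian
import Mathlib.AlgebraicGeometry.Morphisms.FiniteType

/-!
# Finiteness of relative normalization over Nagata bases: the finite type case (Stacks 03GH)
-/

set_option autoImplicit false
set_option linter.style.haveILetI false
universe u

open CategoryTheory CategoryTheory.Limits AlgebraicGeometry TopologicalSpace

namespace Groth.Agent.Lib.NagataNormFin96

/-- The irreducible components of a locally Noetherian scheme are locally finite. -/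
theorem locallyFinite_irreducibleComponents (X : Scheme.{u}) [IsLocallyNoetherian X] :
    LocallyFinite (fun Z : ↥(irreducibleComponents ↥X) => (Z : Set ↥X)) := by
  intro x
  obtain ⟨U, hxU⟩ : ∃ U : X.affineOpens, x ∈ U.1 := by
    obtain ⟨_, ⟨U, hU, rfl⟩, hxU, -⟩ :=
      X.isBasis_affineOpens.exists_subset_of_mem_open (Set.mem_univ x) isOpen_univ
    exact ⟨⟨U, hU⟩, hxU⟩
  have hNR : IsNoetherianRing Γ(X, U.1) := IsLocallyNoetherian.component_noetherian U
  have hN : NoetherianSpace (U.1 : Set X) := noetherianSpace_of_isAffineOpen U.1 U.2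
  refine ⟨(U.1 : Set X), U.1.2.mem_nhds hxU, ?_⟩
  have hf : Topology.IsOpenEmbedding (Subtype.val : (U.1 : Set X) → X) :=
    U.1.2.isOpenEmbedding_subtypeVal
  have hfin : (irreducibleComponents (U.1 : Set X)).Finite :=
    NoetherianSpace.finite_irreducibleComponents
  refine Set.Finite.of_injOn (f := fun T : irreducibleComponents X =>
    ((Subtype.val : (U.1 : Set X) → X) ⁻¹' T.1)) ?_ ?_ hfin
  · rintro T ⟨z, hzT, hzU⟩
    exact preimage_mem_irreducibleComponents T.2 hf ⟨z, hzT, ⟨⟨z, hzU⟩, rfl⟩⟩
  · rintro T ⟨z, hzT, hzU⟩ T' ⟨z', hzT', hzU'⟩ h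
    have e1 := closure_image_preimage_of_isPreirreducible (Subtype.val : (U.1 : Set X) → X)
      hf.isOpenMap T.1 ⟨⟨z, hzU⟩, hzT⟩ T.2.1.2 (isClosed_of_mem_irreducibleComponents _ T.2)
    have e2 := closure_image_preimage_of_isPreirreducible (Subtype.val : (U.1 : Set X) → X)
      hf.isOpenMap T'.1 ⟨⟨z', hzU'⟩, hzT'⟩ T'.2.1.2 (isClosed_of_mem_irreducibleComponents _ T'.2)
    apply Subtype.ext
    rw [← e1, ← e2]
    simp only at h
    rw [h]

theorem essFiniteType_residueFieldMap {X S : Scheme.{u}} (f : X ⟶ S) [LocallyOfFiniteType f]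
    (x : X) : (f.residueFieldMap x).hom.EssFiniteType :=
  (LocallyOfFiniteType.stalkMap f x).residueFieldMap

theorem isLocallyNoetherian_of_nagata {S : Scheme.{u}}
    (hS : ∀ U : S.affineOpens, CAlg.IsNagata Γ(S, U)) : IsLocallyNoetherian S :=
  ⟨fun U => (hS U).1⟩

/-- Stacks 03GH. -/
theorem isFinite_fromNormalization_of_nagata_of_finiteType {X S : Scheme.{u}} (f : X ⟶ S)
    [LocallyOfFiniteType f] [QuasiCompact f] [QuasiSeparated f] [IsReduced X]
    (hS : ∀ U : S.affineOpens, CAlg.IsNagata Γ(S, U)) :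
    IsFinite f.fromNormalization := by
  haveI : IsLocallyNoetherian S := isLocallyNoetherian_of_nagata hS
  haveI : IsLocallyNoetherian X := LocallyOfFiniteType.isLocallyNoetherian f
  exact isFinite_fromNormalization_of_nagata f hS (locallyFinite_irreducibleComponents X)
    (fun x _ => essFiniteType_residueFieldMap f x)

end Groth.Agent.Lib.NagataNormFin96
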