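import Groth.Agent.Lib.H69AlgSpDescProp
import Groth.Agent.Lib.H80DecentPt
import Groth.Agent.Lib.NoethDescent
import Groth.Agent.Lib.AlgSpLocP
import Groth.Agent.Lib.NagataNormFin96D

/-!
# Locally Noetherian fibres of morphisms of algebraic spaces (helper36)

* `etaleLocally_of_repWith_surjective`: descent of an etale-local property of algebraic spaces
  along a REPRESENTABLE surjective morphism with `P`.
* `isLocNoethSp_of_repWith_fpqc`: local Noetherianity descends along representable flat
  quasi-compact surjective morphisms.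
-/

set_option autoImplicit false
set_option linter.style.haveILetI false
universe u
open CategoryTheory CategoryTheory.Limits AlgebraicGeometry Opposite

namespace Groth.Agent.Lib.AlgSpNoethFibre36

open AlgSp Groth.Agent.Lib.AlgSpBasic

variable {S : Scheme.{u}}

/-- Descent of an etale-local property of algebraic spaces along a representable surjective
morphism with `P`. -/
theorem etaleLocally_of_repWith_surjective {Q : Scheme.{u} → Prop} (P : MorphismProperty Scheme.{u})
    (hQet : ∀ ⦃W U : Scheme.{u}⦄ (s : W ⟶ U), Etale s → Q U → Q W)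
    (hdescEt : ∀ ⦃W V : Scheme.{u}⦄ (t : W ⟶ V), Etale t → Surjective t → Q W → Q V)
    (hdesc : ∀ ⦃W V : Scheme.{u}⦄ (t : W ⟶ V), P t → Surjective t → Q W → Q V)
    {X Y : Sp S} (hY : IsAlgSpace Y) (f : X ⟶ Y) (hf : RepWith P f) (hs : RepWith @Surjective f)
    (hX : EtaleLocally Q X) : EtaleLocally Q Y := by
  obtain ⟨U, p, hpe, hps, hU⟩ := hX
  obtain ⟨V, b, hbe, hbs⟩ := hY.atlas
  have sq := hf.rep.isPullback b
  have hP : P (hf.rep.snd b).left := hf.property _ _ _ sq
  have hsurj : Surjective (hf.rep.snd b).left := hs.property _ _ _ sq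
  have hfe : RepWith @Etale (hf.rep.fst b) := repWith_fst_of_isPullback _ sq hbe
  have sq2 := hpe.rep.isPullback' (hf.rep.fst b)
  have h1 : Etale (hpe.rep.snd (hf.rep.fst b)).left := hpe.property_snd _
  have h2 : Surjective (hpe.rep.snd (hf.rep.fst b)).left :=
    hps.property _ _ _ (hpe.rep.isPullback _)
  have h3 : Etale (hpe.rep.fst' (hf.rep.fst b)).left :=
    (repWith_yon_map_iff _ _).1 (repWith_fst_of_isPullback _ sq2 hfe)
  have hU' : Q (hpe.rep.pullback (hf.rep.fst b)).left := hQet _ h3 hU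
  have hW : Q (hf.rep.pullback b).left := hdescEt _ h1 h2 hU'
  exact ⟨V, b, hbe, hbs, hdesc _ hP hsurj hW⟩

/-- Local Noetherianity descends along representable flat quasi-compact surjective morphisms. -/
theorem isLocNoethSp_of_repWith_fpqc {X Y : Sp S} (hY : IsAlgSpace Y) (f : X ⟶ Y)
    (hfl : RepWith @Flat f) (hqc : RepWith @QuasiCompact f) (hs : RepWith @Surjective f)
    (hX : IsLocNoethSp X) : IsLocNoethSp Y := by
  refine etaleLocally_of_repWith_surjective (@Flat ⊓ @QuasiCompact) ?_ ?_ ?_ hY f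
    (Groth.Agent.Lib.AlgSpFibre.repWith_inf hfl hqc) hs hX
  · intro W U s hs hU
    have : Etale s := hs
    have : IsLocallyNoetherian U := hU
    exact LocallyOfFiniteType.isLocallyNoetherian s
  · intro W V t ht hts hW
    have : Etale t := ht
    have : Surjective t := hts
    have : IsLocallyNoetherian W := hW
    exact Groth.Agent.Lib.NoethDescent.isLocallyNoetherian_of_fppf t
  · intro W V t ht hts hW
    have : Flat t := ht.1
    have : QuasiCompact t := ht.2
    have : Surjective t := hts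
    have : IsLocallyNoetherian W := hW
    exact Groth.Agent.Lib.NoethDescent.isLocallyNoetherian_of_fpqc t

/-- Every morphism between spectra of fields is flat, quasi-compact and surjective. -/
theorem field_map_props {K L : Type u} [Field K] [Field L]
    (g : Spec (CommRingCat.of L) ⟶ Spec (CommRingCat.of K)) :
    Flat g ∧ QuasiCompact g ∧ Surjective g :=
  ⟨inferInstance, inferInstance, ⟨fun _ => ⟨default, Subsingleton.elim _ _⟩⟩⟩

/-- The fibre over a field point descends along a morphism of field points: if `p = m ≫ p₀`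
and the fibre of `f` over `p` is locally Noetherian then so is the fibre over `p₀`. -/
theorem isLocNoethSp_fibre_of_factor {X Y : Sp S} (hX : IsAlgSpace X) (hY : IsAlgSpace Y)
    (f : X ⟶ Y) {K L : Type u} [Field K] [Field L] {sK : Spec (CommRingCat.of K) ⟶ S}
    {sL : Spec (CommRingCat.of L) ⟶ S} (m : Over.mk sL ⟶ Over.mk sK)
    (p₀ : (yon S).obj (Over.mk sK) ⟶ Y)
    (hNoeth : ∀ ⦃P : Sp S⦄ (fst : P ⟶ X) (snd : P ⟶ (yon S).obj (Over.mk sL)),
      IsPullback fst snd f ((yon S).map m ≫ p₀) → IsLocNoethSp P)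
    {Q : Sp S} (qfst : Q ⟶ X) (qsnd : Q ⟶ (yon S).obj (Over.mk sK))
    (hQ : IsPullback qfst qsnd f p₀) : IsLocNoethSp Q := by
  have sqL := IsPullback.of_hasPullback qsnd ((yon S).map m)
  have big : IsPullback (pullback.fst qsnd ((yon S).map m) ≫ qfst)
      (pullback.snd qsnd ((yon S).map m)) f ((yon S).map m ≫ p₀) := sqL.paste_horiz hQ
  have hP : IsLocNoethSp (pullback qsnd ((yon S).map m)) := hNoeth _ _ big
  have hQalg : IsAlgSpace Q :=
    Groth.Agent.Lib.AlgSpFibre.isAlgSpace_of_isPullback hY.diag hX (IsAlgSpace.yon_obj _) hQ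
  obtain ⟨h1, h2, h3⟩ := field_map_props (K := K) (L := L) m.left
  exact isLocNoethSp_of_repWith_fpqc hQalg (pullback.fst qsnd ((yon S).map m))
    (repWith_fst_of_isPullback _ sqL ((repWith_yon_map_iff _ _).2 h1))
    (repWith_fst_of_isPullback _ sqL ((repWith_yon_map_iff _ _).2 h2))
    (repWith_fst_of_isPullback _ sqL ((repWith_yon_map_iff _ _).2 h3)) hP

/-- A morphism of schemes over `S` induces compatible morphisms of the spectra of residue
fields. -/
theorem exists_residue_factor {A B : Over S} (φ : A ⟶ B) (x : ↥A.left) (y : ↥B.left)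
    (h : φ.left x = y) :
    ∃ d : Over.mk (A.left.fromSpecResidueField x ≫ A.hom) ⟶
        Over.mk (B.left.fromSpecResidueField y ≫ B.hom),
      d ≫ (Over.homMk (B.left.fromSpecResidueField y) rfl :
          Over.mk (B.left.fromSpecResidueField y ≫ B.hom) ⟶ B) =
        (Over.homMk (A.left.fromSpecResidueField x) rfl :
          Over.mk (A.left.fromSpecResidueField x ≫ A.hom) ⟶ A) ≫ φ ∧
      Flat d.left ∧ QuasiCompact d.left ∧ Surjective d.left := by
  subst h
  have key := Scheme.Hom.SpecMap_residueFieldMap_fromSpecResidueField φ.left x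
  refine ⟨Over.homMk (Spec.map (φ.left.residueFieldMap x)) ?_, ?_, ?_, ?_, ?_⟩
  · change Spec.map (φ.left.residueFieldMap x) ≫ B.left.fromSpecResidueField (φ.left x) ≫ B.hom =
      A.left.fromSpecResidueField x ≫ A.hom
    rw [← Category.assoc, key, Category.assoc, Over.w φ]
  · apply Over.OverMorphism.ext
    exact key
  · change Flat (Spec.map (φ.left.residueFieldMap x))
    infer_instance
  · change QuasiCompact (Spec.map (φ.left.residueFieldMap x))
    infer_instance
  · change Surjective (Spec.map (φ.left.residueFieldMap x))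
    exact ⟨fun _ => ⟨IsLocalRing.closedPoint _, Subsingleton.elim _ _⟩⟩

/-- Base change of a locally Noetherian algebraic space over a field along an essentially finite
type field extension is locally Noetherian. -/
theorem isLocNoethSp_of_isPullback_essFiniteType {P' Qw : Sp S} (hP' : IsLocNoethSp P')
    {K K' : CommRingCat.{u}} {sK : Spec K ⟶ S} {sK' : Spec K' ⟶ S}
    (e : Over.mk sK' ⟶ Over.mk sK) (φ : K ⟶ K') (hφe : e.left = Spec.map φ)
    (hφ : φ.hom.EssFiniteType)
    (π : P' ⟶ (yon S).obj (Over.mk sK)) (s : Qw ⟶ P') (t : Qw ⟶ (yon S).obj (Over.mk sK'))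
    (sq : IsPullback s t π ((yon S).map e)) : IsLocNoethSp Qw := by
  obtain ⟨U₀, q₀, hq₀e, hq₀s, hU₀⟩ := hP'
  have hH : Representable (Limits.diag ((yon S).obj (Over.mk sK))) :=
    (IsAlgSpace.yon_obj (Over.mk sK)).diag
  have hide : RepWith @Etale (𝟙 ((yon S).obj (Over.mk sK'))) := by
    rw [← (yon S).map_id]
    exact (repWith_yon_map_iff _ _).2 (inferInstanceAs (Etale (𝟙 (Spec K'))))
  have hids : RepWith @Surjective (𝟙 ((yon S).obj (Over.mk sK'))) := by
    rw [← (yon S).map_id]
    exact (repWith_yon_map_iff _ _).2 (inferInstanceAs (Surjective (𝟙 (Spec K'))))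
  obtain ⟨W', q', wU, wV, hq'e, hq's, -, -, sqW⟩ :=
    Groth.Agent.Lib.AlgSpFibre.exists_atlas_of_isPullback hH sq q₀ (𝟙 _) hq₀e hq₀s hide hids
  obtain ⟨g₀, hg₀⟩ := (yon S).map_surjective (q₀ ≫ π)
  rw [← hg₀, Category.id_comp] at sqW
  have sq1 : IsPullback wU wV g₀ e := IsPullback.of_map (yon S) ((yon S).map_injective (by
    rw [Functor.map_comp, Functor.map_comp]; exact sqW.w)) sqW
  have sq2 : IsPullback wU.left wV.left g₀.left e.left := sq1.map (Over.forget S)
  rw [hφe] at sq2
  have : IsLocallyNoetherian U₀.left := hU₀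
  exact ⟨W', q', hq'e, hq's,
    Groth.Agent.Lib.NoethDescent.isLocallyNoetherian_of_isPullback_SpecMap φ hφ _ _ _ sq2⟩

/-- For `g : W ⟶ Spec K` locally of finite type and `w : W`, the morphism `Spec κ(w) ⟶ Spec K`
is `Spec.map φ` for an essentially finite type ring homomorphism `φ`. -/
theorem exists_essFiniteType_of_lft {K : CommRingCat.{u}} {W : Scheme.{u}} (g : W ⟶ Spec K)
    [LocallyOfFiniteType g] (w : W) :
    ∃ φ : K ⟶ W.residueField w, W.fromSpecResidueField w ≫ g = Spec.map φ ∧
      φ.hom.EssFiniteType := by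
  have h3 := Groth.Agent.Lib.NagataNormFin96.essFiniteType_residueFieldMap g w
  have key := Scheme.Hom.SpecMap_residueFieldMap_fromSpecResidueField g w
  generalize g.residueFieldMap w = ρ at h3 key
  generalize g w = x at ρ h3 key
  have : x.asIdeal.IsPrime := x.isPrime
  refine ⟨CommRingCat.ofHom (algebraMap K x.asIdeal.ResidueField) ≫
    (Scheme.Spec.residueFieldIso K x).inv ≫ ρ, ?_, ?_⟩
  · rw [Spec.map_comp, Spec.map_comp, Category.assoc,
      Scheme.Spec.map_residueFieldIso_inv_eq_fromSpecResidueField, key]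
  · have h1 : (algebraMap K x.asIdeal.ResidueField).EssFiniteType :=
      RingHom.essFiniteType_algebraMap.2 inferInstance
    have h2 : ((Scheme.Spec.residueFieldIso K x).inv).hom.EssFiniteType :=
      (RingHom.FiniteType.of_surjective _
        ((ConcreteCategory.bijective_of_isIso
          (Scheme.Spec.residueFieldIso K x).inv).2)).essFiniteType
    exact (h1.comp h2).comp h3

/-- **Locally Noetherian fibres, (3) ⇒ (2)**: if the fibre of `f : X ⟶ Y` over one field point
`p` is locally Noetherian, then so is the fibre over `Spec κ(v)` for every etale chart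
`b : h_V ⟶ Y` and every `v : V` defining the same point of `Y` as `p`. -/
theorem isLocNoethSp_fibre_ofPt {X Y : Sp S} (hX : IsAlgSpace X) (hY : IsAlgSpace Y) (f : X ⟶ Y)
    (p : FieldPt Y)
    (hNoeth : ∀ ⦃P : Sp S⦄ (fst : P ⟶ X) (snd : P ⟶ (yon S).obj p.pt),
      IsPullback fst snd f p.toHom → IsLocNoethSp P)
    (V : Over S) (b : (yon S).obj V ⟶ Y) (hb : RepWith @Etale b) (v : ↥V.left)
    (hv : Points.ofPt b v = Points.mk p)
    {Q : Sp S} (qfst : Q ⟶ X) (qsnd : Q ⟶ (yon S).obj (FieldPt.ofPt b v).pt)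
    (hQ : IsPullback qfst qsnd f (FieldPt.ofPt b v).toHom) : IsLocNoethSp Q := by
  -- a common field extension
  obtain ⟨Ω, _, w, a, c, hac⟩ := (Groth.Agent.Lib.H80DecentPt.rel_iff_toHom p (FieldPt.ofPt b v)).1
    (Points.mk_eq_mk_iff.1 hv.symm)
  rw [FieldPt.toHom_ofPt] at hac
  set ιv : (FieldPt.ofPt b v).pt ⟶ V := Over.homMk (V.left.fromSpecResidueField v) rfl with hιv
  -- the scheme `W = Spec k ×_Y V`
  have sqW := hb.rep.isPullback' p.toHom
  have hsnd : Etale (hb.rep.snd p.toHom).left := hb.property_snd _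
  have hcomm : (yon S).map (c ≫ ιv) ≫ b = (yon S).map a ≫ p.toHom := by
    rw [Functor.map_comp, Category.assoc]; exact hac.symm
  let ℓ : Over.mk w ⟶ hb.rep.pullback p.toHom := hb.rep.lift' (c ≫ ιv) a hcomm
  have hℓ1 : ℓ ≫ hb.rep.fst' p.toHom = c ≫ ιv := hb.rep.lift'_fst _ _ _
  let pt : ↥(Over.mk w).left := (IsLocalRing.closedPoint Ω : ↥(Spec (CommRingCat.of Ω)))
  let w₀ : ↥(hb.rep.pullback p.toHom).left := ℓ.left pt
  have hw₀ : (hb.rep.fst' p.toHom).left w₀ = v := by
    have h1 : ℓ.left ≫ (hb.rep.fst' p.toHom).left = c.left ≫ ιv.left := by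
      rw [← Over.comp_left, hℓ1, Over.comp_left]
    have h2 : (hb.rep.fst' p.toHom).left w₀ = (ℓ.left ≫ (hb.rep.fst' p.toHom).left) pt :=
      (Scheme.Hom.comp_apply _ _ _).symm
    rw [h2, h1, Scheme.Hom.comp_apply]
    exact Scheme.fromSpecResidueField_apply v (c.left pt)
  obtain ⟨d, hd, hdfl, hdqc, hds⟩ := exists_residue_factor (hb.rep.fst' p.toHom) w₀ v hw₀
  set ιw : Over.mk ((hb.rep.pullback p.toHom).left.fromSpecResidueField w₀ ≫
      (hb.rep.pullback p.toHom).hom) ⟶ hb.rep.pullback p.toHom :=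
    Over.homMk ((hb.rep.pullback p.toHom).left.fromSpecResidueField w₀) rfl with hιw
  set e := ιw ≫ hb.rep.snd p.toHom with he
  have hkey : (yon S).map d ≫ (FieldPt.ofPt b v).toHom = (yon S).map e ≫ p.toHom := by
    have h1 : (FieldPt.ofPt b v).toHom = (yon S).map ιv ≫ b := FieldPt.toHom_ofPt b v
    have h2 : (yon S).map d ≫ (yon S).map ιv =
        (yon S).map ιw ≫ (yon S).map (hb.rep.fst' p.toHom) := by
      exact ((yon S).map_comp d ιv).symm.trans
        ((congrArg ((yon S).map) hd).trans ((yon S).map_comp ιw _))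
    have h3 : (yon S).map e = (yon S).map ιw ≫ (yon S).map (hb.rep.snd p.toHom) :=
      (yon S).map_comp ιw _
    calc (yon S).map d ≫ (FieldPt.ofPt b v).toHom
        = (yon S).map d ≫ ((yon S).map ιv ≫ b) := congrArg _ h1
      _ = ((yon S).map d ≫ (yon S).map ιv) ≫ b := (Category.assoc _ _ _).symm
      _ = ((yon S).map ιw ≫ (yon S).map (hb.rep.fst' p.toHom)) ≫ b := congrArg (· ≫ b) h2
      _ = (yon S).map ιw ≫ ((yon S).map (hb.rep.fst' p.toHom) ≫ b) := Category.assoc _ _ _
      _ = (yon S).map ιw ≫ ((yon S).map (hb.rep.snd p.toHom) ≫ p.toHom) := congrArg _ sqW.w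
      _ = ((yon S).map ιw ≫ (yon S).map (hb.rep.snd p.toHom)) ≫ p.toHom :=
          (Category.assoc _ _ _).symm
      _ = (yon S).map e ≫ p.toHom := congrArg (· ≫ p.toHom) h3.symm
  -- the fibre over `Spec κ(w₀)`
  have sqL := IsPullback.of_hasPullback qsnd ((yon S).map d)
  have big : IsPullback (pullback.fst qsnd ((yon S).map d) ≫ qfst)
      (pullback.snd qsnd ((yon S).map d)) f ((yon S).map e ≫ p.toHom) := by
    rw [← hkey]; exact sqL.paste_horiz hQ
  have sqP := IsPullback.of_hasPullback f p.toHom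
  have hP : IsLocNoethSp (pullback f p.toHom) := hNoeth _ _ sqP
  let σ : pullback qsnd ((yon S).map d) ⟶ pullback f p.toHom :=
    pullback.lift (pullback.fst qsnd ((yon S).map d) ≫ qfst)
      (pullback.snd qsnd ((yon S).map d) ≫ (yon S).map e) (by rw [Category.assoc]; exact big.w)
  have hσ1 : σ ≫ pullback.fst f p.toHom = pullback.fst qsnd ((yon S).map d) ≫ qfst :=
    pullback.lift_fst _ _ _
  have hσ2 : σ ≫ pullback.snd f p.toHom = pullback.snd qsnd ((yon S).map d) ≫ (yon S).map e :=
    pullback.lift_snd _ _ _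
  have sqσ : IsPullback σ (pullback.snd qsnd ((yon S).map d)) (pullback.snd f p.toHom)
      ((yon S).map e) := by
    refine IsPullback.of_right ?_ hσ2 sqP
    rw [hσ1]; exact big
  -- `Spec κ(w₀) ⟶ Spec k` is essentially of finite type
  have hlft : LocallyOfFiniteType (hb.rep.snd p.toHom).left := inferInstance
  obtain ⟨φ, hφ1, hφ2⟩ := exists_essFiniteType_of_lft (K := CommRingCat.of p.K)
    (hb.rep.snd p.toHom).left w₀
  have hQw : IsLocNoethSp (pullback qsnd ((yon S).map d)) :=
    isLocNoethSp_of_isPullback_essFiniteType hP (K := CommRingCat.of p.K)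
      (K' := (hb.rep.pullback p.toHom).left.residueField w₀) (sK := p.str) e φ hφ1 hφ2
      (pullback.snd f p.toHom) σ (pullback.snd qsnd ((yon S).map d)) sqσ
  -- descend to `Spec κ(v)`
  have hQalg : IsAlgSpace Q :=
    Groth.Agent.Lib.AlgSpFibre.isAlgSpace_of_isPullback hY.diag hX (IsAlgSpace.yon_obj _) hQ
  exact isLocNoethSp_of_repWith_fpqc hQalg (pullback.fst qsnd ((yon S).map d))
    (repWith_fst_of_isPullback _ sqL ((repWith_yon_map_iff _ _).2 hdfl))
    (repWith_fst_of_isPullback _ sqL ((repWith_yon_map_iff _ _).2 hdqc))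
    (repWith_fst_of_isPullback _ sqL ((repWith_yon_map_iff _ _).2 hds)) hQw

end Groth.Agent.Lib.AlgSpNoethFibre36
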