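import Groth.Agent.Lib.AlgSpNear91

/-!
# Classes of morphisms of algebraic spaces which can be tested pointwise, compatibly with base change
-/

set_option autoImplicit false
universe u
open CategoryTheory CategoryTheory.Limits AlgebraicGeometry Opposite

namespace Groth.Agent.Lib.AlgSpPtwise91

open AlgSp Groth.Agent.Lib.AlgSpPoints Groth.Agent.Lib.AlgSpDecentSpec
  Groth.Agent.Lib.AlgSpTrdeg91 Groth.Agent.Lib.AlgSpQFAt91 Groth.Agent.Lib.AlgSpBasic
  Groth.Agent.Lib.AlgSpLocP Groth.Agent.Lib.AlgSpQFBC91 Groth.Agent.Lib.AlgSpNear91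

/-- A class `C` of morphisms of schemes and a pointwise predicate `Q` such that for morphisms of algebraic spaces which are
locally of finite type, `LocP C` can be tested pointwise with `HasAtMor Q`, and `HasAtMor Q` is compatible with arbitrary
base change. -/
structure PointwiseBC (C : MorphismProperty Scheme.{u})
    (Q : ∀ (U V : Scheme.{u}), (U ⟶ V) → ↥U → Prop) : Prop where
  locP_iff : ∀ {S : Scheme.{u}} {X Y : Sp S}, IsAlgSpace X → IsAlgSpace Y → ∀ (f : X ⟶ Y),
    LocP @LocallyOfFiniteType f → (LocP C f ↔ ∀ x : Points X, HasAtMor Q f x)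
  baseChange : ∀ {S : Scheme.{u}} {X Y X'' Y'' : Sp S}, IsAlgSpace X → IsAlgSpace Y →
    IsAlgSpace X'' → IsAlgSpace Y'' → ∀ {f : X ⟶ Y} {g : Y'' ⟶ Y} {b : X'' ⟶ X} {f'' : X'' ⟶ Y''},
    IsPullback b f'' f g → LocP @LocallyOfFiniteType f → ∀ x'' : Points X'',
      (HasAtMor Q f'' x'' ↔ HasAtMor Q f (Points.map b x''))
  isOpen : ∀ {S : Scheme.{u}} {X Y : Sp S} (f : X ⟶ Y), IsOpen {x : Points X | HasAtMor Q f x}

/-- Locally quasi-finite morphisms. -/
theorem pointwiseBC_lqf :
    PointwiseBC.{u} (@LocallyQuasiFinite ⊓ @LocallyOfFiniteType)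
      (fun U _ h u => ∃ W : U.Opens, u ∈ W ∧ LocallyQuasiFinite (W.ι ≫ h) ∧
        LocallyOfFiniteType (W.ι ≫ h)) where
  locP_iff := by
    intro S X Y hX hY f hf
    constructor
    · intro hq x
      obtain ⟨U, V, a, c, h, u, ha, hc, hcomm, rfl⟩ := exists_chart_diagram hX hY f x
      have h1 : LocallyQuasiFinite h.left := (hq a c h ha hc hcomm).1
      rw [hasAtMor_opens_iff f hf, mem_qfLocus_iff f hf a c h ha hc hcomm u]
      exact h.left.quasiFiniteAt u
    · intro hx U' V' a' c' h' ha' hc' hcomm'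
      have hl' : LocallyOfFiniteType h'.left := hf a' c' h' ha' hc' hcomm'
      refine ⟨?_, hl'⟩
      rw [← Scheme.Hom.quasiFiniteLocus_eq_top_iff]
      refine top_le_iff.1 fun u' _ => ?_
      have := hx (Points.ofPt a' u')
      rw [hasAtMor_opens_iff f hf, mem_qfLocus_iff f hf a' c' h' ha' hc' hcomm' u'] at this
      exact this
  baseChange := by
    intro S X Y X'' Y'' hX hY hX'' hY'' f g b f'' sq hf x''
    have hf'' : LocP @LocallyOfFiniteType f'' :=
      locP_of_isPullback etLocalClass_lft hX hY hY'' sq hf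
    rw [hasAtMor_opens_iff f hf, hasAtMor_opens_iff f'' hf'',
      mem_qfLocus_baseChange hX hY hX'' hY'' sq hf x'']
  isOpen := by
    intro S X Y f
    exact isOpen_hasAtMor_near (@LocallyQuasiFinite ⊓ @LocallyOfFiniteType) f

/-- Unramified morphisms. -/
theorem pointwiseBC_unramified :
    PointwiseBC.{u} (@LocallyOfFiniteType ⊓ @FormallyUnramified)
      (fun U _ h u => ∃ W : U.Opens, u ∈ W ∧ LocallyOfFiniteType (W.ι ≫ h) ∧
        FormallyUnramified (W.ι ≫ h)) where
  locP_iff := by
    intro S X Y hX hY f hf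
    have hQ := etLocalAt_near (etLocalClass_lft_unramified.{u})
    constructor
    · intro hq x
      obtain ⟨U, V, a, c, h, u, ha, hc, hcomm, rfl⟩ := exists_chart_diagram hX hY f x
      obtain ⟨h1, h2⟩ := hq a c h ha hc hcomm
      have h1' : LocallyOfFiniteType h.left := h1
      have h2' : FormallyUnramified h.left := h2
      exact ⟨U, V, a, c, h, u, ha, hc, hcomm, rfl, ⊤, trivial, inferInstance,
        MorphismProperty.comp_mem @FormallyUnramified _ _ inferInstance h2'⟩
    · intro hx U' V' a' c' h' ha' hc' hcomm'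
      have hl' : LocallyOfFiniteType h'.left := hf a' c' h' ha' hc' hcomm'
      refine ⟨hl', ?_⟩
      have key : ∀ u' : ↥U'.left, ∃ W : U'.left.Opens, u' ∈ W ∧
          (@LocallyOfFiniteType ⊓ @FormallyUnramified) (W.ι ≫ h'.left) := fun u' =>
        (hQ.hasAtMor_iff f a' c' h' ha' hc' hcomm' u').1 (hx (Points.ofPt a' u'))
      choose W hW hWP using key
      refine IsZariskiLocalAtSource.of_iSup_eq_top (P := @FormallyUnramified) W ?_
        (fun u' => (hWP u').2)
      exact top_le_iff.1 fun u' _ => TopologicalSpace.Opens.mem_iSup.2 ⟨u', hW u'⟩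
  baseChange := by
    intro S X Y X'' Y'' hX hY hX'' hY'' f g b f'' sq hf x''
    exact (etLocalAt_near (etLocalClass_lft_unramified.{u})).hasAtMor_baseChange
      unramified_near_baseChange hX hY hX'' hY'' sq hf x''
  isOpen := by
    intro S X Y f
    exact isOpen_hasAtMor_near (@LocallyOfFiniteType ⊓ @FormallyUnramified) f

end Groth.Agent.Lib.AlgSpPtwise91
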