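import Groth.Agent.Lib.QFAt91
import Groth.Agent.Lib.AlgSpTrdeg91

set_option autoImplicit false
universe u
open CategoryTheory CategoryTheory.Limits AlgebraicGeometry Opposite

namespace Groth.Agent.Lib.AlgSpQFAt91

open AlgSp Groth.Agent.Lib.AlgSpPoints Groth.Agent.Lib.AlgSpDecentSpec Groth.Agent.Lib.QFAt91
  Groth.Agent.Lib.AlgSpTrdeg91

variable {S : Scheme.{u}}

/-- **Quasi-finiteness at a point of a morphism of sheaves does not depend on the chart diagram** (for morphisms locally of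
finite type). -/
theorem quasiFiniteAt_chart_indep {X Y : Sp S} (f : X ⟶ Y) (hf : LocP @LocallyOfFiniteType f)
    {U V U' V' : Over S} (a : (yon S).obj U ⟶ X) (b : (yon S).obj V ⟶ Y) (h : U ⟶ V)
    (a' : (yon S).obj U' ⟶ X) (b' : (yon S).obj V' ⟶ Y) (h' : U' ⟶ V')
    (ha : RepWith @Etale a) (hb : RepWith @Etale b) (ha' : RepWith @Etale a')
    (hb' : RepWith @Etale b') (hc : a ≫ f = (yon S).map h ≫ b) (hc' : a' ≫ f = (yon S).map h' ≫ b')
    (u : ↥U.left) (u' : ↥U'.left) (hu : Points.ofPt a u = Points.ofPt a' u') :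
    h.left.QuasiFiniteAt u ↔ h'.left.QuasiFiniteAt u' := by
  have hl : LocallyOfFiniteType h.left := hf a b h ha hb hc
  have hl' : LocallyOfFiniteType h'.left := hf a' b' h' ha' hb' hc'
  -- P = U' ×_X U
  have hrP := ((repWith_iff _ _).1 ha').1
  have sqP := hrP.isPullback' a
  obtain ⟨p, hp1, hp2⟩ := exists_point_of_ofPt_eq sqP u' u hu.symm
  have e1 : Etale (hrP.snd a).left := ((repWith_iff _ _).1 ha').2 _ _ _ sqP
  have e2 : Etale (hrP.fst' a).left := ((repWith_iff _ _).1 ha).2 _ _ _ sqP.flip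
  -- Q = V' ×_Y V
  have hrQ := ((repWith_iff _ _).1 hb').1
  have sqQ := hrQ.isPullback' b
  have e3 : Etale (hrQ.snd b).left := ((repWith_iff _ _).1 hb').2 _ _ _ sqQ
  have e4 : Etale (hrQ.fst' b).left := ((repWith_iff _ _).1 hb).2 _ _ _ sqQ.flip
  -- k : P ⟶ Q
  have hk : (yon S).map (hrP.fst' a ≫ h') ≫ b' = (yon S).map (hrP.snd a ≫ h) ≫ b := by
    rw [Functor.map_comp, Functor.map_comp, Category.assoc, Category.assoc, ← hc, ← hc',
      ← Category.assoc, ← Category.assoc, sqP.w]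
  let k := hrQ.lift' (hrP.fst' a ≫ h') (hrP.snd a ≫ h) hk
  have k1 : k ≫ hrQ.fst' b = hrP.fst' a ≫ h' := hrQ.lift'_fst _ _ hk
  have k2 : k ≫ hrQ.snd b = hrP.snd a ≫ h := hrQ.lift'_snd _ _ hk
  have k1' : k.left ≫ (hrQ.fst' b).left = (hrP.fst' a).left ≫ h'.left := by
    rw [← Over.comp_left, k1, Over.comp_left]
  have k2' : k.left ≫ (hrQ.snd b).left = (hrP.snd a).left ≫ h.left := by
    rw [← Over.comp_left, k2, Over.comp_left]
  have r1 : h.left.QuasiFiniteAt u ↔ k.left.QuasiFiniteAt p := by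
    rw [← hp2, ← quasiFiniteAt_etale_comp_iff (hrP.snd a).left h.left p,
      ← quasiFiniteAt_congr k2' p, quasiFiniteAt_comp_etale_iff]
  have r2 : h'.left.QuasiFiniteAt u' ↔ k.left.QuasiFiniteAt p := by
    rw [← hp1, ← quasiFiniteAt_etale_comp_iff (hrP.fst' a).left h'.left p,
      ← quasiFiniteAt_congr k1' p, quasiFiniteAt_comp_etale_iff]
  rw [r1, r2]

/-- Existence of a chart diagram through a point. -/
theorem exists_chart_diagram {X Y : Sp S} (hX : IsAlgSpace X) (hY : IsAlgSpace Y) (f : X ⟶ Y)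
    (x : Points X) :
    ∃ (U V : Over S) (a : (yon S).obj U ⟶ X) (b : (yon S).obj V ⟶ Y) (h : U ⟶ V) (u : ↥U.left),
      RepWith @Etale a ∧ RepWith @Etale b ∧ a ≫ f = (yon S).map h ≫ b ∧ Points.ofPt a u = x := by
  obtain ⟨U, a, ha, has⟩ := hX.atlas
  obtain ⟨u, rfl⟩ := Groth.Agent.Lib.H86AlgSpPoints.ofPt_surjective has x
  obtain ⟨V, b, hb, hbs⟩ := hY.atlas
  obtain ⟨v, hv⟩ := Groth.Agent.Lib.H86AlgSpPoints.ofPt_surjective hbs
    (Points.map f (Points.ofPt a u))
  obtain ⟨P, s, t, p, hs, hsa, hcomm, hsp, htp, hpt⟩ := exists_chart_over f a ha b hb u v hv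
  exact ⟨P, V, _, b, t, p, hsa, hb, hcomm, hpt⟩

/-- **A morphism locally of finite type is locally quasi-finite iff it has relative dimension `0` at every point.** -/
theorem locP_lqf_iff_fibreDimAt {X Y : Sp S} (hX : IsAlgSpace X) (hY : IsAlgSpace Y) (f : X ⟶ Y)
    (hf : LocP @LocallyOfFiniteType f) :
    LocP (@LocallyQuasiFinite ⊓ @LocallyOfFiniteType) f ↔
      ∀ x : Points X, HasAtMor (fun _ _ h u => FlatMor.fibreDimAt h u = 0) f x := by
  constructor
  · intro hq x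
    obtain ⟨U, V, a, b, h, u, ha, hb, hc, hu⟩ := exists_chart_diagram hX hY f x
    have h1 : LocallyQuasiFinite h.left := (hq a b h ha hb hc).1
    have h2 : LocallyOfFiniteType h.left := hf a b h ha hb hc
    exact ⟨U, V, a, b, h, u, ha, hb, hc, hu, (fibreDimAt_eq_zero_iff h.left u).2 (h.left.quasiFiniteAt u)⟩
  · intro hx U' V' a' b' h' ha' hb' hc'
    have hl' : LocallyOfFiniteType h'.left := hf a' b' h' ha' hb' hc'
    refine ⟨?_, hl'⟩
    rw [← Scheme.Hom.quasiFiniteLocus_eq_top_iff]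
    refine top_le_iff.1 fun u' _ => ?_
    obtain ⟨U, V, a, b, h, u, ha, hb, hc, hu, hd⟩ := hx (Points.ofPt a' u')
    have hl : LocallyOfFiniteType h.left := hf a b h ha hb hc
    exact (quasiFiniteAt_chart_indep f hf a b h a' b' h' ha hb ha' hb' hc hc' u u' hu).1
      ((fibreDimAt_eq_zero_iff h.left u).1 hd)

end Groth.Agent.Lib.AlgSpQFAt91
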