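import Mathlib


set_option autoImplicit false

universe u
open CategoryTheory CategoryTheory.Limits AlgebraicGeometry Opposite

namespace Groth.Agent.Lib.MonoLocalSection

/-- In a pullback square over a monomorphism `f`, if the base morphism `g` lifts through `f` then the base change of
`f` is an isomorphism. -/
theorem isIso_snd_of_mono_of_section {C : Type*} [Category C] {P X Y Y' : C} {fst : P ⟶ X}
    {snd : P ⟶ Y'} {f : X ⟶ Y} {g : Y' ⟶ Y} (sq : IsPullback fst snd f g) [Mono f] (s : Y' ⟶ X)
    (hs : s ≫ f = g) : IsIso snd := by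
  have : Mono snd := sq.mono_snd_of_mono
  have hsplit : IsSplitEpi snd :=
    ⟨⟨⟨sq.lift s (𝟙 Y') (by rw [hs, Category.id_comp]), sq.lift_snd _ _ _⟩⟩⟩
  exact isIso_of_mono_of_isSplitEpi snd

/-- A monomorphism of schemes with Zariski-local sections is an isomorphism. -/
theorem isIso_of_mono_of_local_sections {E T : Scheme.{u}} (j : E ⟶ T) [Mono j]
    (H : ∀ t : T, ∃ (T₀ : T.Opens) (_ : t ∈ T₀) (s : T₀.toScheme ⟶ E), s ≫ j = T₀.ι) :
    IsIso j := by
  choose T₀ ht s hs using H
  change MorphismProperty.isomorphisms Scheme j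
  apply IsZariskiLocalAtTarget.of_iSup_eq_top (P := MorphismProperty.isomorphisms Scheme) T₀
  · rw [eq_top_iff]
    intro t _
    exact TopologicalSpace.Opens.mem_iSup.2 ⟨t, ht t⟩
  · intro t
    change IsIso (j ∣_ T₀ t)
    exact isIso_snd_of_mono_of_section (isPullback_morphismRestrict j (T₀ t)).flip (s t) (hs t)

end Groth.Agent.Lib.MonoLocalSection
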