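import Mathlib


set_option autoImplicit false

universe u
open CategoryTheory CategoryTheory.Limits AlgebraicGeometry Opposite

namespace Groth.Agent.Lib.ResidueFactor

/-- A ring map `α : A → B` killing `𝔭` and inverting its complement factors through the residue field of the
localization at `𝔭`. -/
theorem exists_residueField_lift {A L B : Type*} [CommRing A] [CommRing L] [CommRing B] [Algebra A L]
    (𝔭 : Ideal A) [𝔭.IsPrime] [IsLocalization.AtPrime L 𝔭] [IsLocalRing L] (α : A →+* B)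
    (h0 : ∀ a ∈ 𝔭, α a = 0) (h1 : ∀ a, a ∉ 𝔭 → IsUnit (α a)) :
    ∃ β : IsLocalRing.ResidueField L →+* B,
      ∀ a, β (IsLocalRing.residue L (algebraMap A L a)) = α a := by
  have h1' : ∀ y : 𝔭.primeCompl, IsUnit (α y) := fun y => h1 y y.2
  let γ : L →+* B := IsLocalization.lift (M := 𝔭.primeCompl) (S := L) h1'
  have hγ : ∀ a, γ (algebraMap A L a) = α a := fun a => IsLocalization.lift_eq h1' a
  have hkill : ∀ l ∈ IsLocalRing.maximalIdeal L, γ l = 0 := by
    intro l hl
    obtain ⟨⟨x, s⟩, hxs⟩ := IsLocalization.surj 𝔭.primeCompl l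
    have hx : x ∈ 𝔭 := by
      rw [← IsLocalization.AtPrime.to_map_mem_maximal_iff L 𝔭, ← hxs]
      exact Ideal.mul_mem_right _ _ hl
    have h2 : γ l * α s = 0 := by
      rw [← hγ, ← map_mul, hxs, hγ, h0 x hx]
    exact (h1' s).mul_left_eq_zero.mp h2
  refine ⟨Ideal.Quotient.lift (IsLocalRing.maximalIdeal L) γ hkill, fun a => ?_⟩
  change Ideal.Quotient.lift _ γ hkill (Ideal.Quotient.mk _ (algebraMap A L a)) = α a
  rw [Ideal.Quotient.lift_mk, hγ]

end Groth.Agent.Lib.ResidueFactor

namespace Groth.Agent.Lib.ResidueFactor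

/-- `Spec κ(u) ⟶ U` through an affine open neighbourhood. -/
theorem fromSpecResidueField_eq {U : Scheme.{u}} (u : U) {O : U.Opens} (hO : IsAffineOpen O)
    (hu : u ∈ O) :
    U.fromSpecResidueField u = Spec.map (U.evaluation O u hu) ≫ hO.fromSpec := by
  rw [Scheme.fromSpecResidueField, ← hO.fromSpecStalk_eq_fromSpecStalk hu,
    IsAffineOpen.fromSpecStalk, ← Category.assoc, ← Spec.map_comp, Scheme.germ_residue]

/-- A morphism from a reduced scheme which is constant (with value `u`) on an affine open `T₀` factors on `T₀`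
through `Spec κ(u)`. -/
theorem exists_lift_fromSpecResidueField {T U : Scheme.{u}} [IsReduced T] (φ : T ⟶ U) (u : U)
    (T₀ : T.Opens) (hT₀ : IsAffineOpen T₀) (hφ : ∀ t ∈ T₀, φ t = u) :
    ∃ s : T₀.toScheme ⟶ Spec (U.residueField u), s ≫ U.fromSpecResidueField u = T₀.ι ≫ φ := by
  obtain ⟨_, ⟨O, hO, rfl⟩, hu, -⟩ :=
    U.isBasis_affineOpens.exists_subset_of_mem_open (Set.mem_univ u) isOpen_univ
  have e : T₀ ≤ φ ⁻¹ᵁ O := fun t ht => by
    change φ t ∈ O
    rw [hφ t ht]; exact hu
  let := U.presheaf.algebra_section_stalk ⟨u, hu⟩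
  have hloc := hO.isLocalization_stalk ⟨u, hu⟩
  have hmem : ∀ a : Γ(U, O), a ∈ (hO.primeIdealOf ⟨u, hu⟩).asIdeal ↔ u ∉ U.basicOpen a := by
    intro a
    rw [← IsLocalization.AtPrime.to_map_mem_maximal_iff (U.presheaf.stalk u)
      (hO.primeIdealOf ⟨u, hu⟩).asIdeal, IsLocalRing.mem_maximalIdeal, mem_nonunits_iff,
      Scheme.mem_basicOpen _ _ u hu]
    rfl
  obtain ⟨β, hβ⟩ := exists_residueField_lift (L := U.presheaf.stalk u)
    (hO.primeIdealOf ⟨u, hu⟩).asIdeal (φ.appLE O T₀ e).hom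
    (fun a ha => by
      rw [hmem] at ha
      rw [← basicOpen_eq_bot_iff, Scheme.basicOpen_appLE]
      ext t
      simp only [TopologicalSpace.Opens.coe_inf, Set.mem_inter_iff, SetLike.mem_coe,
        TopologicalSpace.Opens.coe_bot, Set.mem_empty_iff_false, iff_false, not_and]
      intro ht ht'
      apply ha
      rw [← hφ t ht]
      exact ht')
    (fun a ha => by
      rw [hmem, not_not] at ha
      apply RingedSpace.isUnit_of_isUnit_germ
      intro t ht
      rw [← RingedSpace.mem_basicOpen _ _ t ht]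
      have : t ∈ T.basicOpen (φ.appLE O T₀ e a) := by
        rw [Scheme.basicOpen_appLE]
        refine ⟨ht, ?_⟩
        change φ t ∈ U.basicOpen a
        rw [hφ t ht]; exact ha
      exact this)
  refine ⟨hT₀.isoSpec.hom ≫ Spec.map (CommRingCat.ofHom β), ?_⟩
  rw [fromSpecResidueField_eq u hO hu, Category.assoc, ← Category.assoc (Spec.map _),
    ← Spec.map_comp]
  have hcomp : U.evaluation O u hu ≫ CommRingCat.ofHom β = φ.appLE O T₀ e := by
    ext a
    exact hβ a
  rw [hcomp, IsAffineOpen.SpecMap_appLE_fromSpec φ hO hT₀ e, ← Category.assoc,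
    IsAffineOpen.isoSpec_hom_fromSpec]

end Groth.Agent.Lib.ResidueFactor
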