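import Groth.Agent.Lib.AlgSpDecentFibre
import Groth.Agent.Lib.ResidueFactor
import Groth.Agent.Lib.MonoLocalSection
import Groth.Agent.Lib.H80DecentPt


set_option autoImplicit false

universe u
open CategoryTheory CategoryTheory.Limits AlgebraicGeometry Opposite
open AlgSp

namespace Groth.Agent.Lib.AlgSpRedFactor
open Groth.Agent.Lib.AlgSpLocP Groth.Agent.Lib.AlgSpBasic Groth.Agent.Lib.AlgSpAtPt
  Groth.Agent.Lib.AlgSpQC Groth.Agent.Lib.AlgSpPoints Groth.Agent.Lib.AlgSpFtPt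
  Groth.Agent.Lib.JacobsonDescent Groth.Agent.Lib.AlgSpJacobson Groth.Agent.Lib.AlgSpDecentFibre

variable {S : Scheme.{u}}

/-- Pointwise version of `eq_of_specializes_of_ofPt_eq`: no specializations inside the fibre of an etale chart over a
point represented by a quasi-compact field point. -/
theorem eq_of_specializes_of_ofPt_eq' {X : Sp S} {U : Over S}
    (a : (yon S).obj U ⟶ X) (ha : RepWith @Etale a) (pt : FieldPt X)
    (hq : RepWith @QuasiCompact pt.toHom) (u u' : ↥U.left) (hpt : Points.ofPt a u = Points.mk pt)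
    (he : Points.ofPt a u = Points.ofPt a u') (hs : u' ⤳ u) : u = u' := by
  by_contra hne
  obtain ⟨O, hO, huO, hfin⟩ := exists_open_finite_fibre a ha pt hq u
  rw [← hpt] at hfin
  set T := O ∩ Points.ofPt a ⁻¹' {Points.ofPt a u} with hT
  let T' : Set ↥U.left := {v | v ∈ T ∧ ∃ w ∈ T, v ⤳ w ∧ v ≠ w}
  have hT'fin : T'.Finite := hfin.subset (fun v hv => hv.1)
  have hT'ne : T'.Nonempty :=
    ⟨u', ⟨hs.mem_open hO huO, he.symm⟩, u, ⟨huO, rfl⟩, hs, fun h => hne h.symm⟩
  let : Preorder ↥U.left := specializationPreorder ↥U.left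
  obtain ⟨v, hvT', hvmax⟩ := hT'fin.exists_maximal hT'ne
  obtain ⟨hvT, w, hwT, hvw, hvne⟩ := hvT'
  obtain ⟨v'', hv''sp, hv''ne, hv''a⟩ := exists_strict_generization a ha v w
    (by rw [hvT.2, hwT.2]) hvw hvne
  have hv''T : v'' ∈ T := ⟨hv''sp.mem_open hO hvT.1, by
    change Points.ofPt a v'' = _
    rw [hv''a]; exact hvT.2⟩
  have hv''T' : v'' ∈ T' := ⟨hv''T, v, hvT, hv''sp, hv''ne⟩
  have h2 : v ⤳ v'' := hvmax hv''T' hv''sp
  exact hv''ne (hv''sp.antisymm h2).eq

/-- A point of the fibre of an etale chart over a point represented by a quasi-compact field point is isolated in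
the fibre. -/
theorem exists_open_inter_fibre_eq_singleton {X : Sp S} {U : Over S}
    (a : (yon S).obj U ⟶ X) (ha : RepWith @Etale a) (pt : FieldPt X)
    (hq : RepWith @QuasiCompact pt.toHom) (u : ↥U.left) (hu : Points.ofPt a u = Points.mk pt) :
    ∃ O : U.left.Opens, u ∈ O ∧ ∀ v ∈ O, Points.ofPt a v = Points.mk pt → v = u := by
  obtain ⟨O₁, hO₁, huO₁, hfin⟩ := exists_open_finite_fibre a ha pt hq u
  set Fb := O₁ ∩ Points.ofPt a ⁻¹' {Points.mk pt} with hFb
  let C : Set ↥U.left := ⋃ v ∈ Fb \ {u}, closure {v}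
  have hC : IsClosed C := (hfin.subset Set.sdiff_subset).isClosed_biUnion (fun _ _ => isClosed_closure)
  have huC : u ∉ C := by
    intro h
    simp only [C, Set.mem_iUnion] at h
    obtain ⟨v, ⟨hvFb, hvne⟩, hv⟩ := h
    have hsp : v ⤳ u := specializes_iff_mem_closure.2 hv
    have : u = v := eq_of_specializes_of_ofPt_eq' a ha pt hq u v hu (hu.trans hvFb.2.symm) hsp
    exact hvne this.symm
  refine ⟨⟨O₁ \ C, hO₁.sdiff hC⟩, ⟨huO₁, huC⟩, fun v hv hvpt => ?_⟩
  by_contra hne
  apply hv.2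
  simp only [C, Set.mem_iUnion]
  exact ⟨v, ⟨⟨hv.1, hvpt⟩, hne⟩, subset_closure rfl⟩

/-- Key chart-level statement: for a reduced scheme `T` mapping through an etale chart `U` to the point represented by
a quasi-compact monomorphism from the spectrum of a field, the base change of the point to `T` is an isomorphism. -/
theorem isIso_snd_of_reduced {X : Sp S} (pt : FieldPt X) (hm : Mono pt.toHom)
    (hq : RepWith @QuasiCompact pt.toHom) {U T : Over S} (a : (yon S).obj U ⟶ X)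
    (ha : RepWith @Etale a) (φ : T ⟶ U) [IsReduced T.left]
    (hc : ∀ t : ↥T.left, Points.ofPt a (φ.left t) = Points.mk pt) :
    IsIso (hq.rep.snd ((yon S).map φ ≫ a)) := by
  have hmono : Mono (hq.rep.snd ((yon S).map φ ≫ a)).left :=
    (repWith_mono_of_mono hq.rep).property_snd ((yon S).map φ ≫ a)
  have hiso : IsIso (hq.rep.snd ((yon S).map φ ≫ a)).left := by
    apply Groth.Agent.Lib.MonoLocalSection.isIso_of_mono_of_local_sections
    intro t
    obtain ⟨O, huO, hO⟩ := exists_open_inter_fibre_eq_singleton a ha pt hq (φ.left t) (hc t)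
    obtain ⟨_, ⟨(T₀ : T.left.Opens), hT₀, rfl⟩, htT₀, hsub⟩ :=
      T.left.isBasis_affineOpens.exists_subset_of_mem_open
        (show t ∈ (φ.left ⁻¹ᵁ O : Set ↥T.left) from huO) (φ.left ⁻¹ᵁ O).isOpen
    have hφ : ∀ t' ∈ T₀, φ.left t' = φ.left t := fun t' ht' => hO _ (hsub ht') (hc t')
    obtain ⟨s₀, hs₀⟩ := Groth.Agent.Lib.ResidueFactor.exists_lift_fromSpecResidueField φ.left
      (φ.left t) T₀ hT₀ hφ
    obtain ⟨l, hl⟩ := Groth.Agent.Lib.H80DecentPt.exists_factor_of_mk_eq pt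
      (FieldPt.ofPt a (φ.left t)) hm hq.rep (hc t)
    let ιT₀ : Over.mk (T₀.ι ≫ T.hom) ⟶ T := Over.homMk T₀.ι rfl
    let s₀' : Over.mk (T₀.ι ≫ T.hom) ⟶ (FieldPt.ofPt a (φ.left t)).pt :=
      Over.homMk s₀ (by
        change s₀ ≫ (U.left.fromSpecResidueField (φ.left t) ≫ U.hom) = T₀.ι ≫ T.hom
        rw [← Category.assoc, hs₀, Category.assoc, Over.w φ])
    let iκ : (FieldPt.ofPt a (φ.left t)).pt ⟶ U :=
      Over.homMk (U.left.fromSpecResidueField (φ.left t)) rfl
    have key : s₀' ≫ iκ = ιT₀ ≫ φ := Over.OverMorphism.ext hs₀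
    have hi : (yon S).map (s₀' ≫ l) ≫ pt.toHom = (yon S).map ιT₀ ≫ (yon S).map φ ≫ a := by
      rw [Functor.map_comp, Category.assoc, ← hl, FieldPt.toHom_ofPt, ← Category.assoc,
        ← Functor.map_comp]
      change (yon S).map (s₀' ≫ iκ) ≫ a = _
      rw [key, Functor.map_comp, Category.assoc]
    refine ⟨T₀, htT₀, (hq.rep.lift' (s₀' ≫ l) ιT₀ hi).left, ?_⟩
    rw [← Over.comp_left, hq.rep.lift'_snd]
    rfl
  have : IsIso ((Over.forget S).map (hq.rep.snd ((yon S).map φ ≫ a))) := hiso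
  exact isIso_of_reflects_iso _ (Over.forget S)

end Groth.Agent.Lib.AlgSpRedFactor
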