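import Groth.Agent.Lib.AlgSpRedFactor
import Groth.Agent.Lib.AlgSpFppfSingle2
import Groth.Agent.Lib.AlgSpFlatPt3
import Groth.Agent.Lib.H86AlgSpPoints


set_option autoImplicit false

universe u
open CategoryTheory CategoryTheory.Limits AlgebraicGeometry Opposite
open AlgSp

namespace Groth.Agent.Lib.AlgSpRedFactor
open Groth.Agent.Lib.AlgSpLocP Groth.Agent.Lib.AlgSpBasic Groth.Agent.Lib.AlgSpAtPt
  Groth.Agent.Lib.AlgSpQC Groth.Agent.Lib.AlgSpPoints Groth.Agent.Lib.AlgSpFtPt
  Groth.Agent.Lib.AlgSpFppfSingle Groth.Agent.Lib.AlgSpFlatPt Groth.Agent.Lib.AlgSpFpqc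

variable {S : Scheme.{u}}

/-- A representable etale morphism is `LocP` locally of finite presentation. -/
theorem locP_lfp_of_repWith_etale {X Z : Sp S} (hX : IsAlgSpace X) (a : X ⟶ Z)
    (ha : RepWith @Etale a) : LocP @LocallyOfFinitePresentation a :=
  locP_of_repWith @LocallyOfFinitePresentation (fun _ _ _ l w hl hw => by
      have : Etale l := hl
      have : LocallyOfFinitePresentation w := hw
      exact (inferInstance : LocallyOfFinitePresentation (l ≫ w)))
    (fun _ a => hX.representable_from_yon a)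
    (repWith_mono (fun _ _ f hf => by
      have : Etale f := hf
      exact (inferInstance : LocallyOfFinitePresentation f)) ha)

/-- Stacks 0H1R-like: a morphism from a reduced algebraic space whose image is a single point represented by a
quasi-compact monomorphism from the spectrum of a field factors through that field point. -/
theorem exists_factor_of_reduced {Y X : Sp S} (hY : IsAlgSpace Y) (hX : IsAlgSpace X) (f : Y ⟶ X)
    (pt : FieldPt X) (hm : Mono pt.toHom) (hq : RepWith @QuasiCompact pt.toHom)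
    (hYr : IsReducedSp Y) (hf : ∀ y : Points Y, Points.map f y = Points.mk pt) :
    ∃ g : Y ⟶ (yon S).obj pt.pt, g ≫ pt.toHom = f := by
  obtain ⟨V, r, hre, hrs, hV⟩ := hYr
  obtain ⟨U, a, hae, has⟩ := hX.atlas
  have sqT := hae.rep.isPullback' (r ≫ f)
  have hψe : Etale (hae.rep.snd (r ≫ f)).left := hae.property_snd _
  have hψs : Surjective (hae.rep.snd (r ≫ f)).left :=
    has.property _ _ _ (hae.rep.isPullback (r ≫ f))
  have : IsReduced V.left := hV
  have hTred : IsReduced (hae.rep.pullback (r ≫ f)).left :=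
    Groth.Agent.Lib.H69SchReduced.isReduced_of_smooth (hae.rep.snd (r ≫ f)).left
  have hc : ∀ t : ↥(hae.rep.pullback (r ≫ f)).left,
      Points.ofPt a ((hae.rep.fst' (r ≫ f)).left t) = Points.mk pt := by
    intro t
    rw [← ofPt_yon_map_comp, sqT.w, ← Category.assoc, ← Points.map_ofPt]
    exact hf _
  have hiso := isIso_snd_of_reduced pt hm hq a hae (hae.rep.fst' (r ≫ f)) hc
  have sqE := hq.rep.isPullback' ((yon S).map (hae.rep.fst' (r ≫ f)) ≫ a)
  have hgT : (inv ((yon S).map (hq.rep.snd ((yon S).map (hae.rep.fst' (r ≫ f)) ≫ a))) ≫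
      (yon S).map (hq.rep.fst' ((yon S).map (hae.rep.fst' (r ≫ f)) ≫ a))) ≫ pt.toHom =
      ((yon S).map (hae.rep.snd (r ≫ f)) ≫ r) ≫ f := by
    rw [Category.assoc, sqE.w, IsIso.inv_hom_id_assoc, sqT.w, Category.assoc]
  have hce : RepWith @Etale ((yon S).map (hae.rep.snd (r ≫ f)) ≫ r) :=
    (RepWith @Etale).comp_mem _ _ ((repWith_yon_map_iff _ _).2 hψe) hre
  have hcs : RepWith @Surjective ((yon S).map (hae.rep.snd (r ≫ f)) ≫ r) :=
    (RepWith @Surjective).comp_mem _ _ ((repWith_yon_map_iff _ _).2 hψs) hrs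
  have sqY := IsPullback.of_hasPullback f pt.toHom
  have hY' : IsAlgSpace (pullback f pt.toHom) :=
    Groth.Agent.Lib.AlgSpFibre.isAlgSpace_of_isPullback hX.diag hY (IsAlgSpace.yon_obj pt.pt) sqY
  have : Mono pt.toHom := hm
  have : Mono (pullback.fst f pt.toHom) := inferInstance
  have href := hasFpqcRefinement_of_fppf_surjective (IsAlgSpace.yon_obj _) hY
    (locP_flat_of_repWith_etale (IsAlgSpace.yon_obj _) _ hce)
    (locP_lfp_of_repWith_etale (IsAlgSpace.yon_obj _) _ hce)
    (Groth.Agent.Lib.H86AlgSpPoints.map_surjective_of_repWith hcs)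
  have hπ : IsIso (pullback.fst f pt.toHom) :=
    isIso_of_hasFpqcRefinement (ι := PUnit.{u+1}) hY' hY.diag href
      (fun _ => IsPullback.of_hasPullback _ _)
      (fun _ => isIso_snd_of_mono_of_section (IsPullback.of_hasPullback _ _)
        (pullback.lift _ _ hgT.symm) (pullback.lift_fst _ _ _))
  exact ⟨inv (pullback.fst f pt.toHom) ≫ pullback.snd f pt.toHom, by
    rw [Category.assoc, ← pullback.condition, IsIso.inv_hom_id_assoc]⟩

end Groth.Agent.Lib.AlgSpRedFactor
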