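import Groth.Prelude
import Groth.Agent.Lib.AlgSpFppfSingle3
import Groth.Agent.Lib.H80DecentPt
import Groth.Agent.Lib.H69AlgSpLocST
import Groth.Agent.Lib.AlgSpFibre
import Groth.Agent.Lib.AlgSpPoints
import Groth.Agent.Lib.AlgSpFpqcIso
import Groth.Agent.Lib.AlgSpFppfCover
import Groth.Agent.Lib.AlgSpDecentSpec
import Groth.Agent.Lib.AlgSpAtPt
import Groth.Agent.Lib.ResidueFactor
import Groth.Agent.Lib.H69SchReduced
import Groth.Agent.Lib.AlgSpQC
import Groth.Agent.Lib.SpectralDisjointCover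

set_option autoImplicit false
universe u
open CategoryTheory CategoryTheory.Limits AlgebraicGeometry Topology TopologicalSpace Opposite
open AlgSp
open Groth.Agent.Lib.AlgSpBasic Groth.Agent.Lib.AlgSpPoints Groth.Agent.Lib.H80DecentPt

namespace Groth.Agent.Lib.AlgSpRedFactorNoeth
open Groth.Agent.Lib.SpectralDisjointCover

variable {S : Scheme.{u}}

/-- A field-valued point whose class lies in the image of a monomorphism of algebraic spaces factors through it. -/
theorem exists_lift_fieldPt_of_mono {X Z : Sp S} (hX : IsAlgSpace X) (hZ : IsAlgSpace Z) (i : Z ⟶ X)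
    [Mono i] (P : FieldPt X) (hP : Points.mk P ∈ Set.range (Points.map i)) :
    ∃ l : (yon S).obj P.pt ⟶ Z, l ≫ i = P.toHom := by
  obtain ⟨z, hz⟩ := hP
  have sq := IsPullback.of_hasPullback P.toHom i
  have hW : IsAlgSpace (pullback P.toHom i) :=
    Groth.Agent.Lib.AlgSpFibre.isAlgSpace_of_isPullback hX.diag (IsAlgSpace.yon_obj P.pt) hZ sq
  obtain ⟨w, -, -⟩ := exists_point_of_isPullback sq
    (Points.ofScheme P.pt (IsLocalRing.closedPoint P.K)) z
    (by rw [← Points.ofPt_eq_map_ofScheme, Points.ofPt_toHom, hz])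
  have hne : Nonempty (Points (pullback P.toHom i)) := ⟨w⟩
  have hmono : Mono (pullback.fst P.toHom i) := sq.mono_fst_of_mono
  have hiso : IsIso (pullback.fst P.toHom i) :=
    Groth.Agent.Lib.AlgSpFppfSingle.isIso_of_mono_of_fppf_fieldPt hW (IsAlgSpace.yon_obj P.pt)
      (pullback.fst P.toHom i) P.K P.str (𝟙 _)
      (Groth.Agent.Lib.H69AlgSpLocST.locP_id (fun _ _ l hl => by have := hl; infer_instance)
        (IsAlgSpace.yon_obj P.pt))
      (Groth.Agent.Lib.H69AlgSpLocST.locP_id (fun _ _ l hl => by have := hl; infer_instance)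
        (IsAlgSpace.yon_obj P.pt))
      (fun y => ⟨y, Points.map_id y⟩)
  refine ⟨inv (pullback.fst P.toHom i) ≫ pullback.snd P.toHom i, ?_⟩
  rw [Category.assoc, ← sq.w, IsIso.inv_hom_id_assoc]

open Groth.Agent.Lib.AlgSpAtPt Groth.Agent.Lib.AlgSpQC in
/-- Local factorization: around every point of a reduced scheme `T'` mapping to the fibre of a locally Noetherian etale
chart `U` of `X` over `x`, the morphism to `X` factors through a monomorphism `i : Z ⟶ X` whose image contains `x`. -/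
theorem exists_local_lift {X Z : Sp S} (hX : IsAlgSpace X) (hZ : IsAlgSpace Z) (i : Z ⟶ X) [Mono i]
    (x : Points X) (hx : x ∈ Set.range (Points.map i)) {U T' : Over S} [IsLocallyNoetherian U.left]
    [IsReduced T'.left] (a : (yon S).obj U ⟶ X) (hae : RepWith @Etale a) (φ : T' ⟶ U)
    (hφ : ∀ t : ↥T'.left, Points.ofPt a (φ.left t) = x) (t : ↥T'.left) :
    ∃ (T₀ : T'.left.Opens) (_ : t ∈ T₀) (l : (yon S).obj (opensOver T' T₀) ⟶ Z),
      l ≫ i = (yon S).map (opensOverι T' T₀ ≫ φ) ≫ a := by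
  -- affine opens
  obtain ⟨_, ⟨(O : U.left.Opens), hO, rfl⟩, huO, -⟩ :=
    U.left.isBasis_affineOpens.exists_subset_of_mem_open (Set.mem_univ (φ.left t)) isOpen_univ
  obtain ⟨_, ⟨(T₁ : T'.left.Opens), hT₁, rfl⟩, htT₁, hT₁O⟩ :=
    T'.left.isBasis_affineOpens.exists_subset_of_mem_open
      (show t ∈ (φ.left ⁻¹ᵁ O : Set ↥T'.left) from huO) (φ.left ⁻¹ᵁ O).2
  have hT₁aff : IsAffine T₁.toScheme := hT₁
  have hopen := isOpen_fibre_of_no_specialization (T₁.ι ≫ φ.left) O hO
    (fun t' => hT₁O t'.2) {u' | Points.ofPt a u' = x} (fun t' => hφ _)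
    (fun u' hu' u'' hu'' hs =>
      (Groth.Agent.Lib.AlgSpDecentSpec.eq_of_specializes_of_isLocallyNoetherian a hae u'' u'
        (hu''.trans hu'.symm) hs).symm) (φ.left t)
  -- the open subset of `T'` where `φ` is constantly `φ t`
  have hV' : IsOpen (T₁.ι '' ((T₁.ι ≫ φ.left) ⁻¹' {φ.left t})) :=
    T₁.ι.isOpenEmbedding.isOpenMap _ hopen
  have htV' : t ∈ T₁.ι '' ((T₁.ι ≫ φ.left) ⁻¹' {φ.left t}) := ⟨⟨t, htT₁⟩, rfl, rfl⟩
  obtain ⟨_, ⟨(T₀ : T'.left.Opens), hT₀, rfl⟩, htT₀, hT₀V⟩ :=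
    T'.left.isBasis_affineOpens.exists_subset_of_mem_open htV' hV'
  have hconst : ∀ t' ∈ T₀, φ.left t' = φ.left t := by
    intro t' ht'
    obtain ⟨t₁, ht₁, rfl⟩ := hT₀V ht'
    exact ht₁
  obtain ⟨s, hs⟩ := Groth.Agent.Lib.ResidueFactor.exists_lift_fromSpecResidueField φ.left (φ.left t)
    T₀ hT₀ hconst
  -- the point `Spec κ(u) ⟶ X` lifts to `Z`
  obtain ⟨l₀, hl₀⟩ := exists_lift_fieldPt_of_mono hX hZ i (FieldPt.ofPt a (φ.left t))
    (by
      have : Points.mk (FieldPt.ofPt a (φ.left t)) = x := hφ t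
      rw [this]; exact hx)
  rw [FieldPt.toHom_ofPt] at hl₀
  have hsw : s ≫ (FieldPt.ofPt a (φ.left t)).str = (opensOver T' T₀).hom := by
    change s ≫ U.left.fromSpecResidueField (φ.left t) ≫ U.hom = T₀.ι ≫ T'.hom
    rw [← Category.assoc, hs, Category.assoc, Over.w φ]
  let s' : opensOver T' T₀ ⟶ (FieldPt.ofPt a (φ.left t)).pt := Over.homMk s hsw
  refine ⟨T₀, htT₀, (yon S).map s' ≫ l₀, ?_⟩
  rw [Category.assoc, hl₀, ← Category.assoc, ← Functor.map_comp]
  congr 2
  exact Over.OverMorphism.ext hs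

open Groth.Agent.Lib.AlgSpAtPt Groth.Agent.Lib.AlgSpQC Groth.Agent.Lib.AlgSpFpqc in
/-- Stacks 0H1S-like: a morphism from a reduced algebraic space to a locally Noetherian one whose image is one point
`x` factors through any monomorphism `i : Z ⟶ X` of algebraic spaces whose image contains `x`. -/
theorem exists_factor_of_reduced_of_locNoeth {Y X Z : Sp S} (hY : IsAlgSpace Y) (hX : IsAlgSpace X)
    (hZ : IsAlgSpace Z) (f : Y ⟶ X) (x : Points X) (hf : ∀ y : Points Y, Points.map f y = x)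
    (hYr : IsReducedSp Y) (hXN : IsLocNoethSp X) (i : Z ⟶ X) [Mono i]
    (hx : x ∈ Set.range (Points.map i)) : ∃ g : Y ⟶ Z, g ≫ i = f := by
  obtain ⟨T, c, hce, hcs, hTr⟩ := hYr
  obtain ⟨U, a, hae, has, hUN⟩ := hXN
  have : IsLocallyNoetherian U.left := hUN
  have : IsReduced T.left := hTr
  -- refine the atlas of `Y` so that it maps to `U`
  have sq' := hae.rep.isPullback' (c ≫ f)
  have hσe : Etale (hae.rep.snd (c ≫ f)).left := hae.property_snd _
  have hσs : Surjective (hae.rep.snd (c ≫ f)).left := has.property _ _ _ sq'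
  have hT'r : IsReduced (hae.rep.pullback (c ≫ f)).left :=
    Groth.Agent.Lib.H69SchReduced.isReduced_of_smooth (hae.rep.snd (c ≫ f)).left
  have hc'e : RepWith @Etale ((yon S).map (hae.rep.snd (c ≫ f)) ≫ c) :=
    MorphismProperty.comp_mem _ _ _ ((repWith_yon_map_iff _ _).2 hσe) hce
  have hφ : ∀ t : ↥(hae.rep.pullback (c ≫ f)).left,
      Points.ofPt a ((hae.rep.fst' (c ≫ f)).left t) = x := by
    intro t
    rw [← ofPt_yon_map_comp, sq'.w, ← Category.assoc]
    exact hf (Points.ofPt ((yon S).map (hae.rep.snd (c ≫ f)) ≫ c) t)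
  -- the fibre product
  have sqW := IsPullback.of_hasPullback f i
  have hW : IsAlgSpace (pullback f i) :=
    Groth.Agent.Lib.AlgSpFibre.isAlgSpace_of_isPullback hX.diag hY hZ sqW
  have hmono : Mono (pullback.fst f i) := sqW.mono_fst_of_mono
  choose T₀ htT₀ l hl using exists_local_lift hX hZ i x hx a hae (hae.rep.fst' (c ≫ f)) hφ
  have hiso : IsIso (pullback.fst f i) := by
    refine isIso_of_hasFpqcRefinement hW hY.diag
      (Yi := fun t => (yon S).obj (opensOver (hae.rep.pullback (c ≫ f)) (T₀ t)))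
      (g := fun t => (yon S).map (opensOverι _ (T₀ t)) ≫ (yon S).map (hae.rep.snd (c ≫ f)) ≫ c)
      (hasFpqcRefinement_of_etale_charts hY
        (fun t => MorphismProperty.comp_mem _ _ _ (repWith_etale_opensOverι _ _) hc'e) ?_)
      (fun t => IsPullback.of_hasPullback (pullback.fst f i) _) (fun t => ?_)
    · intro y
      obtain ⟨t₀, rfl⟩ := surjective_ofPt_of_repWith_surjective hcs y
      obtain ⟨t, rfl⟩ := hσs.surj t₀
      refine ⟨t, Points.ofScheme _ ⟨t, htT₀ t⟩, ?_⟩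
      rw [← Points.ofPt_eq_map_ofScheme, ofPt_yon_map_comp, ofPt_yon_map_comp]
      rfl
    · refine Groth.Agent.Lib.AlgSpFppfSingle.isIso_snd_of_mono_of_section
        (IsPullback.of_hasPullback (pullback.fst f i) _)
        (sqW.lift ((yon S).map (opensOverι _ (T₀ t)) ≫ (yon S).map (hae.rep.snd (c ≫ f)) ≫ c) (l t) ?_)
        (sqW.lift_fst _ _ _)
      rw [hl t, Functor.map_comp, Category.assoc, Category.assoc, Category.assoc, sq'.w]
  refine ⟨inv (pullback.fst f i) ≫ pullback.snd f i, ?_⟩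
  rw [Category.assoc, ← sqW.w, IsIso.inv_hom_id_assoc]

end Groth.Agent.Lib.AlgSpRedFactorNoeth
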