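import Groth.Agent.Lib.AlgSpOnePt
import Groth.Agent.Lib.H86AlgSpPoints


set_option autoImplicit false

universe u
open CategoryTheory CategoryTheory.Limits AlgebraicGeometry Opposite
open AlgSp

namespace Groth.Agent.Lib.AlgSpRedLift
open Groth.Agent.Lib.AlgSpLocP Groth.Agent.Lib.AlgSpBasic
  Groth.Agent.Lib.AlgSpQC Groth.Agent.Lib.AlgSpPoints Groth.Agent.Lib.AlgSpOnePt

variable {S : Scheme.{u}}

/-- A morphism from a reduced sheaf factors through any closed subspace that is surjective on points (e.g. the
reduction of the target). -/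
theorem exists_lift_of_reduced {Y X' Z : Sp S} (hY : IsReducedSp Y) (f' : Y ⟶ X') (i : Z ⟶ X')
    (hi : RepWith @IsClosedImmersion i) (hr : Function.Surjective (Points.map i)) :
    ∃ g : Y ⟶ Z, g ≫ i = f' := by
  obtain ⟨V, c, hce, hcs, hV⟩ := hY
  have : IsReduced V.left := hV
  have sq := IsPullback.of_hasPullback f' i
  have hπ : RepWith @IsClosedImmersion (pullback.fst f' i) := repWith_fst_of_isPullback _ sq hi
  have hπs : IsSurjectiveMor (pullback.fst f' i) :=
    isSurjectiveMor_of_isPullback sq.flip hr
  have sqW := hπ.rep.isPullback c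
  have hci : IsClosedImmersion (hπ.rep.snd c).left := hπ.property_snd c
  have hsurj : Surjective (hπ.rep.snd c).left := by
    have h2 : IsSurjectiveMor ((yon S).map (hπ.rep.snd c)) :=
      isSurjectiveMor_of_isPullback sqW hπs
    exact ⟨(surjective_map_yon_map_iff (φ := hπ.rep.snd c)).1 h2⟩
  have hiso : IsIso (hπ.rep.snd c).left := isIso_of_isClosedImmersion_of_surjective _
  have hπiso : IsIso (pullback.fst f' i) := isIso_of_isPullback_chart hπ.rep hce hcs sqW hiso
  exact ⟨inv (pullback.fst f' i) ≫ pullback.snd f' i, by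
    rw [Category.assoc, ← pullback.condition, IsIso.inv_hom_id_assoc]⟩

/-- A closed immersion followed by an integral morphism is integral. -/
theorem isIntegralMor_comp_closedImmersion {Z X' X : Sp S} (i : Z ⟶ X')
    (hi : RepWith @IsClosedImmersion i) (ν : X' ⟶ X) (hν : IsIntegralMor ν) :
    IsIntegralMor (i ≫ ν) := by
  intro T hT g
  obtain ⟨W, j, fst, sq, hW, hj⟩ := hν hT g
  have sq' := hi.rep.isPullback fst
  have hci : IsClosedImmersion (hi.rep.snd fst).left := hi.property_snd fst
  have : IsAffine W.left := hW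
  have : IsIntegralHom j.left := hj
  refine ⟨hi.rep.pullback fst, hi.rep.snd fst ≫ j, hi.rep.fst fst, ?_, ?_, ?_⟩
  · rw [Functor.map_comp]
    exact sq'.paste_vert sq
  · exact isAffine_of_isAffineHom (hi.rep.snd fst).left
  · rw [Over.comp_left]
    infer_instance

end Groth.Agent.Lib.AlgSpRedLift
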