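import Groth.Agent.S1240
import Groth.Agent.Lib.H86FibDimBC
import Groth.Agent.Lib.AlgSpQFAt91
import Groth.Agent.Lib.AlgSpQC
import Groth.Agent.Lib.H86AlgSpSub
import Groth.Agent.Lib.AlgSpAffineSpace
import Groth.Agent.Lib.AlgSpValuative

/-!
# Relative dimension of a flat morphism of algebraic spaces is bounded on a dense open of the base
-/

set_option autoImplicit false
set_option linter.style.haveILetI false
universe u
open CategoryTheory CategoryTheory.Limits AlgebraicGeometry Opposite

namespace Groth.Agent.Lib.AlgSpRelDimDense91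

open AlgSp Groth.Agent.Lib.AlgSpBasic Groth.Agent.Lib.AlgSpPoints

variable {S : Scheme.{u}}

/-- The range of a quasi-compact open immersion of schemes is retrocompact. -/
theorem isRetrocompact_range {W T : Scheme.{u}} (g : W ⟶ T) [QuasiCompact g] :
    IsRetrocompact (Set.range g) := by
  intro U hUc hUo
  rw [← Set.image_preimage_eq_range_inter]
  exact (QuasiCompact.isCompact_preimage (f := g) U hUo hUc).image g.continuous

theorem relDim_le_of_dense {X Y V P : Sp S} (hX : IsAlgSpace X) (hY : IsAlgSpace Y)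
    (hVs : IsAlgSpace V) (hP : IsAlgSpace P)
    (f : X ⟶ Y) (j : V ⟶ Y) (d : ℕ) (hf1 : LocP @Flat f) (hf2 : LocP @LocallyOfFiniteType f)
    (hj1 : RepWith @IsOpenImmersion j) (hj2 : Dense (Set.range (Points.map j)))
    (fst : P ⟶ X) (snd : P ⟶ V) (sq : IsPullback fst snd f j)
    (hV : ∀ x, HasAtMor (fun _ _ h u => FlatMor.fibreDimAt h u ≤ (d : WithBot ℕ∞)) snd x)
    (h : LocP @LocallyOfFinitePresentation f ∨ IsQuasiCompactMor j) (x : Points X) :
    HasAtMor (fun _ _ h u => FlatMor.fibreDimAt h u ≤ (d : WithBot ℕ∞)) f x := by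
  obtain ⟨U, V', a, b, h', u, ha, hb, hc, hu⟩ :=
    Groth.Agent.Lib.AlgSpQFAt91.exists_chart_diagram hX hY f x
  refine ⟨U, V', a, b, h', u, ha, hb, hc, hu, ?_⟩
  haveI : Flat h'.left := hf1 a b h' ha hb hc
  haveI : LocallyOfFiniteType h'.left := hf2 a b h' ha hb hc
  have hjo : IsOpen (Set.range (Points.map j)) :=
    (Groth.Agent.Lib.AlgSpAffineSpace.isOpenEmbedding_map_of_repWith_isOpenImmersion hj1).isOpen_range
  have hOo : IsOpen (Points.ofPt b ⁻¹' Set.range (Points.map j)) :=
    (Points.continuous_ofPt b).isOpen_preimage _ hjo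
  have hOd : Dense (Points.ofPt b ⁻¹' Set.range (Points.map j)) :=
    hj2.preimage (Groth.Agent.Lib.H86AlgSpPoints.isOpenMap_ofPt hb)
  refine Groth.Agent.S1240.result h'.left ⟨_, hOo⟩ hOd d ?_ ?_ u
  · intro u' hu'
    obtain ⟨v, hv⟩ := hu'
    have e1 : Points.map f (Points.ofPt a u') = Points.map j v := by
      rw [Points.map_ofPt, hc, ofPt_yon_map_comp, hv]
    obtain ⟨p, hp1, hp2⟩ := Groth.Agent.Lib.H86AlgSpPoints.exists_of_isPullback sq _ _ e1
    obtain ⟨U'', V'', a'', c'', h'', u'', ha'', hc'', hcomm'', hu'', hd⟩ := hV p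
    rw [Groth.Agent.Lib.H86FibDimBC.fibreDimAt_eq_of_baseChange_charts hX hY hP hVs sq hf2 a b h' ha hb hc
      u' a'' c'' h'' ha'' hc'' hcomm'' u'' (by rw [hu'', hp1])]
    exact hd
  · rcases h with h | h
    · exact Or.inl (h a b h' ha hb hc)
    · right
      have hjq := Groth.Agent.Lib.AlgSpQC.repWith_quasiCompact_of_isQuasiCompactMor hj1.rep h
      have sqb := hj1.rep.isPullback b
      haveI : QuasiCompact (hj1.rep.snd b).left := hjq.property_snd b
      have hr := Groth.Agent.Lib.H86AlgSpSub.range_map_fst_of_isPullback sqb.flip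
      have : (Points.ofPt b ⁻¹' Set.range (Points.map j)) = Set.range (hj1.rep.snd b).left := by
        ext v
        rw [Set.mem_preimage, Groth.Agent.Lib.AlgSpValuative.ofPt_eq_map_schemeHomeo', ← Set.mem_preimage,
          ← hr]
        constructor
        · rintro ⟨w', hw'⟩
          obtain ⟨w, rfl⟩ := (Points.schemeHomeo _).surjective w'
          rw [Points.map_yon_map_apply] at hw'
          exact ⟨w, (Points.schemeHomeo _).injective hw'⟩
        · rintro ⟨w, rfl⟩
          exact ⟨Points.schemeHomeo _ w, Points.map_yon_map_apply _ w⟩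
      change IsRetrocompact (Points.ofPt b ⁻¹' Set.range (Points.map j))
      rw [this]
      exact isRetrocompact_range _

end Groth.Agent.Lib.AlgSpRelDimDense91
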