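import Groth.Agent.Lib.EffDescAffH52

/-!
# Effective descent for quasi-affine schemes (helper52)

* `isPushout_appTop_of_isPullback_of_flat`: flat base change for global sections of a
  quasi-compact quasi-separated scheme over an affine base, in the form of a pushout square.
* `exists_isPushout_invariants`: the algebra part of affine / quasi-affine descent: the ring of
  invariants of the coaction on `Γ(V)`.
* `exists_iso_of_isQuasiAffine`: if `X`, `S` are affine, `V` is quasi-affine and `p` is flat and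
  surjective, then every descent datum on `V` relative to `p` is effective.
-/

set_option autoImplicit false
set_option linter.style.haveILetI false
set_option backward.isDefEq.respectTransparency false
set_option backward.isDefEq.respectTransparency.types false

universe u

open CategoryTheory CategoryTheory.Limits AlgebraicGeometry Opposite

namespace Groth.Agent.Lib.EffDescH52

open Desc

/-- Flat base change of global sections, as a pushout square. -/
theorem isPushout_appTop_of_isPullback_of_flat {X Y S T : Scheme.{u}} {f : T ⟶ S} {g : Y ⟶ X}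
    {iX : X ⟶ S} {iY : Y ⟶ T} (H : IsPullback g iY iX f) [Flat f] [IsAffine S] [IsAffine T]
    [CompactSpace X] [QuasiSeparatedSpace X] :
    IsPushout iX.appTop f.appTop g.appTop iY.appTop := by
  have h1 := isIso_pushoutSection_of_isQuasiSeparated_of_flat_right H (US := ⊤) (UT := ⊤)
    (UX := ⊤) (UY := ⊤) le_top le_top (by simp) (isAffineOpen_top S) (isAffineOpen_top T)
    isCompact_univ isQuasiSeparated_univ
  have h2 := (isIso_pushoutSection_iff H (US := ⊤) (UT := ⊤)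
    (UX := ⊤) (UY := ⊤) le_top le_top (by simp)).mp h1
  have e : ∀ {A B : Scheme.{u}} (k : A ⟶ B) (e : (⊤ : A.Opens) ≤ k ⁻¹ᵁ ⊤),
      k.appLE ⊤ ⊤ e = k.appTop := fun k e => Scheme.Hom.appLE_eq_app k (U := ⊤)
  rw [e, e, e, e] at h2
  exact h2

section Alg

variable {X S : Scheme.{u}} {p : X ⟶ S} (D : SchDD p) [IsAffine X] [IsAffine S] [Flat p]

/-- The algebra part of (quasi-)affine descent: if global sections of `X ×_S V` and
`X ×_S X ×_S V` are the expected tensor products, then `Γ(V)` descends to the ring of invariants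
of the coaction. -/
theorem exists_isPushout_invariants
    (hC : IsPushout p.appTop (D.obj.hom ≫ p).appTop (pullback.fst p (D.obj.hom ≫ p)).appTop
      (pullback.snd p (D.obj.hom ≫ p)).appTop)
    (hQ : IsPushout p.appTop (pullback.fst p (D.obj.hom ≫ p) ≫ p).appTop
      (pullback.fst p (pullback.fst p (D.obj.hom ≫ p) ≫ p)).appTop
      (pullback.snd p (pullback.fst p (D.obj.hom ≫ p) ≫ p)).appTop) :
    ∃ (Bc : CommRingCat.{u}) (α : Γ(S, ⊤) ⟶ Bc) (β : Bc ⟶ Γ(D.obj.left, ⊤)),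
      IsPushout p.appTop α D.obj.hom.appTop β ∧
      β ≫ (act D).appTop = β ≫ (pullback.snd p (D.obj.hom ≫ p)).appTop := by
  classical
  let V := D.obj.left
  let π : V ⟶ X := D.obj.hom
  let P := pullback p (π ≫ p)
  let fstP : P ⟶ X := pullback.fst p (π ≫ p)
  let sndP : P ⟶ V := pullback.snd p (π ≫ p)
  let Q := pullback p (fstP ≫ p)
  let fstQ : Q ⟶ X := pullback.fst p (fstP ≫ p)
  let sndQ : Q ⟶ P := pullback.snd p (fstP ≫ p)
  have hcP : fstP ≫ p = sndP ≫ π ≫ p := pullback.condition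
  have hcQ : fstQ ≫ p = sndQ ≫ fstP ≫ p := pullback.condition
  have hact : act D ≫ π = fstP := act_hom D
  let σ : V ⟶ P := pullback.lift π (𝟙 V) (by simp)
  have hσ1 : σ ≫ fstP = π := pullback.lift_fst _ _ _
  have hσ2 : σ ≫ sndP = 𝟙 V := pullback.lift_snd _ _ _
  have hσ3 : σ ≫ act D = 𝟙 V := lift_act_self D
  have hm₁c : fstQ ≫ p = (sndQ ≫ act D) ≫ π ≫ p := by
    rw [Category.assoc, ← Category.assoc (act D), hact, hcQ]
  have hm₂c : fstQ ≫ p = (sndQ ≫ sndP) ≫ π ≫ p := by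
    rw [Category.assoc, ← hcP, hcQ]
  let m₁ : Q ⟶ P := pullback.lift fstQ (sndQ ≫ act D) hm₁c
  let m₂ : Q ⟶ P := pullback.lift fstQ (sndQ ≫ sndP) hm₂c
  have hm₁a : m₁ ≫ fstP = fstQ := pullback.lift_fst _ _ _
  have hm₁b : m₁ ≫ sndP = sndQ ≫ act D := pullback.lift_snd _ _ _
  have hm₂a : m₂ ≫ fstP = fstQ := pullback.lift_fst _ _ _
  have hm₂b : m₂ ≫ sndP = sndQ ≫ sndP := pullback.lift_snd _ _ _
  have hco : m₁ ≫ act D = m₂ ≫ act D := act_assoc' D fstQ sndQ hm₁c hm₂c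
  -- algebra structures
  letI iSX : Algebra Γ(S, ⊤) Γ(X, ⊤) := p.appTop.hom.toAlgebra
  letI iXV : Algebra Γ(X, ⊤) Γ(V, ⊤) := π.appTop.hom.toAlgebra
  letI iSV : Algebra Γ(S, ⊤) Γ(V, ⊤) := (π ≫ p).appTop.hom.toAlgebra
  letI iXP : Algebra Γ(X, ⊤) Γ(P, ⊤) := fstP.appTop.hom.toAlgebra
  letI iVP : Algebra Γ(V, ⊤) Γ(P, ⊤) := sndP.appTop.hom.toAlgebra
  letI iSP : Algebra Γ(S, ⊤) Γ(P, ⊤) := (fstP ≫ p).appTop.hom.toAlgebra
  letI iXQ : Algebra Γ(X, ⊤) Γ(Q, ⊤) := fstQ.appTop.hom.toAlgebra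
  letI iPQ : Algebra Γ(P, ⊤) Γ(Q, ⊤) := sndQ.appTop.hom.toAlgebra
  letI iSQ : Algebra Γ(S, ⊤) Γ(Q, ⊤) := (fstQ ≫ p).appTop.hom.toAlgebra
  haveI t1 : IsScalarTower Γ(S, ⊤) Γ(X, ⊤) Γ(V, ⊤) := .of_algebraMap_eq fun x => by
    change (π ≫ p).appTop.hom x = π.appTop.hom (p.appTop.hom x)
    exact appTop_comp_apply _ _ _
  haveI t2 : IsScalarTower Γ(S, ⊤) Γ(X, ⊤) Γ(P, ⊤) := .of_algebraMap_eq fun x => by
    change (fstP ≫ p).appTop.hom x = fstP.appTop.hom (p.appTop.hom x)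
    exact appTop_comp_apply _ _ _
  haveI t3 : IsScalarTower Γ(S, ⊤) Γ(V, ⊤) Γ(P, ⊤) := .of_algebraMap_eq fun x => by
    change (fstP ≫ p).appTop.hom x = sndP.appTop.hom ((π ≫ p).appTop.hom x)
    rw [← appTop_comp_apply, hcP]
  haveI t4 : IsScalarTower Γ(S, ⊤) Γ(X, ⊤) Γ(Q, ⊤) := .of_algebraMap_eq fun x => by
    change (fstQ ≫ p).appTop.hom x = fstQ.appTop.hom (p.appTop.hom x)
    exact appTop_comp_apply _ _ _
  haveI t5 : IsScalarTower Γ(S, ⊤) Γ(P, ⊤) Γ(Q, ⊤) := .of_algebraMap_eq fun x => by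
    change (fstQ ≫ p).appTop.hom x = sndQ.appTop.hom ((fstP ≫ p).appTop.hom x)
    rw [← appTop_comp_apply, hcQ]
  haveI hflat : Module.Flat Γ(S, ⊤) Γ(X, ⊤) := p.flat_appTop
  haveI hC' : Algebra.IsPushout Γ(S, ⊤) Γ(X, ⊤) Γ(V, ⊤) Γ(P, ⊤) :=
    Groth.Agent.Lib.DescentAlgH52.algebra_isPushout_of_isPushout hC rfl rfl rfl rfl
  haveI hQ' : Algebra.IsPushout Γ(S, ⊤) Γ(X, ⊤) Γ(P, ⊤) Γ(Q, ⊤) :=
    Groth.Agent.Lib.DescentAlgH52.algebra_isPushout_of_isPushout hQ rfl rfl rfl rfl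
  -- the descended algebra
  have hrA : ∀ x : Γ(S, ⊤), (act D).appTop.hom (algebraMap Γ(S, ⊤) Γ(V, ⊤) x) =
      algebraMap Γ(S, ⊤) Γ(P, ⊤) x := fun x => by
    change (act D).appTop.hom ((π ≫ p).appTop.hom x) = (fstP ≫ p).appTop.hom x
    rw [← appTop_comp_apply, ← Category.assoc, hact]
  let B := Groth.Agent.Lib.DescentAlgH52.invariants (A := Γ(S, ⊤)) (act D).appTop.hom hrA
  have hpush : Algebra.IsPushout Γ(S, ⊤) Γ(X, ⊤) B Γ(V, ⊤) :=
    Groth.Agent.Lib.DescentAlgH52.isPushout_invariants (A := Γ(S, ⊤)) (A' := Γ(X, ⊤))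
      (B' := Γ(V, ⊤)) (C := Γ(P, ⊤)) (Q := Γ(Q, ⊤)) (act D).appTop.hom σ.appTop.hom
      m₁.appTop.hom m₂.appTop.hom
      (fun x => appTop_apply_of_eq hact x)
      (fun x => appTop_apply_of_eq hσ1 x)
      (fun b => appTop_apply_of_eq_id hσ2 b)
      (fun b => appTop_apply_of_eq_id hσ3 b)
      (fun x => appTop_apply_of_eq hm₁a x)
      (fun b => by
        change m₁.appTop.hom (sndP.appTop.hom b) = sndQ.appTop.hom ((act D).appTop.hom b)
        rw [appTop_apply_of_eq hm₁b b, appTop_comp_apply])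
      (fun x => appTop_apply_of_eq hm₂a x)
      (fun b => by
        change m₂.appTop.hom (sndP.appTop.hom b) = sndQ.appTop.hom (sndP.appTop.hom b)
        rw [appTop_apply_of_eq hm₂b b, appTop_comp_apply])
      (fun b => by
        rw [← appTop_comp_apply, ← appTop_comp_apply, hco])
      hrA
  let Bc : CommRingCat.{u} := CommRingCat.of B
  let β : Bc ⟶ Γ(V, ⊤) := CommRingCat.ofHom B.val.toRingHom
  let α : Γ(S, ⊤) ⟶ Bc := CommRingCat.ofHom (algebraMap Γ(S, ⊤) B)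
  have hpo : IsPushout p.appTop α π.appTop β :=
    Groth.Agent.Lib.DescentAlgH52.isPushout_of_algebra_isPushout (R := Γ(S, ⊤)) (A := Γ(X, ⊤))
      (B := Bc) (C := Γ(V, ⊤)) (H := hpush) rfl rfl rfl rfl
  refine ⟨Bc, α, β, hpo, ?_⟩
  ext b
  exact b.2

end Alg

section QAff

variable {X S : Scheme.{u}} {p : X ⟶ S} (D : SchDD p) [IsAffine X] [IsAffine S] [Flat p]
  [Surjective p] [D.obj.left.IsQuasiAffine]

/-- **Effective descent for quasi-affine schemes along a faithfully flat morphism of affine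
schemes.** -/
theorem exists_iso_of_isQuasiAffine : ∃ U : Over S, Nonempty ((toDD p).obj U ≅ D) := by
  classical
  let V := D.obj.left
  let π : V ⟶ X := D.obj.hom
  let P := pullback p (π ≫ p)
  let fstP : P ⟶ X := pullback.fst p (π ≫ p)
  let sndP : P ⟶ V := pullback.snd p (π ≫ p)
  haveI : IsAffineHom p := inferInstance
  haveI : IsAffineHom sndP := MorphismProperty.pullback_snd (P := @IsAffineHom) _ _ inferInstance
  haveI : P.IsQuasiAffine := Scheme.IsQuasiAffine.of_isAffineHom sndP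
  have hC := (isPushout_appTop_of_isPullback_of_flat
    (IsPullback.of_hasPullback p (π ≫ p)).flip).flip
  have hQ := (isPushout_appTop_of_isPullback_of_flat
    (IsPullback.of_hasPullback p (fstP ≫ p)).flip).flip
  obtain ⟨Bc, α, β, hpo, hβ⟩ := exists_isPushout_invariants D hC hQ
  have hpb : IsPullback (Spec.map π.appTop) (Spec.map β) (Spec.map p.appTop) (Spec.map α) :=
    isPullback_SpecMap_of_isPushout p.appTop α π.appTop β hpo
  -- the affine hull `W = Spec Γ(V)` and its descent `W₀ = Spec B`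
  let W : Scheme.{u} := Spec Γ(V, ⊤)
  let W₀ : Scheme.{u} := Spec Bc
  let q : W ⟶ W₀ := Spec.map β
  let wX : W ⟶ X := Spec.map π.appTop ≫ X.isoSpec.inv
  let t : W₀ ⟶ S := Spec.map α ≫ S.isoSpec.inv
  have hW : IsPullback wX q p t := by
    refine IsPullback.of_iso hpb (Iso.refl _) X.isoSpec.symm (Iso.refl _) S.isoSpec.symm
      ?_ ?_ ?_ ?_
    · change Spec.map π.appTop ≫ X.isoSpec.inv = 𝟙 _ ≫ wX
      rw [Category.id_comp]
    · change Spec.map β ≫ 𝟙 _ = 𝟙 _ ≫ q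
      rw [Category.id_comp, Category.comp_id]
    · exact Scheme.isoSpec_inv_naturality p
    · change Spec.map α ≫ S.isoSpec.inv = 𝟙 _ ≫ t
      rw [Category.id_comp]
  let j : V ⟶ W := V.toSpecΓ
  haveI : IsOpenImmersion j := inferInstanceAs (IsOpenImmersion V.toSpecΓ)
  have hjX : j ≫ wX = π := by
    change V.toSpecΓ ≫ Spec.map π.appTop ≫ X.isoSpec.inv = π
    rw [← Scheme.toSpecΓ_naturality_assoc, Scheme.toSpecΓ_isoSpec_inv, Category.comp_id]
  let u : V ⟶ W₀ := j ≫ q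
  have hinv : act D ≫ u = sndP ≫ u := by
    change act D ≫ V.toSpecΓ ≫ Spec.map β = sndP ≫ V.toSpecΓ ≫ Spec.map β
    rw [Scheme.toSpecΓ_naturality_assoc, Scheme.toSpecΓ_naturality_assoc,
      ← Spec.map_comp, ← Spec.map_comp, hβ]
  have heq : ∀ (T : Scheme.{u}) (x₀ x₁ : T ⟶ X) (h : x₀ ≫ p = x₁ ≫ p) (v : Lifts D.obj x₀),
      (D.φ x₀ x₁ h v).1 ≫ u = v.1 ≫ u := by
    intro T x₀ x₁ h v
    rw [φ_eq_lift_act, Category.assoc, hinv, ← Category.assoc]
    congr 1
    exact pullback.lift_snd _ _ _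
  have hπp : π ≫ p = u ≫ t :=
    calc π ≫ p = (j ≫ wX) ≫ p := by rw [hjX]
      _ = j ≫ (wX ≫ p) := Category.assoc _ _ _
      _ = j ≫ (q ≫ t) := by rw [hW.w]
      _ = u ≫ t := (Category.assoc _ _ _).symm
  -- `q` is an fpqc morphism, hence a quotient map
  haveI : Flat q := MorphismProperty.of_isPullback (P := @Flat) hW inferInstance
  haveI : Surjective q := MorphismProperty.of_isPullback (P := @Surjective) hW inferInstance
  haveI : QuasiCompact q := MorphismProperty.of_isPullback (P := @QuasiCompact) hW inferInstance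
  have hquot : Topology.IsQuotientMap q := Flat.isQuotientMap_of_surjective q
  -- the image of `V` in `W` is saturated
  have hsat : ∀ (w : W) (v : V), q w = q (j v) → w ∈ Set.range j := by
    intro w v hwv
    let T := pullback (j ≫ q) q
    let vT : T ⟶ V := pullback.fst (j ≫ q) q
    let wT : T ⟶ W := pullback.snd (j ≫ q) q
    have hT : vT ≫ j ≫ q = wT ≫ q := pullback.condition
    have h : (vT ≫ π) ≫ p = (wT ≫ wX) ≫ p := by
      calc (vT ≫ π) ≫ p = vT ≫ (π ≫ p) := Category.assoc _ _ _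
        _ = vT ≫ (u ≫ t) := by rw [hπp]
        _ = (vT ≫ u) ≫ t := (Category.assoc _ _ _).symm
        _ = (wT ≫ q) ≫ t := by rw [show vT ≫ u = wT ≫ q from hT]
        _ = wT ≫ (q ≫ t) := Category.assoc _ _ _
        _ = wT ≫ (wX ≫ p) := by rw [hW.w]
        _ = (wT ≫ wX) ≫ p := (Category.assoc _ _ _).symm
    let v' := D.φ (vT ≫ π) (wT ≫ wX) h ⟨vT, rfl⟩
    have hv'1 : v'.1 ≫ π = wT ≫ wX := v'.2
    have hv'2 : v'.1 ≫ u = vT ≫ u := heq T _ _ h ⟨vT, rfl⟩
    have hv' : v'.1 ≫ j = wT := by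
      apply hW.hom_ext
      · rw [Category.assoc, hjX, hv'1]
      · exact hv'2.trans hT
    obtain ⟨z, hz1, hz2⟩ := Scheme.Pullback.exists_preimage_pullback (f := j ≫ q) (g := q) v w
      (by rw [Scheme.Hom.comp_apply]; exact hwv.symm)
    refine ⟨v'.1 z, ?_⟩
    rw [← Scheme.Hom.comp_apply, hv']
    exact hz2
  -- the open subscheme `V₀ ⊆ W₀`
  have hpre : q ⁻¹' (q '' Set.range j) = Set.range j := by
    apply Set.Subset.antisymm
    · rintro w ⟨_, ⟨v, rfl⟩, hv⟩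
      exact hsat w v hv.symm
    · exact Set.subset_preimage_image _ _
  have hopen : IsOpen (q '' Set.range j) := by
    rw [← hquot.isOpen_preimage, hpre]
    exact j.isOpenEmbedding.isOpen_range
  let V₀ : W₀.Opens := ⟨q '' Set.range j, hopen⟩
  have hrange : Set.range j = Set.range (pullback.fst q V₀.ι) := by
    rw [IsOpenImmersion.range_pullbackFst]
    change Set.range j = q ⁻¹' (V₀.ι.opensRange : Set W₀)
    rw [Scheme.Opens.opensRange_ι]
    exact hpre.symm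
  let e : V ≅ pullback q V₀.ι := IsOpenImmersion.isoOfRangeEq j (pullback.fst q V₀.ι) hrange
  have he : e.hom ≫ pullback.fst q V₀.ι = j := IsOpenImmersion.isoOfRangeEq_hom_fac _ _ _
  let u₀ : V ⟶ V₀ := e.hom ≫ pullback.snd q V₀.ι
  have hu₀ : u₀ ≫ V₀.ι = u := by
    change (e.hom ≫ pullback.snd q V₀.ι) ≫ V₀.ι = j ≫ q
    rw [Category.assoc, ← pullback.condition, ← Category.assoc, he]
  have sq₁ : IsPullback j u₀ q V₀.ι := by
    refine IsPullback.of_iso (IsPullback.of_hasPullback q V₀.ι) e.symm (Iso.refl _) (Iso.refl _)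
      (Iso.refl _) ?_ ?_ ?_ ?_
    · change pullback.fst q V₀.ι ≫ 𝟙 _ = e.inv ≫ j
      rw [Category.comp_id, ← he, Iso.inv_hom_id_assoc]
    · change pullback.snd q V₀.ι ≫ 𝟙 _ = e.inv ≫ e.hom ≫ pullback.snd q V₀.ι
      rw [Category.comp_id, Iso.inv_hom_id_assoc]
    · simp
    · simp
  have sq : IsPullback π u₀ p (V₀.ι ≫ t) := by
    have := (sq₁.flip.paste_vert hW.flip).flip
    rw [hjX] at this
    exact this
  have heq₀ : ∀ (T : Scheme.{u}) (x₀ x₁ : T ⟶ X) (h : x₀ ≫ p = x₁ ≫ p) (v : Lifts D.obj x₀),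
      (D.φ x₀ x₁ h v).1 ≫ u₀ = v.1 ≫ u₀ := by
    intro T x₀ x₁ h v
    rw [← cancel_mono V₀.ι]
    refine (Category.assoc _ u₀ V₀.ι).trans (Eq.trans ?_ (Category.assoc _ u₀ V₀.ι).symm)
    rw [hu₀]
    exact heq T x₀ x₁ h v
  exact ⟨Over.mk (V₀.ι ≫ t), (IsQuot.mk sq heq₀).nonempty_iso⟩

end QAff

end Groth.Agent.Lib.EffDescH52
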