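import Groth.Agent.Lib.EffDescRestrictH52
import Groth.Agent.Lib.EffDescQAffH52
import Groth.Prelude.Def_MoreMor

/-!
# Descent along universally open fpqc morphisms for ind-quasi-affine schemes (helper52)

* `twist D : X ×_S V ⟶ X ×_S V`, `(x', v) ↦ (π v, a(x', v))`, an involution with
  `twist ≫ snd = act`; hence `act D` is universally open when `p` is.
* `act_mem_image_of_snd_mem`: the saturation `act (snd⁻¹ W₀)` of any subset is stable.
* `exists_iso_of_isIndQuasiAffine`: if `X`, `S` are affine, `p` is faithfully flat and universally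
  open and every quasi-compact open of `V` is quasi-affine, then every descent datum on `V`
  relative to `p` is effective.
-/

set_option autoImplicit false
set_option linter.style.haveILetI false
set_option backward.isDefEq.respectTransparency false
set_option backward.isDefEq.respectTransparency.types false

universe u

open CategoryTheory CategoryTheory.Limits AlgebraicGeometry Opposite

namespace Groth.Agent.Lib.EffDescH52

open Desc

variable {X S : Scheme.{u}} {p : X ⟶ S} (D : SchDD p)

/-- The twist `(x', v) ↦ (π v, a(x', v))`. -/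
noncomputable def twist : pullback p (D.obj.hom ≫ p) ⟶ pullback p (D.obj.hom ≫ p) :=
  pullback.lift (pullback.snd p (D.obj.hom ≫ p) ≫ D.obj.hom) (act D) (by
    rw [← Category.assoc (act D), act_hom, Category.assoc]
    exact pullback.condition.symm)

theorem twist_fst : twist D ≫ pullback.fst p (D.obj.hom ≫ p) =
    pullback.snd p (D.obj.hom ≫ p) ≫ D.obj.hom := pullback.lift_fst _ _ _

theorem twist_snd : twist D ≫ pullback.snd p (D.obj.hom ≫ p) = act D := pullback.lift_snd _ _ _

theorem twist_act : twist D ≫ act D = pullback.snd p (D.obj.hom ≫ p) := by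
  have hid : pullback.lift (pullback.fst p (D.obj.hom ≫ p)) (pullback.snd p (D.obj.hom ≫ p))
      pullback.condition = 𝟙 _ := by
    apply pullback.hom_ext <;> simp
  have h := act_assoc D (pullback.snd p (D.obj.hom ≫ p) ≫ D.obj.hom)
    (pullback.fst p (D.obj.hom ≫ p)) (pullback.snd p (D.obj.hom ≫ p)) pullback.condition
    (by rw [Category.assoc])
  have e1 : twist D = pullback.lift (pullback.snd p (D.obj.hom ≫ p) ≫ D.obj.hom)
      (pullback.lift (pullback.fst p (D.obj.hom ≫ p)) (pullback.snd p (D.obj.hom ≫ p))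
        pullback.condition ≫ act D) (by
        rw [hid, Category.id_comp, ← Category.assoc (act D), act_hom, Category.assoc]
        exact pullback.condition.symm) := by
    apply pullback.hom_ext
    · rw [twist_fst, pullback.lift_fst]
    · rw [twist_snd, pullback.lift_snd, hid, Category.id_comp]
  have e2 : pullback.lift (f := p) (g := D.obj.hom ≫ p)
      (pullback.snd p (D.obj.hom ≫ p) ≫ D.obj.hom)
      (pullback.snd p (D.obj.hom ≫ p)) (Category.assoc _ _ _) =
      pullback.snd p (D.obj.hom ≫ p) ≫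
        pullback.lift (f := p) (g := D.obj.hom ≫ p) D.obj.hom (𝟙 D.obj.left) (by simp) := by
    apply pullback.hom_ext <;> simp
  rw [e1, h, e2, Category.assoc, lift_act_self, Category.comp_id]

theorem twist_twist : twist D ≫ twist D = 𝟙 _ := by
  apply pullback.hom_ext
  · rw [Category.assoc, twist_fst, ← Category.assoc, twist_snd, act_hom, Category.id_comp]
  · rw [Category.assoc, twist_snd, twist_act, Category.id_comp]

instance : IsIso (twist D) := ⟨twist D, twist_twist D, twist_twist D⟩

instance [UniversallyOpen p] : UniversallyOpen (act D) := by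
  rw [← twist_snd]
  haveI : UniversallyOpen (pullback.snd p (D.obj.hom ≫ p)) :=
    MorphismProperty.pullback_snd (P := @UniversallyOpen) _ _ inferInstance
  infer_instance

section Saturation

/-- The saturation `act (snd⁻¹ W₀)` of a set of points of `V` is stable under the action. -/
theorem act_mem_image_of_snd_mem (W₀ : Set D.obj.left) (z : ↥(pullback p (D.obj.hom ≫ p)))
    (hz : pullback.snd p (D.obj.hom ≫ p) z ∈ act D '' (pullback.snd p (D.obj.hom ≫ p) ⁻¹' W₀)) :
    act D z ∈ act D '' (pullback.snd p (D.obj.hom ≫ p) ⁻¹' W₀) := by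
  let π : D.obj.left ⟶ X := D.obj.hom
  let fstP := pullback.fst p (π ≫ p)
  let sndP := pullback.snd p (π ≫ p)
  let fstQ := pullback.fst p (fstP ≫ p)
  let sndQ := pullback.snd p (fstP ≫ p)
  have hcP : fstP ≫ p = sndP ≫ π ≫ p := pullback.condition
  have hcQ : fstQ ≫ p = sndQ ≫ fstP ≫ p := pullback.condition
  have hact : act D ≫ π = fstP := act_hom D
  have hm₁c : fstQ ≫ p = (sndQ ≫ act D) ≫ π ≫ p := by
    rw [Category.assoc, ← Category.assoc (act D), hact, hcQ]
  have hm₂c : fstQ ≫ p = (sndQ ≫ sndP) ≫ π ≫ p := by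
    rw [Category.assoc, ← hcP, hcQ]
  let m₁ := pullback.lift fstQ (sndQ ≫ act D) hm₁c
  let m₂ := pullback.lift fstQ (sndQ ≫ sndP) hm₂c
  have hm₁a : m₁ ≫ fstP = fstQ := pullback.lift_fst _ _ _
  have hm₁b : m₁ ≫ sndP = sndQ ≫ act D := pullback.lift_snd _ _ _
  have hm₂b : m₂ ≫ sndP = sndQ ≫ sndP := pullback.lift_snd _ _ _
  have hco : m₁ ≫ act D = m₂ ≫ act D := act_assoc' D fstQ sndQ hm₁c hm₂c
  -- the square `m₁, sndQ, sndP, act` is a pullback
  have hsq : IsPullback m₁ sndQ sndP (act D) := by
    refine IsPullback.of_right ?_ hm₁b (IsPullback.of_hasPullback p (π ≫ p))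
    rw [hm₁a]
    have : act D ≫ π ≫ p = fstP ≫ p := by rw [← Category.assoc, hact]
    rw [this]
    exact IsPullback.of_hasPullback p (fstP ≫ p)
  obtain ⟨z₀, hz₀, e⟩ := hz
  obtain ⟨y', hy'1, hy'2⟩ := Scheme.Pullback.exists_preimage_pullback (f := sndP) (g := act D)
    z z₀ e.symm
  obtain ⟨y, hy⟩ : ∃ y, y = hsq.isoPullback.inv y' := ⟨_, rfl⟩
  have hy1 : m₁ y = z := by
    rw [hy, ← Scheme.Hom.comp_apply, hsq.isoPullback_inv_fst]
    exact hy'1
  have hy2 : sndQ y = z₀ := by
    rw [hy, ← Scheme.Hom.comp_apply, hsq.isoPullback_inv_snd]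
    exact hy'2
  clear hy
  refine ⟨m₂ y, ?_, ?_⟩
  · change sndP (m₂ y) ∈ W₀
    rw [← Scheme.Hom.comp_apply, hm₂b, Scheme.Hom.comp_apply, hy2]
    exact hz₀
  · rw [← hy1, ← Scheme.Hom.comp_apply, ← Scheme.Hom.comp_apply, hco]

end Saturation

section Core

variable [IsAffine X] [IsAffine S] [Flat p] [Surjective p] [UniversallyOpen p]

/-- **Descent for ind-quasi-affine schemes along a faithfully flat universally open morphism of
affine schemes.** -/
theorem exists_iso_of_isIndQuasiAffine (hV : MoreMor.IsIndQuasiAffine D.obj.left) :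
    ∃ U : Over S, Nonempty ((toDD p).obj U ≅ D) := by
  haveI : QuasiCompact p := inferInstance
  haveI : IsAffineHom p := inferInstance
  haveI : IsAffineHom (pullback.snd p (D.obj.hom ≫ p)) :=
    MorphismProperty.pullback_snd (P := @IsAffineHom) _ _ inferInstance
  apply exists_iso_of_forall_exists_open D
  intro v
  obtain ⟨W₀, hW₀, hvW₀, -⟩ := exists_isAffineOpen_mem_and_subset (x := v) (U := ⊤) trivial
  have hc₀ : IsCompact (pullback.snd p (D.obj.hom ≫ p) ⁻¹' (W₀ : Set D.obj.left)) :=
    (hW₀.preimage (pullback.snd p (D.obj.hom ≫ p))).isCompact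
  have ho₀ : IsOpen (pullback.snd p (D.obj.hom ≫ p) ⁻¹' (W₀ : Set D.obj.left)) :=
    W₀.2.preimage (pullback.snd p (D.obj.hom ≫ p)).continuous
  let E : D.obj.left.Opens :=
    ⟨act D '' (pullback.snd p (D.obj.hom ≫ p) ⁻¹' (W₀ : Set D.obj.left)),
      (act D).isOpenMap _ ho₀⟩
  have hEc : IsCompact (E : Set D.obj.left) := hc₀.image (act D).continuous
  have hinv : ∀ z : ↥(pullback p (D.obj.hom ≫ p)),
      pullback.snd p (D.obj.hom ≫ p) z ∈ E → act D z ∈ E :=
    act_mem_image_of_snd_mem D (W₀ : Set D.obj.left)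
  let σ : D.obj.left ⟶ pullback p (D.obj.hom ≫ p) :=
    pullback.lift D.obj.hom (𝟙 D.obj.left) (by simp)
  have hσ2 : σ ≫ pullback.snd p (D.obj.hom ≫ p) = 𝟙 _ := pullback.lift_snd _ _ _
  have hσ3 : σ ≫ act D = 𝟙 _ := lift_act_self D
  have hvE : v ∈ E := by
    refine ⟨σ v, ?_, ?_⟩
    · change pullback.snd p (D.obj.hom ≫ p) (σ v) ∈ W₀
      rw [← Scheme.Hom.comp_apply, hσ2]
      exact hvW₀
    · rw [← Scheme.Hom.comp_apply, hσ3]
      rfl
  refine ⟨restrictDD D E hinv, restrictHom D E hinv, inferInstance, ⟨⟨v, hvE⟩, rfl⟩, ?_⟩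
  haveI : (restrictDD D E hinv).obj.left.IsQuasiAffine := hV E hEc
  exact exists_iso_of_isQuasiAffine _

end Core

end Groth.Agent.Lib.EffDescH52
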