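import Groth.Agent.Lib.EffDescRepH52

/-!
# Effective descent for schemes: gluing of effective open pieces (helper52)

`exists_iso_of_openCover`: `p : X ⟶ S` fpqc (surjective, flat, quasi-compact), `D : Desc.SchDD p`,
`ζ i : Sec D (U₀ i)` sections (i.e. morphisms of descent data `toDD p (U₀ i) ⟶ D`) whose underlying
morphisms `X ×_S U₀ i ⟶ V` are open immersions jointly covering `V`. Then `D` is effective.
Proof: the functor of sections is a Zariski sheaf, the `secHom (ζ i)` are relatively representable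
open immersions covering it, so it is representable (Mathlib `LocalRepresentability`), and the
universal section is an isomorphism locally on `V`.
`exists_iso_of_forall_exists_open` is the form of S9866.
-/

set_option autoImplicit false
set_option linter.style.haveILetI false
set_option backward.isDefEq.respectTransparency false
set_option backward.isDefEq.respectTransparency.types false

universe u

open CategoryTheory CategoryTheory.Limits AlgebraicGeometry Opposite

namespace Groth.Agent.Lib.EffDescH52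

open Desc

variable {X S : Scheme.{u}} {p : X ⟶ S}

section Main

variable [Surjective p] [Flat p] [QuasiCompact p] {D : SchDD p}

/-- If `ε` is a universal section, every open piece of `D` is the restriction of `ε` to an open of
the representing scheme, and `ε.map` is an isomorphism over it. -/
theorem isIso_pullbackHom_of_universal {U U₀ : Scheme.{u}} (ε : Sec D U)
    (huniv : ∀ {T : Scheme.{u}} (ξ : Sec D T), ∃! g : T ⟶ U, ε.res g = ξ)
    (ζ : Sec D U₀) [IsOpenImmersion ζ.map] :
    IsIso (pullback.snd ε.map ζ.map) := by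
  obtain ⟨g₀, hg₀⟩ := exists_locusMap ε ζ
  -- `g₀` is an isomorphism
  obtain ⟨m, hm, -⟩ := huniv ζ
  have hsub : Set.range m ⊆ (locus ε ζ : Set ↥U) :=
    range_subset_locus ε ζ (𝟙 _) m (by rw [Sec.res_id, hm])
  let k : U₀ ⟶ (locus ε ζ).toScheme := IsOpenImmersion.lift (locusι ε ζ) m (by
    rw [Scheme.Opens.range_ι]; exact hsub)
  have hk : k ≫ locusι ε ζ = m := IsOpenImmersion.lift_fac _ _ _
  have h1 : k ≫ g₀ = 𝟙 _ := by
    apply Sec.res_injective ζ
    rw [Sec.res_comp, hg₀, ← Sec.res_comp, hk, hm, Sec.res_id]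
  have h2 : g₀ ≫ k = 𝟙 _ := by
    rw [← cancel_mono (locusι ε ζ), Category.assoc, hk, Category.id_comp]
    obtain ⟨g', -, hg'⟩ := huniv (ε.res (locusι ε ζ))
    rw [hg' (g₀ ≫ m) (by change ε.res (g₀ ≫ m) = _; rw [Sec.res_comp, hm, hg₀]),
      hg' (locusι ε ζ) rfl]
  haveI : IsIso g₀ := ⟨k, h2, h1⟩
  -- the pullback square
  have hw : g₀ ≫ ζ.t = locusι ε ζ ≫ ε.t := congrArg Sec.t hg₀
  let j : pullback p (locusι ε ζ ≫ ε.t) ⟶ pullback p ε.t :=
    pullback.map p (locusι ε ζ ≫ ε.t) p ε.t (𝟙 X) (locusι ε ζ) (𝟙 S) (by simp) (by simp)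
  let θ : pullback p (locusι ε ζ ≫ ε.t) ⟶ pullback p ζ.t :=
    pullback.map p (locusι ε ζ ≫ ε.t) p ζ.t (𝟙 X) g₀ (𝟙 S) (by simp) (by simp [hw])
  haveI : IsIso θ := by
    dsimp only [θ]; infer_instance
  have H : j ≫ ε.map = θ ≫ ζ.map := by
    have e := Sec.ev_of_eq hg₀.symm (pullback.fst p (locusι ε ζ ≫ ε.t))
      (pullback.snd p (locusι ε ζ ≫ ε.t)) pullback.condition
    rw [Sec.res_ev, Sec.res_ev] at e
    have e1 : ε.ev (pullback.fst p (locusι ε ζ ≫ ε.t))
        (pullback.snd p (locusι ε ζ ≫ ε.t) ≫ locusι ε ζ)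
        (by rw [pullback.condition, Category.assoc]) = j ≫ ε.map := by
      rw [Sec.ev]; congr 1
    have e2 : ζ.ev (pullback.fst p (locusι ε ζ ≫ ε.t))
        (pullback.snd p (locusι ε ζ ≫ ε.t) ≫ g₀)
        (by rw [pullback.condition, Category.assoc, hw]) = θ ≫ ζ.map := by
      rw [Sec.ev]; congr 1
    rw [← e1, ← e2]
    exact e
  have H' : ε.map ⁻¹ᵁ ζ.map.opensRange = j.opensRange := by
    have : ε.map ⁻¹ᵁ ζ.map.opensRange = preLocus ε ζ := rfl
    rw [this, ← preimage_locus]
    apply TopologicalSpace.Opens.ext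
    change _ = Set.range j
    dsimp only [j]
    rw [Scheme.Pullback.range_map]
    simp
  have sq := IsOpenImmersion.isPullback θ j ζ.map ε.map H H'
  have e3 : sq.flip.isoPullback.hom ≫ pullback.snd ε.map ζ.map = θ := sq.flip.isoPullback_hom_snd
  have : pullback.snd ε.map ζ.map = sq.flip.isoPullback.inv ≫ θ :=
    (Iso.eq_inv_comp _).2 e3
  rw [this]
  infer_instance

/-- The sheaf of sections. -/
noncomputable def secSheaf (D : SchDD p) : Sheaf Scheme.zariskiTopology.{u} (Type u) :=
  ⟨secFunctor D, (isSheaf_iff_isSheaf_of_type _ _).2 (isSheaf_secFunctor D)⟩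

variable {ι : Type u} {U₀ : ι → Scheme.{u}} (ζ : ∀ i, Sec D (U₀ i))
  [hζ : ∀ i, IsOpenImmersion (ζ i).map]
  (hcov : ∀ v : D.obj.left, ∃ i, v ∈ Set.range (ζ i).map)

include hcov in
theorem isLocallySurjective_sigmaDesc_secHom :
    Presheaf.IsLocallySurjective Scheme.zariskiTopology
      (Sigma.desc (fun i => (secHom (ζ i) : yoneda.obj (U₀ i) ⟶ (secSheaf D).1))) := by
  refine ⟨fun {T} (ξ : Sec D T) => ?_⟩
  rw [Scheme.mem_grothendieckTopology_iff]
  have hex : ∀ i, ∃ g₀ : (locus ξ (ζ i)).toScheme ⟶ U₀ i,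
      (ζ i).res g₀ = ξ.res (locusι ξ (ζ i)) := fun i => exists_locusMap ξ (ζ i)
  choose g₀ hg₀ using hex
  let 𝒰 : T.OpenCover :=
    { I₀ := ι
      X := fun i => (locus ξ (ζ i)).toScheme
      f := fun i => locusι ξ (ζ i)
      mem₀ := by
        rw [Scheme.presieve₀_mem_precoverage_iff]
        refine ⟨fun x => ?_, inferInstance⟩
        obtain ⟨z, hz⟩ := (pullback.snd p ξ.t).surjective x
        obtain ⟨i, hi⟩ := hcov (ξ.map z)
        refine ⟨i, ?_⟩
        rw [Scheme.Opens.range_ι]
        exact ⟨z, hi, hz⟩ }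
  refine ⟨𝒰, ?_⟩
  rintro _ _ ⟨i⟩
  refine ⟨(Sigma.ι (fun i => yoneda.obj (U₀ i)) i).app _ (g₀ i), ?_⟩
  have h1 : Sigma.ι (fun i => yoneda.obj (U₀ i)) i ≫
      Sigma.desc (fun i => (secHom (ζ i) : yoneda.obj (U₀ i) ⟶ (secSheaf D).1)) = secHom (ζ i) :=
    Sigma.ι_desc _ _
  have h2 := congrArg (fun φ => φ.app (op (locus ξ (ζ i)).toScheme) (g₀ i)) h1
  simp only [NatTrans.comp_app] at h2
  refine Eq.trans ?_ (h2.trans ?_)
  · rfl
  · exact hg₀ i

include hcov in
/-- **Gluing of effective open pieces.** If `V` is covered by the images of sections of `D` which are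
open immersions, then `D` is effective. -/
theorem exists_iso_of_openCover : ∃ U : Over S, Nonempty ((toDD p).obj U ≅ D) := by
  have hf : ∀ i, IsOpenImmersion.presheaf
      (secHom (ζ i) : yoneda.obj (U₀ i) ⟶ (secSheaf D).1) :=
    fun i => isOpenImmersion_presheaf_secHom (ζ i)
  have hls := isLocallySurjective_sigmaDesc_secHom ζ hcov
  let R := @Scheme.LocalRepresentability.representableBy (secSheaf D) ι U₀
    (fun i => (secHom (ζ i) : yoneda.obj (U₀ i) ⟶ (secSheaf D).1)) hf hls
  let U := (Scheme.LocalRepresentability.glueData (F := secSheaf D)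
    (f := fun i => (secHom (ζ i) : yoneda.obj (U₀ i) ⟶ (secSheaf D).1)) hf).glued
  let ε : Sec D U := R.homEquiv (𝟙 U)
  have hε : ∀ {T : Scheme.{u}} (g : T ⟶ U), R.homEquiv g = ε.res g := fun g => R.homEquiv_eq g
  have huniv : ∀ {T : Scheme.{u}} (ξ : Sec D T), ∃! g : T ⟶ U, ε.res g = ξ := by
    intro T ξ
    refine ⟨R.homEquiv.symm ξ, ?_, fun g hg => ?_⟩
    · change ε.res _ = ξ
      rw [← hε, Equiv.apply_symm_apply]
    · apply R.homEquiv.injective
      rw [Equiv.apply_symm_apply, hε, hg]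
  let 𝒱 : D.obj.left.OpenCover :=
    { I₀ := ι
      X := fun i => pullback p (ζ i).t
      f := fun i => (ζ i).map
      mem₀ := by
        rw [Scheme.presieve₀_mem_precoverage_iff]
        exact ⟨hcov, inferInstance⟩ }
  have hiso : IsIso ε.map := by
    apply IsZariskiLocalAtTarget.of_openCover (P := MorphismProperty.isomorphisms Scheme) 𝒱
    intro i
    exact isIso_pullbackHom_of_universal ε huniv (ζ i)
  haveI : IsIso ε.a.hom.left := hiso
  haveI := isIso_of_isIso_left ε.a
  exact ⟨Over.mk ε.t, ⟨asIso ε.a⟩⟩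

end Main

/-- An isomorphism of descent data has an isomorphism as underlying morphism of schemes. -/
theorem isIso_left_of_isIso {D D' : SchDD p} (f : D ⟶ D') [IsIso f] : IsIso f.hom.left := by
  refine ⟨(inv f).hom.left, ?_, ?_⟩
  · rw [← Over.comp_left, ← SchDD.comp_hom, IsIso.hom_inv_id]; rfl
  · rw [← Over.comp_left, ← SchDD.comp_hom, IsIso.inv_hom_id]; rfl

/-- The section attached to a morphism of descent data out of a canonical descent datum. -/
noncomputable def Sec.ofHom {D : SchDD p} (U : Over S) (c : (toDD p).obj U ⟶ D) : Sec D U.left :=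
  ⟨U.hom, c⟩

/-- **S9866.** A descent datum relative to an fpqc morphism which is covered by effective open
sub-descent data is effective. -/
theorem exists_iso_of_forall_exists_open [Surjective p] [Flat p] [QuasiCompact p] (D : SchDD p)
    (h : ∀ v : D.obj.left, ∃ (D' : SchDD p) (j : D' ⟶ D), IsOpenImmersion j.hom.left ∧
      v ∈ Set.range j.hom.left ∧ ∃ U' : Over S, Nonempty ((toDD p).obj U' ≅ D')) :
    ∃ U : Over S, Nonempty ((toDD p).obj U ≅ D) := by
  choose D' j hj hv U' e using h
  let ζ : ∀ v : D.obj.left, Sec D (U' v).left := fun v => Sec.ofHom (U' v) ((e v).some.hom ≫ j v)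
  have hmap : ∀ v, (ζ v).map = (e v).some.hom.hom.left ≫ (j v).hom.left := fun v => rfl
  haveI : ∀ v, IsIso (e v).some.hom.hom.left := fun v => isIso_left_of_isIso _
  haveI : ∀ v, IsOpenImmersion (j v).hom.left := hj
  haveI hζ : ∀ v, IsOpenImmersion (ζ v).map := fun v => by rw [hmap]; infer_instance
  refine exists_iso_of_openCover ζ (fun v => ⟨v, ?_⟩)
  obtain ⟨w, hw⟩ := hv v
  refine ⟨inv (e v).some.hom.hom.left w, ?_⟩
  have hw' : (e v).some.hom.hom.left (inv (e v).some.hom.hom.left w) = w := by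
    rw [← Scheme.Hom.comp_apply, IsIso.inv_hom_id]; rfl
  rw [hmap]
  change (j v).hom.left ((e v).some.hom.hom.left (inv (e v).some.hom.hom.left w)) = v
  rw [hw', hw]

end Groth.Agent.Lib.EffDescH52
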