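import Groth.Agent.Lib.EffDescFamQAffH52
import Groth.Agent.Lib.EffDescGlueH52
import Groth.Agent.Lib.FpqcDescent

/-!
# Effective descent for quasi-finite separated schemes via Zariski's main theorem (helper52)

* `isQuasiAffine_of_locallyQuasiFinite`: a quasi-compact separated locally quasi-finite morphism
  locally of finite type is quasi-affine (Zariski's main theorem in Mathlib).
* `prop_of_iso_toDD`: a property which descends along fpqc morphisms passes from a descent datum
  to the scheme it descends to.
* `exists_iso_of_locallyQuasiFinite`, `exists_iso_of_etale`: effectivity of descent along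
  flat surjective quasi-compact morphisms.
-/

set_option autoImplicit false
set_option linter.style.haveILetI false
set_option backward.isDefEq.respectTransparency false
set_option backward.isDefEq.respectTransparency.types false

universe u

open CategoryTheory CategoryTheory.Limits AlgebraicGeometry Opposite

namespace Groth.Agent.Lib.EffDescH52

open Desc

/-- Étale morphisms are locally quasi-finite. -/
theorem locallyQuasiFinite_of_etale {X Y : Scheme.{u}} (f : X ⟶ Y) [Etale f] :
    LocallyQuasiFinite f where
  quasiFinite_appLE {U} hU {V} hV e := by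
    have h := f.etale_appLE hU hV e
    algebraize [(f.appLE U V e).hom]
    rw [RingHom.QuasiFinite]
    infer_instance

/-- **Zariski's main theorem**: quasi-finite separated morphisms are quasi-affine. -/
theorem isQuasiAffine_of_locallyQuasiFinite {X Y : Scheme.{u}} (f : X ⟶ Y) [LocallyQuasiFinite f]
    [LocallyOfFiniteType f] [IsSeparated f] [QuasiCompact f] : Mor2.IsQuasiAffine f := by
  refine ⟨inferInstance, fun V hV => ?_⟩
  have hc : IsCompact ((f ⁻¹ᵁ V : X.Opens) : Set X) :=
    QuasiCompact.isCompact_preimage (f := f) _ V.2 hV.isCompact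
  haveI : CompactSpace (f ⁻¹ᵁ V : Scheme.{u}) := isCompact_iff_compactSpace.mp hc
  let W : f.normalization.Opens := f.fromNormalization ⁻¹ᵁ V
  have hW : IsAffineOpen W := hV.preimage f.fromNormalization
  haveI : IsAffine (W : Scheme.{u}) := hW
  have heq : f ⁻¹ᵁ V = f.toNormalization ⁻¹ᵁ W := by
    conv_lhs => rw [← f.toNormalization_fromNormalization]
    rfl
  let j : (f ⁻¹ᵁ V : Scheme.{u}) ⟶ W := (X.isoOfEq heq).hom ≫ f.toNormalization ∣_ W
  haveI : IsOpenImmersion j := inferInstance
  exact Scheme.IsQuasiAffine.of_isImmersion j

section Props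

variable {X S : Scheme.{u}} {p : X ⟶ S}

/-- The fpqc morphisms as a morphism property. -/
abbrev fpqc : MorphismProperty Scheme.{u} := @Surjective ⊓ @Flat ⊓ @QuasiCompact

/-- If `D` descends to `U`, then the structure morphism of `D` is isomorphic to the base change
of `U ⟶ S`. -/
theorem prop_pullback_fst_of_iso (P : MorphismProperty Scheme.{u}) [P.RespectsIso] {D : SchDD p}
    {U : Over S} (e : (toDD p).obj U ≅ D) (h : P D.obj.hom) : P (pullback.fst p U.hom) := by
  haveI : IsIso e.hom.hom.left := isIso_left_of_isIso e.hom
  have hw : e.hom.hom.left ≫ D.obj.hom = pullback.fst p U.hom := Over.w e.hom.hom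
  rw [← hw]
  exact (P.cancel_left_of_respectsIso _ _).mpr h

/-- A property satisfying fpqc descent passes from a descent datum to the scheme it descends
to. -/
theorem prop_of_iso_toDD (P : MorphismProperty Scheme.{u}) [P.RespectsIso]
    [P.DescendsAlong fpqc.{u}] [Surjective p] [Flat p] [QuasiCompact p] {D : SchDD p}
    {U : Over S} (e : (toDD p).obj U ≅ D) (h : P D.obj.hom) : P U.hom :=
  MorphismProperty.of_pullback_fst_of_descendsAlong (P := P) (Q := fpqc.{u}) (f := p)
    ⟨⟨inferInstance, inferInstance⟩, inferInstance⟩ (prop_pullback_fst_of_iso P e h)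

end Props

section Main

variable {X S : Scheme.{u}} (p : X ⟶ S) [Surjective p] [Flat p] [QuasiCompact p]

/-- Descent data which are quasi-compact, separated, locally quasi-finite and locally of finite
type over `X` are effective for flat surjective quasi-compact `p`. -/
theorem exists_iso_of_locallyQuasiFinite (D : SchDD p) [QuasiCompact D.obj.hom]
    [IsSeparated D.obj.hom] [LocallyQuasiFinite D.obj.hom] [LocallyOfFiniteType D.obj.hom] :
    ∃ U : Over S, Nonempty ((toDD p).obj U ≅ D) :=
  Groth.Agent.Lib.EffDescFamH52.exists_iso_of_isQuasiAffineHom p D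
    (isQuasiAffine_of_locallyQuasiFinite D.obj.hom)

open Groth.Agent.Lib.FpqcDescent in
/-- Descent data which are quasi-compact, separated and étale over `X` descend to schemes
quasi-compact, separated and étale over `S`. -/
theorem exists_iso_of_etale (D : SchDD p) [QuasiCompact D.obj.hom] [IsSeparated D.obj.hom]
    [Etale D.obj.hom] :
    ∃ U : Over S, QuasiCompact U.hom ∧ IsSeparated U.hom ∧ Etale U.hom ∧
      Nonempty ((toDD p).obj U ≅ D) := by
  haveI : LocallyQuasiFinite D.obj.hom := locallyQuasiFinite_of_etale _
  obtain ⟨U, ⟨e⟩⟩ := exists_iso_of_locallyQuasiFinite p D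
  exact ⟨U, prop_of_iso_toDD @QuasiCompact e inferInstance,
    prop_of_iso_toDD @IsSeparated e inferInstance,
    prop_of_iso_toDD @Etale e inferInstance, ⟨e⟩⟩

end Main

end Groth.Agent.Lib.EffDescH52
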