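import Groth.Agent.Lib.EffDescFamReduce2H52
import Groth.Agent.Lib.EffDescOpenH52
import Groth.Agent.Lib.EffDescZMTH52

/-!
# Descent of ind-quasi-affine morphisms along universally open fpqc coverings (helper52)

* `isEffective_of_indQA_of_universallyOpen`: descent data with ind-quasi-affine structure
  morphisms are effective for fpqc covering families all of whose members are universally open
  (for instance fppf coverings).
* `isIndQuasiAffineHom_of_locallyQuasiFinite`: separated locally quasi-finite morphisms locally
  of finite type are ind-quasi-affine (Zariski's main theorem).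
* `exists_iso_of_fppf_of_locallyQuasiFinite`: fppf descent for separated locally quasi-finite
  schemes.
-/

set_option autoImplicit false
set_option linter.style.haveILetI false
set_option backward.isDefEq.respectTransparency false
set_option backward.isDefEq.respectTransparency.types false

universe u

open CategoryTheory CategoryTheory.Limits AlgebraicGeometry Opposite

namespace Groth.Agent.Lib.EffDescFamH52

open Desc Groth.Agent.Lib.QAffLocalH52 Groth.Agent.Lib.EffDescH52

/-- The source of an ind-quasi-affine morphism to an affine scheme is ind-quasi-affine. -/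
theorem isIndQuasiAffine_of_isIndQuasiAffineHom {V X : Scheme.{u}} (π : V ⟶ X) [IsAffine X]
    (h : MoreMor.IsIndQuasiAffineHom π) : MoreMor.IsIndQuasiAffine V := by
  have h1 : MoreMor.IsIndQuasiAffine ((⊤ : V.Opens) : Scheme.{u}) := h ⊤ (isAffineOpen_top X)
  exact Groth.Agent.Lib.IndQuasiAffine.isIndQuasiAffine_of_isAffineHom (Scheme.topIso V).inv h1

section

variable {S : Scheme.{u}} {ι : Type u} {X : ι → Scheme.{u}} {f : ∀ i, X i ⟶ S}

/-- **Ind-quasi-affine morphisms descend along universally open fpqc coverings.** -/
theorem isEffective_of_indQA_of_universallyOpen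
    (hf : Presieve.ofArrows X f ∈ Scheme.fpqcPrecoverage S) (hfo : ∀ i, UniversallyOpen (f i))
    (D : SchDDFam f) (hD : ∀ i, MoreMor.IsIndQuasiAffineHom (D.obj i).hom) : D.IsEffective := by
  refine isEffective_of_affine' @UniversallyOpen indQA
    (fun m => sigma_map_of_isZariskiLocalAtTarget indQA (m := m)) ?_ hf hfo D hD
  intro X S p hX hS hfl hsurj hopen D hPD
  exact exists_iso_of_isIndQuasiAffine D (isIndQuasiAffine_of_isIndQuasiAffineHom D.obj.hom hPD)

end

/-- **Zariski's main theorem**: separated locally quasi-finite morphisms are ind-quasi-affine. -/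
theorem isIndQuasiAffineHom_of_locallyQuasiFinite {X Y : Scheme.{u}} (f : X ⟶ Y) [IsSeparated f]
    [LocallyQuasiFinite f] [LocallyOfFiniteType f] : MoreMor.IsIndQuasiAffineHom f := by
  intro V hV
  rw [Groth.Agent.Lib.IndQuasiAffine.isIndQuasiAffine_opens_iff]
  intro U hUV hU
  haveI : IsAffine (V : Scheme.{u}) := hV
  haveI : CompactSpace (U : Scheme.{u}) := isCompact_iff_compactSpace.mp hU
  haveI : QuasiCompact (f.resLE V U hUV) := by
    rw [HasAffineProperty.iff_of_isAffine (P := @QuasiCompact)]
    infer_instance
  haveI : IsSeparated (f.resLE V U hUV) := inferInstance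
  haveI : LocallyOfFiniteType (f.resLE V U hUV) := inferInstance
  exact isQuasiAffine_of_isQuasiAffineHom (f.resLE V U hUV)
    (isQuasiAffine_of_locallyQuasiFinite (f.resLE V U hUV))

/-- A flat surjective morphism locally of finite presentation is an fpqc covering. -/
theorem ofArrows_pUnit_mem_fpqcPrecoverage_of_fppf {X S : Scheme.{u}} (p : X ⟶ S) [Surjective p]
    [Flat p] [LocallyOfFinitePresentation p] :
    Presieve.ofArrows (fun _ : PUnit.{u + 1} => X) (fun _ => p) ∈ Scheme.fpqcPrecoverage S := by
  rw [Presieve.ofArrows_pUnit]
  exact Scheme.fppfPrecoverage_le_fpqcPrecoverage _ (Scheme.Hom.singleton_mem_fppfPrecoverage p)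

/-- **fppf descent for ind-quasi-affine morphisms** (single morphism form). -/
theorem exists_iso_of_fppf_of_indQA {X S : Scheme.{u}} (p : X ⟶ S) [Flat p] [Surjective p]
    [LocallyOfFinitePresentation p] (D : SchDD p) (hD : MoreMor.IsIndQuasiAffineHom D.obj.hom) :
    ∃ U : Over S, Nonempty ((toDD p).obj U ≅ D) := by
  apply exists_iso_of_isEffective p D
  apply isEffective_of_indQA_of_universallyOpen (ofArrows_pUnit_mem_fpqcPrecoverage_of_fppf p)
  · intro _
    infer_instance
  · intro _
    exact hD

/-- **fppf descent for separated locally quasi-finite schemes.** -/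
theorem exists_iso_of_fppf_of_locallyQuasiFinite {X S : Scheme.{u}} (p : X ⟶ S) [Flat p]
    [Surjective p] [LocallyOfFinitePresentation p] (D : SchDD p) [IsSeparated D.obj.hom]
    [LocallyQuasiFinite D.obj.hom] [LocallyOfFiniteType D.obj.hom] :
    ∃ U : Over S, Nonempty ((toDD p).obj U ≅ D) :=
  exists_iso_of_fppf_of_indQA p D (isIndQuasiAffineHom_of_locallyQuasiFinite D.obj.hom)

end Groth.Agent.Lib.EffDescFamH52
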