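import Groth.Agent.Lib.H69AlgSp
import Groth.Agent.Lib.H86Coprod

/-!
# Lifting points along surjections of fppf sheaves over a single fppf cover (helper46)
-/

set_option autoImplicit false
universe u

namespace Groth.Agent.Lib.FppfLift46

open CategoryTheory CategoryTheory.Limits AlgebraicGeometry Opposite AlgSp
open Groth.Agent.Lib.H69AlgSp Groth.Agent.Lib.H86Coprod

variable {S : Scheme.{u}}

/-- For a surjection of fppf sheaves `b : H ⟶ G` and a point `z : h_T ⟶ G` there is a single fppf morphism
`π : T' ⟶ T` (flat, locally of finite presentation, surjective) over which `z` lifts to `H`. -/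
theorem exists_fppf_lift {G H : Sp S} (b : H ⟶ G) [Sheaf.IsLocallySurjective b] {T : Over S}
    (z : (yon S).obj T ⟶ G) :
    ∃ (T' : Over S) (π : T' ⟶ T) (y : (yon S).obj T' ⟶ H), Flat π.left ∧
      LocallyOfFinitePresentation π.left ∧ Surjective π.left ∧ y ≫ b = (yon S).map π ≫ z := by
  obtain ⟨R, hR, hlift⟩ := exists_cover_lift b z
  have h2 : R ∈ Scheme.jointlySurjectivePrecoverage T.left := hR.1
  rw [Presieve.mem_comap_jointlySurjectivePrecoverage_iff] at h2
  choose Y g hg t' ht' using h2
  have hP : ∀ x, Flat (g x) ∧ LocallyOfFinitePresentation (g x) := fun x => hR.2 (hg x)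
  choose y hy using fun x => hlift (g x) (hg x)
  let π₀ : ∐ Y ⟶ T.left := Sigma.desc g
  let T' : Over S := Over.mk (π₀ ≫ T.hom)
  let π : T' ⟶ T := Over.homMk π₀ rfl
  let V : ↥T.left → Over S := fun x => Over.mk (g x ≫ T.hom)
  have hj : ∀ x, Sigma.ι Y x ≫ T'.hom = (V x).hom := fun x => by
    change Sigma.ι Y x ≫ Sigma.desc g ≫ T.hom = g x ≫ T.hom
    rw [← Category.assoc, Sigma.ι_desc]
  let j : ∀ x, V x ⟶ T' := fun x => Over.homMk (Sigma.ι Y x) (hj x)
  have hjπ : ∀ x, j x ≫ π = (Over.homMk (g x) : Over.mk (g x ≫ T.hom) ⟶ T) := fun x => by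
    apply Over.OverMorphism.ext
    change Sigma.ι Y x ≫ Sigma.desc g = g x
    rw [Sigma.ι_desc]
  have hopen : ∀ x, IsOpenImmersion (j x).left := fun x =>
    (inferInstance : IsOpenImmersion (Sigma.ι Y x))
  have hsurj : ∀ t : ↥T'.left, ∃ x, t ∈ Set.range (j x).left := fun t => by
    obtain ⟨x, u, hu⟩ := (sigmaOpenCover Y).exists_eq t
    exact ⟨x, u, hu⟩
  have hcompat : ∀ (i k : ↥T.left) (Z : Over S) (a : Z ⟶ V i) (c : Z ⟶ V k), a ≫ j i = c ≫ j k →
      (yon S).map a ≫ y i = (yon S).map c ≫ y k := by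
    intro i k Z a c hac
    by_cases hik : i = k
    · subst hik
      haveI : Mono (j i).left := inferInstance
      haveI : Mono (j i) := mono_over_of_mono_left (j i)
      rw [(cancel_mono (j i)).1 hac]
    · haveI : IsEmpty ↥Z.left := by
        constructor
        intro w
        have h1 : (Sigma.ι Y i) (a.left w) = (Sigma.ι Y k) (c.left w) := by
          have := congrArg (fun m => m.left w) hac
          exact this
        have h3 := (sigmaι_eq_iff Y i k _ _).1 h1
        exact hik (congrArg Sigma.fst h3)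
      exact hom_ext_of_isEmpty _ _
  obtain ⟨e, he, -⟩ := existsUnique_glue V j hopen hsurj H y hcompat
  refine ⟨T', π, e, ?_, ?_, ?_, ?_⟩
  · exact IsZariskiLocalAtSource.sigmaDesc (P := @Flat) (fun x => (hP x).1)
  · exact IsZariskiLocalAtSource.sigmaDesc (P := @LocallyOfFinitePresentation) (fun x => (hP x).2)
  · apply Surjective.sigmaDesc_of_union_range_eq_univ
    rw [Set.eq_univ_iff_forall]
    intro x
    exact Set.mem_iUnion.2 ⟨x, t' x, ht' x⟩
  · obtain ⟨e', -, huniq⟩ := existsUnique_glue V j hopen hsurj G (fun x => y x ≫ b) (by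
      intro i k Z a c hac
      rw [← Category.assoc, ← Category.assoc, hcompat i k Z a c hac])
    rw [huniq (e ≫ b) (fun x => by rw [← Category.assoc, he]),
      huniq ((yon S).map π ≫ z) (fun x => by
        rw [← Category.assoc, ← Functor.map_comp, hjπ, hy])]

end Groth.Agent.Lib.FppfLift46
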