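import Groth.Agent.Lib.EqRelSheaf
import Groth.Agent.Lib.H69AlgSp
import Groth.Agent.Lib.H69FppfLocal
import Groth.Prelude.Def_AlgSp

/-!
# helper69: the quotient sheaf of an equivalence relation on a scheme: `h_R = h_U ×_{U/R} h_U`

For `s t : R ⟶ U` an equivalence relation on `T`-points (the Prelude's `AlgSp.IsEqvRel`), the pair `h_t, h_s` is an
internal equivalence relation on `h_U` in fppf sheaves, hence (helper11's `EqRelSheaf`) the kernel pair of its
coequalizer `QuotSh.quot`.
-/

set_option autoImplicit false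
universe u

open CategoryTheory CategoryTheory.Limits AlgebraicGeometry Opposite

namespace Groth.Agent.Lib.H69QuotPres

open AlgSp Groth.Agent.Lib.H69AlgSp

variable {S : Scheme.{u}} {R U : Over S} (s t : R ⟶ U)

/-- `rep V ≅ yon V`. -/
noncomputable abbrev rIso (V : Over S) :
    QuotSh.rep Scheme.fppfPrecoverage V ≅ (AlgSp.yon S).obj V :=
  QuotSh.repIsoUliftYoneda Scheme.fppfPrecoverage V

theorem rIso_naturality {V W : Over S} (g : V ⟶ W) :
    QuotSh.repMap Scheme.fppfPrecoverage g ≫ (rIso W).hom = (rIso V).hom ≫ (AlgSp.yon S).map g :=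
  (sheafificationNatIso (AlgSp.J S) (Type (u + 1))).inv.naturality ((AlgSp.yon S).map g)

theorem rIso_inv_naturality {V W : Over S} (g : V ⟶ W) :
    (rIso V).inv ≫ QuotSh.repMap Scheme.fppfPrecoverage g = (AlgSp.yon S).map g ≫ (rIso W).inv := by
  rw [Iso.inv_comp_eq, ← Category.assoc, ← rIso_naturality, Category.assoc, Iso.hom_inv_id, Category.comp_id]

variable {s t}

theorem jointlyMono_yon (h : IsEqvRel s t) : JointlyMono₂ ((yon S).map t) ((yon S).map s) where
  right_cancellation Y f g h₁ h₂ := by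
    apply hom_ext_yon
    intro T a
    obtain ⟨f', hf'⟩ := (yon S).map_surjective (a ≫ f)
    obtain ⟨g', hg'⟩ := (yon S).map_surjective (a ≫ g)
    have e : f' = g' := by
      apply h.injective T f' g'
      · apply (yon S).map_injective
        rw [Functor.map_comp, Functor.map_comp, hf', hg', Category.assoc, Category.assoc, h₁]
      · apply (yon S).map_injective
        rw [Functor.map_comp, Functor.map_comp, hf', hg', Category.assoc, Category.assoc, h₂]
    rw [← hf', ← hg', e]

theorem nonempty_equivalenceRelation_yon (h : IsEqvRel s t) :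
    Nonempty (EquivalenceRelation ((yon S).map t) ((yon S).map s)) := by
  have hj := jointlyMono_yon h
  obtain ⟨e, he1, he2⟩ := (h.equivalence U).refl (𝟙 U)
  obtain ⟨σ, hσ1, hσ2⟩ := (h.equivalence R).symm (⟨𝟙 R, Category.id_comp _, Category.id_comp _⟩ :
    ∃ r : R ⟶ R, r ≫ t = t ∧ r ≫ s = s)
  have sqP := IsPullback.of_hasPullback s t
  obtain ⟨τ, hτ1, hτ2⟩ := (h.equivalence (pullback s t)).trans
    (⟨pullback.fst s t, rfl, rfl⟩ : ∃ r : pullback s t ⟶ R, r ≫ t = pullback.fst s t ≫ t ∧
      r ≫ s = pullback.fst s t ≫ s)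
    (⟨pullback.snd s t, sqP.w.symm, rfl⟩ : ∃ r : pullback s t ⟶ R, r ≫ t = pullback.fst s t ≫ s ∧
      r ≫ s = pullback.snd s t ≫ s)
  have sqY := sqP.map (yon S)
  exact ⟨{
    toJointlyMono₂ := hj
    r := (yon S).map e
    reflexivity₁ := by rw [← Functor.map_comp, he1, CategoryTheory.Functor.map_id]
    reflexivity₂ := by rw [← Functor.map_comp, he2, CategoryTheory.Functor.map_id]
    s := (yon S).map σ
    symmetry₁ := by rw [← Functor.map_comp, hσ1]
    symmetry₂ := by rw [← Functor.map_comp, hσ2]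
    c := sqY.cone
    isLimit := sqY.isLimit
    t := (yon S).map τ
    transitivity₁ := by
      change (yon S).map τ ≫ (yon S).map t = (yon S).map (pullback.fst s t) ≫ (yon S).map t
      rw [← Functor.map_comp, hτ1, Functor.map_comp]
    transitivity₂ := by
      change (yon S).map τ ≫ (yon S).map s = (yon S).map (pullback.snd s t) ≫ (yon S).map s
      rw [← Functor.map_comp, hτ2, Functor.map_comp] }⟩

/-- The quotient map `h_U ⟶ U/R`. -/
noncomputable abbrev quotMap (s t : R ⟶ U) :
    (yon S).obj U ⟶ QuotSh.quot Scheme.fppfPrecoverage s t :=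
  (rIso U).inv ≫ QuotSh.quotπ Scheme.fppfPrecoverage s t

theorem quotMap_condition (s t : R ⟶ U) :
    (yon S).map t ≫ quotMap s t = (yon S).map s ≫ quotMap s t := by
  rw [quotMap, ← Category.assoc, ← rIso_inv_naturality, ← Category.assoc, ← rIso_inv_naturality,
    Category.assoc, Category.assoc, QuotSh.quot_condition]

instance epi_quotMap (s t : R ⟶ U) : Epi (quotMap s t) := by
  have : Epi (QuotSh.quotπ Scheme.fppfPrecoverage s t) := coequalizer.π_epi
  exact epi_comp _ _

/-- For an equivalence relation, `h_R` is the kernel pair of the quotient map `h_U ⟶ U/R`. -/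
theorem isPullback_quotMap (h : IsEqvRel s t) :
    IsPullback ((yon S).map t) ((yon S).map s) (quotMap s t) (quotMap s t) := by
  obtain ⟨e⟩ := nonempty_equivalenceRelation_yon h
  let E := Groth.Agent.Lib.EqRelSheaf.sheafEER (AlgSp.J S) e
  -- the comparison maps
  let φ : E.B ⟶ QuotSh.quot Scheme.fppfPrecoverage s t :=
    E.isPushout.desc (quotMap s t) (quotMap s t) (quotMap_condition s t)
  have hφ : E.π ≫ φ = quotMap s t := E.isPushout.inl_desc _ _ _
  have hcond : QuotSh.repMap Scheme.fppfPrecoverage s ≫ (rIso U).hom ≫ E.π =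
      QuotSh.repMap Scheme.fppfPrecoverage t ≫ (rIso U).hom ≫ E.π := by
    rw [← Category.assoc, rIso_naturality, ← Category.assoc, rIso_naturality, Category.assoc, Category.assoc,
      E.isPushout.w]
  let ψ : QuotSh.quot Scheme.fppfPrecoverage s t ⟶ E.B := coequalizer.desc ((rIso U).hom ≫ E.π) hcond
  have hψ : QuotSh.quotπ Scheme.fppfPrecoverage s t ≫ ψ = (rIso U).hom ≫ E.π := coequalizer.π_desc _ _
  have hφψ : φ ≫ ψ = 𝟙 _ := by
    apply E.isPushout.hom_ext
    · rw [← Category.assoc, hφ, Category.assoc, hψ, Iso.inv_hom_id_assoc, Category.comp_id]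
    · rw [← Category.assoc, hφ, Category.assoc, hψ, Iso.inv_hom_id_assoc, Category.comp_id]
  have : IsSplitMono φ := ⟨⟨⟨ψ, hφψ⟩⟩⟩
  have hk : IsKernelPair (E.π ≫ φ) ((yon S).map t) ((yon S).map s) := E.isKernelPair.comp_of_mono
  rw [hφ] at hk
  exact hk

end Groth.Agent.Lib.H69QuotPres
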