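import Groth.Agent.Lib.SheafDescRep46
import Groth.Agent.Lib.FppfLift46
import Groth.Agent.Lib.H69QuotPres
import Groth.Agent.Lib.EffDescFamOpenH52
import Groth.Agent.Lib.H80DecentPt

/-!
# The quotient of a scheme by an etale equivalence relation is an algebraic space (helper46)
-/

set_option autoImplicit false
universe u

namespace Groth.Agent.Lib.EtEqvRelQuot46

open CategoryTheory CategoryTheory.Limits AlgebraicGeometry Opposite AlgSp Desc
open Groth.Agent.Lib.H69AlgSp Groth.Agent.Lib.SheafDescRep46 Groth.Agent.Lib.FppfLift46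
  Groth.Agent.Lib.H69QuotPres

/-- A monomorphism of schemes is locally quasi-finite. -/
theorem locallyQuasiFinite_of_mono {X Y : Scheme.{u}} (f : X ⟶ Y) [Mono f] : LocallyQuasiFinite f := by
  apply LocallyQuasiFinite.of_fiberToSpecResidueField
  intro y
  have hm : Mono (f.fiberToSpecResidueField y) := by
    unfold Scheme.Hom.fiberToSpecResidueField
    exact pullback.snd_of_mono
  by_cases hne : Nonempty ↥(f.fiber y)
  · have : IsIso (f.fiberToSpecResidueField y) :=
      Groth.Agent.Lib.H80DecentPt.isIso_of_mono_of_field (K := Y.residueField y)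
        (f.fiberToSpecResidueField y)
    infer_instance
  · have : IsEmpty ↥(f.fiber y) := not_nonempty_iff.1 hne
    infer_instance

variable {S : Scheme.{u}}

/-- Packaging of `exists_iso_of_effective`: a representing square for the base change of `f` along `z`. -/
theorem exists_isPullback_of_effective {X Y : Sp S} (f : X ⟶ Y) {T T' Z' : Over S}
    (z : (yon S).obj T ⟶ Y) (π : T' ⟶ T) [Flat π.left] [LocallyOfFinitePresentation π.left]
    [Surjective π.left] (ζ : Z' ⟶ T') (a : (yon S).obj Z' ⟶ pullback f z)
    (sq' : IsPullback a ((yon S).map ζ) (pullback.snd f z) ((yon S).map π))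
    (Z : Over T.left) (Ψ : (toDD π.left).obj Z ≅ descDatum sq') :
    ∃ (Z₀ : Over S) (snd : Z₀ ⟶ T) (fst : (yon S).obj Z₀ ⟶ X), IsPullback fst ((yon S).map snd) f z := by
  obtain ⟨θ, hθ⟩ := exists_iso_of_effective sq' Z Ψ
  refine ⟨Over.mk (Z.hom ≫ T.hom), Over.homMk Z.hom rfl, θ.hom ≫ pullback.fst f z, ?_⟩
  have h1 : IsPullback θ.hom ((yon S).map (Over.homMk Z.hom rfl : Over.mk (Z.hom ≫ T.hom) ⟶ T))
      (pullback.snd f z) (𝟙 _) := IsPullback.of_horiz_isIso ⟨by rw [hθ, Category.comp_id]⟩
  have h2 := h1.paste_horiz (IsPullback.of_hasPullback f z)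
  rwa [Category.id_comp] at h2

variable {R U : Over S} {s t : R ⟶ U}

/-- If `h_R` with `h_t, h_s` is the kernel pair of an epimorphism `p : h_U ⟶ Q` of sheaves and `(s, t)` is an etale
equivalence relation, then the diagonal of `Q` is representable. -/
theorem representable_diag_of_kernelPair {Q : Sp S} (p : (yon S).obj U ⟶ Q) [Epi p]
    (ker : IsPullback ((yon S).map t) ((yon S).map s) p p) (h : IsEtaleEqvRel s t) :
    Representable (Limits.diag Q) := by
  intro T z
  haveI hp : Sheaf.IsLocallySurjective p :=
    (Sheaf.isLocallySurjective_iff_epi _).2 inferInstance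
  haveI := isLocallySurjective_prod_map (p) (p)
  obtain ⟨T', π, y, hfl, hlfp, hsurj, hy⟩ := exists_fppf_lift (prod.map (p) (p)) z
  obtain ⟨c₁, hc₁⟩ := (yon S).map_surjective (y ≫ prod.fst)
  obtain ⟨c₂, hc₂⟩ := (yon S).map_surjective (y ≫ prod.snd)
  have hz₁ : (yon S).map π ≫ z ≫ prod.fst = (yon S).map c₁ ≫ p := by
    rw [← Category.assoc, ← hy, Category.assoc, prod.map_fst, ← Category.assoc, hc₁]
  have hz₂ : (yon S).map π ≫ z ≫ prod.snd = (yon S).map c₂ ≫ p := by
    rw [← Category.assoc, ← hy, Category.assoc, prod.map_snd, ← Category.assoc, hc₂]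
  -- the scheme `Z' = R ×_{U × U} T'`
  have hρt : pullback.fst (prod.lift t s) (prod.lift c₁ c₂) ≫ t =
      pullback.snd (prod.lift t s) (prod.lift c₁ c₂) ≫ c₁ := by
    have := pullback.condition (f := prod.lift t s) (g := prod.lift c₁ c₂) =≫ prod.fst
    simpa only [Category.assoc, prod.lift_fst] using this
  have hρs : pullback.fst (prod.lift t s) (prod.lift c₁ c₂) ≫ s =
      pullback.snd (prod.lift t s) (prod.lift c₁ c₂) ≫ c₂ := by
    have := pullback.condition (f := prod.lift t s) (g := prod.lift c₁ c₂) =≫ prod.snd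
    simpa only [Category.assoc, prod.lift_snd] using this
  haveI : Mono (pullback.snd (Limits.diag Q) z) :=
    pullback.snd_of_mono
  have ha_cond : ((yon S).map (pullback.fst (prod.lift t s) (prod.lift c₁ c₂) ≫ t) ≫ p) ≫
      Limits.diag Q =
      (yon S).map (pullback.snd (prod.lift t s) (prod.lift c₁ c₂) ≫ π) ≫ z := by
    have e2 : (yon S).map (pullback.snd (prod.lift t s) (prod.lift c₁ c₂) ≫ π) =
        (yon S).map (pullback.snd (prod.lift t s) (prod.lift c₁ c₂)) ≫ (yon S).map π :=
      Functor.map_comp _ _ _
    apply Limits.prod.hom_ext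
    · simp only [Category.assoc]
      rw [Limits.diag, prod.lift_fst, Category.comp_id, e2, Category.assoc, hz₁, ← Category.assoc,
        ← Functor.map_comp, hρt]
    · simp only [Category.assoc]
      rw [Limits.diag, prod.lift_snd, Category.comp_id, e2, Category.assoc, hz₂, ← Category.assoc,
        ← Functor.map_comp, ← hρs, Functor.map_comp, Functor.map_comp, Category.assoc, Category.assoc,
        ker.w]
  have ha_e : pullback.lift _ _ ha_cond ≫
      pullback.snd (Limits.diag Q) z =
      (yon S).map (pullback.snd (prod.lift t s) (prod.lift c₁ c₂)) ≫ (yon S).map π := by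
    rw [pullback.lift_snd, Functor.map_comp]
  have sq' : IsPullback (pullback.lift _ _ ha_cond)
      ((yon S).map (pullback.snd (prod.lift t s) (prod.lift c₁ c₂)))
      (pullback.snd (Limits.diag Q) z) ((yon S).map π) := by
    refine isPullback_of_yon ha_e ?_ ?_
    · intro W m m' _ h2
      obtain ⟨μ, rfl⟩ := (yon S).map_surjective m
      obtain ⟨μ', rfl⟩ := (yon S).map_surjective m'
      have h2' : μ ≫ pullback.snd (prod.lift t s) (prod.lift c₁ c₂) =
          μ' ≫ pullback.snd (prod.lift t s) (prod.lift c₁ c₂) :=
        (yon S).map_injective (by rw [Functor.map_comp, Functor.map_comp]; exact h2)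
      congr 1
      refine pullback.hom_ext ?_ h2'
      apply h.injective W
      · rw [Category.assoc, Category.assoc, hρt, ← Category.assoc, ← Category.assoc, h2']
      · rw [Category.assoc, Category.assoc, hρs, ← Category.assoc, ← Category.assoc, h2']
    · intro W x w hxw
      obtain ⟨w₀, rfl⟩ := (yon S).map_surjective w
      have hx : x ≫ pullback.fst (Limits.diag Q) z ≫
          Limits.diag Q = (yon S).map w₀ ≫ (yon S).map π ≫ z := by
        rw [pullback.condition, ← Category.assoc, hxw, Category.assoc]
      have hq₁ : x ≫ pullback.fst (Limits.diag Q) z =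
          (yon S).map (w₀ ≫ c₁) ≫ p := by
        have := hx =≫ prod.fst
        simp only [Category.assoc, Limits.diag, prod.lift_fst, Category.comp_id] at this
        rw [this, hz₁, Functor.map_comp, Category.assoc]
      have hq₂ : x ≫ pullback.fst (Limits.diag Q) z =
          (yon S).map (w₀ ≫ c₂) ≫ p := by
        have := hx =≫ prod.snd
        simp only [Category.assoc, Limits.diag, prod.lift_snd, Category.comp_id] at this
        rw [this, hz₂, Functor.map_comp, Category.assoc]
      obtain ⟨r, hr⟩ := (yon S).map_surjective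
        (ker.lift ((yon S).map (w₀ ≫ c₁)) ((yon S).map (w₀ ≫ c₂)) (by rw [← hq₁, ← hq₂]))
      have hr₁ : r ≫ t = w₀ ≫ c₁ := (yon S).map_injective (by
        rw [Functor.map_comp, hr, ker.lift_fst])
      have hr₂ : r ≫ s = w₀ ≫ c₂ := (yon S).map_injective (by
        rw [Functor.map_comp, hr, ker.lift_snd])
      have hμ : r ≫ prod.lift t s = w₀ ≫ prod.lift c₁ c₂ := by
        apply Limits.prod.hom_ext
        · rw [Category.assoc, Category.assoc, prod.lift_fst, prod.lift_fst, hr₁]
        · rw [Category.assoc, Category.assoc, prod.lift_snd, prod.lift_snd, hr₂]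
      refine ⟨(yon S).map (pullback.lift r w₀ hμ), ?_, by rw [← Functor.map_comp, pullback.lift_snd]⟩
      rw [← cancel_mono (pullback.snd (Limits.diag Q) z),
        Category.assoc, ha_e, ← Category.assoc, ← Functor.map_comp, pullback.lift_snd, hxw]
  -- properties of `Z' ⟶ T'`
  have sqS : IsPullback (pullback.fst (prod.lift t s) (prod.lift c₁ c₂)).left
      (pullback.snd (prod.lift t s) (prod.lift c₁ c₂)).left (prod.lift t s).left (prod.lift c₁ c₂).left :=
    (IsPullback.of_hasPullback (prod.lift t s) (prod.lift c₁ c₂)).map (Over.forget S)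
  haveI hjm : Mono (prod.lift t s) := ⟨fun a b hab => h.injective _ a b
    (by simpa only [Category.assoc, prod.lift_fst] using hab =≫ prod.fst)
    (by simpa only [Category.assoc, prod.lift_snd] using hab =≫ prod.snd)⟩
  haveI hjm' : Mono (prod.lift t s).left := inferInstance
  haveI hjlft : LocallyOfFiniteType (prod.lift t s).left := by
    haveI : Etale s.left := h.etale_left
    have e : (prod.lift t s).left ≫ (prod.snd : U ⨯ U ⟶ U).left = s.left := by
      rw [← Over.comp_left, prod.lift_snd]
    haveI : LocallyOfFiniteType ((prod.lift t s).left ≫ (prod.snd : U ⨯ U ⟶ U).left) := by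
      rw [e]; infer_instance
    exact locallyOfFiniteType_of_comp _ (prod.snd : U ⨯ U ⟶ U).left
  haveI hζm : Mono (descDatum sq').obj.hom := sqS.mono_snd_of_mono
  haveI hζlft : LocallyOfFiniteType (descDatum sq').obj.hom :=
    MorphismProperty.of_isPullback (P := @LocallyOfFiniteType) sqS hjlft
  haveI hζsep : IsSeparated (descDatum sq').obj.hom := inferInstance
  haveI hζlqf : LocallyQuasiFinite (descDatum sq').obj.hom := locallyQuasiFinite_of_mono _
  obtain ⟨Z, ⟨Ψ⟩⟩ := Groth.Agent.Lib.EffDescFamH52.exists_iso_of_fppf_of_locallyQuasiFinite π.left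
    (descDatum sq')
  exact exists_isPullback_of_effective _ z π _ _ sq' Z Ψ

/-- The diagonal of the quotient of a scheme by an etale equivalence relation is representable. -/
theorem representable_diag_quot (h : IsEtaleEqvRel s t) :
    Representable (Limits.diag (QuotSh.quot Scheme.fppfPrecoverage s t)) :=
  representable_diag_of_kernelPair (quotMap s t) (isPullback_quotMap h.toIsEqvRel) h

/-- A sheaf `Q` with an epimorphism `p : h_U ⟶ Q` whose kernel pair is an etale equivalence relation on `U` is an
algebraic space, with atlas `p`. -/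
theorem isAlgSpace_of_kernelPair {Q : Sp S} (p : (yon S).obj U ⟶ Q) [Epi p]
    (ker : IsPullback ((yon S).map t) ((yon S).map s) p p) (h : IsEtaleEqvRel s t) :
    IsAlgSpace Q ∧ RepWith @Etale p ∧ RepWith @Surjective p := by
  have hdiag := representable_diag_of_kernelPair p ker h
  have hrep : Representable p := Functor.relativelyRepresentable.of_diag hdiag p
  haveI : Sheaf.IsLocallySurjective p := (Sheaf.isLocallySurjective_iff_epi _).2 inferInstance
  have hs_et : Etale s.left := h.etale_left
  have hs_surj : Surjective s.left := by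
    obtain ⟨e, -, he2⟩ := (h.equivalence U).refl (𝟙 U)
    constructor
    intro x
    refine ⟨e.left x, ?_⟩
    rw [← Scheme.Hom.comp_apply, ← Over.comp_left, he2]
    rfl
  have h1 : RepWith @Etale p :=
    repWith_of_isLocallySurjective_base _ hrep _ _ _ ker @Etale ((repWith_yon_map_iff @Etale s).2 hs_et)
  have h2 : RepWith @Surjective p :=
    repWith_of_isLocallySurjective_base _ hrep _ _ _ ker @Surjective
      ((repWith_yon_map_iff @Surjective s).2 hs_surj)
  exact ⟨⟨hdiag, U, p, h1, h2⟩, h1, h2⟩

/-- **The quotient of a scheme by an etale equivalence relation is an algebraic space.** -/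
theorem isAlgSpace_quot (h : IsEtaleEqvRel s t) :
    IsAlgSpace (QuotSh.quot Scheme.fppfPrecoverage s t) :=
  (isAlgSpace_of_kernelPair (quotMap s t) (isPullback_quotMap h.toIsEqvRel) h).1

end Groth.Agent.Lib.EtEqvRelQuot46
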