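import Mathlib

/-!
# Effective faithfully flat descent for algebras (comodule / Beck form)

`A → A'` a flat ring map, `B'` an `A'`-algebra equipped with a "coaction"
`ρ : B' →ₐ[A] A' ⊗[A] B'` which is `A'`-linear for the left structure, counital and coassociative.
Then for the equalizer `B = {b | ρ b = 1 ⊗ b}` the canonical map `A' ⊗[A] B → B'` is bijective, i.e.
`Algebra.IsPushout A A' B B'`.
-/

open TensorProduct

namespace Groth.Agent.Lib.H69DescentAlg

universe u
variable {A A' B' : Type u} [CommRing A] [CommRing A'] [CommRing B']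
  [Algebra A A'] [Algebra A' B'] [Algebra A B'] [IsScalarTower A A' B']

/-- The counit `A' ⊗[A] B' → B'`, `a ⊗ b ↦ a • b`. -/
noncomputable def mu : A' ⊗[A] B' →ₐ[A] B' :=
  Algebra.TensorProduct.productMap ((Algebra.ofId A' B').restrictScalars A) (AlgHom.id A B')

@[simp]
theorem mu_tmul (a : A') (b : B') : mu (A := A) (a ⊗ₜ[A] b) = algebraMap A' B' a * b := by
  simp [mu, Algebra.ofId_apply]

/-- The descended algebra: the equalizer of the coaction and `b ↦ 1 ⊗ b`. -/
def descAlg (ρ : B' →ₐ[A] A' ⊗[A] B') : Subalgebra A B' :=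
  AlgHom.equalizer ρ Algebra.TensorProduct.includeRight

theorem mem_descAlg (ρ : B' →ₐ[A] A' ⊗[A] B') (b : B') :
    b ∈ descAlg ρ ↔ ρ b = 1 ⊗ₜ[A] b := Iff.rfl

variable (ρ : B' →ₐ[A] A' ⊗[A] B')

theorem isPushout_descAlg [Module.Flat A A']
    (h1 : ∀ a : A', ρ (algebraMap A' B' a) = a ⊗ₜ[A] 1)
    (h2 : ∀ b : B', mu (A := A) (ρ b) = b)
    (h3 : ∀ b : B', Algebra.TensorProduct.map (AlgHom.id A A') ρ (ρ b) =
      Algebra.TensorProduct.map (AlgHom.id A A') Algebra.TensorProduct.includeRight (ρ b)) :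
    Algebra.IsPushout A A' (descAlg ρ) B' := by
  classical
  let B := descAlg ρ
  let ι : B →ₗ[A] B' := B.val.toLinearMap
  let d : B' →ₗ[A] A' ⊗[A] B' :=
    ρ.toLinearMap - (Algebra.TensorProduct.includeRight : B' →ₐ[A] A' ⊗[A] B').toLinearMap
  have hι : Function.Injective ι := Subtype.val_injective
  have hex : Function.Exact ι d := by
    intro y
    constructor
    · intro hy
      have : ρ y = 1 ⊗ₜ[A] y := by
        have : ρ y - 1 ⊗ₜ[A] y = 0 := by simpa [d] using hy
        exact sub_eq_zero.mp this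
      exact ⟨⟨y, this⟩, rfl⟩
    · rintro ⟨x, rfl⟩
      have : ρ (x : B') = 1 ⊗ₜ[A] (x : B') := x.2
      simp [d, ι, this]
  have hex' : Function.Exact (ι.lTensor A') (d.lTensor A') := Module.Flat.lTensor_exact A' hex
  have hinj' : Function.Injective (ι.lTensor A') :=
    Module.Flat.lTensor_preserves_injective_linearMap ι hι
  let θ : A' ⊗[A] B →ₗ[A'] B' := ι.liftBaseChange A'
  -- `θ = μ ∘ (A' ⊗ ι)`
  have hθ : ∀ x, θ x = mu (A := A) (ι.lTensor A' x) := by
    intro x
    induction x with
    | zero => simp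
    | add x y hx hy => simp [hx, hy]
    | tmul a b => simp [θ, ι, Algebra.smul_def]
  -- `ρ ∘ θ = A' ⊗ ι`
  have hρθ : ∀ x, ρ (θ x) = ι.lTensor A' x := by
    intro x
    induction x with
    | zero => simp
    | add x y hx hy => simp [hx, hy]
    | tmul a b =>
      have hb : ρ (b : B') = 1 ⊗ₜ[A] (b : B') := b.2
      simp [θ, ι, Algebra.smul_def, h1, hb]
  have hθinj : Function.Injective θ := by
    intro x y hxy
    apply hinj'
    rw [← hρθ, ← hρθ, hxy]
  have hθsurj : Function.Surjective θ := by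
    intro n
    have hker : d.lTensor A' (ρ n) = 0 := by
      have e1 : ∀ t : A' ⊗[A] B', d.lTensor A' t =
          Algebra.TensorProduct.map (AlgHom.id A A') ρ t -
            Algebra.TensorProduct.map (AlgHom.id A A') Algebra.TensorProduct.includeRight t := by
        intro t
        induction t with
        | zero => simp
        | add x y hx hy => simp only [map_add, hx, hy]; abel
        | tmul a b => simp [d, TensorProduct.tmul_sub]
      rw [e1, h3, sub_self]
    obtain ⟨x, hx⟩ := (hex' (ρ n)).1 hker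
    exact ⟨x, by rw [hθ, hx, h2]⟩
  let e : A' ⊗[A] B ≃ₗ[A'] B' := LinearEquiv.ofBijective θ ⟨hθinj, hθsurj⟩
  exact ⟨IsBaseChange.of_equiv e (fun x => by simp [e, θ, ι])⟩

end Groth.Agent.Lib.H69DescentAlg
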