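import Groth.Agent.Lib.H69AlgSp
import Groth.Agent.Lib.H69DescentAlg
import Groth.Agent.Lib.SheafEpi

/-!
# Effective fppf descent for affine morphisms, in `AlgSp.Sp S` (helper69)

Part 1: gluing a morphism `h_V ⟶ F` along an fppf cover `q : V ⟶ U`.
Part 2: `Spec` of `A`-algebras as objects of `Over S`.
-/

set_option autoImplicit false
universe u

open CategoryTheory CategoryTheory.Limits AlgebraicGeometry Opposite TensorProduct

namespace Groth.Agent.Lib.H69DescentAffine

open AlgSp Groth.Agent.Lib.H69AlgSp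

variable {S : Scheme.{u}}

section Glue

/-- Gluing along a single fppf cover: a map `x : h_V ⟶ F` to an fppf sheaf which equalizes the kernel pair of
`q : V ⟶ U` (tested on all `T`-points) descends uniquely to `h_U ⟶ F`. -/
theorem exists_desc_of_fppf {U V : Over S} (q : V ⟶ U) [Flat q.left] [LocallyOfFinitePresentation q.left]
    [Surjective q.left] {F : Sp S} (x : (yon S).obj V ⟶ F)
    (hx : ∀ (T : Over S) (t₁ t₂ : T ⟶ V), t₁ ≫ q = t₂ ≫ q →
      (yon S).map t₁ ≫ x = (yon S).map t₂ ≫ x) :
    ∃ ψ : (yon S).obj U ⟶ F, (yon S).map q ≫ ψ = x := by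
  have hmem : Sieve.generate (Presieve.ofArrows (fun _ : Unit => V) (fun _ => q)) ∈ J S U :=
    mem_J_of_fppf q _ ⟨V, 𝟙 V, q, Presieve.ofArrows.mk (), by simp⟩
  have hsh : Presieve.IsSheafFor F.obj (Presieve.ofArrows (fun _ : Unit => V) (fun _ => q)) := by
    rw [Presieve.isSheafFor_iff_generate]
    exact (isSheaf_iff_isSheaf_of_type _ _).1 F.property _ hmem
  rw [Presieve.isSheafFor_arrows_iff] at hsh
  obtain ⟨t, ht, -⟩ := hsh (fun _ => yEquiv x) (by
    intro _ _ T g₁ g₂ h
    have := hx T g₁ g₂ h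
    rw [← yEquiv_map_comp, ← yEquiv_map_comp, this])
  refine ⟨yEquiv.symm t, ?_⟩
  apply yEquiv.injective
  rw [yEquiv_map_comp, Equiv.apply_symm_apply]
  exact ht ()

end Glue

section SpecObj

variable {A : Type u} [CommRing A] (sZ : Spec (CommRingCat.of A) ⟶ S)

/-- `Spec R` for an `A`-algebra `R`, as a scheme over `S` through `sZ : Spec A ⟶ S`. -/
noncomputable def X (R : Type u) [CommRing R] [Algebra A R] : Over S :=
  Over.mk (Spec.map (CommRingCat.ofHom (algebraMap A R)) ≫ sZ)

variable {R R' R'' : Type u} [CommRing R] [CommRing R'] [CommRing R''] [Algebra A R] [Algebra A R']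
  [Algebra A R'']

/-- The morphism `Spec R' ⟶ Spec R` over `S` attached to an `A`-algebra map `R → R'`. -/
noncomputable def m (g : R →ₐ[A] R') : X sZ R' ⟶ X sZ R :=
  Over.homMk (Spec.map (CommRingCat.ofHom g.toRingHom)) (by
    dsimp [X]
    rw [← Category.assoc, ← Spec.map_comp, ← CommRingCat.ofHom_comp, AlgHom.comp_algebraMap])

@[simp]
theorem m_left (g : R →ₐ[A] R') : (m sZ g).left = Spec.map (CommRingCat.ofHom g.toRingHom) := rfl

theorem m_comp (f : R →ₐ[A] R') (g : R' →ₐ[A] R'') : m sZ (g.comp f) = m sZ g ≫ m sZ f := by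
  apply Over.OverMorphism.ext
  change Spec.map (CommRingCat.ofHom (g.comp f).toRingHom) =
    Spec.map (CommRingCat.ofHom g.toRingHom) ≫ Spec.map (CommRingCat.ofHom f.toRingHom)
  rw [← Spec.map_comp, ← CommRingCat.ofHom_comp]
  rfl

theorem m_id : m sZ (AlgHom.id A R) = 𝟙 (X sZ R) := by
  apply Over.OverMorphism.ext
  change Spec.map (CommRingCat.ofHom (AlgHom.id A R).toRingHom) = 𝟙 (Spec (CommRingCat.of R))
  exact Spec.map_id _

theorem m_injective {g g' : R →ₐ[A] R'} (h : m sZ g = m sZ g') : g = g' := by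
  have h1 : Spec.map (CommRingCat.ofHom g.toRingHom) = Spec.map (CommRingCat.ofHom g'.toRingHom) :=
    congrArg (fun k => k.left) h
  have h2 := Spec.map_injective h1
  have h3 : g.toRingHom = g'.toRingHom := by
    have := congrArg CommRingCat.Hom.hom h2
    simpa using this
  exact AlgHom.coe_ringHom_injective h3

/-- Morphisms over `Spec A` between spectra of `A`-algebras come from `A`-algebra maps. -/
theorem m_full (t : X sZ R' ⟶ X sZ R)
    (ht : t ≫ m sZ (Algebra.ofId A R) = m sZ (Algebra.ofId A R')) : ∃ g : R →ₐ[A] R', m sZ g = t := by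
  let tl : Spec (CommRingCat.of R') ⟶ Spec (CommRingCat.of R) := t.left
  let g₀ : CommRingCat.of R ⟶ CommRingCat.of R' := Spec.preimage tl
  have hg₀ : Spec.map g₀ = tl := Spec.map_preimage _
  have h1 : tl ≫ Spec.map (CommRingCat.ofHom (algebraMap A R)) =
      Spec.map (CommRingCat.ofHom (algebraMap A R')) :=
    congrArg (fun k => k.left) ht
  rw [← hg₀, ← Spec.map_comp] at h1
  have h2 := Spec.map_injective h1
  have h3 : ∀ r : A, g₀.hom (algebraMap A R r) = algebraMap A R' r := by
    intro r
    have := congrArg (fun k => k.hom r) h2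
    simpa using this
  refine ⟨{ g₀.hom with commutes' := h3 }, ?_⟩
  apply Over.OverMorphism.ext
  change Spec.map _ = tl
  rw [← hg₀]
  rfl

/-- `Spec (R₁ ⊗[A] R₂)` is the fibre product of `Spec R₁` and `Spec R₂` over `Spec A`, in `Over S`. -/
theorem isPullback_m_tensor (R₁ R₂ : Type u) [CommRing R₁] [CommRing R₂] [Algebra A R₁] [Algebra A R₂] :
    IsPullback (m sZ (Algebra.TensorProduct.includeLeft : R₁ →ₐ[A] R₁ ⊗[A] R₂))
      (m sZ (Algebra.TensorProduct.includeRight : R₂ →ₐ[A] R₁ ⊗[A] R₂))
      (m sZ (Algebra.ofId A R₁)) (m sZ (Algebra.ofId A R₂)) := by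
  apply IsPullback.of_map_of_faithful (Over.forget S)
  exact isPullback_SpecMap_of_isPushout _ _ _ _ (CommRingCat.isPushout_tensorProduct A R₁ R₂)

/-- A pushout square of `A`-algebras (with corner `A`) gives a pullback square of spectra in `Over S`. -/
theorem isPullback_m_of_isPushout (R₁ R₂ R₃ : Type u) [CommRing R₁] [CommRing R₂] [CommRing R₃]
    [Algebra A R₁] [Algebra A R₂] [Algebra A R₃] [Algebra R₁ R₃] [Algebra R₂ R₃]
    [IsScalarTower A R₁ R₃] [IsScalarTower A R₂ R₃] [Algebra.IsPushout A R₁ R₂ R₃] :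
    IsPullback (m sZ (IsScalarTower.toAlgHom A R₁ R₃)) (m sZ (IsScalarTower.toAlgHom A R₂ R₃))
      (m sZ (Algebra.ofId A R₁)) (m sZ (Algebra.ofId A R₂)) := by
  apply IsPullback.of_map_of_faithful (Over.forget S)
  exact isPullback_SpecMap_of_isPushout _ _ _ _ (CommRingCat.isPushout_of_isPushout A R₁ R₂ R₃)

end SpecObj

section Covers

/-- `h_p` is a surjection of fppf sheaves for an fppf cover `p`. -/
theorem isLocallySurjective_yon_map {U V : Over S} (p : V ⟶ U) [Flat p.left]
    [LocallyOfFinitePresentation p.left] [Surjective p.left] :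
    Sheaf.IsLocallySurjective ((yon S).map p) := by
  constructor
  intro T s
  obtain ⟨z, rfl⟩ := (yEquiv (U := T) (F := (yon S).obj U)).surjective s
  let t : T ⟶ U := (yon S).preimage z
  have sqO : IsPullback (pullback.fst t p) (pullback.snd t p) t p := IsPullback.of_hasPullback t p
  have sqL := sqO.flip.map (Over.forget S)
  have h1 : Flat (pullback.fst t p).left :=
    MorphismProperty.of_isPullback (P := @Flat) sqL ‹Flat p.left›
  have h2 : LocallyOfFinitePresentation (pullback.fst t p).left :=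
    MorphismProperty.of_isPullback (P := @LocallyOfFinitePresentation) sqL ‹_›
  have h3 : Surjective (pullback.fst t p).left :=
    MorphismProperty.of_isPullback (P := @Surjective) sqL ‹_›
  refine mem_J_of_fppf (pullback.fst t p) _ ⟨yEquiv ((yon S).map (pullback.snd t p)), ?_⟩
  rw [← yEquiv_comp, ← yEquiv_map_comp, ← Functor.map_comp, ← pullback.condition, Functor.map_comp,
    Functor.map_preimage]

/-- Uniqueness of descent along a single fppf cover. -/
theorem hom_ext_of_fppf {U V : Over S} (q : V ⟶ U) [Flat q.left] [LocallyOfFinitePresentation q.left]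
    [Surjective q.left] {F : Sp S} {ψ ψ' : (yon S).obj U ⟶ F}
    (h : (yon S).map q ≫ ψ = (yon S).map q ≫ ψ') : ψ = ψ' := by
  have := isLocallySurjective_yon_map q
  have : Epi ((yon S).map q) := inferInstance
  exact (cancel_epi _).1 h

end Covers

section Core

open Groth.Agent.Lib.H69DescentAlg

variable {A A' B' : Type u} [CommRing A] [CommRing A'] [CommRing B'] [Algebra A A'] [Algebra A' B']
  [Algebra A B'] [IsScalarTower A A' B'] (sZ : Spec (CommRingCat.of A) ⟶ S)

variable {F : Sp S} (a : F ⟶ (yon S).obj (X sZ A)) (fst : (yon S).obj (X sZ B') ⟶ F)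

/-- The coaction `ρ : B' → A' ⊗[A] B'` extracted from a pullback square `h_{W'} = F ×_{h_Z} h_{Z'}`. -/
theorem exists_coaction
    (sq : IsPullback fst ((yon S).map (m sZ (IsScalarTower.toAlgHom A A' B'))) a
      ((yon S).map (m sZ (Algebra.ofId A A')))) :
    ∃ ρ : B' →ₐ[A] A' ⊗[A] B',
      (yon S).map (m sZ ρ) ≫ fst =
        (yon S).map (m sZ (Algebra.TensorProduct.includeRight : B' →ₐ[A] A' ⊗[A] B')) ≫ fst ∧
      ρ.comp (IsScalarTower.toAlgHom A A' B') = Algebra.TensorProduct.includeLeft := by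
  have hw : ((yon S).map (m sZ (Algebra.TensorProduct.includeRight : B' →ₐ[A] A' ⊗[A] B')) ≫ fst) ≫ a =
      (yon S).map (m sZ (Algebra.TensorProduct.includeLeft : A' →ₐ[A] A' ⊗[A] B')) ≫
        (yon S).map (m sZ (Algebra.ofId A A')) := by
    rw [Category.assoc, sq.w, ← Functor.map_comp, ← Functor.map_comp, ← Functor.map_comp, ← m_comp,
      ← m_comp, ← m_comp]
    exact congrArg (fun g => (yon S).map (m sZ g)) (Subsingleton.elim _ _)
  obtain ⟨act, hact1, hact2⟩ := exists_lift_yon sq _ _ hw
  have hact3 : act ≫ m sZ (IsScalarTower.toAlgHom A A' B') =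
      m sZ (Algebra.TensorProduct.includeLeft : A' →ₐ[A] A' ⊗[A] B') := by
    apply (yon S).map_injective
    rw [Functor.map_comp, hact2]
  have hact4 : act ≫ m sZ (Algebra.ofId A B') = m sZ (Algebra.ofId A (A' ⊗[A] B')) := by
    have e1 : m sZ (Algebra.ofId A B') =
        m sZ (IsScalarTower.toAlgHom A A' B') ≫ m sZ (Algebra.ofId A A') := by
      rw [← m_comp]; exact congrArg (m sZ) (Subsingleton.elim _ _)
    rw [e1, ← Category.assoc, hact3, ← m_comp]
    exact congrArg (m sZ) (Subsingleton.elim _ _)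
  obtain ⟨ρ, hρ⟩ := m_full sZ act hact4
  refine ⟨ρ, by rw [hρ, hact1], ?_⟩
  apply m_injective sZ
  rw [m_comp, hρ, hact3]

/-- The coaction is `A'`-linear, counital and coassociative. -/
theorem coaction_props
    (sq : IsPullback fst ((yon S).map (m sZ (IsScalarTower.toAlgHom A A' B'))) a
      ((yon S).map (m sZ (Algebra.ofId A A'))))
    (ρ : B' →ₐ[A] A' ⊗[A] B')
    (hρ1 : (yon S).map (m sZ ρ) ≫ fst =
        (yon S).map (m sZ (Algebra.TensorProduct.includeRight : B' →ₐ[A] A' ⊗[A] B')) ≫ fst)
    (hρ2 : ρ.comp (IsScalarTower.toAlgHom A A' B') = Algebra.TensorProduct.includeLeft) :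
    (∀ x : A', ρ (algebraMap A' B' x) = x ⊗ₜ[A] 1) ∧ (∀ b : B', mu (A := A) (ρ b) = b) ∧
      (∀ b : B', Algebra.TensorProduct.map (AlgHom.id A A') ρ (ρ b) =
        Algebra.TensorProduct.map (AlgHom.id A A') Algebra.TensorProduct.includeRight (ρ b)) := by
  -- generic rewriting: `h_{m g} ≫ h_{m ρ} ≫ fst = h_{m (g ∘ inclR)} ≫ fst`
  have key1 : ∀ {R : Type u} [CommRing R] [Algebra A R] (g : A' ⊗[A] B' →ₐ[A] R),
      (yon S).map (m sZ g ≫ m sZ ρ) ≫ fst =
        (yon S).map (m sZ (g.comp Algebra.TensorProduct.includeRight)) ≫ fst := by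
    intro R _ _ g
    rw [Functor.map_comp, Category.assoc, hρ1, ← Category.assoc, ← Functor.map_comp, ← m_comp]
  have key2 : ∀ {R : Type u} [CommRing R] [Algebra A R] (g : A' ⊗[A] B' →ₐ[A] R),
      (m sZ g ≫ m sZ ρ) ≫ m sZ (IsScalarTower.toAlgHom A A' B') =
        m sZ (g.comp Algebra.TensorProduct.includeLeft) := by
    intro R _ _ g
    rw [Category.assoc, ← m_comp, hρ2, ← m_comp]
  refine ⟨fun x => ?_, fun b => ?_, fun b => ?_⟩
  · have := AlgHom.congr_fun hρ2 x
    simpa using this
  · have h : (mu (A := A) (A' := A') (B' := B')).comp ρ = AlgHom.id A B' := by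
      apply m_injective sZ
      rw [m_comp, m_id]
      apply hom_ext_yon_pullback sq
      · rw [key1]
        have e : (mu (A := A) (A' := A') (B' := B')).comp Algebra.TensorProduct.includeRight =
            AlgHom.id A B' := by
          ext b; simp
        rw [e, m_id]
      · rw [← Functor.map_comp, ← Functor.map_comp, key2]
        have e : (mu (A := A) (A' := A') (B' := B')).comp Algebra.TensorProduct.includeLeft =
            IsScalarTower.toAlgHom A A' B' := by
          ext x; simp
        rw [e, Category.id_comp]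
    exact AlgHom.congr_fun h b
  · have h : (Algebra.TensorProduct.map (AlgHom.id A A') ρ).comp ρ =
        (Algebra.TensorProduct.map (AlgHom.id A A') Algebra.TensorProduct.includeRight).comp ρ := by
      apply m_injective sZ
      rw [m_comp, m_comp]
      apply hom_ext_yon_pullback sq
      · rw [key1, key1]
        have e1 : (Algebra.TensorProduct.map (AlgHom.id A A') ρ).comp
            (Algebra.TensorProduct.includeRight : B' →ₐ[A] A' ⊗[A] B') =
            (Algebra.TensorProduct.includeRight : A' ⊗[A] B' →ₐ[A] A' ⊗[A] (A' ⊗[A] B')).comp ρ := by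
          ext b; simp
        have e2 : (Algebra.TensorProduct.map (AlgHom.id A A')
            (Algebra.TensorProduct.includeRight : B' →ₐ[A] A' ⊗[A] B')).comp
            (Algebra.TensorProduct.includeRight : B' →ₐ[A] A' ⊗[A] B') =
            (Algebra.TensorProduct.includeRight : A' ⊗[A] B' →ₐ[A] A' ⊗[A] (A' ⊗[A] B')).comp
              Algebra.TensorProduct.includeRight := by
          ext b; simp
        rw [e1, e2, m_comp, key1]
      · rw [← Functor.map_comp, ← Functor.map_comp, key2, key2]
        congr 2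
        ext x; simp
    exact AlgHom.congr_fun h b

/-- **Effective fppf descent for affine schemes, `Spec` form.** Let `A → A'` be flat with `Spec A' → Spec A`
an fppf cover, `F` an fppf sheaf over `h_{Spec A}` whose base change to `h_{Spec A'}` is `h_{Spec B'}`.
Then `F ≅ h_{Spec B}` over `h_{Spec A}` for an `A`-subalgebra `B` of `B'`. -/
theorem affine_descent_spec [Module.Flat A A'] [Flat (m sZ (Algebra.ofId A A')).left]
    [LocallyOfFinitePresentation (m sZ (Algebra.ofId A A')).left]
    [Surjective (m sZ (Algebra.ofId A A')).left]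
    (sq : IsPullback fst ((yon S).map (m sZ (IsScalarTower.toAlgHom A A' B'))) a
      ((yon S).map (m sZ (Algebra.ofId A A')))) :
    ∃ (B : Subalgebra A B') (e : (yon S).obj (X sZ B) ≅ F),
      e.hom ≫ a = (yon S).map (m sZ (Algebra.ofId A B)) ∧
      (yon S).map (m sZ B.val) ≫ e.hom = fst := by
  obtain ⟨ρ, hρ1, hρ2⟩ := exists_coaction sZ a fst sq
  obtain ⟨h1, h2, h3⟩ := coaction_props sZ a fst sq ρ hρ1 hρ2
  let B : Subalgebra A B' := descAlg ρ
  have hpo : Algebra.IsPushout A A' B B' := isPushout_descAlg ρ h1 h2 h3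
  have sq3 := isPullback_m_of_isPushout sZ A' B B'
  have sq1 := isPullback_m_tensor sZ A' B'
  have hval : IsScalarTower.toAlgHom A B B' = B.val := by ext b; rfl
  rw [hval] at sq3
  -- `q` is an fppf cover
  have sqL := sq3.map (Over.forget S)
  have hq1 : Flat (m sZ B.val).left :=
    MorphismProperty.of_isPullback (P := @Flat) sqL ‹_›
  have hq2 : LocallyOfFinitePresentation (m sZ B.val).left :=
    MorphismProperty.of_isPullback (P := @LocallyOfFinitePresentation) sqL ‹_›
  have hq3 : Surjective (m sZ B.val).left :=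
    MorphismProperty.of_isPullback (P := @Surjective) sqL ‹_›
  have hq : m sZ ρ ≫ m sZ B.val =
      m sZ (Algebra.TensorProduct.includeRight : B' →ₐ[A] A' ⊗[A] B') ≫ m sZ B.val := by
    rw [← m_comp, ← m_comp]
    congr 1
    ext b
    exact b.2
  have hwp : m sZ (IsScalarTower.toAlgHom A A' B') ≫ m sZ (Algebra.ofId A A') =
      m sZ (Algebra.ofId A B') := by
    rw [← m_comp]; exact congrArg (m sZ) (Subsingleton.elim _ _)
  -- glue
  obtain ⟨ψ, hψ⟩ := exists_desc_of_fppf (m sZ B.val) fst (by
    intro T t₁ t₂ h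
    have hc : (t₁ ≫ m sZ (IsScalarTower.toAlgHom A A' B')) ≫ m sZ (Algebra.ofId A A') =
        t₂ ≫ m sZ (Algebra.ofId A B') := by
      rw [Category.assoc, sq3.w, ← Category.assoc, h, Category.assoc, ← sq3.w, hwp]
    let l := sq1.lift _ _ hc
    have hl : l ≫ m sZ ρ = t₁ := by
      apply sq3.hom_ext
      · have : m sZ ρ ≫ m sZ (IsScalarTower.toAlgHom A A' B') =
            m sZ (Algebra.TensorProduct.includeLeft : A' →ₐ[A] A' ⊗[A] B') := by
          rw [← m_comp, hρ2]
        rw [Category.assoc, this, sq1.lift_fst]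
      · rw [Category.assoc, hq, ← Category.assoc, sq1.lift_snd, h]
    calc (yon S).map t₁ ≫ fst = (yon S).map (l ≫ m sZ ρ) ≫ fst := by rw [hl]
      _ = (yon S).map l ≫ (yon S).map (m sZ ρ) ≫ fst := by rw [Functor.map_comp, Category.assoc]
      _ = (yon S).map l ≫ (yon S).map (m sZ Algebra.TensorProduct.includeRight) ≫ fst := by rw [hρ1]
      _ = (yon S).map (l ≫ m sZ Algebra.TensorProduct.includeRight) ≫ fst := by
        rw [Functor.map_comp, Category.assoc]
      _ = (yon S).map t₂ ≫ fst := by rw [sq1.lift_snd])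
  have hψa : ψ ≫ a = (yon S).map (m sZ (Algebra.ofId A B)) := by
    apply hom_ext_of_fppf (m sZ B.val)
    rw [← Category.assoc, hψ, sq.w, ← Functor.map_comp, ← Functor.map_comp, sq3.w]
  -- `ψ` is a monomorphism
  have hmono : Mono ψ := by
    apply mono_of_yon
    intro T y₁ y₂ hy
    let u₁ : T ⟶ X sZ B := (yon S).preimage y₁
    let u₂ : T ⟶ X sZ B := (yon S).preimage y₂
    have hu₁ : (yon S).map u₁ = y₁ := Functor.map_preimage _ _
    have hu₂ : (yon S).map u₂ = y₂ := Functor.map_preimage _ _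
    have hi : u₁ ≫ m sZ (Algebra.ofId A B) = u₂ ≫ m sZ (Algebra.ofId A B) := by
      apply (yon S).map_injective
      rw [Functor.map_comp, Functor.map_comp, hu₁, hu₂, ← hψa, ← Category.assoc, hy, Category.assoc]
    let pT := pullback.fst (u₁ ≫ m sZ (Algebra.ofId A B)) (m sZ (Algebra.ofId A A'))
    let r := pullback.snd (u₁ ≫ m sZ (Algebra.ofId A B)) (m sZ (Algebra.ofId A A'))
    have hcond : pT ≫ u₁ ≫ m sZ (Algebra.ofId A B) = r ≫ m sZ (Algebra.ofId A A') :=
      pullback.condition
    have sqT : IsPullback pT r (u₁ ≫ m sZ (Algebra.ofId A B)) (m sZ (Algebra.ofId A A')) :=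
      IsPullback.of_hasPullback _ _
    have sqTL := sqT.flip.map (Over.forget S)
    have hp1 : Flat pT.left := MorphismProperty.of_isPullback (P := @Flat) sqTL ‹_›
    have hp2 : LocallyOfFinitePresentation pT.left :=
      MorphismProperty.of_isPullback (P := @LocallyOfFinitePresentation) sqTL ‹_›
    have hp3 : Surjective pT.left := MorphismProperty.of_isPullback (P := @Surjective) sqTL ‹_›
    let s₁ := sq3.lift r (pT ≫ u₁) (by rw [Category.assoc, hcond])
    let s₂ := sq3.lift r (pT ≫ u₂) (by rw [Category.assoc, ← hi, hcond])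
    have hs : s₁ = s₂ := by
      apply hom_ext_yon_pullback sq
      · rw [← hψ, ← Category.assoc, ← Category.assoc, ← Functor.map_comp, ← Functor.map_comp,
          sq3.lift_snd, sq3.lift_snd, Functor.map_comp, Functor.map_comp, hu₁, hu₂, Category.assoc,
          Category.assoc, hy]
      · rw [← Functor.map_comp, ← Functor.map_comp, sq3.lift_fst, sq3.lift_fst]
    have hpu : pT ≫ u₁ = pT ≫ u₂ := by
      have e1 : s₁ ≫ m sZ B.val = pT ≫ u₁ := sq3.lift_snd _ _ _
      have e2 : s₂ ≫ m sZ B.val = pT ≫ u₂ := sq3.lift_snd _ _ _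
      rw [← e1, ← e2, hs]
    apply hom_ext_of_fppf pT
    rw [← hu₁, ← hu₂, ← Functor.map_comp, ← Functor.map_comp, hpu]
  -- `ψ` is an epimorphism
  have hepi : Epi ψ := by
    have := isLocallySurjective_yon_map (m sZ (Algebra.ofId A A'))
    have : Sheaf.IsLocallySurjective fst := Groth.Agent.Lib.SheafEpi.isLocallySurjective_of_isPullback _ sq
    have : Epi fst := inferInstance
    have : Epi ((yon S).map (m sZ B.val) ≫ ψ) := by rw [hψ]; infer_instance
    exact epi_of_epi ((yon S).map (m sZ B.val)) ψ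
  have hiso : IsIso ψ := isIso_of_mono_of_epi ψ
  exact ⟨B, asIso ψ, hψa, hψ⟩

end Core

end Groth.Agent.Lib.H69DescentAffine
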