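import Groth.Agent.Lib.AffGrpd13f
import Groth.Agent.Lib.H69DescentAffine
import Groth.Agent.Lib.H69AlgSp
import Groth.Prelude.Def_AlgSp

/-!
# Finite étale (more generally finite locally free) quotients of affine schemes (helper46)

Bridge between helper13's affine groupoid quotient (`AffGrpd13.toQuot_finite_flat_fp`,
`AffGrpd13.isPullback_toQuot`) and algebraic spaces: an fppf sheaf `X` with an epimorphism
`a : h_U ⟶ X` from an affine scheme whose kernel pair is represented by `s, t : R ⟶ U` finite locally
free is representable by the affine scheme `Spec (invariants)`.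
-/

set_option autoImplicit false
universe u

namespace Groth.Agent.Lib.FinEtQuot46

open CategoryTheory CategoryTheory.Limits AlgebraicGeometry Opposite AlgSp

variable {S : Scheme.{u}} {R U : Over S} {s t : R ⟶ U}

/-- Joint injectivity of `(t, s)` at the level of schemes. -/
theorem eq_of_comp_eq (h : IsEqvRel s t) {T : Scheme.{u}} (x y : T ⟶ R.left)
    (ht : x ≫ t.left = y ≫ t.left) (hs : x ≫ s.left = y ≫ s.left) : x = y := by
  have e : y ≫ R.hom = x ≫ R.hom := by
    rw [← Over.w t, ← Category.assoc, ← ht, Category.assoc]
  have := h.injective (Over.mk (x ≫ R.hom)) (Over.homMk x rfl) (Over.homMk y e)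
    (Over.OverMorphism.ext ht) (Over.OverMorphism.ext hs)
  exact congrArg CommaMorphism.left this

theorem exists_refl (h : IsEqvRel s t) :
    ∃ e : U.left ⟶ R.left, e ≫ t.left = 𝟙 _ ∧ e ≫ s.left = 𝟙 _ := by
  obtain ⟨r, h1, h2⟩ := (h.equivalence U).refl (𝟙 U)
  exact ⟨r.left, congrArg CommaMorphism.left h1, congrArg CommaMorphism.left h2⟩

theorem exists_symm (h : IsEqvRel s t) :
    ∃ i : R.left ⟶ R.left, i ≫ t.left = s.left ∧ i ≫ s.left = t.left := by
  obtain ⟨r, h1, h2⟩ := (h.equivalence R).symm
    (⟨𝟙 R, Category.id_comp _, Category.id_comp _⟩ : ∃ r : R ⟶ R, r ≫ t = t ∧ r ≫ s = s)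
  exact ⟨r.left, congrArg CommaMorphism.left h1, congrArg CommaMorphism.left h2⟩

theorem exists_trans (h : IsEqvRel s t) :
    ∃ c : pullback s.left t.left ⟶ R.left,
      c ≫ t.left = pullback.fst s.left t.left ≫ t.left ∧
      c ≫ s.left = pullback.snd s.left t.left ≫ s.left := by
  let T : Over S := Over.mk (pullback.fst s.left t.left ≫ R.hom)
  let α : T ⟶ R := Over.homMk (pullback.fst s.left t.left) rfl
  have hβ : pullback.snd s.left t.left ≫ R.hom = pullback.fst s.left t.left ≫ R.hom := by
    calc pullback.snd s.left t.left ≫ R.hom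
        = (pullback.snd s.left t.left ≫ t.left) ≫ U.hom := by rw [Category.assoc, Over.w t]
      _ = (pullback.fst s.left t.left ≫ s.left) ≫ U.hom := by rw [pullback.condition]
      _ = pullback.fst s.left t.left ≫ R.hom := by rw [Category.assoc, Over.w s]
  let β : T ⟶ R := Over.homMk (pullback.snd s.left t.left) hβ
  have hαβ : α ≫ s = β ≫ t := Over.OverMorphism.ext pullback.condition
  obtain ⟨r, h1, h2⟩ := (h.equivalence T).trans
    (⟨α, rfl, rfl⟩ : ∃ r : T ⟶ R, r ≫ t = α ≫ t ∧ r ≫ s = α ≫ s)
    (⟨β, hαβ.symm, rfl⟩ : ∃ r : T ⟶ R, r ≫ t = α ≫ s ∧ r ≫ s = β ≫ s)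
  exact ⟨r.left, congrArg CommaMorphism.left h1, congrArg CommaMorphism.left h2⟩

/-- The groupoid scheme attached to an equivalence relation `s, t : R ⟶ U` over `S`. -/
noncomputable def grpd (h : IsEqvRel s t) : Grpd.GroupoidScheme S where
  U := U.left
  R := R.left
  pU := U.hom
  pR := R.hom
  s := s.left
  t := t.left
  e := (exists_refl h).choose
  i := (exists_symm h).choose
  c := (exists_trans h).choose
  s_over := Over.w s
  t_over := Over.w t
  comp_s α β hαβ := by
    rw [Category.assoc, (exists_trans h).choose_spec.2, ← Category.assoc, pullback.lift_snd]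
  comp_t α β hαβ := by
    rw [Category.assoc, (exists_trans h).choose_spec.1, ← Category.assoc, pullback.lift_fst]
  assoc α β γ h₁ h₂ := by
    apply eq_of_comp_eq h
    · simp only [Category.assoc, (exists_trans h).choose_spec.1]
      simp only [← Category.assoc, pullback.lift_fst]
      simp only [Category.assoc, (exists_trans h).choose_spec.1]
      simp only [← Category.assoc, pullback.lift_fst]
    · simp only [Category.assoc, (exists_trans h).choose_spec.2]
      simp only [← Category.assoc, pullback.lift_snd]
      simp only [Category.assoc, (exists_trans h).choose_spec.2]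
      simp only [← Category.assoc, pullback.lift_snd]
  e_s := (exists_refl h).choose_spec.2
  e_t := (exists_refl h).choose_spec.1
  comp_e α := by
    apply eq_of_comp_eq h
    · rw [Category.assoc, (exists_trans h).choose_spec.1, ← Category.assoc, pullback.lift_fst]
    · rw [Category.assoc, (exists_trans h).choose_spec.2, ← Category.assoc, pullback.lift_snd,
        Category.assoc, Category.assoc, (exists_refl h).choose_spec.2, Category.comp_id]
  e_comp α := by
    apply eq_of_comp_eq h
    · rw [Category.assoc, (exists_trans h).choose_spec.1, ← Category.assoc, pullback.lift_fst,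
        Category.assoc, Category.assoc, (exists_refl h).choose_spec.1, Category.comp_id]
    · rw [Category.assoc, (exists_trans h).choose_spec.2, ← Category.assoc, pullback.lift_snd]
  i_s := (exists_symm h).choose_spec.2
  i_t := (exists_symm h).choose_spec.1
  comp_i α := by
    apply eq_of_comp_eq h
    · rw [Category.assoc, (exists_trans h).choose_spec.1, ← Category.assoc, pullback.lift_fst,
        Category.assoc, Category.assoc, (exists_refl h).choose_spec.1, Category.comp_id]
    · rw [Category.assoc, (exists_trans h).choose_spec.2, ← Category.assoc, pullback.lift_snd,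
        Category.assoc, (exists_symm h).choose_spec.2,
        Category.assoc, Category.assoc, (exists_refl h).choose_spec.2, Category.comp_id]
  i_comp α := by
    apply eq_of_comp_eq h
    · rw [Category.assoc, (exists_trans h).choose_spec.1, ← Category.assoc, pullback.lift_fst,
        Category.assoc, (exists_symm h).choose_spec.1,
        Category.assoc, Category.assoc, (exists_refl h).choose_spec.1, Category.comp_id]
    · rw [Category.assoc, (exists_trans h).choose_spec.2, ← Category.assoc, pullback.lift_snd,
        Category.assoc, Category.assoc, (exists_refl h).choose_spec.2, Category.comp_id]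

theorem mono_j (h : IsEqvRel s t) : Mono (grpd h).j := by
  constructor
  intro T x y hxy
  apply eq_of_comp_eq h
  · have := congrArg (· ≫ pullback.fst _ _) hxy
    simp only [Category.assoc, Grpd.GroupoidScheme.j, pullback.lift_fst] at this
    exact this
  · have := congrArg (· ≫ pullback.snd _ _) hxy
    simp only [Category.assoc, Grpd.GroupoidScheme.j, pullback.lift_snd] at this
    exact this

/-- If `h_R = h_U ×_F h_U` then `r ≫ t ~ r ≫ s` is the relation "equal in `F`". -/
theorem rel_iff {F : Sp S} {p : (yon S).obj U ⟶ F}
    (hR : IsPullback ((yon S).map t) ((yon S).map s) p p) {T : Over S} (x y : T ⟶ U) :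
    (∃ r : T ⟶ R, r ≫ t = x ∧ r ≫ s = y) ↔ (yon S).map x ≫ p = (yon S).map y ≫ p := by
  constructor
  · rintro ⟨r, rfl, rfl⟩
    rw [Functor.map_comp, Functor.map_comp, Category.assoc, Category.assoc, hR.w]
  · intro h
    obtain ⟨r, hr⟩ := (yon S).map_surjective (hR.lift _ _ h)
    refine ⟨r, (yon S).map_injective ?_, (yon S).map_injective ?_⟩
    · rw [Functor.map_comp, hr, hR.lift_fst]
    · rw [Functor.map_comp, hr, hR.lift_snd]

theorem isEqvRel_of_isPullback {F : Sp S} {p : (yon S).obj U ⟶ F}
    (hR : IsPullback ((yon S).map t) ((yon S).map s) p p) : IsEqvRel s t where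
  injective T r r' h1 h2 := by
    apply (yon S).map_injective
    apply hR.hom_ext
    · rw [← Functor.map_comp, ← Functor.map_comp, h1]
    · rw [← Functor.map_comp, ← Functor.map_comp, h2]
  equivalence T := by
    constructor
    · intro x
      exact (rel_iff hR x x).2 rfl
    · intro x y h
      exact (rel_iff hR y x).2 ((rel_iff hR x y).1 h).symm
    · intro x y z h1 h2
      exact (rel_iff hR x z).2 (((rel_iff hR x y).1 h1).trans ((rel_iff hR y z).1 h2))

/-- **Key lemma (finite locally free quotients of affine schemes).**  Let `a : h_U ⟶ X` be an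
epimorphism of fppf sheaves with `U` affine, whose kernel pair is represented by `s, t : R ⟶ U`
with `s` finite locally free.  Then `X` is representable by an affine scheme `M`, and `a`
corresponds to a finite locally free surjective morphism `q : U ⟶ M`. -/
theorem exists_iso_of_finite {X : Sp S} (a : (yon S).obj U ⟶ X) [Epi a]
    (hR : IsPullback ((yon S).map t) ((yon S).map s) a a) [IsAffine U.left]
    [IsFinite s.left] [Flat s.left] [LocallyOfFinitePresentation s.left] :
    ∃ (M : Over S) (e : (yon S).obj M ≅ X) (q : U ⟶ M), IsAffine M.left ∧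
      (yon S).map q ≫ e.hom = a ∧ IsFinite q.left ∧ Flat q.left ∧
      LocallyOfFinitePresentation q.left ∧ Surjective q.left ∧ IsPullback t s q q := by
  have h := isEqvRel_of_isPullback hR
  let G := grpd h
  have : IsAffine G.U := ‹IsAffine U.left›
  have : IsFinite G.s := ‹IsFinite s.left›
  have : Flat G.s := ‹Flat s.left›
  have : LocallyOfFinitePresentation G.s := ‹LocallyOfFinitePresentation s.left›
  have : IsAffine G.R := isAffine_of_isAffineHom G.s
  have : Mono G.j := mono_j h
  obtain ⟨hfin, hflat, hfp⟩ := Groth.Agent.Lib.AffGrpd13.toQuot_finite_flat_fp G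
  have hsurj : Surjective G.toQuot := by
    have h1 : Surjective (Spec.map (CommRingCat.ofHom G.invariants.subtype)) := by
      constructor
      have hint : (G.invariants.subtype : G.invariants →+* Γ(G.U, ⊤)).IsIntegral := by
        have hfin' : IsFinite (Spec.map (CommRingCat.ofHom G.invariants.subtype)) := by
          have e : Spec.map (CommRingCat.ofHom G.invariants.subtype) =
              G.U.isoSpec.inv ≫ G.toQuot := by
            unfold Grpd.GroupoidScheme.toQuot
            rw [← Category.assoc]
            have : G.U.isoSpec.inv ≫ G.U.toSpecΓ = 𝟙 _ := G.U.isoSpec.inv_hom_id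
            rw [this, Category.id_comp]
          rw [e]
          infer_instance
        rw [IsFinite.SpecMap_iff] at hfin'
        exact RingHom.Finite.to_isIntegral hfin'
      exact RingHom.IsIntegral.comap_surjective hint Subtype.val_injective
    unfold Grpd.GroupoidScheme.toQuot
    infer_instance
  have hkp : IsKernelPair G.toQuot G.t G.s := Groth.Agent.Lib.AffGrpd13.isPullback_toQuot G
  have : IsRegularEpi G.toQuot :=
    AlgebraicGeometry.isRegularEpi_of_flat_of_surjective_of_isAffine G.toQuot
  have hcoeq : G.t ≫ G.pU = G.s ≫ G.pU := by rw [G.t_over, G.s_over]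
  obtain ⟨m, hm⟩ := IsRegularEpi.exists_of_isKernelPair G.toQuot hkp G.pU hcoeq
  let M : Over S := Over.mk m
  let q : U ⟶ M := Over.homMk G.toQuot hm
  have hP : IsPullback t s q q := by
    apply IsPullback.of_map (Over.forget S)
      (Over.OverMorphism.ext (Groth.Agent.Lib.AffGrpd13.toQuot_comm G))
    exact hkp
  have : Flat q.left := hflat
  have : LocallyOfFinitePresentation q.left := hfp
  have : Surjective q.left := hsurj
  have hepi : Epi ((yon S).map q) :=
    (Sheaf.isLocallySurjective_iff_epi _).1
      (Groth.Agent.Lib.H69DescentAffine.isLocallySurjective_yon_map q)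
  have hPy : IsPullback ((yon S).map t) ((yon S).map s) ((yon S).map q) ((yon S).map q) :=
    hP.map (yon S)
  have : IsRegularEpi a := IsRegularEpiCategory.regularEpiOfEpi a
  have : IsRegularEpi ((yon S).map q) := IsRegularEpiCategory.regularEpiOfEpi _
  obtain ⟨φ, hφ⟩ := IsRegularEpi.exists_of_isKernelPair a hR ((yon S).map q) hPy.w
  obtain ⟨ψ, hψ⟩ := IsRegularEpi.exists_of_isKernelPair ((yon S).map q) hPy a hR.w
  refine ⟨M, ⟨ψ, φ, ?_, ?_⟩, q, ?_, hψ, hfin, hflat, hfp, hsurj, hP⟩
  · rw [← cancel_epi ((yon S).map q), ← Category.assoc, hψ, hφ, Category.comp_id]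
  · rw [← cancel_epi a, ← Category.assoc, hφ, hψ, Category.comp_id]
  · change IsAffine (Spec _)
    infer_instance

/-- **Finite étale quotients of affine schemes are affine schemes.**  Let `a : h_U ⟶ X` be a
representable étale surjective map from an affine scheme `U` to an fppf sheaf, whose kernel pair is
represented by `s, t : R ⟶ U` with `s` finite.  Then `X ≅ h_M` with `M` affine and `a` corresponds
to a finite étale surjective `q : U ⟶ M`. -/
theorem exists_iso_of_chart {X : Sp S} [IsAffine U.left] (a : (yon S).obj U ⟶ X)
    (he : RepWith @Etale a) (hs : RepWith @Surjective a)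
    (hR : IsPullback ((yon S).map t) ((yon S).map s) a a) [IsFinite s.left] :
    ∃ (M : Over S) (e : (yon S).obj M ≅ X) (q : U ⟶ M), IsAffine M.left ∧
      (yon S).map q ≫ e.hom = a ∧ IsFinite q.left ∧ Etale q.left ∧ Surjective q.left ∧
      IsPullback t s q q := by
  have hse : Etale s.left := he.property _ _ _ hR
  have : Epi a := (Sheaf.isLocallySurjective_iff_epi _).1
    (Groth.Agent.Lib.H69AlgSp.isLocallySurjective_of_etale_surjective a he hs)
  obtain ⟨M, e, q, hM, hq, h1, -, -, h4, h5⟩ := exists_iso_of_finite a hR
  refine ⟨M, e, q, hM, hq, h1, ?_, h4, h5⟩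
  refine (repWith_yon_map_iff @Etale q).1 ?_
  have h6 : (yon S).map q = a ≫ e.inv := by rw [← hq, Category.assoc, e.hom_inv_id, Category.comp_id]
  rw [h6]
  exact MorphismProperty.RespectsIso.postcomp _ _ _ he

end Groth.Agent.Lib.FinEtQuot46
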