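import Groth.Prelude.Def_AlgSpGpd
import Mathlib.CategoryTheory.Sites.LocallyInjective
import Mathlib.CategoryTheory.Sites.LocallySurjective
import Mathlib.CategoryTheory.Sites.EpiMono
import Mathlib.CategoryTheory.Sites.RegularEpi

/-!
# Quotient sheaves of pre-equivalence relations in `AlgSp.Sp S` (helper43)

Local ("on a covering sieve") descriptions in the category `AlgSp.Sp S` of fppf sheaves of sets over `S`:

* `hom_ext_yon`, `mono_of_yon`: morphisms / monomorphisms are detected on points with values in schemes;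
* `eq_of_locally_eq`: two `T`-valued points which agree on a covering sieve of `T` agree;
* `exists_local_lift`: `T`-valued points lift locally along an epimorphism of sheaves;
* `exists_local_rel`: for a pre-equivalence relation `s, t : R ⟶ U`, two `T`-valued points of `U` with the
  same image in the quotient sheaf `U/R` are locally related by a point of `R`;
* `mono_quotMap`, `isIso_quotMap`: the map of quotient sheaves induced by a restriction of a
  pre-equivalence relation is a monomorphism, and an isomorphism when it is an epimorphism.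
-/

set_option autoImplicit false
universe u

open CategoryTheory CategoryTheory.Limits AlgebraicGeometry Opposite

namespace Groth.Agent.Lib.H43SpQuot

open AlgSp

variable {S : Scheme.{u}}

/-- The Yoneda bijection between morphisms `h_T ⟶ F` and sections of `F` over `T`. -/
noncomputable abbrev yE {F : Sp S} {T : Over S} : ((yon S).obj T ⟶ F) ≃ F.obj.obj (op T) :=
  (J S).uliftYonedaEquiv.{u + 1}

theorem yE_comp {F G : Sp S} {T : Over S} (a : (yon S).obj T ⟶ F) (f : F ⟶ G) :
    yE (a ≫ f) = f.hom.app _ (yE a) :=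
  (J S).uliftYonedaEquiv_comp a f

theorem yE_map_comp {F : Sp S} {T T' : Over S} (g : T' ⟶ T) (a : (yon S).obj T ⟶ F) :
    yE ((yon S).map g ≫ a) = F.obj.map g.op (yE a) :=
  ((J S).uliftYonedaEquiv_naturality a g).symm

theorem yE_symm_comp {F G : Sp S} {T : Over S} (x : F.obj.obj (op T)) (f : F ⟶ G) :
    yE.symm x ≫ f = yE.symm (f.hom.app _ x) := by
  apply yE.injective
  rw [yE_comp, Equiv.apply_symm_apply, Equiv.apply_symm_apply]

/-- Morphisms of sheaves are determined by their effect on points with values in schemes. -/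
theorem hom_ext_yon {Z F : Sp S} {g₁ g₂ : Z ⟶ F}
    (h : ∀ (T : Over S) (z : (yon S).obj T ⟶ Z), z ≫ g₁ = z ≫ g₂) : g₁ = g₂ := by
  apply Sheaf.hom_ext
  ext T x
  obtain ⟨T⟩ := T
  obtain ⟨a, rfl⟩ := (yE (T := T) (F := Z)).surjective x
  change g₁.hom.app (op T) (yE a) = g₂.hom.app (op T) (yE a)
  rw [← yE_comp, ← yE_comp, h]

/-- A morphism of sheaves which is injective on points with values in schemes is a monomorphism. -/
theorem mono_of_yon {F F' : Sp S} (f : F ⟶ F')
    (h : ∀ (T : Over S) (a b : (yon S).obj T ⟶ F), a ≫ f = b ≫ f → a = b) : Mono f :=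
  ⟨fun u v huv => hom_ext_yon fun T a => h T (a ≫ u) (a ≫ v) (by
    rw [Category.assoc, Category.assoc, huv])⟩

/-- Two points which agree on a covering sieve agree. -/
theorem eq_of_locally_eq {F : Sp S} {T : Over S} (x y : (yon S).obj T ⟶ F) (𝒮 : Sieve T)
    (h𝒮 : 𝒮 ∈ J S T)
    (h : ∀ ⦃T' : Over S⦄ (f : T' ⟶ T), 𝒮 f → (yon S).map f ≫ x = (yon S).map f ≫ y) : x = y := by
  apply yE.injective
  have hsep : Presieve.IsSeparatedFor F.obj (𝒮 : Presieve T) :=
    ((isSheaf_iff_isSheaf_of_type _ _).1 F.property).isSeparated _ h𝒮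
  apply hsep.ext
  intro T' f hf
  rw [← yE_map_comp, ← yE_map_comp, h f hf]

/-- Points lift locally along an epimorphism of sheaves. -/
theorem exists_local_lift {F G : Sp S} (f : F ⟶ G) [Epi f] {T : Over S} (x : (yon S).obj T ⟶ G) :
    ∃ 𝒮 ∈ J S T, ∀ ⦃T' : Over S⦄ (h : T' ⟶ T), 𝒮 h →
      ∃ y : (yon S).obj T' ⟶ F, y ≫ f = (yon S).map h ≫ x := by
  have : Sheaf.IsLocallySurjective f := (Sheaf.isLocallySurjective_iff_epi f).2 inferInstance
  refine ⟨Presheaf.imageSieve f.hom (yE x), Presheaf.imageSieve_mem (J S) f.hom (yE x), ?_⟩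
  rintro T' h ⟨t, ht⟩
  refine ⟨yE.symm t, ?_⟩
  apply yE.injective
  rw [yE_comp, Equiv.apply_symm_apply, yE_map_comp]
  exact ht

section Quot

variable {R U : Sp S} (s t : R ⟶ U)

/-- The relation on sections of `U` over `T` defined by sections of `R`. -/
def secRel (T : (Over S)ᵒᵖ) (x y : U.obj.obj T) : Prop :=
  ∃ r : R.obj.obj T, t.hom.app T r = x ∧ s.hom.app T r = y

theorem secRel_map {T T' : (Over S)ᵒᵖ} (f : T ⟶ T') {x y : U.obj.obj T} (h : secRel s t T x y) :
    secRel s t T' (U.obj.map f x) (U.obj.map f y) := by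
  obtain ⟨r, rfl, rfl⟩ := h
  exact ⟨R.obj.map f r, ConcreteCategory.congr_hom (t.hom.naturality f) r,
    ConcreteCategory.congr_hom (s.hom.naturality f) r⟩

theorem secRel_iff {T : Over S} (a b : (yon S).obj T ⟶ U) :
    secRel s t (op T) (yE a) (yE b) ↔ ∃ r : (yon S).obj T ⟶ R, r ≫ t = a ∧ r ≫ s = b := by
  constructor
  · rintro ⟨r, h1, h2⟩
    refine ⟨yE.symm r, ?_, ?_⟩
    · apply yE.injective
      rw [yE_comp, Equiv.apply_symm_apply, h1]
    · apply yE.injective
      rw [yE_comp, Equiv.apply_symm_apply, h2]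
  · rintro ⟨r, rfl, rfl⟩
    exact ⟨yE r, (yE_comp r t).symm, (yE_comp r s).symm⟩

variable {s t}

theorem secRel_equivalence (hpre : IsPreEqvRelSp s t) (T : Over S) :
    _root_.Equivalence (secRel s t (op T)) := by
  have key : ∀ x y : U.obj.obj (op T), secRel s t (op T) x y ↔
      ∃ r : (yon S).obj T ⟶ R, r ≫ t = yE.symm x ∧ r ≫ s = yE.symm y := by
    intro x y
    rw [← secRel_iff, Equiv.apply_symm_apply, Equiv.apply_symm_apply]
  refine ⟨fun x => (key x x).2 ((hpre T).refl _), fun {x y} h => (key y x).2 ((hpre T).symm ((key x y).1 h)),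
    fun {x y z} h1 h2 => (key x z).2 ((hpre T).trans ((key x y).1 h1) ((key y z).1 h2))⟩

variable (s t)

/-- The sectionwise quotient presheaf. -/
def quotPsh : (Over S)ᵒᵖ ⥤ Type (u + 1) where
  obj T := Quot (secRel s t T)
  map f := ↾(Quot.map (U.obj.map f) (fun _ _ h => secRel_map s t f h))
  map_id T := by
    ext z
    induction z using Quot.ind with
    | mk x => simp [Quot.map]
  map_comp f g := by
    ext z
    induction z using Quot.ind with
    | mk x => simp [Quot.map]

/-- The quotient map to the sectionwise quotient presheaf. -/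
def quotPshπ : U.obj ⟶ quotPsh s t where
  app T := ↾(Quot.mk _)
  naturality T T' f := by
    ext x
    rfl

theorem quotPshπ_w : s.hom ≫ quotPshπ s t = t.hom ≫ quotPshπ s t := by
  ext T r
  exact (Quot.sound ⟨r, rfl, rfl⟩ : Quot.mk (secRel s t T) (t.hom.app T r) = Quot.mk _ (s.hom.app T r)).symm

/-- The sheafified quotient. -/
noncomputable def quotShf : Sp S := (presheafToSheaf (J S) (Type (u + 1))).obj (quotPsh s t)

/-- The map from `U` to the sheafified quotient. -/
noncomputable def quotShfπ : U ⟶ quotShf s t :=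
  ObjectProperty.homMk (quotPshπ s t ≫ toSheafify (J S) (quotPsh s t))

theorem quotShfπ_w : s ≫ quotShfπ s t = t ≫ quotShfπ s t := by
  apply Sheaf.hom_ext
  change s.hom ≫ quotPshπ s t ≫ toSheafify (J S) (quotPsh s t) =
    t.hom ≫ quotPshπ s t ≫ toSheafify (J S) (quotPsh s t)
  rw [← Category.assoc, quotPshπ_w, Category.assoc]

variable {s t}

/-- For a pre-equivalence relation, two points of `U` with the same image in the quotient sheaf `U/R` are
locally related by a point of `R`. -/
theorem exists_local_rel (hpre : IsPreEqvRelSp s t) {T : Over S} (a b : (yon S).obj T ⟶ U)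
    (hab : a ≫ quotSpπ s t = b ≫ quotSpπ s t) :
    ∃ 𝒮 ∈ J S T, ∀ ⦃T' : Over S⦄ (h : T' ⟶ T), 𝒮 h →
      ∃ r : (yon S).obj T' ⟶ R, r ≫ t = (yon S).map h ≫ a ∧ r ≫ s = (yon S).map h ≫ b := by
  -- compare with the sheafified sectionwise quotient
  have hab' : a ≫ quotShfπ s t = b ≫ quotShfπ s t := by
    have hd : quotSpπ s t ≫ quotSpDesc (quotShfπ s t) (quotShfπ_w s t) = quotShfπ s t :=
      quotSpπ_desc _ _ _ _
    rw [← hd, ← Category.assoc, hab, Category.assoc]
  have h1 : (toSheafify (J S) (quotPsh s t)).app (op T) (Quot.mk _ (yE a)) =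
      (toSheafify (J S) (quotPsh s t)).app (op T) (Quot.mk _ (yE b)) := by
    have := congrArg yE hab'
    rw [yE_comp, yE_comp] at this
    exact this
  have hmem := Presheaf.equalizerSieve_mem (J S) (toSheafify (J S) (quotPsh s t))
    (X := op T) (Quot.mk _ (yE a)) (Quot.mk _ (yE b)) h1
  refine ⟨_, hmem, ?_⟩
  intro T' h hh
  have hh' : Quot.mk (secRel s t (op T')) (U.obj.map h.op (yE a)) =
      Quot.mk (secRel s t (op T')) (U.obj.map h.op (yE b)) := hh
  have h2 := Quot.eqvGen_exact hh'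
  rw [(secRel_equivalence hpre T').eqvGen_iff, ← yE_map_comp, ← yE_map_comp, secRel_iff] at h2
  exact h2

/-- The map of quotient sheaves induced by a restriction of a pre-equivalence relation is a monomorphism.
The hypothesis `hres` says that `R'` contains the restriction of `R` to `U'` (on points). -/
theorem mono_quotMap (hpre : IsPreEqvRelSp s t) {R' U' : Sp S} (g : U' ⟶ U) (s' t' : R' ⟶ U')
    (hres : ∀ (T : Over S) (a' b' : (yon S).obj T ⟶ U') (r : (yon S).obj T ⟶ R),
      r ≫ t = a' ≫ g → r ≫ s = b' ≫ g → ∃ r' : (yon S).obj T ⟶ R', r' ≫ t' = a' ∧ r' ≫ s' = b')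
    (ψ : quotSp s' t' ⟶ quotSp s t) (hψ : quotSpπ s' t' ≫ ψ = g ≫ quotSpπ s t) : Mono ψ := by
  apply mono_of_yon
  intro T x y hxy
  have hepi : Epi (quotSpπ s' t') := by unfold quotSpπ; exact coequalizer.π_epi
  obtain ⟨𝒮x, h𝒮x, hx⟩ := exists_local_lift (quotSpπ s' t') x
  obtain ⟨𝒮y, h𝒮y, hy⟩ := exists_local_lift (quotSpπ s' t') y
  apply eq_of_locally_eq x y (𝒮x ⊓ 𝒮y) ((J S).intersection_covering h𝒮x h𝒮y)
  intro T' h hh
  obtain ⟨a', ha'⟩ := hx h hh.1
  obtain ⟨b', hb'⟩ := hy h hh.2
  have hab : (a' ≫ g) ≫ quotSpπ s t = (b' ≫ g) ≫ quotSpπ s t := by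
    rw [Category.assoc, Category.assoc, ← hψ, ← Category.assoc, ← Category.assoc, ha', hb',
      Category.assoc, Category.assoc, hxy]
  obtain ⟨𝒮', h𝒮', hrel⟩ := exists_local_rel hpre (a' ≫ g) (b' ≫ g) hab
  apply eq_of_locally_eq _ _ 𝒮' h𝒮'
  intro T'' k hk
  obtain ⟨r, hr1, hr2⟩ := hrel k hk
  obtain ⟨r', hr'1, hr'2⟩ := hres T'' ((yon S).map k ≫ a') ((yon S).map k ≫ b') r
    (by rw [hr1, Category.assoc]) (by rw [hr2, Category.assoc])
  rw [← ha', ← hb', ← Category.assoc, ← Category.assoc, ← hr'1, ← hr'2, Category.assoc, Category.assoc,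
    quotSp_condition]

/-- If moreover the map of quotients is an epimorphism, it is an isomorphism. -/
theorem isIso_quotMap (hpre : IsPreEqvRelSp s t) {R' U' : Sp S} (g : U' ⟶ U) (s' t' : R' ⟶ U')
    (hres : ∀ (T : Over S) (a' b' : (yon S).obj T ⟶ U') (r : (yon S).obj T ⟶ R),
      r ≫ t = a' ≫ g → r ≫ s = b' ≫ g → ∃ r' : (yon S).obj T ⟶ R', r' ≫ t' = a' ∧ r' ≫ s' = b')
    (ψ : quotSp s' t' ⟶ quotSp s t) (hψ : quotSpπ s' t' ≫ ψ = g ≫ quotSpπ s t) [Epi ψ] : IsIso ψ := by
  have : Mono ψ := mono_quotMap hpre g s' t' hres ψ hψ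
  exact isIso_of_mono_of_epi ψ

end Quot

end Groth.Agent.Lib.H43SpQuot
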