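import Groth.Agent.Lib.AlgSpFppfCover
import Groth.Agent.Lib.AlgSpFpqcLocP
import Groth.Agent.Lib.H43SpQuot
import Groth.Agent.Lib.H86AlgSpPoints
import Groth.Agent.Lib.H69AlgSp

/-!
# Epimorphisms of fppf sheaves as fpqc refinement families; kernel pair of a quotient (owner: helper69)

* `isSurjectiveMor_of_epi`: an epimorphism of fppf sheaves is surjective on points;
* `hasFpqcRefinement_of_epi`: an epimorphism of fppf sheaves is a one-member family with the fpqc refinement
  property (so every descent lemma of `Lib/AlgSpFpqc*` applies along it);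
* `isPullback_quotSpπ`: for an equivalence relation `s, t : R ⟶ U` of sheaves, `R = U ×_{U/R} U`;
* `locP_quotSpπ`: `LocP P` of the quotient map from `LocP P s`.
-/

set_option autoImplicit false
universe u
open CategoryTheory CategoryTheory.Limits AlgebraicGeometry Opposite Topology

namespace Groth.Agent.Lib.H69EpiFpqc

open AlgSp Groth.Agent.Lib.H69AlgSp Groth.Agent.Lib.AlgSpFpqc

variable {S : Scheme.{u}}

/-- An epimorphism of fppf sheaves is a one-member family with the fpqc refinement property. -/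
theorem hasFpqcRefinement_of_epi {X Y : Sp S} (π : X ⟶ Y) [Epi π] :
    HasFpqcRefinement (fun _ : PUnit.{u + 1} => X) (fun _ => π) := by
  have : Sheaf.IsLocallySurjective π := (Sheaf.isLocallySurjective_iff_epi π).2 inferInstance
  intro Z hZ h
  have hZc : CompactSpace ↥Z.left := by
    have := hZ
    infer_instance
  obtain ⟨Rc, hRc, hlift⟩ := exists_cover_lift π h
  have hRc' : Rc ∈ Scheme.precoverage (@Flat ⊓ @LocallyOfFinitePresentation) Z.left := hRc
  obtain ⟨hsurj, hprop⟩ := hRc'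
  rw [Presieve.mem_comap_jointlySurjectivePrecoverage_iff] at hsurj
  choose T g hg y hy using hsurj
  have hA : ∀ z : ↥Z.left, ∃ W : (T z).affineOpens, y z ∈ W.1 := by
    intro z
    obtain ⟨_, ⟨W, hW, rfl⟩, huW, -⟩ := ((T z).isBasis_affineOpens).exists_subset_of_mem_open
      (Set.mem_univ (y z)) isOpen_univ
    exact ⟨⟨W, hW⟩, huW⟩
  choose A hyA using hA
  have hflat : ∀ z, Flat (g z) := fun z => (hprop (hg z)).1
  have hlfp : ∀ z, LocallyOfFinitePresentation (g z) := fun z => (hprop (hg z)).2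
  have hopen : ∀ z, IsOpen ((g z) '' ((A z).1 : Set ↥(T z))) := fun z => by
    have := hflat z
    have := hlfp z
    have : UniversallyOpen (g z) := inferInstance
    exact (g z).isOpenMap _ (A z).1.2
  obtain ⟨s, hs⟩ := isCompact_univ.elim_finite_subcover (fun z => (g z) '' ((A z).1 : Set ↥(T z))) hopen
    (fun z _ => Set.mem_iUnion.2 ⟨z, y z, hyA z, hy z⟩)
  let e : Fin s.card ≃ s := s.equivFin.symm
  let W' : ↥Z.left → Over S := fun z => Over.mk ((A z).1.ι ≫ g z ≫ Z.hom)
  let c' : ∀ z, W' z ⟶ Z := fun z => Over.homMk ((A z).1.ι ≫ g z) (by simp [W'])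
  refine ⟨s.card, fun j => W' (e j).1, fun j => c' (e j).1, fun j => (A (e j).1).2, fun j => ?_,
    fun z => ?_, fun j => ?_⟩
  · have := hflat (e j).1
    change Flat ((A (e j).1).1.ι ≫ g (e j).1)
    infer_instance
  · have := hs (Set.mem_univ z)
    simp only [Set.mem_iUnion] at this
    obtain ⟨k, hk, a, ha, haz⟩ := this
    refine ⟨e.symm ⟨k, hk⟩, ?_⟩
    change z ∈ Set.range (c' (e (e.symm ⟨k, hk⟩)).1).left
    rw [Equiv.apply_symm_apply]
    refine ⟨⟨a, ha⟩, ?_⟩
    change ((A k).1.ι ≫ g k) ⟨a, ha⟩ = z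
    rw [Scheme.Hom.comp_apply]
    exact haz
  · obtain ⟨y', hy'⟩ := hlift (g (e j).1) (hg (e j).1)
    let k : W' (e j).1 ⟶ Over.mk (g (e j).1 ≫ Z.hom) := Over.homMk (A (e j).1).1.ι rfl
    refine ⟨PUnit.unit, (yon S).map k ≫ y', ?_⟩
    rw [Category.assoc, hy', ← Category.assoc, ← Functor.map_comp]
    rfl

/-- An epimorphism of fppf sheaves is surjective on points. -/
theorem isSurjectiveMor_of_epi {X Y : Sp S} (π : X ⟶ Y) [Epi π] : IsSurjectiveMor π := by
  have : Sheaf.IsLocallySurjective π := (Sheaf.isLocallySurjective_iff_epi π).2 inferInstance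
  intro x
  induction x using Points.ind with | _ p => ?_
  rw [Groth.Agent.Lib.H86AlgSpPoints.mk_eq_ofPt_toHom]
  set z := Groth.Agent.Lib.H86AlgSpPoints.toHom p with hz
  obtain ⟨Rc, hRc, hlift⟩ := exists_cover_lift π z
  have hRc' : Rc ∈ Scheme.precoverage (@Flat ⊓ @LocallyOfFinitePresentation) p.pt.left := hRc
  obtain ⟨hsurj, -⟩ := hRc'
  rw [Presieve.mem_comap_jointlySurjectivePrecoverage_iff] at hsurj
  obtain ⟨T₀, g, hg, y, hy⟩ := hsurj (IsLocalRing.closedPoint p.K)
  obtain ⟨yl, hyl⟩ := hlift g hg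
  refine ⟨Points.ofPt yl y, ?_⟩
  rw [Points.map_ofPt, hyl, Groth.Agent.Lib.H86AlgSpPoints.ofPt_map_comp]
  congr 1

section Quot

variable {R U : Sp S} {s t : R ⟶ U}

open Groth.Agent.Lib.H43SpQuot in
/-- For an equivalence relation of sheaves, `R` is the kernel pair of the quotient map `U ⟶ U/R`. -/
theorem isPullback_quotSpπ (hj : IsEqvRelSp s t) :
    IsPullback t s (quotSpπ s t) (quotSpπ s t) := by
  refine isPullback_of_yon (quotSp_condition s t).symm (fun T p p' h1 h2 => hj.injective T p p' h1 h2) ?_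
  intro T a b hab
  obtain ⟨𝒮, h𝒮, hrel⟩ := exists_local_rel (show IsPreEqvRelSp s t from hj.equivalence) a b hab
  choose r hr1 hr2 using hrel
  have hsh : Presieve.IsSheafFor R.obj (𝒮 : Presieve T) :=
    ((isSheaf_iff_isSheaf_of_type _ _).1 R.property) _ h𝒮
  let x : Presieve.FamilyOfElements R.obj (𝒮 : Presieve T) := fun T' h hh => yE (r h hh)
  have hx : x.Compatible := by
    rw [Presieve.compatible_iff_sieveCompatible]
    intro T' T'' h k hh
    change yE (r (k ≫ h) _) = R.obj.map k.op (yE (r h hh))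
    rw [← yE_map_comp]
    congr 1
    apply hj.injective
    · rw [hr1, Category.assoc, hr1, Functor.map_comp, Category.assoc]
    · rw [hr2, Category.assoc, hr2, Functor.map_comp, Category.assoc]
  obtain ⟨ρ, hρ⟩ : ∃ ρ, x.IsAmalgamation ρ := ⟨hsh.amalgamate x hx, hsh.isAmalgamation hx⟩
  have hloc : ∀ ⦃T' : Over S⦄ (h : T' ⟶ T) (hh : 𝒮 h), (yon S).map h ≫ yE.symm ρ = r h hh := by
    intro T' h hh
    apply yE.injective
    rw [yE_map_comp, Equiv.apply_symm_apply]
    exact hρ h hh
  refine ⟨yE.symm ρ, ?_, ?_⟩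
  · apply eq_of_locally_eq _ _ 𝒮 h𝒮
    intro T' h hh
    rw [← Category.assoc, hloc h hh, hr1]
  · apply eq_of_locally_eq _ _ 𝒮 h𝒮
    intro T' h hh
    rw [← Category.assoc, hloc h hh, hr2]

end Quot

end Groth.Agent.Lib.H69EpiFpqc
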