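import Groth.Agent.Lib.AlgSpEtField91
import Groth.Agent.Lib.H80DecentPt
import Groth.Agent.Lib.EtEqvRelQuot46
import Groth.Agent.Lib.FinEtQuot46
import Groth.Agent.Lib.H69EpiFpqc
import Groth.Agent.Lib.H86AlgSpPoints
import Mathlib

/-!
# Residual spaces: the image sheaf of a field point through an etale chart (helper91)
-/

set_option autoImplicit false
set_option maxHeartbeats 400000
universe u

namespace Groth.Agent.Lib.AlgSpResidual91

open CategoryTheory CategoryTheory.Limits AlgebraicGeometry Opposite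

section SchemeLevel

/-- A one-point scheme étale over a field is the spectrum of a field. -/
theorem isField_Γ_of_etale_field_of_subsingleton {V : Scheme.{u}} {K : Type u} [Field K]
    (e : V ⟶ Spec (.of K)) [Etale e] [Subsingleton V] [Nonempty V] : IsField Γ(V, ⊤) := by
  have : IsAffine V := inferInstance
  let g : Spec Γ(V, ⊤) ⟶ Spec (.of K) := V.isoSpec.inv ≫ e
  obtain ⟨ψ, hψ⟩ : ∃ ψ : CommRingCat.of K ⟶ Γ(V, ⊤), Spec.map ψ = g :=
    ⟨Spec.preimage g, Spec.map_preimage g⟩
  have hg : Etale g := inferInstance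
  have hψe : ψ.hom.Etale := (HasRingHomProperty.Spec_iff (P := @Etale)).1 (hψ ▸ hg)
  algebraize [ψ.hom]
  have : IsReduced Γ(V, ⊤) := Algebra.FormallyUnramified.isReduced_of_field K _
  have : Nonempty (Spec Γ(V, ⊤)) := ‹Nonempty V›.map V.isoSpec.hom
  have : Nontrivial Γ(V, ⊤) := (PrimeSpectrum.nonempty_iff_nontrivial).1 this
  have hsub : Subsingleton (PrimeSpectrum Γ(V, ⊤)) := by
    have : Subsingleton (Spec Γ(V, ⊤)) := V.isoSpec.inv.homeomorph.injective.subsingleton
    exact this
  exact (PrimeSpectrum.subsingleton_iff_isField_of_isReduced).1 hsub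

/-- A monomorphism into a scheme étale over a field is an open immersion. -/
theorem isOpenImmersion_of_mono_of_etale_field {R W : Scheme.{u}} {K : Type u} [Field K]
    (e : W ⟶ Spec (.of K)) [Etale e] (f : R ⟶ W) [Mono f] : IsOpenImmersion f := by
  haveI := Groth.Agent.Lib.AlgSpEtField91.discreteTopology_of_etale_field e
  let O : W → W.Opens := fun w => ⟨{w}, isOpen_discrete _⟩
  have hO : iSup O = ⊤ := by
    rw [eq_top_iff]
    intro w _
    rw [TopologicalSpace.Opens.mem_iSup]
    exact ⟨w, rfl⟩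
  refine IsZariskiLocalAtTarget.of_iSup_eq_top (P := @IsOpenImmersion) O hO fun w => ?_
  haveI : Mono (f ∣_ O w) := by
    haveI : Mono ((f ∣_ O w) ≫ (O w).ι) := by
      rw [morphismRestrict_ι]
      infer_instance
    exact mono_of_mono (f ∣_ O w) (O w).ι
  by_cases hne : Nonempty ↥(f ⁻¹ᵁ O w)
  · haveI : Subsingleton ↥((O w).toScheme) := ⟨fun a b => Subtype.ext (a.2.trans b.2.symm)⟩
    haveI : Nonempty ↥((O w).toScheme) := ⟨⟨w, rfl⟩⟩
    haveI : IsAffine (O w).toScheme := inferInstance
    have hF := isField_Γ_of_etale_field_of_subsingleton ((O w).ι ≫ e)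
    letI := hF.toField
    haveI : Nonempty ↥((f ⁻¹ᵁ O w).toScheme) := hne
    have h1 : IsIso ((f ∣_ O w) ≫ (O w).toScheme.isoSpec.hom) :=
      Groth.Agent.Lib.H80DecentPt.isIso_of_mono_of_field (K := Γ((O w).toScheme, ⊤))
        ((f ∣_ O w) ≫ (O w).toScheme.isoSpec.hom)
    have h2 : IsIso (f ∣_ O w) := by
      have : f ∣_ O w = ((f ∣_ O w) ≫ (O w).toScheme.isoSpec.hom) ≫ (O w).toScheme.isoSpec.inv := by
        rw [Category.assoc, Iso.hom_inv_id, Category.comp_id]
      rw [this]
      infer_instance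
    infer_instance
  · haveI : IsEmpty ↥((f ⁻¹ᵁ O w).toScheme) := not_nonempty_iff.1 hne
    infer_instance

end SchemeLevel

section Generic

/-- If `i` is a monomorphism, the kernel pair of `p ≫ i` is the kernel pair of `p`. -/
theorem isPullback_of_comp_mono {D : Type*} [Category D] {R A Z X : D} {a b : R ⟶ A} {p : A ⟶ Z}
    (i : Z ⟶ X) [Mono i] (sq : IsPullback a b (p ≫ i) (p ≫ i)) : IsPullback a b p p := by
  refine Groth.Agent.Lib.H69AlgSp.isPullback_of_lift ?_ ?_ ?_
  · rw [← cancel_mono i, Category.assoc, Category.assoc, sq.w]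
  · intro W x y hxy
    have h : x ≫ p ≫ i = y ≫ p ≫ i := by rw [← Category.assoc, hxy, Category.assoc]
    exact ⟨sq.lift x y h, sq.lift_fst _ _ _, sq.lift_snd _ _ _⟩
  · intro W l l' h1 h2
    exact sq.hom_ext h1 h2

end Generic

section Space

open AlgSp Groth.Agent.Lib.H69AlgSp

variable {S : Scheme.{u}}

/-- For a field point `ξ = h_{u'} ≫ φ` through an etale chart `φ`, with `u'` a monomorphism of schemes, the projections
of `Spec k ×_X Spec k` are etale. -/
theorem etale_snd_of_isPullback_field {X : Sp S} {U : Over S} (φ : (yon S).obj U ⟶ X)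
    (hφ : RepWith @Etale φ) {k : Type u} [Field k] (str : Spec (.of k) ⟶ S)
    (u' : Over.mk str ⟶ U) [Mono u'.left] {R : Over S} (a b : R ⟶ Over.mk str)
    (sq : IsPullback ((yon S).map a) ((yon S).map b) ((yon S).map u' ≫ φ) ((yon S).map u' ≫ φ)) :
    Etale b.left := by
  have sqW := hφ.rep.isPullback' ((yon S).map u' ≫ φ)
  have hw₂ : Etale (hφ.rep.snd ((yon S).map u' ≫ φ)).left := hφ.property_snd _
  obtain ⟨r, hr1, hr2⟩ := exists_lift_yon sqW ((yon S).map (a ≫ u')) ((yon S).map b) (by
    rw [Functor.map_comp, Category.assoc]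
    exact sq.w)
  rw [← Functor.map_comp] at hr1 hr2
  have hr1' := (yon S).map_injective hr1
  have hr2' := (yon S).map_injective hr2
  haveI hu'm : Mono u' := mono_over_of_mono_left u'
  haveI : Mono r := by
    constructor
    intro T x y hxy
    apply hom_ext_yon_pullback sq
    · have h1 : (x ≫ a) ≫ u' = (y ≫ a) ≫ u' := by
        rw [Category.assoc, Category.assoc, ← hr1', ← Category.assoc, hxy, Category.assoc]
      rw [← Functor.map_comp, ← Functor.map_comp, (cancel_mono u').1 h1]
    · rw [← Functor.map_comp, ← Functor.map_comp, ← hr2', ← Category.assoc, hxy, Category.assoc]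
  haveI : Mono r.left := inferInstance
  haveI := hw₂
  have hoi : IsOpenImmersion r.left :=
    isOpenImmersion_of_mono_of_etale_field (K := k)
      (hφ.rep.snd ((yon S).map u' ≫ φ)).left r.left
  have : b.left = r.left ≫ (hφ.rep.snd ((yon S).map u' ≫ φ)).left := by
    rw [← Over.comp_left, hr2']
  rw [this]
  infer_instance

/-- **Residual space.** The image sheaf of a field point through an etale chart is an algebraic space, with the field
point as an etale atlas. -/
theorem isAlgSpace_image_field {X : Sp S} (hX : IsAlgSpace X) {U : Over S} (φ : (yon S).obj U ⟶ X)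
    (hφ : RepWith @Etale φ) {k : Type u} [Field k] (str : Spec (.of k) ⟶ S)
    (u' : Over.mk str ⟶ U) [Mono u'.left] :
    IsAlgSpace (Sheaf.image ((yon S).map u' ≫ φ)) ∧
      RepWith @Etale (Sheaf.toImage ((yon S).map u' ≫ φ)) ∧
      RepWith @Surjective (Sheaf.toImage ((yon S).map u' ≫ φ)) := by
  obtain ⟨ξ, hξ⟩ : ∃ ξ, ξ = (yon S).map u' ≫ φ := ⟨_, rfl⟩
  rw [← hξ]
  have hr : Representable ξ := hX.representable_from_yon ξ
  have sq := hr.isPullback' ξ
  have sq' : IsPullback ((yon S).map (hr.fst' ξ)) ((yon S).map (hr.snd ξ))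
      (Sheaf.toImage ξ ≫ Sheaf.imageι ξ) (Sheaf.toImage ξ ≫ Sheaf.imageι ξ) := by
    rw [Sheaf.toImage_ι]
    exact sq
  have ker := isPullback_of_comp_mono (Sheaf.imageι ξ) sq'
  have he1 : Etale (hr.snd ξ).left := by
    subst hξ
    exact etale_snd_of_isPullback_field φ hφ str u' _ _ sq
  have he2 : Etale (hr.fst' ξ).left := by
    subst hξ
    exact etale_snd_of_isPullback_field φ hφ str u' _ _ sq.flip
  have hE : IsEtaleEqvRel (hr.snd ξ) (hr.fst' ξ) :=
    { toIsEqvRel := Groth.Agent.Lib.FinEtQuot46.isEqvRel_of_isPullback ker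
      etale_left := he1
      etale_right := he2 }
  exact Groth.Agent.Lib.EtEqvRelQuot46.isAlgSpace_of_kernelPair (Sheaf.toImage ξ) ker hE

/-- All points of `h_{Spec k}` have the same image under a map `ξ`. -/
theorem map_eq_ofPt_of_field {X : Sp S} {k : Type u} [Field k] (str : Spec (.of k) ⟶ S)
    (ξ : (yon S).obj (Over.mk str) ⟶ X) (pt : Points ((yon S).obj (Over.mk str))) :
    Points.map ξ pt = Points.ofPt ξ (IsLocalRing.closedPoint k) := by
  rw [Points.ofPt_eq_map_ofScheme, ← Points.ofScheme_toScheme _ pt]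
  congr 2
  exact Subsingleton.elim (α := ↥(Spec (CommRingCat.of k))) _ _

/-- The residual space of a point through an etale chart: points. -/
theorem range_map_imageι_field {X : Sp S} {k : Type u} [Field k] (str : Spec (.of k) ⟶ S)
    (ξ : (yon S).obj (Over.mk str) ⟶ X) :
    Set.range (Points.map (Sheaf.imageι ξ)) = {Points.ofPt ξ (IsLocalRing.closedPoint k)} := by
  have hS : IsSurjectiveMor (Sheaf.toImage ξ) :=
    Groth.Agent.Lib.H69EpiFpqc.isSurjectiveMor_of_epi _
  apply Set.eq_of_subset_of_subset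
  · rintro _ ⟨z, rfl⟩
    obtain ⟨pt, rfl⟩ := hS z
    rw [Set.mem_singleton_iff, ← Points.map_comp, Sheaf.toImage_ι]
    exact map_eq_ofPt_of_field str ξ pt
  · rintro _ rfl
    refine ⟨Points.map (Sheaf.toImage ξ) (Points.ofScheme _ (IsLocalRing.closedPoint k)), ?_⟩
    rw [← Points.map_comp, Sheaf.toImage_ι, ← Points.ofPt_eq_map_ofScheme]

/-- **Existence of residual spaces.** -/
theorem exists_residualSpace (X : AlgSp.Space S) (x : AlgSp.Points X.obj) :
    ∃ (Z : AlgSp.Space S) (i : Z ⟶ X), Mono i.hom ∧ Set.range (AlgSp.Points.map i.hom) = {x} ∧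
      ∃ (k : Type u) (_ : Field k) (str : Spec (CommRingCat.of k) ⟶ S)
        (p : (AlgSp.yon S).obj (Over.mk str) ⟶ Z.obj),
        AlgSp.RepWith @Etale p ∧ AlgSp.RepWith @Surjective p ∧
          AlgSp.Points.ofPt (p ≫ i.hom) (IsLocalRing.closedPoint k) = x := by
  obtain ⟨U, a, hae, has⟩ := X.property.atlas
  obtain ⟨u, hu⟩ := Groth.Agent.Lib.H86AlgSpPoints.ofPt_surjective has x
  let str : Spec (CommRingCat.of ↥(U.left.residueField u)) ⟶ S :=
    U.left.fromSpecResidueField u ≫ U.hom
  let u' : Over.mk str ⟶ U := Over.homMk (U.left.fromSpecResidueField u) rfl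
  haveI : Mono u'.left := inferInstanceAs (Mono (U.left.fromSpecResidueField u))
  obtain ⟨hZ, hpe, hps⟩ := isAlgSpace_image_field X.property a hae str u'
  have hx : Points.ofPt ((yon S).map u' ≫ a) (IsLocalRing.closedPoint ↥(U.left.residueField u)) = x := by
    rw [Groth.Agent.Lib.H86AlgSpPoints.ofPt_map_comp, ← hu]
    congr 1
    exact Scheme.fromSpecResidueField_apply _ _
  refine ⟨⟨Sheaf.image ((yon S).map u' ≫ a), hZ⟩, ObjectProperty.homMk (Sheaf.imageι _), ?_, ?_,
    ↥(U.left.residueField u), inferInstance, str, Sheaf.toImage _, hpe, hps, ?_⟩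
  · exact inferInstanceAs (Mono (Sheaf.imageι ((yon S).map u' ≫ a)))
  · change Set.range (Points.map (Sheaf.imageι ((yon S).map u' ≫ a))) = {x}
    rw [range_map_imageι_field str, hx]
  · change Points.ofPt (Sheaf.toImage ((yon S).map u' ≫ a) ≫ Sheaf.imageι ((yon S).map u' ≫ a)) _ = x
    rw [Sheaf.toImage_ι]
    exact hx

end Space

end Groth.Agent.Lib.AlgSpResidual91
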