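import Groth.Agent.Lib.AlgSpResidual91
import Groth.Agent.Lib.AlgSpFtPt2
import Groth.Agent.Lib.AlgSpLocSurj64
import Groth.Agent.Lib.H69AlgSpLocST2

/-!
# Finite type points via one-point spaces and residual spaces (helper91)
-/

set_option autoImplicit false
set_option maxHeartbeats 400000
universe u

namespace Groth.Agent.Lib.AlgSpResidual91

open CategoryTheory CategoryTheory.Limits AlgebraicGeometry Opposite AlgSp
open Groth.Agent.Lib.H69AlgSp Groth.Agent.Lib.AlgSpFtPt Groth.Agent.Lib.AlgSpLocP

variable {S : Scheme.{u}}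

/-- A representable etale morphism from a scheme to an algebraic space is locally of finite type. -/
theorem locP_lft_of_repWith_etale {U : Over S} {Z : Sp S} (hZ : IsAlgSpace Z) (z : (yon S).obj U ⟶ Z)
    (hz : RepWith @Etale z) : LocP @LocallyOfFiniteType z := by
  have h1 : LocP @Etale z := (isEtaleMor_iff_locP hZ z).1 (isEtaleMor_of_repWith z hz)
  exact Groth.Agent.Lib.H69AlgSpLocST2.locP_mono (fun _ _ l hl => by
    have : Etale l := hl
    infer_instance) h1

/-- Finite type points are the images of one-point algebraic spaces locally of finite type over `X`. -/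
theorem isFtPt_iff_onePoint (X : AlgSp.Space S) (x : AlgSp.Points X.obj) :
    IsFtPt X.obj x ↔
      ∃ (Z : AlgSp.Space S) (f : Z ⟶ X), Nonempty (Unique (AlgSp.Points Z.obj)) ∧
        AlgSp.LocP @LocallyOfFiniteType f.hom ∧ Set.range (AlgSp.Points.map f.hom) = {x} := by
  constructor
  · rintro ⟨k, _, str, ξ, hξ, rfl⟩
    refine ⟨⟨(yon S).obj (Over.mk str), IsAlgSpace.yon_obj _⟩, ObjectProperty.homMk ξ, ?_, hξ, ?_⟩
    · haveI : Unique ↥(Over.mk str).left :=
        inferInstanceAs (Unique ↥(Spec (CommRingCat.of k)))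
      exact ⟨(Points.schemeHomeo (Over.mk str)).toEquiv.symm.unique⟩
    · change Set.range (Points.map ξ) = _
      apply Set.eq_of_subset_of_subset
      · rintro _ ⟨pt, rfl⟩
        exact map_eq_ofPt_of_field str ξ pt
      · rintro _ rfl
        exact ⟨Points.ofScheme _ (IsLocalRing.closedPoint k), (Points.ofPt_eq_map_ofScheme _ _).symm⟩
  · rintro ⟨Z, f, ⟨hU⟩, hf, hr⟩
    obtain ⟨z, -, k, _, str, ξ, hξ, hz⟩ :=
      exists_isFtPt_of_isLocallyClosed Z.property Set.univ isOpen_univ.isLocallyClosed ⟨default, trivial⟩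
    refine ⟨k, inferInstance, str, ξ ≫ f.hom,
      locP_comp etLocalClass_lft (IsAlgSpace.yon_obj _) Z.property X.property hξ hf, ?_⟩
    have : Points.map f.hom z ∈ Set.range (Points.map f.hom) := ⟨z, rfl⟩
    rw [hr, Set.mem_singleton_iff] at this
    rw [← Points.map_ofPt, hz, this]

/-- Finite type points are the images of monomorphisms, locally of finite type, from residual spaces. -/
theorem isFtPt_iff_residual (X : AlgSp.Space S) (x : AlgSp.Points X.obj) :
    IsFtPt X.obj x ↔
      ∃ (Z : AlgSp.Space S) (f : Z ⟶ X) (k : Type u) (_ : Field k) (str : Spec (CommRingCat.of k) ⟶ S)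
        (z : (AlgSp.yon S).obj (Over.mk str) ⟶ Z.obj), AlgSp.RepWith @Etale z ∧
        AlgSp.RepWith @Surjective z ∧ AlgSp.LocP @LocallyOfFiniteType f.hom ∧ Mono f.hom ∧
        AlgSp.Points.ofPt (z ≫ f.hom) (IsLocalRing.closedPoint k) = x := by
  constructor
  · intro hx
    obtain ⟨U, φ, u, hφ, hcl, hu⟩ := exists_chart_of_isFtPt X.property x hx
    let str : Spec (CommRingCat.of ↥(U.left.residueField u)) ⟶ S :=
      U.left.fromSpecResidueField u ≫ U.hom
    let u' : Over.mk str ⟶ U := Over.homMk (U.left.fromSpecResidueField u) rfl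
    haveI : Mono u'.left := inferInstanceAs (Mono (U.left.fromSpecResidueField u))
    obtain ⟨hZ, hpe, hps⟩ := isAlgSpace_image_field X.property φ hφ str u'
    have hci : IsClosedImmersion (U.left.fromSpecResidueField u) :=
      isClosed_singleton_iff_isClosedImmersion.1 hcl
    have h1 : LocallyOfFiniteType u'.left := by
      change LocallyOfFiniteType (U.left.fromSpecResidueField u)
      infer_instance
    have hξ : LocP @LocallyOfFiniteType ((yon S).map u' ≫ φ) :=
      Groth.Agent.Lib.AlgSpAtPt.locP_yon_map_comp_etale sevenClass_lft X.property u' h1 φ hφ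
    haveI : Sheaf.IsLocallySurjective (Sheaf.toImage ((yon S).map u' ≫ φ)) :=
      (Sheaf.isLocallySurjective_iff_epi _).2 inferInstance
    have hf : LocP @LocallyOfFiniteType (Sheaf.imageι ((yon S).map u' ≫ φ)) :=
      Groth.Agent.Lib.AlgSpLocSurj64.locP_lft_of_comp (IsAlgSpace.yon_obj _)
        (Sheaf.toImage ((yon S).map u' ≫ φ)) (Sheaf.imageι ((yon S).map u' ≫ φ)) (by
          rw [Sheaf.toImage_ι]
          exact hξ)
    refine ⟨⟨Sheaf.image ((yon S).map u' ≫ φ), hZ⟩, ObjectProperty.homMk (Sheaf.imageι _),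
      ↥(U.left.residueField u), inferInstance, str, Sheaf.toImage _, hpe, hps, hf,
      inferInstanceAs (Mono (Sheaf.imageι ((yon S).map u' ≫ φ))), ?_⟩
    change Points.ofPt (Sheaf.toImage ((yon S).map u' ≫ φ) ≫ Sheaf.imageι ((yon S).map u' ≫ φ)) _ = x
    rw [Sheaf.toImage_ι, Groth.Agent.Lib.H86AlgSpPoints.ofPt_map_comp, ← hu]
    congr 1
    exact Scheme.fromSpecResidueField_apply _ _
  · rintro ⟨Z, f, k, _, str, z, hze, -, hf, -, hx⟩
    exact ⟨k, inferInstance, str, z ≫ f.hom,
      locP_comp etLocalClass_lft (IsAlgSpace.yon_obj _) Z.property X.property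
        (locP_lft_of_repWith_etale Z.property z hze) hf, hx⟩

end Groth.Agent.Lib.AlgSpResidual91
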