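import Groth.Agent.Lib.AlgSpQFBC91
import Groth.Agent.Lib.H86FibDimChart

set_option autoImplicit false
universe u
open CategoryTheory CategoryTheory.Limits AlgebraicGeometry Opposite

namespace Groth.Agent.Lib.AlgSpRetro91

open AlgSp Groth.Agent.Lib.AlgSpPoints Groth.Agent.Lib.AlgSpDecentSpec
  Groth.Agent.Lib.AlgSpTrdeg91 Groth.Agent.Lib.AlgSpQFAt91 Groth.Agent.Lib.AlgSpBasic
  Groth.Agent.Lib.AlgSpLocP

variable {S : Scheme.{u}}

/-- A global chart diagram: atlases of the source and target and a morphism of schemes between them covering `f`. -/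
theorem exists_atlas_diagram {X Y : Sp S} (hX : IsAlgSpace X) (hY : IsAlgSpace Y) (f : X ⟶ Y) :
    ∃ (U V : Over S) (a : (yon S).obj U ⟶ X) (c : (yon S).obj V ⟶ Y) (h : U ⟶ V),
      RepWith @Etale a ∧ RepWith @Surjective a ∧ RepWith @Etale c ∧ RepWith @Surjective c ∧
        a ≫ f = (yon S).map h ≫ c := by
  obtain ⟨V, c, hc, hcs⟩ := hY.atlas
  have sqW := IsPullback.of_hasPullback f c
  have hW : IsAlgSpace (pullback f c) :=
    isAlgSpace_of_isPullback hX (IsAlgSpace.yon_obj V)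
      (fun _ a => hY.representable_from_yon a) sqW
  obtain ⟨U, e, he, hes⟩ := hW.atlas
  obtain ⟨h, hh⟩ := (yon S).map_surjective (e ≫ pullback.snd f c)
  refine ⟨U, V, e ≫ pullback.fst f c, c, h,
    MorphismProperty.comp_mem _ _ _ he (repWith_fst_of_isPullback _ sqW hc),
    MorphismProperty.comp_mem _ _ _ hes (repWith_fst_of_isPullback _ sqW hcs), hc, hcs, ?_⟩
  rw [Category.assoc, sqW.w, ← Category.assoc, hh]

/-- **Retrocompactness can be tested on an atlas**: if the preimage of `Z ⊆ |X|` in an atlas is retrocompact, then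
`Z` meets every quasi-compact open of `|X|` in a quasi-compact set. -/
theorem isCompact_inter_of_isRetrocompact_atlas {X : Sp S} {U : Over S} (a : (yon S).obj U ⟶ X)
    (ha : RepWith @Etale a) (has : RepWith @Surjective a) (Z : Set (Points X))
    (hZ : IsRetrocompact (Points.ofPt a ⁻¹' Z)) (V : Set (Points X)) (hV : IsOpen V)
    (hVc : IsCompact V) : IsCompact (V ∩ Z) := by
  have hsurj := Groth.Agent.Lib.H86AlgSpPoints.ofPt_surjective has
  have hopen := Groth.Agent.Lib.H86AlgSpPoints.isOpenMap_ofPt ha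
  have hcont : Continuous (Points.ofPt a) := Points.continuous_ofPt a
  -- affine opens of `U` inside the preimage of `V`
  let ι := {A : U.left.Opens // IsAffineOpen A ∧ (A : Set ↥U.left) ⊆ Points.ofPt a ⁻¹' V}
  have hcover : V ⊆ ⋃ A : ι, Points.ofPt a '' (A.1 : Set ↥U.left) := by
    intro x hx
    obtain ⟨u, rfl⟩ := hsurj x
    obtain ⟨_, ⟨A, hA, rfl⟩, huA, hAV⟩ :=
      (U.left.isBasis_affineOpens).exists_subset_of_mem_open (show u ∈ Points.ofPt a ⁻¹' V from hx)
        (hV.preimage hcont)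
    exact Set.mem_iUnion.2 ⟨⟨A, hA, hAV⟩, u, huA, rfl⟩
  obtain ⟨t, ht⟩ := hVc.elim_finite_subcover (fun A : ι => Points.ofPt a '' (A.1 : Set ↥U.left))
    (fun A => hopen _ A.1.isOpen) hcover
  have heq : V ∩ Z = ⋃ A ∈ t, Points.ofPt a '' ((Points.ofPt a ⁻¹' Z) ∩ (A.1 : Set ↥U.left)) := by
    ext x
    constructor
    · rintro ⟨hxV, hxZ⟩
      obtain ⟨A, hA⟩ := Set.mem_iUnion.1 (ht hxV)
      obtain ⟨hAt, u, huA, rfl⟩ := Set.mem_iUnion.1 hA
      exact Set.mem_iUnion₂.2 ⟨A, hAt, u, ⟨hxZ, huA⟩, rfl⟩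
    · intro hx
      obtain ⟨A, hAt, u, ⟨huZ, huA⟩, rfl⟩ := Set.mem_iUnion₂.1 hx
      exact ⟨A.2.2 huA, huZ⟩
  rw [heq]
  exact t.isCompact_biUnion fun A _ => (hZ A.2.1.isCompact A.1.isOpen).image hcont

/-- The locus in `|X|` where the relative dimension of `f` is at most `n`. -/
theorem mem_fibreDimAt_le_iff {X Y : Sp S} (f : X ⟶ Y) (n : WithBot ℕ∞)
    {U V : Over S} (a : (yon S).obj U ⟶ X) (c : (yon S).obj V ⟶ Y) (h : U ⟶ V)
    (ha : RepWith @Etale a) (hc : RepWith @Etale c) (hcomm : a ≫ f = (yon S).map h ≫ c) (u : ↥U.left) :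
    HasAtMor (fun _ _ h u => FlatMor.fibreDimAt h u ≤ n) f (Points.ofPt a u) ↔
      FlatMor.fibreDimAt h.left u ≤ n := by
  constructor
  · rintro ⟨U', V', a', c', h', u', ha', hc', hcomm', hu', hq⟩
    rw [← Groth.Agent.Lib.H86FibDimChart.fibreDimAt_chart_indep f a' c' h' a c h ha' hc' ha hc hcomm'
      hcomm u' u hu']
    exact hq
  · intro hq
    exact ⟨U, V, a, c, h, u, ha, hc, hcomm, rfl, hq⟩

end Groth.Agent.Lib.AlgSpRetro91
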