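import Mathlib
import Groth.Agent.Lib.SrcLocalRing
import Groth.Agent.Lib.SrcLocal

/-!
# Properties smooth-local on the source: finite type (helper64)

Ring level: if `A → B → B'` with `B → B'` smooth and surjective on spectra and `A → B'` of finite
type, then `A → B` is of finite type (same proof as the étale case in `SrcLocalRing`, using
`Algebra.Smooth.exists_subalgebra_fg`).  Scheme level: `LocallyOfFiniteType` is local at the source
for the smooth precoverage.
-/

set_option autoImplicit false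
universe u
open TensorProduct CategoryTheory CategoryTheory.Limits AlgebraicGeometry

namespace Groth.Agent.Lib.SrcLocalSm

open Groth.Agent.Lib.SrcLocalRing

/-- Finite type descends along a smooth cover of the source: ring version. -/
theorem finiteType_of_smooth_of_comap_surjective {A B B' : Type u} [CommRing A] [CommRing B]
    [CommRing B'] [Algebra A B] [Algebra B B'] [Algebra A B'] [IsScalarTower A B B']
    [Algebra.Smooth B B']
    (hs : Function.Surjective (PrimeSpectrum.comap (algebraMap B B')))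
    [Algebra.FiniteType A B'] : Algebra.FiniteType A B := by
  obtain ⟨B₀, B₀', _, _, hfg, het, ⟨e⟩⟩ := Algebra.Smooth.exists_subalgebra_fg A B B'
  have : Module.Flat B₀ B₀' := inferInstance
  have : Algebra.FinitePresentation B₀ B₀' := inferInstance
  let j : B₀' →+* B' := e.symm.toAlgHom.toRingHom.comp
    (Algebra.TensorProduct.includeRight (R := B₀) (A := B) (B := B₀')).toRingHom
  have hj : ∀ b₀ : B₀, j (algebraMap B₀ B₀' b₀) = algebraMap B B' (b₀ : B) := by
    intro b₀
    have h1 : (1 : B) ⊗ₜ[B₀] (algebraMap B₀ B₀' b₀) = algebraMap B (B ⊗[B₀] B₀') (b₀ : B) := by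
      rw [Algebra.TensorProduct.algebraMap_apply, Algebra.algebraMap_eq_smul_one,
        ← TensorProduct.smul_tmul]
      congr 1
      simp [Algebra.smul_def]
    change e.symm ((1 : B) ⊗ₜ[B₀] (algebraMap B₀ B₀' b₀)) = _
    rw [h1, AlgEquiv.commutes]
  have hopen : IsOpenMap (PrimeSpectrum.comap (algebraMap B₀ B₀')) :=
    PrimeSpectrum.isOpenMap_comap_of_hasGoingDown_of_finitePresentation
  set W₀ := Set.range (PrimeSpectrum.comap (algebraMap B₀ B₀')) with hW₀def
  have hW₀ : IsOpen W₀ := hopen.isOpen_range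
  let I₀ : Ideal B₀ := PrimeSpectrum.vanishingIdeal W₀ᶜ
  have hI₀ : PrimeSpectrum.zeroLocus (I₀ : Set B₀) = W₀ᶜ := by
    rw [PrimeSpectrum.zeroLocus_vanishingIdeal_eq_closure, hW₀.isClosed_compl.closure_eq]
  have hrange : ∀ q : PrimeSpectrum B, PrimeSpectrum.comap (algebraMap B₀ B) q ∈ W₀ := by
    intro q
    obtain ⟨q', rfl⟩ := hs q
    refine ⟨PrimeSpectrum.comap j q', ?_⟩
    rw [← PrimeSpectrum.comap_comp_apply, ← PrimeSpectrum.comap_comp_apply]
    congr 1
    ext b₀
    exact hj b₀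
  have htop : I₀.map (algebraMap B₀ B) = ⊤ := by
    rw [← PrimeSpectrum.zeroLocus_empty_iff_eq_top, Ideal.map, PrimeSpectrum.zeroLocus_span,
      ← PrimeSpectrum.preimage_comap_zeroLocus, hI₀]
    ext q
    simp [hrange q]
  have h1mem : (1 : B) ∈ Submodule.span B ((algebraMap B₀ B) '' (I₀ : Set B₀)) := by
    have h2 : (1 : B) ∈ I₀.map (algebraMap B₀ B) := by rw [htop]; trivial
    exact h2
  obtain ⟨l, hl, hl1⟩ := (Finsupp.mem_span_image_iff_linearCombination B).1 h1mem
  obtain ⟨s', hs'⟩ := (Algebra.FiniteType.out : (⊤ : Subalgebra A B').FG)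
  classical
  let s : Finset (B ⊗[B₀] B₀') := s'.image e
  choose k β y hx using fun x : s => TensorProduct.exists_sum_tmul_eq (x : B ⊗[B₀] B₀')
  let F : Set B := (l '' (l.support : Set B₀)) ∪ ⋃ (x : s), Set.range (β x)
  have hF : F.Finite :=
    (l.support.finite_toSet.image _).union (Set.finite_iUnion (fun x => Set.finite_range _))
  let C : Subalgebra A B := B₀ ⊔ Algebra.adjoin A F
  have hCfg : C.FG := hfg.sup (by rw [← hF.coe_toFinset]; exact Subalgebra.fg_adjoin_finset _)
  have hFC : F ⊆ C := fun b hb => (le_sup_right : Algebra.adjoin A F ≤ C) (Algebra.subset_adjoin hb)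
  have hgen' : ∀ x' : B', e x' ∈ Subring.closure
      ((s : Set (B ⊗[B₀] B₀')) ∪ Set.range (fun a : A => (algebraMap A B a) ⊗ₜ[B₀] (1 : B₀'))) := by
    intro x'
    have hx' : x' ∈ Algebra.adjoin A (s' : Set B') := by rw [hs']; trivial
    induction hx' using Algebra.adjoin_induction with
    | mem x hxs =>
      exact Subring.subset_closure (Or.inl (Finset.mem_coe.2 (Finset.mem_image_of_mem e hxs)))
    | algebraMap a =>
      apply Subring.subset_closure
      right
      refine ⟨a, ?_⟩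
      rw [IsScalarTower.algebraMap_apply A B B', AlgEquiv.commutes,
        Algebra.TensorProduct.algebraMap_apply]
      rfl
    | add x y _ _ hx hy => rw [map_add]; exact Subring.add_mem _ hx hy
    | mul x y _ _ hx hy => rw [map_mul]; exact Subring.mul_mem _ hx hy
  have hgen : ∀ w : B ⊗[B₀] B₀', w ∈ Subring.closure
      ((s : Set (B ⊗[B₀] B₀')) ∪ Set.range (fun a : A => (algebraMap A B a) ⊗ₜ[B₀] (1 : B₀'))) := by
    intro w
    have := hgen' (e.symm w)
    rwa [AlgEquiv.apply_symm_apply] at this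
  have hCtop : C = ⊤ := eq_top_of_model B₀ C le_sup_left B₀' I₀ hI₀ l hl hl1
    (fun i hi => hFC (Or.inl ⟨i, hi, rfl⟩)) s k β y hx
    (fun x j => hFC (Or.inr (Set.mem_iUnion.2 ⟨x, ⟨j, rfl⟩⟩))) hgen
  exact ⟨hCtop ▸ hCfg⟩

theorem finiteType_of_comp_smooth {A B B' : Type u} [CommRing A] [CommRing B] [CommRing B']
    (f : A →+* B) (g : B →+* B') (hg : g.Smooth)
    (hgs : Function.Surjective (PrimeSpectrum.comap g)) (hgf : (g.comp f).FiniteType) :
    f.FiniteType := by
  algebraize [f, g, g.comp f]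
  exact finiteType_of_smooth_of_comap_surjective (A := A) (B := B) (B' := B') hgs


/-! ### Scheme level -/

/-- `P` is smooth-local on the source: it can be checked after precomposing with a smooth
surjective morphism. -/
def SourceSmLocal (P : MorphismProperty Scheme.{u}) : Prop :=
  ∀ ⦃X' X Y : Scheme.{u}⦄ (p : X' ⟶ X) (h : X ⟶ Y), Smooth p → Surjective p → P (p ≫ h) → P h

/-- A smooth surjective morphism to a quasi-compact scheme is refined by one from an affine
scheme. -/
theorem exists_affine_refinement {X' X : Scheme.{u}} [CompactSpace X] (p : X' ⟶ X) [Smooth p]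
    [Surjective p] :
    ∃ (X'' : Scheme.{u}) (_ : IsAffine X'') (q : X'' ⟶ X'), Smooth q ∧ Surjective (q ≫ p) ∧
      ∀ (P : MorphismProperty Scheme.{u}) [IsZariskiLocalAtSource P] ⦃Z : Scheme.{u}⦄ (w : X' ⟶ Z),
        P w → P (q ≫ w) := by
  have hopen : IsOpenMap p := p.isOpenMap
  let W : X' → X'.Opens := fun x' => (X'.affineCover.f (X'.affineCover.idx x')).opensRange
  have hW : ∀ x', x' ∈ W x' := fun x' => X'.affineCover.covers x'
  have hWaff : ∀ x', IsAffineOpen (W x') := fun x' => isAffineOpen_opensRange _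
  obtain ⟨t, ht⟩ := isCompact_univ.elim_finite_subcover (fun x' : X' => p '' (W x' : Set X'))
    (fun x' => hopen _ (W x').2) (by
      intro x _
      obtain ⟨x', rfl⟩ := p.surjective x
      exact Set.mem_iUnion.2 ⟨x', ⟨x', hW x', rfl⟩⟩)
  let g : t → Scheme.{u} := fun k => (W k.1 : Scheme.{u})
  have : ∀ k, IsAffine (g k) := fun k => hWaff k.1
  refine ⟨∐ g, inferInstance, Sigma.desc (fun k => (W k.1).ι), ?_, ?_, ?_⟩
  · exact IsZariskiLocalAtSource.sigmaDesc (fun k => inferInstance)
  · refine ⟨fun x => ?_⟩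
    obtain ⟨k, hk⟩ := Set.mem_iUnion.1 (ht (Set.mem_univ x))
    obtain ⟨hk1, x', hx', rfl⟩ := Set.mem_iUnion.1 hk
    refine ⟨(Sigma.ι g ⟨k, hk1⟩) ⟨x', hx'⟩, ?_⟩
    rw [← Scheme.Hom.comp_apply, Sigma.ι_desc_assoc]
    rfl
  · intro P _ Z w hw
    have e1 : Sigma.desc (fun k : t => (W k.1).ι) ≫ w = Sigma.desc (fun k : t => (W k.1).ι ≫ w) := by
      apply Sigma.hom_ext
      intro k
      rw [Sigma.ι_desc_assoc, Sigma.ι_desc]
    rw [e1]
    exact IsZariskiLocalAtSource.sigmaDesc (fun k => IsZariskiLocalAtSource.comp hw _)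

/-- Reduction of smooth-locality on the source to the affine case. -/
theorem sourceSmLocal_of_affine {P : MorphismProperty Scheme.{u}} [IsZariskiLocalAtSource P]
    [IsZariskiLocalAtTarget P] [P.RespectsRight @IsOpenImmersion]
    (haff : ∀ ⦃X' X Y : Scheme.{u}⦄ [IsAffine X'] [IsAffine X] [IsAffine Y] (p : X' ⟶ X)
      (h : X ⟶ Y), Smooth p → Surjective p → P (p ≫ h) → P h) : SourceSmLocal P := by
  intro X' X Y p h hp hps hph
  rw [IsZariskiLocalAtSource.iff_exists_resLE (P := P)]
  intro x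
  obtain ⟨U, hU, hxU⟩ : ∃ U : Y.Opens, IsAffineOpen U ∧ h x ∈ U := by
    obtain ⟨_, ⟨U, hU, rfl⟩, hx, -⟩ :=
      (Y.isBasis_affineOpens).exists_subset_of_mem_open (Set.mem_univ (h x)) isOpen_univ
    exact ⟨U, hU, hx⟩
  obtain ⟨V, hV, hxV, hVU⟩ : ∃ V : X.Opens, IsAffineOpen V ∧ x ∈ V ∧ V ≤ h ⁻¹ᵁ U := by
    obtain ⟨_, ⟨V, hV, rfl⟩, hx, hle⟩ :=
      (X.isBasis_affineOpens).exists_subset_of_mem_open (show x ∈ ((h ⁻¹ᵁ U : X.Opens) : Set X) from hxU)
        (h ⁻¹ᵁ U).2
    exact ⟨V, hV, hx, hle⟩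
  refine ⟨U, V, hxV, hVU, ?_⟩
  -- the restricted cover
  let pV : (p ⁻¹ᵁ V : X'.Opens).toScheme ⟶ V.toScheme := p ∣_ V
  have hpV : Smooth pV := inferInstance
  have hpVs : Surjective pV :=
    MorphismProperty.of_isPullback (P := @Surjective) (isPullback_morphismRestrict p V).flip hps
  have hle : p ⁻¹ᵁ V ≤ (p ≫ h) ⁻¹ᵁ U := by
    rw [Scheme.Hom.comp_preimage]
    exact Scheme.Hom.preimage_mono p hVU
  have hcomp : P (pV ≫ h.resLE U V hVU) := by
    have e1 : pV ≫ h.resLE U V hVU = (p ≫ h).resLE U (p ⁻¹ᵁ V) hle := by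
      change (p ∣_ V) ≫ h.resLE U V hVU = _
      rw [← Scheme.Hom.resLE_eq_morphismRestrict, Scheme.Hom.resLE_comp_resLE]
    rw [e1]
    exact IsZariskiLocalAtSource.resLE _ hph
  have : IsAffine V.toScheme := hV
  have : IsAffine U.toScheme := hU
  have : CompactSpace V.toScheme := inferInstance
  obtain ⟨X'', hX'', q, hq, hqs, hqP⟩ := exists_affine_refinement pV
  refine haff (q ≫ pV) (h.resLE U V hVU) inferInstance hqs ?_
  rw [Category.assoc]
  exact hqP P _ hcomp

/-- Ring data of a smooth surjective morphism of affine schemes. -/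
theorem smooth_faithfullyFlat_appTop {X' X : Scheme.{u}} [IsAffine X'] [IsAffine X] (p : X' ⟶ X)
    (hp : Smooth p) (hps : Surjective p) :
    p.appTop.hom.Smooth ∧ p.appTop.hom.FaithfullyFlat ∧
      Function.Surjective (PrimeSpectrum.comap p.appTop.hom) := by
  have h1 : p.appTop.hom.Smooth := (HasRingHomProperty.iff_of_isAffine (P := @Smooth)).1 hp
  have h2 : p.appTop.hom.FaithfullyFlat :=
    (Flat.flat_and_surjective_iff_faithfullyFlat_of_isAffine (f := p)).1 ⟨inferInstance, hps⟩
  exact ⟨h1, h2, (RingHom.FaithfullyFlat.iff_flat_and_comap_surjective.1 h2).2⟩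

theorem sourceSmLocal_locallyOfFiniteType : SourceSmLocal @LocallyOfFiniteType.{u} := by
  have : MorphismProperty.RespectsRight @LocallyOfFiniteType.{u} @IsOpenImmersion :=
    ⟨fun i hi f hf => by
      have : IsOpenImmersion i := hi
      have : LocallyOfFiniteType f := hf
      exact (inferInstance : LocallyOfFiniteType (f ≫ i))⟩
  apply sourceSmLocal_of_affine
  intro X' X Y _ _ _ p h hp hps hph
  obtain ⟨h1, h2, h3⟩ := smooth_faithfullyFlat_appTop p hp hps
  rw [HasRingHomProperty.iff_of_isAffine (P := @LocallyOfFiniteType)] at hph ⊢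
  rw [Scheme.Hom.comp_appTop, CommRingCat.hom_comp] at hph
  exact finiteType_of_comp_smooth _ _ h1 h3 hph

theorem sourceSmLocal_flat : SourceSmLocal @Flat.{u} := by
  apply sourceSmLocal_of_affine
  intro X' X Y _ _ _ p h hp hps hph
  obtain ⟨h1, h2, h3⟩ := smooth_faithfullyFlat_appTop p hp hps
  rw [HasRingHomProperty.iff_of_isAffine (P := @Flat)] at hph ⊢
  rw [Scheme.Hom.comp_appTop, CommRingCat.hom_comp] at hph
  exact Groth.Agent.Lib.SrcLocalRing.flat_of_comp_faithfullyFlat _ _ h2 hph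

/-- Smooth-locality at the source for the smooth precoverage. -/
theorem isLocalAtSource_smooth {P : MorphismProperty Scheme.{u}}
    (pre : ∀ ⦃A B C : Scheme.{u}⦄ (l : A ⟶ B) (w : B ⟶ C), Smooth l → P w → P (l ≫ w))
    (src : SourceSmLocal P) [IsZariskiLocalAtSource P] :
    P.IsLocalAtSource (Scheme.precoverage @Smooth) := by
  apply MorphismProperty.IsLocalAtSource.mk_of_small.{u}
  · intro X Y f 𝒰 hf i
    exact pre _ _ (Scheme.Cover.map_prop 𝒰 i) hf
  · intro X Y f 𝒰 h
    have h1 : Smooth (Sigma.desc 𝒰.f) :=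
      IsZariskiLocalAtSource.sigmaDesc (fun i => Scheme.Cover.map_prop 𝒰 i)
    have h2 : Surjective (Sigma.desc 𝒰.f) := by
      refine ⟨fun x => ?_⟩
      obtain ⟨i, y, hy⟩ := Scheme.Cover.exists_eq 𝒰 x
      refine ⟨(Sigma.ι 𝒰.X i) y, ?_⟩
      rw [← Scheme.Hom.comp_apply, Sigma.ι_desc]
      exact hy
    apply src (Sigma.desc 𝒰.f) f h1 h2
    have e1 : Sigma.desc 𝒰.f ≫ f = Sigma.desc (fun i => 𝒰.f i ≫ f) := by
      apply Sigma.hom_ext
      intro k
      rw [Sigma.ι_desc_assoc, Sigma.ι_desc]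
    rw [e1]
    exact IsZariskiLocalAtSource.sigmaDesc (fun i => h i)

theorem isLocalAtSource_smooth_lft :
    MorphismProperty.IsLocalAtSource @LocallyOfFiniteType.{u} (Scheme.precoverage @Smooth) :=
  isLocalAtSource_smooth (fun _ _ _ l w hl hw => by
    have : Smooth l := hl
    have : LocallyOfFiniteType w := hw
    exact (inferInstance : LocallyOfFiniteType (l ≫ w))) sourceSmLocal_locallyOfFiniteType

end Groth.Agent.Lib.SrcLocalSm
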