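import Mathlib
import Groth.Agent.Lib.EtaleLiftSurj
import Groth.Agent.Lib.SrcLocalFP
import Groth.Agent.Lib.SrcLocalSm

/-!
# Finite presentation is smooth-local on the source (helper64)

* `exists_standardSmooth_lift` : standard smooth algebras lift along surjections (same proof as
  `EtaleLiftSurj.exists_etale_lift`).
* `finitePresentation_of_smooth_of_comap_surjective` : if `A → B → B'` with `B → B'` smooth and
  surjective on spectra and `A → B'` of finite presentation, then `A → B` is of finite presentation.
-/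

set_option autoImplicit false
universe u
open TensorProduct MvPolynomial

namespace Groth.Agent.Lib.SrcLocalSmFP

open Algebra

/-- Standard smooth algebras lift along surjections of rings. -/
theorem exists_standardSmooth_lift {R B B' : Type u} [CommRing R] [CommRing B] [CommRing B']
    [Algebra R B] [Algebra B B'] [Algebra R B'] [IsScalarTower R B B']
    (hsurj : Function.Surjective (algebraMap R B)) [Algebra.IsStandardSmooth B B'] :
    ∃ (R' : Type u) (_ : CommRing R') (_ : Algebra R R') (ψ : R' →ₐ[R] B'),
      Algebra.IsStandardSmooth R R' ∧ Function.Surjective ψ ∧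
      RingHom.ker ψ = (RingHom.ker (algebraMap R B)).map (algebraMap R R') := by
  obtain ⟨ι, σ, _, _, ⟨Q⟩⟩ := (‹Algebra.IsStandardSmooth B B'›).out
  have hmap : Function.Surjective
      (MvPolynomial.map (algebraMap R B) : MvPolynomial ι R → MvPolynomial ι B) :=
    MvPolynomial.map_surjective _ hsurj
  choose v hv using fun s => hmap (Q.relation s)
  let I : Ideal (MvPolynomial ι R) := Ideal.span (Set.range v)
  let N : PreSubmersivePresentation R (MvPolynomial ι R ⧸ Ideal.span (Set.range v)) ι σ :=
    PreSubmersivePresentation.naive Q.map Q.map_inj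
  let φ₀ : MvPolynomial ι R →ₐ[R] B' := MvPolynomial.aeval Q.val
  have hφ₀ : ∀ p, φ₀ p = MvPolynomial.aeval Q.val (MvPolynomial.map (algebraMap R B) p) := by
    intro p
    rw [MvPolynomial.aeval_map_algebraMap]
  have hφ₀I : ∀ a ∈ I, φ₀ a = 0 := by
    intro a ha
    refine Submodule.span_induction (p := fun a _ => φ₀ a = 0) ?_ ?_ ?_ ?_ ha
    · rintro _ ⟨s, rfl⟩
      rw [hφ₀, hv, Q.aeval_val_relation]
    · simp
    · intro x y _ _ hx hy; rw [map_add, hx, hy, add_zero]
    · intro a x _ hx; rw [smul_eq_mul, map_mul, hx, mul_zero]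
  let φ₁ : (MvPolynomial ι R ⧸ Ideal.span (Set.range v)) →ₐ[R] B' :=
    Ideal.Quotient.liftₐ I φ₀ hφ₀I
  have hφ₁ : ∀ p, φ₁ (Ideal.Quotient.mk I p) = φ₀ p := fun p => rfl
  classical
  cases nonempty_fintype σ
  have hjm : (MvPolynomial.map (algebraMap R B)).mapMatrix N.jacobiMatrix = Q.jacobiMatrix := by
    ext i j : 1
    rw [RingHom.mapMatrix_apply, Matrix.map_apply, PreSubmersivePresentation.jacobiMatrix_apply,
      PreSubmersivePresentation.jacobiMatrix_apply]
    change MvPolynomial.map (algebraMap R B) (MvPolynomial.pderiv (Q.map i) (v j)) = _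
    rw [← MvPolynomial.pderiv_map, hv]
  have key : φ₁ N.jacobian = Q.jacobian := by
    rw [PreSubmersivePresentation.jacobian_eq_jacobiMatrix_det,
      PreSubmersivePresentation.jacobian_eq_jacobiMatrix_det]
    change φ₁ (Ideal.Quotient.mk I N.jacobiMatrix.det) = _
    rw [hφ₁, hφ₀, RingHom.map_det, hjm, Algebra.Generators.algebraMap_apply]
  have hunit : ∀ y : Submonoid.powers N.jacobian, IsUnit (φ₁ y) := by
    rintro ⟨_, n, rfl⟩
    rw [map_pow, key]
    exact Q.jacobian_isUnit.pow n
  let ψ : Localization.Away N.jacobian →ₐ[R] B' := IsLocalization.liftAlgHom hunit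
  have hψ : ∀ m, ψ (algebraMap _ _ m) = φ₁ m := fun m => by
    simp [ψ]
  have het : Algebra.IsStandardSmooth R (Localization.Away N.jacobian) :=
    (Groth.Agent.Lib.EtaleLiftSurj.isStandardSmooth_localizationAway_jacobian N
      (Localization.Away N.jacobian)).isStandardSmooth
  refine ⟨Localization.Away N.jacobian, inferInstance, inferInstance, ψ, het, ?_, ?_⟩
  · intro b'
    obtain ⟨q, rfl⟩ := Q.aeval_val_surjective b'
    obtain ⟨p, rfl⟩ := hmap q
    exact ⟨algebraMap _ _ (Ideal.Quotient.mk I p), by rw [hψ, hφ₁, hφ₀]⟩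
  · apply le_antisymm
    · intro x hx
      rw [RingHom.mem_ker] at hx
      obtain ⟨⟨m, ⟨_, n, rfl⟩⟩, hx'⟩ := IsLocalization.surj (Submonoid.powers N.jacobian) x
      have hm : φ₁ m = 0 := by
        rw [← hψ, ← hx', map_mul, hx, zero_mul]
      have hmJ : m ∈ (RingHom.ker (algebraMap R B)).map
          (algebraMap R (MvPolynomial ι R ⧸ Ideal.span (Set.range v))) := by
        obtain ⟨p, rfl⟩ := Ideal.Quotient.mk_surjective m
        rw [hφ₁, hφ₀] at hm
        have h1 : MvPolynomial.map (algebraMap R B) p ∈ Q.ker := by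
          rw [Q.ker_eq_ker_aeval_val]; exact hm
        rw [← Q.span_range_relation_eq_ker] at h1
        have h2 : Ideal.span (Set.range Q.relation) =
            Ideal.map (MvPolynomial.map (algebraMap R B)) I := by
          rw [Ideal.map_span, ← Set.range_comp]
          congr 1
          ext s
          simp [hv]
        rw [h2, Ideal.mem_map_iff_of_surjective _ hmap] at h1
        obtain ⟨p₀, hp₀, hp₀'⟩ := h1
        have h3 : p - p₀ ∈ RingHom.ker (MvPolynomial.map (algebraMap R B) :
            MvPolynomial ι R →+* MvPolynomial ι B) := by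
          rw [RingHom.mem_ker, map_sub, hp₀', sub_self]
        rw [MvPolynomial.ker_map] at h3
        have h4 : Ideal.Quotient.mk I p = Ideal.Quotient.mk I (p - p₀) := by
          rw [map_sub, Ideal.Quotient.eq_zero_iff_mem.2 hp₀, sub_zero]
        rw [h4]
        have h5 := Ideal.mem_map_of_mem (Ideal.Quotient.mk I) h3
        rwa [Ideal.map_map] at h5
      have h6 : algebraMap _ (Localization.Away N.jacobian) m ∈
          (RingHom.ker (algebraMap R B)).map (algebraMap R (Localization.Away N.jacobian)) := by
        have := Ideal.mem_map_of_mem (algebraMap _ (Localization.Away N.jacobian)) hmJ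
        rwa [Ideal.map_map, ← IsScalarTower.algebraMap_eq] at this
      have hu : IsUnit (algebraMap _ (Localization.Away N.jacobian) (N.jacobian ^ n)) :=
        IsLocalization.map_units _ (⟨_, n, rfl⟩ : Submonoid.powers N.jacobian)
      rw [← hx'] at h6
      exact (Ideal.mul_unit_mem_iff_mem _ hu).1 h6
    · rw [Ideal.map_le_iff_le_comap]
      intro j hj
      rw [Ideal.mem_comap, RingHom.mem_ker, AlgHom.commutes, IsScalarTower.algebraMap_apply R B B',
        (RingHom.mem_ker).1 hj, map_zero]


open Groth.Agent.Lib.SrcLocalFP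

/-- Variant of `SrcLocalFP.fg_of_fg_map_of_flat`: it suffices that an open subset of the image of
`Spec P'` contains `V(J)`. -/
theorem fg_of_fg_map_of_flat' {P P' : Type u} [CommRing P] [CommRing P'] [Algebra P P']
    [Module.Flat P P'] (J : Ideal P) (W : Set (PrimeSpectrum P)) (hopen : IsOpen W)
    (hW : W ⊆ Set.range (PrimeSpectrum.comap (algebraMap P P')))
    (hV : PrimeSpectrum.zeroLocus (J : Set P) ⊆ W)
    (hfg : (J.map (algebraMap P P')).FG) : J.FG := by
  let K : Ideal P := PrimeSpectrum.vanishingIdeal Wᶜ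
  have hK : PrimeSpectrum.zeroLocus (K : Set P) = Wᶜ := by
    rw [PrimeSpectrum.zeroLocus_vanishingIdeal_eq_closure, hopen.isClosed_compl.closure_eq]
  have hKJ : K ⊔ J = ⊤ := by
    rw [← PrimeSpectrum.zeroLocus_empty_iff_eq_top, PrimeSpectrum.zeroLocus_sup, hK]
    ext q
    simp only [Set.mem_inter_iff, Set.mem_compl_iff, Set.mem_empty_iff_false, iff_false, not_and]
    intro h1 h2
    exact h1 (hV h2)
  obtain ⟨κ, hκ, j, hj, hκj⟩ := Submodule.mem_sup.1 (by rw [hKJ]; trivial : (1 : P) ∈ K ⊔ J)
  -- the faithfully flat algebra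
  have hff : Module.FaithfullyFlat P (P' × Localization.Away j) := by
    have : Module.Flat P (P' × Localization.Away j) := flat_prod
    apply Module.FaithfullyFlat.of_comap_surjective
    intro q
    by_cases hq : q ∈ W
    · obtain ⟨q', rfl⟩ := hW hq
      have := q'.isPrime
      refine ⟨⟨Ideal.prod q'.asIdeal ⊤, Ideal.isPrime_ideal_prod_top⟩, ?_⟩
      ext x
      simp [Ideal.mem_prod]
    · have hjq : j ∉ q.asIdeal := by
        intro hjq
        have h1 : q ∈ PrimeSpectrum.zeroLocus (K : Set P) := by rw [hK]; exact hq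
        have h2 : κ ∈ q.asIdeal := h1 hκ
        have h3 : (1 : P) ∈ q.asIdeal := by rw [← hκj]; exact Ideal.add_mem _ h2 hjq
        exact q.isPrime.ne_top ((Ideal.eq_top_iff_one _).2 h3)
      have hq' : q ∈ Set.range (PrimeSpectrum.comap (algebraMap P (Localization.Away j))) := by
        rw [PrimeSpectrum.localization_away_comap_range (Localization.Away j) j]
        exact hjq
      obtain ⟨q', rfl⟩ := hq'
      have := q'.isPrime
      refine ⟨⟨Ideal.prod ⊤ q'.asIdeal, Ideal.isPrime_ideal_prod_top'⟩, ?_⟩
      ext x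
      simp [Ideal.mem_prod]
  refine Ideal.FG.of_FG_map_of_faithfullyFlat (S := P' × Localization.Away j) ?_
  refine fg_map_prod J hfg ?_
  have : J.map (algebraMap P (Localization.Away j)) = ⊤ := by
    rw [Ideal.eq_top_iff_one]
    have hu : IsUnit (algebraMap P (Localization.Away j) j) :=
      IsLocalization.map_units _ (⟨j, 1, by simp⟩ : Submonoid.powers j)
    obtain ⟨u, hu'⟩ := hu
    have h1 : algebraMap P (Localization.Away j) j ∈ J.map (algebraMap P (Localization.Away j)) :=
      Ideal.mem_map_of_mem _ hj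
    have h2 := Ideal.mul_mem_left _ (↑u⁻¹ : Localization.Away j) h1
    rwa [← hu', Units.inv_mul] at h2
  rw [this]
  exact ⟨{1}, by simp⟩

/-- The subsets of `Spec P` contained in the image of the spectrum of a flat `P`-algebra to which
`J` extends to a finitely generated ideal. -/
def FlatFG {P : Type u} [CommRing P] (J : Ideal P) (W : Set (PrimeSpectrum P)) : Prop :=
  ∃ (P' : Type u) (_ : CommRing P') (_ : Algebra P P'), Module.Flat P P' ∧
    W ⊆ Set.range (PrimeSpectrum.comap (algebraMap P P')) ∧ (J.map (algebraMap P P')).FG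

theorem flatFG_empty {P : Type u} [CommRing P] (J : Ideal P) : FlatFG J ∅ := by
  refine ⟨Localization.Away (0 : P), inferInstance, inferInstance, inferInstance,
    Set.empty_subset _, ?_⟩
  have : Subsingleton (Localization.Away (0 : P)) :=
    IsLocalization.subsingleton (M := Submonoid.powers (0 : P)) ⟨1, by simp⟩
  have h : J.map (algebraMap P (Localization.Away (0 : P))) = ⊥ := Subsingleton.elim _ _
  rw [h]
  exact Submodule.fg_bot

theorem FlatFG.union {P : Type u} [CommRing P] {J : Ideal P} {W₁ W₂ : Set (PrimeSpectrum P)}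
    (h₁ : FlatFG J W₁) (h₂ : FlatFG J W₂) : FlatFG J (W₁ ∪ W₂) := by
  obtain ⟨P₁, _, _, hf₁, hW₁, hfg₁⟩ := h₁
  obtain ⟨P₂, _, _, hf₂, hW₂, hfg₂⟩ := h₂
  refine ⟨P₁ × P₂, inferInstance, inferInstance, flat_prod, ?_, fg_map_prod J hfg₁ hfg₂⟩
  rintro q (hq | hq)
  · obtain ⟨q', rfl⟩ := hW₁ hq
    have := q'.isPrime
    refine ⟨⟨Ideal.prod q'.asIdeal ⊤, Ideal.isPrime_ideal_prod_top⟩, ?_⟩
    ext x
    simp [Ideal.mem_prod]
  · obtain ⟨q', rfl⟩ := hW₂ hq
    have := q'.isPrime
    refine ⟨⟨Ideal.prod ⊤ q'.asIdeal, Ideal.isPrime_ideal_prod_top'⟩, ?_⟩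
    ext x
    simp [Ideal.mem_prod]

theorem FlatFG.biUnion {P : Type u} [CommRing P] {J : Ideal P} {ι : Type*}
    (W : ι → Set (PrimeSpectrum P)) (h : ∀ i, FlatFG J (W i)) (t : Finset ι) :
    FlatFG J (⋃ i ∈ t, W i) := by
  classical
  induction t using Finset.induction_on with
  | empty => simpa using flatFG_empty J
  | insert a s _ ih =>
    rw [Finset.set_biUnion_insert]
    exact (h a).union ih

/-- An ideal is finitely generated if `V(J)` is covered by opens in `FlatFG J`. -/
theorem fg_of_forall_flatFG {P : Type u} [CommRing P] (J : Ideal P)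
    (h : ∀ q ∈ PrimeSpectrum.zeroLocus (J : Set P), ∃ W : Set (PrimeSpectrum P),
      IsOpen W ∧ q ∈ W ∧ FlatFG J W) : J.FG := by
  classical
  choose! W hWo hqW hWF using h
  have hc : IsCompact (PrimeSpectrum.zeroLocus (J : Set P)) :=
    (PrimeSpectrum.isClosed_zeroLocus _).isCompact
  obtain ⟨b', hb'1, hb'2, hb'3⟩ := hc.elim_finite_subcover_image
    (b := PrimeSpectrum.zeroLocus (J : Set P))
    (c := W) (fun q hq => hWo q hq) (fun q hq => Set.mem_biUnion hq (hqW q hq))
  have hF : FlatFG J (⋃ q ∈ hb'2.toFinset, (if q ∈ PrimeSpectrum.zeroLocus (J : Set P) then W q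
      else ∅)) :=
    FlatFG.biUnion _ (fun q => by
      by_cases hq : q ∈ PrimeSpectrum.zeroLocus (J : Set P)
      · simpa [hq] using hWF q hq
      · simpa [hq] using flatFG_empty J) _
  have hU : (⋃ q ∈ hb'2.toFinset, (if q ∈ PrimeSpectrum.zeroLocus (J : Set P) then W q
      else ∅)) = ⋃ q ∈ b', W q := by
    ext x
    simp only [Set.Finite.mem_toFinset, Set.mem_iUnion, exists_prop]
    constructor
    · rintro ⟨q, hq, hx⟩
      rw [if_pos (hb'1 hq)] at hx
      exact ⟨q, hq, hx⟩
    · rintro ⟨q, hq, hx⟩
      exact ⟨q, hq, by rwa [if_pos (hb'1 hq)]⟩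
  rw [hU] at hF
  obtain ⟨P', _, _, hflat, hW', hfg⟩ := hF
  exact fg_of_fg_map_of_flat' J (⋃ q ∈ b', W q)
    (isOpen_biUnion fun q hq => hWo q (hb'1 hq)) hW' hb'3 hfg


/-- Finite presentation descends along a smooth cover of the source: ring version. -/
theorem finitePresentation_of_smooth_of_comap_surjective {A B B' : Type u} [CommRing A]
    [CommRing B] [CommRing B'] [Algebra A B] [Algebra B B'] [Algebra A B'] [IsScalarTower A B B']
    [Algebra.Smooth B B']
    (hs : Function.Surjective (PrimeSpectrum.comap (algebraMap B B')))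
    [Algebra.FinitePresentation A B'] : Algebra.FinitePresentation A B := by
  have hft : Algebra.FiniteType A B :=
    Groth.Agent.Lib.SrcLocalSm.finiteType_of_smooth_of_comap_surjective hs
  obtain ⟨n, f, hf⟩ := Algebra.FiniteType.iff_quotient_mvPolynomial''.1 hft
  refine Algebra.FinitePresentation.of_surjective hf ?_
  let _ : Algebra (MvPolynomial (Fin n) A) B := f.toRingHom.toAlgebra
  have : IsScalarTower A (MvPolynomial (Fin n) A) B :=
    IsScalarTower.of_algebraMap_eq (fun a => (f.commutes a).symm)
  have hloc : RingHom.Locally RingHom.IsStandardSmooth (algebraMap B B') := by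
    rw [← RingHom.smooth_iff_locally_isStandardSmooth]
    exact RingHom.smooth_algebraMap.2 inferInstance
  obtain ⟨s, hs_span, hs_std⟩ := hloc
  refine fg_of_forall_flatFG (RingHom.ker f.toRingHom) ?_
  intro q hq
  have hq' : q ∈ Set.range (PrimeSpectrum.comap (algebraMap (MvPolynomial (Fin n) A) B)) := by
    have h1 := _root_.range_comap_of_surjective B (algebraMap (MvPolynomial (Fin n) A) B) hf
    rw [h1]
    exact hq
  obtain ⟨qB, rfl⟩ := hq'
  obtain ⟨qB', rfl⟩ := hs qB
  obtain ⟨t, hts, htq⟩ : ∃ t ∈ s, t ∉ qB'.asIdeal := by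
    by_contra hcon
    push Not at hcon
    have h1 : Ideal.span s ≤ qB'.asIdeal := Ideal.span_le.2 hcon
    rw [hs_span] at h1
    exact qB'.isPrime.ne_top (top_le_iff.1 h1)
  have hstd : Algebra.IsStandardSmooth B (Localization.Away t) := by
    rw [← RingHom.isStandardSmooth_algebraMap,
      IsScalarTower.algebraMap_eq B B' (Localization.Away t)]
    exact hs_std t hts
  let _ : Algebra (MvPolynomial (Fin n) A) (Localization.Away t) :=
    ((algebraMap B (Localization.Away t)).comp (algebraMap (MvPolynomial (Fin n) A) B)).toAlgebra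
  have : IsScalarTower (MvPolynomial (Fin n) A) B (Localization.Away t) :=
    IsScalarTower.of_algebraMap_eq (fun _ => rfl)
  have : IsScalarTower A (MvPolynomial (Fin n) A) (Localization.Away t) :=
    IsScalarTower.of_algebraMap_eq (fun a => by
      rw [IsScalarTower.algebraMap_apply A B (Localization.Away t),
        IsScalarTower.algebraMap_apply A (MvPolynomial (Fin n) A) B,
        IsScalarTower.algebraMap_apply (MvPolynomial (Fin n) A) B (Localization.Away t)])
  obtain ⟨P', _, _, ψ, hsm, hψs, hker⟩ := exists_standardSmooth_lift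
    (R := MvPolynomial (Fin n) A) (B := B) (B' := Localization.Away t) hf
  let _ : Algebra A P' :=
    ((algebraMap (MvPolynomial (Fin n) A) P').comp (algebraMap A (MvPolynomial (Fin n) A))).toAlgebra
  have : IsScalarTower A (MvPolynomial (Fin n) A) P' :=
    IsScalarTower.of_algebraMap_eq (fun _ => rfl)
  have hfpP' : Algebra.FinitePresentation A P' :=
    Algebra.FinitePresentation.trans A (MvPolynomial (Fin n) A) P'
  have hfpB'' : Algebra.FinitePresentation A (Localization.Away t) := by
    have : Algebra.FinitePresentation B' (Localization.Away t) :=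
      IsLocalization.Away.finitePresentation t
    exact Algebra.FinitePresentation.trans A B' (Localization.Away t)
  have hkerfg : (RingHom.ker (ψ.restrictScalars A).toRingHom).FG :=
    Algebra.FinitePresentation.ker_fG_of_surjective (ψ.restrictScalars A) hψs
  have hkerfg' : ((RingHom.ker (algebraMap (MvPolynomial (Fin n) A) B)).map
      (algebraMap (MvPolynomial (Fin n) A) P')).FG := by
    rw [← hker]; exact hkerfg
  have hopen : IsOpen (Set.range (PrimeSpectrum.comap (algebraMap (MvPolynomial (Fin n) A) P'))) :=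
    (PrimeSpectrum.isOpenMap_comap_of_hasGoingDown_of_finitePresentation).isOpen_range
  refine ⟨_, hopen, ?_, ⟨P', inferInstance, inferInstance, inferInstance, subset_rfl, hkerfg'⟩⟩
  obtain ⟨qB'', hqB''⟩ : qB' ∈ Set.range
      (PrimeSpectrum.comap (algebraMap B' (Localization.Away t))) := by
    rw [PrimeSpectrum.localization_away_comap_range (Localization.Away t) t]
    exact htq
  refine ⟨PrimeSpectrum.comap ψ.toRingHom qB'', ?_⟩
  rw [← hqB'', ← PrimeSpectrum.comap_comp_apply, ← PrimeSpectrum.comap_comp_apply,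
    ← PrimeSpectrum.comap_comp_apply]
  congr 1
  apply RingHom.ext
  intro x
  have h1 := ψ.commutes x
  change ψ (algebraMap _ _ x) = _
  rw [h1, IsScalarTower.algebraMap_apply (MvPolynomial (Fin n) A) B (Localization.Away t),
    IsScalarTower.algebraMap_apply B B' (Localization.Away t)]
  rfl

theorem finitePresentation_of_comp_smooth {A B B' : Type u} [CommRing A] [CommRing B]
    [CommRing B'] (f : A →+* B) (g : B →+* B') (hg : g.Smooth)
    (hgs : Function.Surjective (PrimeSpectrum.comap g)) (hgf : (g.comp f).FinitePresentation) :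
    f.FinitePresentation := by
  algebraize [f, g, g.comp f]
  exact finitePresentation_of_smooth_of_comap_surjective (A := A) (B := B) (B' := B') hgs


/-! ### Scheme level -/

open CategoryTheory CategoryTheory.Limits AlgebraicGeometry Groth.Agent.Lib.SrcLocalSm

theorem sourceSmLocal_locallyOfFinitePresentation :
    SourceSmLocal @LocallyOfFinitePresentation.{u} := by
  have : MorphismProperty.RespectsRight @LocallyOfFinitePresentation.{u} @IsOpenImmersion :=
    ⟨fun i hi f hf => by
      have : IsOpenImmersion i := hi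
      have : LocallyOfFinitePresentation f := hf
      exact (inferInstance : LocallyOfFinitePresentation (f ≫ i))⟩
  apply sourceSmLocal_of_affine
  intro X' X Y _ _ _ p h hp hps hph
  obtain ⟨h1, h2, h3⟩ := smooth_faithfullyFlat_appTop p hp hps
  rw [HasRingHomProperty.iff_of_isAffine (P := @LocallyOfFinitePresentation)] at hph ⊢
  rw [Scheme.Hom.comp_appTop, CommRingCat.hom_comp] at hph
  exact finitePresentation_of_comp_smooth _ _ h1 h3 hph

theorem isLocalAtSource_smooth_lfp :
    MorphismProperty.IsLocalAtSource @LocallyOfFinitePresentation.{u}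
      (Scheme.precoverage @Smooth) :=
  isLocalAtSource_smooth (fun _ _ _ l w hl hw => by
    have : Smooth l := hl
    have : LocallyOfFinitePresentation w := hw
    exact (inferInstance : LocallyOfFinitePresentation (l ≫ w)))
    sourceSmLocal_locallyOfFinitePresentation

end Groth.Agent.Lib.SrcLocalSmFP
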