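import Groth.Agent.Lib.AlgSpSmLocalST
import Groth.Agent.Lib.SrcLocalSmFP

/-!
# `LocP lfp` is smooth local on the source-and-target (helper64)
-/

set_option autoImplicit false
universe u
open CategoryTheory CategoryTheory.Limits AlgebraicGeometry
open AlgSp Groth.Agent.Lib.AlgSpBasic Groth.Agent.Lib.AlgSpLocP

namespace Groth.Agent.Lib.AlgSpSmLocalST

variable {S : Scheme.{u}}

theorem isSmoothLocalST_locP_lfp :
    AlgSp.IsSmoothLocalST (AlgSp.LocP (S := S) @LocallyOfFinitePresentation) := by
  have := Groth.Agent.Lib.SrcLocalSmFP.isLocalAtSource_smooth_lfp.{u}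
  exact isSmoothLocalST_locP etLocalClass_lfp
    (fun _ _ l hl => by
      have : Smooth l := hl
      exact (inferInstance : LocallyOfFinitePresentation l))
    Groth.Agent.Lib.AlgSpFpqc.isLocalOnBase_fpqc_locP_locallyOfFinitePresentation

/-- `LocP lfp` is local on the source for smooth coverings of algebraic spaces. -/
theorem isLocalOnSource_smCover_lfp :
    AlgSp.IsLocalOnSource (AlgSp.IsSmCover (S := S)) (AlgSp.LocP @LocallyOfFinitePresentation) := by
  have := Groth.Agent.Lib.SrcLocalSmFP.isLocalAtSource_smooth_lfp.{u}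
  exact Groth.Agent.Lib.AlgSpSrcCover.isLocalOnSource_smCover

/-- `LocP lft` is local on the source for smooth coverings of algebraic spaces. -/
theorem isLocalOnSource_smCover_lft :
    AlgSp.IsLocalOnSource (AlgSp.IsSmCover (S := S)) (AlgSp.LocP @LocallyOfFiniteType) := by
  have := Groth.Agent.Lib.SrcLocalSm.isLocalAtSource_smooth_lft.{u}
  exact Groth.Agent.Lib.AlgSpSrcCover.isLocalOnSource_smCover

end Groth.Agent.Lib.AlgSpSmLocalST
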