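import Groth.Agent.Lib.EtaleSliceSection68
import Groth.Agent.Lib.AlgSpDecentSpec

/-!
# Smooth coverings of algebraic spaces are refined by etale coverings (owner: helper64)

Namespace `Groth.Agent.Lib.AlgSpSmRefine`.

* `exists_etale_lift_at`: `g : Y ⟶ X` smooth (`LocP @Smooth`) morphism of algebraic spaces, `a : h_U ⟶ X` an etale chart,
  `u ∈ U` whose image lies in the image of `g`: there are an etale neighbourhood `e : U' ⟶ U` of `u` and a lift
  `r : h_{U'} ⟶ Y` with `r ≫ g = h_e ≫ a` (EGA IV 17.16.3 (ii) through charts; uses helper68 `exists_etale_section`).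
* `exists_etale_refinement`: a smooth covering of an algebraic space is refined by an etale covering by schemes.
-/

set_option autoImplicit false
universe u
open CategoryTheory CategoryTheory.Limits AlgebraicGeometry Opposite Topology

namespace Groth.Agent.Lib.AlgSpSmRefine

open AlgSp

variable {S : Scheme.{u}}

theorem exists_etale_lift_at {X Y : Sp S} (hX : IsAlgSpace X) (hY : IsAlgSpace Y) (g : Y ⟶ X)
    (hg : LocP @Smooth g) {U : Over S} (a : (yon S).obj U ⟶ X) (ha : RepWith @Etale a) (u : ↥U.left)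
    (hu : Points.ofPt a u ∈ Set.range (Points.map g)) :
    ∃ (U' : Over S) (e : U' ⟶ U) (r : (yon S).obj U' ⟶ Y) (u' : ↥U'.left),
      Etale e.left ∧ e.left u' = u ∧ r ≫ g = (yon S).map e ≫ a := by
  obtain ⟨V, b, hbe, hbs⟩ := hY.atlas
  obtain ⟨y, hy⟩ := hu
  obtain ⟨v, rfl⟩ := Groth.Agent.Lib.H86AlgSpPoints.ofPt_surjective hbs y
  rw [Points.map_ofPt] at hy
  have hrep := hX.representable_from_yon a
  let W := hrep.pullback (b ≫ g)
  let snd : W ⟶ V := hrep.snd (b ≫ g)
  let h : W ⟶ U := (yon S).preimage (hrep.fst (b ≫ g))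
  have hh : (yon S).map h = hrep.fst (b ≫ g) := (yon S).map_preimage _
  have sq : IsPullback ((yon S).map h) ((yon S).map snd) a (b ≫ g) := by
    rw [hh]; exact hrep.isPullback (b ≫ g)
  have hsnd : RepWith @Etale ((yon S).map snd) :=
    (repWith_isStableUnderBaseChange (S := S) @Etale).of_isPullback sq ha
  have hchart : RepWith @Etale ((yon S).map snd ≫ b) :=
    (repWith_isMultiplicative (S := S) @Etale).comp_mem _ _ hsnd hbe
  have hsm : Smooth h.left :=
    hg ((yon S).map snd ≫ b) a h hchart ha (by rw [Category.assoc, ← sq.w])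
  obtain ⟨w, hw1, hw2⟩ := Groth.Agent.Lib.AlgSpDecentSpec.exists_point_of_ofPt_eq sq u v hy.symm
  obtain ⟨S', e₀, s', he₀, hs', k, hk⟩ :=
    Groth.Agent.Lib.EtaleSliceSection68.exists_etale_section h.left u ⟨w, hw1⟩
  let U' : Over S := Over.mk (e₀ ≫ U.hom)
  let e : U' ⟶ U := Over.homMk e₀ rfl
  have hkW : k ≫ W.hom = U'.hom := by
    change k ≫ W.hom = e₀ ≫ U.hom
    rw [← Over.w h, ← Category.assoc, hk]
  let kk : U' ⟶ W := Over.homMk k hkW
  have hkk : kk ≫ h = e := by
    apply Over.OverMorphism.ext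
    exact hk
  refine ⟨U', e, (yon S).map kk ≫ (yon S).map snd ≫ b, s', he₀, hs', ?_⟩
  rw [Category.assoc, Category.assoc, ← sq.w, ← Category.assoc, ← Functor.map_comp, hkk]

/-- A smooth covering of an algebraic space is refined by an etale covering by schemes, indexed by the points of an
atlas. -/
theorem exists_etale_refinement {X : Sp S} (hX : IsAlgSpace X) {ι : Type u} (Xi : ι → Sp S)
    (hXi : ∀ i, IsAlgSpace (Xi i)) (g : ∀ i, Xi i ⟶ X) (h : IsSmCover Xi g) :
    ∃ (κ : Type u) (U : κ → Over S) (c : ∀ j, (yon S).obj (U j) ⟶ X),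
      (∀ j, RepWith @Etale (c j)) ∧ (∀ x : Points X, ∃ j, x ∈ Set.range (Points.map (c j))) ∧
      ∀ j, ∃ (i : ι) (r : (yon S).obj (U j) ⟶ Xi i), r ≫ g i = c j := by
  obtain ⟨U₀, a, hae, has⟩ := hX.atlas
  have key : ∀ u : ↥U₀.left, ∃ (i : ι) (U' : Over S) (e : U' ⟶ U₀) (r : (yon S).obj U' ⟶ Xi i)
      (u' : ↥U'.left), Etale e.left ∧ e.left u' = u ∧ r ≫ g i = (yon S).map e ≫ a := by
    intro u
    obtain ⟨i, hi⟩ := h.2 (Points.ofPt a u)
    obtain ⟨U', e, r, u', h1, h2, h3⟩ :=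
      exists_etale_lift_at hX (hXi i) (g i) (h.1 i) a hae u hi
    exact ⟨i, U', e, r, u', h1, h2, h3⟩
  choose i U' e r u' he hu' hr using key
  refine ⟨↥U₀.left, U', fun u => (yon S).map (e u) ≫ a, fun u => ?_, fun x => ?_, fun u => ?_⟩
  · exact (repWith_isMultiplicative (S := S) @Etale).comp_mem _ _
      ((repWith_yon_map_iff _ _).2 (he u)) hae
  · obtain ⟨u, rfl⟩ := Groth.Agent.Lib.H86AlgSpPoints.ofPt_surjective has x
    refine ⟨u, Points.ofPt (𝟙 _) (u' u), ?_⟩
    rw [Points.map_ofPt, Category.id_comp, Groth.Agent.Lib.H86AlgSpPoints.ofPt_map_comp, hu' u]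
  · exact ⟨i u, r u, hr u⟩

end Groth.Agent.Lib.AlgSpSmRefine
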