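import Mathlib
import Groth.Agent.Lib.SrcLocalRing
import Groth.Agent.Lib.SrcLocalFP
import Groth.Agent.Lib.EtaleLiftSurj

/-!
# Finite type / finite presentation descend along smooth covers of the source (ring level)

`A → B → B'` with `B → B'` smooth and `Spec B' → Spec B` surjective:
* `A → B'` of finite type ⇒ `A → B` of finite type;
* `A → B'` of finite presentation and `B'` standard smooth over `B` ⇒ `A → B` of finite
  presentation.
Adapted from the etale versions in `SrcLocalRing`, `SrcLocalFP`, `EtaleLiftSurj`.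
-/

set_option autoImplicit false
universe u
open TensorProduct MvPolynomial

namespace Groth.Agent.Lib.SrcLocalSmoothCover

open Groth.Agent.Lib.SrcLocalRing

/-- Finite type descends along a smooth cover of the source: ring version. -/
theorem finiteType_of_smooth_of_comap_surjective {A B B' : Type u} [CommRing A] [CommRing B]
    [CommRing B'] [Algebra A B] [Algebra B B'] [Algebra A B'] [IsScalarTower A B B']
    [Algebra.Smooth B B']
    (hs : Function.Surjective (PrimeSpectrum.comap (algebraMap B B')))
    [Algebra.FiniteType A B'] : Algebra.FiniteType A B := by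
  obtain ⟨B₀, B₀', _, _, hfg, hsm, ⟨e⟩⟩ := Algebra.Smooth.exists_subalgebra_fg A B B'
  have : Module.Flat B₀ B₀' := inferInstance
  let j : B₀' →+* B' := e.symm.toAlgHom.toRingHom.comp
    (Algebra.TensorProduct.includeRight (R := B₀) (A := B) (B := B₀')).toRingHom
  have hj : ∀ b₀ : B₀, j (algebraMap B₀ B₀' b₀) = algebraMap B B' (b₀ : B) := by
    intro b₀
    have h1 : (1 : B) ⊗ₜ[B₀] (algebraMap B₀ B₀' b₀) = algebraMap B (B ⊗[B₀] B₀') (b₀ : B) := by
      rw [Algebra.TensorProduct.algebraMap_apply, Algebra.algebraMap_eq_smul_one,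
        ← TensorProduct.smul_tmul]
      congr 1
      simp [Algebra.smul_def]
    change e.symm ((1 : B) ⊗ₜ[B₀] (algebraMap B₀ B₀' b₀)) = _
    rw [h1, AlgEquiv.commutes]
  have hopen : IsOpenMap (PrimeSpectrum.comap (algebraMap B₀ B₀')) :=
    PrimeSpectrum.isOpenMap_comap_of_hasGoingDown_of_finitePresentation
  set W₀ := Set.range (PrimeSpectrum.comap (algebraMap B₀ B₀')) with hW₀def
  have hW₀ : IsOpen W₀ := hopen.isOpen_range
  let I₀ : Ideal B₀ := PrimeSpectrum.vanishingIdeal W₀ᶜ
  have hI₀ : PrimeSpectrum.zeroLocus (I₀ : Set B₀) = W₀ᶜ := by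
    rw [PrimeSpectrum.zeroLocus_vanishingIdeal_eq_closure, hW₀.isClosed_compl.closure_eq]
  have hrange : ∀ q : PrimeSpectrum B, PrimeSpectrum.comap (algebraMap B₀ B) q ∈ W₀ := by
    intro q
    obtain ⟨q', rfl⟩ := hs q
    refine ⟨PrimeSpectrum.comap j q', ?_⟩
    rw [← PrimeSpectrum.comap_comp_apply, ← PrimeSpectrum.comap_comp_apply]
    congr 1
    ext b₀
    exact hj b₀
  have htop : I₀.map (algebraMap B₀ B) = ⊤ := by
    rw [← PrimeSpectrum.zeroLocus_empty_iff_eq_top, Ideal.map, PrimeSpectrum.zeroLocus_span,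
      ← PrimeSpectrum.preimage_comap_zeroLocus, hI₀]
    ext q
    simp [hrange q]
  have h1mem : (1 : B) ∈ Submodule.span B ((algebraMap B₀ B) '' (I₀ : Set B₀)) := by
    have h2 : (1 : B) ∈ I₀.map (algebraMap B₀ B) := by rw [htop]; trivial
    exact h2
  obtain ⟨l, hl, hl1⟩ := (Finsupp.mem_span_image_iff_linearCombination B).1 h1mem
  obtain ⟨s', hs'⟩ := (Algebra.FiniteType.out : (⊤ : Subalgebra A B').FG)
  classical
  let s : Finset (B ⊗[B₀] B₀') := s'.image e
  choose k β y hx using fun x : s => TensorProduct.exists_sum_tmul_eq (x : B ⊗[B₀] B₀')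
  let F : Set B := (l '' (l.support : Set B₀)) ∪ ⋃ (x : s), Set.range (β x)
  have hF : F.Finite :=
    (l.support.finite_toSet.image _).union (Set.finite_iUnion (fun x => Set.finite_range _))
  let C : Subalgebra A B := B₀ ⊔ Algebra.adjoin A F
  have hCfg : C.FG := hfg.sup (by rw [← hF.coe_toFinset]; exact Subalgebra.fg_adjoin_finset _)
  have hFC : F ⊆ C := fun b hb => (le_sup_right : Algebra.adjoin A F ≤ C) (Algebra.subset_adjoin hb)
  have hgen' : ∀ x' : B', e x' ∈ Subring.closure
      ((s : Set (B ⊗[B₀] B₀')) ∪ Set.range (fun a : A => (algebraMap A B a) ⊗ₜ[B₀] (1 : B₀'))) := by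
    intro x'
    have hx' : x' ∈ Algebra.adjoin A (s' : Set B') := by rw [hs']; trivial
    induction hx' using Algebra.adjoin_induction with
    | mem x hxs =>
      exact Subring.subset_closure (Or.inl (Finset.mem_coe.2 (Finset.mem_image_of_mem e hxs)))
    | algebraMap a =>
      apply Subring.subset_closure
      right
      refine ⟨a, ?_⟩
      rw [IsScalarTower.algebraMap_apply A B B', AlgEquiv.commutes,
        Algebra.TensorProduct.algebraMap_apply]
      rfl
    | add x y _ _ hx hy => rw [map_add]; exact Subring.add_mem _ hx hy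
    | mul x y _ _ hx hy => rw [map_mul]; exact Subring.mul_mem _ hx hy
  have hgen : ∀ w : B ⊗[B₀] B₀', w ∈ Subring.closure
      ((s : Set (B ⊗[B₀] B₀')) ∪ Set.range (fun a : A => (algebraMap A B a) ⊗ₜ[B₀] (1 : B₀'))) := by
    intro w
    have := hgen' (e.symm w)
    rwa [AlgEquiv.apply_symm_apply] at this
  have hCtop : C = ⊤ := eq_top_of_model B₀ C le_sup_left B₀' I₀ hI₀ l hl hl1
    (fun i hi => hFC (Or.inl ⟨i, hi, rfl⟩)) s k β y hx
    (fun x j => hFC (Or.inr (Set.mem_iUnion.2 ⟨x, ⟨j, rfl⟩⟩))) hgen
  exact ⟨hCtop ▸ hCfg⟩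

theorem finiteType_of_comp_smooth {A B B' : Type u} [CommRing A] [CommRing B] [CommRing B']
    (f : A →+* B) (g : B →+* B') (hg : g.Smooth)
    (hgs : Function.Surjective (PrimeSpectrum.comap g)) (hgf : (g.comp f).FiniteType) :
    f.FiniteType := by
  algebraize [f, g, g.comp f]
  exact finiteType_of_smooth_of_comap_surjective (A := A) (B := B) (B' := B') hgs

open Algebra in
/-- Standard smooth algebras lift along surjections of rings. -/
theorem exists_standardSmooth_lift {R B B' : Type u} [CommRing R] [CommRing B] [CommRing B']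
    [Algebra R B] [Algebra B B'] [Algebra R B'] [IsScalarTower R B B']
    (hsurj : Function.Surjective (algebraMap R B)) [Algebra.IsStandardSmooth B B'] :
    ∃ (R' : Type u) (_ : CommRing R') (_ : Algebra R R') (ψ : R' →ₐ[R] B'),
      Algebra.IsStandardSmooth R R' ∧ Function.Surjective ψ ∧
      RingHom.ker ψ = (RingHom.ker (algebraMap R B)).map (algebraMap R R') := by
  obtain ⟨ι, σ, _, _, ⟨Q⟩⟩ := (‹Algebra.IsStandardSmooth B B'›).out
  have hmap : Function.Surjective
      (MvPolynomial.map (algebraMap R B) : MvPolynomial ι R → MvPolynomial ι B) :=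
    MvPolynomial.map_surjective _ hsurj
  choose v hv using fun s => hmap (Q.relation s)
  let I : Ideal (MvPolynomial ι R) := Ideal.span (Set.range v)
  let N : PreSubmersivePresentation R (MvPolynomial ι R ⧸ Ideal.span (Set.range v)) ι σ :=
    PreSubmersivePresentation.naive Q.map Q.map_inj
  let φ₀ : MvPolynomial ι R →ₐ[R] B' := MvPolynomial.aeval Q.val
  have hφ₀ : ∀ p, φ₀ p = MvPolynomial.aeval Q.val (MvPolynomial.map (algebraMap R B) p) := by
    intro p
    rw [MvPolynomial.aeval_map_algebraMap]
  have hφ₀I : ∀ a ∈ I, φ₀ a = 0 := by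
    intro a ha
    refine Submodule.span_induction (p := fun a _ => φ₀ a = 0) ?_ ?_ ?_ ?_ ha
    · rintro _ ⟨s, rfl⟩
      rw [hφ₀, hv, Q.aeval_val_relation]
    · simp
    · intro x y _ _ hx hy; rw [map_add, hx, hy, add_zero]
    · intro a x _ hx; rw [smul_eq_mul, map_mul, hx, mul_zero]
  let φ₁ : (MvPolynomial ι R ⧸ Ideal.span (Set.range v)) →ₐ[R] B' :=
    Ideal.Quotient.liftₐ I φ₀ hφ₀I
  have hφ₁ : ∀ p, φ₁ (Ideal.Quotient.mk I p) = φ₀ p := fun p => rfl
  classical
  cases nonempty_fintype σ
  have hjm : (MvPolynomial.map (algebraMap R B)).mapMatrix N.jacobiMatrix = Q.jacobiMatrix := by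
    ext i j : 1
    rw [RingHom.mapMatrix_apply, Matrix.map_apply, PreSubmersivePresentation.jacobiMatrix_apply,
      PreSubmersivePresentation.jacobiMatrix_apply]
    change MvPolynomial.map (algebraMap R B) (MvPolynomial.pderiv (Q.map i) (v j)) = _
    rw [← MvPolynomial.pderiv_map, hv]
  have key : φ₁ N.jacobian = Q.jacobian := by
    rw [PreSubmersivePresentation.jacobian_eq_jacobiMatrix_det,
      PreSubmersivePresentation.jacobian_eq_jacobiMatrix_det]
    change φ₁ (Ideal.Quotient.mk I N.jacobiMatrix.det) = _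
    rw [hφ₁, hφ₀, RingHom.map_det, hjm, Algebra.Generators.algebraMap_apply]
  have hunit : ∀ y : Submonoid.powers N.jacobian, IsUnit (φ₁ y) := by
    rintro ⟨_, n, rfl⟩
    rw [map_pow, key]
    exact Q.jacobian_isUnit.pow n
  let ψ : Localization.Away N.jacobian →ₐ[R] B' := IsLocalization.liftAlgHom hunit
  have hψ : ∀ m, ψ (algebraMap _ _ m) = φ₁ m := fun m => by
    simp [ψ]
  have het : Algebra.IsStandardSmooth R (Localization.Away N.jacobian) :=
    (Groth.Agent.Lib.EtaleLiftSurj.isStandardSmooth_localizationAway_jacobian N _).isStandardSmooth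
  refine ⟨Localization.Away N.jacobian, inferInstance, inferInstance, ψ, het, ?_, ?_⟩
  · intro b'
    obtain ⟨q, rfl⟩ := Q.aeval_val_surjective b'
    obtain ⟨p, rfl⟩ := hmap q
    exact ⟨algebraMap _ _ (Ideal.Quotient.mk I p), by rw [hψ, hφ₁, hφ₀]⟩
  · apply le_antisymm
    · intro x hx
      rw [RingHom.mem_ker] at hx
      obtain ⟨⟨m, ⟨_, n, rfl⟩⟩, hx'⟩ := IsLocalization.surj (Submonoid.powers N.jacobian) x
      have hm : φ₁ m = 0 := by
        rw [← hψ, ← hx', map_mul, hx, zero_mul]
      have hmJ : m ∈ (RingHom.ker (algebraMap R B)).map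
          (algebraMap R (MvPolynomial ι R ⧸ Ideal.span (Set.range v))) := by
        obtain ⟨p, rfl⟩ := Ideal.Quotient.mk_surjective m
        rw [hφ₁, hφ₀] at hm
        have h1 : MvPolynomial.map (algebraMap R B) p ∈ Q.ker := by
          rw [Q.ker_eq_ker_aeval_val]; exact hm
        rw [← Q.span_range_relation_eq_ker] at h1
        have h2 : Ideal.span (Set.range Q.relation) =
            Ideal.map (MvPolynomial.map (algebraMap R B)) I := by
          rw [Ideal.map_span, ← Set.range_comp]
          congr 1
          ext s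
          simp [hv]
        rw [h2, Ideal.mem_map_iff_of_surjective _ hmap] at h1
        obtain ⟨p₀, hp₀, hp₀'⟩ := h1
        have h3 : p - p₀ ∈ RingHom.ker (MvPolynomial.map (algebraMap R B) :
            MvPolynomial ι R →+* MvPolynomial ι B) := by
          rw [RingHom.mem_ker, map_sub, hp₀', sub_self]
        rw [MvPolynomial.ker_map] at h3
        have h4 : Ideal.Quotient.mk I p = Ideal.Quotient.mk I (p - p₀) := by
          rw [map_sub, Ideal.Quotient.eq_zero_iff_mem.2 hp₀, sub_zero]
        rw [h4]
        have h5 := Ideal.mem_map_of_mem (Ideal.Quotient.mk I) h3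
        rwa [Ideal.map_map] at h5
      have h6 : algebraMap _ (Localization.Away N.jacobian) m ∈
          (RingHom.ker (algebraMap R B)).map (algebraMap R (Localization.Away N.jacobian)) := by
        have := Ideal.mem_map_of_mem (algebraMap _ (Localization.Away N.jacobian)) hmJ
        rwa [Ideal.map_map, ← IsScalarTower.algebraMap_eq] at this
      have hu : IsUnit (algebraMap _ (Localization.Away N.jacobian) (N.jacobian ^ n)) :=
        IsLocalization.map_units _ (⟨_, n, rfl⟩ : Submonoid.powers N.jacobian)
      rw [← hx'] at h6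
      exact (Ideal.mul_unit_mem_iff_mem _ hu).1 h6
    · rw [Ideal.map_le_iff_le_comap]
      intro j hj
      rw [Ideal.mem_comap, RingHom.mem_ker, AlgHom.commutes, IsScalarTower.algebraMap_apply R B B',
        (RingHom.mem_ker).1 hj, map_zero]


/-- Finite presentation descends along a standard smooth cover of the source: ring version. -/
theorem finitePresentation_of_standardSmooth_of_comap_surjective {A B B' : Type u} [CommRing A]
    [CommRing B] [CommRing B'] [Algebra A B] [Algebra B B'] [Algebra A B'] [IsScalarTower A B B']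
    [Algebra.IsStandardSmooth B B']
    (hs : Function.Surjective (PrimeSpectrum.comap (algebraMap B B')))
    [Algebra.FinitePresentation A B'] : Algebra.FinitePresentation A B := by
  have hft : Algebra.FiniteType A B :=
    finiteType_of_smooth_of_comap_surjective hs
  obtain ⟨n, f, hf⟩ := Algebra.FiniteType.iff_quotient_mvPolynomial''.1 hft
  refine Algebra.FinitePresentation.of_surjective hf ?_
  let _ : Algebra (MvPolynomial (Fin n) A) B := f.toRingHom.toAlgebra
  have : IsScalarTower A (MvPolynomial (Fin n) A) B :=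
    IsScalarTower.of_algebraMap_eq (fun a => (f.commutes a).symm)
  let _ : Algebra (MvPolynomial (Fin n) A) B' :=
    ((algebraMap B B').comp (algebraMap (MvPolynomial (Fin n) A) B)).toAlgebra
  have : IsScalarTower (MvPolynomial (Fin n) A) B B' :=
    IsScalarTower.of_algebraMap_eq (fun _ => rfl)
  have : IsScalarTower A (MvPolynomial (Fin n) A) B' := IsScalarTower.of_algebraMap_eq (fun a => by
    rw [IsScalarTower.algebraMap_apply A B B', IsScalarTower.algebraMap_apply A (MvPolynomial (Fin n) A) B,
      IsScalarTower.algebraMap_apply (MvPolynomial (Fin n) A) B B'])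
  obtain ⟨P', _, _, ψ, het, hψs, hker⟩ := exists_standardSmooth_lift
    (R := MvPolynomial (Fin n) A) (B := B) (B' := B') hf
  let _ : Algebra A P' :=
    ((algebraMap (MvPolynomial (Fin n) A) P').comp (algebraMap A (MvPolynomial (Fin n) A))).toAlgebra
  have : IsScalarTower A (MvPolynomial (Fin n) A) P' :=
    IsScalarTower.of_algebraMap_eq (fun _ => rfl)
  have hfpP' : Algebra.FinitePresentation A P' :=
    Algebra.FinitePresentation.trans A (MvPolynomial (Fin n) A) P'
  have hkerfg : (RingHom.ker (ψ.restrictScalars A).toRingHom).FG :=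
    Algebra.FinitePresentation.ker_fG_of_surjective (ψ.restrictScalars A) hψs
  have hkerfg' : ((RingHom.ker (algebraMap (MvPolynomial (Fin n) A) B)).map
      (algebraMap (MvPolynomial (Fin n) A) P')).FG := by
    rw [← hker]; exact hkerfg
  have hflat : Module.Flat (MvPolynomial (Fin n) A) P' := inferInstance
  have hopen : IsOpen (Set.range (PrimeSpectrum.comap (algebraMap (MvPolynomial (Fin n) A) P'))) :=
    (PrimeSpectrum.isOpenMap_comap_of_hasGoingDown_of_finitePresentation).isOpen_range
  refine Groth.Agent.Lib.SrcLocalFP.fg_of_fg_map_of_flat (P' := P') (RingHom.ker f.toRingHom) hopen ?_ hkerfg'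
  intro q hq
  have hq' : q ∈ Set.range (PrimeSpectrum.comap (algebraMap (MvPolynomial (Fin n) A) B)) := by
    have h1 := _root_.range_comap_of_surjective B (algebraMap (MvPolynomial (Fin n) A) B) hf
    rw [h1]
    exact hq
  obtain ⟨qB, rfl⟩ := hq'
  obtain ⟨qB', rfl⟩ := hs qB
  refine ⟨PrimeSpectrum.comap ψ.toRingHom qB', ?_⟩
  rw [← PrimeSpectrum.comap_comp_apply, ← PrimeSpectrum.comap_comp_apply]
  congr 1
  apply RingHom.ext
  intro x
  exact ψ.commutes x

theorem finitePresentation_of_comp_standardSmooth {A B B' : Type u} [CommRing A] [CommRing B]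
    [CommRing B'] (f : A →+* B) (g : B →+* B') (hg : g.IsStandardSmooth)
    (hgs : Function.Surjective (PrimeSpectrum.comap g)) (hgf : (g.comp f).FinitePresentation) :
    f.FinitePresentation := by
  algebraize [f, g, g.comp f]
  exact finitePresentation_of_standardSmooth_of_comap_surjective (A := A) (B := B) (B' := B') hgs


end Groth.Agent.Lib.SrcLocalSmoothCover
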