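import Mathlib
import Groth.Agent.Lib.SrcLocalSmoothCover
import Groth.Agent.Lib.SrcLocal

/-!
# Locally of finite type / finite presentation are smooth-local on the source (schemes)
-/

set_option autoImplicit false
universe u
open CategoryTheory CategoryTheory.Limits AlgebraicGeometry

namespace Groth.Agent.Lib.SrcLocalSmoothCover

/-- Local form of the descent along a standard smooth ring map. -/
theorem exists_localization_of_comp_standardSmooth
    (Q : ∀ {R S : Type u} [CommRing R] [CommRing S], (R →+* S) → Prop)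
    (hQcomp : RingHom.StableUnderComposition @Q) (hQloc : RingHom.HoldsForLocalizationAway @Q)
    (hQdesc : ∀ {A B B' : Type u} [CommRing A] [CommRing B] [CommRing B'] (f : A →+* B)
      (g : B →+* B'), g.IsStandardSmooth → Function.Surjective (PrimeSpectrum.comap g) →
      Q (g.comp f) → Q f)
    {A B B' : Type u} [CommRing A] [CommRing B] [CommRing B'] (f : A →+* B) (g : B →+* B')
    (hg : g.IsStandardSmooth) (hgf : Q (g.comp f)) (q : PrimeSpectrum B)
    (hq : q ∈ Set.range (PrimeSpectrum.comap g)) :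
    ∃ b : B, b ∉ q.asIdeal ∧ Q ((algebraMap B (Localization.Away b)).comp f) := by
  have hopen : IsOpen (Set.range (PrimeSpectrum.comap g)) := by
    algebraize [g]
    exact (PrimeSpectrum.isOpenMap_comap_of_hasGoingDown_of_finitePresentation
      (R := B) (S := B')).isOpen_range
  obtain ⟨_, ⟨b, rfl⟩, hqb, hb⟩ :=
    PrimeSpectrum.isTopologicalBasis_basic_opens.exists_subset_of_mem_open hq hopen
  refine ⟨b, hqb, ?_⟩
  let gb : Localization.Away b →+* Localization.Away (g b) :=
    IsLocalization.Away.map (Localization.Away b) (Localization.Away (g b)) g b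
  have hgb : gb.IsStandardSmooth :=
    RingHom.isStandardSmooth_localizationPreserves.away g b _ _ hg
  have hcomm : gb.comp (algebraMap B (Localization.Away b)) =
      (algebraMap B' (Localization.Away (g b))).comp g := IsLocalization.map_comp _
  have hQ : Q (gb.comp ((algebraMap B (Localization.Away b)).comp f)) := by
    rw [← RingHom.comp_assoc, hcomm, RingHom.comp_assoc]
    exact hQcomp _ _ hgf (hQloc (Localization.Away (g b)) (g b))
  refine hQdesc _ gb hgb ?_ hQ
  intro p
  have hp : PrimeSpectrum.comap (algebraMap B (Localization.Away b)) p ∈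
      (PrimeSpectrum.basicOpen b : Set (PrimeSpectrum B)) := by
    rw [← PrimeSpectrum.localization_away_comap_range (Localization.Away b) b]
    exact ⟨p, rfl⟩
  obtain ⟨q', hq'⟩ := hb hp
  have hq'b : q' ∈ (PrimeSpectrum.basicOpen (g b) : Set (PrimeSpectrum B')) := by
    show g b ∉ q'.asIdeal
    intro hmem
    have : b ∈ (PrimeSpectrum.comap g q').asIdeal := hmem
    rw [hq'] at this
    exact hp this
  rw [← PrimeSpectrum.localization_away_comap_range (Localization.Away (g b)) (g b)] at hq'b
  obtain ⟨p', hp'⟩ := hq'b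
  refine ⟨p', ?_⟩
  apply PrimeSpectrum.localization_comap_injective (Localization.Away b) (Submonoid.powers b)
  rw [← PrimeSpectrum.comap_comp_apply, hcomm, PrimeSpectrum.comap_comp_apply, hp', hq']


theorem etale_isStandardSmooth {R S : Type u} [CommRing R] [CommRing S] {f : R →+* S}
    (hf : f.Etale) : f.IsStandardSmooth := by
  algebraize [f]
  have h0 : Algebra.IsStandardSmoothOfRelativeDimension 0 R S :=
    Algebra.Etale.iff_isStandardSmoothOfRelativeDimension_zero.1 inferInstance
  have : Algebra.IsStandardSmooth R S := h0.isStandardSmooth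
  exact RingHom.isStandardSmooth_algebraMap.2 this

/-- `P` is smooth-local on the source: it can be checked after precomposing with a smooth
surjective morphism. -/
def SourceSmLocal (P : MorphismProperty Scheme.{u}) : Prop :=
  ∀ ⦃X' X Y : Scheme.{u}⦄ (p : X' ⟶ X) (h : X ⟶ Y), Smooth p → Surjective p → P (p ≫ h) → P h

/-- The affine case. -/
theorem of_affine {P : MorphismProperty Scheme.{u}}
    {Q : ∀ {R S : Type u} [CommRing R] [CommRing S], (R →+* S) → Prop} [HasRingHomProperty P Q]
    (hQcomp : RingHom.StableUnderComposition @Q) (hQloc : RingHom.HoldsForLocalizationAway @Q)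
    (hQdesc : ∀ {A B B' : Type u} [CommRing A] [CommRing B] [CommRing B'] (f : A →+* B)
      (g : B →+* B'), g.IsStandardSmooth → Function.Surjective (PrimeSpectrum.comap g) →
      Q (g.comp f) → Q f)
    {X' X Y : Scheme.{u}} [IsAffine X] [IsAffine Y] (p : X' ⟶ X) (h : X ⟶ Y) [Smooth p]
    [Surjective p] (hph : P (p ≫ h)) : P h := by
  rw [HasRingHomProperty.iff_of_isAffine (P := P)]
  have hloc := (HasRingHomProperty.isLocal_ringHomProperty P).ofLocalizationSpanTarget
  let s : Set Γ(X, ⊤) :=
    {b | Q ((algebraMap Γ(X, ⊤) (Localization.Away b)).comp h.appTop.hom)}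
  refine hloc h.appTop.hom s ?_ (fun r => r.2)
  by_contra hne
  obtain ⟨m, hm, hsm⟩ := Ideal.exists_le_maximal _ hne
  let q : PrimeSpectrum Γ(X, ⊤) := ⟨m, hm.isPrime⟩
  have hX := isAffineOpen_top X
  let y : (⊤ : X.Opens) := hX.isoSpec.inv q
  have hy : hX.primeIdealOf y = q := by
    show hX.isoSpec.hom (hX.isoSpec.inv q) = q
    rw [← Scheme.Hom.comp_apply, Iso.inv_hom_id]
    rfl
  obtain ⟨x', hx'⟩ := (‹Surjective p›).surj y.1
  obtain ⟨U₁, hU₁, W, hW, hx'W, e, hstd⟩ := Smooth.exists_isStandardSmooth p x'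
  have e' : W ≤ p ⁻¹ᵁ ⊤ := le_top
  let g := (p.appLE ⊤ W e').hom
  have hg : g.IsStandardSmooth := by
    have h1 : X.presheaf.map (homOfLE (le_top : U₁ ≤ ⊤)).op ≫ p.appLE U₁ W e = p.appLE ⊤ W e' :=
      Scheme.Hom.map_appLE p e _
    have h2 : (X.presheaf.map (homOfLE (le_top : U₁ ≤ ⊤)).op).hom.IsStandardSmooth := by
      have h3 : (X.presheaf.map (homOfLE (le_top : U₁ ≤ ⊤)).op) =
          (𝟙 X : X ⟶ X).appLE ⊤ U₁ le_top := by
        simp [Scheme.Hom.appLE]
      rw [h3]
      exact etale_isStandardSmooth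
        (HasRingHomProperty.appLE @Etale (𝟙 X) inferInstance ⟨⊤, hX⟩ ⟨U₁, hU₁⟩ _)
    show (p.appLE ⊤ W e').hom.IsStandardSmooth
    rw [← h1, CommRingCat.hom_comp]
    exact RingHom.isStandardSmooth_stableUnderComposition _ _ h2 hstd
  have hQ : Q (g.comp h.appTop.hom) := by
    have h4 := HasRingHomProperty.appLE P (p ≫ h) hph ⟨⊤, isAffineOpen_top Y⟩ ⟨W, hW⟩ le_top
    rw [Scheme.Hom.comp_appLE, CommRingCat.hom_comp] at h4
    exact h4
  have hq : q ∈ Set.range (PrimeSpectrum.comap g) := by
    refine ⟨hW.primeIdealOf ⟨x', hx'W⟩, ?_⟩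
    have h5 := IsAffineOpen.comap_primeIdealOf_appLE (f := p) ⊤ hX W hW e' hx'W
    rw [← hy]
    refine h5.trans ?_
    congr 1
    exact Subtype.ext hx'
  obtain ⟨b, hb, hQb⟩ := exists_localization_of_comp_standardSmooth @Q hQcomp hQloc hQdesc
    h.appTop.hom g hg hQ q hq
  exact hb (hsm (Ideal.subset_span hQb))


/-- Reduction to the affine case. -/
theorem sourceSmLocal_of_ringHom {P : MorphismProperty Scheme.{u}}
    {Q : ∀ {R S : Type u} [CommRing R] [CommRing S], (R →+* S) → Prop} [HasRingHomProperty P Q]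
    [P.RespectsRight @IsOpenImmersion]
    (hQcomp : RingHom.StableUnderComposition @Q) (hQloc : RingHom.HoldsForLocalizationAway @Q)
    (hQdesc : ∀ {A B B' : Type u} [CommRing A] [CommRing B] [CommRing B'] (f : A →+* B)
      (g : B →+* B'), g.IsStandardSmooth → Function.Surjective (PrimeSpectrum.comap g) →
      Q (g.comp f) → Q f) : SourceSmLocal P := by
  intro X' X Y p h hp hps hph
  rw [IsZariskiLocalAtSource.iff_exists_resLE (P := P)]
  intro x
  obtain ⟨U, hU, hxU⟩ : ∃ U : Y.Opens, IsAffineOpen U ∧ h x ∈ U := by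
    obtain ⟨_, ⟨U, hU, rfl⟩, hx, -⟩ :=
      (Y.isBasis_affineOpens).exists_subset_of_mem_open (Set.mem_univ (h x)) isOpen_univ
    exact ⟨U, hU, hx⟩
  obtain ⟨V, hV, hxV, hVU⟩ : ∃ V : X.Opens, IsAffineOpen V ∧ x ∈ V ∧ V ≤ h ⁻¹ᵁ U := by
    obtain ⟨_, ⟨V, hV, rfl⟩, hx, hle⟩ :=
      (X.isBasis_affineOpens).exists_subset_of_mem_open
        (show x ∈ ((h ⁻¹ᵁ U : X.Opens) : Set X) from hxU) (h ⁻¹ᵁ U).2
    exact ⟨V, hV, hx, hle⟩
  refine ⟨U, V, hxV, hVU, ?_⟩
  let pV : (p ⁻¹ᵁ V : X'.Opens).toScheme ⟶ V.toScheme := p ∣_ V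
  have hpV : Smooth pV := inferInstance
  have hpVs : Surjective pV :=
    MorphismProperty.of_isPullback (P := @Surjective) (isPullback_morphismRestrict p V).flip hps
  have hle : p ⁻¹ᵁ V ≤ (p ≫ h) ⁻¹ᵁ U := by
    rw [Scheme.Hom.comp_preimage]
    exact Scheme.Hom.preimage_mono p hVU
  have hcomp : P (pV ≫ h.resLE U V hVU) := by
    have e1 : pV ≫ h.resLE U V hVU = (p ≫ h).resLE U (p ⁻¹ᵁ V) hle := by
      change (p ∣_ V) ≫ h.resLE U V hVU = _
      rw [← Scheme.Hom.resLE_eq_morphismRestrict, Scheme.Hom.resLE_comp_resLE]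
    rw [e1]
    exact IsZariskiLocalAtSource.resLE _ hph
  have : IsAffine V.toScheme := hV
  have : IsAffine U.toScheme := hU
  exact of_affine hQcomp hQloc hQdesc pV (h.resLE U V hVU) hcomp

theorem sourceSmLocal_locallyOfFiniteType : SourceSmLocal @LocallyOfFiniteType.{u} := by
  have : MorphismProperty.RespectsRight @LocallyOfFiniteType.{u} @IsOpenImmersion :=
    ⟨fun i hi f hf => by
      have : IsOpenImmersion i := hi
      have : LocallyOfFiniteType f := hf
      exact (inferInstance : LocallyOfFiniteType (f ≫ i))⟩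
  exact sourceSmLocal_of_ringHom (P := @LocallyOfFiniteType) (Q := @RingHom.FiniteType)
    RingHom.finiteType_stableUnderComposition RingHom.finiteType_holdsForLocalizationAway
    (fun f g hg hs hgf => finiteType_of_comp_smooth f g
      (by
        algebraize [g]
        exact RingHom.smooth_algebraMap.2 inferInstance) hs hgf)

theorem sourceSmLocal_locallyOfFinitePresentation :
    SourceSmLocal @LocallyOfFinitePresentation.{u} := by
  have : MorphismProperty.RespectsRight @LocallyOfFinitePresentation.{u} @IsOpenImmersion :=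
    ⟨fun i hi f hf => by
      have : IsOpenImmersion i := hi
      have : LocallyOfFinitePresentation f := hf
      exact (inferInstance : LocallyOfFinitePresentation (f ≫ i))⟩
  exact sourceSmLocal_of_ringHom (P := @LocallyOfFinitePresentation) (Q := @RingHom.FinitePresentation)
    RingHom.finitePresentation_stableUnderComposition
    RingHom.finitePresentation_holdsForLocalizationAway
    (fun f g hg hs hgf => finitePresentation_of_comp_standardSmooth f g hg hs hgf)

end Groth.Agent.Lib.SrcLocalSmoothCover
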