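import Mathlib
import Groth.Agent.Lib.SrcLocalSmoothCover2
import Groth.Agent.Lib.AlgSpSrcCover3
import Groth.Agent.Lib.AlgSpFpqcLocP
import Groth.Agent.Lib.AlgSpFppfCover
import Groth.Agent.Lib.H69AlgSpLocST2
import Groth.Agent.S10567

/-!
# Flat, locally of finite type, locally of finite presentation are smooth local on
source-and-target (`AlgSp.IsSmoothLocalST (AlgSp.LocP P)`)
-/

set_option autoImplicit false
universe u
open CategoryTheory CategoryTheory.Limits AlgebraicGeometry
open AlgSp Groth.Agent.Lib.AlgSpLocP Groth.Agent.Lib.AlgSpBasic Groth.Agent.Lib.SrcLocalSmoothCover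

namespace Groth.Agent.Lib.AlgSpSmoothLocalST

/-- Smooth-locality at the source from `SourceSmLocal`. -/
theorem isLocalAtSource_smooth {P : MorphismProperty Scheme.{u}} [IsZariskiLocalAtSource P]
    (hpre : ∀ ⦃A B C : Scheme.{u}⦄ (l : A ⟶ B) (w : B ⟶ C), Smooth l → P w → P (l ≫ w))
    (hsrc : SourceSmLocal P) : P.IsLocalAtSource (Scheme.precoverage @Smooth) := by
  apply MorphismProperty.IsLocalAtSource.mk_of_small.{u}
  · intro X Y f 𝒰 hf i
    exact hpre _ _ (Scheme.Cover.map_prop 𝒰 i) hf
  · intro X Y f 𝒰 h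
    have h1 : Smooth (Sigma.desc 𝒰.f) :=
      IsZariskiLocalAtSource.sigmaDesc (fun i => Scheme.Cover.map_prop 𝒰 i)
    have h2 : Surjective (Sigma.desc 𝒰.f) := by
      refine ⟨fun x => ?_⟩
      obtain ⟨i, y, hy⟩ := Scheme.Cover.exists_eq 𝒰 x
      refine ⟨(Sigma.ι 𝒰.X i) y, ?_⟩
      rw [← Scheme.Hom.comp_apply, Sigma.ι_desc]
      exact hy
    apply hsrc (Sigma.desc 𝒰.f) f h1 h2
    have e1 : Sigma.desc 𝒰.f ≫ f = Sigma.desc (fun i => 𝒰.f i ≫ f) := by
      apply Sigma.hom_ext
      intro k
      rw [Sigma.ι_desc_assoc, Sigma.ι_desc]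
    rw [e1]
    exact IsZariskiLocalAtSource.sigmaDesc (fun i => h i)

instance lft_isLocalAtSource_smooth :
    MorphismProperty.IsLocalAtSource (@LocallyOfFiniteType : MorphismProperty Scheme.{u})
      (Scheme.precoverage @Smooth) :=
  isLocalAtSource_smooth (fun _ _ _ l w hl hw => by
    have : Smooth l := hl
    have : LocallyOfFiniteType w := hw
    exact (inferInstance : LocallyOfFiniteType (l ≫ w))) sourceSmLocal_locallyOfFiniteType

instance lfp_isLocalAtSource_smooth :
    MorphismProperty.IsLocalAtSource (@LocallyOfFinitePresentation : MorphismProperty Scheme.{u})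
      (Scheme.precoverage @Smooth) :=
  isLocalAtSource_smooth (fun _ _ _ l w hl hw => by
    have : Smooth l := hl
    have : LocallyOfFinitePresentation w := hw
    exact (inferInstance : LocallyOfFinitePresentation (l ≫ w)))
    sourceSmLocal_locallyOfFinitePresentation

instance flat_isLocalAtSource_smooth :
    MorphismProperty.IsLocalAtSource (@Flat : MorphismProperty Scheme.{u})
      (Scheme.precoverage @Smooth) :=
  MorphismProperty.IsLocalAtSource.of_le (L := Scheme.precoverage @Flat)
    (Scheme.precoverage_mono (fun _ _ f hf => by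
      have : Smooth f := hf
      exact (inferInstance : Flat f)))

variable {S : Scheme.{u}}

/-- `LocP P` is smooth local on the source-and-target. -/
theorem isSmoothLocalST_locP {P : MorphismProperty Scheme.{u}} (hP : EtLocalClass P)
    [P.DescendsAlong etCov] [IsZariskiLocalAtTarget P]
    [P.DescendsAlong (@Surjective ⊓ @Flat ⊓ @QuasiCompact)]
    [P.IsStableUnderComposition] [P.IsLocalAtSource (Scheme.precoverage @Smooth)]
    (hle : ∀ ⦃A B : Scheme.{u}⦄ (l : A ⟶ B), Smooth l → P l) :
    AlgSp.IsSmoothLocalST (AlgSp.LocP (S := S) P) := by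
  refine Groth.Agent.S10567.result _ ?_ ?_ ?_
  · exact Groth.Agent.Lib.AlgSpSrcCover.isLocalOnSource_smCover (P := P)
  · intro ι Y Yi g hY hYi hcov X f hX Xi p q hXi sq
    have hcov' : IsFppfCover Yi g :=
      ⟨fun i => ⟨Groth.Agent.Lib.H69AlgSpLocST2.locP_mono (fun _ _ l hl => by
          have : Smooth l := hl
          exact (inferInstance : Flat l)) (hcov.1 i),
        Groth.Agent.Lib.H69AlgSpLocST2.locP_mono (fun _ _ l hl => by
          have : Smooth l := hl
          exact (inferInstance : LocallyOfFinitePresentation l)) (hcov.1 i)⟩, hcov.2⟩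
    exact Groth.Agent.Lib.AlgSpFpqc.isLocalOnBase_fpqc_locP hP Yi g hY hYi
      (Groth.Agent.Lib.AlgSpFpqc.isFpqcCover_of_isFppfCover hY hYi hcov') f hX Xi p q hXi sq
  · intro X Y Z f g hf hg
    exact locP_comp hP X.property Y.property Z.property hf
      (Groth.Agent.Lib.H69AlgSpLocST2.locP_mono hle hg)

theorem isSmoothLocalST_locP_flat : AlgSp.IsSmoothLocalST (AlgSp.LocP (S := S) @Flat) :=
  isSmoothLocalST_locP etLocalClass_flat (fun _ _ l hl => by
    have : Smooth l := hl
    exact (inferInstance : Flat l))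

theorem isSmoothLocalST_locP_lft :
    AlgSp.IsSmoothLocalST (AlgSp.LocP (S := S) @LocallyOfFiniteType) :=
  isSmoothLocalST_locP etLocalClass_lft (fun _ _ l hl => by
    have : Smooth l := hl
    exact (inferInstance : LocallyOfFiniteType l))

theorem isSmoothLocalST_locP_lfp :
    AlgSp.IsSmoothLocalST (AlgSp.LocP (S := S) @LocallyOfFinitePresentation) :=
  isSmoothLocalST_locP etLocalClass_lfp (fun _ _ l hl => by
    have : Smooth l := hl
    exact (inferInstance : LocallyOfFinitePresentation l))

end Groth.Agent.Lib.AlgSpSmoothLocalST
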