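import Groth.Agent.Lib.EtaleSliceSmooth68
import Mathlib.AlgebraicGeometry.Morphisms.UniversallyOpen
import Mathlib.Algebra.MvPolynomial.Funext
import Mathlib.FieldTheory.Perfect

/-!
# Smooth morphisms have sections étale locally (EGA IV 17.16.3 (ii)) (helper68)
-/

set_option autoImplicit false
universe u

namespace Groth.Agent.Lib.EtaleSliceSection68

open CategoryTheory CategoryTheory.Limits AlgebraicGeometry
open Groth.Agent.Lib.EtaleSlice68 Groth.Agent.Lib.EtaleSliceSch68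
  Groth.Agent.Lib.EtaleSliceSmooth68

theorem evaluation_eq_zero_iff_mem_primeIdealOf {X : Scheme.{u}} {W : X.Opens}
    (hW : IsAffineOpen W) (x : X) (hxW : x ∈ W) (r : Γ(X, W)) :
    X.evaluation W x hxW r = 0 ↔ r ∈ (hW.primeIdealOf ⟨x, hxW⟩).asIdeal := by
  rw [hW.primeIdealOf_eq_map_closedPoint ⟨x, hxW⟩, Spec.map_apply]
  change IsLocalRing.residue _ (X.presheaf.germ W x hxW r) = 0 ↔
    X.presheaf.germ W x hxW r ∈ IsLocalRing.maximalIdeal _
  exact IsLocalRing.residue_eq_zero_iff _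

theorem primeIdealOf_fromSpec {X : Scheme.{u}} {W : X.Opens} (hW : IsAffineOpen W)
    (x' : Spec Γ(X, W)) (hx : hW.fromSpec x' ∈ W) :
    hW.primeIdealOf ⟨hW.fromSpec x', hx⟩ = x' := by
  apply hW.fromSpec.isOpenEmbedding.injective
  exact hW.fromSpec_primeIdealOf ⟨hW.fromSpec x', hx⟩

theorem exists_slice_over_point_aux {X S : Scheme.{u}} (f : X ⟶ S) {V₀ : S.Opens}
    (hV₀ : IsAffineOpen V₀) {W : X.Opens} (hW : IsAffineOpen W) (e : W ≤ f ⁻¹ᵁ V₀) {n : ℕ}
    (g : MvPolynomial (Fin n) Γ(S, V₀) →+* Γ(X, W)) (hg : g.Etale)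
    (hgC : g.comp MvPolynomial.C = (f.appLE V₀ W e).hom) (x₀ : X) (hx₀ : x₀ ∈ W)
    (K : Type u) [Field K] [Algebra (S.residueField (f x₀)) K] [Infinite K]
    [Algebra.IsSeparable (S.residueField (f x₀)) K] :
    ∃ (Z : Scheme.{u}) (i : Z ⟶ X) (z : Z), IsImmersion i ∧ Etale (i ≫ f) ∧
      f (i z) = f x₀ := by
  classical
  have hs : f x₀ ∈ V₀ := e hx₀
  let _ : Algebra Γ(S, V₀) (S.residueField (f x₀)) := (S.evaluation V₀ (f x₀) hs).hom.toAlgebra
  let _ : Algebra Γ(S, V₀) K :=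
    ((algebraMap (S.residueField (f x₀)) K).comp (S.evaluation V₀ (f x₀) hs).hom).toAlgebra
  have htower : IsScalarTower Γ(S, V₀) (S.residueField (f x₀)) K :=
    IsScalarTower.of_algebraMap_eq' rfl
  have hk := fun c => residueField_fraction hV₀ (f x₀) hs c
  -- the étale chart map is open
  let b : Spec Γ(X, W) ⟶ Spec (.of (MvPolynomial (Fin n) Γ(S, V₀))) :=
    Spec.map (CommRingCat.ofHom g)
  have hb : Etale b := by
    rw [HasRingHomProperty.Spec_iff (P := @Etale)]
    exact hg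
  have hopen : IsOpen (Set.range b) := b.isOpenMap.isOpen_range
  obtain ⟨_, ⟨h, rfl⟩, ht₀, hsub⟩ :=
    PrimeSpectrum.isTopologicalBasis_basic_opens.exists_subset_of_mem_open
      (Set.mem_range_self (hW.primeIdealOf ⟨x₀, hx₀⟩)) hopen
  -- `h` does not vanish identically over `K`
  have hne : MvPolynomial.map (algebraMap Γ(S, V₀) K) h ≠ 0 := by
    intro h0
    have h1 : MvPolynomial.map (algebraMap Γ(S, V₀) (S.residueField (f x₀))) h = 0 := by
      apply MvPolynomial.map_injective _ (algebraMap (S.residueField (f x₀)) K).injective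
      rw [MvPolynomial.map_map, map_zero]
      exact h0
    let ψ₀ : MvPolynomial (Fin n) Γ(S, V₀) →+* X.residueField x₀ :=
      (X.evaluation W x₀ hx₀).hom.comp g
    have hψ₀ : ψ₀ = (MvPolynomial.eval₂Hom (f.residueFieldMap x₀).hom
        (fun j => ψ₀ (MvPolynomial.X j))).comp
          (MvPolynomial.map (algebraMap Γ(S, V₀) (S.residueField (f x₀)))) := by
      apply MvPolynomial.ringHom_ext
      · intro a
        have h2 : ψ₀ (MvPolynomial.C a) = (X.evaluation W x₀ hx₀).hom ((f.appLE V₀ W e).hom a) := by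
          rw [← hgC]; rfl
        have h3 := congrArg (fun q => q.hom a) (evaluation_appLE f e x₀ hx₀)
        simp only [CommRingCat.hom_comp, RingHom.comp_apply] at h3
        rw [h2, h3]
        simp only [RingHom.comp_apply, MvPolynomial.map_C, MvPolynomial.coe_eval₂Hom,
          MvPolynomial.eval₂_C]
        rfl
      · intro j
        simp
    have h4 : ψ₀ h = 0 := by
      rw [hψ₀, RingHom.comp_apply, h1, map_zero]
    have h5 : g h ∈ (hW.primeIdealOf ⟨x₀, hx₀⟩).asIdeal :=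
      (evaluation_eq_zero_iff_mem_primeIdealOf hW x₀ hx₀ (g h)).mp h4
    exact ht₀ h5
  obtain ⟨c, hc⟩ : ∃ c : Fin n → K,
      MvPolynomial.eval c (MvPolynomial.map (algebraMap Γ(S, V₀) K) h) ≠ 0 := by
    by_contra hcon
    push Not at hcon
    exact hne (MvPolynomial.funext (fun c => by rw [hcon c, map_zero]))
  let φ : MvPolynomial (Fin n) Γ(S, V₀) →ₐ[Γ(S, V₀)] K := MvPolynomial.aeval c
  have hφh : φ h ≠ 0 := by
    have : φ h = MvPolynomial.eval c (MvPolynomial.map (algebraMap Γ(S, V₀) K) h) := by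
      rw [MvPolynomial.eval_map]; rfl
    rwa [this]
  obtain ⟨G, hG, hdet⟩ := exists_slice hk φ (fun j => by
    rw [show φ (MvPolynomial.X j) = c j from MvPolynomial.aeval_X c j]
    exact Algebra.IsSeparable.isSeparable (S.residueField (f x₀)) (c j))
  let t : PrimeSpectrum (MvPolynomial (Fin n) Γ(S, V₀)) :=
    ⟨RingHom.ker φ.toRingHom, RingHom.ker_isPrime _⟩
  have ht : t ∈ Set.range b := hsub (show t ∈ PrimeSpectrum.basicOpen h from hφh)
  obtain ⟨x', hx'⟩ := ht
  have hxW : hW.fromSpec x' ∈ W := by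
    have : hW.fromSpec x' ∈ Set.range hW.fromSpec := Set.mem_range_self x'
    rwa [hW.range_fromSpec] at this
  have hprime : hW.primeIdealOf ⟨hW.fromSpec x', hxW⟩ = x' := primeIdealOf_fromSpec hW x' hxW
  have hmem : ∀ a, X.evaluation W (hW.fromSpec x') hxW (g a) = 0 ↔ φ a = 0 := by
    intro a
    rw [evaluation_eq_zero_iff_mem_primeIdealOf hW, hprime]
    have h1 : (b x').asIdeal = t.asIdeal := congrArg PrimeSpectrum.asIdeal hx'
    change a ∈ (b x').asIdeal ↔ _
    rw [h1]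
    exact RingHom.mem_ker
  obtain ⟨Z, i, z, hi, hét, hz⟩ := exists_slice_of_chart f hV₀ hW e g hg hgC G (hW.fromSpec x') hxW
    (fun j => (hmem _).mpr (hG j)) (fun h0 => hdet ((hmem _).mp h0))
  refine ⟨Z, i, z, hi, hét, ?_⟩
  rw [hz]
  have h1 := IsAffineOpen.comap_primeIdealOf_appLE V₀ hV₀ W hW e hxW
  have h2 : hV₀.primeIdealOf ⟨f (hW.fromSpec x'), e hxW⟩ = hV₀.primeIdealOf ⟨f x₀, hs⟩ := by
    rw [← h1, hprime]
    apply PrimeSpectrum.ext
    ext a
    rw [← evaluation_eq_zero_iff_mem_primeIdealOf hV₀ (f x₀) hs a]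
    change (f.appLE V₀ W e).hom a ∈ x'.asIdeal ↔ _
    rw [← hgC]
    have h3 := hmem (MvPolynomial.C a)
    rw [evaluation_eq_zero_iff_mem_primeIdealOf hW, hprime] at h3
    change g (MvPolynomial.C a) ∈ x'.asIdeal ↔ _
    rw [h3]
    have h4 : φ (MvPolynomial.C a) =
        algebraMap (S.residueField (f x₀)) K (S.evaluation V₀ (f x₀) hs a) := by
      rw [MvPolynomial.aeval_C]; rfl
    rw [h4, map_eq_zero]
  have h3 := congrArg hV₀.fromSpec h2
  rw [hV₀.fromSpec_primeIdealOf, hV₀.fromSpec_primeIdealOf] at h3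
  exact h3

/-- Through some point of every nonempty fibre of a smooth morphism there is an étale slice. -/
theorem exists_slice_over_point {X S : Scheme.{u}} (f : X ⟶ S) [Smooth f] (x₀ : X) :
    ∃ (Z : Scheme.{u}) (i : Z ⟶ X) (z : Z), IsImmersion i ∧ Etale (i ≫ f) ∧
      f (i z) = f x₀ := by
  obtain ⟨V₀, hV₀, W, hW, hxW, e, hss⟩ := Smooth.exists_isStandardSmooth f x₀
  obtain ⟨n, g, hgC, hg⟩ := hss.exists_etale_mvPolynomial
  rcases finite_or_infinite (S.residueField (f x₀)) with hfin | hinf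
  · exact exists_slice_over_point_aux f hV₀ hW e g hg hgC x₀ hxW
      (AlgebraicClosure (S.residueField (f x₀)))
  · exact exists_slice_over_point_aux f hV₀ hW e g hg hgC x₀ hxW (S.residueField (f x₀))

/-- EGA IV 17.16.3 (ii): a smooth morphism has sections étale locally over its image. -/
theorem exists_etale_section {X S : Scheme.{u}} (f : X ⟶ S) [Smooth f] (s : S)
    (hs : s ∈ Set.range f) :
    ∃ (S' : Scheme.{u}) (g : S' ⟶ S) (s' : S'), Etale g ∧ g s' = s ∧ ∃ h : S' ⟶ X, h ≫ f = g := by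
  obtain ⟨x₀, rfl⟩ := hs
  obtain ⟨Z, i, z, -, hét, hz⟩ := exists_slice_over_point f x₀
  exact ⟨Z, i ≫ f, z, hét, by rw [Scheme.Hom.comp_apply]; exact hz, i, rfl⟩

end Groth.Agent.Lib.EtaleSliceSection68
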