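import Mathlib
import Groth.Agent.Lib.EtaleSliceSection68
import Groth.Agent.Lib.SrcLocal3
import Groth.Agent.Lib.SrcLocalSmoothCover2

/-!
# Smoothness is smooth local on the source (helper36)

ns `Groth.Agent.Lib.SrcLocalSmoothSm`

EGA IV 17.7.7 for smooth covers: if `l : A ⟶ B` is smooth and surjective and `l ≫ w` is smooth then
`w` is smooth.  Proof: `w` is locally of finite presentation (descent of lfp along smooth
covers); étale locally on `B` the smooth morphism `l` has a section (EGA IV 17.16.3), which makes an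
étale neighbourhood `B'` of a given point a retract of the scheme `A ×_B B'`, smooth over the base;
formal smoothness passes to retracts; finally smoothness descends along étale covers of the source.

* `formallySmooth_of_retract` (algebra), `formallySmooth_stalkMap_of_retract` (schemes)
* `sourceSmLocal_smooth : SourceSmLocal @Smooth`
-/

set_option autoImplicit false
set_option linter.style.haveILetI false
universe u
open CategoryTheory CategoryTheory.Limits AlgebraicGeometry

namespace Groth.Agent.Lib.SrcLocalSmoothSm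

/-- Formal smoothness passes to retracts. -/
theorem formallySmooth_of_retract {R S T : Type u} [CommRing R] [CommRing S] [CommRing T]
    [Algebra R S] [Algebra R T] [Algebra.FormallySmooth R T] (i : S →ₐ[R] T) (r : T →ₐ[R] S)
    (h : r.comp i = AlgHom.id R S) : Algebra.FormallySmooth R S := by
  apply Algebra.FormallySmooth.of_comp_surjective
  intro B _ _ I hI f
  obtain ⟨g, hg⟩ := Algebra.FormallySmooth.comp_surjective R T I hI (f.comp r)
  refine ⟨g.comp i, ?_⟩
  rw [← AlgHom.comp_assoc, hg, AlgHom.comp_assoc, h, AlgHom.comp_id]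

/-- Ring homomorphism version: if `i ∘ f` is formally smooth and `i` has a retraction up to an
isomorphism, then `f` is formally smooth. -/
theorem ringHom_formallySmooth_of_retract {R S S' T : Type u} [CommRing R] [CommRing S]
    [CommRing S'] [CommRing T] (f : R →+* S') (i : S' →+* T) (r : T →+* S)
    (hri : Function.Bijective (r.comp i)) (h : (i.comp f).FormallySmooth) : f.FormallySmooth := by
  let e : S' ≃+* S := RingEquiv.ofBijective (r.comp i) hri
  let r' : T →+* S' := e.symm.toRingHom.comp r
  have hr'i : ∀ x, r' (i x) = x := by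
    intro x
    show e.symm (r (i x)) = x
    exact e.symm_apply_apply x
  letI := f.toAlgebra
  letI := (i.comp f).toAlgebra
  have hT : Algebra.FormallySmooth R T := h
  have hi : ∀ x : R, i (algebraMap R S' x) = algebraMap R T x := fun x => rfl
  have hr : ∀ x : R, r' (algebraMap R T x) = algebraMap R S' x := fun x => hr'i (f x)
  let ia : S' →ₐ[R] T := AlgHom.mk i hi
  let ra : T →ₐ[R] S' := AlgHom.mk r' hr
  have : Algebra.FormallySmooth R S' := formallySmooth_of_retract ia ra (by
    ext x
    exact hr'i x)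
  exact this

/-- If `y` has a section `s` of `π` through it and `π ≫ q` is formally smooth at `s y`, then `q` is
formally smooth at `y`. -/
theorem formallySmooth_stalkMap_of_retract {X Y Z : Scheme.{u}} (s : Y ⟶ X) (π : X ⟶ Y)
    (q : Y ⟶ Z) (h : s ≫ π = 𝟙 Y) (y : Y)
    (hsm : ((π ≫ q).stalkMap (s y)).hom.FormallySmooth) : (q.stalkMap y).hom.FormallySmooth := by
  have key : ∀ y' : Y, y' = y → (q.stalkMap y').hom.FormallySmooth →
      (q.stalkMap y).hom.FormallySmooth := by
    rintro _ rfl h; exact h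
  have hy : π (s y) = y := by
    rw [← Scheme.Hom.comp_apply, h]; rfl
  apply key (π (s y)) hy
  have e1 : (π ≫ q).stalkMap (s y) = q.stalkMap (π (s y)) ≫ π.stalkMap (s y) :=
    Scheme.Hom.stalkMap_comp π q (s y)
  have e2 : π.stalkMap (s y) ≫ s.stalkMap y = (s ≫ π).stalkMap y :=
    (Scheme.Hom.stalkMap_comp s π y).symm
  haveI : IsIso (s ≫ π) := by rw [h]; infer_instance
  haveI : IsOpenImmersion (s ≫ π) := IsOpenImmersion.of_isIso _
  have hiso : IsIso ((s ≫ π).stalkMap y) := inferInstance
  haveI : IsIso (π.stalkMap (s y) ≫ s.stalkMap y) := by rw [e2]; exact hiso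
  rw [e1] at hsm
  refine ringHom_formallySmooth_of_retract (q.stalkMap (π (s y))).hom (π.stalkMap (s y)).hom
    (s.stalkMap y).hom ?_ ?_
  · have : (s.stalkMap y).hom.comp (π.stalkMap (s y)).hom =
        (π.stalkMap (s y) ≫ s.stalkMap y).hom := rfl
    rw [this]
    exact (ConcreteCategory.isIso_iff_bijective _).1 inferInstance
  · exact hsm

open Groth.Agent.Lib.SrcLocalSmoothCover in
/-- **Smoothness is smooth local on the source** (EGA IV 17.7.7 for smooth covers). -/
theorem sourceSmLocal_smooth : SourceSmLocal @Smooth.{u} := by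
  intro A B C l w hl hls hlw
  haveI : Smooth l := hl
  haveI : Surjective l := hls
  haveI : Smooth (l ≫ w) := hlw
  haveI : LocallyOfFinitePresentation w :=
    sourceSmLocal_locallyOfFinitePresentation l w hl hls inferInstance
  show Smooth w
  rw [← Scheme.Hom.smoothLocus_eq_top_iff, ← top_le_iff]
  rintro b -
  obtain ⟨B', g, b', hg, hb', σ, hσ⟩ :=
    Groth.Agent.Lib.EtaleSliceSection68.exists_etale_section l b (l.surjective b)
  haveI : Etale g := hg
  let π : pullback l g ⟶ B' := pullback.snd l g
  let σ' : B' ⟶ pullback l g := pullback.lift σ (𝟙 B') (by rw [hσ, Category.id_comp])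
  have hσ' : σ' ≫ π = 𝟙 B' := pullback.lift_snd _ _ _
  haveI hsm : Smooth (π ≫ g ≫ w) := by
    have : π ≫ g ≫ w = pullback.fst l g ≫ l ≫ w := by
      rw [← Category.assoc, ← pullback.condition, Category.assoc]
    rw [this]; infer_instance
  have h1 : ((π ≫ g ≫ w).stalkMap (σ' b')).hom.FormallySmooth := by
    have hm : σ' b' ∈ (π ≫ g ≫ w).smoothLocus := by
      rw [Scheme.Hom.smoothLocus_eq_top]; trivial
    exact hm
  have h2 : ((g ≫ w).stalkMap b').hom.FormallySmooth :=
    formallySmooth_stalkMap_of_retract σ' π (g ≫ w) hσ' b' h1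
  let W' : B'.Opens := (g ≫ w).smoothLocus
  have hb'W : b' ∈ W' := h2
  haveI hsmW : Smooth (W'.ι ≫ g ≫ w) := by
    rw [← Scheme.Hom.smoothLocus_eq_top_iff, ← Scheme.Hom.preimage_smoothLocus_eq]
    exact Scheme.Opens.ι_preimage_self W'
  let V : B.Opens := ⟨Set.range (W'.ι ≫ g), (W'.ι ≫ g).isOpenMap.isOpen_range⟩
  have hbV : b ∈ V := ⟨⟨b', hb'W⟩, by rw [Scheme.Hom.comp_apply]; exact hb'⟩
  let g'' : (W' : Scheme.{u}) ⟶ V := IsOpenImmersion.lift V.ι (W'.ι ≫ g) (by
    rw [Scheme.Opens.range_ι]; rfl)
  have hg'' : g'' ≫ V.ι = W'.ι ≫ g := IsOpenImmersion.lift_fac _ _ _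
  haveI : Etale (g'' ≫ V.ι) := by rw [hg'']; infer_instance
  haveI : Etale g'' := Etale.of_comp g'' V.ι
  haveI : Surjective g'' := ⟨by
    rintro ⟨v, ⟨x, hx⟩⟩
    refine ⟨x, ?_⟩
    apply V.ι.injective
    rw [← Scheme.Hom.comp_apply, hg'']
    exact hx⟩
  haveI : Smooth (V.ι ≫ w) := by
    apply Groth.Agent.Lib.SrcLocal.sourceEtLocal_smooth g'' (V.ι ≫ w) inferInstance inferInstance
    show Smooth (g'' ≫ V.ι ≫ w)
    rw [← Category.assoc, hg'', Category.assoc]
    infer_instance
  have hV : V.ι ⁻¹ᵁ w.smoothLocus = ⊤ := by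
    rw [Scheme.Hom.preimage_smoothLocus_eq, Scheme.Hom.smoothLocus_eq_top]
  have : (⟨b, hbV⟩ : V) ∈ V.ι ⁻¹ᵁ w.smoothLocus := by rw [hV]; trivial
  exact this

end Groth.Agent.Lib.SrcLocalSmoothSm
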