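import Mathlib
import Groth.Agent.Lib.SrcLocalSmoothSm
import Groth.Agent.Lib.AlgSpSmoothLocalST
import Groth.Agent.Lib.AlgSpLocP2

/-!
# Smoothness is smooth local on source-and-target for algebraic spaces (helper36)

ns `Groth.Agent.Lib.AlgSpSmoothLocalSm`

* instance `smooth_isLocalAtSource_smooth : Smooth.IsLocalAtSource (Scheme.precoverage @Smooth)`
* `isSmoothLocalST_locP_smooth : AlgSp.IsSmoothLocalST (AlgSp.LocP @Smooth)`
-/

set_option autoImplicit false
universe u
open CategoryTheory CategoryTheory.Limits AlgebraicGeometry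
open AlgSp Groth.Agent.Lib.AlgSpLocP Groth.Agent.Lib.AlgSpBasic Groth.Agent.Lib.SrcLocalSmoothCover
open Groth.Agent.Lib.AlgSpSmoothLocalST

namespace Groth.Agent.Lib.AlgSpSmoothLocalSm

instance smooth_isLocalAtSource_smooth :
    MorphismProperty.IsLocalAtSource (@Smooth : MorphismProperty Scheme.{u})
      (Scheme.precoverage @Smooth) :=
  isLocalAtSource_smooth (fun _ _ _ l w hl hw => by
    have : Smooth l := hl
    have : Smooth w := hw
    exact (inferInstance : Smooth (l ≫ w))) Groth.Agent.Lib.SrcLocalSmoothSm.sourceSmLocal_smooth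

variable {S : Scheme.{u}}

theorem isSmoothLocalST_locP_smooth : AlgSp.IsSmoothLocalST (AlgSp.LocP (S := S) @Smooth) :=
  isSmoothLocalST_locP etLocalClass_smooth (fun _ _ l hl => hl)

end Groth.Agent.Lib.AlgSpSmoothLocalSm
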