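import Groth.Agent.Lib.AlgSpLocSep91
import Groth.Agent.Lib.AlgSpAffineSpace
import Groth.Agent.S10338

set_option autoImplicit false
universe u
open CategoryTheory CategoryTheory.Limits AlgebraicGeometry Opposite Topology

namespace Groth.Agent.Lib.AlgSpSober91

/-- **Generic points of quotients.**  Let `π : W → X` be a continuous open map from a quasi-sober space such that every point of `W` has
arbitrarily small open neighbourhoods `G` whose saturation `π⁻¹(π(G))` is compact.  Then every irreducible closed subset of `X` meeting the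
image of `π` has a generic point. -/
theorem exists_isGenericPoint_of_isOpenMap {W X : Type*} [TopologicalSpace W] [TopologicalSpace X]
    [QuasiSober W] (π : W → X) (hc : Continuous π) (ho : IsOpenMap π)
    (hqc : ∀ w : W, ∀ N ∈ 𝓝 w, ∃ G, IsOpen G ∧ w ∈ G ∧ G ⊆ N ∧ IsCompact (π ⁻¹' (π '' G)))
    (T : Set X) (hT : IsIrreducible T) (hTc : IsClosed T) (hne : (T ∩ Set.range π).Nonempty) :
    ∃ x, IsGenericPoint x T := by
  classical
  let 𝒵 : Set (Set W) := {Z | IsClosed Z ∧ Z ⊆ π ⁻¹' T ∧ T ⊆ closure (π '' Z)}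
  have hC : π ⁻¹' T ∈ 𝒵 := by
    refine ⟨hTc.preimage hc, subset_rfl, ?_⟩
    rw [Set.image_preimage_eq_inter_range]
    exact subset_closure_inter_of_isPreirreducible_of_isOpen hT.isPreirreducible ho.isOpen_range hne
  -- chains have lower bounds
  have hchain : ∀ c ⊆ 𝒵, IsChain (· ⊆ ·) c → ∃ lb ∈ 𝒵, ∀ s ∈ c, lb ⊆ s := by
    intro c hc𝒵 hcc
    by_cases hcne : c.Nonempty
    swap
    · exact ⟨π ⁻¹' T, hC, fun s hs => (hcne ⟨s, hs⟩).elim⟩
    refine ⟨⋂₀ c, ⟨isClosed_sInter fun s hs => (hc𝒵 hs).1, ?_, ?_⟩, fun s hs => Set.sInter_subset_of_mem hs⟩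
    · obtain ⟨s, hs⟩ := hcne
      exact (Set.sInter_subset_of_mem hs).trans (hc𝒵 hs).2.1
    · intro x hxT
      rw [mem_closure_iff]
      intro O hO hxO
      -- a point of `π⁻¹ T` mapping into `O`
      obtain ⟨_, ⟨hyT, ⟨w₀, rfl⟩⟩, hyO⟩ : ((T ∩ Set.range π) ∩ O).Nonempty := by
        have := subset_closure_inter_of_isPreirreducible_of_isOpen hT.isPreirreducible
          ho.isOpen_range hne hxT
        rw [mem_closure_iff] at this
        obtain ⟨y, hyO, hy⟩ := this O hO hxO
        exact ⟨y, hy, hyO⟩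
      obtain ⟨G, hGo, hwG, hGN, hK⟩ := hqc w₀ (π ⁻¹' O) ((hO.preimage hc).mem_nhds hyO)
      -- every member of the chain meets the compact saturation of `G`
      have hmeet : ∀ s ∈ c, (π ⁻¹' (π '' G) ∩ s).Nonempty := by
        intro s hs
        have h1 := (hc𝒵 hs).2.2 hyT
        rw [mem_closure_iff] at h1
        obtain ⟨y, hy1, z, hz, rfl⟩ := h1 (π '' G) (ho G hGo) ⟨w₀, hwG, rfl⟩
        exact ⟨z, hy1, hz⟩
      have hfin : ∀ u : Finset c, ∃ s ∈ c, s ⊆ ⋂ i ∈ u, (i : Set W) := by
        intro u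
        induction u using Finset.induction_on with
        | empty =>
          obtain ⟨s, hs⟩ := hcne
          exact ⟨s, hs, by simp⟩
        | insert a u _ ih =>
          obtain ⟨s, hs, hsu⟩ := ih
          rcases hcc.total hs a.2 with h | h
          · refine ⟨s, hs, ?_⟩
            simp only [Finset.mem_insert, Set.iInter_iInter_eq_or_left]
            exact Set.subset_inter h hsu
          · refine ⟨a, a.2, ?_⟩
            simp only [Finset.mem_insert, Set.iInter_iInter_eq_or_left]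
            exact Set.subset_inter subset_rfl (h.trans hsu)
      obtain ⟨z, hzK, hz⟩ := hK.inter_iInter_nonempty (fun s : c => (s : Set W))
        (fun s => (hc𝒵 s.2).1) (fun u => by
          obtain ⟨s, hs, hsu⟩ := hfin u
          obtain ⟨z, hz1, hz2⟩ := hmeet s hs
          exact ⟨z, hz1, hsu hz2⟩)
      obtain ⟨g, hg, hgz⟩ := hzK
      refine ⟨π z, ?_, z, ?_, rfl⟩
      · rw [← hgz]; exact hGN hg
      · rw [Set.mem_sInter]
        intro s hs
        exact Set.mem_iInter.1 hz ⟨s, hs⟩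
  obtain ⟨Z, hZmin⟩ := zorn_superset 𝒵 hchain
  have hZ : Z ∈ 𝒵 := hZmin.prop
  -- `Z` is irreducible
  have hZne : Z.Nonempty := by
    obtain ⟨x, hx, -⟩ := hne
    have := hZ.2.2 hx
    by_contra h
    rw [Set.not_nonempty_iff_eq_empty] at h
    rw [h, Set.image_empty, closure_empty] at this
    exact this
  have hZirr : IsIrreducible Z := by
    refine ⟨hZne, ?_⟩
    rw [isPreirreducible_iff_isClosed_union_isClosed]
    intro Z₁ Z₂ h₁ h₂ hsub
    have hcov : T ⊆ closure (π '' (Z ∩ Z₁)) ∪ closure (π '' (Z ∩ Z₂)) := by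
      refine hZ.2.2.trans ?_
      rw [← closure_union, ← Set.image_union, ← Set.inter_union_distrib_left,
        Set.inter_eq_left.2 hsub]
    rcases (isPreirreducible_iff_isClosed_union_isClosed.1 hT.isPreirreducible) _ _ isClosed_closure
      isClosed_closure hcov with h | h
    · left
      have hmem : Z ∩ Z₁ ∈ 𝒵 := ⟨hZ.1.inter h₁, Set.inter_subset_left.trans hZ.2.1, h⟩
      have := hZmin.le_of_le hmem Set.inter_subset_left
      exact fun z hz => (this hz).2
    · right
      have hmem : Z ∩ Z₂ ∈ 𝒵 := ⟨hZ.1.inter h₂, Set.inter_subset_left.trans hZ.2.1, h⟩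
      have := hZmin.le_of_le hmem Set.inter_subset_left
      exact fun z hz => (this hz).2
  obtain ⟨ξ, hξ⟩ := QuasiSober.sober hZirr hZ.1
  refine ⟨π ξ, ?_⟩
  have hξZ : ξ ∈ Z := hξ.mem
  apply le_antisymm
  · exact (hTc.closure_subset_iff).2 (Set.singleton_subset_iff.2 (hZ.2.1 hξZ))
  · refine hZ.2.2.trans ?_
    rw [← hξ.def]
    refine (closure_mono (image_closure_subset_closure_image hc)).trans ?_
    rw [closure_closure, Set.image_singleton]

open AlgSp Groth.Agent.Lib.H80DecentPt Groth.Agent.Lib.AlgSpDecentPt91 Groth.Agent.Lib.AlgSpPoints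
  Groth.Agent.Lib.AlgSpDecentSpec

variable {S : Scheme.{u}}

/-- The fibre product over `S` of two affine schemes mapping into a common affine open of `S` is quasi-compact. -/
theorem compactSpace_pullback_of_factors {A B : Scheme.{u}} [IsAffine A] [IsAffine B] (f : A ⟶ S)
    (g : B ⟶ S) (S' : S.Opens) (hS' : IsAffineOpen S') (hf : Set.range f ⊆ (S' : Set ↥S))
    (hg : Set.range g ⊆ (S' : Set ↥S)) : CompactSpace ↥(pullback f g) := by
  have hι : Set.range f ⊆ Set.range S'.ι := by rw [Scheme.Opens.range_ι]; exact hf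
  have hι' : Set.range g ⊆ Set.range S'.ι := by rw [Scheme.Opens.range_ι]; exact hg
  have hf' := IsOpenImmersion.lift_fac S'.ι f hι
  have hg' := IsOpenImmersion.lift_fac S'.ι g hι'
  have : IsAffine S'.toScheme := hS'
  have sq : IsPullback (pullback.fst (IsOpenImmersion.lift S'.ι f hι) (IsOpenImmersion.lift S'.ι g hι'))
      (pullback.snd _ _) (IsOpenImmersion.lift S'.ι f hι ≫ S'.ι)
      (IsOpenImmersion.lift S'.ι g hι' ≫ S'.ι) :=
    IsPullback.of_isLimit (pullbackIsPullbackOfCompMono _ _ S'.ι)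
  rw [hf', hg'] at sq
  have e := sq.isoPullback
  have : IsAffine (pullback f g) := IsAffine.of_isIso e.inv
  infer_instance

/-- Over a sheaf quasi-separated over `S`, the fibre product of two affine schemes mapping into a common affine open of `S` is
quasi-compact. -/
theorem compactSpace_pullback_of_isQuasiSeparatedSp {X : Sp S} (hX : IsQuasiSeparatedSp X)
    {U₁ U₂ P : Over S} [IsAffine U₁.left] [IsAffine U₂.left] (S' : S.Opens) (hS' : IsAffineOpen S')
    (h₁ : Set.range U₁.hom ⊆ (S' : Set ↥S)) (h₂ : Set.range U₂.hom ⊆ (S' : Set ↥S))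
    {a₁ : (yon S).obj U₁ ⟶ X} {a₂ : (yon S).obj U₂ ⟶ X} {fst : P ⟶ U₁} {snd : P ⟶ U₂}
    (sq : IsPullback ((yon S).map fst) ((yon S).map snd) a₁ a₂) : CompactSpace ↥P.left := by
  have H := Groth.Agent.Lib.H86AlgSpDiag.isPullback_diag_yon sq
  have h1 : QuasiCompact (prod.lift fst snd).left := ((repWith_iff _ _).1 hX).2 _ _ _ H
  have h2 : CompactSpace ↥(pullback U₁.hom U₂.hom) :=
    compactSpace_pullback_of_factors U₁.hom U₂.hom S' hS' h₁ h₂
  have h3 : CompactSpace ↥(U₁ ⨯ U₂).left :=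
    (Over.prodLeftIsoPullback U₁ U₂).hom.homeomorph.symm.compactSpace
  exact QuasiCompact.compactSpace_of_compactSpace (prod.lift fst snd).left

/-- For an étale chart `a : h_U ⟶ X` of a quasi-separated sheaf from an affine scheme lying over an affine open of the base, every point
of `U` has arbitrarily small open neighbourhoods with quasi-compact saturation. -/
theorem exists_open_compact_saturation {X : Sp S} (hX : IsQuasiSeparatedSp X) {U : Over S}
    [IsAffine U.left] (S' : S.Opens) (hS' : IsAffineOpen S')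
    (hU : Set.range U.hom ⊆ (S' : Set ↥S)) (a : (yon S).obj U ⟶ X) (ha : RepWith @Etale a)
    (w : ↥U.left) (N : Set ↥U.left) (hN : N ∈ 𝓝 w) :
    ∃ G, IsOpen G ∧ w ∈ G ∧ G ⊆ N ∧ IsCompact (Points.ofPt a ⁻¹' (Points.ofPt a '' G)) := by
  obtain ⟨_, ⟨G₀, hG₀, rfl⟩, hwG, hGN⟩ :=
    (U.left.isBasis_affineOpens).exists_subset_of_mem_open (mem_interior_iff_mem_nhds.2 hN)
      isOpen_interior
  refine ⟨(G₀ : Set ↥U.left), G₀.isOpen, hwG, hGN.trans interior_subset, ?_⟩
  have hrep : Representable a := ((repWith_iff _ _).1 ha).1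
  have : IsAffine (restrictOver U G₀).left := hG₀
  have h₁ : Set.range (restrictOver U G₀).hom ⊆ (S' : Set ↥S) := by
    rintro _ ⟨g, rfl⟩
    exact hU ⟨(restrictOverι U G₀).left g, rfl⟩
  have sq := hrep.isPullback' ((yon S).map (restrictOverι U G₀) ≫ a)
  have hcomp : CompactSpace ↥(hrep.pullback ((yon S).map (restrictOverι U G₀) ≫ a)).left :=
    compactSpace_pullback_of_isQuasiSeparatedSp hX S' hS' hU h₁ sq
  have heq : Points.ofPt a ⁻¹' (Points.ofPt a '' (G₀ : Set ↥U.left)) =
      Set.range (hrep.fst' ((yon S).map (restrictOverι U G₀) ≫ a)).left := by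
    ext w'
    constructor
    · rintro ⟨g, hg, hgw⟩
      have h : Points.ofPt a w' =
          Points.ofPt ((yon S).map (restrictOverι U G₀) ≫ a) (⟨g, hg⟩ : ↥G₀) := by
        rw [ofPt_yon_map_comp]; exact hgw.symm
      obtain ⟨p, hp, -⟩ := exists_point_of_ofPt_eq sq w' _ h
      exact ⟨p, hp⟩
    · rintro ⟨p, rfl⟩
      refine ⟨(restrictOverι U G₀).left
        ((hrep.snd ((yon S).map (restrictOverι U G₀) ≫ a)).left p), ?_, ?_⟩
      · exact ((hrep.snd ((yon S).map (restrictOverι U G₀) ≫ a)).left p).2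
      · rw [← ofPt_yon_map_comp, ← ofPt_yon_map_comp, ← ofPt_yon_map_comp, sq.w]
  rw [heq]
  exact isCompact_range (hrep.fst' ((yon S).map (restrictOverι U G₀) ≫ a)).left.continuous

/-- **The space of points of an algebraic space quasi-separated over the base is quasi-sober.** -/
theorem quasiSober_of_isQuasiSeparatedSp {X : Sp S} (hA : IsAlgSpace X)
    (hX : IsQuasiSeparatedSp X) : QuasiSober (Points X) := by
  refine ⟨fun {T} hT hTc => ?_⟩
  obtain ⟨V, b, hb, hbs⟩ := hA.atlas
  obtain ⟨x₀, hx₀⟩ := hT.nonempty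
  obtain ⟨v₀, hv₀⟩ := Groth.Agent.Lib.H86AlgSpPoints.ofPt_surjective hbs x₀
  obtain ⟨S', hS', hvS'⟩ : ∃ S' : S.Opens, IsAffineOpen S' ∧ V.hom v₀ ∈ S' := by
    obtain ⟨_, ⟨S', hS', rfl⟩, hvS', -⟩ :=
      (S.isBasis_affineOpens).exists_subset_of_mem_open (Set.mem_univ (V.hom v₀)) isOpen_univ
    exact ⟨S', hS', hvS'⟩
  obtain ⟨_, ⟨W, hW, rfl⟩, hvW, hWS'⟩ :=
    (V.left.isBasis_affineOpens).exists_subset_of_mem_open (show v₀ ∈ V.hom ⁻¹ᵁ S' from hvS')
      (V.hom ⁻¹ᵁ S').isOpen
  have : IsAffine (restrictOver V W).left := hW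
  have hU : Set.range (restrictOver V W).hom ⊆ (S' : Set ↥S) := by
    rintro _ ⟨g, rfl⟩
    exact hWS' g.2
  have ha := repWith_etale_restrict b hb W
  refine exists_isGenericPoint_of_isOpenMap (Points.ofPt ((yon S).map (restrictOverι V W) ≫ b))
    (Points.continuous_ofPt _) (Groth.Agent.Lib.H86AlgSpPoints.isOpenMap_ofPt ha)
    (fun w N hN => exists_open_compact_saturation hX S' hS' hU _ ha w N hN) T hT hTc ?_
  refine ⟨x₀, hx₀, (⟨v₀, hvW⟩ : ↥W), ?_⟩
  rw [ofPt_yon_map_comp]
  exact hv₀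

/-- **Zariski locally quasi-separated algebraic spaces have quasi-sober, Kolmogorov spaces of points.** -/
theorem quasiSober_t0_of_zarCover (X : AlgSp.Space S)
    (hX : ∃ (ι : Type u) (Xi : ι → AlgSp.Space S) (j : ∀ i, Xi i ⟶ X),
        AlgSp.IsZarCover (fun i => (Xi i).obj) (fun i => (j i).hom) ∧
          ∀ i, AlgSp.IsQuasiSeparatedSp (Xi i).obj) :
    QuasiSober (AlgSp.Points X.obj) ∧ T0Space (AlgSp.Points X.obj) := by
  obtain ⟨ι, Xi, j, hj, hqs⟩ := hX
  constructor
  · have hemb : ∀ i, IsOpenEmbedding (Points.map (j i).hom) := fun i =>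
      Groth.Agent.Lib.AlgSpAffineSpace.isOpenEmbedding_map_of_repWith_isOpenImmersion (hj.1 i)
    let Uo : ι → TopologicalSpace.Opens (Points X.obj) := fun i =>
      ⟨Set.range (Points.map (j i).hom), (hemb i).isOpen_range⟩
    have hcov : TopologicalSpace.IsOpenCover Uo := by
      rw [TopologicalSpace.IsOpenCover, eq_top_iff]
      intro x _
      obtain ⟨i, hi⟩ := hj.2 x
      exact TopologicalSpace.Opens.mem_iSup.2 ⟨i, hi⟩
    have hs : ∀ i, QuasiSober ↥(Uo i) := by
      intro i
      have : QuasiSober (Points (Xi i).obj) :=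
        quasiSober_of_isQuasiSeparatedSp (Xi i).property (hqs i)
      exact ((hemb i).isEmbedding.toHomeomorph.symm.isOpenEmbedding).quasiSober
    exact hcov.quasiSober
  · exact Groth.Agent.S10338.result X
      (isDecent_of_zarCover X.property _ _ hj fun i =>
        isDecent_of_isQuasiSeparatedSp (Xi i).property (hqs i))

end Groth.Agent.Lib.AlgSpSober91
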