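import Groth.Agent.Lib.AlgSpSober91

set_option autoImplicit false
universe u
open CategoryTheory CategoryTheory.Limits AlgebraicGeometry Opposite Topology

namespace Groth.Agent.Lib.AlgSpSober91

open AlgSp Groth.Agent.Lib.H80DecentPt Groth.Agent.Lib.AlgSpDecentPt91 Groth.Agent.Lib.AlgSpPoints
  Groth.Agent.Lib.AlgSpDecentSpec

variable {S : Scheme.{u}}

/-- Every quasi-compact open of `|X|` is the image of a quasi-compact open of an étale atlas. -/
theorem exists_compact_opens_image_eq {X : Sp S} {V : Over S} (b : (yon S).obj V ⟶ X)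
    (hb : RepWith @Etale b) (hbs : RepWith @Surjective b) (O : Set (Points X)) (hO : IsOpen O)
    (hOc : IsCompact O) :
    ∃ G : V.left.Opens, IsCompact (G : Set ↥V.left) ∧ Points.ofPt b '' (G : Set ↥V.left) = O := by
  classical
  have hopen := Groth.Agent.Lib.H86AlgSpPoints.isOpenMap_ofPt hb
  have hcont := Points.continuous_ofPt b
  let ι := {G : V.left.Opens // IsAffineOpen G ∧ (G : Set ↥V.left) ⊆ Points.ofPt b ⁻¹' O}
  have hcov : O ⊆ ⋃ G : ι, Points.ofPt b '' (G.1 : Set ↥V.left) := by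
    intro x hx
    obtain ⟨v, rfl⟩ := Groth.Agent.Lib.H86AlgSpPoints.ofPt_surjective hbs x
    obtain ⟨_, ⟨G, hG, rfl⟩, hvG, hGO⟩ :=
      (V.left.isBasis_affineOpens).exists_subset_of_mem_open (show v ∈ Points.ofPt b ⁻¹' O from hx)
        (hO.preimage hcont)
    exact Set.mem_iUnion.2 ⟨⟨G, hG, hGO⟩, v, hvG, rfl⟩
  obtain ⟨t, ht⟩ := hOc.elim_finite_subcover (fun G : ι => Points.ofPt b '' (G.1 : Set ↥V.left))
    (fun G => hopen _ G.1.isOpen) hcov
  refine ⟨⨆ G ∈ t, G.1, ?_, ?_⟩
  · rw [TopologicalSpace.Opens.coe_iSup]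
    simp only [TopologicalSpace.Opens.coe_iSup]
    exact t.finite_toSet.isCompact_biUnion fun G _ => G.2.1.isCompact
  · apply Set.Subset.antisymm
    · rintro _ ⟨v, hv, rfl⟩
      simp only [TopologicalSpace.Opens.coe_iSup, Set.mem_iUnion] at hv
      obtain ⟨G, -, hvG⟩ := hv
      exact G.2.2 hvG
    · intro x hx
      obtain ⟨G, hGt, v, hvG, rfl⟩ : ∃ G ∈ t, x ∈ Points.ofPt b '' (G.1 : Set ↥V.left) := by
        have := ht hx
        simp only [Set.mem_iUnion] at this
        obtain ⟨G, hG, h⟩ := this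
        exact ⟨G, hG, h⟩
      refine ⟨v, ?_, rfl⟩
      simp only [TopologicalSpace.Opens.coe_iSup, Set.mem_iUnion]
      exact ⟨G, hGt, hvG⟩

/-- Over a quasi-separated base, the intersection of the images of two quasi-compact opens of an étale atlas of a quasi-separated sheaf is
quasi-compact. -/
theorem isCompact_image_inter_image [QuasiSeparatedSpace ↥S] {X : Sp S} (hX : IsQuasiSeparatedSp X)
    {V : Over S} (b : (yon S).obj V ⟶ X) (hb : RepWith @Etale b) (G₁ G₂ : V.left.Opens)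
    (h₁ : IsCompact (G₁ : Set ↥V.left)) (h₂ : IsCompact (G₂ : Set ↥V.left)) :
    IsCompact (Points.ofPt b '' (G₁ : Set ↥V.left) ∩ Points.ofPt b '' (G₂ : Set ↥V.left)) := by
  have ha₁ := repWith_etale_restrict b hb G₁
  have ha₂ := repWith_etale_restrict b hb G₂
  have hc₁ : CompactSpace ↥(restrictOver V G₁).left := isCompact_iff_compactSpace.1 h₁
  have hc₂ : CompactSpace ↥(restrictOver V G₂).left := isCompact_iff_compactSpace.1 h₂
  have hq₂ : QuasiCompact (restrictOver V G₂).hom := inferInstance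
  have hrep₂ : RepWith @QuasiCompact ((yon S).map (restrictOverι V G₂) ≫ b) :=
    repWith_quasiCompact_of_isQuasiSeparatedSp hX hq₂ _ ((repWith_iff _ _).1 ha₂).1
  have hr := ((repWith_iff _ _).1 hrep₂).1
  have sq := hr.isPullback' ((yon S).map (restrictOverι V G₁) ≫ b)
  have hqc : QuasiCompact (hr.snd ((yon S).map (restrictOverι V G₁) ≫ b)).left :=
    ((repWith_iff _ _).1 hrep₂).2 _ _ _ sq
  have hP : CompactSpace ↥(hr.pullback ((yon S).map (restrictOverι V G₁) ≫ b)).left :=
    QuasiCompact.compactSpace_of_compactSpace (hr.snd ((yon S).map (restrictOverι V G₁) ≫ b)).left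
  have heq : Points.ofPt b '' (G₁ : Set ↥V.left) ∩ Points.ofPt b '' (G₂ : Set ↥V.left) =
      Set.range (Points.ofPt ((yon S).map (restrictOverι V G₁) ≫ b) ∘
        (hr.snd ((yon S).map (restrictOverι V G₁) ≫ b)).left) := by
    ext x
    constructor
    · rintro ⟨⟨g₁, hg₁, rfl⟩, g₂, hg₂, h⟩
      have h' : Points.ofPt ((yon S).map (restrictOverι V G₂) ≫ b) (⟨g₂, hg₂⟩ : ↥G₂) =
          Points.ofPt ((yon S).map (restrictOverι V G₁) ≫ b) (⟨g₁, hg₁⟩ : ↥G₁) := by
        rw [ofPt_yon_map_comp, ofPt_yon_map_comp]; exact h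
      obtain ⟨p, -, hp⟩ := exists_point_of_ofPt_eq sq _ _ h'
      refine ⟨p, ?_⟩
      rw [Function.comp_apply, hp, ofPt_yon_map_comp]
      rfl
    · rintro ⟨p, rfl⟩
      rw [Function.comp_apply]
      constructor
      · rw [ofPt_yon_map_comp]
        exact ⟨_, ((hr.snd ((yon S).map (restrictOverι V G₁) ≫ b)).left p).2, rfl⟩
      · rw [← ofPt_yon_map_comp, ← sq.w, ofPt_yon_map_comp, ofPt_yon_map_comp]
        exact ⟨_, ((hr.fst' ((yon S).map (restrictOverι V G₁) ≫ b)).left p).2, rfl⟩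
  rw [heq]
  exact isCompact_range ((Points.continuous_ofPt _).comp
    (hr.snd ((yon S).map (restrictOverι V G₁) ≫ b)).left.continuous)

/-- **The space of points of a quasi-compact and quasi-separated algebraic space over a quasi-separated base is spectral.** -/
theorem spectralSpace_of_qcqs [QuasiSeparatedSpace ↥S] (X : AlgSp.Space S)
    (hqc : AlgSp.IsQuasiCompactSp X.obj) (hqs : AlgSp.IsQuasiSeparatedSp X.obj) :
    SpectralSpace (AlgSp.Points X.obj) := by
  obtain ⟨V, b, hb, hbs, hVc⟩ := hqc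
  have hopen := Groth.Agent.Lib.H86AlgSpPoints.isOpenMap_ofPt hb
  have hcont := Points.continuous_ofPt b
  have hsurj := Groth.Agent.Lib.H86AlgSpPoints.ofPt_surjective hbs
  have h0 : T0Space (Points X.obj) :=
    Groth.Agent.S10338.result X (isDecent_of_isQuasiSeparatedSp X.property hqs)
  have h1 : CompactSpace (Points X.obj) := by
    have : CompactSpace ↥V.left := hVc
    exact ⟨by rw [← Set.range_eq_univ.2 hsurj]; exact isCompact_range hcont⟩
  have h2 : QuasiSober (Points X.obj) := quasiSober_of_isQuasiSeparatedSp X.property hqs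
  have h3 : QuasiSeparatedSpace (Points X.obj) := by
    refine ⟨fun O₁ O₂ ho₁ hc₁ ho₂ hc₂ => ?_⟩
    obtain ⟨G₁, hG₁, rfl⟩ := exists_compact_opens_image_eq b hb hbs O₁ ho₁ hc₁
    obtain ⟨G₂, hG₂, rfl⟩ := exists_compact_opens_image_eq b hb hbs O₂ ho₂ hc₂
    exact isCompact_image_inter_image hqs b hb G₁ G₂ hG₁ hG₂
  have h4 : PrespectralSpace (Points X.obj) := by
    refine PrespectralSpace.of_isTopologicalBasis
      (B := {O | ∃ G : V.left.Opens, IsAffineOpen G ∧ O = Points.ofPt b '' (G : Set ↥V.left)}) ?_ ?_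
    · refine TopologicalSpace.isTopologicalBasis_of_isOpen_of_nhds ?_ ?_
      · rintro _ ⟨G, -, rfl⟩
        exact hopen _ G.isOpen
      · intro x O hxO hO
        obtain ⟨v, rfl⟩ := hsurj x
        obtain ⟨_, ⟨G, hG, rfl⟩, hvG, hGO⟩ :=
          (V.left.isBasis_affineOpens).exists_subset_of_mem_open
            (show v ∈ Points.ofPt b ⁻¹' O from hxO) (hO.preimage hcont)
        exact ⟨_, ⟨G, hG, rfl⟩, ⟨v, hvG, rfl⟩, Set.image_subset_iff.2 hGO⟩
    · rintro _ ⟨G, hG, rfl⟩
      exact hG.isCompact.image hcont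
  exact { h0, h1, h2, h3, h4 with }

end Groth.Agent.Lib.AlgSpSober91
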