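import Groth.Agent.Lib.AlgSpProper2

/-!
# Universally closed morphisms of algebraic spaces are quasi-compact (owner: helper91)

Namespace `Groth.Agent.Lib.AlgSpProper` (continues `Lib/AlgSpProper2.lean`).  Append-only please.

The infinite affine space argument (Stacks 04XU, Mathlib `compactSpace_of_universallyClosed`) on spaces of points.
-/

set_option autoImplicit false
universe u
open CategoryTheory CategoryTheory.Limits AlgebraicGeometry Opposite Topology

namespace Groth.Agent.Lib.AlgSpProper

open AlgSp Groth.Agent.Lib.AlgSpPoints Groth.Agent.Lib.AlgSpQC Groth.Agent.Lib.AlgSpFibre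
  Groth.Agent.Lib.AlgSpDescent Groth.Agent.Lib.H69AlgSp Groth.Agent.Lib.H69AlgSpMor
  Groth.Agent.Lib.AlgSpLocP Groth.Agent.Lib.AlgSpBasic Groth.Agent.Lib.AlgSpFpqc

variable {S : Scheme.{u}}

open _root_.PrimeSpectrum MvPolynomial in
/-- An algebraic space universally closed over the spectrum of a field has a quasi-compact space of points. -/
theorem compactSpace_points_of_isUnivClosedMor_field {K : Type u} [Field K]
    (str : Spec (CommRingCat.of K) ⟶ S) {X : Sp S} (hX : IsAlgSpace X)
    (f : X ⟶ (yon S).obj (Over.mk str)) (hf : IsUnivClosedMor f) : CompactSpace (Points X) := by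
  classical
  obtain ⟨U, a, hae, has⟩ := hX.atlas
  let I := U.left.affineOpens
  let Uo : I → Set (Points X) := fun i => Points.ofPt a '' (i.1 : Set ↥U.left)
  have hUo : ∀ i, IsOpen (Uo i) := fun i => isOpenMap_ofPt_of_repWith_etale hae _ i.1.isOpen
  have hUc : ∀ i, IsCompact (Uo i) := fun i => i.2.isCompact.image (Points.continuous_ofPt a)
  have hUcov : ∀ x : Points X, ∃ i, x ∈ Uo i := by
    intro x
    obtain ⟨u, rfl⟩ := surjective_ofPt_of_repWith_surjective has x
    obtain ⟨_, ⟨W, hW, rfl⟩, huW, -⟩ := (U.left.isBasis_affineOpens).exists_subset_of_mem_open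
      (Set.mem_univ u) isOpen_univ
    exact ⟨⟨W, hW⟩, u, huW, rfl⟩
  let k₀ : Over S := Over.mk str
  let R := MvPolynomial I K
  let T₀ : Scheme.{u} := Spec (.of R)
  let q₀ : T₀ ⟶ Spec (.of K) := Spec.map (CommRingCat.ofHom MvPolynomial.C)
  let T : Over S := Over.mk (q₀ ≫ str)
  let q : T ⟶ k₀ := Over.homMk q₀ rfl
  let Ti (i : I) : T₀.Opens := basicOpen (MvPolynomial.X i)
  have sq := IsPullback.of_hasPullback f ((yon S).map q)
  let fT := pullback.snd f ((yon S).map q)
  let p := pullback.fst f ((yon S).map q)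
  have hclosed : IsClosedMap (Points.map fT) := hf (IsAlgSpace.yon_obj T) ((yon S).map q) p fT sq
  let τ : ↥T₀ ≃ₜ Points ((yon S).obj T) := Points.schemeHomeo T
  let fT' : Points (pullback f ((yon S).map q)) → ↥T₀ := fun z => τ.symm (Points.map fT z)
  have hfT'c : Continuous fT' := τ.symm.continuous.comp (Points.continuous_map fT)
  have hfT'cl : IsClosedMap fT' := τ.symm.isClosedMap.comp hclosed
  let Z : Set (Points (pullback f ((yon S).map q))) :=
    (⋃ i, fT' ⁻¹' (Ti i : Set ↥T₀) ∩ Points.map p ⁻¹' (Uo i))ᶜ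
  have hZ : IsClosed Z := by
    simp only [Z, isClosed_compl_iff]
    exact isOpen_iUnion fun i => ((Ti i).2.preimage hfT'c).inter
      ((hUo i).preimage (Points.continuous_map p))
  let Zc : T₀.Opens := ⟨(fT' '' Z)ᶜ, (hfT'cl _ hZ).isOpen_compl⟩
  let ψ : MvPolynomial I K →ₐ[K] K := MvPolynomial.aeval (fun _ => 1)
  let t : ↥T₀ := Spec.map (CommRingCat.ofHom ψ.toRingHom) default
  have ht (i : I) : t ∈ Ti i := show ψ (.X i) ≠ 0 by simp [ψ]
  have htZc : t ∈ Zc := by
    rintro ⟨z, hz, hzt⟩
    obtain ⟨i, hi⟩ := hUcov (Points.map p z)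
    exact hz (Set.mem_iUnion.2 ⟨i, by rw [Set.mem_preimage, hzt]; exact ht i, hi⟩)
  obtain ⟨U', ⟨g, rfl⟩, htU', hU'le⟩ := TopologicalSpace.Opens.isBasis_iff_nbhd.mp isBasis_basic_opens htZc
  let σ : Finset I := MvPolynomial.vars g
  let φ : MvPolynomial I K →+* MvPolynomial I K :=
    (MvPolynomial.aeval fun i : I => if i ∈ σ then MvPolynomial.X i else 0).toRingHom
  let t' : ↥T₀ := Spec.map (CommRingCat.ofHom φ) t
  have ht'g : t' ∈ PrimeSpectrum.basicOpen g :=
    show φ g ∉ t.asIdeal from (show φ g = g from aeval_ite_mem_eq_self g subset_rfl).symm ▸ htU'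
  have h : t' ∉ fT' '' Z := hU'le ht'g
  suffices ⋃ i ∈ σ, Uo i = Set.univ from
    ⟨this ▸ Finset.isCompact_biUnion _ fun i _ => hUc i⟩
  rw [Set.iUnion₂_eq_univ_iff]
  contrapose! h
  obtain ⟨x, hx⟩ := h
  have hcompat : Points.map f x = Points.map ((yon S).map q) (τ t') := by
    apply (Points.schemeHomeo k₀).symm.injective
    exact Subsingleton.elim (α := ↥(Spec (CommRingCat.of K))) _ _
  obtain ⟨z, hz1, hz2⟩ := exists_point_of_isPullback sq x (τ t') hcompat
  have hz3 : fT' z = t' := by
    change τ.symm (Points.map fT z) = t'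
    rw [hz2, Homeomorph.symm_apply_apply]
  refine ⟨z, ?_, hz3⟩
  simp only [Z, Set.mem_compl_iff, Set.mem_iUnion, Set.mem_inter_iff, Set.mem_preimage, not_exists,
    not_and]
  intro i hi₁ hi₂
  rw [hz3] at hi₁
  rw [hz1] at hi₂
  by_cases hiσ : i ∈ σ
  · exact hx i hiσ hi₂
  · have h0 : φ (MvPolynomial.X i) = 0 := by simp [φ, hiσ]
    have h1 : φ (MvPolynomial.X i) ∉ t.asIdeal := hi₁
    rw [h0] at h1
    exact h1 (Ideal.zero_mem _)

end Groth.Agent.Lib.AlgSpProper

namespace Groth.Agent.Lib.AlgSpProper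

open AlgSp Groth.Agent.Lib.AlgSpPoints Groth.Agent.Lib.AlgSpQC Groth.Agent.Lib.AlgSpFibre
  Groth.Agent.Lib.AlgSpDescent Groth.Agent.Lib.H69AlgSp Groth.Agent.Lib.H69AlgSpMor
  Groth.Agent.Lib.AlgSpLocP Groth.Agent.Lib.AlgSpBasic Groth.Agent.Lib.AlgSpFpqc

variable {S : Scheme.{u}}

/-- The fibre of `|Z'| ⟶ |Z|` over the class of a field-valued point is the image of the points of the fibre
product with that point. -/
theorem preimage_singleton_mk_eq_range {Z Z' : Sp S} (snd : Z' ⟶ Z) (pt : FieldPt Z) :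
    Points.map snd ⁻¹' {Points.mk pt} =
      Set.range (Points.map (pullback.fst snd (fieldPtHom pt))) := by
  have sqF := IsPullback.of_hasPullback snd (fieldPtHom pt)
  have hpt : ∀ y : Points ((yon S).obj pt.pt), Points.map (fieldPtHom pt) y = Points.mk pt := by
    intro y
    obtain ⟨t, rfl⟩ := (Points.schemeHomeo pt.pt).surjective y
    change Points.map (fieldPtHom pt) (Points.ofPt (𝟙 _) t) = _
    rw [Points.map_ofPt, Category.id_comp, ofPt_fieldPtHom]
  ext x
  constructor
  · intro hx
    have hx' : Points.map snd x = Points.mk pt := hx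
    obtain ⟨w, hw, -⟩ := exists_point_of_isPullback sqF x
      (Points.schemeHomeo pt.pt (IsLocalRing.closedPoint pt.K)) (by rw [hx', hpt])
    exact ⟨w, hw⟩
  · rintro ⟨w, rfl⟩
    change Points.map snd (Points.map (pullback.fst snd (fieldPtHom pt)) w) = Points.mk pt
    rw [← Points.map_comp, pullback.condition, Points.map_comp, hpt]

/-- A universally closed morphism of algebraic spaces is quasi-compact. -/
theorem isQuasiCompactMor_of_isUnivClosedMor {X Y : Sp S} (hX : IsAlgSpace X) (hY : IsAlgSpace Y)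
    {f : X ⟶ Y} (hf : IsUnivClosedMor f) : IsQuasiCompactMor f := by
  intro Z Z' hZ hZqc g fst snd sq
  have hZ' : IsAlgSpace Z' := isAlgSpace_of_isPullback hY.diag hX hZ sq
  have hsnd : IsUnivClosedMor snd := univSp_of_isPullback sq hf
  have : CompactSpace (Points Z) := compactSpace_points_of_isQuasiCompactSp hZqc
  have hprop : IsProperMap (Points.map snd) := by
    rw [isProperMap_iff_isClosedMap_and_compact_fibers]
    refine ⟨Points.continuous_map snd, isClosedMor_of_isUnivClosedMor hZ hsnd, fun z => ?_⟩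
    induction z using Points.ind with
    | h pt =>
    have sqF := IsPullback.of_hasPullback snd (fieldPtHom pt)
    have hF : IsAlgSpace (pullback snd (fieldPtHom pt)) :=
      isAlgSpace_of_isPullback hZ.diag hZ' (IsAlgSpace.yon_obj _) sqF
    have hFc : CompactSpace (Points (pullback snd (fieldPtHom pt))) :=
      compactSpace_points_of_isUnivClosedMor_field pt.str hF (pullback.snd snd (fieldPtHom pt))
        (univSp_of_isPullback sqF hsnd)
    rw [preimage_singleton_mk_eq_range]
    exact isCompact_range (Points.continuous_map _)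
  have : CompactSpace (Points Z') := ⟨by simpa using hprop.isCompact_preimage isCompact_univ⟩
  exact isQuasiCompactSp_of_compactSpace_points hZ'

end Groth.Agent.Lib.AlgSpProper
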