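import Groth.Agent.Lib.AlgSpGpdInv91
import Groth.Agent.Lib.AlgSpFibre
import Groth.Agent.Lib.H86AlgSpOpen
import Groth.Agent.Lib.AlgSpPoints

/-!
# "Where a morphism has a property": the general open-subspace lemma (helper36)

For `f : X ⟶ Y` over `Z` with `p : X ⟶ Z` closed, and an open "good locus" `E ⊆ |X|`, the open subspace
`W = Z ∖ p(|X| ∖ E)` has the property: `g : Z' ⟶ Z` factors through `W` iff for the base change
`X' = X ×_Z Z'` every point of `X'` maps into `E`.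
-/

set_option autoImplicit false
set_option linter.style.haveILetI false
universe u
open CategoryTheory CategoryTheory.Limits AlgebraicGeometry Opposite

namespace Groth.Agent.Lib.AlgSpWhere36

open AlgSp Groth.Agent.Lib.AlgSpBasic

variable {S : Scheme.{u}}

/-- The double base change of `X ⟶ Y ⟶ Z` along `g : Z' ⟶ Z` exists in algebraic spaces. -/
theorem exists_double_baseChange {X Y Z Z' : AlgSp.Space S} (f : X ⟶ Y) (q : Y ⟶ Z) (g : Z' ⟶ Z) :
    ∃ (Y' : AlgSp.Space S) (gY : Y' ⟶ Y) (q' : Y' ⟶ Z') (X' : AlgSp.Space S) (gX : X' ⟶ X)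
      (f' : X' ⟶ Y'), IsPullback gY.hom q'.hom q.hom g.hom ∧ IsPullback gX.hom f'.hom f.hom gY.hom := by
  have sq1 := IsPullback.of_hasPullback q.hom g.hom
  have hY' : IsAlgSpace (pullback q.hom g.hom) :=
    Groth.Agent.Lib.AlgSpFibre.isAlgSpace_of_isPullback Z.property.diag Y.property Z'.property sq1
  let Y' : AlgSp.Space S := ⟨pullback q.hom g.hom, hY'⟩
  let gY : Y' ⟶ Y := ObjectProperty.homMk (pullback.fst q.hom g.hom)
  let q' : Y' ⟶ Z' := ObjectProperty.homMk (pullback.snd q.hom g.hom)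
  have sq2 := IsPullback.of_hasPullback f.hom gY.hom
  have hX' : IsAlgSpace (pullback f.hom gY.hom) :=
    Groth.Agent.Lib.AlgSpFibre.isAlgSpace_of_isPullback Y.property.diag X.property hY' sq2
  let X' : AlgSp.Space S := ⟨pullback f.hom gY.hom, hX'⟩
  exact ⟨Y', gY, q', X', ObjectProperty.homMk (pullback.fst f.hom gY.hom),
    ObjectProperty.homMk (pullback.snd f.hom gY.hom), sq1, sq2⟩

/-- **The general "where" lemma.** -/
theorem exists_where {X Y Z : AlgSp.Space S} (f : X ⟶ Y) (p : X ⟶ Z) (q : Y ⟶ Z) (hc : f ≫ q = p)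
    (hp : AlgSp.IsClosedMor p.hom) (E : Set (Points X.obj)) (hE : IsOpen E) :
    ∃ (W : AlgSp.Space S) (w : W ⟶ Z), RepWith @IsOpenImmersion w.hom ∧
      ∀ (Z' : AlgSp.Space S) (g : Z' ⟶ Z),
        (∃ k : Z' ⟶ W, k ≫ w = g) ↔
          ∀ (Y' : AlgSp.Space S) (gY : Y' ⟶ Y) (q' : Y' ⟶ Z'),
            IsPullback gY.hom q'.hom q.hom g.hom →
            ∀ (X' : AlgSp.Space S) (gX : X' ⟶ X) (f' : X' ⟶ Y'),
              IsPullback gX.hom f'.hom f.hom gY.hom →
                ∀ x' : Points X'.obj, Points.map gX.hom x' ∈ E := by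
  have hC : IsClosed (Points.map p.hom '' Eᶜ) := hp _ hE.isClosed_compl
  have hW : IsOpen (Points.map p.hom '' Eᶜ)ᶜ := hC.isOpen_compl
  have hpc : f.hom ≫ q.hom = p.hom := by rw [← hc]; rfl
  let W : AlgSp.Space S := ⟨Groth.Agent.Lib.H86AlgSpOpen.openSub Z.obj (Points.map p.hom '' Eᶜ)ᶜ,
    Groth.Agent.Lib.H86AlgSpOpen.isAlgSpace_openSub Z.property hW⟩
  let w : W ⟶ Z := ObjectProperty.homMk (Groth.Agent.Lib.H86AlgSpOpen.openSubι Z.obj _)
  have hw : RepWith @IsOpenImmersion w.hom := Groth.Agent.Lib.H86AlgSpOpen.openSubι_repWith hW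
  have hrange : Set.range (Points.map w.hom) = (Points.map p.hom '' Eᶜ)ᶜ :=
    Groth.Agent.Lib.H86AlgSpOpen.range_map_openSubι
  refine ⟨W, w, hw, fun Z' g => ?_⟩
  have hfac : (∃ k : Z' ⟶ W, k ≫ w = g) ↔
      Set.range (Points.map g.hom) ⊆ Set.range (Points.map w.hom) := by
    rw [← Groth.Agent.Lib.AlgSpGpdInv91.exists_factor_iff hw g.hom]
    constructor
    · rintro ⟨k, rfl⟩
      exact ⟨k.hom, rfl⟩
    · rintro ⟨k, hk⟩
      exact ⟨ObjectProperty.homMk k, by ext1; exact hk⟩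
  rw [hfac, hrange]
  constructor
  · intro hsub Y' gY q' sq1 X' gX f' sq2 x'
    by_contra hx
    have h1 : Points.map g.hom (Points.map q'.hom (Points.map f'.hom x')) ∈
        (Points.map p.hom '' Eᶜ)ᶜ := hsub ⟨_, rfl⟩
    apply h1
    refine ⟨Points.map gX.hom x', hx, ?_⟩
    rw [← hpc, Points.map_comp, ← Points.map_comp q'.hom, ← sq1.w, Points.map_comp,
      ← Points.map_comp f'.hom, ← sq2.w, Points.map_comp]
  · intro h
    obtain ⟨Y', gY, q', X', gX, f', sq1, sq2⟩ := exists_double_baseChange f q g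
    rintro _ ⟨z', rfl⟩ ⟨x, hx, hxz⟩
    have e1 : Points.map q.hom (Points.map f.hom x) = Points.map g.hom z' := by
      rw [← Points.map_comp, hpc]; exact hxz
    obtain ⟨y', hy'1, -⟩ := Groth.Agent.Lib.AlgSpPoints.exists_point_of_isPullback sq1 _ _ e1
    obtain ⟨x', hx'1, -⟩ := Groth.Agent.Lib.AlgSpPoints.exists_point_of_isPullback sq2 x y' hy'1.symm
    exact hx (hx'1 ▸ h Y' gY q' sq1 X' gX f' sq2 x')

end Groth.Agent.Lib.AlgSpWhere36
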