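import Groth.Agent.Lib.AlgSpFibre
import Groth.Agent.Lib.AlgSpLocP
import Groth.Agent.Lib.AlgSpQC
import Groth.Agent.Lib.H86AlgSpSub

/-!
# Intersection of open subspaces; isomorphisms of algebraic spaces (helper36)
-/

set_option autoImplicit false
set_option linter.style.haveILetI false
universe u
open CategoryTheory CategoryTheory.Limits AlgebraicGeometry Opposite

namespace Groth.Agent.Lib.AlgSpWhereInter36

open AlgSp Groth.Agent.Lib.AlgSpBasic Groth.Agent.Lib.AlgSpLocP Groth.Agent.Lib.AlgSpQC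

variable {S : Scheme.{u}}

/-- The intersection of two open subspaces: a morphism factors through it iff it factors through both. -/
theorem exists_inter {Z W₁ W₂ : AlgSp.Space S} {w₁ : W₁ ⟶ Z} {w₂ : W₂ ⟶ Z}
    (hw₁ : RepWith @IsOpenImmersion w₁.hom) (hw₂ : RepWith @IsOpenImmersion w₂.hom) :
    ∃ (W : AlgSp.Space S) (w : W ⟶ Z), RepWith @IsOpenImmersion w.hom ∧
      ∀ (Z' : AlgSp.Space S) (g : Z' ⟶ Z),
        (∃ k : Z' ⟶ W, k ≫ w = g) ↔ ((∃ k : Z' ⟶ W₁, k ≫ w₁ = g) ∧ (∃ k : Z' ⟶ W₂, k ≫ w₂ = g)) := by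
  have sq := IsPullback.of_hasPullback w₁.hom w₂.hom
  have hW : IsAlgSpace (pullback w₁.hom w₂.hom) :=
    Groth.Agent.Lib.AlgSpFibre.isAlgSpace_of_isPullback Z.property.diag W₁.property W₂.property sq
  let W : AlgSp.Space S := ⟨pullback w₁.hom w₂.hom, hW⟩
  let a : W ⟶ W₁ := ObjectProperty.homMk (pullback.fst w₁.hom w₂.hom)
  let b : W ⟶ W₂ := ObjectProperty.homMk (pullback.snd w₁.hom w₂.hom)
  have hab : a ≫ w₁ = b ≫ w₂ := by
    ext1
    exact sq.w
  have ha : RepWith @IsOpenImmersion a.hom := repWith_fst_of_isPullback _ sq hw₂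
  have hw : RepWith @IsOpenImmersion (a ≫ w₁).hom :=
    MorphismProperty.comp_mem _ _ _ ha hw₁
  refine ⟨W, a ≫ w₁, hw, fun Z' g => ⟨?_, ?_⟩⟩
  · rintro ⟨k, rfl⟩
    exact ⟨⟨k ≫ a, by rw [Category.assoc]⟩, ⟨k ≫ b, by rw [Category.assoc, hab]⟩⟩
  · rintro ⟨⟨k₁, h₁⟩, ⟨k₂, h₂⟩⟩
    have hcond : k₁.hom ≫ w₁.hom = k₂.hom ≫ w₂.hom := by
      have e1 : (k₁ ≫ w₁).hom = (k₂ ≫ w₂).hom := by rw [h₁, h₂]
      exact e1
    refine ⟨ObjectProperty.homMk (pullback.lift k₁.hom k₂.hom hcond), ?_⟩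
    rw [← h₁]
    ext1
    change pullback.lift k₁.hom k₂.hom hcond ≫ pullback.fst w₁.hom w₂.hom ≫ w₁.hom = k₁.hom ≫ w₁.hom
    rw [← Category.assoc, pullback.lift_fst]

/-- A surjective flat closed immersion of algebraic spaces is an isomorphism, and conversely. -/
theorem isIso_iff_closedImmersion_surjective_flat {X Y : Sp S} (hX : IsAlgSpace X) (hY : IsAlgSpace Y)
    (f : X ⟶ Y) :
    IsIso f ↔ (RepWith @IsClosedImmersion f ∧ IsSurjectiveMor f ∧ LocP @Flat f) := by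
  constructor
  · intro h
    refine ⟨MorphismProperty.of_isIso (RepWith (S := S) @IsClosedImmersion) f, ?_, ?_⟩
    · intro y
      refine ⟨Points.map (inv f) y, ?_⟩
      rw [← Points.map_comp, IsIso.inv_hom_id, Points.map_id]
    · exact locP_of_repWith @Flat etLocalClass_flat.pre (fun _ c => hX.representable_from_yon c)
        (MorphismProperty.of_isIso (RepWith (S := S) @Flat) f)
  · rintro ⟨h1, h2, h3⟩
    have h4 : RepWith @Flat f := repWith_of_locP etLocalClass_flat hY h1.rep h3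
    have h5 : RepWith @Surjective f := repWith_surjective_of_isSurjectiveMor h1.rep h2
    apply Groth.Agent.Lib.H86AlgSpSub.isIso_of_repWith_iso
    refine repWith_mono (P := (@IsClosedImmersion ⊓ @Flat) ⊓ @Surjective) ?_
      ((repWith_inf_iff _ _ _).2 ⟨(repWith_inf_iff _ _ _).2 ⟨h1, h4⟩, h5⟩)
    rintro A B g ⟨⟨hc, hfl⟩, hs⟩
    have : IsClosedImmersion g := hc
    have : Flat g := hfl
    have : Surjective g := hs
    exact Flat.isIso_of_surjective_of_mono g

end Groth.Agent.Lib.AlgSpWhereInter36
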