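import Groth.Agent.Lib.AlgSpWhere36
import Groth.Agent.Lib.AlgSpFlatAt36
import Groth.Agent.Lib.AlgSpDescent
import Groth.Agent.Lib.AlgSpLargestOpen

/-!
# "Where a morphism is surjective and has a property" (helper36)
-/

set_option autoImplicit false
set_option linter.style.haveILetI false
universe u
open CategoryTheory CategoryTheory.Limits AlgebraicGeometry Opposite

namespace Groth.Agent.Lib.AlgSpWhereSurj36

open AlgSp Groth.Agent.Lib.AlgSpBasic Groth.Agent.Lib.AlgSpWhere36

variable {S : Scheme.{u}}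

/-- The general "where surjective and ..." lemma: `E ⊆ |X|` open with `f(E)` open, `p` and `q` closed. -/
theorem exists_where_surj {X Y Z : AlgSp.Space S} (f : X ⟶ Y) (p : X ⟶ Z) (q : Y ⟶ Z)
    (hc : f ≫ q = p) (hp : AlgSp.IsClosedMor p.hom) (hq : AlgSp.IsClosedMor q.hom)
    (E : Set (Points X.obj)) (hE : IsOpen E) (hO : IsOpen (Points.map f.hom '' E)) :
    ∃ (W : AlgSp.Space S) (w : W ⟶ Z), RepWith @IsOpenImmersion w.hom ∧
      ∀ (Z' : AlgSp.Space S) (g : Z' ⟶ Z),
        (∃ k : Z' ⟶ W, k ≫ w = g) ↔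
          ∀ (Y' : AlgSp.Space S) (gY : Y' ⟶ Y) (q' : Y' ⟶ Z'),
            IsPullback gY.hom q'.hom q.hom g.hom →
            ∀ (X' : AlgSp.Space S) (gX : X' ⟶ X) (f' : X' ⟶ Y'),
              IsPullback gX.hom f'.hom f.hom gY.hom →
                (AlgSp.IsSurjectiveMor f'.hom ∧ ∀ x' : Points X'.obj, Points.map gX.hom x' ∈ E) := by
  have hC1 : IsClosed (Points.map p.hom '' Eᶜ) := hp _ hE.isClosed_compl
  have hC2 : IsClosed (Points.map q.hom '' (Points.map f.hom '' E)ᶜ) := hq _ hO.isClosed_compl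
  have hG : IsOpen ((Points.map p.hom '' Eᶜ)ᶜ ∩ (Points.map q.hom '' (Points.map f.hom '' E)ᶜ)ᶜ) :=
    hC1.isOpen_compl.inter hC2.isOpen_compl
  have hpc : f.hom ≫ q.hom = p.hom := by rw [← hc]; rfl
  let W : AlgSp.Space S := ⟨Groth.Agent.Lib.H86AlgSpOpen.openSub Z.obj _,
    Groth.Agent.Lib.H86AlgSpOpen.isAlgSpace_openSub Z.property hG⟩
  let w : W ⟶ Z := ObjectProperty.homMk (Groth.Agent.Lib.H86AlgSpOpen.openSubι Z.obj _)
  have hw : RepWith @IsOpenImmersion w.hom := Groth.Agent.Lib.H86AlgSpOpen.openSubι_repWith hG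
  have hrange : Set.range (Points.map w.hom) =
      (Points.map p.hom '' Eᶜ)ᶜ ∩ (Points.map q.hom '' (Points.map f.hom '' E)ᶜ)ᶜ :=
    Groth.Agent.Lib.H86AlgSpOpen.range_map_openSubι
  refine ⟨W, w, hw, fun Z' g => ?_⟩
  have hfac : (∃ k : Z' ⟶ W, k ≫ w = g) ↔
      Set.range (Points.map g.hom) ⊆ Set.range (Points.map w.hom) := by
    rw [← Groth.Agent.Lib.AlgSpGpdInv91.exists_factor_iff hw g.hom]
    constructor
    · rintro ⟨k, rfl⟩
      exact ⟨k.hom, rfl⟩
    · rintro ⟨k, hk⟩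
      exact ⟨ObjectProperty.homMk k, by ext1; exact hk⟩
  rw [hfac, hrange]
  constructor
  · intro hsub Y' gY q' sq1 X' gX f' sq2
    have hpt : ∀ x' : Points X'.obj, Points.map p.hom (Points.map gX.hom x') =
        Points.map g.hom (Points.map q'.hom (Points.map f'.hom x')) := by
      intro x'
      rw [← hpc, Points.map_comp, ← Points.map_comp q'.hom, ← sq1.w, Points.map_comp,
        ← Points.map_comp f'.hom, ← sq2.w, Points.map_comp]
    refine ⟨fun y' => ?_, fun x' => ?_⟩
    · have h1 := (hsub ⟨Points.map q'.hom y', rfl⟩).2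
      have hy : Points.map gY.hom y' ∈ Points.map f.hom '' E := by
        by_contra hy
        apply h1
        refine ⟨Points.map gY.hom y', hy, ?_⟩
        rw [← Points.map_comp, sq1.w, Points.map_comp]
      obtain ⟨x, -, hx⟩ := hy
      obtain ⟨x', -, hx'⟩ := Groth.Agent.Lib.AlgSpPoints.exists_point_of_isPullback sq2 x y' hx
      exact ⟨x', hx'⟩
    · by_contra hx
      exact (hsub ⟨_, rfl⟩).1 ⟨Points.map gX.hom x', hx, hpt x'⟩
  · intro h
    obtain ⟨Y', gY, q', X', gX, f', sq1, sq2⟩ := exists_double_baseChange f q g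
    obtain ⟨hs, hfl⟩ := h Y' gY q' sq1 X' gX f' sq2
    rintro _ ⟨z', rfl⟩
    constructor
    · rintro ⟨x, hx, hxz⟩
      have e1 : Points.map q.hom (Points.map f.hom x) = Points.map g.hom z' := by
        rw [← Points.map_comp, hpc]; exact hxz
      obtain ⟨y', hy'1, -⟩ := Groth.Agent.Lib.AlgSpPoints.exists_point_of_isPullback sq1 _ _ e1
      obtain ⟨x', hx'1, -⟩ :=
        Groth.Agent.Lib.AlgSpPoints.exists_point_of_isPullback sq2 x y' hy'1.symm
      exact hx (hx'1 ▸ hfl x')
    · rintro ⟨y, hy, hyz⟩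
      obtain ⟨y', hy'1, -⟩ := Groth.Agent.Lib.AlgSpPoints.exists_point_of_isPullback sq1 y z' hyz
      obtain ⟨x', rfl⟩ := hs y'
      apply hy
      refine ⟨Points.map gX.hom x', hfl x', ?_⟩
      rw [← hy'1, ← Points.map_comp, ← Points.map_comp, sq2.w]

/-- The image of the flat locus of a morphism locally of finite presentation is open. -/
theorem isOpen_image_flatLocus {X Y : Sp S} (hX : IsAlgSpace X) (hY : IsAlgSpace Y) (f : X ⟶ Y)
    (hf : LocP @LocallyOfFinitePresentation f) :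
    IsOpen (Points.map f '' {x : Points X | IsFlatAtMor f x}) := by
  have hE := Groth.Agent.Lib.AlgSpFlatAt36.isOpen_isFlatAtMor hX hY f hf
  have hj := Groth.Agent.Lib.H86AlgSpOpen.openSubι_repWith (F := X) hE
  have hXE := Groth.Agent.Lib.H86AlgSpOpen.isAlgSpace_openSub hX hE
  have hrange := Groth.Agent.Lib.H86AlgSpOpen.range_map_openSubι (F := X)
    (W := {x : Points X | IsFlatAtMor f x})
  set j := Groth.Agent.Lib.H86AlgSpOpen.openSubι X {x : Points X | IsFlatAtMor f x} with hjdef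
  have hje : RepWith @Etale j := Groth.Agent.Lib.AlgSpLargestOpen.repWith_etale_of_isOpenImmersion hj
  have h1 : LocP @Flat (j ≫ f) := by
    intro U V a b k ha hb comm
    have ha' : RepWith @Etale (a ≫ j) := MorphismProperty.comp_mem _ _ _ ha hje
    have comm' : (a ≫ j) ≫ f = (yon S).map k ≫ b := by rw [Category.assoc]; exact comm
    refine Flat.of_stalkMap _ fun u => ?_
    have hx : Points.ofPt (a ≫ j) u ∈ {x : Points X | IsFlatAtMor f x} :=
      (Set.ext_iff.1 hrange _).1 ⟨Points.ofPt a u, rfl⟩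
    exact hx (a ≫ j) b k u ha' hb comm' rfl
  have h2 : LocP @LocallyOfFinitePresentation (j ≫ f) := by
    intro U V a b k ha hb comm
    have ha' : RepWith @Etale (a ≫ j) := MorphismProperty.comp_mem _ _ _ ha hje
    exact hf (a ≫ j) b k ha' hb (by rw [Category.assoc]; exact comm)
  have hopen : IsOpenMap (Points.map (j ≫ f)) :=
    Groth.Agent.Lib.AlgSpDescent.isOpenMor_of_isUnivOpenMor hY
      (Groth.Agent.Lib.AlgSpDescent.isUnivOpenMor_of_locP_flat_lfp hXE hY h1 h2)
  have : Points.map f '' {x : Points X | IsFlatAtMor f x} = Set.range (Points.map (j ≫ f)) := by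
    ext y
    constructor
    · rintro ⟨x, hx, rfl⟩
      obtain ⟨z, rfl⟩ := (Set.ext_iff.1 hrange x).2 hx
      exact ⟨z, Points.map_comp _ _ z⟩
    · rintro ⟨z, rfl⟩
      exact ⟨Points.map j z, (Set.ext_iff.1 hrange _).1 ⟨z, rfl⟩, (Points.map_comp _ _ z).symm⟩
  rw [this]
  exact hopen.isOpen_range

end Groth.Agent.Lib.AlgSpWhereSurj36
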