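import Groth.Agent.Lib.AlgSpWhere36
import Groth.Agent.Lib.AlgSpNear91
import Groth.Agent.Lib.AlgSpFibreChart36

/-!
# `LocP P` as a pointwise "near" condition (helper36)
-/

set_option autoImplicit false
set_option linter.style.haveILetI false
universe u
open CategoryTheory CategoryTheory.Limits AlgebraicGeometry Opposite

namespace Groth.Agent.Lib.AlgSpWhereUnr36

open AlgSp Groth.Agent.Lib.AlgSpBasic Groth.Agent.Lib.AlgSpLocP Groth.Agent.Lib.AlgSpNear91

variable {S : Scheme.{u}}

/-- For an etale local class which is Zariski local on the source, `LocP P f` is the pointwise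
"`P` near every point" condition. -/
theorem locP_iff_forall_hasAtMor_near {P : MorphismProperty Scheme.{u}} (hP : EtLocalClass P)
    [IsZariskiLocalAtSource P] {X Y : Sp S} (hX : IsAlgSpace X) (hY : IsAlgSpace Y) (f : X ⟶ Y) :
    LocP P f ↔
      ∀ x : Points X, HasAtMor (fun U _ h u => ∃ W : U.Opens, u ∈ W ∧ P (W.ι ≫ h)) f x := by
  have hQ := etLocalAt_near hP
  constructor
  · intro hf x
    obtain ⟨V, b, hb, hbs⟩ := hY.atlas
    obtain ⟨U, a, k, ha, has, comm, -⟩ :=
      Groth.Agent.Lib.AlgSpFibreChart36.exists_global_chart hX f b hb hbs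
    obtain ⟨u, rfl⟩ := Groth.Agent.Lib.H86AlgSpPoints.ofPt_surjective has x
    refine ⟨U, V, a, b, k, u, ha, hb, comm, rfl, ⊤, trivial, ?_⟩
    exact hP.pre _ _ (inferInstance : Etale (⊤ : U.left.Opens).ι) (hf a b k ha hb comm)
  · intro h U V a b k ha hb comm
    have key : ∀ u : ↥U.left, ∃ W : U.left.Opens, u ∈ W ∧ P (W.ι ≫ k.left) := fun u =>
      (hQ.hasAtMor_iff f a b k ha hb comm u).1 (h _)
    choose W hW1 hW2 using key
    refine IsZariskiLocalAtSource.of_iSup_eq_top W ?_ hW2
    rw [eq_top_iff]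
    intro u _
    exact TopologicalSpace.Opens.mem_iSup.2 ⟨u, hW1 u⟩

end Groth.Agent.Lib.AlgSpWhereUnr36
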