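import Groth.Agent.Lib.AlgStBoot

/-!
# Presheaf maps representable by algebraic spaces versus their functors of categories over `(Sch/S)`
(helper64)

* `isAlgSpaceP_of_equivOver_ofSp` : a presheaf whose category is equivalent over the base to the category
  of an algebraic space is an algebraic space.
* `repByAlgSp_ofPsh_of_isAlgSpaceP` : conversely.
* `repBySp_iff_repByAlgSp1_ofPshMap` (= S12777).
-/

set_option autoImplicit false
set_option linter.style.haveILetI false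
set_option backward.isDefEq.respectTransparency false
set_option backward.isDefEq.respectTransparency.types false

namespace Groth.Agent.Lib.AlgStBoot

open CategoryTheory Functor Opposite Limits AlgebraicGeometry Groth.Agent.Lib.FibGrpd
  Groth.Agent.Lib.FpEquiv Groth.Agent.Lib.EquivOver Groth.Agent.Lib.PshFp
  Groth.Agent.Lib.AlgStFp Groth.Agent.Lib.SetoidPsh Groth.Agent.Lib.RepBySpB
  Groth.Agent.Lib.AlgStRepC

universe u

variable {S : Scheme.{u}}

theorem isAlgSpaceP_of_repByAlgSp_ofPsh {F : AlgSp.PSp S} (h : AlgSt.RepByAlgSp (Stk.ofPsh F)) :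
    AlgSp.IsAlgSpaceP F := by
  obtain ⟨A, eA, heA⟩ := h
  obtain ⟨i⟩ := iso_of_equivOver (EquivOver.of heA)
  exact ((AlgSp.isAlgSpaceP_obj_iff A.obj).2 A.property).of_iso i

theorem repByAlgSp_ofPsh_of_isAlgSpaceP {F : AlgSp.PSp S} (h : AlgSp.IsAlgSpaceP F) :
    AlgSt.RepByAlgSp (Stk.ofPsh F) := by
  obtain ⟨hF, hF'⟩ := h
  exact ⟨⟨⟨F, hF⟩, hF'⟩, BasedFunctor.id _, isEquivOver_id⟩

theorem repByAlgSp_ofPsh_iff {F : AlgSp.PSp S} :
    AlgSt.RepByAlgSp (Stk.ofPsh F) ↔ AlgSp.IsAlgSpaceP F :=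
  ⟨isAlgSpaceP_of_repByAlgSp_ofPsh, repByAlgSp_ofPsh_of_isAlgSpaceP⟩

/-- Every functor over the base from a slice to the category of a presheaf comes from a section. -/
theorem exists_ofPshMap_iso_overCat {G : AlgSp.PSp S} (U : Over S)
    (y : FibCat.overCat U ⥤ᵇ Stk.ofPsh G) :
    ∃ ξ : (AlgSp.pyon S).obj U ⟶ G,
      Nonempty (y ≅ BasedFunctor.comp (AlgSt.ofOverCat U) (Stk.ofPshMap ξ)) := by
  let y' : Stk.ofPsh ((AlgSp.pyon S).obj U) ⥤ᵇ Stk.ofPsh G :=
    BasedFunctor.comp (AlgSt.toOverCat U) y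
  refine ⟨pshYonedaMor y', ⟨?_⟩⟩
  have i1 : BasedFunctor.comp (AlgSt.ofOverCat U) y' ≅
      BasedFunctor.comp (AlgSt.ofOverCat U) (Stk.ofPshMap (pshYonedaMor y')) :=
    whiskerLeftIso (AlgSt.ofOverCat U) (pshYonedaIso y')
  have e : BasedFunctor.comp (AlgSt.ofOverCat U) y' = y := rfl
  exact eqToIso e.symm ≪≫ i1

theorem equivOver_fp_ofPshMap_overCat {F G : AlgSp.PSp S} (a : F ⟶ G) {U : Over S}
    (ξ : (AlgSp.pyon S).obj U ⟶ G) {F' : AlgSp.PSp S} {fst : F' ⟶ F}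
    {snd : F' ⟶ (AlgSp.pyon S).obj U} (sq : IsPullback fst snd a ξ) :
    EquivOver (Stk.ofPsh F')
      (FibCat.fp (BasedFunctor.comp (AlgSt.ofOverCat U) (Stk.ofPshMap ξ)) (Stk.ofPshMap a)) := by
  have e1 : EquivOver (Stk.ofPsh F') (FibCat.fp (Stk.ofPshMap a) (Stk.ofPshMap ξ)) :=
    ⟨_, pshFpFunctor_isEquivOver_of_isPullback sq⟩
  have e2 : EquivOver (FibCat.fp (Stk.ofPshMap a) (Stk.ofPshMap ξ))
      (FibCat.fp (Stk.ofPshMap ξ) (Stk.ofPshMap a)) := ⟨_, fpSwap_isEquivOver _ _⟩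
  have e3 : EquivOver
      (FibCat.fp (BasedFunctor.comp (AlgSt.ofOverCat U) (Stk.ofPshMap ξ)) (Stk.ofPshMap a))
      (FibCat.fp (Stk.ofPshMap ξ) (Stk.ofPshMap a)) :=
    fp_precomp_left (AlgSt.ofOverCat U) (ofOverCat_isEquivOver U) (Stk.ofPshMap ξ) _
  exact e1.trans (e2.trans e3.symm)

/-- A map of presheaves is representable by algebraic spaces iff the associated functor of categories
over `(Sch/S)` is. -/
theorem repBySp_iff_repByAlgSp1_ofPshMap {F G : AlgSp.PSp S} (a : F ⟶ G) :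
    AlgSp.RepBySp a ↔ AlgSt.RepByAlgSp1 (Stk.ofPshMap a) := by
  constructor
  · intro ha U y
    obtain ⟨ξ, ⟨γ⟩⟩ := exists_ofPshMap_iso_overCat U y
    have sq : IsPullback (pullback.fst a ξ) (pullback.snd a ξ) a ξ := IsPullback.of_hasPullback a ξ
    have h1 : AlgSp.IsAlgSpaceP (pullback a ξ) := ha ξ _ _ sq
    have e1 := equivOver_fp_ofPshMap_overCat a ξ sq
    have e2 : EquivOver (FibCat.fp y (Stk.ofPshMap a))
        (FibCat.fp (BasedFunctor.comp (AlgSt.ofOverCat U) (Stk.ofPshMap ξ)) (Stk.ofPshMap a)) :=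
      fp_congr_left γ _
    exact repByAlgSp_of_equivOver (e1.trans e2.symm) (repByAlgSp_ofPsh_of_isAlgSpaceP h1)
  · intro h U ξ F' fst snd sq
    have e1 := equivOver_fp_ofPshMap_overCat a ξ sq
    exact isAlgSpaceP_of_repByAlgSp_ofPsh (repByAlgSp_of_equivOver e1.symm (h U _))

end Groth.Agent.Lib.AlgStBoot
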