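import Groth.Agent.Lib.AlgStEquiv

/-!
# Diagonals: testing on base changes to schemes (helper36)
-/

set_option autoImplicit false
set_option linter.style.haveILetI false
set_option backward.isDefEq.respectTransparency false
set_option backward.isDefEq.respectTransparency.types false

namespace Groth.Agent.Lib.AlgStDiag2

open CategoryTheory AlgebraicGeometry Opposite Groth.Agent.Lib.FibGrpd Groth.Agent.Lib.FpEquiv
  Groth.Agent.Lib.AlgStRep Groth.Agent.Lib.AlgStRepC Groth.Agent.Lib.AlgStDiag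
  Groth.Agent.Lib.AlgStEquiv

universe w v₅ u₅ v₄ u₄ v₃ u₃ v₂ u₂ v u

section Lift

variable {C : Type u} [Category.{v} C] {𝒳 : BasedCategory.{v₂, u₂} C}
  {𝒴 : BasedCategory.{v₃, u₃} C} {𝒰 : BasedCategory.{v₄, u₄} C} (f : 𝒳 ⥤ᵇ 𝒴)
  (w : 𝒰 ⥤ᵇ FibCat.fp f f)

/-- The functor `𝒰 ⟶ 𝒴` through the first factor. -/
abbrev baseOf : 𝒰 ⥤ᵇ 𝒴 := BasedFunctor.comp (BasedFunctor.comp w (FibCat.fpFst f f)) f

/-- First section of `𝒰 ×_𝒴 𝒳 ⟶ 𝒰`. -/
def sec₁ : 𝒰 ⥤ᵇ FibCat.fp (baseOf f w) f :=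
  FibCat.fpLift (BasedFunctor.id 𝒰) (BasedFunctor.comp w (FibCat.fpFst f f)) (Iso.refl _)

/-- Second section of `𝒰 ×_𝒴 𝒳 ⟶ 𝒰`. -/
def sec₂ : 𝒰 ⥤ᵇ FibCat.fp (baseOf f w) f :=
  FibCat.fpLift (BasedFunctor.id 𝒰) (BasedFunctor.comp w (FibCat.fpSnd f f))
    (whiskerLeftIso w (FibCat.fpIso f f))

/-- The lift of `w` to the self-product of `𝒰 ×_𝒴 𝒳` over `𝒰`. -/
def liftW : 𝒰 ⥤ᵇ FibCat.fp (FibCat.fpFst (baseOf f w) f) (FibCat.fpFst (baseOf f w) f) :=
  FibCat.fpLift (sec₁ f w) (sec₂ f w) (Iso.refl _)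

theorem liftW_pi_iso_hom (t : 𝒰.obj) :
    ((diagPi f (baseOf f w)).obj ((liftW f w).obj t)).obj.iso.hom = (w.obj t).obj.iso.hom := by
  rw [diagPi_obj_iso_hom]
  show 𝟙 (f.obj (w.obj t).obj.fst) ≫ (baseOf f w).map (𝟙 t) ≫ (w.obj t).obj.iso.hom = _
  have h : (baseOf f w).map (𝟙 t) = 𝟙 ((baseOf f w).obj t) := (baseOf f w).toFunctor.map_id t
  rw [h, Category.id_comp]
  exact Category.id_comp _

/-- The component of `liftW ⋙ π ≅ w`. -/
def liftWObjIso (t : 𝒰.obj) :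
    (diagPi f (baseOf f w)).obj ((liftW f w).obj t) ≅ w.obj t where
  hom := ObjectProperty.homMk
    { fst := 𝟙 (w.obj t).obj.fst
      snd := 𝟙 (w.obj t).obj.snd
      w := by
        have h := liftW_pi_iso_hom f w t
        show f.map (𝟙 (w.obj t).obj.fst) ≫ (w.obj t).obj.iso.hom =
          ((diagPi f (baseOf f w)).obj ((liftW f w).obj t)).obj.iso.hom ≫
            f.map (𝟙 (w.obj t).obj.snd)
        have e1 : f.map (𝟙 (w.obj t).obj.fst) = 𝟙 _ := f.toFunctor.map_id _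
        have e2 : f.map (𝟙 (w.obj t).obj.snd) = 𝟙 _ := f.toFunctor.map_id _
        calc f.map (𝟙 (w.obj t).obj.fst) ≫ (w.obj t).obj.iso.hom
            = 𝟙 _ ≫ (w.obj t).obj.iso.hom := congrArg (· ≫ (w.obj t).obj.iso.hom) e1
          _ = (w.obj t).obj.iso.hom := Category.id_comp _
          _ = (w.obj t).obj.iso.hom ≫ 𝟙 _ := (Category.comp_id _).symm
          _ = (w.obj t).obj.iso.hom ≫ f.map (𝟙 (w.obj t).obj.snd) :=
              congrArg ((w.obj t).obj.iso.hom ≫ ·) e2.symm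
          _ = _ := congrArg (· ≫ f.map (𝟙 (w.obj t).obj.snd)) h.symm }
  inv := ObjectProperty.homMk
    { fst := 𝟙 (w.obj t).obj.fst
      snd := 𝟙 (w.obj t).obj.snd
      w := by
        have h := liftW_pi_iso_hom f w t
        show f.map (𝟙 (w.obj t).obj.fst) ≫
            ((diagPi f (baseOf f w)).obj ((liftW f w).obj t)).obj.iso.hom =
          (w.obj t).obj.iso.hom ≫ f.map (𝟙 (w.obj t).obj.snd)
        have e1 : f.map (𝟙 (w.obj t).obj.fst) = 𝟙 _ := f.toFunctor.map_id _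
        have e2 : f.map (𝟙 (w.obj t).obj.snd) = 𝟙 _ := f.toFunctor.map_id _
        calc f.map (𝟙 (w.obj t).obj.fst) ≫
              ((diagPi f (baseOf f w)).obj ((liftW f w).obj t)).obj.iso.hom
            = f.map (𝟙 (w.obj t).obj.fst) ≫ (w.obj t).obj.iso.hom :=
              congrArg (f.map (𝟙 (w.obj t).obj.fst) ≫ ·) h
          _ = 𝟙 _ ≫ (w.obj t).obj.iso.hom := congrArg (· ≫ (w.obj t).obj.iso.hom) e1
          _ = (w.obj t).obj.iso.hom := Category.id_comp _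
          _ = (w.obj t).obj.iso.hom ≫ 𝟙 _ := (Category.comp_id _).symm
          _ = (w.obj t).obj.iso.hom ≫ f.map (𝟙 (w.obj t).obj.snd) :=
              congrArg ((w.obj t).obj.iso.hom ≫ ·) e2.symm }
  hom_inv_id := fp_hom_ext _ _ (Category.id_comp _) (Category.id_comp _)
  inv_hom_id := fp_hom_ext _ _ (Category.id_comp _) (Category.id_comp _)

/-- `liftW ⋙ π ≅ w`. -/
def liftWIso : BasedFunctor.comp (liftW f w) (diagPi f (baseOf f w)) ≅ w :=
  BasedNatIso.mkNatIso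
    (NatIso.ofComponents (fun t => liftWObjIso f w t) (fun {s t} m => by
      refine fp_hom_ext _ _ ?_ ?_
      · show (w.map m).hom.fst ≫ 𝟙 (w.obj t).obj.fst = 𝟙 (w.obj s).obj.fst ≫ (w.map m).hom.fst
        rw [Category.comp_id, Category.id_comp]
      · show (w.map m).hom.snd ≫ 𝟙 (w.obj t).obj.snd = 𝟙 (w.obj s).obj.snd ≫ (w.map m).hom.snd
        rw [Category.comp_id, Category.id_comp]))
    (fun t => by
      show (FibCat.fp f f).p.IsHomLift (𝟙 (𝒰.p.obj t)) (liftWObjIso f w t).hom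
      rw [fp_isHomLift_iff]
      exact IsHomLift.id (w.w_obj t))

end Lift

section Test

variable {S : Scheme.{u}} {𝒳 : BasedCategory.{v₂, u₂} (Over S)}
  {𝒴 : BasedCategory.{v₃, u₃} (Over S)} {𝒵 : BasedCategory.{v₄, u₄} (Over S)}

/-- Pasting, pointwise form. -/
theorem repData_paste_iff (P : MorphismProperty (AlgSp.Sp S)) {U : Over S}
    (h : FibCat.overCat U ⥤ᵇ 𝒵) (g : 𝒵 ⥤ᵇ 𝒴) (f : 𝒳 ⥤ᵇ 𝒴) :
    RepData P (FibCat.fpFst h (FibCat.fpFst g f)) ↔
      RepData P (FibCat.fpFst (BasedFunctor.comp h g) f) :=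
  repData_iff_of_equiv (fpPasteLeft h g f) (fpPasteLeft_isEquivOver h g f) (Iso.refl _)

/-- Pointwise form of the base change of diagonals: a test object of `𝒳' ×_𝒵 𝒳'` and its image in
`𝒳 ×_𝒴 𝒳` have the same fibre products with the diagonals. -/
theorem repData_diag_iff (P : MorphismProperty (AlgSp.Sp S)) (f : 𝒳 ⥤ᵇ 𝒴) (g : 𝒵 ⥤ᵇ 𝒴)
    {U : Over S} (w' : FibCat.overCat U ⥤ᵇ FibCat.fp (FibCat.fpFst g f) (FibCat.fpFst g f)) :
    RepData P (FibCat.fpFst w' (FibCat.diag (FibCat.fpFst g f))) ↔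
      RepData P (FibCat.fpFst (BasedFunctor.comp w' (diagPi f g)) (FibCat.diag f)) := by
  have step1 : RepData P (FibCat.fpFst w' (FibCat.diag (FibCat.fpFst g f))) ↔
      RepData P (FibCat.fpFst w' (FibCat.fpFst (diagPi f g) (FibCat.diag f))) :=
    (repData_fpMap_iff P (f := FibCat.fpFst (diagPi f g) (FibCat.diag f))
      (f' := FibCat.diag (FibCat.fpFst g f)) (diagLift f g)
      (BasedFunctor.id (FibCat.fp (FibCat.fpFst g f) (FibCat.fpFst g f)))
      (diagLift_isEquivOver f g) isEquivOver_id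
      w' w' (compIdIso w' ≪≫ (idCompIso w').symm)
      (compIdIso (FibCat.diag (FibCat.fpFst g f))))
  have step2 : RepData P (FibCat.fpFst w' (FibCat.fpFst (diagPi f g) (FibCat.diag f))) ↔
      RepData P (FibCat.fpFst (BasedFunctor.comp w' (diagPi f g)) (FibCat.diag f)) :=
    repData_paste_iff P w' (diagPi f g) (FibCat.diag f)
  exact step1.trans step2

/-- `RepData` only depends on the test functor up to 2-isomorphism. -/
theorem repData_congr (P : MorphismProperty (AlgSp.Sp S)) (f : 𝒳 ⥤ᵇ 𝒴) {U : Over S}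
    {y y' : FibCat.overCat U ⥤ᵇ 𝒴} (α : y' ≅ y) :
    RepData P (FibCat.fpFst y' f) ↔ RepData P (FibCat.fpFst y f) :=
  repData_fpMap_iff P (BasedFunctor.id 𝒳) (BasedFunctor.id 𝒴) isEquivOver_id isEquivOver_id y y'
    (compIdIso y' ≪≫ α ≪≫ (idCompIso y).symm) (compIdIso f ≪≫ (idCompIso f).symm)

/-- The diagonal of `f` has `P` iff the diagonals of all base changes of `f` to schemes have `P`. -/
theorem repByAlgSpWith_diag_iff_forall_fpFst (P : MorphismProperty (AlgSp.Sp S)) (f : 𝒳 ⥤ᵇ 𝒴) :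
    AlgSt.RepByAlgSpWith P (FibCat.diag f) ↔
      ∀ (T : Over S) (y : FibCat.overCat T ⥤ᵇ 𝒴),
        AlgSt.RepByAlgSpWith P (FibCat.diag (FibCat.fpFst y f)) := by
  constructor
  · intro h T y
    exact repByAlgSpWith_diag_fpFst P f y h
  · intro h U w
    have h1 := h U (baseOf f w) U (liftW f w)
    have h2 := (repData_diag_iff P f (baseOf f w) (liftW f w)).1 h1
    exact (repData_congr P (FibCat.diag f) (liftWIso f w)).1 h2

end Test

end Groth.Agent.Lib.AlgStDiag2
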