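import Groth.Agent.Lib.AlgStRepC

/-!
# The diagonal of a base change is a base change of the diagonal (helper36)

For `f : 𝒳 ⟶ 𝒴`, `g : 𝒵 ⟶ 𝒴` over `C`, with `𝒳' = 𝒵 ×_𝒴 𝒳`, `f' : 𝒳' ⟶ 𝒵`, the square formed by the
diagonals of `f'` and `f`, the projection `𝒳' ⟶ 𝒳` and the induced `𝒳' ×_𝒵 𝒳' ⟶ 𝒳 ×_𝒴 𝒳` is 2-cartesian over
`C` (`diagLift_isEquivOver`).  Consequences for `AlgSt.RepByAlgSpWith`.
-/

set_option autoImplicit false
set_option linter.style.haveILetI false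
set_option backward.isDefEq.respectTransparency false
set_option backward.isDefEq.respectTransparency.types false

namespace Groth.Agent.Lib.AlgStDiag

open CategoryTheory AlgebraicGeometry Opposite Groth.Agent.Lib.FibGrpd Groth.Agent.Lib.FpEquiv
  Groth.Agent.Lib.AlgStRep Groth.Agent.Lib.AlgStRepC

universe w v₅ u₅ v₄ u₄ v₃ u₃ v₂ u₂ v u

section FpIso

variable {C : Type u} [Category.{v} C] {𝒳 : BasedCategory.{v₂, u₂} C}
  {𝒴 : BasedCategory.{v₃, u₃} C} {𝒮 : BasedCategory.{v₄, u₄} C} (F : 𝒳 ⥤ᵇ 𝒮) (G : 𝒴 ⥤ᵇ 𝒮)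

theorem fp_hom_ext {X Y : (FibCat.fp F G).obj} {m n : X ⟶ Y} (h1 : m.hom.fst = n.hom.fst)
    (h2 : m.hom.snd = n.hom.snd) : m = n := by
  apply ObjectProperty.hom_ext
  exact Limits.CategoricalPullback.hom_ext h1 h2

/-- A morphism of a 2-fibre product with invertible components is invertible. -/
theorem fp_isIso_of {X Y : (FibCat.fp F G).obj} (m : X ⟶ Y) [IsIso m.hom.fst] [IsIso m.hom.snd] :
    IsIso m := by
  have hw : F.map m.hom.fst ≫ Y.obj.iso.hom = X.obj.iso.hom ≫ G.map m.hom.snd := m.hom.w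
  have hw' : F.map (inv m.hom.fst) ≫ X.obj.iso.hom = Y.obj.iso.hom ≫ G.map (inv m.hom.snd) := by
    have e1 : F.map (inv m.hom.fst) = inv (F.map m.hom.fst) := Functor.map_inv F.toFunctor m.hom.fst
    have e2 : G.map (inv m.hom.snd) = inv (G.map m.hom.snd) := Functor.map_inv G.toFunctor m.hom.snd
    rw [e1, e2, IsIso.inv_comp_eq, ← Category.assoc, IsIso.eq_comp_inv]
    exact hw.symm
  refine ⟨⟨ObjectProperty.homMk { fst := inv m.hom.fst, snd := inv m.hom.snd, w := hw' }, ?_, ?_⟩⟩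
  · exact fp_hom_ext F G (IsIso.hom_inv_id m.hom.fst) (IsIso.hom_inv_id m.hom.snd)
  · exact fp_hom_ext F G (IsIso.inv_hom_id m.hom.fst) (IsIso.inv_hom_id m.hom.snd)

instance fp_isIso_fst {X Y : (FibCat.fp F G).obj} (m : X ⟶ Y) [IsIso m] : IsIso m.hom.fst :=
  inferInstanceAs (IsIso ((FibCat.fpFst F G).toFunctor.map m))

instance fp_isIso_snd {X Y : (FibCat.fp F G).obj} (m : X ⟶ Y) [IsIso m] : IsIso m.hom.snd :=
  inferInstanceAs (IsIso ((FibCat.fpSnd F G).toFunctor.map m))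

end FpIso

section DiagSquare

variable {C : Type u} [Category.{v} C] {𝒳 : BasedCategory.{v₂, u₂} C}
  {𝒴 : BasedCategory.{v₃, u₃} C} {𝒵 : BasedCategory.{v₄, u₄} C} (f : 𝒳 ⥤ᵇ 𝒴) (g : 𝒵 ⥤ᵇ 𝒴)

/-- The functor `𝒳' ×_𝒵 𝒳' ⟶ 𝒳 ×_𝒴 𝒳` induced by the projection `𝒳' = 𝒵 ×_𝒴 𝒳 ⟶ 𝒳`. -/
def diagPi : FibCat.fp (FibCat.fpFst g f) (FibCat.fpFst g f) ⥤ᵇ FibCat.fp f f :=
  fpMap (FibCat.fpSnd g f) (FibCat.fpSnd g f) g (FibCat.fpIso g f) (FibCat.fpIso g f)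

theorem diagPi_obj_iso_hom (w : (FibCat.fp (FibCat.fpFst g f) (FibCat.fpFst g f)).obj) :
    ((diagPi f g).obj w).obj.iso.hom =
      w.obj.fst.obj.iso.inv ≫ g.map w.obj.iso.hom ≫ w.obj.snd.obj.iso.hom := rfl

/-- The component of the 2-isomorphism filling the square. -/
def diagSqObjIso (x : (FibCat.fp g f).obj) :
    (diagPi f g).obj ((FibCat.diag (FibCat.fpFst g f)).obj x) ≅
      (FibCat.diag f).obj ((FibCat.fpSnd g f).obj x) where
  hom := ObjectProperty.homMk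
    { fst := 𝟙 x.obj.snd
      snd := 𝟙 x.obj.snd
      w := by
        show f.map (𝟙 x.obj.snd) ≫ 𝟙 (f.obj x.obj.snd) =
          (x.obj.iso.inv ≫ g.map (𝟙 x.obj.fst) ≫ x.obj.iso.hom) ≫ f.map (𝟙 x.obj.snd)
        simp }
  inv := ObjectProperty.homMk
    { fst := 𝟙 x.obj.snd
      snd := 𝟙 x.obj.snd
      w := by
        show f.map (𝟙 x.obj.snd) ≫ (x.obj.iso.inv ≫ g.map (𝟙 x.obj.fst) ≫ x.obj.iso.hom) =
          𝟙 (f.obj x.obj.snd) ≫ f.map (𝟙 x.obj.snd)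
        simp }
  hom_inv_id := by
    apply ObjectProperty.hom_ext
    exact Limits.CategoricalPullback.hom_ext (Category.id_comp _) (Category.id_comp _)
  inv_hom_id := by
    apply ObjectProperty.hom_ext
    exact Limits.CategoricalPullback.hom_ext (Category.id_comp _) (Category.id_comp _)

theorem diagSqObjIso_hom_fst (x : (FibCat.fp g f).obj) :
    (diagSqObjIso f g x).hom.hom.fst = 𝟙 x.obj.snd := rfl

theorem diagSqObjIso_hom_snd (x : (FibCat.fp g f).obj) :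
    (diagSqObjIso f g x).hom.hom.snd = 𝟙 x.obj.snd := rfl

/-- The 2-isomorphism filling the square of diagonals. -/
def diagSqIso : BasedFunctor.comp (FibCat.diag (FibCat.fpFst g f)) (diagPi f g) ≅
    BasedFunctor.comp (FibCat.fpSnd g f) (FibCat.diag f) :=
  BasedNatIso.mkNatIso
    (NatIso.ofComponents (fun x => diagSqObjIso f g x) (fun {x y} m => by
      apply ObjectProperty.hom_ext
      refine Limits.CategoricalPullback.hom_ext ?_ ?_
      · show m.hom.snd ≫ 𝟙 y.obj.snd = 𝟙 x.obj.snd ≫ m.hom.snd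
        rw [Category.comp_id, Category.id_comp]
      · show m.hom.snd ≫ 𝟙 y.obj.snd = 𝟙 x.obj.snd ≫ m.hom.snd
        rw [Category.comp_id, Category.id_comp]))
    (fun x => by
      show (FibCat.fp f f).p.IsHomLift (𝟙 (𝒵.p.obj x.obj.fst)) (diagSqObjIso f g x).hom
      rw [fp_isHomLift_iff]
      exact IsHomLift.id (fp_snd_proj g f x))

/-- The comparison functor `𝒳' ⟶ (𝒳' ×_𝒵 𝒳') ×_{𝒳 ×_𝒴 𝒳} 𝒳`. -/
def diagLift : FibCat.fp g f ⥤ᵇ FibCat.fp (diagPi f g) (FibCat.diag f) :=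
  FibCat.fpLift (FibCat.diag (FibCat.fpFst g f)) (FibCat.fpSnd g f) (diagSqIso f g)

theorem diagLift_faithful : (diagLift f g).toFunctor.Faithful where
  map_injective {x y} m n hmn :=
    congrArg (fun k : (diagLift f g).obj x ⟶ (diagLift f g).obj y => k.hom.fst.hom.fst) hmn

theorem diagLift_full : (diagLift f g).toFunctor.Full where
  map_surjective {x y} n := by
    let m₁ : x ⟶ y := n.hom.fst.hom.fst
    let m₂ : x ⟶ y := n.hom.fst.hom.snd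
    let ξ : x.obj.snd ⟶ y.obj.snd := n.hom.snd
    have h1 : m₁.hom.fst ≫ 𝟙 y.obj.fst = 𝟙 x.obj.fst ≫ m₂.hom.fst := n.hom.fst.hom.w
    have h2 : (diagPi f g).map n.hom.fst ≫ (diagSqObjIso f g y).hom =
        (diagSqObjIso f g x).hom ≫ (FibCat.diag f).map ξ := n.hom.w
    have h3 : m₁.hom.snd ≫ 𝟙 y.obj.snd = 𝟙 x.obj.snd ≫ ξ :=
      congrArg (fun k : (diagPi f g).obj ((FibCat.diag (FibCat.fpFst g f)).obj x) ⟶
        (FibCat.diag f).obj y.obj.snd => k.hom.fst) h2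
    have h4 : m₂.hom.snd ≫ 𝟙 y.obj.snd = 𝟙 x.obj.snd ≫ ξ :=
      congrArg (fun k : (diagPi f g).obj ((FibCat.diag (FibCat.fpFst g f)).obj x) ⟶
        (FibCat.diag f).obj y.obj.snd => k.hom.snd) h2
    rw [Category.comp_id, Category.id_comp] at h1 h3 h4
    have h12 : m₁ = m₂ := fp_hom_ext g f h1 (h3.trans h4.symm)
    refine ⟨m₁, ?_⟩
    refine fp_hom_ext _ _ ?_ h3
    exact fp_hom_ext _ _ rfl h12

theorem diagLift_isEquivOver : FibCat.IsEquivOver (diagLift f g) := by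
  haveI := diagLift_faithful f g
  haveI := diagLift_full f g
  apply isEquivOver_of_ff_of_ess
  intro z
  let w : (FibCat.fp (FibCat.fpFst g f) (FibCat.fpFst g f)).obj := z.obj.fst
  let x : 𝒳.obj := z.obj.snd
  let x₁ : (FibCat.fp g f).obj := w.obj.fst
  let x₂ : (FibCat.fp g f).obj := w.obj.snd
  let θ : x₁.obj.fst ≅ x₂.obj.fst := w.obj.iso
  let φ₁ : g.obj x₁.obj.fst ≅ f.obj x₁.obj.snd := x₁.obj.iso
  let φ₂ : g.obj x₂.obj.fst ≅ f.obj x₂.obj.snd := x₂.obj.iso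
  let ι : (diagPi f g).obj w ≅ (FibCat.diag f).obj x := z.obj.iso
  let a₁ : x₁.obj.snd ⟶ x := ι.hom.hom.fst
  let a₂ : x₂.obj.snd ⟶ x := ι.hom.hom.snd
  let b₂ : x ⟶ x₂.obj.snd := ι.inv.hom.snd
  have hab₂ : a₂ ≫ b₂ = 𝟙 _ :=
    congrArg (fun k : (diagPi f g).obj w ⟶ (diagPi f g).obj w => k.hom.snd) ι.hom_inv_id
  have hba₂ : b₂ ≫ a₂ = 𝟙 _ :=
    congrArg (fun k : (FibCat.diag f).obj x ⟶ (FibCat.diag f).obj x => k.hom.snd) ι.inv_hom_id
  have hι : f.map a₁ ≫ 𝟙 (f.obj x) = (φ₁.inv ≫ g.map θ.hom ≫ φ₂.hom) ≫ f.map a₂ := ι.hom.hom.w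
  have hb : g.map θ.hom ≫ φ₂.hom = φ₁.hom ≫ f.map (a₁ ≫ b₂) := by
    have e1 : φ₁.hom ≫ f.map a₁ = g.map θ.hom ≫ φ₂.hom ≫ f.map a₂ := by
      rw [Category.comp_id] at hι
      rw [hι]
      simp only [Category.assoc, Iso.hom_inv_id_assoc]
    calc g.map θ.hom ≫ φ₂.hom
        = g.map θ.hom ≫ φ₂.hom ≫ f.map (a₂ ≫ b₂) := by
          rw [hab₂, f.map_id, Category.comp_id]
      _ = (g.map θ.hom ≫ φ₂.hom ≫ f.map a₂) ≫ f.map b₂ := by
          rw [f.map_comp]; simp only [Category.assoc]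
      _ = φ₁.hom ≫ f.map (a₁ ≫ b₂) := by
          rw [← e1, f.map_comp, Category.assoc]
  let b : x₁ ⟶ x₂ := ObjectProperty.homMk { fst := θ.hom, snd := a₁ ≫ b₂, w := hb }
  have hew : (FibCat.fpFst g f).map (𝟙 x₁) ≫ θ.hom =
      𝟙 ((FibCat.fpFst g f).obj x₁) ≫ (FibCat.fpFst g f).map b := by
    show 𝟙 x₁.obj.fst ≫ θ.hom = 𝟙 x₁.obj.fst ≫ θ.hom
    rfl
  let ew : (FibCat.diag (FibCat.fpFst g f)).obj x₁ ⟶ w :=
    ObjectProperty.homMk { fst := 𝟙 x₁, snd := b, w := hew }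
  have he : (diagPi f g).map ew ≫ ι.hom =
      (diagSqObjIso f g x₁).hom ≫ (FibCat.diag f).map a₁ := by
    refine fp_hom_ext _ _ ?_ ?_
    · show 𝟙 x₁.obj.snd ≫ a₁ = 𝟙 x₁.obj.snd ≫ a₁
      rfl
    · show (a₁ ≫ b₂) ≫ a₂ = 𝟙 x₁.obj.snd ≫ a₁
      rw [Category.assoc, hba₂, Category.comp_id, Category.id_comp]
  let e : (diagLift f g).obj x₁ ⟶ z := ObjectProperty.homMk { fst := ew, snd := a₁, w := he }
  haveI : IsIso ι.hom.hom.fst := inferInstance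
  haveI : IsIso ι.hom.hom.snd := inferInstance
  haveI : IsIso ι.inv.hom.snd := inferInstance
  haveI hia₁ : IsIso a₁ := inferInstanceAs (IsIso ι.hom.hom.fst)
  haveI hib₂ : IsIso b₂ := inferInstanceAs (IsIso ι.inv.hom.snd)
  haveI hib : IsIso b := by
    haveI : IsIso b.hom.fst := inferInstanceAs (IsIso θ.hom)
    haveI : IsIso b.hom.snd := inferInstanceAs (IsIso (a₁ ≫ b₂))
    exact fp_isIso_of g f b
  haveI hiew : IsIso ew := by
    haveI : IsIso ew.hom.fst := inferInstanceAs (IsIso (𝟙 x₁))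
    haveI : IsIso ew.hom.snd := hib
    exact fp_isIso_of _ _ ew
  haveI hie : IsIso e := by
    haveI : IsIso e.hom.fst := hiew
    haveI : IsIso e.hom.snd := hia₁
    exact fp_isIso_of _ _ e
  refine ⟨x₁, asIso e, ?_⟩
  show (FibCat.fp (diagPi f g) (FibCat.diag f)).p.IsHomLift (𝟙 (𝒵.p.obj x₁.obj.fst)) e
  rw [fp_isHomLift_iff, fp_isHomLift_iff, fp_isHomLift_iff]
  exact IsHomLift.id rfl

end DiagSquare

section Consequences

variable {S : Scheme.{u}}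

/-- Transfer of `RepByAlgSpWith` along a 2-cartesian square over `(Sch/S)`. -/
theorem repByAlgSpWith_of_isTwoCartOver {𝒜 : BasedCategory.{v₂, u₂} (Over S)}
    {ℬ : BasedCategory.{v₃, u₃} (Over S)} {𝒞 : BasedCategory.{v₄, u₄} (Over S)}
    {𝒟 : BasedCategory.{v₅, u₅} (Over S)} (P : MorphismProperty (AlgSp.Sp S))
    {l : 𝒞 ⥤ᵇ 𝒟} {q : ℬ ⥤ᵇ 𝒟} (p : 𝒜 ⥤ᵇ 𝒞) (k : 𝒜 ⥤ᵇ ℬ)
    (β : BasedFunctor.comp p l ≅ BasedFunctor.comp k q) (h : FibCat.IsTwoCartOver p k β)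
    (hq : AlgSt.RepByAlgSpWith P q) : AlgSt.RepByAlgSpWith P p := by
  have h1 : AlgSt.RepByAlgSpWith P (FibCat.fpFst l q) := repByAlgSpWith_fpFst P q l hq
  exact (repByAlgSpWith_iff_of_square P (FibCat.fpFst l q) p (FibCat.fpLift p k β)
    (BasedFunctor.id 𝒞) h isEquivOver_id (compIdIso _)).mp h1

variable {𝒳 : BasedCategory.{v₂, u₂} (Over S)} {𝒴 : BasedCategory.{v₃, u₃} (Over S)}
  {𝒵 : BasedCategory.{v₄, u₄} (Over S)}

/-- If the diagonal of `f` is representable by algebraic spaces with `P`, so is the diagonal of any base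
change `𝒵 ×_𝒴 𝒳 ⟶ 𝒵` of `f`. -/
theorem repByAlgSpWith_diag_fpFst (P : MorphismProperty (AlgSp.Sp S)) (f : 𝒳 ⥤ᵇ 𝒴) (g : 𝒵 ⥤ᵇ 𝒴)
    (hf : AlgSt.RepByAlgSpWith P (FibCat.diag f)) :
    AlgSt.RepByAlgSpWith P (FibCat.diag (FibCat.fpFst g f)) :=
  repByAlgSpWith_of_isTwoCartOver P (FibCat.diag (FibCat.fpFst g f)) (FibCat.fpSnd g f)
    (diagSqIso f g) (diagLift_isEquivOver f g) hf

end Consequences

end Groth.Agent.Lib.AlgStDiag
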