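import Groth.Prelude.Def_FibCat2
import Groth.Prelude.Def_W4stkcategoriessitesFib
import Mathlib.CategoryTheory.Groupoid

set_option autoImplicit false
set_option linter.style.haveILetI false

namespace Groth.Agent.Lib.FibGrpd

open CategoryTheory Functor

universe v₄ u₄ v₃ u₃ v₂ u₂ v u

section Basic

variable {C : Type u} [Category.{v} C] {𝒳 : Type u₂} [Category.{v₂} 𝒳] (p : 𝒳 ⥤ C)

/-- In a category fibred in groupoids every hom-lift is strongly cartesian. -/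
theorem isStronglyCartesian_of_isHomLift [FibCat.IsFibGrpd p] {R S : C} (f : R ⟶ S) {a b : 𝒳}
    (φ : a ⟶ b) [p.IsHomLift f φ] : p.IsStronglyCartesian f φ := by
  subst_hom_lift p f φ
  exact FibCat.IsFibGrpd.isStronglyCartesian φ

theorem isFibered [FibCat.IsFibGrpd p] : p.IsFibered := by
  apply IsFibered.of_exists_isStronglyCartesian
  intro a R f
  obtain ⟨y, φ, hφ⟩ := FibCat.IsFibGrpd.exists_lift (p := p) f
  exact ⟨y, φ, isStronglyCartesian_of_isHomLift p f φ⟩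

theorem isIso_of_isHomLift_isIso [FibCat.IsFibGrpd p] {R S : C} (f : R ⟶ S) [IsIso f] {a b : 𝒳}
    (φ : a ⟶ b) [p.IsHomLift f φ] : IsIso φ := by
  haveI := isStronglyCartesian_of_isHomLift p f φ
  exact IsStronglyCartesian.isIso_of_base_isIso p f φ

theorem isGroupoid_fiber [FibCat.IsFibGrpd p] (U : C) : IsGroupoid (p.Fiber U) := by
  constructor
  intro a b φ
  haveI : p.IsHomLift (𝟙 U) φ.1 := φ.2
  haveI : IsIso φ.1 := isIso_of_isHomLift_isIso p (𝟙 U) φ.1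
  refine ⟨⟨⟨inv φ.1, inferInstance⟩, ?_, ?_⟩⟩
  · apply Subtype.ext
    exact IsIso.hom_inv_id φ.1
  · apply Subtype.ext
    exact IsIso.inv_hom_id φ.1

theorem isFibGrpd_of_isFibered [p.IsFibered] (h : ∀ U, IsGroupoid (p.Fiber U)) :
    FibCat.IsFibGrpd p where
  exists_lift {x V} f := by
    obtain ⟨y, φ, hφ⟩ := IsPreFibered.exists_isCartesian p (a := x) rfl f
    exact ⟨y, φ, inferInstance⟩
  isStronglyCartesian {y x} φ := by
    obtain ⟨y', ψ, hψ⟩ := IsPreFibered.exists_isCartesian p (a := x) rfl (p.map φ)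
    let χ := IsCartesian.map p (p.map φ) ψ φ
    have hχ : χ ≫ ψ = φ := IsCartesian.fac p (p.map φ) ψ φ
    haveI := h (p.obj y)
    have hiso : IsIso (Fiber.homMk p (p.obj y) χ) := IsGroupoid.all_isIso _
    haveI : IsIso χ := by
      have := Functor.map_isIso (Fiber.fiberInclusion (p := p) (S := p.obj y))
        (Fiber.homMk p (p.obj y) χ)
      simpa using this
    have hcomp : p.IsStronglyCartesian (𝟙 (p.obj y) ≫ p.map φ) (χ ≫ ψ) := inferInstance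
    rw [hχ, Category.id_comp] at hcomp
    exact hcomp

theorem isFibGrpd_iff : FibCat.IsFibGrpd p ↔ (p.IsFibered ∧ ∀ U : C, IsGroupoid (p.Fiber U)) :=
  ⟨fun _ => ⟨isFibered p, isGroupoid_fiber p⟩, fun ⟨_, h⟩ => isFibGrpd_of_isFibered p h⟩

end Basic

section Fiberwise

variable {C : Type u} [Category.{v} C] {𝒳 : BasedCategory.{v₂, u₂} C}
  {𝒴 : BasedCategory.{v₃, u₃} C} (G : 𝒳 ⥤ᵇ 𝒴)

theorem faithful_fiberFunctor [G.toFunctor.Faithful] (U : C) :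
    (FibCat.fiberFunctor G U).Faithful where
  map_injective {a b} φ ψ h := by
    apply Subtype.ext
    apply G.toFunctor.map_injective
    exact congrArg Subtype.val h

theorem full_fiberFunctor [G.toFunctor.Full] (U : C) : (FibCat.fiberFunctor G U).Full where
  map_surjective {a b} θ := by
    obtain ⟨φ, hφ⟩ := G.toFunctor.map_surjective θ.1
    have h1 : 𝒴.p.IsHomLift (𝟙 U) (G.map φ) := by
      have := θ.2
      rw [← hφ] at this
      exact this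
    have h2 : 𝒳.p.IsHomLift (𝟙 U) φ := G.isHomLift_map (𝟙 U) φ
    exact ⟨⟨φ, h2⟩, Subtype.ext hφ⟩

theorem faithful_of_fiberFunctor [FibCat.IsFibGrpd 𝒳.p] [FibCat.IsFibGrpd 𝒴.p]
    (h : ∀ U, (FibCat.fiberFunctor G U).Faithful) : G.toFunctor.Faithful where
  map_injective {a b} φ ψ hφψ := by
    have hφψ' : G.map φ = G.map ψ := hφψ
    have h1 : 𝒴.p.IsHomLift (𝒳.p.map ψ) (G.map φ) := by rw [hφψ']; infer_instance
    have h2 : 𝒳.p.IsHomLift (𝒳.p.map ψ) φ := G.isHomLift_map (𝒳.p.map ψ) φ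
    have h3 : 𝒳.p.IsStronglyCartesian (𝒳.p.map ψ) ψ := FibCat.IsFibGrpd.isStronglyCartesian ψ
    have h4 : 𝒴.p.IsStronglyCartesian (𝒳.p.map ψ) (G.map ψ) :=
      isStronglyCartesian_of_isHomLift 𝒴.p _ _
    let χ := IsCartesian.map 𝒳.p (𝒳.p.map ψ) ψ φ
    have hχ : χ ≫ ψ = φ := IsCartesian.fac 𝒳.p (𝒳.p.map ψ) ψ φ
    have hGχ : G.map χ = 𝟙 (G.obj a) := by
      apply IsCartesian.ext 𝒴.p (𝒳.p.map ψ) (G.map ψ)
      rw [← G.map_comp, hχ, hφψ', Category.id_comp]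
    let A : 𝒳.p.Fiber (𝒳.p.obj a) := ⟨a, rfl⟩
    let χ' : A ⟶ A := ⟨χ, IsCartesian.map_isHomLift 𝒳.p (𝒳.p.map ψ) ψ φ⟩
    have : (FibCat.fiberFunctor G (𝒳.p.obj a)).map χ' =
        (FibCat.fiberFunctor G (𝒳.p.obj a)).map (𝟙 A) := by
      apply Subtype.ext
      change G.map χ = G.map (𝟙 a)
      rw [hGχ, G.map_id]
    have h5 : χ' = 𝟙 A := (h (𝒳.p.obj a)).map_injective this
    have h6 : χ = 𝟙 a := congrArg Subtype.val h5
    rw [← hχ, h6, Category.id_comp]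

theorem full_of_fiberFunctor [FibCat.IsFibGrpd 𝒳.p] [FibCat.IsFibGrpd 𝒴.p]
    (h : ∀ U, (FibCat.fiberFunctor G U).Full) : G.toFunctor.Full where
  map_surjective {a b} θ := by
    let f : 𝒳.p.obj a ⟶ 𝒳.p.obj b :=
      eqToHom (G.w_obj a).symm ≫ 𝒴.p.map θ ≫ eqToHom (G.w_obj b)
    have hθ : 𝒴.p.IsHomLift f θ := by dsimp only [f]; infer_instance
    obtain ⟨a', ψ, hψ⟩ := FibCat.IsFibGrpd.exists_lift (p := 𝒳.p) (x := b) f
    have h4 : 𝒴.p.IsStronglyCartesian f (G.map ψ) :=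
      isStronglyCartesian_of_isHomLift 𝒴.p _ _
    let χ := IsCartesian.map 𝒴.p f (G.map ψ) θ
    have hχ : χ ≫ G.map ψ = θ := IsCartesian.fac 𝒴.p f (G.map ψ) θ
    let A : 𝒳.p.Fiber (𝒳.p.obj a) := ⟨a, rfl⟩
    let A' : 𝒳.p.Fiber (𝒳.p.obj a) := ⟨a', IsHomLift.domain_eq 𝒳.p f ψ⟩
    let χ' : (FibCat.fiberFunctor G (𝒳.p.obj a)).obj A ⟶
        (FibCat.fiberFunctor G (𝒳.p.obj a)).obj A' :=
      ⟨χ, IsCartesian.map_isHomLift 𝒴.p f (G.map ψ) θ⟩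
    obtain ⟨χ'', hχ''⟩ := (h (𝒳.p.obj a)).map_surjective χ'
    refine ⟨χ''.1 ≫ ψ, ?_⟩
    have : G.map χ''.1 = χ := congrArg Subtype.val hχ''
    change G.map (χ''.1 ≫ ψ) = θ
    rw [G.map_comp, this, hχ]

theorem essSurj_of_fiberFunctor (h : ∀ U, (FibCat.fiberFunctor G U).EssSurj) :
    G.toFunctor.EssSurj where
  mem_essImage y := by
    let Y : 𝒴.p.Fiber (𝒴.p.obj y) := ⟨y, rfl⟩
    obtain ⟨X, ⟨e⟩⟩ := (h (𝒴.p.obj y)).mem_essImage Y
    exact ⟨X.1, ⟨Fiber.fiberInclusion.mapIso e⟩⟩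

theorem essSurj_fiberFunctor [FibCat.IsFibGrpd 𝒳.p] [FibCat.IsFibGrpd 𝒴.p]
    [G.toFunctor.EssSurj] (U : C) : (FibCat.fiberFunctor G U).EssSurj where
  mem_essImage Y := by
    let x := G.toFunctor.objPreimage Y.1
    let e : G.obj x ≅ Y.1 := G.toFunctor.objObjPreimageIso Y.1
    let f : 𝒳.p.obj x ⟶ U := eqToHom (G.w_obj x).symm ≫ 𝒴.p.map e.hom ≫ eqToHom Y.2
    have he : 𝒴.p.IsHomLift f e.hom := by dsimp only [f]; infer_instance
    haveI : IsIso f := by dsimp only [f]; infer_instance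
    obtain ⟨x', ψ, hψ⟩ := FibCat.IsFibGrpd.exists_lift (p := 𝒳.p) (x := x) (inv f)
    let X' : 𝒳.p.Fiber U := ⟨x', IsHomLift.domain_eq 𝒳.p (inv f) ψ⟩
    have hcomp : 𝒴.p.IsHomLift (inv f ≫ f) (G.map ψ ≫ e.hom) := inferInstance
    rw [IsIso.inv_hom_id] at hcomp
    let θ : (FibCat.fiberFunctor G U).obj X' ⟶ Y := ⟨G.map ψ ≫ e.hom, hcomp⟩
    haveI := isGroupoid_fiber 𝒴.p U
    haveI : IsIso θ := IsGroupoid.all_isIso θ
    exact ⟨X', ⟨asIso θ⟩⟩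

theorem isEquivalence_iff_fiberFunctor [FibCat.IsFibGrpd 𝒳.p] [FibCat.IsFibGrpd 𝒴.p] :
    G.toFunctor.IsEquivalence ↔ ∀ U : C, (FibCat.fiberFunctor G U).IsEquivalence := by
  constructor
  · intro hG U
    exact { faithful := faithful_fiberFunctor G U
            full := full_fiberFunctor G U
            essSurj := essSurj_fiberFunctor G U }
  · intro h
    exact { faithful := faithful_of_fiberFunctor G fun U => (h U).faithful
            full := full_of_fiberFunctor G fun U => (h U).full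
            essSurj := essSurj_of_fiberFunctor G fun U => (h U).essSurj }

end Fiberwise

section EquivOver

variable {C : Type u} [Category.{v} C] {𝒳 : BasedCategory.{v₂, u₂} C}
  {𝒴 : BasedCategory.{v₃, u₃} C} (F : 𝒳 ⥤ᵇ 𝒴)

theorem isEquivOver_symm {G : 𝒴 ⥤ᵇ 𝒳} (η : BasedFunctor.comp F G ≅ BasedFunctor.id 𝒳)
    (ε : BasedFunctor.comp G F ≅ BasedFunctor.id 𝒴) : FibCat.IsEquivOver G :=
  ⟨F, ⟨ε⟩, ⟨η⟩⟩

/-- An equivalence over `C` has an underlying functor which is an equivalence of categories. -/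
theorem isEquivalence_of_isEquivOver (hF : FibCat.IsEquivOver F) : F.toFunctor.IsEquivalence := by
  obtain ⟨G, ⟨η⟩, ⟨ε⟩⟩ := hF
  let η' : F.toFunctor ⋙ G.toFunctor ≅ 𝟭 𝒳.obj := (BasedNatTrans.forgetful 𝒳 𝒳).mapIso η
  let ε' : G.toFunctor ⋙ F.toFunctor ≅ 𝟭 𝒴.obj := (BasedNatTrans.forgetful 𝒴 𝒴).mapIso ε
  exact (CategoryTheory.Equivalence.mk F.toFunctor G.toFunctor η'.symm ε').isEquivalence_functor

/-- An equivalence over `C` preserves strongly cartesian morphisms. -/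
theorem isStronglyCartesian_map_of_isEquivOver (hF : FibCat.IsEquivOver F) {R S : C} (f : R ⟶ S)
    {a b : 𝒳.obj} (φ : a ⟶ b) [𝒳.p.IsStronglyCartesian f φ] :
    𝒴.p.IsStronglyCartesian f (F.map φ) := by
  haveI := isEquivalence_of_isEquivOver F hF
  obtain ⟨G, ⟨η⟩, ⟨ε⟩⟩ := hF
  refine { universal_property' := ?_ }
  intro c g ψ hψ
  let εc : F.obj (G.obj c) ≅ c := ((BasedNatTrans.forgetful 𝒴 𝒴).mapIso ε).app c
  haveI hεc : 𝒴.p.IsHomLift (𝟙 (𝒴.p.obj c)) εc.hom := ε.hom.app_isHomLift c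
  haveI hεc' : 𝒴.p.IsHomLift (𝟙 (𝒴.p.obj c)) εc.inv := inferInstance
  let ψ' : F.obj (G.obj c) ⟶ F.obj b := εc.hom ≫ ψ
  haveI hψ' : 𝒴.p.IsHomLift (g ≫ f) ψ' := by dsimp only [ψ']; infer_instance
  let ψ'' : G.obj c ⟶ b := F.toFunctor.preimage ψ'
  have hψ''map : F.map ψ'' = ψ' := F.toFunctor.map_preimage ψ'
  haveI hψ'' : 𝒳.p.IsHomLift (g ≫ f) ψ'' := by
    haveI : 𝒴.p.IsHomLift (g ≫ f) (F.map ψ'') := by rw [hψ''map]; exact hψ'
    exact F.isHomLift_map (g ≫ f) ψ''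
  let χ'' : G.obj c ⟶ a := IsStronglyCartesian.map 𝒳.p f φ (g := g) (f' := g ≫ f) rfl ψ''
  haveI hχ''l : 𝒳.p.IsHomLift g χ'' := IsStronglyCartesian.map_isHomLift 𝒳.p f φ rfl ψ''
  have hχ'' : χ'' ≫ φ = ψ'' := IsStronglyCartesian.fac 𝒳.p f φ rfl ψ''
  refine ⟨εc.inv ≫ F.map χ'', ⟨inferInstance, ?_⟩, ?_⟩
  · change (εc.inv ≫ F.map χ'') ≫ F.map φ = ψ
    rw [Category.assoc, ← F.map_comp, hχ'', hψ''map]
    simp [ψ']
  · rintro χ₂ ⟨hχ₂l, hχ₂⟩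
    haveI := hχ₂l
    let χ₂'' : G.obj c ⟶ a := F.toFunctor.preimage (εc.hom ≫ χ₂)
    have hχ₂''map : F.map χ₂'' = εc.hom ≫ χ₂ := F.toFunctor.map_preimage _
    haveI : 𝒳.p.IsHomLift g χ₂'' := by
      haveI : 𝒴.p.IsHomLift g (F.map χ₂'') := by rw [hχ₂''map]; infer_instance
      exact F.isHomLift_map g χ₂''
    have h1 : χ₂'' ≫ φ = ψ'' := by
      apply F.toFunctor.map_injective
      change F.map (χ₂'' ≫ φ) = F.map ψ''
      rw [F.map_comp, hχ₂''map, hψ''map, Category.assoc, hχ₂]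
    have h2 : χ₂'' = χ'' := IsStronglyCartesian.map_uniq 𝒳.p f φ rfl ψ'' χ₂'' h1
    rw [← h2, hχ₂''map]
    simp

theorem isFibered_of_isEquivOver (hF : FibCat.IsEquivOver F) [𝒳.p.IsFibered] : 𝒴.p.IsFibered := by
  have hF' := hF
  obtain ⟨G, ⟨η⟩, ⟨ε⟩⟩ := hF
  apply IsFibered.of_exists_isStronglyCartesian
  intro y R f
  obtain ⟨b, φ, hφ⟩ := IsPreFibered.exists_isCartesian 𝒳.p (a := G.obj y) (G.w_obj y) f
  haveI : 𝒳.p.IsStronglyCartesian f φ := inferInstance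
  haveI := isStronglyCartesian_map_of_isEquivOver F hF' f φ
  let εy : F.obj (G.obj y) ≅ y := ((BasedNatTrans.forgetful 𝒴 𝒴).mapIso ε).app y
  haveI hεy : 𝒴.p.IsHomLift (𝟙 (𝒴.p.obj y)) εy.hom := ε.hom.app_isHomLift y
  have hcomp : 𝒴.p.IsStronglyCartesian (f ≫ 𝟙 (𝒴.p.obj y)) (F.map φ ≫ εy.hom) := inferInstance
  rw [Category.comp_id] at hcomp
  exact ⟨F.obj b, F.map φ ≫ εy.hom, hcomp⟩

theorem isFibered_iff_of_isEquivOver (hF : FibCat.IsEquivOver F) :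
    𝒳.p.IsFibered ↔ 𝒴.p.IsFibered := by
  constructor
  · intro h
    exact isFibered_of_isEquivOver F hF
  · intro h
    obtain ⟨G, ⟨η⟩, ⟨ε⟩⟩ := hF
    exact isFibered_of_isEquivOver G (isEquivOver_symm F η ε)

end EquivOver

section IdFunctor

variable {C : Type u} [Category.{v} C]

theorem id_isStronglyCartesian {R S : C} (f : R ⟶ S) : (𝟭 C).IsStronglyCartesian f f where
  toIsHomLift := Functor.IsHomLift.map (p := 𝟭 C) f
  universal_property' {a'} g φ' hφ' := by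
    have h1 : g ≫ f = φ' := IsHomLift.eq_of_isHomLift (𝟭 C) (g ≫ f) φ'
    refine ⟨g, ⟨Functor.IsHomLift.map (p := 𝟭 C) g, h1⟩, ?_⟩
    rintro χ ⟨hχ, -⟩
    exact (IsHomLift.eq_of_isHomLift (𝟭 C) g χ).symm

theorem id_isFibered : (𝟭 C).IsFibered :=
  IsFibered.of_exists_isStronglyCartesian fun _ R f => ⟨R, f, id_isStronglyCartesian f⟩

theorem selfOver_isFibered : (FibCat.selfOver C).p.IsFibered := id_isFibered

theorem preservesStronglyCartesian_toSelf (𝒳 : BasedCategory.{v₂, u₂} C) :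
    FibCat.PreservesStronglyCartesian (FibCat.toSelf 𝒳) := by
  intro R S f a b φ hφ
  subst_hom_lift 𝒳.p f φ
  exact id_isStronglyCartesian (𝒳.p.map φ)

end IdFunctor

section Inertia

variable {C : Type u} [Category.{v} C] {𝒳 : BasedCategory.{v₂, u₂} C}
  {𝒴 : BasedCategory.{v₃, u₃} C} (F : 𝒳 ⥤ᵇ 𝒴)

theorem inertia_isHomLift_iff {R S : C} (f : R ⟶ S) {X Y : FibCat.InertiaObj F} (Φ : X ⟶ Y) :
    (FibCat.inertia F).p.IsHomLift f Φ ↔ 𝒳.p.IsHomLift f Φ.hom :=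
  (BasedFunctor.isHomLift_iff (FibCat.inertiaToBase F) f Φ).symm

theorem aut_isHomLift (X : FibCat.InertiaObj F) :
    𝒳.p.IsHomLift (𝟙 (𝒳.p.obj X.pt)) X.aut.hom := by
  haveI : 𝒴.p.IsHomLift (𝟙 (𝒳.p.obj X.pt)) (F.map X.aut.hom) := by
    rw [X.map_aut]; infer_instance
  exact F.isHomLift_map _ _

theorem inertia_exists_isStronglyCartesian [𝒳.p.IsFibered]
    (hF : FibCat.PreservesStronglyCartesian F) (X : FibCat.InertiaObj F) (R : C)
    (f : R ⟶ 𝒳.p.obj X.pt) :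
    ∃ (Y : FibCat.InertiaObj F) (Φ : Y ⟶ X), (FibCat.inertia F).p.IsStronglyCartesian f Φ := by
  obtain ⟨y, φ, hφ⟩ := IsPreFibered.exists_isCartesian 𝒳.p (a := X.pt) rfl f
  haveI hφs : 𝒳.p.IsStronglyCartesian f φ := inferInstance
  haveI hα : 𝒳.p.IsHomLift (𝟙 (𝒳.p.obj X.pt)) X.aut.hom := aut_isHomLift F X
  haveI hα' : 𝒳.p.IsHomLift (𝟙 (𝒳.p.obj X.pt)) X.aut.inv := inferInstance
  haveI h1 : 𝒳.p.IsHomLift f (φ ≫ X.aut.hom) := inferInstance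
  haveI h2 : 𝒳.p.IsHomLift f (φ ≫ X.aut.inv) := inferInstance
  let β : y ⟶ y := IsCartesian.map 𝒳.p f φ (φ ≫ X.aut.hom)
  let β' : y ⟶ y := IsCartesian.map 𝒳.p f φ (φ ≫ X.aut.inv)
  haveI hβl : 𝒳.p.IsHomLift (𝟙 R) β := IsCartesian.map_isHomLift 𝒳.p f φ _
  haveI hβ'l : 𝒳.p.IsHomLift (𝟙 R) β' := IsCartesian.map_isHomLift 𝒳.p f φ _
  have hβ : β ≫ φ = φ ≫ X.aut.hom := IsCartesian.fac 𝒳.p f φ _
  have hβ' : β' ≫ φ = φ ≫ X.aut.inv := IsCartesian.fac 𝒳.p f φ _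
  haveI hidl : 𝒳.p.IsHomLift (𝟙 R) (𝟙 y) := IsHomLift.id (IsHomLift.domain_eq 𝒳.p f φ)
  have hββ' : β ≫ β' = 𝟙 y := by
    apply IsCartesian.ext 𝒳.p f φ
    rw [Category.assoc, hβ', ← Category.assoc, hβ, Category.assoc, Iso.hom_inv_id,
      Category.comp_id, Category.id_comp]
  have hβ'β : β' ≫ β = 𝟙 y := by
    apply IsCartesian.ext 𝒳.p f φ
    rw [Category.assoc, hβ, ← Category.assoc, hβ', Category.assoc, Iso.inv_hom_id,
      Category.comp_id, Category.id_comp]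
  have hFβ : F.map β = 𝟙 (F.obj y) := by
    haveI : 𝒴.p.IsStronglyCartesian f (F.map φ) := hF f φ hφs
    haveI : 𝒴.p.IsHomLift (𝟙 R) (𝟙 (F.obj y)) :=
      IsHomLift.id ((F.w_obj y).trans (IsHomLift.domain_eq 𝒳.p f φ))
    apply IsCartesian.ext 𝒴.p f (F.map φ)
    rw [← F.map_comp, hβ, F.map_comp, X.map_aut, Category.comp_id, Category.id_comp]
  let Y : FibCat.InertiaObj F := ⟨y, ⟨β, β', hββ', hβ'β⟩, hFβ⟩
  let Φ : Y ⟶ X := ⟨φ, hβ⟩
  refine ⟨Y, Φ, ?_⟩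
  haveI hΦl : (FibCat.inertia F).p.IsHomLift f Φ := (inertia_isHomLift_iff F f Φ).mpr hφ.toIsHomLift
  refine { universal_property' := ?_ }
  intro Z (g : 𝒳.p.obj Z.pt ⟶ R) Ψ hΨ
  haveI hψ : 𝒳.p.IsHomLift (g ≫ f) Ψ.hom := (inertia_isHomLift_iff F (g ≫ f) Ψ).mp hΨ
  let χ : Z.pt ⟶ y := IsStronglyCartesian.map 𝒳.p f φ (g := g) (f' := g ≫ f) rfl Ψ.hom
  haveI hχl : 𝒳.p.IsHomLift g χ := IsStronglyCartesian.map_isHomLift 𝒳.p f φ rfl Ψ.hom
  have hχ : χ ≫ φ = Ψ.hom := IsStronglyCartesian.fac 𝒳.p f φ rfl Ψ.hom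
  haveI hγ : 𝒳.p.IsHomLift (𝟙 (𝒳.p.obj Z.pt)) Z.aut.hom := aut_isHomLift F Z
  have hcomm : Z.aut.hom ≫ χ = χ ≫ β := by
    apply IsStronglyCartesian.ext 𝒳.p f φ g
    rw [Category.assoc, hχ, Category.assoc, hβ, ← Category.assoc, hχ]
    exact Ψ.comm
  refine ⟨⟨χ, hcomm⟩, ⟨(inertia_isHomLift_iff F g _).mpr hχl, ?_⟩, ?_⟩
  · apply FibCat.InertiaObj.hom_ext
    exact hχ
  · rintro Χ ⟨hΧl, hΧ⟩
    apply FibCat.InertiaObj.hom_ext
    haveI : 𝒳.p.IsHomLift g Χ.hom := (inertia_isHomLift_iff F g Χ).mp hΧl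
    have : Χ.hom ≫ φ = Ψ.hom := congrArg FibCat.InertiaObj.Hom.hom hΧ
    exact IsStronglyCartesian.map_uniq 𝒳.p f φ rfl Ψ.hom Χ.hom this

theorem inertia_isFibered [𝒳.p.IsFibered] (hF : FibCat.PreservesStronglyCartesian F) :
    (FibCat.inertia F).p.IsFibered :=
  IsFibered.of_exists_isStronglyCartesian fun X R f =>
    inertia_exists_isStronglyCartesian F hF X R f

theorem inertia_isGroupoid_fiber [FibCat.IsFibGrpd 𝒳.p] (U : C) :
    IsGroupoid ((FibCat.inertia F).p.Fiber U) := by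
  constructor
  intro X Y Φ
  haveI hΦ : (FibCat.inertia F).p.IsHomLift (𝟙 U) Φ.1 := Φ.2
  haveI hφ : 𝒳.p.IsHomLift (𝟙 U) Φ.1.hom := (inertia_isHomLift_iff F (𝟙 U) Φ.1).mp hΦ
  haveI : IsIso Φ.1.hom := isIso_of_isHomLift_isIso 𝒳.p (𝟙 U) Φ.1.hom
  have hcomm : Y.1.aut.hom ≫ inv Φ.1.hom = inv Φ.1.hom ≫ X.1.aut.hom := by
    rw [IsIso.eq_inv_comp, ← Category.assoc, ← Φ.1.comm, Category.assoc, IsIso.hom_inv_id,
      Category.comp_id]
  let Ψ : Y.1 ⟶ X.1 := ⟨inv Φ.1.hom, hcomm⟩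
  have hΨ : (FibCat.inertia F).p.IsHomLift (𝟙 U) Ψ :=
    (inertia_isHomLift_iff F (𝟙 U) Ψ).mpr (inferInstanceAs (𝒳.p.IsHomLift (𝟙 U) (inv Φ.1.hom)))
  refine ⟨⟨⟨Ψ, hΨ⟩, ?_, ?_⟩⟩
  · apply Subtype.ext
    apply FibCat.InertiaObj.hom_ext
    exact IsIso.hom_inv_id Φ.1.hom
  · apply Subtype.ext
    apply FibCat.InertiaObj.hom_ext
    exact IsIso.inv_hom_id Φ.1.hom

theorem inertia_isFibGrpd [FibCat.IsFibGrpd 𝒳.p] (hF : FibCat.PreservesStronglyCartesian F) :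
    FibCat.IsFibGrpd (FibCat.inertia F).p := by
  haveI := isFibered 𝒳.p
  haveI := inertia_isFibered F hF
  exact isFibGrpd_of_isFibered _ (inertia_isGroupoid_fiber F)

end Inertia

section Fp

variable {C : Type u} [Category.{v} C] {𝒳 : BasedCategory.{v₂, u₂} C}
  {𝒴 : BasedCategory.{v₃, u₃} C} {𝒮 : BasedCategory.{v₄, u₄} C} (F : 𝒳 ⥤ᵇ 𝒮) (G : 𝒴 ⥤ᵇ 𝒮)

theorem fp_isHomLift_iff {R S : C} (f : R ⟶ S) {X Y : (FibCat.fp F G).obj} (Φ : X ⟶ Y) :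
    (FibCat.fp F G).p.IsHomLift f Φ ↔ 𝒳.p.IsHomLift f Φ.hom.fst :=
  (BasedFunctor.isHomLift_iff (FibCat.fpFst F G) f Φ).symm

theorem fp_isHomLift_snd' {R S : C} (f : R ⟶ S) {X Y : (FibCat.fp F G).obj} (Φ : X ⟶ Y)
    (h : (FibCat.fp F G).p.IsHomLift f Φ) : 𝒴.p.IsHomLift f Φ.hom.snd :=
  BasedFunctor.preserves_isHomLift (FibCat.fpSnd F G) f Φ

theorem fp_snd_proj (X : (FibCat.fp F G).obj) : 𝒴.p.obj X.obj.snd = 𝒳.p.obj X.obj.fst := by
  have hx : 𝒮.p.IsHomLift (𝟙 (𝒳.p.obj X.obj.fst)) X.obj.iso.hom := X.property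
  exact (G.w_obj X.obj.snd).symm.trans
    (IsHomLift.codomain_eq 𝒮.p (𝟙 (𝒳.p.obj X.obj.fst)) X.obj.iso.hom)

/-- A morphism of the 2-fibre product whose components are strongly cartesian (and whose second
component stays strongly cartesian in the base of the fibre product) is strongly cartesian. -/
theorem fp_isStronglyCartesian {R S : C} (f : R ⟶ S) {X' X : (FibCat.fp F G).obj} (Φ : X' ⟶ X)
    [𝒳.p.IsStronglyCartesian f Φ.hom.fst] [𝒴.p.IsStronglyCartesian f Φ.hom.snd]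
    [𝒮.p.IsStronglyCartesian f (G.map Φ.hom.snd)] :
    (FibCat.fp F G).p.IsStronglyCartesian f Φ := by
  have hR : 𝒳.p.obj X'.obj.fst = R := IsHomLift.domain_eq 𝒳.p f Φ.hom.fst
  subst hR
  haveI hΦl : (FibCat.fp F G).p.IsHomLift f Φ := (fp_isHomLift_iff F G f Φ).mpr inferInstance
  haveI hX' : 𝒮.p.IsHomLift (𝟙 (𝒳.p.obj X'.obj.fst)) X'.obj.iso.hom := X'.property
  refine { universal_property' := ?_ }
  intro Z (g : 𝒳.p.obj Z.obj.fst ⟶ 𝒳.p.obj X'.obj.fst) Θ hΘ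
  haveI h1 : 𝒳.p.IsHomLift (g ≫ f) Θ.hom.fst := (fp_isHomLift_iff F G _ Θ).mp hΘ
  haveI h2 : 𝒴.p.IsHomLift (g ≫ f) Θ.hom.snd := fp_isHomLift_snd' F G _ Θ hΘ
  haveI hZ : 𝒮.p.IsHomLift (𝟙 (𝒳.p.obj Z.obj.fst)) Z.obj.iso.hom := Z.property
  let χ1 : Z.obj.fst ⟶ X'.obj.fst :=
    IsStronglyCartesian.map 𝒳.p f Φ.hom.fst (g := g) (f' := g ≫ f) rfl Θ.hom.fst
  let χ2 : Z.obj.snd ⟶ X'.obj.snd :=
    IsStronglyCartesian.map 𝒴.p f Φ.hom.snd (g := g) (f' := g ≫ f) rfl Θ.hom.snd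
  haveI hχ1l : 𝒳.p.IsHomLift g χ1 := IsStronglyCartesian.map_isHomLift 𝒳.p f Φ.hom.fst rfl _
  haveI hχ2l : 𝒴.p.IsHomLift g χ2 := IsStronglyCartesian.map_isHomLift 𝒴.p f Φ.hom.snd rfl _
  have hχ1 : χ1 ≫ Φ.hom.fst = Θ.hom.fst := IsStronglyCartesian.fac 𝒳.p f Φ.hom.fst rfl _
  have hχ2 : χ2 ≫ Φ.hom.snd = Θ.hom.snd := IsStronglyCartesian.fac 𝒴.p f Φ.hom.snd rfl _
  have hw : F.map χ1 ≫ X'.obj.iso.hom = Z.obj.iso.hom ≫ G.map χ2 := by
    apply IsStronglyCartesian.ext 𝒮.p f (G.map Φ.hom.snd) g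
    have e1 : F.map Φ.hom.fst ≫ X.obj.iso.hom = X'.obj.iso.hom ≫ G.map Φ.hom.snd := Φ.hom.w
    have e2 : F.map Θ.hom.fst ≫ X.obj.iso.hom = Z.obj.iso.hom ≫ G.map Θ.hom.snd := Θ.hom.w
    rw [Category.assoc, ← e1, ← Category.assoc, ← F.map_comp, hχ1, e2, Category.assoc,
      ← G.map_comp, hχ2]
  let Χ : Z ⟶ X' := ObjectProperty.homMk { fst := χ1, snd := χ2, w := hw }
  refine ⟨Χ, ⟨(fp_isHomLift_iff F G g Χ).mpr hχ1l, ?_⟩, ?_⟩
  · apply ObjectProperty.hom_ext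
    apply Limits.CategoricalPullback.hom_ext
    · exact hχ1
    · exact hχ2
  · rintro Χ' ⟨hΧ'l, hΧ'⟩
    haveI := hΧ'l
    haveI h3 : 𝒳.p.IsHomLift g Χ'.hom.fst := (fp_isHomLift_iff F G g Χ').mp hΧ'l
    haveI h4 : 𝒴.p.IsHomLift g Χ'.hom.snd := fp_isHomLift_snd' F G g Χ' hΧ'l
    have h5 : Χ'.hom.fst ≫ Φ.hom.fst = Θ.hom.fst := by rw [← hΧ']; rfl
    have h6 : Χ'.hom.snd ≫ Φ.hom.snd = Θ.hom.snd := by rw [← hΧ']; rfl
    apply ObjectProperty.hom_ext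
    apply Limits.CategoricalPullback.hom_ext
    · exact IsStronglyCartesian.map_uniq 𝒳.p f Φ.hom.fst rfl Θ.hom.fst Χ'.hom.fst h5
    · exact IsStronglyCartesian.map_uniq 𝒴.p f Φ.hom.snd rfl Θ.hom.snd Χ'.hom.snd h6

/-- Lifting an object of the 2-fibre product along lifts of its two components. -/
theorem fp_exists_iso_lift (X : (FibCat.fp F G).obj) {V : C} (f : V ⟶ 𝒳.p.obj X.obj.fst)
    {a' : 𝒳.obj} (φ : a' ⟶ X.obj.fst) [𝒳.p.IsHomLift f φ] {b' : 𝒴.obj} (ψ : b' ⟶ X.obj.snd)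
    [𝒴.p.IsHomLift f ψ] [𝒮.p.IsStronglyCartesian f (G.map ψ)]
    [𝒮.p.IsStronglyCartesian f (F.map φ)] :
    ∃ e' : F.obj a' ≅ G.obj b', 𝒮.p.IsHomLift (𝟙 (𝒳.p.obj a')) e'.hom ∧
      F.map φ ≫ X.obj.iso.hom = e'.hom ≫ G.map ψ := by
  have hV : 𝒳.p.obj a' = V := IsHomLift.domain_eq 𝒳.p f φ
  subst hV
  haveI hX : 𝒮.p.IsHomLift (𝟙 (𝒳.p.obj X.obj.fst)) X.obj.iso.hom := X.property
  haveI hX' : 𝒮.p.IsHomLift (𝟙 (𝒳.p.obj X.obj.fst)) X.obj.iso.inv := inferInstance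
  haveI h1 : 𝒮.p.IsHomLift f (F.map φ ≫ X.obj.iso.hom) := inferInstance
  haveI h2 : 𝒮.p.IsHomLift f (G.map ψ ≫ X.obj.iso.inv) := inferInstance
  let eh : F.obj a' ⟶ G.obj b' := IsCartesian.map 𝒮.p f (G.map ψ) (F.map φ ≫ X.obj.iso.hom)
  let ei : G.obj b' ⟶ F.obj a' := IsCartesian.map 𝒮.p f (F.map φ) (G.map ψ ≫ X.obj.iso.inv)
  haveI hehl : 𝒮.p.IsHomLift (𝟙 (𝒳.p.obj a')) eh := IsCartesian.map_isHomLift 𝒮.p f _ _
  haveI heil : 𝒮.p.IsHomLift (𝟙 (𝒳.p.obj a')) ei := IsCartesian.map_isHomLift 𝒮.p f _ _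
  have heh : eh ≫ G.map ψ = F.map φ ≫ X.obj.iso.hom := IsCartesian.fac 𝒮.p f _ _
  have hei : ei ≫ F.map φ = G.map ψ ≫ X.obj.iso.inv := IsCartesian.fac 𝒮.p f _ _
  haveI hid1 : 𝒮.p.IsHomLift (𝟙 (𝒳.p.obj a')) (𝟙 (F.obj a')) := IsHomLift.id (F.w_obj a')
  haveI hid2 : 𝒮.p.IsHomLift (𝟙 (𝒳.p.obj a')) (𝟙 (G.obj b')) :=
    IsHomLift.id ((G.w_obj b').trans (IsHomLift.domain_eq 𝒴.p f ψ))
  have h12 : eh ≫ ei = 𝟙 (F.obj a') := by
    apply IsCartesian.ext 𝒮.p f (F.map φ)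
    rw [Category.assoc, hei, ← Category.assoc, heh, Category.assoc, Iso.hom_inv_id,
      Category.comp_id, Category.id_comp]
  have h21 : ei ≫ eh = 𝟙 (G.obj b') := by
    apply IsCartesian.ext 𝒮.p f (G.map ψ)
    rw [Category.assoc, heh, ← Category.assoc, hei, Category.assoc, Iso.inv_hom_id,
      Category.comp_id, Category.id_comp]
  exact ⟨⟨eh, ei, h12, h21⟩, hehl, heh.symm⟩

theorem fp_exists_isStronglyCartesian [𝒳.p.IsFibered] [𝒴.p.IsFibered]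
    (hF : FibCat.PreservesStronglyCartesian F) (hG : FibCat.PreservesStronglyCartesian G)
    (X : (FibCat.fp F G).obj) (V : C) (f : V ⟶ 𝒳.p.obj X.obj.fst) :
    ∃ (X' : (FibCat.fp F G).obj) (Φ : X' ⟶ X), (FibCat.fp F G).p.IsStronglyCartesian f Φ := by
  obtain ⟨a', φ, hφ⟩ := IsPreFibered.exists_isCartesian 𝒳.p (a := X.obj.fst) rfl f
  obtain ⟨b', ψ, hψ⟩ := IsPreFibered.exists_isCartesian 𝒴.p (a := X.obj.snd) (fp_snd_proj F G X) f
  haveI hφs : 𝒳.p.IsStronglyCartesian f φ := inferInstance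
  haveI hψs : 𝒴.p.IsStronglyCartesian f ψ := inferInstance
  haveI hFφ : 𝒮.p.IsStronglyCartesian f (F.map φ) := hF f φ hφs
  haveI hGψ : 𝒮.p.IsStronglyCartesian f (G.map ψ) := hG f ψ hψs
  obtain ⟨e', he'l, he'⟩ := fp_exists_iso_lift F G X f φ ψ
  let X' : (FibCat.fp F G).obj := ⟨{ fst := a', snd := b', iso := e' }, he'l⟩
  let Φ : X' ⟶ X := ObjectProperty.homMk { fst := φ, snd := ψ, w := he' }
  haveI : 𝒳.p.IsStronglyCartesian f Φ.hom.fst := hφs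
  haveI : 𝒴.p.IsStronglyCartesian f Φ.hom.snd := hψs
  haveI : 𝒮.p.IsStronglyCartesian f (G.map Φ.hom.snd) := hGψ
  exact ⟨X', Φ, fp_isStronglyCartesian F G f Φ⟩

theorem fp_isFibered [𝒳.p.IsFibered] [𝒴.p.IsFibered]
    (hF : FibCat.PreservesStronglyCartesian F) (hG : FibCat.PreservesStronglyCartesian G) :
    (FibCat.fp F G).p.IsFibered :=
  IsFibered.of_exists_isStronglyCartesian fun X V f =>
    fp_exists_isStronglyCartesian F G hF hG X V f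

theorem preservesStronglyCartesian_of_isFibGrpd [FibCat.IsFibGrpd 𝒮.p] :
    FibCat.PreservesStronglyCartesian F := by
  intro R S f a b φ hφ
  exact isStronglyCartesian_of_isHomLift 𝒮.p f (F.map φ)

theorem fp_isFibGrpd [FibCat.IsFibGrpd 𝒳.p] [FibCat.IsFibGrpd 𝒴.p] [FibCat.IsFibGrpd 𝒮.p] :
    FibCat.IsFibGrpd (FibCat.fp F G).p where
  exists_lift {X V} f := by
    haveI := isFibered 𝒳.p
    haveI := isFibered 𝒴.p
    obtain ⟨X', Φ, hΦ⟩ := fp_exists_isStronglyCartesian F G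
      (preservesStronglyCartesian_of_isFibGrpd F) (preservesStronglyCartesian_of_isFibGrpd G) X V f
    exact ⟨X', Φ, hΦ.toIsHomLift⟩
  isStronglyCartesian {X' X} Φ := by
    haveI h1 : 𝒳.p.IsStronglyCartesian ((FibCat.fp F G).p.map Φ) Φ.hom.fst :=
      FibCat.IsFibGrpd.isStronglyCartesian (p := 𝒳.p) Φ.hom.fst
    haveI h2 : 𝒴.p.IsStronglyCartesian ((FibCat.fp F G).p.map Φ) Φ.hom.snd :=
      isStronglyCartesian_of_isHomLift 𝒴.p _ _
    haveI h3 : 𝒮.p.IsStronglyCartesian ((FibCat.fp F G).p.map Φ) (G.map Φ.hom.snd) :=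
      isStronglyCartesian_of_isHomLift 𝒮.p _ _
    exact fp_isStronglyCartesian F G _ Φ

end Fp

section Diag

variable {C : Type u} [Category.{v} C] {𝒳 : BasedCategory.{v₂, u₂} C}
  {𝒴 : BasedCategory.{v₃, u₃} C} (G : 𝒳 ⥤ᵇ 𝒴)

@[simp] theorem diag_obj_fst (a : 𝒳.obj) : ((FibCat.diag G).obj a).obj.fst = a := rfl
@[simp] theorem diag_obj_snd (a : 𝒳.obj) : ((FibCat.diag G).obj a).obj.snd = a := rfl
theorem diag_obj_iso_hom (a : 𝒳.obj) : ((FibCat.diag G).obj a).obj.iso.hom = 𝟙 (G.obj a) := rfl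
theorem diag_obj_iso_inv (a : 𝒳.obj) : ((FibCat.diag G).obj a).obj.iso.inv = 𝟙 (G.obj a) := rfl
@[simp] theorem diag_map_fst {a b : 𝒳.obj} (φ : a ⟶ b) : ((FibCat.diag G).map φ).hom.fst = φ := rfl
@[simp] theorem diag_map_snd {a b : 𝒳.obj} (φ : a ⟶ b) : ((FibCat.diag G).map φ).hom.snd = φ := rfl

theorem diag_faithful : (FibCat.diag G).toFunctor.Faithful where
  map_injective {a b} φ ψ h := by
    have := congrArg (fun Φ => Φ.hom.fst) h
    exact this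

theorem diag_full [G.toFunctor.Faithful] : (FibCat.diag G).toFunctor.Full where
  map_surjective {a b} Φ := by
    refine ⟨Φ.hom.fst, ?_⟩
    apply ObjectProperty.hom_ext
    apply Limits.CategoricalPullback.hom_ext
    · rfl
    · have h := Φ.hom.w
      rw [diag_obj_iso_hom, diag_obj_iso_hom] at h
      change G.map Φ.hom.fst ≫ 𝟙 _ = 𝟙 _ ≫ G.map Φ.hom.snd at h
      rw [Category.comp_id, Category.id_comp] at h
      exact G.toFunctor.map_injective h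

/-- Every object of `𝒳 ×_𝒴 𝒳` is isomorphic over an identity to one in the image of the diagonal
when `G` is fully faithful. -/
theorem diag_exists_iso [G.toFunctor.Full] [G.toFunctor.Faithful] (η : (FibCat.fp G G).obj) :
    ∃ (ξ : 𝒳.obj) (e : (FibCat.diag G).toFunctor.obj ξ ≅ η),
      (FibCat.fp G G).p.IsHomLift (𝟙 ((FibCat.fp G G).p.obj η)) e.hom := by
  let a : η.obj.fst ⟶ η.obj.snd := G.toFunctor.preimage η.obj.iso.hom
  let b : η.obj.snd ⟶ η.obj.fst := G.toFunctor.preimage η.obj.iso.inv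
  have ha : G.map a = η.obj.iso.hom := G.toFunctor.map_preimage _
  have hb : G.map b = η.obj.iso.inv := G.toFunctor.map_preimage _
  have hab : a ≫ b = 𝟙 _ := by
    apply G.toFunctor.map_injective
    change G.map (a ≫ b) = G.map (𝟙 _)
    rw [G.map_comp, ha, hb, Iso.hom_inv_id, G.map_id]
  have hba : b ≫ a = 𝟙 _ := by
    apply G.toFunctor.map_injective
    change G.map (b ≫ a) = G.map (𝟙 _)
    rw [G.map_comp, ha, hb, Iso.inv_hom_id, G.map_id]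
  have hw1 : G.map (𝟙 η.obj.fst) ≫ η.obj.iso.hom = 𝟙 (G.obj η.obj.fst) ≫ G.map a := by
    rw [G.map_id, ha]
  have hw2 : G.map (𝟙 η.obj.fst) ≫ 𝟙 (G.obj η.obj.fst) = η.obj.iso.hom ≫ G.map b := by
    rw [G.map_id, hb, Iso.hom_inv_id, Category.comp_id]
  let eh : (FibCat.diag G).toFunctor.obj η.obj.fst ⟶ η :=
    ObjectProperty.homMk { fst := 𝟙 _, snd := a, w := hw1 }
  let ei : η ⟶ (FibCat.diag G).toFunctor.obj η.obj.fst :=
    ObjectProperty.homMk { fst := 𝟙 _, snd := b, w := hw2 }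
  have h1 : eh ≫ ei = 𝟙 _ := by
    apply ObjectProperty.hom_ext
    apply Limits.CategoricalPullback.hom_ext
    · exact Category.comp_id _
    · exact hab
  have h2 : ei ≫ eh = 𝟙 _ := by
    apply ObjectProperty.hom_ext
    apply Limits.CategoricalPullback.hom_ext
    · exact Category.comp_id _
    · exact hba
  refine ⟨η.obj.fst, ⟨eh, ei, h1, h2⟩, ?_⟩
  rw [fp_isHomLift_iff]
  change 𝒳.p.IsHomLift (𝟙 (𝒳.p.obj η.obj.fst)) (𝟙 η.obj.fst)
  infer_instance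

theorem faithful_of_diag_full [(FibCat.diag G).toFunctor.Full] : G.toFunctor.Faithful where
  map_injective {x y} a b hab := by
    have hab' : G.map a = G.map b := hab
    have hw : G.map a ≫ ((FibCat.diag G).obj y).obj.iso.hom =
        ((FibCat.diag G).obj x).obj.iso.hom ≫ G.map b := by
      rw [diag_obj_iso_hom, diag_obj_iso_hom, hab']
      exact (Category.comp_id _).trans (Category.id_comp _).symm
    let Φ : (FibCat.diag G).toFunctor.obj x ⟶ (FibCat.diag G).toFunctor.obj y :=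
      ObjectProperty.homMk { fst := a, snd := b, w := hw }
    obtain ⟨c, hc⟩ := (FibCat.diag G).toFunctor.map_surjective Φ
    have h1 : c = a := congrArg (fun Ψ => Ψ.hom.fst) hc
    have h2 : c = b := congrArg (fun Ψ => Ψ.hom.snd) hc
    exact h1.symm.trans h2

theorem full_fiberFunctor_of_diag [FibCat.IsFibGrpd 𝒴.p]
    (h : ∀ η : (FibCat.fp G G).obj, ∃ (ξ : 𝒳.obj) (e : (FibCat.diag G).toFunctor.obj ξ ≅ η),
      (FibCat.fp G G).p.IsHomLift (𝟙 ((FibCat.fp G G).p.obj η)) e.hom) (U : C) :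
    (FibCat.fiberFunctor G U).Full where
  map_surjective {x y} g := by
    haveI := isGroupoid_fiber 𝒴.p U
    haveI : IsIso g := IsGroupoid.all_isIso g
    obtain ⟨x, hx⟩ := x
    subst hx
    let gi : G.obj x ≅ G.obj y.1 := Fiber.fiberInclusion.mapIso (asIso g)
    have hgi : gi.hom = g.1 := rfl
    have hg : 𝒴.p.IsHomLift (𝟙 (𝒳.p.obj x)) gi.hom := g.2
    let η : (FibCat.fp G G).obj := ⟨{ fst := x, snd := y.1, iso := gi }, hg⟩
    obtain ⟨ξ, e, he⟩ := h η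
    let uI : ξ ≅ x := (FibCat.fpFst G G).toFunctor.mapIso e
    let v : ξ ⟶ y.1 := e.hom.hom.snd
    haveI hu : 𝒳.p.IsHomLift (𝟙 (𝒳.p.obj x)) uI.hom := (fp_isHomLift_iff G G _ e.hom).mp he
    haveI hv : 𝒳.p.IsHomLift (𝟙 (𝒳.p.obj x)) v := fp_isHomLift_snd' G G _ e.hom he
    haveI hu' : 𝒳.p.IsHomLift (𝟙 (𝒳.p.obj x)) uI.inv := inferInstance
    have hw : G.map uI.hom ≫ gi.hom = G.map v := by
      have := e.hom.hom.w
      rw [diag_obj_iso_hom] at this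
      exact this.trans (Category.id_comp _)
    have hc : 𝒳.p.IsHomLift (𝟙 (𝒳.p.obj x)) (uI.inv ≫ v) := inferInstance
    refine ⟨⟨uI.inv ≫ v, hc⟩, ?_⟩
    apply Subtype.ext
    change G.map (uI.inv ≫ v) = g.1
    rw [G.map_comp, ← hw, ← Category.assoc, ← G.map_comp, Iso.inv_hom_id, G.map_id,
      Category.id_comp, hgi]

end Diag

section InertiaDiag

variable {C : Type u} [Category.{v} C] {𝒳 : BasedCategory.{v₂, u₂} C}
  {𝒴 : BasedCategory.{v₃, u₃} C} (F : 𝒳 ⥤ᵇ 𝒴)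

/-- The isomorphism `(α, 𝟙) : Δ x ≅ Δ x` of `𝒳 ×_𝒴 𝒳` attached to an object `(x, α)` of the
relative inertia. -/
def inertiaDiagIso (X : FibCat.InertiaObj F) :
    (FibCat.diag F).obj X.pt ≅ (FibCat.diag F).obj X.pt where
  hom := ObjectProperty.homMk
    { fst := X.aut.hom, snd := 𝟙 X.pt, w := by
        change F.map X.aut.hom ≫ 𝟙 _ = 𝟙 _ ≫ F.map (𝟙 X.pt)
        rw [X.map_aut, F.map_id] }
  inv := ObjectProperty.homMk
    { fst := X.aut.inv, snd := 𝟙 X.pt, w := by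
        change F.map X.aut.inv ≫ 𝟙 _ = 𝟙 _ ≫ F.map (𝟙 X.pt)
        have : F.map X.aut.inv = 𝟙 _ := by
          have h := F.toFunctor.mapIso X.aut
          rw [← cancel_epi (F.map X.aut.hom), ← F.map_comp, Iso.hom_inv_id, X.map_aut, F.map_id,
            Category.id_comp]
        rw [this, F.map_id] }
  hom_inv_id := by
    apply ObjectProperty.hom_ext
    apply Limits.CategoricalPullback.hom_ext
    · exact X.aut.hom_inv_id
    · exact Category.id_comp _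
  inv_hom_id := by
    apply ObjectProperty.hom_ext
    apply Limits.CategoricalPullback.hom_ext
    · exact X.aut.inv_hom_id
    · exact Category.id_comp _

theorem inertiaDiagIso_isHomLift (X : FibCat.InertiaObj F) :
    (FibCat.fp F F).p.IsHomLift (𝟙 (𝒳.p.obj X.pt)) (inertiaDiagIso F X).hom := by
  rw [fp_isHomLift_iff]
  exact aut_isHomLift F X

/-- The comparison functor `I_{𝒳/𝒴} ⟶ 𝒳 ×_{𝒳 ×_𝒴 𝒳} 𝒳` over `C`, `(x, α) ↦ (x, x, (α, 𝟙))`. -/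
def inertiaToFpDiag : FibCat.inertia F ⥤ᵇ FibCat.fp (FibCat.diag F) (FibCat.diag F) where
  toFunctor :=
    { obj := fun X => ⟨{ fst := X.pt, snd := X.pt, iso := inertiaDiagIso F X },
        inertiaDiagIso_isHomLift F X⟩
      map := fun {X Y} φ => ObjectProperty.homMk
        { fst := φ.hom, snd := φ.hom, w := by
            apply ObjectProperty.hom_ext
            apply Limits.CategoricalPullback.hom_ext
            · exact φ.comm.symm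
            · exact (Category.comp_id _).trans (Category.id_comp _).symm }
      map_id := fun X => by
        apply ObjectProperty.hom_ext; apply Limits.CategoricalPullback.hom_ext <;> rfl
      map_comp := fun φ ψ => by
        apply ObjectProperty.hom_ext; apply Limits.CategoricalPullback.hom_ext <;> rfl }
  w := rfl

theorem inertiaToFpDiag_comp_fst :
    BasedFunctor.comp (inertiaToFpDiag F) (FibCat.fpFst _ _) = FibCat.inertiaToBase F := rfl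

theorem inertiaToFpDiag_comp_snd :
    BasedFunctor.comp (inertiaToFpDiag F) (FibCat.fpSnd _ _) = FibCat.inertiaToBase F := rfl

theorem inertiaToFpDiag_faithful : (inertiaToFpDiag F).toFunctor.Faithful where
  map_injective {X Y} φ ψ h := by
    apply FibCat.InertiaObj.hom_ext
    exact congrArg (fun Φ => Φ.hom.fst) h

theorem inertiaToFpDiag_full : (inertiaToFpDiag F).toFunctor.Full where
  map_surjective {X Y} Φ := by
    have hw := Φ.hom.w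
    have h1 : Φ.hom.fst ≫ Y.aut.hom = X.aut.hom ≫ Φ.hom.snd :=
      congrArg (fun Ψ => Ψ.hom.fst) hw
    have h2 : Φ.hom.fst ≫ 𝟙 _ = 𝟙 _ ≫ Φ.hom.snd :=
      congrArg (fun Ψ => Ψ.hom.snd) hw
    have h3 : Φ.hom.fst = Φ.hom.snd := by
      rw [Category.comp_id, Category.id_comp] at h2
      exact h2
    refine ⟨⟨Φ.hom.fst, ?_⟩, ?_⟩
    · exact (h1.trans (congrArg (fun t => X.aut.hom ≫ t) h3.symm)).symm
    · apply ObjectProperty.hom_ext
      apply Limits.CategoricalPullback.hom_ext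
      · rfl
      · exact h3

theorem inertiaToFpDiag_exists_iso (η : (FibCat.fp (FibCat.diag F) (FibCat.diag F)).obj) :
    ∃ (ξ : (FibCat.inertia F).obj) (e : (inertiaToFpDiag F).toFunctor.obj ξ ≅ η),
      (FibCat.fp (FibCat.diag F) (FibCat.diag F)).p.IsHomLift
        (𝟙 ((FibCat.fp (FibCat.diag F) (FibCat.diag F)).p.obj η)) e.hom := by
  let aI : η.obj.fst ≅ η.obj.snd := (FibCat.fpFst F F).toFunctor.mapIso η.obj.iso
  let bI : η.obj.fst ≅ η.obj.snd := (FibCat.fpSnd F F).toFunctor.mapIso η.obj.iso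
  have hab : F.map aI.hom = F.map bI.hom := by
    have h := η.obj.iso.hom.hom.w
    rw [diag_obj_iso_hom, diag_obj_iso_hom] at h
    exact ((Category.comp_id _).symm.trans h).trans (Category.id_comp _)
  have hξ : F.map (aI ≪≫ bI.symm).hom = 𝟙 (F.obj η.obj.fst) := by
    rw [Iso.trans_hom, F.map_comp, hab, ← F.map_comp, Iso.symm_hom, Iso.hom_inv_id, F.map_id]
  let ξ : FibCat.InertiaObj F := ⟨η.obj.fst, aI ≪≫ bI.symm, hξ⟩
  have hw1 : (FibCat.diag F).map (𝟙 η.obj.fst) ≫ η.obj.iso.hom =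
      (inertiaDiagIso F ξ).hom ≫ (FibCat.diag F).map bI.hom := by
    apply ObjectProperty.hom_ext
    apply Limits.CategoricalPullback.hom_ext
    · change 𝟙 _ ≫ aI.hom = (aI.hom ≫ bI.inv) ≫ bI.hom
      rw [Category.id_comp, Category.assoc, Iso.inv_hom_id, Category.comp_id]
    · rfl
  have hw2 : (FibCat.diag F).map (𝟙 η.obj.fst) ≫ (inertiaDiagIso F ξ).hom =
      η.obj.iso.hom ≫ (FibCat.diag F).map bI.inv := by
    apply ObjectProperty.hom_ext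
    apply Limits.CategoricalPullback.hom_ext
    · change 𝟙 _ ≫ (aI.hom ≫ bI.inv) = aI.hom ≫ bI.inv
      rw [Category.id_comp]
    · change 𝟙 _ ≫ 𝟙 _ = bI.hom ≫ bI.inv
      rw [Category.id_comp, Iso.hom_inv_id]
  let eh : (inertiaToFpDiag F).toFunctor.obj ξ ⟶ η :=
    ObjectProperty.homMk { fst := 𝟙 _, snd := bI.hom, w := hw1 }
  let ei : η ⟶ (inertiaToFpDiag F).toFunctor.obj ξ :=
    ObjectProperty.homMk { fst := 𝟙 _, snd := bI.inv, w := hw2 }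
  have h1 : eh ≫ ei = 𝟙 _ := by
    apply ObjectProperty.hom_ext
    apply Limits.CategoricalPullback.hom_ext
    · exact Category.comp_id _
    · exact bI.hom_inv_id
  have h2 : ei ≫ eh = 𝟙 _ := by
    apply ObjectProperty.hom_ext
    apply Limits.CategoricalPullback.hom_ext
    · exact Category.comp_id _
    · exact bI.inv_hom_id
  refine ⟨ξ, ⟨eh, ei, h1, h2⟩, ?_⟩
  rw [fp_isHomLift_iff]
  change 𝒳.p.IsHomLift (𝟙 (𝒳.p.obj η.obj.fst)) (𝟙 η.obj.fst)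
  infer_instance

end InertiaDiag

section Setoid

variable {C : Type u} [Category.{v} C] {𝒳 : BasedCategory.{v₂, u₂} C}

/-- If the forgetful functor from the inertia is full, automorphisms in the fibres are trivial. -/
theorem aut_eq_id_of_inertiaToBase_full
    [(FibCat.inertiaToBase (FibCat.toSelf 𝒳)).toFunctor.Full] {x : 𝒳.obj} (α : x ≅ x)
    [𝒳.p.IsHomLift (𝟙 (𝒳.p.obj x)) α.hom] : α.hom = 𝟙 x := by
  have hα : (FibCat.toSelf 𝒳).map α.hom = 𝟙 ((FibCat.toSelf 𝒳).obj x) := by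
    change 𝒳.p.map α.hom = 𝟙 (𝒳.p.obj x)
    exact IsHomLift.eq_of_isHomLift 𝒳.p (𝟙 (𝒳.p.obj x)) α.hom |>.symm
  let X₀ : FibCat.InertiaObj (FibCat.toSelf 𝒳) := ⟨x, Iso.refl x, (FibCat.toSelf 𝒳).map_id x⟩
  let X₁ : FibCat.InertiaObj (FibCat.toSelf 𝒳) := ⟨x, α, hα⟩
  obtain ⟨φ, hφ⟩ := (FibCat.inertiaToBase (FibCat.toSelf 𝒳)).toFunctor.map_surjective
    (X := X₀) (Y := X₁) (𝟙 x)
  have hφ' : φ.hom = 𝟙 x := hφ
  have h := φ.comm
  rw [hφ'] at h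
  change 𝟙 x ≫ 𝟙 x = 𝟙 x ≫ α.hom at h
  rw [Category.id_comp, Category.id_comp] at h
  exact h.symm

theorem isFibSetoid_of_inertiaToBase_full [FibCat.IsFibGrpd 𝒳.p]
    [(FibCat.inertiaToBase (FibCat.toSelf 𝒳)).toFunctor.Full] : FibCat.IsFibSetoid 𝒳.p := by
  refine ⟨inferInstance, fun U a b => ⟨fun f g => ?_⟩⟩
  haveI := isGroupoid_fiber 𝒳.p U
  haveI : IsIso g := IsGroupoid.all_isIso g
  haveI : IsIso f := IsGroupoid.all_isIso f
  let β : a ≅ a := asIso f ≪≫ (asIso g).symm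
  let α : a.1 ≅ a.1 := Fiber.fiberInclusion.mapIso β
  obtain ⟨a, ha⟩ := a
  subst ha
  haveI : 𝒳.p.IsHomLift (𝟙 (𝒳.p.obj a)) α.hom := β.hom.2
  have h1 : α.hom = 𝟙 a := aut_eq_id_of_inertiaToBase_full α
  have h2 : β.hom = 𝟙 _ := Subtype.ext h1
  have h3 : f ≫ inv g = 𝟙 _ := h2
  calc f = (f ≫ inv g) ≫ g := by rw [Category.assoc, IsIso.inv_hom_id, Category.comp_id]
    _ = g := by rw [h3, Category.id_comp]

end Setoid

section FibSet

variable {C : Type u} [Category.{v} C] {𝒳 : BasedCategory.{v₂, u₂} C}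
  {𝒴 : BasedCategory.{v₃, u₃} C}

/-- In a category with discrete fibres a morphism over an identity is an `eqToHom`. -/
theorem exists_eq_eqToHom_of_isDiscrete_fiber (h : ∀ U : C, IsDiscrete (𝒴.p.Fiber U))
    {U : C} {a b : 𝒴.obj} (φ : a ⟶ b) [𝒴.p.IsHomLift (𝟙 U) φ] :
    ∃ hab : a = b, φ = eqToHom hab := by
  let A : 𝒴.p.Fiber U := ⟨a, IsHomLift.domain_eq 𝒴.p (𝟙 U) φ⟩
  let B : 𝒴.p.Fiber U := ⟨b, IsHomLift.codomain_eq 𝒴.p (𝟙 U) φ⟩
  let Φ : A ⟶ B := ⟨φ, inferInstance⟩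
  haveI := h U
  have hAB : A = B := IsDiscrete.eq_of_hom Φ
  have hab : a = b := congrArg Subtype.val hAB
  subst hab
  refine ⟨rfl, ?_⟩
  have : Φ = 𝟙 A := Subsingleton.elim _ _
  exact congrArg Subtype.val this

theorem basedNatTrans_eq_eqToHom (h : ∀ U : C, IsDiscrete (𝒴.p.Fiber U)) {F G : 𝒳 ⥤ᵇ 𝒴}
    (α : F ⟶ G) : ∃ h : F = G, α = eqToHom h := by
  have happ : ∀ x : 𝒳.obj, ∃ hx : F.obj x = G.obj x, α.toNatTrans.app x = eqToHom hx :=
    fun x => exists_eq_eqToHom_of_isDiscrete_fiber h (U := 𝒳.p.obj x) (α.toNatTrans.app x)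
  have hFG : F.toFunctor = G.toFunctor := by
    refine Functor.ext (fun x => (happ x).1) ?_
    intro x y f
    have hn := α.toNatTrans.naturality f
    obtain ⟨hx, hx'⟩ := happ x
    obtain ⟨hy, hy'⟩ := happ y
    rw [hx', hy'] at hn
    rw [← Category.assoc, ← hn, Category.assoc, eqToHom_trans, eqToHom_refl, Category.comp_id]
  have hFG' : F = G := by
    cases F; cases G
    cases hFG
    rfl
  subst hFG'
  refine ⟨rfl, ?_⟩
  apply BasedNatTrans.homCategory.ext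
  ext x
  obtain ⟨hx, hx'⟩ := happ x
  rw [hx']
  rfl

end FibSet

section CompCancel

variable {C : Type u} [Category.{v} C] {ℬ : Type u₂} [Category.{v₂} ℬ] {ℰ : Type u₃}
  [Category.{v₃} ℰ] (q : ℰ ⥤ ℬ) (p : ℬ ⥤ C)

/-- If `Φ` is strongly cartesian for `q ⋙ p` and `q Φ` is strongly cartesian for `p`, then `Φ` is
strongly cartesian for `q`. -/
theorem isStronglyCartesian_of_comp {X' X : ℰ} (Φ : X' ⟶ X)
    [(q ⋙ p).IsStronglyCartesian ((q ⋙ p).map Φ) Φ]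
    [p.IsStronglyCartesian (p.map (q.map Φ)) (q.map Φ)] :
    q.IsStronglyCartesian (q.map Φ) Φ where
  universal_property' {Z} g Θ hΘ := by
    have hΘ' : q.map Θ = g ≫ q.map Φ := (IsHomLift.eq_of_isHomLift q (g ≫ q.map Φ) Θ).symm
    haveI h1 : (q ⋙ p).IsHomLift (p.map g ≫ (q ⋙ p).map Φ) Θ := by
      have : p.map g ≫ (q ⋙ p).map Φ = (q ⋙ p).map Θ := by
        change p.map g ≫ p.map (q.map Φ) = p.map (q.map Θ)
        rw [hΘ', p.map_comp]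
      rw [this]
      infer_instance
    let Χ : Z ⟶ X' := IsStronglyCartesian.map (q ⋙ p) ((q ⋙ p).map Φ) Φ
      (g := p.map g) (f' := p.map g ≫ (q ⋙ p).map Φ) rfl Θ
    haveI hΧl : (q ⋙ p).IsHomLift (p.map g) Χ :=
      IsStronglyCartesian.map_isHomLift (q ⋙ p) ((q ⋙ p).map Φ) Φ rfl Θ
    have hΧ : Χ ≫ Φ = Θ := IsStronglyCartesian.fac (q ⋙ p) ((q ⋙ p).map Φ) Φ rfl Θ
    haveI h2 : p.IsHomLift (p.map g) (q.map Χ) := by
      have := IsHomLift.eq_of_isHomLift (q ⋙ p) (p.map g) Χ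
      change p.map g = p.map (q.map Χ) at this
      rw [this]
      infer_instance
    have hqΧ : q.map Χ = g := by
      apply IsStronglyCartesian.ext p (p.map (q.map Φ)) (q.map Φ) (p.map g)
      rw [← q.map_comp, hΧ, hΘ']
    refine ⟨Χ, ⟨?_, hΧ⟩, ?_⟩
    · rw [← hqΧ]; infer_instance
    · rintro Χ' ⟨hΧ'l, hΧ'⟩
      haveI : (q ⋙ p).IsHomLift (p.map g) Χ' := by
        have := IsHomLift.eq_of_isHomLift q g Χ'
        have h3 : (q ⋙ p).map Χ' = p.map g := by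
          change p.map (q.map Χ') = p.map g
          rw [← this]
        rw [← h3]
        infer_instance
      exact IsStronglyCartesian.map_uniq (q ⋙ p) ((q ⋙ p).map Φ) Φ rfl Θ Χ' hΧ'

/-- If `q ⋙ p` and `p` are fibred in groupoids and `q` admits lifts of morphisms, then `q` is
fibred in groupoids. -/
theorem isFibGrpd_of_comp [FibCat.IsFibGrpd (q ⋙ p)] [FibCat.IsFibGrpd p]
    (h : ∀ {X : ℰ} {b : ℬ} (f : b ⟶ q.obj X), ∃ (X' : ℰ) (Φ : X' ⟶ X), q.IsHomLift f Φ) :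
    FibCat.IsFibGrpd q where
  exists_lift f := h f
  isStronglyCartesian Φ := by
    haveI := FibCat.IsFibGrpd.isStronglyCartesian (p := q ⋙ p) Φ
    haveI := FibCat.IsFibGrpd.isStronglyCartesian (p := p) (q.map Φ)
    exact isStronglyCartesian_of_comp q p Φ

end CompCancel

section FpProj

variable {C : Type u} [Category.{v} C] {𝒳 : BasedCategory.{v₂, u₂} C}
  {𝒴 : BasedCategory.{v₃, u₃} C} {𝒮 : BasedCategory.{v₄, u₄} C} (F : 𝒳 ⥤ᵇ 𝒮) (G : 𝒴 ⥤ᵇ 𝒮)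

theorem fpFst_isFibGrpd [FibCat.IsFibGrpd 𝒳.p] [FibCat.IsFibGrpd 𝒴.p] [FibCat.IsFibGrpd 𝒮.p] :
    FibCat.IsFibGrpd (FibCat.fpFst F G).toFunctor := by
  haveI : FibCat.IsFibGrpd ((FibCat.fpFst F G).toFunctor ⋙ 𝒳.p) := fp_isFibGrpd F G
  refine isFibGrpd_of_comp (FibCat.fpFst F G).toFunctor 𝒳.p ?_
  intro X b φ
  change b ⟶ X.obj.fst at φ
  haveI := isFibered 𝒴.p
  obtain ⟨b', ψ, hψ⟩ := IsPreFibered.exists_isCartesian 𝒴.p (a := X.obj.snd)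
    (fp_snd_proj F G X) (𝒳.p.map φ)
  haveI hψl : 𝒴.p.IsHomLift (𝒳.p.map φ) ψ := inferInstance
  haveI hFφ : 𝒮.p.IsStronglyCartesian (𝒳.p.map φ) (F.map φ) :=
    isStronglyCartesian_of_isHomLift 𝒮.p _ _
  haveI hGψ : 𝒮.p.IsStronglyCartesian (𝒳.p.map φ) (G.map ψ) :=
    isStronglyCartesian_of_isHomLift 𝒮.p _ _
  obtain ⟨e', he'l, he'⟩ := fp_exists_iso_lift F G X (𝒳.p.map φ) φ ψ
  let X' : (FibCat.fp F G).obj := ⟨{ fst := b, snd := b', iso := e' }, he'l⟩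
  let Φ : X' ⟶ X := ObjectProperty.homMk { fst := φ, snd := ψ, w := he' }
  exact ⟨X', Φ, CategoryTheory.IsHomLift.map (FibCat.fpFst F G).toFunctor Φ⟩

theorem fpSnd_isFibGrpd [FibCat.IsFibGrpd 𝒳.p] [FibCat.IsFibGrpd 𝒴.p] [FibCat.IsFibGrpd 𝒮.p] :
    FibCat.IsFibGrpd (FibCat.fpSnd F G).toFunctor := by
  haveI : FibCat.IsFibGrpd ((FibCat.fpSnd F G).toFunctor ⋙ 𝒴.p) := by
    rw [(FibCat.fpSnd F G).w]
    exact fp_isFibGrpd F G
  refine isFibGrpd_of_comp (FibCat.fpSnd F G).toFunctor 𝒴.p ?_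
  intro X b ψ
  change b ⟶ X.obj.snd at ψ
  haveI := isFibered 𝒳.p
  let f : 𝒴.p.obj b ⟶ 𝒳.p.obj X.obj.fst := 𝒴.p.map ψ ≫ eqToHom (fp_snd_proj F G X)
  haveI hψl : 𝒴.p.IsHomLift f ψ := by dsimp only [f]; infer_instance
  obtain ⟨a', φ, hφ⟩ := IsPreFibered.exists_isCartesian 𝒳.p (a := X.obj.fst) rfl f
  haveI hφl : 𝒳.p.IsHomLift f φ := inferInstance
  haveI hFφ : 𝒮.p.IsStronglyCartesian f (F.map φ) :=
    isStronglyCartesian_of_isHomLift 𝒮.p _ _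
  haveI hGψ : 𝒮.p.IsStronglyCartesian f (G.map ψ) :=
    isStronglyCartesian_of_isHomLift 𝒮.p _ _
  obtain ⟨e', he'l, he'⟩ := fp_exists_iso_lift F G X f φ ψ
  let X' : (FibCat.fp F G).obj := ⟨{ fst := a', snd := b, iso := e' }, he'l⟩
  let Φ : X' ⟶ X := ObjectProperty.homMk { fst := φ, snd := ψ, w := he' }
  exact ⟨X', Φ, CategoryTheory.IsHomLift.map (FibCat.fpSnd F G).toFunctor Φ⟩

end FpProj

section OverCat

variable {C : Type u} [Category.{v} C] (U : C)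

theorem overForget_isStronglyCartesian {X Y : Over U} (φ : X ⟶ Y) :
    (Over.forget U).IsStronglyCartesian ((Over.forget U).map φ) φ where
  universal_property' {Z} g θ hθ := by
    change Z.left ⟶ X.left at g
    have hθ' : (Over.forget U).map θ = g ≫ (Over.forget U).map φ :=
      (@IsHomLift.eq_of_isHomLift _ _ _ _ (Over.forget U) _ _ _ θ hθ).symm
    have hw : (g : Z.left ⟶ X.left) ≫ X.hom = Z.hom := by
      have h1 : φ.left ≫ Y.hom = X.hom := Over.w φ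
      have h2 : θ.left ≫ Y.hom = Z.hom := Over.w θ
      have h3 : θ.left = (g : Z.left ⟶ X.left) ≫ φ.left := hθ'
      calc g ≫ X.hom = g ≫ (φ.left ≫ Y.hom) := by rw [h1]
        _ = (g ≫ φ.left) ≫ Y.hom := (Category.assoc _ _ _).symm
        _ = θ.left ≫ Y.hom := by rw [h3]
        _ = Z.hom := h2
    refine ⟨Over.homMk g hw, ⟨?_, ?_⟩, ?_⟩
    · exact CategoryTheory.IsHomLift.map (Over.forget U) (Over.homMk g hw)
    · apply Over.OverMorphism.ext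
      exact hθ'.symm
    · rintro χ ⟨hχl, hχ⟩
      apply Over.OverMorphism.ext
      exact (IsHomLift.eq_of_isHomLift (Over.forget U) g χ).symm

instance overForget_isFibGrpd : FibCat.IsFibGrpd (Over.forget U) where
  exists_lift {X V} f :=
    ⟨Over.mk ((f : V ⟶ X.left) ≫ X.hom), Over.homMk f rfl,
      CategoryTheory.IsHomLift.map (Over.forget U) (Over.homMk (U := Over.mk ((f : V ⟶ X.left) ≫ X.hom)) f rfl)⟩
  isStronglyCartesian φ := overForget_isStronglyCartesian U φ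

instance overCat_isFibGrpd : FibCat.IsFibGrpd (FibCat.overCat U).p :=
  overForget_isFibGrpd U

end OverCat

section UniqueLift

variable {C : Type u} [Category.{v} C] {𝒳 : Type u₂} [Category.{v₂} 𝒳] (p : 𝒳 ⥤ C)

/-- The unique lifting property characterising categories fibred in sets. -/
def HasUniqueLifts : Prop :=
  ∀ (η : 𝒳) (U : C) (f : U ⟶ p.obj η), ∃! φ : (Σ ξ : 𝒳, (ξ ⟶ η)), p.IsHomLift f φ.2

variable {p}

theorem sigma_hom_ext {η : 𝒳} {a b : Σ ξ : 𝒳, (ξ ⟶ η)} (h : a.1 = b.1)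
    (h' : a.2 = eqToHom h ≫ b.2) : a = b := by
  obtain ⟨a1, a2⟩ := a
  obtain ⟨b1, b2⟩ := b
  change a1 = b1 at h
  subst h
  change a2 = 𝟙 _ ≫ b2 at h'
  rw [Category.id_comp] at h'
  subst h'
  rfl

theorem sigma_hom_eq_iff {η : 𝒳} {a b : Σ ξ : 𝒳, (ξ ⟶ η)} (hab : a = b) :
    ∃ h : a.1 = b.1, a.2 = eqToHom h ≫ b.2 := by
  subst hab
  exact ⟨rfl, (Category.id_comp _).symm⟩

theorem hasUniqueLifts_of_isFibSet (h : FibCat.IsFibSet p) : HasUniqueLifts p := by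
  obtain ⟨hgrpd, hdisc⟩ := h
  intro η U f
  obtain ⟨ξ, φ, hφ⟩ := hgrpd.exists_lift f
  refine ⟨⟨ξ, φ⟩, hφ, ?_⟩
  rintro ⟨ξ', φ'⟩ hφ'
  change p.IsHomLift f φ' at hφ'
  haveI : p.IsStronglyCartesian f φ := isStronglyCartesian_of_isHomLift p f φ
  let χ : ξ' ⟶ ξ := IsCartesian.map p f φ φ'
  haveI hχl : p.IsHomLift (𝟙 U) χ := IsCartesian.map_isHomLift p f φ φ'
  have hχ : χ ≫ φ = φ' := IsCartesian.fac p f φ φ'
  obtain ⟨hab, hχ'⟩ := @exists_eq_eqToHom_of_isDiscrete_fiber _ _ (BasedCategory.ofFunctor p)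
    hdisc U _ _ χ hχl
  apply sigma_hom_ext hab
  change φ' = eqToHom hab ≫ φ
  exact hχ.symm.trans (congrArg (· ≫ φ) hχ')

theorem isFibGrpd_of_hasUniqueLifts (h : HasUniqueLifts p) : FibCat.IsFibGrpd p where
  exists_lift {x V} f := by
    obtain ⟨⟨ξ, φ⟩, hφ, -⟩ := h x V f
    exact ⟨ξ, φ, hφ⟩
  isStronglyCartesian {y x} φ := by
    refine { universal_property' := ?_ }
    intro z g ψ hψ
    obtain ⟨⟨z', χ⟩, hχ, huniq⟩ := h y (p.obj z) g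
    change p.IsHomLift g χ at hχ
    obtain ⟨⟨w, ω⟩, hω, huniq2⟩ := h x (p.obj z) (g ≫ p.map φ)
    have e1 : (⟨z', χ ≫ φ⟩ : Σ ξ, ξ ⟶ x) = ⟨w, ω⟩ :=
      huniq2 ⟨z', χ ≫ φ⟩ (inferInstance : p.IsHomLift (g ≫ p.map φ) (χ ≫ φ))
    have e2 : (⟨z, ψ⟩ : Σ ξ, ξ ⟶ x) = ⟨w, ω⟩ := huniq2 ⟨z, ψ⟩ hψ
    obtain ⟨hz, hzψ⟩ := sigma_hom_eq_iff (e2.trans e1.symm)
    change z = z' at hz
    subst hz
    change ψ = 𝟙 _ ≫ χ ≫ φ at hzψ
    rw [Category.id_comp] at hzψ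
    refine ⟨χ, ⟨hχ, hzψ.symm⟩, ?_⟩
    rintro χ' ⟨hχ'l, -⟩
    obtain ⟨_, h2⟩ := sigma_hom_eq_iff (huniq ⟨z, χ'⟩ hχ'l)
    change χ' = 𝟙 _ ≫ χ at h2
    rw [Category.id_comp] at h2
    exact h2

theorem isDiscrete_fiber_of_hasUniqueLifts (h : HasUniqueLifts p) (U : C) :
    IsDiscrete (p.Fiber U) := by
  have key : ∀ {a b : p.Fiber U} (α : a ⟶ b), ∃ hab : a.1 = b.1, α.1 = eqToHom hab := by
    intro a b α
    obtain ⟨b, hb⟩ := b
    subst hb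
    obtain ⟨⟨w, ω⟩, hω, huniq⟩ := h b (p.obj b) (𝟙 _)
    have e1 : (⟨a.1, α.1⟩ : Σ ξ, ξ ⟶ b) = ⟨w, ω⟩ := huniq ⟨a.1, α.1⟩ α.2
    have e2 : (⟨b, 𝟙 b⟩ : Σ ξ, ξ ⟶ b) = ⟨w, ω⟩ :=
      huniq ⟨b, 𝟙 b⟩ (inferInstance : p.IsHomLift (𝟙 (p.obj b)) (𝟙 b))
    obtain ⟨hab, hα⟩ := sigma_hom_eq_iff (e1.trans e2.symm)
    exact ⟨hab, hα.trans (Category.comp_id _)⟩
  refine { subsingleton := fun a b => ⟨fun α β => ?_⟩, eq_of_hom := fun α => ?_ }
  · obtain ⟨h1, h2⟩ := key α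
    obtain ⟨_, h3⟩ := key β
    exact Subtype.ext (h2.trans h3.symm)
  · exact Subtype.ext (key α).1

theorem isFibSet_iff_hasUniqueLifts : FibCat.IsFibSet p ↔ HasUniqueLifts p :=
  ⟨hasUniqueLifts_of_isFibSet, fun h =>
    ⟨isFibGrpd_of_hasUniqueLifts h, isDiscrete_fiber_of_hasUniqueLifts h⟩⟩

end UniqueLift

section CompSet

variable {C : Type u} [Category.{v} C] {𝒢 : Type u₂} [Category.{v₂} 𝒢] {ℱ : Type u₃}
  [Category.{v₃} ℱ] (F : ℱ ⥤ 𝒢) (G : 𝒢 ⥤ C)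

theorem isHomLift_comp_iff {R S : C} (f : R ⟶ S) {a b : ℱ} (φ : a ⟶ b) :
    (F ⋙ G).IsHomLift f φ ↔ G.IsHomLift f (F.map φ) := by
  constructor
  · intro h
    exact IsHomLift.of_fac G f (F.map φ) (IsHomLift.domain_eq (F ⋙ G) f φ)
      (IsHomLift.codomain_eq (F ⋙ G) f φ) (IsHomLift.fac (F ⋙ G) f φ)
  · intro h
    exact IsHomLift.of_fac (F ⋙ G) f φ (IsHomLift.domain_eq G f (F.map φ))
      (IsHomLift.codomain_eq G f (F.map φ)) (IsHomLift.fac G f (F.map φ))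

theorem isHomLift_comp_of {R S : C} (f : R ⟶ S) {b c : 𝒢} (g : b ⟶ c) {x' x : ℱ} (φ : x' ⟶ x)
    [F.IsHomLift g φ] [G.IsHomLift f g] : (F ⋙ G).IsHomLift f φ := by
  subst_hom_lift F g φ
  exact (isHomLift_comp_iff F G f φ).mpr inferInstance

variable {F G}

/-- If `G` has unique lifts, a morphism lying over `G g` for `F ⋙ G` lies over `g` for `F`. -/
theorem exists_eq_of_isHomLift_comp (hG : HasUniqueLifts G) {x' x : ℱ} (φ : x' ⟶ x) {b : 𝒢}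
    (g : b ⟶ F.obj x) [(F ⋙ G).IsHomLift (G.map g) φ] :
    ∃ hb : F.obj x' = b, F.map φ = eqToHom hb ≫ g := by
  have h1 : G.IsHomLift (G.map g) (F.map φ) := (isHomLift_comp_iff F G _ φ).mp inferInstance
  obtain ⟨⟨w, ω⟩, hω, huniq⟩ := hG (F.obj x) (G.obj b) (G.map g)
  have e1 : (⟨F.obj x', F.map φ⟩ : Σ ξ, ξ ⟶ F.obj x) = ⟨w, ω⟩ := huniq ⟨F.obj x', F.map φ⟩ h1
  have e2 : (⟨b, g⟩ : Σ ξ, ξ ⟶ F.obj x) = ⟨w, ω⟩ :=
    huniq ⟨b, g⟩ (inferInstance : G.IsHomLift (G.map g) g)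
  exact sigma_hom_eq_iff (e1.trans e2.symm)

theorem isHomLift_of_isHomLift_comp (hG : HasUniqueLifts G) {x' x : ℱ} (φ : x' ⟶ x) {b : 𝒢}
    (g : b ⟶ F.obj x) [(F ⋙ G).IsHomLift (G.map g) φ] : F.IsHomLift g φ := by
  obtain ⟨hb, hφ⟩ := exists_eq_of_isHomLift_comp hG φ g
  subst hb
  rw [eqToHom_refl, Category.id_comp] at hφ
  rw [← hφ]
  infer_instance

theorem isFibered_of_comp_of_hasUniqueLifts (hG : HasUniqueLifts G) [(F ⋙ G).IsFibered] :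
    F.IsFibered := by
  haveI := isFibGrpd_of_hasUniqueLifts hG
  apply IsFibered.of_exists_isStronglyCartesian
  intro a R g
  obtain ⟨x', φ, hφ⟩ := IsPreFibered.exists_isCartesian (F ⋙ G) (a := a) rfl (G.map g)
  haveI hφs : (F ⋙ G).IsStronglyCartesian (G.map g) φ := inferInstance
  obtain ⟨hb, hφg⟩ := exists_eq_of_isHomLift_comp hG φ g
  subst hb
  rw [eqToHom_refl, Category.id_comp] at hφg
  subst hφg
  haveI : (F ⋙ G).IsStronglyCartesian ((F ⋙ G).map φ) φ := hφs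
  haveI : G.IsStronglyCartesian (G.map (F.map φ)) (F.map φ) :=
    FibCat.IsFibGrpd.isStronglyCartesian (F.map φ)
  exact ⟨x', φ, isStronglyCartesian_of_comp F G φ⟩

theorem isFibGrpd_of_comp_of_hasUniqueLifts (hG : HasUniqueLifts G) [FibCat.IsFibGrpd (F ⋙ G)] :
    FibCat.IsFibGrpd F := by
  haveI := isFibGrpd_of_hasUniqueLifts hG
  refine isFibGrpd_of_comp F G ?_
  intro X b g
  obtain ⟨x', φ, hφ⟩ := FibCat.IsFibGrpd.exists_lift (p := F ⋙ G) (x := X) (G.map g)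
  exact ⟨x', φ, isHomLift_of_isHomLift_comp hG φ g⟩

theorem hasUniqueLifts_comp (hF : HasUniqueLifts F) (hG : HasUniqueLifts G) :
    HasUniqueLifts (F ⋙ G) := by
  intro η U f
  obtain ⟨⟨b, g⟩, hg, ug⟩ := hG (F.obj η) U f
  change G.IsHomLift f g at hg
  obtain ⟨⟨ξ, φ⟩, hφ, uφ⟩ := hF η b g
  change F.IsHomLift g φ at hφ
  refine ⟨⟨ξ, φ⟩, isHomLift_comp_of F G f g φ, ?_⟩
  rintro ⟨ξ', φ'⟩ hφ'
  change (F ⋙ G).IsHomLift f φ' at hφ'
  have h1 : G.IsHomLift f (F.map φ') := (isHomLift_comp_iff F G f φ').mp hφ'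
  obtain ⟨hb, hφg⟩ := sigma_hom_eq_iff (ug ⟨F.obj ξ', F.map φ'⟩ h1)
  change F.obj ξ' = b at hb
  subst hb
  change F.map φ' = eqToHom rfl ≫ g at hφg
  rw [eqToHom_refl, Category.id_comp] at hφg
  subst hφg
  exact uφ ⟨ξ', φ'⟩ (inferInstance : F.IsHomLift (F.map φ') φ')

theorem hasUniqueLifts_of_comp (hFG : HasUniqueLifts (F ⋙ G)) (hG : HasUniqueLifts G) :
    HasUniqueLifts F := by
  intro η b g
  obtain ⟨⟨ξ, φ⟩, hφ, uφ⟩ := hFG η (G.obj b) (G.map g)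
  change (F ⋙ G).IsHomLift (G.map g) φ at hφ
  refine ⟨⟨ξ, φ⟩, isHomLift_of_isHomLift_comp hG φ g, ?_⟩
  rintro ⟨ξ', φ'⟩ hφ'
  change F.IsHomLift g φ' at hφ'
  exact uφ ⟨ξ', φ'⟩ (isHomLift_comp_of F G (G.map g) g φ')

end CompSet

section FiberedFiberwise

variable {C : Type u} [Category.{v} C] {𝒳 : BasedCategory.{v₂, u₂} C}
  {𝒴 : BasedCategory.{v₃, u₃} C} (G : 𝒳 ⥤ᵇ 𝒴)

theorem fiber_functor_ext {D : Type u₄} [Category.{v₄} D] {p : 𝒳.obj ⥤ C} {S : C}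
    (H₁ H₂ : D ⥤ p.Fiber S)
    (h : H₁ ⋙ Functor.Fiber.fiberInclusion = H₂ ⋙ Functor.Fiber.fiberInclusion) : H₁ = H₂ := by
  refine Functor.ext (fun x => Functor.Fiber.fiberInclusion_obj_inj (Functor.congr_obj h x)) ?_
  intro x y f
  apply Functor.Fiber.fiberInclusion.map_injective
  have := Functor.congr_hom h f
  simp only [Functor.comp_map] at this
  rw [this, Functor.map_comp, Functor.map_comp, eqToHom_map, eqToHom_map]

theorem eq_fiberFunctor (U : C) (GU : 𝒳.p.Fiber U ⥤ 𝒴.p.Fiber U)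
    (hGU : GU ⋙ Functor.Fiber.fiberInclusion = Functor.Fiber.fiberInclusion ⋙ G.toFunctor) :
    GU = FibCat.fiberFunctor G U :=
  fiber_functor_ext GU (FibCat.fiberFunctor G U) hGU

/-- The `p.map φ`-form of preservation of strongly cartesian morphisms implies the general form. -/
theorem preservesStronglyCartesian_of_map
    (hG : ∀ ⦃a b : 𝒳.obj⦄ (φ : a ⟶ b), 𝒳.p.IsStronglyCartesian (𝒳.p.map φ) φ →
      𝒴.p.IsStronglyCartesian (𝒳.p.map φ) (G.toFunctor.map φ)) :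
    FibCat.PreservesStronglyCartesian G := by
  intro R S f a b φ hφ
  subst_hom_lift 𝒳.p f φ
  exact hG φ hφ

theorem faithful_of_fiberFunctor_of_isFibered [𝒳.p.IsFibered]
    (hG : FibCat.PreservesStronglyCartesian G)
    (h : ∀ U, (FibCat.fiberFunctor G U).Faithful) : G.toFunctor.Faithful where
  map_injective {a b} φ ψ hφψ := by
    have hφψ' : G.map φ = G.map ψ := hφψ
    obtain ⟨a', κ, hκ⟩ := IsPreFibered.exists_isCartesian 𝒳.p (a := b) rfl (𝒳.p.map ψ)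
    haveI hκs : 𝒳.p.IsStronglyCartesian (𝒳.p.map ψ) κ := inferInstance
    haveI hGκ : 𝒴.p.IsStronglyCartesian (𝒳.p.map ψ) (G.map κ) := hG _ κ hκs
    haveI h1 : 𝒴.p.IsHomLift (𝒳.p.map ψ) (G.map φ) := by rw [hφψ']; infer_instance
    haveI h2 : 𝒳.p.IsHomLift (𝒳.p.map ψ) φ := G.isHomLift_map (𝒳.p.map ψ) φ
    let χ₁ := IsCartesian.map 𝒳.p (𝒳.p.map ψ) κ φ
    let χ₂ := IsCartesian.map 𝒳.p (𝒳.p.map ψ) κ ψ
    have hχ₁ : χ₁ ≫ κ = φ := IsCartesian.fac 𝒳.p (𝒳.p.map ψ) κ φ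
    have hχ₂ : χ₂ ≫ κ = ψ := IsCartesian.fac 𝒳.p (𝒳.p.map ψ) κ ψ
    haveI hχ₁l : 𝒳.p.IsHomLift (𝟙 (𝒳.p.obj a)) χ₁ := IsCartesian.map_isHomLift 𝒳.p _ κ φ
    haveI hχ₂l : 𝒳.p.IsHomLift (𝟙 (𝒳.p.obj a)) χ₂ := IsCartesian.map_isHomLift 𝒳.p _ κ ψ
    have hGχ : G.map χ₁ = G.map χ₂ := by
      apply IsCartesian.ext 𝒴.p (𝒳.p.map ψ) (G.map κ)
      rw [← G.map_comp, ← G.map_comp, hχ₁, hχ₂, hφψ']
    let A : 𝒳.p.Fiber (𝒳.p.obj a) := ⟨a, rfl⟩
    let A' : 𝒳.p.Fiber (𝒳.p.obj a) := ⟨a', IsHomLift.domain_eq 𝒳.p (𝒳.p.map ψ) κ⟩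
    let χ₁' : A ⟶ A' := ⟨χ₁, hχ₁l⟩
    let χ₂' : A ⟶ A' := ⟨χ₂, hχ₂l⟩
    have : (FibCat.fiberFunctor G (𝒳.p.obj a)).map χ₁' =
        (FibCat.fiberFunctor G (𝒳.p.obj a)).map χ₂' := Subtype.ext hGχ
    have h5 : χ₁' = χ₂' := (h (𝒳.p.obj a)).map_injective this
    have h6 : χ₁ = χ₂ := congrArg Subtype.val h5
    rw [← hχ₁, ← hχ₂, h6]

theorem full_of_fiberFunctor_of_isFibered [𝒳.p.IsFibered]
    (hG : FibCat.PreservesStronglyCartesian G)
    (h : ∀ U, (FibCat.fiberFunctor G U).Full) : G.toFunctor.Full where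
  map_surjective {a b} θ := by
    let f : 𝒳.p.obj a ⟶ 𝒳.p.obj b :=
      eqToHom (G.w_obj a).symm ≫ 𝒴.p.map θ ≫ eqToHom (G.w_obj b)
    have hθ : 𝒴.p.IsHomLift f θ := by dsimp only [f]; infer_instance
    obtain ⟨a', ψ, hψ⟩ := IsPreFibered.exists_isCartesian 𝒳.p (a := b) rfl f
    haveI hψs : 𝒳.p.IsStronglyCartesian f ψ := inferInstance
    haveI h4 : 𝒴.p.IsStronglyCartesian f (G.map ψ) := hG f ψ hψs
    let χ := IsCartesian.map 𝒴.p f (G.map ψ) θ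
    have hχ : χ ≫ G.map ψ = θ := IsCartesian.fac 𝒴.p f (G.map ψ) θ
    let A : 𝒳.p.Fiber (𝒳.p.obj a) := ⟨a, rfl⟩
    let A' : 𝒳.p.Fiber (𝒳.p.obj a) := ⟨a', IsHomLift.domain_eq 𝒳.p f ψ⟩
    let χ' : (FibCat.fiberFunctor G (𝒳.p.obj a)).obj A ⟶
        (FibCat.fiberFunctor G (𝒳.p.obj a)).obj A' :=
      ⟨χ, IsCartesian.map_isHomLift 𝒴.p f (G.map ψ) θ⟩
    obtain ⟨χ'', hχ''⟩ := (h (𝒳.p.obj a)).map_surjective χ'
    refine ⟨χ''.1 ≫ ψ, ?_⟩
    have : G.map χ''.1 = χ := congrArg Subtype.val hχ''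
    change G.map (χ''.1 ≫ ψ) = θ
    rw [G.map_comp, this, hχ]

end FiberedFiberwise

section FiberedFiberwise2

variable {C : Type u} [Category.{v} C] {𝒳 : BasedCategory.{v₂, u₂} C}
  {𝒴 : BasedCategory.{v₃, u₃} C} (G : 𝒳 ⥤ᵇ 𝒴)

/-- Fibrewise essential surjectivity from essential surjectivity over identities. -/
theorem essSurj_fiberFunctor_of_exists_iso
    (h : ∀ η : 𝒴.obj, ∃ (ξ : 𝒳.obj) (e : G.toFunctor.obj ξ ≅ η),
      𝒴.p.IsHomLift (𝟙 (𝒴.p.obj η)) e.hom) (U : C) : (FibCat.fiberFunctor G U).EssSurj where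
  mem_essImage Y := by
    obtain ⟨η, hη⟩ := Y
    subst hη
    obtain ⟨ξ, e, he⟩ := h η
    haveI := he
    have hξ : 𝒳.p.obj ξ = 𝒴.p.obj η :=
      (G.w_obj ξ).symm.trans (IsHomLift.domain_eq 𝒴.p (𝟙 (𝒴.p.obj η)) e.hom)
    let X : 𝒳.p.Fiber (𝒴.p.obj η) := ⟨ξ, hξ⟩
    haveI he' : 𝒴.p.IsHomLift (𝟙 (𝒴.p.obj η)) e.inv := inferInstance
    let Y : 𝒴.p.Fiber (𝒴.p.obj η) := ⟨η, rfl⟩
    let eh : (FibCat.fiberFunctor G (𝒴.p.obj η)).obj X ⟶ Y := ⟨e.hom, he⟩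
    let ei : Y ⟶ (FibCat.fiberFunctor G (𝒴.p.obj η)).obj X := ⟨e.inv, he'⟩
    exact ⟨X, ⟨⟨eh, ei, Subtype.ext e.hom_inv_id, Subtype.ext e.inv_hom_id⟩⟩⟩

theorem exists_iso_of_essSurj_fiberFunctor (h : ∀ U, (FibCat.fiberFunctor G U).EssSurj)
    (η : 𝒴.obj) : ∃ (ξ : 𝒳.obj) (e : G.toFunctor.obj ξ ≅ η),
      𝒴.p.IsHomLift (𝟙 (𝒴.p.obj η)) e.hom := by
  let Y : 𝒴.p.Fiber (𝒴.p.obj η) := ⟨η, rfl⟩
  obtain ⟨X, ⟨e'⟩⟩ := (h (𝒴.p.obj η)).mem_essImage Y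
  exact ⟨X.1, Functor.Fiber.fiberInclusion.mapIso e', e'.hom.2⟩

end FiberedFiberwise2

section Representable

variable {C : Type u} [Category.{v} C] {𝒳 : BasedCategory.{v₂, u₂} C}

/-- The functor to the slice over the image of a terminal-like object. -/
noncomputable def toOverOfTerminal (ξ : 𝒳.obj) (hξ : ∀ ρ : 𝒳.obj, Nonempty (Unique (ρ ⟶ ξ))) :
    𝒳 ⥤ᵇ FibCat.overCat (𝒳.p.obj ξ) where
  toFunctor :=
    { obj := fun ρ => Over.mk (𝒳.p.map (hξ ρ).some.default)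
      map := fun {ρ ρ'} φ => Over.homMk (𝒳.p.map φ) (by
        change 𝒳.p.map φ ≫ 𝒳.p.map (hξ ρ').some.default = 𝒳.p.map (hξ ρ).some.default
        rw [← 𝒳.p.map_comp]
        congr 1
        exact (hξ ρ).some.eq_default _)
      map_id := fun ρ => by
        apply Over.OverMorphism.ext
        exact 𝒳.p.map_id ρ
      map_comp := fun φ ψ => by
        apply Over.OverMorphism.ext
        exact 𝒳.p.map_comp φ ψ }
  w := rfl

variable (ξ : 𝒳.obj) (hξ : ∀ ρ : 𝒳.obj, Nonempty (Unique (ρ ⟶ ξ)))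

theorem toOverOfTerminal_map_left {ρ ρ' : 𝒳.obj} (φ : ρ ⟶ ρ') :
    ((toOverOfTerminal ξ hξ).map φ).left = 𝒳.p.map φ := rfl

theorem hom_eq_default {ρ : 𝒳.obj} (φ : ρ ⟶ ξ) : φ = (hξ ρ).some.default :=
  (hξ ρ).some.eq_default φ

theorem toOverOfTerminal_faithful [FibCat.IsFibGrpd 𝒳.p] :
    (toOverOfTerminal ξ hξ).toFunctor.Faithful where
  map_injective {ρ ρ'} φ ψ h := by
    have h1 : 𝒳.p.map φ = 𝒳.p.map ψ := congrArg (fun t => t.left) h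
    haveI := FibCat.IsFibGrpd.isStronglyCartesian (p := 𝒳.p) (hξ ρ').some.default
    haveI : 𝒳.p.IsHomLift (𝒳.p.map φ) ψ := by rw [h1]; infer_instance
    apply IsStronglyCartesian.ext 𝒳.p (𝒳.p.map (hξ ρ').some.default) (hξ ρ').some.default
      (𝒳.p.map φ)
    rw [hom_eq_default ξ hξ (φ ≫ _), hom_eq_default ξ hξ (ψ ≫ _)]

theorem toOverOfTerminal_full [FibCat.IsFibGrpd 𝒳.p] :
    (toOverOfTerminal ξ hξ).toFunctor.Full where
  map_surjective {ρ ρ'} θ := by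
    haveI := FibCat.IsFibGrpd.isStronglyCartesian (p := 𝒳.p) (hξ ρ').some.default
    have hθ : θ.left ≫ 𝒳.p.map (hξ ρ').some.default = 𝒳.p.map (hξ ρ).some.default := Over.w θ
    let g : 𝒳.p.obj ρ ⟶ 𝒳.p.obj ρ' := θ.left
    haveI : 𝒳.p.IsHomLift (g ≫ 𝒳.p.map (hξ ρ').some.default) (hξ ρ).some.default := by
      have : g ≫ 𝒳.p.map (hξ ρ').some.default = 𝒳.p.map (hξ ρ).some.default := hθ
      rw [this]; infer_instance
    let χ : ρ ⟶ ρ' := IsStronglyCartesian.map 𝒳.p (𝒳.p.map (hξ ρ').some.default)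
      (hξ ρ').some.default (g := g) rfl (hξ ρ).some.default
    haveI hχl : 𝒳.p.IsHomLift g χ := IsStronglyCartesian.map_isHomLift 𝒳.p _ _ rfl _
    refine ⟨χ, ?_⟩
    apply Over.OverMorphism.ext
    exact (IsHomLift.eq_of_isHomLift 𝒳.p g χ).symm

theorem toOverOfTerminal_exists_iso [FibCat.IsFibGrpd 𝒳.p] (η : Over (𝒳.p.obj ξ)) :
    ∃ (ρ : 𝒳.obj) (e : (toOverOfTerminal ξ hξ).toFunctor.obj ρ ≅ η),
      (Over.forget (𝒳.p.obj ξ)).IsHomLift (𝟙 ((Over.forget (𝒳.p.obj ξ)).obj η)) e.hom := by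
  obtain ⟨ρ, φ, hφ⟩ := FibCat.IsFibGrpd.exists_lift (p := 𝒳.p) (x := ξ) η.hom
  have hρ : 𝒳.p.obj ρ = η.left := IsHomLift.domain_eq 𝒳.p η.hom φ
  have hφ' : φ = (hξ ρ).some.default := hom_eq_default ξ hξ φ
  have hfac : 𝒳.p.map φ = eqToHom hρ ≫ η.hom := by
    have := IsHomLift.fac' 𝒳.p η.hom φ
    rw [this, eqToHom_refl, Category.comp_id]
  let e : (toOverOfTerminal ξ hξ).toFunctor.obj ρ ≅ η :=
    Over.isoMk (eqToIso hρ) (by
      change eqToHom hρ ≫ η.hom = 𝒳.p.map (hξ ρ).some.default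
      rw [← hφ', hfac])
  refine ⟨ρ, e, ?_⟩
  have hρ' : (Over.forget (𝒳.p.obj ξ)).obj ((toOverOfTerminal ξ hξ).toFunctor.obj ρ) =
      (Over.forget (𝒳.p.obj ξ)).obj η := hρ
  apply IsHomLift.of_fac (Over.forget (𝒳.p.obj ξ)) _ _ hρ' rfl
  change 𝟙 η.left = eqToHom hρ.symm ≫ eqToHom hρ ≫ eqToHom rfl
  simp

theorem isFibGrpd_of_fullyFaithful {𝒴 : BasedCategory.{v₃, u₃} C} (G : 𝒳 ⥤ᵇ 𝒴)
    [G.toFunctor.Full] [G.toFunctor.Faithful] [𝒳.p.IsFibered] [FibCat.IsFibGrpd 𝒴.p] :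
    FibCat.IsFibGrpd 𝒳.p := by
  apply isFibGrpd_of_isFibered
  intro U
  refine ⟨fun {a b} φ => ?_⟩
  haveI := isGroupoid_fiber 𝒴.p U
  haveI := full_fiberFunctor G U
  haveI := faithful_fiberFunctor G U
  haveI : IsIso ((FibCat.fiberFunctor G U).map φ) := IsGroupoid.all_isIso _
  exact isIso_of_fully_faithful (FibCat.fiberFunctor G U) φ

theorem exists_terminal_of_fullyFaithful_of_exists_iso {U : C} (F : 𝒳 ⥤ᵇ FibCat.overCat U)
    [F.toFunctor.Full] [F.toFunctor.Faithful] (ξ : 𝒳.obj)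
    (e : F.toFunctor.obj ξ ≅ Over.mk (𝟙 U)) (ρ : 𝒳.obj) : Nonempty (Unique (ρ ⟶ ξ)) := by
  let t : Limits.IsTerminal (F.toFunctor.obj ξ) :=
    Limits.IsTerminal.ofIso Over.mkIdTerminal e.symm
  refine ⟨{ default := F.toFunctor.preimage (t.from _), uniq := fun φ => ?_ }⟩
  apply F.toFunctor.map_injective
  exact t.hom_ext _ _

end Representable

section FpThin

variable {C : Type u} [Category.{v} C] {𝒳 : BasedCategory.{v₂, u₂} C}
  {𝒴 : BasedCategory.{v₃, u₃} C} {𝒮 : BasedCategory.{v₄, u₄} C} (F : 𝒳 ⥤ᵇ 𝒮) (G : 𝒴 ⥤ᵇ 𝒮)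

/-- If `F` is faithful and the fibres of `𝒴` are thin, the fibres of `𝒳 ×_𝒮 𝒴` are thin. -/
theorem fp_isThin_fiber [F.toFunctor.Faithful] (h : ∀ U : C, Quiver.IsThin (𝒴.p.Fiber U)) (U : C) :
    Quiver.IsThin ((FibCat.fp F G).p.Fiber U) := by
  intro X Y
  refine ⟨fun Φ Ψ => ?_⟩
  have hΦ : (FibCat.fp F G).p.IsHomLift (𝟙 U) Φ.1 := Φ.2
  have hΨ : (FibCat.fp F G).p.IsHomLift (𝟙 U) Ψ.1 := Ψ.2
  have hΦ2 : 𝒴.p.IsHomLift (𝟙 U) Φ.1.hom.snd := fp_isHomLift_snd' F G _ _ hΦ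
  have hΨ2 : 𝒴.p.IsHomLift (𝟙 U) Ψ.1.hom.snd := fp_isHomLift_snd' F G _ _ hΨ
  have hsnd : Φ.1.hom.snd = Ψ.1.hom.snd := by
    let A : 𝒴.p.Fiber U := ⟨X.1.obj.snd, IsHomLift.domain_eq 𝒴.p (𝟙 U) Φ.1.hom.snd⟩
    let B : 𝒴.p.Fiber U := ⟨Y.1.obj.snd, IsHomLift.codomain_eq 𝒴.p (𝟙 U) Φ.1.hom.snd⟩
    let φ' : A ⟶ B := ⟨Φ.1.hom.snd, hΦ2⟩
    let ψ' : A ⟶ B := ⟨Ψ.1.hom.snd, hΨ2⟩
    haveI := h U A B
    exact congrArg Subtype.val (Subsingleton.elim φ' ψ')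
  have hfst : Φ.1.hom.fst = Ψ.1.hom.fst := by
    apply F.toFunctor.map_injective
    have e1 := Φ.1.hom.w
    have e2 := Ψ.1.hom.w
    rw [← cancel_mono Y.1.obj.iso.hom]
    change F.map Φ.1.hom.fst ≫ _ = F.map Ψ.1.hom.fst ≫ _
    rw [e1, e2, hsnd]
  apply Subtype.ext
  apply ObjectProperty.hom_ext
  exact Limits.CategoricalPullback.hom_ext hfst hsnd

theorem fp_isFibSetoid [F.toFunctor.Faithful] [FibCat.IsFibGrpd 𝒳.p] [FibCat.IsFibGrpd 𝒮.p]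
    (h𝒴 : FibCat.IsFibSetoid 𝒴.p) : FibCat.IsFibSetoid (FibCat.fp F G).p := by
  haveI := h𝒴.1
  exact ⟨fp_isFibGrpd F G, fp_isThin_fiber F G h𝒴.2⟩

end FpThin

section FpFaithful

variable {C : Type u} [Category.{v} C] {𝒳 : BasedCategory.{v₂, u₂} C}
  {𝒴 : BasedCategory.{v₃, u₃} C} {𝒮 : BasedCategory.{v₄, u₄} C} (F : 𝒳 ⥤ᵇ 𝒮) (G : 𝒴 ⥤ᵇ 𝒮)

theorem fpFst_faithful [G.toFunctor.Faithful] : (FibCat.fpFst F G).toFunctor.Faithful where
  map_injective {X Y} Φ Ψ h := by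
    have hfst : Φ.hom.fst = Ψ.hom.fst := h
    have hsnd : Φ.hom.snd = Ψ.hom.snd := by
      apply G.toFunctor.map_injective
      have e1 := Φ.hom.w
      have e2 := Ψ.hom.w
      rw [← cancel_epi X.obj.iso.hom]
      change X.obj.iso.hom ≫ G.map Φ.hom.snd = X.obj.iso.hom ≫ G.map Ψ.hom.snd
      rw [← e1, ← e2, hfst]
    apply ObjectProperty.hom_ext
    exact Limits.CategoricalPullback.hom_ext hfst hsnd

theorem isThin_fiber_of_faithful {ℰ : Type u₃} [Category.{v₃} ℰ] {ℬ : Type u₂} [Category.{v₂} ℬ]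
    (q : ℰ ⥤ ℬ) [q.Faithful] (b : ℬ) : Quiver.IsThin (q.Fiber b) := by
  intro X Y
  refine ⟨fun Φ Ψ => ?_⟩
  apply Subtype.ext
  apply q.map_injective
  haveI := Φ.2
  haveI := Ψ.2
  have h1 := IsHomLift.fac' q (𝟙 b) Φ.1
  have h2 := IsHomLift.fac' q (𝟙 b) Ψ.1
  rw [h1, h2]

theorem toSelf_isFibGrpd : FibCat.IsFibGrpd (FibCat.selfOver C).p where
  exists_lift {_ V} f := ⟨V, f, CategoryTheory.IsHomLift.map (𝟭 C) f⟩
  isStronglyCartesian φ := id_isStronglyCartesian φ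

end FpFaithful

section CatPullbackFst

open CategoryTheory.Limits

variable {C : Type u} [Category.{v} C] {D : Type u₂} [Category.{v₂} D] (u : C ⥤ D)
  {𝒮 : Type u₃} [Category.{v₃} 𝒮] (p : 𝒮 ⥤ D)

theorem catPullback_fst_exists_isStronglyCartesian [p.IsFibered]
    (X : CategoricalPullback u p) (c' : C) (f : c' ⟶ X.fst) :
    ∃ (X' : CategoricalPullback u p) (Φ : X' ⟶ X),
      (CategoricalPullback.π₁ u p).IsStronglyCartesian f Φ := by
  let h : u.obj c' ⟶ p.obj X.snd := u.map f ≫ X.iso.hom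
  obtain ⟨y', ψ, hψ⟩ := IsPreFibered.exists_isCartesian p (a := X.snd) rfl h
  haveI hψs : p.IsStronglyCartesian h ψ := inferInstance
  have hy' : p.obj y' = u.obj c' := IsHomLift.domain_eq p h ψ
  have hψfac : p.map ψ = eqToHom hy' ≫ h := by
    have := IsHomLift.fac' p h ψ
    rw [this, eqToHom_refl, Category.comp_id]
  let X' : CategoricalPullback u p := ⟨c', y', eqToIso hy'.symm⟩
  have hw : u.map f ≫ X.iso.hom = X'.iso.hom ≫ p.map ψ := by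
    change h = eqToHom hy'.symm ≫ p.map ψ
    rw [hψfac, ← Category.assoc, eqToHom_trans, eqToHom_refl, Category.id_comp]
  let Φ : X' ⟶ X := ⟨f, ψ, hw⟩
  refine ⟨X', Φ, ?_⟩
  haveI hΦl : (CategoricalPullback.π₁ u p).IsHomLift f Φ :=
    CategoryTheory.IsHomLift.map (CategoricalPullback.π₁ u p) Φ
  refine { universal_property' := ?_ }
  intro Z g Θ hΘ
  change Z.fst ⟶ c' at g
  have hΘfst : Θ.fst = g ≫ f :=
    (@IsHomLift.eq_of_isHomLift _ _ _ _ (CategoricalPullback.π₁ u p) _ _ _ Θ hΘ).symm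
  let g' : p.obj Z.snd ⟶ u.obj c' := Z.iso.inv ≫ u.map g
  have hpθ : g' ≫ h = p.map Θ.snd := by
    have := Θ.w
    rw [hΘfst] at this
    dsimp only [g', h]
    rw [Category.assoc, ← Category.assoc (u.map g), ← u.map_comp, this, Iso.inv_hom_id_assoc]
  haveI hθl : p.IsHomLift (g' ≫ h) Θ.snd := by rw [hpθ]; infer_instance
  let χ : Z.snd ⟶ y' := IsStronglyCartesian.map p h ψ (g := g') rfl Θ.snd
  haveI hχl : p.IsHomLift g' χ := IsStronglyCartesian.map_isHomLift p h ψ rfl Θ.snd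
  have hχ : χ ≫ ψ = Θ.snd := IsStronglyCartesian.fac p h ψ rfl Θ.snd
  have hpχ : p.map χ = g' ≫ eqToHom hy'.symm := by
    have := IsHomLift.fac' p g' χ
    rw [this, eqToHom_refl, Category.id_comp]
  have hw' : u.map g ≫ X'.iso.hom = Z.iso.hom ≫ p.map χ := by
    rw [hpχ]
    dsimp only [g']
    rw [Category.assoc, Iso.hom_inv_id_assoc]
    rfl
  let Χ : Z ⟶ X' := ⟨g, χ, hw'⟩
  refine ⟨Χ, ⟨CategoryTheory.IsHomLift.map (CategoricalPullback.π₁ u p) Χ, ?_⟩, ?_⟩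
  · exact CategoricalPullback.hom_ext hΘfst.symm hχ
  · rintro Χ' ⟨hΧ'l, hΧ'⟩
    have h1 : Χ'.fst = g :=
      (@IsHomLift.eq_of_isHomLift _ _ _ _ (CategoricalPullback.π₁ u p) _ _ _ Χ' hΧ'l).symm
    have h2 : Χ'.snd ≫ ψ = Θ.snd := congrArg (fun t => t.snd) hΧ'
    have h3 : p.map Χ'.snd = g' ≫ eqToHom hy'.symm := by
      have := Χ'.w
      rw [h1] at this
      dsimp only [g']
      rw [Category.assoc]
      rw [Iso.eq_inv_comp]
      exact this.symm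
    haveI : p.IsHomLift g' Χ'.snd := by
      apply IsHomLift.of_fac p g' Χ'.snd rfl hy'
      rw [h3, eqToHom_refl, Category.id_comp, Category.assoc, eqToHom_trans, eqToHom_refl,
        Category.comp_id]
    have h4 : Χ'.snd = χ := IsStronglyCartesian.map_uniq p h ψ rfl Θ.snd Χ'.snd h2
    exact CategoricalPullback.hom_ext h1 h4

theorem catPullback_fst_isFibered [p.IsFibered] : (CategoricalPullback.π₁ u p).IsFibered :=
  IsFibered.of_exists_isStronglyCartesian fun X c' f =>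
    catPullback_fst_exists_isStronglyCartesian u p X c' f

end CatPullbackFst

section CatPullbackSndId

open CategoryTheory.Limits

variable {S : Type u} [Category.{v} S] {X : Type u₂} [Category.{v₂} X]
  {Y : Type u₃} [Category.{v₃} Y] (πX : X ⥤ S) (F : Y ⥤ X)

theorem catPullback_snd_id_exists_lift [FibCat.IsFibGrpd πX] [FibCat.IsFibGrpd (F ⋙ πX)]
    (T : CategoricalPullback F (𝟭 X)) {x' : X} (a : x' ⟶ T.snd) :
    ∃ (T' : CategoricalPullback F (𝟭 X)) (Φ : T' ⟶ T),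
      (CategoricalPullback.π₂ F (𝟭 X)).IsHomLift a Φ := by
  let m : x' ⟶ F.obj T.fst := a ≫ T.iso.inv
  let t : πX.obj x' ⟶ (F ⋙ πX).obj T.fst := πX.map m
  obtain ⟨y', b, hb⟩ := FibCat.IsFibGrpd.exists_lift (p := F ⋙ πX) (x := T.fst) t
  haveI hFb : πX.IsHomLift t (F.map b) := (isHomLift_comp_iff F πX t b).mp hb
  haveI hm : πX.IsStronglyCartesian t m := FibCat.IsFibGrpd.isStronglyCartesian (p := πX) m
  let φh : F.obj y' ⟶ x' := IsCartesian.map πX t m (F.map b)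
  haveI hφl : πX.IsHomLift (𝟙 (πX.obj x')) φh := IsCartesian.map_isHomLift πX t m (F.map b)
  have hφ : φh ≫ m = F.map b := IsCartesian.fac πX t m (F.map b)
  haveI : IsIso φh := isIso_of_isHomLift_isIso πX (𝟙 (πX.obj x')) φh
  let T' : CategoricalPullback F (𝟭 X) := ⟨y', x', asIso φh⟩
  have hw : F.map b ≫ T.iso.hom = T'.iso.hom ≫ (𝟭 X).map a := by
    change F.map b ≫ T.iso.hom = φh ≫ a
    rw [← hφ]
    dsimp only [m]
    rw [Category.assoc, Category.assoc, Iso.inv_hom_id, Category.comp_id]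
  let Φ : T' ⟶ T := ⟨b, a, hw⟩
  exact ⟨T', Φ, CategoryTheory.IsHomLift.map (CategoricalPullback.π₂ F (𝟭 X)) Φ⟩

theorem catPullback_snd_id_isStronglyCartesian [FibCat.IsFibGrpd πX] [FibCat.IsFibGrpd (F ⋙ πX)]
    {T' T : CategoricalPullback F (𝟭 X)} (Φ : T' ⟶ T) :
    (CategoricalPullback.π₂ F (𝟭 X)).IsStronglyCartesian
      ((CategoricalPullback.π₂ F (𝟭 X)).map Φ) Φ := by
  refine { universal_property' := ?_ }
  intro Z c Θ hΘ
  change Z.snd ⟶ T'.snd at c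
  have hΘsnd : Θ.snd = c ≫ Φ.snd :=
    (@IsHomLift.eq_of_isHomLift _ _ _ _ (CategoricalPullback.π₂ F (𝟭 X)) _ _ _ Θ hΘ).symm
  let m : F.obj Z.fst ⟶ F.obj T'.fst := Z.iso.hom ≫ c ≫ T'.iso.inv
  let s : (F ⋙ πX).obj Z.fst ⟶ (F ⋙ πX).obj T'.fst := πX.map m
  have hΦw : F.map Φ.fst ≫ T.iso.hom = T'.iso.hom ≫ Φ.snd := Φ.w
  have hΘw : F.map Θ.fst ≫ T.iso.hom = Z.iso.hom ≫ Θ.snd := Θ.w
  have hFd : F.map Θ.fst = m ≫ F.map Φ.fst := by
    rw [← cancel_mono T.iso.hom, hΘw, hΘsnd]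
    dsimp only [m]
    rw [Category.assoc, Category.assoc, Category.assoc, hΦw, Iso.inv_hom_id_assoc]
  haveI hb := FibCat.IsFibGrpd.isStronglyCartesian (p := F ⋙ πX) Φ.fst
  haveI hFb := FibCat.IsFibGrpd.isStronglyCartesian (p := πX) (F.map Φ.fst)
  haveI hdl : (F ⋙ πX).IsHomLift (s ≫ (F ⋙ πX).map Φ.fst) Θ.fst := by
    have : s ≫ (F ⋙ πX).map Φ.fst = (F ⋙ πX).map Θ.fst := by
      change πX.map m ≫ πX.map (F.map Φ.fst) = πX.map (F.map Θ.fst)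
      rw [hFd]
      exact (πX.map_comp m (F.map Φ.fst)).symm
    rw [this]
    infer_instance
  let b' : Z.fst ⟶ T'.fst := IsStronglyCartesian.map (F ⋙ πX) ((F ⋙ πX).map Φ.fst) Φ.fst
    (g := s) rfl Θ.fst
  haveI hb'l : (F ⋙ πX).IsHomLift s b' :=
    IsStronglyCartesian.map_isHomLift (F ⋙ πX) _ Φ.fst rfl Θ.fst
  have hb' : b' ≫ Φ.fst = Θ.fst := IsStronglyCartesian.fac (F ⋙ πX) _ Φ.fst rfl Θ.fst
  haveI hFb'l : πX.IsHomLift s (F.map b') := (isHomLift_comp_iff F πX s b').mp hb'l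
  haveI hml : πX.IsHomLift s m := CategoryTheory.IsHomLift.map πX m
  have hFb' : F.map b' = m := by
    apply IsStronglyCartesian.ext πX (πX.map (F.map Φ.fst)) (F.map Φ.fst) s
    rw [← F.map_comp, hb', hFd]
  have hw' : F.map b' ≫ T'.iso.hom = Z.iso.hom ≫ (𝟭 X).map c := by
    rw [hFb']
    dsimp only [m]
    rw [Category.assoc, Category.assoc, Iso.inv_hom_id, Category.comp_id]
    rfl
  let Χ : Z ⟶ T' := ⟨b', c, hw'⟩
  refine ⟨Χ, ⟨CategoryTheory.IsHomLift.map (CategoricalPullback.π₂ F (𝟭 X)) Χ, ?_⟩, ?_⟩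
  · exact CategoricalPullback.hom_ext hb' hΘsnd.symm
  · rintro Χ' ⟨hΧ'l, hΧ'⟩
    have h1 : Χ'.snd = c :=
      (@IsHomLift.eq_of_isHomLift _ _ _ _ (CategoricalPullback.π₂ F (𝟭 X)) _ _ _ Χ' hΧ'l).symm
    have h2 : Χ'.fst ≫ Φ.fst = Θ.fst := congrArg (fun t => t.fst) hΧ'
    have h3 : F.map Χ'.fst = m := by
      have hΧw : F.map Χ'.fst ≫ T'.iso.hom = Z.iso.hom ≫ Χ'.snd := Χ'.w
      rw [h1] at hΧw
      dsimp only [m]
      rw [← Category.assoc, ← hΧw, Category.assoc, Iso.hom_inv_id, Category.comp_id]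
    haveI : (F ⋙ πX).IsHomLift s Χ'.fst := by
      rw [isHomLift_comp_iff, h3]
      exact hml
    have h4 : Χ'.fst = b' :=
      IsStronglyCartesian.map_uniq (F ⋙ πX) _ Φ.fst rfl Θ.fst Χ'.fst h2
    exact CategoricalPullback.hom_ext h4 h1

theorem catPullback_snd_id_isFibGrpd [FibCat.IsFibGrpd πX] [FibCat.IsFibGrpd (F ⋙ πX)] :
    FibCat.IsFibGrpd (CategoricalPullback.π₂ F (𝟭 X)) where
  exists_lift {T _} a := catPullback_snd_id_exists_lift πX F T a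
  isStronglyCartesian Φ := catPullback_snd_id_isStronglyCartesian πX F Φ

end CatPullbackSndId

end Groth.Agent.Lib.FibGrpd
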