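import Groth.Prelude.Def_AlgSt
import Groth.Agent.Lib.FibGrpd

/-!
# Invariance of the (pre)stack conditions under equivalences over the base (helper64)

* `postcomp 𝒜 F` : postcomposition `(𝒜 ⥤ᵇ 𝒳) ⥤ (𝒜 ⥤ᵇ 𝒴)` with a based functor `F`, universe-general;
  it is an equivalence of categories when `F` is an equivalence over `C`.
* `restrPostcompIso` : restriction commutes with postcomposition.
* `isFibGrpd_of_isEquivOver`, `isFibGrpd_iff_of_isEquivOver`, `isFibSetoid_iff_of_isEquivOver`.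
* `isPrestackFor_iff_of_isEquivOver`, `isStackFor_iff_of_isEquivOver`, `isPrestack_iff_of_isEquivOver`,
  `isStack_iff_of_isEquivOver`.
-/

set_option autoImplicit false
set_option linter.style.haveILetI false

namespace Groth.Agent.Lib.StkEquiv

open CategoryTheory Functor Groth.Agent.Lib.FibGrpd

universe v₅ u₅ v₄ u₄ v₃ u₃ v₂ u₂ v u

variable {C : Type u} [Category.{v} C]

section Postcomp

variable {𝒳 : BasedCategory.{v₂, u₂} C} {𝒴 : BasedCategory.{v₃, u₃} C}
  (𝒜 : BasedCategory.{v₄, u₄} C) (F : 𝒳 ⥤ᵇ 𝒴)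

/-- Postcomposition with a based functor, as a functor between categories of based functors. -/
def postcomp : (𝒜 ⥤ᵇ 𝒳) ⥤ (𝒜 ⥤ᵇ 𝒴) where
  obj H := BasedFunctor.comp H F
  map α := BasedCategory.whiskerRight α F
  map_id H := by apply BasedNatTrans.homCategory.ext; ext a; simp; rfl
  map_comp α β := by apply BasedNatTrans.homCategory.ext; ext a; simp; rfl

@[simp] theorem postcomp_obj (H : 𝒜 ⥤ᵇ 𝒳) : (postcomp 𝒜 F).obj H = BasedFunctor.comp H F := rfl

theorem postcomp_map_app {H H' : 𝒜 ⥤ᵇ 𝒳} (α : H ⟶ H') (a : 𝒜.obj) :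
    ((postcomp 𝒜 F).map α).toNatTrans.app a = F.map (α.toNatTrans.app a) := rfl

theorem postcomp_faithful [F.toFunctor.Faithful] : (postcomp 𝒜 F).Faithful where
  map_injective {H H'} α β h := by
    apply BasedNatTrans.homCategory.ext
    ext a
    apply F.toFunctor.map_injective
    have := congrArg (fun γ : (postcomp 𝒜 F).obj H ⟶ (postcomp 𝒜 F).obj H' => γ.toNatTrans.app a) h
    exact this

theorem postcomp_full [F.toFunctor.Full] [F.toFunctor.Faithful] : (postcomp 𝒜 F).Full where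
  map_surjective {H H'} γ := by
    refine ⟨{ toNatTrans :=
                { app := fun a => F.toFunctor.preimage (γ.toNatTrans.app a)
                  naturality := fun a b f => ?_ }
              isHomLift' := fun a => ?_ }, ?_⟩
    · apply F.toFunctor.map_injective
      have := γ.toNatTrans.naturality f
      simp only [Functor.map_comp, Functor.map_preimage]
      exact this
    · haveI : 𝒴.p.IsHomLift (𝟙 (𝒜.p.obj a))
          (F.toFunctor.map (F.toFunctor.preimage (γ.toNatTrans.app a))) := by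
        rw [Functor.map_preimage]
        exact γ.isHomLift' a
      exact F.isHomLift_map _ _
    · apply BasedNatTrans.homCategory.ext
      ext a
      exact F.toFunctor.map_preimage _

theorem postcomp_essSurj (hF : FibCat.IsEquivOver F) : (postcomp 𝒜 F).EssSurj where
  mem_essImage K := by
    obtain ⟨G, ⟨η⟩, ⟨ε⟩⟩ := hF
    refine ⟨BasedFunctor.comp K G, ⟨?_⟩⟩
    refine BasedNatIso.mkNatIso
      (NatIso.ofComponents (fun a => ((BasedNatTrans.forgetful _ _).mapIso ε).app (K.obj a))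
        (fun f => ε.hom.toNatTrans.naturality (K.map f))) ?_
    intro a
    exact ε.hom.isHomLift (K.w_obj a)

theorem postcomp_isEquivalence (hF : FibCat.IsEquivOver F) : (postcomp 𝒜 F).IsEquivalence := by
  haveI := isEquivalence_of_isEquivOver F hF
  haveI := postcomp_faithful 𝒜 F
  haveI := postcomp_full 𝒜 F
  haveI := postcomp_essSurj 𝒜 F hF
  exact { }

end Postcomp

section Square

variable {𝒳 : BasedCategory.{v₂, u₂} C} {𝒴 : BasedCategory.{v₃, u₃} C}
  {𝒜 : BasedCategory.{v₄, u₄} C} {ℬ : BasedCategory.{v₅, u₅} C} (ι : 𝒜 ⥤ᵇ ℬ) (F : 𝒳 ⥤ᵇ 𝒴)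

/-- Restriction along `ι` commutes with postcomposition with `F`. -/
def restrPostcompIso : Stk.restr ι 𝒳 ⋙ postcomp 𝒜 F ≅ postcomp ℬ F ⋙ Stk.restr ι 𝒴 :=
  NatIso.ofComponents (fun H => Iso.refl _) (fun α => by
    apply BasedNatTrans.homCategory.ext
    ext a
    show ((postcomp 𝒜 F).map ((Stk.restr ι 𝒳).map α)).toNatTrans.app a ≫ 𝟙 _ =
      𝟙 _ ≫ ((Stk.restr ι 𝒴).map ((postcomp ℬ F).map α)).toNatTrans.app a
    rw [Category.comp_id, Category.id_comp]
    rfl)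

end Square

section Transfer

universe w₁ w₂ w₃ w₄ x₁ x₂ x₃ x₄

variable {𝒞₁ : Type w₁} [Category.{x₁} 𝒞₁] {𝒞₂ : Type w₂} [Category.{x₂} 𝒞₂]
  {𝒟₁ : Type w₃} [Category.{x₃} 𝒟₁] {𝒟₂ : Type w₄} [Category.{x₄} 𝒟₂]
  (A : 𝒞₁ ⥤ 𝒞₂) (B : 𝒟₁ ⥤ 𝒟₂) (P₁ : 𝒞₁ ⥤ 𝒟₁) (P₂ : 𝒞₂ ⥤ 𝒟₂)
  [P₁.IsEquivalence] [P₂.IsEquivalence] (e : A ⋙ P₂ ≅ P₁ ⋙ B)

/-- In a square commuting up to isomorphism with vertical equivalences, the bottom functor is
conjugate to the top one. -/
noncomputable def botIso : P₁.inv ⋙ A ⋙ P₂ ≅ B :=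
  isoWhiskerLeft P₁.inv e ≪≫ (Functor.associator _ _ _).symm ≪≫
    isoWhiskerRight P₁.asEquivalence.counitIso B ≪≫ B.leftUnitor

/-- In a square commuting up to isomorphism with vertical equivalences, the top functor is
conjugate to the bottom one. -/
noncomputable def topIso : P₁ ⋙ B ⋙ P₂.inv ≅ A :=
  (Functor.associator _ _ _).symm ≪≫ isoWhiskerRight e.symm P₂.inv ≪≫ Functor.associator _ _ _ ≪≫
    isoWhiskerLeft A P₂.asEquivalence.unitIso.symm ≪≫ A.rightUnitor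

include e in
theorem full_iff_of_square : A.Full ↔ B.Full :=
  ⟨fun _ => Functor.Full.of_iso (botIso A B P₁ P₂ e),
    fun _ => Functor.Full.of_iso (topIso A B P₁ P₂ e)⟩

include e in
theorem faithful_iff_of_square : A.Faithful ↔ B.Faithful :=
  ⟨fun _ => Functor.Faithful.of_iso (botIso A B P₁ P₂ e),
    fun _ => Functor.Faithful.of_iso (topIso A B P₁ P₂ e)⟩

include e in
theorem isEquivalence_iff_of_square : A.IsEquivalence ↔ B.IsEquivalence :=
  ⟨fun _ => Functor.isEquivalence_of_iso (botIso A B P₁ P₂ e),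
    fun _ => Functor.isEquivalence_of_iso (topIso A B P₁ P₂ e)⟩

end Transfer

section FibGrpdTransfer

variable {𝒳 : BasedCategory.{v₂, u₂} C} {𝒴 : BasedCategory.{v₃, u₃} C} (F : 𝒳 ⥤ᵇ 𝒴)

/-- Being fibred in groupoids passes along an equivalence over the base. -/
theorem isFibGrpd_of_isEquivOver (hF : FibCat.IsEquivOver F) [FibCat.IsFibGrpd 𝒳.p] :
    FibCat.IsFibGrpd 𝒴.p := by
  haveI := isFibered 𝒳.p
  haveI : 𝒴.p.IsFibered := isFibered_of_isEquivOver F hF
  apply isFibGrpd_of_isFibered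
  intro U
  obtain ⟨G, ⟨η⟩, ⟨ε⟩⟩ := hF
  haveI hG : G.toFunctor.IsEquivalence :=
    isEquivalence_of_isEquivOver G (isEquivOver_symm F η ε)
  refine ⟨fun {a b} φ => ?_⟩
  haveI hφ : 𝒴.p.IsHomLift (𝟙 U) φ.1 := φ.2
  haveI : 𝒳.p.IsHomLift (𝟙 U) (G.map φ.1) := inferInstance
  haveI : IsIso (G.toFunctor.map φ.1) := isIso_of_isHomLift_isIso 𝒳.p (𝟙 U) (G.map φ.1)
  haveI : IsIso φ.1 := isIso_of_reflects_iso φ.1 G.toFunctor
  refine ⟨⟨⟨inv φ.1, inferInstance⟩, ?_, ?_⟩⟩
  · apply Functor.Fiber.hom_ext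
    exact IsIso.hom_inv_id φ.1
  · apply Functor.Fiber.hom_ext
    exact IsIso.inv_hom_id φ.1

theorem isFibGrpd_iff_of_isEquivOver (hF : FibCat.IsEquivOver F) :
    FibCat.IsFibGrpd 𝒳.p ↔ FibCat.IsFibGrpd 𝒴.p := by
  constructor
  · intro h
    exact isFibGrpd_of_isEquivOver F hF
  · intro h
    obtain ⟨G, ⟨η⟩, ⟨ε⟩⟩ := hF
    exact isFibGrpd_of_isEquivOver G (isEquivOver_symm F η ε)

/-- Thin fibres pass backwards along a based functor with faithful underlying functor. -/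
theorem isThin_fiber_of_faithful [F.toFunctor.Faithful] (U : C)
    (h : Quiver.IsThin (𝒴.p.Fiber U)) : Quiver.IsThin (𝒳.p.Fiber U) := by
  intro a b
  refine ⟨fun φ ψ => ?_⟩
  apply Functor.Fiber.hom_ext
  apply F.toFunctor.map_injective
  haveI hφ : 𝒳.p.IsHomLift (𝟙 U) φ.1 := φ.2
  haveI hψ : 𝒳.p.IsHomLift (𝟙 U) ψ.1 := ψ.2
  have ha : 𝒴.p.obj (F.obj a.1) = U := (F.w_obj a.1).trans a.2
  have hb : 𝒴.p.obj (F.obj b.1) = U := (F.w_obj b.1).trans b.2
  let A : 𝒴.p.Fiber U := Functor.Fiber.mk ha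
  let B : 𝒴.p.Fiber U := Functor.Fiber.mk hb
  have hφ' : 𝒴.p.IsHomLift (𝟙 U) (F.map φ.1) := BasedFunctor.preserves_isHomLift F (𝟙 U) φ.1
  have hψ' : 𝒴.p.IsHomLift (𝟙 U) (F.map ψ.1) := BasedFunctor.preserves_isHomLift F (𝟙 U) ψ.1
  let φ' : A ⟶ B := ⟨F.map φ.1, hφ'⟩
  let ψ' : A ⟶ B := ⟨F.map ψ.1, hψ'⟩
  haveI := h A B
  have : φ' = ψ' := Subsingleton.elim _ _
  exact congrArg Subtype.val this

theorem isFibSetoid_iff_of_isEquivOver (hF : FibCat.IsEquivOver F) :
    FibCat.IsFibSetoid 𝒳.p ↔ FibCat.IsFibSetoid 𝒴.p := by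
  have hF' := hF
  obtain ⟨G, ⟨η⟩, ⟨ε⟩⟩ := hF'
  have hG : FibCat.IsEquivOver G := isEquivOver_symm F η ε
  haveI := isEquivalence_of_isEquivOver F hF
  haveI := isEquivalence_of_isEquivOver G hG
  constructor
  · rintro ⟨h1, h2⟩
    exact ⟨(isFibGrpd_iff_of_isEquivOver F hF).1 h1, fun U => isThin_fiber_of_faithful G U (h2 U)⟩
  · rintro ⟨h1, h2⟩
    exact ⟨(isFibGrpd_iff_of_isEquivOver F hF).2 h1, fun U => isThin_fiber_of_faithful F U (h2 U)⟩

end FibGrpdTransfer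

section StackTransfer

variable {𝒳 : BasedCategory.{v₂, u₂} C} {𝒴 : BasedCategory.{v₃, u₃} C} (F : 𝒳 ⥤ᵇ 𝒴)

theorem isPrestackFor_iff_of_isEquivOver (hF : FibCat.IsEquivOver F) {U : C} (R : Sieve U) :
    Stk.IsPrestackFor R 𝒳 ↔ Stk.IsPrestackFor R 𝒴 := by
  haveI := postcomp_isEquivalence (FibCat.overCat U) F hF
  haveI := postcomp_isEquivalence (Stk.sieveCat R) F hF
  unfold Stk.IsPrestackFor Stk.resSieve
  rw [full_iff_of_square _ _ _ _ (restrPostcompIso (Stk.sieveIncl R) F),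
    faithful_iff_of_square _ _ _ _ (restrPostcompIso (Stk.sieveIncl R) F)]

theorem isStackFor_iff_of_isEquivOver (hF : FibCat.IsEquivOver F) {U : C} (R : Sieve U) :
    Stk.IsStackFor R 𝒳 ↔ Stk.IsStackFor R 𝒴 := by
  haveI := postcomp_isEquivalence (FibCat.overCat U) F hF
  haveI := postcomp_isEquivalence (Stk.sieveCat R) F hF
  unfold Stk.IsStackFor Stk.resSieve
  exact isEquivalence_iff_of_square _ _ _ _ (restrPostcompIso (Stk.sieveIncl R) F)

theorem isPrestack_iff_of_isEquivOver (hF : FibCat.IsEquivOver F) (J : GrothendieckTopology C) :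
    Stk.IsPrestack J 𝒳 ↔ Stk.IsPrestack J 𝒴 := by
  unfold Stk.IsPrestack
  rw [isFibGrpd_iff_of_isEquivOver F hF]
  refine and_congr Iff.rfl ?_
  refine forall_congr' fun U => forall_congr' fun R => forall_congr' fun _ => ?_
  exact isPrestackFor_iff_of_isEquivOver F hF R

theorem isStack_iff_of_isEquivOver (hF : FibCat.IsEquivOver F) (J : GrothendieckTopology C) :
    Stk.IsStack J 𝒳 ↔ Stk.IsStack J 𝒴 := by
  unfold Stk.IsStack
  rw [isFibGrpd_iff_of_isEquivOver F hF]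
  refine and_congr Iff.rfl ?_
  refine forall_congr' fun U => forall_congr' fun R => forall_congr' fun _ => ?_
  exact isStackFor_iff_of_isEquivOver F hF R

end StackTransfer

end Groth.Agent.Lib.StkEquiv
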