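import Groth.Prelude.Def_AlgSt4
import Groth.Agent.Lib.AlgStDiag
import Groth.Agent.Lib.StkEquiv

/-!
# Invariance of algebraic-stack notions under equivalences over the base (helper36)
-/

set_option autoImplicit false
set_option linter.style.haveILetI false
set_option backward.isDefEq.respectTransparency false
set_option backward.isDefEq.respectTransparency.types false

namespace Groth.Agent.Lib.AlgStEquiv

open CategoryTheory AlgebraicGeometry Opposite Groth.Agent.Lib.FibGrpd Groth.Agent.Lib.FpEquiv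
  Groth.Agent.Lib.AlgStRep Groth.Agent.Lib.AlgStRepC Groth.Agent.Lib.AlgStDiag

universe w v₅ u₅ v₄ u₄ v₃ u₃ v₂ u₂ v u

section DiagSquareEquiv

variable {C : Type u} [Category.{v} C] {𝒳 : BasedCategory.{v₂, u₂} C}
  {𝒴 : BasedCategory.{v₃, u₃} C} {𝒳' : BasedCategory.{v₄, u₄} C} {𝒴' : BasedCategory.{v₅, u₅} C}
  (f : 𝒳 ⥤ᵇ 𝒴) (f' : 𝒳' ⥤ᵇ 𝒴') (a : 𝒳' ⥤ᵇ 𝒳) (b : 𝒴' ⥤ᵇ 𝒴)
  (e : BasedFunctor.comp f' b ≅ BasedFunctor.comp a f)

theorem appIso_conj_id (x : 𝒳'.obj) :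
    (appIso e x).inv ≫ b.map (𝟙 (f'.obj x)) ≫ (appIso e x).hom = 𝟙 (f.obj (a.obj x)) := by
  have h : b.map (𝟙 (f'.obj x)) = 𝟙 ((BasedFunctor.comp f' b).obj x) := b.toFunctor.map_id _
  rw [h, Category.id_comp, Iso.inv_hom_id]
  rfl

/-- The component of the 2-isomorphism `diag f' ⋙ fpMap a a b e e ≅ a ⋙ diag f`. -/
def diagMapObjIso (x : 𝒳'.obj) :
    (fpMap a a b e e).obj ((FibCat.diag f').obj x) ≅ (FibCat.diag f).obj (a.obj x) where
  hom := ObjectProperty.homMk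
    { fst := 𝟙 (a.obj x)
      snd := 𝟙 (a.obj x)
      w := by
        show f.map (𝟙 (a.obj x)) ≫ 𝟙 (f.obj (a.obj x)) =
          ((appIso e x).inv ≫ b.map (𝟙 (f'.obj x)) ≫ (appIso e x).hom) ≫ f.map (𝟙 (a.obj x))
        have h := appIso_conj_id f f' a b e x
        calc f.map (𝟙 (a.obj x)) ≫ 𝟙 (f.obj (a.obj x)) = f.map (𝟙 (a.obj x)) := Category.comp_id _
          _ = 𝟙 (f.obj (a.obj x)) ≫ f.map (𝟙 (a.obj x)) := (Category.id_comp _).symm
          _ = _ := congrArg (· ≫ f.map (𝟙 (a.obj x))) h.symm }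
  inv := ObjectProperty.homMk
    { fst := 𝟙 (a.obj x)
      snd := 𝟙 (a.obj x)
      w := by
        show f.map (𝟙 (a.obj x)) ≫
            ((appIso e x).inv ≫ b.map (𝟙 (f'.obj x)) ≫ (appIso e x).hom) =
          𝟙 (f.obj (a.obj x)) ≫ f.map (𝟙 (a.obj x))
        have h := appIso_conj_id f f' a b e x
        calc f.map (𝟙 (a.obj x)) ≫
              ((appIso e x).inv ≫ b.map (𝟙 (f'.obj x)) ≫ (appIso e x).hom)
            = f.map (𝟙 (a.obj x)) ≫ 𝟙 (f.obj (a.obj x)) := congrArg (f.map (𝟙 (a.obj x)) ≫ ·) h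
          _ = f.map (𝟙 (a.obj x)) := Category.comp_id _
          _ = _ := (Category.id_comp _).symm }
  hom_inv_id := fp_hom_ext _ _ (Category.id_comp _) (Category.id_comp _)
  inv_hom_id := fp_hom_ext _ _ (Category.id_comp _) (Category.id_comp _)

/-- The 2-isomorphism `diag f' ⋙ fpMap a a b e e ≅ a ⋙ diag f`. -/
def diagMapIso : BasedFunctor.comp (FibCat.diag f') (fpMap a a b e e) ≅
    BasedFunctor.comp a (FibCat.diag f) :=
  BasedNatIso.mkNatIso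
    (NatIso.ofComponents (fun x => diagMapObjIso f f' a b e x) (fun {x y} m => by
      refine fp_hom_ext _ _ ?_ ?_
      · show a.map m ≫ 𝟙 (a.obj y) = 𝟙 (a.obj x) ≫ a.map m
        rw [Category.comp_id, Category.id_comp]
      · show a.map m ≫ 𝟙 (a.obj y) = 𝟙 (a.obj x) ≫ a.map m
        rw [Category.comp_id, Category.id_comp]))
    (fun x => by
      show (FibCat.fp f f).p.IsHomLift (𝟙 (𝒳'.p.obj x)) (diagMapObjIso f f' a b e x).hom
      rw [fp_isHomLift_iff]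
      exact IsHomLift.id (a.w_obj x))

end DiagSquareEquiv

section ToSelf

variable {C : Type u} [Category.{v} C] {𝒳 : BasedCategory.{v₂, u₂} C}
  {𝒴 : BasedCategory.{v₃, u₃} C}

/-- The structure functor of `𝒳` factors through any functor over `C` out of `𝒳`. -/
def toSelfIso (c : 𝒳 ⥤ᵇ 𝒴) :
    BasedFunctor.comp (FibCat.toSelf 𝒳) (BasedFunctor.id (FibCat.selfOver C)) ≅
      BasedFunctor.comp c (FibCat.toSelf 𝒴) :=
  BasedNatIso.mkNatIso
    (NatIso.ofComponents (fun x => eqToIso (c.w_obj x).symm) (fun {x y} m => by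
      show 𝒳.p.map m ≫ eqToHom (c.w_obj y).symm = eqToHom (c.w_obj x).symm ≫ 𝒴.p.map (c.map m)
      have h := Functor.congr_hom c.w m
      have h' : 𝒴.p.map (c.map m) = eqToHom (c.w_obj x) ≫ 𝒳.p.map m ≫ eqToHom (c.w_obj y).symm := h
      rw [h', eqToHom_trans_assoc, eqToHom_refl, Category.id_comp]))
    (fun x => by
      show (𝟭 C).IsHomLift (𝟙 (𝒳.p.obj x)) (eqToHom (c.w_obj x).symm)
      exact IsHomLift.of_fac' (𝟭 C) (𝟙 (𝒳.p.obj x)) (eqToHom (c.w_obj x).symm) rfl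
        (c.w_obj x) (by simp))

end ToSelf

section Invariance

variable {S : Scheme.{u}} {𝒳 : BasedCategory.{v₂, u₂} (Over S)}
  {𝒴 : BasedCategory.{v₃, u₃} (Over S)} {𝒳' : BasedCategory.{v₄, u₄} (Over S)}
  {𝒴' : BasedCategory.{v₅, u₅} (Over S)}

/-- `RepByAlgSpWith P` of the diagonal is invariant under equivalences of the morphism. -/
theorem repByAlgSpWith_diag_iff_of_square (P : MorphismProperty (AlgSp.Sp S))
    (f : 𝒳 ⥤ᵇ 𝒴) (f' : 𝒳' ⥤ᵇ 𝒴') (a : 𝒳' ⥤ᵇ 𝒳) (b : 𝒴' ⥤ᵇ 𝒴)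
    (ha : FibCat.IsEquivOver a) (hb : FibCat.IsEquivOver b)
    (e : BasedFunctor.comp f' b ≅ BasedFunctor.comp a f) :
    AlgSt.RepByAlgSpWith P (FibCat.diag f) ↔ AlgSt.RepByAlgSpWith P (FibCat.diag f') := by
  obtain ⟨hb1, hb2, -⟩ := ff_ess_of_isEquivOver b hb
  exact repByAlgSpWith_iff_of_square P (FibCat.diag f) (FibCat.diag f') a (fpMap a a b e e) ha
    (fpMap_isEquivOver a a b e e ha ha) (diagMapIso f f' a b e)

/-- Postcomposition with an equivalence does not change `RepByAlgSpWith`. -/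
theorem repByAlgSpWith_comp_equiv_iff (P : MorphismProperty (AlgSp.Sp S)) (x : 𝒳 ⥤ᵇ 𝒴)
    (c : 𝒴 ⥤ᵇ 𝒴') (hc : FibCat.IsEquivOver c) :
    AlgSt.RepByAlgSpWith P (BasedFunctor.comp x c) ↔ AlgSt.RepByAlgSpWith P x :=
  repByAlgSpWith_iff_of_square P (BasedFunctor.comp x c) x (BasedFunctor.id 𝒳) c isEquivOver_id hc
    (idCompIso _).symm

/-- Precomposition with an equivalence does not change `RepByAlgSpWith`. -/
theorem repByAlgSpWith_equiv_comp_iff (P : MorphismProperty (AlgSp.Sp S)) (c : 𝒳' ⥤ᵇ 𝒳)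
    (hc : FibCat.IsEquivOver c) (x : 𝒳 ⥤ᵇ 𝒴) :
    AlgSt.RepByAlgSpWith P x ↔ AlgSt.RepByAlgSpWith P (BasedFunctor.comp c x) :=
  repByAlgSpWith_iff_of_square P x (BasedFunctor.comp c x) c (BasedFunctor.id 𝒴) hc isEquivOver_id
    (compIdIso _)

theorem repByAlgSp1_iff_top (f : 𝒳 ⥤ᵇ 𝒴) :
    AlgSt.RepByAlgSp1 f ↔ AlgSt.RepByAlgSpWith ⊤ f := by
  constructor
  · intro h U y
    obtain ⟨F, e, he⟩ := h U y
    exact ⟨F, e, he, trivial⟩
  · intro h U y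
    obtain ⟨F, e, he, -⟩ := h U y
    exact ⟨F, e, he⟩

theorem hasAtlas_of_isEquivOver (P : MorphismProperty (AlgSp.Sp S)) (c : 𝒳 ⥤ᵇ 𝒳')
    (hc : FibCat.IsEquivOver c) (h : AlgSt.HasAtlas P 𝒳) : AlgSt.HasAtlas P 𝒳' := by
  obtain ⟨U, x, h1, h2⟩ := h
  exact ⟨U, BasedFunctor.comp x c, (repByAlgSpWith_comp_equiv_iff P x c hc).mpr h1,
    (repByAlgSpWith_comp_equiv_iff _ x c hc).mpr h2⟩

theorem hasAtlas_iff_of_isEquivOver (P : MorphismProperty (AlgSp.Sp S)) (c : 𝒳 ⥤ᵇ 𝒳')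
    (hc : FibCat.IsEquivOver c) : AlgSt.HasAtlas P 𝒳 ↔ AlgSt.HasAtlas P 𝒳' := by
  refine ⟨hasAtlas_of_isEquivOver P c hc, ?_⟩
  obtain ⟨c', hc'⟩ := isEquivOver_inv hc
  exact hasAtlas_of_isEquivOver P c' hc'

theorem isQuasiCompact_of_isEquivOver (c : 𝒳 ⥤ᵇ 𝒳') (hc : FibCat.IsEquivOver c)
    (h : AlgSt.IsQuasiCompact 𝒳) : AlgSt.IsQuasiCompact 𝒳' := by
  obtain ⟨U, x, hU, h1, h2⟩ := h
  exact ⟨U, BasedFunctor.comp x c, hU, (repByAlgSpWith_comp_equiv_iff _ x c hc).mpr h1,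
    (repByAlgSpWith_comp_equiv_iff _ x c hc).mpr h2⟩

theorem isQuasiCompact_iff_of_isEquivOver (c : 𝒳 ⥤ᵇ 𝒳') (hc : FibCat.IsEquivOver c) :
    AlgSt.IsQuasiCompact 𝒳 ↔ AlgSt.IsQuasiCompact 𝒳' := by
  refine ⟨isQuasiCompact_of_isEquivOver c hc, ?_⟩
  obtain ⟨c', hc'⟩ := isEquivOver_inv hc
  exact isQuasiCompact_of_isEquivOver c' hc'

theorem repByAlgSp1_diag_toSelf_iff_of_isEquivOver (c : 𝒳 ⥤ᵇ 𝒳') (hc : FibCat.IsEquivOver c) :
    AlgSt.RepByAlgSp1 (FibCat.diag (FibCat.toSelf 𝒳)) ↔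
      AlgSt.RepByAlgSp1 (FibCat.diag (FibCat.toSelf 𝒳')) := by
  rw [repByAlgSp1_iff_top, repByAlgSp1_iff_top]
  exact (repByAlgSpWith_diag_iff_of_square ⊤ (FibCat.toSelf 𝒳') (FibCat.toSelf 𝒳) c
    (BasedFunctor.id _) hc isEquivOver_id (toSelfIso c)).symm

theorem isAlgStack_iff_of_isEquivOver (K : Precoverage Scheme.{u}) (c : 𝒳 ⥤ᵇ 𝒳')
    (hc : FibCat.IsEquivOver c) : AlgSt.IsAlgStack K 𝒳 ↔ AlgSt.IsAlgStack K 𝒳' := by
  constructor
  · rintro ⟨h1, h2, h3⟩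
    exact ⟨(Groth.Agent.Lib.StkEquiv.isStack_iff_of_isEquivOver c hc _).1 h1,
      (repByAlgSp1_diag_toSelf_iff_of_isEquivOver c hc).1 h2,
      (hasAtlas_iff_of_isEquivOver _ c hc).1 h3⟩
  · rintro ⟨h1, h2, h3⟩
    exact ⟨(Groth.Agent.Lib.StkEquiv.isStack_iff_of_isEquivOver c hc _).2 h1,
      (repByAlgSp1_diag_toSelf_iff_of_isEquivOver c hc).2 h2,
      (hasAtlas_iff_of_isEquivOver _ c hc).2 h3⟩

theorem isDM_iff_of_isEquivOver (K : Precoverage Scheme.{u}) (c : 𝒳 ⥤ᵇ 𝒳')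
    (hc : FibCat.IsEquivOver c) : AlgSt.IsDM K 𝒳 ↔ AlgSt.IsDM K 𝒳' :=
  and_congr (isAlgStack_iff_of_isEquivOver K c hc) (hasAtlas_iff_of_isEquivOver _ c hc)

end Invariance

section Points

variable {S : Scheme.{u}} {𝒳 : BasedCategory.{v₂, u₂} (Over S)}
  {𝒴 : BasedCategory.{v₃, u₃} (Over S)} {𝒵 : BasedCategory.{v₄, u₄} (Over S)}

theorem points_map_comp (F : 𝒳 ⥤ᵇ 𝒴) (G : 𝒴 ⥤ᵇ 𝒵) (p : AlgSt.Points 𝒳) :
    AlgSt.Points.map (BasedFunctor.comp F G) p = AlgSt.Points.map G (AlgSt.Points.map F p) := by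
  induction p using Quot.ind with
  | mk q => rfl

theorem points_map_id (p : AlgSt.Points 𝒳) :
    AlgSt.Points.map (BasedFunctor.id 𝒳) p = p := by
  induction p using Quot.ind with
  | mk q => rfl

/-- 2-isomorphic functors induce the same map on points. -/
theorem points_map_congr {F G : 𝒳 ⥤ᵇ 𝒴} (α : F ≅ G) (p : AlgSt.Points 𝒳) :
    AlgSt.Points.map F p = AlgSt.Points.map G p := by
  induction p using Quot.ind with
  | mk q =>
    apply AlgSt.Points.sound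
    exact ⟨q.map F, 𝟙 _, (appIso α q.obj).hom, trivial⟩

theorem points_map_injective_of_isEquivOver (c : 𝒳 ⥤ᵇ 𝒴) (hc : FibCat.IsEquivOver c) :
    Function.Injective (AlgSt.Points.map c) := by
  obtain ⟨c', ⟨α⟩, -⟩ := hc
  intro p q hpq
  have h := congrArg (AlgSt.Points.map c') hpq
  rw [← points_map_comp, ← points_map_comp, points_map_congr α, points_map_congr α,
    points_map_id, points_map_id] at h
  exact h

theorem points_map_surjective_of_isEquivOver (c : 𝒳 ⥤ᵇ 𝒴) (hc : FibCat.IsEquivOver c) :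
    Function.Surjective (AlgSt.Points.map c) := by
  obtain ⟨c', -, ⟨β⟩⟩ := hc
  intro p
  refine ⟨AlgSt.Points.map c' p, ?_⟩
  rw [← points_map_comp, points_map_congr β, points_map_id]

end Points

section BaseChange

variable {S : Scheme.{u}} {𝒳 : BasedCategory.{v₂, u₂} (Over S)}
  {𝒴 : BasedCategory.{v₃, u₃} (Over S)} {𝒵 : BasedCategory.{v₄, u₄} (Over S)}

theorem isQuasiCompactMor_fpFst (K : Precoverage Scheme.{u}) (f : 𝒳 ⥤ᵇ 𝒴) (g : 𝒵 ⥤ᵇ 𝒴)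
    (hf : AlgSt.IsQuasiCompactMor K f) : AlgSt.IsQuasiCompactMor K (FibCat.fpFst g f) := by
  intro 𝒲 h𝒲 hqc h
  have h1 := hf 𝒲 h𝒲 hqc (BasedFunctor.comp h g)
  exact (isQuasiCompact_iff_of_isEquivOver (fpPasteLeft h g f) (fpPasteLeft_isEquivOver h g f)).2 h1

theorem points_map_fpFst_paste {𝒲 : BasedCategory.{v₅, u₅} (Over S)} (f : 𝒳 ⥤ᵇ 𝒴) (g : 𝒵 ⥤ᵇ 𝒴)
    (h : 𝒲 ⥤ᵇ 𝒵) (p : AlgSt.Points (FibCat.fp h (FibCat.fpFst g f))) :
    AlgSt.Points.map (FibCat.fpFst h (FibCat.fpFst g f)) p =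
      AlgSt.Points.map (FibCat.fpFst (BasedFunctor.comp h g) f)
        (AlgSt.Points.map (fpPasteLeft h g f) p) := by
  rw [← points_map_comp]
  exact points_map_congr (Iso.refl _) p

theorem isUnivInjective_fpFst (K : Precoverage Scheme.{u}) (f : 𝒳 ⥤ᵇ 𝒴) (g : 𝒵 ⥤ᵇ 𝒴)
    (hf : AlgSt.IsUnivInjective K f) : AlgSt.IsUnivInjective K (FibCat.fpFst g f) := by
  intro 𝒲 h𝒲 h
  have h1 := hf 𝒲 h𝒲 (BasedFunctor.comp h g)
  have h2 := points_map_injective_of_isEquivOver (fpPasteLeft h g f) (fpPasteLeft_isEquivOver h g f)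
  intro p q hpq
  rw [points_map_fpFst_paste, points_map_fpFst_paste] at hpq
  exact h2 (h1 hpq)

end BaseChange

end Groth.Agent.Lib.AlgStEquiv
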