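import Groth.Agent.Lib.AlgStRep

set_option autoImplicit false
set_option linter.style.haveILetI false
set_option backward.isDefEq.respectTransparency false
set_option backward.isDefEq.respectTransparency.types false

namespace Groth.Agent.Lib.AlgStRepC

open CategoryTheory AlgebraicGeometry Opposite Groth.Agent.Lib.FibGrpd Groth.Agent.Lib.FpEquiv
  Groth.Agent.Lib.AlgStRep

universe w v₅ u₅ v₄ u₄ v₃ u₃ v₂ u₂ v u

section Swap

variable {C : Type u} [Category.{v} C] {𝒳 : BasedCategory.{v₂, u₂} C}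
  {𝒴 : BasedCategory.{v₃, u₃} C} {𝒮 : BasedCategory.{v₄, u₄} C} (F : 𝒳 ⥤ᵇ 𝒮) (G : 𝒴 ⥤ᵇ 𝒮)

/-- The symmetry `𝒳 ×_𝒮 𝒴 ⟶ 𝒴 ×_𝒮 𝒳`. -/
def fpSwap : FibCat.fp F G ⥤ᵇ FibCat.fp G F :=
  FibCat.fpLift (FibCat.fpSnd F G) (FibCat.fpFst F G) (FibCat.fpIso F G).symm

def fpSwapSwapIso : BasedFunctor.comp (fpSwap F G) (fpSwap G F) ≅ BasedFunctor.id (FibCat.fp F G) :=
  Iso.refl _

theorem fpSwap_isEquivOver : FibCat.IsEquivOver (fpSwap F G) :=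
  ⟨fpSwap G F, ⟨fpSwapSwapIso F G⟩, ⟨fpSwapSwapIso G F⟩⟩

def fpSwapFstIso : BasedFunctor.comp (fpSwap F G) (FibCat.fpFst G F) ≅ FibCat.fpSnd F G := Iso.refl _

def fpSwapSndIso : BasedFunctor.comp (fpSwap F G) (FibCat.fpSnd G F) ≅ FibCat.fpFst F G := Iso.refl _

end Swap

section BaseChangeSnd

variable {S : Scheme.{u}} {𝒳 : BasedCategory.{v₂, u₂} (Over S)}
  {𝒴 : BasedCategory.{v₃, u₃} (Over S)} {𝒵 : BasedCategory.{v₄, u₄} (Over S)}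

/-- Base change, second projection: if `z : 𝒵 ⟶ 𝒴` is representable by algebraic spaces with `P`, so is
`𝒵 ×_𝒴 𝒳 ⟶ 𝒳`. -/
theorem repByAlgSpWith_fpSnd (P : MorphismProperty (AlgSp.Sp S)) (z : 𝒵 ⥤ᵇ 𝒴) (f : 𝒳 ⥤ᵇ 𝒴)
    (hz : AlgSt.RepByAlgSpWith P z) : AlgSt.RepByAlgSpWith P (FibCat.fpSnd z f) := by
  have h1 : AlgSt.RepByAlgSpWith P (FibCat.fpFst f z) := repByAlgSpWith_fpFst P z f hz
  exact (repByAlgSpWith_iff_of_square P (FibCat.fpFst f z) (FibCat.fpSnd z f) (fpSwap z f)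
    (BasedFunctor.id 𝒳) (fpSwap_isEquivOver z f) isEquivOver_id (compIdIso _)).mp h1

end BaseChangeSnd

end Groth.Agent.Lib.AlgStRepC
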