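import Groth.Agent.Lib.AlgStSpTest
import Groth.Agent.Lib.H69AlgSp

/-!
# `RepByAlgSpWith P` for properties `P` determined by base changes to schemes (helper64)

* `SchemeLocal P` : `P a` follows from `P` of all base changes of `a` to schemes
  (weaker than `AtlasLocal`); `exists_rep_over_space'`, `repByAlgSpWith_comp'`.
* instances: monomorphisms, `RepWith Q`, `AffMor Q` (affine / integral / finite morphisms).
-/

set_option autoImplicit false
set_option linter.style.haveILetI false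
set_option backward.isDefEq.respectTransparency false
set_option backward.isDefEq.respectTransparency.types false

namespace Groth.Agent.Lib.AlgStSpTest

open CategoryTheory Functor Opposite Limits AlgebraicGeometry Groth.Agent.Lib.FibGrpd
  Groth.Agent.Lib.FpEquiv Groth.Agent.Lib.EquivOver Groth.Agent.Lib.AlgStFp
  Groth.Agent.Lib.AlgStRep Groth.Agent.Lib.PshFp

universe u

variable {S : Scheme.{u}}

/-- `P a` follows from `P` of all base changes of `a` to schemes. -/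
def SchemeLocal (P : MorphismProperty (AlgSp.Sp S)) : Prop :=
  ∀ ⦃Z V : AlgSp.Sp S⦄, AlgSp.IsAlgSpace Z → AlgSp.IsAlgSpace V → ∀ (a : V ⟶ Z),
    (∀ ⦃W : Over S⦄ (p : (AlgSp.yon S).obj W ⟶ Z) ⦃X : AlgSp.Sp S⦄, AlgSp.IsAlgSpace X →
      ∀ (fst : X ⟶ (AlgSp.yon S).obj W) (snd : X ⟶ V), IsPullback fst snd p a → P fst) → P a

theorem schemeLocal_of_atlasLocal {P : MorphismProperty (AlgSp.Sp S)} (hP : AtlasLocal P) :
    SchemeLocal P := by
  intro Z V hZ hV a H
  obtain ⟨W, p, hpe, hps⟩ := hZ.atlas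
  have sq : IsPullback (pullback.fst p a) (pullback.snd p a) p a := IsPullback.of_hasPullback p a
  have hX : AlgSp.IsAlgSpace (pullback p a) :=
    Groth.Agent.Lib.AlgSpFibre.isAlgSpace_of_isPullback hZ.diag (AlgSp.IsAlgSpace.yon_obj W) hV sq
  exact hP hZ hV hX a p hpe hps _ _ sq (H p hX _ _ sq)

section Main

variable {𝒳 𝒴 𝒵 : AlgSt.Cat S}

/-- Base change to algebraic-space test objects, for `P` determined by base changes to schemes. -/
theorem exists_rep_over_space' [FibCat.IsFibGrpd 𝒳.p] [FibCat.IsFibGrpd 𝒴.p]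
    (P : MorphismProperty (AlgSp.Sp S)) (hPi : IsoInv P) (hP : SchemeLocal P) (f : 𝒳 ⥤ᵇ 𝒴)
    (hf : AlgSt.RepByAlgSpWith P f) (Z : AlgSp.Space S) (z : AlgSt.ofSp Z.obj ⥤ᵇ 𝒴) :
    ∃ (V : AlgSp.Space S) (a : V ⟶ Z) (e : AlgSt.ofSp V.obj ⥤ᵇ FibCat.fp z f),
      FibCat.IsEquivOver e ∧
        Nonempty (BasedFunctor.comp e (FibCat.fpFst z f) ≅ AlgSt.ofSpMap a.hom) ∧ P a.hom := by
  have hf1 : AlgSt.RepByAlgSp1 f := fun U y => by
    obtain ⟨F, e, he, -⟩ := hf U y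
    exact ⟨F, e, he⟩
  obtain ⟨V, e, he⟩ := Groth.Agent.Lib.AlgStBoot.repByAlgSp_fp_of_repByAlgSp1 f z hf1
    ⟨Z, BasedFunctor.id _, isEquivOver_id⟩
  obtain ⟨a, ⟨γ⟩⟩ := exists_ofSpMap_iso (BasedFunctor.comp e (FibCat.fpFst z f))
  refine ⟨V, ObjectProperty.homMk a, e, he, ⟨γ⟩, hP Z.property V.property a ?_⟩
  intro W p X hX fst snd sq
  have h := hf W (BasedFunctor.comp (BasedFunctor.comp (AlgSt.ofOverCat W) (AlgSt.ofSpMap p)) z)
  have h2 := repData_fst_of_repData P f z e he a γ p sq h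
  have h3 := prop_spMapOfOver_of_repData P hPi hX _ h2
  rwa [spMapOfOver_ofSpMap_toOverCat] at h3

/-- Composition of functors representable by algebraic spaces with `P`, for `P` determined by base
changes to schemes. -/
theorem repByAlgSpWith_comp' [FibCat.IsFibGrpd 𝒳.p] [FibCat.IsFibGrpd 𝒴.p]
    (P : MorphismProperty (AlgSp.Sp S)) (hPi : IsoInv P) (hPl : SchemeLocal P)
    (hPc : ∀ ⦃X Y Z : AlgSp.Sp S⦄, AlgSp.IsAlgSpace X → AlgSp.IsAlgSpace Y → AlgSp.IsAlgSpace Z →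
      ∀ (a : X ⟶ Y) (b : Y ⟶ Z), P a → P b → P (a ≫ b))
    (f : 𝒳 ⥤ᵇ 𝒴) (g : 𝒴 ⥤ᵇ 𝒵) (hf : AlgSt.RepByAlgSpWith P f) (hg : AlgSt.RepByAlgSpWith P g) :
    AlgSt.RepByAlgSpWith P (BasedFunctor.comp f g) := by
  intro U z
  obtain ⟨G, eG, heG, hb⟩ := hg U z
  obtain ⟨V, a, e, he, ⟨γ⟩, ha⟩ := exists_rep_over_space' P hPi hPl f hf G
    (BasedFunctor.comp eG (FibCat.fpSnd z g))
  let α : BasedFunctor.comp (BasedFunctor.comp eG (FibCat.fpSnd z g)) (BasedFunctor.id 𝒴) ≅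
      BasedFunctor.comp eG (FibCat.fpSnd z g) := compIdIso _
  let β : BasedFunctor.comp f (BasedFunctor.id 𝒴) ≅ BasedFunctor.comp (BasedFunctor.id 𝒳) f :=
    compIdIso f ≪≫ (idCompIso f).symm
  haveI : (BasedFunctor.id 𝒴).toFunctor.Full := id_full
  haveI : (BasedFunctor.id 𝒴).toFunctor.Faithful := id_faithful
  let c₂ : FibCat.fp (BasedFunctor.comp eG (FibCat.fpSnd z g)) f ⥤ᵇ
      FibCat.fp (FibCat.fpSnd z g) f :=
    fpMap eG (BasedFunctor.id 𝒳) (BasedFunctor.id 𝒴) α β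
  have h₂ : FibCat.IsEquivOver c₂ :=
    fpMap_isEquivOver eG (BasedFunctor.id 𝒳) (BasedFunctor.id 𝒴) α β heG isEquivOver_id
  let c₃ : FibCat.fp (FibCat.fpSnd z g) f ⥤ᵇ FibCat.fp z (BasedFunctor.comp f g) :=
    fpPasteRight z g f
  have h₃ : FibCat.IsEquivOver c₃ := fpPasteRight_isEquivOver z g f
  refine ⟨V, BasedFunctor.comp (BasedFunctor.comp e c₂) c₃,
    isEquivOver_comp (isEquivOver_comp he h₂) h₃, ?_⟩
  have key : AlgSt.spMapOfOver (BasedFunctor.comp (BasedFunctor.comp (BasedFunctor.comp e c₂) c₃)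
      (FibCat.fpFst z (BasedFunctor.comp f g))) =
      a.hom ≫ AlgSt.spMapOfOver (BasedFunctor.comp eG (FibCat.fpFst z g)) := by
    rw [← spMapOfOver_ofSpMap_comp]
    exact spMapOfOver_congr (whiskerRightIso γ (BasedFunctor.comp eG (FibCat.fpFst z g))).hom
  rw [key]
  exact hPc V.property G.property (AlgSp.IsAlgSpace.yon_obj U) a.hom _ ha hb

end Main

section Instances

/-- Pasting a base change to a scheme with the trivial square. -/
theorem isPullback_paste_id {Z V X : AlgSp.Sp S} {A W : Over S} {a : V ⟶ Z}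
    {g : (AlgSp.yon S).obj A ⟶ Z} {fst : X ⟶ (AlgSp.yon S).obj A} {snd : X ⟶ V}
    (sq : IsPullback fst snd g a) {i : W ⟶ A} {fst' : (AlgSp.yon S).obj W ⟶ X}
    (sq' : IsPullback fst' ((AlgSp.yon S).map i) fst (𝟙 _)) :
    IsPullback (fst' ≫ snd) ((AlgSp.yon S).map i) a g := by
  have := sq'.paste_horiz sq.flip
  simpa using this

/-- Monomorphisms of sheaves can be tested after base change to schemes. -/
theorem schemeLocal_monomorphisms : SchemeLocal (MorphismProperty.monomorphisms (AlgSp.Sp S)) := by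
  intro Z V hZ hV a H
  refine Groth.Agent.Lib.H69AlgSp.mono_of_yon a fun T a₁ a₂ h12 => ?_
  have sq : IsPullback (pullback.fst (a₁ ≫ a) a) (pullback.snd (a₁ ≫ a) a) (a₁ ≫ a) a :=
    IsPullback.of_hasPullback _ _
  have hX : AlgSp.IsAlgSpace (pullback (a₁ ≫ a) a) :=
    Groth.Agent.Lib.AlgSpFibre.isAlgSpace_of_isPullback hZ.diag (AlgSp.IsAlgSpace.yon_obj T) hV sq
  haveI : Mono (pullback.fst (a₁ ≫ a) a) := H (a₁ ≫ a) hX _ _ sq
  have e1 : sq.lift (𝟙 _) a₁ (by simp) = sq.lift (𝟙 _) a₂ (by simp [h12]) := by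
    rw [← cancel_mono (pullback.fst (a₁ ≫ a) a), sq.lift_fst, sq.lift_fst]
  have := congrArg (fun t => t ≫ pullback.snd (a₁ ≫ a) a) e1
  simpa using this

/-- `RepWith Q` can be tested after base change to schemes. -/
theorem schemeLocal_repWith (Q : MorphismProperty Scheme.{u}) :
    SchemeLocal (AlgSp.RepWith (S := S) Q) := by
  intro Z V hZ hV a H
  refine ⟨fun A g => ?_, fun U V' g fst₀ snd₀ sq₀ => ?_⟩
  · have sq : IsPullback (pullback.fst g a) (pullback.snd g a) g a := IsPullback.of_hasPullback _ _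
    have hX : AlgSp.IsAlgSpace (pullback g a) :=
      Groth.Agent.Lib.AlgSpFibre.isAlgSpace_of_isPullback hZ.diag (AlgSp.IsAlgSpace.yon_obj A) hV
        sq
    have h1 : AlgSp.RepWith Q (pullback.fst g a) := H g hX _ _ sq
    obtain ⟨T, snd, fst', sq'⟩ := h1.1 (𝟙 _)
    exact ⟨T, snd, fst' ≫ pullback.snd g a, isPullback_paste_id sq sq'⟩
  · have h1 : AlgSp.RepWith Q ((AlgSp.yon S).map snd₀) :=
      H g (AlgSp.IsAlgSpace.yon_obj V') _ _ sq₀.flip
    exact MorphismProperty.of_relative_map h1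

/-- The common shape of `AlgSp.IsAffineMor`, `AlgSp.IsIntegralMor`, `AlgSp.IsFiniteMor`. -/
def AffMor (Q : MorphismProperty Scheme.{u}) : MorphismProperty (AlgSp.Sp S) := fun F G f =>
  ∀ ⦃Z : Over S⦄, IsAffine Z.left → ∀ (g : (AlgSp.yon S).obj Z ⟶ G),
    ∃ (W : Over S) (i : W ⟶ Z) (fst : (AlgSp.yon S).obj W ⟶ F),
      IsPullback fst ((AlgSp.yon S).map i) f g ∧ IsAffine W.left ∧ Q i.left

theorem isIntegralMor_eq : AlgSp.IsIntegralMor (S := S) = AffMor @IsIntegralHom := rfl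

theorem isFiniteMor_eq : AlgSp.IsFiniteMor (S := S) = AffMor @IsFinite := rfl

theorem isAffineMor_iff {F G : AlgSp.Sp S} (f : F ⟶ G) :
    AlgSp.IsAffineMor f ↔ AffMor (⊤ : MorphismProperty Scheme.{u}) f := by
  constructor
  · intro h Z hZ g
    obtain ⟨W, i, fst, sq, hW⟩ := h hZ g
    exact ⟨W, i, fst, sq, hW, trivial⟩
  · intro h Z hZ g
    obtain ⟨W, i, fst, sq, hW, -⟩ := h hZ g
    exact ⟨W, i, fst, sq, hW⟩

theorem isAffineMor_eq : AlgSp.IsAffineMor (S := S) = AffMor (⊤ : MorphismProperty Scheme.{u}) := by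
  ext F G f
  exact isAffineMor_iff f

theorem isoInv_affMor (Q : MorphismProperty Scheme.{u}) : IsoInv (AffMor (S := S) Q) := by
  intro X X' Y _ _ _ i f h Z hZ g
  obtain ⟨W, j, fst, sq, hW, hQ⟩ := h hZ g
  refine ⟨W, j, fst ≫ i.hom, ?_, hW, hQ⟩
  exact IsPullback.of_iso sq (Iso.refl _) i (Iso.refl _) (Iso.refl _) (by simp) (by simp)
    (by simp) (by simp)

theorem schemeLocal_affMor (Q : MorphismProperty Scheme.{u}) : SchemeLocal (AffMor (S := S) Q) := by
  intro Z V hZ hV a H A hA g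
  have sq : IsPullback (pullback.fst g a) (pullback.snd g a) g a := IsPullback.of_hasPullback _ _
  have hX : AlgSp.IsAlgSpace (pullback g a) :=
    Groth.Agent.Lib.AlgSpFibre.isAlgSpace_of_isPullback hZ.diag (AlgSp.IsAlgSpace.yon_obj A) hV sq
  obtain ⟨W, i, fst', sq', hW, hQ⟩ := H g hX _ _ sq hA (𝟙 _)
  exact ⟨W, i, fst' ≫ pullback.snd g a, isPullback_paste_id sq sq', hW, hQ⟩

theorem affMor_comp (Q : MorphismProperty Scheme.{u}) [Q.IsStableUnderComposition]
    {F G H : AlgSp.Sp S} {f : F ⟶ G} {g : G ⟶ H} (hf : AffMor Q f) (hg : AffMor Q g) :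
    AffMor Q (f ≫ g) := by
  intro Z hZ k
  obtain ⟨W, i, fst1, sq1, hW, hQ⟩ := hg hZ k
  obtain ⟨W', i', fst2, sq2, hW', hQ'⟩ := hf hW fst1
  refine ⟨W', i' ≫ i, fst2, ?_, hW', ?_⟩
  · rw [Functor.map_comp]
    exact sq2.paste_vert sq1
  · rw [Over.comp_left]
    exact Q.comp_mem _ _ hQ' hQ

end Instances

end Groth.Agent.Lib.AlgStSpTest
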