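import Groth.Agent.Lib.FpBaseChange
import Groth.Agent.Lib.AlgStSpTest2
import Groth.Agent.Lib.AlgStRepC
import Groth.Agent.Lib.AlgStDiag2
import Groth.Agent.Lib.AlgStBoot2
import Groth.Agent.Lib.AlgSpLocP2
import Groth.Agent.Lib.AlgStEquiv

/-!
# Atlases of 2-fibre products of stacks (helper64)

* `repByAlgSpWith_fpMapRight`, `repByAlgSpWith_fpMapLeft` : base change of `RepByAlgSpWith P`.
* `repData_ofPshMap_iff`, `repBySpWith_iff_repByAlgSpWith_ofPshMap` (= S12778),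
  `repByAlgSpWith_ofSpMap`.
* facts on `LocP Q` and `IsSurjectiveMor` : `IsoInv`, `AtlasLocal`, composition.
-/

set_option autoImplicit false
set_option linter.style.haveILetI false
set_option backward.isDefEq.respectTransparency false
set_option backward.isDefEq.respectTransparency.types false

namespace Groth.Agent.Lib.AlgStAtlas

open CategoryTheory Functor Opposite Limits AlgebraicGeometry Groth.Agent.Lib.FibGrpd
  Groth.Agent.Lib.FpEquiv Groth.Agent.Lib.EquivOver Groth.Agent.Lib.AlgStFp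
  Groth.Agent.Lib.AlgStRep Groth.Agent.Lib.PshFp Groth.Agent.Lib.AlgStSpTest
  Groth.Agent.Lib.FpBaseChange Groth.Agent.Lib.AlgStRepC Groth.Agent.Lib.AlgStDiag2
  Groth.Agent.Lib.AlgStBoot

universe v₅ u₅ v₄ u₄ v₃ u₃ v₂ u₂ u

variable {S : Scheme.{u}}

section BaseChange

variable {ℋ : BasedCategory.{v₂, u₂} (Over S)} {𝒵 : BasedCategory.{v₃, u₃} (Over S)}
  {𝒴 : BasedCategory.{v₄, u₄} (Over S)} {ℬ : BasedCategory.{v₅, u₅} (Over S)}

/-- Base change: `ℋ ×_𝒵 ℬ ⟶ ℋ ×_𝒵 𝒴` has `P` if `b : ℬ ⟶ 𝒴` has. -/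
theorem repByAlgSpWith_fpMapRight (P : MorphismProperty (AlgSp.Sp S)) (h : ℋ ⥤ᵇ 𝒵) (g : 𝒴 ⥤ᵇ 𝒵)
    (b : ℬ ⥤ᵇ 𝒴) (hb : AlgSt.RepByAlgSpWith P b) :
    AlgSt.RepByAlgSpWith P (fpMapRight h g b) := by
  have h1 : AlgSt.RepByAlgSpWith P (FibCat.fpFst (FibCat.fpSnd h g) b) :=
    repByAlgSpWith_fpFst P b (FibCat.fpSnd h g) hb
  exact (repByAlgSpWith_iff_of_square P (fpMapRight h g b) (FibCat.fpFst (FibCat.fpSnd h g) b)
    (fpPasteRight h g b) (BasedFunctor.id _) (fpPasteRight_isEquivOver h g b) isEquivOver_id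
    (compIdIso _ ≪≫ fpMapRightIso h g b)).2 h1

/-- Base change: `ℬ ×_𝒵 𝒴 ⟶ ℋ ×_𝒵 𝒴` has `P` if `a : ℬ ⟶ ℋ` has. -/
theorem repByAlgSpWith_fpMapLeft (P : MorphismProperty (AlgSp.Sp S)) (a : ℬ ⥤ᵇ ℋ) (f : ℋ ⥤ᵇ 𝒵)
    (g : 𝒴 ⥤ᵇ 𝒵) (ha : AlgSt.RepByAlgSpWith P a) :
    AlgSt.RepByAlgSpWith P (fpMapLeft a f g) := by
  have h1 : AlgSt.RepByAlgSpWith P (FibCat.fpSnd a (FibCat.fpFst f g)) :=
    repByAlgSpWith_fpSnd P a (FibCat.fpFst f g) ha
  exact (repByAlgSpWith_iff_of_square P (fpMapLeft a f g) (FibCat.fpSnd a (FibCat.fpFst f g))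
    (fpPasteLeft a f g) (BasedFunctor.id _) (fpPasteLeft_isEquivOver a f g) isEquivOver_id
    (compIdIso _ ≪≫ fpMapLeftIso a f g)).2 h1

end BaseChange

section Properties

theorem isoInv_locP (Q : MorphismProperty Scheme.{u}) : IsoInv (AlgSp.LocP (S := S) Q) := by
  intro X X' Y _ _ _ i f h U V a b k ha hb comm
  refine h (a ≫ i.inv) b k ?_ hb (by rw [Category.assoc, Iso.inv_hom_id_assoc, comm])
  exact ((AlgSp.RepWith @Etale).cancel_right_of_respectsIso a i.inv).2 ha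

theorem atlasLocal_locP (Q : MorphismProperty Scheme.{u})
    [Q.DescendsAlong Groth.Agent.Lib.AlgSpBasic.etCov] : AtlasLocal (AlgSp.LocP (S := S) Q) := by
  intro Z V X _ _ _ a W p hpe hps fst snd sq hfst
  exact Groth.Agent.Lib.AlgSpBasic.locP_of_isPullback_cover Q a p hpe hps sq.flip hfst

theorem isoInv_isSurjectiveMor : IsoInv (AlgSp.IsSurjectiveMor (S := S)) := by
  intro X X' Y _ _ _ i f h
  have h1 : AlgSp.Points.map (i.hom ≫ f) = AlgSp.Points.map f ∘ AlgSp.Points.map i.hom := by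
    funext x; exact AlgSp.Points.map_comp _ _ x
  have h' : Function.Surjective (AlgSp.Points.map (i.hom ≫ f)) := h
  rw [h1] at h'
  exact Function.Surjective.of_comp h'

theorem atlasLocal_isSurjectiveMor : AtlasLocal (AlgSp.IsSurjectiveMor (S := S)) := by
  intro Z V X _ _ _ a W p _ hps fst snd sq hfst
  have hp : Function.Surjective (AlgSp.Points.map p) :=
    Groth.Agent.Lib.H86AlgSpPoints.map_surjective_of_repWith hps
  have h1 : AlgSp.Points.map (fst ≫ p) = AlgSp.Points.map p ∘ AlgSp.Points.map fst := by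
    funext x; exact AlgSp.Points.map_comp _ _ x
  have h2 : AlgSp.Points.map (snd ≫ a) = AlgSp.Points.map a ∘ AlgSp.Points.map snd := by
    funext x; exact AlgSp.Points.map_comp _ _ x
  have h3 : Function.Surjective (AlgSp.Points.map a ∘ AlgSp.Points.map snd) := by
    rw [← h2, ← sq.w, h1]
    exact hp.comp hfst
  exact Function.Surjective.of_comp h3

theorem isSurjectiveMor_comp {X Y Z : AlgSp.Sp S} (a : X ⟶ Y) (b : Y ⟶ Z)
    (ha : AlgSp.IsSurjectiveMor a) (hb : AlgSp.IsSurjectiveMor b) :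
    AlgSp.IsSurjectiveMor (a ≫ b) := by
  have h1 : AlgSp.Points.map (a ≫ b) = AlgSp.Points.map b ∘ AlgSp.Points.map a := by
    funext x; exact AlgSp.Points.map_comp _ _ x
  show Function.Surjective (AlgSp.Points.map (a ≫ b))
  rw [h1]
  exact Function.Surjective.comp hb ha

end Properties

section OfSpMap

/-- For a pullback square of presheaves `X = F ×_G h_U` with `X` a sheaf: the base change of
`ofPshMap a` along `h_U ⟶ G` is represented by `X ⟶ h_U`. -/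
theorem repData_ofPshMap_iff (Q : MorphismProperty (AlgSp.Sp S)) {F G : AlgSp.PSp S} (a : F ⟶ G)
    {U : Over S} (ξ : (AlgSp.pyon S).obj U ⟶ G) (X : AlgSp.Sp S) {fst : X.obj ⟶ F}
    {snd : X.obj ⟶ (AlgSp.pyon S).obj U} (sq : IsPullback fst snd a ξ) :
    RepData Q (FibCat.fpFst (BasedFunctor.comp (AlgSt.ofOverCat U) (Stk.ofPshMap ξ))
      (Stk.ofPshMap a)) ↔
      RepData Q (BasedFunctor.comp
        (AlgSt.ofSpMap (ObjectProperty.homMk snd : X ⟶ (AlgSp.yon S).obj U))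
        (AlgSt.toOverCat U)) := by
  let c₅ : AlgSt.ofSp X ⥤ᵇ FibCat.fp (Stk.ofPshMap ξ) (Stk.ofPshMap a) := pshFpFunctor sq.flip.w
  have h₅ : FibCat.IsEquivOver c₅ := pshFpFunctor_isEquivOver_of_isPullback sq.flip
  let y' : FibCat.overCat U ⥤ᵇ Stk.ofPsh G :=
    BasedFunctor.comp (AlgSt.ofOverCat U) (Stk.ofPshMap ξ)
  let α : BasedFunctor.comp (Stk.ofPshMap ξ) (BasedFunctor.id (Stk.ofPsh G)) ≅
      BasedFunctor.comp (AlgSt.toOverCat U) y' := Iso.refl _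
  let β : BasedFunctor.comp (Stk.ofPshMap a) (BasedFunctor.id (Stk.ofPsh G)) ≅
      BasedFunctor.comp (BasedFunctor.id (Stk.ofPsh F)) (Stk.ofPshMap a) := Iso.refl _
  haveI : (BasedFunctor.id (Stk.ofPsh G)).toFunctor.Full := id_full
  haveI : (BasedFunctor.id (Stk.ofPsh G)).toFunctor.Faithful := id_faithful
  let c₄ : FibCat.fp (Stk.ofPshMap ξ) (Stk.ofPshMap a) ⥤ᵇ FibCat.fp y' (Stk.ofPshMap a) :=
    fpMap (AlgSt.toOverCat U) (BasedFunctor.id (Stk.ofPsh F)) (BasedFunctor.id (Stk.ofPsh G)) α β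
  have h₄ : FibCat.IsEquivOver c₄ :=
    fpMap_isEquivOver (AlgSt.toOverCat U) (BasedFunctor.id (Stk.ofPsh F))
      (BasedFunctor.id (Stk.ofPsh G)) α β (toOverCat_isEquivOver U) isEquivOver_id
  exact (repData_iff_of_equiv (BasedFunctor.comp c₅ c₄) (isEquivOver_comp h₅ h₄) (Iso.refl _)).symm

/-- = S12778. -/
theorem repBySpWith_iff_repByAlgSpWith_ofPshMap (Q : MorphismProperty (AlgSp.Sp S)) [Q.RespectsIso]
    {F G : AlgSp.PSp S} (a : F ⟶ G) (ha : AlgSp.RepBySp a) :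
    AlgSp.RepBySpWith Q a ↔ AlgSt.RepByAlgSpWith Q (Stk.ofPshMap a) := by
  constructor
  · intro h U y
    obtain ⟨ξ, ⟨γ⟩⟩ := exists_ofPshMap_iso_overCat U y
    have sq : IsPullback (pullback.fst a ξ) (pullback.snd a ξ) a ξ := IsPullback.of_hasPullback a ξ
    obtain ⟨hsh, hX, hQ⟩ := h ξ _ _ sq
    have h1 : RepData Q (BasedFunctor.comp
        (AlgSt.ofSpMap (ObjectProperty.homMk (pullback.snd a ξ) :
          (⟨pullback a ξ, hsh⟩ : AlgSp.Sp S) ⟶ (AlgSp.yon S).obj U))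
        (AlgSt.toOverCat U)) := by
      refine ⟨⟨⟨pullback a ξ, hsh⟩, hX⟩, BasedFunctor.id _, isEquivOver_id, ?_⟩
      have e := spMapOfOver_ofSpMap_toOverCat (ObjectProperty.homMk (pullback.snd a ξ) :
          (⟨pullback a ξ, hsh⟩ : AlgSp.Sp S) ⟶ (AlgSp.yon S).obj U)
      exact e ▸ hQ
    have h2 := (repData_ofPshMap_iff Q a ξ ⟨pullback a ξ, hsh⟩ sq).2 h1
    exact (repData_congr Q (Stk.ofPshMap a) γ).2 h2
  · intro h U ξ F' fst snd sq
    obtain ⟨hsh, hX⟩ := ha ξ fst snd sq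
    refine ⟨hsh, hX, ?_⟩
    have h1 := h U (BasedFunctor.comp (AlgSt.ofOverCat U) (Stk.ofPshMap ξ))
    have h2 := (repData_ofPshMap_iff Q a ξ ⟨F', hsh⟩ sq).1 h1
    have h3 := prop_spMapOfOver_of_repData Q (isoInv_of_respectsIso Q) hX _ h2
    rwa [spMapOfOver_ofSpMap_toOverCat] at h3

/-- A morphism of algebraic spaces with `P` (stable under base change) gives a functor
representable by algebraic spaces with `P`. -/
theorem repByAlgSpWith_ofSpMap (P : MorphismProperty (AlgSp.Sp S))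
    (hPb : ∀ ⦃X₁ Y₁ X₂ Y₂ : AlgSp.Sp S⦄, AlgSp.IsAlgSpace X₁ → AlgSp.IsAlgSpace Y₁ →
      AlgSp.IsAlgSpace X₂ → AlgSp.IsAlgSpace Y₂ → ∀ (a : X₁ ⟶ Y₁) (b : Y₂ ⟶ Y₁) (a' : X₂ ⟶ Y₂)
      (b' : X₂ ⟶ X₁), IsPullback b' a' a b → P a → P a')
    {F G : AlgSp.Sp S} (hF : AlgSp.IsAlgSpace F) (hG : AlgSp.IsAlgSpace G) (c : F ⟶ G)
    (hc : P c) : AlgSt.RepByAlgSpWith P (AlgSt.ofSpMap c) := by
  intro U y
  obtain ⟨ξ, ⟨γ⟩⟩ := exists_ofPshMap_iso_overCat U y
  let ξ' : (AlgSp.yon S).obj U ⟶ G := ObjectProperty.homMk ξ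
  have sq : IsPullback (pullback.fst c ξ') (pullback.snd c ξ') c ξ' :=
    IsPullback.of_hasPullback c ξ'
  have hX : AlgSp.IsAlgSpace (pullback c ξ') :=
    Groth.Agent.Lib.AlgSpFibre.isAlgSpace_of_isPullback hG.diag hF (AlgSp.IsAlgSpace.yon_obj U) sq
  have hQ : P (pullback.snd c ξ') :=
    hPb hF hG hX (AlgSp.IsAlgSpace.yon_obj U) c ξ' (pullback.snd c ξ') (pullback.fst c ξ') sq hc
  have sq' : IsPullback (pullback.fst c ξ').hom (pullback.snd c ξ').hom c.hom ξ :=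
    sq.map (sheafToPresheaf (AlgSp.J S) (Type (u + 1)))
  have h1 : RepData P (BasedFunctor.comp (AlgSt.ofSpMap (pullback.snd c ξ'))
      (AlgSt.toOverCat U)) := by
    refine ⟨⟨pullback c ξ', hX⟩, BasedFunctor.id _, isEquivOver_id, ?_⟩
    have e := spMapOfOver_ofSpMap_toOverCat (pullback.snd c ξ')
    exact e ▸ hQ
  have h2 := (repData_ofPshMap_iff P c.hom ξ (pullback c ξ') sq').2 h1
  exact (repData_congr P (AlgSt.ofSpMap c) γ).2 h2

end OfSpMap

end Groth.Agent.Lib.AlgStAtlas
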