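import Groth.Agent.Lib.FibGrpd

set_option autoImplicit false
set_option linter.style.haveILetI false
open CategoryTheory Functor
universe v₄ u₄ v₃ u₃ v₂ u₂ v u

namespace Groth.Agent.Lib.FibYoneda

open Groth.Agent.Lib.FibGrpd

section TwoYoneda

variable {C : Type u} [Category.{v} C] {𝒳 : BasedCategory.{v₂, u₂} C} (U : C)

/-- The terminal object `𝟙_U` of `C/U`. -/
abbrev overTop : Over U := Over.mk (𝟙 U)

/-- The canonical morphism from an object of `C/U` to `𝟙_U`. -/
def toOverTop (T : Over U) : T ⟶ overTop U := Over.homMk T.hom (Category.comp_id _)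

theorem toOverTop_top : toOverTop U (overTop U) = 𝟙 (overTop U) := by
  apply Over.OverMorphism.ext
  rfl

theorem comp_toOverTop {T' T : Over U} (k : T' ⟶ T) : k ≫ toOverTop U T = toOverTop U T' := by
  apply Over.OverMorphism.ext
  exact Over.w k

variable {U}

instance map_toOverTop_isHomLift (H : FibCat.overCat U ⥤ᵇ 𝒳) (T : Over U) :
    𝒳.p.IsHomLift T.hom (H.map (toOverTop U T)) := by
  haveI : (FibCat.overCat U).p.IsHomLift T.hom (toOverTop U T) :=
    CategoryTheory.IsHomLift.map (Over.forget U) (toOverTop U T)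
  infer_instance

instance map_isHomLift_left (H : FibCat.overCat U ⥤ᵇ 𝒳) {T' T : Over U} (k : T' ⟶ T) :
    𝒳.p.IsHomLift k.left (H.map k) := by
  haveI : (FibCat.overCat U).p.IsHomLift k.left k :=
    CategoryTheory.IsHomLift.map (Over.forget U) k
  infer_instance

/-- The condition that `H` sends the canonical morphisms to `𝟙_U` to strongly cartesian ones. -/
def SendsTopCart (H : FibCat.overCat U ⥤ᵇ 𝒳) : Prop :=
  ∀ T : Over U, 𝒳.p.IsStronglyCartesian T.hom (H.map (toOverTop U T))

theorem basedNatTrans_ext_of_app_top {G H : FibCat.overCat U ⥤ᵇ 𝒳} (hH : SendsTopCart H)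
    (α β : G ⟶ H) (h : α.toNatTrans.app (overTop U) = β.toNatTrans.app (overTop U)) : α = β := by
  apply BasedNatTrans.homCategory.ext
  ext T
  haveI := hH T
  haveI h1 : 𝒳.p.IsHomLift (𝟙 T.left) (α.toNatTrans.app T) := α.isHomLift' T
  haveI h2 : 𝒳.p.IsHomLift (𝟙 T.left) (β.toNatTrans.app T) := β.isHomLift' T
  apply IsStronglyCartesian.ext 𝒳.p T.hom (H.map (toOverTop U T)) (𝟙 T.left)
  have e1 := α.toNatTrans.naturality (toOverTop U T)
  have e2 := β.toNatTrans.naturality (toOverTop U T)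
  exact e1.symm.trans ((congrArg (G.map (toOverTop U T) ≫ ·) h).trans e2)

section Full

variable {G H : FibCat.overCat U ⥤ᵇ 𝒳} (hH : SendsTopCart H)
  (φ : G.obj (overTop U) ⟶ H.obj (overTop U)) [𝒳.p.IsHomLift (𝟙 U) φ]

/-- Components of the 2-morphism extending a morphism between the values at `𝟙_U`. -/
noncomputable def extendApp (T : Over U) : G.obj T ⟶ H.obj T :=
  haveI := hH T
  IsCartesian.map 𝒳.p T.hom (H.map (toOverTop U T)) (G.map (toOverTop U T) ≫ φ)

instance extendApp_isHomLift (T : Over U) : 𝒳.p.IsHomLift (𝟙 T.left) (extendApp hH φ T) := by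
  haveI := hH T
  exact IsCartesian.map_isHomLift 𝒳.p T.hom (H.map (toOverTop U T)) (G.map (toOverTop U T) ≫ φ)

theorem extendApp_fac (T : Over U) :
    extendApp hH φ T ≫ H.map (toOverTop U T) = G.map (toOverTop U T) ≫ φ := by
  haveI := hH T
  exact IsCartesian.fac 𝒳.p T.hom (H.map (toOverTop U T)) (G.map (toOverTop U T) ≫ φ)

theorem extendApp_naturality {T' T : Over U} (k : T' ⟶ T) :
    G.map k ≫ extendApp hH φ T = extendApp hH φ T' ≫ H.map k := by
  haveI := hH T
  haveI h1 : 𝒳.p.IsHomLift k.left (G.map k ≫ extendApp hH φ T) := inferInstance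
  haveI h2 : 𝒳.p.IsHomLift k.left (extendApp hH φ T' ≫ H.map k) := inferInstance
  apply IsStronglyCartesian.ext 𝒳.p T.hom (H.map (toOverTop U T)) k.left
  have eG : G.map k ≫ G.map (toOverTop U T) = G.map (toOverTop U T') :=
    (G.map_comp k (toOverTop U T)).symm.trans (congrArg (fun t => G.map t) (comp_toOverTop U k))
  have eH : H.map k ≫ H.map (toOverTop U T) = H.map (toOverTop U T') :=
    (H.map_comp k (toOverTop U T)).symm.trans (congrArg (fun t => H.map t) (comp_toOverTop U k))
  rw [Category.assoc, extendApp_fac, ← Category.assoc, eG, Category.assoc, eH, extendApp_fac]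

/-- The 2-morphism extending a morphism between the values at `𝟙_U`. -/
noncomputable def extend : G ⟶ H where
  app := extendApp hH φ
  naturality _ _ k := extendApp_naturality hH φ k
  isHomLift' T := extendApp_isHomLift hH φ T

theorem extend_app_top : (extend hH φ).toNatTrans.app (overTop U) = φ := by
  have := extendApp_fac hH φ (overTop U)
  rw [toOverTop_top] at this
  change extendApp hH φ (overTop U) = φ
  have e1 : H.map (𝟙 (overTop U)) = 𝟙 _ := H.map_id _
  have e2 : G.map (𝟙 (overTop U)) = 𝟙 _ := G.map_id _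
  rw [e1, e2, Category.comp_id, Category.id_comp] at this
  exact this

end Full

section EssSurj

variable [𝒳.p.IsFibered] (x : 𝒳.p.Fiber U)

/-- The chosen pullback of `x` along the structure morphism of `T`. -/
noncomputable def pbObj (T : Over U) : 𝒳.obj := IsPreFibered.pullbackObj x.2 T.hom

/-- The chosen cartesian morphism `T^* x ⟶ x`. -/
noncomputable def pbMap (T : Over U) : pbObj x T ⟶ x.1 := IsPreFibered.pullbackMap x.2 T.hom

instance pbMap_isStronglyCartesian (T : Over U) :
    𝒳.p.IsStronglyCartesian T.hom (pbMap x T) := by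
  haveI : 𝒳.p.IsCartesian T.hom (pbMap x T) := IsPreFibered.pullbackMap.IsCartesian x.2 T.hom
  infer_instance

/-- The action on morphisms of the functor `T ↦ T^* x`. -/
noncomputable def pbHom {T' T : Over U} (k : T' ⟶ T) : pbObj x T' ⟶ pbObj x T :=
  IsStronglyCartesian.map 𝒳.p T.hom (pbMap x T) (g := k.left) (f' := T'.hom) (Over.w k).symm
    (pbMap x T')

instance pbHom_isHomLift {T' T : Over U} (k : T' ⟶ T) : 𝒳.p.IsHomLift k.left (pbHom x k) :=
  IsStronglyCartesian.map_isHomLift 𝒳.p T.hom (pbMap x T) (Over.w k).symm (pbMap x T')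

theorem pbHom_fac {T' T : Over U} (k : T' ⟶ T) : pbHom x k ≫ pbMap x T = pbMap x T' :=
  IsStronglyCartesian.fac 𝒳.p T.hom (pbMap x T) (Over.w k).symm (pbMap x T')

theorem pbHom_uniq {T' T : Over U} (k : T' ⟶ T) (ψ : pbObj x T' ⟶ pbObj x T)
    [𝒳.p.IsHomLift k.left ψ] (h : ψ ≫ pbMap x T = pbMap x T') : ψ = pbHom x k :=
  IsStronglyCartesian.map_uniq 𝒳.p T.hom (pbMap x T) (Over.w k).symm (pbMap x T') ψ h

/-- The functor `C/U ⟶ 𝒳` over `C` attached to an object `x` of the fibre over `U`. -/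
noncomputable def pbFunctor : FibCat.overCat U ⥤ᵇ 𝒳 where
  toFunctor :=
    { obj := pbObj x
      map := fun k => pbHom x k
      map_id := fun T => by
        symm
        haveI : 𝒳.p.IsHomLift (Over.Hom.left (𝟙 T)) (𝟙 (pbObj x T)) :=
          IsHomLift.id (IsPreFibered.pullbackObj_proj x.2 T.hom)
        exact pbHom_uniq x (𝟙 T) (𝟙 _) (Category.id_comp _)
      map_comp := fun {T'' T' T} k k' => by
        symm
        haveI : 𝒳.p.IsHomLift (Over.Hom.left (k ≫ k')) (pbHom x k ≫ pbHom x k') := by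
          change 𝒳.p.IsHomLift (k.left ≫ k'.left) (pbHom x k ≫ pbHom x k')
          infer_instance
        apply pbHom_uniq x (k ≫ k')
        rw [Category.assoc, pbHom_fac, pbHom_fac] }
  w := by
    refine Functor.ext (fun T => IsPreFibered.pullbackObj_proj x.2 T.hom) ?_
    intro T' T k
    exact IsHomLift.fac' 𝒳.p k.left (pbHom x k)

theorem pbFunctor_preservesStronglyCartesian :
    FibCat.PreservesStronglyCartesian (pbFunctor x) := by
  intro R S f T' T k hk
  subst_hom_lift (FibCat.overCat U).p f k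
  change 𝒳.p.IsStronglyCartesian k.left (pbHom x k)
  have e : k.left ≫ T.hom = T'.hom := Over.w k
  haveI h1 : 𝒳.p.IsStronglyCartesian (k.left ≫ T.hom) (pbHom x k ≫ pbMap x T) := by
    rw [pbHom_fac, e]
    infer_instance
  exact IsStronglyCartesian.of_comp 𝒳.p (f := k.left) (g := T.hom) (φ := pbHom x k)
    (ψ := pbMap x T)

instance pbMap_top_isHomLift : 𝒳.p.IsHomLift (𝟙 U) (pbMap x (overTop U)) :=
  (pbMap_isStronglyCartesian x (overTop U)).toIsHomLift

instance pbMap_top_isIso : IsIso (pbMap x (overTop U)) := by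
  haveI hs : 𝒳.p.IsStronglyCartesian (𝟙 U) (pbMap x (overTop U)) :=
    pbMap_isStronglyCartesian x (overTop U)
  exact IsStronglyCartesian.isIso_of_base_isIso 𝒳.p (𝟙 U) (pbMap x (overTop U))

/-- The inverse of the chosen cartesian morphism over `𝟙_U`. -/
noncomputable def pbMapInv : x.1 ⟶ pbObj x (overTop U) := CategoryTheory.inv (pbMap x (overTop U))

instance pbMapInv_isHomLift : 𝒳.p.IsHomLift (𝟙 U) (pbMapInv x) := by
  unfold pbMapInv
  infer_instance

theorem pbMap_pbMapInv : pbMap x (overTop U) ≫ pbMapInv x = 𝟙 _ := IsIso.hom_inv_id _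

theorem pbMapInv_pbMap : pbMapInv x ≫ pbMap x (overTop U) = 𝟙 _ := IsIso.inv_hom_id _

/-- The value of `pbFunctor x` at `𝟙_U` is isomorphic to `x` in the fibre. -/
noncomputable def pbFunctorEvalIso : (FibCat.evalAtId 𝒳 U).obj (pbFunctor x) ≅ x where
  hom := ⟨pbMap x (overTop U), pbMap_top_isHomLift x⟩
  inv := ⟨pbMapInv x, pbMapInv_isHomLift x⟩
  hom_inv_id := Subtype.ext (pbMap_pbMapInv x)
  inv_hom_id := Subtype.ext (pbMapInv_pbMap x)

end EssSurj

section Main

theorem sendsTopCart_of_isFibGrpd [FibCat.IsFibGrpd 𝒳.p] (H : FibCat.overCat U ⥤ᵇ 𝒳) :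
    SendsTopCart H := fun T => isStronglyCartesian_of_isHomLift 𝒳.p T.hom _

theorem sendsTopCart_of_preserves (H : FibCat.overCat U ⥤ᵇ 𝒳)
    (hH : FibCat.PreservesStronglyCartesian H) : SendsTopCart H := fun T =>
  hH T.hom (toOverTop U T) (overForget_isStronglyCartesian U (toOverTop U T))

theorem evalAtId_isEquivalence_of_isFibGrpd [FibCat.IsFibGrpd 𝒳.p] :
    (FibCat.evalAtId 𝒳 U).IsEquivalence where
  faithful := ⟨fun {G H} α β h =>
    basedNatTrans_ext_of_app_top (sendsTopCart_of_isFibGrpd H) α β (congrArg Subtype.val h)⟩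
  full := ⟨fun {G H} θ => by
    let φ : G.obj (overTop U) ⟶ H.obj (overTop U) := θ.1
    haveI hφ : 𝒳.p.IsHomLift (𝟙 U) φ := θ.2
    exact ⟨extend (sendsTopCart_of_isFibGrpd H) φ,
      Subtype.ext (extend_app_top (sendsTopCart_of_isFibGrpd H) φ)⟩⟩
  essSurj := ⟨fun x => by
    haveI := isFibered 𝒳.p
    exact ⟨pbFunctor x, ⟨pbFunctorEvalIso x⟩⟩⟩

theorem evalAtId_isEquivalence_of_isFibered [𝒳.p.IsFibered] :
    ((ObjectProperty.ι (FibCat.PreservesStronglyCartesian (𝒳 := FibCat.overCat U) (𝒴 := 𝒳))) ⋙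
      FibCat.evalAtId 𝒳 U).IsEquivalence where
  faithful := ⟨fun {G H} α β h => by
    apply ObjectProperty.hom_ext
    exact basedNatTrans_ext_of_app_top (sendsTopCart_of_preserves H.obj H.property) α.hom β.hom
      (congrArg Subtype.val h)⟩
  full := ⟨fun {G H} θ => by
    let φ : G.obj.obj (overTop U) ⟶ H.obj.obj (overTop U) := θ.1
    haveI hφ : 𝒳.p.IsHomLift (𝟙 U) φ := θ.2
    exact ⟨ObjectProperty.homMk (extend (sendsTopCart_of_preserves H.obj H.property) φ),
      Subtype.ext (extend_app_top (sendsTopCart_of_preserves H.obj H.property) φ)⟩⟩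
  essSurj := ⟨fun x =>
    ⟨⟨pbFunctor x, pbFunctor_preservesStronglyCartesian x⟩, ⟨pbFunctorEvalIso x⟩⟩⟩

end Main

end TwoYoneda

end Groth.Agent.Lib.FibYoneda
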