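import Groth.Prelude.Def_FibCat2
import Groth.Agent.Lib.FibGrpd

/-!
# Equivalences over the base between 2-fibre products (helper64)

* `isEquivOver_of_ff_of_ess` / `isEquivOver_iff_ff_ess` : universe-general criterion (fully faithful and
  essentially surjective over identities).
* `isEquivOver_comp`, `isEquivOver_of_iso`, `isEquivOver_id`, `IsEquivOver.exists_inv`.
* `isRepresentable_of_isEquivOver`, `isRepresentable_iff_of_isEquivOver`.
* `fpMap` : functoriality of `FibCat.fp` in all three variables, an equivalence over the base when the outer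
  functors are equivalences and the middle one is fully faithful.
* `fpPasteLeft` : `𝒰 ×_𝒵 (𝒵 ×_𝒴 𝒳) ≃ 𝒰 ×_𝒴 𝒳`, `fpPasteRight` : `(𝒰 ×_𝒵 𝒴) ×_𝒴 𝒳 ≃ 𝒰 ×_𝒵 𝒳`.
-/

set_option autoImplicit false
set_option linter.style.haveILetI false
set_option backward.isDefEq.respectTransparency false
set_option backward.isDefEq.respectTransparency.types false

namespace Groth.Agent.Lib.FpEquiv

open CategoryTheory Functor Groth.Agent.Lib.FibGrpd

universe v₇ u₇ v₆ u₆ v₅ u₅ v₄ u₄ v₃ u₃ v₂ u₂ v u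

variable {C : Type u} [Category.{v} C]

section Criterion

variable {𝒳 : BasedCategory.{v₂, u₂} C} {𝒴 : BasedCategory.{v₃, u₃} C} (F : 𝒳 ⥤ᵇ 𝒴)

/-- The quasi-inverse over `C` built from chosen preimages. -/
noncomputable def invFunctor [F.toFunctor.Full] [F.toFunctor.Faithful]
    (ξ : 𝒴.obj → 𝒳.obj) (e : ∀ η, F.toFunctor.obj (ξ η) ≅ η)
    (he : ∀ η, 𝒴.p.IsHomLift (𝟙 (𝒴.p.obj η)) (e η).hom) : 𝒴 ⥤ᵇ 𝒳 where
  toFunctor :=
    { obj := ξ
      map := fun {η η'} f => F.toFunctor.preimage ((e η).hom ≫ f ≫ (e η').inv)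
      map_id := fun η => by
        apply F.toFunctor.map_injective
        simp
      map_comp := fun f g => by
        apply F.toFunctor.map_injective
        simp }
  w := by
    have hobj : ∀ η, 𝒳.p.obj (ξ η) = 𝒴.p.obj η := fun η => by
      have := he η
      rw [← F.w_obj]
      exact IsHomLift.domain_eq 𝒴.p (𝟙 (𝒴.p.obj η)) (e η).hom
    refine Functor.ext hobj ?_
    intro η η' f
    have h1 := he η
    have h2 : 𝒴.p.IsHomLift (𝟙 (𝒴.p.obj η')) (e η').inv := by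
      have := he η'
      exact IsHomLift.lift_id_inv 𝒴.p _ (e η')
    have h3 : 𝒴.p.IsHomLift (𝒴.p.map f) f := inferInstance
    have h4 : 𝒴.p.IsHomLift (𝟙 (𝒴.p.obj η) ≫ 𝒴.p.map f ≫ 𝟙 (𝒴.p.obj η'))
        ((e η).hom ≫ f ≫ (e η').inv) := inferInstance
    have h5 : 𝒴.p.IsHomLift (𝒴.p.map f) ((e η).hom ≫ f ≫ (e η').inv) := by
      simpa using h4
    have h6 : 𝒴.p.IsHomLift (𝒴.p.map f)
        (F.toFunctor.map (F.toFunctor.preimage ((e η).hom ≫ f ≫ (e η').inv))) := by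
      rw [Functor.map_preimage]; exact h5
    have h7 : 𝒳.p.IsHomLift (𝒴.p.map f)
        (F.toFunctor.preimage ((e η).hom ≫ f ≫ (e η').inv)) :=
      BasedFunctor.isHomLift_map F _ _
    exact IsHomLift.fac' 𝒳.p (𝒴.p.map f) _

/-- A based functor which is fully faithful and essentially surjective over identities is an
equivalence over the base (universe-general form of the criterion). -/
theorem isEquivOver_of_ff_of_ess [F.toFunctor.Full] [F.toFunctor.Faithful]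
    (h : ∀ η : 𝒴.obj, ∃ (ξ : 𝒳.obj) (e : F.toFunctor.obj ξ ≅ η),
      𝒴.p.IsHomLift (𝟙 (𝒴.p.obj η)) e.hom) : FibCat.IsEquivOver F := by
  choose ξ e he using h
  refine ⟨invFunctor F ξ e he, ⟨?_⟩, ⟨?_⟩⟩
  · refine BasedNatIso.mkNatIso
      (NatIso.ofComponents (fun x => F.toFunctor.preimageIso (e (F.toFunctor.obj x))) ?_) ?_
    · intro x y f
      apply F.toFunctor.map_injective
      have key : F.toFunctor.map
          (F.toFunctor.preimage ((e (F.toFunctor.obj x)).hom ≫ F.toFunctor.map f ≫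
            (e (F.toFunctor.obj y)).inv) ≫ F.toFunctor.preimage (e (F.toFunctor.obj y)).hom) =
          F.toFunctor.map (F.toFunctor.preimage (e (F.toFunctor.obj x)).hom ≫ f) := by
        rw [Functor.map_comp, Functor.map_comp, Functor.map_preimage, Functor.map_preimage,
          Functor.map_preimage, Category.assoc, Category.assoc, Iso.inv_hom_id, Category.comp_id]
      exact key
    · intro x
      have h1 := he (F.toFunctor.obj x)
      have h2 : 𝒴.p.IsHomLift (𝟙 (𝒳.p.obj x)) (e (F.toFunctor.obj x)).hom := by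
        have := F.w_obj x
        rw [← this]; exact h1
      have h3 : 𝒴.p.IsHomLift (𝟙 (𝒳.p.obj x))
          (F.toFunctor.map (F.toFunctor.preimage (e (F.toFunctor.obj x)).hom)) := by
        rw [Functor.map_preimage]; exact h2
      have h4 : 𝒳.p.IsHomLift (𝟙 (𝒳.p.obj x))
          (F.toFunctor.preimage (e (F.toFunctor.obj x)).hom) :=
        BasedFunctor.isHomLift_map F _ _
      exact h4
  · refine BasedNatIso.mkNatIso (NatIso.ofComponents (fun η => e η) ?_) ?_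
    · intro x y f
      have key : F.toFunctor.map (F.toFunctor.preimage ((e x).hom ≫ f ≫ (e y).inv)) ≫ (e y).hom =
          (e x).hom ≫ f := by
        rw [Functor.map_preimage, Category.assoc, Category.assoc, Iso.inv_hom_id, Category.comp_id]
      exact key
    · intro η
      exact he η

theorem ff_ess_of_isEquivOver (hF : FibCat.IsEquivOver F) :
    F.toFunctor.Full ∧ F.toFunctor.Faithful ∧
      ∀ η : 𝒴.obj, ∃ (ξ : 𝒳.obj) (e : F.toFunctor.obj ξ ≅ η),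
        𝒴.p.IsHomLift (𝟙 (𝒴.p.obj η)) e.hom := by
  haveI := isEquivalence_of_isEquivOver F hF
  obtain ⟨G, ⟨α⟩, ⟨β⟩⟩ := hF
  refine ⟨inferInstance, inferInstance, fun η => ?_⟩
  exact ⟨G.toFunctor.obj η, ((BasedNatTrans.forgetful _ _).mapIso β).app η, β.hom.isHomLift' η⟩

theorem isEquivOver_iff_ff_ess :
    FibCat.IsEquivOver F ↔ F.toFunctor.Full ∧ F.toFunctor.Faithful ∧
      ∀ η : 𝒴.obj, ∃ (ξ : 𝒳.obj) (e : F.toFunctor.obj ξ ≅ η),
        𝒴.p.IsHomLift (𝟙 (𝒴.p.obj η)) e.hom :=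
  ⟨ff_ess_of_isEquivOver F, fun ⟨_, _, h3⟩ => isEquivOver_of_ff_of_ess F h3⟩

end Criterion

section Basic

variable {𝒳 : BasedCategory.{v₂, u₂} C} {𝒴 : BasedCategory.{v₃, u₃} C}
  {𝒵 : BasedCategory.{v₄, u₄} C}

theorem isEquivOver_id : FibCat.IsEquivOver (BasedFunctor.id 𝒳) :=
  ⟨BasedFunctor.id 𝒳, ⟨Iso.refl _⟩, ⟨Iso.refl _⟩⟩

theorem isEquivOver_inv {F : 𝒳 ⥤ᵇ 𝒴} (hF : FibCat.IsEquivOver F) :
    ∃ G : 𝒴 ⥤ᵇ 𝒳, FibCat.IsEquivOver G := by
  obtain ⟨G, ⟨η⟩, ⟨ε⟩⟩ := hF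
  exact ⟨G, isEquivOver_symm F η ε⟩

theorem isEquivOver_comp {F : 𝒳 ⥤ᵇ 𝒴} {G : 𝒴 ⥤ᵇ 𝒵} (hF : FibCat.IsEquivOver F)
    (hG : FibCat.IsEquivOver G) : FibCat.IsEquivOver (BasedFunctor.comp F G) := by
  obtain ⟨hF1, hF2, hF3⟩ := ff_ess_of_isEquivOver F hF
  obtain ⟨hG1, hG2, hG3⟩ := ff_ess_of_isEquivOver G hG
  haveI : (BasedFunctor.comp F G).toFunctor.Full :=
    inferInstanceAs (F.toFunctor ⋙ G.toFunctor).Full
  haveI : (BasedFunctor.comp F G).toFunctor.Faithful :=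
    inferInstanceAs (F.toFunctor ⋙ G.toFunctor).Faithful
  apply isEquivOver_of_ff_of_ess
  intro ζ
  obtain ⟨η, e, he⟩ := hG3 ζ
  obtain ⟨ξ, e', he'⟩ := hF3 η
  have hη : 𝒴.p.obj η = 𝒵.p.obj ζ := by
    rw [← G.w_obj]
    exact IsHomLift.domain_eq 𝒵.p (𝟙 (𝒵.p.obj ζ)) e.hom
  have he'' : 𝒴.p.IsHomLift (𝟙 (𝒵.p.obj ζ)) e'.hom := by rw [← hη]; exact he'
  haveI : 𝒵.p.IsHomLift (𝟙 (𝒵.p.obj ζ)) (G.map e'.hom) :=
    BasedFunctor.preserves_isHomLift G _ _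
  refine ⟨ξ, G.toFunctor.mapIso e' ≪≫ e, ?_⟩
  show 𝒵.p.IsHomLift (𝟙 (𝒵.p.obj ζ)) (G.map e'.hom ≫ e.hom)
  infer_instance

theorem isEquivOver_of_iso {F F' : 𝒳 ⥤ᵇ 𝒴} (α : F ≅ F') (hF : FibCat.IsEquivOver F) :
    FibCat.IsEquivOver F' := by
  obtain ⟨hF1, hF2, hF3⟩ := ff_ess_of_isEquivOver F hF
  let α' : F.toFunctor ≅ F'.toFunctor := (BasedNatTrans.forgetful _ _).mapIso α
  haveI : F'.toFunctor.Full := Functor.Full.of_iso α'
  haveI : F'.toFunctor.Faithful := Functor.Faithful.of_iso α'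
  apply isEquivOver_of_ff_of_ess
  intro η
  obtain ⟨ξ, e, he⟩ := hF3 η
  have hξ : 𝒳.p.obj ξ = 𝒴.p.obj η := by
    rw [← F.w_obj]
    exact IsHomLift.domain_eq 𝒴.p (𝟙 (𝒴.p.obj η)) e.hom
  haveI h1 : 𝒴.p.IsHomLift (𝟙 (𝒴.p.obj η)) (α.inv.toNatTrans.app ξ) := α.inv.isHomLift hξ
  refine ⟨ξ, (α'.app ξ).symm ≪≫ e, ?_⟩
  show 𝒴.p.IsHomLift (𝟙 (𝒴.p.obj η)) (α.inv.toNatTrans.app ξ ≫ e.hom)
  infer_instance

theorem isRepresentable_of_isEquivOver {F : 𝒳 ⥤ᵇ 𝒴} (hF : FibCat.IsEquivOver F)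
    (h : FibCat.IsRepresentable 𝒴) : FibCat.IsRepresentable 𝒳 := by
  obtain ⟨U, E, hE⟩ := h
  exact ⟨U, BasedFunctor.comp F E, isEquivOver_comp hF hE⟩

theorem isRepresentable_iff_of_isEquivOver {F : 𝒳 ⥤ᵇ 𝒴} (hF : FibCat.IsEquivOver F) :
    FibCat.IsRepresentable 𝒳 ↔ FibCat.IsRepresentable 𝒴 := by
  constructor
  · intro h
    obtain ⟨G, hG⟩ := isEquivOver_inv hF
    exact isRepresentable_of_isEquivOver hG h
  · exact isRepresentable_of_isEquivOver hF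

end Basic

section FpMap

variable {𝒳 : BasedCategory.{v₂, u₂} C} {𝒴 : BasedCategory.{v₃, u₃} C}
  {𝒮 : BasedCategory.{v₄, u₄} C} {𝒳' : BasedCategory.{v₅, u₅} C} {𝒴' : BasedCategory.{v₆, u₆} C}
  {𝒮' : BasedCategory.{v₇, u₇} C} {F : 𝒳 ⥤ᵇ 𝒮} {G : 𝒴 ⥤ᵇ 𝒮} {F' : 𝒳' ⥤ᵇ 𝒮'} {G' : 𝒴' ⥤ᵇ 𝒮'}
  (a : 𝒳' ⥤ᵇ 𝒳) (b : 𝒴' ⥤ᵇ 𝒴) (c : 𝒮' ⥤ᵇ 𝒮)
  (α : BasedFunctor.comp F' c ≅ BasedFunctor.comp a F)
  (β : BasedFunctor.comp G' c ≅ BasedFunctor.comp b G)

/-- The component of `α` as an isomorphism of `𝒮`. -/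
def appIso {𝒜 : BasedCategory.{v₂, u₂} C} {ℬ : BasedCategory.{v₃, u₃} C} {H K : 𝒜 ⥤ᵇ ℬ}
    (γ : H ≅ K) (x : 𝒜.obj) : H.obj x ≅ K.obj x :=
  ((BasedNatTrans.forgetful _ _).mapIso γ).app x

theorem appIso_hom {𝒜 : BasedCategory.{v₂, u₂} C} {ℬ : BasedCategory.{v₃, u₃} C} {H K : 𝒜 ⥤ᵇ ℬ}
    (γ : H ≅ K) (x : 𝒜.obj) : (appIso γ x).hom = γ.hom.toNatTrans.app x := rfl

theorem appIso_inv {𝒜 : BasedCategory.{v₂, u₂} C} {ℬ : BasedCategory.{v₃, u₃} C} {H K : 𝒜 ⥤ᵇ ℬ}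
    (γ : H ≅ K) (x : 𝒜.obj) : (appIso γ x).inv = γ.inv.toNatTrans.app x := rfl

theorem appIso_naturality {𝒜 : BasedCategory.{v₂, u₂} C} {ℬ : BasedCategory.{v₃, u₃} C}
    {H K : 𝒜 ⥤ᵇ ℬ} (γ : H ≅ K) {x y : 𝒜.obj} (f : x ⟶ y) :
    H.map f ≫ (appIso γ y).hom = (appIso γ x).hom ≫ K.map f :=
  γ.hom.toNatTrans.naturality f

theorem appIso_inv_naturality {𝒜 : BasedCategory.{v₂, u₂} C} {ℬ : BasedCategory.{v₃, u₃} C}
    {H K : 𝒜 ⥤ᵇ ℬ} (γ : H ≅ K) {x y : 𝒜.obj} (f : x ⟶ y) :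
    K.map f ≫ (appIso γ y).inv = (appIso γ x).inv ≫ H.map f :=
  γ.inv.toNatTrans.naturality f

theorem appIso_isHomLift {𝒜 : BasedCategory.{v₂, u₂} C} {ℬ : BasedCategory.{v₃, u₃} C}
    {H K : 𝒜 ⥤ᵇ ℬ} (γ : H ≅ K) {x : 𝒜.obj} {S : C} (hx : 𝒜.p.obj x = S) :
    ℬ.p.IsHomLift (𝟙 S) (appIso γ x).hom :=
  γ.hom.isHomLift hx

theorem appIso_inv_isHomLift {𝒜 : BasedCategory.{v₂, u₂} C} {ℬ : BasedCategory.{v₃, u₃} C}
    {H K : 𝒜 ⥤ᵇ ℬ} (γ : H ≅ K) {x : 𝒜.obj} {S : C} (hx : 𝒜.p.obj x = S) :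
    ℬ.p.IsHomLift (𝟙 S) (appIso γ x).inv :=
  γ.inv.isHomLift hx

/-- The isomorphism `F (a x) ≅ G (b y)` attached to an object `(x, y, F' x ≅ G' y)`. -/
def fpMapObjIso (x : (FibCat.fp F' G').obj) :
    F.obj (a.obj x.obj.fst) ≅ G.obj (b.obj x.obj.snd) :=
  (appIso α x.obj.fst).symm ≪≫ c.toFunctor.mapIso x.obj.iso ≪≫ appIso β x.obj.snd

theorem fpMapObjIso_hom (x : (FibCat.fp F' G').obj) :
    (fpMapObjIso a b c α β x).hom =
      (appIso α x.obj.fst).inv ≫ c.map x.obj.iso.hom ≫ (appIso β x.obj.snd).hom := rfl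

theorem fpMapObjIso_isHomLift (x : (FibCat.fp F' G').obj) :
    𝒮.p.IsHomLift (𝟙 (𝒳'.p.obj x.obj.fst)) (fpMapObjIso a b c α β x).hom := by
  rw [fpMapObjIso_hom]
  haveI h1 : 𝒮.p.IsHomLift (𝟙 (𝒳'.p.obj x.obj.fst)) (appIso α x.obj.fst).inv :=
    appIso_inv_isHomLift α rfl
  haveI hx : 𝒮'.p.IsHomLift (𝟙 (𝒳'.p.obj x.obj.fst)) x.obj.iso.hom := x.property
  haveI h2 : 𝒮.p.IsHomLift (𝟙 (𝒳'.p.obj x.obj.fst)) (c.map x.obj.iso.hom) :=
    BasedFunctor.preserves_isHomLift c _ _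
  haveI h3 : 𝒮.p.IsHomLift (𝟙 (𝒳'.p.obj x.obj.fst)) (appIso β x.obj.snd).hom :=
    appIso_isHomLift β (fp_snd_proj F' G' x)
  infer_instance

theorem fpMapObjIso_naturality {x y : (FibCat.fp F' G').obj} (f : x ⟶ y) :
    F.map (a.map f.hom.fst) ≫ (fpMapObjIso a b c α β y).hom =
      (fpMapObjIso a b c α β x).hom ≫ G.map (b.map f.hom.snd) := by
  rw [fpMapObjIso_hom, fpMapObjIso_hom]
  have h1 : F.map (a.map f.hom.fst) ≫ (appIso α y.obj.fst).inv =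
      (appIso α x.obj.fst).inv ≫ c.map (F'.map f.hom.fst) := appIso_inv_naturality α f.hom.fst
  have h2 : c.map (G'.map f.hom.snd) ≫ (appIso β y.obj.snd).hom =
      (appIso β x.obj.snd).hom ≫ G.map (b.map f.hom.snd) := appIso_naturality β f.hom.snd
  have h3 : F'.map f.hom.fst ≫ y.obj.iso.hom = x.obj.iso.hom ≫ G'.map f.hom.snd := f.hom.w
  rw [← Category.assoc, h1, Category.assoc, ← Category.assoc (c.map _), ← c.map_comp, h3,
    c.map_comp, Category.assoc, h2, Category.assoc, Category.assoc]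

/-- The 2-isomorphism used to define `fpMap`. -/
def fpMapIso :
    BasedFunctor.comp (BasedFunctor.comp (FibCat.fpFst F' G') a) F ≅
      BasedFunctor.comp (BasedFunctor.comp (FibCat.fpSnd F' G') b) G :=
  BasedNatIso.mkNatIso
    (NatIso.ofComponents (fun x => fpMapObjIso a b c α β x)
      (fun f => fpMapObjIso_naturality a b c α β f))
    (fun x => fpMapObjIso_isHomLift a b c α β x)

/-- Functoriality of the 2-fibre product over the base. -/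
def fpMap : FibCat.fp F' G' ⥤ᵇ FibCat.fp F G :=
  FibCat.fpLift (BasedFunctor.comp (FibCat.fpFst F' G') a) (BasedFunctor.comp (FibCat.fpSnd F' G') b)
    (fpMapIso a b c α β)

@[simp] theorem fpMap_obj_fst (x : (FibCat.fp F' G').obj) :
    ((fpMap a b c α β).obj x).obj.fst = a.obj x.obj.fst := rfl

@[simp] theorem fpMap_obj_snd (x : (FibCat.fp F' G').obj) :
    ((fpMap a b c α β).obj x).obj.snd = b.obj x.obj.snd := rfl

theorem fpMap_obj_iso_hom (x : (FibCat.fp F' G').obj) :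
    ((fpMap a b c α β).obj x).obj.iso.hom =
      (appIso α x.obj.fst).inv ≫ c.map x.obj.iso.hom ≫ (appIso β x.obj.snd).hom := rfl

@[simp] theorem fpMap_map_fst {x y : (FibCat.fp F' G').obj} (f : x ⟶ y) :
    ((fpMap a b c α β).map f).hom.fst = a.map f.hom.fst := rfl

@[simp] theorem fpMap_map_snd {x y : (FibCat.fp F' G').obj} (f : x ⟶ y) :
    ((fpMap a b c α β).map f).hom.snd = b.map f.hom.snd := rfl

theorem fpMap_faithful [a.toFunctor.Faithful] [b.toFunctor.Faithful] :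
    (fpMap a b c α β).toFunctor.Faithful where
  map_injective {x y} f g h := by
    have h1 : a.map f.hom.fst = a.map g.hom.fst :=
      congrArg (fun m : (fpMap a b c α β).obj x ⟶ (fpMap a b c α β).obj y => m.hom.fst) h
    have h2 : b.map f.hom.snd = b.map g.hom.snd :=
      congrArg (fun m : (fpMap a b c α β).obj x ⟶ (fpMap a b c α β).obj y => m.hom.snd) h
    apply ObjectProperty.hom_ext
    exact Limits.CategoricalPullback.hom_ext (a.toFunctor.map_injective h1)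
      (b.toFunctor.map_injective h2)

theorem fpMap_full [a.toFunctor.Full] [b.toFunctor.Full] [c.toFunctor.Faithful] :
    (fpMap a b c α β).toFunctor.Full where
  map_surjective {x y} m := by
    let φ₁ : x.obj.fst ⟶ y.obj.fst := a.toFunctor.preimage m.hom.fst
    let φ₂ : x.obj.snd ⟶ y.obj.snd := b.toFunctor.preimage m.hom.snd
    have hφ₁ : a.map φ₁ = m.hom.fst := a.toFunctor.map_preimage _
    have hφ₂ : b.map φ₂ = m.hom.snd := b.toFunctor.map_preimage _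
    have hw : F'.map φ₁ ≫ y.obj.iso.hom = x.obj.iso.hom ≫ G'.map φ₂ := by
      apply c.toFunctor.map_injective
      have hm : F.map m.hom.fst ≫ ((fpMap a b c α β).obj y).obj.iso.hom =
          ((fpMap a b c α β).obj x).obj.iso.hom ≫ G.map m.hom.snd := m.hom.w
      rw [fpMap_obj_iso_hom, fpMap_obj_iso_hom, ← hφ₁, ← hφ₂] at hm
      have h1 : F.map (a.map φ₁) ≫ (appIso α y.obj.fst).inv =
          (appIso α x.obj.fst).inv ≫ c.map (F'.map φ₁) := appIso_inv_naturality α φ₁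
      have h2 : c.map (G'.map φ₂) ≫ (appIso β y.obj.snd).hom =
          (appIso β x.obj.snd).hom ≫ G.map (b.map φ₂) := appIso_naturality β φ₂
      rw [← Category.assoc, h1, Category.assoc, Category.assoc, Category.assoc, ← h2] at hm
      have hm' := (cancel_epi _).1 hm
      rw [← Category.assoc, ← Category.assoc] at hm'
      have hm'' := (cancel_mono _).1 hm'
      show c.map (F'.map φ₁ ≫ y.obj.iso.hom) = c.map (x.obj.iso.hom ≫ G'.map φ₂)
      rw [c.map_comp, c.map_comp]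
      exact hm''
    refine ⟨ObjectProperty.homMk { fst := φ₁, snd := φ₂, w := hw }, ?_⟩
    apply ObjectProperty.hom_ext
    exact Limits.CategoricalPullback.hom_ext hφ₁ hφ₂

theorem fpMap_isEquivOver (ha : FibCat.IsEquivOver a) (hb : FibCat.IsEquivOver b)
    [c.toFunctor.Full] [c.toFunctor.Faithful] : FibCat.IsEquivOver (fpMap a b c α β) := by
  obtain ⟨ha1, ha2, ha3⟩ := ff_ess_of_isEquivOver a ha
  obtain ⟨hb1, hb2, hb3⟩ := ff_ess_of_isEquivOver b hb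
  haveI := fpMap_faithful a b c α β
  haveI := fpMap_full a b c α β
  apply isEquivOver_of_ff_of_ess
  intro z
  obtain ⟨x', e₁, he₁⟩ := ha3 z.obj.fst
  obtain ⟨y', e₂, he₂⟩ := hb3 z.obj.snd
  haveI := he₁
  haveI := he₂
  have hx' : 𝒳'.p.obj x' = 𝒳.p.obj z.obj.fst := by
    rw [← a.w_obj]
    exact IsHomLift.domain_eq 𝒳.p (𝟙 (𝒳.p.obj z.obj.fst)) e₁.hom
  have hy' : 𝒴'.p.obj y' = 𝒳.p.obj z.obj.fst := by
    rw [← b.w_obj, ← fp_snd_proj F G z]
    exact IsHomLift.domain_eq 𝒴.p (𝟙 (𝒴.p.obj z.obj.snd)) e₂.hom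
  -- the isomorphism `F' x' ≅ G' y'` in `𝒮'`
  let θ : c.obj (F'.obj x') ≅ c.obj (G'.obj y') :=
    appIso α x' ≪≫ F.toFunctor.mapIso e₁ ≪≫ z.obj.iso ≪≫ (G.toFunctor.mapIso e₂).symm ≪≫
      (appIso β y').symm
  let φ : F'.obj x' ≅ G'.obj y' := c.toFunctor.preimageIso θ
  have hφ : c.map φ.hom = θ.hom := c.toFunctor.map_preimage _
  have hθ : θ.hom = (appIso α x').hom ≫ F.map e₁.hom ≫ z.obj.iso.hom ≫ G.map e₂.inv ≫
      (appIso β y').inv := rfl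
  have hθl : 𝒮.p.IsHomLift (𝟙 (𝒳'.p.obj x')) θ.hom := by
    rw [hθ, hx']
    haveI h1 : 𝒮.p.IsHomLift (𝟙 (𝒳.p.obj z.obj.fst)) (appIso α x').hom := appIso_isHomLift α hx'
    haveI h2 : 𝒮.p.IsHomLift (𝟙 (𝒳.p.obj z.obj.fst)) (F.map e₁.hom) :=
      BasedFunctor.preserves_isHomLift F _ _
    haveI h3 : 𝒮.p.IsHomLift (𝟙 (𝒳.p.obj z.obj.fst)) z.obj.iso.hom := z.property
    haveI h4' : 𝒴.p.IsHomLift (𝟙 (𝒳.p.obj z.obj.fst)) e₂.hom := by
      rw [← fp_snd_proj F G z]; exact he₂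
    haveI h4'' : 𝒴.p.IsHomLift (𝟙 (𝒳.p.obj z.obj.fst)) e₂.inv := inferInstance
    haveI h4 : 𝒮.p.IsHomLift (𝟙 (𝒳.p.obj z.obj.fst)) (G.map e₂.inv) :=
      BasedFunctor.preserves_isHomLift G _ _
    haveI h5 : 𝒮.p.IsHomLift (𝟙 (𝒳.p.obj z.obj.fst)) (appIso β y').inv :=
      appIso_inv_isHomLift β hy'
    infer_instance
  have hφl : 𝒮'.p.IsHomLift (𝟙 (𝒳'.p.obj x')) φ.hom := by
    haveI : 𝒮.p.IsHomLift (𝟙 (𝒳'.p.obj x')) (c.map φ.hom) := by rw [hφ]; exact hθl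
    exact BasedFunctor.isHomLift_map c _ _
  let w : (FibCat.fp F' G').obj := ⟨{ fst := x', snd := y', iso := φ }, hφl⟩
  have hw : F.map e₁.hom ≫ z.obj.iso.hom =
      ((fpMap a b c α β).obj w).obj.iso.hom ≫ G.map e₂.hom := by
    rw [fpMap_obj_iso_hom]
    show F.map e₁.hom ≫ z.obj.iso.hom =
      ((appIso α x').inv ≫ c.map φ.hom ≫ (appIso β y').hom) ≫ G.map e₂.hom
    rw [hφ, hθ]
    simp only [Category.assoc, Iso.inv_hom_id_assoc, Iso.inv_hom_id, Category.comp_id]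
    rw [← G.map_comp, Iso.inv_hom_id, G.map_id, Category.comp_id]
  let m : (fpMap a b c α β).obj w ⟶ z :=
    ObjectProperty.homMk { fst := e₁.hom, snd := e₂.hom, w := hw }
  have hw' : F.map e₁.inv ≫ ((fpMap a b c α β).obj w).obj.iso.hom =
      z.obj.iso.hom ≫ G.map e₂.inv := by
    have := congrArg (fun t => F.map e₁.inv ≫ t ≫ G.map e₂.inv) hw
    simp only [Category.assoc] at this
    rw [← G.map_comp, Iso.hom_inv_id, G.map_id, Category.comp_id, ← Category.assoc,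
      ← F.map_comp, Iso.inv_hom_id, F.map_id, Category.id_comp] at this
    exact this.symm
  let m' : z ⟶ (fpMap a b c α β).obj w :=
    ObjectProperty.homMk { fst := e₁.inv, snd := e₂.inv, w := hw' }
  refine ⟨w, ⟨m, m', ?_, ?_⟩, ?_⟩
  · apply ObjectProperty.hom_ext
    exact Limits.CategoricalPullback.hom_ext e₁.hom_inv_id e₂.hom_inv_id
  · apply ObjectProperty.hom_ext
    exact Limits.CategoricalPullback.hom_ext e₁.inv_hom_id e₂.inv_hom_id
  · show (FibCat.fp F G).p.IsHomLift (𝟙 (𝒳.p.obj z.obj.fst)) m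
    rw [fp_isHomLift_iff]
    exact he₁

end FpMap

section PasteLeft

variable {𝒰 : BasedCategory.{v₂, u₂} C} {𝒵 : BasedCategory.{v₃, u₃} C}
  {𝒴 : BasedCategory.{v₄, u₄} C} {𝒳 : BasedCategory.{v₅, u₅} C}
  (h : 𝒰 ⥤ᵇ 𝒵) (g : 𝒵 ⥤ᵇ 𝒴) (f : 𝒳 ⥤ᵇ 𝒴)

/-- The isomorphism `g (h u) ≅ f x` attached to an object `(u, (z, x, g z ≅ f x), h u ≅ z)`. -/
def pasteLeftObjIso (w : (FibCat.fp h (FibCat.fpFst g f)).obj) :
    g.obj (h.obj w.obj.fst) ≅ f.obj w.obj.snd.obj.snd :=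
  g.toFunctor.mapIso w.obj.iso ≪≫ w.obj.snd.obj.iso

theorem pasteLeftObjIso_hom (w : (FibCat.fp h (FibCat.fpFst g f)).obj) :
    (pasteLeftObjIso h g f w).hom = g.map w.obj.iso.hom ≫ w.obj.snd.obj.iso.hom := rfl

theorem pasteLeft_snd_proj (w : (FibCat.fp h (FibCat.fpFst g f)).obj) :
    𝒵.p.obj w.obj.snd.obj.fst = 𝒰.p.obj w.obj.fst :=
  fp_snd_proj h (FibCat.fpFst g f) w

theorem pasteLeftObjIso_isHomLift (w : (FibCat.fp h (FibCat.fpFst g f)).obj) :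
    𝒴.p.IsHomLift (𝟙 (𝒰.p.obj w.obj.fst)) (pasteLeftObjIso h g f w).hom := by
  rw [pasteLeftObjIso_hom]
  haveI hw : 𝒵.p.IsHomLift (𝟙 (𝒰.p.obj w.obj.fst)) w.obj.iso.hom := w.property
  haveI h1 : 𝒴.p.IsHomLift (𝟙 (𝒰.p.obj w.obj.fst)) (g.map w.obj.iso.hom) :=
    BasedFunctor.preserves_isHomLift g _ _
  haveI h2 : 𝒴.p.IsHomLift (𝟙 (𝒰.p.obj w.obj.fst)) w.obj.snd.obj.iso.hom := by
    rw [← pasteLeft_snd_proj h g f w]
    exact w.obj.snd.property
  infer_instance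

theorem pasteLeftObjIso_naturality {w w' : (FibCat.fp h (FibCat.fpFst g f)).obj} (m : w ⟶ w') :
    g.map (h.map m.hom.fst) ≫ (pasteLeftObjIso h g f w').hom =
      (pasteLeftObjIso h g f w).hom ≫ f.map m.hom.snd.hom.snd := by
  rw [pasteLeftObjIso_hom, pasteLeftObjIso_hom]
  have h1 : h.map m.hom.fst ≫ w'.obj.iso.hom = w.obj.iso.hom ≫ m.hom.snd.hom.fst := m.hom.w
  have h2 : g.map m.hom.snd.hom.fst ≫ w'.obj.snd.obj.iso.hom =
      w.obj.snd.obj.iso.hom ≫ f.map m.hom.snd.hom.snd := m.hom.snd.hom.w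
  rw [← Category.assoc, ← g.map_comp, h1, g.map_comp, Category.assoc, h2, Category.assoc]

/-- The 2-isomorphism used to define `fpPasteLeft`. -/
def pasteLeftIso :
    BasedFunctor.comp (FibCat.fpFst h (FibCat.fpFst g f)) (BasedFunctor.comp h g) ≅
      BasedFunctor.comp (BasedFunctor.comp (FibCat.fpSnd h (FibCat.fpFst g f)) (FibCat.fpSnd g f)) f :=
  BasedNatIso.mkNatIso
    (NatIso.ofComponents (fun w => pasteLeftObjIso h g f w)
      (fun m => pasteLeftObjIso_naturality h g f m))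
    (fun w => pasteLeftObjIso_isHomLift h g f w)

/-- The comparison `𝒰 ×_𝒵 (𝒵 ×_𝒴 𝒳) ⟶ 𝒰 ×_𝒴 𝒳`. -/
def fpPasteLeft : FibCat.fp h (FibCat.fpFst g f) ⥤ᵇ FibCat.fp (BasedFunctor.comp h g) f :=
  FibCat.fpLift (FibCat.fpFst h (FibCat.fpFst g f))
    (BasedFunctor.comp (FibCat.fpSnd h (FibCat.fpFst g f)) (FibCat.fpSnd g f)) (pasteLeftIso h g f)

@[simp] theorem fpPasteLeft_obj_fst (w : (FibCat.fp h (FibCat.fpFst g f)).obj) :
    ((fpPasteLeft h g f).obj w).obj.fst = w.obj.fst := rfl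

@[simp] theorem fpPasteLeft_obj_snd (w : (FibCat.fp h (FibCat.fpFst g f)).obj) :
    ((fpPasteLeft h g f).obj w).obj.snd = w.obj.snd.obj.snd := rfl

theorem fpPasteLeft_obj_iso_hom (w : (FibCat.fp h (FibCat.fpFst g f)).obj) :
    ((fpPasteLeft h g f).obj w).obj.iso.hom = g.map w.obj.iso.hom ≫ w.obj.snd.obj.iso.hom := rfl

@[simp] theorem fpPasteLeft_map_fst {w w' : (FibCat.fp h (FibCat.fpFst g f)).obj} (m : w ⟶ w') :
    ((fpPasteLeft h g f).map m).hom.fst = m.hom.fst := rfl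

@[simp] theorem fpPasteLeft_map_snd {w w' : (FibCat.fp h (FibCat.fpFst g f)).obj} (m : w ⟶ w') :
    ((fpPasteLeft h g f).map m).hom.snd = m.hom.snd.hom.snd := rfl

theorem fpPasteLeft_faithful : (fpPasteLeft h g f).toFunctor.Faithful where
  map_injective {w w'} m n hmn := by
    have h1 : m.hom.fst = n.hom.fst :=
      congrArg (fun k : (fpPasteLeft h g f).obj w ⟶ (fpPasteLeft h g f).obj w' => k.hom.fst) hmn
    have h2 : m.hom.snd.hom.snd = n.hom.snd.hom.snd :=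
      congrArg (fun k : (fpPasteLeft h g f).obj w ⟶ (fpPasteLeft h g f).obj w' => k.hom.snd) hmn
    have hm : h.map m.hom.fst ≫ w'.obj.iso.hom = w.obj.iso.hom ≫ m.hom.snd.hom.fst := m.hom.w
    have hn : h.map n.hom.fst ≫ w'.obj.iso.hom = w.obj.iso.hom ≫ n.hom.snd.hom.fst := n.hom.w
    have h3 : m.hom.snd.hom.fst = n.hom.snd.hom.fst := by
      rw [h1, hn] at hm
      exact ((cancel_epi _).1 hm).symm
    apply ObjectProperty.hom_ext
    refine Limits.CategoricalPullback.hom_ext h1 ?_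
    apply ObjectProperty.hom_ext
    exact Limits.CategoricalPullback.hom_ext h3 h2

theorem fpPasteLeft_full : (fpPasteLeft h g f).toFunctor.Full where
  map_surjective {w w'} n := by
    let μ : w.obj.fst ⟶ w'.obj.fst := n.hom.fst
    let ξ : w.obj.snd.obj.snd ⟶ w'.obj.snd.obj.snd := n.hom.snd
    let ψ : h.obj w.obj.fst ≅ w.obj.snd.obj.fst := w.obj.iso
    let ψ' : h.obj w'.obj.fst ≅ w'.obj.snd.obj.fst := w'.obj.iso
    let φ : g.obj w.obj.snd.obj.fst ≅ f.obj w.obj.snd.obj.snd := w.obj.snd.obj.iso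
    let φ' : g.obj w'.obj.snd.obj.fst ≅ f.obj w'.obj.snd.obj.snd := w'.obj.snd.obj.iso
    let ζ : w.obj.snd.obj.fst ⟶ w'.obj.snd.obj.fst := ψ.inv ≫ h.map μ ≫ ψ'.hom
    have hn : g.map (h.map μ) ≫ (g.map ψ'.hom ≫ φ'.hom) = (g.map ψ.hom ≫ φ.hom) ≫ f.map ξ :=
      n.hom.w
    have hζ : g.map ζ ≫ φ'.hom = φ.hom ≫ f.map ξ := by
      calc g.map ζ ≫ φ'.hom
          = g.map ψ.inv ≫ (g.map (h.map μ) ≫ (g.map ψ'.hom ≫ φ'.hom)) := by
            simp only [ζ, Functor.map_comp, Category.assoc]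
        _ = g.map ψ.inv ≫ ((g.map ψ.hom ≫ φ.hom) ≫ f.map ξ) := by rw [hn]
        _ = φ.hom ≫ f.map ξ := by
            rw [Category.assoc, ← Category.assoc, ← g.map_comp, Iso.inv_hom_id, g.map_id,
              Category.id_comp]
    let s : w.obj.snd ⟶ w'.obj.snd := ObjectProperty.homMk { fst := ζ, snd := ξ, w := hζ }
    have hμ : h.map μ ≫ ψ'.hom = ψ.hom ≫ ζ := by
      simp only [ζ, Iso.hom_inv_id_assoc]
    refine ⟨ObjectProperty.homMk { fst := μ, snd := s, w := hμ }, ?_⟩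
    apply ObjectProperty.hom_ext
    exact Limits.CategoricalPullback.hom_ext rfl rfl

theorem fpPasteLeft_isEquivOver : FibCat.IsEquivOver (fpPasteLeft h g f) := by
  haveI := fpPasteLeft_faithful h g f
  haveI := fpPasteLeft_full h g f
  apply isEquivOver_of_ff_of_ess
  intro t
  let θ : g.obj (h.obj t.obj.fst) ≅ f.obj t.obj.snd := t.obj.iso
  have ht : 𝒴.p.IsHomLift (𝟙 (𝒰.p.obj t.obj.fst)) θ.hom := t.property
  have ht' : 𝒴.p.IsHomLift (𝟙 (𝒵.p.obj (h.obj t.obj.fst))) θ.hom := by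
    rw [h.w_obj]; exact ht
  let s : (FibCat.fp g f).obj := ⟨{ fst := h.obj t.obj.fst, snd := t.obj.snd, iso := θ }, ht'⟩
  have hid : 𝒵.p.IsHomLift (𝟙 (𝒰.p.obj t.obj.fst)) (𝟙 (h.obj t.obj.fst)) :=
    IsHomLift.id (h.w_obj t.obj.fst)
  let w : (FibCat.fp h (FibCat.fpFst g f)).obj :=
    ⟨{ fst := t.obj.fst, snd := s, iso := Iso.refl (h.obj t.obj.fst) }, hid⟩
  have hw1 : g.map (h.map (𝟙 t.obj.fst)) ≫ θ.hom =
      (g.map (𝟙 (h.obj t.obj.fst)) ≫ θ.hom) ≫ f.map (𝟙 t.obj.snd) := by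
    simp only [Functor.map_id, Category.id_comp, Category.comp_id]
  have hw2 : g.map (h.map (𝟙 t.obj.fst)) ≫ (g.map (𝟙 (h.obj t.obj.fst)) ≫ θ.hom) =
      θ.hom ≫ f.map (𝟙 t.obj.snd) := by
    simp only [Functor.map_id, Category.id_comp, Category.comp_id]
  let m : (fpPasteLeft h g f).obj w ⟶ t :=
    ObjectProperty.homMk { fst := 𝟙 t.obj.fst, snd := 𝟙 t.obj.snd, w := hw1 }
  let m' : t ⟶ (fpPasteLeft h g f).obj w :=
    ObjectProperty.homMk { fst := 𝟙 t.obj.fst, snd := 𝟙 t.obj.snd, w := hw2 }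
  refine ⟨w, ⟨m, m', ?_, ?_⟩, ?_⟩
  · apply ObjectProperty.hom_ext
    exact Limits.CategoricalPullback.hom_ext (Category.id_comp _) (Category.id_comp _)
  · apply ObjectProperty.hom_ext
    exact Limits.CategoricalPullback.hom_ext (Category.id_comp _) (Category.id_comp _)
  · show (FibCat.fp (BasedFunctor.comp h g) f).p.IsHomLift (𝟙 (𝒰.p.obj t.obj.fst)) m
    rw [fp_isHomLift_iff]
    show 𝒰.p.IsHomLift (𝟙 (𝒰.p.obj t.obj.fst)) (𝟙 t.obj.fst)
    infer_instance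

end PasteLeft

section PasteRight

variable {𝒰 : BasedCategory.{v₂, u₂} C} {𝒵 : BasedCategory.{v₃, u₃} C}
  {𝒴 : BasedCategory.{v₄, u₄} C} {𝒳 : BasedCategory.{v₅, u₅} C}
  (h : 𝒰 ⥤ᵇ 𝒵) (g : 𝒴 ⥤ᵇ 𝒵) (f : 𝒳 ⥤ᵇ 𝒴)

/-- The isomorphism `h u ≅ g (f x)` attached to an object `((u, y, h u ≅ g y), x, y ≅ f x)`. -/
def pasteRightObjIso (w : (FibCat.fp (FibCat.fpSnd h g) f).obj) :
    h.obj w.obj.fst.obj.fst ≅ g.obj (f.obj w.obj.snd) :=
  w.obj.fst.obj.iso ≪≫ g.toFunctor.mapIso w.obj.iso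

theorem pasteRightObjIso_hom (w : (FibCat.fp (FibCat.fpSnd h g) f).obj) :
    (pasteRightObjIso h g f w).hom = w.obj.fst.obj.iso.hom ≫ g.map w.obj.iso.hom := rfl

theorem pasteRightObjIso_isHomLift (w : (FibCat.fp (FibCat.fpSnd h g) f).obj) :
    𝒵.p.IsHomLift (𝟙 (𝒰.p.obj w.obj.fst.obj.fst)) (pasteRightObjIso h g f w).hom := by
  rw [pasteRightObjIso_hom]
  haveI h1 : 𝒵.p.IsHomLift (𝟙 (𝒰.p.obj w.obj.fst.obj.fst)) w.obj.fst.obj.iso.hom :=
    w.obj.fst.property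
  haveI hw : 𝒴.p.IsHomLift (𝟙 (𝒰.p.obj w.obj.fst.obj.fst)) w.obj.iso.hom := w.property
  haveI h2 : 𝒵.p.IsHomLift (𝟙 (𝒰.p.obj w.obj.fst.obj.fst)) (g.map w.obj.iso.hom) :=
    BasedFunctor.preserves_isHomLift g _ _
  infer_instance

theorem pasteRightObjIso_naturality {w w' : (FibCat.fp (FibCat.fpSnd h g) f).obj} (m : w ⟶ w') :
    h.map m.hom.fst.hom.fst ≫ (pasteRightObjIso h g f w').hom =
      (pasteRightObjIso h g f w).hom ≫ g.map (f.map m.hom.snd) := by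
  rw [pasteRightObjIso_hom, pasteRightObjIso_hom]
  have h1 : m.hom.fst.hom.snd ≫ w'.obj.iso.hom = w.obj.iso.hom ≫ f.map m.hom.snd := m.hom.w
  have h2 : h.map m.hom.fst.hom.fst ≫ w'.obj.fst.obj.iso.hom =
      w.obj.fst.obj.iso.hom ≫ g.map m.hom.fst.hom.snd := m.hom.fst.hom.w
  rw [← Category.assoc, h2, Category.assoc, Category.assoc, ← g.map_comp, ← g.map_comp, h1]

/-- The 2-isomorphism used to define `fpPasteRight`. -/
def pasteRightIso :
    BasedFunctor.comp (BasedFunctor.comp (FibCat.fpFst (FibCat.fpSnd h g) f) (FibCat.fpFst h g)) h ≅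
      BasedFunctor.comp (FibCat.fpSnd (FibCat.fpSnd h g) f) (BasedFunctor.comp f g) :=
  BasedNatIso.mkNatIso
    (NatIso.ofComponents (fun w => pasteRightObjIso h g f w)
      (fun m => pasteRightObjIso_naturality h g f m))
    (fun w => pasteRightObjIso_isHomLift h g f w)

/-- The comparison `(𝒰 ×_𝒵 𝒴) ×_𝒴 𝒳 ⟶ 𝒰 ×_𝒵 𝒳`. -/
def fpPasteRight : FibCat.fp (FibCat.fpSnd h g) f ⥤ᵇ FibCat.fp h (BasedFunctor.comp f g) :=
  FibCat.fpLift (BasedFunctor.comp (FibCat.fpFst (FibCat.fpSnd h g) f) (FibCat.fpFst h g))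
    (FibCat.fpSnd (FibCat.fpSnd h g) f) (pasteRightIso h g f)

@[simp] theorem fpPasteRight_obj_fst (w : (FibCat.fp (FibCat.fpSnd h g) f).obj) :
    ((fpPasteRight h g f).obj w).obj.fst = w.obj.fst.obj.fst := rfl

@[simp] theorem fpPasteRight_obj_snd (w : (FibCat.fp (FibCat.fpSnd h g) f).obj) :
    ((fpPasteRight h g f).obj w).obj.snd = w.obj.snd := rfl

theorem fpPasteRight_obj_iso_hom (w : (FibCat.fp (FibCat.fpSnd h g) f).obj) :
    ((fpPasteRight h g f).obj w).obj.iso.hom = w.obj.fst.obj.iso.hom ≫ g.map w.obj.iso.hom := rfl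

@[simp] theorem fpPasteRight_map_fst {w w' : (FibCat.fp (FibCat.fpSnd h g) f).obj} (m : w ⟶ w') :
    ((fpPasteRight h g f).map m).hom.fst = m.hom.fst.hom.fst := rfl

@[simp] theorem fpPasteRight_map_snd {w w' : (FibCat.fp (FibCat.fpSnd h g) f).obj} (m : w ⟶ w') :
    ((fpPasteRight h g f).map m).hom.snd = m.hom.snd := rfl

theorem fpPasteRight_faithful : (fpPasteRight h g f).toFunctor.Faithful where
  map_injective {w w'} m n hmn := by
    have h1 : m.hom.fst.hom.fst = n.hom.fst.hom.fst :=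
      congrArg (fun k : (fpPasteRight h g f).obj w ⟶ (fpPasteRight h g f).obj w' => k.hom.fst) hmn
    have h2 : m.hom.snd = n.hom.snd :=
      congrArg (fun k : (fpPasteRight h g f).obj w ⟶ (fpPasteRight h g f).obj w' => k.hom.snd) hmn
    let ψ : w.obj.fst.obj.snd ≅ f.obj w.obj.snd := w.obj.iso
    let ψ' : w'.obj.fst.obj.snd ≅ f.obj w'.obj.snd := w'.obj.iso
    have hm : m.hom.fst.hom.snd ≫ ψ'.hom = ψ.hom ≫ f.map m.hom.snd := m.hom.w
    have hn : n.hom.fst.hom.snd ≫ ψ'.hom = ψ.hom ≫ f.map n.hom.snd := n.hom.w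
    have h3 : m.hom.fst.hom.snd = n.hom.fst.hom.snd := by
      rw [h2, ← hn] at hm
      exact (cancel_mono _).1 hm
    apply ObjectProperty.hom_ext
    refine Limits.CategoricalPullback.hom_ext ?_ h2
    apply ObjectProperty.hom_ext
    exact Limits.CategoricalPullback.hom_ext h1 h3

theorem fpPasteRight_full : (fpPasteRight h g f).toFunctor.Full where
  map_surjective {w w'} n := by
    let μ : w.obj.fst.obj.fst ⟶ w'.obj.fst.obj.fst := n.hom.fst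
    let ξ : w.obj.snd ⟶ w'.obj.snd := n.hom.snd
    let ψ : w.obj.fst.obj.snd ≅ f.obj w.obj.snd := w.obj.iso
    let ψ' : w'.obj.fst.obj.snd ≅ f.obj w'.obj.snd := w'.obj.iso
    let φ : h.obj w.obj.fst.obj.fst ≅ g.obj w.obj.fst.obj.snd := w.obj.fst.obj.iso
    let φ' : h.obj w'.obj.fst.obj.fst ≅ g.obj w'.obj.fst.obj.snd := w'.obj.fst.obj.iso
    let υ : w.obj.fst.obj.snd ⟶ w'.obj.fst.obj.snd := ψ.hom ≫ f.map ξ ≫ ψ'.inv
    have hn : h.map μ ≫ (φ'.hom ≫ g.map ψ'.hom) = (φ.hom ≫ g.map ψ.hom) ≫ g.map (f.map ξ) :=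
      n.hom.w
    have hυ : h.map μ ≫ φ'.hom = φ.hom ≫ g.map υ := by
      calc h.map μ ≫ φ'.hom
          = (h.map μ ≫ (φ'.hom ≫ g.map ψ'.hom)) ≫ g.map ψ'.inv := by
            rw [Category.assoc, Category.assoc, ← g.map_comp, Iso.hom_inv_id, g.map_id,
              Category.comp_id]
        _ = ((φ.hom ≫ g.map ψ.hom) ≫ g.map (f.map ξ)) ≫ g.map ψ'.inv := by rw [hn]
        _ = φ.hom ≫ g.map υ := by
            simp only [υ, Functor.map_comp, Category.assoc]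
    let s : w.obj.fst ⟶ w'.obj.fst := ObjectProperty.homMk { fst := μ, snd := υ, w := hυ }
    have hξ : υ ≫ ψ'.hom = ψ.hom ≫ f.map ξ := by
      simp only [υ, Category.assoc, Iso.inv_hom_id, Category.comp_id]
    refine ⟨ObjectProperty.homMk { fst := s, snd := ξ, w := hξ }, ?_⟩
    apply ObjectProperty.hom_ext
    exact Limits.CategoricalPullback.hom_ext rfl rfl

theorem fpPasteRight_isEquivOver : FibCat.IsEquivOver (fpPasteRight h g f) := by
  haveI := fpPasteRight_faithful h g f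
  haveI := fpPasteRight_full h g f
  apply isEquivOver_of_ff_of_ess
  intro t
  let θ : h.obj t.obj.fst ≅ g.obj (f.obj t.obj.snd) := t.obj.iso
  have ht : 𝒵.p.IsHomLift (𝟙 (𝒰.p.obj t.obj.fst)) θ.hom := t.property
  let s : (FibCat.fp h g).obj := ⟨{ fst := t.obj.fst, snd := f.obj t.obj.snd, iso := θ }, ht⟩
  have hs : 𝒴.p.obj (f.obj t.obj.snd) = 𝒰.p.obj t.obj.fst := fp_snd_proj h g s
  have hid : 𝒴.p.IsHomLift (𝟙 (𝒰.p.obj t.obj.fst)) (𝟙 (f.obj t.obj.snd)) := IsHomLift.id hs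
  let w : (FibCat.fp (FibCat.fpSnd h g) f).obj :=
    ⟨{ fst := s, snd := t.obj.snd, iso := Iso.refl (f.obj t.obj.snd) }, hid⟩
  have hw1 : h.map (𝟙 t.obj.fst) ≫ θ.hom =
      (θ.hom ≫ g.map (𝟙 (f.obj t.obj.snd))) ≫ g.map (f.map (𝟙 t.obj.snd)) := by
    simp only [Functor.map_id, Category.id_comp, Category.comp_id]
  have hw2 : h.map (𝟙 t.obj.fst) ≫ (θ.hom ≫ g.map (𝟙 (f.obj t.obj.snd))) =
      θ.hom ≫ g.map (f.map (𝟙 t.obj.snd)) := by
    simp only [Functor.map_id, Category.id_comp, Category.comp_id]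
  let m : (fpPasteRight h g f).obj w ⟶ t :=
    ObjectProperty.homMk { fst := 𝟙 t.obj.fst, snd := 𝟙 t.obj.snd, w := hw1 }
  let m' : t ⟶ (fpPasteRight h g f).obj w :=
    ObjectProperty.homMk { fst := 𝟙 t.obj.fst, snd := 𝟙 t.obj.snd, w := hw2 }
  refine ⟨w, ⟨m, m', ?_, ?_⟩, ?_⟩
  · apply ObjectProperty.hom_ext
    exact Limits.CategoricalPullback.hom_ext (Category.id_comp _) (Category.id_comp _)
  · apply ObjectProperty.hom_ext
    exact Limits.CategoricalPullback.hom_ext (Category.id_comp _) (Category.id_comp _)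
  · show (FibCat.fp h (BasedFunctor.comp f g)).p.IsHomLift (𝟙 (𝒰.p.obj t.obj.fst)) m
    rw [fp_isHomLift_iff]
    show 𝒰.p.IsHomLift (𝟙 (𝒰.p.obj t.obj.fst)) (𝟙 t.obj.fst)
    infer_instance

end PasteRight

section Whisker

variable {𝒜 : BasedCategory.{v₂, u₂} C} {ℬ : BasedCategory.{v₃, u₃} C}
  {𝒟 : BasedCategory.{v₄, u₄} C}

/-- Left whiskering of a 2-isomorphism over the base (universe-general). -/
def whiskerLeftIso (G : 𝒜 ⥤ᵇ ℬ) {H K : ℬ ⥤ᵇ 𝒟} (γ : H ≅ K) :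
    BasedFunctor.comp G H ≅ BasedFunctor.comp G K :=
  BasedNatIso.mkNatIso
    (NatIso.ofComponents (fun x => appIso γ (G.obj x))
      (fun f => γ.hom.toNatTrans.naturality (G.map f)))
    (fun x => γ.hom.isHomLift (G.w_obj x))

/-- Right whiskering of a 2-isomorphism over the base (universe-general). -/
def whiskerRightIso {G K : 𝒜 ⥤ᵇ ℬ} (γ : G ≅ K) (H : ℬ ⥤ᵇ 𝒟) :
    BasedFunctor.comp G H ≅ BasedFunctor.comp K H :=
  BasedNatIso.mkNatIso
    (NatIso.ofComponents (fun x => H.toFunctor.mapIso (appIso γ x))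
      (fun {x y} f => by
        show H.map (G.map f) ≫ H.map (appIso γ y).hom = H.map (appIso γ x).hom ≫ H.map (K.map f)
        rw [← H.map_comp, ← H.map_comp, appIso_naturality]))
    (fun x => by
      haveI : ℬ.p.IsHomLift (𝟙 (𝒜.p.obj x)) (appIso γ x).hom := appIso_isHomLift γ rfl
      exact BasedFunctor.preserves_isHomLift H _ _)

/-- `F ⋙ 𝟭 ≅ F`. -/
def compIdIso (G : 𝒜 ⥤ᵇ ℬ) : BasedFunctor.comp G (BasedFunctor.id ℬ) ≅ G :=
  eqToIso (BasedFunctor.comp_id G)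

/-- `𝟭 ⋙ F ≅ F`. -/
def idCompIso (G : 𝒜 ⥤ᵇ ℬ) : BasedFunctor.comp (BasedFunctor.id 𝒜) G ≅ G :=
  eqToIso (BasedFunctor.id_comp G)

instance id_full : (BasedFunctor.id 𝒜).toFunctor.Full := inferInstanceAs (𝟭 𝒜.obj).Full

instance id_faithful : (BasedFunctor.id 𝒜).toFunctor.Faithful :=
  inferInstanceAs (𝟭 𝒜.obj).Faithful

end Whisker

section Invariance

variable {𝒳 : BasedCategory.{v₂, u₂} C} {𝒴 : BasedCategory.{v₃, u₃} C}
  {𝒮 : BasedCategory.{v₄, u₄} C}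

/-- The 2-fibre product only depends on the first functor up to 2-isomorphism. -/
theorem isRepresentable_fp_congr_left {F F' : 𝒳 ⥤ᵇ 𝒮} (γ : F' ≅ F) (G : 𝒴 ⥤ᵇ 𝒮) :
    FibCat.IsRepresentable (FibCat.fp F' G) ↔ FibCat.IsRepresentable (FibCat.fp F G) := by
  let α : BasedFunctor.comp F' (BasedFunctor.id 𝒮) ≅ BasedFunctor.comp (BasedFunctor.id 𝒳) F :=
    compIdIso F' ≪≫ γ ≪≫ (idCompIso F).symm
  let β : BasedFunctor.comp G (BasedFunctor.id 𝒮) ≅ BasedFunctor.comp (BasedFunctor.id 𝒴) G :=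
    compIdIso G ≪≫ (idCompIso G).symm
  exact isRepresentable_iff_of_isEquivOver
    (fpMap_isEquivOver (BasedFunctor.id 𝒳) (BasedFunctor.id 𝒴) (BasedFunctor.id 𝒮) α β
      isEquivOver_id isEquivOver_id)

/-- Precomposing the first functor of a 2-fibre product with an equivalence over the base. -/
theorem isRepresentable_fp_precomp_left {𝒳' : BasedCategory.{v₅, u₅} C} (a : 𝒳' ⥤ᵇ 𝒳)
    (ha : FibCat.IsEquivOver a) (F : 𝒳 ⥤ᵇ 𝒮) (G : 𝒴 ⥤ᵇ 𝒮) :
    FibCat.IsRepresentable (FibCat.fp (BasedFunctor.comp a F) G) ↔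
      FibCat.IsRepresentable (FibCat.fp F G) := by
  let α : BasedFunctor.comp (BasedFunctor.comp a F) (BasedFunctor.id 𝒮) ≅ BasedFunctor.comp a F :=
    compIdIso _
  let β : BasedFunctor.comp G (BasedFunctor.id 𝒮) ≅ BasedFunctor.comp (BasedFunctor.id 𝒴) G :=
    compIdIso G ≪≫ (idCompIso G).symm
  exact isRepresentable_iff_of_isEquivOver
    (fpMap_isEquivOver a (BasedFunctor.id 𝒴) (BasedFunctor.id 𝒮) α β ha isEquivOver_id)

end Invariance

section FpIso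

variable {𝒳 : BasedCategory.{v₂, u₂} C} {𝒴 : BasedCategory.{v₃, u₃} C}
  {𝒮 : BasedCategory.{v₄, u₄} C} {F : 𝒳 ⥤ᵇ 𝒮} {G : 𝒴 ⥤ᵇ 𝒮}

/-- Morphisms of a 2-fibre product are determined by their two components. -/
theorem fp_hom_ext {z z' : (FibCat.fp F G).obj} {m n : z ⟶ z'} (h1 : m.hom.fst = n.hom.fst)
    (h2 : m.hom.snd = n.hom.snd) : m = n := by
  apply ObjectProperty.hom_ext
  exact Limits.CategoricalPullback.hom_ext h1 h2

/-- A morphism of a 2-fibre product from its two components. -/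
def fpHomMk {z z' : (FibCat.fp F G).obj} (m₁ : z.obj.fst ⟶ z'.obj.fst)
    (m₂ : z.obj.snd ⟶ z'.obj.snd)
    (w : F.map m₁ ≫ z'.obj.iso.hom = z.obj.iso.hom ≫ G.map m₂) : z ⟶ z' :=
  ObjectProperty.homMk { fst := m₁, snd := m₂, w := w }

@[simp] theorem fpHomMk_fst {z z' : (FibCat.fp F G).obj} (m₁ : z.obj.fst ⟶ z'.obj.fst)
    (m₂ : z.obj.snd ⟶ z'.obj.snd)
    (w : F.map m₁ ≫ z'.obj.iso.hom = z.obj.iso.hom ≫ G.map m₂) :
    (fpHomMk m₁ m₂ w).hom.fst = m₁ := rfl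

@[simp] theorem fpHomMk_snd {z z' : (FibCat.fp F G).obj} (m₁ : z.obj.fst ⟶ z'.obj.fst)
    (m₂ : z.obj.snd ⟶ z'.obj.snd)
    (w : F.map m₁ ≫ z'.obj.iso.hom = z.obj.iso.hom ≫ G.map m₂) :
    (fpHomMk m₁ m₂ w).hom.snd = m₂ := rfl

theorem fp_comp_fst {z z' z'' : (FibCat.fp F G).obj} (m : z ⟶ z') (n : z' ⟶ z'') :
    (m ≫ n).hom.fst = m.hom.fst ≫ n.hom.fst := rfl

theorem fp_comp_snd {z z' z'' : (FibCat.fp F G).obj} (m : z ⟶ z') (n : z' ⟶ z'') :
    (m ≫ n).hom.snd = m.hom.snd ≫ n.hom.snd := rfl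

theorem fp_id_fst (z : (FibCat.fp F G).obj) : (𝟙 z : z ⟶ z).hom.fst = 𝟙 z.obj.fst := rfl

theorem fp_id_snd (z : (FibCat.fp F G).obj) : (𝟙 z : z ⟶ z).hom.snd = 𝟙 z.obj.snd := rfl

/-- An isomorphism of a 2-fibre product from isomorphisms of its two components. -/
def fpIsoMk {z z' : (FibCat.fp F G).obj} (e₁ : z.obj.fst ≅ z'.obj.fst)
    (e₂ : z.obj.snd ≅ z'.obj.snd)
    (w : F.map e₁.hom ≫ z'.obj.iso.hom = z.obj.iso.hom ≫ G.map e₂.hom) : z ≅ z' where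
  hom := fpHomMk e₁.hom e₂.hom w
  inv := fpHomMk e₁.inv e₂.inv (by
    have := congrArg (fun t => F.map e₁.inv ≫ t ≫ G.map e₂.inv) w
    simp only [Category.assoc] at this
    rw [← G.map_comp, Iso.hom_inv_id, G.map_id, Category.comp_id, ← Category.assoc,
      ← F.map_comp, Iso.inv_hom_id, F.map_id, Category.id_comp] at this
    exact this.symm)
  hom_inv_id := fp_hom_ext e₁.hom_inv_id e₂.hom_inv_id
  inv_hom_id := fp_hom_ext e₁.inv_hom_id e₂.inv_hom_id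

@[simp] theorem fpIsoMk_hom_fst {z z' : (FibCat.fp F G).obj} (e₁ : z.obj.fst ≅ z'.obj.fst)
    (e₂ : z.obj.snd ≅ z'.obj.snd)
    (w : F.map e₁.hom ≫ z'.obj.iso.hom = z.obj.iso.hom ≫ G.map e₂.hom) :
    (fpIsoMk e₁ e₂ w).hom.hom.fst = e₁.hom := rfl

@[simp] theorem fpIsoMk_hom_snd {z z' : (FibCat.fp F G).obj} (e₁ : z.obj.fst ≅ z'.obj.fst)
    (e₂ : z.obj.snd ≅ z'.obj.snd)
    (w : F.map e₁.hom ≫ z'.obj.iso.hom = z.obj.iso.hom ≫ G.map e₂.hom) :
    (fpIsoMk e₁ e₂ w).hom.hom.snd = e₂.hom := rfl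

/-- The first component of an isomorphism of a 2-fibre product. -/
def fpIsoFst {z z' : (FibCat.fp F G).obj} (κ : z ≅ z') : z.obj.fst ≅ z'.obj.fst :=
  (FibCat.fpFst F G).toFunctor.mapIso κ

/-- The second component of an isomorphism of a 2-fibre product. -/
def fpIsoSnd {z z' : (FibCat.fp F G).obj} (κ : z ≅ z') : z.obj.snd ≅ z'.obj.snd :=
  (FibCat.fpSnd F G).toFunctor.mapIso κ

@[simp] theorem fpIsoFst_hom {z z' : (FibCat.fp F G).obj} (κ : z ≅ z') :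
    (fpIsoFst κ).hom = κ.hom.hom.fst := rfl

@[simp] theorem fpIsoSnd_hom {z z' : (FibCat.fp F G).obj} (κ : z ≅ z') :
    (fpIsoSnd κ).hom = κ.hom.hom.snd := rfl

@[simp] theorem fpIsoFst_inv {z z' : (FibCat.fp F G).obj} (κ : z ≅ z') :
    (fpIsoFst κ).inv = κ.inv.hom.fst := rfl

@[simp] theorem fpIsoSnd_inv {z z' : (FibCat.fp F G).obj} (κ : z ≅ z') :
    (fpIsoSnd κ).inv = κ.inv.hom.snd := rfl

end FpIso

section Invariance2

variable {𝒳 : BasedCategory.{v₂, u₂} C} {𝒴 : BasedCategory.{v₃, u₃} C}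
  {𝒮 : BasedCategory.{v₄, u₄} C}

/-- The 2-fibre product only depends on the second functor up to 2-isomorphism. -/
theorem isRepresentable_fp_congr_right (F : 𝒳 ⥤ᵇ 𝒮) {G G' : 𝒴 ⥤ᵇ 𝒮} (γ : G' ≅ G) :
    FibCat.IsRepresentable (FibCat.fp F G') ↔ FibCat.IsRepresentable (FibCat.fp F G) := by
  let α : BasedFunctor.comp F (BasedFunctor.id 𝒮) ≅ BasedFunctor.comp (BasedFunctor.id 𝒳) F :=
    compIdIso F ≪≫ (idCompIso F).symm
  let β : BasedFunctor.comp G' (BasedFunctor.id 𝒮) ≅ BasedFunctor.comp (BasedFunctor.id 𝒴) G :=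
    compIdIso G' ≪≫ γ ≪≫ (idCompIso G).symm
  exact isRepresentable_iff_of_isEquivOver
    (fpMap_isEquivOver (BasedFunctor.id 𝒳) (BasedFunctor.id 𝒴) (BasedFunctor.id 𝒮) α β
      isEquivOver_id isEquivOver_id)

/-- Precomposing the second functor of a 2-fibre product with an equivalence over the base. -/
theorem isRepresentable_fp_precomp_right {𝒴' : BasedCategory.{v₅, u₅} C} (b : 𝒴' ⥤ᵇ 𝒴)
    (hb : FibCat.IsEquivOver b) (F : 𝒳 ⥤ᵇ 𝒮) (G : 𝒴 ⥤ᵇ 𝒮) :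
    FibCat.IsRepresentable (FibCat.fp F (BasedFunctor.comp b G)) ↔
      FibCat.IsRepresentable (FibCat.fp F G) := by
  let α : BasedFunctor.comp F (BasedFunctor.id 𝒮) ≅ BasedFunctor.comp (BasedFunctor.id 𝒳) F :=
    compIdIso F ≪≫ (idCompIso F).symm
  let β : BasedFunctor.comp (BasedFunctor.comp b G) (BasedFunctor.id 𝒮) ≅ BasedFunctor.comp b G :=
    compIdIso _
  exact isRepresentable_iff_of_isEquivOver
    (fpMap_isEquivOver (BasedFunctor.id 𝒳) b (BasedFunctor.id 𝒮) α β isEquivOver_id hb)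

/-- Postcomposing both functors of a 2-fibre product with a fully faithful functor over the
base. -/
theorem isRepresentable_fp_postcomp {𝒮' : BasedCategory.{v₅, u₅} C} (F : 𝒳 ⥤ᵇ 𝒮) (G : 𝒴 ⥤ᵇ 𝒮)
    (c : 𝒮 ⥤ᵇ 𝒮') [c.toFunctor.Full] [c.toFunctor.Faithful] :
    FibCat.IsRepresentable (FibCat.fp F G) ↔
      FibCat.IsRepresentable (FibCat.fp (BasedFunctor.comp F c) (BasedFunctor.comp G c)) := by
  let α : BasedFunctor.comp F c ≅ BasedFunctor.comp (BasedFunctor.id 𝒳) (BasedFunctor.comp F c) :=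
    (idCompIso _).symm
  let β : BasedFunctor.comp G c ≅ BasedFunctor.comp (BasedFunctor.id 𝒴) (BasedFunctor.comp G c) :=
    (idCompIso _).symm
  exact isRepresentable_iff_of_isEquivOver
    (fpMap_isEquivOver (BasedFunctor.id 𝒳) (BasedFunctor.id 𝒴) c α β isEquivOver_id isEquivOver_id)

end Invariance2

end Groth.Agent.Lib.FpEquiv
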