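import Groth.Prelude.Def_AlgSt2
import Groth.Agent.Lib.FpEquiv
import Groth.Agent.Lib.FibYoneda
import Groth.Agent.Lib.StkEquiv

set_option autoImplicit false
set_option linter.style.haveILetI false
set_option backward.isDefEq.respectTransparency false
set_option backward.isDefEq.respectTransparency.types false

namespace Groth.Agent.Lib.AlgStRepB

open CategoryTheory AlgebraicGeometry Opposite Groth.Agent.Lib.FibGrpd Groth.Agent.Lib.FpEquiv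
  Groth.Agent.Lib.FibYoneda

universe w v₅ u₅ v₄ u₄ v₃ u₃ v₂ u₂ v u

section Faithful

variable {C : Type u} [Category.{v} C] {𝒳 : BasedCategory.{v₂, u₂} C}
  {𝒴 : BasedCategory.{v₃, u₃} C}

/-- If all 2-fibre products `(C/U) ×_𝒴 𝒳` have thin fibres, then `f : 𝒳 ⟶ 𝒴` is faithful. -/
theorem faithful_of_fp_isThin [FibCat.IsFibGrpd 𝒳.p] [FibCat.IsFibGrpd 𝒴.p] (f : 𝒳 ⥤ᵇ 𝒴)
    (h : ∀ (U : C) (y : FibCat.overCat U ⥤ᵇ 𝒴), Quiver.IsThin ((FibCat.fp y f).p.Fiber U)) :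
    f.toFunctor.Faithful := by
  apply faithful_of_fiberFunctor
  intro U
  refine ⟨fun {A B} φ ψ hφψ => ?_⟩
  have hφψ' : f.map φ.1 = f.map ψ.1 := congrArg Subtype.val hφψ
  haveI hφ : 𝒳.p.IsHomLift (𝟙 U) φ.1 := φ.2
  haveI hψ : 𝒳.p.IsHomLift (𝟙 U) ψ.1 := ψ.2
  haveI : IsIso φ.1 := isIso_of_isHomLift_isIso 𝒳.p (𝟙 U) φ.1
  haveI := isFibered 𝒴.p
  let fB : 𝒴.p.Fiber U := (FibCat.fiberFunctor f U).obj B
  let y : FibCat.overCat U ⥤ᵇ 𝒴 := pbFunctor fB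
  let ε : (FibCat.evalAtId 𝒴 U).obj y ≅ fB := pbFunctorEvalIso fB
  let ε' : y.obj (overTop U) ≅ f.obj B.1 :=
    ⟨ε.hom.1, ε.inv.1, congrArg Subtype.val ε.hom_inv_id, congrArg Subtype.val ε.inv_hom_id⟩
  haveI hε : 𝒴.p.IsHomLift (𝟙 U) ε'.hom := ε.hom.2
  haveI hfφ : 𝒴.p.IsHomLift (𝟙 U) (f.map φ.1) := BasedFunctor.preserves_isHomLift f _ _
  haveI hfφi : 𝒴.p.IsHomLift (𝟙 U) (inv (f.map φ.1)) := by
    haveI : 𝒴.p.IsHomLift (𝟙 U) (asIso (f.map φ.1)).hom := hfφ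
    have := IsHomLift.lift_id_inv 𝒴.p U (asIso (f.map φ.1))
    simpa using this
  let wB : (FibCat.fp y f).obj :=
    ⟨{ fst := overTop U, snd := B.1, iso := ε' }, hε⟩
  let wA : (FibCat.fp y f).obj :=
    ⟨{ fst := overTop U, snd := A.1, iso := ε' ≪≫ (asIso (f.map φ.1)).symm }, by
      show 𝒴.p.IsHomLift (𝟙 U) (ε'.hom ≫ inv (f.map φ.1))
      have : 𝒴.p.IsHomLift (𝟙 U ≫ 𝟙 U) (ε'.hom ≫ inv (f.map φ.1)) := inferInstance
      simpa using this⟩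
  let m₁ : wA ⟶ wB := ObjectProperty.homMk
    { fst := 𝟙 (overTop U), snd := φ.1, w := by
        show y.map (𝟙 (overTop U)) ≫ ε'.hom = (ε'.hom ≫ inv (f.map φ.1)) ≫ f.map φ.1
        rw [y.map_id, Category.id_comp, Category.assoc, IsIso.inv_hom_id, Category.comp_id] }
  let m₂ : wA ⟶ wB := ObjectProperty.homMk
    { fst := 𝟙 (overTop U), snd := ψ.1, w := by
        show y.map (𝟙 (overTop U)) ≫ ε'.hom = (ε'.hom ≫ inv (f.map φ.1)) ≫ f.map ψ.1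
        rw [← hφψ', y.map_id, Category.id_comp, Category.assoc, IsIso.inv_hom_id,
          Category.comp_id] }
  have hm : ∀ m : wA ⟶ wB, m.hom.fst = 𝟙 (overTop U) → (FibCat.fp y f).p.IsHomLift (𝟙 U) m := by
    intro m hm
    rw [fp_isHomLift_iff, hm]
    exact IsHomLift.id (p := (FibCat.overCat U).p) (a := overTop U) rfl
  let WA : (FibCat.fp y f).p.Fiber U := ⟨wA, rfl⟩
  let WB : (FibCat.fp y f).p.Fiber U := ⟨wB, rfl⟩
  let M₁ : WA ⟶ WB := ⟨m₁, hm m₁ rfl⟩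
  let M₂ : WA ⟶ WB := ⟨m₂, hm m₂ rfl⟩
  have hM : M₁ = M₂ := (h U y WA WB).elim _ _
  have h2 : m₁ = m₂ := congrArg Subtype.val hM
  have h3 : m₁.hom.snd = m₂.hom.snd := by rw [h2]
  exact Subtype.ext h3

end Faithful

section OfPsh

variable {C : Type u} [Category.{v} C] (P : Cᵒᵖ ⥤ Type w)

/-- The category over `C` of a presheaf of sets has thin fibres. -/
theorem isThin_fiber_ofPsh (U : C) : Quiver.IsThin ((Stk.ofPsh P).p.Fiber U) := by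
  intro a b
  refine ⟨fun φ ψ => ?_⟩
  apply Functor.Fiber.hom_ext
  apply Stk.EltObj.hom_ext
  have hφ : (Stk.ofPsh P).p.IsHomLift (𝟙 U) φ.1 := φ.2
  have hψ : (Stk.ofPsh P).p.IsHomLift (𝟙 U) ψ.1 := ψ.2
  have e1 := IsHomLift.fac' (Stk.ofPsh P).p (𝟙 U) φ.1
  have e2 := IsHomLift.fac' (Stk.ofPsh P).p (𝟙 U) ψ.1
  exact e1.trans e2.symm

theorem isFibSetoid_ofPsh : FibCat.IsFibSetoid (Stk.ofPsh P).p :=
  ⟨Stk.isFibGrpd_ofPsh P, isThin_fiber_ofPsh P⟩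

end OfPsh

section RepFaithful

variable {S : Scheme.{u}} {𝒳 : BasedCategory.{v₂, u₂} (Over S)}
  {𝒴 : BasedCategory.{v₃, u₃} (Over S)}

/-- A category over `(Sch/S)` representable by an algebraic space has thin fibres. -/
theorem isThin_fiber_of_repByAlgSp (h : AlgSt.RepByAlgSp 𝒳) (U : Over S) :
    Quiver.IsThin (𝒳.p.Fiber U) := by
  obtain ⟨F, e, he⟩ := h
  exact ((Groth.Agent.Lib.StkEquiv.isFibSetoid_iff_of_isEquivOver e he).1
    (isFibSetoid_ofPsh _)).2 U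

/-- A 1-morphism representable by algebraic spaces is faithful. -/
theorem faithful_of_repByAlgSp1 [FibCat.IsFibGrpd 𝒳.p] [FibCat.IsFibGrpd 𝒴.p] (f : 𝒳 ⥤ᵇ 𝒴)
    (hf : AlgSt.RepByAlgSp1 f) : f.toFunctor.Faithful :=
  faithful_of_fp_isThin f (fun U y => isThin_fiber_of_repByAlgSp (hf U y) U)

end RepFaithful

end Groth.Agent.Lib.AlgStRepB
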