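import Groth.Agent.Lib.PshFp

/-!
# Categories of presheaves over `C`: equivalences over `C` come from isomorphisms (helper64)

* `ofPshMap_comp`, `ofPshMap_id`.
* `eq_of_ofPshMap_iso` : 2-isomorphic `ofPshMap α`, `ofPshMap β` have `α = β`.
* `iso_of_equivOver` : `ofPsh F ≃ ofPsh A` over `C` implies `F ≅ A`.
-/

set_option autoImplicit false
set_option linter.style.haveILetI false
set_option backward.isDefEq.respectTransparency false
set_option backward.isDefEq.respectTransparency.types false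

namespace Groth.Agent.Lib.PshFp

open CategoryTheory Functor Opposite Limits Groth.Agent.Lib.FibGrpd Groth.Agent.Lib.FpEquiv
  Groth.Agent.Lib.EquivOver

universe w v u

variable {C : Type u} [Category.{v} C]

section

variable {A B D : Cᵒᵖ ⥤ Type w}

theorem ofPshMap_comp (α : A ⟶ B) (β : B ⟶ D) :
    BasedFunctor.comp (Stk.ofPshMap α) (Stk.ofPshMap β) = Stk.ofPshMap (α ≫ β) := rfl

theorem ofPshMap_id (A : Cᵒᵖ ⥤ Type w) :
    Stk.ofPshMap (𝟙 A) = BasedFunctor.id (Stk.ofPsh A) := rfl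

/-- 2-isomorphic functors induced by maps of presheaves come from equal maps. -/
theorem eq_of_ofPshMap_iso {α β : A ⟶ B} (γ : Stk.ofPshMap α ≅ Stk.ofPshMap β) : α = β := by
  ext T s
  obtain ⟨T⟩ := T
  let x : Stk.EltObj A := ⟨T, s⟩
  let m : (Stk.ofPshMap α).obj x ⟶ (Stk.ofPshMap β).obj x := (appIso γ x).hom
  haveI hm : (Stk.ofPsh B).p.IsHomLift (𝟙 T) m := appIso_isHomLift γ rfl
  have h1 : m.hom = 𝟙 T := by
    have := IsHomLift.fac' (Stk.ofPsh B).p (𝟙 T) m
    have e : m.hom = eqToHom rfl ≫ 𝟙 T ≫ eqToHom rfl := this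
    rw [e]
    simp
  have h2 : B.map m.hom.op (β.app (op T) s) = α.app (op T) s := m.map_sec
  have h3 : ∀ k : T ⟶ T, k = 𝟙 T → B.map k.op (β.app (op T) s) = β.app (op T) s := by
    rintro k rfl
    simp
  exact ((h3 m.hom h1).symm.trans h2).symm

/-- An equivalence over `C` between categories of presheaves comes from an isomorphism of
presheaves. -/
theorem iso_of_equivOver (h : EquivOver (Stk.ofPsh A) (Stk.ofPsh B)) : Nonempty (A ≅ B) := by
  obtain ⟨E, E', ⟨η⟩, ⟨ε⟩⟩ := h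
  let φ := pshYonedaMor E
  let φ' := pshYonedaMor E'
  have i1 : Stk.ofPshMap (φ ≫ φ') ≅ Stk.ofPshMap (𝟙 A) := by
    rw [← ofPshMap_comp, ofPshMap_id]
    exact (whiskerRightIso (pshYonedaIso E).symm (Stk.ofPshMap φ')) ≪≫
      (whiskerLeftIso E (pshYonedaIso E').symm) ≪≫ η
  have i2 : Stk.ofPshMap (φ' ≫ φ) ≅ Stk.ofPshMap (𝟙 B) := by
    rw [← ofPshMap_comp, ofPshMap_id]
    exact (whiskerRightIso (pshYonedaIso E').symm (Stk.ofPshMap φ)) ≪≫
      (whiskerLeftIso E' (pshYonedaIso E).symm) ≪≫ ε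
  exact ⟨⟨φ, φ', eq_of_ofPshMap_iso i1, eq_of_ofPshMap_iso i2⟩⟩

end

end Groth.Agent.Lib.PshFp
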