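import Groth.Prelude.Def_AlgSpRep
import Groth.Agent.Lib.RepBySpB
import Mathlib.CategoryTheory.Limits.Shapes.Diagonal

/-!
# Maps of presheaves representable by algebraic spaces: base change and composition (helper64)

* `repBySp_of_isPullback` : `RepBySp` is stable under base change.
* `isAlgSpaceP_of_isPullback` : `X ×_G F` is an algebraic space when `F ⟶ G` is representable by
  algebraic spaces and `X` is an algebraic space.
* `repBySp_comp` : `RepBySp` is stable under composition.
-/

set_option autoImplicit false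

namespace Groth.Agent.Lib.RepBySpC

open CategoryTheory Opposite Limits AlgebraicGeometry AlgSp Groth.Agent.Lib.RepBySpB

universe u

variable {S : Scheme.{u}}

/-- `RepBySp` is stable under base change. -/
theorem repBySp_of_isPullback {F G X F' : PSp S} {a : F ⟶ G} (ha : RepBySp a) {ξ : X ⟶ G}
    {fst : F' ⟶ X} {snd : F' ⟶ F} (sq : IsPullback fst snd ξ a) : RepBySp fst := by
  intro U ζ F'' fst'' snd'' sq''
  exact ha (ζ ≫ ξ) (fst'' ≫ snd) snd'' (sq''.paste_horiz sq.flip)

/-- `X ×_G F` is an algebraic space when `F ⟶ G` is representable by algebraic spaces and `X` is an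
algebraic space. -/
theorem isAlgSpaceP_of_isPullback {F G X F' : PSp S} {a : F ⟶ G} (ha : RepBySp a)
    (hX : IsAlgSpaceP X) {ξ : X ⟶ G} {fst : F' ⟶ X} {snd : F' ⟶ F}
    (sq : IsPullback fst snd ξ a) : IsAlgSpaceP F' :=
  isAlgSpaceP_of_repBySp fst (repBySp_of_isPullback ha sq) hX

/-- `RepBySp` is stable under composition. -/
theorem repBySp_comp {F G H : PSp S} {a : F ⟶ G} {b : G ⟶ H} (ha : RepBySp a) (hb : RepBySp b) :
    RepBySp (a ≫ b) := by
  intro U ξ F' fst snd sq
  have sqX : IsPullback (pullback.fst b ξ) (pullback.snd b ξ) b ξ := IsPullback.of_hasPullback b ξ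
  have hX : IsAlgSpaceP (pullback b ξ) := hb ξ _ _ sqX
  let k : F' ⟶ pullback b ξ := sqX.lift (fst ≫ a) snd (by rw [Category.assoc]; exact sq.w)
  have hk1 : k ≫ pullback.fst b ξ = fst ≫ a := sqX.lift_fst _ _ _
  have hk2 : k ≫ pullback.snd b ξ = snd := sqX.lift_snd _ _ _
  have sqTop : IsPullback fst k a (pullback.fst b ξ) := by
    apply IsPullback.of_bot (v₂₁ := pullback.snd b ξ) (v₂₂ := b) (h₃₁ := ξ) ?_ hk1.symm sqX
    rw [hk2]
    exact sq
  exact isAlgSpaceP_of_isPullback ha hX sqTop.flip

/-- If the diagonal of `b` and the composite `a ≫ b` are representable by algebraic spaces, so is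
`a`. -/
theorem repBySp_of_comp_of_diagonal {F G H : PSp S} {a : F ⟶ G} {b : G ⟶ H}
    (hΔ : RepBySp (pullback.diagonal b)) (hab : RepBySp (a ≫ b)) : RepBySp a := by
  intro U ξ F' fst snd sq
  have hX : IsAlgSpaceP (pullback (a ≫ b) (ξ ≫ b)) :=
    hab (ξ ≫ b) _ _ (IsPullback.of_hasPullback (a ≫ b) (ξ ≫ b))
  have sqM := (pullback_map_diagonal_isPullback a ξ b).flip
  have hP : IsAlgSpaceP (pullback a ξ) := isAlgSpaceP_of_isPullback hΔ hX sqM
  exact hP.of_iso (sq.isoPullback).symm

end Groth.Agent.Lib.RepBySpC
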