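import Groth.Prelude.Def_AlgSt
import Groth.Agent.Lib.FpEquiv

/-!
# The presheaf of isomorphism classes of a category fibred in groupoids (helper64)

For `𝒳` fibred in groupoids over `C`:
* `isoPsh 𝒳 : Cᵒᵖ ⥤ Type _` : `T ↦` isomorphism classes of objects over `T`, restriction by (any) lifts.
* `toIsoPsh 𝒳 : 𝒳 ⥤ᵇ Stk.ofPsh (isoPsh 𝒳)`, full and essentially surjective; an equivalence over `C`
  when `𝒳` is fibred in setoids (`toIsoPsh_isEquivOver`).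
* `isFibSet_ofPsh` : `Stk.ofPsh P` is fibred in sets.
-/

set_option autoImplicit false
set_option linter.style.haveILetI false
set_option backward.isDefEq.respectTransparency false
set_option backward.isDefEq.respectTransparency.types false

namespace Groth.Agent.Lib.SetoidPsh

open CategoryTheory Functor Opposite Groth.Agent.Lib.FibGrpd Groth.Agent.Lib.FpEquiv

universe w v₂ u₂ v u

variable {C : Type u} [Category.{v} C]

section OfPsh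

variable (P : Cᵒᵖ ⥤ Type w)

theorem hasUniqueLifts_ofPsh : HasUniqueLifts (Stk.EltObj.forget P) := by
  intro η U f
  refine ⟨⟨⟨U, P.map f.op η.sec⟩, ⟨f, rfl⟩⟩,
    CategoryTheory.IsHomLift.map (Stk.EltObj.forget P)
      (⟨f, rfl⟩ : (⟨U, P.map f.op η.sec⟩ : Stk.EltObj P) ⟶ η), ?_⟩
  rintro ⟨⟨U', s'⟩, φ'⟩ hφ'
  change (Stk.EltObj.forget P).IsHomLift f φ' at hφ'
  have hU : U' = U := IsHomLift.domain_eq (Stk.EltObj.forget P) f φ'
  subst hU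
  have hf : φ'.hom = f := by
    have := IsHomLift.fac' (Stk.EltObj.forget P) f φ'
    simpa using this
  have hs : P.map f.op η.sec = s' := by rw [← hf]; exact φ'.map_sec
  subst hs
  congr 1
  exact Stk.EltObj.hom_ext hf

theorem isFibSet_ofPsh : FibCat.IsFibSet (Stk.ofPsh P).p :=
  isFibSet_iff_hasUniqueLifts.2 (hasUniqueLifts_ofPsh P)

end OfPsh

variable (𝒳 : BasedCategory.{v₂, u₂} C)

/-- Objects of `𝒳` over `T`. -/
def FibObj (T : C) : Type u₂ := {x : 𝒳.obj // 𝒳.p.obj x = T}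

variable {𝒳}

/-- `x'` is a restriction of `x` along `g`. -/
def IsRestr {T' T : C} (g : T' ⟶ T) (x : FibObj 𝒳 T) (x' : FibObj 𝒳 T') : Prop :=
  ∃ ψ : x'.1 ⟶ x.1, 𝒳.p.IsHomLift g ψ

theorem isRestr_refl {T : C} (x : FibObj 𝒳 T) : IsRestr (𝟙 T) x x :=
  ⟨𝟙 x.1, IsHomLift.id x.2⟩

theorem IsRestr.comp {T'' T' T : C} {g : T' ⟶ T} {g' : T'' ⟶ T'} {x : FibObj 𝒳 T}
    {x' : FibObj 𝒳 T'} {x'' : FibObj 𝒳 T''} (h : IsRestr g x x') (h' : IsRestr g' x' x'') :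
    IsRestr (g' ≫ g) x x'' := by
  obtain ⟨ψ, hψ⟩ := h
  obtain ⟨ψ', hψ'⟩ := h'
  exact ⟨ψ' ≫ ψ, inferInstance⟩

theorem IsRestr.of_eq {T' T : C} {g g' : T' ⟶ T} (hg : g = g') {x : FibObj 𝒳 T}
    {x' : FibObj 𝒳 T'} (h : IsRestr g x x') : IsRestr g' x x' := hg ▸ h

variable [FibCat.IsFibGrpd 𝒳.p]

theorem exists_isRestr {T' T : C} (g : T' ⟶ T) (x : FibObj 𝒳 T) : ∃ x', IsRestr g x x' := by
  obtain ⟨x, hx⟩ := x
  subst hx
  obtain ⟨y, φ, hφ⟩ := FibCat.IsFibGrpd.exists_lift (p := 𝒳.p) g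
  exact ⟨⟨y, IsHomLift.domain_eq 𝒳.p g φ⟩, φ, hφ⟩

theorem IsRestr.unique {T' T : C} {g : T' ⟶ T} {x : FibObj 𝒳 T} {x' x'' : FibObj 𝒳 T'}
    (h : IsRestr g x x') (h' : IsRestr g x x'') : IsRestr (𝟙 T') x'' x' := by
  obtain ⟨ψ, hψ⟩ := h
  obtain ⟨ψ', hψ'⟩ := h'
  haveI := isStronglyCartesian_of_isHomLift 𝒳.p g ψ'
  exact ⟨IsCartesian.map 𝒳.p g ψ' ψ, IsCartesian.map_isHomLift 𝒳.p g ψ' ψ⟩

theorem IsRestr.symm {T : C} {x y : FibObj 𝒳 T} (h : IsRestr (𝟙 T) x y) : IsRestr (𝟙 T) y x := by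
  obtain ⟨ψ, hψ⟩ := h
  haveI : IsIso ψ := isIso_of_isHomLift_isIso 𝒳.p (𝟙 T) ψ
  exact ⟨inv ψ, inferInstance⟩

theorem IsRestr.trans {T : C} {x y z : FibObj 𝒳 T} (h : IsRestr (𝟙 T) x y)
    (h' : IsRestr (𝟙 T) y z) : IsRestr (𝟙 T) x z :=
  (h.comp h').of_eq (Category.id_comp _)

variable (𝒳) in
/-- The setoid of objects over `T` up to isomorphism over the identity. -/
def fibSetoid (T : C) : Setoid (FibObj 𝒳 T) where
  r x y := IsRestr (𝟙 T) x y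
  iseqv := ⟨isRestr_refl, IsRestr.symm, IsRestr.trans⟩

theorem fibSetoid_r {T : C} (x y : FibObj 𝒳 T) :
    (fibSetoid 𝒳 T).r x y ↔ IsRestr (𝟙 T) x y := Iff.rfl

variable (𝒳) in
/-- Isomorphism classes of objects over `T`. -/
def IsoCl (T : C) : Type u₂ := Quotient (fibSetoid 𝒳 T)

/-- The class of an object over `T`. -/
def IsoCl.mk {T : C} (x : FibObj 𝒳 T) : IsoCl 𝒳 T := Quotient.mk (fibSetoid 𝒳 T) x

theorem IsoCl.mk_eq_iff {T : C} (x y : FibObj 𝒳 T) :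
    IsoCl.mk x = IsoCl.mk y ↔ IsRestr (𝟙 T) x y :=
  ⟨fun h => Quotient.exact h, fun h => Quotient.sound h⟩

theorem IsoCl.exists_rep {T : C} (q : IsoCl 𝒳 T) : ∃ x, IsoCl.mk x = q := Quotient.exists_rep q

/-- Restriction of isomorphism classes. -/
noncomputable def restr {T' T : C} (g : T' ⟶ T) : IsoCl 𝒳 T → IsoCl 𝒳 T' :=
  Quotient.lift (fun x => IsoCl.mk (exists_isRestr g x).choose) (by
    intro x y hxy
    have hx := (exists_isRestr g x).choose_spec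
    have hy := (exists_isRestr g y).choose_spec
    rw [IsoCl.mk_eq_iff]
    have hxy' : IsRestr (𝟙 T) x y := hxy
    -- the chosen restriction of `y` is also a restriction of `x`
    have h1 : IsRestr g x (exists_isRestr g y).choose :=
      (hxy'.comp hy).of_eq (Category.comp_id _)
    exact (h1.unique hx))

theorem restr_mk {T' T : C} {g : T' ⟶ T} {x : FibObj 𝒳 T} {x' : FibObj 𝒳 T'}
    (h : IsRestr g x x') : restr g (IsoCl.mk x) = IsoCl.mk x' := by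
  have hx := (exists_isRestr g x).choose_spec
  show IsoCl.mk (exists_isRestr g x).choose = IsoCl.mk x'
  rw [IsoCl.mk_eq_iff]
  exact h.unique hx

theorem isRestr_of_restr_mk {T' T : C} {g : T' ⟶ T} {x : FibObj 𝒳 T} {x' : FibObj 𝒳 T'}
    (h : restr g (IsoCl.mk x) = IsoCl.mk x') : IsRestr g x x' := by
  have hx := (exists_isRestr g x).choose_spec
  have h1 : IsoCl.mk (exists_isRestr g x).choose = IsoCl.mk x' := h
  rw [IsoCl.mk_eq_iff] at h1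
  exact (hx.comp h1).of_eq (Category.id_comp _)

theorem restr_id {T : C} (q : IsoCl 𝒳 T) : restr (𝟙 T) q = q := by
  obtain ⟨x, rfl⟩ := q.exists_rep
  exact restr_mk (isRestr_refl x)

theorem restr_comp {T'' T' T : C} (g : T' ⟶ T) (g' : T'' ⟶ T') (q : IsoCl 𝒳 T) :
    restr (g' ≫ g) q = restr g' (restr g q) := by
  obtain ⟨x, rfl⟩ := q.exists_rep
  obtain ⟨x', hx'⟩ := exists_isRestr g x
  obtain ⟨x'', hx''⟩ := exists_isRestr g' x'
  rw [restr_mk hx', restr_mk hx'', restr_mk (hx'.comp hx'')]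

variable (𝒳) in
/-- The presheaf of isomorphism classes of objects of `𝒳`. -/
noncomputable def isoPsh : Cᵒᵖ ⥤ Type u₂ where
  obj T := IsoCl 𝒳 T.unop
  map g := ↾(restr g.unop)
  map_id T := by
    ext q
    exact restr_id q
  map_comp g h := by
    ext q
    exact restr_comp g.unop h.unop q

theorem isoPsh_map_apply {T T' : Cᵒᵖ} (g : T ⟶ T') (q : IsoCl 𝒳 T.unop) :
    (isoPsh 𝒳).map g q = restr g.unop q := rfl

variable (𝒳) in
/-- The canonical functor from `𝒳` to the category of its presheaf of isomorphism classes. -/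
noncomputable def toIsoPsh : 𝒳 ⥤ᵇ Stk.ofPsh (isoPsh 𝒳) where
  toFunctor :=
    { obj := fun x => ⟨𝒳.p.obj x, IsoCl.mk ⟨x, rfl⟩⟩
      map := fun {x y} ψ => ⟨𝒳.p.map ψ, by
        show restr (𝒳.p.map ψ) (IsoCl.mk ⟨y, rfl⟩) = IsoCl.mk ⟨x, rfl⟩
        exact restr_mk ⟨ψ, IsHomLift.map 𝒳.p ψ⟩⟩
      map_id := fun x => Stk.EltObj.hom_ext (𝒳.p.map_id x)
      map_comp := fun f g => Stk.EltObj.hom_ext (𝒳.p.map_comp f g) }
  w := rfl

theorem toIsoPsh_full : (toIsoPsh 𝒳).toFunctor.Full where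
  map_surjective {x y} m := by
    have h : restr m.hom (IsoCl.mk ⟨y, rfl⟩) = IsoCl.mk ⟨x, rfl⟩ := m.map_sec
    obtain ⟨ψ, hψ⟩ := isRestr_of_restr_mk h
    refine ⟨ψ, ?_⟩
    apply Stk.EltObj.hom_ext
    show 𝒳.p.map ψ = m.hom
    have := IsHomLift.fac' 𝒳.p m.hom ψ
    simpa using this

theorem toIsoPsh_faithful (hthin : ∀ U : C, Quiver.IsThin (𝒳.p.Fiber U)) :
    (toIsoPsh 𝒳).toFunctor.Faithful where
  map_injective {x y} ψ₁ ψ₂ h := by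
    have hg : 𝒳.p.map ψ₁ = 𝒳.p.map ψ₂ :=
      congrArg (fun k : (toIsoPsh 𝒳).obj x ⟶ (toIsoPsh 𝒳).obj y => k.hom) h
    haveI h2 : 𝒳.p.IsHomLift (𝒳.p.map ψ₁) ψ₂ := by rw [hg]; exact IsHomLift.map 𝒳.p ψ₂
    haveI h1 : 𝒳.p.IsHomLift (𝒳.p.map ψ₁) ψ₁ := IsHomLift.map 𝒳.p ψ₁
    haveI := isStronglyCartesian_of_isHomLift 𝒳.p (𝒳.p.map ψ₁) ψ₂
    let χ : x ⟶ x := IsCartesian.map 𝒳.p (𝒳.p.map ψ₁) ψ₂ ψ₁
    have hχl : 𝒳.p.IsHomLift (𝟙 (𝒳.p.obj x)) χ := IsCartesian.map_isHomLift 𝒳.p _ ψ₂ ψ₁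
    have hχ : χ ≫ ψ₂ = ψ₁ := IsCartesian.fac 𝒳.p _ ψ₂ ψ₁
    let a : 𝒳.p.Fiber (𝒳.p.obj x) := ⟨x, rfl⟩
    have hsub : Subsingleton (a ⟶ a) := hthin (𝒳.p.obj x) a a
    have e : (⟨χ, hχl⟩ : a ⟶ a) = ⟨𝟙 x, IsHomLift.id rfl⟩ := Subsingleton.elim _ _
    have e' : χ = 𝟙 x := congrArg Subtype.val e
    rw [← hχ, e', Category.id_comp]

theorem toIsoPsh_isEquivOver (hthin : ∀ U : C, Quiver.IsThin (𝒳.p.Fiber U)) :
    FibCat.IsEquivOver (toIsoPsh 𝒳) := by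
  haveI := toIsoPsh_faithful hthin
  haveI := toIsoPsh_full (𝒳 := 𝒳)
  apply isEquivOver_of_ff_of_ess
  rintro ⟨T, q⟩
  obtain ⟨⟨x, hx⟩, rfl⟩ := IsoCl.exists_rep (𝒳 := 𝒳) (T := T) q
  subst hx
  exact ⟨x, Iso.refl _, IsHomLift.id rfl⟩

end Groth.Agent.Lib.SetoidPsh
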