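import Groth.Agent.Lib.AlgStFp
import Groth.Agent.Lib.PshFp2
import Groth.Agent.Lib.SetoidPsh
import Groth.Agent.Lib.RepBySpC
import Groth.Agent.Lib.AlgStRepB
import Groth.Agent.Lib.AlgStRepC

/-!
# Base change of morphisms representable by algebraic spaces to algebraic-space test objects (helper64)

* `fp_isThin_fiber` : `𝒵 ×_𝒴 𝒳` has thin fibres when `𝒵` has and `𝒳 ⟶ 𝒴` is faithful.
* `repByAlgSp_of_repBy_over_space` : a category fibred in setoids over `(Sch/S)` with a functor to the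
  category of an algebraic space `Z`, all of whose base changes to schemes are representable by algebraic
  spaces, is representable by an algebraic space.
* `repByAlgSp_fp_of_repByAlgSp1` : if `f : 𝒳 ⟶ 𝒴` is representable by algebraic spaces and `𝒵` is
  representable by an algebraic space, then `𝒵 ×_𝒴 𝒳` is representable by an algebraic space.
-/

set_option autoImplicit false
set_option linter.style.haveILetI false
set_option backward.isDefEq.respectTransparency false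
set_option backward.isDefEq.respectTransparency.types false

namespace Groth.Agent.Lib.AlgStBoot

open CategoryTheory Functor Opposite Limits AlgebraicGeometry Groth.Agent.Lib.FibGrpd
  Groth.Agent.Lib.FpEquiv Groth.Agent.Lib.EquivOver Groth.Agent.Lib.PshFp
  Groth.Agent.Lib.AlgStFp Groth.Agent.Lib.SetoidPsh Groth.Agent.Lib.RepBySpB
  Groth.Agent.Lib.AlgStRepC

universe v₄ u₄ v₃ u₃ v₂ u₂ v u

section Thin

variable {C : Type u} [Category.{v} C] {𝒵 : BasedCategory.{v₂, u₂} C}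
  {𝒳 : BasedCategory.{v₃, u₃} C} {𝒴 : BasedCategory.{v₄, u₄} C}

/-- `𝒵 ×_𝒴 𝒳` has thin fibres when `𝒵` has and `𝒳 ⟶ 𝒴` is faithful. -/
theorem fp_isThin_fiber (g : 𝒵 ⥤ᵇ 𝒴) (f : 𝒳 ⥤ᵇ 𝒴) [f.toFunctor.Faithful]
    (h𝒵 : ∀ U : C, Quiver.IsThin (𝒵.p.Fiber U)) (U : C) :
    Quiver.IsThin ((FibCat.fp g f).p.Fiber U) := by
  intro a b
  refine ⟨fun m n => ?_⟩
  apply Functor.Fiber.hom_ext
  have hm : (FibCat.fp g f).p.IsHomLift (𝟙 U) m.1 := m.2
  have hn : (FibCat.fp g f).p.IsHomLift (𝟙 U) n.1 := n.2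
  have hm1 : 𝒵.p.IsHomLift (𝟙 U) m.1.hom.fst := (fp_isHomLift_iff g f _ m.1).1 hm
  have hn1 : 𝒵.p.IsHomLift (𝟙 U) n.1.hom.fst := (fp_isHomLift_iff g f _ n.1).1 hn
  have ha : 𝒵.p.obj a.1.obj.fst = U := a.2
  have hb : 𝒵.p.obj b.1.obj.fst = U := b.2
  let A : 𝒵.p.Fiber U := ⟨a.1.obj.fst, ha⟩
  let B : 𝒵.p.Fiber U := ⟨b.1.obj.fst, hb⟩
  have e1 : (⟨m.1.hom.fst, hm1⟩ : A ⟶ B) = ⟨n.1.hom.fst, hn1⟩ := (h𝒵 U A B).elim _ _
  have e1' : m.1.hom.fst = n.1.hom.fst := congrArg Subtype.val e1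
  have wm : g.map m.1.hom.fst ≫ b.1.obj.iso.hom = a.1.obj.iso.hom ≫ f.map m.1.hom.snd := m.1.hom.w
  have wn : g.map n.1.hom.fst ≫ b.1.obj.iso.hom = a.1.obj.iso.hom ≫ f.map n.1.hom.snd := n.1.hom.w
  have e2 : f.map m.1.hom.snd = f.map n.1.hom.snd := by
    rw [e1', wn] at wm
    exact ((cancel_epi _).1 wm).symm
  exact fp_hom_ext e1' (f.toFunctor.map_injective e2)

end Thin

variable {S : Scheme.{u}}

/-- A category fibred in setoids over `(Sch/S)` with a functor to the category of an algebraic space, all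
of whose base changes to schemes are representable by algebraic spaces, is representable by an algebraic
space. -/
theorem repByAlgSp_of_repBy_over_space {𝒲 : BasedCategory.{v₂, u + 1} (Over S)}
    [FibCat.IsFibGrpd 𝒲.p] (hthin : ∀ U : Over S, Quiver.IsThin (𝒲.p.Fiber U))
    (Z : AlgSp.Sp S) (hZ : AlgSp.IsAlgSpace Z) (π : 𝒲 ⥤ᵇ AlgSt.ofSp Z)
    (hπ : ∀ (U : Over S) (ξ : FibCat.overCat U ⥤ᵇ AlgSt.ofSp Z),
      AlgSt.RepByAlgSp (FibCat.fp ξ π)) :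
    AlgSt.RepByAlgSp 𝒲 := by
  let P : AlgSp.PSp S := isoPsh 𝒲
  have hE₀ : FibCat.IsEquivOver (toIsoPsh 𝒲) := toIsoPsh_isEquivOver hthin
  obtain ⟨E₁, hE₁⟩ := isEquivOver_inv hE₀
  let π' : Stk.ofPsh P ⥤ᵇ Stk.ofPsh Z.obj := BasedFunctor.comp E₁ π
  let ϖ : P ⟶ Z.obj := pshYonedaMor π'
  have hϖ : AlgSp.RepBySp ϖ := by
    intro U ξ F' fst snd sq
    have e1 : EquivOver (Stk.ofPsh F') (FibCat.fp (Stk.ofPshMap ϖ) (Stk.ofPshMap ξ)) :=
      ⟨_, pshFpFunctor_isEquivOver_of_isPullback sq⟩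
    have e2 : EquivOver (FibCat.fp π' (Stk.ofPshMap ξ))
        (FibCat.fp (Stk.ofPshMap ϖ) (Stk.ofPshMap ξ)) :=
      fp_congr_left (pshYonedaIso π') _
    have e3 : EquivOver (FibCat.fp π' (Stk.ofPshMap ξ)) (FibCat.fp π (Stk.ofPshMap ξ)) :=
      fp_precomp_left E₁ hE₁ π _
    have e4 : EquivOver (FibCat.fp π (Stk.ofPshMap ξ)) (FibCat.fp (Stk.ofPshMap ξ) π) :=
      ⟨_, fpSwap_isEquivOver _ _⟩
    let ξ' : FibCat.overCat U ⥤ᵇ AlgSt.ofSp Z :=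
      BasedFunctor.comp (AlgSt.ofOverCat U) (Stk.ofPshMap ξ)
    have e5 : EquivOver (FibCat.fp ξ' π) (FibCat.fp (Stk.ofPshMap ξ) π) :=
      fp_precomp_left (AlgSt.ofOverCat U) (ofOverCat_isEquivOver U) (Stk.ofPshMap ξ) π
    obtain ⟨A, eA, heA⟩ := hπ U ξ'
    have e7 : EquivOver (AlgSt.ofSp A.obj) (Stk.ofPsh F') :=
      (EquivOver.of heA).trans (e5.trans (e4.symm.trans (e3.symm.trans (e2.trans e1.symm))))
    obtain ⟨i⟩ := iso_of_equivOver e7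
    exact ((AlgSp.isAlgSpaceP_obj_iff A.obj).2 A.property).of_iso i
  obtain ⟨hP, hP'⟩ := isAlgSpaceP_of_repBySp ϖ hϖ ((AlgSp.isAlgSpaceP_obj_iff Z).2 hZ)
  exact ⟨⟨⟨P, hP⟩, hP'⟩, E₁, hE₁⟩

/-- If `f : 𝒳 ⟶ 𝒴` is representable by algebraic spaces and `𝒵` is representable by an algebraic space,
then `𝒵 ×_𝒴 𝒳` is representable by an algebraic space. -/
theorem repByAlgSp_fp_of_repByAlgSp1 {𝒳 𝒴 𝒵 : AlgSt.Cat S} [FibCat.IsFibGrpd 𝒳.p]
    [FibCat.IsFibGrpd 𝒴.p] (f : 𝒳 ⥤ᵇ 𝒴) (g : 𝒵 ⥤ᵇ 𝒴) (hf : AlgSt.RepByAlgSp1 f)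
    (hZ : AlgSt.RepByAlgSp 𝒵) : AlgSt.RepByAlgSp (FibCat.fp g f) := by
  obtain ⟨Z, e, he⟩ := hZ
  let g' : AlgSt.ofSp Z.obj ⥤ᵇ 𝒴 := BasedFunctor.comp e g
  suffices h : AlgSt.RepByAlgSp (FibCat.fp g' f) from
    repByAlgSp_of_equivOver (fp_precomp_left e he g f) h
  haveI : f.toFunctor.Faithful := Groth.Agent.Lib.AlgStRepB.faithful_of_repByAlgSp1 f hf
  haveI : FibCat.IsFibGrpd (FibCat.fp g' f).p := fp_isFibGrpd g' f
  apply repByAlgSp_of_repBy_over_space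
    (fp_isThin_fiber g' f (Groth.Agent.Lib.AlgStRepB.isThin_fiber_ofPsh _)) Z.obj Z.property
    (FibCat.fpFst g' f)
  intro U ξ
  exact repByAlgSp_of_equivOver (fp_pasteLeft ξ g' f).symm (hf U (BasedFunctor.comp ξ g'))

end Groth.Agent.Lib.AlgStBoot
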