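import Groth.Agent.Lib.FpRelDiag
import Groth.Agent.Lib.AlgStAtlas2

/-!
# Cancellation for functors representable by algebraic spaces (helper64)

* `repByAlgSpWith_of_comp_of_diag` : if `f ≫ g` and the diagonal of `g` are representable by
  algebraic spaces with `P`, so is `f` (for `P` iso-invariant, scheme-local, stable under composition).
* `repByAlgSp1_of_comp_of_diag` (= S17265), `isRepresentable1_of_comp_of_diag` (= S17264).
-/

set_option autoImplicit false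
set_option linter.style.haveILetI false
set_option backward.isDefEq.respectTransparency false
set_option backward.isDefEq.respectTransparency.types false

namespace Groth.Agent.Lib.AlgStCancel

open CategoryTheory Functor Opposite Limits AlgebraicGeometry Groth.Agent.Lib.FibGrpd
  Groth.Agent.Lib.FpEquiv Groth.Agent.Lib.EquivOver Groth.Agent.Lib.AlgStFp
  Groth.Agent.Lib.AlgStRep Groth.Agent.Lib.PshFp Groth.Agent.Lib.AlgStSpTest
  Groth.Agent.Lib.FpBaseChange Groth.Agent.Lib.FpRelDiag Groth.Agent.Lib.AlgStEquiv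

universe v u

section FibCat

variable {C : Type u} [Category.{v} C] {𝒳 𝒴 𝒵 : BasedCategory.{v, max u v} C}

/-- = S17264. -/
theorem isRepresentable1_of_comp_of_diag (f : 𝒳 ⥤ᵇ 𝒴) (g : 𝒴 ⥤ᵇ 𝒵)
    (hgf : FibCat.IsRepresentable1 (BasedFunctor.comp f g))
    (hΔ : FibCat.IsRepresentable1 (FibCat.diag g)) : FibCat.IsRepresentable1 f := by
  intro U y
  obtain ⟨V, E, hE⟩ := hgf U (BasedFunctor.comp y g)
  obtain ⟨E', hE'⟩ := isEquivOver_inv hE
  have h1 : FibCat.IsRepresentable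
      (FibCat.fp (BasedFunctor.comp E' (relProdMap y f g)) (FibCat.diag g)) := hΔ V _
  have h2 : FibCat.IsRepresentable (FibCat.fp (relProdMap y f g) (FibCat.diag g)) :=
    (isRepresentable_fp_precomp_left E' hE' _ _).1 h1
  exact isRepresentable_of_isEquivOver (relDiagEquiv_isEquivOver y f g) h2

end FibCat

section AlgSt

variable {S : Scheme.{u}} {𝒳 𝒴 𝒵 : AlgSt.Cat S}

theorem isoInv_top : IsoInv (⊤ : MorphismProperty (AlgSp.Sp S)) := fun _ _ _ _ _ _ _ _ _ => trivial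

theorem schemeLocal_top : SchemeLocal (⊤ : MorphismProperty (AlgSp.Sp S)) :=
  fun _ _ _ _ _ _ => trivial

/-- Cancellation: if `f ≫ g` and the diagonal of `g` are representable by algebraic spaces with
`P`, so is `f`. -/
theorem repByAlgSpWith_of_comp_of_diag [FibCat.IsFibGrpd 𝒴.p] [FibCat.IsFibGrpd 𝒵.p]
    (P : MorphismProperty (AlgSp.Sp S)) (hPi : IsoInv P) (hPl : SchemeLocal P)
    (hPc : ∀ ⦃X Y Z : AlgSp.Sp S⦄, AlgSp.IsAlgSpace X → AlgSp.IsAlgSpace Y → AlgSp.IsAlgSpace Z →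
      ∀ (a : X ⟶ Y) (b : Y ⟶ Z), P a → P b → P (a ≫ b))
    (f : 𝒳 ⥤ᵇ 𝒴) (g : 𝒴 ⥤ᵇ 𝒵) (hgf : AlgSt.RepByAlgSpWith P (BasedFunctor.comp f g))
    (hΔ : AlgSt.RepByAlgSpWith P (FibCat.diag g)) : AlgSt.RepByAlgSpWith P f := by
  intro U y
  obtain ⟨A₀, e₀, he₀, hP₀⟩ := hgf U (BasedFunctor.comp y g)
  haveI : FibCat.IsFibGrpd (FibCat.fp g g).p := fp_isFibGrpd g g
  obtain ⟨V, c, e, he, ⟨γ⟩, hc⟩ := exists_rep_over_space' P hPi hPl (FibCat.diag g) hΔ A₀
    (BasedFunctor.comp e₀ (relProdMap y f g))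
  -- the category `(U ×_𝒵 𝒳) ×_{𝒴 ×_𝒵 𝒴} 𝒴` and its projection to `U`
  let pA : FibCat.fp (relProdMap y f g) (FibCat.diag g) ⥤ᵇ FibCat.overCat U :=
    BasedFunctor.comp (FibCat.fpFst (relProdMap y f g) (FibCat.diag g))
      (FibCat.fpFst (BasedFunctor.comp y g) (BasedFunctor.comp f g))
  haveI : (BasedFunctor.id (FibCat.fp g g)).toFunctor.Full := id_full
  haveI : (BasedFunctor.id (FibCat.fp g g)).toFunctor.Faithful := id_faithful
  let α : BasedFunctor.comp (BasedFunctor.comp e₀ (relProdMap y f g))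
        (BasedFunctor.id (FibCat.fp g g)) ≅
      BasedFunctor.comp e₀ (relProdMap y f g) := Iso.refl _
  let β : BasedFunctor.comp (FibCat.diag g) (BasedFunctor.id (FibCat.fp g g)) ≅
      BasedFunctor.comp (BasedFunctor.id 𝒴) (FibCat.diag g) := Iso.refl _
  let c₂ : FibCat.fp (BasedFunctor.comp e₀ (relProdMap y f g)) (FibCat.diag g) ⥤ᵇ
      FibCat.fp (relProdMap y f g) (FibCat.diag g) :=
    fpMap e₀ (BasedFunctor.id 𝒴) (BasedFunctor.id (FibCat.fp g g)) α β
  have h₂ : FibCat.IsEquivOver c₂ :=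
    fpMap_isEquivOver e₀ (BasedFunctor.id 𝒴) (BasedFunctor.id (FibCat.fp g g)) α β he₀
      isEquivOver_id
  have hA : RepData P pA := by
    refine ⟨V, BasedFunctor.comp e c₂, isEquivOver_comp he h₂, ?_⟩
    have key : AlgSt.spMapOfOver (BasedFunctor.comp (BasedFunctor.comp e c₂) pA) =
        c.hom ≫ AlgSt.spMapOfOver (BasedFunctor.comp e₀
          (FibCat.fpFst (BasedFunctor.comp y g) (BasedFunctor.comp f g))) := by
      rw [← spMapOfOver_ofSpMap_comp]
      exact spMapOfOver_congr (whiskerRightIso γ (BasedFunctor.comp e₀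
        (FibCat.fpFst (BasedFunctor.comp y g) (BasedFunctor.comp f g)))).hom
    rw [key]
    exact hPc V.property A₀.property (AlgSp.IsAlgSpace.yon_obj U) c.hom _ hc hP₀
  exact repData_of_equiv' (relDiagEquiv y f g) (relDiagEquiv_isEquivOver y f g) (Iso.refl _) hA

/-- = S17265. -/
theorem repByAlgSp1_of_comp_of_diag [FibCat.IsFibGrpd 𝒴.p] [FibCat.IsFibGrpd 𝒵.p]
    (f : 𝒳 ⥤ᵇ 𝒴) (g : 𝒴 ⥤ᵇ 𝒵) (hgf : AlgSt.RepByAlgSp1 (BasedFunctor.comp f g))
    (hΔ : AlgSt.RepByAlgSp1 (FibCat.diag g)) : AlgSt.RepByAlgSp1 f := by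
  rw [repByAlgSp1_iff_top] at hgf hΔ ⊢
  exact repByAlgSpWith_of_comp_of_diag ⊤ isoInv_top schemeLocal_top
    (fun _ _ _ _ _ _ _ _ _ _ => trivial) f g hgf hΔ

end AlgSt

end Groth.Agent.Lib.AlgStCancel
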