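import Groth.Prelude.Def_FibCat2
import Groth.Agent.Lib.FibGrpd
import Groth.Agent.Lib.FpEquiv
import Mathlib.CategoryTheory.Limits.Shapes.Pullback.HasPullback
import Mathlib.CategoryTheory.Limits.Shapes.BinaryProducts

/-!
# Slice categories as categories over the base: dictionary with limits of the base (helper64)

* `overMapB t` : the functor `C/U ⟶ C/Y` over `C` of a morphism `t : U ⟶ Y`.
* `overYonedaMor h`, `overYonedaIso h` : every functor `C/U ⟶ C/Y` over `C` is 2-isomorphic to
  `overMapB t` for a unique `t` (2-Yoneda for slices).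
* `sliceFpEquiv` : `C/(U ×_Y X) ≃ C/U ×_{C/Y} C/X` over `C`.
-/

set_option autoImplicit false
set_option linter.style.haveILetI false
set_option backward.isDefEq.respectTransparency false
set_option backward.isDefEq.respectTransparency.types false

namespace Groth.Agent.Lib.SliceFp

open CategoryTheory Functor Limits Groth.Agent.Lib.FibGrpd Groth.Agent.Lib.FpEquiv

universe v u

variable {C : Type u} [Category.{v} C]

/-- The functor `C/U ⟶ C/Y` over `C` induced by `t : U ⟶ Y`. -/
def overMapB {U Y : C} (t : U ⟶ Y) : FibCat.overCat U ⥤ᵇ FibCat.overCat Y :=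
  ⟨Over.map t, Over.mapForget_eq t⟩

@[simp] theorem overMapB_obj_left {U Y : C} (t : U ⟶ Y) (a : Over U) :
    ((overMapB t).obj a).left = a.left := rfl

@[simp] theorem overMapB_obj_hom {U Y : C} (t : U ⟶ Y) (a : Over U) :
    ((overMapB t).obj a).hom = a.hom ≫ t := rfl

@[simp] theorem overMapB_map_left {U Y : C} (t : U ⟶ Y) {a b : Over U} (f : a ⟶ b) :
    ((overMapB t).map f).left = f.left := rfl

section Yoneda

variable {U Y : C} (h : FibCat.overCat U ⥤ᵇ FibCat.overCat Y)

theorem left_eq (a : Over U) : (h.obj a).left = a.left := h.w_obj a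

theorem map_left_eq {a b : Over U} (f : a ⟶ b) :
    (h.map f).left = eqToHom (left_eq h a) ≫ f.left ≫ eqToHom (left_eq h b).symm := by
  exact Functor.congr_hom h.w f

/-- The morphism of `C` classifying a functor `C/U ⟶ C/Y` over `C`. -/
def overYonedaMor : U ⟶ Y :=
  eqToHom (left_eq h (Over.mk (𝟙 U))).symm ≫ (h.obj (Over.mk (𝟙 U))).hom

theorem obj_hom_eq (a : Over U) :
    (h.obj a).hom = eqToHom (left_eq h a) ≫ a.hom ≫ overYonedaMor h := by
  have h1 := Over.w (h.map (Over.homMk a.hom (by simp) : a ⟶ Over.mk (𝟙 U)))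
  rw [map_left_eq] at h1
  rw [← h1]
  simp [overYonedaMor]

/-- The component of the 2-isomorphism `h ≅ overMapB (overYonedaMor h)`. -/
def overYonedaObjIso (a : Over U) : h.obj a ≅ (overMapB (overYonedaMor h)).obj a :=
  Over.isoMk (eqToIso (left_eq h a)) (by
    show eqToHom (left_eq h a) ≫ (a.hom ≫ overYonedaMor h) = (h.obj a).hom
    rw [obj_hom_eq])

theorem overYonedaObjIso_hom_left (a : Over U) :
    (overYonedaObjIso h a).hom.left = eqToHom (left_eq h a) := rfl

/-- Every functor `C/U ⟶ C/Y` over `C` is induced by a morphism `U ⟶ Y` (2-Yoneda for slices). -/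
def overYonedaIso : h ≅ overMapB (overYonedaMor h) :=
  BasedNatIso.mkNatIso
    (NatIso.ofComponents (fun a => overYonedaObjIso h a) (fun {a b} f => by
      apply Over.OverMorphism.ext
      show (h.map f).left ≫ (overYonedaObjIso h b).hom.left =
        (overYonedaObjIso h a).hom.left ≫ f.left
      rw [map_left_eq, overYonedaObjIso_hom_left, overYonedaObjIso_hom_left]
      simp))
    (fun a => by
      apply IsHomLift.of_fac (FibCat.overCat Y).p _ _ (left_eq h a) rfl
      show 𝟙 a.left = eqToHom (left_eq h a).symm ≫ (overYonedaObjIso h a).hom.left ≫ eqToHom rfl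
      rw [overYonedaObjIso_hom_left]
      simp)

end Yoneda

section Pullback

variable {U X Y : C} (s : U ⟶ Y) (f : X ⟶ Y) [HasPullback s f]

/-- The component of the 2-isomorphism used to define `sliceFpFunctor`. -/
noncomputable def sliceFpObjIso (a : Over (pullback s f)) :
    (overMapB s).obj ((overMapB (pullback.fst s f)).obj a) ≅
      (overMapB f).obj ((overMapB (pullback.snd s f)).obj a) :=
  Over.isoMk (Iso.refl a.left) (by
    show 𝟙 a.left ≫ ((a.hom ≫ pullback.snd s f) ≫ f) = (a.hom ≫ pullback.fst s f) ≫ s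
    rw [Category.id_comp, Category.assoc, Category.assoc, pullback.condition])

theorem sliceFpObjIso_hom_left (a : Over (pullback s f)) :
    (sliceFpObjIso s f a).hom.left = 𝟙 a.left := rfl

/-- The 2-isomorphism `overMapB fst ≫ overMapB s ≅ overMapB snd ≫ overMapB f`. -/
noncomputable def sliceFpIso :
    BasedFunctor.comp (overMapB (pullback.fst s f)) (overMapB s) ≅
      BasedFunctor.comp (overMapB (pullback.snd s f)) (overMapB f) :=
  BasedNatIso.mkNatIso
    (NatIso.ofComponents (fun a => sliceFpObjIso s f a) (fun {a b} m => by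
      apply Over.OverMorphism.ext
      show m.left ≫ 𝟙 _ = 𝟙 _ ≫ m.left
      exact (Category.comp_id _).trans (Category.id_comp _).symm))
    (fun a => by
      apply IsHomLift.of_fac (FibCat.overCat Y).p _ _ rfl rfl
      show 𝟙 a.left = eqToHom rfl ≫ (sliceFpObjIso s f a).hom.left ≫ eqToHom rfl
      rw [sliceFpObjIso_hom_left]
      simp)

/-- The comparison functor `C/(U ×_Y X) ⟶ C/U ×_{C/Y} C/X` over `C`. -/
noncomputable def sliceFpFunctor :
    FibCat.overCat (pullback s f) ⥤ᵇ FibCat.fp (overMapB s) (overMapB f) :=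
  FibCat.fpLift (overMapB (pullback.fst s f)) (overMapB (pullback.snd s f)) (sliceFpIso s f)

@[simp] theorem sliceFpFunctor_obj_fst (a : Over (pullback s f)) :
    ((sliceFpFunctor s f).obj a).obj.fst = (overMapB (pullback.fst s f)).obj a := rfl

@[simp] theorem sliceFpFunctor_obj_snd (a : Over (pullback s f)) :
    ((sliceFpFunctor s f).obj a).obj.snd = (overMapB (pullback.snd s f)).obj a := rfl

theorem sliceFpFunctor_obj_iso_hom_left (a : Over (pullback s f)) :
    ((sliceFpFunctor s f).obj a).obj.iso.hom.left = 𝟙 a.left := rfl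

@[simp] theorem sliceFpFunctor_map_fst_left {a b : Over (pullback s f)} (m : a ⟶ b) :
    ((sliceFpFunctor s f).map m).hom.fst.left = m.left := rfl

@[simp] theorem sliceFpFunctor_map_snd_left {a b : Over (pullback s f)} (m : a ⟶ b) :
    ((sliceFpFunctor s f).map m).hom.snd.left = m.left := rfl

theorem sliceFpFunctor_faithful : (sliceFpFunctor s f).toFunctor.Faithful where
  map_injective {a b} m n hmn := by
    apply Over.OverMorphism.ext
    exact congrArg (fun k : (sliceFpFunctor s f).obj a ⟶ (sliceFpFunctor s f).obj b =>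
      k.hom.fst.left) hmn

theorem sliceFpFunctor_full : (sliceFpFunctor s f).toFunctor.Full where
  map_surjective {a b} n := by
    let τ₁ : a.left ⟶ b.left := n.hom.fst.left
    let τ₂ : a.left ⟶ b.left := n.hom.snd.left
    have hw := congrArg (fun k : Over.mk ((a.hom ≫ pullback.fst s f) ≫ s) ⟶
      Over.mk ((b.hom ≫ pullback.snd s f) ≫ f) => k.left) n.hom.w
    have hτ : τ₁ = τ₂ := by
      have : τ₁ ≫ 𝟙 b.left = 𝟙 a.left ≫ τ₂ := hw
      rwa [Category.comp_id, Category.id_comp] at this
    have h1 : τ₁ ≫ (b.hom ≫ pullback.fst s f) = a.hom ≫ pullback.fst s f := Over.w n.hom.fst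
    have h2 : τ₂ ≫ (b.hom ≫ pullback.snd s f) = a.hom ≫ pullback.snd s f := Over.w n.hom.snd
    have hτb : τ₁ ≫ b.hom = a.hom := by
      apply pullback.hom_ext
      · rw [Category.assoc, h1]
      · rw [Category.assoc, hτ, h2]
    refine ⟨Over.homMk τ₁ hτb, ?_⟩
    apply ObjectProperty.hom_ext
    refine Limits.CategoricalPullback.hom_ext ?_ ?_
    · apply Over.OverMorphism.ext
      rfl
    · apply Over.OverMorphism.ext
      exact hτ

theorem sliceFpFunctor_isEquivOver : FibCat.IsEquivOver (sliceFpFunctor s f) := by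
  haveI := sliceFpFunctor_faithful s f
  haveI := sliceFpFunctor_full s f
  apply isEquivOver_of_ff_of_ess
  intro z
  let u : Over U := z.obj.fst
  let x : Over X := z.obj.snd
  let φ : (overMapB s).obj u ≅ (overMapB f).obj x := z.obj.iso
  have hφ : φ.hom.left ≫ (x.hom ≫ f) = u.hom ≫ s := Over.w φ.hom
  let l : u.left ⟶ pullback s f :=
    pullback.lift u.hom (φ.hom.left ≫ x.hom) (by rw [Category.assoc, hφ])
  let a : Over (pullback s f) := Over.mk l
  let m₁ : ((sliceFpFunctor s f).obj a).obj.fst ⟶ u :=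
    Over.homMk (𝟙 u.left) (by
      show 𝟙 u.left ≫ u.hom = l ≫ pullback.fst s f
      rw [Category.id_comp, pullback.lift_fst])
  let m₂ : ((sliceFpFunctor s f).obj a).obj.snd ⟶ x :=
    Over.homMk φ.hom.left (by
      show φ.hom.left ≫ x.hom = l ≫ pullback.snd s f
      rw [pullback.lift_snd])
  have hw : (overMapB s).map m₁ ≫ φ.hom =
      ((sliceFpFunctor s f).obj a).obj.iso.hom ≫ (overMapB f).map m₂ := by
    apply Over.OverMorphism.ext
    show 𝟙 u.left ≫ φ.hom.left = 𝟙 u.left ≫ φ.hom.left
    rfl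
  let m : (sliceFpFunctor s f).obj a ⟶ z :=
    ObjectProperty.homMk { fst := m₁, snd := m₂, w := hw }
  have hml : (FibCat.fp (overMapB s) (overMapB f)).p.IsHomLift (𝟙 u.left) m := by
    rw [fp_isHomLift_iff]
    apply IsHomLift.of_fac (FibCat.overCat U).p _ _ rfl rfl
    show 𝟙 u.left = eqToHom rfl ≫ 𝟙 u.left ≫ eqToHom rfl
    simp
  haveI : FibCat.IsFibGrpd (FibCat.fp (overMapB s) (overMapB f)).p :=
    fp_isFibGrpd (overMapB s) (overMapB f)
  haveI : IsIso m :=
    isIso_of_isHomLift_isIso (FibCat.fp (overMapB s) (overMapB f)).p (𝟙 u.left) m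
  exact ⟨a, asIso m, hml⟩

/-- `C/(U ×_Y X)` represents `C/U ×_{C/Y} C/X`. -/
theorem isRepresentable_fp_overMapB :
    FibCat.IsRepresentable (FibCat.fp (overMapB s) (overMapB f)) := by
  obtain ⟨E, hE⟩ := isEquivOver_inv (sliceFpFunctor_isEquivOver s f)
  exact ⟨pullback s f, E, hE⟩

end Pullback

section YonedaMore

variable {U Y Z : C}

theorem app_left_eq {h h₂ : FibCat.overCat U ⥤ᵇ FibCat.overCat Y} (γ : h ⟶ h₂) (a : Over U) :
    (γ.toNatTrans.app a).left = eqToHom ((left_eq h a).trans (left_eq h₂ a).symm) := by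
  have h1 : (FibCat.overCat Y).p.IsHomLift (𝟙 a.left) (γ.toNatTrans.app a) := γ.isHomLift' a
  have := IsHomLift.fac' (FibCat.overCat Y).p (𝟙 a.left) (γ.toNatTrans.app a)
  have e : (γ.toNatTrans.app a).left = eqToHom (left_eq h a) ≫ 𝟙 a.left ≫
      eqToHom (left_eq h₂ a).symm := this
  rw [e]
  simp

/-- The classifying morphism only depends on the 2-isomorphism class. -/
theorem overYonedaMor_congr {h h₂ : FibCat.overCat U ⥤ᵇ FibCat.overCat Y} (γ : h ⟶ h₂) :
    overYonedaMor h = overYonedaMor h₂ := by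
  have h1 := Over.w (γ.toNatTrans.app (Over.mk (𝟙 U)))
  rw [app_left_eq] at h1
  unfold overYonedaMor
  rw [← h1]
  simp

@[simp] theorem overYonedaMor_overMapB (t : U ⟶ Y) : overYonedaMor (overMapB t) = t := by
  show eqToHom rfl ≫ (𝟙 U ≫ t) = t
  simp

@[simp] theorem overYonedaMor_id : overYonedaMor (BasedFunctor.id (FibCat.overCat U)) = 𝟙 U := by
  show eqToHom rfl ≫ 𝟙 U = 𝟙 U
  simp

theorem overYonedaMor_comp_overMapB (t : U ⟶ Y) (t' : Y ⟶ Z) :
    overYonedaMor (BasedFunctor.comp (overMapB t) (overMapB t')) = t ≫ t' := by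
  show eqToHom rfl ≫ ((𝟙 U ≫ t) ≫ t') = t ≫ t'
  simp

end YonedaMore

end Groth.Agent.Lib.SliceFp
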