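import Groth.Agent.Lib.AlgStRepStack
import Groth.Agent.Lib.SliceFp

/-!
# Lifting smooth surjective charts along a morphism of algebraic stacks (helper64)

`exists_smooth_surjective_chart_over` (= S12773).
-/

set_option autoImplicit false
set_option linter.style.haveILetI false
set_option backward.isDefEq.respectTransparency false
set_option backward.isDefEq.respectTransparency.types false

namespace Groth.Agent.Lib.AlgStChartOver

open CategoryTheory Functor Opposite Limits AlgebraicGeometry Groth.Agent.Lib.FibGrpd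
  Groth.Agent.Lib.FpEquiv Groth.Agent.Lib.EquivOver Groth.Agent.Lib.AlgStFp
  Groth.Agent.Lib.AlgStRep Groth.Agent.Lib.AlgStSpTest Groth.Agent.Lib.AlgStEquiv
  Groth.Agent.Lib.AlgStAtlas Groth.Agent.Lib.AlgStFpStack Groth.Agent.Lib.AlgStRepStack
  Groth.Agent.Lib.SliceFp

universe u

variable {S : Scheme.{u}}

/-- For an atlas class `P`: given `f : 𝒳 ⟶ 𝒴`, a chart `y : (Sch/V) ⟶ 𝒴` with `P` and surjective,
and a `P`-atlas of `(Sch/V) ×_𝒴 𝒳`, there is a chart of `𝒳` with `P` and surjective lying over `y`. -/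
theorem exists_chart_over_of_atlas (P : MorphismProperty (AlgSp.Sp S)) (hP : AtlasClass P)
    {𝒳 𝒴 : AlgSt.Cat S} [FibCat.IsFibGrpd 𝒳.p] [FibCat.IsFibGrpd 𝒴.p]
    (f : 𝒳 ⥤ᵇ 𝒴) (V : Over S) (y : FibCat.overCat V ⥤ᵇ 𝒴)
    (hy : AlgSt.RepByAlgSpWith P y) (hy' : AlgSt.RepByAlgSpWith AlgSp.IsSurjectiveMor y)
    (hW : AlgSt.HasAtlas P (FibCat.fp y f)) :
    ∃ (U : Over S) (a : U ⟶ V) (x : FibCat.overCat U ⥤ᵇ 𝒳),
      AlgSt.RepByAlgSpWith P x ∧ AlgSt.RepByAlgSpWith AlgSp.IsSurjectiveMor x ∧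
        Nonempty (BasedFunctor.comp x f ≅ BasedFunctor.comp (AlgSt.overMap a) y) := by
  haveI : FibCat.IsFibGrpd (FibCat.fp y f).p := fp_isFibGrpd y f
  obtain ⟨U, w, hw, hws⟩ := hW
  refine ⟨U, overYonedaMor (BasedFunctor.comp w (FibCat.fpFst y f)),
    BasedFunctor.comp w (FibCat.fpSnd y f), ?_, ?_, ⟨?_⟩⟩
  · exact repByAlgSpWith_comp _ hP.isoInv hP.atlasLocal hP.comp w (FibCat.fpSnd y f) hw
      (Groth.Agent.Lib.AlgStRepC.repByAlgSpWith_fpSnd _ y f hy)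
  · exact repByAlgSpWith_comp _ atlasClass_isSurjectiveMor.isoInv
      atlasClass_isSurjectiveMor.atlasLocal atlasClass_isSurjectiveMor.comp w (FibCat.fpSnd y f) hws
      (Groth.Agent.Lib.AlgStRepC.repByAlgSpWith_fpSnd _ y f hy')
  · exact whiskerLeftIso w (FibCat.fpIso y f).symm ≪≫
      whiskerRightIso (overYonedaIso (BasedFunctor.comp w (FibCat.fpFst y f))) y

/-- = S12773. -/
theorem exists_smooth_surjective_chart_over {𝒳 𝒴 : AlgSt.Cat S}
    (h𝒳 : AlgSt.IsAlgStack Scheme.fppfPrecoverage 𝒳) (h𝒴 : AlgSt.IsAlgStack Scheme.fppfPrecoverage 𝒴)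
    (f : 𝒳 ⥤ᵇ 𝒴) (V : Over S) (y : FibCat.overCat V ⥤ᵇ 𝒴)
    (hy : AlgSt.RepByAlgSpWith (AlgSp.LocP @Smooth) y)
    (hy' : AlgSt.RepByAlgSpWith AlgSp.IsSurjectiveMor y) :
    ∃ (U : Over S) (a : U ⟶ V) (x : FibCat.overCat U ⥤ᵇ 𝒳),
      AlgSt.RepByAlgSpWith (AlgSp.LocP @Smooth) x ∧ AlgSt.RepByAlgSpWith AlgSp.IsSurjectiveMor x ∧
        Nonempty (BasedFunctor.comp x f ≅ BasedFunctor.comp (AlgSt.overMap a) y) := by
  haveI : FibCat.IsFibGrpd 𝒳.p := h𝒳.isStack.1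
  haveI : FibCat.IsFibGrpd 𝒴.p := h𝒴.isStack.1
  have hV : AlgSt.IsDM Scheme.fppfPrecoverage (FibCat.overCat V) :=
    isDM_of_repByAlgSp (repByAlgSp_overCat V)
  exact exists_chart_over_of_atlas _ atlasClass_locP_smooth f V y hy hy'
    (isAlgStack_fp h𝒴.isStack h𝒴.diag hV.1 h𝒳 y f).atlas

end Groth.Agent.Lib.AlgStChartOver
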