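import Groth.Agent.Lib.AlgStLocQCover

/-!
# Jointly surjective families of flat lfp morphisms of algebraic stacks (helper36)

* `exists_flatLfp_chart_of_locQ` : a smooth surjective scheme chart `x : U ⟶ 𝒵` of the source such
  that `x ≫ z` is representable, flat and lfp.
* `exists_fppf_covering_lift` (= S13022).
-/

set_option autoImplicit false
set_option linter.style.haveILetI false
set_option backward.isDefEq.respectTransparency false
set_option backward.isDefEq.respectTransparency.types false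

namespace Groth.Agent.Lib.AlgStLocQFamily

open CategoryTheory Functor Opposite Limits AlgebraicGeometry Groth.Agent.Lib.FibGrpd
  Groth.Agent.Lib.FpEquiv Groth.Agent.Lib.EquivOver Groth.Agent.Lib.AlgStFp
  Groth.Agent.Lib.AlgStRep Groth.Agent.Lib.AlgStSpTest Groth.Agent.Lib.AlgStEquiv
  Groth.Agent.Lib.AlgStAtlas Groth.Agent.Lib.AlgStRepStack Groth.Agent.Lib.AlgSpLocP
  Groth.Agent.Lib.AlgStSrcLocal Groth.Agent.Lib.AlgStSmoothLocal Groth.Agent.Lib.AlgStNoeth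
  Groth.Agent.Lib.PshFp Groth.Agent.Lib.FpBaseChange Groth.Agent.Lib.AlgStLocQ
  Groth.Agent.Lib.AlgStPts Groth.Agent.Lib.AlgStPtsQC Groth.Agent.Lib.AlgStPtsQC2
  Groth.Agent.Lib.AlgStPtsSurj Groth.Agent.Lib.AlgStPtsMain Groth.Agent.Lib.AlgStPtsTop
  Groth.Agent.Lib.AlgSpSmoothLocalST Groth.Agent.Lib.AlgStLocQPts AlgSt

universe u

variable {S : Scheme.{u}} {𝒳 𝒴 𝒵 : AlgSt.Cat S}

/-- A flat, lfp morphism of algebraic stacks: a smooth surjective chart of the source whose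
composite with the morphism is representable, flat and lfp. -/
theorem exists_flatLfp_chart_of_locQ (h𝒵 : AlgSt.IsAlgStack Scheme.fppfPrecoverage 𝒵)
    (h𝒴 : AlgSt.IsAlgStack Scheme.fppfPrecoverage 𝒴) (z : 𝒵 ⥤ᵇ 𝒴)
    (hz₁ : AlgSt.LocQ (AlgSp.LocP @Flat) z)
    (hz₂ : AlgSt.LocQ (AlgSp.LocP @LocallyOfFinitePresentation) z) :
    ∃ (U : Over S) (x : FibCat.overCat U ⥤ᵇ 𝒵),
      AlgSt.RepByAlgSpWith (AlgSp.LocP @Smooth) x ∧ AlgSt.RepByAlgSpWith AlgSp.IsSurjectiveMor x ∧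
      AlgSt.RepByAlgSpWith (AlgSp.LocP @Flat) (BasedFunctor.comp x z) ∧
      AlgSt.RepByAlgSpWith (AlgSp.LocP @LocallyOfFinitePresentation) (BasedFunctor.comp x z) := by
  haveI : FibCat.IsFibGrpd 𝒵.p := h𝒵.isStack.1
  haveI : FibCat.IsFibGrpd 𝒴.p := h𝒴.isStack.1
  obtain ⟨U, V, x, y, h, α, hx, hxs, hy, -, -, hfl, hlfp⟩ :=
    exists_square_of_locQ₂ isSmoothLocalST_locP_flat isSmoothLocalST_locP_lfp h𝒵 h𝒴 z hz₁ hz₂
  haveI : FibCat.IsFibGrpd (FibCat.overCat V).p := overCat_isFibGrpd V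
  haveI : FibCat.IsFibGrpd (FibCat.overCat U).p := overCat_isFibGrpd U
  have hyfl := flatLfp_repByAlgSpWith_of_smooth y hy
  have h1 : AlgSt.RepByAlgSpWith (AlgSp.LocP @Flat) (BasedFunctor.comp (AlgSt.overMap h) y) :=
    repByAlgSpWith_comp _ atlasClass_locP_flat.isoInv atlasClass_locP_flat.atlasLocal
      atlasClass_locP_flat.comp _ y
      (repByAlgSpWith_overMap _ atlasClass_locP_flat.baseChange h hfl) hyfl.1
  have h2 : AlgSt.RepByAlgSpWith (AlgSp.LocP @LocallyOfFinitePresentation)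
      (BasedFunctor.comp (AlgSt.overMap h) y) :=
    repByAlgSpWith_comp _ atlasClass_locP_lfp.isoInv atlasClass_locP_lfp.atlasLocal
      atlasClass_locP_lfp.comp _ y
      (repByAlgSpWith_overMap _ atlasClass_locP_lfp.baseChange h hlfp) hyfl.2
  exact ⟨U, x, hx, hxs, (Groth.Agent.Lib.AlgStDiag3.repByAlgSpWith_congr _ α).1 h1,
    (Groth.Agent.Lib.AlgStDiag3.repByAlgSpWith_congr _ α).1 h2⟩

theorem points_map_yon_map_schemeHomeo {W V : Over S} (h : W ⟶ V) (t : ↥W.left) :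
    AlgSp.Points.map ((AlgSp.yon S).map h) (AlgSp.Points.schemeHomeo W t) =
      AlgSp.Points.schemeHomeo V (h.left t) := by
  have h1 := Groth.Agent.Lib.H86AlgSpPoints.ofPt_yon_map h t
  rw [AlgSp.Points.ofPt_eq_map_ofScheme] at h1
  exact h1

/-- One member of the family: a flat lfp morphism of schemes `W ⟶ U` with a lift, hitting every
point of `U` whose image lies in the image of `|𝒵| ⟶ |𝒴|`. -/
theorem exists_lift_of_locQ (h𝒵 : AlgSt.IsAlgStack Scheme.fppfPrecoverage 𝒵)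
    (h𝒴 : AlgSt.IsAlgStack Scheme.fppfPrecoverage 𝒴) (z : 𝒵 ⥤ᵇ 𝒴)
    (hz₁ : AlgSt.LocQ (AlgSp.LocP @Flat) z)
    (hz₂ : AlgSt.LocQ (AlgSp.LocP @LocallyOfFinitePresentation) z)
    (U : Over S) (x : FibCat.overCat U ⥤ᵇ 𝒴) :
    ∃ (W : Over S) (g : W ⟶ U) (x' : FibCat.overCat W ⥤ᵇ 𝒵),
      Flat g.left ∧ LocallyOfFinitePresentation g.left ∧
      Nonempty (BasedFunctor.comp x' z ≅ BasedFunctor.comp (AlgSt.overMap g) x) ∧
      ∀ u : ↥U.left, Points.ofChart x u ∈ Set.range (Points.map z) → u ∈ Set.range g.left := by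
  haveI : FibCat.IsFibGrpd 𝒵.p := h𝒵.isStack.1
  haveI h𝒴' : FibCat.IsFibGrpd 𝒴.p := h𝒴.isStack.1
  obtain ⟨Uj, xj, hx, hxs, hw₁, hw₂⟩ := exists_flatLfp_chart_of_locQ h𝒵 h𝒴 z hz₁ hz₂
  have hw : RepByAlgSpWith FlatLfp (BasedFunctor.comp xj z) := repByAlgSpWith_flatLfp _ hw₁ hw₂
  let yj : ofSp ((AlgSp.yon S).obj Uj) ⥤ᵇ 𝒴 :=
    BasedFunctor.comp (toOverCat Uj) (BasedFunctor.comp xj z)
  have hyj : RepByAlgSpWith FlatLfp yj :=
    (repByAlgSpWith_equiv_comp_iff _ (toOverCat Uj) (toOverCat_isEquivOver Uj) _).1 hw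
  let zz : ofSp ((AlgSp.yon S).obj U) ⥤ᵇ 𝒴 := BasedFunctor.comp (toOverCat U) x
  obtain ⟨R, D, hDa⟩ := exists_fpRep FlatLfp isoInv_flatLfp atlasLocal_flatLfp yj hyj
    ⟨_, AlgSp.IsAlgSpace.yon_obj U⟩ zz
  obtain ⟨W, c, hce, hcs⟩ := R.property.atlas
  let g : W ⟶ U := (AlgSp.yon S).preimage (c ≫ D.a)
  have hg : (AlgSp.yon S).map g = c ≫ D.a := Functor.map_preimage _ _
  have hgfl : Flat g.left := by
    apply AlgSp.locP_yon_map (P := @Flat)
    rw [hg]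
    exact locP_comp_of_etale _ c hce D.a hDa.1
  have hglfp : LocallyOfFinitePresentation g.left := by
    apply AlgSp.locP_yon_map (P := @LocallyOfFinitePresentation)
    rw [hg]
    exact locP_comp_of_etale _ c hce D.a hDa.2
  let x' : FibCat.overCat W ⥤ᵇ 𝒵 :=
    BasedFunctor.comp (ofOverCat W)
      (BasedFunctor.comp (ofSpMap (c ≫ D.b)) (BasedFunctor.comp (toOverCat Uj) xj))
  let pre : FibCat.overCat W ⥤ᵇ ofSp R.obj := BasedFunctor.comp (ofOverCat W) (ofSpMap c)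
  have e0 : BasedFunctor.comp x' z = BasedFunctor.comp pre (BasedFunctor.comp (ofSpMap D.b) yj) :=
    rfl
  have e1 : BasedFunctor.comp pre (BasedFunctor.comp (ofSpMap D.a) zz) =
      BasedFunctor.comp (AlgSt.overMap g) x := by
    rw [overMap_eq, hg]
    rfl
  let ι : BasedFunctor.comp x' z ≅ BasedFunctor.comp (AlgSt.overMap g) x :=
    eqToIso e0 ≪≫ whiskerLeftIso pre (whiskerRightIso D.ib.symm yj) ≪≫
      whiskerLeftIso (BasedFunctor.comp pre D.e) (FibCat.fpIso zz yj).symm ≪≫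
      whiskerLeftIso pre (whiskerRightIso D.ia zz) ≪≫ eqToIso e1
  refine ⟨W, g, x', hgfl, hglfp, ⟨ι⟩, ?_⟩
  rintro u ⟨ξ, hξ⟩
  obtain ⟨t, rfl⟩ := surjective_ofChart xj hxs ξ
  have heq : ptsMap zz (AlgSp.Points.schemeHomeo U u) =
      ptsMap yj (AlgSp.Points.schemeHomeo Uj t) := hξ.symm
  obtain ⟨r, hr, -⟩ := D.exists_of_eq h𝒴' _ _ heq
  obtain ⟨r', rfl⟩ := Groth.Agent.Lib.H86AlgSpPoints.map_surjective_of_repWith hcs r
  obtain ⟨w, rfl⟩ := (AlgSp.Points.schemeHomeo W).surjective r'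
  refine ⟨w, ?_⟩
  apply (AlgSp.Points.schemeHomeo U).injective
  rw [← points_map_yon_map_schemeHomeo, hg, AlgSp.Points.map_comp]
  exact hr

/-- = S13022 -/
theorem exists_fppf_covering_lift (h𝒳 : AlgSt.IsAlgStack Scheme.fppfPrecoverage 𝒳)
    (J : Type u) (𝒳' : J → AlgSt.Cat S)
    (h𝒳' : ∀ j, AlgSt.IsAlgStack Scheme.fppfPrecoverage (𝒳' j)) (f : ∀ j, 𝒳' j ⥤ᵇ 𝒳)
    (hf₁ : ∀ j, AlgSt.LocQ (AlgSp.LocP @Flat) (f j))
    (hf₂ : ∀ j, AlgSt.LocQ (AlgSp.LocP @LocallyOfFinitePresentation) (f j))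
    (hf₃ : ∀ p : AlgSt.Points 𝒳, ∃ j, p ∈ Set.range (AlgSt.Points.map (f j)))
    (U : Over S) (x : FibCat.overCat U ⥤ᵇ 𝒳) :
    ∃ (ι : Type u) (V : ι → Over S) (g : ∀ i, V i ⟶ U) (c : ι → J),
      (Presieve.ofArrows (fun i ↦ (V i).left) fun i ↦ (g i).left) ∈
        Scheme.fppfPrecoverage U.left ∧
      ∀ i, ∃ x' : FibCat.overCat (V i) ⥤ᵇ 𝒳' (c i),
        Nonempty (BasedFunctor.comp x' (f (c i)) ≅ BasedFunctor.comp (AlgSt.overMap (g i)) x) := by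
  choose W g x' hfl hlfp hiso hsurj using
    fun j => exists_lift_of_locQ (h𝒳' j) h𝒳 (f j) (hf₁ j) (hf₂ j) U x
  refine ⟨J, W, g, id, ?_, fun j => ⟨x' j, hiso j⟩⟩
  refine (Scheme.ofArrows_mem_precoverage_iff (@Flat ⊓ @LocallyOfFinitePresentation)
    (X := fun k => (W k).left) (f := fun k => (g k).left)).2 ⟨?_, fun k => ⟨hfl k, hlfp k⟩⟩
  intro u
  obtain ⟨j, hj⟩ := hf₃ (Points.ofChart x u)
  exact ⟨j, hsurj j u hj⟩

end Groth.Agent.Lib.AlgStLocQFamily
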