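import Groth.Agent.Lib.AlgStOpenSub2
import Groth.Agent.Lib.AlgStLocQFamily
import Groth.Agent.Lib.H69AlgSp

/-!
# Closed substacks and reduced stacks (helper36)

ns `Groth.Agent.Lib.AlgStClosedSub`

* `mem_of_forall_mem_sieve` : membership in a strictly full substack is local for the topology.
* `forall_obj_of_isIso`, `isIso_of_closedImm_surj_reduced`, `forall_obj_of_isClosedImm_of_isReduced`
* `exists_lift_of_chart`
* `forall_obj_of_range_subset` (= S12866 (⇐)).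
-/

set_option autoImplicit false
set_option linter.style.haveILetI false
set_option backward.isDefEq.respectTransparency false
set_option backward.isDefEq.respectTransparency.types false

namespace Groth.Agent.Lib.AlgStClosedSub

open CategoryTheory CategoryTheory.Limits AlgebraicGeometry Opposite AlgSt
  Groth.Agent.Lib.H78AlgStPoints Groth.Agent.Lib.H78AlgStPointsFp Groth.Agent.Lib.AlgStPts
  Groth.Agent.Lib.AlgStPtsTop Groth.Agent.Lib.AlgStPtsSurj Groth.Agent.Lib.AlgStPtsMain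
  Groth.Agent.Lib.AlgStPtsQC Groth.Agent.Lib.AlgStPtsQC2
  Groth.Agent.Lib.FibGrpd Groth.Agent.Lib.AlgStFp Groth.Agent.Lib.AlgStEquiv
  Groth.Agent.Lib.FpEquiv Groth.Agent.Lib.FibYoneda Groth.Agent.Lib.AlgStOpenSub

universe u

variable {S : Scheme.{u}} {𝒳 𝒴 : AlgSt.Cat S}

/-- **Membership in a strictly full substack is local.** -/
theorem mem_of_forall_mem_sieve (h𝒳 : Stk.IsStack (AlgSp.J S) 𝒳) {Q : 𝒳.obj → Prop}
    (hc : ObjectProperty.IsClosedUnderIsomorphisms Q)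
    (hQ : Stk.IsStack (AlgSp.J S) (fullSub 𝒳 Q)) {T₀ : Over S} (g₀ : FibCat.overCat T₀ ⥤ᵇ 𝒳)
    (R : Sieve T₀) (hR : R ∈ AlgSp.J S T₀) (h : ∀ b : Over T₀, R b.hom → Q (g₀.obj b)) :
    Q (g₀.obj (overTop T₀)) := by
  let D : Stk.sieveCat R ⥤ᵇ fullSub 𝒳 Q :=
    { toFunctor := ObjectProperty.lift Q (BasedFunctor.comp (Stk.sieveIncl R) g₀).toFunctor
        (fun a => h a.obj a.property)
      w := (BasedFunctor.comp (Stk.sieveIncl R) g₀).w }
  haveI hst : (Stk.resSieve R (fullSub 𝒳 Q)).IsEquivalence := hQ.2 R hR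
  haveI hst' : (Stk.resSieve R 𝒳).IsEquivalence := h𝒳.2 R hR
  let H := (Stk.resSieve R (fullSub 𝒳 Q)).objPreimage D
  let η : (Stk.resSieve R (fullSub 𝒳 Q)).obj H ≅ D :=
    (Stk.resSieve R (fullSub 𝒳 Q)).objObjPreimageIso D
  have η' : (Stk.resSieve R 𝒳).obj (BasedFunctor.comp H (subIncl 𝒳 Q)) ≅
      (Stk.resSieve R 𝒳).obj g₀ := whiskerRightIso η (subIncl 𝒳 Q)
  let θ : BasedFunctor.comp H (subIncl 𝒳 Q) ≅ g₀ := (Stk.resSieve R 𝒳).preimageIso η'
  exact hc.of_iso (appIso θ (overTop T₀)) (H.obj (overTop T₀)).property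


/-- If a representing space of `(Sch/U) ×_𝒳 Q` maps isomorphically to `U`, then the chart takes all
its values in `Q`. -/
theorem forall_obj_of_isIso [FibCat.IsFibGrpd 𝒳.p] {Q : 𝒳.obj → Prop} (hQ : PbStable Q)
    {U : Over S} (g : FibCat.overCat U ⥤ᵇ 𝒳) {F : AlgSp.Sp S}
    (e : ofSp F ⥤ᵇ FibCat.fp g (subIncl 𝒳 Q)) (he : FibCat.IsEquivOver e)
    (hiso : IsIso (spMapOfOver (BasedFunctor.comp e (FibCat.fpFst g (subIncl 𝒳 Q)))))
    (a : Over U) : Q (g.obj a) := by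
  set Φ := BasedFunctor.comp e (FibCat.fpFst g (subIncl 𝒳 Q)) with hΦ
  obtain ⟨γ⟩ := Groth.Agent.Lib.AlgStDiagDict.nonempty_iso_ofSpMap_toOverCat Φ
  have hΦe : FibCat.IsEquivOver Φ :=
    isEquivOver_of_iso γ (isEquivOver_comp
      (Groth.Agent.Lib.AlgStDiagSch.ofSpMap_isEquivOver (asIso (spMapOfOver Φ)))
      (toOverCat_isEquivOver U))
  obtain ⟨-, -, hess⟩ := ff_ess_of_isEquivOver Φ hΦe
  obtain ⟨ξ, ε, -⟩ := hess (overTop U)
  let z := e.obj ξ
  have hz : Q z.obj.snd.obj := z.obj.snd.property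
  have ε' : z.obj.fst ≅ overTop U := ε
  exact hQ (g.map (toOverTop U a) ≫ g.map ε'.inv ≫ z.obj.iso.hom) hz

/-- A surjective closed immersion into a reduced scheme is an isomorphism (sheaf version). -/
theorem isIso_of_closedImm_surj_reduced {F : AlgSp.Sp S} {U : Over S} [IsReduced U.left]
    {m : F ⟶ (AlgSp.yon S).obj U} (hm : AlgSp.RepWith @IsClosedImmersion m)
    (hs : Function.Surjective (AlgSp.Points.map m)) : IsIso m := by
  have sq := hm.rep.isPullback (𝟙 ((AlgSp.yon S).obj U))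
  haveI : IsIso (hm.rep.fst (𝟙 ((AlgSp.yon S).obj U))) := sq.isIso_fst_of_isIso
  haveI hci : IsClosedImmersion (hm.rep.snd (𝟙 ((AlgSp.yon S).obj U))).left :=
    hm.property_snd (𝟙 _)
  haveI hsurj : Surjective (hm.rep.snd (𝟙 ((AlgSp.yon S).obj U))).left := ⟨fun t => by
    have h1 := Groth.Agent.Lib.H86AlgSpSub.range_left_eq_preimage sq
    rw [hs.range_eq, Set.preimage_univ] at h1
    exact Set.range_eq_univ.1 h1 t⟩
  haveI : IsIso (hm.rep.snd (𝟙 ((AlgSp.yon S).obj U))).left :=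
    isIso_of_isClosedImmersion_of_surjective _
  haveI : IsIso ((Over.forget S).map (hm.rep.snd (𝟙 ((AlgSp.yon S).obj U)))) := ‹_›
  haveI : IsIso (hm.rep.snd (𝟙 ((AlgSp.yon S).obj U))) :=
    isIso_of_reflects_iso _ (Over.forget S)
  have h2 : m = inv (hm.rep.fst (𝟙 _)) ≫ (AlgSp.yon S).map (hm.rep.snd (𝟙 _)) := by
    rw [IsIso.eq_inv_comp, sq.w, Category.comp_id]
  rw [h2]
  infer_instance

/-- A chart from a reduced scheme all of whose points land in a closed substack factors through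
it. -/
theorem forall_obj_of_isClosedImm_of_isReduced [FibCat.IsFibGrpd 𝒳.p] {Q : 𝒳.obj → Prop}
    (hQ : PbStable Q) (hj : IsClosedImm (subIncl 𝒳 Q)) {U : Over S} [IsReduced U.left]
    (g : FibCat.overCat U ⥤ᵇ 𝒳)
    (hg : ∀ t, Points.ofChart g t ∈ Set.range (Points.map (subIncl 𝒳 Q))) (a : Over U) :
    Q (g.obj a) := by
  haveI := fullSub_isFibGrpd hQ
  obtain ⟨F, e, he, hm⟩ := hj U g
  refine forall_obj_of_isIso hQ g e he (isIso_of_closedImm_surj_reduced hm ?_) a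
  intro v
  obtain ⟨t, rfl⟩ := (AlgSp.Points.schemeHomeo U).surjective v
  exact (ofChart_mem_range_iff (subIncl 𝒳 Q) g e he t).1 (hg t)


/-- Lifting a chart `x` of `𝒴` fppf-locally through a flat, lfp chart `v`. -/
theorem exists_lift_of_chart [h𝒴' : FibCat.IsFibGrpd 𝒴.p] {V : Over S}
    (v : FibCat.overCat V ⥤ᵇ 𝒴) (hv₁ : RepByAlgSpWith (AlgSp.LocP @Flat) v)
    (hv₂ : RepByAlgSpWith (AlgSp.LocP @LocallyOfFinitePresentation) v)
    (U : Over S) (x : FibCat.overCat U ⥤ᵇ 𝒴) :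
    ∃ (W : Over S) (g : W ⟶ U) (x' : FibCat.overCat W ⥤ᵇ FibCat.overCat V),
      Flat g.left ∧ LocallyOfFinitePresentation g.left ∧
      Nonempty (BasedFunctor.comp x' v ≅ BasedFunctor.comp (AlgSt.overMap g) x) ∧
      ∀ u : ↥U.left, Points.ofChart x u ∈ Set.range (Points.ofChart v) → u ∈ Set.range g.left := by
  have hw : RepByAlgSpWith FlatLfp v := repByAlgSpWith_flatLfp _ hv₁ hv₂
  let yj : ofSp ((AlgSp.yon S).obj V) ⥤ᵇ 𝒴 := BasedFunctor.comp (toOverCat V) v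
  have hyj : RepByAlgSpWith FlatLfp yj :=
    (repByAlgSpWith_equiv_comp_iff _ (toOverCat V) (toOverCat_isEquivOver V) _).1 hw
  let zz : ofSp ((AlgSp.yon S).obj U) ⥤ᵇ 𝒴 := BasedFunctor.comp (toOverCat U) x
  obtain ⟨R, D, hDa⟩ := exists_fpRep FlatLfp isoInv_flatLfp atlasLocal_flatLfp yj hyj
    ⟨_, AlgSp.IsAlgSpace.yon_obj U⟩ zz
  obtain ⟨W, c, hce, hcs⟩ := R.property.atlas
  let g : W ⟶ U := (AlgSp.yon S).preimage (c ≫ D.a)
  have hg : (AlgSp.yon S).map g = c ≫ D.a := Functor.map_preimage _ _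
  have hgfl : Flat g.left := by
    apply AlgSp.locP_yon_map (P := @Flat)
    rw [hg]
    exact Groth.Agent.Lib.AlgSpLocP.locP_comp_of_etale _ c hce D.a hDa.1
  have hglfp : LocallyOfFinitePresentation g.left := by
    apply AlgSp.locP_yon_map (P := @LocallyOfFinitePresentation)
    rw [hg]
    exact Groth.Agent.Lib.AlgSpLocP.locP_comp_of_etale _ c hce D.a hDa.2
  let x' : FibCat.overCat W ⥤ᵇ FibCat.overCat V :=
    BasedFunctor.comp (ofOverCat W) (BasedFunctor.comp (ofSpMap (c ≫ D.b)) (toOverCat V))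
  let pre : FibCat.overCat W ⥤ᵇ ofSp R.obj := BasedFunctor.comp (ofOverCat W) (ofSpMap c)
  have e0 : BasedFunctor.comp x' v = BasedFunctor.comp pre (BasedFunctor.comp (ofSpMap D.b) yj) :=
    rfl
  have e1 : BasedFunctor.comp pre (BasedFunctor.comp (ofSpMap D.a) zz) =
      BasedFunctor.comp (AlgSt.overMap g) x := by
    rw [overMap_eq, hg]
    rfl
  let ι : BasedFunctor.comp x' v ≅ BasedFunctor.comp (AlgSt.overMap g) x :=
    eqToIso e0 ≪≫ whiskerLeftIso pre (whiskerRightIso D.ib.symm yj) ≪≫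
      whiskerLeftIso (BasedFunctor.comp pre D.e) (FibCat.fpIso zz yj).symm ≪≫
      whiskerLeftIso pre (whiskerRightIso D.ia zz) ≪≫ eqToIso e1
  refine ⟨W, g, x', hgfl, hglfp, ⟨ι⟩, ?_⟩
  rintro u ⟨t, ht⟩
  have heq : ptsMap zz (AlgSp.Points.schemeHomeo U u) =
      ptsMap yj (AlgSp.Points.schemeHomeo V t) := ht.symm
  obtain ⟨r, hr, -⟩ := D.exists_of_eq h𝒴' _ _ heq
  obtain ⟨r', rfl⟩ := Groth.Agent.Lib.H86AlgSpPoints.map_surjective_of_repWith hcs r
  obtain ⟨w, rfl⟩ := (AlgSp.Points.schemeHomeo W).surjective r'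
  refine ⟨w, ?_⟩
  apply (AlgSp.Points.schemeHomeo U).injective
  rw [← Groth.Agent.Lib.AlgStLocQFamily.points_map_yon_map_schemeHomeo, hg, AlgSp.Points.map_comp]
  exact hr


/-- **A morphism from a reduced stack whose image on points lies in a closed substack factors
through it** (= S12866 (⇐)). -/
theorem forall_obj_of_range_subset (h𝒳 : IsAlgStack Scheme.fppfPrecoverage 𝒳)
    (h𝒴 : IsAlgStack Scheme.fppfPrecoverage 𝒴)
    (hred : SmoothLocally (fun X => IsReduced X) 𝒴) {Q : 𝒳.obj → Prop}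
    (hQ : IsClosedSubstack 𝒳 Q Scheme.fppfPrecoverage) (f : 𝒴 ⥤ᵇ 𝒳)
    (hsub : Set.range (Points.map f) ⊆ Set.range (Points.map (subIncl 𝒳 Q))) (y₀ : 𝒴.obj) :
    Q (f.obj y₀) := by
  haveI := h𝒳.isStack.1
  haveI := h𝒴.isStack.1
  haveI : 𝒴.p.IsFibered := isFibered 𝒴.p
  have hp : PbStable Q := pbStable_of_isFibGrpd hQ.1 hQ.2.1.isStack.1
  obtain ⟨V, v, hv, hvs⟩ := h𝒴.atlas
  haveI : IsReduced V.left := hred V v hv
  have step2 : ∀ a : Over V, Q (f.obj (v.obj a)) := fun a =>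
    forall_obj_of_isClosedImm_of_isReduced hp hQ.2.2 (BasedFunctor.comp v f)
      (fun t => hsub ⟨Points.ofChart v t, map_ofChart v f t⟩) a
  set T₀ := 𝒴.p.obj y₀ with hT₀
  let x₀ : 𝒴.p.Fiber T₀ := ⟨y₀, rfl⟩
  have hvfl := flatLfp_repByAlgSpWith_of_smooth v hv
  obtain ⟨W, κ, x', hfl, hlfp, ⟨ι⟩, hsurj⟩ :=
    exists_lift_of_chart v hvfl.1 hvfl.2 T₀ (pbFunctor x₀)
  haveI := hfl
  haveI := hlfp
  haveI : Surjective κ.left := ⟨fun u => hsurj u (surjective_ofChart v hvs _)⟩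
  let g₀ : FibCat.overCat T₀ ⥤ᵇ 𝒳 := BasedFunctor.comp (pbFunctor x₀) f
  have key : Q (g₀.obj (overTop T₀)) := by
    refine mem_of_forall_mem_sieve h𝒳.isStack hQ.1 hQ.2.1.isStack g₀
      (Sieve.generate (Presieve.singleton κ))
      (Groth.Agent.Lib.H69AlgSp.mem_J_of_fppf κ _
        (Sieve.le_generate _ _ _ (Presieve.singleton_self κ))) ?_
    rintro b ⟨Z, c, d, ⟨⟩, hcd⟩
    let b' : Over W := Over.mk c
    have h1 : Q (f.obj ((BasedFunctor.comp (AlgSt.overMap κ) (pbFunctor x₀)).obj b')) :=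
      hQ.1.of_iso (f.toFunctor.mapIso (appIso ι b')) (step2 (x'.obj b'))
    let k : b ⟶ (Over.map κ).obj b' := Over.homMk (𝟙 _) (by
      show 𝟙 _ ≫ (c ≫ κ) = b.hom
      rw [Category.id_comp, hcd])
    exact hp (g₀.map k) h1
  exact hp (f.map (pbMapInv x₀)) key

end Groth.Agent.Lib.AlgStClosedSub
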