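import Groth.Agent.Lib.AlgStDiagLocP
import Groth.Agent.Lib.AlgSpFppfCover
import Groth.Agent.Lib.AlgSpFpqcRep
import Groth.Agent.Lib.AlgSpFpqcLocP

/-!
# Diagonal of a composition: quasi-separated morphisms; `AtlasLocal` from fpqc locality (helper36)
-/

set_option autoImplicit false
set_option linter.style.haveILetI false

namespace Groth.Agent.Lib.AlgStDiagQS

open CategoryTheory CategoryTheory.Limits AlgebraicGeometry Opposite Groth.Agent.Lib.FibGrpd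
  Groth.Agent.Lib.FpEquiv Groth.Agent.Lib.AlgStSpTest Groth.Agent.Lib.AlgSpLocP
  Groth.Agent.Lib.AlgSpBasic AlgSp

universe u

variable {S : Scheme.{u}}

/-- fpqc-local on the base implies fppf-local on the base. -/
theorem isLocalOnBase_fppf_of_fpqc {P : MorphismProperty (AlgSp.Sp S)}
    (hP : AlgSp.IsLocalOnBase (AlgSp.IsFpqcCover (S := S)) P) :
    AlgSp.IsLocalOnBase (AlgSp.IsFppfCover (S := S)) P := by
  intro ι Y Yi g hY hYi hcov X f hX Xi p q hXi sq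
  exact hP Yi g hY hYi (Groth.Agent.Lib.AlgSpFpqc.isFpqcCover_of_isFppfCover hY hYi hcov) f hX Xi p
    q hXi sq

/-- fpqc-local on the base implies testable on an etale surjective scheme chart. -/
theorem atlasLocal_of_fpqc {P : MorphismProperty (AlgSp.Sp S)}
    (hP : AlgSp.IsLocalOnBase (AlgSp.IsFpqcCover (S := S)) P) : AtlasLocal P :=
  atlasLocal_of_isLocalOnBase P (isLocalOnBase_fppf_of_fpqc hP)

/-- The class of quasi-compact and quasi-separated morphisms. -/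
abbrev qcqs : MorphismProperty (AlgSp.Sp S) := AlgSp.IsQuasiCompactMor ⊓ AlgSp.IsQuasiSeparatedMor

theorem isQuasiSeparatedMor_eq :
    (AlgSp.IsQuasiSeparatedMor (S := S)) = (AlgSp.RepWith @QuasiCompact).diagonal := rfl

theorem isQuasiSeparatedMor_comp {X Y Z : AlgSp.Sp S} {a : X ⟶ Y} {b : Y ⟶ Z}
    (ha : AlgSp.IsQuasiSeparatedMor a) (hb : AlgSp.IsQuasiSeparatedMor b) :
    AlgSp.IsQuasiSeparatedMor (a ≫ b) :=
  MorphismProperty.comp_mem (AlgSp.RepWith (S := S) @QuasiCompact).diagonal a b ha hb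

theorem isQuasiSeparatedMor_of_isPullback {X Y X' Y' : AlgSp.Sp S} {a : X ⟶ Y} {b : Y' ⟶ Y}
    {a' : X' ⟶ Y'} {b' : X' ⟶ X} (sq : IsPullback b' a' a b)
    (ha : AlgSp.IsQuasiSeparatedMor a) : AlgSp.IsQuasiSeparatedMor a' :=
  MorphismProperty.of_isPullback (P := (AlgSp.RepWith (S := S) @QuasiCompact).diagonal) sq ha

theorem qcqs_comp ⦃X Y Z : AlgSp.Sp S⦄ (_ : AlgSp.IsAlgSpace X) (hY : AlgSp.IsAlgSpace Y)
    (hZ : AlgSp.IsAlgSpace Z) (a : X ⟶ Y) (b : Y ⟶ Z) (ha : qcqs a) (hb : qcqs b) :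
    qcqs (a ≫ b) :=
  ⟨Groth.Agent.Lib.AlgSpDescent.isQuasiCompactMor_comp hY hZ.diag ha.1 hb.1,
    isQuasiSeparatedMor_comp ha.2 hb.2⟩

theorem qcqs_baseChange ⦃X₁ Y₁ X₂ Y₂ : AlgSp.Sp S⦄ (_ : AlgSp.IsAlgSpace X₁)
    (_ : AlgSp.IsAlgSpace Y₁) (_ : AlgSp.IsAlgSpace X₂) (_ : AlgSp.IsAlgSpace Y₂)
    (a : X₁ ⟶ Y₁) (b : Y₂ ⟶ Y₁) (a' : X₂ ⟶ Y₂) (b' : X₂ ⟶ X₁)
    (sq : IsPullback b' a' a b) (ha : qcqs a) : qcqs a' :=
  ⟨Groth.Agent.Lib.AlgSpDescent.isQuasiCompactMor_of_isPullback sq ha.1,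
    isQuasiSeparatedMor_of_isPullback sq ha.2⟩

theorem isLocalOnBase_fpqc_qcqs :
    AlgSp.IsLocalOnBase (AlgSp.IsFpqcCover (S := S)) (qcqs (S := S)) :=
  Groth.Agent.Lib.AlgSpFpqc.isLocalOnBase_and
    Groth.Agent.Lib.AlgSpFpqc.isLocalOnBase_fpqc_isQuasiCompactMor
    Groth.Agent.Lib.AlgSpFpqc.isLocalOnBase_fpqc_isQuasiSeparatedMor

/-- The diagonal of a composition, for quasi-compact and quasi-separated diagonals. -/
theorem repByAlgSpWith_qcqs_diag_comp {𝒳 𝒴 𝒵 : AlgSt.Cat S}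
    [FibCat.IsFibGrpd 𝒳.p] [FibCat.IsFibGrpd 𝒴.p] (f : 𝒳 ⥤ᵇ 𝒴) (g : 𝒴 ⥤ᵇ 𝒵)
    (hf : AlgSt.RepByAlgSpWith (qcqs (S := S)) (FibCat.diag f))
    (hg : AlgSt.RepByAlgSpWith (qcqs (S := S)) (FibCat.diag g)) :
    AlgSt.RepByAlgSpWith (qcqs (S := S)) (FibCat.diag (BasedFunctor.comp f g)) :=
  Groth.Agent.Lib.AlgStDiag3.repByAlgSpWith_diag_comp _ (isoInv_of_baseChange _ qcqs_baseChange)
    (atlasLocal_of_fpqc isLocalOnBase_fpqc_qcqs) qcqs_comp f g hf hg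

end Groth.Agent.Lib.AlgStDiagQS
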