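import Groth.Agent.Lib.AlgStDiagDict
import Groth.Agent.Lib.AlgStDiagQS

/-!
# Diagonals of morphisms representable by algebraic spaces (helper36)
-/

set_option autoImplicit false
set_option linter.style.haveILetI false

namespace Groth.Agent.Lib.AlgStDiagRep

open CategoryTheory CategoryTheory.Limits AlgebraicGeometry Opposite Groth.Agent.Lib.FibGrpd
  Groth.Agent.Lib.FpEquiv Groth.Agent.Lib.AlgStDiagDict Groth.Agent.Lib.AlgSpBasic

universe w v₅ u₅ v₄ u₄ v₃ u₃ v₂ u₂ v u

variable {S : Scheme.{u}} {𝒳 : BasedCategory.{v₂, u₂} (Over S)}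
  {𝒴 : BasedCategory.{v₃, u₃} (Over S)}

/-- A property that holds for the relative diagonal of every morphism from an algebraic space to a
representable sheaf holds for the diagonal of every functor representable by algebraic spaces. -/
theorem repByAlgSpWith_diag_of_repByAlgSp1 (P : MorphismProperty (AlgSp.Sp S))
    (hPb : BaseChangeStable P)
    (hP : ∀ ⦃F : AlgSp.Sp S⦄ ⦃T : Over S⦄, AlgSp.IsAlgSpace F →
      ∀ α : F ⟶ (AlgSp.yon S).obj T, P (pullback.diagonal α))
    (f : 𝒳 ⥤ᵇ 𝒴) (hf : AlgSt.RepByAlgSp1 f) : AlgSt.RepByAlgSpWith P (FibCat.diag f) := by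
  apply repByAlgSpWith_diag_of_diagonal P hPb f
  intro T y
  obtain ⟨F, e, he⟩ := hf T y
  exact ⟨F, e, he, hP F.property _⟩

theorem baseChangeStable_monomorphisms :
    BaseChangeStable (MorphismProperty.monomorphisms (AlgSp.Sp S)) :=
  fun _ _ _ _ _ _ _ _ _ _ _ _ sq h =>
    MorphismProperty.of_isPullback (P := MorphismProperty.monomorphisms (AlgSp.Sp S)) sq h

/-- The diagonal of a functor representable by algebraic spaces is a monomorphism. -/
theorem isMono_diag_of_repByAlgSp1 (f : 𝒳 ⥤ᵇ 𝒴) (hf : AlgSt.RepByAlgSp1 f) :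
    AlgSt.IsMono (FibCat.diag f) :=
  repByAlgSpWith_diag_of_repByAlgSp1 _ baseChangeStable_monomorphisms
    (fun _ _ _ α => MorphismProperty.monomorphisms.infer_property (pullback.diagonal α)) f hf

theorem baseChangeStable_isSeparatedMor : BaseChangeStable (AlgSp.IsSeparatedMor (S := S)) :=
  fun _ _ _ _ _ _ _ _ _ _ _ _ sq h =>
    MorphismProperty.of_isPullback (P := (AlgSp.RepWith (S := S) @IsClosedImmersion).diagonal) sq h

/-- A monomorphism of sheaves is separated. -/
theorem isSeparatedMor_of_mono {F G : AlgSp.Sp S} (δ : F ⟶ G) [Mono δ] :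
    AlgSp.IsSeparatedMor δ := by
  have hiso : IsIso (pullback.diagonal δ) := (pullback.isIso_diagonal_iff δ).mpr inferInstance
  exact MorphismProperty.of_isIso (AlgSp.RepWith @IsClosedImmersion) (pullback.diagonal δ)

/-- The diagonal of a functor representable by algebraic spaces is separated. -/
theorem isSeparatedMor_diag_of_repByAlgSp1 (f : 𝒳 ⥤ᵇ 𝒴) (hf : AlgSt.RepByAlgSp1 f) :
    AlgSt.RepByAlgSpWith AlgSp.IsSeparatedMor (FibCat.diag f) :=
  repByAlgSpWith_diag_of_repByAlgSp1 _ baseChangeStable_isSeparatedMor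
    (fun _ _ _ α => isSeparatedMor_of_mono (pullback.diagonal α)) f hf

theorem baseChangeStable_locP {P : MorphismProperty Scheme.{u}}
    (hP : Groth.Agent.Lib.AlgSpLocP.EtLocalClass P) [P.DescendsAlong etCov] :
    BaseChangeStable (S := S) (AlgSp.LocP P) :=
  fun _ _ _ _ hX₁ hY₁ _ hY₂ _ _ _ _ sq h =>
    Groth.Agent.Lib.AlgSpLocP.locP_of_isPullback hP hX₁ hY₁ hY₂ sq h

/-- The relative diagonal of a morphism from an algebraic space to a representable sheaf is
unramified. -/
theorem locP_unramified_diagonal {F : AlgSp.Sp S} {T : Over S} (hF : AlgSp.IsAlgSpace F)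
    (α : F ⟶ (AlgSp.yon S).obj T) :
    AlgSp.LocP (@LocallyOfFiniteType ⊓ @FormallyUnramified) (pullback.diagonal α) := by
  have hrepT : ∀ ⦃U : Over S⦄ (a : (AlgSp.yon S).obj U ⟶ (AlgSp.yon S).obj T),
      AlgSp.Representable a := fun U a => (AlgSp.IsAlgSpace.yon_obj T).representable_from_yon a
  have h1 := repWith_mono_lft_diagonal hF α hrepT
  have h2 : AlgSp.RepWith (@LocallyOfFiniteType ⊓ @FormallyUnramified) (pullback.diagonal α) := by
    refine repWith_mono (fun X Y g hg => ?_) h1
    have hm : Mono g := hg.1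
    have hl : LocallyOfFiniteType g := hg.2
    have hiso : IsIso (pullback.diagonal g) := (pullback.isIso_diagonal_iff g).mpr hm
    exact ⟨hl, (inferInstance : FormallyUnramified g)⟩
  refine locP_of_repWith _ (fun _ _ _ l w hl hw => ?_)
    (fun U a => hF.representable_from_yon a) h2
  exact Groth.Agent.Lib.AlgSpLocP.etLocalClass_lft_unramified.pre l w hl hw

/-- A functor representable by algebraic spaces is DM. -/
theorem isDMMor_of_repByAlgSp1 (f : 𝒳 ⥤ᵇ 𝒴) (hf : AlgSt.RepByAlgSp1 f) : AlgSt.IsDMMor f :=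
  repByAlgSpWith_diag_of_repByAlgSp1 _
    (baseChangeStable_locP Groth.Agent.Lib.AlgSpLocP.etLocalClass_lft_unramified)
    (fun _ _ hF α => locP_unramified_diagonal hF α) f hf

end Groth.Agent.Lib.AlgStDiagRep
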