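import Groth.Prelude.Def_AlgSt2
import Groth.Agent.Lib.FpEquiv

/-!
# Representability by algebraic spaces: formal transfer lemmas (helper36)

* `secHom_congr`, `spMapOfOver_congr` : `AlgSt.spMapOfOver` only depends on the functor up to a
  2-morphism over the base.
* `RepData P p` : the body of `AlgSt.RepByAlgSpWith` for a category `𝒜` with a functor `p` to `(Sch/U)`.
* `repData_of_equiv` / `repData_iff_of_equiv` : transfer along equivalences over the base compatible with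
  the functors to `(Sch/U)` up to 2-isomorphism.
* `repByAlgSpWith_fpFst`, `repByAlgSpWith_of_square`, `repByAlgSpWith_iff_of_square`.
-/

set_option autoImplicit false
set_option linter.style.haveILetI false
set_option backward.isDefEq.respectTransparency false
set_option backward.isDefEq.respectTransparency.types false

namespace Groth.Agent.Lib.AlgStRep

open CategoryTheory AlgebraicGeometry Opposite Groth.Agent.Lib.FibGrpd Groth.Agent.Lib.FpEquiv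

universe v₅ u₅ v₄ u₄ v₃ u₃ v₂ u₂ u

variable {S : Scheme.{u}}

section Congr

variable {F : AlgSp.Sp S} {U : Over S}

theorem secHom_congr {Φ Φ' : AlgSt.ofSp F ⥤ᵇ FibCat.overCat U} (γ : Φ ⟶ Φ')
    (a : (AlgSt.ofSp F).obj) : AlgSt.secHom Φ a = AlgSt.secHom Φ' a := by
  have h1 : (γ.toNatTrans.app a).left ≫ (Φ'.obj a).hom = (Φ.obj a).hom := Over.w (γ.toNatTrans.app a)
  haveI : (FibCat.overCat U).p.IsHomLift (𝟙 ((AlgSt.ofSp F).p.obj a)) (γ.toNatTrans.app a) :=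
    γ.isHomLift' a
  have h2 : (γ.toNatTrans.app a).left =
      eqToHom (Φ.w_obj a) ≫ 𝟙 _ ≫ eqToHom (Φ'.w_obj a).symm :=
    IsHomLift.fac' (FibCat.overCat U).p (𝟙 ((AlgSt.ofSp F).p.obj a)) (γ.toNatTrans.app a)
  simp only [AlgSt.secHom, ← h1, h2, Category.assoc, Category.id_comp, eqToHom_trans_assoc,
    eqToHom_refl]

theorem spMapOfOver_congr {Φ Φ' : AlgSt.ofSp F ⥤ᵇ FibCat.overCat U} (γ : Φ ⟶ Φ') :
    AlgSt.spMapOfOver Φ = AlgSt.spMapOfOver Φ' := by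
  apply ObjectProperty.hom_ext
  ext T x
  induction T using Opposite.rec with
  | op T =>
    have h1 := AlgSt.spMapOfOver_app Φ T x
    have h2 := AlgSt.spMapOfOver_app Φ' T x
    exact h1.trans ((congrArg ULift.up (secHom_congr γ ⟨T, x⟩)).trans h2.symm)

end Congr

section Transfer

variable {U : Over S}

/-- The body of `AlgSt.RepByAlgSpWith`. -/
def RepData (P : MorphismProperty (AlgSp.Sp S)) {𝒜 : BasedCategory.{v₂, u₂} (Over S)}
    (p : 𝒜 ⥤ᵇ FibCat.overCat U) : Prop :=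
  ∃ (F : AlgSp.Space S) (e : AlgSt.ofSp F.obj ⥤ᵇ 𝒜),
    FibCat.IsEquivOver e ∧ P (AlgSt.spMapOfOver (BasedFunctor.comp e p))

variable {P : MorphismProperty (AlgSp.Sp S)} {𝒜 : BasedCategory.{v₂, u₂} (Over S)}
  {ℬ : BasedCategory.{v₃, u₃} (Over S)} {pA : 𝒜 ⥤ᵇ FibCat.overCat U} {pB : ℬ ⥤ᵇ FibCat.overCat U}

theorem repData_of_equiv (c : 𝒜 ⥤ᵇ ℬ) (hc : FibCat.IsEquivOver c)
    (γ : BasedFunctor.comp c pB ≅ pA) (h : RepData P pA) : RepData P pB := by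
  obtain ⟨F, e, he, hP⟩ := h
  refine ⟨F, BasedFunctor.comp e c, isEquivOver_comp he hc, ?_⟩
  have : AlgSt.spMapOfOver (BasedFunctor.comp (BasedFunctor.comp e c) pB) =
      AlgSt.spMapOfOver (BasedFunctor.comp e pA) :=
    spMapOfOver_congr (whiskerLeftIso e γ).hom
  rw [this]
  exact hP

theorem repData_of_equiv' (c : ℬ ⥤ᵇ 𝒜) (hc : FibCat.IsEquivOver c)
    (γ : BasedFunctor.comp c pA ≅ pB) (h : RepData P pA) : RepData P pB := by
  obtain ⟨G, ⟨α⟩, ⟨β⟩⟩ := hc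
  have hG : FibCat.IsEquivOver G := ⟨c, ⟨β⟩, ⟨α⟩⟩
  refine repData_of_equiv G hG ?_ h
  exact (whiskerLeftIso G γ).symm ≪≫ whiskerRightIso β pA ≪≫ idCompIso pA

theorem repData_iff_of_equiv (c : 𝒜 ⥤ᵇ ℬ) (hc : FibCat.IsEquivOver c)
    (γ : BasedFunctor.comp c pB ≅ pA) : RepData P pA ↔ RepData P pB :=
  ⟨repData_of_equiv c hc γ, repData_of_equiv' c hc γ⟩

end Transfer

section BaseChange

variable {𝒳 : BasedCategory.{v₂, u₂} (Over S)} {𝒴 : BasedCategory.{v₃, u₃} (Over S)}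
  {𝒵 : BasedCategory.{v₄, u₄} (Over S)}

theorem repByAlgSpWith_iff_repData (P : MorphismProperty (AlgSp.Sp S)) (f : 𝒳 ⥤ᵇ 𝒴) :
    AlgSt.RepByAlgSpWith P f ↔
      ∀ (U : Over S) (y : FibCat.overCat U ⥤ᵇ 𝒴), RepData P (FibCat.fpFst y f) := Iff.rfl

/-- Base change: if `f` is representable by algebraic spaces with `P`, so is `𝒵 ×_𝒴 𝒳 ⟶ 𝒵`. -/
theorem repByAlgSpWith_fpFst (P : MorphismProperty (AlgSp.Sp S)) (f : 𝒳 ⥤ᵇ 𝒴) (g : 𝒵 ⥤ᵇ 𝒴)
    (hf : AlgSt.RepByAlgSpWith P f) : AlgSt.RepByAlgSpWith P (FibCat.fpFst g f) := by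
  intro U y
  have h := hf U (BasedFunctor.comp y g)
  refine repData_of_equiv' (fpPasteLeft y g f) (fpPasteLeft_isEquivOver y g f) ?_ h
  exact Iso.refl _

end BaseChange

section Square

variable {𝒳 : BasedCategory.{v₂, u₂} (Over S)} {𝒴 : BasedCategory.{v₃, u₃} (Over S)}
  {𝒳' : BasedCategory.{v₄, u₄} (Over S)} {𝒴' : BasedCategory.{v₅, u₅} (Over S)}

/-- Transfer of `RepData` along `fpMap` with identity on the `(Sch/U)` factor. -/
theorem repData_fpMap_iff (P : MorphismProperty (AlgSp.Sp S)) {U : Over S}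
    {f : 𝒳 ⥤ᵇ 𝒴} {f' : 𝒳' ⥤ᵇ 𝒴'} (a : 𝒳' ⥤ᵇ 𝒳) (b : 𝒴' ⥤ᵇ 𝒴)
    (ha : FibCat.IsEquivOver a) (hb : FibCat.IsEquivOver b)
    (y : FibCat.overCat U ⥤ᵇ 𝒴) (y' : FibCat.overCat U ⥤ᵇ 𝒴')
    (α : BasedFunctor.comp y' b ≅ BasedFunctor.comp (BasedFunctor.id (FibCat.overCat U)) y)
    (β : BasedFunctor.comp f' b ≅ BasedFunctor.comp a f) :
    RepData P (FibCat.fpFst y' f') ↔ RepData P (FibCat.fpFst y f) := by
  obtain ⟨hb1, hb2, -⟩ := ff_ess_of_isEquivOver b hb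
  have hc : FibCat.IsEquivOver (fpMap (BasedFunctor.id (FibCat.overCat U)) a b α β) :=
    fpMap_isEquivOver (BasedFunctor.id (FibCat.overCat U)) a b α β isEquivOver_id ha
  exact repData_iff_of_equiv (fpMap (BasedFunctor.id (FibCat.overCat U)) a b α β) hc (Iso.refl _)

/-- Invariance of `RepByAlgSpWith` under equivalences over the base. -/
theorem repByAlgSpWith_iff_of_square (P : MorphismProperty (AlgSp.Sp S))
    (f : 𝒳 ⥤ᵇ 𝒴) (f' : 𝒳' ⥤ᵇ 𝒴') (a : 𝒳' ⥤ᵇ 𝒳) (b : 𝒴' ⥤ᵇ 𝒴)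
    (ha : FibCat.IsEquivOver a) (hb : FibCat.IsEquivOver b)
    (e : BasedFunctor.comp f' b ≅ BasedFunctor.comp a f) :
    AlgSt.RepByAlgSpWith P f ↔ AlgSt.RepByAlgSpWith P f' := by
  constructor
  · intro hf U y'
    exact (repData_fpMap_iff P a b ha hb (BasedFunctor.comp y' b) y'
      (idCompIso (BasedFunctor.comp y' b)).symm e).mpr (hf U (BasedFunctor.comp y' b))
  · intro hf' U y
    obtain ⟨b', ⟨βb⟩, ⟨βb'⟩⟩ := hb
    have hb0 : FibCat.IsEquivOver b := ⟨b', ⟨βb⟩, ⟨βb'⟩⟩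
    let α : BasedFunctor.comp (BasedFunctor.comp y b') b ≅
        BasedFunctor.comp (BasedFunctor.id (FibCat.overCat U)) y :=
      whiskerLeftIso y βb' ≪≫ compIdIso y ≪≫ (idCompIso y).symm
    exact (repData_fpMap_iff P a b ha hb0 y (BasedFunctor.comp y b') α e).mp
      (hf' U (BasedFunctor.comp y b'))

end Square

end Groth.Agent.Lib.AlgStRep
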