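import Groth.Agent.Lib.AlgStRepB
import Groth.Agent.Lib.AlgStRep
import Groth.Agent.Lib.H69AlgSp
import Groth.Prelude.Def_AlgSt3

/-!
# Monomorphisms of categories fibred in groupoids are fully faithful (helper36)
-/

set_option autoImplicit false
set_option linter.style.haveILetI false
set_option backward.isDefEq.respectTransparency false
set_option backward.isDefEq.respectTransparency.types false

namespace Groth.Agent.Lib.AlgStMonoFull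

open CategoryTheory AlgebraicGeometry Opposite Groth.Agent.Lib.FibGrpd Groth.Agent.Lib.FpEquiv
  Groth.Agent.Lib.FibYoneda

universe w v₅ u₅ v₄ u₄ v₃ u₃ v₂ u₂ v u

section Full

variable {C : Type u} [Category.{v} C] {𝒳 : BasedCategory.{v₂, u₂} C}
  {𝒴 : BasedCategory.{v₃, u₃} C}

/-- If in all 2-fibre products `(C/U) ×_𝒴 𝒳` any two objects over the terminal object of `C/U` are
connected by a morphism, then `f : 𝒳 ⟶ 𝒴` is full. -/
theorem full_of_fp_hom [FibCat.IsFibGrpd 𝒳.p] [FibCat.IsFibGrpd 𝒴.p] (f : 𝒳 ⥤ᵇ 𝒴)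
    (h : ∀ (U : C) (y : FibCat.overCat U ⥤ᵇ 𝒴) (x₁ x₂ : 𝒳.obj)
      (ε₁ : y.obj (overTop U) ≅ f.obj x₁) (ε₂ : y.obj (overTop U) ≅ f.obj x₂)
      (h₁ : 𝒴.p.IsHomLift (𝟙 U) ε₁.hom) (h₂ : 𝒴.p.IsHomLift (𝟙 U) ε₂.hom),
      Nonempty ((⟨{ fst := overTop U, snd := x₁, iso := ε₁ }, h₁⟩ : (FibCat.fp y f).obj) ⟶
        (⟨{ fst := overTop U, snd := x₂, iso := ε₂ }, h₂⟩ : (FibCat.fp y f).obj))) :
    f.toFunctor.Full := by
  apply full_of_fiberFunctor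
  intro U
  refine ⟨fun {A B} φ => ?_⟩
  haveI hφ : 𝒴.p.IsHomLift (𝟙 U) φ.1 := φ.2
  haveI : IsIso φ.1 := isIso_of_isHomLift_isIso 𝒴.p (𝟙 U) φ.1
  haveI := isFibered 𝒴.p
  let fB : 𝒴.p.Fiber U := (FibCat.fiberFunctor f U).obj B
  let y : FibCat.overCat U ⥤ᵇ 𝒴 := pbFunctor fB
  let ε : (FibCat.evalAtId 𝒴 U).obj y ≅ fB := pbFunctorEvalIso fB
  let ε' : y.obj (overTop U) ≅ f.obj B.1 :=
    ⟨ε.hom.1, ε.inv.1, congrArg Subtype.val ε.hom_inv_id, congrArg Subtype.val ε.inv_hom_id⟩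
  haveI hε : 𝒴.p.IsHomLift (𝟙 U) ε'.hom := ε.hom.2
  haveI hφi : 𝒴.p.IsHomLift (𝟙 U) (inv φ.1) := by
    haveI : 𝒴.p.IsHomLift (𝟙 U) (asIso φ.1).hom := hφ
    have := IsHomLift.lift_id_inv 𝒴.p U (asIso φ.1)
    simpa using this
  have hA : 𝒴.p.IsHomLift (𝟙 U) (ε' ≪≫ (asIso φ.1).symm).hom := by
    show 𝒴.p.IsHomLift (𝟙 U) (ε'.hom ≫ inv φ.1)
    have : 𝒴.p.IsHomLift (𝟙 U ≫ 𝟙 U) (ε'.hom ≫ inv φ.1) := inferInstance
    simpa using this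
  obtain ⟨m⟩ := h U y A.1 B.1 (ε' ≪≫ (asIso φ.1).symm) ε' hA hε
  have hfst : m.hom.fst = 𝟙 (overTop U) := by
    apply Over.OverMorphism.ext
    have := Over.w m.hom.fst
    simpa using this
  have hm : (FibCat.fp y f).p.IsHomLift (𝟙 U) m := by
    rw [fp_isHomLift_iff, hfst]
    exact IsHomLift.id (p := (FibCat.overCat U).p) (a := overTop U) rfl
  have hsnd : 𝒳.p.IsHomLift (𝟙 U) m.hom.snd := fp_isHomLift_snd' y f (𝟙 U) m hm
  refine ⟨⟨m.hom.snd, hsnd⟩, ?_⟩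
  apply Subtype.ext
  show f.map m.hom.snd = φ.1
  have hw : y.map m.hom.fst ≫ ε'.hom = (ε'.hom ≫ inv φ.1) ≫ f.map m.hom.snd := m.hom.w
  rw [hfst, y.map_id, Category.id_comp, Category.assoc] at hw
  have hw1 : ε'.hom ≫ 𝟙 _ = ε'.hom ≫ inv φ.1 ≫ f.map m.hom.snd := (Category.comp_id _).trans hw
  have hw2 : 𝟙 _ = inv φ.1 ≫ f.map m.hom.snd := (Iso.cancel_iso_hom_left ε' _ _).1 hw1
  have hw3 : f.map m.hom.snd = φ.1 ≫ 𝟙 _ := (IsIso.inv_comp_eq φ.1).1 hw2.symm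
  exact hw3.trans (Category.comp_id _)

end Full


section Mono

open Groth.Agent.Lib.H69AlgSp

variable {S : Scheme.{u}}

/-- A monomorphism of sheaves is injective on sections. -/
theorem injective_app_of_mono {F G : AlgSp.Sp S} (a : F ⟶ G) [Mono a] (T : Over S) :
    Function.Injective (a.hom.app (op T)) := by
  intro x x' hxx'
  have h1 : yEquiv.symm x ≫ a = yEquiv.symm x' ≫ a := by
    apply yEquiv.injective
    rw [yEquiv_comp, yEquiv_comp, Equiv.apply_symm_apply, Equiv.apply_symm_apply]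
    exact hxx'
  have h2 := (cancel_mono a).1 h1
  exact yEquiv.symm.injective h2

variable {𝒜 : BasedCategory.{v₂, u₂} (Over S)}

set_option maxHeartbeats 400000 in
/-- If `𝒜 ≃ ofSp F` and `π : 𝒜 ⟶ (Sch/U)` induces a monomorphism `F ⟶ h_U`, then two objects of `𝒜`
with isomorphic images in `(Sch/U)` are connected by a morphism. -/
theorem nonempty_hom_of_mono {F : AlgSp.Sp S} {U : Over S} (e : AlgSt.ofSp F ⥤ᵇ 𝒜)
    (he : FibCat.IsEquivOver e) (π : 𝒜 ⥤ᵇ FibCat.overCat U)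
    (hmono : Mono (AlgSt.spMapOfOver (BasedFunctor.comp e π)))
    (z₁ z₂ : 𝒜.obj) (θ : π.obj z₁ ⟶ π.obj z₂) : Nonempty (z₁ ⟶ z₂) := by
  obtain ⟨_, _, hess⟩ := ff_ess_of_isEquivOver e he
  obtain ⟨s₁, κ₁, -⟩ := hess z₁
  obtain ⟨s₂, κ₂, -⟩ := hess z₂
  let Φ : AlgSt.ofSp F ⥤ᵇ FibCat.overCat U := BasedFunctor.comp e π
  let m : Φ.obj s₁ ⟶ Φ.obj s₂ := π.map κ₁.hom ≫ θ ≫ π.map κ₂.inv
  let g : s₁.base ⟶ s₂.base := eqToHom (Φ.w_obj s₁).symm ≫ m.left ≫ eqToHom (Φ.w_obj s₂)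
  have hg : g ≫ AlgSt.secHom Φ s₂ = AlgSt.secHom Φ s₁ := by
    have hm : m.left ≫ (Φ.obj s₂).hom = (Φ.obj s₁).hom := Over.w m
    simp only [g, AlgSt.secHom, Category.assoc, eqToHom_trans_assoc, eqToHom_refl,
      Category.id_comp, hm]
  let s' : (AlgSt.ofSp F).obj := ⟨s₁.base, F.obj.map g.op s₂.sec⟩
  let ψ' : s' ⟶ s₂ := ⟨g, rfl⟩
  have hg' : AlgSt.secHom Φ s' = AlgSt.secHom Φ s₁ := (AlgSt.secHom_comp Φ ψ').symm.trans hg
  have hsec : F.obj.map g.op s₂.sec = s₁.sec := by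
    apply injective_app_of_mono (AlgSt.spMapOfOver Φ) s₁.base
    show (⟨AlgSt.secHom Φ s'⟩ : ULift.{u + 1} (s₁.base ⟶ U)) = ⟨AlgSt.secHom Φ s₁⟩
    exact congrArg ULift.up hg'
  let ψ : s₁ ⟶ s₂ := ⟨g, hsec⟩
  exact ⟨κ₁.inv ≫ e.map ψ ≫ κ₂.hom⟩

end Mono

section Main

variable {S : Scheme.{u}} {𝒳 : BasedCategory.{v₂, u₂} (Over S)}
  {𝒴 : BasedCategory.{v₃, u₃} (Over S)}

/-- A monomorphism (representable by algebraic spaces) of categories fibred in groupoids is full. -/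
theorem full_of_isMono [FibCat.IsFibGrpd 𝒳.p] [FibCat.IsFibGrpd 𝒴.p] (j : 𝒳 ⥤ᵇ 𝒴)
    (hj : AlgSt.IsMono j) : j.toFunctor.Full := by
  apply full_of_fp_hom
  intro U y x₁ x₂ ε₁ ε₂ h₁ h₂
  obtain ⟨F, e, he, hmono⟩ := hj U y
  exact nonempty_hom_of_mono e he (FibCat.fpFst y j) hmono _ _ (𝟙 (overTop U))

/-- A monomorphism (representable by algebraic spaces) of categories fibred in groupoids is fully
faithful. -/
theorem full_faithful_of_isMono [FibCat.IsFibGrpd 𝒳.p] [FibCat.IsFibGrpd 𝒴.p] (j : 𝒳 ⥤ᵇ 𝒴)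
    (hj : AlgSt.IsMono j) : j.toFunctor.Full ∧ j.toFunctor.Faithful :=
  ⟨full_of_isMono j hj, Groth.Agent.Lib.AlgStRepB.faithful_of_repByAlgSp1 j (fun U y => by
    obtain ⟨F, e, he, -⟩ := hj U y
    exact ⟨F, e, he⟩)⟩

end Main

end Groth.Agent.Lib.AlgStMonoFull
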