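import Groth.Agent.Lib.AlgStSpTest
import Groth.Agent.Lib.AlgStEquiv
import Groth.Agent.Lib.AlgStMonoFull
import Groth.Agent.Lib.H69AlgSpLocST
import Groth.Agent.S10277

/-!
# Equivalences are representable with every property of identities (helper36)
-/

set_option autoImplicit false
set_option linter.style.haveILetI false
set_option backward.isDefEq.respectTransparency false
set_option backward.isDefEq.respectTransparency.types false

namespace Groth.Agent.Lib.AlgStEquivRep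

open CategoryTheory AlgebraicGeometry Opposite Groth.Agent.Lib.FibGrpd Groth.Agent.Lib.FpEquiv
  Groth.Agent.Lib.AlgStRep Groth.Agent.Lib.AlgStDiag

universe w v₅ u₅ v₄ u₄ v₃ u₃ v₂ u₂ v u

section General

variable {C : Type u} [Category.{v} C] {𝒰 : BasedCategory.{v₂, u₂} C}
  {𝒜 : BasedCategory.{v₃, u₃} C} {ℬ : BasedCategory.{v₄, u₄} C} (y : 𝒰 ⥤ᵇ ℬ) (E : 𝒜 ⥤ᵇ ℬ)

theorem fpFst_faithful [E.toFunctor.Faithful] : (FibCat.fpFst y E).toFunctor.Faithful where
  map_injective {z z'} m n hmn := by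
    have h1 : m.hom.fst = n.hom.fst := hmn
    refine fp_hom_ext _ _ h1 ?_
    apply E.toFunctor.map_injective
    have hm : y.map m.hom.fst ≫ z'.obj.iso.hom = z.obj.iso.hom ≫ E.map m.hom.snd := m.hom.w
    have hn : y.map n.hom.fst ≫ z'.obj.iso.hom = z.obj.iso.hom ≫ E.map n.hom.snd := n.hom.w
    rw [h1] at hm
    exact (Iso.cancel_iso_hom_left z.obj.iso _ _).1 (hm.symm.trans hn)

theorem fpFst_full [E.toFunctor.Full] : (FibCat.fpFst y E).toFunctor.Full where
  map_surjective {z z'} m := by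
    let n : z.obj.snd ⟶ z'.obj.snd :=
      E.toFunctor.preimage (z.obj.iso.inv ≫ y.map m ≫ z'.obj.iso.hom)
    have hn : E.map n = z.obj.iso.inv ≫ y.map m ≫ z'.obj.iso.hom := E.toFunctor.map_preimage _
    have hw : y.map m ≫ z'.obj.iso.hom = z.obj.iso.hom ≫ E.map n := by
      rw [hn, Iso.hom_inv_id_assoc]
    exact ⟨ObjectProperty.homMk { fst := m, snd := n, w := hw }, rfl⟩

/-- The base change of an equivalence over the base is an equivalence over the base. -/
theorem fpFst_isEquivOver (hE : FibCat.IsEquivOver E) : FibCat.IsEquivOver (FibCat.fpFst y E) := by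
  obtain ⟨hfull, hfaith, hess⟩ := ff_ess_of_isEquivOver E hE
  haveI := hfull
  haveI := hfaith
  haveI := fpFst_faithful y E
  haveI := fpFst_full y E
  apply isEquivOver_of_ff_of_ess
  intro t
  obtain ⟨a, ε, hε⟩ := hess (y.obj t)
  have hε' : ℬ.p.IsHomLift (𝟙 (𝒰.p.obj t)) ε.hom := by
    have := y.w_obj t
    rw [← this]
    exact hε
  haveI := hε'
  have hε'' : ℬ.p.IsHomLift (𝟙 (𝒰.p.obj t)) ε.symm.hom := by
    have := IsHomLift.lift_id_inv ℬ.p (𝒰.p.obj t) ε
    exact this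
  let z : (FibCat.fp y E).obj := ⟨{ fst := t, snd := a, iso := ε.symm }, hε''⟩
  exact ⟨z, Iso.refl t, IsHomLift.id rfl⟩

end General

section Rep

variable {S : Scheme.{u}} {𝒜 : BasedCategory.{v₃, u₃} (Over S)}
  {ℬ : BasedCategory.{v₄, u₄} (Over S)}

/-- An equivalence over `(Sch/S)` is representable by algebraic spaces with every property that
identities of representable sheaves have. -/
theorem repByAlgSpWith_of_isEquivOver (P : MorphismProperty (AlgSp.Sp S))
    (hP : ∀ U : Over S, P (𝟙 ((AlgSp.yon S).obj U))) (E : 𝒜 ⥤ᵇ ℬ) (hE : FibCat.IsEquivOver E) :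
    AlgSt.RepByAlgSpWith P E := by
  intro U y
  have h1 : FibCat.IsEquivOver (FibCat.fpFst y E) := fpFst_isEquivOver y E hE
  obtain ⟨G, ⟨α⟩, ⟨β⟩⟩ := h1
  have hG : FibCat.IsEquivOver G := ⟨FibCat.fpFst y E, ⟨β⟩, ⟨α⟩⟩
  refine ⟨⟨(AlgSp.yon S).obj U, AlgSp.IsAlgSpace.yon_obj U⟩,
    BasedFunctor.comp (AlgSt.toOverCat U) G,
    isEquivOver_comp (Groth.Agent.Lib.AlgStFp.toOverCat_isEquivOver U) hG, ?_⟩
  have key : AlgSt.spMapOfOver (BasedFunctor.comp (BasedFunctor.comp (AlgSt.toOverCat U) G)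
      (FibCat.fpFst y E)) = 𝟙 ((AlgSp.yon S).obj U) := by
    rw [← Groth.Agent.Lib.AlgStSpTest.spMapOfOver_toOverCat U]
    exact spMapOfOver_congr
      (whiskerLeftIso (AlgSt.toOverCat U) β ≪≫ compIdIso (AlgSt.toOverCat U)).hom
  rw [key]
  exact hP U

end Rep


section DiagFF

variable {C : Type u} [Category.{v} C] {𝒜 : BasedCategory.{v₃, u₃} C}
  {ℬ : BasedCategory.{v₄, u₄} C} (i : 𝒜 ⥤ᵇ ℬ)

/-- The diagonal of a fully faithful functor over the base is an equivalence over the base. -/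
theorem diag_isEquivOver_of_ff [i.toFunctor.Full] [i.toFunctor.Faithful] :
    FibCat.IsEquivOver (FibCat.diag i) := by
  haveI := diag_faithful i
  haveI := diag_full i
  exact isEquivOver_of_ff_of_ess _ (diag_exists_iso i)

end DiagFF

section MonoDiag

variable {S : Scheme.{u}} {𝒳 𝒴 : AlgSt.Cat S}

/-- The diagonal of a monomorphism has every property of identities of representable sheaves. -/
theorem repByAlgSpWith_diag_of_isMono [FibCat.IsFibGrpd 𝒳.p] [FibCat.IsFibGrpd 𝒴.p]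
    (P : MorphismProperty (AlgSp.Sp S)) (hP : ∀ U : Over S, P (𝟙 ((AlgSp.yon S).obj U)))
    (f : 𝒳 ⥤ᵇ 𝒴) (hf : AlgSt.IsMono f) : AlgSt.RepByAlgSpWith P (FibCat.diag f) := by
  obtain ⟨hfull, hfaith⟩ := Groth.Agent.Lib.AlgStMonoFull.full_faithful_of_isMono f hf
  haveI := hfull
  haveI := hfaith
  exact repByAlgSpWith_of_isEquivOver P hP _ (diag_isEquivOver_of_ff f)

theorem isProperMor_id (U : Over S) : AlgSp.IsProperMor (𝟙 ((AlgSp.yon S).obj U)) :=
  Groth.Agent.S10277.result (X := ⟨(AlgSp.yon S).obj U, AlgSp.IsAlgSpace.yon_obj U⟩)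
    (Y := ⟨(AlgSp.yon S).obj U, AlgSp.IsAlgSpace.yon_obj U⟩)
    (ObjectProperty.homMk (𝟙 ((AlgSp.yon S).obj U))) (AlgSp.repWith_id _ U)

theorem locP_unramified_id (U : Over S) :
    AlgSp.LocP (@LocallyOfFiniteType ⊓ @FormallyUnramified) (𝟙 ((AlgSp.yon S).obj U)) :=
  Groth.Agent.Lib.H69AlgSpLocST.locP_id (fun _ _ l hl => by
    have : Etale l := hl
    exact ⟨(inferInstance : LocallyOfFiniteType l), (inferInstance : FormallyUnramified l)⟩)
    (AlgSp.IsAlgSpace.yon_obj U)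

/-- A monomorphism is separated and DM. -/
theorem isSeparatedMor_and_isDMMor_of_isMono [FibCat.IsFibGrpd 𝒳.p] [FibCat.IsFibGrpd 𝒴.p]
    (f : 𝒳 ⥤ᵇ 𝒴) (hf : AlgSt.IsMono f) : AlgSt.IsSeparatedMor f ∧ AlgSt.IsDMMor f :=
  ⟨repByAlgSpWith_diag_of_isMono _ isProperMor_id f hf,
    repByAlgSpWith_diag_of_isMono _ locP_unramified_id f hf⟩

end MonoDiag

end Groth.Agent.Lib.AlgStEquivRep
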