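import Groth.Agent.Lib.AlgStDiagDict2
import Groth.Agent.Lib.AlgStDiagRep
import Groth.Agent.Lib.AlgStEquivRep
import Groth.Agent.Lib.H86AffineMor

/-!
# Separation properties of morphisms representable by algebraic spaces (helper36)
-/

set_option autoImplicit false
set_option linter.style.haveILetI false

namespace Groth.Agent.Lib.AlgStDiagRep2

open CategoryTheory CategoryTheory.Limits AlgebraicGeometry Opposite Groth.Agent.Lib.FibGrpd
  Groth.Agent.Lib.FpEquiv Groth.Agent.Lib.AlgStDiagDict Groth.Agent.Lib.AlgStDiagDict2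
  Groth.Agent.Lib.AlgSpBasic Groth.Agent.Lib.AlgStSpTest Groth.Agent.Lib.AlgStDiagRep
  Groth.Agent.Lib.AlgStDiagQS

universe w v₅ u₅ v₄ u₄ v₃ u₃ v₂ u₂ v u

variable {S : Scheme.{u}}

section AlgSpFacts

variable {F : AlgSp.Sp S} {T : Over S}

theorem representable_diagonal' (hF : AlgSp.IsAlgSpace F) (α : F ⟶ (AlgSp.yon S).obj T) :
    AlgSp.Representable (pullback.diagonal α) :=
  Groth.Agent.Lib.AlgSpFpqc.representable_diagonal hF.diag α

/-- A monomorphism of sheaves is quasi-separated. -/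
theorem isQuasiSeparatedMor_of_mono {F G : AlgSp.Sp S} (δ : F ⟶ G) [Mono δ] :
    AlgSp.IsQuasiSeparatedMor δ := by
  have hiso : IsIso (pullback.diagonal δ) := (pullback.isIso_diagonal_iff δ).mpr inferInstance
  exact MorphismProperty.of_isIso (AlgSp.RepWith @QuasiCompact) (pullback.diagonal δ)

theorem isQuasiCompactMor_diagonal_iff (hF : AlgSp.IsAlgSpace F)
    (α : F ⟶ (AlgSp.yon S).obj T) :
    AlgSp.IsQuasiCompactMor (pullback.diagonal α) ↔ AlgSp.IsQuasiSeparatedMor α :=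
  ⟨Groth.Agent.Lib.AlgSpQC.repWith_quasiCompact_of_isQuasiCompactMor
      (representable_diagonal' hF α),
    Groth.Agent.Lib.AlgSpQC.isQuasiCompactMor_of_repWith⟩

theorem qcqs_diagonal_iff (hF : AlgSp.IsAlgSpace F) (α : F ⟶ (AlgSp.yon S).obj T) :
    qcqs (pullback.diagonal α) ↔ AlgSp.IsQuasiSeparatedMor α :=
  ⟨fun h => (isQuasiCompactMor_diagonal_iff hF α).1 h.1,
    fun h => ⟨(isQuasiCompactMor_diagonal_iff hF α).2 h,
      isQuasiSeparatedMor_of_mono (pullback.diagonal α)⟩⟩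

theorem locP_lft_diagonal (hF : AlgSp.IsAlgSpace F) (α : F ⟶ (AlgSp.yon S).obj T) :
    AlgSp.LocP @LocallyOfFiniteType (pullback.diagonal α) := by
  have hrepT : ∀ ⦃U : Over S⦄ (a : (AlgSp.yon S).obj U ⟶ (AlgSp.yon S).obj T),
      AlgSp.Representable a := fun U a => (AlgSp.IsAlgSpace.yon_obj T).representable_from_yon a
  have h1 := repWith_mono_lft_diagonal hF α hrepT
  have h2 : AlgSp.RepWith @LocallyOfFiniteType (pullback.diagonal α) :=
    repWith_mono (fun X Y g hg => hg.2) h1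
  refine locP_of_repWith _ (fun _ _ _ l w hl hw => ?_)
    (fun U a => hF.representable_from_yon a) h2
  exact Groth.Agent.Lib.AlgSpLocP.etLocalClass_lft.pre l w hl hw

theorem isFiniteTypeMor_diagonal_iff (hF : AlgSp.IsAlgSpace F) (α : F ⟶ (AlgSp.yon S).obj T) :
    AlgSp.IsFiniteTypeMor (pullback.diagonal α) ↔ AlgSp.IsQuasiSeparatedMor α :=
  ⟨fun h => (isQuasiCompactMor_diagonal_iff hF α).1 h.2,
    fun h => ⟨locP_lft_diagonal hF α, (isQuasiCompactMor_diagonal_iff hF α).2 h⟩⟩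

theorem isUnivClosedMor_diagonal_iff (hF : AlgSp.IsAlgSpace F) (α : F ⟶ (AlgSp.yon S).obj T) :
    AlgSp.IsUnivClosedMor (pullback.diagonal α) ↔ AlgSp.IsSeparatedMor α :=
  (Groth.Agent.Lib.H86ZarGlue.isUnivClosedMor_iff_repWith _ (representable_diagonal' hF α)).trans
    (Groth.Agent.Lib.AlgSpFpqc.repWith_isClosedImmersion_diagonal_iff hF
      (AlgSp.IsAlgSpace.yon_obj T) α).symm

theorem isProperMor_diagonal_iff (hF : AlgSp.IsAlgSpace F) (α : F ⟶ (AlgSp.yon S).obj T) :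
    AlgSp.IsProperMor (pullback.diagonal α) ↔ AlgSp.IsSeparatedMor α := by
  constructor
  · intro h
    exact (isUnivClosedMor_diagonal_iff hF α).1 h.2.2
  · intro h
    have sq : IsPullback (pullback.fst α α) (pullback.snd α α) α α := IsPullback.of_hasPullback α α
    have hPi : AlgSp.IsAlgSpace (pullback α α) :=
      Groth.Agent.Lib.AlgSpFibre.isAlgSpace_of_isPullback (AlgSp.IsAlgSpace.yon_obj T).diag hF hF sq
    exact Groth.Agent.S10277.result (X := ⟨F, hF⟩) (Y := ⟨pullback α α, hPi⟩)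
      (ObjectProperty.homMk (pullback.diagonal α)) h

end AlgSpFacts

section Classes

theorem baseChangeStable_isQuasiCompactMor :
    BaseChangeStable (AlgSp.IsQuasiCompactMor (S := S)) :=
  fun _ _ _ _ _ _ _ _ _ _ _ _ sq h =>
    Groth.Agent.Lib.AlgSpDescent.isQuasiCompactMor_of_isPullback sq h

theorem baseChangeStable_isFiniteTypeMor : BaseChangeStable (AlgSp.IsFiniteTypeMor (S := S)) :=
  fun _ _ _ _ hX₁ hY₁ hX₂ hY₂ _ _ _ _ sq h =>
    ⟨baseChangeStable_locP Groth.Agent.Lib.AlgSpLocP.etLocalClass_lft hX₁ hY₁ hX₂ hY₂ _ _ _ _ sq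
      h.1, Groth.Agent.Lib.AlgSpDescent.isQuasiCompactMor_of_isPullback sq h.2⟩

theorem baseChangeStable_isUnivClosedMor : BaseChangeStable (AlgSp.IsUnivClosedMor (S := S)) :=
  fun _ _ _ _ _ _ _ _ _ _ _ _ sq h => Groth.Agent.Lib.AlgSpDescent.univSp_of_isPullback sq h

theorem baseChangeStable_isProperMor : BaseChangeStable (AlgSp.IsProperMor (S := S)) :=
  fun _ _ _ _ hX₁ hY₁ hX₂ hY₂ _ _ _ _ sq h =>
    ⟨baseChangeStable_isSeparatedMor hX₁ hY₁ hX₂ hY₂ _ _ _ _ sq h.1,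
      baseChangeStable_isFiniteTypeMor hX₁ hY₁ hX₂ hY₂ _ _ _ _ sq h.2.1,
      baseChangeStable_isUnivClosedMor hX₁ hY₁ hX₂ hY₂ _ _ _ _ sq h.2.2⟩

theorem baseChangeStable_repWith (Q : MorphismProperty Scheme.{u}) :
    BaseChangeStable (AlgSp.RepWith (S := S) Q) :=
  fun _ _ _ _ _ _ _ _ _ _ _ _ sq h =>
    MorphismProperty.of_isPullback (P := AlgSp.RepWith (S := S) Q) sq h

end Classes

section Main

variable {𝒳 : BasedCategory.{v₂, u₂} (Over S)} {𝒴 : BasedCategory.{v₃, u₃} (Over S)}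

/-- General transfer: for `f` representable by algebraic spaces, if `P` of a relative diagonal is
equivalent to `Q` of the morphism, then the diagonal of `f` has `P` iff `f` has `Q`. -/
theorem repByAlgSpWith_diag_iff_of_diagonal_iff (P Q : MorphismProperty (AlgSp.Sp S))
    (hPb : BaseChangeStable P) (hPl : SchemeLocal P)
    (hPQ : ∀ ⦃F : AlgSp.Sp S⦄ ⦃T : Over S⦄, AlgSp.IsAlgSpace F →
      ∀ α : F ⟶ (AlgSp.yon S).obj T, P (pullback.diagonal α) ↔ Q α)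
    (f : 𝒳 ⥤ᵇ 𝒴) (hf : AlgSt.RepByAlgSp1 f) :
    AlgSt.RepByAlgSpWith P (FibCat.diag f) ↔ AlgSt.RepByAlgSpWith Q f :=
  (repByAlgSpWith_diag_iff_diagonal P hPb (isoInv_of_baseChange P hPb) hPl f hf).trans
    ⟨repByAlgSpWith_mono f (fun _ _ hF α h => (hPQ hF α).1 h),
      repByAlgSpWith_mono f (fun _ _ hF α h => (hPQ hF α).2 h)⟩

/-- For `f` representable: quasi-separated in the sense of stacks iff quasi-separated base changes. -/
theorem isQuasiSeparatedMor_iff (f : 𝒳 ⥤ᵇ 𝒴) (hf : AlgSt.RepByAlgSp1 f) :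
    AlgSt.IsQuasiSeparatedMor f ↔ AlgSt.RepByAlgSpWith AlgSp.IsQuasiSeparatedMor f :=
  repByAlgSpWith_diag_iff_of_diagonal_iff (qcqs (S := S)) AlgSp.IsQuasiSeparatedMor qcqs_baseChange
    (schemeLocal_of_atlasLocal (atlasLocal_of_fpqc isLocalOnBase_fpqc_qcqs))
    (fun _ _ hF α => qcqs_diagonal_iff hF α) f hf

theorem quasiCompact_diag_iff (f : 𝒳 ⥤ᵇ 𝒴) (hf : AlgSt.RepByAlgSp1 f) :
    AlgSt.RepByAlgSpWith AlgSp.IsQuasiCompactMor (FibCat.diag f) ↔
      AlgSt.RepByAlgSpWith AlgSp.IsQuasiSeparatedMor f :=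
  repByAlgSpWith_diag_iff_of_diagonal_iff AlgSp.IsQuasiCompactMor AlgSp.IsQuasiSeparatedMor
    baseChangeStable_isQuasiCompactMor
    (schemeLocal_of_atlasLocal (atlasLocal_of_fpqc
      Groth.Agent.Lib.AlgSpFpqc.isLocalOnBase_fpqc_isQuasiCompactMor))
    (fun _ _ hF α => isQuasiCompactMor_diagonal_iff hF α) f hf

theorem finiteType_diag_iff (f : 𝒳 ⥤ᵇ 𝒴) (hf : AlgSt.RepByAlgSp1 f) :
    AlgSt.RepByAlgSpWith AlgSp.IsFiniteTypeMor (FibCat.diag f) ↔
      AlgSt.RepByAlgSpWith AlgSp.IsQuasiSeparatedMor f :=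
  repByAlgSpWith_diag_iff_of_diagonal_iff AlgSp.IsFiniteTypeMor AlgSp.IsQuasiSeparatedMor
    baseChangeStable_isFiniteTypeMor
    (schemeLocal_of_atlasLocal (atlasLocal_of_fpqc
      Groth.Agent.Lib.AlgSpFpqc.isLocalOnBase_fpqc_isFiniteTypeMor))
    (fun _ _ hF α => isFiniteTypeMor_diagonal_iff hF α) f hf

theorem closedImm_diag_iff (f : 𝒳 ⥤ᵇ 𝒴) (hf : AlgSt.RepByAlgSp1 f) :
    AlgSt.IsClosedImm (FibCat.diag f) ↔ AlgSt.RepByAlgSpWith AlgSp.IsSeparatedMor f :=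
  repByAlgSpWith_diag_iff_of_diagonal_iff (AlgSp.RepWith @IsClosedImmersion) AlgSp.IsSeparatedMor
    (baseChangeStable_repWith _) (schemeLocal_repWith _) (fun _ _ _ _ => Iff.rfl) f hf

theorem proper_diag_iff (f : 𝒳 ⥤ᵇ 𝒴) (hf : AlgSt.RepByAlgSp1 f) :
    AlgSt.IsSeparatedMor f ↔ AlgSt.RepByAlgSpWith AlgSp.IsSeparatedMor f :=
  repByAlgSpWith_diag_iff_of_diagonal_iff AlgSp.IsProperMor AlgSp.IsSeparatedMor
    baseChangeStable_isProperMor
    (schemeLocal_of_atlasLocal (atlasLocal_of_fpqc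
      Groth.Agent.Lib.AlgSpFpqc.isLocalOnBase_fpqc_isProperMor))
    (fun _ _ hF α => isProperMor_diagonal_iff hF α) f hf

theorem univClosed_diag_iff (f : 𝒳 ⥤ᵇ 𝒴) (hf : AlgSt.RepByAlgSp1 f) :
    AlgSt.RepByAlgSpWith AlgSp.IsUnivClosedMor (FibCat.diag f) ↔
      AlgSt.RepByAlgSpWith AlgSp.IsSeparatedMor f :=
  repByAlgSpWith_diag_iff_of_diagonal_iff AlgSp.IsUnivClosedMor AlgSp.IsSeparatedMor
    baseChangeStable_isUnivClosedMor
    (schemeLocal_of_atlasLocal (atlasLocal_of_fpqc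
      Groth.Agent.Lib.AlgSpFpqc.isLocalOnBase_fpqc_isUnivClosedMor))
    (fun _ _ hF α => isUnivClosedMor_diagonal_iff hF α) f hf

theorem tfae_separated (f : 𝒳 ⥤ᵇ 𝒴) (hf : AlgSt.RepByAlgSp1 f) :
    [AlgSt.RepByAlgSpWith AlgSp.IsSeparatedMor f, AlgSt.IsClosedImm (FibCat.diag f),
      AlgSt.IsSeparatedMor f, AlgSt.RepByAlgSpWith AlgSp.IsUnivClosedMor (FibCat.diag f)].TFAE := by
  tfae_have 1 ↔ 2 := (closedImm_diag_iff f hf).symm
  tfae_have 1 ↔ 3 := (proper_diag_iff f hf).symm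
  tfae_have 1 ↔ 4 := (univClosed_diag_iff f hf).symm
  tfae_finish

theorem tfae_quasiSeparated (f : 𝒳 ⥤ᵇ 𝒴) (hf : AlgSt.RepByAlgSp1 f) :
    [AlgSt.RepByAlgSpWith AlgSp.IsQuasiSeparatedMor f,
      AlgSt.RepByAlgSpWith AlgSp.IsQuasiCompactMor (FibCat.diag f),
      AlgSt.RepByAlgSpWith AlgSp.IsFiniteTypeMor (FibCat.diag f)].TFAE := by
  tfae_have 1 ↔ 2 := (quasiCompact_diag_iff f hf).symm
  tfae_have 1 ↔ 3 := (finiteType_diag_iff f hf).symm
  tfae_finish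

end Main

end Groth.Agent.Lib.AlgStDiagRep2
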