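import Groth.Agent.Lib.AlgStDiagCancel
import Groth.Agent.Lib.AlgStDiagRep2

/-!
# Conjunctions of properties and descent of `RepByAlgSpWith` along representable covers (helper36)
-/

set_option autoImplicit false
set_option linter.style.haveILetI false

namespace Groth.Agent.Lib.AlgStCover

open CategoryTheory CategoryTheory.Limits AlgebraicGeometry Opposite Groth.Agent.Lib.FibGrpd
  Groth.Agent.Lib.FpEquiv Groth.Agent.Lib.AlgStRep Groth.Agent.Lib.AlgStSpTest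
  Groth.Agent.Lib.AlgStDiagQS

universe w v₅ u₅ v₄ u₄ v₃ u₃ v₂ u₂ v u

variable {S : Scheme.{u}}

section Inf

variable {𝒳 : BasedCategory.{v₂, u₂} (Over S)} {𝒴 : BasedCategory.{v₃, u₃} (Over S)}

/-- `RepByAlgSpWith` of a conjunction, when one of the properties is invariant under isomorphisms. -/
theorem repByAlgSpWith_and_iff (P Q : MorphismProperty (AlgSp.Sp S)) (hQi : IsoInv Q)
    (h : 𝒳 ⥤ᵇ 𝒴) :
    AlgSt.RepByAlgSpWith (fun _ _ a => P a ∧ Q a) h ↔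
      AlgSt.RepByAlgSpWith P h ∧ AlgSt.RepByAlgSpWith Q h := by
  constructor
  · intro H
    refine ⟨fun T y => ?_, fun T y => ?_⟩
    · obtain ⟨F, e, he, hP⟩ := H T y
      exact ⟨F, e, he, hP.1⟩
    · obtain ⟨F, e, he, hP⟩ := H T y
      exact ⟨F, e, he, hP.2⟩
  · rintro ⟨HP, HQ⟩ T y
    obtain ⟨F, e, he, hP⟩ := HP T y
    refine ⟨F, e, he, hP, ?_⟩
    have h2 : RepData Q (BasedFunctor.comp e (FibCat.fpFst y h)) :=
      repData_of_equiv' e he (Iso.refl _) (HQ T y)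
    exact prop_spMapOfOver_of_repData Q hQi F.property _ h2

theorem repByAlgSpWith_inf_iff (P Q : MorphismProperty (AlgSp.Sp S)) (hQi : IsoInv Q)
    (h : 𝒳 ⥤ᵇ 𝒴) :
    AlgSt.RepByAlgSpWith (P ⊓ Q) h ↔ AlgSt.RepByAlgSpWith P h ∧ AlgSt.RepByAlgSpWith Q h :=
  repByAlgSpWith_and_iff P Q hQi h

end Inf

section QS

variable {𝒳 𝒴 : AlgSt.Cat S}

theorem isoInv_isQuasiSeparatedMor : IsoInv (AlgSp.IsQuasiSeparatedMor (S := S)) :=
  isoInv_of_baseChange _ (fun _ _ _ _ _ _ _ _ _ _ _ _ sq h => isQuasiSeparatedMor_of_isPullback sq h)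

/-- A morphism of algebraic stacks is quasi-separated iff its first and second diagonals are
quasi-compact. -/
theorem isQuasiSeparatedMor_iff_diag_diag (h𝒳 : AlgSt.IsAlgStack Scheme.fppfPrecoverage 𝒳)
    (h𝒴 : AlgSt.IsAlgStack Scheme.fppfPrecoverage 𝒴) (f : 𝒳 ⥤ᵇ 𝒴) :
    AlgSt.IsQuasiSeparatedMor f ↔
      AlgSt.RepByAlgSpWith AlgSp.IsQuasiCompactMor (FibCat.diag f) ∧
        AlgSt.RepByAlgSpWith AlgSp.IsQuasiCompactMor (FibCat.diag (FibCat.diag f)) := by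
  have hΔ : AlgSt.RepByAlgSp1 (FibCat.diag f) :=
    Groth.Agent.Lib.AlgStDiagCancel.repByAlgSp1_diag_of_isAlgStack h𝒳 h𝒴 f
  rw [Groth.Agent.Lib.AlgStDiagRep2.quasiCompact_diag_iff (FibCat.diag f) hΔ]
  exact repByAlgSpWith_inf_iff _ _ isoInv_isQuasiSeparatedMor (FibCat.diag f)

end QS

section Descent

open Groth.Agent.Lib.AlgStFp Groth.Agent.Lib.AlgSpLocP

/-- The class of flat, locally finitely presented, surjective morphisms. -/
def Cov : MorphismProperty (AlgSp.Sp S) := fun _ _ a =>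
  (AlgSp.LocP @Flat a ∧ AlgSp.LocP @LocallyOfFinitePresentation a) ∧ AlgSp.IsSurjectiveMor a

theorem isoInv_and {P Q : MorphismProperty (AlgSp.Sp S)} (hP : IsoInv P) (hQ : IsoInv Q) :
    IsoInv (fun _ _ a => P a ∧ Q a) :=
  fun _ _ _ hX hX' hY i f h => ⟨hP hX hX' hY i f h.1, hQ hX hX' hY i f h.2⟩

theorem atlasLocal_and {P Q : MorphismProperty (AlgSp.Sp S)} (hP : AtlasLocal P)
    (hQ : AtlasLocal Q) : AtlasLocal (fun _ _ a => P a ∧ Q a) :=
  fun _ _ _ hZ hV hX a _ p hpe hps fst snd sq h =>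
    ⟨hP hZ hV hX a p hpe hps fst snd sq h.1, hQ hZ hV hX a p hpe hps fst snd sq h.2⟩

theorem isoInv_cov : IsoInv (Cov (S := S)) :=
  isoInv_and (isoInv_and (Groth.Agent.Lib.AlgStAtlas.isoInv_locP _)
    (Groth.Agent.Lib.AlgStAtlas.isoInv_locP _)) Groth.Agent.Lib.AlgStAtlas.isoInv_isSurjectiveMor

theorem atlasLocal_cov : AtlasLocal (Cov (S := S)) :=
  atlasLocal_and (atlasLocal_and (Groth.Agent.Lib.AlgStDiagLocP.atlasLocal_locP etLocalClass_flat)
    (Groth.Agent.Lib.AlgStDiagLocP.atlasLocal_locP etLocalClass_lfp))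
    Groth.Agent.Lib.AlgStAtlas.atlasLocal_isSurjectiveMor

variable {𝒜 ℬ 𝒞 : AlgSt.Cat S}

theorem repByAlgSpWith_cov (c : 𝒞 ⥤ᵇ ℬ) (hc₁ : AlgSt.RepByAlgSpWith (AlgSp.LocP @Flat) c)
    (hc₂ : AlgSt.RepByAlgSpWith (AlgSp.LocP @LocallyOfFinitePresentation) c)
    (hc₃ : AlgSt.RepByAlgSpWith AlgSp.IsSurjectiveMor c) : AlgSt.RepByAlgSpWith Cov c :=
  (repByAlgSpWith_and_iff _ _ Groth.Agent.Lib.AlgStAtlas.isoInv_isSurjectiveMor c).2
    ⟨(repByAlgSpWith_and_iff _ _ (Groth.Agent.Lib.AlgStAtlas.isoInv_locP _) c).2 ⟨hc₁, hc₂⟩, hc₃⟩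

/-- **Descent along representable fppf covers.** If `g : 𝒜 ⟶ ℬ` is representable by algebraic
spaces, `c : 𝒞 ⟶ ℬ` is representable, flat, locally of finite presentation and surjective, and the
base change `𝒞 ×_ℬ 𝒜 ⟶ 𝒞` has `P` (fppf local on the base), then `g` has `P`. -/
theorem repByAlgSpWith_of_cover [FibCat.IsFibGrpd 𝒜.p] [FibCat.IsFibGrpd ℬ.p]
    [FibCat.IsFibGrpd 𝒞.p] (P : MorphismProperty (AlgSp.Sp S)) (hPi : IsoInv P)
    (hPl : AlgSp.IsLocalOnBase AlgSp.IsFppfCover P) (g : 𝒜 ⥤ᵇ ℬ) (hg : AlgSt.RepByAlgSp1 g)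
    (c : 𝒞 ⥤ᵇ ℬ) (hc : AlgSt.RepByAlgSpWith Cov c)
    (h : AlgSt.RepByAlgSpWith P (FibCat.fpFst c g)) : AlgSt.RepByAlgSpWith P g := by
  apply repByAlgSpWith_of_forall_space P g
  intro Z z
  obtain ⟨V, e, he⟩ := Groth.Agent.Lib.AlgStBoot.repByAlgSp_fp_of_repByAlgSp1 g z hg
    ⟨Z, BasedFunctor.id _, isEquivOver_id⟩
  obtain ⟨a, ⟨γ⟩⟩ := exists_ofSpMap_iso (BasedFunctor.comp e (FibCat.fpFst z g))
  refine ⟨V, ObjectProperty.homMk a, e, he, ⟨γ⟩, ?_⟩
  obtain ⟨V', c', e', he', ⟨γ'⟩, hc'⟩ := exists_rep_over_space Cov isoInv_cov atlasLocal_cov c hc Z z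
  obtain ⟨W, q, hqe, hqs⟩ := V'.property.atlas
  have hW : AlgSp.IsAlgSpace ((AlgSp.yon S).obj W) := AlgSp.IsAlgSpace.yon_obj W
  have hq := isFppfCover_of_chart q hqe hqs
  have hcov : AlgSp.IsFppfCover (fun _ : PUnit.{u + 1} => (AlgSp.yon S).obj W)
      (fun _ => q ≫ c'.hom) := by
    refine ⟨fun _ => ⟨?_, ?_⟩, fun x => ⟨PUnit.unit, ?_⟩⟩
    · exact locP_comp etLocalClass_flat hW V'.property Z.property (hq.1 PUnit.unit).1 hc'.1.1
    · exact locP_comp etLocalClass_lfp hW V'.property Z.property (hq.1 PUnit.unit).2 hc'.1.2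
    · have hs : AlgSp.IsSurjectiveMor q :=
        Groth.Agent.Lib.H86AlgSpPoints.map_surjective_of_repWith hqs
      exact Groth.Agent.Lib.AlgStAtlas.isSurjectiveMor_comp q c'.hom hs hc'.2 x
  have sq : IsPullback (pullback.fst (q ≫ c'.hom) a) (pullback.snd (q ≫ c'.hom) a)
      (q ≫ c'.hom) a := IsPullback.of_hasPullback _ _
  have hX : AlgSp.IsAlgSpace (pullback (q ≫ c'.hom) a) :=
    Groth.Agent.Lib.AlgSpFibre.isAlgSpace_of_isPullback Z.property.diag hW V.property sq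
  have hfst : P (pullback.fst (q ≫ c'.hom) a) := by
    let l : FibCat.overCat W ⥤ᵇ 𝒞 :=
      BasedFunctor.comp (BasedFunctor.comp (BasedFunctor.comp (AlgSt.ofOverCat W) (AlgSt.ofSpMap q))
        e') (FibCat.fpSnd z c)
    have h1 : RepData P (FibCat.fpFst l (FibCat.fpFst c g)) := h W l
    have h2 : RepData P (FibCat.fpFst (BasedFunctor.comp l c) g) :=
      repData_of_equiv (fpPasteLeft l c g) (fpPasteLeft_isEquivOver l c g) (Iso.refl _) h1
    let y₀ : FibCat.overCat W ⥤ᵇ ℬ :=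
      BasedFunctor.comp (BasedFunctor.comp (AlgSt.ofOverCat W) (AlgSt.ofSpMap (q ≫ c'.hom))) z
    have α : BasedFunctor.comp l c ≅ y₀ :=
      (whiskerLeftIso (BasedFunctor.comp (BasedFunctor.comp (AlgSt.ofOverCat W) (AlgSt.ofSpMap q))
        e') (FibCat.fpIso z c)).symm ≪≫
      whiskerRightIso (whiskerLeftIso (BasedFunctor.comp (AlgSt.ofOverCat W) (AlgSt.ofSpMap q))
        γ') z
    have h3 : RepData P (FibCat.fpFst y₀ g) :=
      (Groth.Agent.Lib.AlgStDiag2.repData_congr P g α).1 h2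
    have h4 := repData_fst_of_repData P g z e he a γ (q ≫ c'.hom) sq h3
    have h5 := prop_spMapOfOver_of_repData P hPi hX _ h4
    rw [spMapOfOver_ofSpMap_toOverCat] at h5
    exact h5
  exact (hPl (fun _ : PUnit.{u + 1} => (AlgSp.yon S).obj W) (fun _ => q ≫ c'.hom) Z.property
    (fun _ => hW) hcov a V.property (fun _ => pullback (q ≫ c'.hom) a)
    (fun _ => pullback.fst _ _) (fun _ => pullback.snd _ _) (fun _ => hX)
    (fun _ => sq.flip)).2 (fun _ => hfst)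

end Descent

end Groth.Agent.Lib.AlgStCover
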