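import Groth.Prelude.Def_FibCat2
import Groth.Agent.Lib.FpEquiv

/-!
# The relation "equivalent over the base" and its calculus for 2-fibre products (helper64)

`EquivOver 𝒳 𝒴` : there is a functor `𝒳 ⥤ᵇ 𝒴` which is an equivalence over the base. It is reflexive,
symmetric and transitive, universe-general, and 2-fibre products respect it.
-/

set_option autoImplicit false
set_option linter.style.haveILetI false
set_option backward.isDefEq.respectTransparency false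
set_option backward.isDefEq.respectTransparency.types false

namespace Groth.Agent.Lib.EquivOver

open CategoryTheory Functor Groth.Agent.Lib.FibGrpd Groth.Agent.Lib.FpEquiv

universe v₆ u₆ v₅ u₅ v₄ u₄ v₃ u₃ v₂ u₂ v u

variable {C : Type u} [Category.{v} C]

/-- Two categories over `C` are equivalent over `C`. -/
def EquivOver (𝒳 : BasedCategory.{v₂, u₂} C) (𝒴 : BasedCategory.{v₃, u₃} C) : Prop :=
  ∃ E : 𝒳 ⥤ᵇ 𝒴, FibCat.IsEquivOver E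

section Basic

variable {𝒳 : BasedCategory.{v₂, u₂} C} {𝒴 : BasedCategory.{v₃, u₃} C}
  {𝒵 : BasedCategory.{v₄, u₄} C}

theorem EquivOver.of {E : 𝒳 ⥤ᵇ 𝒴} (hE : FibCat.IsEquivOver E) : EquivOver 𝒳 𝒴 := ⟨E, hE⟩

theorem EquivOver.refl (𝒳 : BasedCategory.{v₂, u₂} C) : EquivOver 𝒳 𝒳 :=
  ⟨BasedFunctor.id 𝒳, isEquivOver_id⟩

theorem EquivOver.symm (h : EquivOver 𝒳 𝒴) : EquivOver 𝒴 𝒳 := by
  obtain ⟨E, hE⟩ := h
  exact isEquivOver_inv hE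

theorem EquivOver.trans (h : EquivOver 𝒳 𝒴) (h' : EquivOver 𝒴 𝒵) : EquivOver 𝒳 𝒵 := by
  obtain ⟨E, hE⟩ := h
  obtain ⟨E', hE'⟩ := h'
  exact ⟨BasedFunctor.comp E E', isEquivOver_comp hE hE'⟩

theorem EquivOver.isRepresentable_iff (h : EquivOver 𝒳 𝒴) :
    FibCat.IsRepresentable 𝒳 ↔ FibCat.IsRepresentable 𝒴 := by
  obtain ⟨E, hE⟩ := h
  exact isRepresentable_iff_of_isEquivOver hE

end Basic

section Fp

variable {𝒳 : BasedCategory.{v₂, u₂} C} {𝒴 : BasedCategory.{v₃, u₃} C}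
  {𝒮 : BasedCategory.{v₄, u₄} C}

/-- The 2-fibre product only depends on the first functor up to 2-isomorphism. -/
theorem fp_congr_left {F F' : 𝒳 ⥤ᵇ 𝒮} (γ : F' ≅ F) (G : 𝒴 ⥤ᵇ 𝒮) :
    EquivOver (FibCat.fp F' G) (FibCat.fp F G) := by
  let α : BasedFunctor.comp F' (BasedFunctor.id 𝒮) ≅ BasedFunctor.comp (BasedFunctor.id 𝒳) F :=
    compIdIso F' ≪≫ γ ≪≫ (idCompIso F).symm
  let β : BasedFunctor.comp G (BasedFunctor.id 𝒮) ≅ BasedFunctor.comp (BasedFunctor.id 𝒴) G :=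
    compIdIso G ≪≫ (idCompIso G).symm
  exact ⟨_, fpMap_isEquivOver (BasedFunctor.id 𝒳) (BasedFunctor.id 𝒴) (BasedFunctor.id 𝒮) α β
    isEquivOver_id isEquivOver_id⟩

/-- The 2-fibre product only depends on the second functor up to 2-isomorphism. -/
theorem fp_congr_right (F : 𝒳 ⥤ᵇ 𝒮) {G G' : 𝒴 ⥤ᵇ 𝒮} (γ : G' ≅ G) :
    EquivOver (FibCat.fp F G') (FibCat.fp F G) := by
  let α : BasedFunctor.comp F (BasedFunctor.id 𝒮) ≅ BasedFunctor.comp (BasedFunctor.id 𝒳) F :=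
    compIdIso F ≪≫ (idCompIso F).symm
  let β : BasedFunctor.comp G' (BasedFunctor.id 𝒮) ≅ BasedFunctor.comp (BasedFunctor.id 𝒴) G :=
    compIdIso G' ≪≫ γ ≪≫ (idCompIso G).symm
  exact ⟨_, fpMap_isEquivOver (BasedFunctor.id 𝒳) (BasedFunctor.id 𝒴) (BasedFunctor.id 𝒮) α β
    isEquivOver_id isEquivOver_id⟩

/-- Precomposing the first functor of a 2-fibre product with an equivalence over the base. -/
theorem fp_precomp_left {𝒳' : BasedCategory.{v₅, u₅} C} (a : 𝒳' ⥤ᵇ 𝒳)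
    (ha : FibCat.IsEquivOver a) (F : 𝒳 ⥤ᵇ 𝒮) (G : 𝒴 ⥤ᵇ 𝒮) :
    EquivOver (FibCat.fp (BasedFunctor.comp a F) G) (FibCat.fp F G) := by
  let α : BasedFunctor.comp (BasedFunctor.comp a F) (BasedFunctor.id 𝒮) ≅ BasedFunctor.comp a F :=
    compIdIso _
  let β : BasedFunctor.comp G (BasedFunctor.id 𝒮) ≅ BasedFunctor.comp (BasedFunctor.id 𝒴) G :=
    compIdIso G ≪≫ (idCompIso G).symm
  exact ⟨_, fpMap_isEquivOver a (BasedFunctor.id 𝒴) (BasedFunctor.id 𝒮) α β ha isEquivOver_id⟩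

/-- Precomposing the second functor of a 2-fibre product with an equivalence over the base. -/
theorem fp_precomp_right {𝒴' : BasedCategory.{v₅, u₅} C} (b : 𝒴' ⥤ᵇ 𝒴)
    (hb : FibCat.IsEquivOver b) (F : 𝒳 ⥤ᵇ 𝒮) (G : 𝒴 ⥤ᵇ 𝒮) :
    EquivOver (FibCat.fp F (BasedFunctor.comp b G)) (FibCat.fp F G) := by
  let α : BasedFunctor.comp F (BasedFunctor.id 𝒮) ≅ BasedFunctor.comp (BasedFunctor.id 𝒳) F :=
    compIdIso F ≪≫ (idCompIso F).symm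
  let β : BasedFunctor.comp (BasedFunctor.comp b G) (BasedFunctor.id 𝒮) ≅ BasedFunctor.comp b G :=
    compIdIso _
  exact ⟨_, fpMap_isEquivOver (BasedFunctor.id 𝒳) b (BasedFunctor.id 𝒮) α β isEquivOver_id hb⟩

/-- Precomposing both functors of a 2-fibre product with equivalences over the base. -/
theorem fp_precomp {𝒳' : BasedCategory.{v₅, u₅} C} {𝒴' : BasedCategory.{v₆, u₆} C}
    (a : 𝒳' ⥤ᵇ 𝒳) (ha : FibCat.IsEquivOver a) (b : 𝒴' ⥤ᵇ 𝒴) (hb : FibCat.IsEquivOver b)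
    (F : 𝒳 ⥤ᵇ 𝒮) (G : 𝒴 ⥤ᵇ 𝒮) :
    EquivOver (FibCat.fp (BasedFunctor.comp a F) (BasedFunctor.comp b G)) (FibCat.fp F G) :=
  (fp_precomp_left a ha F (BasedFunctor.comp b G)).trans (fp_precomp_right b hb F G)

/-- Postcomposing both functors of a 2-fibre product with a fully faithful functor over the base. -/
theorem fp_postcomp {𝒮' : BasedCategory.{v₅, u₅} C} (F : 𝒳 ⥤ᵇ 𝒮) (G : 𝒴 ⥤ᵇ 𝒮)
    (c : 𝒮 ⥤ᵇ 𝒮') [c.toFunctor.Full] [c.toFunctor.Faithful] :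
    EquivOver (FibCat.fp F G) (FibCat.fp (BasedFunctor.comp F c) (BasedFunctor.comp G c)) := by
  let α : BasedFunctor.comp F c ≅ BasedFunctor.comp (BasedFunctor.id 𝒳) (BasedFunctor.comp F c) :=
    (idCompIso _).symm
  let β : BasedFunctor.comp G c ≅ BasedFunctor.comp (BasedFunctor.id 𝒴) (BasedFunctor.comp G c) :=
    (idCompIso _).symm
  exact ⟨_, fpMap_isEquivOver (BasedFunctor.id 𝒳) (BasedFunctor.id 𝒴) c α β isEquivOver_id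
    isEquivOver_id⟩

/-- Postcomposing both functors of a 2-fibre product with an equivalence over the base. -/
theorem fp_postcomp_equiv {𝒮' : BasedCategory.{v₅, u₅} C} (F : 𝒳 ⥤ᵇ 𝒮) (G : 𝒴 ⥤ᵇ 𝒮)
    (c : 𝒮 ⥤ᵇ 𝒮') (hc : FibCat.IsEquivOver c) :
    EquivOver (FibCat.fp F G) (FibCat.fp (BasedFunctor.comp F c) (BasedFunctor.comp G c)) := by
  obtain ⟨hc1, hc2, -⟩ := ff_ess_of_isEquivOver c hc
  exact fp_postcomp F G c

end Fp

section Paste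

variable {𝒰 : BasedCategory.{v₂, u₂} C} {𝒵 : BasedCategory.{v₃, u₃} C}
  {𝒴 : BasedCategory.{v₄, u₄} C} {𝒳 : BasedCategory.{v₅, u₅} C}

/-- `𝒰 ×_𝒵 (𝒵 ×_𝒴 𝒳) ≃ 𝒰 ×_𝒴 𝒳`. -/
theorem fp_pasteLeft (h : 𝒰 ⥤ᵇ 𝒵) (g : 𝒵 ⥤ᵇ 𝒴) (f : 𝒳 ⥤ᵇ 𝒴) :
    EquivOver (FibCat.fp h (FibCat.fpFst g f)) (FibCat.fp (BasedFunctor.comp h g) f) :=
  ⟨_, fpPasteLeft_isEquivOver h g f⟩

/-- `(𝒰 ×_𝒵 𝒴) ×_𝒴 𝒳 ≃ 𝒰 ×_𝒵 𝒳`. -/
theorem fp_pasteRight (h : 𝒰 ⥤ᵇ 𝒵) (g : 𝒴 ⥤ᵇ 𝒵) (f : 𝒳 ⥤ᵇ 𝒴) :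
    EquivOver (FibCat.fp (FibCat.fpSnd h g) f) (FibCat.fp h (BasedFunctor.comp f g)) :=
  ⟨_, fpPasteRight_isEquivOver h g f⟩

end Paste

end Groth.Agent.Lib.EquivOver
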