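import Mathlib.CategoryTheory.Limits.Types.Pullbacks
import Mathlib.CategoryTheory.Limits.Shapes.Pullback.IsPullback.Basic
import Groth.Prelude.Def_AlgSt
import Groth.Agent.Lib.EquivOver

/-!
# Categories over `C` of presheaves: 2-fibre products and 2-Yoneda (helper64)

* `eltIso` : equal sections give isomorphic objects of `Stk.ofPsh Q`.
* `pshFpFunctor` : for a commutative square of presheaves `P ⟶ A, P ⟶ B` over `H`, the functor
  `ofPsh P ⟶ ofPsh A ×_{ofPsh H} ofPsh B` over `C`; it is an equivalence over `C` when the square is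
  sectionwise a pullback (`pshFpFunctor_isEquivOver`), in particular for pullback squares of presheaves
  (`pshFpFunctor_isEquivOver_of_isPullback`).
* `pshYonedaMor Φ`, `pshYonedaIso Φ : Φ ≅ ofPshMap (pshYonedaMor Φ)` : every functor over `C` between
  categories of presheaves is induced by a unique map of presheaves.
-/

set_option autoImplicit false
set_option linter.style.haveILetI false
set_option backward.isDefEq.respectTransparency false
set_option backward.isDefEq.respectTransparency.types false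

namespace Groth.Agent.Lib.PshFp

open CategoryTheory Functor Opposite Limits Groth.Agent.Lib.FibGrpd Groth.Agent.Lib.FpEquiv
  Groth.Agent.Lib.EquivOver

universe w v u

variable {C : Type u} [Category.{v} C]

section Elt

variable {Q : Cᵒᵖ ⥤ Type w}

/-- Equal sections give isomorphic objects (over the identity). -/
def eltIso {T : C} {s s' : Q.obj (op T)} (h : s' = s) :
    (⟨T, s⟩ : Stk.EltObj Q) ≅ (⟨T, s'⟩ : Stk.EltObj Q) where
  hom := ⟨𝟙 T, by simp [h]⟩
  inv := ⟨𝟙 T, by simp [h]⟩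
  hom_inv_id := Stk.EltObj.hom_ext (by simp)
  inv_hom_id := Stk.EltObj.hom_ext (by simp)

@[simp] theorem eltIso_hom_hom {T : C} {s s' : Q.obj (op T)} (h : s' = s) :
    (eltIso h).hom.hom = 𝟙 T := rfl

@[simp] theorem eltIso_inv_hom {T : C} {s s' : Q.obj (op T)} (h : s' = s) :
    (eltIso h).inv.hom = 𝟙 T := rfl

theorem isHomLift_ofPsh {a b : Stk.EltObj Q} (f : a ⟶ b) :
    (Stk.ofPsh Q).p.IsHomLift f.hom f :=
  IsHomLift.map (Stk.EltObj.forget Q) f

theorem isHomLift_eltIso {T : C} {s s' : Q.obj (op T)} (h : s' = s) :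
    (Stk.ofPsh Q).p.IsHomLift (𝟙 T) (eltIso h).hom :=
  isHomLift_ofPsh (eltIso h).hom

end Elt

section Fp

variable {A B H P : Cᵒᵖ ⥤ Type w} {a : A ⟶ H} {b : B ⟶ H} {fst : P ⟶ A} {snd : P ⟶ B}

theorem sq_apply (hw : fst ≫ a = snd ≫ b) (x : Stk.EltObj P) :
    b.app _ (snd.app _ x.sec) = a.app _ (fst.app _ x.sec) := by
  have := congrArg (fun t : P ⟶ H => t.app (op x.base) x.sec) hw
  exact this.symm

/-- The 2-isomorphism used to define `pshFpFunctor`. -/
def pshFpIso (hw : fst ≫ a = snd ≫ b) :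
    BasedFunctor.comp (Stk.ofPshMap fst) (Stk.ofPshMap a) ≅
      BasedFunctor.comp (Stk.ofPshMap snd) (Stk.ofPshMap b) :=
  BasedNatIso.mkNatIso
    (NatIso.ofComponents (fun x => eltIso (sq_apply hw x)) (fun {x y} f => by
      apply Stk.EltObj.hom_ext
      show f.hom ≫ 𝟙 _ = 𝟙 _ ≫ f.hom
      rw [Category.comp_id, Category.id_comp]))
    (fun x => isHomLift_eltIso (sq_apply hw x))

/-- The comparison `ofPsh P ⟶ ofPsh A ×_{ofPsh H} ofPsh B`. -/
def pshFpFunctor (hw : fst ≫ a = snd ≫ b) :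
    Stk.ofPsh P ⥤ᵇ FibCat.fp (Stk.ofPshMap a) (Stk.ofPshMap b) :=
  FibCat.fpLift (Stk.ofPshMap fst) (Stk.ofPshMap snd) (pshFpIso hw)

theorem pshFpFunctor_faithful (hw : fst ≫ a = snd ≫ b) :
    (pshFpFunctor hw).toFunctor.Faithful where
  map_injective {x y} f g hfg := by
    apply Stk.EltObj.hom_ext
    exact congrArg (fun k : (pshFpFunctor hw).obj x ⟶ (pshFpFunctor hw).obj y => k.hom.fst.hom) hfg

theorem pshFpFunctor_full (hw : fst ≫ a = snd ≫ b)
    (hinj : ∀ (T : Cᵒᵖ) (p p' : P.obj T), fst.app T p = fst.app T p' →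
      snd.app T p = snd.app T p' → p = p') :
    (pshFpFunctor hw).toFunctor.Full where
  map_surjective {x y} n := by
    let g₁ : x.base ⟶ y.base := n.hom.fst.hom
    let g₂ : x.base ⟶ y.base := n.hom.snd.hom
    have h1 : A.map g₁.op (fst.app _ y.sec) = fst.app _ x.sec := n.hom.fst.map_sec
    have h2 : B.map g₂.op (snd.app _ y.sec) = snd.app _ x.sec := n.hom.snd.map_sec
    have hg : g₁ = g₂ := by
      have := congrArg (fun k : (Stk.ofPshMap a).obj ((pshFpFunctor hw).obj x).obj.fst ⟶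
        (Stk.ofPshMap b).obj ((pshFpFunctor hw).obj y).obj.snd => k.hom) n.hom.w
      have e : g₁ ≫ 𝟙 _ = 𝟙 _ ≫ g₂ := this
      rw [Category.comp_id, Category.id_comp] at e
      exact e
    have hsec : P.map g₁.op y.sec = x.sec := by
      apply hinj
      · rw [NatTrans.naturality_apply, h1]
      · rw [NatTrans.naturality_apply, hg, h2]
    refine ⟨⟨g₁, hsec⟩, ?_⟩
    apply fp_hom_ext
    · apply Stk.EltObj.hom_ext
      rfl
    · apply Stk.EltObj.hom_ext
      exact hg

theorem pshFpFunctor_isEquivOver (hw : fst ≫ a = snd ≫ b)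
    (hinj : ∀ (T : Cᵒᵖ) (p p' : P.obj T), fst.app T p = fst.app T p' →
      snd.app T p = snd.app T p' → p = p')
    (hsurj : ∀ (T : Cᵒᵖ) (x : A.obj T) (y : B.obj T), a.app T x = b.app T y →
      ∃ p : P.obj T, fst.app T p = x ∧ snd.app T p = y) :
    FibCat.IsEquivOver (pshFpFunctor hw) := by
  haveI := pshFpFunctor_faithful (fst := fst) (snd := snd) hw
  haveI := pshFpFunctor_full hw hinj
  apply isEquivOver_of_ff_of_ess
  intro z
  let T : C := z.obj.fst.base
  let x : A.obj (op T) := z.obj.fst.sec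
  let g : T ⟶ z.obj.snd.base := z.obj.iso.hom.hom
  let g' : z.obj.snd.base ⟶ T := z.obj.iso.inv.hom
  have hgg' : g ≫ g' = 𝟙 T :=
    congrArg (fun k : (Stk.ofPshMap a).obj z.obj.fst ⟶ (Stk.ofPshMap a).obj z.obj.fst => k.hom)
      z.obj.iso.hom_inv_id
  have hg'g : g' ≫ g = 𝟙 z.obj.snd.base :=
    congrArg (fun k : (Stk.ofPshMap b).obj z.obj.snd ⟶ (Stk.ofPshMap b).obj z.obj.snd => k.hom)
      z.obj.iso.inv_hom_id
  let y' : B.obj (op T) := B.map g.op z.obj.snd.sec
  have hxy : a.app _ x = b.app _ y' := by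
    have h1 : H.map g.op (b.app _ z.obj.snd.sec) = a.app _ x := z.obj.iso.hom.map_sec
    rw [← h1]
    exact (NatTrans.naturality_apply b g.op z.obj.snd.sec).symm
  obtain ⟨p, hp1, hp2⟩ := hsurj (op T) x y' hxy
  let e₁ : ((pshFpFunctor hw).obj ⟨T, p⟩).obj.fst ≅ z.obj.fst := eltIso hp1.symm
  let e₂ : ((pshFpFunctor hw).obj ⟨T, p⟩).obj.snd ≅ z.obj.snd :=
    { hom := ⟨g, hp2.symm⟩
      inv := ⟨g', by
        show B.map g'.op (snd.app (op T) p) = z.obj.snd.sec
        rw [hp2]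
        show B.map g'.op (B.map g.op z.obj.snd.sec) = z.obj.snd.sec
        rw [← Functor.map_comp_apply, ← op_comp, hg'g]
        simp⟩
      hom_inv_id := Stk.EltObj.hom_ext hgg'
      inv_hom_id := Stk.EltObj.hom_ext hg'g }
  have hcompat : (Stk.ofPshMap a).map e₁.hom ≫ z.obj.iso.hom =
      ((pshFpFunctor hw).obj ⟨T, p⟩).obj.iso.hom ≫ (Stk.ofPshMap b).map e₂.hom := by
    apply Stk.EltObj.hom_ext
    show 𝟙 T ≫ g = 𝟙 T ≫ g
    rfl
  let e : (pshFpFunctor hw).obj ⟨T, p⟩ ≅ z :=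
    fpIsoMk (z := (pshFpFunctor hw).obj ⟨T, p⟩) (z' := z) e₁ e₂ hcompat
  refine ⟨⟨T, p⟩, e, ?_⟩
  show (FibCat.fp (Stk.ofPshMap a) (Stk.ofPshMap b)).p.IsHomLift (𝟙 T) e.hom
  rw [fp_isHomLift_iff]
  exact isHomLift_eltIso hp1.symm

theorem pshFpFunctor_isEquivOver_of_isPullback (sq : IsPullback fst snd a b) :
    FibCat.IsEquivOver (pshFpFunctor sq.w) := by
  have key : ∀ T : Cᵒᵖ, IsPullback (fst.app T) (snd.app T) (a.app T) (b.app T) := fun T => sq.app T
  apply pshFpFunctor_isEquivOver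
  · intro T p p' h1 h2
    exact Limits.Types.ext_of_isPullback (key T) h1 h2
  · intro T x y h
    exact Limits.Types.exists_of_isPullback (key T) x y h

end Fp

section Yoneda

variable {A B : Cᵒᵖ ⥤ Type w} (Φ : Stk.ofPsh A ⥤ᵇ Stk.ofPsh B)

theorem base_eq (x : Stk.EltObj A) : (Φ.obj x).base = x.base := Φ.w_obj x

theorem map_hom_eq {x y : Stk.EltObj A} (f : x ⟶ y) :
    (Φ.map f).hom = eqToHom (base_eq Φ x) ≫ f.hom ≫ eqToHom (base_eq Φ y).symm :=
  Functor.congr_hom Φ.w f

/-- The section of `B` over `T` attached by `Φ` to a section of `A` over `T`. -/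
def yonSec (x : Stk.EltObj A) : B.obj (op x.base) :=
  B.map (eqToHom (base_eq Φ x).symm).op (Φ.obj x).sec

theorem yonSec_map {x y : Stk.EltObj A} (f : x ⟶ y) :
    B.map f.hom.op (yonSec Φ y) = yonSec Φ x := by
  unfold yonSec
  have h : B.map (Φ.map f).hom.op (Φ.obj y).sec = (Φ.obj x).sec := (Φ.map f).map_sec
  rw [map_hom_eq] at h
  rw [← h]
  simp only [← Functor.map_comp_apply, ← op_comp]
  congr 2
  simp

/-- The map of presheaves classifying a functor over `C` between categories of presheaves. -/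
def pshYonedaMor : A ⟶ B where
  app T := ↾fun x => yonSec Φ ⟨T.unop, x⟩
  naturality T T' g := by
    ext x
    exact (yonSec_map Φ
      (⟨g.unop, rfl⟩ : (⟨T'.unop, A.map g x⟩ : Stk.EltObj A) ⟶ ⟨T.unop, x⟩)).symm

theorem pshYonedaMor_app (x : Stk.EltObj A) :
    (pshYonedaMor Φ).app (op x.base) x.sec = yonSec Φ x := rfl

/-- The component of `pshYonedaIso`. -/
def pshYonedaObjIso (x : Stk.EltObj A) : Φ.obj x ≅ (Stk.ofPshMap (pshYonedaMor Φ)).obj x where
  hom := ⟨eqToHom (base_eq Φ x), by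
    show B.map (eqToHom (base_eq Φ x)).op (yonSec Φ x) = (Φ.obj x).sec
    unfold yonSec
    simp only [← Functor.map_comp_apply, ← op_comp, eqToHom_trans, eqToHom_refl]
    simp⟩
  inv := ⟨eqToHom (base_eq Φ x).symm, rfl⟩
  hom_inv_id := Stk.EltObj.hom_ext (by simp)
  inv_hom_id := Stk.EltObj.hom_ext (by simp)

@[simp] theorem pshYonedaObjIso_hom_hom (x : Stk.EltObj A) :
    (pshYonedaObjIso Φ x).hom.hom = eqToHom (base_eq Φ x) := rfl

/-- Every functor over `C` between categories of presheaves is induced by a map of presheaves. -/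
def pshYonedaIso : Φ ≅ Stk.ofPshMap (pshYonedaMor Φ) :=
  BasedNatIso.mkNatIso
    (NatIso.ofComponents (fun x => pshYonedaObjIso Φ x) (fun {x y} f => by
      apply Stk.EltObj.hom_ext
      show (Φ.map f).hom ≫ eqToHom (base_eq Φ y) = eqToHom (base_eq Φ x) ≫ f.hom
      rw [map_hom_eq]
      simp))
    (fun x => by
      apply IsHomLift.of_fac (Stk.ofPsh B).p _ _ (base_eq Φ x) rfl
      show 𝟙 x.base = eqToHom (base_eq Φ x).symm ≫ eqToHom (base_eq Φ x) ≫ eqToHom rfl
      simp)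

end Yoneda

end Groth.Agent.Lib.PshFp
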