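import Groth.Agent.Lib.AlgStDiag3
import Groth.Agent.Lib.AlgStAtlas
import Groth.Agent.Lib.PshFp

/-!
# Diagonals of functors representable by algebraic spaces (helper36)

`repByAlgSpWith_diag_of_diagonal`: if `f` is representable by algebraic spaces and the relative
diagonals of the representing morphisms of algebraic spaces have `P`, then the diagonal of `f` has `P`.
-/

set_option autoImplicit false
set_option linter.style.haveILetI false
set_option backward.isDefEq.respectTransparency false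
set_option backward.isDefEq.respectTransparency.types false

namespace Groth.Agent.Lib.AlgStDiagDict

open CategoryTheory CategoryTheory.Limits AlgebraicGeometry Opposite Groth.Agent.Lib.FibGrpd
  Groth.Agent.Lib.FpEquiv Groth.Agent.Lib.AlgStRep Groth.Agent.Lib.AlgStDiag
  Groth.Agent.Lib.AlgStEquiv Groth.Agent.Lib.PshFp

universe w v₅ u₅ v₄ u₄ v₃ u₃ v₂ u₂ v u

section Psh

variable {C : Type u} [Category.{v} C] {A H P : Cᵒᵖ ⥤ Type w} {α : A ⟶ H} {fst snd : P ⟶ A}
  (hw : fst ≫ α = snd ≫ α) (δ : A ⟶ P) (h1 : δ ≫ fst = 𝟙 A) (h2 : δ ≫ snd = 𝟙 A)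

include h1 in
theorem fst_delta_apply (x : Stk.EltObj A) : fst.app _ (δ.app _ x.sec) = x.sec := by
  have := congrArg (fun t : A ⟶ A => t.app (op x.base) x.sec) h1
  exact this

include h2 in
theorem snd_delta_apply (x : Stk.EltObj A) : snd.app _ (δ.app _ x.sec) = x.sec := by
  have := congrArg (fun t : A ⟶ A => t.app (op x.base) x.sec) h2
  exact this

/-- The component of `Δ ≅ ofPshMap δ ⋙ pshFpFunctor`. -/
def diagPshObjIso (x : Stk.EltObj A) :
    (FibCat.diag (Stk.ofPshMap α)).obj x ≅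
      (pshFpFunctor hw).obj ((Stk.ofPshMap δ).obj x) :=
  fpIsoMk (z := (FibCat.diag (Stk.ofPshMap α)).obj x)
    (z' := (pshFpFunctor hw).obj ((Stk.ofPshMap δ).obj x))
    (eltIso (fst_delta_apply δ h1 x)) (eltIso (snd_delta_apply δ h2 x))
    (Stk.EltObj.hom_ext (by
      show 𝟙 x.base ≫ 𝟙 x.base = 𝟙 x.base ≫ 𝟙 x.base
      rfl))

/-- `Δ_{ofPshMap α} ≅ ofPshMap δ ⋙ (ofPsh P ⟶ ofPsh A ×_{ofPsh H} ofPsh A)`. -/
def diagPshIso : FibCat.diag (Stk.ofPshMap α) ≅
    BasedFunctor.comp (Stk.ofPshMap δ) (pshFpFunctor hw) :=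
  BasedNatIso.mkNatIso
    (NatIso.ofComponents (fun x => diagPshObjIso hw δ h1 h2 x) (fun {x x'} m => by
      refine Groth.Agent.Lib.AlgStDiag.fp_hom_ext _ _ ?_ ?_
      · apply Stk.EltObj.hom_ext
        show m.hom ≫ 𝟙 x'.base = 𝟙 x.base ≫ m.hom
        rw [Category.comp_id, Category.id_comp]
      · apply Stk.EltObj.hom_ext
        show m.hom ≫ 𝟙 x'.base = 𝟙 x.base ≫ m.hom
        rw [Category.comp_id, Category.id_comp]))
    (fun x => by
      show (FibCat.fp (Stk.ofPshMap α) (Stk.ofPshMap α)).p.IsHomLift (𝟙 x.base)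
        (diagPshObjIso hw δ h1 h2 x).hom
      rw [fp_isHomLift_iff]
      exact isHomLift_eltIso (fst_delta_apply δ h1 x))

end Psh


section Sp

variable {S : Scheme.{u}}

/-- Base change stability of a property of morphisms of algebraic spaces. -/
def BaseChangeStable (P : MorphismProperty (AlgSp.Sp S)) : Prop :=
  ∀ ⦃X₁ Y₁ X₂ Y₂ : AlgSp.Sp S⦄, AlgSp.IsAlgSpace X₁ → AlgSp.IsAlgSpace Y₁ →
    AlgSp.IsAlgSpace X₂ → AlgSp.IsAlgSpace Y₂ → ∀ (a : X₁ ⟶ Y₁) (b : Y₂ ⟶ Y₁) (a' : X₂ ⟶ Y₂)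
    (b' : X₂ ⟶ X₁), IsPullback b' a' a b → P a → P a'

/-- The diagonal of `ofSpMap α` has `P` when the relative diagonal of `α` has `P`. -/
theorem repByAlgSpWith_diag_ofSpMap (P : MorphismProperty (AlgSp.Sp S)) (hPb : BaseChangeStable P)
    {F G : AlgSp.Sp S} (hF : AlgSp.IsAlgSpace F) (hG : AlgSp.IsAlgSpace G) (α : F ⟶ G)
    (hα : P (pullback.diagonal α)) : AlgSt.RepByAlgSpWith P (FibCat.diag (AlgSt.ofSpMap α)) := by
  have sq : IsPullback (pullback.fst α α) (pullback.snd α α) α α := IsPullback.of_hasPullback α α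
  have hPi : AlgSp.IsAlgSpace (pullback α α) :=
    Groth.Agent.Lib.AlgSpFibre.isAlgSpace_of_isPullback hG.diag hF hF sq
  have sq' : IsPullback (pullback.fst α α).hom (pullback.snd α α).hom α.hom α.hom :=
    sq.map (sheafToPresheaf (AlgSp.J S) (Type (u + 1)))
  have h1 : (pullback.diagonal α).hom ≫ (pullback.fst α α).hom = 𝟙 F.obj :=
    congrArg (fun t : F ⟶ F => t.hom) (pullback.diagonal_fst α)
  have h2 : (pullback.diagonal α).hom ≫ (pullback.snd α α).hom = 𝟙 F.obj :=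
    congrArg (fun t : F ⟶ F => t.hom) (pullback.diagonal_snd α)
  have hc : FibCat.IsEquivOver (pshFpFunctor sq'.w) := pshFpFunctor_isEquivOver_of_isPullback sq'
  have h3 : AlgSt.RepByAlgSpWith P (AlgSt.ofSpMap (pullback.diagonal α)) :=
    Groth.Agent.Lib.AlgStAtlas.repByAlgSpWith_ofSpMap P hPb hF hPi (pullback.diagonal α) hα
  have h4 : AlgSt.RepByAlgSpWith P
      (BasedFunctor.comp (AlgSt.ofSpMap (pullback.diagonal α)) (pshFpFunctor sq'.w)) :=
    (repByAlgSpWith_comp_equiv_iff P _ _ hc).2 h3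
  exact (Groth.Agent.Lib.AlgStDiag3.repByAlgSpWith_congr P
    (diagPshIso sq'.w (pullback.diagonal α).hom h1 h2)).1 h4

variable {𝒳 : BasedCategory.{v₂, u₂} (Over S)} {𝒴 : BasedCategory.{v₃, u₃} (Over S)}

/-- A functor from `ofSp F` to a slice category is, up to isomorphism, induced by its map of
sheaves. -/
theorem nonempty_iso_ofSpMap_toOverCat {F : AlgSp.Sp S} {T : Over S}
    (Φ : AlgSt.ofSp F ⥤ᵇ FibCat.overCat T) :
    Nonempty (BasedFunctor.comp (AlgSt.ofSpMap (AlgSt.spMapOfOver Φ)) (AlgSt.toOverCat T) ≅ Φ) := by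
  obtain ⟨a, ⟨γ⟩⟩ := Groth.Agent.Lib.AlgStFp.exists_ofSpMap_iso
    (BasedFunctor.comp Φ (AlgSt.ofOverCat T))
  have γ' : Φ ≅ BasedFunctor.comp (AlgSt.ofSpMap a) (AlgSt.toOverCat T) :=
    whiskerRightIso γ (AlgSt.toOverCat T)
  have ha : AlgSt.spMapOfOver Φ = a := by
    rw [← Groth.Agent.Lib.AlgStSpTest.spMapOfOver_ofSpMap_toOverCat a]
    exact spMapOfOver_congr γ'.hom
  rw [ha]
  exact ⟨γ'.symm⟩

/-- **Diagonal dictionary (one direction).** If `f` is representable by algebraic spaces in such a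
way that the relative diagonals of the representing morphisms have `P`, then the diagonal of `f`
has `P`. -/
theorem repByAlgSpWith_diag_of_diagonal (P : MorphismProperty (AlgSp.Sp S))
    (hPb : BaseChangeStable P) (f : 𝒳 ⥤ᵇ 𝒴)
    (hf : AlgSt.RepByAlgSpWith (fun _ _ α => P (pullback.diagonal α)) f) :
    AlgSt.RepByAlgSpWith P (FibCat.diag f) := by
  rw [Groth.Agent.Lib.AlgStDiag2.repByAlgSpWith_diag_iff_forall_fpFst]
  intro T y
  obtain ⟨F, e, he, hα⟩ := hf T y
  obtain ⟨γ⟩ := nonempty_iso_ofSpMap_toOverCat (BasedFunctor.comp e (FibCat.fpFst y f))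
  have h1 : AlgSt.RepByAlgSpWith P (FibCat.diag (AlgSt.ofSpMap
      (AlgSt.spMapOfOver (BasedFunctor.comp e (FibCat.fpFst y f))))) :=
    repByAlgSpWith_diag_ofSpMap P hPb F.property (AlgSp.IsAlgSpace.yon_obj T) _ hα
  have h2 : AlgSt.RepByAlgSpWith P (FibCat.diag (BasedFunctor.comp (AlgSt.ofSpMap
      (AlgSt.spMapOfOver (BasedFunctor.comp e (FibCat.fpFst y f)))) (AlgSt.toOverCat T))) :=
    (repByAlgSpWith_diag_iff_of_square P _ _ (BasedFunctor.id _) (AlgSt.toOverCat T)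
      isEquivOver_id (Groth.Agent.Lib.AlgStFp.toOverCat_isEquivOver T) (idCompIso _).symm).2 h1
  exact (repByAlgSpWith_diag_iff_of_square P (FibCat.fpFst y f) _ e (BasedFunctor.id _) he
    isEquivOver_id (compIdIso _ ≪≫ γ)).2 h2

end Sp

end Groth.Agent.Lib.AlgStDiagDict
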