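import Groth.Agent.Lib.AlgStCancel
import Groth.Agent.Lib.AlgStDiagDict

/-!
# Descent of properties of representable morphisms along flat covers (helper64)

`repByAlgSpWith_of_fpFst_cover` : for `P` stable under base change and fppf local on the base,
`f : 𝒳 ⟶ 𝒴` representable by algebraic spaces and `z : 𝒵 ⟶ 𝒴` representable by algebraic spaces,
flat, locally of finite presentation and surjective: if the base change `𝒵 ×_𝒴 𝒳 ⟶ 𝒵` has `P`, so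
does `f`.
-/

set_option autoImplicit false
set_option linter.style.haveILetI false
set_option backward.isDefEq.respectTransparency false
set_option backward.isDefEq.respectTransparency.types false

namespace Groth.Agent.Lib.AlgStDescent

open CategoryTheory Functor Opposite Limits AlgebraicGeometry Groth.Agent.Lib.FibGrpd
  Groth.Agent.Lib.FpEquiv Groth.Agent.Lib.EquivOver Groth.Agent.Lib.AlgStFp
  Groth.Agent.Lib.AlgStRep Groth.Agent.Lib.AlgStSpTest Groth.Agent.Lib.AlgStEquiv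
  Groth.Agent.Lib.AlgStCancel Groth.Agent.Lib.AlgSpLocP

universe u

variable {S : Scheme.{u}} {𝒳 𝒴 𝒵 : AlgSt.Cat S}

/-- From a representing space over `h_U` for `toOverCat U ⋙ y` to `RepData` for `y`. -/
theorem repData_of_rep_over_yon (P : MorphismProperty (AlgSp.Sp S)) (f : 𝒳 ⥤ᵇ 𝒴) {U : Over S}
    (y : FibCat.overCat U ⥤ᵇ 𝒴) {V : AlgSp.Space S} (a : V.obj ⟶ (AlgSp.yon S).obj U)
    (e : AlgSt.ofSp V.obj ⥤ᵇ FibCat.fp (BasedFunctor.comp (AlgSt.toOverCat U) y) f)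
    (he : FibCat.IsEquivOver e)
    (γ : BasedFunctor.comp e (FibCat.fpFst (BasedFunctor.comp (AlgSt.toOverCat U) y) f) ≅
      AlgSt.ofSpMap a) (ha : P a) : RepData P (FibCat.fpFst y f) := by
  let α : BasedFunctor.comp (BasedFunctor.comp (AlgSt.toOverCat U) y) (BasedFunctor.id 𝒴) ≅
      BasedFunctor.comp (AlgSt.toOverCat U) y := compIdIso _
  let β : BasedFunctor.comp f (BasedFunctor.id 𝒴) ≅ BasedFunctor.comp (BasedFunctor.id 𝒳) f :=
    compIdIso f ≪≫ (idCompIso f).symm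
  haveI : (BasedFunctor.id 𝒴).toFunctor.Full := id_full
  haveI : (BasedFunctor.id 𝒴).toFunctor.Faithful := id_faithful
  let c : FibCat.fp (BasedFunctor.comp (AlgSt.toOverCat U) y) f ⥤ᵇ FibCat.fp y f :=
    fpMap (AlgSt.toOverCat U) (BasedFunctor.id 𝒳) (BasedFunctor.id 𝒴) α β
  have hc : FibCat.IsEquivOver c :=
    fpMap_isEquivOver (AlgSt.toOverCat U) (BasedFunctor.id 𝒳) (BasedFunctor.id 𝒴) α β
      (toOverCat_isEquivOver U) isEquivOver_id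
  refine ⟨V, BasedFunctor.comp e c, isEquivOver_comp he hc, ?_⟩
  have key : AlgSt.spMapOfOver (BasedFunctor.comp (BasedFunctor.comp e c) (FibCat.fpFst y f)) =
      a := by
    rw [← spMapOfOver_ofSpMap_toOverCat a]
    exact spMapOfOver_congr (whiskerRightIso γ (AlgSt.toOverCat U)).hom
  rw [key]
  exact ha

/-- A flat, locally finitely presented, surjective morphism from a scheme chart through an algebraic
space gives an fppf covering of `h_U`. -/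
theorem isFppfCover_comp_chart {G : AlgSp.Sp S} (hG : AlgSp.IsAlgSpace G) {U W : Over S}
    (c : G ⟶ (AlgSp.yon S).obj U) (q : (AlgSp.yon S).obj W ⟶ G) (hqe : AlgSp.RepWith @Etale q)
    (hqs : AlgSp.RepWith @Surjective q) (hfl : AlgSp.LocP @Flat c)
    (hlfp : AlgSp.LocP @LocallyOfFinitePresentation c) (hsurj : AlgSp.IsSurjectiveMor c) :
    AlgSp.IsFppfCover (fun _ : PUnit.{u + 1} => (AlgSp.yon S).obj W) (fun _ => q ≫ c) := by
  obtain ⟨hq1, -⟩ := isFppfCover_of_chart q hqe hqs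
  refine ⟨fun _ => ⟨?_, ?_⟩, fun x => ⟨PUnit.unit, ?_⟩⟩
  · exact locP_comp etLocalClass_flat (AlgSp.IsAlgSpace.yon_obj W) hG (AlgSp.IsAlgSpace.yon_obj U)
      (hq1 PUnit.unit).1 hfl
  · exact locP_comp etLocalClass_lfp (AlgSp.IsAlgSpace.yon_obj W) hG (AlgSp.IsAlgSpace.yon_obj U)
      (hq1 PUnit.unit).2 hlfp
  · obtain ⟨g, rfl⟩ := hsurj x
    obtain ⟨w, rfl⟩ := Groth.Agent.Lib.H86AlgSpPoints.map_surjective_of_repWith hqs g
    exact ⟨w, AlgSp.Points.map_comp _ _ w⟩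

/-- **Descent along a flat cover.** -/
theorem repByAlgSpWith_of_fpFst_cover [FibCat.IsFibGrpd 𝒳.p] [FibCat.IsFibGrpd 𝒴.p]
    [FibCat.IsFibGrpd 𝒵.p] (P : MorphismProperty (AlgSp.Sp S))
    (hPb : ∀ ⦃X₁ Y₁ X₂ Y₂ : AlgSp.Sp S⦄, AlgSp.IsAlgSpace X₁ → AlgSp.IsAlgSpace Y₁ →
      AlgSp.IsAlgSpace X₂ → AlgSp.IsAlgSpace Y₂ → ∀ (a : X₁ ⟶ Y₁) (b : Y₂ ⟶ Y₁) (a' : X₂ ⟶ Y₂)
      (b' : X₂ ⟶ X₁), IsPullback b' a' a b → P a → P a')
    (hP : AlgSp.IsLocalOnBase AlgSp.IsFppfCover P)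
    (f : 𝒳 ⥤ᵇ 𝒴) (hf : AlgSt.RepByAlgSp1 f) (z : 𝒵 ⥤ᵇ 𝒴)
    (hz₁ : AlgSt.RepByAlgSpWith (AlgSp.LocP @Flat) z)
    (hz₂ : AlgSt.RepByAlgSpWith (AlgSp.LocP @LocallyOfFinitePresentation) z)
    (hz₃ : AlgSt.RepByAlgSpWith AlgSp.IsSurjectiveMor z)
    (h' : AlgSt.RepByAlgSpWith P (FibCat.fpFst z f)) : AlgSt.RepByAlgSpWith P f := by
  intro U y
  have hPi : IsoInv P := isoInv_of_baseChange P hPb
  -- the representing space of `(Sch/U) ×_𝒴 𝒵` with its three properties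
  obtain ⟨G, eG, heG, hfl⟩ := hz₁ U y
  have hlfp : AlgSp.LocP @LocallyOfFinitePresentation
      (AlgSt.spMapOfOver (BasedFunctor.comp eG (FibCat.fpFst y z))) :=
    prop_spMapOfOver_of_repData _ (Groth.Agent.Lib.AlgStAtlas.isoInv_locP _) G.property _
      (repData_of_equiv' eG heG (Iso.refl _) (hz₂ U y))
  have hsurj : AlgSp.IsSurjectiveMor
      (AlgSt.spMapOfOver (BasedFunctor.comp eG (FibCat.fpFst y z))) :=
    prop_spMapOfOver_of_repData _ Groth.Agent.Lib.AlgStAtlas.isoInv_isSurjectiveMor G.property _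
      (repData_of_equiv' eG heG (Iso.refl _) (hz₃ U y))
  obtain ⟨γc⟩ := Groth.Agent.Lib.AlgStDiagDict.nonempty_iso_ofSpMap_toOverCat
    (BasedFunctor.comp eG (FibCat.fpFst y z))
  obtain ⟨W, q, hqe, hqs⟩ := G.property.atlas
  -- the representing space of `h_U ×_𝒴 𝒳`
  obtain ⟨F, a, eF, heF, ⟨γF⟩, -⟩ := exists_rep_over_space' ⊤ isoInv_top schemeLocal_top f
    ((repByAlgSp1_iff_top f).1 hf) ⟨(AlgSp.yon S).obj U, AlgSp.IsAlgSpace.yon_obj U⟩
    (BasedFunctor.comp (AlgSt.toOverCat U) y)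
  have sq : IsPullback
      (pullback.fst (q ≫ AlgSt.spMapOfOver (BasedFunctor.comp eG (FibCat.fpFst y z))) a.hom)
      (pullback.snd (q ≫ AlgSt.spMapOfOver (BasedFunctor.comp eG (FibCat.fpFst y z))) a.hom)
      (q ≫ AlgSt.spMapOfOver (BasedFunctor.comp eG (FibCat.fpFst y z))) a.hom :=
    IsPullback.of_hasPullback _ _
  have hX : AlgSp.IsAlgSpace
      (pullback (q ≫ AlgSt.spMapOfOver (BasedFunctor.comp eG (FibCat.fpFst y z))) a.hom) :=
    Groth.Agent.Lib.AlgSpFibre.isAlgSpace_of_isPullback (AlgSp.IsAlgSpace.yon_obj U).diag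
      (AlgSp.IsAlgSpace.yon_obj W) F.property sq
  -- the hypothesis on the base change, at the chart `W`
  have h1 : RepData P (FibCat.fpFst
      (BasedFunctor.comp (BasedFunctor.comp (BasedFunctor.comp (AlgSt.ofOverCat W)
        (AlgSt.ofSpMap q)) eG) (FibCat.fpSnd y z)) (FibCat.fpFst z f)) := h' W _
  have h2 := (Groth.Agent.Lib.AlgStDiag2.repData_paste_iff P
    (BasedFunctor.comp (BasedFunctor.comp (BasedFunctor.comp (AlgSt.ofOverCat W)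
        (AlgSt.ofSpMap q)) eG) (FibCat.fpSnd y z)) z f).1 h1
  let iso : BasedFunctor.comp (BasedFunctor.comp (AlgSt.ofOverCat W) (AlgSt.ofSpMap
        (q ≫ AlgSt.spMapOfOver (BasedFunctor.comp eG (FibCat.fpFst y z)))))
      (BasedFunctor.comp (AlgSt.toOverCat U) y) ≅
      BasedFunctor.comp (BasedFunctor.comp (BasedFunctor.comp (BasedFunctor.comp
        (AlgSt.ofOverCat W) (AlgSt.ofSpMap q)) eG) (FibCat.fpSnd y z)) z :=
    whiskerLeftIso (BasedFunctor.comp (AlgSt.ofOverCat W) (AlgSt.ofSpMap q))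
      (whiskerRightIso γc y ≪≫ whiskerLeftIso eG (FibCat.fpIso y z))
  have h3 := (Groth.Agent.Lib.AlgStDiag2.repData_congr P f iso).2 h2
  have h4 := repData_fst_of_repData P f (BasedFunctor.comp (AlgSt.toOverCat U) y) eF heF a.hom γF
    (q ≫ AlgSt.spMapOfOver (BasedFunctor.comp eG (FibCat.fpFst y z))) sq h3
  have h5 := prop_spMapOfOver_of_repData P hPi hX _ h4
  rw [spMapOfOver_ofSpMap_toOverCat] at h5
  -- descend along the covering
  have hcov := isFppfCover_comp_chart G.property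
    (AlgSt.spMapOfOver (BasedFunctor.comp eG (FibCat.fpFst y z))) q hqe hqs hfl hlfp hsurj
  have hPa : P a.hom :=
    (hP (fun _ : PUnit.{u + 1} => (AlgSp.yon S).obj W) (fun _ => q ≫ AlgSt.spMapOfOver
      (BasedFunctor.comp eG (FibCat.fpFst y z))) (AlgSp.IsAlgSpace.yon_obj U)
      (fun _ => AlgSp.IsAlgSpace.yon_obj W) hcov a.hom F.property (fun _ => _)
      (fun _ => pullback.fst _ _) (fun _ => pullback.snd _ _) (fun _ => hX)
      (fun _ => sq.flip)).2 (fun _ => h5)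
  exact repData_of_rep_over_yon P f y a.hom eF heF γF hPa

/-- = S12843. -/
theorem repByAlgSpWith_iff_fpFst_of_cover [FibCat.IsFibGrpd 𝒳.p] [FibCat.IsFibGrpd 𝒴.p]
    [FibCat.IsFibGrpd 𝒵.p] (P : MorphismProperty (AlgSp.Sp S))
    (hPb : ∀ ⦃X₁ Y₁ X₂ Y₂ : AlgSp.Sp S⦄, AlgSp.IsAlgSpace X₁ → AlgSp.IsAlgSpace Y₁ →
      AlgSp.IsAlgSpace X₂ → AlgSp.IsAlgSpace Y₂ → ∀ (a : X₁ ⟶ Y₁) (b : Y₂ ⟶ Y₁) (a' : X₂ ⟶ Y₂)
      (b' : X₂ ⟶ X₁), IsPullback b' a' a b → P a → P a')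
    (hP : AlgSp.IsLocalOnBase AlgSp.IsFppfCover P)
    (f : 𝒳 ⥤ᵇ 𝒴) (hf : AlgSt.RepByAlgSp1 f) (z : 𝒵 ⥤ᵇ 𝒴)
    (hz₁ : AlgSt.RepByAlgSpWith (AlgSp.LocP @Flat) z)
    (hz₂ : AlgSt.RepByAlgSpWith (AlgSp.LocP @LocallyOfFinitePresentation) z)
    (hz₃ : AlgSt.RepByAlgSpWith AlgSp.IsSurjectiveMor z) :
    AlgSt.RepByAlgSpWith P f ↔ AlgSt.RepByAlgSpWith P (FibCat.fpFst z f) :=
  ⟨fun h => repByAlgSpWith_fpFst P f z h,
    repByAlgSpWith_of_fpFst_cover P hPb hP f hf z hz₁ hz₂ hz₃⟩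

/-- = S12844. -/
theorem repByAlgSpWith_iff_exists_of_cover [FibCat.IsFibGrpd 𝒳.p] [FibCat.IsFibGrpd 𝒴.p]
    (P : MorphismProperty (AlgSp.Sp S))
    (hPb : ∀ ⦃X₁ Y₁ X₂ Y₂ : AlgSp.Sp S⦄, AlgSp.IsAlgSpace X₁ → AlgSp.IsAlgSpace Y₁ →
      AlgSp.IsAlgSpace X₂ → AlgSp.IsAlgSpace Y₂ → ∀ (a : X₁ ⟶ Y₁) (b : Y₂ ⟶ Y₁) (a' : X₂ ⟶ Y₂)
      (b' : X₂ ⟶ X₁), IsPullback b' a' a b → P a → P a')
    (hP : AlgSp.IsLocalOnBase AlgSp.IsFppfCover P)
    (f : 𝒳 ⥤ᵇ 𝒴) (hf : AlgSt.RepByAlgSp1 f) (W : AlgSp.Space S) (w : AlgSt.ofSp W.obj ⥤ᵇ 𝒴)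
    (hw₁ : AlgSt.RepByAlgSpWith (AlgSp.LocP @Flat) w)
    (hw₂ : AlgSt.RepByAlgSpWith (AlgSp.LocP @LocallyOfFinitePresentation) w)
    (hw₃ : AlgSt.RepByAlgSpWith AlgSp.IsSurjectiveMor w) :
    AlgSt.RepByAlgSpWith P f ↔
      ∃ (V : AlgSp.Space S) (a : V ⟶ W) (e : AlgSt.ofSp V.obj ⥤ᵇ FibCat.fp w f),
        FibCat.IsEquivOver e ∧
          Nonempty (BasedFunctor.comp e (FibCat.fpFst w f) ≅ AlgSt.ofSpMap a.hom) ∧ P a.hom := by
  have hPi : IsoInv P := isoInv_of_baseChange P hPb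
  constructor
  · intro h
    exact exists_rep_over_space P hPi (atlasLocal_of_isLocalOnBase P hP) f h W w
  · rintro ⟨V, a, e, he, ⟨γ⟩, hPa⟩
    haveI : FibCat.IsFibGrpd (AlgSt.ofSp W.obj).p := Stk.isFibGrpd_ofPsh W.obj.obj
    refine repByAlgSpWith_of_fpFst_cover P hPb hP f hf w hw₁ hw₂ hw₃ ?_
    have h1 : AlgSt.RepByAlgSpWith P (AlgSt.ofSpMap a.hom) :=
      Groth.Agent.Lib.AlgStAtlas.repByAlgSpWith_ofSpMap P hPb V.property W.property a.hom hPa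
    have h2 : AlgSt.RepByAlgSpWith P (BasedFunctor.comp e (FibCat.fpFst w f)) :=
      (Groth.Agent.Lib.AlgStDiag3.repByAlgSpWith_congr P γ).1 h1
    exact (repByAlgSpWith_equiv_comp_iff P e he (FibCat.fpFst w f)).2 h2

end Groth.Agent.Lib.AlgStDescent
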