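import Groth.Agent.Lib.AlgStBoot
import Groth.Agent.Lib.AlgStRep
import Groth.Agent.Lib.PshFp2
import Groth.Agent.Lib.AlgSpLocP
import Groth.Agent.Lib.H86AlgSpPoints
import Groth.Prelude.Def_AlgSpCov

/-!
# Base change of `RepByAlgSpWith P` to algebraic-space test objects (helper64)

* `spMapOfOver_toOverCat`, `spMapOfOver_ofSpMap_comp` : calculus of `AlgSt.spMapOfOver`.
* `exists_iso_ofPshMap` : an equivalence over the base between categories of presheaves is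
  2-isomorphic to the functor of an isomorphism of presheaves.
* `prop_spMapOfOver_of_repData` : uniqueness of the representing space, for `P` respecting isos.
-/

set_option autoImplicit false
set_option linter.style.haveILetI false
set_option backward.isDefEq.respectTransparency false
set_option backward.isDefEq.respectTransparency.types false

namespace Groth.Agent.Lib.AlgStSpTest

open CategoryTheory Functor Opposite Limits AlgebraicGeometry Groth.Agent.Lib.FibGrpd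
  Groth.Agent.Lib.FpEquiv Groth.Agent.Lib.EquivOver Groth.Agent.Lib.AlgStFp
  Groth.Agent.Lib.AlgStRep Groth.Agent.Lib.PshFp

universe w v₃ u₃ v₂ u₂ v u

section Psh

variable {C : Type u} [Category.{v} C] {A B : Cᵒᵖ ⥤ Type w}

/-- An equivalence over `C` between categories of presheaves is 2-isomorphic to the functor of an
isomorphism of presheaves. -/
theorem exists_iso_ofPshMap (E : Stk.ofPsh A ⥤ᵇ Stk.ofPsh B) (hE : FibCat.IsEquivOver E) :
    ∃ i : A ≅ B, Nonempty (E ≅ Stk.ofPshMap i.hom) := by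
  obtain ⟨E', ⟨η⟩, ⟨ε⟩⟩ := hE
  let φ := pshYonedaMor E
  let φ' := pshYonedaMor E'
  have i1 : Stk.ofPshMap (φ ≫ φ') ≅ Stk.ofPshMap (𝟙 A) := by
    rw [← ofPshMap_comp, ofPshMap_id]
    exact (whiskerRightIso (pshYonedaIso E).symm (Stk.ofPshMap φ')) ≪≫
      (whiskerLeftIso E (pshYonedaIso E').symm) ≪≫ η
  have i2 : Stk.ofPshMap (φ' ≫ φ) ≅ Stk.ofPshMap (𝟙 B) := by
    rw [← ofPshMap_comp, ofPshMap_id]
    exact (whiskerRightIso (pshYonedaIso E').symm (Stk.ofPshMap φ)) ≪≫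
      (whiskerLeftIso E' (pshYonedaIso E).symm) ≪≫ ε
  exact ⟨⟨φ, φ', eq_of_ofPshMap_iso i1, eq_of_ofPshMap_iso i2⟩, ⟨pshYonedaIso E⟩⟩

end Psh

variable {S : Scheme.{u}}

section SpMap

theorem spMapOfOver_toOverCat (U : Over S) :
    AlgSt.spMapOfOver (AlgSt.toOverCat U) = 𝟙 ((AlgSp.yon S).obj U) := by
  apply ObjectProperty.hom_ext
  ext T x
  induction T using Opposite.rec with
  | op T =>
    have h1 := AlgSt.spMapOfOver_app (AlgSt.toOverCat U) T x
    refine h1.trans ?_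
    apply ULift.ext
    simp [AlgSt.secHom, AlgSt.toOverCat]

theorem spMapOfOver_ofSpMap_comp {F G : AlgSp.Sp S} {U : Over S} (i : F ⟶ G)
    (Φ : AlgSt.ofSp G ⥤ᵇ FibCat.overCat U) :
    AlgSt.spMapOfOver (BasedFunctor.comp (AlgSt.ofSpMap i) Φ) = i ≫ AlgSt.spMapOfOver Φ := by
  apply ObjectProperty.hom_ext
  ext T x
  induction T using Opposite.rec with
  | op T => rfl

theorem spMapOfOver_ofSpMap_toOverCat {F : AlgSp.Sp S} {U : Over S}
    (i : F ⟶ (AlgSp.yon S).obj U) :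
    AlgSt.spMapOfOver (BasedFunctor.comp (AlgSt.ofSpMap i) (AlgSt.toOverCat U)) = i := by
  rw [spMapOfOver_ofSpMap_comp, spMapOfOver_toOverCat, Category.comp_id]

/-- `P` is invariant under precomposition with isomorphisms of algebraic spaces. -/
def IsoInv (P : MorphismProperty (AlgSp.Sp S)) : Prop :=
  ∀ ⦃X X' Y : AlgSp.Sp S⦄, AlgSp.IsAlgSpace X → AlgSp.IsAlgSpace X' → AlgSp.IsAlgSpace Y →
    ∀ (i : X ≅ X') (f : X' ⟶ Y), P (i.hom ≫ f) → P f

theorem isoInv_of_respectsIso (P : MorphismProperty (AlgSp.Sp S)) [P.RespectsIso] : IsoInv P :=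
  fun _ _ _ _ _ _ i f h => (P.cancel_left_of_respectsIso i.hom f).1 h

/-- Stability under base change (along squares of algebraic spaces) gives invariance under
isomorphisms of the source. -/
theorem isoInv_of_baseChange (P : MorphismProperty (AlgSp.Sp S))
    (hPb : ∀ ⦃X₁ Y₁ X₂ Y₂ : AlgSp.Sp S⦄, AlgSp.IsAlgSpace X₁ → AlgSp.IsAlgSpace Y₁ →
      AlgSp.IsAlgSpace X₂ → AlgSp.IsAlgSpace Y₂ → ∀ (a : X₁ ⟶ Y₁) (b : Y₂ ⟶ Y₁) (a' : X₂ ⟶ Y₂)
      (b' : X₂ ⟶ X₁), IsPullback b' a' a b → P a → P a') : IsoInv P := by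
  intro X X' Y hX hX' hY i f h
  refine hPb hX hY hX' hY (i.hom ≫ f) (𝟙 Y) f i.inv ?_ h
  exact IsPullback.of_horiz_isIso ⟨by simp⟩

/-- Uniqueness of the representing space: if `Φ : ofSp X ⟶ (Sch/U)` has `RepData P`, then the map
`X ⟶ h_U` determined by `Φ` has `P` (for `P` invariant under isomorphisms). -/
theorem prop_spMapOfOver_of_repData (P : MorphismProperty (AlgSp.Sp S)) (hPi : IsoInv P)
    {X : AlgSp.Sp S} (hX : AlgSp.IsAlgSpace X) {U : Over S}
    (Φ : AlgSt.ofSp X ⥤ᵇ FibCat.overCat U) (h : RepData P Φ) :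
    P (AlgSt.spMapOfOver Φ) := by
  obtain ⟨F, e, he, hP⟩ := h
  obtain ⟨i, ⟨γ⟩⟩ := exists_iso_ofPshMap e he
  let j : F.obj ≅ X := (fullyFaithfulSheafToPresheaf _ _).preimageIso i
  have hj : j.hom.hom = i.hom := rfl
  have h1 : AlgSt.spMapOfOver (BasedFunctor.comp e Φ) =
      AlgSt.spMapOfOver (BasedFunctor.comp (AlgSt.ofSpMap j.hom) Φ) :=
    spMapOfOver_congr (whiskerRightIso γ Φ).hom
  rw [h1, spMapOfOver_ofSpMap_comp] at hP
  exact hPi F.property hX (AlgSp.IsAlgSpace.yon_obj U) j _ hP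

end SpMap

section Square

variable {𝒳 : BasedCategory.{v₂, u₂} (Over S)} {𝒴 : BasedCategory.{v₃, u₃} (Over S)}

/-- Transfer of `RepData` from the base change of `f` along `h_W ⟶ Z ⟶ 𝒴` to the first projection
of a pullback square of sheaves `X = h_W ×_Z V`, where `V ≃ Z ×_𝒴 𝒳`. -/
theorem repData_fst_of_repData (P : MorphismProperty (AlgSp.Sp S)) (f : 𝒳 ⥤ᵇ 𝒴) {Z V : AlgSp.Sp S}
    (z : AlgSt.ofSp Z ⥤ᵇ 𝒴) (e : AlgSt.ofSp V ⥤ᵇ FibCat.fp z f) (he : FibCat.IsEquivOver e)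
    (a : V ⟶ Z) (γ : BasedFunctor.comp e (FibCat.fpFst z f) ≅ AlgSt.ofSpMap a)
    {W : Over S} (p : (AlgSp.yon S).obj W ⟶ Z) {X : AlgSp.Sp S}
    {fst : X ⟶ (AlgSp.yon S).obj W} {snd : X ⟶ V} (sq : IsPullback fst snd p a)
    (h : RepData P (FibCat.fpFst
      (BasedFunctor.comp (BasedFunctor.comp (AlgSt.ofOverCat W) (AlgSt.ofSpMap p)) z) f)) :
    RepData P (BasedFunctor.comp (AlgSt.ofSpMap fst) (AlgSt.toOverCat W)) := by
  have sq' : IsPullback fst.hom snd.hom p.hom a.hom :=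
    sq.map (sheafToPresheaf (AlgSp.J S) (Type (u + 1)))
  let y' : FibCat.overCat W ⥤ᵇ AlgSt.ofSp Z :=
    BasedFunctor.comp (AlgSt.ofOverCat W) (AlgSt.ofSpMap p)
  let c₅ : AlgSt.ofSp X ⥤ᵇ FibCat.fp (AlgSt.ofSpMap p) (AlgSt.ofSpMap a) := pshFpFunctor sq'.w
  have h₅ : FibCat.IsEquivOver c₅ := pshFpFunctor_isEquivOver_of_isPullback sq'
  let α : BasedFunctor.comp (AlgSt.ofSpMap p) (BasedFunctor.id (AlgSt.ofSp Z)) ≅
      BasedFunctor.comp (AlgSt.toOverCat W) y' := Iso.refl _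
  let β : BasedFunctor.comp (AlgSt.ofSpMap a) (BasedFunctor.id (AlgSt.ofSp Z)) ≅
      BasedFunctor.comp e (FibCat.fpFst z f) := compIdIso _ ≪≫ γ.symm
  let c₄ : FibCat.fp (AlgSt.ofSpMap p) (AlgSt.ofSpMap a) ⥤ᵇ FibCat.fp y' (FibCat.fpFst z f) :=
    fpMap (AlgSt.toOverCat W) e (BasedFunctor.id (AlgSt.ofSp Z)) α β
  haveI : (BasedFunctor.id (AlgSt.ofSp Z)).toFunctor.Full := id_full
  haveI : (BasedFunctor.id (AlgSt.ofSp Z)).toFunctor.Faithful := id_faithful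
  have h₄ : FibCat.IsEquivOver c₄ :=
    fpMap_isEquivOver (AlgSt.toOverCat W) e (BasedFunctor.id (AlgSt.ofSp Z)) α β
      (toOverCat_isEquivOver W) he
  let c₁ : FibCat.fp y' (FibCat.fpFst z f) ⥤ᵇ FibCat.fp (BasedFunctor.comp y' z) f :=
    fpPasteLeft y' z f
  have h₁ : FibCat.IsEquivOver c₁ := fpPasteLeft_isEquivOver y' z f
  refine repData_of_equiv' (BasedFunctor.comp (BasedFunctor.comp c₅ c₄) c₁)
    (isEquivOver_comp (isEquivOver_comp h₅ h₄) h₁) ?_ h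
  exact Iso.refl _

end Square

section Main

/-- `P` can be checked after base change along an etale surjective chart of the target by a
scheme. -/
def AtlasLocal (P : MorphismProperty (AlgSp.Sp S)) : Prop :=
  ∀ ⦃Z V X : AlgSp.Sp S⦄, AlgSp.IsAlgSpace Z → AlgSp.IsAlgSpace V → AlgSp.IsAlgSpace X →
    ∀ (a : V ⟶ Z) ⦃W : Over S⦄ (p : (AlgSp.yon S).obj W ⟶ Z), AlgSp.RepWith @Etale p →
      AlgSp.RepWith @Surjective p → ∀ (fst : X ⟶ (AlgSp.yon S).obj W) (snd : X ⟶ V),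
        IsPullback fst snd p a → P fst → P a

/-- A surjective etale chart of an algebraic space is an fppf covering. -/
theorem isFppfCover_of_chart {Z : AlgSp.Sp S} {W : Over S} (p : (AlgSp.yon S).obj W ⟶ Z)
    (hpe : AlgSp.RepWith @Etale p) (hps : AlgSp.RepWith @Surjective p) :
    AlgSp.IsFppfCover (fun _ : PUnit.{u + 1} => (AlgSp.yon S).obj W) (fun _ => p) := by
  have hrep : ∀ ⦃U : Over S⦄ (c : (AlgSp.yon S).obj U ⟶ (AlgSp.yon S).obj W),
      AlgSp.Representable c := fun U c => (AlgSp.IsAlgSpace.yon_obj W).representable_from_yon c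
  refine ⟨fun _ => ⟨?_, ?_⟩, fun x => ⟨PUnit.unit, ?_⟩⟩
  · refine Groth.Agent.Lib.AlgSpBasic.locP_of_repWith @Flat
      Groth.Agent.Lib.AlgSpLocP.etLocalClass_flat.pre hrep
      (Groth.Agent.Lib.AlgSpBasic.repWith_mono (fun _ _ g hg => ?_) hpe)
    have : Etale g := hg
    exact (inferInstance : Flat g)
  · refine Groth.Agent.Lib.AlgSpBasic.locP_of_repWith @LocallyOfFinitePresentation
      Groth.Agent.Lib.AlgSpLocP.etLocalClass_lfp.pre hrep
      (Groth.Agent.Lib.AlgSpBasic.repWith_mono (fun _ _ g hg => ?_) hpe)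
    have : Etale g := hg
    exact (inferInstance : LocallyOfFinitePresentation g)
  · exact Groth.Agent.Lib.H86AlgSpPoints.map_surjective_of_repWith hps x

theorem atlasLocal_of_isLocalOnBase (P : MorphismProperty (AlgSp.Sp S))
    (hP : AlgSp.IsLocalOnBase AlgSp.IsFppfCover P) : AtlasLocal P := by
  intro Z V X hZ hV hX a W p hpe hps fst snd sq hfst
  exact (hP (fun _ : PUnit.{u + 1} => (AlgSp.yon S).obj W) (fun _ => p) hZ
    (fun _ => AlgSp.IsAlgSpace.yon_obj W) (isFppfCover_of_chart p hpe hps) a hV (fun _ => X)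
    (fun _ => fst) (fun _ => snd) (fun _ => hX) (fun _ => sq.flip)).2 (fun _ => hfst)

variable {𝒳 𝒴 : AlgSt.Cat S}

/-- **Base change to algebraic-space test objects.** If `f` is representable by algebraic spaces
with `P` (tested on schemes), `P` is invariant under isomorphisms and local for etale charts of the
base, then for every algebraic space `Z` and `z : Z ⟶ 𝒴` the projection `Z ×_𝒴 𝒳 ⟶ Z` is a morphism
of algebraic spaces with `P`. -/
theorem exists_rep_over_space [FibCat.IsFibGrpd 𝒳.p] [FibCat.IsFibGrpd 𝒴.p]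
    (P : MorphismProperty (AlgSp.Sp S)) (hPi : IsoInv P) (hP : AtlasLocal P) (f : 𝒳 ⥤ᵇ 𝒴)
    (hf : AlgSt.RepByAlgSpWith P f) (Z : AlgSp.Space S) (z : AlgSt.ofSp Z.obj ⥤ᵇ 𝒴) :
    ∃ (V : AlgSp.Space S) (a : V ⟶ Z) (e : AlgSt.ofSp V.obj ⥤ᵇ FibCat.fp z f),
      FibCat.IsEquivOver e ∧
        Nonempty (BasedFunctor.comp e (FibCat.fpFst z f) ≅ AlgSt.ofSpMap a.hom) ∧ P a.hom := by
  have hf1 : AlgSt.RepByAlgSp1 f := fun U y => by
    obtain ⟨F, e, he, -⟩ := hf U y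
    exact ⟨F, e, he⟩
  obtain ⟨V, e, he⟩ := Groth.Agent.Lib.AlgStBoot.repByAlgSp_fp_of_repByAlgSp1 f z hf1
    ⟨Z, BasedFunctor.id _, isEquivOver_id⟩
  obtain ⟨a, ⟨γ⟩⟩ := exists_ofSpMap_iso (BasedFunctor.comp e (FibCat.fpFst z f))
  obtain ⟨W, p, hpe, hps⟩ := Z.property.atlas
  have sq : IsPullback (pullback.fst p a) (pullback.snd p a) p a := IsPullback.of_hasPullback p a
  have hX : AlgSp.IsAlgSpace (pullback p a) :=
    Groth.Agent.Lib.AlgSpFibre.isAlgSpace_of_isPullback Z.property.diag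
      (AlgSp.IsAlgSpace.yon_obj W) V.property sq
  have h := hf W (BasedFunctor.comp (BasedFunctor.comp (AlgSt.ofOverCat W) (AlgSt.ofSpMap p)) z)
  have h2 := repData_fst_of_repData P f z e he a γ p sq h
  have h3 := prop_spMapOfOver_of_repData P hPi hX _ h2
  rw [spMapOfOver_ofSpMap_toOverCat] at h3
  exact ⟨V, ObjectProperty.homMk a, e, he, ⟨γ⟩,
    hP Z.property V.property hX a p hpe hps _ _ sq h3⟩

end Main

section Comp

open Groth.Agent.Lib.AlgStSpTest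

variable {𝒳 𝒴 𝒵 : AlgSt.Cat S}

/-- Converse of `exists_rep_over_space`: testing on algebraic spaces implies testing on schemes. -/
theorem repByAlgSpWith_of_forall_space (P : MorphismProperty (AlgSp.Sp S)) (f : 𝒳 ⥤ᵇ 𝒴)
    (H : ∀ (Z : AlgSp.Space S) (z : AlgSt.ofSp Z.obj ⥤ᵇ 𝒴),
      ∃ (V : AlgSp.Space S) (a : V ⟶ Z) (e : AlgSt.ofSp V.obj ⥤ᵇ FibCat.fp z f),
        FibCat.IsEquivOver e ∧
          Nonempty (BasedFunctor.comp e (FibCat.fpFst z f) ≅ AlgSt.ofSpMap a.hom) ∧ P a.hom) :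
    AlgSt.RepByAlgSpWith P f := by
  intro U y
  obtain ⟨V, a, e, he, ⟨γ⟩, ha⟩ := H ⟨(AlgSp.yon S).obj U, AlgSp.IsAlgSpace.yon_obj U⟩
    (BasedFunctor.comp (AlgSt.toOverCat U) y)
  let α : BasedFunctor.comp (BasedFunctor.comp (AlgSt.toOverCat U) y) (BasedFunctor.id 𝒴) ≅
      BasedFunctor.comp (AlgSt.toOverCat U) y := compIdIso _
  let β : BasedFunctor.comp f (BasedFunctor.id 𝒴) ≅ BasedFunctor.comp (BasedFunctor.id 𝒳) f :=
    compIdIso f ≪≫ (idCompIso f).symm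
  haveI : (BasedFunctor.id 𝒴).toFunctor.Full := id_full
  haveI : (BasedFunctor.id 𝒴).toFunctor.Faithful := id_faithful
  let c : FibCat.fp (BasedFunctor.comp (AlgSt.toOverCat U) y) f ⥤ᵇ FibCat.fp y f :=
    fpMap (AlgSt.toOverCat U) (BasedFunctor.id 𝒳) (BasedFunctor.id 𝒴) α β
  have hc : FibCat.IsEquivOver c :=
    fpMap_isEquivOver (AlgSt.toOverCat U) (BasedFunctor.id 𝒳) (BasedFunctor.id 𝒴) α β
      (toOverCat_isEquivOver U) isEquivOver_id
  refine ⟨V, BasedFunctor.comp e c, isEquivOver_comp he hc, ?_⟩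
  have key : AlgSt.spMapOfOver (BasedFunctor.comp (BasedFunctor.comp e c) (FibCat.fpFst y f)) =
      a.hom := by
    rw [← spMapOfOver_ofSpMap_toOverCat a.hom]
    exact spMapOfOver_congr (whiskerRightIso γ (AlgSt.toOverCat U)).hom
  rw [key]
  exact ha

/-- **Composition** of functors representable by algebraic spaces with `P`. -/
theorem repByAlgSpWith_comp [FibCat.IsFibGrpd 𝒳.p] [FibCat.IsFibGrpd 𝒴.p]
    (P : MorphismProperty (AlgSp.Sp S)) (hPi : IsoInv P) (hPl : AtlasLocal P)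
    (hPc : ∀ ⦃X Y Z : AlgSp.Sp S⦄, AlgSp.IsAlgSpace X → AlgSp.IsAlgSpace Y → AlgSp.IsAlgSpace Z →
      ∀ (a : X ⟶ Y) (b : Y ⟶ Z), P a → P b → P (a ≫ b))
    (f : 𝒳 ⥤ᵇ 𝒴) (g : 𝒴 ⥤ᵇ 𝒵) (hf : AlgSt.RepByAlgSpWith P f) (hg : AlgSt.RepByAlgSpWith P g) :
    AlgSt.RepByAlgSpWith P (BasedFunctor.comp f g) := by
  intro U z
  obtain ⟨G, eG, heG, hb⟩ := hg U z
  obtain ⟨V, a, e, he, ⟨γ⟩, ha⟩ := exists_rep_over_space P hPi hPl f hf G
    (BasedFunctor.comp eG (FibCat.fpSnd z g))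
  let α : BasedFunctor.comp (BasedFunctor.comp eG (FibCat.fpSnd z g)) (BasedFunctor.id 𝒴) ≅
      BasedFunctor.comp eG (FibCat.fpSnd z g) := compIdIso _
  let β : BasedFunctor.comp f (BasedFunctor.id 𝒴) ≅ BasedFunctor.comp (BasedFunctor.id 𝒳) f :=
    compIdIso f ≪≫ (idCompIso f).symm
  haveI : (BasedFunctor.id 𝒴).toFunctor.Full := id_full
  haveI : (BasedFunctor.id 𝒴).toFunctor.Faithful := id_faithful
  let c₂ : FibCat.fp (BasedFunctor.comp eG (FibCat.fpSnd z g)) f ⥤ᵇ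
      FibCat.fp (FibCat.fpSnd z g) f :=
    fpMap eG (BasedFunctor.id 𝒳) (BasedFunctor.id 𝒴) α β
  have h₂ : FibCat.IsEquivOver c₂ :=
    fpMap_isEquivOver eG (BasedFunctor.id 𝒳) (BasedFunctor.id 𝒴) α β heG isEquivOver_id
  let c₃ : FibCat.fp (FibCat.fpSnd z g) f ⥤ᵇ FibCat.fp z (BasedFunctor.comp f g) :=
    fpPasteRight z g f
  have h₃ : FibCat.IsEquivOver c₃ := fpPasteRight_isEquivOver z g f
  refine ⟨V, BasedFunctor.comp (BasedFunctor.comp e c₂) c₃,
    isEquivOver_comp (isEquivOver_comp he h₂) h₃, ?_⟩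
  have key : AlgSt.spMapOfOver (BasedFunctor.comp (BasedFunctor.comp (BasedFunctor.comp e c₂) c₃)
      (FibCat.fpFst z (BasedFunctor.comp f g))) =
      a.hom ≫ AlgSt.spMapOfOver (BasedFunctor.comp eG (FibCat.fpFst z g)) := by
    rw [← spMapOfOver_ofSpMap_comp]
    exact spMapOfOver_congr (whiskerRightIso γ (BasedFunctor.comp eG (FibCat.fpFst z g))).hom
  rw [key]
  exact hPc V.property G.property (AlgSp.IsAlgSpace.yon_obj U) a.hom _ ha hb

end Comp

end Groth.Agent.Lib.AlgStSpTest
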