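import Groth.Agent.Lib.AlgStDiag2
import Groth.Agent.Lib.AlgStSpTest

/-!
# The diagonal of a composition (helper36)

For `f : 𝒳 ⟶ 𝒴`, `g : 𝒴 ⟶ 𝒵` over `C`, the square

```
𝒳 ×_𝒴 𝒳 ——ι——→ 𝒳 ×_𝒵 𝒳
   |               |
   v               v
   𝒴 ————Δ_g———→ 𝒴 ×_𝒵 𝒴
```

is 2-cartesian over `C` (`magLift_isEquivOver`), and `Δ_{f ⋙ g} ≅ Δ_f ⋙ ι`.
-/

set_option autoImplicit false
set_option linter.style.haveILetI false
set_option backward.isDefEq.respectTransparency false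
set_option backward.isDefEq.respectTransparency.types false

namespace Groth.Agent.Lib.AlgStDiag3

open CategoryTheory AlgebraicGeometry Opposite Groth.Agent.Lib.FibGrpd Groth.Agent.Lib.FpEquiv
  Groth.Agent.Lib.AlgStRep Groth.Agent.Lib.AlgStRepC Groth.Agent.Lib.AlgStDiag
  Groth.Agent.Lib.AlgStEquiv

universe w v₅ u₅ v₄ u₄ v₃ u₃ v₂ u₂ v u

section Magic

variable {C : Type u} [Category.{v} C] {𝒳 : BasedCategory.{v₂, u₂} C}
  {𝒴 : BasedCategory.{v₃, u₃} C} {𝒵 : BasedCategory.{v₄, u₄} C} (f : 𝒳 ⥤ᵇ 𝒴) (g : 𝒴 ⥤ᵇ 𝒵)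

/-- `ι : 𝒳 ×_𝒴 𝒳 ⟶ 𝒳 ×_𝒵 𝒳`, `(x₁, x₂, φ) ↦ (x₁, x₂, g φ)`. -/
def magIota : FibCat.fp f f ⥤ᵇ FibCat.fp (BasedFunctor.comp f g) (BasedFunctor.comp f g) :=
  FibCat.fpLift (F := BasedFunctor.comp f g) (G := BasedFunctor.comp f g)
    (FibCat.fpFst f f) (FibCat.fpSnd f f) (whiskerRightIso (FibCat.fpIso f f) g)

/-- `𝒳 ×_𝒵 𝒳 ⟶ 𝒴 ×_𝒵 𝒴`, `(x₁, x₂, ψ) ↦ (f x₁, f x₂, ψ)`. -/
def magQ : FibCat.fp (BasedFunctor.comp f g) (BasedFunctor.comp f g) ⥤ᵇ FibCat.fp g g :=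
  FibCat.fpLift (F := g) (G := g)
    (BasedFunctor.comp (FibCat.fpFst (BasedFunctor.comp f g) (BasedFunctor.comp f g)) f)
    (BasedFunctor.comp (FibCat.fpSnd (BasedFunctor.comp f g) (BasedFunctor.comp f g)) f)
    (FibCat.fpIso (BasedFunctor.comp f g) (BasedFunctor.comp f g))

theorem magIota_obj_iso_hom (w : (FibCat.fp f f).obj) :
    ((magIota f g).obj w).obj.iso.hom = g.map w.obj.iso.hom := rfl

theorem magQ_obj_iso_hom (w : (FibCat.fp (BasedFunctor.comp f g) (BasedFunctor.comp f g)).obj) :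
    ((magQ f g).obj w).obj.iso.hom = w.obj.iso.hom := rfl


/-- The functor `𝒳 ×_𝒴 𝒳 ⟶ 𝒴`, `(x₁, x₂, φ) ↦ f x₁`. -/
abbrev magK : FibCat.fp f f ⥤ᵇ 𝒴 := BasedFunctor.comp (FibCat.fpFst f f) f

/-- The component of the 2-isomorphism filling the square. -/
def magSqObjIso (w : (FibCat.fp f f).obj) :
    (magQ f g).obj ((magIota f g).obj w) ≅ (FibCat.diag g).obj ((magK f).obj w) where
  hom := ObjectProperty.homMk
    { fst := 𝟙 (f.obj w.obj.fst)
      snd := w.obj.iso.inv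
      w := by
        show g.map (𝟙 (f.obj w.obj.fst)) ≫ 𝟙 (g.obj (f.obj w.obj.fst)) =
          g.map w.obj.iso.hom ≫ g.map w.obj.iso.inv
        have e1 : g.map (𝟙 (f.obj w.obj.fst)) = 𝟙 _ := g.toFunctor.map_id _
        have e2 : g.map w.obj.iso.hom ≫ g.map w.obj.iso.inv = 𝟙 _ :=
          (g.toFunctor.mapIso w.obj.iso).hom_inv_id
        rw [e1, e2, Category.comp_id] }
  inv := ObjectProperty.homMk
    { fst := 𝟙 (f.obj w.obj.fst)
      snd := w.obj.iso.hom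
      w := by
        show g.map (𝟙 (f.obj w.obj.fst)) ≫ g.map w.obj.iso.hom =
          𝟙 (g.obj (f.obj w.obj.fst)) ≫ g.map w.obj.iso.hom
        have e1 : g.map (𝟙 (f.obj w.obj.fst)) = 𝟙 _ := g.toFunctor.map_id _
        rw [e1] }
  hom_inv_id := fp_hom_ext _ _ (Category.id_comp _) w.obj.iso.inv_hom_id
  inv_hom_id := fp_hom_ext _ _ (Category.id_comp _) w.obj.iso.hom_inv_id

theorem magSqObjIso_hom_fst (w : (FibCat.fp f f).obj) :
    (magSqObjIso f g w).hom.hom.fst = 𝟙 (f.obj w.obj.fst) := rfl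

theorem magSqObjIso_hom_snd (w : (FibCat.fp f f).obj) :
    (magSqObjIso f g w).hom.hom.snd = w.obj.iso.inv := rfl

/-- The 2-isomorphism filling the square. -/
def magSqIso : BasedFunctor.comp (magIota f g) (magQ f g) ≅
    BasedFunctor.comp (magK f) (FibCat.diag g) :=
  BasedNatIso.mkNatIso
    (NatIso.ofComponents (fun w => magSqObjIso f g w) (fun {w w'} m => by
      refine fp_hom_ext _ _ ?_ ?_
      · show f.map m.hom.fst ≫ 𝟙 (f.obj w'.obj.fst) = 𝟙 (f.obj w.obj.fst) ≫ f.map m.hom.fst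
        rw [Category.comp_id, Category.id_comp]
      · show f.map m.hom.snd ≫ w'.obj.iso.inv = w.obj.iso.inv ≫ f.map m.hom.fst
        have hm : f.map m.hom.fst ≫ w'.obj.iso.hom = w.obj.iso.hom ≫ f.map m.hom.snd := m.hom.w
        rw [Iso.comp_inv_eq, Category.assoc, hm, Iso.inv_hom_id_assoc]))
    (fun w => by
      show (FibCat.fp g g).p.IsHomLift (𝟙 (𝒳.p.obj w.obj.fst)) (magSqObjIso f g w).hom
      rw [fp_isHomLift_iff]
      exact IsHomLift.id (f.w_obj w.obj.fst))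

/-- The comparison functor `𝒳 ×_𝒴 𝒳 ⟶ (𝒳 ×_𝒵 𝒳) ×_{𝒴 ×_𝒵 𝒴} 𝒴`. -/
def magLift : FibCat.fp f f ⥤ᵇ FibCat.fp (magQ f g) (FibCat.diag g) :=
  FibCat.fpLift (magIota f g) (magK f) (magSqIso f g)


theorem magLift_faithful : (magLift f g).toFunctor.Faithful where
  map_injective {x y} m n hmn := by
    have h1 : m.hom.fst = n.hom.fst :=
      congrArg (fun k : (magLift f g).obj x ⟶ (magLift f g).obj y => k.hom.fst.hom.fst) hmn
    have h2 : m.hom.snd = n.hom.snd :=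
      congrArg (fun k : (magLift f g).obj x ⟶ (magLift f g).obj y => k.hom.fst.hom.snd) hmn
    exact fp_hom_ext _ _ h1 h2

theorem magLift_full : (magLift f g).toFunctor.Full where
  map_surjective {x y} n := by
    let m₁ : x.obj.fst ⟶ y.obj.fst := n.hom.fst.hom.fst
    let m₂ : x.obj.snd ⟶ y.obj.snd := n.hom.fst.hom.snd
    let ξ : f.obj x.obj.fst ⟶ f.obj y.obj.fst := n.hom.snd
    have h2 : (magQ f g).map n.hom.fst ≫ (magSqObjIso f g y).hom =
        (magSqObjIso f g x).hom ≫ (FibCat.diag g).map ξ := n.hom.w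
    have h3 : f.map m₁ ≫ 𝟙 (f.obj y.obj.fst) = 𝟙 (f.obj x.obj.fst) ≫ ξ :=
      congrArg (fun k : (magQ f g).obj ((magIota f g).obj x) ⟶
        (FibCat.diag g).obj (f.obj y.obj.fst) => k.hom.fst) h2
    have h4 : f.map m₂ ≫ y.obj.iso.inv = x.obj.iso.inv ≫ ξ :=
      congrArg (fun k : (magQ f g).obj ((magIota f g).obj x) ⟶
        (FibCat.diag g).obj (f.obj y.obj.fst) => k.hom.snd) h2
    rw [Category.comp_id, Category.id_comp] at h3
    have hw : f.map m₁ ≫ y.obj.iso.hom = x.obj.iso.hom ≫ f.map m₂ := by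
      rw [← h3] at h4
      rw [← Iso.inv_comp_eq, ← Category.assoc, ← h4, Category.assoc, Iso.inv_hom_id,
        Category.comp_id]
    refine ⟨ObjectProperty.homMk { fst := m₁, snd := m₂, w := hw }, ?_⟩
    refine fp_hom_ext _ _ ?_ h3
    exact fp_hom_ext _ _ rfl rfl

theorem magLift_isEquivOver : FibCat.IsEquivOver (magLift f g) := by
  haveI := magLift_faithful f g
  haveI := magLift_full f g
  apply isEquivOver_of_ff_of_ess
  intro z
  let w : (FibCat.fp (BasedFunctor.comp f g) (BasedFunctor.comp f g)).obj := z.obj.fst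
  let y : 𝒴.obj := z.obj.snd
  let x₁ : 𝒳.obj := w.obj.fst
  let x₂ : 𝒳.obj := w.obj.snd
  let ψ : g.obj (f.obj x₁) ≅ g.obj (f.obj x₂) := w.obj.iso
  let ι : (magQ f g).obj w ≅ (FibCat.diag g).obj y := z.obj.iso
  let a : f.obj x₁ ⟶ y := ι.hom.hom.fst
  let b : f.obj x₂ ⟶ y := ι.hom.hom.snd
  let b' : y ⟶ f.obj x₂ := ι.inv.hom.snd
  have hbb' : b ≫ b' = 𝟙 _ :=
    congrArg (fun k : (magQ f g).obj w ⟶ (magQ f g).obj w => k.hom.snd) ι.hom_inv_id
  have hb'b : b' ≫ b = 𝟙 _ :=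
    congrArg (fun k : (FibCat.diag g).obj y ⟶ (FibCat.diag g).obj y => k.hom.snd) ι.inv_hom_id
  haveI : IsIso ι.hom.hom.fst := inferInstance
  haveI : IsIso ι.hom.hom.snd := inferInstance
  haveI hia : IsIso a := inferInstanceAs (IsIso ι.hom.hom.fst)
  haveI hib : IsIso b := inferInstanceAs (IsIso ι.hom.hom.snd)
  have hι : g.map a ≫ 𝟙 (g.obj y) = ψ.hom ≫ g.map b := ι.hom.hom.w
  rw [Category.comp_id] at hι
  -- the isomorphism φ = a ≫ b⁻¹
  let φ : f.obj x₁ ≅ f.obj x₂ :=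
    { hom := a ≫ b'
      inv := b ≫ inv a
      hom_inv_id := by
        rw [Category.assoc, ← Category.assoc b', hb'b, Category.id_comp, IsIso.hom_inv_id]
      inv_hom_id := by
        rw [Category.assoc, ← Category.assoc (inv a), IsIso.inv_hom_id, Category.id_comp, hbb'] }
  have hgφ : g.map φ.hom = ψ.hom := by
    show g.map (a ≫ b') = ψ.hom
    have e : g.map (a ≫ b') = g.map a ≫ g.map b' := g.toFunctor.map_comp a b'
    have e' : g.map b ≫ g.map b' = 𝟙 _ := by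
      have := g.toFunctor.map_comp b b'
      rw [hbb'] at this
      exact this.symm.trans (g.toFunctor.map_id _)
    rw [e, hι, Category.assoc, e', Category.comp_id]
  -- lifts of identity
  have hx₁ : 𝒵.p.IsHomLift (𝟙 (𝒳.p.obj x₁)) ψ.hom := w.property
  have hφ : 𝒴.p.IsHomLift (𝟙 (𝒳.p.obj x₁)) φ.hom := by
    rw [← BasedFunctor.isHomLift_iff g, hgφ]
    exact hx₁
  let x : (FibCat.fp f f).obj := ⟨{ fst := x₁, snd := x₂, iso := φ }, hφ⟩
  have hew : (BasedFunctor.comp f g).map (𝟙 x₁) ≫ ψ.hom =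
      g.map φ.hom ≫ (BasedFunctor.comp f g).map (𝟙 x₂) := by
    have e1 : (BasedFunctor.comp f g).map (𝟙 x₁) = 𝟙 (g.obj (f.obj x₁)) :=
      (BasedFunctor.comp f g).toFunctor.map_id _
    have e2 : (BasedFunctor.comp f g).map (𝟙 x₂) = 𝟙 (g.obj (f.obj x₂)) :=
      (BasedFunctor.comp f g).toFunctor.map_id _
    calc (BasedFunctor.comp f g).map (𝟙 x₁) ≫ ψ.hom
        = 𝟙 (g.obj (f.obj x₁)) ≫ ψ.hom := congrArg (· ≫ ψ.hom) e1
      _ = ψ.hom := Category.id_comp _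
      _ = g.map φ.hom := hgφ.symm
      _ = g.map φ.hom ≫ 𝟙 (g.obj (f.obj x₂)) := (Category.comp_id _).symm
      _ = _ := congrArg (g.map φ.hom ≫ ·) e2.symm
  let ew : (magIota f g).obj x ⟶ w :=
    ObjectProperty.homMk { fst := 𝟙 x₁, snd := 𝟙 x₂, w := hew }
  have he : (magQ f g).map ew ≫ ι.hom = (magSqObjIso f g x).hom ≫ (FibCat.diag g).map a := by
    refine fp_hom_ext _ _ ?_ ?_
    · show f.map (𝟙 x₁) ≫ a = 𝟙 (f.obj x₁) ≫ a
      have e1 : f.map (𝟙 x₁) = 𝟙 _ := f.toFunctor.map_id _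
      rw [e1]
    · show f.map (𝟙 x₂) ≫ b = (b ≫ inv a) ≫ a
      have e1 : f.map (𝟙 x₂) = 𝟙 _ := f.toFunctor.map_id _
      rw [e1, Category.id_comp, Category.assoc, IsIso.inv_hom_id, Category.comp_id]
  let e : (magLift f g).obj x ⟶ z := ObjectProperty.homMk { fst := ew, snd := a, w := he }
  haveI hiew : IsIso ew := by
    haveI : IsIso ew.hom.fst := inferInstanceAs (IsIso (𝟙 x₁))
    haveI : IsIso ew.hom.snd := inferInstanceAs (IsIso (𝟙 x₂))
    exact fp_isIso_of _ _ ew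
  haveI hie : IsIso e := by
    haveI : IsIso e.hom.fst := hiew
    haveI : IsIso e.hom.snd := hia
    exact fp_isIso_of _ _ e
  refine ⟨x, asIso e, ?_⟩
  show (FibCat.fp (magQ f g) (FibCat.diag g)).p.IsHomLift (𝟙 (𝒳.p.obj x₁)) e
  rw [fp_isHomLift_iff, fp_isHomLift_iff]
  exact IsHomLift.id rfl

/-- The magic square is 2-cartesian over the base. -/
theorem magic_isTwoCartOver : FibCat.IsTwoCartOver (magIota f g) (magK f) (magSqIso f g) :=
  magLift_isEquivOver f g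


/-- The component of `Δ_{f ⋙ g} ≅ Δ_f ⋙ ι`. -/
def diagCompObjIso (x : 𝒳.obj) :
    (FibCat.diag (BasedFunctor.comp f g)).obj x ≅ (magIota f g).obj ((FibCat.diag f).obj x) where
  hom := ObjectProperty.homMk
    { fst := 𝟙 x
      snd := 𝟙 x
      w := by
        show (BasedFunctor.comp f g).map (𝟙 x) ≫ g.map (𝟙 (f.obj x)) =
          𝟙 (g.obj (f.obj x)) ≫ (BasedFunctor.comp f g).map (𝟙 x)
        have e1 : (BasedFunctor.comp f g).map (𝟙 x) = 𝟙 (g.obj (f.obj x)) :=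
          (BasedFunctor.comp f g).toFunctor.map_id _
        have e2 : g.map (𝟙 (f.obj x)) = 𝟙 (g.obj (f.obj x)) := g.toFunctor.map_id _
        calc (BasedFunctor.comp f g).map (𝟙 x) ≫ g.map (𝟙 (f.obj x))
            = 𝟙 (g.obj (f.obj x)) ≫ g.map (𝟙 (f.obj x)) :=
              congrArg (· ≫ g.map (𝟙 (f.obj x))) e1
          _ = 𝟙 (g.obj (f.obj x)) ≫ 𝟙 (g.obj (f.obj x)) :=
              congrArg (𝟙 (g.obj (f.obj x)) ≫ ·) e2
          _ = _ := congrArg (𝟙 (g.obj (f.obj x)) ≫ ·) e1.symm }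
  inv := ObjectProperty.homMk
    { fst := 𝟙 x
      snd := 𝟙 x
      w := by
        show (BasedFunctor.comp f g).map (𝟙 x) ≫ 𝟙 (g.obj (f.obj x)) =
          g.map (𝟙 (f.obj x)) ≫ (BasedFunctor.comp f g).map (𝟙 x)
        have e1 : (BasedFunctor.comp f g).map (𝟙 x) = 𝟙 (g.obj (f.obj x)) :=
          (BasedFunctor.comp f g).toFunctor.map_id _
        have e2 : g.map (𝟙 (f.obj x)) = 𝟙 (g.obj (f.obj x)) := g.toFunctor.map_id _
        calc (BasedFunctor.comp f g).map (𝟙 x) ≫ 𝟙 (g.obj (f.obj x))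
            = 𝟙 (g.obj (f.obj x)) ≫ 𝟙 (g.obj (f.obj x)) :=
              congrArg (· ≫ 𝟙 (g.obj (f.obj x))) e1
          _ = g.map (𝟙 (f.obj x)) ≫ 𝟙 (g.obj (f.obj x)) :=
              congrArg (· ≫ 𝟙 (g.obj (f.obj x))) e2.symm
          _ = _ := congrArg (g.map (𝟙 (f.obj x)) ≫ ·) e1.symm }
  hom_inv_id := fp_hom_ext _ _ (Category.id_comp _) (Category.id_comp _)
  inv_hom_id := fp_hom_ext _ _ (Category.id_comp _) (Category.id_comp _)

/-- `Δ_{f ⋙ g} ≅ Δ_f ⋙ ι`. -/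
def diagCompIso : FibCat.diag (BasedFunctor.comp f g) ≅
    BasedFunctor.comp (FibCat.diag f) (magIota f g) :=
  BasedNatIso.mkNatIso
    (NatIso.ofComponents (fun x => diagCompObjIso f g x) (fun {x x'} m => by
      refine fp_hom_ext _ _ ?_ ?_
      · show m ≫ 𝟙 x' = 𝟙 x ≫ m
        rw [Category.comp_id, Category.id_comp]
      · show m ≫ 𝟙 x' = 𝟙 x ≫ m
        rw [Category.comp_id, Category.id_comp]))
    (fun x => by
      show (FibCat.fp (BasedFunctor.comp f g) (BasedFunctor.comp f g)).p.IsHomLift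
        (𝟙 (𝒳.p.obj x)) (diagCompObjIso f g x).hom
      rw [fp_isHomLift_iff]
      exact IsHomLift.id rfl)

end Magic


section Consequences

variable {S : Scheme.{u}}

section General

variable {𝒳 : BasedCategory.{v₂, u₂} (Over S)} {𝒴 : BasedCategory.{v₃, u₃} (Over S)}
  {𝒵 : BasedCategory.{v₄, u₄} (Over S)}

/-- If the diagonal of `g` has `P`, so does `ι : 𝒳 ×_𝒴 𝒳 ⟶ 𝒳 ×_𝒵 𝒳`. -/
theorem repByAlgSpWith_magIota (P : MorphismProperty (AlgSp.Sp S)) (f : 𝒳 ⥤ᵇ 𝒴) (g : 𝒴 ⥤ᵇ 𝒵)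
    (hg : AlgSt.RepByAlgSpWith P (FibCat.diag g)) : AlgSt.RepByAlgSpWith P (magIota f g) :=
  repByAlgSpWith_of_isTwoCartOver P (magIota f g) (magK f) (magSqIso f g)
    (magic_isTwoCartOver f g) hg

/-- `RepByAlgSpWith P` only depends on the functor up to 2-isomorphism. -/
theorem repByAlgSpWith_congr (P : MorphismProperty (AlgSp.Sp S)) {f f' : 𝒳 ⥤ᵇ 𝒴} (e : f' ≅ f) :
    AlgSt.RepByAlgSpWith P f ↔ AlgSt.RepByAlgSpWith P f' :=
  repByAlgSpWith_iff_of_square P f f' (BasedFunctor.id 𝒳) (BasedFunctor.id 𝒴) isEquivOver_id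
    isEquivOver_id (compIdIso f' ≪≫ e ≪≫ (idCompIso f).symm)

end General

variable {𝒳 𝒴 𝒵 : AlgSt.Cat S}

/-- **The diagonal of a composition.** -/
theorem repByAlgSpWith_diag_comp [FibCat.IsFibGrpd 𝒳.p] [FibCat.IsFibGrpd 𝒴.p]
    (P : MorphismProperty (AlgSp.Sp S)) (hPi : Groth.Agent.Lib.AlgStSpTest.IsoInv P)
    (hPl : Groth.Agent.Lib.AlgStSpTest.AtlasLocal P)
    (hPc : ∀ ⦃X Y Z : AlgSp.Sp S⦄, AlgSp.IsAlgSpace X → AlgSp.IsAlgSpace Y → AlgSp.IsAlgSpace Z →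
      ∀ (a : X ⟶ Y) (b : Y ⟶ Z), P a → P b → P (a ≫ b))
    (f : 𝒳 ⥤ᵇ 𝒴) (g : 𝒴 ⥤ᵇ 𝒵) (hf : AlgSt.RepByAlgSpWith P (FibCat.diag f))
    (hg : AlgSt.RepByAlgSpWith P (FibCat.diag g)) :
    AlgSt.RepByAlgSpWith P (FibCat.diag (BasedFunctor.comp f g)) := by
  haveI : FibCat.IsFibGrpd (FibCat.fp f f).p := fp_isFibGrpd f f
  have h1 : AlgSt.RepByAlgSpWith P (magIota f g) := repByAlgSpWith_magIota P f g hg
  have h2 : AlgSt.RepByAlgSpWith P (BasedFunctor.comp (FibCat.diag f) (magIota f g)) :=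
    Groth.Agent.Lib.AlgStSpTest.repByAlgSpWith_comp P hPi hPl hPc (FibCat.diag f) (magIota f g)
      hf h1
  exact (repByAlgSpWith_congr P (diagCompIso f g)).1 h2

end Consequences

end Groth.Agent.Lib.AlgStDiag3
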