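import Groth.Prelude.Def_AlgSt2
import Groth.Agent.Lib.PshFp
import Groth.Agent.Lib.AlgSpFibre

/-!
# 2-fibre products of categories over `(Sch/S)` representable by algebraic spaces (helper64)

* `repByAlgSp_iff_of_equivOver` : `AlgSt.RepByAlgSp` is invariant under equivalence over the base.
* `toOverCat_isEquivOver`, `ofOverCat_isEquivOver`, `repByAlgSp_overCat`.
* `repByAlgSp_fp_ofSpMap` : `ofSp A ×_{ofSp H} ofSp B` is representable by the sheaf `A ×_H B`.
* `repByAlgSp_fp` : a 2-fibre product `𝒜 ×_ℋ ℬ` with `𝒜`, `ℬ` representable by algebraic spaces and `ℋ`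
  equivalent to the category of a sheaf with representable diagonal is representable by an algebraic
  space.
-/

set_option autoImplicit false
set_option linter.style.haveILetI false
set_option backward.isDefEq.respectTransparency false
set_option backward.isDefEq.respectTransparency.types false

namespace Groth.Agent.Lib.AlgStFp

open CategoryTheory Functor Opposite Limits AlgebraicGeometry Groth.Agent.Lib.FibGrpd
  Groth.Agent.Lib.FpEquiv Groth.Agent.Lib.EquivOver Groth.Agent.Lib.PshFp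

universe v₄ u₄ v₃ u₃ v₂ u₂ u

variable {S : Scheme.{u}}

section Basic

variable {𝒳 : BasedCategory.{v₂, u₂} (Over S)} {𝒴 : BasedCategory.{v₃, u₃} (Over S)}

theorem repByAlgSp_of_equivOver (h : EquivOver 𝒳 𝒴) (hX : AlgSt.RepByAlgSp 𝒳) :
    AlgSt.RepByAlgSp 𝒴 := by
  obtain ⟨E, hE⟩ := h
  obtain ⟨F, e, he⟩ := hX
  exact ⟨F, BasedFunctor.comp e E, isEquivOver_comp he hE⟩

theorem repByAlgSp_iff_of_equivOver (h : EquivOver 𝒳 𝒴) :
    AlgSt.RepByAlgSp 𝒳 ↔ AlgSt.RepByAlgSp 𝒴 :=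
  ⟨repByAlgSp_of_equivOver h, repByAlgSp_of_equivOver h.symm⟩

theorem toOverCat_comp_ofOverCat (U : Over S) :
    BasedFunctor.comp (AlgSt.toOverCat U) (AlgSt.ofOverCat U) = BasedFunctor.id _ := rfl

theorem ofOverCat_comp_toOverCat (U : Over S) :
    BasedFunctor.comp (AlgSt.ofOverCat U) (AlgSt.toOverCat U) = BasedFunctor.id _ := rfl

theorem toOverCat_isEquivOver (U : Over S) : FibCat.IsEquivOver (AlgSt.toOverCat U) :=
  ⟨AlgSt.ofOverCat U, ⟨eqToIso (toOverCat_comp_ofOverCat U)⟩,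
    ⟨eqToIso (ofOverCat_comp_toOverCat U)⟩⟩

theorem ofOverCat_isEquivOver (U : Over S) : FibCat.IsEquivOver (AlgSt.ofOverCat U) :=
  ⟨AlgSt.toOverCat U, ⟨eqToIso (ofOverCat_comp_toOverCat U)⟩,
    ⟨eqToIso (toOverCat_comp_ofOverCat U)⟩⟩

theorem repByAlgSp_overCat (U : Over S) : AlgSt.RepByAlgSp (FibCat.overCat U) :=
  ⟨⟨(AlgSp.yon S).obj U, AlgSp.IsAlgSpace.yon_obj U⟩, AlgSt.toOverCat U, toOverCat_isEquivOver U⟩

end Basic

section Fp

/-- `ofSp A ×_{ofSp H} ofSp B` is equivalent over the base to the category of any fibre product sheaf. -/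
theorem equivOver_fp_ofSpMap {A B H P : AlgSp.Sp S} {a : A ⟶ H} {b : B ⟶ H} {fst : P ⟶ A}
    {snd : P ⟶ B} (sq : IsPullback fst snd a b) :
    EquivOver (AlgSt.ofSp P) (FibCat.fp (AlgSt.ofSpMap a) (AlgSt.ofSpMap b)) := by
  have sq' : IsPullback fst.hom snd.hom a.hom b.hom :=
    sq.map (sheafToPresheaf (AlgSp.J S) (Type (u + 1)))
  exact ⟨pshFpFunctor sq'.w, pshFpFunctor_isEquivOver_of_isPullback sq'⟩

/-- `ofSp A ×_{ofSp H} ofSp B` is representable by an algebraic space when `A`, `B` are algebraic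
spaces and `H` has representable diagonal. -/
theorem repByAlgSp_fp_ofSpMap {A B H : AlgSp.Sp S} (hA : AlgSp.IsAlgSpace A)
    (hB : AlgSp.IsAlgSpace B) (hH : AlgSp.Representable (Limits.diag H)) (a : A ⟶ H) (b : B ⟶ H) :
    AlgSt.RepByAlgSp (FibCat.fp (AlgSt.ofSpMap a) (AlgSt.ofSpMap b)) := by
  have sq : IsPullback (pullback.fst a b) (pullback.snd a b) a b := IsPullback.of_hasPullback a b
  have hP : AlgSp.IsAlgSpace (pullback a b) :=
    Groth.Agent.Lib.AlgSpFibre.isAlgSpace_of_isPullback hH hA hB sq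
  obtain ⟨E, hE⟩ := equivOver_fp_ofSpMap sq
  exact ⟨⟨pullback a b, hP⟩, E, hE⟩

/-- Any functor over the base between categories of sheaves comes from a map of sheaves. -/
theorem exists_ofSpMap_iso {A H : AlgSp.Sp S} (Φ : AlgSt.ofSp A ⥤ᵇ AlgSt.ofSp H) :
    ∃ a : A ⟶ H, Nonempty (Φ ≅ AlgSt.ofSpMap a) :=
  ⟨ObjectProperty.homMk (pshYonedaMor Φ), ⟨pshYonedaIso Φ⟩⟩

theorem repByAlgSp_fp_ofSp {A B H : AlgSp.Sp S} (hA : AlgSp.IsAlgSpace A)
    (hB : AlgSp.IsAlgSpace B) (hH : AlgSp.Representable (Limits.diag H))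
    (Φ : AlgSt.ofSp A ⥤ᵇ AlgSt.ofSp H) (Ψ : AlgSt.ofSp B ⥤ᵇ AlgSt.ofSp H) :
    AlgSt.RepByAlgSp (FibCat.fp Φ Ψ) := by
  obtain ⟨a, ⟨α⟩⟩ := exists_ofSpMap_iso Φ
  obtain ⟨b, ⟨β⟩⟩ := exists_ofSpMap_iso Ψ
  have h1 : EquivOver (FibCat.fp Φ Ψ) (FibCat.fp (AlgSt.ofSpMap a) (AlgSt.ofSpMap b)) :=
    (fp_congr_left α Ψ).trans (fp_congr_right (AlgSt.ofSpMap a) β)
  exact repByAlgSp_of_equivOver h1.symm (repByAlgSp_fp_ofSpMap hA hB hH a b)

variable {𝒜 : BasedCategory.{v₂, u₂} (Over S)} {ℬ : BasedCategory.{v₃, u₃} (Over S)}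
  {ℋ : BasedCategory.{v₄, u₄} (Over S)}

/-- A 2-fibre product `𝒜 ×_ℋ ℬ` with `𝒜`, `ℬ` representable by algebraic spaces and `ℋ` equivalent to
the category of a sheaf with representable diagonal is representable by an algebraic space. -/
theorem repByAlgSp_fp (hA : AlgSt.RepByAlgSp 𝒜) (hB : AlgSt.RepByAlgSp ℬ)
    (hH : ∃ (H : AlgSp.Sp S) (c : ℋ ⥤ᵇ AlgSt.ofSp H),
      FibCat.IsEquivOver c ∧ AlgSp.Representable (Limits.diag H))
    (F : 𝒜 ⥤ᵇ ℋ) (G : ℬ ⥤ᵇ ℋ) : AlgSt.RepByAlgSp (FibCat.fp F G) := by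
  obtain ⟨A, eA, heA⟩ := hA
  obtain ⟨B, eB, heB⟩ := hB
  obtain ⟨H, c, hc, hH⟩ := hH
  have h1 : EquivOver (FibCat.fp (BasedFunctor.comp eA F) (BasedFunctor.comp eB G))
      (FibCat.fp F G) := fp_precomp eA heA eB heB F G
  have h2 : EquivOver (FibCat.fp (BasedFunctor.comp eA F) (BasedFunctor.comp eB G))
      (FibCat.fp (BasedFunctor.comp (BasedFunctor.comp eA F) c)
        (BasedFunctor.comp (BasedFunctor.comp eB G) c)) :=
    fp_postcomp_equiv _ _ c hc
  have h3 := repByAlgSp_fp_ofSp A.property B.property hH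
    (BasedFunctor.comp (BasedFunctor.comp eA F) c) (BasedFunctor.comp (BasedFunctor.comp eB G) c)
  exact repByAlgSp_of_equivOver (h2.symm.trans h1) h3

/-- The category of a scheme is equivalent to the category of a sheaf with representable diagonal. -/
theorem exists_equiv_ofSp_overCat (U : Over S) :
    ∃ (H : AlgSp.Sp S) (c : FibCat.overCat U ⥤ᵇ AlgSt.ofSp H),
      FibCat.IsEquivOver c ∧ AlgSp.Representable (Limits.diag H) :=
  ⟨(AlgSp.yon S).obj U, AlgSt.ofOverCat U, ofOverCat_isEquivOver U,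
    (AlgSp.IsAlgSpace.yon_obj U).diag⟩

end Fp

end Groth.Agent.Lib.AlgStFp
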