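import Groth.Prelude.Def_FibCat2
import Groth.Agent.Lib.FibGrpd
import Groth.Agent.Lib.FpEquiv
import Groth.Agent.Lib.SliceFp

/-!
# Products over the base category and the diagonal (helper64)

`𝒜 ×_C ℬ` is `FibCat.fp (FibCat.toSelf 𝒜) (FibCat.toSelf ℬ)`.

* `toSelfIso P Q` : any two functors over `C` to `C` itself are 2-isomorphic.
* `selfProd_w` : a pair of morphisms lying over the same morphism of `C` is a morphism of `𝒜 ×_C ℬ`.
* `prodMap a b : 𝒜 ×_C ℬ ⟶ 𝒮 ×_C 𝒮`.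
* `diagEquiv a b : 𝒜 ×_𝒮 ℬ ⟶ (𝒜 ×_C ℬ) ×_{𝒮 ×_C 𝒮} 𝒮`, an equivalence over `C`.
* `prodSlice V U : C/(V ⨯ U) ⟶ C/V ×_C C/U`, an equivalence over `C`.
-/

set_option autoImplicit false
set_option linter.style.haveILetI false
set_option backward.isDefEq.respectTransparency false
set_option backward.isDefEq.respectTransparency.types false

namespace Groth.Agent.Lib.SelfProd

open CategoryTheory Functor Limits Groth.Agent.Lib.FibGrpd Groth.Agent.Lib.FpEquiv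
  Groth.Agent.Lib.SliceFp

universe v₅ u₅ v₄ u₄ v₃ u₃ v₂ u₂ v u

variable {C : Type u} [Category.{v} C]

section ToSelf

variable {𝒜 : BasedCategory.{v₂, u₂} C}

theorem self_map_eq (P : 𝒜 ⥤ᵇ FibCat.selfOver C) {x y : 𝒜.obj} (f : x ⟶ y) :
    P.map f = eqToHom (P.w_obj x) ≫ 𝒜.p.map f ≫ eqToHom (P.w_obj y).symm :=
  Functor.congr_hom P.w f

/-- Any two functors over `C` to `C` itself are 2-isomorphic. -/
def toSelfIso (P Q : 𝒜 ⥤ᵇ FibCat.selfOver C) : P ≅ Q :=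
  BasedNatIso.mkNatIso
    (NatIso.ofComponents (fun x => eqToIso ((P.w_obj x).trans (Q.w_obj x).symm))
      (fun {x y} f => by
        rw [eqToIso.hom, eqToIso.hom, self_map_eq P, self_map_eq Q]
        simp))
    (fun x => by
      apply IsHomLift.of_fac (FibCat.selfOver C).p _ _ (P.w_obj x) (Q.w_obj x)
      show 𝟙 (𝒜.p.obj x) = eqToHom (P.w_obj x).symm ≫
        eqToHom ((P.w_obj x).trans (Q.w_obj x).symm) ≫ eqToHom (Q.w_obj x)
      simp)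

theorem appIso_toSelfIso_hom (P Q : 𝒜 ⥤ᵇ FibCat.selfOver C) (x : 𝒜.obj) :
    (appIso (toSelfIso P Q) x).hom = eqToHom ((P.w_obj x).trans (Q.w_obj x).symm) := rfl

theorem appIso_toSelfIso_inv (P Q : 𝒜 ⥤ᵇ FibCat.selfOver C) (x : 𝒜.obj) :
    (appIso (toSelfIso P Q) x).inv = eqToHom ((Q.w_obj x).trans (P.w_obj x).symm) := rfl

end ToSelf

section SelfProdBasic

variable {𝒜 : BasedCategory.{v₂, u₂} C} {ℬ : BasedCategory.{v₃, u₃} C}

theorem selfProd_snd_proj (z : (FibCat.fp (FibCat.toSelf 𝒜) (FibCat.toSelf ℬ)).obj) :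
    ℬ.p.obj z.obj.snd = 𝒜.p.obj z.obj.fst :=
  fp_snd_proj (FibCat.toSelf 𝒜) (FibCat.toSelf ℬ) z

theorem selfProd_iso_hom (z : (FibCat.fp (FibCat.toSelf 𝒜) (FibCat.toSelf ℬ)).obj) :
    z.obj.iso.hom = eqToHom (selfProd_snd_proj z).symm := by
  have h : (FibCat.selfOver C).p.IsHomLift (𝟙 (𝒜.p.obj z.obj.fst)) z.obj.iso.hom := z.property
  have := IsHomLift.fac' (FibCat.selfOver C).p (𝟙 (𝒜.p.obj z.obj.fst)) z.obj.iso.hom
  have e : z.obj.iso.hom = eqToHom rfl ≫ 𝟙 (𝒜.p.obj z.obj.fst) ≫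
      eqToHom (selfProd_snd_proj z).symm := this
  rw [e]
  simp

/-- A pair of morphisms lying over the same morphism of `C` satisfies the compatibility of
`𝒜 ×_C ℬ`. -/
theorem selfProd_w {z z' : (FibCat.fp (FibCat.toSelf 𝒜) (FibCat.toSelf ℬ)).obj}
    (m₁ : z.obj.fst ⟶ z'.obj.fst) (m₂ : z.obj.snd ⟶ z'.obj.snd) {R R' : C} (f : R ⟶ R')
    [𝒜.p.IsHomLift f m₁] [ℬ.p.IsHomLift f m₂] :
    (FibCat.toSelf 𝒜).map m₁ ≫ z'.obj.iso.hom = z.obj.iso.hom ≫ (FibCat.toSelf ℬ).map m₂ := by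
  rw [selfProd_iso_hom, selfProd_iso_hom]
  show 𝒜.p.map m₁ ≫ eqToHom _ = eqToHom _ ≫ ℬ.p.map m₂
  rw [IsHomLift.fac' 𝒜.p f m₁, IsHomLift.fac' ℬ.p f m₂]
  simp

/-- The two components of a morphism of `𝒜 ×_C ℬ` lie over the same morphism. -/
theorem selfProd_isHomLift_snd {z z' : (FibCat.fp (FibCat.toSelf 𝒜) (FibCat.toSelf ℬ)).obj}
    (m : z ⟶ z') : ℬ.p.IsHomLift (𝒜.p.map m.hom.fst) m.hom.snd :=
  FibCat.fp_isHomLift_snd (FibCat.toSelf 𝒜) (FibCat.toSelf ℬ) m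

end SelfProdBasic

section ProdMap

variable {𝒜 : BasedCategory.{v₂, u₂} C} {ℬ : BasedCategory.{v₃, u₃} C}
  {𝒮 : BasedCategory.{v₄, u₄} C} (a : 𝒜 ⥤ᵇ 𝒮) (b : ℬ ⥤ᵇ 𝒮)

/-- The product `a × b : 𝒜 ×_C ℬ ⟶ 𝒮 ×_C 𝒮` of two functors over `C`. -/
def prodMap : FibCat.fp (FibCat.toSelf 𝒜) (FibCat.toSelf ℬ) ⥤ᵇ
    FibCat.fp (FibCat.toSelf 𝒮) (FibCat.toSelf 𝒮) :=
  fpMap a b (BasedFunctor.id (FibCat.selfOver C)) (toSelfIso _ _) (toSelfIso _ _)

@[simp] theorem prodMap_obj_fst (z : (FibCat.fp (FibCat.toSelf 𝒜) (FibCat.toSelf ℬ)).obj) :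
    ((prodMap a b).obj z).obj.fst = a.obj z.obj.fst := rfl

@[simp] theorem prodMap_obj_snd (z : (FibCat.fp (FibCat.toSelf 𝒜) (FibCat.toSelf ℬ)).obj) :
    ((prodMap a b).obj z).obj.snd = b.obj z.obj.snd := rfl

@[simp] theorem prodMap_map_fst {z z' : (FibCat.fp (FibCat.toSelf 𝒜) (FibCat.toSelf ℬ)).obj}
    (m : z ⟶ z') : ((prodMap a b).map m).hom.fst = a.map m.hom.fst := rfl

@[simp] theorem prodMap_map_snd {z z' : (FibCat.fp (FibCat.toSelf 𝒜) (FibCat.toSelf ℬ)).obj}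
    (m : z ⟶ z') : ((prodMap a b).map m).hom.snd = b.map m.hom.snd := rfl

/-- The canonical functor `𝒜 ×_𝒮 ℬ ⟶ 𝒜 ×_C ℬ`. -/
def fpToProd : FibCat.fp a b ⥤ᵇ FibCat.fp (FibCat.toSelf 𝒜) (FibCat.toSelf ℬ) :=
  FibCat.fpLift (FibCat.fpFst a b) (FibCat.fpSnd a b) (toSelfIso _ _)

@[simp] theorem fpToProd_obj_fst (z : (FibCat.fp a b).obj) :
    ((fpToProd a b).obj z).obj.fst = z.obj.fst := rfl

@[simp] theorem fpToProd_obj_snd (z : (FibCat.fp a b).obj) :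
    ((fpToProd a b).obj z).obj.snd = z.obj.snd := rfl

@[simp] theorem fpToProd_map_fst {z z' : (FibCat.fp a b).obj} (m : z ⟶ z') :
    ((fpToProd a b).map m).hom.fst = m.hom.fst := rfl

@[simp] theorem fpToProd_map_snd {z z' : (FibCat.fp a b).obj} (m : z ⟶ z') :
    ((fpToProd a b).map m).hom.snd = m.hom.snd := rfl

theorem diag_obj_fst (s : 𝒮.obj) : ((FibCat.diag (FibCat.toSelf 𝒮)).obj s).obj.fst = s := rfl

theorem diag_obj_snd (s : 𝒮.obj) : ((FibCat.diag (FibCat.toSelf 𝒮)).obj s).obj.snd = s := rfl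

theorem diag_map_fst {s s' : 𝒮.obj} (σ : s ⟶ s') :
    ((FibCat.diag (FibCat.toSelf 𝒮)).map σ).hom.fst = σ := rfl

theorem diag_map_snd {s s' : 𝒮.obj} (σ : s ⟶ s') :
    ((FibCat.diag (FibCat.toSelf 𝒮)).map σ).hom.snd = σ := rfl

/-- The component of the 2-isomorphism used to define `diagEquiv`. -/
def diagEquivObjIso (z : (FibCat.fp a b).obj) :
    (prodMap a b).obj ((fpToProd a b).obj z) ≅
      (FibCat.diag (FibCat.toSelf 𝒮)).obj (b.obj z.obj.snd) :=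
  haveI h1 : 𝒮.p.IsHomLift (𝟙 (𝒜.p.obj z.obj.fst)) z.obj.iso.hom := z.property
  haveI h2 : 𝒮.p.IsHomLift (𝟙 (𝒜.p.obj z.obj.fst)) (𝟙 (b.obj z.obj.snd)) :=
    IsHomLift.id ((b.w_obj z.obj.snd).trans (fp_snd_proj a b z))
  fpIsoMk (z := (prodMap a b).obj ((fpToProd a b).obj z))
    (z' := (FibCat.diag (FibCat.toSelf 𝒮)).obj (b.obj z.obj.snd)) z.obj.iso
    (Iso.refl (b.obj z.obj.snd))
    (selfProd_w (z := (prodMap a b).obj ((fpToProd a b).obj z))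
      (z' := (FibCat.diag (FibCat.toSelf 𝒮)).obj (b.obj z.obj.snd)) z.obj.iso.hom
      (𝟙 (b.obj z.obj.snd)) (𝟙 (𝒜.p.obj z.obj.fst)))

theorem diagEquivObjIso_hom_fst (z : (FibCat.fp a b).obj) :
    (diagEquivObjIso a b z).hom.hom.fst = z.obj.iso.hom := rfl

theorem diagEquivObjIso_hom_snd (z : (FibCat.fp a b).obj) :
    (diagEquivObjIso a b z).hom.hom.snd = 𝟙 (b.obj z.obj.snd) := rfl

/-- The 2-isomorphism used to define `diagEquiv`. -/
def diagEquivIso :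
    BasedFunctor.comp (fpToProd a b) (prodMap a b) ≅
      BasedFunctor.comp (BasedFunctor.comp (FibCat.fpSnd a b) b) (FibCat.diag (FibCat.toSelf 𝒮)) :=
  BasedNatIso.mkNatIso
    (NatIso.ofComponents (fun z => diagEquivObjIso a b z) (fun {z z'} m => by
      apply fp_hom_ext
      · show a.map m.hom.fst ≫ z'.obj.iso.hom = z.obj.iso.hom ≫ b.map m.hom.snd
        exact m.hom.w
      · show b.map m.hom.snd ≫ 𝟙 _ = 𝟙 _ ≫ b.map m.hom.snd
        rw [Category.comp_id, Category.id_comp]))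
    (fun z => by
      rw [fp_isHomLift_iff]
      show 𝒮.p.IsHomLift (𝟙 (𝒜.p.obj z.obj.fst)) z.obj.iso.hom
      exact z.property)

/-- The comparison `𝒜 ×_𝒮 ℬ ⟶ (𝒜 ×_C ℬ) ×_{𝒮 ×_C 𝒮} 𝒮`. -/
def diagEquiv :
    FibCat.fp a b ⥤ᵇ FibCat.fp (prodMap a b) (FibCat.diag (FibCat.toSelf 𝒮)) :=
  FibCat.fpLift (fpToProd a b) (BasedFunctor.comp (FibCat.fpSnd a b) b) (diagEquivIso a b)

theorem diagEquiv_obj_fst (z : (FibCat.fp a b).obj) :
    ((diagEquiv a b).obj z).obj.fst = (fpToProd a b).obj z := rfl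

theorem diagEquiv_obj_snd (z : (FibCat.fp a b).obj) :
    ((diagEquiv a b).obj z).obj.snd = b.obj z.obj.snd := rfl

theorem diagEquiv_obj_iso_hom_fst (z : (FibCat.fp a b).obj) :
    ((diagEquiv a b).obj z).obj.iso.hom.hom.fst = z.obj.iso.hom := rfl

theorem diagEquiv_obj_iso_hom_snd (z : (FibCat.fp a b).obj) :
    ((diagEquiv a b).obj z).obj.iso.hom.hom.snd = 𝟙 (b.obj z.obj.snd) := rfl

theorem diagEquiv_map_fst {z z' : (FibCat.fp a b).obj} (m : z ⟶ z') :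
    ((diagEquiv a b).map m).hom.fst = (fpToProd a b).map m := rfl

theorem diagEquiv_map_snd {z z' : (FibCat.fp a b).obj} (m : z ⟶ z') :
    ((diagEquiv a b).map m).hom.snd = b.map m.hom.snd := rfl

theorem diagEquiv_faithful : (diagEquiv a b).toFunctor.Faithful where
  map_injective {z z'} m n hmn := by
    have h1 : (fpToProd a b).map m = (fpToProd a b).map n :=
      congrArg (fun k : (diagEquiv a b).obj z ⟶ (diagEquiv a b).obj z' => k.hom.fst) hmn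
    apply fp_hom_ext
    · exact congrArg (fun k : (fpToProd a b).obj z ⟶ (fpToProd a b).obj z' => k.hom.fst) h1
    · exact congrArg (fun k : (fpToProd a b).obj z ⟶ (fpToProd a b).obj z' => k.hom.snd) h1

theorem diagEquiv_full : (diagEquiv a b).toFunctor.Full where
  map_surjective {z z'} n := by
    let ξ : z.obj.fst ⟶ z'.obj.fst := n.hom.fst.hom.fst
    let υ : z.obj.snd ⟶ z'.obj.snd := n.hom.fst.hom.snd
    let σ : b.obj z.obj.snd ⟶ b.obj z'.obj.snd := n.hom.snd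
    have hw := n.hom.w
    have hw1 : a.map ξ ≫ z'.obj.iso.hom = z.obj.iso.hom ≫ σ :=
      congrArg (fun k : (prodMap a b).obj ((fpToProd a b).obj z) ⟶
        (FibCat.diag (FibCat.toSelf 𝒮)).obj (b.obj z'.obj.snd) => k.hom.fst) hw
    have hw2 : b.map υ ≫ 𝟙 (b.obj z'.obj.snd) = 𝟙 (b.obj z.obj.snd) ≫ σ :=
      congrArg (fun k : (prodMap a b).obj ((fpToProd a b).obj z) ⟶
        (FibCat.diag (FibCat.toSelf 𝒮)).obj (b.obj z'.obj.snd) => k.hom.snd) hw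
    rw [Category.comp_id, Category.id_comp] at hw2
    have hm : a.map ξ ≫ z'.obj.iso.hom = z.obj.iso.hom ≫ b.map υ := by rw [hw2]; exact hw1
    refine ⟨fpHomMk ξ υ hm, ?_⟩
    apply fp_hom_ext
    · apply fp_hom_ext
      · rfl
      · rfl
    · exact hw2

theorem diagEquiv_isEquivOver : FibCat.IsEquivOver (diagEquiv a b) := by
  haveI := diagEquiv_faithful a b
  haveI := diagEquiv_full a b
  apply isEquivOver_of_ff_of_ess
  intro w
  let P : (FibCat.fp (FibCat.toSelf 𝒜) (FibCat.toSelf ℬ)).obj := w.obj.fst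
  let x : 𝒜.obj := P.obj.fst
  let y : ℬ.obj := P.obj.snd
  let s : 𝒮.obj := w.obj.snd
  let κ : (prodMap a b).obj P ≅ (FibCat.diag (FibCat.toSelf 𝒮)).obj s := w.obj.iso
  let κ₁ : a.obj x ≅ s := fpIsoFst κ
  let κ₂ : b.obj y ≅ s := fpIsoSnd κ
  have hκ : (FibCat.fp (FibCat.toSelf 𝒮) (FibCat.toSelf 𝒮)).p.IsHomLift (𝟙 (𝒜.p.obj x)) κ.hom :=
    w.property
  haveI hκ₁ : 𝒮.p.IsHomLift (𝟙 (𝒜.p.obj x)) κ₁.hom := (fp_isHomLift_iff _ _ _ κ.hom).1 hκ
  haveI hκ₂ : 𝒮.p.IsHomLift (𝟙 (𝒜.p.obj x)) κ₂.hom := fp_isHomLift_snd' _ _ _ κ.hom hκ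
  haveI hκ₂' : 𝒮.p.IsHomLift (𝟙 (𝒜.p.obj x)) κ₂.inv := inferInstance
  let φ : a.obj x ≅ b.obj y := κ₁ ≪≫ κ₂.symm
  have hφ : 𝒮.p.IsHomLift (𝟙 (𝒜.p.obj x)) φ.hom := by
    show 𝒮.p.IsHomLift (𝟙 (𝒜.p.obj x)) (κ₁.hom ≫ κ₂.inv)
    infer_instance
  let z : (FibCat.fp a b).obj := ⟨{ fst := x, snd := y, iso := φ }, hφ⟩
  haveI hy : ℬ.p.IsHomLift (𝟙 (𝒜.p.obj x)) (𝟙 y) := IsHomLift.id (selfProd_snd_proj P)
  haveI hx : 𝒜.p.IsHomLift (𝟙 (𝒜.p.obj x)) (𝟙 x) := IsHomLift.id rfl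
  let e₁ : (fpToProd a b).obj z ≅ P :=
    fpIsoMk (z := (fpToProd a b).obj z) (z' := P) (Iso.refl x) (Iso.refl y)
      (selfProd_w (z := (fpToProd a b).obj z) (z' := P) (𝟙 x) (𝟙 y) (𝟙 (𝒜.p.obj x)))
  have hcompat : (prodMap a b).map e₁.hom ≫ κ.hom =
      ((diagEquiv a b).obj z).obj.iso.hom ≫ (FibCat.diag (FibCat.toSelf 𝒮)).map κ₂.hom := by
    apply fp_hom_ext
    · show a.map (𝟙 x) ≫ κ₁.hom = (κ₁.hom ≫ κ₂.inv) ≫ κ₂.hom
      rw [Functor.map_id, Category.id_comp, Category.assoc, Iso.inv_hom_id, Category.comp_id]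
    · show b.map (𝟙 y) ≫ κ₂.hom = 𝟙 (b.obj y) ≫ κ₂.hom
      rw [Functor.map_id]
  let e : (diagEquiv a b).obj z ≅ w :=
    fpIsoMk (z := (diagEquiv a b).obj z) (z' := w) e₁ κ₂ hcompat
  refine ⟨z, e, ?_⟩
  show (FibCat.fp (prodMap a b) (FibCat.diag (FibCat.toSelf 𝒮))).p.IsHomLift (𝟙 (𝒜.p.obj x)) e.hom
  rw [fp_isHomLift_iff, fp_isHomLift_iff]
  show 𝒜.p.IsHomLift (𝟙 (𝒜.p.obj x)) (𝟙 x)
  exact hx

end ProdMap

section ProdSlice

variable (V U : C) [HasBinaryProduct V U]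

/-- The comparison `C/(V ⨯ U) ⟶ C/V ×_C C/U`. -/
noncomputable def prodSlice : FibCat.overCat (V ⨯ U) ⥤ᵇ
    FibCat.fp (FibCat.toSelf (FibCat.overCat V)) (FibCat.toSelf (FibCat.overCat U)) :=
  FibCat.fpLift (overMapB (prod.fst : V ⨯ U ⟶ V)) (overMapB (prod.snd : V ⨯ U ⟶ U))
    (toSelfIso _ _)

@[simp] theorem prodSlice_obj_fst (c : Over (V ⨯ U)) :
    ((prodSlice V U).obj c).obj.fst = (overMapB (prod.fst : V ⨯ U ⟶ V)).obj c := rfl

@[simp] theorem prodSlice_obj_snd (c : Over (V ⨯ U)) :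
    ((prodSlice V U).obj c).obj.snd = (overMapB (prod.snd : V ⨯ U ⟶ U)).obj c := rfl

@[simp] theorem prodSlice_map_fst_left {c c' : Over (V ⨯ U)} (m : c ⟶ c') :
    ((prodSlice V U).map m).hom.fst.left = m.left := rfl

@[simp] theorem prodSlice_map_snd_left {c c' : Over (V ⨯ U)} (m : c ⟶ c') :
    ((prodSlice V U).map m).hom.snd.left = m.left := rfl

theorem prodSlice_faithful : (prodSlice V U).toFunctor.Faithful where
  map_injective {c c'} m n hmn := by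
    apply Over.OverMorphism.ext
    exact congrArg (fun k : (prodSlice V U).obj c ⟶ (prodSlice V U).obj c' => k.hom.fst.left) hmn

theorem prodSlice_full : (prodSlice V U).toFunctor.Full where
  map_surjective {c c'} n := by
    let τ₁ : c.left ⟶ c'.left := n.hom.fst.left
    let τ₂ : c.left ⟶ c'.left := n.hom.snd.left
    have hl : (FibCat.overCat U).p.IsHomLift ((FibCat.overCat V).p.map n.hom.fst) n.hom.snd :=
      selfProd_isHomLift_snd n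
    haveI hl' : (FibCat.overCat U).p.IsHomLift τ₁ n.hom.snd := hl
    have hτ : τ₁ = τ₂ :=
      IsHomLift.eq_of_isHomLift (FibCat.overCat U).p
        (a := ((prodSlice V U).obj c).obj.snd) (b := ((prodSlice V U).obj c').obj.snd) τ₁ n.hom.snd
    have h1 : τ₁ ≫ (c'.hom ≫ prod.fst) = c.hom ≫ prod.fst := Over.w n.hom.fst
    have h2 : τ₂ ≫ (c'.hom ≫ prod.snd) = c.hom ≫ prod.snd := Over.w n.hom.snd
    have hτc : τ₁ ≫ c'.hom = c.hom := by
      apply Limits.prod.hom_ext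
      · rw [Category.assoc, h1]
      · rw [Category.assoc, hτ, h2]
    refine ⟨Over.homMk τ₁ hτc, ?_⟩
    apply fp_hom_ext
    · apply Over.OverMorphism.ext
      rfl
    · apply Over.OverMorphism.ext
      exact hτ

theorem prodSlice_isEquivOver : FibCat.IsEquivOver (prodSlice V U) := by
  haveI := prodSlice_faithful V U
  haveI := prodSlice_full V U
  apply isEquivOver_of_ff_of_ess
  intro z
  let v : Over V := z.obj.fst
  let u : Over U := z.obj.snd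
  have h : v.left = u.left := (selfProd_snd_proj z).symm
  let l : v.left ⟶ V ⨯ U := prod.lift v.hom (eqToHom h ≫ u.hom)
  let c : Over (V ⨯ U) := Over.mk l
  let e₁ : ((prodSlice V U).obj c).obj.fst ≅ v :=
    Over.isoMk (Iso.refl v.left) (by
      show 𝟙 v.left ≫ v.hom = l ≫ prod.fst
      rw [Category.id_comp, prod.lift_fst])
  let e₂ : ((prodSlice V U).obj c).obj.snd ≅ u :=
    Over.isoMk (eqToIso h) (by
      show eqToHom h ≫ u.hom = l ≫ prod.snd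
      rw [prod.lift_snd])
  haveI hl1 : (FibCat.overCat V).p.IsHomLift (𝟙 v.left) e₁.hom := by
    apply IsHomLift.of_fac (FibCat.overCat V).p _ _ rfl rfl
    show 𝟙 v.left = eqToHom rfl ≫ 𝟙 v.left ≫ eqToHom rfl
    simp
  haveI hl2 : (FibCat.overCat U).p.IsHomLift (𝟙 v.left) e₂.hom := by
    apply IsHomLift.of_fac (FibCat.overCat U).p _ _ rfl h.symm
    show 𝟙 v.left = eqToHom rfl ≫ eqToHom h ≫ eqToHom h.symm
    simp
  let e : (prodSlice V U).obj c ≅ z :=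
    fpIsoMk (z := (prodSlice V U).obj c) (z' := z) e₁ e₂
      (selfProd_w (z := (prodSlice V U).obj c) (z' := z) e₁.hom e₂.hom (𝟙 v.left))
  refine ⟨c, e, ?_⟩
  show (FibCat.fp (FibCat.toSelf (FibCat.overCat V)) (FibCat.toSelf (FibCat.overCat U))).p.IsHomLift
    (𝟙 v.left) e.hom
  rw [fp_isHomLift_iff]
  exact hl1

end ProdSlice

section Split

variable {𝒜 : BasedCategory.{v₂, u₂} C} {𝒮 : BasedCategory.{v₄, u₄} C}
  (K : 𝒜 ⥤ᵇ FibCat.fp (FibCat.toSelf 𝒮) (FibCat.toSelf 𝒮))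

/-- The first component of a functor to `𝒮 ×_C 𝒮`. -/
abbrev splitFst : 𝒜 ⥤ᵇ 𝒮 := BasedFunctor.comp K (FibCat.fpFst (FibCat.toSelf 𝒮) (FibCat.toSelf 𝒮))

/-- The second component of a functor to `𝒮 ×_C 𝒮`. -/
abbrev splitSnd : 𝒜 ⥤ᵇ 𝒮 := BasedFunctor.comp K (FibCat.fpSnd (FibCat.toSelf 𝒮) (FibCat.toSelf 𝒮))

/-- The component of `splitIso`. -/
def splitObjIso (c : 𝒜.obj) :
    K.obj c ≅ (prodMap (splitFst K) (splitSnd K)).obj ((FibCat.diag (FibCat.toSelf 𝒜)).obj c) :=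
  haveI h1 : 𝒮.p.IsHomLift (𝟙 (𝒮.p.obj (K.obj c).obj.fst)) (𝟙 (K.obj c).obj.fst) :=
    IsHomLift.id rfl
  haveI h2 : 𝒮.p.IsHomLift (𝟙 (𝒮.p.obj (K.obj c).obj.fst)) (𝟙 (K.obj c).obj.snd) :=
    IsHomLift.id (selfProd_snd_proj (K.obj c))
  fpIsoMk (z := K.obj c)
    (z' := (prodMap (splitFst K) (splitSnd K)).obj ((FibCat.diag (FibCat.toSelf 𝒜)).obj c))
    (Iso.refl (K.obj c).obj.fst) (Iso.refl (K.obj c).obj.snd)
    (selfProd_w (z := K.obj c)
      (z' := (prodMap (splitFst K) (splitSnd K)).obj ((FibCat.diag (FibCat.toSelf 𝒜)).obj c))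
      (𝟙 (K.obj c).obj.fst) (𝟙 (K.obj c).obj.snd) (𝟙 (𝒮.p.obj (K.obj c).obj.fst)))

/-- Every functor `K : 𝒜 ⟶ 𝒮 ×_C 𝒮` over `C` factors as the diagonal of `𝒜` followed by the product
of its two components. -/
def splitIso :
    K ≅ BasedFunctor.comp (FibCat.diag (FibCat.toSelf 𝒜)) (prodMap (splitFst K) (splitSnd K)) :=
  BasedNatIso.mkNatIso
    (NatIso.ofComponents (fun c => splitObjIso K c) (fun {c c'} m => by
      apply fp_hom_ext
      · show (K.map m).hom.fst ≫ 𝟙 _ = 𝟙 _ ≫ (K.map m).hom.fst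
        rw [Category.comp_id, Category.id_comp]
      · show (K.map m).hom.snd ≫ 𝟙 _ = 𝟙 _ ≫ (K.map m).hom.snd
        rw [Category.comp_id, Category.id_comp]))
    (fun c => by
      rw [fp_isHomLift_iff]
      show 𝒮.p.IsHomLift (𝟙 (𝒜.p.obj c)) (𝟙 (K.obj c).obj.fst)
      exact IsHomLift.id (K.w_obj c))

end Split

end Groth.Agent.Lib.SelfProd
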