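import Groth.Prelude.Def_LiftSq

/-!
# Lifting squares over a base category: stability under composition (helper65)

`liftsUniquely_comp`: if every 2-commutative square against `j` can be uniquely filled in for `f` and for
`g`, then the same holds for `f ⋙ g` (in the 2-category of categories over `C`).
All 2-cell identities are checked componentwise.
-/

set_option autoImplicit false

universe v₆ u₆ v₅ u₅ v₄ u₄ v₃ u₃ v₂ u₂ v u

open CategoryTheory

namespace Groth.Agent.Lib.LiftSqComp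

open LiftSq

variable {C : Type u} [Category.{v} C]
  {𝒜 : BasedCategory.{v₂, u₂} C} {ℬ : BasedCategory.{v₃, u₃} C}
  {𝒳 : BasedCategory.{v₄, u₄} C} {𝒴 : BasedCategory.{v₅, u₅} C} {𝒵 : BasedCategory.{v₆, u₆} C}

theorem hom_ext' {F G : 𝒳 ⥤ᵇ 𝒴} {α β : F ⟶ G}
    (h : ∀ x, α.toNatTrans.app x = β.toNatTrans.app x) : α = β := by
  apply BasedNatTrans.homCategory.ext
  ext x
  exact h x

theorem app_congr {F G : 𝒳 ⥤ᵇ 𝒴} {α β : F ⟶ G} (h : α = β) (x : 𝒳.obj) :
    α.toNatTrans.app x = β.toNatTrans.app x := by rw [h]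

theorem aux1 {D : Type*} {E : Type*} [Category D] [Category E] (G : D ⥤ E) {X : E} {A B C' : D}
    (p : X ⟶ G.obj A) (q : A ⟶ B) (r : B ⟶ C') (s : A ⟶ C') (t : X ⟶ G.obj C')
    (h2 : q ≫ r = s) (h1 : p ≫ G.map s = t) : (p ≫ G.map q) ≫ G.map r = t := by
  rw [Category.assoc, ← G.map_comp, h2, h1]

theorem aux2 {D : Type*} [Category D] {X Y : D} (t : X ⟶ Y) (t' : Y ⟶ X) (m : X ⟶ Y)
    (h : t ≫ t' = 𝟙 X) (h' : t' ≫ m = 𝟙 Y) : m = t := by
  calc m = (t ≫ t') ≫ m := by rw [h, Category.id_comp]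
    _ = t ≫ (t' ≫ m) := Category.assoc _ _ _
    _ = t := by rw [h', Category.comp_id]

/-- Right whiskering of a 2-isomorphism over `C`. -/
def whiskerRightIso {F G : ℬ ⥤ᵇ 𝒳} (α : F ≅ G) (f : 𝒳 ⥤ᵇ 𝒴) :
    BasedFunctor.comp F f ≅ BasedFunctor.comp G f where
  hom := BasedCategory.whiskerRight α.hom f
  inv := BasedCategory.whiskerRight α.inv f
  hom_inv_id := by rw [← whiskerRight_comp', α.hom_inv_id, whiskerRight_id']
  inv_hom_id := by rw [← whiskerRight_comp', α.inv_hom_id, whiskerRight_id']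

theorem liftsUniquely_comp (j : 𝒜 ⥤ᵇ ℬ) (f : 𝒳 ⥤ᵇ 𝒴) (g : 𝒴 ⥤ᵇ 𝒵)
    (hf : LiftsUniquely j f) (hg : LiftsUniquely j g) :
    LiftsUniquely j (BasedFunctor.comp f g) := by
  intro sq
  let sqg : Sq j g := { top := BasedFunctor.comp sq.top f, bot := sq.bot, iso := sq.iso }
  refine ⟨?_, ?_⟩
  · obtain ⟨⟨dg⟩, -⟩ := hg sqg
    let sqf : Sq j f := { top := sq.top, bot := dg.fn, iso := dg.isoTop }
    obtain ⟨⟨df⟩, -⟩ := hf sqf
    have h1 : ∀ a, dg.isoBot.hom.toNatTrans.app (j.obj a) ≫ g.map (dg.isoTop.hom.toNatTrans.app a) =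
        sq.iso.hom.toNatTrans.app a := fun a => app_congr dg.w a
    have h2 : ∀ a, df.isoBot.hom.toNatTrans.app (j.obj a) ≫ f.map (df.isoTop.hom.toNatTrans.app a) =
        dg.isoTop.hom.toNatTrans.app a := fun a => app_congr df.w a
    refine ⟨{ fn := df.fn, isoTop := df.isoTop,
              isoBot := dg.isoBot ≪≫ whiskerRightIso df.isoBot g, w := ?_ }⟩
    apply hom_ext'
    intro a
    change (dg.isoBot.hom.toNatTrans.app (j.obj a) ≫ g.map (df.isoBot.hom.toNatTrans.app (j.obj a))) ≫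
      g.map (f.map (df.isoTop.hom.toNatTrans.app a)) = sq.iso.hom.toNatTrans.app a
    exact aux1 g.toFunctor _ _ _ _ _ (h2 a) (h1 a)
  · intro d d'
    have hd : ∀ a, d.isoBot.hom.toNatTrans.app (j.obj a) ≫ g.map (f.map (d.isoTop.hom.toNatTrans.app a)) =
        sq.iso.hom.toNatTrans.app a := fun a => app_congr d.w a
    have hd' : ∀ a, d'.isoBot.hom.toNatTrans.app (j.obj a) ≫
        g.map (f.map (d'.isoTop.hom.toNatTrans.app a)) =
        sq.iso.hom.toNatTrans.app a := fun a => app_congr d'.w a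
    let e : sqg.Lift :=
      { fn := BasedFunctor.comp d.fn f
        isoTop := whiskerRightIso d.isoTop f
        isoBot := d.isoBot
        w := hom_ext' fun a => hd a }
    let e' : sqg.Lift :=
      { fn := BasedFunctor.comp d'.fn f
        isoTop := whiskerRightIso d'.isoTop f
        isoBot := d'.isoBot
        w := hom_ext' fun a => hd' a }
    obtain ⟨-, hug⟩ := hg sqg
    obtain ⟨uθ⟩ := hug e e'
    obtain ⟨uθ'⟩ := hug e' e
    obtain ⟨uee⟩ := hug e e
    obtain ⟨ue'e'⟩ := hug e' e'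
    let θ : e ⟶ e' := uθ.default
    let θ' : e' ⟶ e := uθ'.default
    have hθθ' : θ ≫ θ' = 𝟙 e := (uee.uniq _).trans (uee.uniq _).symm
    have hθ'θ : θ' ≫ θ = 𝟙 e' := (ue'e'.uniq _).trans (ue'e'.uniq _).symm
    have hθθ'h : θ.hom ≫ θ'.hom = 𝟙 _ := congrArg Sq.Lift.Hom.hom hθθ'
    have hθ'θh : θ'.hom ≫ θ.hom = 𝟙 _ := congrArg Sq.Lift.Hom.hom hθ'θ
    -- componentwise forms
    have cθθ' : ∀ b, θ.hom.toNatTrans.app b ≫ θ'.hom.toNatTrans.app b = 𝟙 _ :=
      fun b => app_congr hθθ'h b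
    have cθ'top : ∀ a, θ'.hom.toNatTrans.app (j.obj a) ≫ f.map (d.isoTop.hom.toNatTrans.app a) =
        f.map (d'.isoTop.hom.toNatTrans.app a) := fun a => app_congr θ'.w_top a
    have cθbot : ∀ b, d.isoBot.hom.toNatTrans.app b ≫ g.map (θ.hom.toNatTrans.app b) =
        d'.isoBot.hom.toNatTrans.app b := fun b => app_congr θ.w_bot b
    let sqf : Sq j f :=
      { top := sq.top, bot := BasedFunctor.comp d'.fn f, iso := whiskerRightIso d'.isoTop f }
    let d₁' : sqf.Lift :=
      { fn := d'.fn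
        isoTop := d'.isoTop
        isoBot := Iso.refl _
        w := hom_ext' fun a => by
          change 𝟙 _ ≫ f.map (d'.isoTop.hom.toNatTrans.app a) = f.map (d'.isoTop.hom.toNatTrans.app a)
          exact Category.id_comp _ }
    let d₁ : sqf.Lift :=
      { fn := d.fn
        isoTop := d.isoTop
        isoBot := ⟨θ'.hom, θ.hom, hθ'θh, hθθ'h⟩
        w := hom_ext' fun a => cθ'top a }
    obtain ⟨-, huf⟩ := hf sqf
    obtain ⟨uφ⟩ := huf d₁ d₁'
    let φ : d₁ ⟶ d₁' := uφ.default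
    have cφtop : ∀ a, φ.hom.toNatTrans.app (j.obj a) ≫ d'.isoTop.hom.toNatTrans.app a =
        d.isoTop.hom.toNatTrans.app a := fun a => app_congr φ.w_top a
    have cφbot : ∀ b, θ'.hom.toNatTrans.app b ≫ f.map (φ.hom.toNatTrans.app b) = 𝟙 _ :=
      fun b => app_congr φ.w_bot b
    have cφf : ∀ b, f.map (φ.hom.toNatTrans.app b) = θ.hom.toNatTrans.app b :=
      fun b => aux2 _ _ _ (cθθ' b) (cφbot b)
    refine ⟨{ default := ⟨φ.hom, hom_ext' fun a => cφtop a, hom_ext' fun b => ?_⟩, uniq := ?_ }⟩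
    · change d.isoBot.hom.toNatTrans.app b ≫ g.map (f.map (φ.hom.toNatTrans.app b)) =
        d'.isoBot.hom.toNatTrans.app b
      rw [cφf b]
      exact cθbot b
    · intro χ
      have cχtop : ∀ a, χ.hom.toNatTrans.app (j.obj a) ≫ d'.isoTop.hom.toNatTrans.app a =
          d.isoTop.hom.toNatTrans.app a := fun a => app_congr χ.w_top a
      have cχbot : ∀ b, d.isoBot.hom.toNatTrans.app b ≫ g.map (f.map (χ.hom.toNatTrans.app b)) =
          d'.isoBot.hom.toNatTrans.app b := fun b => app_congr χ.w_bot b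
      let χg : e ⟶ e' :=
        { hom := BasedCategory.whiskerRight χ.hom f
          w_top := hom_ext' fun a => by
            change f.map (χ.hom.toNatTrans.app (j.obj a)) ≫ f.map (d'.isoTop.hom.toNatTrans.app a) =
              f.map (d.isoTop.hom.toNatTrans.app a)
            exact (f.map_comp _ _).symm.trans (congrArg f.map (cχtop a))
          w_bot := hom_ext' fun b => cχbot b }
      have hχg : χg = θ := uθ.uniq χg
      have cχf : ∀ b, f.map (χ.hom.toNatTrans.app b) = θ.hom.toNatTrans.app b :=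
        fun b => app_congr (congrArg Sq.Lift.Hom.hom hχg) b
      let χf : d₁ ⟶ d₁' :=
        { hom := χ.hom
          w_top := hom_ext' fun a => cχtop a
          w_bot := hom_ext' fun b => by
            change θ'.hom.toNatTrans.app b ≫ f.map (χ.hom.toNatTrans.app b) = 𝟙 _
            rw [cχf b]
            exact app_congr hθ'θh b }
      have hχφ : χf = φ := uφ.uniq χf
      have hh : χf.hom = φ.hom := congrArg Sq.Lift.Hom.hom hχφ
      apply Sq.Lift.hom_ext
      exact hh

end Groth.Agent.Lib.LiftSqComp
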