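import Groth.Prelude.Def_LiftSq
import Groth.Prelude.Def_FibCat2
import Groth.Agent.Lib.LiftSqComp

/-!
# Lifting squares over a base category: stability under base change (helper65)

`liftsUniquely_fpFst`: if every 2-commutative square against `j` can be uniquely filled in for `f : 𝒳 ⟶ 𝒴`,
then the same holds for the first projection `FibCat.fpFst y f : 𝒴' ×_𝒴 𝒳 ⟶ 𝒴'` of the 2-fibre product over `C`.
Also: 2-morphisms into a 2-fibre product built from their two projections (`fpNatTrans`).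
-/

set_option autoImplicit false

universe v₇ u₇ v₆ u₆ v₅ u₅ v₄ u₄ v₃ u₃ v₂ u₂ v u

open CategoryTheory CategoryTheory.Limits

namespace Groth.Agent.Lib.LiftSqBaseChange

open LiftSq FibCat
open Groth.Agent.Lib.LiftSqComp

variable {C : Type u} [Category.{v} C]

section fp

variable {𝒳 : BasedCategory.{v₂, u₂} C} {𝒴 : BasedCategory.{v₃, u₃} C} {𝒮 : BasedCategory.{v₄, u₄} C}
  {F : 𝒳 ⥤ᵇ 𝒮} {G : 𝒴 ⥤ᵇ 𝒮} {𝒲 : BasedCategory.{v₅, u₅} C}

/-- Morphisms of the 2-fibre product are determined by their two components. -/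
theorem fp_hom_ext {x x' : (fp F G).obj} {g g' : x ⟶ x'} (h₁ : g.hom.fst = g'.hom.fst)
    (h₂ : g.hom.snd = g'.hom.snd) : g = g' :=
  ObjectProperty.hom_ext _ (CategoricalPullback.hom_ext h₁ h₂)

/-- 2-morphisms into the 2-fibre product are determined by their two projections (componentwise). -/
theorem fp_natTrans_ext {H H' : 𝒲 ⥤ᵇ fp F G} {γ γ' : H ⟶ H'}
    (h₁ : ∀ w, (γ.toNatTrans.app w).hom.fst = (γ'.toNatTrans.app w).hom.fst)
    (h₂ : ∀ w, (γ.toNatTrans.app w).hom.snd = (γ'.toNatTrans.app w).hom.snd) : γ = γ' :=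
  hom_ext' fun w => fp_hom_ext (h₁ w) (h₂ w)

/-- A 2-morphism into the 2-fibre product built from its two projections. -/
def fpNatTrans {H H' : 𝒲 ⥤ᵇ fp F G}
    (α : BasedFunctor.comp H (fpFst F G) ⟶ BasedFunctor.comp H' (fpFst F G))
    (β : BasedFunctor.comp H (fpSnd F G) ⟶ BasedFunctor.comp H' (fpSnd F G))
    (h : ∀ w, F.map (α.toNatTrans.app w) ≫ (H'.obj w).obj.iso.hom =
      (H.obj w).obj.iso.hom ≫ G.map (β.toNatTrans.app w)) : H ⟶ H' where
  toNatTrans :=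
    { app := fun w => ObjectProperty.homMk ⟨α.toNatTrans.app w, β.toNatTrans.app w, h w⟩
      naturality := fun w w' g => fp_hom_ext (α.toNatTrans.naturality g) (β.toNatTrans.naturality g) }
  isHomLift' := fun w => by
    rw [← BasedFunctor.isHomLift_iff (fpFst F G)]
    exact α.isHomLift' w

@[simp] theorem fpNatTrans_fst {H H' : 𝒲 ⥤ᵇ fp F G}
    (α : BasedFunctor.comp H (fpFst F G) ⟶ BasedFunctor.comp H' (fpFst F G))
    (β : BasedFunctor.comp H (fpSnd F G) ⟶ BasedFunctor.comp H' (fpSnd F G)) h (w : 𝒲.obj) :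
    ((fpNatTrans α β h).toNatTrans.app w).hom.fst = α.toNatTrans.app w := rfl

@[simp] theorem fpNatTrans_snd {H H' : 𝒲 ⥤ᵇ fp F G}
    (α : BasedFunctor.comp H (fpFst F G) ⟶ BasedFunctor.comp H' (fpFst F G))
    (β : BasedFunctor.comp H (fpSnd F G) ⟶ BasedFunctor.comp H' (fpSnd F G)) h (w : 𝒲.obj) :
    ((fpNatTrans α β h).toNatTrans.app w).hom.snd = β.toNatTrans.app w := rfl

end fp

section aux

variable {D : Type*} {E : Type*} [Category D] [Category E]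

theorem aux_inv {X Y X' Y' : E} (p : X ⟶ Y) (p' : Y ⟶ X) (q : X' ⟶ Y') (q' : Y' ⟶ X')
    (s : X ⟶ X') (t : Y ⟶ Y') (hp' : p' ≫ p = 𝟙 Y) (hq : q ≫ q' = 𝟙 X') (h : s ≫ q = p ≫ t) :
    p' ≫ s = t ≫ q' := by
  calc p' ≫ s = p' ≫ s ≫ (q ≫ q') := by rw [hq, Category.comp_id]
    _ = p' ≫ (s ≫ q) ≫ q' := by rw [Category.assoc]
    _ = (p' ≫ p) ≫ t ≫ q' := by rw [h, Category.assoc, Category.assoc]
    _ = t ≫ q' := by rw [hp', Category.id_comp]

theorem map_comp_eq_id (Y : D ⥤ E) {A B : D} (p : A ⟶ B) (q : B ⟶ A) (h : p ≫ q = 𝟙 A) :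
    Y.map p ≫ Y.map q = 𝟙 (Y.obj A) := by rw [← Y.map_comp, h, Y.map_id]

theorem aux3 (Y : D ⥤ E) {A B B' : D} {Z Z' : E} (p : A ⟶ B) (q : B ⟶ B') (s : A ⟶ B')
    (k : Y.obj B ⟶ Z) (r : Z ⟶ Z') (k' : Y.obj B' ⟶ Z') (hq : Y.map q ≫ k' = k ≫ r) (hs : p ≫ q = s) :
    (Y.map p ≫ k) ≫ r = Y.map s ≫ k' := by
  rw [← hs, Y.map_comp, Category.assoc, Category.assoc, hq]

theorem aux4 (Y : D ⥤ E) {A B B' : D} {Z Z' : E} (p : A ⟶ B) (pi : B ⟶ A) (p2 : A ⟶ B')
    (k : Y.obj B ⟶ Z) (r : Z ⟶ Z') (k' : Y.obj B' ⟶ Z') (hpi : pi ≫ p = 𝟙 B)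
    (h : (Y.map p ≫ k) ≫ r = Y.map p2 ≫ k') : Y.map (pi ≫ p2) ≫ k' = k ≫ r := by
  rw [Y.map_comp, Category.assoc, ← h, ← Category.assoc, ← Category.assoc, ← Y.map_comp, hpi, Y.map_id,
    Category.id_comp]

theorem aux5 {A B B' T : E} (p : A ⟶ B) (pi : B ⟶ A) (p2 : A ⟶ B') (t : B ⟶ T) (t' : B' ⟶ T) (s : A ⟶ T)
    (hpi : pi ≫ p = 𝟙 B) (h : p ≫ t = s) (h' : p2 ≫ t' = s) : (pi ≫ p2) ≫ t' = t := by
  rw [Category.assoc, h', ← h, ← Category.assoc, hpi, Category.id_comp]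

theorem aux6 {A B B' : E} (p : A ⟶ B) (pi : B ⟶ A) (p2 : A ⟶ B') (hp : p ≫ pi = 𝟙 A) :
    p ≫ (pi ≫ p2) = p2 := by
  rw [← Category.assoc, hp, Category.id_comp]

theorem aux7 {A B B' : E} (p : A ⟶ B) (pi : B ⟶ A) (p2 : A ⟶ B') (c : B ⟶ B') (hpi : pi ≫ p = 𝟙 B)
    (h : p ≫ c = p2) : c = pi ≫ p2 := by
  rw [← h, ← Category.assoc, hpi, Category.id_comp]

end aux

section main

variable {𝒜 : BasedCategory.{v₂, u₂} C} {ℬ : BasedCategory.{v₃, u₃} C}
  {𝒳 : BasedCategory.{v₄, u₄} C} {𝒴 : BasedCategory.{v₅, u₅} C} {𝒴' : BasedCategory.{v₆, u₆} C}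

/-- Left whiskering of a 2-isomorphism over `C`. -/
def whiskerLeftIso (F : 𝒜 ⥤ᵇ ℬ) {G H : ℬ ⥤ᵇ 𝒳} (α : G ≅ H) :
    BasedFunctor.comp F G ≅ BasedFunctor.comp F H where
  hom := BasedCategory.whiskerLeft F α.hom
  inv := BasedCategory.whiskerLeft F α.inv
  hom_inv_id := by rw [← whiskerLeft_comp', α.hom_inv_id, whiskerLeft_id']
  inv_hom_id := by rw [← whiskerLeft_comp', α.inv_hom_id, whiskerLeft_id']

theorem iso_hom_inv_app {F G : 𝒜 ⥤ᵇ ℬ} (α : F ≅ G) (a : 𝒜.obj) :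
    α.hom.toNatTrans.app a ≫ α.inv.toNatTrans.app a = 𝟙 _ := app_congr α.hom_inv_id a

theorem iso_inv_hom_app {F G : 𝒜 ⥤ᵇ ℬ} (α : F ≅ G) (a : 𝒜.obj) :
    α.inv.toNatTrans.app a ≫ α.hom.toNatTrans.app a = 𝟙 _ := app_congr α.inv_hom_id a

theorem liftsUniquely_fpFst (j : 𝒜 ⥤ᵇ ℬ) (f : 𝒳 ⥤ᵇ 𝒴) (y : 𝒴' ⥤ᵇ 𝒴) (hf : LiftsUniquely j f) :
    LiftsUniquely j (fpFst y f) := by
  intro sq
  let sqf : Sq j f :=
    { top := BasedFunctor.comp sq.top (fpSnd y f)
      bot := BasedFunctor.comp sq.bot y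
      iso := whiskerRightIso sq.iso y ≪≫ whiskerLeftIso sq.top (fpIso y f) }
  refine ⟨?_, ?_⟩
  · obtain ⟨⟨df⟩, -⟩ := hf sqf
    have hw : ∀ a, df.isoBot.hom.toNatTrans.app (j.obj a) ≫ f.map (df.isoTop.hom.toNatTrans.app a) =
        y.map (sq.iso.hom.toNatTrans.app a) ≫ (sq.top.obj a).obj.iso.hom := fun a => app_congr df.w a
    let fn : ℬ ⥤ᵇ fp y f := fpLift sq.bot df.fn df.isoBot
    let isoTop : BasedFunctor.comp j fn ≅ sq.top :=
      { hom := fpNatTrans (H := BasedFunctor.comp j fn) (H' := sq.top) sq.iso.hom df.isoTop.hom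
          (fun a => (hw a).symm)
        inv := fpNatTrans (H := sq.top) (H' := BasedFunctor.comp j fn) sq.iso.inv df.isoTop.inv
          (fun a => aux_inv _ _ _ _ _ _
            (map_comp_eq_id y.toFunctor _ _ (iso_inv_hom_app sq.iso a))
            (map_comp_eq_id f.toFunctor _ _ (iso_hom_inv_app df.isoTop a)) (hw a))
        hom_inv_id := fp_natTrans_ext (fun a => iso_hom_inv_app sq.iso a)
          (fun a => iso_hom_inv_app df.isoTop a)
        inv_hom_id := fp_natTrans_ext (fun a => iso_inv_hom_app sq.iso a)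
          (fun a => iso_inv_hom_app df.isoTop a) }
    refine ⟨{ fn := fn, isoTop := isoTop, isoBot := Iso.refl _, w := ?_ }⟩
    apply hom_ext'
    intro a
    exact Category.id_comp _
  · intro d d'
    have hd : ∀ a, d.isoBot.hom.toNatTrans.app (j.obj a) ≫ (d.isoTop.hom.toNatTrans.app a).hom.fst =
        sq.iso.hom.toNatTrans.app a := fun a => app_congr d.w a
    have hd' : ∀ a, d'.isoBot.hom.toNatTrans.app (j.obj a) ≫ (d'.isoTop.hom.toNatTrans.app a).hom.fst =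
        sq.iso.hom.toNatTrans.app a := fun a => app_congr d'.w a
    let e : sqf.Lift :=
      { fn := BasedFunctor.comp d.fn (fpSnd y f)
        isoTop := whiskerRightIso d.isoTop (fpSnd y f)
        isoBot := whiskerRightIso d.isoBot y ≪≫ whiskerLeftIso d.fn (fpIso y f)
        w := hom_ext' fun a => aux3 y.toFunctor _ _ _ _ _ _ (d.isoTop.hom.toNatTrans.app a).hom.w (hd a) }
    let e' : sqf.Lift :=
      { fn := BasedFunctor.comp d'.fn (fpSnd y f)
        isoTop := whiskerRightIso d'.isoTop (fpSnd y f)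
        isoBot := whiskerRightIso d'.isoBot y ≪≫ whiskerLeftIso d'.fn (fpIso y f)
        w := hom_ext' fun a => aux3 y.toFunctor _ _ _ _ _ _ (d'.isoTop.hom.toNatTrans.app a).hom.w (hd' a) }
    obtain ⟨-, huf⟩ := hf sqf
    obtain ⟨uθ⟩ := huf e e'
    let θ : e ⟶ e' := uθ.default
    have cθtop : ∀ a, θ.hom.toNatTrans.app (j.obj a) ≫ (d'.isoTop.hom.toNatTrans.app a).hom.snd =
        (d.isoTop.hom.toNatTrans.app a).hom.snd := fun a => app_congr θ.w_top a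
    have cθbot : ∀ b, (y.map (d.isoBot.hom.toNatTrans.app b) ≫ (d.fn.obj b).obj.iso.hom) ≫
        f.map (θ.hom.toNatTrans.app b) =
        y.map (d'.isoBot.hom.toNatTrans.app b) ≫ (d'.fn.obj b).obj.iso.hom := fun b => app_congr θ.w_bot b
    let φh : d.fn ⟶ d'.fn :=
      fpNatTrans (H := d.fn) (H' := d'.fn) (d.isoBot.inv ≫ d'.isoBot.hom) θ.hom
        (fun b => aux4 y.toFunctor _ _ _ _ _ _ (iso_inv_hom_app d.isoBot b) (cθbot b))
    refine ⟨{ default := ⟨φh, ?_, ?_⟩, uniq := ?_ }⟩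
    · exact fp_natTrans_ext
        (fun a => aux5 _ _ _ _ _ _ (iso_inv_hom_app d.isoBot (j.obj a)) (hd a) (hd' a))
        (fun a => cθtop a)
    · exact hom_ext' fun b => aux6 _ _ _ (iso_hom_inv_app d.isoBot b)
    · intro χ
      have cχtop : ∀ a, (χ.hom.toNatTrans.app (j.obj a)) ≫ (d'.isoTop.hom.toNatTrans.app a) =
          (d.isoTop.hom.toNatTrans.app a) := fun a => app_congr χ.w_top a
      have cχbot : ∀ b, d.isoBot.hom.toNatTrans.app b ≫ (χ.hom.toNatTrans.app b).hom.fst =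
          d'.isoBot.hom.toNatTrans.app b := fun b => app_congr χ.w_bot b
      let χs : e ⟶ e' :=
        { hom := BasedCategory.whiskerRight χ.hom (fpSnd y f)
          w_top := hom_ext' fun a => congrArg (fun m => m.hom.snd) (cχtop a)
          w_bot := hom_ext' fun b =>
            aux3 y.toFunctor _ _ _ _ _ _ (χ.hom.toNatTrans.app b).hom.w (cχbot b) }
      have hχs : χs = θ := uθ.uniq χs
      have cχsnd : ∀ b, (χ.hom.toNatTrans.app b).hom.snd = θ.hom.toNatTrans.app b :=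
        fun b => app_congr (congrArg Sq.Lift.Hom.hom hχs) b
      apply Sq.Lift.hom_ext
      exact fp_natTrans_ext
        (fun b => aux7 _ _ _ _ (iso_inv_hom_app d.isoBot b) (cχbot b))
        (fun b => cχsnd b)

end main

end Groth.Agent.Lib.LiftSqBaseChange
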