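import Groth.Agent.Lib.AlgStCancel
import Groth.Agent.Lib.AlgStDiag2
import Groth.Agent.Lib.AlgStBoot
import Groth.Agent.S12765
import Groth.Agent.S12792

/-!
# 2-fibre products of algebraic stacks (helper64)

* `relSec g w`, `relSecIso g w` : a `𝒰`-point `w` of `𝒴 ×_𝒵 𝒴` factors through
  `relProdMap (w ≫ pr₁) (w ≫ pr₂) g : 𝒰 ×_𝒵 𝒰 ⟶ 𝒴 ×_𝒵 𝒴`.
* `repByAlgSp1_diag_of_forall` : the relative diagonal of `g : 𝒴 ⟶ 𝒵` is representable by algebraic
  spaces when all maps from schemes to `𝒴` and to `𝒵` are.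
* `forall_repByAlgSp1_fp` : all maps from schemes to `𝒳 ×_𝒵 𝒴` are representable by algebraic spaces.
* `isAlgStack_fp` (= S12763).
-/

set_option autoImplicit false
set_option linter.style.haveILetI false
set_option backward.isDefEq.respectTransparency false
set_option backward.isDefEq.respectTransparency.types false

namespace Groth.Agent.Lib.AlgStFpStack

open CategoryTheory Functor Opposite Limits AlgebraicGeometry Groth.Agent.Lib.FibGrpd
  Groth.Agent.Lib.FpEquiv Groth.Agent.Lib.EquivOver Groth.Agent.Lib.AlgStFp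
  Groth.Agent.Lib.AlgStRep Groth.Agent.Lib.PshFp Groth.Agent.Lib.AlgStSpTest
  Groth.Agent.Lib.FpBaseChange Groth.Agent.Lib.FpRelDiag Groth.Agent.Lib.AlgStEquiv

universe v₅ u₅ v₄ u₄ v₃ u₃ v₂ u₂ v u

section Sec

variable {C : Type u} [Category.{v} C] {𝒰 : BasedCategory.{v₂, u₂} C}
  {𝒴 : BasedCategory.{v₃, u₃} C} {𝒵 : BasedCategory.{v₄, u₄} C} (g : 𝒴 ⥤ᵇ 𝒵)
  (w : 𝒰 ⥤ᵇ FibCat.fp g g)

/-- First component of a point of `𝒴 ×_𝒵 𝒴`. -/
abbrev pt₁ : 𝒰 ⥤ᵇ 𝒴 := BasedFunctor.comp w (FibCat.fpFst g g)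

/-- Second component of a point of `𝒴 ×_𝒵 𝒴`. -/
abbrev pt₂ : 𝒰 ⥤ᵇ 𝒴 := BasedFunctor.comp w (FibCat.fpSnd g g)

/-- The 2-isomorphism `g ∘ pt₁ ≅ g ∘ pt₂`. -/
def ptIso : BasedFunctor.comp (BasedFunctor.id 𝒰) (BasedFunctor.comp (pt₁ g w) g) ≅
    BasedFunctor.comp (BasedFunctor.id 𝒰) (BasedFunctor.comp (pt₂ g w) g) :=
  idCompIso _ ≪≫ whiskerLeftIso w (FibCat.fpIso g g) ≪≫ (idCompIso _).symm

/-- The section of `𝒰 ×_𝒵 𝒰` determined by a `𝒰`-point of `𝒴 ×_𝒵 𝒴`. -/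
def relSec : 𝒰 ⥤ᵇ FibCat.fp (BasedFunctor.comp (pt₁ g w) g) (BasedFunctor.comp (pt₂ g w) g) :=
  FibCat.fpLift (BasedFunctor.id 𝒰) (BasedFunctor.id 𝒰) (ptIso g w)

theorem relSec_obj_fst (t : 𝒰.obj) : ((relSec g w).obj t).obj.fst = t := rfl

theorem relSec_obj_snd (t : 𝒰.obj) : ((relSec g w).obj t).obj.snd = t := rfl

theorem relSec_obj_iso_hom (t : 𝒰.obj) :
    ((relSec g w).obj t).obj.iso.hom = (w.obj t).obj.iso.hom := by
  show (ptIso g w).hom.toNatTrans.app t = _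
  simp [ptIso, idCompIso, whiskerLeftIso, appIso, FibCat.fpIso]
  rfl

/-- The component of `relSec ⋙ relProdMap ≅ w`. -/
def relSecObjIso (t : 𝒰.obj) :
    (relProdMap (pt₁ g w) (pt₂ g w) g).obj ((relSec g w).obj t) ≅ w.obj t :=
  fpIsoMk (z := (relProdMap (pt₁ g w) (pt₂ g w) g).obj ((relSec g w).obj t)) (z' := w.obj t)
    (Iso.refl (w.obj t).obj.fst) (Iso.refl (w.obj t).obj.snd) (by
      rw [relProdMap_obj_iso_hom, relSec_obj_iso_hom]
      have e1 : g.map (Iso.refl (w.obj t).obj.fst).hom = 𝟙 _ := g.toFunctor.map_id _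
      have e2 : g.map (Iso.refl (w.obj t).obj.snd).hom = 𝟙 _ := g.toFunctor.map_id _
      rw [e1, e2]
      exact (Category.id_comp _).trans (Category.comp_id _).symm)

/-- `relSec ⋙ relProdMap ≅ w`. -/
def relSecIso : BasedFunctor.comp (relSec g w) (relProdMap (pt₁ g w) (pt₂ g w) g) ≅ w :=
  BasedNatIso.mkNatIso
    (NatIso.ofComponents (fun t => relSecObjIso g w t) (fun {s t} m => by
      refine fp_hom_ext ?_ ?_
      · show (w.map m).hom.fst ≫ 𝟙 (w.obj t).obj.fst = 𝟙 (w.obj s).obj.fst ≫ (w.map m).hom.fst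
        rw [Category.comp_id, Category.id_comp]
      · show (w.map m).hom.snd ≫ 𝟙 (w.obj t).obj.snd = 𝟙 (w.obj s).obj.snd ≫ (w.map m).hom.snd
        rw [Category.comp_id, Category.id_comp]))
    (fun t => by
      show (FibCat.fp g g).p.IsHomLift (𝟙 (𝒰.p.obj t)) (relSecObjIso g w t).hom
      rw [fp_isHomLift_iff]
      exact IsHomLift.id (w.w_obj t))

end Sec

section AlgSt

variable {S : Scheme.{u}}

/-- A category representable by an algebraic space is equivalent to the category of a sheaf with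
representable diagonal. -/
theorem exists_equiv_ofSp_of_repByAlgSp {𝒜 : BasedCategory.{v₂, u₂} (Over S)}
    (h : AlgSt.RepByAlgSp 𝒜) :
    ∃ (H : AlgSp.Sp S) (c : 𝒜 ⥤ᵇ AlgSt.ofSp H),
      FibCat.IsEquivOver c ∧ AlgSp.Representable (Limits.diag H) := by
  obtain ⟨F, e, he⟩ := h
  obtain ⟨c, hc⟩ := isEquivOver_inv he
  exact ⟨F.obj, c, hc, F.property.diag⟩

/-- The relative diagonal of `g : 𝒴 ⟶ 𝒵` is representable by algebraic spaces when all maps from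
schemes to `𝒴` and to `𝒵` are. -/
theorem repByAlgSp1_diag_of_forall {𝒴 𝒵 : AlgSt.Cat S} (g : 𝒴 ⥤ᵇ 𝒵)
    (h𝒴 : ∀ (U : Over S) (y : FibCat.overCat U ⥤ᵇ 𝒴), AlgSt.RepByAlgSp1 y)
    (h𝒵 : ∀ (U : Over S) (z : FibCat.overCat U ⥤ᵇ 𝒵), AlgSt.RepByAlgSp1 z) :
    AlgSt.RepByAlgSp1 (FibCat.diag g) := by
  intro U w
  have hA : AlgSt.RepByAlgSp
      (FibCat.fp (BasedFunctor.comp (pt₁ g w) g) (BasedFunctor.comp (pt₂ g w) g)) :=
    h𝒵 U (BasedFunctor.comp (pt₂ g w) g) U (BasedFunctor.comp (pt₁ g w) g)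
  have hB : AlgSt.RepByAlgSp (FibCat.fp (pt₁ g w) (pt₂ g w)) := h𝒴 U (pt₂ g w) U (pt₁ g w)
  have e1 : EquivOver
      (FibCat.fp (BasedFunctor.comp (relSec g w) (relProdMap (pt₁ g w) (pt₂ g w) g))
        (FibCat.diag g)) (FibCat.fp w (FibCat.diag g)) :=
    fp_congr_left (relSecIso g w) _
  have e2 : EquivOver
      (FibCat.fp (relSec g w) (FibCat.fpFst (relProdMap (pt₁ g w) (pt₂ g w) g) (FibCat.diag g)))
      (FibCat.fp (BasedFunctor.comp (relSec g w) (relProdMap (pt₁ g w) (pt₂ g w) g))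
        (FibCat.diag g)) :=
    fp_pasteLeft (relSec g w) (relProdMap (pt₁ g w) (pt₂ g w) g) (FibCat.diag g)
  have e3 : EquivOver
      (FibCat.fp (relSec g w) (BasedFunctor.comp (relDiagEquiv (pt₁ g w) (pt₂ g w) g)
        (FibCat.fpFst (relProdMap (pt₁ g w) (pt₂ g w) g) (FibCat.diag g))))
      (FibCat.fp (relSec g w)
        (FibCat.fpFst (relProdMap (pt₁ g w) (pt₂ g w) g) (FibCat.diag g))) :=
    fp_precomp_right (relDiagEquiv (pt₁ g w) (pt₂ g w) g)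
      (relDiagEquiv_isEquivOver (pt₁ g w) (pt₂ g w) g) (relSec g w) _
  have h4 : AlgSt.RepByAlgSp
      (FibCat.fp (relSec g w) (BasedFunctor.comp (relDiagEquiv (pt₁ g w) (pt₂ g w) g)
        (FibCat.fpFst (relProdMap (pt₁ g w) (pt₂ g w) g) (FibCat.diag g)))) :=
    repByAlgSp_fp (repByAlgSp_overCat U) hB (exists_equiv_ofSp_of_repByAlgSp hA) _ _
  exact repByAlgSp_of_equivOver (e3.trans (e2.trans e1)) h4

/-- All maps from schemes to a 2-fibre product `𝒳 ×_𝒵 𝒴` are representable by algebraic spaces if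
this holds for `𝒳`, `𝒴` and `𝒵`. -/
theorem forall_repByAlgSp1_fp {𝒳 𝒴 𝒵 : AlgSt.Cat S} [FibCat.IsFibGrpd 𝒳.p] [FibCat.IsFibGrpd 𝒴.p]
    [FibCat.IsFibGrpd 𝒵.p] (f : 𝒳 ⥤ᵇ 𝒵) (g : 𝒴 ⥤ᵇ 𝒵)
    (h𝒳 : ∀ (U : Over S) (x : FibCat.overCat U ⥤ᵇ 𝒳), AlgSt.RepByAlgSp1 x)
    (h𝒴 : ∀ (U : Over S) (y : FibCat.overCat U ⥤ᵇ 𝒴), AlgSt.RepByAlgSp1 y)
    (h𝒵 : ∀ (U : Over S) (z : FibCat.overCat U ⥤ᵇ 𝒵), AlgSt.RepByAlgSp1 z)
    (U : Over S) (x : FibCat.overCat U ⥤ᵇ FibCat.fp f g) : AlgSt.RepByAlgSp1 x := by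
  intro U' x'
  haveI : FibCat.IsFibGrpd (FibCat.fp f g).p := fp_isFibGrpd f g
  haveI : FibCat.IsFibGrpd (FibCat.fp (FibCat.fpFst f g) (FibCat.fpFst f g)).p :=
    fp_isFibGrpd (FibCat.fpFst f g) (FibCat.fpFst f g)
  have hΔg : AlgSt.RepByAlgSp1 (FibCat.diag g) := repByAlgSp1_diag_of_forall g h𝒴 h𝒵
  have hΔj : AlgSt.RepByAlgSp1 (FibCat.diag (FibCat.fpFst f g)) := by
    rw [repByAlgSp1_iff_top] at hΔg ⊢
    exact Groth.Agent.Lib.AlgStDiag.repByAlgSpWith_diag_fpFst ⊤ g f hΔg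
  have hZ : AlgSt.RepByAlgSp (FibCat.fp (BasedFunctor.comp x' (FibCat.fpFst f g))
      (BasedFunctor.comp x (FibCat.fpFst f g))) :=
    h𝒳 U (BasedFunctor.comp x (FibCat.fpFst f g)) U' (BasedFunctor.comp x' (FibCat.fpFst f g))
  have h1 : AlgSt.RepByAlgSp (FibCat.fp (relProdMap x' x (FibCat.fpFst f g))
      (FibCat.diag (FibCat.fpFst f g))) :=
    Groth.Agent.Lib.AlgStBoot.repByAlgSp_fp_of_repByAlgSp1 (FibCat.diag (FibCat.fpFst f g))
      (relProdMap x' x (FibCat.fpFst f g)) hΔj hZ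
  exact repByAlgSp_of_equivOver
    (EquivOver.of (relDiagEquiv_isEquivOver x' x (FibCat.fpFst f g))).symm h1

/-- A stack is a prestack. -/
theorem isPrestack_of_isStack {C : Type u} [Category.{v} C] {J : GrothendieckTopology C}
    {𝒳 : BasedCategory.{v₂, u₂} C} (h : Stk.IsStack J 𝒳) : Stk.IsPrestack J 𝒳 := by
  refine ⟨h.1, fun U R hR => ?_⟩
  haveI : (Stk.resSieve R 𝒳).IsEquivalence := h.2 R hR
  exact ⟨inferInstance, inferInstance⟩

/-- The 2-fibre product of algebraic stacks over a stack with representable diagonal is an algebraic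
stack (= S12763). -/
theorem isAlgStack_fp {𝒳 𝒴 𝒵 : AlgSt.Cat S}
    (h𝒵 : Stk.IsStack (QuotSh.J Scheme.fppfPrecoverage S) 𝒵)
    (hΔ : AlgSt.RepByAlgSp1 (FibCat.diag (FibCat.toSelf 𝒵)))
    (h𝒳 : AlgSt.IsAlgStack Scheme.fppfPrecoverage 𝒳)
    (h𝒴 : AlgSt.IsAlgStack Scheme.fppfPrecoverage 𝒴) (f : 𝒳 ⥤ᵇ 𝒵) (g : 𝒴 ⥤ᵇ 𝒵) :
    AlgSt.IsAlgStack Scheme.fppfPrecoverage (FibCat.fp f g) := by
  haveI : FibCat.IsFibGrpd 𝒳.p := h𝒳.isStack.1
  haveI : FibCat.IsFibGrpd 𝒴.p := h𝒴.isStack.1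
  haveI : FibCat.IsFibGrpd 𝒵.p := h𝒵.1
  have hst : Stk.IsStack (QuotSh.J Scheme.fppfPrecoverage S) (FibCat.fp f g) :=
    Groth.Agent.S12792.result _ f g h𝒳.isStack h𝒴.isStack (isPrestack_of_isStack h𝒵)
  have h1 := (Groth.Agent.S12765.result h𝒳.isStack.1).1 h𝒳.diag
  have h2 := (Groth.Agent.S12765.result h𝒴.isStack.1).1 h𝒴.diag
  have h3 := (Groth.Agent.S12765.result h𝒵.1).1 hΔ
  refine ⟨hst, ?_, ?_⟩
  · exact (Groth.Agent.S12765.result hst.1).2 (forall_repByAlgSp1_fp f g h1 h2 h3)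
  · exact Groth.Agent.Lib.AlgStAtlas.hasAtlas_fp _ Groth.Agent.Lib.AlgStAtlas.atlasClass_locP_smooth
      h3 f g h𝒳.atlas h𝒴.atlas

end AlgSt

section SelfOver

open Groth.Agent.Lib.SelfProd

variable {C : Type u} [Category.{v} C] {𝒜 : BasedCategory.{v₂, u₂} C}

/-- 2-morphisms between functors over `C` to `C` itself are unique. -/
theorem toSelf_hom_ext {P Q : 𝒜 ⥤ᵇ FibCat.selfOver C} (α β : P ⟶ Q) : α = β := by
  apply BasedNatTrans.homCategory.ext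
  ext x
  have h1 : (FibCat.selfOver C).p.IsHomLift (𝟙 (𝒜.p.obj x)) (α.toNatTrans.app x) :=
    α.isHomLift' x
  have h2 : (FibCat.selfOver C).p.IsHomLift (𝟙 (𝒜.p.obj x)) (β.toNatTrans.app x) :=
    β.isHomLift' x
  have e1 := IsHomLift.fac' (FibCat.selfOver C).p (𝟙 (𝒜.p.obj x)) (α.toNatTrans.app x)
  have e2 := IsHomLift.fac' (FibCat.selfOver C).p (𝟙 (𝒜.p.obj x)) (β.toNatTrans.app x)
  exact e1.trans e2.symm

/-- `C` over itself is a stack in groupoids for every topology. -/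
theorem isStack_selfOver (J : GrothendieckTopology C) : Stk.IsStack J (FibCat.selfOver C) := by
  refine ⟨toSelf_isFibGrpd, fun U R _ => ?_⟩
  haveI : (Stk.resSieve R (FibCat.selfOver C)).Faithful :=
    ⟨fun {P Q} {α β} _ => toSelf_hom_ext α β⟩
  haveI : (Stk.resSieve R (FibCat.selfOver C)).Full :=
    ⟨fun {P Q} _ => ⟨(toSelfIso P Q).hom, toSelf_hom_ext _ _⟩⟩
  haveI : (Stk.resSieve R (FibCat.selfOver C)).EssSurj :=
    ⟨fun Q => ⟨FibCat.toSelf (FibCat.overCat U), ⟨toSelfIso _ _⟩⟩⟩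
  exact {}

end SelfOver

section Product

open Groth.Agent.Lib.SelfProd

variable {S : Scheme.{u}}

/-- Every map from a scheme to the base `(Sch/S)` is representable by algebraic spaces. -/
theorem repByAlgSp1_to_selfOver (U : Over S) (x : FibCat.overCat U ⥤ᵇ FibCat.selfOver (Over S)) :
    AlgSt.RepByAlgSp1 x := by
  intro V y
  have e1 : EquivOver (FibCat.fp y x) (FibCat.fp (FibCat.toSelf (FibCat.overCat V)) x) :=
    fp_congr_left (toSelfIso _ _) x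
  have e2 : EquivOver (FibCat.fp (FibCat.toSelf (FibCat.overCat V)) x)
      (FibCat.fp (FibCat.toSelf (FibCat.overCat V)) (FibCat.toSelf (FibCat.overCat U))) :=
    fp_congr_right _ (toSelfIso _ _)
  have e3 : EquivOver (FibCat.overCat (V ⨯ U))
      (FibCat.fp (FibCat.toSelf (FibCat.overCat V)) (FibCat.toSelf (FibCat.overCat U))) :=
    ⟨prodSlice V U, prodSlice_isEquivOver V U⟩
  exact repByAlgSp_of_equivOver (e3.trans (e2.symm.trans e1.symm)) (repByAlgSp_overCat (V ⨯ U))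

/-- The product of two algebraic stacks is an algebraic stack (= S12764). -/
theorem isAlgStack_prod {𝒳 𝒴 : AlgSt.Cat S}
    (h𝒳 : AlgSt.IsAlgStack Scheme.fppfPrecoverage 𝒳)
    (h𝒴 : AlgSt.IsAlgStack Scheme.fppfPrecoverage 𝒴) :
    AlgSt.IsAlgStack Scheme.fppfPrecoverage (FibCat.fp (FibCat.toSelf 𝒳) (FibCat.toSelf 𝒴)) :=
  isAlgStack_fp (isStack_selfOver _)
    ((Groth.Agent.S12765.result toSelf_isFibGrpd).2 repByAlgSp1_to_selfOver) h𝒳 h𝒴 _ _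

end Product

end Groth.Agent.Lib.AlgStFpStack
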