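import Groth.Agent.Lib.AlgStDiagProper
import Groth.Agent.Lib.AlgStCancel
import Groth.Agent.Lib.AlgStFpStack
import Groth.Agent.Lib.H69AlgSpMor

/-!
# Cancellation for diagonals: if `f ⋙ g` is DM / quasi-DM / separated / quasi-separated, so is `f`
(helper36)
-/

set_option autoImplicit false
set_option linter.style.haveILetI false

namespace Groth.Agent.Lib.AlgStDiagCancel

open CategoryTheory CategoryTheory.Limits AlgebraicGeometry Opposite Groth.Agent.Lib.FibGrpd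
  Groth.Agent.Lib.FpEquiv Groth.Agent.Lib.AlgStSpTest Groth.Agent.Lib.AlgStDiagQS
  Groth.Agent.Lib.AlgStDiagRep2 Groth.Agent.Lib.AlgStDiag3 Groth.Agent.Lib.AlgStDiagRep
  Groth.Agent.Lib.AlgStDiagLocP Groth.Agent.Lib.AlgStDiagDict Groth.Agent.Lib.AlgSpBasic

universe u

variable {S : Scheme.{u}} {𝒳 𝒴 𝒵 : AlgSt.Cat S}

/-- Cancellation for diagonals, general form. -/
theorem repByAlgSpWith_diag_of_comp [FibCat.IsFibGrpd 𝒳.p] [FibCat.IsFibGrpd 𝒴.p]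
    [FibCat.IsFibGrpd 𝒵.p]
    (P : MorphismProperty (AlgSp.Sp S)) (hPi : IsoInv P) (hPl : SchemeLocal P)
    (hPc : ∀ ⦃X Y Z : AlgSp.Sp S⦄, AlgSp.IsAlgSpace X → AlgSp.IsAlgSpace Y → AlgSp.IsAlgSpace Z →
      ∀ (a : X ⟶ Y) (b : Y ⟶ Z), P a → P b → P (a ≫ b))
    (f : 𝒳 ⥤ᵇ 𝒴) (g : 𝒴 ⥤ᵇ 𝒵)
    (hgf : AlgSt.RepByAlgSpWith P (FibCat.diag (BasedFunctor.comp f g)))
    (hι : AlgSt.RepByAlgSpWith P (FibCat.diag (magIota f g))) :
    AlgSt.RepByAlgSpWith P (FibCat.diag f) := by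
  haveI : FibCat.IsFibGrpd (FibCat.fp f f).p := fp_isFibGrpd f f
  haveI : FibCat.IsFibGrpd (FibCat.fp (BasedFunctor.comp f g) (BasedFunctor.comp f g)).p :=
    fp_isFibGrpd _ _
  have h1 : AlgSt.RepByAlgSpWith P (BasedFunctor.comp (FibCat.diag f) (magIota f g)) :=
    (repByAlgSpWith_congr P (diagCompIso f g)).2 hgf
  exact Groth.Agent.Lib.AlgStCancel.repByAlgSpWith_of_comp_of_diag P hPi hPl hPc (FibCat.diag f)
    (magIota f g) h1 hι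

/-- `ι : 𝒳 ×_𝒴 𝒳 ⟶ 𝒳 ×_𝒵 𝒳` is representable by algebraic spaces when the diagonal of `g` is. -/
theorem repByAlgSp1_magIota (f : 𝒳 ⥤ᵇ 𝒴) (g : 𝒴 ⥤ᵇ 𝒵) (hg : AlgSt.RepByAlgSp1 (FibCat.diag g)) :
    AlgSt.RepByAlgSp1 (magIota f g) := by
  rw [Groth.Agent.Lib.AlgStEquiv.repByAlgSp1_iff_top] at hg ⊢
  exact repByAlgSpWith_magIota ⊤ f g hg

/-- The diagonal of a morphism of algebraic stacks is representable by algebraic spaces. -/
theorem repByAlgSp1_diag_of_isAlgStack (h𝒴 : AlgSt.IsAlgStack Scheme.fppfPrecoverage 𝒴)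
    (h𝒵 : AlgSt.IsAlgStack Scheme.fppfPrecoverage 𝒵) (g : 𝒴 ⥤ᵇ 𝒵) :
    AlgSt.RepByAlgSp1 (FibCat.diag g) :=
  Groth.Agent.Lib.AlgStFpStack.repByAlgSp1_diag_of_forall g
    ((Groth.Agent.S12765.result h𝒴.isStack.1).1 h𝒴.diag)
    ((Groth.Agent.S12765.result h𝒵.isStack.1).1 h𝒵.diag)

/-- The relative diagonal of a morphism from an algebraic space to a representable sheaf is
locally quasi-finite. -/
theorem locP_lqf_diagonal {F : AlgSp.Sp S} {T : Over S} (hF : AlgSp.IsAlgSpace F)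
    (α : F ⟶ (AlgSp.yon S).obj T) :
    AlgSp.LocP (@LocallyQuasiFinite ⊓ @LocallyOfFiniteType) (pullback.diagonal α) := by
  have h := (Groth.Agent.Lib.H69AlgSpMor.diagonal_hom_properties (X := ⟨F, hF⟩)
    (Y := ⟨(AlgSp.yon S).obj T, AlgSp.IsAlgSpace.yon_obj T⟩) (ObjectProperty.homMk α)).2.2.2.2
  refine locP_of_repWith _ (fun _ _ _ l w hl hw => ?_)
    (fun U a => hF.representable_from_yon a) h
  exact Groth.Agent.Lib.AlgSpLocP.etLocalClass_lqf_lft.pre l w hl hw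

/-- A functor representable by algebraic spaces is quasi-DM. -/
theorem isQuasiDMMor_of_repByAlgSp1 {𝒜 ℬ : AlgSt.Cat S} (f : 𝒜 ⥤ᵇ ℬ)
    (hf : AlgSt.RepByAlgSp1 f) : AlgSt.IsQuasiDMMor f :=
  repByAlgSpWith_diag_of_repByAlgSp1 _
    (baseChangeStable_locP Groth.Agent.Lib.AlgSpLocP.etLocalClass_lqf_lft)
    (fun _ _ hF α => locP_lqf_diagonal hF α) f hf

section Stacks

variable (h𝒳 : AlgSt.IsAlgStack Scheme.fppfPrecoverage 𝒳)
  (h𝒴 : AlgSt.IsAlgStack Scheme.fppfPrecoverage 𝒴)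
  (h𝒵 : AlgSt.IsAlgStack Scheme.fppfPrecoverage 𝒵) (f : 𝒳 ⥤ᵇ 𝒴) (g : 𝒴 ⥤ᵇ 𝒵)

include h𝒳 h𝒴 h𝒵

theorem isDMMor_of_comp (h : AlgSt.IsDMMor (BasedFunctor.comp f g)) : AlgSt.IsDMMor f := by
  haveI : FibCat.IsFibGrpd 𝒳.p := h𝒳.isStack.1
  haveI : FibCat.IsFibGrpd 𝒴.p := h𝒴.isStack.1
  haveI : FibCat.IsFibGrpd 𝒵.p := h𝒵.isStack.1
  have hι : AlgSt.RepByAlgSp1 (magIota f g) :=
    repByAlgSp1_magIota f g (repByAlgSp1_diag_of_isAlgStack h𝒴 h𝒵 g)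
  exact repByAlgSpWith_diag_of_comp _
    (isoInv_locP Groth.Agent.Lib.AlgSpLocP.etLocalClass_lft_unramified)
    (schemeLocal_of_atlasLocal (atlasLocal_locP Groth.Agent.Lib.AlgSpLocP.etLocalClass_lft_unramified))
    (fun _ _ _ hX hY hZ _ _ ha hb => Groth.Agent.Lib.AlgSpLocP.locP_comp
      Groth.Agent.Lib.AlgSpLocP.etLocalClass_lft_unramified hX hY hZ ha hb)
    f g h (isDMMor_of_repByAlgSp1 _ hι)

theorem isQuasiDMMor_of_comp (h : AlgSt.IsQuasiDMMor (BasedFunctor.comp f g)) :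
    AlgSt.IsQuasiDMMor f := by
  haveI : FibCat.IsFibGrpd 𝒳.p := h𝒳.isStack.1
  haveI : FibCat.IsFibGrpd 𝒴.p := h𝒴.isStack.1
  haveI : FibCat.IsFibGrpd 𝒵.p := h𝒵.isStack.1
  have hι : AlgSt.RepByAlgSp1 (magIota f g) :=
    repByAlgSp1_magIota f g (repByAlgSp1_diag_of_isAlgStack h𝒴 h𝒵 g)
  exact repByAlgSpWith_diag_of_comp _
    (isoInv_locP Groth.Agent.Lib.AlgSpLocP.etLocalClass_lqf_lft)
    (schemeLocal_of_atlasLocal (atlasLocal_locP Groth.Agent.Lib.AlgSpLocP.etLocalClass_lqf_lft))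
    (fun _ _ _ hX hY hZ _ _ ha hb => Groth.Agent.Lib.AlgSpLocP.locP_comp
      Groth.Agent.Lib.AlgSpLocP.etLocalClass_lqf_lft hX hY hZ ha hb)
    f g h (isQuasiDMMor_of_repByAlgSp1 _ hι)

theorem isSeparatedMor_of_comp (h : AlgSt.IsSeparatedMor (BasedFunctor.comp f g))
    (hg : AlgSt.RepByAlgSpWith AlgSp.IsSeparatedMor (FibCat.diag g)) : AlgSt.IsSeparatedMor f := by
  haveI : FibCat.IsFibGrpd 𝒳.p := h𝒳.isStack.1
  haveI : FibCat.IsFibGrpd 𝒴.p := h𝒴.isStack.1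
  haveI : FibCat.IsFibGrpd 𝒵.p := h𝒵.isStack.1
  have hι : AlgSt.RepByAlgSp1 (magIota f g) :=
    repByAlgSp1_magIota f g (repByAlgSp1_diag_of_isAlgStack h𝒴 h𝒵 g)
  have hι2 : AlgSt.RepByAlgSpWith AlgSp.IsSeparatedMor (magIota f g) :=
    repByAlgSpWith_magIota _ f g hg
  exact repByAlgSpWith_diag_of_comp _
    (isoInv_of_baseChange _ baseChangeStable_isProperMor)
    (schemeLocal_of_atlasLocal (atlasLocal_of_fpqc
      Groth.Agent.Lib.AlgSpFpqc.isLocalOnBase_fpqc_isProperMor))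
    Groth.Agent.Lib.AlgStDiagProper.isProperMor_comp'
    f g h ((proper_diag_iff _ hι).2 hι2)

theorem isQuasiSeparatedMor_of_comp (h : AlgSt.IsQuasiSeparatedMor (BasedFunctor.comp f g))
    (hg : AlgSt.RepByAlgSpWith AlgSp.IsQuasiSeparatedMor (FibCat.diag g)) :
    AlgSt.IsQuasiSeparatedMor f := by
  haveI : FibCat.IsFibGrpd 𝒳.p := h𝒳.isStack.1
  haveI : FibCat.IsFibGrpd 𝒴.p := h𝒴.isStack.1
  haveI : FibCat.IsFibGrpd 𝒵.p := h𝒵.isStack.1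
  have hι : AlgSt.RepByAlgSp1 (magIota f g) :=
    repByAlgSp1_magIota f g (repByAlgSp1_diag_of_isAlgStack h𝒴 h𝒵 g)
  have hι2 : AlgSt.RepByAlgSpWith AlgSp.IsQuasiSeparatedMor (magIota f g) :=
    repByAlgSpWith_magIota _ f g hg
  exact repByAlgSpWith_diag_of_comp _
    (isoInv_of_baseChange _ qcqs_baseChange)
    (schemeLocal_of_atlasLocal (atlasLocal_of_fpqc isLocalOnBase_fpqc_qcqs))
    qcqs_comp f g h ((isQuasiSeparatedMor_iff _ hι).2 hι2)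

end Stacks

end Groth.Agent.Lib.AlgStDiagCancel
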