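import Groth.Agent.Lib.AlgStDiagLft

/-!
# fppf descent of properties of the diagonal (helper36)

* `diagPiIso` : `diagPi f g : 𝒳' ×_𝒵 𝒳' ⟶ 𝒳 ×_𝒴 𝒳` (with `𝒳' = 𝒵 ×_𝒴 𝒳`) is, up to equivalences, a base
  change of `g`; hence `repByAlgSpWith_diagPi`.
* `repByAlgSpWith_diag_of_cover` : if `g : 𝒵 ⟶ 𝒴` is a representable fppf cover and the diagonal
  of the base change `𝒵 ×_𝒴 𝒳 ⟶ 𝒵` has `P`, so has the diagonal of `f`.
-/

set_option autoImplicit false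
set_option linter.style.haveILetI false
set_option backward.isDefEq.respectTransparency false
set_option backward.isDefEq.respectTransparency.types false

namespace Groth.Agent.Lib.AlgStDiagDescent

open CategoryTheory CategoryTheory.Limits AlgebraicGeometry Opposite Groth.Agent.Lib.FibGrpd
  Groth.Agent.Lib.FpEquiv Groth.Agent.Lib.AlgStRep Groth.Agent.Lib.AlgStSpTest
  Groth.Agent.Lib.AlgStDiag3 Groth.Agent.Lib.FpBaseChange Groth.Agent.Lib.AlgStCover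
  Groth.Agent.Lib.AlgStDiag Groth.Agent.Lib.AlgStDiagLft

universe w v₅ u₅ v₄ u₄ v₃ u₃ v₂ u₂ v u

section DiagPi

variable {C : Type u} [Category.{v} C] {𝒳 : BasedCategory.{v₂, u₂} C}
  {𝒴 : BasedCategory.{v₃, u₃} C} {𝒵 : BasedCategory.{v₄, u₄} C} (f : 𝒳 ⥤ᵇ 𝒴) (g : 𝒵 ⥤ᵇ 𝒴)

/-- Change of the first leg along the canonical 2-isomorphism of `𝒵 ×_𝒴 𝒳`. -/
def diagPiB : FibCat.fp (BasedFunctor.comp (FibCat.fpFst g f) g) f ⥤ᵇ
    FibCat.fp (BasedFunctor.comp (FibCat.fpSnd g f) f) f :=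
  fpMap (F := BasedFunctor.comp (FibCat.fpSnd g f) f) (G := f)
    (F' := BasedFunctor.comp (FibCat.fpFst g f) g) (G' := f)
    (BasedFunctor.id (FibCat.fp g f)) (BasedFunctor.id 𝒳) (BasedFunctor.id 𝒴)
    (compIdIso _ ≪≫ FibCat.fpIso g f ≪≫ (idCompIso _).symm)
    (compIdIso f ≪≫ (idCompIso f).symm)

theorem diagPiB_isEquivOver : FibCat.IsEquivOver (diagPiB f g) :=
  fpMap_isEquivOver _ _ _ _ _ isEquivOver_id isEquivOver_id

theorem diagPiB_obj_iso_hom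
    (z : (FibCat.fp (BasedFunctor.comp (FibCat.fpFst g f) g) f).obj) :
    ((diagPiB f g).obj z).obj.iso.hom = z.obj.fst.obj.iso.inv ≫ z.obj.iso.hom := by
  have := fpMap_obj_iso_hom (F := BasedFunctor.comp (FibCat.fpSnd g f) f) (G := f)
    (F' := BasedFunctor.comp (FibCat.fpFst g f) g) (G' := f)
    (BasedFunctor.id (FibCat.fp g f)) (BasedFunctor.id 𝒳) (BasedFunctor.id 𝒴)
    (compIdIso _ ≪≫ FibCat.fpIso g f ≪≫ (idCompIso _).symm)
    (compIdIso f ≪≫ (idCompIso f).symm) z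
  refine this.trans ?_
  have h1 : (appIso (compIdIso (BasedFunctor.comp (FibCat.fpFst g f) g) ≪≫ FibCat.fpIso g f ≪≫
      (idCompIso (BasedFunctor.comp (FibCat.fpSnd g f) f)).symm) z.obj.fst).inv =
      (𝟙 _ ≫ z.obj.fst.obj.iso.inv) ≫ 𝟙 _ := rfl
  have h2 : (appIso (compIdIso f ≪≫ (idCompIso f).symm) z.obj.snd).hom = 𝟙 _ ≫ 𝟙 _ := rfl
  have h3 : (BasedFunctor.id 𝒴).map z.obj.iso.hom = z.obj.iso.hom := rfl
  rw [h1, h2, h3]
  simp only [Category.id_comp, Category.comp_id]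
  exact congrArg (z.obj.fst.obj.iso.inv ≫ ·) (Category.comp_id z.obj.iso.hom)

/-- Component of `diagPiIso`. -/
def diagPiObjIso (z : (FibCat.fp (FibCat.fpFst g f) (FibCat.fpFst g f)).obj) :
    (diagPi f g).obj z ≅
      (fpMapLeft (FibCat.fpSnd g f) f f).obj ((diagPiB f g).obj
        ((fpPasteLeft (FibCat.fpFst g f) g f).obj z)) :=
  fpIsoMk (Iso.refl _) (Iso.refl _) (by
    rw [fpMapLeft_obj_iso_hom, diagPiB_obj_iso_hom, fpPasteLeft_obj_iso_hom, diagPi_obj_iso_hom]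
    have e1 : f.map (Iso.refl ((diagPi f g).obj z).obj.fst).hom = 𝟙 _ := f.toFunctor.map_id _
    have e2 : f.map (Iso.refl ((diagPi f g).obj z).obj.snd).hom = 𝟙 _ := f.toFunctor.map_id _
    rw [e1, e2, Category.id_comp, Category.comp_id]
    rfl)

/-- `diagPi f g` is the composite of two equivalences and a base change of `fpSnd g f`. -/
def diagPiIso : diagPi f g ≅
    BasedFunctor.comp (BasedFunctor.comp (fpPasteLeft (FibCat.fpFst g f) g f) (diagPiB f g))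
      (fpMapLeft (FibCat.fpSnd g f) f f) :=
  BasedNatIso.mkNatIso
    (NatIso.ofComponents (fun z => diagPiObjIso f g z) (fun {z z'} m => by
      refine fp_hom_ext _ _ ?_ ?_
      · show m.hom.fst.hom.snd ≫ 𝟙 _ = 𝟙 _ ≫ m.hom.fst.hom.snd
        rw [Category.comp_id, Category.id_comp]
      · show m.hom.snd.hom.snd ≫ 𝟙 _ = 𝟙 _ ≫ m.hom.snd.hom.snd
        rw [Category.comp_id, Category.id_comp]))
    (fun z => by
      show (FibCat.fp f f).p.IsHomLift (𝟙 _) (diagPiObjIso f g z).hom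
      rw [fp_isHomLift_iff]
      exact IsHomLift.id (fp_snd_proj g f z.obj.fst))

end DiagPi

section Consequences

variable {S : Scheme.{u}}

section General

variable {𝒳 : BasedCategory.{v₂, u₂} (Over S)} {𝒴 : BasedCategory.{v₃, u₃} (Over S)}
  {𝒵 : BasedCategory.{v₄, u₄} (Over S)}

/-- `𝒳' ×_𝒵 𝒳' ⟶ 𝒳 ×_𝒴 𝒳` has `P` whenever `g : 𝒵 ⟶ 𝒴` has. -/
theorem repByAlgSpWith_diagPi (P : MorphismProperty (AlgSp.Sp S)) (f : 𝒳 ⥤ᵇ 𝒴) (g : 𝒵 ⥤ᵇ 𝒴)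
    (hg : AlgSt.RepByAlgSpWith P g) : AlgSt.RepByAlgSpWith P (diagPi f g) := by
  have h1 : AlgSt.RepByAlgSpWith P (FibCat.fpSnd g f) :=
    Groth.Agent.Lib.AlgStRepC.repByAlgSpWith_fpSnd P g f hg
  have h2 := Groth.Agent.Lib.AlgStAtlas.repByAlgSpWith_fpMapLeft P (FibCat.fpSnd g f) f f h1
  exact (repByAlgSpWith_iff_of_square P (fpMapLeft (FibCat.fpSnd g f) f f) (diagPi f g)
    (BasedFunctor.comp (fpPasteLeft (FibCat.fpFst g f) g f) (diagPiB f g)) (BasedFunctor.id _)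
    (isEquivOver_comp (fpPasteLeft_isEquivOver _ _ _) (diagPiB_isEquivOver f g)) isEquivOver_id
    (compIdIso _ ≪≫ diagPiIso f g)).mp h2

end General

variable {𝒳 𝒴 𝒵 : AlgSt.Cat S}

/-- **fppf descent for the diagonal.** If `g : 𝒵 ⟶ 𝒴` is a representable fppf cover and the
diagonal of the base change `𝒵 ×_𝒴 𝒳 ⟶ 𝒵` of `f` has `P`, then the diagonal of `f` has `P`. -/
theorem repByAlgSpWith_diag_of_cover [FibCat.IsFibGrpd 𝒳.p] [FibCat.IsFibGrpd 𝒴.p]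
    [FibCat.IsFibGrpd 𝒵.p] (P : MorphismProperty (AlgSp.Sp S)) (hPi : IsoInv P)
    (hPl : AlgSp.IsLocalOnBase AlgSp.IsFppfCover P) (f : 𝒳 ⥤ᵇ 𝒴) (g : 𝒵 ⥤ᵇ 𝒴)
    (hΔ : AlgSt.RepByAlgSp1 (FibCat.diag f)) (hg : AlgSt.RepByAlgSpWith Cov g)
    (h : AlgSt.RepByAlgSpWith P (FibCat.diag (FibCat.fpFst g f))) :
    AlgSt.RepByAlgSpWith P (FibCat.diag f) := by
  haveI : FibCat.IsFibGrpd (FibCat.fp f f).p := fp_isFibGrpd _ _
  haveI : FibCat.IsFibGrpd (FibCat.fp g f).p := fp_isFibGrpd _ _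
  haveI : FibCat.IsFibGrpd (FibCat.fp (FibCat.fpFst g f) (FibCat.fpFst g f)).p :=
    fp_isFibGrpd _ _
  have hc : AlgSt.RepByAlgSpWith Cov (diagPi f g) := repByAlgSpWith_diagPi Cov f g hg
  have h' : AlgSt.RepByAlgSpWith P (FibCat.fpFst (diagPi f g) (FibCat.diag f)) :=
    repByAlgSpWith_fpFst_of_isTwoCartOver P (FibCat.diag (FibCat.fpFst g f)) (FibCat.fpSnd g f)
      (diagSqIso f g) (diagLift_isEquivOver f g) h
  exact repByAlgSpWith_of_cover P hPi hPl (FibCat.diag f) hΔ (diagPi f g) hc h'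

section Stacks

variable (h𝒳 : AlgSt.IsAlgStack Scheme.fppfPrecoverage 𝒳)
  (h𝒴 : AlgSt.IsAlgStack Scheme.fppfPrecoverage 𝒴) (f : 𝒳 ⥤ᵇ 𝒴)
  {W : AlgSp.Space S} (w : AlgSt.ofSp W.obj ⥤ᵇ 𝒴)
  (hw₁ : AlgSt.RepByAlgSpWith (AlgSp.LocP @Flat) w)
  (hw₂ : AlgSt.RepByAlgSpWith (AlgSp.LocP @LocallyOfFinitePresentation) w)
  (hw₃ : AlgSt.RepByAlgSpWith AlgSp.IsSurjectiveMor w)

include h𝒳 h𝒴 hw₁ hw₂ hw₃

theorem repByAlgSpWith_diag_of_space_cover (P : MorphismProperty (AlgSp.Sp S)) (hPi : IsoInv P)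
    (hPl : AlgSp.IsLocalOnBase AlgSp.IsFppfCover P)
    (h : AlgSt.RepByAlgSpWith P (FibCat.diag (FibCat.fpFst w f))) :
    AlgSt.RepByAlgSpWith P (FibCat.diag f) := by
  haveI : FibCat.IsFibGrpd 𝒳.p := h𝒳.isStack.1
  haveI : FibCat.IsFibGrpd 𝒴.p := h𝒴.isStack.1
  haveI : FibCat.IsFibGrpd (AlgSt.ofSp W.obj).p := Stk.isFibGrpd_ofPsh W.obj.obj
  exact repByAlgSpWith_diag_of_cover P hPi hPl f w
    (Groth.Agent.Lib.AlgStDiagCancel.repByAlgSp1_diag_of_isAlgStack h𝒳 h𝒴 f)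
    (repByAlgSpWith_cov w hw₁ hw₂ hw₃) h

end Stacks

end Consequences

end Groth.Agent.Lib.AlgStDiagDescent
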