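import Groth.Agent.Lib.AlgStDiagLft
import Groth.Agent.Lib.AlgStDiagDescent

/-!
# Properties of the diagonal read on an fppf chart (helper36)

* `locP_diag_of_chart` : if `u : 𝒰 ⟶ 𝒳` is a representable fppf cover having `LocP Q`, then the
  diagonal of `f : 𝒳 ⟶ 𝒴` has `LocP Q` (for classes `Q` that hold for diagonals of representable
  morphisms, e.g. unramified, locally of finite type).
* `isDMOver_of_unramified_cover` (= S12969).
-/

set_option autoImplicit false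
set_option linter.style.haveILetI false
set_option backward.isDefEq.respectTransparency false
set_option backward.isDefEq.respectTransparency.types false

namespace Groth.Agent.Lib.AlgStDiagChart

open CategoryTheory CategoryTheory.Limits AlgebraicGeometry Opposite Groth.Agent.Lib.FibGrpd
  Groth.Agent.Lib.FpEquiv Groth.Agent.Lib.AlgStRep Groth.Agent.Lib.AlgStSpTest
  Groth.Agent.Lib.AlgStDiag3 Groth.Agent.Lib.FpBaseChange Groth.Agent.Lib.AlgStCover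
  Groth.Agent.Lib.AlgStDiag Groth.Agent.Lib.AlgStDiagLft Groth.Agent.Lib.AlgSpLocP
  Groth.Agent.Lib.AlgSpBasic Groth.Agent.Lib.EquivOver Groth.Agent.Lib.AlgStFp

universe u

variable {S : Scheme.{u}} {𝒰 𝒳 𝒴 : AlgSt.Cat S}

/-- **Properties of the diagonal from a chart.** -/
theorem locP_diag_of_chart {Q : MorphismProperty Scheme.{u}} (hQ : EtLocalClass Q)
    [Q.DescendsAlong etCov] [Q.IsStableUnderComposition]
    (hQl : AlgSp.IsLocalOnBase AlgSp.IsFppfCover (AlgSp.LocP (S := S) Q))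
    (hQΔ : ∀ {𝒜 ℬ : AlgSt.Cat S} (k : 𝒜 ⥤ᵇ ℬ), AlgSt.RepByAlgSp1 k →
      AlgSt.RepByAlgSpWith (AlgSp.LocP Q) (FibCat.diag k))
    [FibCat.IsFibGrpd 𝒰.p] [FibCat.IsFibGrpd 𝒳.p] [FibCat.IsFibGrpd 𝒴.p]
    (u : 𝒰 ⥤ᵇ 𝒳) (f : 𝒳 ⥤ᵇ 𝒴) (hΔ : AlgSt.RepByAlgSp1 (FibCat.diag f))
    (hu : AlgSt.RepByAlgSpWith Cov u) (huQ : AlgSt.RepByAlgSpWith (AlgSp.LocP Q) u)
    (huf : AlgSt.RepByAlgSp1 (BasedFunctor.comp u f)) :
    AlgSt.RepByAlgSpWith (AlgSp.LocP Q) (FibCat.diag f) := by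
  have hPi : IsoInv (AlgSp.LocP (S := S) Q) := Groth.Agent.Lib.AlgStAtlas.isoInv_locP _
  refine repByAlgSpWith_diag_of_magIota _ hPi hQl u f hΔ hu ?_
  let k := FibCat.fpFst (BasedFunctor.comp u f) (BasedFunctor.comp u f)
  haveI : FibCat.IsFibGrpd (FibCat.fp (BasedFunctor.comp u f) (BasedFunctor.comp u f)).p :=
    fp_isFibGrpd _ _
  have hk : AlgSt.RepByAlgSp1 k := by
    rw [Groth.Agent.Lib.AlgStEquiv.repByAlgSp1_iff_top] at huf ⊢
    exact repByAlgSpWith_fpFst ⊤ _ _ huf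
  have hΔk : AlgSt.RepByAlgSpWith (AlgSp.LocP Q) (FibCat.diag k) := hQΔ k hk
  have hfst : AlgSt.RepByAlgSpWith (AlgSp.LocP Q) (FibCat.fpFst u u) :=
    repByAlgSpWith_fpFst _ u u huQ
  exact Groth.Agent.Lib.AlgStCancel.repByAlgSpWith_of_comp_of_diag _ hPi
    (Groth.Agent.Lib.AlgStSpTest.schemeLocal_of_atlasLocal
      (Groth.Agent.Lib.AlgStDiagLocP.atlasLocal_locP hQ))
    (fun _ _ _ hX hY hZ _ _ ha hb => locP_comp hQ hX hY hZ ha hb)
    (magIota u f) k hfst hΔk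

/-- Maps from algebraic spaces to the base `(Sch/S)` are representable by algebraic spaces. -/
theorem repByAlgSp1_ofSp_to_selfOver (W : AlgSp.Space S)
    (x : AlgSt.ofSp W.obj ⥤ᵇ FibCat.selfOver (Over S)) : AlgSt.RepByAlgSp1 x := by
  intro T y
  haveI : FibCat.IsFibGrpd (FibCat.selfOver (Over S)).p := toSelf_isFibGrpd
  have h := Groth.Agent.Lib.AlgStBoot.repByAlgSp_fp_of_repByAlgSp1 y x
    (Groth.Agent.Lib.AlgStFpStack.repByAlgSp1_to_selfOver T y)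
    ⟨W, BasedFunctor.id _, isEquivOver_id⟩
  exact repByAlgSp_of_equivOver ⟨Groth.Agent.Lib.AlgStRepC.fpSwap _ _,
    Groth.Agent.Lib.AlgStRepC.fpSwap_isEquivOver _ _⟩ h

/-- = S12969. -/
theorem isDMOver_of_unramified_cover (h𝒳 : AlgSt.IsAlgStack Scheme.fppfPrecoverage 𝒳)
    (W : AlgSp.Space S) (w : AlgSt.ofSp W.obj ⥤ᵇ 𝒳)
    (hw₁ : AlgSt.RepByAlgSpWith (AlgSp.LocP @Flat) w)
    (hw₂ : AlgSt.RepByAlgSpWith (AlgSp.LocP @LocallyOfFinitePresentation) w)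
    (hw₃ : AlgSt.RepByAlgSpWith AlgSp.IsSurjectiveMor w)
    (hw₄ : AlgSt.RepByAlgSpWith (AlgSp.LocP (@LocallyOfFiniteType ⊓ @FormallyUnramified)) w) :
    AlgSt.IsDMOver 𝒳 := by
  haveI : FibCat.IsFibGrpd 𝒳.p := h𝒳.isStack.1
  haveI : FibCat.IsFibGrpd (FibCat.selfOver (Over S)).p := toSelf_isFibGrpd
  haveI : FibCat.IsFibGrpd (AlgSt.ofSp W.obj).p := Stk.isFibGrpd_ofPsh W.obj.obj
  exact locP_diag_of_chart etLocalClass_lft_unramified
    (Groth.Agent.Lib.AlgStDiagQS.isLocalOnBase_fppf_of_fpqc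
      Groth.Agent.Lib.AlgSpFpqc.isLocalOnBase_fpqc_locP_unramified)
    (fun k hk => Groth.Agent.Lib.AlgStDiagRep.isDMMor_of_repByAlgSp1 k hk)
    w (FibCat.toSelf 𝒳) h𝒳.diag (repByAlgSpWith_cov w hw₁ hw₂ hw₃) hw₄
    (repByAlgSp1_ofSp_to_selfOver W _)

end Groth.Agent.Lib.AlgStDiagChart
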