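import Groth.Agent.Lib.AlgStDiagDict
import Groth.Agent.Lib.AlgStSpTest2

/-!
# Diagonal dictionary, converse direction (helper36)
-/

set_option autoImplicit false
set_option linter.style.haveILetI false
set_option backward.isDefEq.respectTransparency false
set_option backward.isDefEq.respectTransparency.types false

namespace Groth.Agent.Lib.AlgStDiagDict2

open CategoryTheory CategoryTheory.Limits AlgebraicGeometry Opposite Groth.Agent.Lib.FibGrpd
  Groth.Agent.Lib.FpEquiv Groth.Agent.Lib.AlgStRep Groth.Agent.Lib.AlgStDiag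
  Groth.Agent.Lib.AlgStEquiv Groth.Agent.Lib.PshFp Groth.Agent.Lib.AlgStDiagDict
  Groth.Agent.Lib.AlgStSpTest

universe w v₅ u₅ v₄ u₄ v₃ u₃ v₂ u₂ v u

variable {S : Scheme.{u}}

/-- Converse of `repByAlgSpWith_ofSpMap`: if `ofSpMap c` is representable by algebraic spaces with
`P`, then `c` has `P` (for `P` invariant under isomorphisms and determined by base changes to
schemes). -/
theorem prop_of_repByAlgSpWith_ofSpMap (P : MorphismProperty (AlgSp.Sp S)) (hPi : IsoInv P)
    (hPl : SchemeLocal P) {F G : AlgSp.Sp S} (hF : AlgSp.IsAlgSpace F) (hG : AlgSp.IsAlgSpace G)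
    (c : F ⟶ G) (h : AlgSt.RepByAlgSpWith P (AlgSt.ofSpMap c)) : P c := by
  apply hPl hG hF c
  intro W p X hX fst snd sq
  have sq' : IsPullback snd.hom fst.hom c.hom p.hom :=
    sq.flip.map (sheafToPresheaf (AlgSp.J S) (Type (u + 1)))
  have h1 := h W (BasedFunctor.comp (AlgSt.ofOverCat W) (Stk.ofPshMap p.hom))
  have h2 := (Groth.Agent.Lib.AlgStAtlas.repData_ofPshMap_iff P c.hom p.hom X sq').1 h1
  have h3 := prop_spMapOfOver_of_repData P hPi hX _ h2
  rwa [spMapOfOver_ofSpMap_toOverCat] at h3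

/-- If the diagonal of `ofSpMap α` has `P`, the relative diagonal of `α` has `P`. -/
theorem prop_diagonal_of_repByAlgSpWith_diag_ofSpMap (P : MorphismProperty (AlgSp.Sp S))
    (hPi : IsoInv P) (hPl : SchemeLocal P) {F G : AlgSp.Sp S} (hF : AlgSp.IsAlgSpace F)
    (hG : AlgSp.IsAlgSpace G) (α : F ⟶ G)
    (h : AlgSt.RepByAlgSpWith P (FibCat.diag (AlgSt.ofSpMap α))) : P (pullback.diagonal α) := by
  have sq : IsPullback (pullback.fst α α) (pullback.snd α α) α α := IsPullback.of_hasPullback α α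
  have hPi' : AlgSp.IsAlgSpace (pullback α α) :=
    Groth.Agent.Lib.AlgSpFibre.isAlgSpace_of_isPullback hG.diag hF hF sq
  have sq' : IsPullback (pullback.fst α α).hom (pullback.snd α α).hom α.hom α.hom :=
    sq.map (sheafToPresheaf (AlgSp.J S) (Type (u + 1)))
  have h1 : (pullback.diagonal α).hom ≫ (pullback.fst α α).hom = 𝟙 F.obj :=
    congrArg (fun t : F ⟶ F => t.hom) (pullback.diagonal_fst α)
  have h2 : (pullback.diagonal α).hom ≫ (pullback.snd α α).hom = 𝟙 F.obj :=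
    congrArg (fun t : F ⟶ F => t.hom) (pullback.diagonal_snd α)
  have hc : FibCat.IsEquivOver (pshFpFunctor sq'.w) := pshFpFunctor_isEquivOver_of_isPullback sq'
  have h4 : AlgSt.RepByAlgSpWith P
      (BasedFunctor.comp (AlgSt.ofSpMap (pullback.diagonal α)) (pshFpFunctor sq'.w)) :=
    (Groth.Agent.Lib.AlgStDiag3.repByAlgSpWith_congr P
      (diagPshIso sq'.w (pullback.diagonal α).hom h1 h2)).2 h
  have h3 : AlgSt.RepByAlgSpWith P (AlgSt.ofSpMap (pullback.diagonal α)) :=
    (repByAlgSpWith_comp_equiv_iff P _ _ hc).1 h4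
  exact prop_of_repByAlgSpWith_ofSpMap P hPi hPl hF hPi' _ h3

variable {𝒳 : BasedCategory.{v₂, u₂} (Over S)} {𝒴 : BasedCategory.{v₃, u₃} (Over S)}

/-- **Diagonal dictionary (converse direction).** -/
theorem repByAlgSpWith_diagonal_of_diag (P : MorphismProperty (AlgSp.Sp S)) (hPi : IsoInv P)
    (hPl : SchemeLocal P) (f : 𝒳 ⥤ᵇ 𝒴) (hf : AlgSt.RepByAlgSp1 f)
    (hd : AlgSt.RepByAlgSpWith P (FibCat.diag f)) :
    AlgSt.RepByAlgSpWith (fun _ _ α => P (pullback.diagonal α)) f := by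
  intro T y
  obtain ⟨F, e, he⟩ := hf T y
  refine ⟨F, e, he, ?_⟩
  have hd' : AlgSt.RepByAlgSpWith P (FibCat.diag (FibCat.fpFst y f)) :=
    repByAlgSpWith_diag_fpFst P f y hd
  obtain ⟨γ⟩ := nonempty_iso_ofSpMap_toOverCat (BasedFunctor.comp e (FibCat.fpFst y f))
  have h2 : AlgSt.RepByAlgSpWith P (FibCat.diag (BasedFunctor.comp (AlgSt.ofSpMap
      (AlgSt.spMapOfOver (BasedFunctor.comp e (FibCat.fpFst y f)))) (AlgSt.toOverCat T))) :=
    (repByAlgSpWith_diag_iff_of_square P (FibCat.fpFst y f) _ e (BasedFunctor.id _) he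
      isEquivOver_id (compIdIso _ ≪≫ γ)).1 hd'
  have h1 : AlgSt.RepByAlgSpWith P (FibCat.diag (AlgSt.ofSpMap
      (AlgSt.spMapOfOver (BasedFunctor.comp e (FibCat.fpFst y f))))) :=
    (repByAlgSpWith_diag_iff_of_square P _ _ (BasedFunctor.id _) (AlgSt.toOverCat T)
      isEquivOver_id (Groth.Agent.Lib.AlgStFp.toOverCat_isEquivOver T) (idCompIso _).symm).1 h2
  exact prop_diagonal_of_repByAlgSpWith_diag_ofSpMap P hPi hPl F.property
    (AlgSp.IsAlgSpace.yon_obj T) _ h1

/-- **Diagonal dictionary.** For `f` representable by algebraic spaces, the diagonal of `f` has `P`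
iff the relative diagonals of the representing morphisms of algebraic spaces have `P`. -/
theorem repByAlgSpWith_diag_iff_diagonal (P : MorphismProperty (AlgSp.Sp S))
    (hPb : BaseChangeStable P) (hPi : IsoInv P) (hPl : SchemeLocal P) (f : 𝒳 ⥤ᵇ 𝒴)
    (hf : AlgSt.RepByAlgSp1 f) :
    AlgSt.RepByAlgSpWith P (FibCat.diag f) ↔
      AlgSt.RepByAlgSpWith (fun _ _ α => P (pullback.diagonal α)) f :=
  ⟨repByAlgSpWith_diagonal_of_diag P hPi hPl f hf, repByAlgSpWith_diag_of_diagonal P hPb f⟩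

/-- Monotonicity of `RepByAlgSpWith` (on morphisms from algebraic spaces to representables). -/
theorem repByAlgSpWith_mono {P Q : MorphismProperty (AlgSp.Sp S)} (f : 𝒳 ⥤ᵇ 𝒴)
    (h : ∀ ⦃F : AlgSp.Sp S⦄ ⦃T : Over S⦄, AlgSp.IsAlgSpace F →
      ∀ α : F ⟶ (AlgSp.yon S).obj T, P α → Q α)
    (hf : AlgSt.RepByAlgSpWith P f) : AlgSt.RepByAlgSpWith Q f := by
  intro T y
  obtain ⟨F, e, he, hP⟩ := hf T y
  exact ⟨F, e, he, h F.property _ hP⟩

end Groth.Agent.Lib.AlgStDiagDict2
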