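import Groth.Agent.Lib.AlgStCover
import Groth.Agent.Lib.AlgStAtlas
import Groth.Agent.Lib.H69AlgSpLocST2

/-!
# The diagonal of a morphism of algebraic stacks is locally of finite type (helper36)

* `magQIso` : `magQ f g ≅ fpMapLeft ⋙ fpMapRight`, hence `magQ u f` is a cover when `u` is.
* `repByAlgSpWith_diag_of_magIota` : descent of properties of the diagonal along `magQ u f`.
* `locP_lft_diag` : the diagonal of a morphism of algebraic stacks is locally of finite type.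
-/

set_option autoImplicit false
set_option linter.style.haveILetI false
set_option backward.isDefEq.respectTransparency false
set_option backward.isDefEq.respectTransparency.types false

namespace Groth.Agent.Lib.AlgStDiagLft

open CategoryTheory CategoryTheory.Limits AlgebraicGeometry Opposite Groth.Agent.Lib.FibGrpd
  Groth.Agent.Lib.FpEquiv Groth.Agent.Lib.AlgStRep Groth.Agent.Lib.AlgStSpTest
  Groth.Agent.Lib.AlgStDiag3 Groth.Agent.Lib.FpBaseChange Groth.Agent.Lib.AlgStCover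
  Groth.Agent.Lib.AlgStDiag

universe w v₅ u₅ v₄ u₄ v₃ u₃ v₂ u₂ v u

section MagQ

variable {C : Type u} [Category.{v} C] {𝒳 : BasedCategory.{v₂, u₂} C}
  {𝒴 : BasedCategory.{v₃, u₃} C} {𝒵 : BasedCategory.{v₄, u₄} C} (f : 𝒳 ⥤ᵇ 𝒴) (g : 𝒴 ⥤ᵇ 𝒵)

/-- Component of `magQIso`. -/
def magQObjIso (w : (FibCat.fp (BasedFunctor.comp f g) (BasedFunctor.comp f g)).obj) :
    (magQ f g).obj w ≅
      (fpMapRight g g f).obj ((fpMapLeft f g (BasedFunctor.comp f g)).obj w) :=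
  fpIsoMk (Iso.refl _) (Iso.refl _) (by
    rw [fpMapRight_obj_iso_hom, fpMapLeft_obj_iso_hom, magQ_obj_iso_hom]
    have e1 : g.map (Iso.refl ((magQ f g).obj w).obj.fst).hom = 𝟙 _ := g.toFunctor.map_id _
    have e2 : g.map (Iso.refl ((magQ f g).obj w).obj.snd).hom = 𝟙 _ := g.toFunctor.map_id _
    rw [e1, e2, Category.id_comp, Category.comp_id])

/-- `𝒳 ×_𝒵 𝒳 ⟶ 𝒴 ×_𝒵 𝒴` is the composite of the two partial maps. -/
def magQIso : magQ f g ≅
    BasedFunctor.comp (fpMapLeft f g (BasedFunctor.comp f g)) (fpMapRight g g f) :=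
  BasedNatIso.mkNatIso
    (NatIso.ofComponents (fun w => magQObjIso f g w) (fun {w w'} m => by
      refine fp_hom_ext ?_ ?_
      · show f.map m.hom.fst ≫ 𝟙 _ = 𝟙 _ ≫ f.map m.hom.fst
        rw [Category.comp_id, Category.id_comp]
      · show f.map m.hom.snd ≫ 𝟙 _ = 𝟙 _ ≫ f.map m.hom.snd
        rw [Category.comp_id, Category.id_comp]))
    (fun w => by
      show (FibCat.fp g g).p.IsHomLift (𝟙 _) (magQObjIso f g w).hom
      rw [fp_isHomLift_iff]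
      exact IsHomLift.id (f.w_obj _))

end MagQ

section Consequences

variable {S : Scheme.{u}}

section General

variable {𝒜 : BasedCategory.{v₂, u₂} (Over S)}
    {ℬ : BasedCategory.{v₃, u₃} (Over S)} {𝒞 : BasedCategory.{v₄, u₄} (Over S)}
    {𝒟 : BasedCategory.{v₅, u₅} (Over S)}

/-- Converse transfer along a 2-cartesian square: from the top arrow to the canonical projection. -/
theorem repByAlgSpWith_fpFst_of_isTwoCartOver (P : MorphismProperty (AlgSp.Sp S))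
    {l : 𝒞 ⥤ᵇ 𝒟} {q : ℬ ⥤ᵇ 𝒟} (p : 𝒜 ⥤ᵇ 𝒞) (k : 𝒜 ⥤ᵇ ℬ)
    (β : BasedFunctor.comp p l ≅ BasedFunctor.comp k q) (h : FibCat.IsTwoCartOver p k β)
    (hp : AlgSt.RepByAlgSpWith P p) : AlgSt.RepByAlgSpWith P (FibCat.fpFst l q) :=
  (repByAlgSpWith_iff_of_square P (FibCat.fpFst l q) p (FibCat.fpLift p k β)
    (BasedFunctor.id 𝒞) h isEquivOver_id (compIdIso _)).mpr hp

end General

variable {𝒰 𝒳 𝒴 : AlgSt.Cat S}

/-- `magQ u f : 𝒰 ×_𝒴 𝒰 ⟶ 𝒳 ×_𝒴 𝒳` has `P` when `u` has, for `P` stable under composition. -/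
theorem repByAlgSpWith_magQ [FibCat.IsFibGrpd 𝒰.p] [FibCat.IsFibGrpd 𝒳.p] [FibCat.IsFibGrpd 𝒴.p]
    (P : MorphismProperty (AlgSp.Sp S)) (hPi : IsoInv P) (hPl : AtlasLocal P)
    (hPc : ∀ ⦃X Y Z : AlgSp.Sp S⦄, AlgSp.IsAlgSpace X → AlgSp.IsAlgSpace Y → AlgSp.IsAlgSpace Z →
      ∀ (a : X ⟶ Y) (b : Y ⟶ Z), P a → P b → P (a ≫ b))
    (u : 𝒰 ⥤ᵇ 𝒳) (f : 𝒳 ⥤ᵇ 𝒴) (hu : AlgSt.RepByAlgSpWith P u) :
    AlgSt.RepByAlgSpWith P (magQ u f) := by
  haveI : FibCat.IsFibGrpd (FibCat.fp (BasedFunctor.comp u f) (BasedFunctor.comp u f)).p :=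
    fp_isFibGrpd _ _
  haveI : FibCat.IsFibGrpd (FibCat.fp f (BasedFunctor.comp u f)).p := fp_isFibGrpd _ _
  have h1 := Groth.Agent.Lib.AlgStAtlas.repByAlgSpWith_fpMapLeft P u f (BasedFunctor.comp u f) hu
  have h2 := Groth.Agent.Lib.AlgStAtlas.repByAlgSpWith_fpMapRight P f f u hu
  have h3 := repByAlgSpWith_comp P hPi hPl hPc _ _ h1 h2
  exact (repByAlgSpWith_congr P (magQIso u f)).1 h3

theorem cov_comp ⦃X Y Z : AlgSp.Sp S⦄ (hX : AlgSp.IsAlgSpace X) (hY : AlgSp.IsAlgSpace Y)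
    (hZ : AlgSp.IsAlgSpace Z) (a : X ⟶ Y) (b : Y ⟶ Z) (ha : Cov a) (hb : Cov b) :
    Cov (a ≫ b) :=
  ⟨⟨Groth.Agent.Lib.AlgSpLocP.locP_comp Groth.Agent.Lib.AlgSpLocP.etLocalClass_flat hX hY hZ
      ha.1.1 hb.1.1,
    Groth.Agent.Lib.AlgSpLocP.locP_comp Groth.Agent.Lib.AlgSpLocP.etLocalClass_lfp hX hY hZ
      ha.1.2 hb.1.2⟩,
    Groth.Agent.Lib.AlgStAtlas.isSurjectiveMor_comp a b ha.2 hb.2⟩

/-- **Descent of properties of the diagonal along a chart.** If `u : 𝒰 ⟶ 𝒳` is a representable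
fppf cover and `ι : 𝒰 ×_𝒳 𝒰 ⟶ 𝒰 ×_𝒴 𝒰` has `P` (fppf local on the base), then the diagonal of
`f : 𝒳 ⟶ 𝒴` has `P`. -/
theorem repByAlgSpWith_diag_of_magIota [FibCat.IsFibGrpd 𝒰.p] [FibCat.IsFibGrpd 𝒳.p]
    [FibCat.IsFibGrpd 𝒴.p] (P : MorphismProperty (AlgSp.Sp S)) (hPi : IsoInv P)
    (hPl : AlgSp.IsLocalOnBase AlgSp.IsFppfCover P) (u : 𝒰 ⥤ᵇ 𝒳) (f : 𝒳 ⥤ᵇ 𝒴)
    (hΔ : AlgSt.RepByAlgSp1 (FibCat.diag f)) (hu : AlgSt.RepByAlgSpWith Cov u)
    (h : AlgSt.RepByAlgSpWith P (magIota u f)) : AlgSt.RepByAlgSpWith P (FibCat.diag f) := by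
  haveI : FibCat.IsFibGrpd (FibCat.fp f f).p := fp_isFibGrpd _ _
  haveI : FibCat.IsFibGrpd (FibCat.fp (BasedFunctor.comp u f) (BasedFunctor.comp u f)).p :=
    fp_isFibGrpd _ _
  have hc : AlgSt.RepByAlgSpWith Cov (magQ u f) :=
    repByAlgSpWith_magQ Cov isoInv_cov atlasLocal_cov cov_comp u f hu
  have h' : AlgSt.RepByAlgSpWith P (FibCat.fpFst (magQ u f) (FibCat.diag f)) :=
    repByAlgSpWith_fpFst_of_isTwoCartOver P (magIota u f) (magK u) (magSqIso u f)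
      (magic_isTwoCartOver u f) h
  exact repByAlgSpWith_of_cover P hPi hPl (FibCat.diag f) hΔ (magQ u f) hc h'

/-- A smooth surjective representable morphism is an fppf cover. -/
theorem repByAlgSpWith_cov_of_smooth {𝒰 𝒳 : AlgSt.Cat S} (u : 𝒰 ⥤ᵇ 𝒳)
    (hu₁ : AlgSt.RepByAlgSpWith (AlgSp.LocP @Smooth) u)
    (hu₂ : AlgSt.RepByAlgSpWith AlgSp.IsSurjectiveMor u) : AlgSt.RepByAlgSpWith Cov u := by
  refine repByAlgSpWith_cov u ?_ ?_ hu₂
  · exact Groth.Agent.Lib.AlgStDiagDict2.repByAlgSpWith_mono u (fun _ _ _ α h =>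
      Groth.Agent.Lib.H69AlgSpLocST2.locP_mono
        (fun _ _ l hl => by have : Smooth l := hl; infer_instance) h) hu₁
  · exact Groth.Agent.Lib.AlgStDiagDict2.repByAlgSpWith_mono u (fun _ _ _ α h =>
      Groth.Agent.Lib.H69AlgSpLocST2.locP_mono
        (fun _ _ l hl => by have : Smooth l := hl; infer_instance) h) hu₁

/-- **The diagonal of a morphism of algebraic stacks is locally of finite type.** -/
theorem locP_lft_diag' (h𝒳 : AlgSt.IsAlgStack Scheme.fppfPrecoverage 𝒳)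
    [FibCat.IsFibGrpd 𝒴.p] (h𝒴d : AlgSt.RepByAlgSp1 (FibCat.diag (FibCat.toSelf 𝒴)))
    (f : 𝒳 ⥤ᵇ 𝒴) :
    AlgSt.RepByAlgSpWith (AlgSp.LocP @LocallyOfFiniteType) (FibCat.diag f) := by
  haveI : FibCat.IsFibGrpd 𝒳.p := h𝒳.isStack.1
  have h𝒴all := (Groth.Agent.S12765.result (inferInstance : FibCat.IsFibGrpd 𝒴.p)).1 h𝒴d
  obtain ⟨U, u, hu₁, hu₂⟩ := h𝒳.atlas
  have hΔ : AlgSt.RepByAlgSp1 (FibCat.diag f) :=
    Groth.Agent.Lib.AlgStFpStack.repByAlgSp1_diag_of_forall f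
      ((Groth.Agent.S12765.result h𝒳.isStack.1).1 h𝒳.diag) h𝒴all
  have hPi : IsoInv (AlgSp.LocP (S := S) @LocallyOfFiniteType) :=
    Groth.Agent.Lib.AlgStAtlas.isoInv_locP _
  have hPl : AlgSp.IsLocalOnBase AlgSp.IsFppfCover (AlgSp.LocP (S := S) @LocallyOfFiniteType) :=
    Groth.Agent.Lib.AlgStDiagQS.isLocalOnBase_fppf_of_fpqc
      Groth.Agent.Lib.AlgSpFpqc.isLocalOnBase_fpqc_locP_locallyOfFiniteType
  refine repByAlgSpWith_diag_of_magIota _ hPi hPl u f hΔ (repByAlgSpWith_cov_of_smooth u hu₁ hu₂) ?_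
  -- `ι : U ×_𝒳 U ⟶ U ×_𝒴 U` is locally of finite type by cancellation
  let k := FibCat.fpFst (BasedFunctor.comp u f) (BasedFunctor.comp u f)
  haveI : FibCat.IsFibGrpd (FibCat.fp (BasedFunctor.comp u f) (BasedFunctor.comp u f)).p :=
    fp_isFibGrpd _ _
  have huf : AlgSt.RepByAlgSp1 (BasedFunctor.comp u f) := h𝒴all U _
  have hk : AlgSt.RepByAlgSp1 k := by
    rw [Groth.Agent.Lib.AlgStEquiv.repByAlgSp1_iff_top] at huf ⊢
    exact repByAlgSpWith_fpFst ⊤ _ _ huf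
  have hΔk : AlgSt.RepByAlgSpWith (AlgSp.LocP @LocallyOfFiniteType) (FibCat.diag k) :=
    Groth.Agent.Lib.AlgStDiagDict2.repByAlgSpWith_mono _ (fun _ _ _ α h =>
      Groth.Agent.Lib.H69AlgSpLocST2.locP_mono (fun _ _ l hl => hl.1) h)
      (Groth.Agent.Lib.AlgStDiagRep.isDMMor_of_repByAlgSp1 k hk)
  have hfst : AlgSt.RepByAlgSpWith (AlgSp.LocP @LocallyOfFiniteType) (FibCat.fpFst u u) :=
    Groth.Agent.Lib.AlgStDiagDict2.repByAlgSpWith_mono _ (fun _ _ _ α h =>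
      Groth.Agent.Lib.H69AlgSpLocST2.locP_mono
        (fun _ _ l hl => by have : Smooth l := hl; infer_instance) h)
      (repByAlgSpWith_fpFst _ u u hu₁)
  exact Groth.Agent.Lib.AlgStCancel.repByAlgSpWith_of_comp_of_diag _ hPi
    (Groth.Agent.Lib.AlgStSpTest.schemeLocal_of_atlasLocal
      (Groth.Agent.Lib.AlgStDiagLocP.atlasLocal_locP Groth.Agent.Lib.AlgSpLocP.etLocalClass_lft))
    (fun _ _ _ hX hY hZ _ _ ha hb => Groth.Agent.Lib.AlgSpLocP.locP_comp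
      Groth.Agent.Lib.AlgSpLocP.etLocalClass_lft hX hY hZ ha hb)
    (magIota u f) k hfst hΔk

/-- **The diagonal of a morphism of algebraic stacks is locally of finite type.** -/
theorem locP_lft_diag (h𝒳 : AlgSt.IsAlgStack Scheme.fppfPrecoverage 𝒳)
    (h𝒴 : AlgSt.IsAlgStack Scheme.fppfPrecoverage 𝒴) (f : 𝒳 ⥤ᵇ 𝒴) :
    AlgSt.RepByAlgSpWith (AlgSp.LocP @LocallyOfFiniteType) (FibCat.diag f) := by
  haveI : FibCat.IsFibGrpd 𝒴.p := h𝒴.isStack.1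
  exact locP_lft_diag' h𝒳 h𝒴.diag f

/-- The absolute diagonal of an algebraic stack is locally of finite type. -/
theorem locP_lft_diag_toSelf (h𝒳 : AlgSt.IsAlgStack Scheme.fppfPrecoverage 𝒳) :
    AlgSt.RepByAlgSpWith (AlgSp.LocP @LocallyOfFiniteType)
      (FibCat.diag (FibCat.toSelf 𝒳)) := by
  haveI : FibCat.IsFibGrpd (FibCat.selfOver (Over S)).p := toSelf_isFibGrpd
  exact locP_lft_diag' h𝒳
    ((Groth.Agent.S12765.result toSelf_isFibGrpd).2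
      Groth.Agent.Lib.AlgStFpStack.repByAlgSp1_to_selfOver) (FibCat.toSelf 𝒳)

end Consequences

end Groth.Agent.Lib.AlgStDiagLft
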