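import Groth.Agent.Lib.AlgStDiag3
import Groth.Agent.Lib.AlgSpLocP

/-!
# Diagonal of a composition for `LocP` classes (helper36)
-/

set_option autoImplicit false
set_option linter.style.haveILetI false

namespace Groth.Agent.Lib.AlgStDiagLocP

open CategoryTheory CategoryTheory.Limits AlgebraicGeometry Opposite Groth.Agent.Lib.FibGrpd
  Groth.Agent.Lib.FpEquiv Groth.Agent.Lib.AlgStSpTest Groth.Agent.Lib.AlgSpLocP
  Groth.Agent.Lib.AlgSpBasic AlgSp

universe u

variable {S : Scheme.{u}}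

/-- `LocP P` can be tested after base change to one etale surjective chart of the target. -/
theorem atlasLocal_locP {P : MorphismProperty Scheme.{u}} (hP : EtLocalClass P) :
    AtlasLocal (S := S) (AlgSp.LocP P) := by
  intro Z V X hZ hV hX a W p hpe hps fst snd sq hfst
  obtain ⟨U, c, hce, hcs⟩ := hX.atlas
  have hsnd_e : RepWith @Etale snd := repWith_fst_of_isPullback _ sq.flip hpe
  have hsnd_s : RepWith @Surjective snd := repWith_fst_of_isPullback _ sq.flip hps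
  obtain ⟨h₀, hh₀⟩ := (yon S).map_surjective (c ≫ fst)
  have hP0 : P h₀.left := by
    refine hfst c (𝟙 _) h₀ hce (AlgSp.repWith_id _ W) ?_
    rw [hh₀, Category.comp_id]
  refine locP_of_chart hP a (c ≫ snd) p h₀ ((RepWith @Etale).comp_mem _ _ hce hsnd_e)
    ((RepWith @Surjective).comp_mem _ _ hcs hsnd_s) hpe ?_ hP0
  rw [hh₀, Category.assoc, Category.assoc, sq.w]

theorem isoInv_locP {P : MorphismProperty Scheme.{u}} (hP : EtLocalClass P)
    [P.DescendsAlong etCov] : IsoInv (S := S) (AlgSp.LocP P) :=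
  isoInv_of_baseChange _ (fun _ _ _ _ hX₁ hY₁ _ hY₂ _ _ _ _ sq h =>
    locP_of_isPullback hP hX₁ hY₁ hY₂ sq h)

/-- The diagonal of a composition, for `LocP` classes. -/
theorem repByAlgSpWith_locP_diag_comp {P : MorphismProperty Scheme.{u}} (hP : EtLocalClass P)
    [P.DescendsAlong etCov] [P.IsStableUnderComposition] {𝒳 𝒴 𝒵 : AlgSt.Cat S}
    [FibCat.IsFibGrpd 𝒳.p] [FibCat.IsFibGrpd 𝒴.p] (f : 𝒳 ⥤ᵇ 𝒴) (g : 𝒴 ⥤ᵇ 𝒵)
    (hf : AlgSt.RepByAlgSpWith (AlgSp.LocP P) (FibCat.diag f))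
    (hg : AlgSt.RepByAlgSpWith (AlgSp.LocP P) (FibCat.diag g)) :
    AlgSt.RepByAlgSpWith (AlgSp.LocP P) (FibCat.diag (BasedFunctor.comp f g)) :=
  Groth.Agent.Lib.AlgStDiag3.repByAlgSpWith_diag_comp _ (isoInv_locP hP) (atlasLocal_locP hP)
    (fun _ _ _ hX hY hZ _ _ ha hb => locP_comp hP hX hY hZ ha hb) f g hf hg

end Groth.Agent.Lib.AlgStDiagLocP
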