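import Groth.Agent.Lib.AlgStDiagRep2
import Groth.Agent.Lib.AlgSpProper

/-!
# Diagonal of a composition: proper diagonals (helper36)
-/

set_option autoImplicit false
set_option linter.style.haveILetI false

namespace Groth.Agent.Lib.AlgStDiagProper

open CategoryTheory CategoryTheory.Limits AlgebraicGeometry Opposite Groth.Agent.Lib.FibGrpd
  Groth.Agent.Lib.FpEquiv Groth.Agent.Lib.AlgStSpTest Groth.Agent.Lib.AlgStDiagQS
  Groth.Agent.Lib.AlgStDiagRep2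

universe u

variable {S : Scheme.{u}}

theorem isProperMor_comp' ⦃X Y Z : AlgSp.Sp S⦄ (hX : AlgSp.IsAlgSpace X) (hY : AlgSp.IsAlgSpace Y)
    (hZ : AlgSp.IsAlgSpace Z) (a : X ⟶ Y) (b : Y ⟶ Z) (ha : AlgSp.IsProperMor a)
    (hb : AlgSp.IsProperMor b) : AlgSp.IsProperMor (a ≫ b) :=
  Groth.Agent.Lib.AlgSpProper.isProperMor_comp hX hY hZ ha hb

/-- Separated morphisms of algebraic stacks compose. -/
theorem isSeparatedMor_comp {𝒳 𝒴 𝒵 : AlgSt.Cat S}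
    [FibCat.IsFibGrpd 𝒳.p] [FibCat.IsFibGrpd 𝒴.p] (f : 𝒳 ⥤ᵇ 𝒴) (g : 𝒴 ⥤ᵇ 𝒵)
    (hf : AlgSt.IsSeparatedMor f) (hg : AlgSt.IsSeparatedMor g) :
    AlgSt.IsSeparatedMor (BasedFunctor.comp f g) :=
  Groth.Agent.Lib.AlgStDiag3.repByAlgSpWith_diag_comp _
    (isoInv_of_baseChange _ baseChangeStable_isProperMor)
    (atlasLocal_of_fpqc Groth.Agent.Lib.AlgSpFpqc.isLocalOnBase_fpqc_isProperMor)
    isProperMor_comp' f g hf hg

end Groth.Agent.Lib.AlgStDiagProper
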