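import Groth.Agent.Lib.AlgStDiagRep2
import Groth.Agent.Lib.PshFp2

/-!
# The diagonal of a functor representable by algebraic spaces is representable by schemes (helper36)
-/

set_option autoImplicit false
set_option linter.style.haveILetI false

namespace Groth.Agent.Lib.AlgStDiagSch

open CategoryTheory CategoryTheory.Limits AlgebraicGeometry Opposite Groth.Agent.Lib.FibGrpd
  Groth.Agent.Lib.FpEquiv Groth.Agent.Lib.AlgStDiagDict Groth.Agent.Lib.AlgStDiagRep
  Groth.Agent.Lib.AlgStDiagRep2 Groth.Agent.Lib.PshFp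

universe w v₅ u₅ v₄ u₄ v₃ u₃ v₂ u₂ v u

variable {S : Scheme.{u}}

/-- An isomorphism of sheaves induces an equivalence over the base. -/
theorem ofSpMap_isEquivOver {F G : AlgSp.Sp S} (j : F ≅ G) :
    FibCat.IsEquivOver (AlgSt.ofSpMap j.hom) := by
  refine ⟨AlgSt.ofSpMap j.inv, ⟨eqToIso ?_⟩, ⟨eqToIso ?_⟩⟩
  · show BasedFunctor.comp (Stk.ofPshMap j.hom.hom) (Stk.ofPshMap j.inv.hom) = _
    rw [ofPshMap_comp]
    have : j.hom.hom ≫ j.inv.hom = 𝟙 F.obj := congrArg (fun t : F ⟶ F => t.hom) j.hom_inv_id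
    rw [this, ofPshMap_id]
  · show BasedFunctor.comp (Stk.ofPshMap j.inv.hom) (Stk.ofPshMap j.hom.hom) = _
    rw [ofPshMap_comp]
    have : j.inv.hom ≫ j.hom.hom = 𝟙 G.obj := congrArg (fun t : G ⟶ G => t.hom) j.inv_hom_id
    rw [this, ofPshMap_id]

/-- A sheaf with a representable morphism to a representable sheaf is representable. -/
theorem exists_iso_yon_of_representable {F : AlgSp.Sp S} {U : Over S}
    (α : F ⟶ (AlgSp.yon S).obj U) (hα : AlgSp.Representable α) :
    ∃ V : Over S, Nonempty ((AlgSp.yon S).obj V ≅ F) := by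
  have sq := hα.isPullback (𝟙 ((AlgSp.yon S).obj U))
  haveI : IsIso (hα.fst (𝟙 ((AlgSp.yon S).obj U))) := sq.isIso_fst_of_isIso
  exact ⟨hα.pullback (𝟙 _), ⟨asIso (hα.fst (𝟙 _))⟩⟩

variable {𝒜 : BasedCategory.{v₂, u₂} (Over S)}

/-- A category over `(Sch/S)` equivalent to `ofSp (h_V)` is representable. -/
theorem isRepresentable_of_equiv_ofSp {F : AlgSp.Sp S} (e : AlgSt.ofSp F ⥤ᵇ 𝒜)
    (he : FibCat.IsEquivOver e) {V : Over S} (j : (AlgSp.yon S).obj V ≅ F) :
    FibCat.IsRepresentable 𝒜 := by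
  have h1 : FibCat.IsEquivOver (BasedFunctor.comp (BasedFunctor.comp (AlgSt.ofOverCat V)
      (AlgSt.ofSpMap j.hom)) e) :=
    isEquivOver_comp (isEquivOver_comp (Groth.Agent.Lib.AlgStFp.ofOverCat_isEquivOver V)
      (ofSpMap_isEquivOver j)) he
  obtain ⟨c, hc⟩ := isEquivOver_inv h1
  exact ⟨V, c, hc⟩

variable {𝒳 : BasedCategory.{v₂, u₂} (Over S)} {𝒴 : BasedCategory.{v₃, u₃} (Over S)}

theorem baseChangeStable_representable :
    BaseChangeStable (AlgSp.Representable (S := S)) :=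
  fun _ _ _ _ _ _ _ _ _ _ _ _ sq h =>
    MorphismProperty.of_isPullback (P := AlgSp.Representable (S := S)) sq h

/-- The diagonal of a functor representable by algebraic spaces is representable by schemes. -/
theorem isRepresentable1_diag_of_repByAlgSp1 (f : 𝒳 ⥤ᵇ 𝒴) (hf : AlgSt.RepByAlgSp1 f) :
    FibCat.IsRepresentable1 (FibCat.diag f) := by
  have h := repByAlgSpWith_diag_of_repByAlgSp1 (AlgSp.Representable (S := S))
    baseChangeStable_representable (fun _ _ hF α => representable_diagonal' hF α) f hf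
  intro U y
  obtain ⟨F, e, he, hα⟩ := h U y
  obtain ⟨V, ⟨j⟩⟩ := exists_iso_yon_of_representable _ hα
  exact isRepresentable_of_equiv_ofSp e he j

end Groth.Agent.Lib.AlgStDiagSch
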