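import Groth.Agent.Lib.AlgStDiag

/-!
# The relative magic square (helper36)

For `y : 𝒰 ⟶ 𝒴`, `f : 𝒳 ⟶ 𝒴`, `g : 𝒴 ⟶ 𝒵` over `C`, the square

```
𝒰 ×_𝒴 𝒳 ——ι——→ 𝒰 ×_𝒵 𝒳
   |               |
   v               v
   𝒴 ————Δ_g———→ 𝒴 ×_𝒵 𝒴
```

is 2-cartesian over `C` (`relLift_isEquivOver`, `rel_isTwoCartOver`).  `ι ⋙ fpFst = fpFst` and
`ι ⋙ fpSnd = fpSnd` hold definitionally (`relIota_fst`, `relIota_snd`).
-/

set_option autoImplicit false
set_option linter.style.haveILetI false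
set_option backward.isDefEq.respectTransparency false
set_option backward.isDefEq.respectTransparency.types false

namespace Groth.Agent.Lib.AlgStRelDiag

open CategoryTheory AlgebraicGeometry Opposite Groth.Agent.Lib.FibGrpd Groth.Agent.Lib.FpEquiv
  Groth.Agent.Lib.AlgStDiag

universe w v₅ u₅ v₄ u₄ v₃ u₃ v₂ u₂ v u

variable {C : Type u} [Category.{v} C] {𝒰 : BasedCategory.{v₅, u₅} C}
  {𝒳 : BasedCategory.{v₂, u₂} C}
  {𝒴 : BasedCategory.{v₃, u₃} C} {𝒵 : BasedCategory.{v₄, u₄} C} (y : 𝒰 ⥤ᵇ 𝒴) (f : 𝒳 ⥤ᵇ 𝒴)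
  (g : 𝒴 ⥤ᵇ 𝒵)

/-- `ι : 𝒰 ×_𝒴 𝒳 ⟶ 𝒰 ×_𝒵 𝒳`, `(u, x, φ) ↦ (u, x, g φ)`. -/
def relIota : FibCat.fp y f ⥤ᵇ FibCat.fp (BasedFunctor.comp y g) (BasedFunctor.comp f g) :=
  FibCat.fpLift (F := BasedFunctor.comp y g) (G := BasedFunctor.comp f g)
    (FibCat.fpFst y f) (FibCat.fpSnd y f) (whiskerRightIso (FibCat.fpIso y f) g)

/-- `𝒰 ×_𝒵 𝒳 ⟶ 𝒴 ×_𝒵 𝒴`, `(u, x, ψ) ↦ (y u, f x, ψ)`. -/
def relQ : FibCat.fp (BasedFunctor.comp y g) (BasedFunctor.comp f g) ⥤ᵇ FibCat.fp g g :=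
  FibCat.fpLift (F := g) (G := g)
    (BasedFunctor.comp (FibCat.fpFst (BasedFunctor.comp y g) (BasedFunctor.comp f g)) y)
    (BasedFunctor.comp (FibCat.fpSnd (BasedFunctor.comp y g) (BasedFunctor.comp f g)) f)
    (FibCat.fpIso (BasedFunctor.comp y g) (BasedFunctor.comp f g))

theorem relIota_obj_iso_hom (w : (FibCat.fp y f).obj) :
    ((relIota y f g).obj w).obj.iso.hom = g.map w.obj.iso.hom := rfl

theorem relQ_obj_iso_hom (w : (FibCat.fp (BasedFunctor.comp y g) (BasedFunctor.comp f g)).obj) :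
    ((relQ y f g).obj w).obj.iso.hom = w.obj.iso.hom := rfl

/-- `ι` commutes strictly with the first projections. -/
theorem relIota_fst : BasedFunctor.comp (relIota y f g)
    (FibCat.fpFst (BasedFunctor.comp y g) (BasedFunctor.comp f g)) = FibCat.fpFst y f := rfl

/-- `ι` commutes strictly with the second projections. -/
theorem relIota_snd : BasedFunctor.comp (relIota y f g)
    (FibCat.fpSnd (BasedFunctor.comp y g) (BasedFunctor.comp f g)) = FibCat.fpSnd y f := rfl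

/-- The functor `𝒰 ×_𝒴 𝒳 ⟶ 𝒴`, `(u, x, φ) ↦ y u`. -/
abbrev relK : FibCat.fp y f ⥤ᵇ 𝒴 := BasedFunctor.comp (FibCat.fpFst y f) y

/-- The component of the 2-isomorphism filling the square. -/
def relSqObjIso (w : (FibCat.fp y f).obj) :
    (relQ y f g).obj ((relIota y f g).obj w) ≅ (FibCat.diag g).obj ((relK y f).obj w) where
  hom := ObjectProperty.homMk
    { fst := 𝟙 (y.obj w.obj.fst)
      snd := w.obj.iso.inv
      w := by
        show g.map (𝟙 (y.obj w.obj.fst)) ≫ 𝟙 (g.obj (y.obj w.obj.fst)) =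
          g.map w.obj.iso.hom ≫ g.map w.obj.iso.inv
        have e1 : g.map (𝟙 (y.obj w.obj.fst)) = 𝟙 _ := g.toFunctor.map_id _
        have e2 : g.map w.obj.iso.hom ≫ g.map w.obj.iso.inv = 𝟙 _ :=
          (g.toFunctor.mapIso w.obj.iso).hom_inv_id
        rw [e1, e2, Category.comp_id] }
  inv := ObjectProperty.homMk
    { fst := 𝟙 (y.obj w.obj.fst)
      snd := w.obj.iso.hom
      w := by
        show g.map (𝟙 (y.obj w.obj.fst)) ≫ g.map w.obj.iso.hom =
          𝟙 (g.obj (y.obj w.obj.fst)) ≫ g.map w.obj.iso.hom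
        have e1 : g.map (𝟙 (y.obj w.obj.fst)) = 𝟙 _ := g.toFunctor.map_id _
        rw [e1] }
  hom_inv_id := fp_hom_ext _ _ (Category.id_comp _) w.obj.iso.inv_hom_id
  inv_hom_id := fp_hom_ext _ _ (Category.id_comp _) w.obj.iso.hom_inv_id

theorem relSqObjIso_hom_fst (w : (FibCat.fp y f).obj) :
    (relSqObjIso y f g w).hom.hom.fst = 𝟙 (y.obj w.obj.fst) := rfl

theorem relSqObjIso_hom_snd (w : (FibCat.fp y f).obj) :
    (relSqObjIso y f g w).hom.hom.snd = w.obj.iso.inv := rfl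

/-- The 2-isomorphism filling the square. -/
def relSqIso : BasedFunctor.comp (relIota y f g) (relQ y f g) ≅
    BasedFunctor.comp (relK y f) (FibCat.diag g) :=
  BasedNatIso.mkNatIso
    (NatIso.ofComponents (fun w => relSqObjIso y f g w) (fun {w w'} m => by
      refine fp_hom_ext _ _ ?_ ?_
      · show y.map m.hom.fst ≫ 𝟙 (y.obj w'.obj.fst) = 𝟙 (y.obj w.obj.fst) ≫ y.map m.hom.fst
        rw [Category.comp_id, Category.id_comp]
      · show f.map m.hom.snd ≫ w'.obj.iso.inv = w.obj.iso.inv ≫ y.map m.hom.fst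
        have hm : y.map m.hom.fst ≫ w'.obj.iso.hom = w.obj.iso.hom ≫ f.map m.hom.snd := m.hom.w
        rw [Iso.comp_inv_eq, Category.assoc, hm, Iso.inv_hom_id_assoc]))
    (fun w => by
      show (FibCat.fp g g).p.IsHomLift (𝟙 (𝒰.p.obj w.obj.fst)) (relSqObjIso y f g w).hom
      rw [fp_isHomLift_iff]
      exact IsHomLift.id (y.w_obj w.obj.fst))

/-- The comparison functor `𝒰 ×_𝒴 𝒳 ⟶ (𝒰 ×_𝒵 𝒳) ×_{𝒴 ×_𝒵 𝒴} 𝒴`. -/
def relLift : FibCat.fp y f ⥤ᵇ FibCat.fp (relQ y f g) (FibCat.diag g) :=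
  FibCat.fpLift (relIota y f g) (relK y f) (relSqIso y f g)

/-- The comparison functor followed by the first projection is `ι` (strictly). -/
theorem relLift_fst : BasedFunctor.comp (relLift y f g)
    (FibCat.fpFst (relQ y f g) (FibCat.diag g)) = relIota y f g := rfl

theorem relLift_faithful : (relLift y f g).toFunctor.Faithful where
  map_injective {a b} m n hmn := by
    have h1 : m.hom.fst = n.hom.fst :=
      congrArg (fun k : (relLift y f g).obj a ⟶ (relLift y f g).obj b => k.hom.fst.hom.fst) hmn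
    have h2 : m.hom.snd = n.hom.snd :=
      congrArg (fun k : (relLift y f g).obj a ⟶ (relLift y f g).obj b => k.hom.fst.hom.snd) hmn
    exact fp_hom_ext _ _ h1 h2

theorem relLift_full : (relLift y f g).toFunctor.Full where
  map_surjective {a b} n := by
    let m₁ : a.obj.fst ⟶ b.obj.fst := n.hom.fst.hom.fst
    let m₂ : a.obj.snd ⟶ b.obj.snd := n.hom.fst.hom.snd
    let ξ : y.obj a.obj.fst ⟶ y.obj b.obj.fst := n.hom.snd
    have h2 : (relQ y f g).map n.hom.fst ≫ (relSqObjIso y f g b).hom =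
        (relSqObjIso y f g a).hom ≫ (FibCat.diag g).map ξ := n.hom.w
    have h3 : y.map m₁ ≫ 𝟙 (y.obj b.obj.fst) = 𝟙 (y.obj a.obj.fst) ≫ ξ :=
      congrArg (fun k : (relQ y f g).obj ((relIota y f g).obj a) ⟶
        (FibCat.diag g).obj (y.obj b.obj.fst) => k.hom.fst) h2
    have h4 : f.map m₂ ≫ b.obj.iso.inv = a.obj.iso.inv ≫ ξ :=
      congrArg (fun k : (relQ y f g).obj ((relIota y f g).obj a) ⟶
        (FibCat.diag g).obj (y.obj b.obj.fst) => k.hom.snd) h2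
    rw [Category.comp_id, Category.id_comp] at h3
    have hw : y.map m₁ ≫ b.obj.iso.hom = a.obj.iso.hom ≫ f.map m₂ := by
      rw [← h3] at h4
      rw [← Iso.inv_comp_eq, ← Category.assoc, ← h4, Category.assoc, Iso.inv_hom_id,
        Category.comp_id]
    refine ⟨ObjectProperty.homMk { fst := m₁, snd := m₂, w := hw }, ?_⟩
    refine fp_hom_ext _ _ ?_ h3
    exact fp_hom_ext _ _ rfl rfl

theorem relLift_isEquivOver : FibCat.IsEquivOver (relLift y f g) := by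
  haveI := relLift_faithful y f g
  haveI := relLift_full y f g
  apply isEquivOver_of_ff_of_ess
  intro z
  let w : (FibCat.fp (BasedFunctor.comp y g) (BasedFunctor.comp f g)).obj := z.obj.fst
  let t : 𝒴.obj := z.obj.snd
  let x₁ : 𝒰.obj := w.obj.fst
  let x₂ : 𝒳.obj := w.obj.snd
  let ψ : g.obj (y.obj x₁) ≅ g.obj (f.obj x₂) := w.obj.iso
  let ι : (relQ y f g).obj w ≅ (FibCat.diag g).obj t := z.obj.iso
  let a : y.obj x₁ ⟶ t := ι.hom.hom.fst
  let b : f.obj x₂ ⟶ t := ι.hom.hom.snd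
  let b' : t ⟶ f.obj x₂ := ι.inv.hom.snd
  have hbb' : b ≫ b' = 𝟙 _ :=
    congrArg (fun k : (relQ y f g).obj w ⟶ (relQ y f g).obj w => k.hom.snd) ι.hom_inv_id
  have hb'b : b' ≫ b = 𝟙 _ :=
    congrArg (fun k : (FibCat.diag g).obj t ⟶ (FibCat.diag g).obj t => k.hom.snd) ι.inv_hom_id
  haveI : IsIso ι.hom.hom.fst := inferInstance
  haveI : IsIso ι.hom.hom.snd := inferInstance
  haveI hia : IsIso a := inferInstanceAs (IsIso ι.hom.hom.fst)
  haveI hib : IsIso b := inferInstanceAs (IsIso ι.hom.hom.snd)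
  have hι : g.map a ≫ 𝟙 (g.obj t) = ψ.hom ≫ g.map b := ι.hom.hom.w
  rw [Category.comp_id] at hι
  let φ : y.obj x₁ ≅ f.obj x₂ :=
    { hom := a ≫ b'
      inv := b ≫ inv a
      hom_inv_id := by
        rw [Category.assoc, ← Category.assoc b', hb'b, Category.id_comp, IsIso.hom_inv_id]
      inv_hom_id := by
        rw [Category.assoc, ← Category.assoc (inv a), IsIso.inv_hom_id, Category.id_comp, hbb'] }
  have hgφ : g.map φ.hom = ψ.hom := by
    show g.map (a ≫ b') = ψ.hom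
    have e : g.map (a ≫ b') = g.map a ≫ g.map b' := g.toFunctor.map_comp a b'
    have e' : g.map b ≫ g.map b' = 𝟙 _ := by
      have := g.toFunctor.map_comp b b'
      rw [hbb'] at this
      exact this.symm.trans (g.toFunctor.map_id _)
    rw [e, hι, Category.assoc, e', Category.comp_id]
  have hx₁ : 𝒵.p.IsHomLift (𝟙 (𝒰.p.obj x₁)) ψ.hom := w.property
  have hφ : 𝒴.p.IsHomLift (𝟙 (𝒰.p.obj x₁)) φ.hom := by
    rw [← BasedFunctor.isHomLift_iff g, hgφ]
    exact hx₁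
  let x : (FibCat.fp y f).obj := ⟨{ fst := x₁, snd := x₂, iso := φ }, hφ⟩
  have hew : (BasedFunctor.comp y g).map (𝟙 x₁) ≫ ψ.hom =
      g.map φ.hom ≫ (BasedFunctor.comp f g).map (𝟙 x₂) := by
    have e1 : (BasedFunctor.comp y g).map (𝟙 x₁) = 𝟙 (g.obj (y.obj x₁)) :=
      (BasedFunctor.comp y g).toFunctor.map_id _
    have e2 : (BasedFunctor.comp f g).map (𝟙 x₂) = 𝟙 (g.obj (f.obj x₂)) :=
      (BasedFunctor.comp f g).toFunctor.map_id _
    calc (BasedFunctor.comp y g).map (𝟙 x₁) ≫ ψ.hom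
        = 𝟙 (g.obj (y.obj x₁)) ≫ ψ.hom := congrArg (· ≫ ψ.hom) e1
      _ = ψ.hom := Category.id_comp _
      _ = g.map φ.hom := hgφ.symm
      _ = g.map φ.hom ≫ 𝟙 (g.obj (f.obj x₂)) := (Category.comp_id _).symm
      _ = _ := congrArg (g.map φ.hom ≫ ·) e2.symm
  let ew : (relIota y f g).obj x ⟶ w :=
    ObjectProperty.homMk { fst := 𝟙 x₁, snd := 𝟙 x₂, w := hew }
  have he : (relQ y f g).map ew ≫ ι.hom = (relSqObjIso y f g x).hom ≫ (FibCat.diag g).map a := by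
    refine fp_hom_ext _ _ ?_ ?_
    · show y.map (𝟙 x₁) ≫ a = 𝟙 (y.obj x₁) ≫ a
      have e1 : y.map (𝟙 x₁) = 𝟙 _ := y.toFunctor.map_id _
      rw [e1]
    · show f.map (𝟙 x₂) ≫ b = (b ≫ inv a) ≫ a
      have e1 : f.map (𝟙 x₂) = 𝟙 _ := f.toFunctor.map_id _
      rw [e1, Category.id_comp, Category.assoc, IsIso.inv_hom_id, Category.comp_id]
  let e : (relLift y f g).obj x ⟶ z := ObjectProperty.homMk { fst := ew, snd := a, w := he }
  haveI hiew : IsIso ew := by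
    haveI : IsIso ew.hom.fst := inferInstanceAs (IsIso (𝟙 x₁))
    haveI : IsIso ew.hom.snd := inferInstanceAs (IsIso (𝟙 x₂))
    exact fp_isIso_of _ _ ew
  haveI hie : IsIso e := by
    haveI : IsIso e.hom.fst := hiew
    haveI : IsIso e.hom.snd := hia
    exact fp_isIso_of _ _ e
  refine ⟨x, asIso e, ?_⟩
  show (FibCat.fp (relQ y f g) (FibCat.diag g)).p.IsHomLift (𝟙 (𝒰.p.obj x₁)) e
  rw [fp_isHomLift_iff, fp_isHomLift_iff]
  exact IsHomLift.id rfl

/-- The relative magic square is 2-cartesian over the base. -/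
theorem rel_isTwoCartOver : FibCat.IsTwoCartOver (relIota y f g) (relK y f) (relSqIso y f g) :=
  relLift_isEquivOver y f g


section Consequences

open Groth.Agent.Lib.AlgStRep

variable {S : Scheme.{u}} {𝒰 : BasedCategory.{v₅, u₅} (Over S)}
  {𝒳 : BasedCategory.{v₂, u₂} (Over S)} {𝒴 : BasedCategory.{v₃, u₃} (Over S)}
  {𝒵 : BasedCategory.{v₄, u₄} (Over S)}

/-- If the diagonal of `g` has `P`, so does `ι : 𝒰 ×_𝒴 𝒳 ⟶ 𝒰 ×_𝒵 𝒳`. -/
theorem repByAlgSpWith_relIota (P : MorphismProperty (AlgSp.Sp S)) (y : 𝒰 ⥤ᵇ 𝒴) (f : 𝒳 ⥤ᵇ 𝒴)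
    (g : 𝒴 ⥤ᵇ 𝒵) (hg : AlgSt.RepByAlgSpWith P (FibCat.diag g)) :
    AlgSt.RepByAlgSpWith P (relIota y f g) :=
  repByAlgSpWith_of_isTwoCartOver P (relIota y f g) (relK y f) (relSqIso y f g)
    (rel_isTwoCartOver y f g) hg

end Consequences

end Groth.Agent.Lib.AlgStRelDiag
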