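import Groth.Agent.Lib.AlgStDiag3
import Groth.Agent.Lib.AlgStRelDiag
import Groth.Prelude.Def_AlgSpEt

/-!
# `AtlasLocal P` from locality on the base for etale coverings (helper99)

`helper64`'s `AlgStSpTest.atlasLocal_of_isLocalOnBase` derives `AtlasLocal P` from locality of `P`
on the base for fppf coverings.  The same holds for etale coverings, since a representable etale
surjective chart `h_W ⟶ Z` is an etale covering.
-/

set_option autoImplicit false

namespace Groth.Agent.Lib.AlgStEtLocal

open CategoryTheory AlgebraicGeometry Groth.Agent.Lib.AlgStSpTest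

universe u

variable {S : Scheme.{u}}

/-- A surjective etale chart of a sheaf is an etale covering. -/
theorem isEtCover_of_chart {Z : AlgSp.Sp S} {W : Over S} (p : (AlgSp.yon S).obj W ⟶ Z)
    (hpe : AlgSp.RepWith @Etale p) (hps : AlgSp.RepWith @Surjective p) :
    AlgSp.IsEtCover (fun _ : PUnit.{u + 1} => (AlgSp.yon S).obj W) (fun _ => p) :=
  ⟨fun _ => AlgSp.isEtaleMor_of_repWith p hpe,
    fun x => ⟨PUnit.unit, Groth.Agent.Lib.H86AlgSpPoints.map_surjective_of_repWith hps x⟩⟩

theorem atlasLocal_of_isLocalOnBase_et (P : MorphismProperty (AlgSp.Sp S))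
    (hP : AlgSp.IsLocalOnBase AlgSp.IsEtCover P) : AtlasLocal P := by
  intro Z V X hZ hV hX a W p hpe hps fst snd sq hfst
  exact (hP (fun _ : PUnit.{u + 1} => (AlgSp.yon S).obj W) (fun _ => p) hZ
    (fun _ => AlgSp.IsAlgSpace.yon_obj W) (isEtCover_of_chart p hpe hps) a hV (fun _ => X)
    (fun _ => fst) (fun _ => snd) (fun _ => hX) (fun _ => sq.flip)).2 (fun _ => hfst)

end Groth.Agent.Lib.AlgStEtLocal
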