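import Groth.Agent.Lib.AlgStLocQ3

/-!
# Towers of charts and cancellation for `LocQ` (helper64)

* `exists_chart_fp` : a chart square of `f` over a given smooth chart `y` of the target, with
  `U ⟶ 𝒳 ×_𝒴 V` smooth surjective.
* `exists_tower` : charts `U ⟶ V ⟶ W` of `𝒳 ⟶ 𝒴 ⟶ 𝒵` with all comparison maps smooth surjective.
* used by S13038 (composition), S13002, S13005.
-/

set_option autoImplicit false
set_option linter.style.haveILetI false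
set_option backward.isDefEq.respectTransparency false
set_option backward.isDefEq.respectTransparency.types false

namespace Groth.Agent.Lib.AlgStLocQ

open CategoryTheory Functor Opposite Limits AlgebraicGeometry Groth.Agent.Lib.FibGrpd
  Groth.Agent.Lib.FpEquiv Groth.Agent.Lib.EquivOver Groth.Agent.Lib.AlgStFp
  Groth.Agent.Lib.AlgStRep Groth.Agent.Lib.AlgStSpTest Groth.Agent.Lib.AlgStEquiv
  Groth.Agent.Lib.AlgStAtlas Groth.Agent.Lib.AlgStRepStack Groth.Agent.Lib.AlgSpLocP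
  Groth.Agent.Lib.AlgStSrcLocal Groth.Agent.Lib.AlgStSmoothLocal Groth.Agent.Lib.AlgStNoeth
  Groth.Agent.Lib.PshFp Groth.Agent.Lib.FpBaseChange Groth.Agent.Lib.SliceFp

universe u

variable {S : Scheme.{u}} {𝒳 𝒴 𝒵 : AlgSt.Cat S}

/-- Composition for the two classes of an atlas. -/
theorem repByAlgSpWith_comp_atlasClass {𝒜 ℬ 𝒞 : AlgSt.Cat S} [FibCat.IsFibGrpd 𝒜.p]
    [FibCat.IsFibGrpd ℬ.p] (Q : MorphismProperty (AlgSp.Sp S)) (hQ : AtlasClass Q)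
    (a : 𝒜 ⥤ᵇ ℬ) (b : ℬ ⥤ᵇ 𝒞) (ha : AlgSt.RepByAlgSpWith Q a) (hb : AlgSt.RepByAlgSpWith Q b) :
    AlgSt.RepByAlgSpWith Q (BasedFunctor.comp a b) :=
  repByAlgSpWith_comp Q hQ.isoInv hQ.atlasLocal hQ.comp a b ha hb

/-- A chart square of `f` over a given chart `y` of the target whose comparison functor
`(Sch/U) ⟶ 𝒳 ×_𝒴 (Sch/V)` is an atlas of the fibre product. -/
theorem exists_chart_fp (h𝒳 : AlgSt.IsAlgStack Scheme.fppfPrecoverage 𝒳)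
    (h𝒴 : AlgSt.IsAlgStack Scheme.fppfPrecoverage 𝒴) (f : 𝒳 ⥤ᵇ 𝒴) {V : Over S}
    (y : FibCat.overCat V ⥤ᵇ 𝒴) :
    ∃ (U : Over S) (u : FibCat.overCat U ⥤ᵇ FibCat.fp f y) (h : U ⟶ V)
      (ib : BasedFunctor.comp u (FibCat.fpSnd f y) ≅ AlgSt.overMap h),
      AlgSt.RepByAlgSpWith (AlgSp.LocP @Smooth) u ∧ AlgSt.RepByAlgSpWith AlgSp.IsSurjectiveMor u ∧
      AlgSt.RepByAlgSpWith (AlgSp.LocP @Smooth)
        (FibCat.fpLift (BasedFunctor.comp u (FibCat.fpFst f y)) (AlgSt.overMap h)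
          (fpLiftEtaIso f y u (AlgSt.overMap h) ib)) ∧
      AlgSt.RepByAlgSpWith AlgSp.IsSurjectiveMor
        (FibCat.fpLift (BasedFunctor.comp u (FibCat.fpFst f y)) (AlgSt.overMap h)
          (fpLiftEtaIso f y u (AlgSt.overMap h) ib)) := by
  have hV : AlgSt.IsAlgStack Scheme.fppfPrecoverage (FibCat.overCat V) :=
    (isDM_of_repByAlgSp (repByAlgSp_overCat V)).1
  have hfp : AlgSt.IsAlgStack Scheme.fppfPrecoverage (FibCat.fp f y) :=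
    Groth.Agent.Lib.AlgStFpStack.isAlgStack_fp_of _ h𝒴.isStack h𝒴.diag h𝒳 hV f y
  obtain ⟨U, u, hu, hus⟩ := hfp.atlas
  let b : FibCat.overCat U ⥤ᵇ FibCat.overCat V := BasedFunctor.comp u (FibCat.fpSnd f y)
  let h : U ⟶ V := overYonedaMor b
  let ib : b ≅ AlgSt.overMap h := overYonedaIso b
  refine ⟨U, u, h, ib, hu, hus, ?_, ?_⟩
  · exact (Groth.Agent.Lib.AlgStDiag3.repByAlgSpWith_congr _
      (fpLiftEta f y u (AlgSt.overMap h) ib).symm).1 hu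
  · exact (Groth.Agent.Lib.AlgStDiag3.repByAlgSpWith_congr _
      (fpLiftEta f y u (AlgSt.overMap h) ib).symm).1 hus

/-- Smooth and surjective. -/
def IsAtl {𝒜 ℬ : AlgSt.Cat S} (w : 𝒜 ⥤ᵇ ℬ) : Prop :=
  AlgSt.RepByAlgSpWith (AlgSp.LocP @Smooth) w ∧ AlgSt.RepByAlgSpWith AlgSp.IsSurjectiveMor w

theorem IsAtl.comp {𝒜 ℬ 𝒞 : AlgSt.Cat S} [FibCat.IsFibGrpd 𝒜.p] [FibCat.IsFibGrpd ℬ.p]
    {a : 𝒜 ⥤ᵇ ℬ} {b : ℬ ⥤ᵇ 𝒞} (ha : IsAtl a) (hb : IsAtl b) : IsAtl (BasedFunctor.comp a b) :=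
  ⟨repByAlgSpWith_comp_atlasClass _ atlasClass_locP_smooth a b ha.1 hb.1,
    repByAlgSpWith_comp_atlasClass _ atlasClass_isSurjectiveMor a b ha.2 hb.2⟩

theorem IsAtl.of_isEquivOver {𝒜 ℬ : AlgSt.Cat S} (w : 𝒜 ⥤ᵇ ℬ) (hw : FibCat.IsEquivOver w) :
    IsAtl w :=
  ⟨Groth.Agent.Lib.AlgStEquivRep.repByAlgSpWith_of_isEquivOver _
      (fun T => Groth.Agent.Lib.H69AlgSpLocST.locP_smooth_id (AlgSp.IsAlgSpace.yon_obj T)) _ hw,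
    Groth.Agent.Lib.AlgStEquivRep.repByAlgSpWith_of_isEquivOver _
      (fun U => by
        intro x
        exact ⟨x, by simp [AlgSp.Points.map_id]⟩) _ hw⟩

theorem IsAtl.congr {𝒜 ℬ : AlgSt.Cat S} {w w' : 𝒜 ⥤ᵇ ℬ} (e : w' ≅ w) (hw : IsAtl w) : IsAtl w' :=
  ⟨(Groth.Agent.Lib.AlgStDiag3.repByAlgSpWith_congr _ e).1 hw.1,
    (Groth.Agent.Lib.AlgStDiag3.repByAlgSpWith_congr _ e).1 hw.2⟩

/-- **A tower of charts.** Charts `U ⟶ V ⟶ W` of `𝒳 ⟶ 𝒴 ⟶ 𝒵` such that `W ⟶ 𝒵`, `V ⟶ 𝒴 ×_𝒵 W`,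
`U ⟶ 𝒳 ×_𝒴 V` and `U ⟶ 𝒳 ×_𝒵 W` are smooth and surjective. -/
theorem exists_tower (h𝒳 : AlgSt.IsAlgStack Scheme.fppfPrecoverage 𝒳)
    (h𝒴 : AlgSt.IsAlgStack Scheme.fppfPrecoverage 𝒴)
    (h𝒵 : AlgSt.IsAlgStack Scheme.fppfPrecoverage 𝒵) (f : 𝒳 ⥤ᵇ 𝒴) (g : 𝒴 ⥤ᵇ 𝒵) :
    ∃ (U V W : Over S) (x : FibCat.overCat U ⥤ᵇ 𝒳) (y : FibCat.overCat V ⥤ᵇ 𝒴)
      (z : FibCat.overCat W ⥤ᵇ 𝒵) (hUV : U ⟶ V) (hVW : V ⟶ W)
      (αf : BasedFunctor.comp x f ≅ BasedFunctor.comp (AlgSt.overMap hUV) y)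
      (αg : BasedFunctor.comp y g ≅ BasedFunctor.comp (AlgSt.overMap hVW) z)
      (αfg : BasedFunctor.comp x (BasedFunctor.comp f g) ≅
        BasedFunctor.comp (AlgSt.overMap (hUV ≫ hVW)) z),
      IsAtl x ∧ IsAtl y ∧ IsAtl z ∧ IsAtl (FibCat.fpLift x (AlgSt.overMap hUV) αf) ∧
        IsAtl (FibCat.fpLift y (AlgSt.overMap hVW) αg) ∧
        IsAtl (FibCat.fpLift x (AlgSt.overMap (hUV ≫ hVW)) αfg) := by
  haveI : FibCat.IsFibGrpd 𝒳.p := h𝒳.isStack.1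
  haveI : FibCat.IsFibGrpd 𝒴.p := h𝒴.isStack.1
  haveI : FibCat.IsFibGrpd 𝒵.p := h𝒵.isStack.1
  obtain ⟨W, z, hz, hzs⟩ := h𝒵.atlas
  obtain ⟨V, v, hVW, ibv, hv, hvs, hLv, hLvs⟩ := exists_chart_fp h𝒴 h𝒵 g z
  haveI : FibCat.IsFibGrpd (FibCat.fp g z).p := fp_isFibGrpd _ _
  have hy : IsAtl (BasedFunctor.comp v (FibCat.fpFst g z)) :=
    IsAtl.comp ⟨hv, hvs⟩ ⟨Groth.Agent.Lib.AlgStRep.repByAlgSpWith_fpFst _ z g hz,
      Groth.Agent.Lib.AlgStRep.repByAlgSpWith_fpFst _ z g hzs⟩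
  obtain ⟨U, u, hUV, ibu, hu, hus, hLu, hLus⟩ :=
    exists_chart_fp h𝒳 h𝒴 f (BasedFunctor.comp v (FibCat.fpFst g z))
  haveI : FibCat.IsFibGrpd (FibCat.fp f (BasedFunctor.comp v (FibCat.fpFst g z))).p :=
    fp_isFibGrpd _ _
  haveI : FibCat.IsFibGrpd (FibCat.fp f (FibCat.fpFst g z)).p := fp_isFibGrpd _ _
  have hx : IsAtl (BasedFunctor.comp u (FibCat.fpFst f (BasedFunctor.comp v (FibCat.fpFst g z)))) :=
    IsAtl.comp ⟨hu, hus⟩ ⟨Groth.Agent.Lib.AlgStRep.repByAlgSpWith_fpFst _ _ f hy.1,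
      Groth.Agent.Lib.AlgStRep.repByAlgSpWith_fpFst _ _ f hy.2⟩
  let c : FibCat.overCat U ⥤ᵇ FibCat.fp (BasedFunctor.comp f g) z :=
    BasedFunctor.comp (BasedFunctor.comp u (fpMapRight f (FibCat.fpFst g z) v))
      (fpPasteLeft f g z)
  have hc : IsAtl c :=
    IsAtl.comp (IsAtl.comp ⟨hu, hus⟩ ⟨repByAlgSpWith_fpMapRight _ f (FibCat.fpFst g z) v hv,
      repByAlgSpWith_fpMapRight _ f (FibCat.fpFst g z) v hvs⟩)
      (IsAtl.of_isEquivOver _ (fpPasteLeft_isEquivOver f g z))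
  let ι₀ : BasedFunctor.comp c (FibCat.fpSnd (BasedFunctor.comp f g) z) ≅
      BasedFunctor.comp (AlgSt.overMap hUV) (AlgSt.overMap hVW) :=
    whiskerRightIso ibu (BasedFunctor.comp v (FibCat.fpSnd g z)) ≪≫
      whiskerLeftIso (AlgSt.overMap hUV) ibv
  have e0 : overMapB (overYonedaMor (BasedFunctor.comp (overMapB hUV) (overMapB hVW))) =
      AlgSt.overMap (hUV ≫ hVW) := by
    rw [overYonedaMor_comp_overMapB]
    rfl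
  let ibc : BasedFunctor.comp c (FibCat.fpSnd (BasedFunctor.comp f g) z) ≅
      AlgSt.overMap (hUV ≫ hVW) :=
    ι₀ ≪≫ overYonedaIso (BasedFunctor.comp (overMapB hUV) (overMapB hVW)) ≪≫ eqToIso e0
  exact ⟨U, V, W, _, _, z, hUV, hVW, fpLiftEtaIso f _ u (AlgSt.overMap hUV) ibu,
    fpLiftEtaIso g z v (AlgSt.overMap hVW) ibv,
    fpLiftEtaIso (BasedFunctor.comp f g) z c (AlgSt.overMap (hUV ≫ hVW)) ibc,
    hx, hy, ⟨hz, hzs⟩, ⟨hLu, hLus⟩, ⟨hLv, hLvs⟩,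
    IsAtl.congr (fpLiftEta (BasedFunctor.comp f g) z c (AlgSt.overMap (hUV ≫ hVW)) ibc).symm hc⟩

end Groth.Agent.Lib.AlgStLocQ
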