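import Groth.Agent.Lib.AlgStFpStack2

/-!
# Compositions of morphisms of algebraic stacks defined by base change (helper64)

* `isQuasiCompactMor_comp` (= S12983), `isUnivInjective_comp` (= S13568), and the analogous
  statements for universally open / closed / homeomorphic morphisms.
-/

set_option autoImplicit false
set_option linter.style.haveILetI false
set_option backward.isDefEq.respectTransparency false
set_option backward.isDefEq.respectTransparency.types false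

namespace Groth.Agent.Lib.AlgStMorComp

open CategoryTheory Functor Opposite Limits AlgebraicGeometry Groth.Agent.Lib.FibGrpd
  Groth.Agent.Lib.FpEquiv Groth.Agent.Lib.EquivOver Groth.Agent.Lib.AlgStEquiv
  Groth.Agent.Lib.AlgStFpStack

universe u

variable {S : Scheme.{u}} {𝒳 𝒴 𝒵 : AlgSt.Cat S}

/-- The composition of quasi-compact morphisms of algebraic stacks is quasi-compact. -/
theorem isQuasiCompactMor_comp (K : Precoverage Scheme.{u}) (h𝒴 : AlgSt.IsAlgStack K 𝒴)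
    (h𝒵 : AlgSt.IsAlgStack K 𝒵) (f : 𝒳 ⥤ᵇ 𝒴) (g : 𝒴 ⥤ᵇ 𝒵)
    (hf : AlgSt.IsQuasiCompactMor K f) (hg : AlgSt.IsQuasiCompactMor K g) :
    AlgSt.IsQuasiCompactMor K (BasedFunctor.comp f g) := by
  intro 𝒲 h𝒲 hqc h
  have h1 : AlgSt.IsAlgStack K (FibCat.fp h g) :=
    isAlgStack_fp_of K h𝒵.isStack h𝒵.diag h𝒲 h𝒴 h g
  have h2 : AlgSt.IsQuasiCompact (FibCat.fp h g) := hg 𝒲 h𝒲 hqc h
  have h3 := hf (FibCat.fp h g) h1 h2 (FibCat.fpSnd h g)
  exact (isQuasiCompact_iff_of_isEquivOver (fpPasteRight h g f)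
    (fpPasteRight_isEquivOver h g f)).1 h3

/-- The first projection of `𝒲 ×_𝒵 𝒳` factors through the pasting equivalence. -/
theorem points_map_fpFst_pasteRight {𝒲 : AlgSt.Cat S} (f : 𝒳 ⥤ᵇ 𝒴) (g : 𝒴 ⥤ᵇ 𝒵) (h : 𝒲 ⥤ᵇ 𝒵)
    (p : AlgSt.Points (FibCat.fp (FibCat.fpSnd h g) f)) :
    AlgSt.Points.map (FibCat.fpFst h (BasedFunctor.comp f g))
        (AlgSt.Points.map (fpPasteRight h g f) p) =
      AlgSt.Points.map (FibCat.fpFst h g)
        (AlgSt.Points.map (FibCat.fpFst (FibCat.fpSnd h g) f) p) := by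
  rw [← points_map_comp, ← points_map_comp]
  exact points_map_congr (Iso.refl _) p

/-- The composition of universally injective morphisms of algebraic stacks is universally injective. -/
theorem isUnivInjective_comp (K : Precoverage Scheme.{u}) (h𝒴 : AlgSt.IsAlgStack K 𝒴)
    (h𝒵 : AlgSt.IsAlgStack K 𝒵) (f : 𝒳 ⥤ᵇ 𝒴) (g : 𝒴 ⥤ᵇ 𝒵)
    (hf : AlgSt.IsUnivInjective K f) (hg : AlgSt.IsUnivInjective K g) :
    AlgSt.IsUnivInjective K (BasedFunctor.comp f g) := by
  intro 𝒲 h𝒲 h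
  have h1 : AlgSt.IsAlgStack K (FibCat.fp h g) :=
    isAlgStack_fp_of K h𝒵.isStack h𝒵.diag h𝒲 h𝒴 h g
  have i1 := hf (FibCat.fp h g) h1 (FibCat.fpSnd h g)
  have i2 := hg 𝒲 h𝒲 h
  intro p q hpq
  obtain ⟨p', rfl⟩ := points_map_surjective_of_isEquivOver (fpPasteRight h g f)
    (fpPasteRight_isEquivOver h g f) p
  obtain ⟨q', rfl⟩ := points_map_surjective_of_isEquivOver (fpPasteRight h g f)
    (fpPasteRight_isEquivOver h g f) q
  rw [points_map_fpFst_pasteRight, points_map_fpFst_pasteRight] at hpq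
  rw [i1 (i2 hpq)]

end Groth.Agent.Lib.AlgStMorComp
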