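import Groth.Agent.Lib.AlgStPtsQC
import Groth.Agent.Lib.AlgStMorComp

/-!
# Quasi-compact morphisms of algebraic stacks via points (helper36)

ns `Groth.Agent.Lib.AlgStPtsQC2`

* `isQuasiCompact_of_equivOver`
* `isQuasiCompactMor_of_isSurjective_of_triangle` (= S12985)
-/

set_option autoImplicit false
set_option linter.style.haveILetI false
set_option backward.isDefEq.respectTransparency false
set_option backward.isDefEq.respectTransparency.types false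

namespace Groth.Agent.Lib.AlgStPtsQC2

open CategoryTheory CategoryTheory.Limits AlgebraicGeometry Opposite AlgSt
  Groth.Agent.Lib.H78AlgStPoints Groth.Agent.Lib.H78AlgStPointsFp Groth.Agent.Lib.AlgStPts
  Groth.Agent.Lib.AlgStPtsTop Groth.Agent.Lib.AlgStPtsSurj Groth.Agent.Lib.AlgStPtsMain
  Groth.Agent.Lib.AlgStPtsQC
  Groth.Agent.Lib.FibGrpd Groth.Agent.Lib.AlgStFp Groth.Agent.Lib.AlgStEquiv
  Groth.Agent.Lib.FpEquiv Groth.Agent.Lib.EquivOver Groth.Agent.Lib.AlgStFpStack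

universe u

variable {S : Scheme.{u}} {𝒳 𝒴 𝒵 : AlgSt.Cat S}

theorem isQuasiCompact_of_equivOver {𝒜 ℬ : AlgSt.Cat S} (h : EquivOver 𝒜 ℬ)
    (h𝒜 : IsQuasiCompact 𝒜) : IsQuasiCompact ℬ := by
  obtain ⟨E, hE⟩ := h
  exact (isQuasiCompact_iff_of_isEquivOver E hE).1 h𝒜

/-- = S12985 -/
theorem isQuasiCompactMor_of_isSurjective_of_triangle
    (h𝒳 : IsAlgStack Scheme.fppfPrecoverage 𝒳) (h𝒴 : IsAlgStack Scheme.fppfPrecoverage 𝒴)
    (h𝒵 : IsAlgStack Scheme.fppfPrecoverage 𝒵)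
    (f : 𝒳 ⥤ᵇ 𝒴) (p : 𝒳 ⥤ᵇ 𝒵) (q : 𝒴 ⥤ᵇ 𝒵) (e : BasedFunctor.comp f q ≅ p)
    (hf : IsSurjective f) (hp : IsQuasiCompactMor Scheme.fppfPrecoverage p) :
    IsQuasiCompactMor Scheme.fppfPrecoverage q := by
  intro 𝒲 h𝒲 hqc h
  haveI := h𝒳.isStack.1
  haveI := h𝒴.isStack.1
  haveI := h𝒵.isStack.1
  haveI := h𝒲.isStack.1
  have h1 : IsAlgStack Scheme.fppfPrecoverage (FibCat.fp h q) :=
    isAlgStack_fp_of _ h𝒵.isStack h𝒵.diag h𝒲 h𝒴 h q
  have h2 : IsAlgStack Scheme.fppfPrecoverage (FibCat.fp (FibCat.fpSnd h q) f) :=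
    isAlgStack_fp_of _ h𝒴.isStack h𝒴.diag h1 h𝒳 _ f
  have h3 : IsQuasiCompact (FibCat.fp h p) := hp 𝒲 h𝒲 hqc h
  have h4 : IsQuasiCompact (FibCat.fp h (BasedFunctor.comp f q)) :=
    isQuasiCompact_of_equivOver (fp_congr_right h e.symm) h3
  have h5 : IsQuasiCompact (FibCat.fp (FibCat.fpSnd h q) f) :=
    (isQuasiCompact_iff_of_isEquivOver (fpPasteRight h q f) (fpPasteRight_isEquivOver h q f)).2 h4
  haveI := h1.isStack.1
  haveI := h2.isStack.1
  exact isQuasiCompact_of_isSurjective h2.atlas h1.atlas (FibCat.fpFst (FibCat.fpSnd h q) f)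
    (isSurjective_fpFst inferInstance inferInstance inferInstance _ f hf) h5

theorem atlasClass_locP_flat : Groth.Agent.Lib.AlgStAtlas.AtlasClass (AlgSp.LocP (S := S) @Flat) :=
  Groth.Agent.Lib.AlgStAtlas.atlasClass_locP Groth.Agent.Lib.AlgSpLocP.etLocalClass_flat
    (fun _ _ g hg => by
      have : Etale g := hg
      exact (inferInstance : Flat g))

theorem atlasClass_locP_lfp :
    Groth.Agent.Lib.AlgStAtlas.AtlasClass (AlgSp.LocP (S := S) @LocallyOfFinitePresentation) :=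
  Groth.Agent.Lib.AlgStAtlas.atlasClass_locP Groth.Agent.Lib.AlgSpLocP.etLocalClass_lfp
    (fun _ _ g hg => by
      have : Etale g := hg
      exact (inferInstance : LocallyOfFinitePresentation g))

/-- The open subscheme `W ⊆ V` as a scheme over `S`. -/
abbrev openOver {V : Over S} (W : V.left.Opens) : Over S := Over.mk (W.ι ≫ V.hom)

/-- The inclusion of an open subscheme, over `S`. -/
abbrev openIncl {V : Over S} (W : V.left.Opens) : openOver W ⟶ V := Over.homMk W.ι rfl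

/-- A chart that is open and surjective on points of a quasi-compact stack can be shrunk to a
quasi-compact open of its source. -/
theorem exists_compact_open_chart {𝒯 : AlgSt.Cat S} [CompactSpace (Points 𝒯)] {V : Over S}
    (c : FibCat.overCat V ⥤ᵇ 𝒯) (hopen : IsOpenMap (Points.ofChart c))
    (hsurj : Function.Surjective (Points.ofChart c)) :
    ∃ W : V.left.Opens, CompactSpace ↥(openOver W).left ∧
      Function.Surjective (Points.ofChart (BasedFunctor.comp (AlgSt.overMap (openIncl W)) c)) := by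
  have hcov : Set.univ ⊆ ⋃ A : V.left.affineOpens, Points.ofChart c '' (A.1 : Set ↥V.left) := by
    intro ξ _
    obtain ⟨t, rfl⟩ := hsurj ξ
    obtain ⟨_, ⟨A, hA, rfl⟩, htA, -⟩ :=
      V.left.isBasis_affineOpens.exists_subset_of_mem_open (Set.mem_univ t) isOpen_univ
    exact Set.mem_iUnion.2 ⟨⟨A, hA⟩, t, htA, rfl⟩
  obtain ⟨s, hs⟩ := isCompact_univ.elim_finite_subcover
    (fun A : V.left.affineOpens => Points.ofChart c '' (A.1 : Set ↥V.left))
    (fun A => hopen _ A.1.2) hcov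
  let W : V.left.Opens := ⨆ A ∈ s, A.1
  have hWc : IsCompact (W : Set ↥V.left) := by
    have : (W : Set ↥V.left) = ⋃ A ∈ s, (A.1 : Set ↥V.left) := by
      simp [W]
    rw [this]
    exact s.isCompact_biUnion fun A _ => A.2.isCompact
  refine ⟨W, isCompact_iff_compactSpace.mp hWc, ?_⟩
  intro ξ
  obtain ⟨A, hA, t, htA, rfl⟩ : ∃ A ∈ s, ξ ∈ Points.ofChart c '' (A.1 : Set ↥V.left) := by
    simpa using hs (Set.mem_univ ξ)
  have htW : t ∈ W := by
    simp only [W, TopologicalSpace.Opens.mem_iSup]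
    exact ⟨A, hA, htA⟩
  refine ⟨⟨t, htW⟩, ?_⟩
  rw [ofChart_overMap_comp]
  rfl

theorem isAlgStack_overCat (T : Over S) :
    IsAlgStack Scheme.fppfPrecoverage (FibCat.overCat T) :=
  (isAlgStack_iff_of_isEquivOver _ (ofOverCat T) (ofOverCat_isEquivOver T)).2
    (Groth.Agent.Lib.AlgStRepStack.isDM_ofSp ⟨_, AlgSp.IsAlgSpace.yon_obj T⟩).1

/-- Key step: quasi-compactness of `𝒯 ×_𝒴 𝒳` from a quasi-compact scheme `T'` surjecting onto `𝒯`
through which `g` factors via `w`, when `W ×_𝒴 𝒳 ⟶ W` is quasi-compact. -/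
theorem isQuasiCompact_fp_of_factor {𝒲 𝒯 : AlgSt.Cat S}
    (h𝒳 : IsAlgStack Scheme.fppfPrecoverage 𝒳) (h𝒴 : IsAlgStack Scheme.fppfPrecoverage 𝒴)
    (h𝒯 : IsAlgStack Scheme.fppfPrecoverage 𝒯) (f : 𝒳 ⥤ᵇ 𝒴) (w : 𝒲 ⥤ᵇ 𝒴) (g : 𝒯 ⥤ᵇ 𝒴)
    (h : IsQuasiCompactMor Scheme.fppfPrecoverage (FibCat.fpFst w f))
    (T' : Over S) [CompactSpace ↥T'.left] (t : FibCat.overCat T' ⥤ᵇ 𝒯)
    (t' : FibCat.overCat T' ⥤ᵇ 𝒲) (α : BasedFunctor.comp t g ≅ BasedFunctor.comp t' w)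
    (ht : IsSurjective t) : IsQuasiCompact (FibCat.fp g f) := by
  haveI := h𝒳.isStack.1
  haveI := h𝒴.isStack.1
  haveI := h𝒯.isStack.1
  have hT' := isAlgStack_overCat (S := S) T'
  have h1 : IsQuasiCompact (FibCat.fp t' (FibCat.fpFst w f)) :=
    h _ hT' (Groth.Agent.Lib.AlgStQC.isQuasiCompact_overCat T') t'
  have h2 : IsQuasiCompact (FibCat.fp (BasedFunctor.comp t' w) f) :=
    (isQuasiCompact_iff_of_isEquivOver _ (fpPasteLeft_isEquivOver t' w f)).1 h1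
  have h3 : IsQuasiCompact (FibCat.fp (BasedFunctor.comp t g) f) :=
    isQuasiCompact_of_equivOver (fp_congr_left α f).symm h2
  have h4 : IsQuasiCompact (FibCat.fp t (FibCat.fpFst g f)) :=
    (isQuasiCompact_iff_of_isEquivOver _ (fpPasteLeft_isEquivOver t g f)).2 h3
  have a1 : IsAlgStack Scheme.fppfPrecoverage (FibCat.fp g f) :=
    isAlgStack_fp_of _ h𝒴.isStack h𝒴.diag h𝒯 h𝒳 g f
  have a2 : IsAlgStack Scheme.fppfPrecoverage (FibCat.fp t (FibCat.fpFst g f)) :=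
    isAlgStack_fp_of _ h𝒯.isStack h𝒯.diag hT' a1 t _
  haveI := a1.isStack.1
  haveI := a2.isStack.1
  exact isQuasiCompact_of_isSurjective a2.atlas a1.atlas (FibCat.fpSnd t (FibCat.fpFst g f))
    (isSurjective_fpSnd (overCat_isFibGrpd T') inferInstance inferInstance t _ ht) h4

theorem isSurjective_comp {𝒜 ℬ 𝒞 : AlgSt.Cat S} (a : 𝒜 ⥤ᵇ ℬ) (b : ℬ ⥤ᵇ 𝒞) (ha : IsSurjective a)
    (hb : IsSurjective b) : IsSurjective (BasedFunctor.comp a b) := by
  intro ξ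
  obtain ⟨η, rfl⟩ := hb ξ
  obtain ⟨ζ, rfl⟩ := ha η
  exact ⟨ζ, map_comp a b ζ⟩

/-- = S12989 -/
theorem isQuasiCompactMor_of_fpFst_space_cover
    (h𝒳 : IsAlgStack Scheme.fppfPrecoverage 𝒳) (h𝒴 : IsAlgStack Scheme.fppfPrecoverage 𝒴)
    (f : 𝒳 ⥤ᵇ 𝒴) (W : AlgSp.Space S) (w : ofSp W.obj ⥤ᵇ 𝒴)
    (hw₁ : RepByAlgSpWith (AlgSp.LocP @Flat) w)
    (hw₂ : RepByAlgSpWith (AlgSp.LocP @LocallyOfFinitePresentation) w)
    (hw₃ : RepByAlgSpWith AlgSp.IsSurjectiveMor w)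
    (h : IsQuasiCompactMor Scheme.fppfPrecoverage (FibCat.fpFst w f)) :
    IsQuasiCompactMor Scheme.fppfPrecoverage f := by
  intro 𝒯 h𝒯 hqc g
  haveI := h𝒳.isStack.1
  haveI := h𝒴.isStack.1
  haveI := h𝒯.isStack.1
  have hW : IsAlgStack Scheme.fppfPrecoverage (ofSp W.obj) :=
    (Groth.Agent.Lib.AlgStRepStack.isDM_ofSp W).1
  have h𝒫 : IsAlgStack Scheme.fppfPrecoverage (FibCat.fp g w) :=
    isAlgStack_fp_of _ h𝒴.isStack h𝒴.diag h𝒯 hW g w
  haveI := h𝒫.isStack.1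
  obtain ⟨V, Y, hY1, hY2⟩ := h𝒫.atlas
  have hYfl := flatLfp_repByAlgSpWith_of_smooth Y hY1
  have hπ₁ := Groth.Agent.Lib.AlgStRep.repByAlgSpWith_fpFst _ w g hw₁
  have hπ₂ := Groth.Agent.Lib.AlgStRep.repByAlgSpWith_fpFst _ w g hw₂
  have hπ₃ := Groth.Agent.Lib.AlgStRep.repByAlgSpWith_fpFst _ w g hw₃
  have hc₁ : RepByAlgSpWith (AlgSp.LocP @Flat) (BasedFunctor.comp Y (FibCat.fpFst g w)) :=
    Groth.Agent.Lib.AlgStSpTest.repByAlgSpWith_comp _ atlasClass_locP_flat.isoInv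
      atlasClass_locP_flat.atlasLocal atlasClass_locP_flat.comp Y _ hYfl.1 hπ₁
  have hc₂ : RepByAlgSpWith (AlgSp.LocP @LocallyOfFinitePresentation)
      (BasedFunctor.comp Y (FibCat.fpFst g w)) :=
    Groth.Agent.Lib.AlgStSpTest.repByAlgSpWith_comp _ atlasClass_locP_lfp.isoInv
      atlasClass_locP_lfp.atlasLocal atlasClass_locP_lfp.comp Y _ hYfl.2 hπ₂
  have hopen := isOpenMap_ofChart _ hc₁ hc₂
  have hsurj : Function.Surjective
      (Points.ofChart (BasedFunctor.comp Y (FibCat.fpFst g w))) := by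
    intro ξ
    obtain ⟨η, rfl⟩ := isSurjective_of_repByAlgSpWith _ hπ₃ ξ
    obtain ⟨v, rfl⟩ := surjective_ofChart Y hY2 η
    exact ⟨v, rfl⟩
  haveI := compactSpace_of_isQuasiCompact h𝒯.atlas hqc
  obtain ⟨W₀, hW₀c, hW₀s⟩ := exists_compact_open_chart _ hopen hsurj
  haveI := hW₀c
  exact isQuasiCompact_fp_of_factor h𝒳 h𝒴 h𝒯 f w g h (openOver W₀)
    (BasedFunctor.comp (AlgSt.overMap (openIncl W₀)) (BasedFunctor.comp Y (FibCat.fpFst g w)))
    (BasedFunctor.comp (AlgSt.overMap (openIncl W₀)) (BasedFunctor.comp Y (FibCat.fpSnd g w)))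
    (whiskerLeftIso (BasedFunctor.comp (AlgSt.overMap (openIncl W₀)) Y) (FibCat.fpIso g w))
    (isSurjective_of_surjective_ofChart _ hW₀s)

end Groth.Agent.Lib.AlgStPtsQC2
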