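import Groth.Agent.Lib.AlgStFpStack2
import Groth.Agent.Lib.AlgStDiagLocP

/-!
# Properties local on the source: descending along a surjective smooth / etale / fppf morphism
(helper64)

* `repByAlgSpWith_and` : conjunction of two `RepByAlgSpWith` (same representing space).
* `repByAlgSpWith_of_comp_of_cover` : if `x` is a "covering" morphism (class `C`), `y` is representable
  by algebraic spaces, `P` descends along `C`-morphisms on the source and `x ≫ y` has `P`, then `y` has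
  `P`.
* `repByAlgSpWith_of_comp_smooth` (= S12849), `_etale` (= S12850), `_fppf` (= S12851).
-/

set_option autoImplicit false
set_option linter.style.haveILetI false
set_option backward.isDefEq.respectTransparency false
set_option backward.isDefEq.respectTransparency.types false

namespace Groth.Agent.Lib.AlgStSrcLocal

open CategoryTheory Functor Opposite Limits AlgebraicGeometry Groth.Agent.Lib.FibGrpd
  Groth.Agent.Lib.FpEquiv Groth.Agent.Lib.EquivOver Groth.Agent.Lib.AlgStFp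
  Groth.Agent.Lib.AlgStRep Groth.Agent.Lib.AlgStSpTest Groth.Agent.Lib.AlgStEquiv
  Groth.Agent.Lib.AlgSpLocP

universe v₃ u₃ v₂ u₂ u

variable {S : Scheme.{u}}

section General

variable {𝒳 : BasedCategory.{v₂, u₂} (Over S)} {𝒴 : BasedCategory.{v₃, u₃} (Over S)}

/-- Two properties of a functor representable by algebraic spaces hold for the same representing
space. -/
theorem repByAlgSpWith_and (P Q : MorphismProperty (AlgSp.Sp S)) (hQi : IsoInv Q) (f : 𝒳 ⥤ᵇ 𝒴)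
    (hP : AlgSt.RepByAlgSpWith P f) (hQ : AlgSt.RepByAlgSpWith Q f) :
    AlgSt.RepByAlgSpWith (fun _ _ a => P a ∧ Q a) f := by
  intro U y
  obtain ⟨F, e, he, hPF⟩ := hP U y
  refine ⟨F, e, he, hPF, ?_⟩
  have h1 : RepData Q (BasedFunctor.comp e (FibCat.fpFst y f)) :=
    repData_of_equiv' e he (Iso.refl _) (hQ U y)
  exact prop_spMapOfOver_of_repData Q hQi F.property _ h1

theorem isoInv_and {P Q : MorphismProperty (AlgSp.Sp S)} (hP : IsoInv P) (hQ : IsoInv Q) :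
    IsoInv (fun _ _ a => P a ∧ Q a) :=
  fun _ _ _ hX hX' hY i f h => ⟨hP hX hX' hY i f h.1, hQ hX hX' hY i f h.2⟩

theorem atlasLocal_and {P Q : MorphismProperty (AlgSp.Sp S)} (hP : AtlasLocal P)
    (hQ : AtlasLocal Q) : AtlasLocal (fun _ _ a => P a ∧ Q a) :=
  fun _ _ _ hZ hV hX a _ p hpe hps fst snd sq h =>
    ⟨hP hZ hV hX a p hpe hps fst snd sq h.1, hQ hZ hV hX a p hpe hps fst snd sq h.2⟩

end General

section Main

variable {𝒳 𝒴 𝒵 : AlgSt.Cat S}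

/-- Descent of `P` along a covering morphism on the source. -/
theorem repByAlgSpWith_of_comp_of_cover [FibCat.IsFibGrpd 𝒳.p] [FibCat.IsFibGrpd 𝒴.p]
    (P C : MorphismProperty (AlgSp.Sp S)) (hPi : IsoInv P) (hCi : IsoInv C) (hCl : AtlasLocal C)
    (hloc : ∀ ⦃V G H : AlgSp.Sp S⦄, AlgSp.IsAlgSpace V → AlgSp.IsAlgSpace G → AlgSp.IsAlgSpace H →
      ∀ (a : V ⟶ G) (b : G ⟶ H), C a → P (a ≫ b) → P b)
    (x : 𝒳 ⥤ᵇ 𝒴) (y : 𝒴 ⥤ᵇ 𝒵) (hy : AlgSt.RepByAlgSp1 y) (hx : AlgSt.RepByAlgSpWith C x)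
    (h : AlgSt.RepByAlgSpWith P (BasedFunctor.comp x y)) : AlgSt.RepByAlgSpWith P y := by
  intro U z
  obtain ⟨G, eG, heG⟩ := hy U z
  refine ⟨G, eG, heG, ?_⟩
  obtain ⟨V, a, e, he, ⟨γ⟩, ha⟩ := exists_rep_over_space C hCi hCl x hx G
    (BasedFunctor.comp eG (FibCat.fpSnd z y))
  let α : BasedFunctor.comp (BasedFunctor.comp eG (FibCat.fpSnd z y)) (BasedFunctor.id 𝒴) ≅
      BasedFunctor.comp eG (FibCat.fpSnd z y) := compIdIso _
  let β : BasedFunctor.comp x (BasedFunctor.id 𝒴) ≅ BasedFunctor.comp (BasedFunctor.id 𝒳) x :=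
    compIdIso x ≪≫ (idCompIso x).symm
  haveI : (BasedFunctor.id 𝒴).toFunctor.Full := id_full
  haveI : (BasedFunctor.id 𝒴).toFunctor.Faithful := id_faithful
  let c₂ : FibCat.fp (BasedFunctor.comp eG (FibCat.fpSnd z y)) x ⥤ᵇ
      FibCat.fp (FibCat.fpSnd z y) x :=
    fpMap eG (BasedFunctor.id 𝒳) (BasedFunctor.id 𝒴) α β
  have h₂ : FibCat.IsEquivOver c₂ :=
    fpMap_isEquivOver eG (BasedFunctor.id 𝒳) (BasedFunctor.id 𝒴) α β heG isEquivOver_id
  let c₃ : FibCat.fp (FibCat.fpSnd z y) x ⥤ᵇ FibCat.fp z (BasedFunctor.comp x y) :=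
    fpPasteRight z y x
  have h₃ : FibCat.IsEquivOver c₃ := fpPasteRight_isEquivOver z y x
  have hE : FibCat.IsEquivOver (BasedFunctor.comp (BasedFunctor.comp e c₂) c₃) :=
    isEquivOver_comp (isEquivOver_comp he h₂) h₃
  have key : AlgSt.spMapOfOver (BasedFunctor.comp (BasedFunctor.comp (BasedFunctor.comp e c₂) c₃)
      (FibCat.fpFst z (BasedFunctor.comp x y))) =
      a.hom ≫ AlgSt.spMapOfOver (BasedFunctor.comp eG (FibCat.fpFst z y)) := by
    rw [← spMapOfOver_ofSpMap_comp]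
    exact spMapOfOver_congr (whiskerRightIso γ (BasedFunctor.comp eG (FibCat.fpFst z y))).hom
  have h1 : RepData P (BasedFunctor.comp (BasedFunctor.comp (BasedFunctor.comp e c₂) c₃)
      (FibCat.fpFst z (BasedFunctor.comp x y))) :=
    repData_of_equiv' _ hE (Iso.refl _) (h U z)
  have h2 := prop_spMapOfOver_of_repData P hPi V.property _ h1
  rw [key] at h2
  exact hloc V.property G.property (AlgSp.IsAlgSpace.yon_obj U) a.hom _ ha h2

end Main

section Instances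

variable {𝒳 𝒴 𝒵 : AlgSt.Cat S}

/-- = S12849. -/
theorem repByAlgSpWith_of_comp_smooth [FibCat.IsFibGrpd 𝒳.p] [FibCat.IsFibGrpd 𝒴.p]
    (P : MorphismProperty (AlgSp.Sp S)) (hPi : IsoInv P)
    (hP' : AlgSp.IsLocalOnSource AlgSp.IsSmCover P)
    (x : 𝒳 ⥤ᵇ 𝒴) (y : 𝒴 ⥤ᵇ 𝒵) (hy : AlgSt.RepByAlgSp1 y)
    (hx₁ : AlgSt.RepByAlgSpWith (AlgSp.LocP @Smooth) x)
    (hx₂ : AlgSt.RepByAlgSpWith AlgSp.IsSurjectiveMor x)
    (h : AlgSt.RepByAlgSpWith P (BasedFunctor.comp x y)) : AlgSt.RepByAlgSpWith P y := by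
  refine repByAlgSpWith_of_comp_of_cover P
    (fun _ _ a => AlgSp.LocP @Smooth a ∧ AlgSp.IsSurjectiveMor a) hPi
    (isoInv_and (Groth.Agent.Lib.AlgStAtlas.isoInv_locP _)
      Groth.Agent.Lib.AlgStAtlas.isoInv_isSurjectiveMor)
    (atlasLocal_and (Groth.Agent.Lib.AlgStDiagLocP.atlasLocal_locP etLocalClass_smooth)
      Groth.Agent.Lib.AlgStAtlas.atlasLocal_isSurjectiveMor) ?_ x y hy
    (repByAlgSpWith_and _ _ Groth.Agent.Lib.AlgStAtlas.isoInv_isSurjectiveMor x hx₁ hx₂) h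
  intro V G H hV hG hH a b hab hP
  exact (hP' (fun _ : PUnit.{u + 1} => V) (fun _ => a) hG (fun _ => hV)
    ⟨fun _ => hab.1, fun t => ⟨PUnit.unit, hab.2 t⟩⟩ b hH).2 (fun _ => hP)

/-- = S12850. -/
theorem repByAlgSpWith_of_comp_etale [FibCat.IsFibGrpd 𝒳.p] [FibCat.IsFibGrpd 𝒴.p]
    (P : MorphismProperty (AlgSp.Sp S)) (hPi : IsoInv P)
    (hP' : AlgSp.IsLocalOnSource AlgSp.IsEtCover P)
    (x : 𝒳 ⥤ᵇ 𝒴) (y : 𝒴 ⥤ᵇ 𝒵) (hy : AlgSt.RepByAlgSp1 y)
    (hx₁ : AlgSt.RepByAlgSpWith AlgSp.IsEtaleMor x)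
    (hx₂ : AlgSt.RepByAlgSpWith AlgSp.IsSurjectiveMor x)
    (h : AlgSt.RepByAlgSpWith P (BasedFunctor.comp x y)) : AlgSt.RepByAlgSpWith P y := by
  refine repByAlgSpWith_of_comp_of_cover P
    (fun _ _ a => AlgSp.LocP @Etale a ∧ AlgSp.IsSurjectiveMor a) hPi
    (isoInv_and (Groth.Agent.Lib.AlgStAtlas.isoInv_locP _)
      Groth.Agent.Lib.AlgStAtlas.isoInv_isSurjectiveMor)
    (atlasLocal_and (Groth.Agent.Lib.AlgStDiagLocP.atlasLocal_locP etLocalClass_etale)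
      Groth.Agent.Lib.AlgStAtlas.atlasLocal_isSurjectiveMor) ?_ x y hy
    (repByAlgSpWith_and _ _ Groth.Agent.Lib.AlgStAtlas.isoInv_isSurjectiveMor x
      ((Groth.Agent.Lib.AlgStFpStack.repByAlgSpWith_isEtaleMor_iff x).1 hx₁) hx₂) h
  intro V G H hV hG hH a b hab hP
  exact (hP' (fun _ : PUnit.{u + 1} => V) (fun _ => a) hG (fun _ => hV)
    ⟨fun _ => (isEtaleMor_iff_locP hG a).2 hab.1, fun t => ⟨PUnit.unit, hab.2 t⟩⟩ b hH).2
    (fun _ => hP)

/-- = S12851. -/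
theorem repByAlgSpWith_of_comp_fppf [FibCat.IsFibGrpd 𝒳.p] [FibCat.IsFibGrpd 𝒴.p]
    (P : MorphismProperty (AlgSp.Sp S)) (hPi : IsoInv P)
    (hP' : AlgSp.IsLocalOnSource AlgSp.IsFppfCover P)
    (x : 𝒳 ⥤ᵇ 𝒴) (y : 𝒴 ⥤ᵇ 𝒵) (hy : AlgSt.RepByAlgSp1 y)
    (hx₁ : AlgSt.RepByAlgSpWith (AlgSp.LocP @Flat) x)
    (hx₂ : AlgSt.RepByAlgSpWith (AlgSp.LocP @LocallyOfFinitePresentation) x)
    (hx₃ : AlgSt.RepByAlgSpWith AlgSp.IsSurjectiveMor x)
    (h : AlgSt.RepByAlgSpWith P (BasedFunctor.comp x y)) : AlgSt.RepByAlgSpWith P y := by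
  refine repByAlgSpWith_of_comp_of_cover P
    (fun _ _ a => (AlgSp.LocP @Flat a ∧ AlgSp.LocP @LocallyOfFinitePresentation a) ∧
      AlgSp.IsSurjectiveMor a) hPi
    (isoInv_and (isoInv_and (Groth.Agent.Lib.AlgStAtlas.isoInv_locP _)
      (Groth.Agent.Lib.AlgStAtlas.isoInv_locP _))
      Groth.Agent.Lib.AlgStAtlas.isoInv_isSurjectiveMor)
    (atlasLocal_and (atlasLocal_and
      (Groth.Agent.Lib.AlgStDiagLocP.atlasLocal_locP etLocalClass_flat)
      (Groth.Agent.Lib.AlgStDiagLocP.atlasLocal_locP etLocalClass_lfp))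
      Groth.Agent.Lib.AlgStAtlas.atlasLocal_isSurjectiveMor) ?_ x y hy
    (repByAlgSpWith_and _ _ Groth.Agent.Lib.AlgStAtlas.isoInv_isSurjectiveMor x
      (repByAlgSpWith_and _ _ (Groth.Agent.Lib.AlgStAtlas.isoInv_locP _) x hx₁ hx₂) hx₃) h
  intro V G H hV hG hH a b hab hP
  exact (hP' (fun _ : PUnit.{u + 1} => V) (fun _ => a) hG (fun _ => hV)
    ⟨fun _ => hab.1, fun t => ⟨PUnit.unit, hab.2 t⟩⟩ b hH).2 (fun _ => hP)

end Instances

end Groth.Agent.Lib.AlgStSrcLocal
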