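import Groth.Agent.Lib.AlgStPtsSurj
import Groth.Agent.Lib.AlgSpFlatPt
import Groth.Agent.Lib.AlgStSrcLocal
import Groth.Agent.Lib.AlgStRepC
import Groth.Agent.Lib.AlgStDiagDict
import Groth.Agent.Lib.AlgStDiag3
import Groth.Agent.Lib.AlgStPtsQC2
import Groth.Agent.Lib.AlgStLocQ4
import Groth.Agent.Lib.AlgSpQC
import Groth.Agent.S12765

/-!
# Field-valued points of algebraic stacks with one point (helper36)

ns `Groth.Agent.Lib.AlgStFieldPt`

* `locP_flat_to_field` : every morphism from an algebraic space to the spectrum of a field is flat.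
* `repByAlgSpWith_flat_of_comp_flat_cover` : flatness of a representable morphism can be checked
  after precomposing with a flat surjective representable morphism.
* `subsingleton_points_overCat_field` : `|Spec k|` is a singleton.
* `surjective_flat_fieldPt` : Stacks 06MM-like: if some field point of an algebraic stack is
  surjective and flat, every field point is.
-/

set_option autoImplicit false
set_option linter.style.haveILetI false
set_option backward.isDefEq.respectTransparency false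
set_option backward.isDefEq.respectTransparency.types false

namespace Groth.Agent.Lib.AlgStFieldPt

open CategoryTheory CategoryTheory.Limits AlgebraicGeometry Opposite AlgSt
  Groth.Agent.Lib.H78AlgStPoints Groth.Agent.Lib.H78AlgStPointsFp Groth.Agent.Lib.AlgStPts
  Groth.Agent.Lib.AlgStPtsTop Groth.Agent.Lib.FibGrpd Groth.Agent.Lib.FibYoneda
  Groth.Agent.Lib.AlgStFp Groth.Agent.Lib.AlgStPtsSurj Groth.Agent.Lib.AlgSpSrcCover
  Groth.Agent.Lib.AlgSpFlatPt Groth.Agent.Lib.AlgStSrcLocal Groth.Agent.Lib.AlgStSpTest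
  Groth.Agent.Lib.AlgSpBasic Groth.Agent.Lib.AlgSpLocP

universe u

variable {S : Scheme.{u}}

/-- Every morphism from an algebraic space to the spectrum of a field is flat. -/
theorem locP_flat_to_field {G : AlgSp.Sp S} (hG : AlgSp.IsAlgSpace G) (k : Type u) [Field k]
    (a : Spec (CommRingCat.of k) ⟶ S) (f : G ⟶ (AlgSp.yon S).obj (Over.mk a)) :
    AlgSp.LocP @Flat f := by
  obtain ⟨U, p, hpe, hps⟩ := hG.atlas
  have hEt : MorphismProperty.IsLocalAtSource (@Flat : MorphismProperty Scheme.{u})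
      (Scheme.precoverage @Etale) :=
    MorphismProperty.IsLocalAtSource.of_le etalePrecoverage_le_fpqc
  refine locP_of_cover (P := @Flat) covClass_etale (fun _ : PUnit.{u+1} => (AlgSp.yon S).obj U)
    (fun _ => p) hG (fun _ => AlgSp.IsAlgSpace.yon_obj U) (fun _ => ?_) (fun x => ⟨⟨⟩, ?_⟩) f
    (fun _ => ?_)
  · exact locP_of_repWith @Etale (fun _ _ _ l w hl hw => by
        have : Etale l := hl
        have : Etale w := hw
        exact (inferInstance : Etale (l ≫ w)))
      (fun _ c => (AlgSp.IsAlgSpace.yon_obj U).representable_from_yon c) hpe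
  · exact Groth.Agent.Lib.AlgSpQC.surjective_map_of_repWith_surjective hps x
  · obtain ⟨b, hb⟩ := (AlgSp.yon S).map_surjective (p ≫ f)
    rw [← hb]
    refine locP_flat_yon_map b ?_
    have : Subsingleton ↥(Over.mk a).left :=
      inferInstanceAs (Subsingleton ↥(Spec (CommRingCat.of k)))
    have : IsIntegral (Over.mk a).left :=
      inferInstanceAs (IsIntegral (Spec (CommRingCat.of k)))
    infer_instance

variable {𝒳 𝒴 𝒵 : AlgSt.Cat S}

/-- Flatness of a representable morphism can be checked after precomposing with a flat surjective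
representable morphism (no finite presentation needed). -/
theorem repByAlgSpWith_flat_of_comp_flat_cover [FibCat.IsFibGrpd 𝒳.p] [FibCat.IsFibGrpd 𝒴.p]
    (x : 𝒳 ⥤ᵇ 𝒴) (y : 𝒴 ⥤ᵇ 𝒵) (hy : AlgSt.RepByAlgSp1 y)
    (hx₁ : AlgSt.RepByAlgSpWith (AlgSp.LocP @Flat) x)
    (hx₃ : AlgSt.RepByAlgSpWith AlgSp.IsSurjectiveMor x)
    (h : AlgSt.RepByAlgSpWith (AlgSp.LocP @Flat) (BasedFunctor.comp x y)) :
    AlgSt.RepByAlgSpWith (AlgSp.LocP @Flat) y := by
  refine repByAlgSpWith_of_comp_of_cover (AlgSp.LocP @Flat)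
    (fun _ _ a => AlgSp.LocP @Flat a ∧ AlgSp.IsSurjectiveMor a)
    (Groth.Agent.Lib.AlgStAtlas.isoInv_locP _)
    (isoInv_and (Groth.Agent.Lib.AlgStAtlas.isoInv_locP _)
      Groth.Agent.Lib.AlgStAtlas.isoInv_isSurjectiveMor)
    (atlasLocal_and (Groth.Agent.Lib.AlgStDiagLocP.atlasLocal_locP etLocalClass_flat)
      Groth.Agent.Lib.AlgStAtlas.atlasLocal_isSurjectiveMor) ?_ x y hy
    (repByAlgSpWith_and _ _ Groth.Agent.Lib.AlgStAtlas.isoInv_isSurjectiveMor x hx₁ hx₃) h
  intro V G H hV hG hH a b hab hP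
  exact ((isLocalOnSource_locP (S := S) (P := @Flat) covClass_flat)
    (fun _ : PUnit.{u + 1} => V) (fun _ => a) hG (fun _ => hV)
    ⟨fun _ => hab.1, fun t => ⟨PUnit.unit, hab.2 t⟩⟩ b hH).2 (fun _ => hP)

/-- Every morphism from (a stack equivalent to) an algebraic space to the spectrum of a field is
flat. -/
theorem repByAlgSpWith_flat_to_field (h𝒳 : AlgSt.RepByAlgSp 𝒳) (k : Type u) [Field k]
    (a : Spec (CommRingCat.of k) ⟶ S) (x : 𝒳 ⥤ᵇ FibCat.overCat (Over.mk a)) :
    AlgSt.RepByAlgSpWith (AlgSp.LocP @Flat) x := by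
  obtain ⟨X, e, he⟩ := h𝒳
  rw [Groth.Agent.Lib.AlgStEquiv.repByAlgSpWith_equiv_comp_iff (AlgSp.LocP @Flat) e he x]
  obtain ⟨γ⟩ := Groth.Agent.Lib.AlgStDiagDict.nonempty_iso_ofSpMap_toOverCat
    (BasedFunctor.comp e x)
  rw [Groth.Agent.Lib.AlgStDiag3.repByAlgSpWith_congr (AlgSp.LocP @Flat) γ,
    Groth.Agent.Lib.AlgStEquiv.repByAlgSpWith_comp_equiv_iff _ _ (AlgSt.toOverCat _)
      (toOverCat_isEquivOver _)]
  exact Groth.Agent.Lib.AlgStAtlas.repByAlgSpWith_ofSpMap (AlgSp.LocP @Flat)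
    Groth.Agent.Lib.AlgStPtsQC2.atlasClass_locP_flat.baseChange X.property
    (AlgSp.IsAlgSpace.yon_obj _) _ (locP_flat_to_field X.property k a _)

/-- `|Spec k|` is a singleton. -/
theorem subsingleton_points_overCat_field (k : Type u) [Field k]
    (a : Spec (CommRingCat.of k) ⟶ S) :
    Subsingleton (AlgSt.Points (FibCat.overCat (Over.mk a))) := by
  have h1 := subsingleton_points_yon_field (S := S) k a
  refine ⟨fun x y => ?_⟩
  obtain ⟨x', rfl⟩ := (map_toOverCat_bijective (Over.mk a)).2 x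
  obtain ⟨y', rfl⟩ := (map_toOverCat_bijective (Over.mk a)).2 y
  obtain ⟨x'', rfl⟩ := (spPts _).surjective x'
  obtain ⟨y'', rfl⟩ := (spPts _).surjective y'
  rw [Subsingleton.elim x'' y'']

/-- `|Spec k|` is nonempty. -/
theorem nonempty_points_overCat_field (k : Type u) [Field k]
    (a : Spec (CommRingCat.of k) ⟶ S) :
    Nonempty (AlgSt.Points (FibCat.overCat (Over.mk a))) :=
  ⟨Points.map (AlgSt.toOverCat _)
    (spPts _ (AlgSp.Points.ofScheme (Over.mk a) (IsLocalRing.closedPoint k)))⟩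

/-- If an algebraic stack admits a surjective flat morphism from the spectrum of a field, every
morphism from the spectrum of a field to it is surjective and flat. -/
theorem surjective_flat_fieldPt (h𝒵 : AlgSt.IsAlgStack Scheme.fppfPrecoverage 𝒵)
    (k : Type u) [Field k] (a : Spec (CommRingCat.of k) ⟶ S)
    (z : FibCat.overCat (Over.mk a) ⥤ᵇ 𝒵)
    (hzs : AlgSt.RepByAlgSpWith AlgSp.IsSurjectiveMor z)
    (hzf : AlgSt.RepByAlgSpWith (AlgSp.LocP @Flat) z)
    (k' : Type u) [Field k'] (a' : Spec (CommRingCat.of k') ⟶ S)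
    (z' : FibCat.overCat (Over.mk a') ⥤ᵇ 𝒵) :
    AlgSt.RepByAlgSpWith AlgSp.IsSurjectiveMor z' ∧
      AlgSt.RepByAlgSpWith (AlgSp.LocP @Flat) z' := by
  haveI := h𝒵.isStack.1
  have hall := (Groth.Agent.S12765.result h𝒵.isStack.1).1 h𝒵.diag
  have hz'1 : AlgSt.RepByAlgSp1 z' := hall _ z'
  have hsurj : AlgSt.IsSurjective z := isSurjective_of_repByAlgSpWith z hzs
  have hsub : Subsingleton (AlgSt.Points 𝒵) := by
    have := subsingleton_points_overCat_field k a
    refine ⟨fun x y => ?_⟩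
    obtain ⟨x', rfl⟩ := hsurj x
    obtain ⟨y', rfl⟩ := hsurj y
    rw [Subsingleton.elim x' y']
  haveI : FibCat.IsFibGrpd (FibCat.overCat (Over.mk a')).p := overCat_isFibGrpd _
  haveI : FibCat.IsFibGrpd (FibCat.overCat (Over.mk a)).p := overCat_isFibGrpd _
  have hz's : AlgSt.RepByAlgSpWith AlgSp.IsSurjectiveMor z' := by
    refine repByAlgSpWith_isSurjectiveMor_of_isSurjective z' hz'1 (fun ξ => ?_)
    obtain ⟨ζ⟩ := nonempty_points_overCat_field k' a'
    exact ⟨ζ, Subsingleton.elim _ _⟩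
  refine ⟨hz's, ?_⟩
  haveI : FibCat.IsFibGrpd (FibCat.fp z z').p := fp_isFibGrpd _ _
  refine repByAlgSpWith_flat_of_comp_flat_cover (FibCat.fpSnd z z') z' hz'1
    (Groth.Agent.Lib.AlgStRepC.repByAlgSpWith_fpSnd _ z z' hzf)
    (Groth.Agent.Lib.AlgStRepC.repByAlgSpWith_fpSnd _ z z' hzs) ?_
  rw [Groth.Agent.Lib.AlgStDiag3.repByAlgSpWith_congr (AlgSp.LocP @Flat) (FibCat.fpIso z z')]
  exact Groth.Agent.Lib.AlgStLocQ.repByAlgSpWith_comp_atlasClass _
    Groth.Agent.Lib.AlgStPtsQC2.atlasClass_locP_flat (FibCat.fpFst z z') z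
    (repByAlgSpWith_flat_to_field (hz'1 _ z) k a _) hzf

end Groth.Agent.Lib.AlgStFieldPt
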