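import Groth.Agent.Lib.AlgStFpStack

/-!
# 2-fibre products of algebraic / Deligne–Mumford stacks, any topology (helper64)

* `isAlgStack_fp_of K` : `isAlgStack_fp` for an arbitrary precoverage `K`.
* `repByAlgSpWith_isEtaleMor_iff`, `hasAtlas_isEtaleMor_iff` : `AlgSp.IsEtaleMor` versus
  `AlgSp.LocP @Etale` for atlases.
* `isDM_fp_of K` : the 2-fibre product of Deligne–Mumford stacks is Deligne–Mumford.
-/

set_option autoImplicit false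
set_option linter.style.haveILetI false
set_option backward.isDefEq.respectTransparency false
set_option backward.isDefEq.respectTransparency.types false

namespace Groth.Agent.Lib.AlgStFpStack

open CategoryTheory Functor Opposite Limits AlgebraicGeometry Groth.Agent.Lib.FibGrpd
  Groth.Agent.Lib.FpEquiv Groth.Agent.Lib.EquivOver Groth.Agent.Lib.AlgStFp
  Groth.Agent.Lib.AlgStRep Groth.Agent.Lib.AlgStSpTest

universe v₃ u₃ v₂ u₂ u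

variable {S : Scheme.{u}}

/-- The 2-fibre product of algebraic stacks over a stack with representable diagonal is an algebraic
stack, for the topology of any precoverage `K`. -/
theorem isAlgStack_fp_of (K : Precoverage Scheme.{u}) {𝒳 𝒴 𝒵 : AlgSt.Cat S}
    (h𝒵 : Stk.IsStack (QuotSh.J K S) 𝒵)
    (hΔ : AlgSt.RepByAlgSp1 (FibCat.diag (FibCat.toSelf 𝒵)))
    (h𝒳 : AlgSt.IsAlgStack K 𝒳) (h𝒴 : AlgSt.IsAlgStack K 𝒴) (f : 𝒳 ⥤ᵇ 𝒵) (g : 𝒴 ⥤ᵇ 𝒵) :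
    AlgSt.IsAlgStack K (FibCat.fp f g) := by
  haveI : FibCat.IsFibGrpd 𝒳.p := h𝒳.isStack.1
  haveI : FibCat.IsFibGrpd 𝒴.p := h𝒴.isStack.1
  haveI : FibCat.IsFibGrpd 𝒵.p := h𝒵.1
  have hst : Stk.IsStack (QuotSh.J K S) (FibCat.fp f g) :=
    Groth.Agent.S12792.result _ f g h𝒳.isStack h𝒴.isStack (isPrestack_of_isStack h𝒵)
  have h1 := (Groth.Agent.S12765.result h𝒳.isStack.1).1 h𝒳.diag
  have h2 := (Groth.Agent.S12765.result h𝒴.isStack.1).1 h𝒴.diag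
  have h3 := (Groth.Agent.S12765.result h𝒵.1).1 hΔ
  refine ⟨hst, ?_, ?_⟩
  · exact (Groth.Agent.S12765.result hst.1).2 (forall_repByAlgSp1_fp f g h1 h2 h3)
  · exact Groth.Agent.Lib.AlgStAtlas.hasAtlas_fp _ Groth.Agent.Lib.AlgStAtlas.atlasClass_locP_smooth
      h3 f g h𝒳.atlas h𝒴.atlas

/-- For functors to a category over `(Sch/S)`, "representable by algebraic spaces and etale" may be
tested with `AlgSp.LocP @Etale`. -/
theorem repByAlgSpWith_isEtaleMor_iff {𝒳 : BasedCategory.{v₂, u₂} (Over S)}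
    {𝒴 : BasedCategory.{v₃, u₃} (Over S)} (f : 𝒳 ⥤ᵇ 𝒴) :
    AlgSt.RepByAlgSpWith AlgSp.IsEtaleMor f ↔ AlgSt.RepByAlgSpWith (AlgSp.LocP @Etale) f := by
  constructor
  · intro h U y
    obtain ⟨F, e, he, hP⟩ := h U y
    exact ⟨F, e, he, (Groth.Agent.Lib.AlgSpLocP.isEtaleMor_iff_locP
      (AlgSp.IsAlgSpace.yon_obj U) _).1 hP⟩
  · intro h U y
    obtain ⟨F, e, he, hP⟩ := h U y
    exact ⟨F, e, he, (Groth.Agent.Lib.AlgSpLocP.isEtaleMor_iff_locP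
      (AlgSp.IsAlgSpace.yon_obj U) _).2 hP⟩

theorem hasAtlas_isEtaleMor_iff {𝒳 : BasedCategory.{v₂, u₂} (Over S)} :
    AlgSt.HasAtlas AlgSp.IsEtaleMor 𝒳 ↔ AlgSt.HasAtlas (AlgSp.LocP @Etale) 𝒳 := by
  constructor
  · rintro ⟨U, x, hx, hxs⟩
    exact ⟨U, x, (repByAlgSpWith_isEtaleMor_iff x).1 hx, hxs⟩
  · rintro ⟨U, x, hx, hxs⟩
    exact ⟨U, x, (repByAlgSpWith_isEtaleMor_iff x).2 hx, hxs⟩

/-- The 2-fibre product of Deligne–Mumford stacks over a stack with representable diagonal is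
Deligne–Mumford, for the topology of any precoverage `K`. -/
theorem isDM_fp_of (K : Precoverage Scheme.{u}) {𝒳 𝒴 𝒵 : AlgSt.Cat S}
    (h𝒵 : Stk.IsStack (QuotSh.J K S) 𝒵)
    (hΔ : AlgSt.RepByAlgSp1 (FibCat.diag (FibCat.toSelf 𝒵)))
    (h𝒳 : AlgSt.IsDM K 𝒳) (h𝒴 : AlgSt.IsDM K 𝒴) (f : 𝒳 ⥤ᵇ 𝒵) (g : 𝒴 ⥤ᵇ 𝒵) :
    AlgSt.IsDM K (FibCat.fp f g) := by
  refine ⟨isAlgStack_fp_of K h𝒵 hΔ h𝒳.1 h𝒴.1 f g, ?_⟩
  haveI : FibCat.IsFibGrpd 𝒳.p := h𝒳.1.isStack.1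
  haveI : FibCat.IsFibGrpd 𝒴.p := h𝒴.1.isStack.1
  haveI : FibCat.IsFibGrpd 𝒵.p := h𝒵.1
  have h3 := (Groth.Agent.S12765.result h𝒵.1).1 hΔ
  rw [hasAtlas_isEtaleMor_iff]
  exact Groth.Agent.Lib.AlgStAtlas.hasAtlas_fp _ Groth.Agent.Lib.AlgStAtlas.atlasClass_locP_etale
    h3 f g (hasAtlas_isEtaleMor_iff.1 h𝒳.2) (hasAtlas_isEtaleMor_iff.1 h𝒴.2)

end Groth.Agent.Lib.AlgStFpStack
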