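import Groth.Agent.Lib.AlgStFpStack2

/-!
# Algebraicity from base changes to schemes (helper64)

* `forall_repByAlgSp1_of_diag` : if the relative diagonal of `f : 𝒳 ⟶ 𝒴` is representable by
  algebraic spaces and so are all maps from schemes to `𝒴`, then so are all maps from schemes to `𝒳`.
* `repByAlgSp1_overCat_hom` : maps between schemes are representable by algebraic spaces.
* `isAlgStack_of_forall_fp K`, `isDM_of_forall_fp K` (= S15250, S15251).
-/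

set_option autoImplicit false
set_option linter.style.haveILetI false
set_option backward.isDefEq.respectTransparency false
set_option backward.isDefEq.respectTransparency.types false

namespace Groth.Agent.Lib.AlgStFpStack

open CategoryTheory Functor Opposite Limits AlgebraicGeometry Groth.Agent.Lib.FibGrpd
  Groth.Agent.Lib.FpEquiv Groth.Agent.Lib.EquivOver Groth.Agent.Lib.AlgStFp
  Groth.Agent.Lib.AlgStRep Groth.Agent.Lib.AlgStSpTest Groth.Agent.Lib.FpRelDiag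
  Groth.Agent.Lib.AlgStEquiv Groth.Agent.Lib.AlgStAtlas

universe u

variable {S : Scheme.{u}}

/-- If the relative diagonal of `f : 𝒳 ⟶ 𝒴` is representable by algebraic spaces and so are all maps
from schemes to `𝒴`, then so are all maps from schemes to `𝒳`. -/
theorem forall_repByAlgSp1_of_diag {𝒳 𝒴 : AlgSt.Cat S} [FibCat.IsFibGrpd 𝒳.p]
    [FibCat.IsFibGrpd 𝒴.p] (f : 𝒳 ⥤ᵇ 𝒴) (hΔ : AlgSt.RepByAlgSp1 (FibCat.diag f))
    (h𝒴 : ∀ (U : Over S) (y : FibCat.overCat U ⥤ᵇ 𝒴), AlgSt.RepByAlgSp1 y)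
    (U : Over S) (x : FibCat.overCat U ⥤ᵇ 𝒳) : AlgSt.RepByAlgSp1 x := by
  intro U' x'
  haveI : FibCat.IsFibGrpd (FibCat.fp f f).p := fp_isFibGrpd f f
  have hZ : AlgSt.RepByAlgSp (FibCat.fp (BasedFunctor.comp x' f) (BasedFunctor.comp x f)) :=
    h𝒴 U (BasedFunctor.comp x f) U' (BasedFunctor.comp x' f)
  have h1 : AlgSt.RepByAlgSp (FibCat.fp (relProdMap x' x f) (FibCat.diag f)) :=
    Groth.Agent.Lib.AlgStBoot.repByAlgSp_fp_of_repByAlgSp1 (FibCat.diag f) (relProdMap x' x f) hΔ hZ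
  exact repByAlgSp_of_equivOver (EquivOver.of (relDiagEquiv_isEquivOver x' x f)).symm h1

/-- Maps between schemes are representable by algebraic spaces. -/
theorem repByAlgSp1_overCat_hom {T : Over S} (U : Over S)
    (z : FibCat.overCat U ⥤ᵇ FibCat.overCat T) : AlgSt.RepByAlgSp1 z := fun U' z' =>
  repByAlgSp_fp (repByAlgSp_overCat U') (repByAlgSp_overCat U) (exists_equiv_ofSp_overCat T) z' z

/-- The relative diagonal of `f : 𝒳 ⟶ 𝒴` is representable by algebraic spaces if the absolute diagonals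
of all base changes of `𝒳` to schemes are. -/
theorem repByAlgSp1_diag_of_forall_fp {𝒳 𝒴 : AlgSt.Cat S} (f : 𝒳 ⥤ᵇ 𝒴)
    (hf : ∀ (T : Over S) (g : FibCat.overCat T ⥤ᵇ 𝒴) (U : Over S)
      (x : FibCat.overCat U ⥤ᵇ FibCat.fp g f), AlgSt.RepByAlgSp1 x) :
    AlgSt.RepByAlgSp1 (FibCat.diag f) := by
  rw [repByAlgSp1_iff_top]
  refine (Groth.Agent.Lib.AlgStDiag2.repByAlgSpWith_diag_iff_forall_fpFst ⊤ f).2 (fun T g => ?_)
  rw [← repByAlgSp1_iff_top]
  exact repByAlgSp1_diag_of_forall (FibCat.fpFst g f) (hf T g) (fun U z => repByAlgSp1_overCat_hom U z)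

/-- Algebraicity can be tested on base changes to schemes: a stack `𝒳` over an algebraic stack `𝒴`
all of whose base changes to schemes are algebraic stacks is an algebraic stack. -/
theorem isAlgStack_of_forall_fp (K : Precoverage Scheme.{u}) {𝒳 𝒴 : AlgSt.Cat S}
    (h𝒳 : Stk.IsStack (QuotSh.J K S) 𝒳) (h𝒴 : AlgSt.IsAlgStack K 𝒴) (f : 𝒳 ⥤ᵇ 𝒴)
    (hf : ∀ (U : Over S) (g : FibCat.overCat U ⥤ᵇ 𝒴), AlgSt.IsAlgStack K (FibCat.fp g f)) :
    AlgSt.IsAlgStack K 𝒳 := by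
  haveI : FibCat.IsFibGrpd 𝒳.p := h𝒳.1
  haveI : FibCat.IsFibGrpd 𝒴.p := h𝒴.isStack.1
  have h2 := (Groth.Agent.S12765.result h𝒴.isStack.1).1 h𝒴.diag
  have hΔ : AlgSt.RepByAlgSp1 (FibCat.diag f) :=
    repByAlgSp1_diag_of_forall_fp f (fun T g =>
      (Groth.Agent.S12765.result (hf T g).isStack.1).1 (hf T g).diag)
  refine ⟨h𝒳, (Groth.Agent.S12765.result h𝒳.1).2 (forall_repByAlgSp1_of_diag f hΔ h2), ?_⟩
  obtain ⟨U, y, hy, hys⟩ := h𝒴.atlas
  obtain ⟨W, w, hw, hws⟩ := (hf U y).atlas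
  haveI : FibCat.IsFibGrpd (FibCat.fp y f).p := (hf U y).isStack.1
  refine ⟨W, BasedFunctor.comp w (FibCat.fpSnd y f), ?_, ?_⟩
  · exact repByAlgSpWith_comp _ atlasClass_locP_smooth.isoInv atlasClass_locP_smooth.atlasLocal
      atlasClass_locP_smooth.comp w (FibCat.fpSnd y f) hw
      (Groth.Agent.Lib.AlgStRepC.repByAlgSpWith_fpSnd _ y f hy)
  · exact repByAlgSpWith_comp _ atlasClass_isSurjectiveMor.isoInv
      atlasClass_isSurjectiveMor.atlasLocal atlasClass_isSurjectiveMor.comp w (FibCat.fpSnd y f) hws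
      (Groth.Agent.Lib.AlgStRepC.repByAlgSpWith_fpSnd _ y f hys)

/-- The Deligne–Mumford property can be tested on base changes to schemes. -/
theorem isDM_of_forall_fp (K : Precoverage Scheme.{u}) {𝒳 𝒴 : AlgSt.Cat S}
    (h𝒳 : Stk.IsStack (QuotSh.J K S) 𝒳) (h𝒴 : AlgSt.IsDM K 𝒴) (f : 𝒳 ⥤ᵇ 𝒴)
    (hf : ∀ (U : Over S) (g : FibCat.overCat U ⥤ᵇ 𝒴), AlgSt.IsDM K (FibCat.fp g f)) :
    AlgSt.IsDM K 𝒳 := by
  refine ⟨isAlgStack_of_forall_fp K h𝒳 h𝒴.1 f (fun U g => (hf U g).1), ?_⟩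
  haveI : FibCat.IsFibGrpd 𝒳.p := h𝒳.1
  haveI : FibCat.IsFibGrpd 𝒴.p := h𝒴.1.isStack.1
  obtain ⟨U, y, hy, hys⟩ := hasAtlas_isEtaleMor_iff.1 h𝒴.2
  obtain ⟨W, w, hw, hws⟩ := hasAtlas_isEtaleMor_iff.1 (hf U y).2
  haveI : FibCat.IsFibGrpd (FibCat.fp y f).p := (hf U y).1.isStack.1
  rw [hasAtlas_isEtaleMor_iff]
  refine ⟨W, BasedFunctor.comp w (FibCat.fpSnd y f), ?_, ?_⟩
  · exact repByAlgSpWith_comp _ atlasClass_locP_etale.isoInv atlasClass_locP_etale.atlasLocal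
      atlasClass_locP_etale.comp w (FibCat.fpSnd y f) hw
      (Groth.Agent.Lib.AlgStRepC.repByAlgSpWith_fpSnd _ y f hy)
  · exact repByAlgSpWith_comp _ atlasClass_isSurjectiveMor.isoInv
      atlasClass_isSurjectiveMor.atlasLocal atlasClass_isSurjectiveMor.comp w (FibCat.fpSnd y f) hws
      (Groth.Agent.Lib.AlgStRepC.repByAlgSpWith_fpSnd _ y f hys)

end Groth.Agent.Lib.AlgStFpStack
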