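import Groth.Agent.Lib.AlgStRelDiag
import Groth.Agent.Lib.AlgStEquivRep

/-!
# The graph of a morphism over a base is a base change of the diagonal (helper36)

For `p : 𝒳 ⟶ 𝒯`, `q : 𝒴 ⟶ 𝒯`, `g : 𝒳 ⟶ 𝒴` and `e : p ≅ g ⋙ q`, the graph
`Γ = fpLift (𝟭 𝒳) g e : 𝒳 ⟶ 𝒳 ×_𝒯 𝒴` is (up to equivalences) the functor
`relIota g (𝟭 𝒴) q : 𝒳 ×_𝒴 𝒴 ⟶ 𝒳 ×_𝒯 𝒴`, a base change of the diagonal of `q`.
-/

set_option autoImplicit false
set_option linter.style.haveILetI false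
set_option backward.isDefEq.respectTransparency false
set_option backward.isDefEq.respectTransparency.types false

namespace Groth.Agent.Lib.AlgStGraph

open CategoryTheory AlgebraicGeometry Opposite Groth.Agent.Lib.FibGrpd Groth.Agent.Lib.FpEquiv
  Groth.Agent.Lib.AlgStDiag Groth.Agent.Lib.AlgStRelDiag Groth.Agent.Lib.AlgStRep

universe w v₅ u₅ v₄ u₄ v₃ u₃ v₂ u₂ v u

section Graph

variable {C : Type u} [Category.{v} C] {𝒳 : BasedCategory.{v₂, u₂} C}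
  {𝒴 : BasedCategory.{v₃, u₃} C} {𝒯 : BasedCategory.{v₄, u₄} C}
  (p : 𝒳 ⥤ᵇ 𝒯) (q : 𝒴 ⥤ᵇ 𝒯) (g : 𝒳 ⥤ᵇ 𝒴)
  (e : BasedFunctor.comp (BasedFunctor.id 𝒳) p ≅ BasedFunctor.comp g q)

/-- The graph of `g`. -/
abbrev graph : 𝒳 ⥤ᵇ FibCat.fp p q := FibCat.fpLift (BasedFunctor.id 𝒳) g e

theorem graph_obj_iso_hom (x : 𝒳.obj) :
    ((graph p q g e).obj x).obj.iso.hom = e.hom.toNatTrans.app x := rfl

/-- The equivalence `𝒳 ×_{g⋙q, 𝒯, q} 𝒴 ≃ 𝒳 ×_{p, 𝒯, q} 𝒴` given by `e`. -/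
def graphB : FibCat.fp (BasedFunctor.comp g q) (BasedFunctor.comp (BasedFunctor.id 𝒴) q) ⥤ᵇ
    FibCat.fp p q :=
  fpMap (F := p) (G := q) (F' := BasedFunctor.comp g q)
    (G' := BasedFunctor.comp (BasedFunctor.id 𝒴) q) (BasedFunctor.id 𝒳) (BasedFunctor.id 𝒴)
    (BasedFunctor.id 𝒯) (compIdIso _ ≪≫ e.symm) (compIdIso _)

theorem graphB_isEquivOver : FibCat.IsEquivOver (graphB p q g e) :=
  fpMap_isEquivOver _ _ _ _ _ isEquivOver_id isEquivOver_id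

theorem graphB_obj_iso_hom
    (w : (FibCat.fp (BasedFunctor.comp g q) (BasedFunctor.comp (BasedFunctor.id 𝒴) q)).obj) :
    ((graphB p q g e).obj w).obj.iso.hom = e.hom.toNatTrans.app w.obj.fst ≫ w.obj.iso.hom := by
  have := fpMap_obj_iso_hom (F := p) (G := q) (F' := BasedFunctor.comp g q)
    (G' := BasedFunctor.comp (BasedFunctor.id 𝒴) q) (BasedFunctor.id 𝒳) (BasedFunctor.id 𝒴)
    (BasedFunctor.id 𝒯) (compIdIso _ ≪≫ e.symm) (compIdIso _) w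
  refine this.trans ?_
  have h1 : (appIso (compIdIso (BasedFunctor.comp g q) ≪≫ e.symm) w.obj.fst).inv =
      e.hom.toNatTrans.app w.obj.fst ≫ 𝟙 _ := rfl
  have h2 : (appIso (compIdIso (BasedFunctor.comp (BasedFunctor.id 𝒴) q)) w.obj.snd).hom =
      𝟙 _ := rfl
  have h3 : (BasedFunctor.id 𝒯).map w.obj.iso.hom = w.obj.iso.hom := rfl
  rw [h1, h2, h3]
  exact (congrArg (_ ≫ ·) (Category.comp_id w.obj.iso.hom)).trans
    (congrArg (· ≫ w.obj.iso.hom) (Category.comp_id (e.hom.toNatTrans.app w.obj.fst)))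

/-- Component of the comparison 2-isomorphism. -/
def graphObjIso (w : (FibCat.fp g (BasedFunctor.id 𝒴)).obj) :
    (graphB p q g e).obj ((relIota g (BasedFunctor.id 𝒴) q).obj w) ≅
      (graph p q g e).obj w.obj.fst :=
  fpIsoMk (Iso.refl _) w.obj.iso.symm (by
    rw [graphB_obj_iso_hom, relIota_obj_iso_hom, graph_obj_iso_hom]
    have e1 : p.map (Iso.refl ((graphB p q g e).obj
        ((relIota g (BasedFunctor.id 𝒴) q).obj w)).obj.fst).hom = 𝟙 _ := p.toFunctor.map_id _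
    rw [e1, Category.id_comp, Category.assoc, ← q.map_comp]
    have e2 : w.obj.iso.hom ≫ w.obj.iso.symm.hom = 𝟙 _ := w.obj.iso.hom_inv_id
    rw [e2]
    exact ((congrArg (_ ≫ ·) (q.toFunctor.map_id _)).trans (Category.comp_id _)).symm)

/-- `relIota g (𝟭 𝒴) q ⋙ graphB ≅ fpFst g (𝟭 𝒴) ⋙ Γ`. -/
def graphIso : BasedFunctor.comp (relIota g (BasedFunctor.id 𝒴) q) (graphB p q g e) ≅
    BasedFunctor.comp (FibCat.fpFst g (BasedFunctor.id 𝒴)) (graph p q g e) :=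
  BasedNatIso.mkNatIso
    (NatIso.ofComponents (fun w => graphObjIso p q g e w) (fun {w w'} m => by
      refine fp_hom_ext _ _ ?_ ?_
      · show m.hom.fst ≫ 𝟙 _ = 𝟙 _ ≫ m.hom.fst
        rw [Category.comp_id, Category.id_comp]
      · show m.hom.snd ≫ w'.obj.iso.inv = w.obj.iso.inv ≫ g.map m.hom.fst
        have hw : g.map m.hom.fst ≫ w'.obj.iso.hom = w.obj.iso.hom ≫ m.hom.snd := m.hom.w
        rw [Iso.comp_inv_eq, Category.assoc, hw, Iso.inv_hom_id_assoc]))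
    (fun w => by
      show (FibCat.fp p q).p.IsHomLift (𝟙 _) (graphObjIso p q g e w).hom
      rw [fp_isHomLift_iff]
      exact IsHomLift.id rfl)

end Graph

section Consequences

variable {S : Scheme.{u}} {𝒳 : BasedCategory.{v₂, u₂} (Over S)}
  {𝒴 : BasedCategory.{v₃, u₃} (Over S)} {𝒯 : BasedCategory.{v₄, u₄} (Over S)}

/-- **The graph has `P` whenever the diagonal of `q : 𝒴 ⟶ 𝒯` has `P`.** -/
theorem repByAlgSpWith_graph (P : MorphismProperty (AlgSp.Sp S)) (p : 𝒳 ⥤ᵇ 𝒯) (q : 𝒴 ⥤ᵇ 𝒯)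
    (g : 𝒳 ⥤ᵇ 𝒴) (e : BasedFunctor.comp (BasedFunctor.id 𝒳) p ≅ BasedFunctor.comp g q)
    (hq : AlgSt.RepByAlgSpWith P (FibCat.diag q)) :
    AlgSt.RepByAlgSpWith P (FibCat.fpLift (BasedFunctor.id 𝒳) g e) := by
  have h1 := repByAlgSpWith_relIota P g (BasedFunctor.id 𝒴) q hq
  exact (repByAlgSpWith_iff_of_square P (graph p q g e) (relIota g (BasedFunctor.id 𝒴) q)
    (FibCat.fpFst g (BasedFunctor.id 𝒴)) (graphB p q g e)
    (Groth.Agent.Lib.AlgStEquivRep.fpFst_isEquivOver g (BasedFunctor.id 𝒴) isEquivOver_id)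
    (graphB_isEquivOver p q g e) (graphIso p q g e)).mpr h1

end Consequences

end Groth.Agent.Lib.AlgStGraph
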