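import Groth.Agent.Lib.AlgStCancel
import Groth.Agent.Lib.AlgStDiagProper
import Groth.Agent.Lib.AlgStDiagLocP
import Groth.Agent.Lib.AlgStEquivRep
import Groth.Agent.Lib.AlgSpQC

/-!
# Sections of morphisms of algebraic stacks (helper64)

A section `s` of `f` (with `f ∘ s ≅ id`) has every property `P` that the diagonal of `f` has, for `P`
iso-invariant, local for charts, stable under composition and holding for identities of schemes
(`repByAlgSpWith_section`).  Instances: unramified (S12965), locally quasi-finite (S12966), proper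
(S12967), quasi-compact and quasi-separated (S12968).
-/

set_option autoImplicit false
set_option linter.style.haveILetI false
set_option backward.isDefEq.respectTransparency false
set_option backward.isDefEq.respectTransparency.types false

namespace Groth.Agent.Lib.AlgStSection

open CategoryTheory Functor Opposite Limits AlgebraicGeometry Groth.Agent.Lib.FibGrpd
  Groth.Agent.Lib.FpEquiv Groth.Agent.Lib.AlgStSpTest Groth.Agent.Lib.AlgStCancel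
  Groth.Agent.Lib.AlgStEquivRep Groth.Agent.Lib.AlgSpLocP

universe u

variable {S : Scheme.{u}} {𝒳 𝒯 : AlgSt.Cat S}

/-- A section of `f` has every (good) property that the diagonal of `f` has. -/
theorem repByAlgSpWith_section [FibCat.IsFibGrpd 𝒳.p] [FibCat.IsFibGrpd 𝒯.p]
    (P : MorphismProperty (AlgSp.Sp S)) (hPi : IsoInv P) (hPl : SchemeLocal P)
    (hPc : ∀ ⦃X Y Z : AlgSp.Sp S⦄, AlgSp.IsAlgSpace X → AlgSp.IsAlgSpace Y → AlgSp.IsAlgSpace Z →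
      ∀ (a : X ⟶ Y) (b : Y ⟶ Z), P a → P b → P (a ≫ b))
    (hid : ∀ U : Over S, P (𝟙 ((AlgSp.yon S).obj U)))
    (f : 𝒳 ⥤ᵇ 𝒯) (s : 𝒯 ⥤ᵇ 𝒳) (e : BasedFunctor.comp s f ≅ BasedFunctor.id 𝒯)
    (hΔ : AlgSt.RepByAlgSpWith P (FibCat.diag f)) : AlgSt.RepByAlgSpWith P s :=
  repByAlgSpWith_of_comp_of_diag P hPi hPl hPc s f
    ((Groth.Agent.Lib.AlgStDiag3.repByAlgSpWith_congr P e).1
      (repByAlgSpWith_of_isEquivOver P hid _ isEquivOver_id)) hΔ

/-- Sections for `LocP` classes containing the etale morphisms. -/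
theorem repByAlgSpWith_section_locP [FibCat.IsFibGrpd 𝒳.p] [FibCat.IsFibGrpd 𝒯.p]
    {Q : MorphismProperty Scheme.{u}} (hQ : EtLocalClass Q)
    [Q.DescendsAlong Groth.Agent.Lib.AlgSpBasic.etCov] [Q.IsStableUnderComposition]
    (hE : ∀ ⦃A B : Scheme.{u}⦄ (l : A ⟶ B), Etale l → Q l)
    (f : 𝒳 ⥤ᵇ 𝒯) (s : 𝒯 ⥤ᵇ 𝒳) (e : BasedFunctor.comp s f ≅ BasedFunctor.id 𝒯)
    (hΔ : AlgSt.RepByAlgSpWith (AlgSp.LocP Q) (FibCat.diag f)) :
    AlgSt.RepByAlgSpWith (AlgSp.LocP Q) s :=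
  repByAlgSpWith_section _ (Groth.Agent.Lib.AlgStDiagLocP.isoInv_locP hQ)
    (schemeLocal_of_atlasLocal (Groth.Agent.Lib.AlgStDiagLocP.atlasLocal_locP hQ))
    (fun _ _ _ hX hY hZ _ _ ha hb => locP_comp hQ hX hY hZ ha hb)
    (fun U => Groth.Agent.Lib.H69AlgSpLocST.locP_id hE (AlgSp.IsAlgSpace.yon_obj U)) f s e hΔ

/-- = S12965. -/
theorem section_of_isDMMor [FibCat.IsFibGrpd 𝒳.p] [FibCat.IsFibGrpd 𝒯.p]
    (f : 𝒳 ⥤ᵇ 𝒯) (s : 𝒯 ⥤ᵇ 𝒳) (e : BasedFunctor.comp s f ≅ BasedFunctor.id 𝒯)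
    (hf : AlgSt.IsDMMor f) :
    AlgSt.RepByAlgSpWith (AlgSp.LocP (@LocallyOfFiniteType ⊓ @FormallyUnramified)) s :=
  repByAlgSpWith_section_locP etLocalClass_lft_unramified (fun _ _ l hl => by
    have : Etale l := hl
    exact ⟨(inferInstance : LocallyOfFiniteType l), (inferInstance : FormallyUnramified l)⟩) f s e hf

/-- = S12966. -/
theorem section_of_isQuasiDMMor [FibCat.IsFibGrpd 𝒳.p] [FibCat.IsFibGrpd 𝒯.p]
    (f : 𝒳 ⥤ᵇ 𝒯) (s : 𝒯 ⥤ᵇ 𝒳) (e : BasedFunctor.comp s f ≅ BasedFunctor.id 𝒯)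
    (hf : AlgSt.IsQuasiDMMor f) :
    AlgSt.RepByAlgSpWith (AlgSp.LocP (@LocallyQuasiFinite ⊓ @LocallyOfFiniteType)) s :=
  repByAlgSpWith_section_locP etLocalClass_lqf_lft (fun _ _ l hl => by
    have : Etale l := hl
    exact ⟨Groth.Agent.Lib.AlgSpBasic.locallyQuasiFinite_of_etale l, (inferInstance : LocallyOfFiniteType l)⟩) f s e hf

/-- = S12967. -/
theorem section_of_isSeparatedMor [FibCat.IsFibGrpd 𝒳.p] [FibCat.IsFibGrpd 𝒯.p]
    (f : 𝒳 ⥤ᵇ 𝒯) (s : 𝒯 ⥤ᵇ 𝒳) (e : BasedFunctor.comp s f ≅ BasedFunctor.id 𝒯)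
    (hf : AlgSt.IsSeparatedMor f) : AlgSt.RepByAlgSpWith AlgSp.IsProperMor s :=
  repByAlgSpWith_section _
    (isoInv_of_baseChange _ Groth.Agent.Lib.AlgStDiagRep2.baseChangeStable_isProperMor)
    (schemeLocal_of_atlasLocal (Groth.Agent.Lib.AlgStDiagQS.atlasLocal_of_fpqc
      Groth.Agent.Lib.AlgSpFpqc.isLocalOnBase_fpqc_isProperMor))
    Groth.Agent.Lib.AlgStDiagProper.isProperMor_comp' isProperMor_id f s e hf

/-- = S12968. -/
theorem section_of_isQuasiSeparatedMor [FibCat.IsFibGrpd 𝒳.p] [FibCat.IsFibGrpd 𝒯.p]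
    (f : 𝒳 ⥤ᵇ 𝒯) (s : 𝒯 ⥤ᵇ 𝒳) (e : BasedFunctor.comp s f ≅ BasedFunctor.id 𝒯)
    (hf : AlgSt.IsQuasiSeparatedMor f) :
    AlgSt.RepByAlgSpWith (AlgSp.IsQuasiCompactMor ⊓ AlgSp.IsQuasiSeparatedMor) s :=
  repByAlgSpWith_section _
    (isoInv_of_baseChange _ Groth.Agent.Lib.AlgStDiagQS.qcqs_baseChange)
    (schemeLocal_of_atlasLocal (Groth.Agent.Lib.AlgStDiagQS.atlasLocal_of_fpqc
      Groth.Agent.Lib.AlgStDiagQS.isLocalOnBase_fpqc_qcqs))
    Groth.Agent.Lib.AlgStDiagQS.qcqs_comp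
    (fun U => ⟨Groth.Agent.Lib.AlgSpQC.isQuasiCompactMor_of_repWith (AlgSp.repWith_id _ U),
      Groth.Agent.Lib.AlgStDiagRep2.isQuasiSeparatedMor_of_mono _⟩) f s e hf

end Groth.Agent.Lib.AlgStSection
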