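import Groth.Agent.Lib.AlgStDiagLft
import Groth.Agent.Lib.AlgStSection

/-!
# The relative inertia as the self-fibre-product of the diagonal (helper36)

* `inertiaToFpDiag_isEquivOver` : `I_{𝒳/𝒴} ≃ 𝒳 ×_{𝒳 ×_𝒴 𝒳} 𝒳`.
* `neutralIso` : under this equivalence the neutral section is the second diagonal.
* `repByAlgSpWith_inertiaToBase_of_diag` : `I_{𝒳/𝒴} ⟶ 𝒳` is a base change of the diagonal.
* `repByAlgSpWith_inertiaNeutral_iff` : the neutral section has `P` iff the second diagonal has.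
* `tfae_inertia_separated`, `tfae_inertia_quasiSeparated`.
-/

set_option autoImplicit false
set_option linter.style.haveILetI false
set_option backward.isDefEq.respectTransparency false
set_option backward.isDefEq.respectTransparency.types false

namespace Groth.Agent.Lib.AlgStInertia

open CategoryTheory CategoryTheory.Limits AlgebraicGeometry Opposite Groth.Agent.Lib.FibGrpd
  Groth.Agent.Lib.FpEquiv Groth.Agent.Lib.AlgStRep Groth.Agent.Lib.AlgStSpTest
  Groth.Agent.Lib.AlgStEquiv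

universe w v₅ u₅ v₄ u₄ v₃ u₃ v₂ u₂ v u

section General

variable {C : Type u} [Category.{v} C] {𝒳 : BasedCategory.{v₂, u₂} C}
  {𝒴 : BasedCategory.{v₃, u₃} C} (F : 𝒳 ⥤ᵇ 𝒴)

theorem inertiaToFpDiag_isEquivOver : FibCat.IsEquivOver (inertiaToFpDiag F) := by
  haveI := inertiaToFpDiag_faithful F
  haveI := inertiaToFpDiag_full F
  exact isEquivOver_of_ff_of_ess (inertiaToFpDiag F) (inertiaToFpDiag_exists_iso F)

/-- Component of `neutralIso`. -/
def neutralObjIso (x : 𝒳.obj) :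
    (inertiaToFpDiag F).obj ((FibCat.inertiaNeutral F).obj x) ≅
      (FibCat.diag (FibCat.diag F)).obj x :=
  fpIsoMk (Iso.refl _) (Iso.refl _) (by
    apply ObjectProperty.hom_ext
    apply Limits.CategoricalPullback.hom_ext
    · show 𝟙 x ≫ 𝟙 x = 𝟙 x ≫ 𝟙 x
      rfl
    · show 𝟙 x ≫ 𝟙 x = 𝟙 x ≫ 𝟙 x
      rfl)

/-- Under `I_{𝒳/𝒴} ≃ 𝒳 ×_{𝒳 ×_𝒴 𝒳} 𝒳` the neutral section is the second diagonal. -/
def neutralIso : BasedFunctor.comp (FibCat.inertiaNeutral F) (inertiaToFpDiag F) ≅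
    FibCat.diag (FibCat.diag F) :=
  BasedNatIso.mkNatIso
    (NatIso.ofComponents (fun x => neutralObjIso F x) (fun {x y} m => by
      refine fp_hom_ext ?_ ?_
      · show m ≫ 𝟙 y = 𝟙 x ≫ m
        rw [Category.comp_id, Category.id_comp]
      · show m ≫ 𝟙 y = 𝟙 x ≫ m
        rw [Category.comp_id, Category.id_comp]))
    (fun x => by
      show (FibCat.fp (FibCat.diag F) (FibCat.diag F)).p.IsHomLift (𝟙 _) (neutralObjIso F x).hom
      rw [fp_isHomLift_iff]
      exact IsHomLift.id rfl)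

end General

section Consequences

variable {S : Scheme.{u}}

section Gen

variable {𝒳 : BasedCategory.{v₂, u₂} (Over S)} {𝒴 : BasedCategory.{v₃, u₃} (Over S)}
  (f : 𝒳 ⥤ᵇ 𝒴)

/-- `I_{𝒳/𝒴} ⟶ 𝒳` is a base change of the diagonal of `f`. -/
theorem repByAlgSpWith_inertiaToBase_of_diag (P : MorphismProperty (AlgSp.Sp S))
    (h : AlgSt.RepByAlgSpWith P (FibCat.diag f)) :
    AlgSt.RepByAlgSpWith P (FibCat.inertiaToBase f) := by
  have h1 : AlgSt.RepByAlgSpWith P (FibCat.fpFst (FibCat.diag f) (FibCat.diag f)) :=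
    repByAlgSpWith_fpFst P (FibCat.diag f) (FibCat.diag f) h
  exact (repByAlgSpWith_equiv_comp_iff P (inertiaToFpDiag f) (inertiaToFpDiag_isEquivOver f) _).1 h1

/-- The neutral section has `P` iff the second diagonal has `P`. -/
theorem repByAlgSpWith_inertiaNeutral_iff (P : MorphismProperty (AlgSp.Sp S)) :
    AlgSt.RepByAlgSpWith P (FibCat.inertiaNeutral f) ↔
      AlgSt.RepByAlgSpWith P (FibCat.diag (FibCat.diag f)) := by
  rw [← repByAlgSpWith_comp_equiv_iff P (FibCat.inertiaNeutral f) (inertiaToFpDiag f)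
    (inertiaToFpDiag_isEquivOver f)]
  exact Groth.Agent.Lib.AlgStDiag3.repByAlgSpWith_congr P (neutralIso f).symm

end Gen

variable {𝒳 𝒴 : AlgSt.Cat S} (h𝒳 : AlgSt.IsAlgStack Scheme.fppfPrecoverage 𝒳)
  (h𝒴 : AlgSt.IsAlgStack Scheme.fppfPrecoverage 𝒴) (f : 𝒳 ⥤ᵇ 𝒴)

include h𝒳 h𝒴

/-- A property of the neutral section from the corresponding property of `I_{𝒳/𝒴} ⟶ 𝒳`, by
cancellation. -/
theorem repByAlgSpWith_inertiaNeutral_of_diag (P : MorphismProperty (AlgSp.Sp S))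
    (hPi : IsoInv P) (hPl : SchemeLocal P)
    (hPc : ∀ ⦃X Y Z : AlgSp.Sp S⦄, AlgSp.IsAlgSpace X → AlgSp.IsAlgSpace Y → AlgSp.IsAlgSpace Z →
      ∀ (a : X ⟶ Y) (b : Y ⟶ Z), P a → P b → P (a ≫ b))
    (hid : ∀ U : Over S, P (𝟙 ((AlgSp.yon S).obj U)))
    (hΔ : AlgSt.RepByAlgSpWith P (FibCat.diag (FibCat.inertiaToBase f))) :
    AlgSt.RepByAlgSpWith P (FibCat.inertiaNeutral f) := by
  haveI : FibCat.IsFibGrpd 𝒳.p := h𝒳.isStack.1
  haveI : FibCat.IsFibGrpd 𝒴.p := h𝒴.isStack.1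
  haveI : FibCat.IsFibGrpd (FibCat.inertia f).p :=
    inertia_isFibGrpd f (preservesStronglyCartesian_of_isFibGrpd f)
  exact Groth.Agent.Lib.AlgStSection.repByAlgSpWith_section P hPi hPl hPc hid
    (FibCat.inertiaToBase f) (FibCat.inertiaNeutral f) (Iso.refl _) hΔ

theorem tfae_inertia_separated :
    [AlgSt.RepByAlgSpWith AlgSp.IsSeparatedMor (FibCat.inertiaToBase f),
      AlgSt.RepByAlgSpWith AlgSp.IsSeparatedMor (FibCat.diag f),
      AlgSt.IsClosedImm (FibCat.inertiaNeutral f)].TFAE := by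
  have hΔ : AlgSt.RepByAlgSp1 (FibCat.diag f) :=
    Groth.Agent.Lib.AlgStDiagCancel.repByAlgSp1_diag_of_isAlgStack h𝒳 h𝒴 f
  tfae_have 2 → 1 := repByAlgSpWith_inertiaToBase_of_diag f _
  tfae_have 3 ↔ 2 := by
    refine (repByAlgSpWith_inertiaNeutral_iff f _).trans ?_
    exact Groth.Agent.Lib.AlgStDiagRep2.closedImm_diag_iff (FibCat.diag f) hΔ
  tfae_have 1 → 3 := by
    intro h1
    have hπ : AlgSt.RepByAlgSp1 (FibCat.inertiaToBase f) := fun U y => by
      obtain ⟨F, e, he, -⟩ := h1 U y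
      exact ⟨F, e, he⟩
    have hΔπ : AlgSt.IsClosedImm (FibCat.diag (FibCat.inertiaToBase f)) :=
      (Groth.Agent.Lib.AlgStDiagRep2.closedImm_diag_iff _ hπ).2 h1
    exact repByAlgSpWith_inertiaNeutral_of_diag h𝒳 h𝒴 f _
      (isoInv_of_respectsIso _) (schemeLocal_repWith _)
      (fun _ _ _ _ _ _ a b ha hb => (AlgSp.RepWith @IsClosedImmersion).comp_mem a b ha hb)
      (fun U => MorphismProperty.id_mem _ _) hΔπ
  tfae_finish

theorem tfae_inertia_quasiSeparated :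
    [AlgSt.RepByAlgSpWith AlgSp.IsQuasiSeparatedMor (FibCat.inertiaToBase f),
      AlgSt.RepByAlgSpWith AlgSp.IsQuasiSeparatedMor (FibCat.diag f),
      AlgSt.RepByAlgSpWith AlgSp.IsQuasiCompactMor (FibCat.inertiaNeutral f)].TFAE := by
  have hΔ : AlgSt.RepByAlgSp1 (FibCat.diag f) :=
    Groth.Agent.Lib.AlgStDiagCancel.repByAlgSp1_diag_of_isAlgStack h𝒳 h𝒴 f
  tfae_have 2 → 1 := repByAlgSpWith_inertiaToBase_of_diag f _
  tfae_have 3 ↔ 2 := by
    refine (repByAlgSpWith_inertiaNeutral_iff f _).trans ?_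
    exact Groth.Agent.Lib.AlgStDiagRep2.quasiCompact_diag_iff (FibCat.diag f) hΔ
  tfae_have 1 → 3 := by
    intro h1
    have hπ : AlgSt.RepByAlgSp1 (FibCat.inertiaToBase f) := fun U y => by
      obtain ⟨F, e, he, -⟩ := h1 U y
      exact ⟨F, e, he⟩
    have hΔπ : AlgSt.RepByAlgSpWith AlgSp.IsQuasiCompactMor
        (FibCat.diag (FibCat.inertiaToBase f)) :=
      (Groth.Agent.Lib.AlgStDiagRep2.quasiCompact_diag_iff _ hπ).2 h1
    exact repByAlgSpWith_inertiaNeutral_of_diag h𝒳 h𝒴 f _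
      (isoInv_of_baseChange _ Groth.Agent.Lib.AlgStDiagRep2.baseChangeStable_isQuasiCompactMor)
      (schemeLocal_of_atlasLocal (Groth.Agent.Lib.AlgStDiagQS.atlasLocal_of_fpqc
        Groth.Agent.Lib.AlgSpFpqc.isLocalOnBase_fpqc_isQuasiCompactMor))
      (fun _ _ _ _ hY hZ a b ha hb =>
        Groth.Agent.Lib.AlgSpDescent.isQuasiCompactMor_comp hY hZ.diag ha hb)
      (fun U => Groth.Agent.Lib.AlgSpQC.isQuasiCompactMor_of_repWith
        (MorphismProperty.id_mem _ _)) hΔπ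
  tfae_finish

end Consequences

end Groth.Agent.Lib.AlgStInertia
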