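import Groth.Agent.Lib.AlgStInertia

/-!
# Locally separated inertia and the neutral section (helper36)
-/

set_option autoImplicit false
set_option linter.style.haveILetI false
set_option backward.isDefEq.respectTransparency false
set_option backward.isDefEq.respectTransparency.types false

namespace Groth.Agent.Lib.AlgStInertia2

open CategoryTheory CategoryTheory.Limits AlgebraicGeometry Opposite Groth.Agent.Lib.FibGrpd
  Groth.Agent.Lib.FpEquiv Groth.Agent.Lib.AlgStRep Groth.Agent.Lib.AlgStSpTest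
  Groth.Agent.Lib.AlgStEquiv Groth.Agent.Lib.AlgStInertia Groth.Agent.Lib.AlgStDiagDict

universe u

variable {S : Scheme.{u}} {𝒳 𝒴 : AlgSt.Cat S}

/-- For `g` representable by algebraic spaces: the diagonal of `g` is an immersion iff `g` is
locally separated. -/
theorem isImm_diag_iff {𝒜 ℬ : AlgSt.Cat S} (g : 𝒜 ⥤ᵇ ℬ) (hg : AlgSt.RepByAlgSp1 g) :
    AlgSt.IsImm (FibCat.diag g) ↔ AlgSt.RepByAlgSpWith AlgSp.IsLocallySeparatedMor g :=
  Groth.Agent.Lib.AlgStDiagRep2.repByAlgSpWith_diag_iff_of_diagonal_iff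
    (AlgSp.RepWith @IsImmersion) AlgSp.IsLocallySeparatedMor
    (Groth.Agent.Lib.AlgStDiagRep2.baseChangeStable_repWith _) (schemeLocal_repWith _)
    (fun _ _ _ _ => Iff.rfl) g hg

variable (h𝒳 : AlgSt.IsAlgStack Scheme.fppfPrecoverage 𝒳)
  (h𝒴 : AlgSt.IsAlgStack Scheme.fppfPrecoverage 𝒴) (f : 𝒳 ⥤ᵇ 𝒴)

include h𝒳 h𝒴

theorem isImm_inertiaNeutral_of_inertia
    (h : AlgSt.RepByAlgSpWith AlgSp.IsLocallySeparatedMor (FibCat.inertiaToBase f)) :
    AlgSt.IsImm (FibCat.inertiaNeutral f) := by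
  haveI : FibCat.IsFibGrpd 𝒳.p := h𝒳.isStack.1
  have hπ : AlgSt.RepByAlgSp1 (FibCat.inertiaToBase f) := fun U y => by
    obtain ⟨F, e, he, -⟩ := h U y
    exact ⟨F, e, he⟩
  have hΔπ : AlgSt.IsImm (FibCat.diag (FibCat.inertiaToBase f)) := (isImm_diag_iff _ hπ).2 h
  exact repByAlgSpWith_inertiaNeutral_of_diag h𝒳 h𝒴 f _
    (isoInv_of_respectsIso _) (schemeLocal_repWith _)
    (fun _ _ _ _ _ _ a b ha hb => (AlgSp.RepWith @IsImmersion).comp_mem a b ha hb)
    (fun U => MorphismProperty.id_mem _ _) hΔπ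

theorem isImm_inertiaNeutral_of_diag
    (h : AlgSt.RepByAlgSpWith AlgSp.IsLocallySeparatedMor (FibCat.diag f)) :
    AlgSt.IsImm (FibCat.inertiaNeutral f) := by
  have hΔ : AlgSt.RepByAlgSp1 (FibCat.diag f) :=
    Groth.Agent.Lib.AlgStDiagCancel.repByAlgSp1_diag_of_isAlgStack h𝒳 h𝒴 f
  exact (repByAlgSpWith_inertiaNeutral_iff f _).2 ((isImm_diag_iff _ hΔ).2 h)

end Groth.Agent.Lib.AlgStInertia2
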