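import Groth.Agent.Lib.AlgStOpenCover
import Groth.Agent.Lib.AlgStDescent
import Groth.Agent.Lib.AlgStDiagDict2
import Groth.Agent.Lib.AlgStRepC
import Groth.Agent.Lib.AlgStDiagRep2
import Groth.Agent.Lib.AlgStMonoFull
import Groth.Agent.Lib.PshFp2

/-!
# Largest open substacks on which a functor has a property (helper36)

ns `Groth.Agent.Lib.AlgStLargest`

* `mapSub c E'` : the functor induced by `c` between full subcategories, an equivalence when `c` is.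
* `IsLargest P g E` : `E` is the largest open substack of the source of `g` on which `g` has `P`.
* `IsLargest.of_equiv`, `IsLargest.iff_of_span` : invariance under equivalences.
-/

set_option autoImplicit false
set_option linter.style.haveILetI false
set_option backward.isDefEq.respectTransparency false
set_option backward.isDefEq.respectTransparency.types false

namespace Groth.Agent.Lib.AlgStLargest

open CategoryTheory CategoryTheory.Limits AlgebraicGeometry Opposite AlgSt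
  Groth.Agent.Lib.H78AlgStPoints Groth.Agent.Lib.H78AlgStPointsFp Groth.Agent.Lib.AlgStPts
  Groth.Agent.Lib.AlgStPtsTop Groth.Agent.Lib.AlgStPtsSurj Groth.Agent.Lib.AlgStPtsMain
  Groth.Agent.Lib.FibGrpd Groth.Agent.Lib.AlgStFp Groth.Agent.Lib.AlgStEquiv
  Groth.Agent.Lib.FpEquiv Groth.Agent.Lib.FibYoneda Groth.Agent.Lib.AlgStOpenSub
  Groth.Agent.Lib.AlgStSubImage Groth.Agent.Lib.AlgStPtsQC Groth.Agent.Lib.AlgStPtsQC2

universe u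

variable {S : Scheme.{u}}

/-! ### Functors between full subcategories -/

section MapSub

variable {𝒜 𝒜' : AlgSt.Cat S}

/-- The functor induced by `c` between full subcategories. -/
def mapSub (c : 𝒜 ⥤ᵇ 𝒜') (E' : 𝒜'.obj → Prop) :
    fullSub 𝒜 (fun z => E' (c.obj z)) ⥤ᵇ fullSub 𝒜' E' :=
  liftSub E' (BasedFunctor.comp (subIncl 𝒜 (fun z => E' (c.obj z))) c) (fun z => z.property)

theorem mapSub_comp_subIncl (c : 𝒜 ⥤ᵇ 𝒜') (E' : 𝒜'.obj → Prop) :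
    BasedFunctor.comp (mapSub c E') (subIncl 𝒜' E') =
      BasedFunctor.comp (subIncl 𝒜 (fun z => E' (c.obj z))) c := rfl

theorem mapSub_isEquivOver (c : 𝒜 ⥤ᵇ 𝒜') (hc : FibCat.IsEquivOver c) {E' : 𝒜'.obj → Prop}
    (hE' : ObjectProperty.IsClosedUnderIsomorphisms E') : FibCat.IsEquivOver (mapSub c E') := by
  obtain ⟨hfull, hfaith, hess⟩ := ff_ess_of_isEquivOver c hc
  haveI := hfull
  haveI := hfaith
  haveI : (mapSub c E').toFunctor.Full :=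
    ⟨fun {a b} φ => ⟨ObjectProperty.homMk (c.toFunctor.preimage φ.hom), by
      apply ObjectProperty.hom_ext
      exact c.toFunctor.map_preimage φ.hom⟩⟩
  haveI : (mapSub c E').toFunctor.Faithful :=
    ⟨fun {a b} f g h => by
      apply ObjectProperty.hom_ext
      exact c.toFunctor.map_injective (congrArg (fun m => m.hom) h)⟩
  apply isEquivOver_of_ff_of_ess
  rintro ⟨y, hy⟩
  obtain ⟨z, e, he⟩ := hess y
  have hz : E' (c.obj z) := hE'.of_iso e.symm hy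
  refine ⟨⟨z, hz⟩, ObjectProperty.isoMk _ e, ?_⟩
  rw [isHomLift_comp_iff (ObjectProperty.ι E') 𝒜'.p]
  exact he

end MapSub

/-! ### The largest open substack with a property -/

section Largest

variable {𝒜 𝒜' 𝒞 𝒞' : AlgSt.Cat S}

/-- `E` is (the predicate of) the largest open substack of `𝒜` on which `g` is representable by
algebraic spaces with `P`. -/
def IsLargest (P : MorphismProperty (AlgSp.Sp S)) (g : 𝒜 ⥤ᵇ 𝒞) (E : 𝒜.obj → Prop) : Prop :=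
  PbStable E ∧ IsOpenImm (subIncl 𝒜 E) ∧
    RepByAlgSpWith P (BasedFunctor.comp (subIncl 𝒜 E) g) ∧
    ∀ E₁ : 𝒜.obj → Prop, PbStable E₁ → IsOpenImm (subIncl 𝒜 E₁) →
      RepByAlgSpWith P (BasedFunctor.comp (subIncl 𝒜 E₁) g) → ∀ z, E₁ z → E z

theorem IsLargest.iff {P : MorphismProperty (AlgSp.Sp S)} {g : 𝒜 ⥤ᵇ 𝒞} {E E' : 𝒜.obj → Prop}
    (h : IsLargest P g E) (h' : IsLargest P g E') (z : 𝒜.obj) : E z ↔ E' z :=
  ⟨h'.2.2.2 E h.1 h.2.1 h.2.2.1 z, h.2.2.2 E' h'.1 h'.2.1 h'.2.2.1 z⟩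

/-- The essential image under `c` of a predicate. -/
def pushPred (c : 𝒜 ⥤ᵇ 𝒜') (E : 𝒜.obj → Prop) : 𝒜'.obj → Prop :=
  fun y => ∃ z, E z ∧ Nonempty (c.obj z ≅ y)

theorem pushPred_closedUnderIso (c : 𝒜 ⥤ᵇ 𝒜') (E : 𝒜.obj → Prop) :
    ObjectProperty.IsClosedUnderIsomorphisms (pushPred c E) :=
  ⟨fun e ⟨z, hz, ⟨φ⟩⟩ => ⟨z, hz, ⟨φ ≪≫ e⟩⟩⟩

theorem pushPred_pbStable (c : 𝒜 ⥤ᵇ 𝒜') (hc : FibCat.IsEquivOver c) {E : 𝒜.obj → Prop}
    (hE : PbStable E) : PbStable (pushPred c E) := by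
  obtain ⟨hfull, hfaith, hess⟩ := ff_ess_of_isEquivOver c hc
  haveI := hfull
  haveI := hfaith
  rintro y' y m ⟨z, hz, ⟨φ⟩⟩
  obtain ⟨z', e, -⟩ := hess y'
  exact ⟨z', hE (c.toFunctor.preimage (e.hom ≫ m ≫ φ.inv)) hz, ⟨e⟩⟩

theorem pushPred_comp_iff (c : 𝒜 ⥤ᵇ 𝒜') [c.toFunctor.Full] [c.toFunctor.Faithful]
    {E : 𝒜.obj → Prop} (hE : ObjectProperty.IsClosedUnderIsomorphisms E) (z : 𝒜.obj) :
    pushPred c E (c.obj z) ↔ E z := by
  constructor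
  · rintro ⟨z', hz', ⟨φ⟩⟩
    exact hE.of_iso (c.toFunctor.preimageIso φ) hz'
  · intro hz
    exact ⟨z, hz, ⟨Iso.refl _⟩⟩

/-- Transport of the three "positive" clauses along a square of equivalences. -/
theorem openImm_and_prop_of_equiv (P : MorphismProperty (AlgSp.Sp S)) (c : 𝒜 ⥤ᵇ 𝒜')
    (hc : FibCat.IsEquivOver c) (d : 𝒞 ⥤ᵇ 𝒞') (hd : FibCat.IsEquivOver d) (φ : 𝒜 ⥤ᵇ 𝒞)
    (φ' : 𝒜' ⥤ᵇ 𝒞') (ι : BasedFunctor.comp c φ' ≅ BasedFunctor.comp φ d) {E' : 𝒜'.obj → Prop}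
    (hE' : ObjectProperty.IsClosedUnderIsomorphisms E') :
    (IsOpenImm (subIncl 𝒜' E') ↔ IsOpenImm (subIncl 𝒜 (fun z => E' (c.obj z)))) ∧
    (RepByAlgSpWith P (BasedFunctor.comp (subIncl 𝒜' E') φ') ↔
      RepByAlgSpWith P (BasedFunctor.comp (subIncl 𝒜 (fun z => E' (c.obj z))) φ)) := by
  have hm := mapSub_isEquivOver c hc hE'
  constructor
  · show RepByAlgSpWith _ _ ↔ RepByAlgSpWith _ _
    rw [repByAlgSpWith_equiv_comp_iff _ (mapSub c E') hm (subIncl 𝒜' E'), mapSub_comp_subIncl,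
      repByAlgSpWith_comp_equiv_iff _ _ c hc]
  · rw [repByAlgSpWith_equiv_comp_iff P (mapSub c E') hm (BasedFunctor.comp (subIncl 𝒜' E') φ'),
      ← repByAlgSpWith_comp_equiv_iff P (BasedFunctor.comp (subIncl 𝒜 (fun z => E' (c.obj z))) φ)
        d hd]
    exact Groth.Agent.Lib.AlgStDiag3.repByAlgSpWith_congr P
      (whiskerLeftIso (subIncl 𝒜 (fun z => E' (c.obj z))) ι).symm

/-- **Invariance of `IsLargest` under a square of equivalences.** -/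
theorem IsLargest.of_equiv (P : MorphismProperty (AlgSp.Sp S)) (c : 𝒜 ⥤ᵇ 𝒜')
    (hc : FibCat.IsEquivOver c) (d : 𝒞 ⥤ᵇ 𝒞') (hd : FibCat.IsEquivOver d) (φ : 𝒜 ⥤ᵇ 𝒞)
    (φ' : 𝒜' ⥤ᵇ 𝒞') (ι : BasedFunctor.comp c φ' ≅ BasedFunctor.comp φ d) {E' : 𝒜'.obj → Prop}
    (h : IsLargest P φ' E') : IsLargest P φ (fun z => E' (c.obj z)) := by
  obtain ⟨h1, h2, h3, h4⟩ := h
  have key := openImm_and_prop_of_equiv P c hc d hd φ φ' ι h1.closedUnderIso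
  refine ⟨fun _ _ m hz => h1 (c.map m) hz, key.1.1 h2, key.2.1 h3, ?_⟩
  intro E₁ hE₁ ho hp z hz
  obtain ⟨hfull, hfaith, -⟩ := ff_ess_of_isEquivOver c hc
  haveI := hfull
  haveI := hfaith
  have hpc := pushPred_closedUnderIso c E₁
  have hfun : (fun z => pushPred c E₁ (c.obj z)) = E₁ :=
    funext fun z => propext (pushPred_comp_iff c hE₁.closedUnderIso z)
  have key' := openImm_and_prop_of_equiv P c hc d hd φ φ' ι hpc
  rw [hfun] at key'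
  exact h4 (pushPred c E₁) (pushPred_pbStable c hc hE₁) (key'.1.2 ho) (key'.2.2 hp) (c.obj z)
    ⟨z, hz, ⟨Iso.refl _⟩⟩

/-- Two largest open substacks related by a span of equivalences agree on corresponding objects. -/
theorem IsLargest.iff_of_span (P : MorphismProperty (AlgSp.Sp S)) {𝒜₁ 𝒜₂ : AlgSt.Cat S}
    (c₁ : 𝒜₁ ⥤ᵇ 𝒜') (hc₁ : FibCat.IsEquivOver c₁) (c₂ : 𝒜₂ ⥤ᵇ 𝒜') (hc₂ : FibCat.IsEquivOver c₂)
    (φ₁ : 𝒜₁ ⥤ᵇ 𝒞) (φ₂ : 𝒜₂ ⥤ᵇ 𝒞) (φ' : 𝒜' ⥤ᵇ 𝒞) (ι₁ : BasedFunctor.comp c₁ φ' ≅ φ₁)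
    (ι₂ : BasedFunctor.comp c₂ φ' ≅ φ₂) {E₁ : 𝒜₁.obj → Prop} {E₂ : 𝒜₂.obj → Prop}
    (h₁ : IsLargest P φ₁ E₁) (h₂ : IsLargest P φ₂ E₂) {ζ₁ : 𝒜₁.obj} {ζ₂ : 𝒜₂.obj}
    (κ : c₁.obj ζ₁ ≅ c₂.obj ζ₂) : E₁ ζ₁ ↔ E₂ ζ₂ := by
  obtain ⟨G, ⟨α⟩, ⟨β⟩⟩ := hc₂
  have hG : FibCat.IsEquivOver G := isEquivOver_symm c₂ α β
  let c : 𝒜₁ ⥤ᵇ 𝒜₂ := BasedFunctor.comp c₁ G
  have hc : FibCat.IsEquivOver c := isEquivOver_comp hc₁ hG
  let ι : BasedFunctor.comp c φ₂ ≅ BasedFunctor.comp φ₁ (BasedFunctor.id 𝒞) :=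
    whiskerLeftIso c ι₂.symm ≪≫
      (whiskerLeftIso c₁ (whiskerRightIso β φ' ≪≫ idCompIso φ') : BasedFunctor.comp c₁
        (BasedFunctor.comp (BasedFunctor.comp G c₂) φ') ≅ BasedFunctor.comp c₁ φ') ≪≫
      ι₁ ≪≫ (compIdIso φ₁).symm
  have h₂' := IsLargest.of_equiv P c hc (BasedFunctor.id 𝒞) isEquivOver_id φ₁ φ₂ ι h₂
  rw [h₁.iff h₂' ζ₁]
  have e : c.obj ζ₁ ≅ ζ₂ := G.toFunctor.mapIso κ ≪≫ appIso α ζ₂
  exact ⟨fun h => h₂.1.closedUnderIso.of_iso e h, fun h => h₂.1.closedUnderIso.of_iso e.symm h⟩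

/-- Pushing a largest open substack forward along a square of equivalences. -/
theorem IsLargest.exists_push (P : MorphismProperty (AlgSp.Sp S)) (c : 𝒜 ⥤ᵇ 𝒜')
    (hc : FibCat.IsEquivOver c) (d : 𝒞 ⥤ᵇ 𝒞') (hd : FibCat.IsEquivOver d) (φ : 𝒜 ⥤ᵇ 𝒞)
    (φ' : 𝒜' ⥤ᵇ 𝒞') (ι : BasedFunctor.comp c φ' ≅ BasedFunctor.comp φ d) {E : 𝒜.obj → Prop}
    (h : IsLargest P φ E) : ∃ E' : 𝒜'.obj → Prop, IsLargest P φ' E' ∧ ∀ z, E' (c.obj z) ↔ E z := by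
  obtain ⟨G, ⟨α⟩, ⟨β⟩⟩ := hc
  obtain ⟨D, ⟨α'⟩, ⟨β'⟩⟩ := hd
  have hG : FibCat.IsEquivOver G := isEquivOver_symm c α β
  have hD : FibCat.IsEquivOver D := isEquivOver_symm d α' β'
  let ι' : BasedFunctor.comp G φ ≅ BasedFunctor.comp φ' D :=
    (compIdIso _).symm ≪≫ whiskerLeftIso (BasedFunctor.comp G φ) α'.symm ≪≫
      (whiskerRightIso (whiskerLeftIso G ι.symm) D :
        BasedFunctor.comp (BasedFunctor.comp G (BasedFunctor.comp φ d)) D ≅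
          BasedFunctor.comp (BasedFunctor.comp G (BasedFunctor.comp c φ')) D) ≪≫
      (whiskerRightIso (whiskerRightIso β φ' ≪≫ idCompIso φ') D :
        BasedFunctor.comp (BasedFunctor.comp (BasedFunctor.comp G c) φ') D ≅
          BasedFunctor.comp φ' D)
  refine ⟨fun y => E (G.obj y), IsLargest.of_equiv P G hG D hD φ' φ ι' h, fun z => ?_⟩
  have e : G.obj (c.obj z) ≅ z := appIso α z
  exact ⟨fun h' => h.1.closedUnderIso.of_iso e h', fun h' => h.1.closedUnderIso.of_iso e.symm h'⟩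

end Largest

/-! ### Essential images -/

section EssIm

variable {𝒵 𝒳 : AlgSt.Cat S}

/-- The essential image of a functor between categories fibred in groupoids is stable under
pullback. -/
theorem essIm_pbStable [FibCat.IsFibGrpd 𝒵.p] [FibCat.IsFibGrpd 𝒳.p] (i : 𝒵 ⥤ᵇ 𝒳) :
    PbStable (essIm i) := by
  rintro y' y m ⟨z, ⟨φ⟩⟩
  let c : y' ⟶ i.obj z := m ≫ φ.inv
  have hb : 𝒳.p.obj (i.obj z) = 𝒵.p.obj z := i.w_obj z
  let k : 𝒳.p.obj y' ⟶ 𝒵.p.obj z := 𝒳.p.map c ≫ eqToHom hb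
  haveI hc : 𝒳.p.IsHomLift k c := IsHomLift.of_fac 𝒳.p k c rfl hb (by simp [k])
  obtain ⟨z', ψ, hψ⟩ := FibCat.IsFibGrpd.exists_lift (p := 𝒵.p) (x := z) k
  haveI := hψ
  haveI : 𝒳.p.IsHomLift k (i.map ψ) := BasedFunctor.preserves_isHomLift i k ψ
  obtain ⟨ε, -, -⟩ := Groth.Agent.Lib.H43StkDescent.exists_iso_of_isHomLift k (i.map ψ) c
  exact ⟨z', ⟨ε.symm⟩⟩

/-- Open immersions of stacks are fully faithful. -/
theorem full_faithful_of_isOpenImm [FibCat.IsFibGrpd 𝒵.p] [FibCat.IsFibGrpd 𝒳.p] (i : 𝒵 ⥤ᵇ 𝒳)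
    (hi : IsOpenImm i) : i.toFunctor.Full ∧ i.toFunctor.Faithful :=
  Groth.Agent.Lib.AlgStMonoFull.full_faithful_of_isMono i
    (Groth.Agent.Lib.AlgStDiagDict2.repByAlgSpWith_mono i (fun _ _ _ α hα => by
      haveI : Mono α := Groth.Agent.Lib.AlgSpBasic.mono_of_repWith
        (fun _ _ g (hg : IsOpenImmersion g) => (inferInstance : Mono g)) hα
      exact MorphismProperty.monomorphisms.infer_property α) hi)

/-- A fully faithful functor identifies its source with the full subcategory on its essential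
image; properties of `i` are properties of the inclusion. -/
theorem repByAlgSpWith_subIncl_essIm_iff [FibCat.IsFibGrpd 𝒵.p] [FibCat.IsFibGrpd 𝒳.p]
    (P : MorphismProperty (AlgSp.Sp S)) {𝒞 : AlgSt.Cat S} (i : 𝒵 ⥤ᵇ 𝒳) [i.toFunctor.Full]
    [i.toFunctor.Faithful] (g : 𝒳 ⥤ᵇ 𝒞) :
    RepByAlgSpWith P (BasedFunctor.comp (subIncl 𝒳 (essIm i)) g) ↔
      RepByAlgSpWith P (BasedFunctor.comp i g) :=
  repByAlgSpWith_equiv_comp_iff P (toEssIm i) (toEssIm_isEquivOver i)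
    (BasedFunctor.comp (subIncl 𝒳 (essIm i)) g)

end EssIm

/-! ### The dictionary with algebraic spaces -/

section Sheaf

/-- The conclusion of the hypothesis on algebraic spaces: `(W, w)` is the largest open subspace of
`X` on which `f` has `P`. -/
def SpLargest (P : MorphismProperty (AlgSp.Sp S)) {X Y : AlgSp.Space S} (f : X ⟶ Y)
    (W : AlgSp.Space S) (w : W ⟶ X) : Prop :=
  AlgSp.RepWith @IsOpenImmersion w.hom ∧ P (w ≫ f).hom ∧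
    ∀ (W₁ : AlgSp.Space S) (w₁ : W₁ ⟶ X), AlgSp.RepWith @IsOpenImmersion w₁.hom →
      P (w₁ ≫ f).hom → ∃ k : W₁ ⟶ W, k ≫ w = w₁

variable (A : AlgSp.Space S)

/-- An open substack of (the category of) an algebraic space is (the category of) an open
subspace. -/
theorem exists_openSub_of_isOpenImm {E₁ : (ofSp A.obj).obj → Prop} (hE₁ : PbStable E₁)
    (ho : IsOpenImm (subIncl (ofSp A.obj) E₁)) :
    ∃ (W₁ : AlgSp.Space S) (w₁ : W₁ ⟶ A), AlgSp.RepWith @IsOpenImmersion w₁.hom ∧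
      E₁ = essIm (ofSpMap w₁.hom) := by
  haveI : FibCat.IsFibGrpd (ofSp A.obj).p := Stk.isFibGrpd_ofPsh A.obj.obj
  haveI := fullSub_isFibGrpd hE₁
  obtain ⟨V, e, he⟩ := Groth.Agent.Lib.AlgStBoot.repByAlgSp_fp_of_repByAlgSp1
    (subIncl (ofSp A.obj) E₁) (BasedFunctor.id (ofSp A.obj)) (repByAlgSp1_of_repByAlgSpWith _ ho)
    ⟨A, BasedFunctor.id _, isEquivOver_id⟩
  let e₁ : ofSp V.obj ⥤ᵇ fullSub (ofSp A.obj) E₁ :=
    BasedFunctor.comp e (FibCat.fpSnd (BasedFunctor.id (ofSp A.obj)) (subIncl (ofSp A.obj) E₁))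
  have he₁ : FibCat.IsEquivOver e₁ := by
    refine isEquivOver_comp he ?_
    exact isEquivOver_comp (Groth.Agent.Lib.AlgStRepC.fpSwap_isEquivOver _ _)
      (Groth.Agent.Lib.AlgStEquivRep.fpFst_isEquivOver (subIncl (ofSp A.obj) E₁)
        (BasedFunctor.id (ofSp A.obj)) isEquivOver_id)
  obtain ⟨g, ⟨γ⟩⟩ := exists_ofSpMap_iso (BasedFunctor.comp e₁ (subIncl (ofSp A.obj) E₁))
  refine ⟨V, ObjectProperty.homMk g, ?_, ?_⟩
  · exact Groth.Agent.Lib.AlgStOpenCover.repWith_isOpenImmersion_of_isOpenImm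
      (BasedFunctor.id (ofSp A.obj)) isEquivOver_id e₁ he₁ g (compIdIso _ ≪≫ γ) ho
  · exact eq_essIm_of_equiv (ofSpMap g) hE₁.closedUnderIso e₁ he₁ γ

end Sheaf

section Dict

variable {X Y : AlgSp.Space S}

/-- An open subspace gives an open substack of the category of the space. -/
theorem isOpenImm_ofSpMap {W : AlgSp.Space S} (w : W ⟶ X)
    (hw : AlgSp.RepWith @IsOpenImmersion w.hom) : IsOpenImm (ofSpMap w.hom) :=
  Groth.Agent.Lib.AlgStAtlas.repByAlgSpWith_ofSpMap _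
    (Groth.Agent.Lib.AlgStDiagRep2.baseChangeStable_repWith _) W.property X.property w.hom hw

theorem openSub_dict (P : MorphismProperty (AlgSp.Sp S))
    (hPb : ∀ ⦃X₁ Y₁ X₂ Y₂ : AlgSp.Sp S⦄, AlgSp.IsAlgSpace X₁ → AlgSp.IsAlgSpace Y₁ →
      AlgSp.IsAlgSpace X₂ → AlgSp.IsAlgSpace Y₂ → ∀ (a : X₁ ⟶ Y₁) (b : Y₂ ⟶ Y₁) (a' : X₂ ⟶ Y₂)
      (b' : X₂ ⟶ X₁), IsPullback b' a' a b → P a → P a')
    (hP : AlgSp.IsLocalOnBase AlgSp.IsFppfCover P) (f : X ⟶ Y) {W : AlgSp.Space S} (w : W ⟶ X)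
    (hw : AlgSp.RepWith @IsOpenImmersion w.hom) :
    PbStable (essIm (ofSpMap w.hom)) ∧ IsOpenImm (subIncl (ofSp X.obj) (essIm (ofSpMap w.hom))) ∧
      (RepByAlgSpWith P (BasedFunctor.comp (subIncl (ofSp X.obj) (essIm (ofSpMap w.hom)))
        (ofSpMap f.hom)) ↔ P (w ≫ f).hom) := by
  haveI : FibCat.IsFibGrpd (ofSp X.obj).p := Stk.isFibGrpd_ofPsh X.obj.obj
  haveI : FibCat.IsFibGrpd (ofSp W.obj).p := Stk.isFibGrpd_ofPsh W.obj.obj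
  have hoi := isOpenImm_ofSpMap w hw
  obtain ⟨hfull, hfaith⟩ := full_faithful_of_isOpenImm _ hoi
  haveI := hfull
  haveI := hfaith
  refine ⟨essIm_pbStable _, ?_, ?_⟩
  · exact (repByAlgSpWith_equiv_comp_iff _ (toEssIm (ofSpMap w.hom))
      (toEssIm_isEquivOver (ofSpMap w.hom)) (subIncl _ _)).2 hoi
  · rw [repByAlgSpWith_subIncl_essIm_iff P (ofSpMap w.hom) (ofSpMap f.hom)]
    have hcomp : BasedFunctor.comp (ofSpMap w.hom) (ofSpMap f.hom) = ofSpMap (w ≫ f).hom := rfl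
    rw [hcomp]
    constructor
    · intro h
      exact Groth.Agent.Lib.AlgStDiagDict2.prop_of_repByAlgSpWith_ofSpMap P
        (Groth.Agent.Lib.AlgStSpTest.isoInv_of_baseChange P hPb)
        (Groth.Agent.Lib.AlgStSpTest.schemeLocal_of_atlasLocal
          (Groth.Agent.Lib.AlgStSpTest.atlasLocal_of_isLocalOnBase P hP))
        W.property Y.property _ h
    · intro h
      exact Groth.Agent.Lib.AlgStAtlas.repByAlgSpWith_ofSpMap P hPb W.property Y.property _ h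

/-- Containment of essential images of open subspaces gives a factorization. -/
theorem exists_factor_of_essIm_le {W W₁ : AlgSp.Space S} (w : W ⟶ X) (w₁ : W₁ ⟶ X)
    (hw : AlgSp.RepWith @IsOpenImmersion w.hom)
    (h : ∀ z, essIm (ofSpMap w₁.hom) z → essIm (ofSpMap w.hom) z) : ∃ k : W₁ ⟶ W, k ≫ w = w₁ := by
  haveI : FibCat.IsFibGrpd (ofSp X.obj).p := Stk.isFibGrpd_ofPsh X.obj.obj
  haveI : FibCat.IsFibGrpd (ofSp W.obj).p := Stk.isFibGrpd_ofPsh W.obj.obj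
  obtain ⟨hfull, hfaith⟩ := full_faithful_of_isOpenImm _ (isOpenImm_ofSpMap w hw)
  haveI := hfull
  haveI := hfaith
  obtain ⟨G, ⟨α⟩, ⟨β⟩⟩ := toEssIm_isEquivOver (ofSpMap w.hom)
  let Φ : ofSp W₁.obj ⥤ᵇ fullSub (ofSp X.obj) (essIm (ofSpMap w.hom)) :=
    liftSub _ (ofSpMap w₁.hom) (fun a => h _ ⟨a, ⟨Iso.refl _⟩⟩)
  obtain ⟨k, ⟨γ⟩⟩ := exists_ofSpMap_iso (BasedFunctor.comp Φ G)
  refine ⟨ObjectProperty.homMk k, ?_⟩
  have e : ofSpMap (k ≫ w.hom) ≅ ofSpMap w₁.hom :=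
    (whiskerRightIso γ.symm (ofSpMap w.hom) : BasedFunctor.comp (ofSpMap k) (ofSpMap w.hom) ≅
      BasedFunctor.comp (BasedFunctor.comp Φ G) (ofSpMap w.hom)) ≪≫
    (whiskerLeftIso Φ (whiskerRightIso β (subIncl _ _) ≪≫ idCompIso _) :
      BasedFunctor.comp Φ (BasedFunctor.comp (BasedFunctor.comp G (toEssIm (ofSpMap w.hom)))
        (subIncl _ _)) ≅ BasedFunctor.comp Φ (subIncl _ _))
  have := Groth.Agent.Lib.PshFp.eq_of_ofPshMap_iso e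
  apply ObjectProperty.hom_ext
  apply ObjectProperty.hom_ext
  exact this

/-- **From spaces to stacks.** -/
theorem isLargest_of_spLargest (P : MorphismProperty (AlgSp.Sp S))
    (hPb : ∀ ⦃X₁ Y₁ X₂ Y₂ : AlgSp.Sp S⦄, AlgSp.IsAlgSpace X₁ → AlgSp.IsAlgSpace Y₁ →
      AlgSp.IsAlgSpace X₂ → AlgSp.IsAlgSpace Y₂ → ∀ (a : X₁ ⟶ Y₁) (b : Y₂ ⟶ Y₁) (a' : X₂ ⟶ Y₂)
      (b' : X₂ ⟶ X₁), IsPullback b' a' a b → P a → P a')
    (hP : AlgSp.IsLocalOnBase AlgSp.IsFppfCover P) (f : X ⟶ Y) (W : AlgSp.Space S) (w : W ⟶ X)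
    (h : SpLargest P f W w) : IsLargest P (ofSpMap f.hom) (essIm (ofSpMap w.hom)) := by
  obtain ⟨hw, hPw, hmax⟩ := h
  obtain ⟨h1, h2, h3⟩ := openSub_dict P hPb hP f w hw
  refine ⟨h1, h2, h3.2 hPw, ?_⟩
  intro E₁ hE₁ ho hp z hz
  obtain ⟨W₁, w₁, hw₁, rfl⟩ := exists_openSub_of_isOpenImm X hE₁ ho
  obtain ⟨-, -, h3'⟩ := openSub_dict P hPb hP f w₁ hw₁
  obtain ⟨k, rfl⟩ := hmax W₁ w₁ hw₁ (h3'.1 hp)
  obtain ⟨ξ, ⟨φ⟩⟩ := hz
  exact ⟨(ofSpMap k.hom).obj ξ, ⟨φ⟩⟩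

/-- **From stacks to spaces.** -/
theorem exists_spLargest_of_isLargest (P : MorphismProperty (AlgSp.Sp S))
    (hPb : ∀ ⦃X₁ Y₁ X₂ Y₂ : AlgSp.Sp S⦄, AlgSp.IsAlgSpace X₁ → AlgSp.IsAlgSpace Y₁ →
      AlgSp.IsAlgSpace X₂ → AlgSp.IsAlgSpace Y₂ → ∀ (a : X₁ ⟶ Y₁) (b : Y₂ ⟶ Y₁) (a' : X₂ ⟶ Y₂)
      (b' : X₂ ⟶ X₁), IsPullback b' a' a b → P a → P a')
    (hP : AlgSp.IsLocalOnBase AlgSp.IsFppfCover P) (f : X ⟶ Y) {E : (ofSp X.obj).obj → Prop}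
    (h : IsLargest P (ofSpMap f.hom) E) :
    ∃ (W : AlgSp.Space S) (w : W ⟶ X), SpLargest P f W w ∧ E = essIm (ofSpMap w.hom) := by
  obtain ⟨h1, h2, h3, h4⟩ := h
  obtain ⟨W, w, hw, rfl⟩ := exists_openSub_of_isOpenImm X h1 h2
  obtain ⟨-, -, h3'⟩ := openSub_dict P hPb hP f w hw
  refine ⟨W, w, ⟨hw, h3'.1 h3, ?_⟩, rfl⟩
  intro W₁ w₁ hw₁ hPw₁
  obtain ⟨g1, g2, g3⟩ := openSub_dict P hPb hP f w₁ hw₁
  exact exists_factor_of_essIm_le w w₁ hw (h4 _ g1 g2 (g3.2 hPw₁))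

end Dict

end Groth.Agent.Lib.AlgStLargest
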