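import Groth.Agent.Lib.AlgStLargest

/-!
# Largest open substacks II: existence and base change for stacks that are algebraic spaces (helper36)

ns `Groth.Agent.Lib.AlgStLargest`

* `exists_isLargest` : hypothesis `h₃` on algebraic spaces gives largest open substacks for functors
  between categories representable by algebraic spaces.
* `isLargest_fpFst` : hypothesis `h₄` gives compatibility with base change.
-/

set_option autoImplicit false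
set_option linter.style.haveILetI false
set_option backward.isDefEq.respectTransparency false
set_option backward.isDefEq.respectTransparency.types false

namespace Groth.Agent.Lib.AlgStLargest

open CategoryTheory CategoryTheory.Limits AlgebraicGeometry Opposite AlgSt
  Groth.Agent.Lib.H78AlgStPoints Groth.Agent.Lib.H78AlgStPointsFp Groth.Agent.Lib.AlgStPts
  Groth.Agent.Lib.AlgStPtsTop Groth.Agent.Lib.AlgStPtsSurj Groth.Agent.Lib.AlgStPtsMain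
  Groth.Agent.Lib.FibGrpd Groth.Agent.Lib.AlgStFp Groth.Agent.Lib.AlgStEquiv
  Groth.Agent.Lib.FpEquiv Groth.Agent.Lib.FibYoneda Groth.Agent.Lib.AlgStOpenSub
  Groth.Agent.Lib.AlgStSubImage Groth.Agent.Lib.AlgStPtsQC Groth.Agent.Lib.AlgStPtsQC2
  Groth.Agent.Lib.PshFp

universe u

variable {S : Scheme.{u}}

section Models

variable {𝒜 ℬ : AlgSt.Cat S}

/-- A category representable by an algebraic space, with both directions of the equivalence. -/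
theorem exists_model (h : RepByAlgSp 𝒜) :
    ∃ (A : AlgSp.Space S) (e : ofSp A.obj ⥤ᵇ 𝒜) (c : 𝒜 ⥤ᵇ ofSp A.obj), FibCat.IsEquivOver e ∧
      FibCat.IsEquivOver c ∧ Nonempty (BasedFunctor.comp e c ≅ BasedFunctor.id _) ∧
      Nonempty (BasedFunctor.comp c e ≅ BasedFunctor.id _) := by
  obtain ⟨A, e, he⟩ := h
  obtain ⟨c, ⟨α⟩, ⟨β⟩⟩ := id he
  exact ⟨A, e, c, he, isEquivOver_symm e α β, ⟨α⟩, ⟨β⟩⟩

/-- A functor between categories representable by algebraic spaces comes from a map of spaces. -/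
theorem exists_map_model (g : 𝒜 ⥤ᵇ ℬ) {A B : AlgSp.Space S} (eA : ofSp A.obj ⥤ᵇ 𝒜)
    (eB : ofSp B.obj ⥤ᵇ ℬ) (heB : FibCat.IsEquivOver eB) :
    ∃ a : A ⟶ B, Nonempty (BasedFunctor.comp eA g ≅ BasedFunctor.comp (ofSpMap a.hom) eB) := by
  obtain ⟨cB, ⟨αB⟩, ⟨βB⟩⟩ := heB
  obtain ⟨a, ⟨γ⟩⟩ := exists_ofSpMap_iso (BasedFunctor.comp (BasedFunctor.comp eA g) cB)
  refine ⟨ObjectProperty.homMk a, ⟨?_⟩⟩
  exact (compIdIso _).symm ≪≫ whiskerLeftIso (BasedFunctor.comp eA g) βB.symm ≪≫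
    (whiskerRightIso γ eB : BasedFunctor.comp (BasedFunctor.comp (BasedFunctor.comp eA g) cB) eB ≅
      BasedFunctor.comp (ofSpMap a) eB)

/-- Properties of a functor between such categories are properties of the map of spaces. -/
theorem prop_model_iff (P : MorphismProperty (AlgSp.Sp S))
    (hPb : ∀ ⦃X₁ Y₁ X₂ Y₂ : AlgSp.Sp S⦄, AlgSp.IsAlgSpace X₁ → AlgSp.IsAlgSpace Y₁ →
      AlgSp.IsAlgSpace X₂ → AlgSp.IsAlgSpace Y₂ → ∀ (a : X₁ ⟶ Y₁) (b : Y₂ ⟶ Y₁) (a' : X₂ ⟶ Y₂)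
      (b' : X₂ ⟶ X₁), IsPullback b' a' a b → P a → P a')
    (hP : AlgSp.IsLocalOnBase AlgSp.IsFppfCover P) (g : 𝒜 ⥤ᵇ ℬ) {A B : AlgSp.Space S}
    (eA : ofSp A.obj ⥤ᵇ 𝒜) (heA : FibCat.IsEquivOver eA) (eB : ofSp B.obj ⥤ᵇ ℬ)
    (heB : FibCat.IsEquivOver eB) (a : A ⟶ B)
    (ι : BasedFunctor.comp eA g ≅ BasedFunctor.comp (ofSpMap a.hom) eB) :
    RepByAlgSpWith P g ↔ P a.hom := by
  rw [repByAlgSpWith_equiv_comp_iff P eA heA g, Groth.Agent.Lib.AlgStDiag3.repByAlgSpWith_congr P ι.symm,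
    repByAlgSpWith_comp_equiv_iff P _ eB heB]
  constructor
  · intro h
    exact Groth.Agent.Lib.AlgStDiagDict2.prop_of_repByAlgSpWith_ofSpMap P
      (Groth.Agent.Lib.AlgStSpTest.isoInv_of_baseChange P hPb)
      (Groth.Agent.Lib.AlgStSpTest.schemeLocal_of_atlasLocal
        (Groth.Agent.Lib.AlgStSpTest.atlasLocal_of_isLocalOnBase P hP))
      A.property B.property _ h
  · intro h
    exact Groth.Agent.Lib.AlgStAtlas.repByAlgSpWith_ofSpMap P hPb A.property B.property _ h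

end Models

section Exist

variable {𝒜 ℬ ℬ' : AlgSt.Cat S}

/-- **Existence of the largest open substack** for functors between categories representable by
algebraic spaces, from the hypothesis on algebraic spaces. -/
theorem exists_isLargest (P Q : MorphismProperty (AlgSp.Sp S))
    (hPb : ∀ ⦃X₁ Y₁ X₂ Y₂ : AlgSp.Sp S⦄, AlgSp.IsAlgSpace X₁ → AlgSp.IsAlgSpace Y₁ →
      AlgSp.IsAlgSpace X₂ → AlgSp.IsAlgSpace Y₂ → ∀ (a : X₁ ⟶ Y₁) (b : Y₂ ⟶ Y₁) (a' : X₂ ⟶ Y₂)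
      (b' : X₂ ⟶ X₁), IsPullback b' a' a b → P a → P a')
    (hQb : ∀ ⦃X₁ Y₁ X₂ Y₂ : AlgSp.Sp S⦄, AlgSp.IsAlgSpace X₁ → AlgSp.IsAlgSpace Y₁ →
      AlgSp.IsAlgSpace X₂ → AlgSp.IsAlgSpace Y₂ → ∀ (a : X₁ ⟶ Y₁) (b : Y₂ ⟶ Y₁) (a' : X₂ ⟶ Y₂)
      (b' : X₂ ⟶ X₁), IsPullback b' a' a b → Q a → Q a')
    (hP : AlgSp.IsLocalOnBase AlgSp.IsFppfCover P) (hQ : AlgSp.IsLocalOnBase AlgSp.IsFppfCover Q)
    (h₃ : ∀ (X Y : AlgSp.Space S) (f : X ⟶ Y), Q f.hom →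
      ∃ (W : AlgSp.Space S) (w : W ⟶ X), SpLargest P f W w)
    (hA : RepByAlgSp 𝒜) (hB : RepByAlgSp ℬ) (g : 𝒜 ⥤ᵇ ℬ) (hg : RepByAlgSpWith Q g) :
    ∃ E : 𝒜.obj → Prop, IsLargest P g E := by
  obtain ⟨A, eA, cA, heA, -, -, -⟩ := exists_model hA
  obtain ⟨B, eB, cB, heB, -, -, -⟩ := exists_model hB
  obtain ⟨a, ⟨ι⟩⟩ := exists_map_model g eA eB heB
  have hQa : Q a.hom := (prop_model_iff Q hQb hQ g eA heA eB heB a ι).1 hg
  obtain ⟨W, w, hW⟩ := h₃ A B a hQa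
  have h1 := isLargest_of_spLargest P hPb hP a W w hW
  obtain ⟨E', hE', -⟩ := IsLargest.exists_push P eA heA eB heB (ofSpMap a.hom) g ι h1
  exact ⟨E', hE'⟩

/-- Membership in the essential image of `ofSpMap w`, sectionwise. -/
theorem essIm_ofSpMap_iff {W X : AlgSp.Sp S} (w : W ⟶ X) (z : (ofSp X).obj) :
    essIm (ofSpMap w) z ↔ ∃ t : W.obj.obj (op z.base), w.hom.app _ t = z.sec := by
  constructor
  · rintro ⟨ξ, ⟨φ⟩⟩
    refine ⟨W.obj.map φ.inv.hom.op ξ.sec, ?_⟩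
    have h1 : X.obj.map φ.inv.hom.op (w.hom.app _ ξ.sec) = z.sec := φ.inv.map_sec
    rw [← h1]
    exact NatTrans.naturality_apply w.hom φ.inv.hom.op ξ.sec
  · rintro ⟨t, ht⟩
    exact ⟨⟨z.base, t⟩, ⟨eltIso ht.symm⟩⟩

end Exist

section BaseChange

variable {𝒜 ℬ ℬ' : AlgSt.Cat S}

/-- Pullback of open subspaces, sectionwise. -/
theorem essIm_pullback_iff {W X X' W' : AlgSp.Sp S} {w : W ⟶ X} {s : X' ⟶ X} {k : W' ⟶ W}
    {w' : W' ⟶ X'} (sq : IsPullback k w' w s) (ζ : (ofSp X').obj) :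
    essIm (ofSpMap w') ζ ↔ essIm (ofSpMap w) ((ofSpMap s).obj ζ) := by
  rw [essIm_ofSpMap_iff, essIm_ofSpMap_iff]
  have sq' : IsPullback k.hom w'.hom w.hom s.hom :=
    sq.map (sheafToPresheaf (AlgSp.J S) (Type (u + 1)))
  have key := sq'.app (op ζ.base)
  constructor
  · rintro ⟨t, ht⟩
    refine ⟨k.hom.app _ t, ?_⟩
    have h1 := congrArg (fun m : W'.obj ⟶ X.obj => m.app (op ζ.base) t) sq'.w
    have h2 : w.hom.app (op ζ.base) (k.hom.app (op ζ.base) t) =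
        s.hom.app (op ζ.base) (w'.hom.app (op ζ.base) t) := h1
    show w.hom.app (op ζ.base) (k.hom.app (op ζ.base) t) = s.hom.app (op ζ.base) ζ.sec
    rw [h2, ht]
  · rintro ⟨t, ht⟩
    have ht' : w.hom.app (op ζ.base) t = s.hom.app (op ζ.base) ζ.sec := ht
    obtain ⟨r, -, hr⟩ := Limits.Types.exists_of_isPullback key t ζ.sec ht'
    exact ⟨r, hr⟩

/-- **Base change of the largest open substack** for categories representable by algebraic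
spaces, from the hypothesis on algebraic spaces. -/
theorem isLargest_fpFst (P Q R : MorphismProperty (AlgSp.Sp S))
    (hPb : ∀ ⦃X₁ Y₁ X₂ Y₂ : AlgSp.Sp S⦄, AlgSp.IsAlgSpace X₁ → AlgSp.IsAlgSpace Y₁ →
      AlgSp.IsAlgSpace X₂ → AlgSp.IsAlgSpace Y₂ → ∀ (a : X₁ ⟶ Y₁) (b : Y₂ ⟶ Y₁) (a' : X₂ ⟶ Y₂)
      (b' : X₂ ⟶ X₁), IsPullback b' a' a b → P a → P a')
    (hQb : ∀ ⦃X₁ Y₁ X₂ Y₂ : AlgSp.Sp S⦄, AlgSp.IsAlgSpace X₁ → AlgSp.IsAlgSpace Y₁ →
      AlgSp.IsAlgSpace X₂ → AlgSp.IsAlgSpace Y₂ → ∀ (a : X₁ ⟶ Y₁) (b : Y₂ ⟶ Y₁) (a' : X₂ ⟶ Y₂)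
      (b' : X₂ ⟶ X₁), IsPullback b' a' a b → Q a → Q a')
    (hRb : ∀ ⦃X₁ Y₁ X₂ Y₂ : AlgSp.Sp S⦄, AlgSp.IsAlgSpace X₁ → AlgSp.IsAlgSpace Y₁ →
      AlgSp.IsAlgSpace X₂ → AlgSp.IsAlgSpace Y₂ → ∀ (a : X₁ ⟶ Y₁) (b : Y₂ ⟶ Y₁) (a' : X₂ ⟶ Y₂)
      (b' : X₂ ⟶ X₁), IsPullback b' a' a b → R a → R a')
    (hP : AlgSp.IsLocalOnBase AlgSp.IsFppfCover P) (hQ : AlgSp.IsLocalOnBase AlgSp.IsFppfCover Q)
    (hR : AlgSp.IsLocalOnBase AlgSp.IsFppfCover R)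
    (h₄ : ∀ (X Y X' Y' : AlgSp.Space S) (f : X ⟶ Y) (g : Y' ⟶ Y) (f' : X' ⟶ Y') (g' : X' ⟶ X),
      IsPullback g'.hom f'.hom f.hom g.hom → Q f.hom → R g.hom →
      ∀ (W : AlgSp.Space S) (w : W ⟶ X), SpLargest P f W w →
        ∀ (W' : AlgSp.Space S) (w' : W' ⟶ X') (k : W' ⟶ W), IsPullback k.hom w'.hom w.hom g'.hom →
          SpLargest P f' W' w')
    (hA : RepByAlgSp 𝒜) (hB : RepByAlgSp ℬ) (hB' : RepByAlgSp ℬ') (g : 𝒜 ⥤ᵇ ℬ)
    (hg : RepByAlgSpWith Q g) (q : ℬ' ⥤ᵇ ℬ) (hq : RepByAlgSpWith R q) {E : 𝒜.obj → Prop}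
    (hE : IsLargest P g E) : IsLargest P (FibCat.fpFst q g) (fun z => E z.obj.snd) := by
  obtain ⟨A, eA, cA, heA, -, -, -⟩ := exists_model hA
  obtain ⟨B, eB, cB, heB, -, -, -⟩ := exists_model hB
  obtain ⟨B', eB', cB', heB', -, -, -⟩ := exists_model hB'
  obtain ⟨a, ⟨ιa⟩⟩ := exists_map_model g eA eB heB
  obtain ⟨p, ⟨ιp⟩⟩ := exists_map_model q eB' eB heB
  have hQa : Q a.hom := (prop_model_iff Q hQb hQ g eA heA eB heB a ιa).1 hg
  have hRp : R p.hom := (prop_model_iff R hRb hR q eB' heB' eB heB p ιp).1 hq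
  have hEA : IsLargest P (ofSpMap a.hom) (fun ξ => E (eA.obj ξ)) :=
    IsLargest.of_equiv P eA heA eB heB (ofSpMap a.hom) g ιa hE
  obtain ⟨W, w, hW, hEW⟩ := exists_spLargest_of_isLargest P hPb hP a hEA
  -- the pullback of spaces
  have sq : IsPullback (pullback.fst p.hom a.hom) (pullback.snd p.hom a.hom) p.hom a.hom :=
    IsPullback.of_hasPullback _ _
  have hX' : AlgSp.IsAlgSpace (pullback p.hom a.hom) :=
    Groth.Agent.Lib.AlgSpFibre.isAlgSpace_of_isPullback B.property.diag B'.property A.property sq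
  let X' : AlgSp.Space S := ⟨pullback p.hom a.hom, hX'⟩
  let fst' : X' ⟶ B' := ObjectProperty.homMk (pullback.fst p.hom a.hom)
  let snd' : X' ⟶ A := ObjectProperty.homMk (pullback.snd p.hom a.hom)
  have sqW : IsPullback (pullback.fst w.hom snd'.hom) (pullback.snd w.hom snd'.hom) w.hom snd'.hom :=
    IsPullback.of_hasPullback _ _
  have hW' : AlgSp.IsAlgSpace (pullback w.hom snd'.hom) :=
    Groth.Agent.Lib.AlgSpFibre.isAlgSpace_of_isPullback A.property.diag W.property hX' sqW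
  let W' : AlgSp.Space S := ⟨pullback w.hom snd'.hom, hW'⟩
  let k : W' ⟶ W := ObjectProperty.homMk (pullback.fst w.hom snd'.hom)
  let w' : W' ⟶ X' := ObjectProperty.homMk (pullback.snd w.hom snd'.hom)
  have hW'L : SpLargest P fst' W' w' := h₄ A B X' B' a p fst' snd' sq.flip hQa hRp W w hW W' w' k sqW
  have h1 := isLargest_of_spLargest P hPb hP fst' W' w' hW'L
  -- the equivalence with the 2-fibre product
  have sq' : IsPullback fst'.hom.hom snd'.hom.hom p.hom.hom a.hom.hom :=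
    sq.map (sheafToPresheaf (AlgSp.J S) (Type (u + 1)))
  let Θ₁ : ofSp X'.obj ⥤ᵇ FibCat.fp (ofSpMap p.hom) (ofSpMap a.hom) := pshFpFunctor sq'.w
  have hΘ₁ : FibCat.IsEquivOver Θ₁ := pshFpFunctor_isEquivOver_of_isPullback sq'
  obtain ⟨hfull, hfaith, -⟩ := ff_ess_of_isEquivOver eB heB
  haveI := hfull
  haveI := hfaith
  let Θ₂ : FibCat.fp (ofSpMap p.hom) (ofSpMap a.hom) ⥤ᵇ FibCat.fp q g :=
    fpMap eB' eA eB ιp.symm ιa.symm
  have hΘ₂ : FibCat.IsEquivOver Θ₂ := fpMap_isEquivOver eB' eA eB ιp.symm ιa.symm heB' heA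
  let Θ : ofSp X'.obj ⥤ᵇ FibCat.fp q g := BasedFunctor.comp Θ₁ Θ₂
  have hΘ : FibCat.IsEquivOver Θ := isEquivOver_comp hΘ₁ hΘ₂
  obtain ⟨E'', hE'', hiff⟩ := IsLargest.exists_push P Θ hΘ eB' heB' (ofSpMap fst'.hom)
    (FibCat.fpFst q g) (Iso.refl _) h1
  have key : ∀ z, E'' z ↔ E z.obj.snd := by
    intro z
    obtain ⟨-, -, hess⟩ := ff_ess_of_isEquivOver Θ hΘ
    obtain ⟨ζ, e, -⟩ := hess z
    have e' : eA.obj ((ofSpMap snd'.hom).obj ζ) ≅ z.obj.snd := fpIsoSnd e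
    have s1 : E'' z ↔ E'' (Θ.obj ζ) :=
      ⟨fun h => hE''.1.closedUnderIso.of_iso e.symm h, fun h => hE''.1.closedUnderIso.of_iso e h⟩
    have s2 : essIm (ofSpMap w'.hom) ζ ↔ essIm (ofSpMap w.hom) ((ofSpMap snd'.hom).obj ζ) :=
      essIm_pullback_iff sqW ζ
    have s3 : E (eA.obj ((ofSpMap snd'.hom).obj ζ)) ↔ essIm (ofSpMap w.hom) ((ofSpMap snd'.hom).obj ζ) := by
      rw [← hEW]
    have s4 : E (eA.obj ((ofSpMap snd'.hom).obj ζ)) ↔ E z.obj.snd :=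
      ⟨fun h => hE.1.closedUnderIso.of_iso e' h, fun h => hE.1.closedUnderIso.of_iso e'.symm h⟩
    rw [s1, hiff ζ, s2, ← s3, s4]
  have hfun : E'' = fun z => E z.obj.snd := funext fun z => propext (key z)
  rw [← hfun]
  exact hE''

end BaseChange

end Groth.Agent.Lib.AlgStLargest
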