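import Groth.Agent.Lib.AlgStLargest2

/-!
# Largest open substacks III: saturation along a smooth atlas (helper36)

ns `Groth.Agent.Lib.AlgStLargest`

* `sat_obj` : for `w : ℬ ⟶ 𝒴` and `f : 𝒳 ⟶ 𝒴`, a predicate on `ℬ ×_𝒴 𝒳` which is the largest open
  substack over `ℬ` and whose pullbacks along the two projections of `ℬ ×_𝒴 ℬ` are again largest is
  invariant under the equivalence relation of `ℬ ×_𝒴 𝒳 ⟶ 𝒳`.
-/

set_option autoImplicit false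
set_option linter.style.haveILetI false
set_option backward.isDefEq.respectTransparency false
set_option backward.isDefEq.respectTransparency.types false

namespace Groth.Agent.Lib.AlgStLargest

open CategoryTheory CategoryTheory.Limits AlgebraicGeometry Opposite AlgSt
  Groth.Agent.Lib.H78AlgStPoints Groth.Agent.Lib.H78AlgStPointsFp Groth.Agent.Lib.AlgStPts
  Groth.Agent.Lib.AlgStPtsTop Groth.Agent.Lib.AlgStPtsSurj Groth.Agent.Lib.AlgStPtsMain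
  Groth.Agent.Lib.FibGrpd Groth.Agent.Lib.AlgStFp Groth.Agent.Lib.AlgStEquiv
  Groth.Agent.Lib.FpEquiv Groth.Agent.Lib.FibYoneda Groth.Agent.Lib.AlgStOpenSub
  Groth.Agent.Lib.AlgStSubImage Groth.Agent.Lib.AlgStPtsQC Groth.Agent.Lib.AlgStPtsQC2
  Groth.Agent.Lib.PshFp

universe u

variable {S : Scheme.{u}}

section Sat

variable {𝒳 𝒴 ℬ : AlgSt.Cat S} (w : ℬ ⥤ᵇ 𝒴) (f : 𝒳 ⥤ᵇ 𝒴)

/-- The comparison `(ℬ ×_𝒴 ℬ) ×_{pr₁,ℬ} (ℬ ×_𝒴 𝒳) ⟶ (ℬ ×_𝒴 ℬ) ×_{pr₂ ≫ w, 𝒴} 𝒳`. -/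
def satC₁ : FibCat.fp (FibCat.fpFst w w) (FibCat.fpFst w f) ⥤ᵇ
    FibCat.fp (BasedFunctor.comp (FibCat.fpSnd w w) w) f :=
  BasedFunctor.comp (fpPasteLeft (FibCat.fpFst w w) w f)
    (fpMap (BasedFunctor.id _) (BasedFunctor.id _) (BasedFunctor.id _)
      (FibCat.fpIso w w : BasedFunctor.comp (BasedFunctor.comp (FibCat.fpFst w w) w)
          (BasedFunctor.id 𝒴) ≅
        BasedFunctor.comp (BasedFunctor.id _) (BasedFunctor.comp (FibCat.fpSnd w w) w))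
      (Iso.refl f : BasedFunctor.comp f (BasedFunctor.id 𝒴) ≅
        BasedFunctor.comp (BasedFunctor.id 𝒳) f))

theorem satC₁_isEquivOver : FibCat.IsEquivOver (satC₁ w f) := by
  haveI : (BasedFunctor.id 𝒴).toFunctor.Full := id_full
  haveI : (BasedFunctor.id 𝒴).toFunctor.Faithful := id_faithful
  exact isEquivOver_comp (fpPasteLeft_isEquivOver _ _ _)
    (fpMap_isEquivOver _ _ _ _ _ isEquivOver_id isEquivOver_id)

/-- **Saturation.** -/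
theorem sat_obj (P : MorphismProperty (AlgSp.Sp S)) {E : (FibCat.fp w f).obj → Prop}
    (L₁ : IsLargest P (FibCat.fpFst (FibCat.fpFst w w) (FibCat.fpFst w f))
      (fun ζ => E ζ.obj.snd))
    (L₂ : IsLargest P (FibCat.fpFst (FibCat.fpSnd w w) (FibCat.fpFst w f))
      (fun ζ => E ζ.obj.snd))
    (u : (FibCat.fp (FibCat.fpSnd w f) (FibCat.fpSnd w f)).obj) : E u.obj.fst ↔ E u.obj.snd := by
  set z := u.obj.fst with hz
  set z' := u.obj.snd with hz'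
  let θ : z.obj.snd ≅ z'.obj.snd := u.obj.iso
  have hθ : 𝒳.p.IsHomLift (𝟙 (ℬ.p.obj z.obj.fst)) θ.hom := u.property
  have hbase : ℬ.p.obj z'.obj.fst = ℬ.p.obj z.obj.fst :=
    (fp_snd_proj w f z').symm.trans (IsHomLift.codomain_eq 𝒳.p (𝟙 (ℬ.p.obj z.obj.fst)) θ.hom)
  let α : w.obj z.obj.fst ≅ w.obj z'.obj.fst :=
    z.obj.iso ≪≫ f.toFunctor.mapIso θ ≪≫ z'.obj.iso.symm
  have hα : 𝒴.p.IsHomLift (𝟙 (ℬ.p.obj z.obj.fst)) α.hom := by
    haveI h1 : 𝒴.p.IsHomLift (𝟙 (ℬ.p.obj z.obj.fst)) z.obj.iso.hom := z.property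
    haveI := hθ
    haveI h2 : 𝒴.p.IsHomLift (𝟙 (ℬ.p.obj z.obj.fst)) (f.map θ.hom) :=
      BasedFunctor.preserves_isHomLift f _ _
    haveI h3 : 𝒴.p.IsHomLift (𝟙 (ℬ.p.obj z.obj.fst)) z'.obj.iso.hom := by
      rw [← hbase]; exact z'.property
    haveI h4 : 𝒴.p.IsHomLift (𝟙 (ℬ.p.obj z.obj.fst)) z'.obj.iso.inv := inferInstance
    have : 𝒴.p.IsHomLift (𝟙 (ℬ.p.obj z.obj.fst) ≫ 𝟙 (ℬ.p.obj z.obj.fst) ≫ 𝟙 (ℬ.p.obj z.obj.fst))
        (z.obj.iso.hom ≫ f.map θ.hom ≫ z'.obj.iso.inv) := inferInstance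
    show 𝒴.p.IsHomLift _ (z.obj.iso.hom ≫ f.map θ.hom ≫ z'.obj.iso.inv)
    simpa using this
  let r : (FibCat.fp w w).obj := ⟨⟨z.obj.fst, z'.obj.fst, α⟩, hα⟩
  let ζ₁ : (FibCat.fp (FibCat.fpFst w w) (FibCat.fpFst w f)).obj :=
    ⟨⟨r, z, Iso.refl _⟩, IsHomLift.id rfl⟩
  let ζ₂ : (FibCat.fp (FibCat.fpSnd w w) (FibCat.fpFst w f)).obj :=
    ⟨⟨r, z', Iso.refl _⟩, IsHomLift.id hbase⟩
  have hcompat : (BasedFunctor.comp (FibCat.fpSnd w w) w).map (Iso.refl r).hom ≫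
      ((fpPasteLeft (FibCat.fpSnd w w) w f).obj ζ₂).obj.iso.hom =
      ((satC₁ w f).obj ζ₁).obj.iso.hom ≫ f.map θ.hom := by
    have e1 : ((fpPasteLeft (FibCat.fpSnd w w) w f).obj ζ₂).obj.iso.hom =
        w.map (𝟙 z'.obj.fst) ≫ z'.obj.iso.hom := rfl
    have e2 : ((satC₁ w f).obj ζ₁).obj.iso.hom =
        α.inv ≫ (w.map (𝟙 z.obj.fst) ≫ z.obj.iso.hom) ≫ 𝟙 _ := rfl
    have e3 : (BasedFunctor.comp (FibCat.fpSnd w w) w).map (Iso.refl r).hom = w.map (𝟙 z'.obj.fst) :=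
      rfl
    rw [e1, e2, e3]
    have e4 : α.inv = z'.obj.iso.hom ≫ f.map θ.inv ≫ z.obj.iso.inv := by
      simp [α]
    rw [e4]
    simp only [CategoryTheory.Functor.map_id, Category.id_comp, Category.comp_id, Category.assoc,
      Iso.inv_hom_id_assoc]
    rw [← f.map_comp, Iso.inv_hom_id, f.map_id, Category.comp_id]
    exact (Category.id_comp _)
  let κ : (satC₁ w f).obj ζ₁ ≅ (fpPasteLeft (FibCat.fpSnd w w) w f).obj ζ₂ :=
    fpIsoMk (Iso.refl r) θ hcompat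
  exact IsLargest.iff_of_span P (satC₁ w f) (satC₁_isEquivOver w f)
    (fpPasteLeft (FibCat.fpSnd w w) w f) (fpPasteLeft_isEquivOver _ _ _)
    (FibCat.fpFst (FibCat.fpFst w w) (FibCat.fpFst w f))
    (FibCat.fpFst (FibCat.fpSnd w w) (FibCat.fpFst w f))
    (FibCat.fpFst (BasedFunctor.comp (FibCat.fpSnd w w) w) f) (Iso.refl _) (Iso.refl _) L₁ L₂ κ

end Sat

/-! ### Preimages of substacks -/

section Preim

variable {𝒜 𝒳 : AlgSt.Cat S} (k : 𝒜 ⥤ᵇ 𝒳) (Q : 𝒳.obj → Prop)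

/-- The preimage of a substack as a 2-fibre product. -/
def preimEquiv : fullSub 𝒜 (fun a => Q (k.obj a)) ⥤ᵇ FibCat.fp k (subIncl 𝒳 Q) :=
  FibCat.fpLift (subIncl 𝒜 (fun a => Q (k.obj a))) (mapSub k Q)
    (Iso.refl _ : BasedFunctor.comp (subIncl 𝒜 (fun a => Q (k.obj a))) k ≅
      BasedFunctor.comp (mapSub k Q) (subIncl 𝒳 Q))

theorem preimEquiv_comp_fpFst :
    BasedFunctor.comp (preimEquiv k Q) (FibCat.fpFst k (subIncl 𝒳 Q)) =
      subIncl 𝒜 (fun a => Q (k.obj a)) := rfl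

theorem preimEquiv_isEquivOver (hQ : ObjectProperty.IsClosedUnderIsomorphisms Q) :
    FibCat.IsEquivOver (preimEquiv k Q) := by
  haveI : (preimEquiv k Q).toFunctor.Faithful :=
    ⟨fun {a b} φ ψ h => by
      apply ObjectProperty.hom_ext
      have := congrArg (fun m => m.hom.fst) h
      exact this⟩
  haveI : (preimEquiv k Q).toFunctor.Full :=
    ⟨fun {a b} φ => ⟨ObjectProperty.homMk φ.hom.fst, by
      apply ObjectProperty.hom_ext
      refine Limits.CategoricalPullback.hom_ext rfl ?_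
      apply ObjectProperty.hom_ext
      have h := φ.hom.w
      have e1 : ((preimEquiv k Q).obj a).obj.iso.hom = 𝟙 _ := rfl
      have e2 : ((preimEquiv k Q).obj b).obj.iso.hom = 𝟙 _ := rfl
      rw [e1, e2] at h
      have h' : k.map φ.hom.fst = (subIncl 𝒳 Q).map φ.hom.snd := by simpa using h
      exact h'⟩⟩
  apply isEquivOver_of_ff_of_ess
  intro η
  have hη : 𝒳.p.IsHomLift (𝟙 (𝒜.p.obj η.obj.fst)) η.obj.iso.hom := η.property
  have hQ' : Q (k.obj η.obj.fst) := hQ.of_iso η.obj.iso.symm η.obj.snd.property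
  let ξ : (fullSub 𝒜 (fun a => Q (k.obj a))).obj := ⟨η.obj.fst, hQ'⟩
  let e₂ : ((preimEquiv k Q).obj ξ).obj.snd ≅ η.obj.snd :=
    ObjectProperty.isoMk Q η.obj.iso
  let e : (preimEquiv k Q).obj ξ ≅ η :=
    fpIsoMk (Iso.refl η.obj.fst) e₂ (by
      have e1 : ((preimEquiv k Q).obj ξ).obj.iso.hom = 𝟙 _ := rfl
      rw [e1]
      have e3 : (subIncl 𝒳 Q).map e₂.hom = η.obj.iso.hom := rfl
      rw [e3]
      show k.map (𝟙 _) ≫ η.obj.iso.hom = 𝟙 _ ≫ η.obj.iso.hom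
      rw [k.map_id])
  refine ⟨ξ, e, ?_⟩
  rw [fp_isHomLift_iff]
  show 𝒜.p.IsHomLift (𝟙 (𝒜.p.obj η.obj.fst)) (𝟙 η.obj.fst)
  infer_instance

end Preim


end Groth.Agent.Lib.AlgStLargest
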