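import Groth.Agent.Lib.AlgStLargest3
import Groth.Agent.Lib.AlgStLocQ4
import Groth.Agent.Lib.AlgStCancel
import Groth.Agent.Lib.AlgStSpTest2
import Groth.Agent.Lib.AlgSpLargestOpen

/-!
# Largest open substacks IV: descent of the largest open substack along a smooth atlas (helper36)

ns `Groth.Agent.Lib.AlgStLargest`

* `sat_points`, `descPred`, `descPred_iff` : a saturated open substack of the source of `k` descends.
* `isLargest_desc` : the descended substack is the largest one.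
-/

set_option autoImplicit false
set_option linter.style.haveILetI false
set_option backward.isDefEq.respectTransparency false
set_option backward.isDefEq.respectTransparency.types false

namespace Groth.Agent.Lib.AlgStLargest

open CategoryTheory CategoryTheory.Limits AlgebraicGeometry Opposite AlgSt
  Groth.Agent.Lib.H78AlgStPoints Groth.Agent.Lib.H78AlgStPointsFp Groth.Agent.Lib.AlgStPts
  Groth.Agent.Lib.AlgStPtsTop Groth.Agent.Lib.AlgStPtsSurj Groth.Agent.Lib.AlgStPtsMain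
  Groth.Agent.Lib.FibGrpd Groth.Agent.Lib.AlgStFp Groth.Agent.Lib.AlgStEquiv
  Groth.Agent.Lib.FpEquiv Groth.Agent.Lib.FibYoneda Groth.Agent.Lib.AlgStOpenSub
  Groth.Agent.Lib.AlgStSubImage Groth.Agent.Lib.AlgStPtsQC Groth.Agent.Lib.AlgStPtsQC2
  Groth.Agent.Lib.PshFp

universe u

variable {S : Scheme.{u}}

section Comp

variable {𝒳 𝒴 𝒵 : AlgSt.Cat S}

theorem repByAlgSp1_comp [FibCat.IsFibGrpd 𝒳.p] [FibCat.IsFibGrpd 𝒴.p] (f : 𝒳 ⥤ᵇ 𝒴)
    (g : 𝒴 ⥤ᵇ 𝒵) (hf : RepByAlgSp1 f) (hg : RepByAlgSp1 g) :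
    RepByAlgSp1 (BasedFunctor.comp f g) := by
  rw [repByAlgSp1_iff_top] at hf hg ⊢
  exact Groth.Agent.Lib.AlgStSpTest.repByAlgSpWith_comp' ⊤ Groth.Agent.Lib.AlgStCancel.isoInv_top
    Groth.Agent.Lib.AlgStCancel.schemeLocal_top (fun _ _ _ _ _ _ _ _ _ _ => trivial) f g hf hg

/-- Open immersions are smooth. -/
theorem smooth_of_isOpenImm (i : 𝒳 ⥤ᵇ 𝒴) (hi : IsOpenImm i) :
    RepByAlgSpWith (AlgSp.LocP @Smooth) i :=
  Groth.Agent.Lib.AlgStDiagDict2.repByAlgSpWith_mono i (fun _ _ hF α hα =>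
    Groth.Agent.Lib.AlgSpLargestOpen.locP_of_repWith_isOpenImmersion @Smooth
      (fun _ _ _ _ => inferInstance)
      (fun _ _ _ l w (_ : Etale l) (_ : Smooth w) => inferInstance) hF hα) hi

end Comp

section Desc

variable {𝒜 𝒳 : AlgSt.Cat S} [FibCat.IsFibGrpd 𝒜.p] [FibCat.IsFibGrpd 𝒳.p] (k : 𝒜 ⥤ᵇ 𝒳)
  {E : 𝒜.obj → Prop}

/-- An open substack of a category representable by an algebraic space is representable by an
algebraic space. -/
theorem repByAlgSp_fullSub (h𝒜 : RepByAlgSp 𝒜) (hE : PbStable E)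
    (hEo : IsOpenImm (subIncl 𝒜 E)) : RepByAlgSp (fullSub 𝒜 E) := by
  haveI := fullSub_isFibGrpd hE
  have h1 := Groth.Agent.Lib.AlgStBoot.repByAlgSp_fp_of_repByAlgSp1
    (subIncl 𝒜 E) (BasedFunctor.id 𝒜) (repByAlgSp1_of_repByAlgSpWith _ hEo) h𝒜
  obtain ⟨V, e, he⟩ := h1
  refine ⟨V, BasedFunctor.comp e (FibCat.fpSnd (BasedFunctor.id 𝒜) (subIncl 𝒜 E)), ?_⟩
  refine isEquivOver_comp he ?_
  exact isEquivOver_comp (Groth.Agent.Lib.AlgStRepC.fpSwap_isEquivOver _ _)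
    (Groth.Agent.Lib.AlgStEquivRep.fpFst_isEquivOver (subIncl 𝒜 E)
      (BasedFunctor.id 𝒜) isEquivOver_id)

/-- Saturation on points. -/
theorem sat_points (hE : PbStable E) (hEo : IsOpenImm (subIncl 𝒜 E))
    (hsat : ∀ u : (FibCat.fp k k).obj, E u.obj.fst ↔ E u.obj.snd) {x x' : Points 𝒜}
    (h : Points.map k x = Points.map k x')
    (hx' : x' ∈ Set.range (Points.map (subIncl 𝒜 E))) :
    x ∈ Set.range (Points.map (subIncl 𝒜 E)) := by
  obtain ⟨t, rfl, rfl⟩ := exists_points_fp ‹_› ‹_› ‹_› k k x x' h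
  obtain ⟨q, rfl⟩ := Points.mk_surjective t
  have h2 : E (q.map (FibCat.fpSnd k k)).obj := of_ptsIn_range hE hEo (fun p ⟨a⟩ => by
    have : Points.mk p = Points.mk (q.map (FibCat.fpSnd k k)) :=
      Points.sound ⟨p, 𝟙 _, a, trivial⟩
    rw [this]; exact hx')
  exact mk_mem_range_subIncl ((hsat q.obj).2 h2)

/-- The descended substack. -/
def descPred (k : 𝒜 ⥤ᵇ 𝒳) (E : 𝒜.obj → Prop) : 𝒳.obj → Prop :=
  ptsIn (Set.range (Points.map (BasedFunctor.comp (subIncl 𝒜 E) k)))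

theorem descPred_iff (hE : PbStable E) (hEo : IsOpenImm (subIncl 𝒜 E))
    (hsat : ∀ u : (FibCat.fp k k).obj, E u.obj.fst ↔ E u.obj.snd) (a : 𝒜.obj) :
    descPred k E (k.obj a) ↔ E a := by
  haveI := fullSub_isFibGrpd hE
  constructor
  · intro h
    refine of_ptsIn_range hE hEo (fun p ⟨c⟩ => ?_)
    obtain ⟨η, hη⟩ := h (p.map k) ⟨k.map c⟩
    rw [map_comp] at hη
    exact sat_points k hE hEo hsat (x := Points.mk p) hη.symm ⟨η, rfl⟩
  · intro h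
    exact ptsIn_range_map_obj (BasedFunctor.comp (subIncl 𝒜 E) k) ⟨a, h⟩

/-- The image of an open substack under a smooth functor from a category representable by an
algebraic space is open. -/
theorem isOpen_range_comp (h𝒜 : RepByAlgSp 𝒜) (hk : RepByAlgSpWith (AlgSp.LocP @Smooth) k)
    (hE : PbStable E) (hEo : IsOpenImm (subIncl 𝒜 E)) :
    IsOpen (Set.range (Points.map (BasedFunctor.comp (subIncl 𝒜 E) k))) := by
  haveI := fullSub_isFibGrpd hE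
  obtain ⟨V, e₁, he₁⟩ := repByAlgSp_fullSub h𝒜 hE hEo
  haveI : FibCat.IsFibGrpd (ofSp V.obj).p := Stk.isFibGrpd_ofPsh V.obj.obj
  set u := BasedFunctor.comp e₁ (BasedFunctor.comp (subIncl 𝒜 E) k) with hu
  have h2 : RepByAlgSpWith (AlgSp.LocP @Smooth) (BasedFunctor.comp (subIncl 𝒜 E) k) :=
    Groth.Agent.Lib.AlgStLocQ.repByAlgSpWith_comp_atlasClass _
      Groth.Agent.Lib.AlgStAtlas.atlasClass_locP_smooth _ _ (smooth_of_isOpenImm _ hEo) hk
  have h3 : RepByAlgSpWith (AlgSp.LocP @Smooth) u :=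
    (repByAlgSpWith_equiv_comp_iff _ e₁ he₁ _).1 h2
  have hfl := flatLfp_repByAlgSpWith_of_smooth u h3
  have hr : Set.range (Points.map (BasedFunctor.comp (subIncl 𝒜 E) k)) =
      Set.range (Points.map u) := by
    have : Points.map u = Points.map (BasedFunctor.comp (subIncl 𝒜 E) k) ∘ Points.map e₁ :=
      funext fun x => map_comp _ _ x
    rw [this, (map_bijective_of_isEquivOver he₁).2.range_comp]
  rw [hr]
  exact (isOpenMap_points_map_of_space V u hfl.1 hfl.2).isOpen_range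

end Desc

section Main

variable {𝒳 𝒴 ℬ : AlgSt.Cat S}

/-- Properties of the restriction of `ℬ ×_𝒴 𝒳 ⟶ ℬ` to the preimage of a substack of `𝒳`. -/
theorem repByAlgSpWith_preim_iff (P : MorphismProperty (AlgSp.Sp S)) (w : ℬ ⥤ᵇ 𝒴) (f : 𝒳 ⥤ᵇ 𝒴)
    {Q₁ : 𝒳.obj → Prop} (hQ₁ : ObjectProperty.IsClosedUnderIsomorphisms Q₁) :
    RepByAlgSpWith P (BasedFunctor.comp
      (subIncl (FibCat.fp w f) (fun a => Q₁ ((FibCat.fpSnd w f).obj a))) (FibCat.fpFst w f)) ↔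
    RepByAlgSpWith P (FibCat.fpFst w (BasedFunctor.comp (subIncl 𝒳 Q₁) f)) := by
  rw [repByAlgSpWith_equiv_comp_iff P (fpPasteRight w f (subIncl 𝒳 Q₁))
    (fpPasteRight_isEquivOver w f (subIncl 𝒳 Q₁))
    (FibCat.fpFst w (BasedFunctor.comp (subIncl 𝒳 Q₁) f))]
  have e1 : BasedFunctor.comp (fpPasteRight w f (subIncl 𝒳 Q₁))
      (FibCat.fpFst w (BasedFunctor.comp (subIncl 𝒳 Q₁) f)) =
      BasedFunctor.comp (FibCat.fpFst (FibCat.fpSnd w f) (subIncl 𝒳 Q₁)) (FibCat.fpFst w f) := rfl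
  rw [e1, repByAlgSpWith_equiv_comp_iff P (preimEquiv (FibCat.fpSnd w f) Q₁)
    (preimEquiv_isEquivOver (FibCat.fpSnd w f) Q₁ hQ₁)
    (BasedFunctor.comp (FibCat.fpFst (FibCat.fpSnd w f) (subIncl 𝒳 Q₁)) (FibCat.fpFst w f))]
  exact Iff.rfl

/-- The preimage of an open substack is open. -/
theorem isOpenImm_preim {𝒜 : AlgSt.Cat S} (k : 𝒜 ⥤ᵇ 𝒳) {Q₁ : 𝒳.obj → Prop}
    (hQ₁ : ObjectProperty.IsClosedUnderIsomorphisms Q₁) (ho : IsOpenImm (subIncl 𝒳 Q₁)) :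
    IsOpenImm (subIncl 𝒜 (fun a => Q₁ (k.obj a))) := by
  have h1 : RepByAlgSpWith (AlgSp.RepWith @IsOpenImmersion) (FibCat.fpFst k (subIncl 𝒳 Q₁)) :=
    Groth.Agent.Lib.AlgStRep.repByAlgSpWith_fpFst _ (subIncl 𝒳 Q₁) k ho
  exact (repByAlgSpWith_equiv_comp_iff _ (preimEquiv k Q₁) (preimEquiv_isEquivOver k Q₁ hQ₁)
    (FibCat.fpFst k (subIncl 𝒳 Q₁))).1 h1

/-- An open substack of an algebraic stack, from pullback-stability and openness of the
inclusion. -/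
theorem isOpenSubstack_of_isOpenImm (h𝒳 : IsAlgStack Scheme.fppfPrecoverage 𝒳) {Q₁ : 𝒳.obj → Prop}
    (hQ₁ : PbStable Q₁) (ho : IsOpenImm (subIncl 𝒳 Q₁)) :
    IsOpenSubstack 𝒳 Q₁ Scheme.fppfPrecoverage := by
  haveI := h𝒳.isStack.1
  exact ⟨hQ₁.closedUnderIso,
    Groth.Agent.Lib.AlgStRepStack.isAlgStack_of_repByAlgSp1
      (fullSub_isFibGrpd hQ₁) h𝒳 _ (repByAlgSp1_of_repByAlgSpWith _ ho), ho⟩

/-- **Descent of the largest open substack** along a smooth surjective functor from a category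
representable by an algebraic space. -/
theorem isLargest_desc (P : MorphismProperty (AlgSp.Sp S))
    (hPb : ∀ ⦃X₁ Y₁ X₂ Y₂ : AlgSp.Sp S⦄, AlgSp.IsAlgSpace X₁ → AlgSp.IsAlgSpace Y₁ →
      AlgSp.IsAlgSpace X₂ → AlgSp.IsAlgSpace Y₂ → ∀ (a : X₁ ⟶ Y₁) (b : Y₂ ⟶ Y₁) (a' : X₂ ⟶ Y₂)
      (b' : X₂ ⟶ X₁), IsPullback b' a' a b → P a → P a')
    (hP : AlgSp.IsLocalOnBase AlgSp.IsFppfCover P)
    (h𝒳 : IsAlgStack Scheme.fppfPrecoverage 𝒳) (h𝒴 : IsAlgStack Scheme.fppfPrecoverage 𝒴)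
    [FibCat.IsFibGrpd ℬ.p] (hℬ : RepByAlgSp ℬ) (w : ℬ ⥤ᵇ 𝒴)
    (hw : RepByAlgSpWith (AlgSp.LocP @Smooth) w) (hws : RepByAlgSpWith AlgSp.IsSurjectiveMor w)
    (f : 𝒳 ⥤ᵇ 𝒴) (hf1 : RepByAlgSp1 f) {E : (FibCat.fp w f).obj → Prop}
    (hL : IsLargest P (FibCat.fpFst w f) E)
    (hsat : ∀ u : (FibCat.fp (FibCat.fpSnd w f) (FibCat.fpSnd w f)).obj,
      E u.obj.fst ↔ E u.obj.snd) :
    IsLargest P f (descPred (FibCat.fpSnd w f) E) ∧
      ∀ ζ : (FibCat.fp w f).obj, descPred (FibCat.fpSnd w f) E ζ.obj.snd ↔ E ζ := by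
  haveI := h𝒳.isStack.1
  haveI := h𝒴.isStack.1
  haveI : FibCat.IsFibGrpd (FibCat.fp w f).p := fp_isFibGrpd w f
  obtain ⟨hE, hEo, hEP, hEmax⟩ := hL
  have h𝒜 : RepByAlgSp (FibCat.fp w f) :=
    Groth.Agent.Lib.AlgStBoot.repByAlgSp_fp_of_repByAlgSp1 f w hf1 hℬ
  have hsm : RepByAlgSpWith (AlgSp.LocP @Smooth) (FibCat.fpSnd w f) :=
    Groth.Agent.Lib.AlgStRepC.repByAlgSpWith_fpSnd _ w f hw
  have hT := isOpen_range_comp (FibCat.fpSnd w f) h𝒜 hsm hE hEo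
  have hiff : ∀ ζ : (FibCat.fp w f).obj, descPred (FibCat.fpSnd w f) E ζ.obj.snd ↔ E ζ :=
    fun ζ => descPred_iff (FibCat.fpSnd w f) hE hEo hsat ζ
  have hQ₀ : IsOpenSubstack 𝒳 (descPred (FibCat.fpSnd w f) E) Scheme.fppfPrecoverage :=
    isOpenSubstack_ptsIn h𝒳 hT
  have hpb : PbStable (descPred (FibCat.fpSnd w f) E) := pbStable_ptsIn _
  refine ⟨⟨hpb, hQ₀.2.2, ?_, ?_⟩, hiff⟩
  · haveI := fullSub_isFibGrpd hpb
    have hrep1 : RepByAlgSp1 (BasedFunctor.comp (subIncl 𝒳 (descPred (FibCat.fpSnd w f) E)) f) :=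
      repByAlgSp1_comp _ f (repByAlgSp1_of_repByAlgSpWith _ hQ₀.2.2) hf1
    have hfl := flatLfp_repByAlgSpWith_of_smooth w hw
    refine Groth.Agent.Lib.AlgStDescent.repByAlgSpWith_of_fpFst_cover P hPb hP _ hrep1 w
      hfl.1 hfl.2 hws ?_
    rw [← repByAlgSpWith_preim_iff P w f hpb.closedUnderIso]
    have : (fun a => descPred (FibCat.fpSnd w f) E ((FibCat.fpSnd w f).obj a)) = E :=
      funext fun a => propext (hiff a)
    rw [this]; exact hEP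
  · intro Q₁ hQ₁ hQ₁o hQ₁P y hy
    have hE₁ : PbStable (fun a => Q₁ ((FibCat.fpSnd w f).obj a)) :=
      fun a' a φ h => hQ₁ ((FibCat.fpSnd w f).map φ) h
    have hE₁o := isOpenImm_preim (FibCat.fpSnd w f) hQ₁.closedUnderIso hQ₁o
    have hE₁P := (repByAlgSpWith_preim_iff P w f hQ₁.closedUnderIso).2
      (Groth.Agent.Lib.AlgStRep.repByAlgSpWith_fpFst P _ w hQ₁P)
    have hle := hEmax _ hE₁ hE₁o hE₁P
    have hsS : IsSurjective (FibCat.fpSnd w f) :=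
      isSurjective_fpSnd inferInstance inferInstance inferInstance w f
        (isSurjective_of_repByAlgSpWith w hws)
    intro p ⟨c⟩
    obtain ⟨ξ, hξ⟩ := hsS (Points.mk p)
    obtain ⟨q, rfl⟩ := Points.mk_surjective ξ
    have hq : Q₁ ((FibCat.fpSnd w f).obj q.obj) := of_ptsIn_range hQ₁ hQ₁o (fun p' ⟨a⟩ => by
      have : Points.mk p' = Points.mk (q.map (FibCat.fpSnd w f)) :=
        Points.sound ⟨p', 𝟙 _, a, trivial⟩
      rw [this]
      show Points.map (FibCat.fpSnd w f) (Points.mk q) ∈ _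
      rw [hξ]; exact mk_mem_range_subIncl (hQ₁ c hy))
    have hEq : E q.obj := hle _ hq
    rw [← hξ]
    exact ⟨Points.mk ⟨q.K, q.str, ⟨q.obj, hEq⟩, q.lies⟩, rfl⟩

end Main


end Groth.Agent.Lib.AlgStLargest
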