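import Groth.Agent.Lib.AlgStLargest4
import Groth.Agent.Lib.AlgStFpStack

/-!
# Largest open substacks V: base change of the largest open substack (helper36)

ns `Groth.Agent.Lib.AlgStLargest`

* `spanC₁`, `span_obj` : the two descriptions of `(ℬ ×_𝒴 𝒵) ×_𝒴 𝒳`.
* `IsLargest.exists_span` : transport of the largest open substack along a span of equivalences.
* `le_of_cover` : containment of open substacks can be tested on a cover.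
-/

set_option autoImplicit false
set_option linter.style.haveILetI false
set_option backward.isDefEq.respectTransparency false
set_option backward.isDefEq.respectTransparency.types false

namespace Groth.Agent.Lib.AlgStLargest

open CategoryTheory CategoryTheory.Limits AlgebraicGeometry Opposite AlgSt
  Groth.Agent.Lib.H78AlgStPoints Groth.Agent.Lib.H78AlgStPointsFp Groth.Agent.Lib.AlgStPts
  Groth.Agent.Lib.AlgStPtsTop Groth.Agent.Lib.AlgStPtsSurj Groth.Agent.Lib.AlgStPtsMain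
  Groth.Agent.Lib.FibGrpd Groth.Agent.Lib.AlgStFp Groth.Agent.Lib.AlgStEquiv
  Groth.Agent.Lib.FpEquiv Groth.Agent.Lib.FibYoneda Groth.Agent.Lib.AlgStOpenSub
  Groth.Agent.Lib.AlgStSubImage Groth.Agent.Lib.AlgStPtsQC Groth.Agent.Lib.AlgStPtsQC2
  Groth.Agent.Lib.PshFp

universe u

variable {S : Scheme.{u}}

section Span

variable {𝒜' 𝒞 : AlgSt.Cat S}

/-- Transport of the largest open substack along a span of equivalences. -/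
theorem IsLargest.exists_span (P : MorphismProperty (AlgSp.Sp S)) {𝒜₁ 𝒜₂ : AlgSt.Cat S}
    (c₁ : 𝒜₁ ⥤ᵇ 𝒜') (hc₁ : FibCat.IsEquivOver c₁) (c₂ : 𝒜₂ ⥤ᵇ 𝒜') (hc₂ : FibCat.IsEquivOver c₂)
    (φ₁ : 𝒜₁ ⥤ᵇ 𝒞) (φ₂ : 𝒜₂ ⥤ᵇ 𝒞) (φ' : 𝒜' ⥤ᵇ 𝒞) (ι₁ : BasedFunctor.comp c₁ φ' ≅ φ₁)
    (ι₂ : BasedFunctor.comp c₂ φ' ≅ φ₂) {E₁ : 𝒜₁.obj → Prop} (h₁ : IsLargest P φ₁ E₁) :
    ∃ E₂ : 𝒜₂.obj → Prop, IsLargest P φ₂ E₂ ∧
      ∀ (ζ₁ : 𝒜₁.obj) (ζ₂ : 𝒜₂.obj), Nonempty (c₁.obj ζ₁ ≅ c₂.obj ζ₂) → (E₁ ζ₁ ↔ E₂ ζ₂) := by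
  obtain ⟨E', hE', -⟩ := IsLargest.exists_push P c₁ hc₁ (BasedFunctor.id 𝒞) isEquivOver_id φ₁ φ'
    (ι₁ ≪≫ (compIdIso φ₁).symm) h₁
  have h₂ := IsLargest.of_equiv P c₂ hc₂ (BasedFunctor.id 𝒞) isEquivOver_id φ₂ φ'
    (ι₂ ≪≫ (compIdIso φ₂).symm) hE'
  refine ⟨_, h₂, ?_⟩
  rintro ζ₁ ζ₂ ⟨κ⟩
  exact IsLargest.iff_of_span P c₁ hc₁ c₂ hc₂ φ₁ φ₂ φ' ι₁ ι₂ h₁ h₂ κ

end Span

section SpanFp

variable {𝒳 𝒴 𝒵 ℬ : AlgSt.Cat S} (v : ℬ ⥤ᵇ 𝒴) (z : 𝒵 ⥤ᵇ 𝒴) (f : 𝒳 ⥤ᵇ 𝒴)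

/-- The comparison `(ℬ ×_𝒴 𝒵) ×_{pr₁,ℬ} (ℬ ×_𝒴 𝒳) ⟶ (ℬ ×_𝒴 𝒵) ×_{pr₂ ≫ z, 𝒴} 𝒳`. -/
def spanC₁ : FibCat.fp (FibCat.fpFst v z) (FibCat.fpFst v f) ⥤ᵇ
    FibCat.fp (BasedFunctor.comp (FibCat.fpSnd v z) z) f :=
  BasedFunctor.comp (fpPasteLeft (FibCat.fpFst v z) v f)
    (fpMap (BasedFunctor.id _) (BasedFunctor.id _) (BasedFunctor.id _)
      (FibCat.fpIso v z : BasedFunctor.comp (BasedFunctor.comp (FibCat.fpFst v z) v)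
          (BasedFunctor.id 𝒴) ≅
        BasedFunctor.comp (BasedFunctor.id _) (BasedFunctor.comp (FibCat.fpSnd v z) z))
      (Iso.refl f : BasedFunctor.comp f (BasedFunctor.id 𝒴) ≅
        BasedFunctor.comp (BasedFunctor.id 𝒳) f))

theorem spanC₁_isEquivOver : FibCat.IsEquivOver (spanC₁ v z f) := by
  haveI : (BasedFunctor.id 𝒴).toFunctor.Full := id_full
  haveI : (BasedFunctor.id 𝒴).toFunctor.Faithful := id_faithful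
  exact isEquivOver_comp (fpPasteLeft_isEquivOver _ _ _)
    (fpMap_isEquivOver _ _ _ _ _ isEquivOver_id isEquivOver_id)

/-- Every object of `(ℬ ×_𝒴 𝒵) ×_𝒵 (𝒵 ×_𝒴 𝒳)` corresponds to one of
`(ℬ ×_𝒴 𝒵) ×_ℬ (ℬ ×_𝒴 𝒳)` with the same component in `𝒳`. -/
theorem span_obj (ζ' : (FibCat.fp (FibCat.fpSnd v z) (FibCat.fpFst z f)).obj) :
    ∃ ζ₁ : (FibCat.fp (FibCat.fpFst v z) (FibCat.fpFst v f)).obj,
      Nonempty ((spanC₁ v z f).obj ζ₁ ≅ (fpPasteLeft (FibCat.fpSnd v z) z f).obj ζ') ∧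
      ζ₁.obj.snd.obj.snd = ζ'.obj.snd.obj.snd := by
  set β₀ := ζ'.obj.fst with hβ₀
  set x' := ζ'.obj.snd with hx'
  let δ : β₀.obj.snd ≅ x'.obj.fst := ζ'.obj.iso
  have hδ : 𝒵.p.IsHomLift (𝟙 (ℬ.p.obj β₀.obj.fst)) δ.hom := ζ'.property
  have hbase : 𝒵.p.obj x'.obj.fst = ℬ.p.obj β₀.obj.fst :=
    IsHomLift.codomain_eq 𝒵.p (𝟙 (ℬ.p.obj β₀.obj.fst)) δ.hom
  let α : v.obj β₀.obj.fst ≅ f.obj x'.obj.snd :=
    β₀.obj.iso ≪≫ z.toFunctor.mapIso δ ≪≫ x'.obj.iso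
  have hα : 𝒴.p.IsHomLift (𝟙 (ℬ.p.obj β₀.obj.fst)) α.hom := by
    haveI h1 : 𝒴.p.IsHomLift (𝟙 (ℬ.p.obj β₀.obj.fst)) β₀.obj.iso.hom := β₀.property
    haveI := hδ
    haveI h2 : 𝒴.p.IsHomLift (𝟙 (ℬ.p.obj β₀.obj.fst)) (z.map δ.hom) :=
      BasedFunctor.preserves_isHomLift z _ _
    haveI h3 : 𝒴.p.IsHomLift (𝟙 (ℬ.p.obj β₀.obj.fst)) x'.obj.iso.hom := by
      rw [← hbase]; exact x'.property
    have : 𝒴.p.IsHomLift (𝟙 (ℬ.p.obj β₀.obj.fst) ≫ 𝟙 (ℬ.p.obj β₀.obj.fst) ≫ 𝟙 (ℬ.p.obj β₀.obj.fst))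
        (β₀.obj.iso.hom ≫ z.map δ.hom ≫ x'.obj.iso.hom) := inferInstance
    show 𝒴.p.IsHomLift _ (β₀.obj.iso.hom ≫ z.map δ.hom ≫ x'.obj.iso.hom)
    simpa using this
  let a : (FibCat.fp v f).obj := ⟨⟨β₀.obj.fst, x'.obj.snd, α⟩, hα⟩
  let ζ₁ : (FibCat.fp (FibCat.fpFst v z) (FibCat.fpFst v f)).obj :=
    ⟨⟨β₀, a, Iso.refl _⟩, IsHomLift.id rfl⟩
  have hcompat : (BasedFunctor.comp (FibCat.fpSnd v z) z).map (Iso.refl β₀).hom ≫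
      ((fpPasteLeft (FibCat.fpSnd v z) z f).obj ζ').obj.iso.hom =
      ((spanC₁ v z f).obj ζ₁).obj.iso.hom ≫ f.map (Iso.refl x'.obj.snd).hom := by
    have e1 : ((fpPasteLeft (FibCat.fpSnd v z) z f).obj ζ').obj.iso.hom =
        z.map δ.hom ≫ x'.obj.iso.hom := rfl
    have e2 : ((spanC₁ v z f).obj ζ₁).obj.iso.hom =
        β₀.obj.iso.inv ≫ (v.map (𝟙 β₀.obj.fst) ≫ α.hom) ≫ 𝟙 _ := rfl
    have e3 : (BasedFunctor.comp (FibCat.fpSnd v z) z).map (Iso.refl β₀).hom =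
        z.map (𝟙 β₀.obj.snd) := rfl
    rw [e1, e2, e3]
    have e4 : α.hom = β₀.obj.iso.hom ≫ z.map δ.hom ≫ x'.obj.iso.hom := rfl
    rw [e4]
    simp only [CategoryTheory.Functor.map_id, Category.id_comp, Category.comp_id, Category.assoc,
      Iso.inv_hom_id_assoc, Iso.refl_hom]
    have : f.map (𝟙 x'.obj.snd) = 𝟙 _ := f.map_id _
    rw [this]
    exact (Category.id_comp _).trans ((Category.comp_id _).symm.trans (Category.assoc _ _ _))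
  exact ⟨ζ₁, ⟨fpIsoMk (Iso.refl β₀) (Iso.refl x'.obj.snd) hcompat⟩, rfl⟩

end SpanFp

section Cover

variable {𝒜 𝒳 : AlgSt.Cat S} [FibCat.IsFibGrpd 𝒳.p]

/-- Containment of open substacks can be tested after pulling back along a functor which is
surjective on points. -/
theorem le_of_cover (k : 𝒜 ⥤ᵇ 𝒳) (hk : IsSurjective k) {Q₁ Q₂ : 𝒳.obj → Prop}
    (hQ₁ : PbStable Q₁) (hQ₁o : IsOpenImm (subIncl 𝒳 Q₁)) (hQ₂ : PbStable Q₂)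
    (hQ₂o : IsOpenImm (subIncl 𝒳 Q₂)) (h : ∀ a : 𝒜.obj, Q₁ (k.obj a) → Q₂ (k.obj a)) (y : 𝒳.obj)
    (hy : Q₁ y) : Q₂ y := by
  refine of_ptsIn_range hQ₂ hQ₂o (fun p ⟨c⟩ => ?_)
  obtain ⟨ξ, hξ⟩ := hk (Points.mk p)
  obtain ⟨q, rfl⟩ := Points.mk_surjective ξ
  have hq : Q₁ (k.obj q.obj) := of_ptsIn_range hQ₁ hQ₁o (fun p' ⟨a⟩ => by
    have : Points.mk p' = Points.mk (q.map k) := Points.sound ⟨p', 𝟙 _, a, trivial⟩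
    rw [this]
    show Points.map k (Points.mk q) ∈ _
    rw [hξ]; exact mk_mem_range_subIncl (hQ₁ c hy))
  rw [← hξ]
  exact mk_mem_range_subIncl (p := q.map k) (h _ hq)

end Cover

section BaseChangeMain

variable {𝒳 𝒴 𝒵 : AlgSt.Cat S}

/-- **Existence of the largest open substack**, together with its description over an atlas. -/
theorem exists_isLargest_atlas (P Q R : MorphismProperty (AlgSp.Sp S))
    (hPb : ∀ ⦃X₁ Y₁ X₂ Y₂ : AlgSp.Sp S⦄, AlgSp.IsAlgSpace X₁ → AlgSp.IsAlgSpace Y₁ →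
      AlgSp.IsAlgSpace X₂ → AlgSp.IsAlgSpace Y₂ → ∀ (a : X₁ ⟶ Y₁) (b : Y₂ ⟶ Y₁) (a' : X₂ ⟶ Y₂)
      (b' : X₂ ⟶ X₁), IsPullback b' a' a b → P a → P a')
    (hQb : ∀ ⦃X₁ Y₁ X₂ Y₂ : AlgSp.Sp S⦄, AlgSp.IsAlgSpace X₁ → AlgSp.IsAlgSpace Y₁ →
      AlgSp.IsAlgSpace X₂ → AlgSp.IsAlgSpace Y₂ → ∀ (a : X₁ ⟶ Y₁) (b : Y₂ ⟶ Y₁) (a' : X₂ ⟶ Y₂)
      (b' : X₂ ⟶ X₁), IsPullback b' a' a b → Q a → Q a')
    (hRb : ∀ ⦃X₁ Y₁ X₂ Y₂ : AlgSp.Sp S⦄, AlgSp.IsAlgSpace X₁ → AlgSp.IsAlgSpace Y₁ →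
      AlgSp.IsAlgSpace X₂ → AlgSp.IsAlgSpace Y₂ → ∀ (a : X₁ ⟶ Y₁) (b : Y₂ ⟶ Y₁) (a' : X₂ ⟶ Y₂)
      (b' : X₂ ⟶ X₁), IsPullback b' a' a b → R a → R a')
    (hP : AlgSp.IsLocalOnBase AlgSp.IsFppfCover P) (hQ : AlgSp.IsLocalOnBase AlgSp.IsFppfCover Q)
    (hR : AlgSp.IsLocalOnBase AlgSp.IsFppfCover R)
    (h₂ : ∀ (X Y : AlgSp.Space S) (g : X ⟶ Y), AlgSp.LocP @Smooth g.hom → R g.hom)
    (h₃ : ∀ (X Y : AlgSp.Space S) (f : X ⟶ Y), Q f.hom →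
      ∃ (W : AlgSp.Space S) (w : W ⟶ X), SpLargest P f W w)
    (h₄ : ∀ (X Y X' Y' : AlgSp.Space S) (f : X ⟶ Y) (g : Y' ⟶ Y) (f' : X' ⟶ Y') (g' : X' ⟶ X),
      IsPullback g'.hom f'.hom f.hom g.hom → Q f.hom → R g.hom →
      ∀ (W : AlgSp.Space S) (w : W ⟶ X), SpLargest P f W w →
        ∀ (W' : AlgSp.Space S) (w' : W' ⟶ X') (k : W' ⟶ W), IsPullback k.hom w'.hom w.hom g'.hom →
          SpLargest P f' W' w')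
    (h𝒳 : IsAlgStack Scheme.fppfPrecoverage 𝒳) (h𝒴 : IsAlgStack Scheme.fppfPrecoverage 𝒴)
    (f : 𝒳 ⥤ᵇ 𝒴) (hf : RepByAlgSpWith Q f) {V : Over S} (v : FibCat.overCat V ⥤ᵇ 𝒴)
    (hv : RepByAlgSpWith (AlgSp.LocP @Smooth) v) (hvs : RepByAlgSpWith AlgSp.IsSurjectiveMor v) :
    ∃ (E : (FibCat.fp v f).obj → Prop) (Q₀ : 𝒳.obj → Prop), IsLargest P (FibCat.fpFst v f) E ∧
      IsLargest P f Q₀ ∧ ∀ ζ : (FibCat.fp v f).obj, Q₀ ζ.obj.snd ↔ E ζ := by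
  haveI := h𝒳.isStack.1
  haveI := h𝒴.isStack.1
  haveI : FibCat.IsFibGrpd (FibCat.overCat V).p := overCat_isFibGrpd V
  have hℬ : RepByAlgSp (FibCat.overCat V) := repByAlgSp_overCat V
  have hf1 : RepByAlgSp1 f := repByAlgSp1_of_repByAlgSpWith _ hf
  have h𝒜 : RepByAlgSp (FibCat.fp v f) :=
    Groth.Agent.Lib.AlgStBoot.repByAlgSp_fp_of_repByAlgSp1 f v hf1 hℬ
  have hg : RepByAlgSpWith Q (FibCat.fpFst v f) :=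
    Groth.Agent.Lib.AlgStRep.repByAlgSpWith_fpFst Q f v hf
  obtain ⟨E, hE⟩ := exists_isLargest P Q hPb hQb hP hQ h₃ h𝒜 hℬ (FibCat.fpFst v f) hg
  have hvR : RepByAlgSpWith R v :=
    Groth.Agent.Lib.AlgStDiagDict2.repByAlgSpWith_mono v (fun F T hF α hα =>
      h₂ ⟨F, hF⟩ ⟨(AlgSp.yon S).obj T, AlgSp.IsAlgSpace.yon_obj T⟩ (ObjectProperty.homMk α) hα) hv
  have hℛ : RepByAlgSp (FibCat.fp v v) :=
    Groth.Agent.Lib.AlgStBoot.repByAlgSp_fp_of_repByAlgSp1 v v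
      (repByAlgSp1_of_repByAlgSpWith _ hv) hℬ
  have hq₁ : RepByAlgSpWith R (FibCat.fpFst v v) :=
    Groth.Agent.Lib.AlgStRep.repByAlgSpWith_fpFst R v v hvR
  have hq₂ : RepByAlgSpWith R (FibCat.fpSnd v v) :=
    Groth.Agent.Lib.AlgStRepC.repByAlgSpWith_fpSnd R v v hvR
  have L₁ := isLargest_fpFst P Q R hPb hQb hRb hP hQ hR h₄ h𝒜 hℬ hℛ
    (FibCat.fpFst v f) hg (FibCat.fpFst v v) hq₁ hE
  have L₂ := isLargest_fpFst P Q R hPb hQb hRb hP hQ hR h₄ h𝒜 hℬ hℛ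
    (FibCat.fpFst v f) hg (FibCat.fpSnd v v) hq₂ hE
  have hsat := sat_obj v f P L₁ L₂
  obtain ⟨hL, hiff⟩ := isLargest_desc P hPb hP h𝒳 h𝒴 hℬ v hv hvs f hf1 hE hsat
  exact ⟨E, _, hE, hL, hiff⟩

/-- **Base change of the largest open substack** along a functor with `R`. -/
theorem isLargest_baseChange (P Q R : MorphismProperty (AlgSp.Sp S))
    (hPb : ∀ ⦃X₁ Y₁ X₂ Y₂ : AlgSp.Sp S⦄, AlgSp.IsAlgSpace X₁ → AlgSp.IsAlgSpace Y₁ →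
      AlgSp.IsAlgSpace X₂ → AlgSp.IsAlgSpace Y₂ → ∀ (a : X₁ ⟶ Y₁) (b : Y₂ ⟶ Y₁) (a' : X₂ ⟶ Y₂)
      (b' : X₂ ⟶ X₁), IsPullback b' a' a b → P a → P a')
    (hQb : ∀ ⦃X₁ Y₁ X₂ Y₂ : AlgSp.Sp S⦄, AlgSp.IsAlgSpace X₁ → AlgSp.IsAlgSpace Y₁ →
      AlgSp.IsAlgSpace X₂ → AlgSp.IsAlgSpace Y₂ → ∀ (a : X₁ ⟶ Y₁) (b : Y₂ ⟶ Y₁) (a' : X₂ ⟶ Y₂)
      (b' : X₂ ⟶ X₁), IsPullback b' a' a b → Q a → Q a')
    (hRb : ∀ ⦃X₁ Y₁ X₂ Y₂ : AlgSp.Sp S⦄, AlgSp.IsAlgSpace X₁ → AlgSp.IsAlgSpace Y₁ →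
      AlgSp.IsAlgSpace X₂ → AlgSp.IsAlgSpace Y₂ → ∀ (a : X₁ ⟶ Y₁) (b : Y₂ ⟶ Y₁) (a' : X₂ ⟶ Y₂)
      (b' : X₂ ⟶ X₁), IsPullback b' a' a b → R a → R a')
    (hP : AlgSp.IsLocalOnBase AlgSp.IsFppfCover P) (hQ : AlgSp.IsLocalOnBase AlgSp.IsFppfCover Q)
    (hR : AlgSp.IsLocalOnBase AlgSp.IsFppfCover R)
    (h₂ : ∀ (X Y : AlgSp.Space S) (g : X ⟶ Y), AlgSp.LocP @Smooth g.hom → R g.hom)
    (h₃ : ∀ (X Y : AlgSp.Space S) (f : X ⟶ Y), Q f.hom →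
      ∃ (W : AlgSp.Space S) (w : W ⟶ X), SpLargest P f W w)
    (h₄ : ∀ (X Y X' Y' : AlgSp.Space S) (f : X ⟶ Y) (g : Y' ⟶ Y) (f' : X' ⟶ Y') (g' : X' ⟶ X),
      IsPullback g'.hom f'.hom f.hom g.hom → Q f.hom → R g.hom →
      ∀ (W : AlgSp.Space S) (w : W ⟶ X), SpLargest P f W w →
        ∀ (W' : AlgSp.Space S) (w' : W' ⟶ X') (k : W' ⟶ W), IsPullback k.hom w'.hom w.hom g'.hom →
          SpLargest P f' W' w')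
    (h𝒳 : IsAlgStack Scheme.fppfPrecoverage 𝒳) (h𝒴 : IsAlgStack Scheme.fppfPrecoverage 𝒴)
    (h𝒵 : IsAlgStack Scheme.fppfPrecoverage 𝒵)
    (f : 𝒳 ⥤ᵇ 𝒴) (hf : RepByAlgSpWith Q f) {Q₀ : 𝒳.obj → Prop} (hL : IsLargest P f Q₀)
    (z : 𝒵 ⥤ᵇ 𝒴) (hz : RepByAlgSpWith R z) :
    IsLargest P (FibCat.fpFst z f) (fun b => Q₀ b.obj.snd) := by
  haveI := h𝒳.isStack.1
  haveI := h𝒴.isStack.1
  haveI := h𝒵.isStack.1
  obtain ⟨V, v, hv, hvs⟩ := h𝒴.atlas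
  haveI : FibCat.IsFibGrpd (FibCat.overCat V).p := overCat_isFibGrpd V
  obtain ⟨E, Q₀', hE, hLd, hiff⟩ := exists_isLargest_atlas P Q R hPb hQb hRb hP hQ hR h₂ h₃ h₄
    h𝒳 h𝒴 f hf v hv hvs
  have hQE : ∀ ζ : (FibCat.fp v f).obj, Q₀ ζ.obj.snd ↔ E ζ :=
    fun ζ => (hL.iff hLd ζ.obj.snd).trans (hiff ζ)
  have hℬ : RepByAlgSp (FibCat.overCat V) := repByAlgSp_overCat V
  have hf1 : RepByAlgSp1 f := repByAlgSp1_of_repByAlgSpWith _ hf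
  have hz1 : RepByAlgSp1 z := repByAlgSp1_of_repByAlgSpWith _ hz
  have h𝒜 : RepByAlgSp (FibCat.fp v f) :=
    Groth.Agent.Lib.AlgStBoot.repByAlgSp_fp_of_repByAlgSp1 f v hf1 hℬ
  have hℬ' : RepByAlgSp (FibCat.fp v z) :=
    Groth.Agent.Lib.AlgStBoot.repByAlgSp_fp_of_repByAlgSp1 z v hz1 hℬ
  have hg : RepByAlgSpWith Q (FibCat.fpFst v f) :=
    Groth.Agent.Lib.AlgStRep.repByAlgSpWith_fpFst Q f v hf
  have hz' : RepByAlgSpWith R (FibCat.fpFst v z) :=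
    Groth.Agent.Lib.AlgStRep.repByAlgSpWith_fpFst R z v hz
  have L₁ := isLargest_fpFst P Q R hPb hQb hRb hP hQ hR h₄ h𝒜 hℬ hℬ'
    (FibCat.fpFst v f) hg (FibCat.fpFst v z) hz' hE
  obtain ⟨E₂, hE₂, hE₂iff⟩ := IsLargest.exists_span P (spanC₁ v z f) (spanC₁_isEquivOver v z f)
    (fpPasteLeft (FibCat.fpSnd v z) z f) (fpPasteLeft_isEquivOver _ _ _)
    (FibCat.fpFst (FibCat.fpFst v z) (FibCat.fpFst v f))
    (FibCat.fpFst (FibCat.fpSnd v z) (FibCat.fpFst z f))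
    (FibCat.fpFst (BasedFunctor.comp (FibCat.fpSnd v z) z) f) (Iso.refl _) (Iso.refl _) L₁
  have hpb : PbStable (fun b : (FibCat.fp z f).obj => Q₀ b.obj.snd) :=
    fun b' b φ h => hL.1 ((FibCat.fpSnd z f).map φ) h
  have ho : IsOpenImm (subIncl (FibCat.fp z f) (fun b => Q₀ b.obj.snd)) :=
    isOpenImm_preim (FibCat.fpSnd z f) hL.1.closedUnderIso hL.2.1
  have hp : RepByAlgSpWith P (BasedFunctor.comp
      (subIncl (FibCat.fp z f) (fun b => Q₀ b.obj.snd)) (FibCat.fpFst z f)) :=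
    (repByAlgSpWith_preim_iff P z f hL.1.closedUnderIso).2
      (Groth.Agent.Lib.AlgStRep.repByAlgSpWith_fpFst P _ z hL.2.2.1)
  refine ⟨hpb, ho, hp, ?_⟩
  intro Q₁ hQ₁ hQ₁o hQ₁P
  haveI : FibCat.IsFibGrpd (FibCat.fp z f).p := fp_isFibGrpd z f
  haveI : FibCat.IsFibGrpd (FibCat.fp v z).p := fp_isFibGrpd v z
  have hE₁ : PbStable (fun a => Q₁ ((FibCat.fpSnd (FibCat.fpSnd v z) (FibCat.fpFst z f)).obj a)) :=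
    fun a' a φ h => hQ₁ ((FibCat.fpSnd (FibCat.fpSnd v z) (FibCat.fpFst z f)).map φ) h
  have hE₁o := isOpenImm_preim (FibCat.fpSnd (FibCat.fpSnd v z) (FibCat.fpFst z f))
    hQ₁.closedUnderIso hQ₁o
  have hE₁P := (repByAlgSpWith_preim_iff P (FibCat.fpSnd v z) (FibCat.fpFst z f)
    hQ₁.closedUnderIso).2
      (Groth.Agent.Lib.AlgStRep.repByAlgSpWith_fpFst P _ (FibCat.fpSnd v z) hQ₁P)
  have hle := hE₂.2.2.2 _ hE₁ hE₁o hE₁P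
  have hsurj : IsSurjective (FibCat.fpSnd (FibCat.fpSnd v z) (FibCat.fpFst z f)) :=
    isSurjective_fpSnd inferInstance inferInstance inferInstance _ _
      (isSurjective_fpSnd inferInstance inferInstance inferInstance v z
        (isSurjective_of_repByAlgSpWith v hvs))
  refine le_of_cover (FibCat.fpSnd (FibCat.fpSnd v z) (FibCat.fpFst z f)) hsurj hQ₁ hQ₁o hpb ho ?_
  intro ζ' hζ'
  have h1 : E₂ ζ' := hle ζ' hζ'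
  obtain ⟨ζ₁, hκ, hx⟩ := span_obj v z f ζ'
  have h2 : E ζ₁.obj.snd := (hE₂iff ζ₁ ζ' hκ).2 h1
  have h3 : Q₀ ζ₁.obj.snd.obj.snd := (hQE _).2 h2
  rw [hx] at h3
  exact h3

end BaseChangeMain

end Groth.Agent.Lib.AlgStLargest
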