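import Groth.Agent.Lib.AlgStRepStack
import Groth.Agent.Lib.AlgStCancel
import Groth.Agent.Lib.AlgStDiagDict2
import Groth.Agent.Lib.AlgSpQC
import Groth.Agent.Lib.AlgStMorComp
import Groth.Agent.Lib.AlgStSection
import Groth.Agent.Lib.H86QcProd

/-!
# Quasi-compact algebraic stacks and quasi-compact morphisms (helper64)

* `isQuasiCompact_ofSp_iff` : for an algebraic space `T`, `(Sch/T)` is quasi-compact as a stack iff
  `T` is quasi-compact as a sheaf.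
* `isQuasiCompact_of_smooth_surjective` : the target of a smooth surjective morphism from a
  quasi-compact stack is quasi-compact.
* `equivOver_fp_of_isPullback` : `ofSp (T ×_Z V) ≃ T ×_𝒴 𝒳` when `V ≃ Z ×_𝒴 𝒳`.
* `repByAlgSpWith_isQuasiCompactMor_iff` (= S12981).
-/

set_option autoImplicit false
set_option linter.style.haveILetI false
set_option backward.isDefEq.respectTransparency false
set_option backward.isDefEq.respectTransparency.types false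

namespace Groth.Agent.Lib.AlgStQC

open CategoryTheory Functor Opposite Limits AlgebraicGeometry Groth.Agent.Lib.FibGrpd
  Groth.Agent.Lib.FpEquiv Groth.Agent.Lib.EquivOver Groth.Agent.Lib.AlgStFp
  Groth.Agent.Lib.AlgStRep Groth.Agent.Lib.AlgStSpTest Groth.Agent.Lib.AlgStEquiv
  Groth.Agent.Lib.AlgStAtlas Groth.Agent.Lib.AlgStFpStack Groth.Agent.Lib.PshFp
  Groth.Agent.Lib.FpBaseChange Groth.Agent.Lib.AlgStRepStack Groth.Agent.Lib.AlgStCancel

universe v₃ u₃ v₂ u₂ u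

variable {S : Scheme.{u}}

section Chart

/-- A quasi-compact sheaf has an etale surjective chart from an AFFINE scheme. -/
theorem exists_affine_chart {F : AlgSp.Sp S} (hF : AlgSp.IsQuasiCompactSp F) :
    ∃ (W : Over S) (c : (AlgSp.yon S).obj W ⟶ F), IsAffine W.left ∧ AlgSp.RepWith @Etale c ∧
      AlgSp.RepWith @Surjective c := by
  obtain ⟨U, p, hpe, hps, hU⟩ := hF
  haveI : CompactSpace ↥U.left := hU
  obtain ⟨Y, q, hqs, hqe, hY⟩ :=
    Scheme.exists_hom_isAffine_of_isZariskiLocalAtSource @Etale U.left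
  let W : Over S := Over.mk (q ≫ U.hom)
  let j : W ⟶ U := Over.homMk q rfl
  have hje : AlgSp.RepWith @Etale ((AlgSp.yon S).map j) :=
    (AlgSp.repWith_yon_map_iff @Etale j).2 hqe
  have hjs : AlgSp.RepWith @Surjective ((AlgSp.yon S).map j) :=
    (AlgSp.repWith_yon_map_iff @Surjective j).2 hqs
  exact ⟨W, (AlgSp.yon S).map j ≫ p, hY, (AlgSp.RepWith @Etale).comp_mem _ _ hje hpe,
    (AlgSp.RepWith @Surjective).comp_mem _ _ hjs hps⟩

/-- For an algebraic space `T`: `(Sch/T)` is a quasi-compact stack iff `T` is a quasi-compact sheaf. -/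
theorem isQuasiCompact_ofSp_iff (T : AlgSp.Space S) :
    AlgSt.IsQuasiCompact (AlgSt.ofSp T.obj) ↔ AlgSp.IsQuasiCompactSp T.obj := by
  constructor
  · rintro ⟨W, x, hW, -, hxs⟩
    obtain ⟨ξ, ⟨γ⟩⟩ := Groth.Agent.Lib.AlgStBoot.exists_ofPshMap_iso_overCat W x
    let c : (AlgSp.yon S).obj W ⟶ T.obj := ObjectProperty.homMk ξ
    have h1 : AlgSt.RepByAlgSpWith AlgSp.IsSurjectiveMor
        (BasedFunctor.comp (AlgSt.ofOverCat W) (AlgSt.ofSpMap c)) :=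
      (Groth.Agent.Lib.AlgStDiag3.repByAlgSpWith_congr _ γ.symm).1 hxs
    have h2 : AlgSt.RepByAlgSpWith AlgSp.IsSurjectiveMor (AlgSt.ofSpMap c) :=
      (repByAlgSpWith_equiv_comp_iff _ (AlgSt.ofOverCat W) (ofOverCat_isEquivOver W)
        (AlgSt.ofSpMap c)).2 h1
    have h3 : AlgSp.IsSurjectiveMor c :=
      Groth.Agent.Lib.AlgStDiagDict2.prop_of_repByAlgSpWith_ofSpMap _ isoInv_isSurjectiveMor
        (schemeLocal_of_atlasLocal atlasLocal_isSurjectiveMor) (AlgSp.IsAlgSpace.yon_obj W)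
        T.property c h2
    haveI : IsAffine W.left := hW
    haveI : CompactSpace (AlgSp.Points T.obj) := by
      have hs : Function.Surjective (AlgSp.Points.ofPt c) := by
        have : AlgSp.Points.ofPt c = AlgSp.Points.map c ∘ AlgSp.Points.schemeHomeo W := by
          funext t; exact AlgSp.Points.ofPt_eq_map_ofScheme c t
        rw [this]
        exact h3.comp (AlgSp.Points.schemeHomeo W).surjective
      exact Function.Surjective.compactSpace (AlgSp.Points.continuous_ofPt c) hs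
    exact Groth.Agent.Lib.AlgSpQC.isQuasiCompactSp_of_compactSpace_points T.property
  · intro h
    obtain ⟨W, c, hW, hce, hcs⟩ := exists_affine_chart h
    exact ⟨W, _, hW, repByAlgSpWith_chart _ atlasClass_locP_smooth T c hce hcs,
      repByAlgSpWith_chart _ atlasClass_isSurjectiveMor T c hce hcs⟩

end Chart

section Stacks

variable {𝒳 𝒴 𝒵 : AlgSt.Cat S}

/-- The target of a smooth surjective morphism from a quasi-compact stack is quasi-compact. -/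
theorem isQuasiCompact_of_smooth_surjective [FibCat.IsFibGrpd 𝒳.p] (ω : 𝒳 ⥤ᵇ 𝒴)
    (h1 : AlgSt.RepByAlgSpWith (AlgSp.LocP @Smooth) ω)
    (h2 : AlgSt.RepByAlgSpWith AlgSp.IsSurjectiveMor ω) (h𝒳 : AlgSt.IsQuasiCompact 𝒳) :
    AlgSt.IsQuasiCompact 𝒴 := by
  obtain ⟨U, x, hU, hx, hxs⟩ := h𝒳
  have key : ∀ (Q : MorphismProperty (AlgSp.Sp S)), AtlasClass Q → AlgSt.RepByAlgSpWith Q x →
      AlgSt.RepByAlgSpWith Q ω → AlgSt.RepByAlgSpWith Q (BasedFunctor.comp x ω) :=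
    fun Q hQ hxQ hωQ => repByAlgSpWith_comp Q hQ.isoInv hQ.atlasLocal hQ.comp x ω hxQ hωQ
  exact ⟨U, BasedFunctor.comp x ω, hU, key _ atlasClass_locP_smooth hx h1,
    key _ atlasClass_isSurjectiveMor hxs h2⟩

end Stacks

section Square

variable {𝒳 : BasedCategory.{v₂, u₂} (Over S)} {𝒴 : BasedCategory.{v₃, u₃} (Over S)}

/-- If `V ≃ Z ×_𝒴 𝒳` with projection `a : V ⟶ Z`, and `X = T ×_Z V` is a pullback of sheaves, then
`X ≃ T ×_𝒴 𝒳`. -/
theorem equivOver_fp_of_isPullback (f : 𝒳 ⥤ᵇ 𝒴) {Z V T X : AlgSp.Sp S}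
    (z : AlgSt.ofSp Z ⥤ᵇ 𝒴) (e : AlgSt.ofSp V ⥤ᵇ FibCat.fp z f) (he : FibCat.IsEquivOver e)
    (a : V ⟶ Z) (γ : BasedFunctor.comp e (FibCat.fpFst z f) ≅ AlgSt.ofSpMap a)
    (g : T ⟶ Z) {fst : X ⟶ T} {snd : X ⟶ V} (sq : IsPullback fst snd g a) :
    ∃ E : AlgSt.ofSp X ⥤ᵇ FibCat.fp (BasedFunctor.comp (AlgSt.ofSpMap g) z) f,
      FibCat.IsEquivOver E ∧
        Nonempty (BasedFunctor.comp E (FibCat.fpFst _ f) ≅ AlgSt.ofSpMap fst) := by
  have sq' : IsPullback fst.hom snd.hom g.hom a.hom :=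
    sq.map (sheafToPresheaf (AlgSp.J S) (Type (u + 1)))
  let c₅ : AlgSt.ofSp X ⥤ᵇ FibCat.fp (AlgSt.ofSpMap g) (AlgSt.ofSpMap a) := pshFpFunctor sq'.w
  have h₅ : FibCat.IsEquivOver c₅ := pshFpFunctor_isEquivOver_of_isPullback sq'
  let α : BasedFunctor.comp (AlgSt.ofSpMap g) (BasedFunctor.id (AlgSt.ofSp Z)) ≅
      BasedFunctor.comp (BasedFunctor.id (AlgSt.ofSp T)) (AlgSt.ofSpMap g) :=
    compIdIso _ ≪≫ (idCompIso _).symm
  let β : BasedFunctor.comp (AlgSt.ofSpMap a) (BasedFunctor.id (AlgSt.ofSp Z)) ≅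
      BasedFunctor.comp e (FibCat.fpFst z f) := compIdIso _ ≪≫ γ.symm
  let c₄ : FibCat.fp (AlgSt.ofSpMap g) (AlgSt.ofSpMap a) ⥤ᵇ
      FibCat.fp (AlgSt.ofSpMap g) (FibCat.fpFst z f) :=
    fpMap (BasedFunctor.id (AlgSt.ofSp T)) e (BasedFunctor.id (AlgSt.ofSp Z)) α β
  haveI : (BasedFunctor.id (AlgSt.ofSp Z)).toFunctor.Full := id_full
  haveI : (BasedFunctor.id (AlgSt.ofSp Z)).toFunctor.Faithful := id_faithful
  have h₄ : FibCat.IsEquivOver c₄ :=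
    fpMap_isEquivOver (BasedFunctor.id (AlgSt.ofSp T)) e (BasedFunctor.id (AlgSt.ofSp Z)) α β
      isEquivOver_id he
  let c₁ : FibCat.fp (AlgSt.ofSpMap g) (FibCat.fpFst z f) ⥤ᵇ
      FibCat.fp (BasedFunctor.comp (AlgSt.ofSpMap g) z) f := fpPasteLeft (AlgSt.ofSpMap g) z f
  have h₁ : FibCat.IsEquivOver c₁ := fpPasteLeft_isEquivOver (AlgSt.ofSpMap g) z f
  exact ⟨BasedFunctor.comp (BasedFunctor.comp c₅ c₄) c₁,
    isEquivOver_comp (isEquivOver_comp h₅ h₄) h₁, ⟨Iso.refl _⟩⟩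

end Square

section Main

variable {𝒳 𝒴 : AlgSt.Cat S}

theorem atlasLocal_top : AtlasLocal (⊤ : MorphismProperty (AlgSp.Sp S)) :=
  fun _ _ _ _ _ _ _ _ _ _ _ _ _ _ _ => trivial

/-- A morphism representable by algebraic spaces and quasi-compact (on base changes to schemes) is
quasi-compact in the sense of stacks. -/
theorem isQuasiCompactMor_of_repByAlgSpWith [FibCat.IsFibGrpd 𝒳.p] [FibCat.IsFibGrpd 𝒴.p]
    (K : Precoverage Scheme.{u}) (f : 𝒳 ⥤ᵇ 𝒴)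
    (h : AlgSt.RepByAlgSpWith AlgSp.IsQuasiCompactMor f) : AlgSt.IsQuasiCompactMor K f := by
  intro 𝒵 h𝒵 hqc g
  haveI : FibCat.IsFibGrpd 𝒵.p := h𝒵.isStack.1
  obtain ⟨V, v, hV, hv, hvs⟩ := hqc
  obtain ⟨F, e, he, ha⟩ := h V (BasedFunctor.comp v g)
  haveI : IsAffine V.left := hV
  have hF : AlgSp.IsQuasiCompactSp F.obj :=
    ha (AlgSp.IsAlgSpace.yon_obj V)
      ((Groth.Agent.Lib.AlgSpQC.isQuasiCompactSp_yon_iff V).2 inferInstance) (𝟙 _) (𝟙 _) _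
      (IsPullback.id_horiz _)
  have h1 : AlgSt.IsQuasiCompact (FibCat.fp (BasedFunctor.comp v g) f) :=
    (isQuasiCompact_iff_of_isEquivOver e he).1 ((isQuasiCompact_ofSp_iff F).2 hF)
  haveI : FibCat.IsFibGrpd (FibCat.fp (BasedFunctor.comp v g) f).p := fp_isFibGrpd _ _
  exact isQuasiCompact_of_smooth_surjective (fpMapLeft v g f)
    (repByAlgSpWith_fpMapLeft _ v g f hv) (repByAlgSpWith_fpMapLeft _ v g f hvs) h1

/-- = S12981. -/
theorem repByAlgSpWith_isQuasiCompactMor_iff [FibCat.IsFibGrpd 𝒳.p] [FibCat.IsFibGrpd 𝒴.p]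
    (f : 𝒳 ⥤ᵇ 𝒴) (hf : AlgSt.RepByAlgSp1 f) :
    AlgSt.RepByAlgSpWith AlgSp.IsQuasiCompactMor f ↔
      AlgSt.IsQuasiCompactMor Scheme.fppfPrecoverage f := by
  refine ⟨isQuasiCompactMor_of_repByAlgSpWith _ f, fun hq => ?_⟩
  refine repByAlgSpWith_of_forall_space _ f (fun Z z => ?_)
  obtain ⟨V, a, e, he, ⟨γ⟩, -⟩ := exists_rep_over_space ⊤ isoInv_top atlasLocal_top f
    ((repByAlgSp1_iff_top f).1 hf) Z z
  refine ⟨V, a, e, he, ⟨γ⟩, ?_⟩
  intro T T' hT hTqc g fst snd sq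
  have hT' : AlgSp.IsAlgSpace T' :=
    Groth.Agent.Lib.AlgSpFibre.isAlgSpace_of_isPullback Z.property.diag V.property hT sq
  obtain ⟨E, hE, -⟩ := equivOver_fp_of_isPullback f z e he a.hom γ g sq.flip
  have h1 : AlgSt.IsQuasiCompact (FibCat.fp (BasedFunctor.comp (AlgSt.ofSpMap g) z) f) :=
    hq (AlgSt.ofSp T) (isDM_ofSp ⟨T, hT⟩).1 ((isQuasiCompact_ofSp_iff ⟨T, hT⟩).2 hTqc) _
  exact (isQuasiCompact_ofSp_iff ⟨T', hT'⟩).1 ((isQuasiCompact_iff_of_isEquivOver E hE).2 h1)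

end Main

section Cancel

variable {𝒳 𝒴 𝒵 : AlgSt.Cat S}

/-- Quasi-compactness of morphisms of stacks is invariant under 2-isomorphism. -/
theorem isQuasiCompactMor_congr (K : Precoverage Scheme.{u}) {f f' : 𝒳 ⥤ᵇ 𝒴} (α : f ≅ f')
    (hf : AlgSt.IsQuasiCompactMor K f) : AlgSt.IsQuasiCompactMor K f' := by
  intro 𝒲 h𝒲 hqc h
  have h1 := hf 𝒲 h𝒲 hqc h
  let α' : BasedFunctor.comp h (BasedFunctor.id 𝒴) ≅ BasedFunctor.comp (BasedFunctor.id 𝒲) h :=
    compIdIso h ≪≫ (idCompIso h).symm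
  let β' : BasedFunctor.comp f (BasedFunctor.id 𝒴) ≅ BasedFunctor.comp (BasedFunctor.id 𝒳) f' :=
    compIdIso f ≪≫ α ≪≫ (idCompIso f').symm
  haveI : (BasedFunctor.id 𝒴).toFunctor.Full := id_full
  haveI : (BasedFunctor.id 𝒴).toFunctor.Faithful := id_faithful
  exact (isQuasiCompact_iff_of_isEquivOver
    (fpMap (BasedFunctor.id 𝒲) (BasedFunctor.id 𝒳) (BasedFunctor.id 𝒴) α' β')
    (fpMap_isEquivOver _ _ _ α' β' isEquivOver_id isEquivOver_id)).1 h1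

/-- Base change of quasi-compact morphisms, second projection. -/
theorem isQuasiCompactMor_fpSnd (K : Precoverage Scheme.{u}) (a : 𝒳 ⥤ᵇ 𝒵) (b : 𝒴 ⥤ᵇ 𝒵)
    (ha : AlgSt.IsQuasiCompactMor K a) : AlgSt.IsQuasiCompactMor K (FibCat.fpSnd a b) := by
  intro 𝒲 h𝒲 hqc h
  have h1 : AlgSt.IsQuasiCompact (FibCat.fp h (FibCat.fpFst b a)) :=
    isQuasiCompactMor_fpFst K a b ha 𝒲 h𝒲 hqc h
  let α' : BasedFunctor.comp h (BasedFunctor.id 𝒴) ≅ BasedFunctor.comp (BasedFunctor.id 𝒲) h :=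
    compIdIso h ≪≫ (idCompIso h).symm
  let β' : BasedFunctor.comp (FibCat.fpSnd a b) (BasedFunctor.id 𝒴) ≅
      BasedFunctor.comp (Groth.Agent.Lib.AlgStRepC.fpSwap a b) (FibCat.fpFst b a) :=
    compIdIso _ ≪≫ (Groth.Agent.Lib.AlgStRepC.fpSwapFstIso a b).symm
  haveI : (BasedFunctor.id 𝒴).toFunctor.Full := id_full
  haveI : (BasedFunctor.id 𝒴).toFunctor.Faithful := id_faithful
  exact (isQuasiCompact_iff_of_isEquivOver
    (fpMap (BasedFunctor.id 𝒲) (Groth.Agent.Lib.AlgStRepC.fpSwap a b) (BasedFunctor.id 𝒴) α' β')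
    (fpMap_isEquivOver _ _ _ α' β' isEquivOver_id
      (Groth.Agent.Lib.AlgStRepC.fpSwap_isEquivOver a b))).2 h1

/-- The graph `𝒳 ⟶ 𝒳 ×_𝒵 𝒴` of `f : 𝒳 ⟶ 𝒴` over `𝒵`. -/
def graph (f : 𝒳 ⥤ᵇ 𝒴) (g : 𝒴 ⥤ᵇ 𝒵) : 𝒳 ⥤ᵇ FibCat.fp (BasedFunctor.comp f g) g :=
  FibCat.fpLift (BasedFunctor.id 𝒳) f (idCompIso (BasedFunctor.comp f g))

def graphFstIso (f : 𝒳 ⥤ᵇ 𝒴) (g : 𝒴 ⥤ᵇ 𝒵) :
    BasedFunctor.comp (graph f g) (FibCat.fpFst (BasedFunctor.comp f g) g) ≅ BasedFunctor.id 𝒳 :=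
  Iso.refl _

def graphSndIso (f : 𝒳 ⥤ᵇ 𝒴) (g : 𝒴 ⥤ᵇ 𝒵) :
    BasedFunctor.comp (graph f g) (FibCat.fpSnd (BasedFunctor.comp f g) g) ≅ f :=
  Iso.refl _

/-- = S12986: cancellation for quasi-compact morphisms. -/
theorem isQuasiCompactMor_of_comp (h𝒳 : AlgSt.IsAlgStack Scheme.fppfPrecoverage 𝒳)
    (h𝒴 : AlgSt.IsAlgStack Scheme.fppfPrecoverage 𝒴)
    (h𝒵 : AlgSt.IsAlgStack Scheme.fppfPrecoverage 𝒵) (f : 𝒳 ⥤ᵇ 𝒴) (g : 𝒴 ⥤ᵇ 𝒵)
    (hfg : AlgSt.IsQuasiCompactMor Scheme.fppfPrecoverage (BasedFunctor.comp f g))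
    (hg : AlgSt.IsQuasiSeparatedMor g) : AlgSt.IsQuasiCompactMor Scheme.fppfPrecoverage f := by
  haveI : FibCat.IsFibGrpd 𝒳.p := h𝒳.isStack.1
  haveI : FibCat.IsFibGrpd 𝒴.p := h𝒴.isStack.1
  haveI : FibCat.IsFibGrpd 𝒵.p := h𝒵.isStack.1
  haveI : FibCat.IsFibGrpd (FibCat.fp (BasedFunctor.comp f g) g).p := fp_isFibGrpd _ _
  have hP : AlgSt.IsAlgStack Scheme.fppfPrecoverage (FibCat.fp (BasedFunctor.comp f g) g) :=
    isAlgStack_fp_of _ h𝒵.isStack h𝒵.diag h𝒳 h𝒴 _ _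
  have h1 : AlgSt.IsQuasiSeparatedMor (FibCat.fpFst (BasedFunctor.comp f g) g) :=
    Groth.Agent.Lib.AlgStDiag.repByAlgSpWith_diag_fpFst _ g (BasedFunctor.comp f g) hg
  have h2 := Groth.Agent.Lib.AlgStSection.section_of_isQuasiSeparatedMor
    (FibCat.fpFst (BasedFunctor.comp f g) g) (graph f g) (graphFstIso f g) h1
  have h3 : AlgSt.RepByAlgSpWith AlgSp.IsQuasiCompactMor (graph f g) :=
    Groth.Agent.Lib.AlgStDiagDict2.repByAlgSpWith_mono _ (fun _ _ _ _ h => h.1) h2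
  have h4 : AlgSt.IsQuasiCompactMor Scheme.fppfPrecoverage (graph f g) :=
    isQuasiCompactMor_of_repByAlgSpWith _ _ h3
  have h5 : AlgSt.IsQuasiCompactMor Scheme.fppfPrecoverage
      (FibCat.fpSnd (BasedFunctor.comp f g) g) := isQuasiCompactMor_fpSnd _ _ g hfg
  exact isQuasiCompactMor_congr _ (graphSndIso f g)
    (Groth.Agent.Lib.AlgStMorComp.isQuasiCompactMor_comp _ hP h𝒴 _ _ h4 h5)

end Cancel

section SelfOver

open Groth.Agent.Lib.SelfProd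

/-- The slice over the terminal object is equivalent to the base. -/
theorem toSelf_overCat_terminal_isEquivOver :
    FibCat.IsEquivOver (FibCat.toSelf (FibCat.overCat (Over.mk (𝟙 S)))) := by
  haveI : (FibCat.toSelf (FibCat.overCat (Over.mk (𝟙 S)))).toFunctor.Full :=
    ⟨fun {X Y} f => ⟨Over.homMk f (Over.mkIdTerminal.hom_ext _ _), rfl⟩⟩
  haveI : (FibCat.toSelf (FibCat.overCat (Over.mk (𝟙 S)))).toFunctor.Faithful :=
    inferInstanceAs (Over.forget (Over.mk (𝟙 S))).Faithful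
  refine isEquivOver_of_ff_of_ess _ (fun η => ?_)
  refine ⟨Over.mk (Over.mkIdTerminal.from η), Iso.refl _, ?_⟩
  exact IsHomLift.of_fac' _ _ _ rfl rfl (by simp)

/-- The base `(Sch/S)` is an algebraic stack. -/
theorem isAlgStack_selfOver :
    AlgSt.IsAlgStack Scheme.fppfPrecoverage (FibCat.selfOver (Over S)) := by
  refine ⟨isStack_selfOver _,
    (Groth.Agent.S12765.result toSelf_isFibGrpd).2 repByAlgSp1_to_selfOver,
    ⟨Over.mk (𝟙 S), FibCat.toSelf _, ?_, ?_⟩⟩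
  · exact Groth.Agent.Lib.AlgStEquivRep.repByAlgSpWith_of_isEquivOver _
      (fun U => Groth.Agent.Lib.H69AlgSpLocST.locP_smooth_id (AlgSp.IsAlgSpace.yon_obj U)) _
      toSelf_overCat_terminal_isEquivOver
  · exact Groth.Agent.Lib.AlgStEquivRep.repByAlgSpWith_of_isEquivOver _
      (fun U => by
        intro x
        exact ⟨x, by simp [AlgSp.Points.map_id]⟩) _
      toSelf_overCat_terminal_isEquivOver

end SelfOver

section OverS

open Groth.Agent.Lib.SelfProd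

variable {𝒳 𝒴 : AlgSt.Cat S}

/-- The slice category of a quasi-compact scheme is a quasi-compact stack. -/
theorem isQuasiCompact_overCat (T : Over S) [CompactSpace ↥T.left] :
    AlgSt.IsQuasiCompact (FibCat.overCat T) :=
  (isQuasiCompact_iff_of_isEquivOver (AlgSt.ofOverCat T) (ofOverCat_isEquivOver T)).2
    ((isQuasiCompact_ofSp_iff ⟨(AlgSp.yon S).obj T, AlgSp.IsAlgSpace.yon_obj T⟩).2
      ((Groth.Agent.Lib.AlgSpQC.isQuasiCompactSp_yon_iff T).2 inferInstance))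

/-- Over a quasi-separated base, the structure morphism of a quasi-compact algebraic stack is
quasi-compact. -/
theorem isQuasiCompactMor_toSelf [QuasiSeparatedSpace ↥S] [FibCat.IsFibGrpd 𝒳.p]
    (K : Precoverage Scheme.{u}) (h𝒳 : AlgSt.IsQuasiCompact 𝒳) :
    AlgSt.IsQuasiCompactMor K (FibCat.toSelf 𝒳) := by
  intro 𝒲 h𝒲 hqc h
  haveI : FibCat.IsFibGrpd 𝒲.p := h𝒲.isStack.1
  haveI : FibCat.IsFibGrpd (FibCat.selfOver (Over S)).p := toSelf_isFibGrpd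
  obtain ⟨U, x, hU, hx, hxs⟩ := h𝒳
  obtain ⟨V, v, hV, hv, hvs⟩ := hqc
  haveI : IsAffine U.left := hU
  haveI : IsAffine V.left := hV
  haveI : CompactSpace ↥(V ⨯ U).left := Groth.Agent.Lib.H86QcProd.compactSpace_prod_left V U
  have e1 : EquivOver (FibCat.fp (BasedFunctor.comp v h) (BasedFunctor.comp x (FibCat.toSelf 𝒳)))
      (FibCat.fp (FibCat.toSelf (FibCat.overCat V))
        (BasedFunctor.comp x (FibCat.toSelf 𝒳))) :=
    fp_congr_left (toSelfIso _ _) _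
  have e2 : EquivOver (FibCat.fp (FibCat.toSelf (FibCat.overCat V))
        (BasedFunctor.comp x (FibCat.toSelf 𝒳)))
      (FibCat.fp (FibCat.toSelf (FibCat.overCat V)) (FibCat.toSelf (FibCat.overCat U))) :=
    fp_congr_right _ (toSelfIso _ _)
  have e3 : EquivOver (FibCat.overCat (V ⨯ U))
      (FibCat.fp (FibCat.toSelf (FibCat.overCat V)) (FibCat.toSelf (FibCat.overCat U))) :=
    ⟨prodSlice V U, prodSlice_isEquivOver V U⟩
  obtain ⟨E, hE⟩ := e3.trans (e2.symm.trans e1.symm)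
  have h1 : AlgSt.IsQuasiCompact
      (FibCat.fp (BasedFunctor.comp v h) (BasedFunctor.comp x (FibCat.toSelf 𝒳))) :=
    (isQuasiCompact_iff_of_isEquivOver E hE).1 (isQuasiCompact_overCat (V ⨯ U))
  haveI : FibCat.IsFibGrpd (FibCat.fp (BasedFunctor.comp v h)
      (BasedFunctor.comp x (FibCat.toSelf 𝒳))).p := fp_isFibGrpd _ _
  haveI : FibCat.IsFibGrpd (FibCat.fp (BasedFunctor.comp v h) (FibCat.toSelf 𝒳)).p :=
    fp_isFibGrpd _ _
  have key : ∀ (Q : MorphismProperty (AlgSp.Sp S)), AtlasClass Q → AlgSt.RepByAlgSpWith Q v →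
      AlgSt.RepByAlgSpWith Q x → AlgSt.RepByAlgSpWith Q (BasedFunctor.comp
        (fpMapRight (BasedFunctor.comp v h) (FibCat.toSelf 𝒳) x)
        (fpMapLeft v h (FibCat.toSelf 𝒳))) := by
    intro Q hQ hvQ hxQ
    exact repByAlgSpWith_comp Q hQ.isoInv hQ.atlasLocal hQ.comp _ _
      (repByAlgSpWith_fpMapRight Q _ _ x hxQ) (repByAlgSpWith_fpMapLeft Q v h _ hvQ)
  exact isQuasiCompact_of_smooth_surjective _ (key _ atlasClass_locP_smooth hv hx)
    (key _ atlasClass_isSurjectiveMor hvs hxs) h1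

/-- = S12987. -/
theorem isQuasiCompactMor_of_isQuasiCompact [QuasiSeparatedSpace ↥S]
    (h𝒳 : AlgSt.IsAlgStack Scheme.fppfPrecoverage 𝒳)
    (h𝒴 : AlgSt.IsAlgStack Scheme.fppfPrecoverage 𝒴) (f : 𝒳 ⥤ᵇ 𝒴)
    (hqc : AlgSt.IsQuasiCompact 𝒳) (hqs : AlgSt.IsQuasiSeparatedOver 𝒴) :
    AlgSt.IsQuasiCompactMor Scheme.fppfPrecoverage f := by
  haveI : FibCat.IsFibGrpd 𝒳.p := h𝒳.isStack.1
  refine isQuasiCompactMor_of_comp h𝒳 h𝒴 isAlgStack_selfOver f (FibCat.toSelf 𝒴) ?_ hqs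
  exact isQuasiCompactMor_congr _ (toSelfIso _ _) (isQuasiCompactMor_toSelf _ hqc)

end OverS

end Groth.Agent.Lib.AlgStQC
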