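import Groth.Agent.Lib.AlgStDescent
import Groth.Agent.Lib.AlgStQC

/-!
# Descent of `RepByAlgSpWith P` along a morphism through which scheme points lift fppf locally
(helper64)

* `exists_fppf_family_of_mem_J` : a covering sieve of the big fppf site over `S` contains a small
  jointly surjective family of flat, locally finitely presented morphisms.
* `isFppfCover_yon_map` : such a family is an fppf covering of `h_U` in the sense of `AlgSp.IsFppfCover`.
* `repByAlgSpWith_of_fpFst_of_locLift` (= S12781).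
-/

set_option autoImplicit false
set_option linter.style.haveILetI false
set_option backward.isDefEq.respectTransparency false
set_option backward.isDefEq.respectTransparency.types false

namespace Groth.Agent.Lib.AlgStLocLift

open CategoryTheory Functor Opposite Limits AlgebraicGeometry Groth.Agent.Lib.FibGrpd
  Groth.Agent.Lib.FpEquiv Groth.Agent.Lib.EquivOver Groth.Agent.Lib.AlgStFp
  Groth.Agent.Lib.AlgStRep Groth.Agent.Lib.AlgStSpTest Groth.Agent.Lib.AlgStEquiv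
  Groth.Agent.Lib.AlgStAtlas Groth.Agent.Lib.AlgSpLocP

universe u

variable {S : Scheme.{u}}

/-- A covering sieve of the big fppf site contains a small fppf covering family. -/
theorem exists_fppf_family_of_mem_J {U : Over S} (R : Sieve U) (hR : R ∈ AlgSp.J S U) :
    ∃ (ι : Type u) (V : ι → Over S) (h : ∀ i, V i ⟶ U), (∀ i, R.arrows (h i)) ∧
      (∀ i, Flat (h i).left) ∧ (∀ i, LocallyOfFinitePresentation (h i).left) ∧
        ∀ x : ↥U.left, ∃ i, x ∈ Set.range (h i).left := by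
  rw [GrothendieckTopology.mem_over_iff] at hR
  haveI : MorphismProperty.ContainsIdentities
      (@LocallyOfFinitePresentation : MorphismProperty Scheme.{u}) :=
    ⟨fun X => (inferInstance : LocallyOfFinitePresentation (𝟙 X))⟩
  haveI : MorphismProperty.IsMultiplicative
      (@LocallyOfFinitePresentation : MorphismProperty Scheme.{u}) := {}
  haveI : MorphismProperty.IsMultiplicative
      (@Flat ⊓ @LocallyOfFinitePresentation : MorphismProperty Scheme.{u}) :=
    MorphismProperty.IsMultiplicative.inf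
  have hR' : Sieve.overEquiv U R ∈
      Scheme.grothendieckTopology (@Flat ⊓ @LocallyOfFinitePresentation) U.left := hR
  obtain ⟨𝒰, h𝒰⟩ := Scheme.mem_grothendieckTopology_iff.1 hR'
  refine ⟨𝒰.I₀, fun i => Over.mk (𝒰.f i ≫ U.hom), fun i => Over.homMk (𝒰.f i) rfl,
    fun i => (Sieve.overEquiv_iff R (𝒰.f i)).1 (h𝒰 _ _ (Presieve.ofArrows.mk i)), fun i => (𝒰.map_prop i).1,
    fun i => (𝒰.map_prop i).2, fun x => ?_⟩
  obtain ⟨i, y, hy⟩ := 𝒰.exists_eq x
  exact ⟨i, y, hy⟩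

/-- A jointly surjective family of flat, locally finitely presented morphisms of schemes over `S`
gives an fppf covering of `h_U`. -/
theorem isFppfCover_yon_map {U : Over S} {ι : Type u} (V : ι → Over S) (h : ∀ i, V i ⟶ U)
    (hfl : ∀ i, Flat (h i).left) (hfp : ∀ i, LocallyOfFinitePresentation (h i).left)
    (hs : ∀ x : ↥U.left, ∃ i, x ∈ Set.range (h i).left) :
    AlgSp.IsFppfCover (fun i => (AlgSp.yon S).obj (V i)) (fun i => (AlgSp.yon S).map (h i)) := by
  have hrep : ∀ (i : ι) ⦃T : Over S⦄ (c : (AlgSp.yon S).obj T ⟶ (AlgSp.yon S).obj (V i)),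
      AlgSp.Representable c := fun i T c => (AlgSp.IsAlgSpace.yon_obj (V i)).representable_from_yon c
  refine ⟨fun i => ⟨?_, ?_⟩, fun x => ?_⟩
  · exact Groth.Agent.Lib.AlgSpBasic.locP_of_repWith @Flat etLocalClass_flat.pre (hrep i)
      ((AlgSp.repWith_yon_map_iff @Flat (h i)).2 (hfl i))
  · exact Groth.Agent.Lib.AlgSpBasic.locP_of_repWith @LocallyOfFinitePresentation
      etLocalClass_lfp.pre (hrep i)
      ((AlgSp.repWith_yon_map_iff @LocallyOfFinitePresentation (h i)).2 (hfp i))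
  · obtain ⟨u, rfl⟩ := (AlgSp.Points.schemeHomeo U).surjective x
    obtain ⟨i, v, hv⟩ := hs u
    exact ⟨i, AlgSp.Points.schemeHomeo (V i) v, by rw [AlgSp.Points.map_yon_map_apply, hv]⟩

section Main

variable {𝒳 𝒴 𝒵 : AlgSt.Cat S}

/-- `overMap h ⋙ y` through the categories of the sheaves `h_V`, `h_U`. -/
def overMapIso {U V : Over S} (h : V ⟶ U) (y : FibCat.overCat U ⥤ᵇ 𝒴) :
    BasedFunctor.comp (AlgSt.overMap h) y ≅
      BasedFunctor.comp (BasedFunctor.comp (AlgSt.ofOverCat V)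
        (AlgSt.ofSpMap ((AlgSp.yon S).map h))) (BasedFunctor.comp (AlgSt.toOverCat U) y) :=
  Iso.refl _

/-- = S12781. -/
theorem repByAlgSpWith_of_fpFst_of_locLift [FibCat.IsFibGrpd 𝒳.p] [FibCat.IsFibGrpd 𝒴.p]
    (P : MorphismProperty (AlgSp.Sp S))
    (hPb : ∀ ⦃X₁ Y₁ X₂ Y₂ : AlgSp.Sp S⦄, AlgSp.IsAlgSpace X₁ → AlgSp.IsAlgSpace Y₁ →
      AlgSp.IsAlgSpace X₂ → AlgSp.IsAlgSpace Y₂ → ∀ (a : X₁ ⟶ Y₁) (b : Y₂ ⟶ Y₁) (a' : X₂ ⟶ Y₂)
      (b' : X₂ ⟶ X₁), IsPullback b' a' a b → P a → P a')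
    (hP : AlgSp.IsLocalOnBase AlgSp.IsFppfCover P)
    (f : 𝒳 ⥤ᵇ 𝒴) (hf : AlgSt.RepByAlgSp1 f) (g : 𝒵 ⥤ᵇ 𝒴)
    (hg : ∀ (U : Over S) (y : FibCat.overCat U ⥤ᵇ 𝒴), ∃ R ∈ (AlgSp.J S) U,
      ∀ ⦃V : Over S⦄ (h : V ⟶ U), R.arrows h →
        ∃ z : FibCat.overCat V ⥤ᵇ 𝒵,
          Nonempty (BasedFunctor.comp z g ≅ BasedFunctor.comp (AlgSt.overMap h) y))
    (h' : AlgSt.RepByAlgSpWith P (FibCat.fpFst g f)) : AlgSt.RepByAlgSpWith P f := by
  have hPi : IsoInv P := isoInv_of_baseChange P hPb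
  intro U y
  obtain ⟨V₀, a, e, he, ⟨γ⟩, -⟩ := exists_rep_over_space ⊤ Groth.Agent.Lib.AlgStCancel.isoInv_top
    Groth.Agent.Lib.AlgStQC.atlasLocal_top f ((repByAlgSp1_iff_top f).1 hf)
    ⟨(AlgSp.yon S).obj U, AlgSp.IsAlgSpace.yon_obj U⟩ (BasedFunctor.comp (AlgSt.toOverCat U) y)
  refine Groth.Agent.Lib.AlgStDescent.repData_of_rep_over_yon P f y a.hom e he γ ?_
  obtain ⟨R, hR, hz⟩ := hg U y
  obtain ⟨ι, V, h, hRh, hfl, hfp, hs⟩ := exists_fppf_family_of_mem_J R hR
  have hcov := isFppfCover_yon_map V h hfl hfp hs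
  have hXi : ∀ i, AlgSp.IsAlgSpace (pullback ((AlgSp.yon S).map (h i)) a.hom) := fun i =>
    Groth.Agent.Lib.AlgSpFibre.isAlgSpace_of_isPullback (AlgSp.IsAlgSpace.yon_obj U).diag
      (AlgSp.IsAlgSpace.yon_obj (V i)) V₀.property (IsPullback.of_hasPullback _ _)
  refine (hP (fun i => (AlgSp.yon S).obj (V i)) (fun i => (AlgSp.yon S).map (h i))
    (AlgSp.IsAlgSpace.yon_obj U) (fun i => AlgSp.IsAlgSpace.yon_obj (V i)) hcov a.hom V₀.property
    (fun i => pullback ((AlgSp.yon S).map (h i)) a.hom) (fun i => pullback.fst _ _)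
    (fun i => pullback.snd _ _) hXi (fun i => (IsPullback.of_hasPullback _ _).flip)).2 (fun i => ?_)
  obtain ⟨z, ⟨ζ⟩⟩ := hz (h i) (hRh i)
  have h1 : RepData P (FibCat.fpFst z (FibCat.fpFst g f)) := h' (V i) z
  have h2 : RepData P (FibCat.fpFst (BasedFunctor.comp z g) f) :=
    repData_of_equiv (fpPasteLeft z g f) (fpPasteLeft_isEquivOver z g f) (Iso.refl _) h1
  have h3 : RepData P (FibCat.fpFst (BasedFunctor.comp (BasedFunctor.comp (AlgSt.ofOverCat (V i))
      (AlgSt.ofSpMap ((AlgSp.yon S).map (h i)))) (BasedFunctor.comp (AlgSt.toOverCat U) y)) f) :=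
    (Groth.Agent.Lib.AlgStDiag2.repData_congr P f (ζ ≪≫ overMapIso (h i) y)).1 h2
  have h4 := repData_fst_of_repData P f (BasedFunctor.comp (AlgSt.toOverCat U) y) e he a.hom γ
    ((AlgSp.yon S).map (h i)) (IsPullback.of_hasPullback _ _) h3
  have h5 := prop_spMapOfOver_of_repData P hPi (hXi i) _ h4
  rwa [spMapOfOver_ofSpMap_toOverCat] at h5

end Main

end Groth.Agent.Lib.AlgStLocLift
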