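import Groth.Agent.Lib.FpEquiv

/-!
# Base change maps between 2-fibre products (helper64)

For `h : ℋ ⟶ 𝒵`, `g : 𝒴 ⟶ 𝒵`, `b : ℬ ⟶ 𝒴`:
* `fpMapRight h g b : fp h (b ⋙ g) ⟶ fp h g`, the base change of `b` along `fpSnd h g`
  (`fpMapRightIso` : `fpFst (fpSnd h g) b ≅ fpPasteRight h g b ⋙ fpMapRight h g b`).
For `a : 𝒜 ⟶ 𝒳`, `f : 𝒳 ⟶ 𝒵`, `g : 𝒴 ⟶ 𝒵`:
* `fpMapLeft a f g : fp (a ⋙ f) g ⟶ fp f g`, the base change of `a` along `fpFst f g`
  (`fpMapLeftIso` : `fpSnd a (fpFst f g) ≅ fpPasteLeft a f g ⋙ fpMapLeft a f g`).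
-/

set_option autoImplicit false
set_option linter.style.haveILetI false
set_option backward.isDefEq.respectTransparency false
set_option backward.isDefEq.respectTransparency.types false

namespace Groth.Agent.Lib.FpBaseChange

open CategoryTheory Functor Groth.Agent.Lib.FibGrpd Groth.Agent.Lib.FpEquiv

universe v₅ u₅ v₄ u₄ v₃ u₃ v₂ u₂ v u

variable {C : Type u} [Category.{v} C]

section Right

variable {ℋ : BasedCategory.{v₂, u₂} C} {𝒵 : BasedCategory.{v₃, u₃} C}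
  {𝒴 : BasedCategory.{v₄, u₄} C} {ℬ : BasedCategory.{v₅, u₅} C}
  (h : ℋ ⥤ᵇ 𝒵) (g : 𝒴 ⥤ᵇ 𝒵) (b : ℬ ⥤ᵇ 𝒴)

/-- `ℋ ×_𝒵 ℬ ⟶ ℋ ×_𝒵 𝒴`, `(t, s, φ) ↦ (t, b s, φ)`. -/
def fpMapRight : FibCat.fp h (BasedFunctor.comp b g) ⥤ᵇ FibCat.fp h g :=
  fpMap (F := h) (G := g) (F' := h) (G' := BasedFunctor.comp b g) (BasedFunctor.id ℋ) b
    (BasedFunctor.id 𝒵) (Iso.refl _) (Iso.refl _)

@[simp] theorem fpMapRight_obj_fst (x : (FibCat.fp h (BasedFunctor.comp b g)).obj) :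
    ((fpMapRight h g b).obj x).obj.fst = x.obj.fst := rfl

@[simp] theorem fpMapRight_obj_snd (x : (FibCat.fp h (BasedFunctor.comp b g)).obj) :
    ((fpMapRight h g b).obj x).obj.snd = b.obj x.obj.snd := rfl

theorem fpMapRight_obj_iso_hom (x : (FibCat.fp h (BasedFunctor.comp b g)).obj) :
    ((fpMapRight h g b).obj x).obj.iso.hom = x.obj.iso.hom := by
  have := fpMap_obj_iso_hom (F := h) (G := g) (F' := h) (G' := BasedFunctor.comp b g)
    (BasedFunctor.id ℋ) b (BasedFunctor.id 𝒵) (Iso.refl _) (Iso.refl _) x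
  refine this.trans ?_
  simp only [BasedFunctor.comp_id, appIso, mapIso_refl, Iso.app_inv, Iso.refl_inv, NatTrans.id_app,
    Iso.app_hom, Iso.refl_hom]
  exact (Category.id_comp _).trans (Category.comp_id _)

@[simp] theorem fpMapRight_map_fst {x y : (FibCat.fp h (BasedFunctor.comp b g)).obj} (m : x ⟶ y) :
    ((fpMapRight h g b).map m).hom.fst = m.hom.fst := rfl

@[simp] theorem fpMapRight_map_snd {x y : (FibCat.fp h (BasedFunctor.comp b g)).obj} (m : x ⟶ y) :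
    ((fpMapRight h g b).map m).hom.snd = b.map m.hom.snd := rfl

/-- The component of `fpMapRightIso`. -/
def fpMapRightObjIso (w : (FibCat.fp (FibCat.fpSnd h g) b).obj) :
    (FibCat.fpFst (FibCat.fpSnd h g) b).obj w ≅
      (fpMapRight h g b).obj ((fpPasteRight h g b).obj w) :=
  fpIsoMk (Iso.refl _) w.obj.iso (by
    rw [fpMapRight_obj_iso_hom, fpPasteRight_obj_iso_hom]
    have e1 : h.map (Iso.refl ((FibCat.fpFst (FibCat.fpSnd h g) b).obj w).obj.fst).hom =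
        𝟙 _ := h.toFunctor.map_id _
    rw [e1, Category.id_comp]
    rfl)

/-- `fpMapRight h g b` is the base change of `b` along `fpSnd h g`. -/
def fpMapRightIso : FibCat.fpFst (FibCat.fpSnd h g) b ≅
    BasedFunctor.comp (fpPasteRight h g b) (fpMapRight h g b) :=
  BasedNatIso.mkNatIso
    (NatIso.ofComponents (fun w => fpMapRightObjIso h g b w) (fun {w w'} m => by
      refine fp_hom_ext ?_ ?_
      · show m.hom.fst.hom.fst ≫ 𝟙 _ = 𝟙 _ ≫ m.hom.fst.hom.fst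
        rw [Category.comp_id, Category.id_comp]
      · show m.hom.fst.hom.snd ≫ w'.obj.iso.hom = w.obj.iso.hom ≫ b.map m.hom.snd
        exact m.hom.w))
    (fun w => by
      show (FibCat.fp h g).p.IsHomLift (𝟙 _) (fpMapRightObjIso h g b w).hom
      rw [fp_isHomLift_iff]
      exact IsHomLift.id rfl)

end Right

section Left

variable {𝒜 : BasedCategory.{v₂, u₂} C} {𝒳 : BasedCategory.{v₃, u₃} C}
  {𝒵 : BasedCategory.{v₄, u₄} C} {𝒴 : BasedCategory.{v₅, u₅} C}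
  (a : 𝒜 ⥤ᵇ 𝒳) (f : 𝒳 ⥤ᵇ 𝒵) (g : 𝒴 ⥤ᵇ 𝒵)

/-- `𝒜 ×_𝒵 𝒴 ⟶ 𝒳 ×_𝒵 𝒴`, `(t, y, φ) ↦ (a t, y, φ)`. -/
def fpMapLeft : FibCat.fp (BasedFunctor.comp a f) g ⥤ᵇ FibCat.fp f g :=
  fpMap (F := f) (G := g) (F' := BasedFunctor.comp a f) (G' := g) a (BasedFunctor.id 𝒴)
    (BasedFunctor.id 𝒵) (Iso.refl _) (Iso.refl _)

@[simp] theorem fpMapLeft_obj_fst (x : (FibCat.fp (BasedFunctor.comp a f) g).obj) :
    ((fpMapLeft a f g).obj x).obj.fst = a.obj x.obj.fst := rfl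

@[simp] theorem fpMapLeft_obj_snd (x : (FibCat.fp (BasedFunctor.comp a f) g).obj) :
    ((fpMapLeft a f g).obj x).obj.snd = x.obj.snd := rfl

theorem fpMapLeft_obj_iso_hom (x : (FibCat.fp (BasedFunctor.comp a f) g).obj) :
    ((fpMapLeft a f g).obj x).obj.iso.hom = x.obj.iso.hom := by
  have := fpMap_obj_iso_hom (F := f) (G := g) (F' := BasedFunctor.comp a f) (G' := g) a
    (BasedFunctor.id 𝒴) (BasedFunctor.id 𝒵) (Iso.refl _) (Iso.refl _) x
  refine this.trans ?_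
  simp only [BasedFunctor.comp_id, appIso, mapIso_refl, Iso.app_inv, Iso.refl_inv, NatTrans.id_app,
    Iso.app_hom, Iso.refl_hom]
  exact (Category.id_comp _).trans (Category.comp_id _)

@[simp] theorem fpMapLeft_map_fst {x y : (FibCat.fp (BasedFunctor.comp a f) g).obj} (m : x ⟶ y) :
    ((fpMapLeft a f g).map m).hom.fst = a.map m.hom.fst := rfl

@[simp] theorem fpMapLeft_map_snd {x y : (FibCat.fp (BasedFunctor.comp a f) g).obj} (m : x ⟶ y) :
    ((fpMapLeft a f g).map m).hom.snd = m.hom.snd := rfl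

/-- The component of `fpMapLeftIso`. -/
def fpMapLeftObjIso (w : (FibCat.fp a (FibCat.fpFst f g)).obj) :
    (FibCat.fpSnd a (FibCat.fpFst f g)).obj w ≅
      (fpMapLeft a f g).obj ((fpPasteLeft a f g).obj w) :=
  fpIsoMk w.obj.iso.symm (Iso.refl _) (by
    rw [fpMapLeft_obj_iso_hom, fpPasteLeft_obj_iso_hom]
    have e1 : g.map (Iso.refl ((FibCat.fpSnd a (FibCat.fpFst f g)).obj w).obj.snd).hom =
        𝟙 _ := g.toFunctor.map_id _
    rw [e1, Category.comp_id, ← Category.assoc, ← f.map_comp]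
    have e2 : w.obj.iso.symm.hom ≫ w.obj.iso.hom = 𝟙 _ := w.obj.iso.inv_hom_id
    rw [e2]
    exact (congrArg (· ≫ w.obj.snd.obj.iso.hom) (f.toFunctor.map_id _)).trans
      (Category.id_comp _))

/-- `fpMapLeft a f g` is the base change of `a` along `fpFst f g`. -/
def fpMapLeftIso : FibCat.fpSnd a (FibCat.fpFst f g) ≅
    BasedFunctor.comp (fpPasteLeft a f g) (fpMapLeft a f g) :=
  BasedNatIso.mkNatIso
    (NatIso.ofComponents (fun w => fpMapLeftObjIso a f g w) (fun {w w'} m => by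
      refine fp_hom_ext ?_ ?_
      · show m.hom.snd.hom.fst ≫ w'.obj.iso.inv = w.obj.iso.inv ≫ a.map m.hom.fst
        have hw : a.map m.hom.fst ≫ w'.obj.iso.hom = w.obj.iso.hom ≫ m.hom.snd.hom.fst := m.hom.w
        rw [Iso.comp_inv_eq, Category.assoc, hw, Iso.inv_hom_id_assoc]
      · show m.hom.snd.hom.snd ≫ 𝟙 _ = 𝟙 _ ≫ m.hom.snd.hom.snd
        rw [Category.comp_id, Category.id_comp]))
    (fun w => by
      show (FibCat.fp f g).p.IsHomLift (𝟙 _) (fpMapLeftObjIso a f g w).hom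
      rw [fp_isHomLift_iff]
      show 𝒳.p.IsHomLift (𝟙 (𝒜.p.obj w.obj.fst)) w.obj.iso.inv
      haveI : 𝒳.p.IsHomLift (𝟙 (𝒜.p.obj w.obj.fst)) w.obj.iso.hom := w.property
      exact IsHomLift.lift_id_inv _ _ _)

end Left

end Groth.Agent.Lib.FpBaseChange
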