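import Groth.Agent.Lib.AlgStLocQ
import Groth.Agent.Lib.FpBaseChange

/-!
# Independence of the chart square for `LocQ` (helper64)
-/

set_option autoImplicit false
set_option linter.style.haveILetI false
set_option backward.isDefEq.respectTransparency false
set_option backward.isDefEq.respectTransparency.types false

namespace Groth.Agent.Lib.AlgStLocQ

open CategoryTheory Functor Opposite Limits AlgebraicGeometry Groth.Agent.Lib.FibGrpd
  Groth.Agent.Lib.FpEquiv Groth.Agent.Lib.EquivOver Groth.Agent.Lib.AlgStFp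
  Groth.Agent.Lib.AlgStRep Groth.Agent.Lib.AlgStSpTest Groth.Agent.Lib.AlgStEquiv
  Groth.Agent.Lib.AlgStAtlas Groth.Agent.Lib.AlgStRepStack Groth.Agent.Lib.AlgSpLocP
  Groth.Agent.Lib.AlgStSrcLocal Groth.Agent.Lib.AlgStSmoothLocal Groth.Agent.Lib.AlgStNoeth
  Groth.Agent.Lib.PshFp Groth.Agent.Lib.FpBaseChange

universe u

variable {S : Scheme.{u}}

section FpLiftEta

universe v₂ u₂ v₃ u₃ v₄ u₄ v₅ u₅ v₁ u₁

variable {C : Type u₁} [Category.{v₁} C] {𝒳 : BasedCategory.{v₂, u₂} C}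
  {𝒴 : BasedCategory.{v₃, u₃} C} {𝒮 : BasedCategory.{v₄, u₄} C} {𝒲 : BasedCategory.{v₅, u₅} C}
  (F : 𝒳 ⥤ᵇ 𝒮) (G : 𝒴 ⥤ᵇ 𝒮) (u : 𝒲 ⥤ᵇ FibCat.fp F G) (b : 𝒲 ⥤ᵇ 𝒴)
  (ib : BasedFunctor.comp u (FibCat.fpSnd F G) ≅ b)

/-- The 2-isomorphism attached to a functor into a 2-fibre product whose second component is
replaced by an isomorphic functor. -/
def fpLiftEtaIso : BasedFunctor.comp (BasedFunctor.comp u (FibCat.fpFst F G)) F ≅
    BasedFunctor.comp b G :=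
  whiskerLeftIso u (FibCat.fpIso F G) ≪≫ whiskerRightIso ib G

/-- Component of `fpLiftEta`. -/
def fpLiftEtaObjIso (w : 𝒲.obj) :
    u.obj w ≅ (FibCat.fpLift (BasedFunctor.comp u (FibCat.fpFst F G)) b
      (fpLiftEtaIso F G u b ib)).obj w :=
  fpIsoMk (Iso.refl _) (appIso ib w) (by
    show F.map (𝟙 _) ≫ ((u.obj w).obj.iso.hom ≫ G.map (appIso ib w).hom) =
      (u.obj w).obj.iso.hom ≫ G.map (appIso ib w).hom
    rw [F.map_id, Category.id_comp])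

/-- A functor into a 2-fibre product is the lift of its components (with the second one replaced
by an isomorphic functor). -/
def fpLiftEta : u ≅ FibCat.fpLift (BasedFunctor.comp u (FibCat.fpFst F G)) b
    (fpLiftEtaIso F G u b ib) :=
  BasedNatIso.mkNatIso
    (NatIso.ofComponents (fun w => fpLiftEtaObjIso F G u b ib w) (fun {w w'} m => by
      refine fp_hom_ext ?_ ?_
      · show (u.map m).hom.fst ≫ 𝟙 _ = 𝟙 _ ≫ (u.map m).hom.fst
        rw [Category.comp_id, Category.id_comp]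
      · exact appIso_naturality ib m))
    (fun w => by
      show (FibCat.fp F G).p.IsHomLift (𝟙 _) (fpLiftEtaObjIso F G u b ib w).hom
      rw [fp_isHomLift_iff]
      exact IsHomLift.id (u.w_obj w))

end FpLiftEta

section SpMapCalculus

/-- `spMapOfOver` of a composite with `overMap h`. -/
theorem spMapOfOver_comp_overMap {F : AlgSp.Sp S} {U V : Over S}
    (Ψ : AlgSt.ofSp F ⥤ᵇ FibCat.overCat U) (h : U ⟶ V) :
    AlgSt.spMapOfOver (BasedFunctor.comp Ψ (AlgSt.overMap h)) =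
      AlgSt.spMapOfOver Ψ ≫ (AlgSp.yon S).map h := by
  apply ObjectProperty.hom_ext
  ext T x
  induction T using Opposite.rec with
  | op T =>
    have h1 := AlgSt.spMapOfOver_app (BasedFunctor.comp Ψ (AlgSt.overMap h)) T x
    refine h1.trans ?_
    apply ULift.ext
    simp [AlgSt.secHom, AlgSt.overMap]
    rfl

end SpMapCalculus

section PullbackRep

variable {𝒬 : AlgSt.Cat S}

/-- The 2-fibre product `(Sch/U) ×_{(Sch/V)} 𝒬`, for `𝒬` represented by an algebraic space `B`, is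
represented by the fibre product sheaf `h_U ×_{h_V} B`; in terms of `RepData`. -/
theorem repData_fpSnd_comp_of_pullback (P : MorphismProperty (AlgSp.Sp S)) {B : AlgSp.Space S}
    (eB : AlgSt.ofSp B.obj ⥤ᵇ 𝒬) (heB : FibCat.IsEquivOver eB) {U V V' : Over S} (h : U ⟶ V)
    (q₁ : 𝒬 ⥤ᵇ FibCat.overCat V) (q₂ : 𝒬 ⥤ᵇ FibCat.overCat V')
    (hP : P (pullback.snd ((AlgSp.yon S).map h) (AlgSt.spMapOfOver (BasedFunctor.comp eB q₁)) ≫
      AlgSt.spMapOfOver (BasedFunctor.comp eB q₂))) :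
    RepData P (BasedFunctor.comp (FibCat.fpSnd (AlgSt.overMap h) q₁) q₂) := by
  let b₁ : B.obj ⟶ (AlgSp.yon S).obj V := AlgSt.spMapOfOver (BasedFunctor.comp eB q₁)
  have sq : IsPullback (pullback.fst ((AlgSp.yon S).map h) b₁) (pullback.snd ((AlgSp.yon S).map h) b₁)
      ((AlgSp.yon S).map h) b₁ := IsPullback.of_hasPullback _ _
  have hC₀ : AlgSp.IsAlgSpace (pullback ((AlgSp.yon S).map h) b₁) :=
    Groth.Agent.Lib.AlgSpFibre.isAlgSpace_of_isPullback (AlgSp.IsAlgSpace.yon_obj V).diag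
      (AlgSp.IsAlgSpace.yon_obj U) B.property sq
  have sq' : IsPullback (pullback.fst ((AlgSp.yon S).map h) b₁).hom
      (pullback.snd ((AlgSp.yon S).map h) b₁).hom ((AlgSp.yon S).map h).hom b₁.hom :=
    sq.map (sheafToPresheaf (AlgSp.J S) (Type (u + 1)))
  obtain ⟨γ⟩ := exists_iso_ofSpMap_toOverCat (BasedFunctor.comp eB q₁)
  obtain ⟨hc1, hc2, -⟩ := ff_ess_of_isEquivOver (AlgSt.toOverCat V) (toOverCat_isEquivOver V)
  haveI := hc1
  haveI := hc2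
  let α₁ : BasedFunctor.comp (AlgSt.ofSpMap ((AlgSp.yon S).map h)) (AlgSt.toOverCat V) ≅
      BasedFunctor.comp (AlgSt.toOverCat U) (AlgSt.overMap h) := Iso.refl _
  let M : FibCat.fp (AlgSt.ofSpMap ((AlgSp.yon S).map h)) (AlgSt.ofSpMap b₁) ⥤ᵇ
      FibCat.fp (AlgSt.overMap h) q₁ :=
    fpMap (AlgSt.toOverCat U) eB (AlgSt.toOverCat V) α₁ γ.symm
  have hM : FibCat.IsEquivOver M :=
    fpMap_isEquivOver _ _ _ _ _ (toOverCat_isEquivOver U) heB
  refine ⟨⟨pullback ((AlgSp.yon S).map h) b₁, hC₀⟩, BasedFunctor.comp (pshFpFunctor sq'.w) M,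
    isEquivOver_comp (pshFpFunctor_isEquivOver_of_isPullback sq') hM, ?_⟩
  have key : BasedFunctor.comp (BasedFunctor.comp (pshFpFunctor sq'.w) M)
      (BasedFunctor.comp (FibCat.fpSnd (AlgSt.overMap h) q₁) q₂) =
      BasedFunctor.comp (AlgSt.ofSpMap (pullback.snd ((AlgSp.yon S).map h) b₁))
        (BasedFunctor.comp eB q₂) := rfl
  rw [key, spMapOfOver_ofSpMap_comp]
  exact hP

end PullbackRep

section SmoothLocalST

variable {P : MorphismProperty (AlgSp.Sp S)}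

theorem postcomp_smooth (hP : AlgSp.IsSmoothLocalST P) {X Y Z : AlgSp.Sp S}
    (hX : AlgSp.IsAlgSpace X) (hY : AlgSp.IsAlgSpace Y) (hZ : AlgSp.IsAlgSpace Z) (f : X ⟶ Y)
    (g : Y ⟶ Z) (hf : P f) (hg : AlgSp.LocP @Smooth g) : P (f ≫ g) := by
  refine (hP.locality hX hZ (f ≫ g)).2 fun x => ?_
  exact ⟨X, Y, 𝟙 X, g, f, x, hX, hY, Groth.Agent.Lib.H69AlgSpLocST.locP_smooth_id hX, hg,
    by simp, AlgSp.Points.map_id x, hf⟩

theorem of_smooth_cover_source (hP : AlgSp.IsSmoothLocalST P) {A X Y : AlgSp.Sp S}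
    (hA : AlgSp.IsAlgSpace A) (hX : AlgSp.IsAlgSpace X) (hY : AlgSp.IsAlgSpace Y) (q : A ⟶ X)
    (hq : AlgSp.LocP @Smooth q) (hqs : AlgSp.IsSurjectiveMor q) (f : X ⟶ Y) (h : P (q ≫ f)) :
    P f := by
  refine (hP.locality hX hY f).2 fun x => ?_
  obtain ⟨v, hv⟩ := hqs x
  exact ⟨A, Y, q, 𝟙 Y, q ≫ f, v, hA, hY, hq, Groth.Agent.Lib.H69AlgSpLocST.locP_smooth_id hY,
    by simp, hv, h⟩

end SmoothLocalST

section Step1

variable {𝒳 𝒴 : AlgSt.Cat S} {P : MorphismProperty (AlgSp.Sp S)}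

/-- **Base change of a chart square.** Given a chart square `(U, V, x, y, h, α)` of `f` with `h`
having `P` and a smooth `y' : (Sch/V') ⟶ 𝒴`, the algebraic space `U ×_𝒴 V'` maps to `V'` with `P`. -/
theorem repData_fpSnd_of_square (hP : AlgSp.IsSmoothLocalST P) (f : 𝒳 ⥤ᵇ 𝒴) {U V V' : Over S}
    (x : FibCat.overCat U ⥤ᵇ 𝒳) (y : FibCat.overCat V ⥤ᵇ 𝒴) (h : U ⟶ V)
    (α : BasedFunctor.comp x f ≅ BasedFunctor.comp (AlgSt.overMap h) y)
    (hy : AlgSt.RepByAlgSpWith (AlgSp.LocP @Smooth) y) (hh : P ((AlgSp.yon S).map h))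
    (y' : FibCat.overCat V' ⥤ᵇ 𝒴) (hy' : AlgSt.RepByAlgSpWith (AlgSp.LocP @Smooth) y') :
    RepData P (FibCat.fpSnd (BasedFunctor.comp x f) y') := by
  -- the algebraic space `B = V ×_𝒴 V'`
  obtain ⟨B, eB, heB, hb₁⟩ := hy' V y
  have hb₂ : AlgSp.LocP @Smooth (AlgSt.spMapOfOver (BasedFunctor.comp eB (FibCat.fpSnd y y'))) := by
    have h1 : RepData (AlgSp.LocP @Smooth) (FibCat.fpSnd y y') :=
      repData_of_equiv' (Groth.Agent.Lib.AlgStRepC.fpSwap y y')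
        (Groth.Agent.Lib.AlgStRepC.fpSwap_isEquivOver y y')
        (Groth.Agent.Lib.AlgStRepC.fpSwapFstIso y y') (hy V' y')
    have h2 : RepData (AlgSp.LocP @Smooth) (BasedFunctor.comp eB (FibCat.fpSnd y y')) :=
      repData_of_equiv' eB heB (Iso.refl _) h1
    exact prop_spMapOfOver_of_repData _ (Groth.Agent.Lib.AlgStAtlas.isoInv_locP _) B.property _ h2
  let b₁ : B.obj ⟶ (AlgSp.yon S).obj V :=
    AlgSt.spMapOfOver (BasedFunctor.comp eB (FibCat.fpFst y y'))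
  have sq : IsPullback (pullback.fst ((AlgSp.yon S).map h) b₁) (pullback.snd ((AlgSp.yon S).map h) b₁)
      ((AlgSp.yon S).map h) b₁ := IsPullback.of_hasPullback _ _
  have hC₀ : AlgSp.IsAlgSpace (pullback ((AlgSp.yon S).map h) b₁) :=
    Groth.Agent.Lib.AlgSpFibre.isAlgSpace_of_isPullback (AlgSp.IsAlgSpace.yon_obj V).diag
      (AlgSp.IsAlgSpace.yon_obj U) B.property sq
  have hP1 : P (pullback.snd ((AlgSp.yon S).map h) b₁) :=
    hP.baseChange (AlgSp.IsAlgSpace.yon_obj U) (AlgSp.IsAlgSpace.yon_obj V) hC₀ B.property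
      ((AlgSp.yon S).map h) b₁ _ _ sq hb₁ hh
  have hP2 : P (pullback.snd ((AlgSp.yon S).map h) b₁ ≫
      AlgSt.spMapOfOver (BasedFunctor.comp eB (FibCat.fpSnd y y'))) :=
    postcomp_smooth hP hC₀ B.property (AlgSp.IsAlgSpace.yon_obj V') _ _ hP1 hb₂
  -- (1) over `(Sch/U) ×_{(Sch/V)} (V ×_𝒴 V')`
  have r1 : RepData P (BasedFunctor.comp (FibCat.fpSnd (AlgSt.overMap h) (FibCat.fpFst y y'))
      (FibCat.fpSnd y y')) :=
    repData_fpSnd_comp_of_pullback P eB heB h (FibCat.fpFst y y') (FibCat.fpSnd y y') hP2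
  -- (2) pasting
  have r2 : RepData P (FibCat.fpSnd (BasedFunctor.comp (AlgSt.overMap h) y) y') :=
    repData_of_equiv (fpPasteLeft (AlgSt.overMap h) y y')
      (fpPasteLeft_isEquivOver (AlgSt.overMap h) y y') (Iso.refl _) r1
  -- (3) the 2-isomorphism `α`
  let α' : BasedFunctor.comp (BasedFunctor.comp x f) (BasedFunctor.id 𝒴) ≅
      BasedFunctor.comp (BasedFunctor.id _) (BasedFunctor.comp (AlgSt.overMap h) y) :=
    compIdIso _ ≪≫ α ≪≫ (idCompIso _).symm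
  let β' : BasedFunctor.comp y' (BasedFunctor.id 𝒴) ≅ BasedFunctor.comp (BasedFunctor.id _) y' :=
    compIdIso y' ≪≫ (idCompIso y').symm
  haveI : (BasedFunctor.id 𝒴).toFunctor.Full := id_full
  haveI : (BasedFunctor.id 𝒴).toFunctor.Faithful := id_faithful
  let γ' : BasedFunctor.comp
      (fpMap (BasedFunctor.id _) (BasedFunctor.id _) (BasedFunctor.id 𝒴) α' β')
      (FibCat.fpSnd (BasedFunctor.comp (AlgSt.overMap h) y) y') ≅
      FibCat.fpSnd (BasedFunctor.comp x f) y' :=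
    compIdIso (FibCat.fpSnd (BasedFunctor.comp x f) y')
  exact repData_of_equiv' (fpMap (BasedFunctor.id _) (BasedFunctor.id _) (BasedFunctor.id 𝒴) α' β')
    (fpMap_isEquivOver _ _ _ _ _ isEquivOver_id isEquivOver_id) γ' r2

end Step1

section Step2

variable {P : MorphismProperty (AlgSp.Sp S)}

/-- A scheme chart of `𝒲` over `(Sch/V')` with `P`, from a representing algebraic space of a smooth
surjective `ω : 𝒞 ⟶ 𝒲` whose map to `V'` has `P`. -/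
theorem exists_scheme_chart_of_repData (hP : AlgSp.IsSmoothLocalST P) {𝒞 𝒲 : AlgSt.Cat S}
    [FibCat.IsFibGrpd 𝒞.p] (ω : 𝒞 ⥤ᵇ 𝒲)
    (hω : AlgSt.RepByAlgSpWith (AlgSp.LocP @Smooth) ω)
    (hωs : AlgSt.RepByAlgSpWith AlgSp.IsSurjectiveMor ω) {V' : Over S}
    (π : 𝒲 ⥤ᵇ FibCat.overCat V') (hR : RepData P (BasedFunctor.comp ω π)) :
    ∃ (W : Over S) (u : FibCat.overCat W ⥤ᵇ 𝒲) (h₁ : W ⟶ V')
      (_ : BasedFunctor.comp u π ≅ AlgSt.overMap h₁),
      AlgSt.RepByAlgSpWith (AlgSp.LocP @Smooth) u ∧ AlgSt.RepByAlgSpWith AlgSp.IsSurjectiveMor u ∧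
        P ((AlgSp.yon S).map h₁) := by
  obtain ⟨C, E, hE, hPC⟩ := hR
  obtain ⟨W, cW, hce, hcs⟩ := C.property.atlas
  let s : C.obj ⟶ (AlgSp.yon S).obj V' :=
    AlgSt.spMapOfOver (BasedFunctor.comp E (BasedFunctor.comp ω π))
  let h₁ : W ⟶ V' := (AlgSp.yon S).preimage (cW ≫ s)
  have hh₁ : (AlgSp.yon S).map h₁ = cW ≫ s := Functor.map_preimage _ _
  let pre : FibCat.overCat W ⥤ᵇ AlgSt.ofSp C.obj :=
    BasedFunctor.comp (AlgSt.ofOverCat W) (AlgSt.ofSpMap cW)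
  let u : FibCat.overCat W ⥤ᵇ 𝒲 := BasedFunctor.comp (BasedFunctor.comp pre E) ω
  have hu : AlgSt.RepByAlgSpWith (AlgSp.LocP @Smooth) u :=
    repByAlgSpWith_chart_comp _ atlasClass_locP_smooth C E hE cW hce hcs ω hω
  have hus : AlgSt.RepByAlgSpWith AlgSp.IsSurjectiveMor u :=
    repByAlgSpWith_chart_comp _ atlasClass_isSurjectiveMor C E hE cW hce hcs ω hωs
  obtain ⟨γ⟩ := exists_iso_ofSpMap_toOverCat (BasedFunctor.comp E (BasedFunctor.comp ω π))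
  have e1 : BasedFunctor.comp pre (BasedFunctor.comp (AlgSt.ofSpMap s) (AlgSt.toOverCat V')) =
      AlgSt.overMap h₁ := by
    show BasedFunctor.comp (AlgSt.ofOverCat W) (BasedFunctor.comp (AlgSt.ofSpMap (cW ≫ s))
      (AlgSt.toOverCat V')) = _
    rw [← hh₁]
    rfl
  let β : BasedFunctor.comp u π ≅ AlgSt.overMap h₁ :=
    whiskerLeftIso pre γ ≪≫ eqToIso e1
  refine ⟨W, u, h₁, β, hu, hus, ?_⟩
  rw [hh₁]
  exact hP.precomp (AlgSp.IsAlgSpace.yon_obj W) C.property (AlgSp.IsAlgSpace.yon_obj V') cW s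
    (atlasClass_locP_smooth.ofChart C.property cW hce hcs) hPC

/-- **Independence of the chart over a scheme base.** For `π : 𝒲 ⟶ (Sch/V')`, if a smooth
surjective scheme chart of `𝒲` maps to `V'` with `P`, so does every smooth scheme chart. -/
theorem prop_of_common_chart (hP : AlgSp.IsSmoothLocalST P) {𝒲 : AlgSt.Cat S} {V' : Over S}
    (π : 𝒲 ⥤ᵇ FibCat.overCat V') {U₁ U₂ : Over S} (u₁ : FibCat.overCat U₁ ⥤ᵇ 𝒲)
    (u₂ : FibCat.overCat U₂ ⥤ᵇ 𝒲) (h₁ : U₁ ⟶ V') (h₂ : U₂ ⟶ V')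
    (β₁ : BasedFunctor.comp u₁ π ≅ AlgSt.overMap h₁)
    (β₂ : BasedFunctor.comp u₂ π ≅ AlgSt.overMap h₂)
    (hu₁ : AlgSt.RepByAlgSpWith (AlgSp.LocP @Smooth) u₁)
    (hu₁s : AlgSt.RepByAlgSpWith AlgSp.IsSurjectiveMor u₁)
    (hu₂ : AlgSt.RepByAlgSpWith (AlgSp.LocP @Smooth) u₂)
    (hP₁ : P ((AlgSp.yon S).map h₁)) : P ((AlgSp.yon S).map h₂) := by
  obtain ⟨A, e, he, hq, hqs⟩ :=
    (repByAlgSpWith_and _ _ isoInv_isSurjectiveMor u₁ hu₁ hu₁s) U₂ u₂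
  have hq₁ : AlgSp.LocP @Smooth (AlgSt.spMapOfOver (BasedFunctor.comp e (FibCat.fpSnd u₂ u₁))) := by
    have h1 : RepData (AlgSp.LocP @Smooth) (FibCat.fpSnd u₂ u₁) :=
      repData_of_equiv' (Groth.Agent.Lib.AlgStRepC.fpSwap u₂ u₁)
        (Groth.Agent.Lib.AlgStRepC.fpSwap_isEquivOver u₂ u₁)
        (Groth.Agent.Lib.AlgStRepC.fpSwapFstIso u₂ u₁) (hu₂ U₁ u₁)
    have h2 : RepData (AlgSp.LocP @Smooth) (BasedFunctor.comp e (FibCat.fpSnd u₂ u₁)) :=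
      repData_of_equiv' e he (Iso.refl _) h1
    exact prop_spMapOfOver_of_repData _ (Groth.Agent.Lib.AlgStAtlas.isoInv_locP _) A.property _ h2
  have comm : AlgSt.spMapOfOver (BasedFunctor.comp e (FibCat.fpFst u₂ u₁)) ≫ (AlgSp.yon S).map h₂ =
      AlgSt.spMapOfOver (BasedFunctor.comp e (FibCat.fpSnd u₂ u₁)) ≫ (AlgSp.yon S).map h₁ := by
    rw [← spMapOfOver_comp_overMap, ← spMapOfOver_comp_overMap]
    let ι : BasedFunctor.comp (BasedFunctor.comp e (FibCat.fpFst u₂ u₁)) (AlgSt.overMap h₂) ≅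
        BasedFunctor.comp (BasedFunctor.comp e (FibCat.fpSnd u₂ u₁)) (AlgSt.overMap h₁) :=
      (whiskerLeftIso (BasedFunctor.comp e (FibCat.fpFst u₂ u₁)) β₂).symm ≪≫
        whiskerLeftIso e (whiskerRightIso (FibCat.fpIso u₂ u₁) π) ≪≫
        whiskerLeftIso (BasedFunctor.comp e (FibCat.fpSnd u₂ u₁)) β₁
    exact spMapOfOver_congr ι.hom
  have h3 : P (AlgSt.spMapOfOver (BasedFunctor.comp e (FibCat.fpSnd u₂ u₁)) ≫
      (AlgSp.yon S).map h₁) :=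
    hP.precomp A.property (AlgSp.IsAlgSpace.yon_obj U₁) (AlgSp.IsAlgSpace.yon_obj V') _ _ hq₁ hP₁
  rw [← comm] at h3
  exact of_smooth_cover_source hP A.property (AlgSp.IsAlgSpace.yon_obj U₂)
    (AlgSp.IsAlgSpace.yon_obj V') _ hq hqs _ h3

end Step2

section Core

variable {𝒳 𝒴 : AlgSt.Cat S} {P : MorphismProperty (AlgSp.Sp S)}

/-- **Stacks 06FM, main direction.** If `f` has `P` on one chart square, then `h'` has `P` in every
chart square `(U', V', x', y', h', α')` with `y'` smooth and `U' ⟶ 𝒳 ×_𝒴 V'` smooth. -/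
theorem prop_of_locQ_of_square [FibCat.IsFibGrpd 𝒳.p] [FibCat.IsFibGrpd 𝒴.p]
    (hP : AlgSp.IsSmoothLocalST P) (f : 𝒳 ⥤ᵇ 𝒴) (hf : AlgSt.LocQ P f) {U' V' : Over S}
    (x' : FibCat.overCat U' ⥤ᵇ 𝒳) (y' : FibCat.overCat V' ⥤ᵇ 𝒴) (h' : U' ⟶ V')
    (α' : BasedFunctor.comp x' f ≅ BasedFunctor.comp (AlgSt.overMap h') y')
    (hy' : AlgSt.RepByAlgSpWith (AlgSp.LocP @Smooth) y')
    (hu' : AlgSt.RepByAlgSpWith (AlgSp.LocP @Smooth) (FibCat.fpLift x' (AlgSt.overMap h') α')) :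
    P ((AlgSp.yon S).map h') := by
  obtain ⟨U, V, x, y, h, α, hx, hxs, hy, hh⟩ := hf
  have r : RepData P (FibCat.fpSnd (BasedFunctor.comp x f) y') :=
    repData_fpSnd_of_square hP f x y h α hy hh y' hy'
  haveI : FibCat.IsFibGrpd (FibCat.fp (BasedFunctor.comp x f) y').p := fp_isFibGrpd _ _
  obtain ⟨W, u₁, h₁, β₁, hu₁, hu₁s, hP₁⟩ := exists_scheme_chart_of_repData hP
    (fpMapLeft x f y') (repByAlgSpWith_fpMapLeft _ x f y' hx)
    (repByAlgSpWith_fpMapLeft _ x f y' hxs) (FibCat.fpSnd f y') r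
  exact prop_of_common_chart hP (FibCat.fpSnd f y') u₁ (FibCat.fpLift x' (AlgSt.overMap h') α')
    h₁ h' β₁ (Iso.refl _) hu₁ hu₁s hu' hP₁

/-- **Stacks 06FM, converse.** If `h` has `P` in every chart square with smooth charts and
`U ⟶ 𝒳 ×_𝒴 V` smooth, then `f` has `P` on some chart square (with `x` surjective). -/
theorem locQ_of_forall_square (h𝒳 : AlgSt.IsAlgStack Scheme.fppfPrecoverage 𝒳)
    (h𝒴 : AlgSt.IsAlgStack Scheme.fppfPrecoverage 𝒴) (f : 𝒳 ⥤ᵇ 𝒴)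
    (H : ∀ (U V : Over S) (x : FibCat.overCat U ⥤ᵇ 𝒳) (y : FibCat.overCat V ⥤ᵇ 𝒴) (h : U ⟶ V)
      (α : BasedFunctor.comp x f ≅ BasedFunctor.comp (AlgSt.overMap h) y),
      AlgSt.RepByAlgSpWith (AlgSp.LocP @Smooth) x → AlgSt.RepByAlgSpWith (AlgSp.LocP @Smooth) y →
      AlgSt.RepByAlgSpWith (AlgSp.LocP @Smooth) (FibCat.fpLift x (AlgSt.overMap h) α) →
      P ((AlgSp.yon S).map h)) : AlgSt.LocQ P f := by
  haveI : FibCat.IsFibGrpd 𝒳.p := h𝒳.isStack.1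
  haveI : FibCat.IsFibGrpd 𝒴.p := h𝒴.isStack.1
  obtain ⟨V, y, hy, hys⟩ := h𝒴.atlas
  have hV : AlgSt.IsAlgStack Scheme.fppfPrecoverage (FibCat.overCat V) :=
    (isDM_of_repByAlgSp (repByAlgSp_overCat V)).1
  have hfp : AlgSt.IsAlgStack Scheme.fppfPrecoverage (FibCat.fp f y) :=
    Groth.Agent.Lib.AlgStFpStack.isAlgStack_fp_of _ h𝒴.isStack h𝒴.diag h𝒳 hV f y
  haveI : FibCat.IsFibGrpd (FibCat.fp f y).p := hfp.isStack.1
  obtain ⟨U, u, hu, hus⟩ := hfp.atlas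
  let b : FibCat.overCat U ⥤ᵇ FibCat.overCat V := BasedFunctor.comp u (FibCat.fpSnd f y)
  let h : U ⟶ V := Groth.Agent.Lib.SliceFp.overYonedaMor b
  let ib : b ≅ AlgSt.overMap h := Groth.Agent.Lib.SliceFp.overYonedaIso b
  let x : FibCat.overCat U ⥤ᵇ 𝒳 := BasedFunctor.comp u (FibCat.fpFst f y)
  have hx : AlgSt.RepByAlgSpWith (AlgSp.LocP @Smooth) x :=
    repByAlgSpWith_comp _ atlasClass_locP_smooth.isoInv atlasClass_locP_smooth.atlasLocal
      atlasClass_locP_smooth.comp u (FibCat.fpFst f y) hu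
      (Groth.Agent.Lib.AlgStRep.repByAlgSpWith_fpFst _ y f hy)
  have hxs : AlgSt.RepByAlgSpWith AlgSp.IsSurjectiveMor x :=
    repByAlgSpWith_comp _ atlasClass_isSurjectiveMor.isoInv atlasClass_isSurjectiveMor.atlasLocal
      atlasClass_isSurjectiveMor.comp u (FibCat.fpFst f y) hus
      (Groth.Agent.Lib.AlgStRep.repByAlgSpWith_fpFst _ y f hys)
  have hL : AlgSt.RepByAlgSpWith (AlgSp.LocP @Smooth)
      (FibCat.fpLift x (AlgSt.overMap h) (fpLiftEtaIso f y u (AlgSt.overMap h) ib)) :=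
    (Groth.Agent.Lib.AlgStDiag3.repByAlgSpWith_congr _
      (fpLiftEta f y u (AlgSt.overMap h) ib).symm).1 hu
  exact ⟨U, V, x, y, h, fpLiftEtaIso f y u (AlgSt.overMap h) ib, hx, hxs, hy,
    H U V x y h _ hx hy hL⟩

/-- = S12990. -/
theorem locQ_iff_forall_square (hP : AlgSp.IsSmoothLocalST P)
    (h𝒳 : AlgSt.IsAlgStack Scheme.fppfPrecoverage 𝒳)
    (h𝒴 : AlgSt.IsAlgStack Scheme.fppfPrecoverage 𝒴) (f : 𝒳 ⥤ᵇ 𝒴) :
    AlgSt.LocQ P f ↔
      ∀ (U V : Over S) (x : FibCat.overCat U ⥤ᵇ 𝒳) (y : FibCat.overCat V ⥤ᵇ 𝒴) (h : U ⟶ V)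
        (α : BasedFunctor.comp x f ≅ BasedFunctor.comp (AlgSt.overMap h) y),
        AlgSt.RepByAlgSpWith (AlgSp.LocP @Smooth) x →
        AlgSt.RepByAlgSpWith (AlgSp.LocP @Smooth) y →
        AlgSt.RepByAlgSpWith (AlgSp.LocP @Smooth) (FibCat.fpLift x (AlgSt.overMap h) α) →
        P ((AlgSp.yon S).map h) := by
  haveI : FibCat.IsFibGrpd 𝒳.p := h𝒳.isStack.1
  haveI : FibCat.IsFibGrpd 𝒴.p := h𝒴.isStack.1
  exact ⟨fun hf U V x y h α _ hy hu => prop_of_locQ_of_square hP f hf x y h α hy hu,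
    locQ_of_forall_square h𝒳 h𝒴 f⟩

end Core

end Groth.Agent.Lib.AlgStLocQ
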