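import Groth.Agent.Lib.AlgStLocQ2

/-!
# `LocQ` versus representable morphisms, algebraic spaces, and space charts (helper64)

* `exists_square_of_chart` : the chart square attached to a representing algebraic space of
  `(Sch/V) ×_𝒴 𝒳` and an etale chart of it; its comparison `W ⟶ 𝒳 ×_𝒴 V` is smooth.
* `locQ_iff_repByAlgSpWith` (= S12993), `locQ_ofSpMap_iff` (= S12992),
  `locQ_iff_exists_space_square` (= S12991).
-/

set_option autoImplicit false
set_option linter.style.haveILetI false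
set_option backward.isDefEq.respectTransparency false
set_option backward.isDefEq.respectTransparency.types false

namespace Groth.Agent.Lib.AlgStLocQ

open CategoryTheory Functor Opposite Limits AlgebraicGeometry Groth.Agent.Lib.FibGrpd
  Groth.Agent.Lib.FpEquiv Groth.Agent.Lib.EquivOver Groth.Agent.Lib.AlgStFp
  Groth.Agent.Lib.AlgStRep Groth.Agent.Lib.AlgStSpTest Groth.Agent.Lib.AlgStEquiv
  Groth.Agent.Lib.AlgStAtlas Groth.Agent.Lib.AlgStRepStack Groth.Agent.Lib.AlgSpLocP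
  Groth.Agent.Lib.AlgStSrcLocal Groth.Agent.Lib.AlgStSmoothLocal Groth.Agent.Lib.AlgStNoeth
  Groth.Agent.Lib.PshFp Groth.Agent.Lib.FpBaseChange

universe u

variable {S : Scheme.{u}}

section Representable

variable {𝒳 𝒴 : AlgSt.Cat S} {P : MorphismProperty (AlgSp.Sp S)}

/-- The chart square attached to a representing algebraic space `F` of `(Sch/V) ×_𝒴 𝒳` and an etale
surjective chart `c : h_W ⟶ F`. -/
theorem exists_square_of_chart [FibCat.IsFibGrpd 𝒳.p] [FibCat.IsFibGrpd 𝒴.p] (f : 𝒳 ⥤ᵇ 𝒴)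
    {V : Over S} (y : FibCat.overCat V ⥤ᵇ 𝒴) (F : AlgSp.Space S)
    (e : AlgSt.ofSp F.obj ⥤ᵇ FibCat.fp y f) (he : FibCat.IsEquivOver e) {W : Over S}
    (c : (AlgSp.yon S).obj W ⟶ F.obj) (hce : AlgSp.RepWith @Etale c)
    (hcs : AlgSp.RepWith @Surjective c) :
    ∃ (x : FibCat.overCat W ⥤ᵇ 𝒳) (h : W ⟶ V)
      (α : BasedFunctor.comp x f ≅ BasedFunctor.comp (AlgSt.overMap h) y),
      (AlgSp.yon S).map h = c ≫ AlgSt.spMapOfOver (BasedFunctor.comp e (FibCat.fpFst y f)) ∧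
      AlgSt.RepByAlgSpWith (AlgSp.LocP @Smooth) (FibCat.fpLift x (AlgSt.overMap h) α) ∧
      (∀ Q : MorphismProperty (AlgSp.Sp S), AtlasClass Q → AlgSt.RepByAlgSpWith Q y →
        AlgSt.RepByAlgSpWith Q x) := by
  haveI : FibCat.IsFibGrpd (FibCat.fp y f).p := fp_isFibGrpd _ _
  let s : F.obj ⟶ (AlgSp.yon S).obj V := AlgSt.spMapOfOver (BasedFunctor.comp e (FibCat.fpFst y f))
  let h : W ⟶ V := (AlgSp.yon S).preimage (c ≫ s)
  have hh : (AlgSp.yon S).map h = c ≫ s := Functor.map_preimage _ _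
  let pre : FibCat.overCat W ⥤ᵇ AlgSt.ofSp F.obj :=
    BasedFunctor.comp (AlgSt.ofOverCat W) (AlgSt.ofSpMap c)
  let u : FibCat.overCat W ⥤ᵇ FibCat.fp f y :=
    BasedFunctor.comp (BasedFunctor.comp pre e) (Groth.Agent.Lib.AlgStRepC.fpSwap y f)
  have hu : AlgSt.RepByAlgSpWith (AlgSp.LocP @Smooth) u :=
    repByAlgSpWith_chart_comp _ atlasClass_locP_smooth F e he c hce hcs _
      (Groth.Agent.Lib.AlgStEquivRep.repByAlgSpWith_of_isEquivOver _
        (fun T => Groth.Agent.Lib.H69AlgSpLocST.locP_smooth_id (AlgSp.IsAlgSpace.yon_obj T)) _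
        (Groth.Agent.Lib.AlgStRepC.fpSwap_isEquivOver y f))
  obtain ⟨γ⟩ := exists_iso_ofSpMap_toOverCat (BasedFunctor.comp e (FibCat.fpFst y f))
  have e1 : BasedFunctor.comp pre (BasedFunctor.comp (AlgSt.ofSpMap s) (AlgSt.toOverCat V)) =
      AlgSt.overMap h := by
    show BasedFunctor.comp (AlgSt.ofOverCat W) (BasedFunctor.comp (AlgSt.ofSpMap (c ≫ s))
      (AlgSt.toOverCat V)) = _
    rw [← hh]
    rfl
  let ib : BasedFunctor.comp u (FibCat.fpSnd f y) ≅ AlgSt.overMap h :=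
    whiskerLeftIso pre γ ≪≫ eqToIso e1
  refine ⟨BasedFunctor.comp u (FibCat.fpFst f y), h, fpLiftEtaIso f y u (AlgSt.overMap h) ib, hh,
    ?_, ?_⟩
  · exact (Groth.Agent.Lib.AlgStDiag3.repByAlgSpWith_congr _
      (fpLiftEta f y u (AlgSt.overMap h) ib).symm).1 hu
  · intro Q hQ hy
    exact repByAlgSpWith_chart_comp Q hQ F e he c hce hcs (FibCat.fpSnd y f)
      (Groth.Agent.Lib.AlgStRepC.repByAlgSpWith_fpSnd Q y f hy)

/-- = S12993. -/
theorem locQ_iff_repByAlgSpWith (hP : AlgSp.IsSmoothLocalST P)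
    (hP₁ : ∀ ⦃X₁ Y₁ X₂ Y₂ : AlgSp.Sp S⦄, AlgSp.IsAlgSpace X₁ → AlgSp.IsAlgSpace Y₁ →
      AlgSp.IsAlgSpace X₂ → AlgSp.IsAlgSpace Y₂ → ∀ (a : X₁ ⟶ Y₁) (b : Y₂ ⟶ Y₁) (a' : X₂ ⟶ Y₂)
      (b' : X₂ ⟶ X₁), IsPullback b' a' a b → P a → P a')
    (hP₂ : AlgSp.IsLocalOnBase AlgSp.IsFppfCover P)
    (h𝒳 : AlgSt.IsAlgStack Scheme.fppfPrecoverage 𝒳)
    (h𝒴 : AlgSt.IsAlgStack Scheme.fppfPrecoverage 𝒴) (f : 𝒳 ⥤ᵇ 𝒴) (hf : AlgSt.RepByAlgSp1 f) :
    AlgSt.LocQ P f ↔ AlgSt.RepByAlgSpWith P f := by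
  haveI : FibCat.IsFibGrpd 𝒳.p := h𝒳.isStack.1
  haveI : FibCat.IsFibGrpd 𝒴.p := h𝒴.isStack.1
  obtain ⟨V, y, hy, hys⟩ := h𝒴.atlas
  constructor
  · intro hL
    have hy1 : AlgSt.RepByAlgSpWith (AlgSp.LocP @Flat) y :=
      Groth.Agent.Lib.AlgStDiagDict2.repByAlgSpWith_mono y (fun F T _ α hα =>
        Groth.Agent.Lib.H69AlgSpLocST2.locP_mono (fun _ _ l hl => by
          have : Smooth l := hl
          exact (inferInstance : Flat l)) hα) hy
    have hy2 : AlgSt.RepByAlgSpWith (AlgSp.LocP @LocallyOfFinitePresentation) y :=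
      Groth.Agent.Lib.AlgStDiagDict2.repByAlgSpWith_mono y (fun F T _ α hα =>
        Groth.Agent.Lib.H69AlgSpLocST2.locP_mono (fun _ _ l hl => by
          have : Smooth l := hl
          exact (inferInstance : LocallyOfFinitePresentation l)) hα) hy
    refine Groth.Agent.Lib.AlgStDescent.repByAlgSpWith_of_fpFst_cover P hP₁ hP₂ f hf y hy1 hy2 hys ?_
    refine repByAlgSpWith_of_repData_overCat P P hP₁ (fun _ _ h => h) (FibCat.fpFst y f) ?_
    obtain ⟨F, e, he⟩ := hf V y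
    obtain ⟨W, c, hce, hcs⟩ := F.property.atlas
    obtain ⟨x, h, α, hh, hu, -⟩ := exists_square_of_chart f y F e he c hce hcs
    have h1 : P ((AlgSp.yon S).map h) := prop_of_locQ_of_square hP f hL x y h α hy hu
    rw [hh] at h1
    exact ⟨F, e, he, of_smooth_cover_source hP (AlgSp.IsAlgSpace.yon_obj W) F.property
      (AlgSp.IsAlgSpace.yon_obj V) c (atlasClass_locP_smooth.ofChart F.property c hce hcs)
      (atlasClass_isSurjectiveMor.ofChart F.property c hce hcs) _ h1⟩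
  · intro hR
    obtain ⟨F, e, he, ha⟩ := hR V y
    obtain ⟨W, c, hce, hcs⟩ := F.property.atlas
    let h : W ⟶ V := (AlgSp.yon S).preimage
      (c ≫ AlgSt.spMapOfOver (BasedFunctor.comp e (FibCat.fpFst y f)))
    have hh : c ≫ AlgSt.spMapOfOver (BasedFunctor.comp e (FibCat.fpFst y f)) =
        (AlgSp.yon S).map h := (Functor.map_preimage _ _).symm
    refine locQ_of_chart P f y hy hys F e he c hce hcs h hh ?_
    rw [← hh]
    exact hP.precomp (AlgSp.IsAlgSpace.yon_obj W) F.property (AlgSp.IsAlgSpace.yon_obj V) c _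
      (atlasClass_locP_smooth.ofChart F.property c hce hcs) ha

end Representable

section Spaces

variable {P : MorphismProperty (AlgSp.Sp S)}

/-- A commutative square of sheaves with scheme charts gives a chart square of `ofSpMap a`. -/
theorem locQ_ofSpMap_of_square (P : MorphismProperty (AlgSp.Sp S)) {F G : AlgSp.Sp S}
    (hF : AlgSp.IsAlgSpace F) (hG : AlgSp.IsAlgSpace G) (a : F ⟶ G) {U V : Over S}
    (cx : (AlgSp.yon S).obj U ⟶ F) (cy : (AlgSp.yon S).obj V ⟶ G) (h : U ⟶ V)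
    (comm : cx ≫ a = (AlgSp.yon S).map h ≫ cy) (hcx : AlgSp.LocP @Smooth cx)
    (hcxs : AlgSp.IsSurjectiveMor cx) (hcy : AlgSp.LocP @Smooth cy)
    (hh : P ((AlgSp.yon S).map h)) : AlgSt.LocQ P (AlgSt.ofSpMap a) := by
  let x : FibCat.overCat U ⥤ᵇ AlgSt.ofSp F := BasedFunctor.comp (AlgSt.ofOverCat U) (AlgSt.ofSpMap cx)
  let y : FibCat.overCat V ⥤ᵇ AlgSt.ofSp G := BasedFunctor.comp (AlgSt.ofOverCat V) (AlgSt.ofSpMap cy)
  have e1 : BasedFunctor.comp x (AlgSt.ofSpMap a) = BasedFunctor.comp (AlgSt.overMap h) y := by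
    show BasedFunctor.comp (AlgSt.ofOverCat U) (AlgSt.ofSpMap (cx ≫ a)) =
      BasedFunctor.comp (AlgSt.ofOverCat U) (AlgSt.ofSpMap ((AlgSp.yon S).map h ≫ cy))
    rw [comm]
  refine ⟨U, V, x, y, h, eqToIso e1, ?_, ?_, ?_, hh⟩
  · exact (repByAlgSpWith_equiv_comp_iff _ (AlgSt.ofOverCat U) (ofOverCat_isEquivOver U) _).1
      (repByAlgSpWith_ofSpMap _ atlasClass_locP_smooth.baseChange (AlgSp.IsAlgSpace.yon_obj U) hF
        cx hcx)
  · exact (repByAlgSpWith_equiv_comp_iff _ (AlgSt.ofOverCat U) (ofOverCat_isEquivOver U) _).1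
      (repByAlgSpWith_ofSpMap _ atlasClass_isSurjectiveMor.baseChange
        (AlgSp.IsAlgSpace.yon_obj U) hF cx hcxs)
  · exact (repByAlgSpWith_equiv_comp_iff _ (AlgSt.ofOverCat V) (ofOverCat_isEquivOver V) _).1
      (repByAlgSpWith_ofSpMap _ atlasClass_locP_smooth.baseChange (AlgSp.IsAlgSpace.yon_obj V) hG
        cy hcy)

/-- A chart square of `ofSpMap a` is a commutative square of sheaves with scheme charts. -/
theorem exists_square_of_locQ_ofSpMap {F G : AlgSp.Sp S} (hF : AlgSp.IsAlgSpace F)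
    (hG : AlgSp.IsAlgSpace G) (a : F ⟶ G) (hL : AlgSt.LocQ P (AlgSt.ofSpMap a)) :
    ∃ (U V : Over S) (cx : (AlgSp.yon S).obj U ⟶ F) (cy : (AlgSp.yon S).obj V ⟶ G) (h : U ⟶ V),
      cx ≫ a = (AlgSp.yon S).map h ≫ cy ∧ AlgSp.LocP @Smooth cx ∧ AlgSp.IsSurjectiveMor cx ∧
        AlgSp.LocP @Smooth cy ∧ P ((AlgSp.yon S).map h) := by
  obtain ⟨U, V, x, y, h, α, hx, hxs, hy, hh⟩ := hL
  obtain ⟨cx, ⟨γx⟩⟩ := exists_iso_chart_ofSp x
  obtain ⟨cy, ⟨γy⟩⟩ := exists_iso_chart_ofSp y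
  have hcx : AlgSp.LocP @Smooth cx := prop_of_chart_ofSp _
    (Groth.Agent.Lib.AlgStAtlas.isoInv_locP _)
    (schemeLocal_of_atlasLocal atlasClass_locP_smooth.atlasLocal) hF x cx γx hx
  have hcxs : AlgSp.IsSurjectiveMor cx := prop_of_chart_ofSp _ atlasClass_isSurjectiveMor.isoInv
    (schemeLocal_of_atlasLocal atlasClass_isSurjectiveMor.atlasLocal) hF x cx γx hxs
  have hcy : AlgSp.LocP @Smooth cy := prop_of_chart_ofSp _
    (Groth.Agent.Lib.AlgStAtlas.isoInv_locP _)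
    (schemeLocal_of_atlasLocal atlasClass_locP_smooth.atlasLocal) hG y cy γy hy
  refine ⟨U, V, cx, cy, h, ?_, hcx, hcxs, hcy, hh⟩
  have ι : Stk.ofPshMap (cx ≫ a).hom ≅ Stk.ofPshMap ((AlgSp.yon S).map h ≫ cy).hom :=
    (whiskerLeftIso (AlgSt.toOverCat U) (whiskerRightIso γx (AlgSt.ofSpMap a))).symm ≪≫
      whiskerLeftIso (AlgSt.toOverCat U) α ≪≫
      whiskerLeftIso (AlgSt.toOverCat U) (whiskerLeftIso (AlgSt.overMap h) γy)
  apply ObjectProperty.hom_ext
  exact Groth.Agent.Lib.PshFp.eq_of_ofPshMap_iso ι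

/-- = S12992. -/
theorem locQ_ofSpMap_iff (hP : AlgSp.IsSmoothLocalST P) (F G : AlgSp.Space S) (a : F ⟶ G) :
    AlgSt.LocQ P (AlgSt.ofSpMap a.hom) ↔ P a.hom := by
  constructor
  · intro hL
    obtain ⟨U, V, cx, cy, h, comm, hcx, hcxs, hcy, hh⟩ :=
      exists_square_of_locQ_ofSpMap F.property G.property a.hom hL
    refine (hP.locality F.property G.property a.hom).2 fun x => ?_
    obtain ⟨v, hv⟩ := hcxs x
    exact ⟨_, _, cx, cy, (AlgSp.yon S).map h, v, AlgSp.IsAlgSpace.yon_obj U,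
      AlgSp.IsAlgSpace.yon_obj V, hcx, hcy, comm, hv, hh⟩
  · intro ha
    obtain ⟨V, cy, hcye, hcys⟩ := G.property.atlas
    have sq : IsPullback (pullback.fst a.hom cy) (pullback.snd a.hom cy) a.hom cy :=
      IsPullback.of_hasPullback _ _
    have hF' : AlgSp.IsAlgSpace (pullback a.hom cy) :=
      Groth.Agent.Lib.AlgSpFibre.isAlgSpace_of_isPullback G.property.diag F.property
        (AlgSp.IsAlgSpace.yon_obj V) sq
    have hcy : AlgSp.LocP @Smooth cy := atlasClass_locP_smooth.ofChart G.property cy hcye hcys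
    have hcys' : AlgSp.IsSurjectiveMor cy :=
      atlasClass_isSurjectiveMor.ofChart G.property cy hcye hcys
    have h1 : P (pullback.snd a.hom cy) :=
      hP.baseChange F.property G.property hF' (AlgSp.IsAlgSpace.yon_obj V) a.hom cy _ _ sq hcy ha
    have h2 : AlgSp.LocP @Smooth (pullback.fst a.hom cy) :=
      atlasClass_locP_smooth.baseChange (AlgSp.IsAlgSpace.yon_obj V) G.property hF' F.property
        cy a.hom _ _ sq.flip hcy
    have h3 : AlgSp.IsSurjectiveMor (pullback.fst a.hom cy) :=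
      atlasClass_isSurjectiveMor.baseChange (AlgSp.IsAlgSpace.yon_obj V) G.property hF' F.property
        cy a.hom _ _ sq.flip hcys'
    obtain ⟨U, c, hce, hcs⟩ := hF'.atlas
    have hc : AlgSp.LocP @Smooth c := atlasClass_locP_smooth.ofChart hF' c hce hcs
    have hc' : AlgSp.IsSurjectiveMor c := atlasClass_isSurjectiveMor.ofChart hF' c hce hcs
    let h : U ⟶ V := (AlgSp.yon S).preimage (c ≫ pullback.snd a.hom cy)
    have hh : (AlgSp.yon S).map h = c ≫ pullback.snd a.hom cy := Functor.map_preimage _ _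
    refine locQ_ofSpMap_of_square P F.property G.property a.hom (c ≫ pullback.fst a.hom cy) cy h
      ?_ ?_ ?_ hcy ?_
    · rw [hh, Category.assoc, Category.assoc, sq.w]
    · exact atlasClass_locP_smooth.comp (AlgSp.IsAlgSpace.yon_obj U) hF' F.property _ _ hc h2
    · exact atlasClass_isSurjectiveMor.comp (AlgSp.IsAlgSpace.yon_obj U) hF' F.property _ _ hc' h3
    · rw [hh]
      exact hP.precomp (AlgSp.IsAlgSpace.yon_obj U) hF' (AlgSp.IsAlgSpace.yon_obj V) c _ hc h1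

/-- A map from a scheme to an algebraic space with `Q` (in an atlas class) gives a functor with
`Q`. -/
theorem repByAlgSpWith_ofOverCat_ofSpMap (Q : MorphismProperty (AlgSp.Sp S)) (hQ : AtlasClass Q)
    {F : AlgSp.Sp S} (hF : AlgSp.IsAlgSpace F) {U : Over S} (c : (AlgSp.yon S).obj U ⟶ F)
    (hc : Q c) :
    AlgSt.RepByAlgSpWith Q (BasedFunctor.comp (AlgSt.ofOverCat U) (AlgSt.ofSpMap c)) :=
  (repByAlgSpWith_equiv_comp_iff _ (AlgSt.ofOverCat U) (ofOverCat_isEquivOver U) _).1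
    (repByAlgSpWith_ofSpMap _ hQ.baseChange (AlgSp.IsAlgSpace.yon_obj U) hF c hc)

variable {𝒳 𝒴 : AlgSt.Cat S}

/-- = S12991. -/
theorem locQ_iff_exists_space_square (hP : AlgSp.IsSmoothLocalST P)
    (h𝒳 : AlgSt.IsAlgStack Scheme.fppfPrecoverage 𝒳)
    (h𝒴 : AlgSt.IsAlgStack Scheme.fppfPrecoverage 𝒴) (f : 𝒳 ⥤ᵇ 𝒴) :
    AlgSt.LocQ P f ↔
      ∃ (U V : AlgSp.Space S) (x : AlgSt.ofSp U.obj ⥤ᵇ 𝒳) (y : AlgSt.ofSp V.obj ⥤ᵇ 𝒴) (h : U ⟶ V)
        (_ : BasedFunctor.comp x f ≅ BasedFunctor.comp (AlgSt.ofSpMap h.hom) y),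
        AlgSt.RepByAlgSpWith (AlgSp.LocP @Smooth) x ∧ AlgSt.RepByAlgSpWith AlgSp.IsSurjectiveMor x ∧
        AlgSt.RepByAlgSpWith (AlgSp.LocP @Smooth) y ∧ P h.hom := by
  haveI : FibCat.IsFibGrpd 𝒳.p := h𝒳.isStack.1
  haveI : FibCat.IsFibGrpd 𝒴.p := h𝒴.isStack.1
  constructor
  · rintro ⟨U, V, x, y, h, α, hx, hxs, hy, hh⟩
    let α' : BasedFunctor.comp (BasedFunctor.comp (AlgSt.toOverCat U) x) f ≅
        BasedFunctor.comp (AlgSt.ofSpMap ((AlgSp.yon S).map h))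
          (BasedFunctor.comp (AlgSt.toOverCat V) y) :=
      whiskerLeftIso (AlgSt.toOverCat U) α
    exact ⟨⟨(AlgSp.yon S).obj U, AlgSp.IsAlgSpace.yon_obj U⟩,
      ⟨(AlgSp.yon S).obj V, AlgSp.IsAlgSpace.yon_obj V⟩,
      BasedFunctor.comp (AlgSt.toOverCat U) x, BasedFunctor.comp (AlgSt.toOverCat V) y,
      ObjectProperty.homMk ((AlgSp.yon S).map h), α',
      (repByAlgSpWith_equiv_comp_iff _ (AlgSt.toOverCat U) (toOverCat_isEquivOver U) x).1 hx,
      (repByAlgSpWith_equiv_comp_iff _ (AlgSt.toOverCat U) (toOverCat_isEquivOver U) x).1 hxs,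
      (repByAlgSpWith_equiv_comp_iff _ (AlgSt.toOverCat V) (toOverCat_isEquivOver V) y).1 hy, hh⟩
  · rintro ⟨U, V, x, y, h, α, hx, hxs, hy, hh⟩
    haveI : FibCat.IsFibGrpd (AlgSt.ofSp U.obj).p := Stk.isFibGrpd_ofPsh U.obj.obj
    haveI : FibCat.IsFibGrpd (AlgSt.ofSp V.obj).p := Stk.isFibGrpd_ofPsh V.obj.obj
    obtain ⟨V₀, cV, hcVe, hcVs⟩ := V.property.atlas
    have hcV : AlgSp.LocP @Smooth cV := atlasClass_locP_smooth.ofChart V.property cV hcVe hcVs
    have hcVs' : AlgSp.IsSurjectiveMor cV :=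
      atlasClass_isSurjectiveMor.ofChart V.property cV hcVe hcVs
    have sq : IsPullback (pullback.fst h.hom cV) (pullback.snd h.hom cV) h.hom cV :=
      IsPullback.of_hasPullback _ _
    have hU₁ : AlgSp.IsAlgSpace (pullback h.hom cV) :=
      Groth.Agent.Lib.AlgSpFibre.isAlgSpace_of_isPullback V.property.diag U.property
        (AlgSp.IsAlgSpace.yon_obj V₀) sq
    have h1 : P (pullback.snd h.hom cV) :=
      hP.baseChange U.property V.property hU₁ (AlgSp.IsAlgSpace.yon_obj V₀) h.hom cV _ _ sq hcV hh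
    have h2 : AlgSp.LocP @Smooth (pullback.fst h.hom cV) :=
      atlasClass_locP_smooth.baseChange (AlgSp.IsAlgSpace.yon_obj V₀) V.property hU₁ U.property
        cV h.hom _ _ sq.flip hcV
    have h3 : AlgSp.IsSurjectiveMor (pullback.fst h.hom cV) :=
      atlasClass_isSurjectiveMor.baseChange (AlgSp.IsAlgSpace.yon_obj V₀) V.property hU₁
        U.property cV h.hom _ _ sq.flip hcVs'
    obtain ⟨U₀, cU, hcUe, hcUs⟩ := hU₁.atlas
    have hcU : AlgSp.LocP @Smooth cU := atlasClass_locP_smooth.ofChart hU₁ cU hcUe hcUs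
    have hcUs' : AlgSp.IsSurjectiveMor cU := atlasClass_isSurjectiveMor.ofChart hU₁ cU hcUe hcUs
    let h₀ : U₀ ⟶ V₀ := (AlgSp.yon S).preimage (cU ≫ pullback.snd h.hom cV)
    have hh₀ : (AlgSp.yon S).map h₀ = cU ≫ pullback.snd h.hom cV := Functor.map_preimage _ _
    let c' : (AlgSp.yon S).obj U₀ ⟶ U.obj := cU ≫ pullback.fst h.hom cV
    have hc' : AlgSp.LocP @Smooth c' :=
      atlasClass_locP_smooth.comp (AlgSp.IsAlgSpace.yon_obj U₀) hU₁ U.property _ _ hcU h2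
    have hc's : AlgSp.IsSurjectiveMor c' :=
      atlasClass_isSurjectiveMor.comp (AlgSp.IsAlgSpace.yon_obj U₀) hU₁ U.property _ _ hcUs' h3
    let preU : FibCat.overCat U₀ ⥤ᵇ AlgSt.ofSp U.obj :=
      BasedFunctor.comp (AlgSt.ofOverCat U₀) (AlgSt.ofSpMap c')
    let preV : FibCat.overCat V₀ ⥤ᵇ AlgSt.ofSp V.obj :=
      BasedFunctor.comp (AlgSt.ofOverCat V₀) (AlgSt.ofSpMap cV)
    have e1 : BasedFunctor.comp preU (BasedFunctor.comp (AlgSt.ofSpMap h.hom) y) =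
        BasedFunctor.comp (AlgSt.overMap h₀) (BasedFunctor.comp preV y) := by
      show BasedFunctor.comp (BasedFunctor.comp (AlgSt.ofOverCat U₀)
          (AlgSt.ofSpMap (c' ≫ h.hom))) y =
        BasedFunctor.comp (BasedFunctor.comp (AlgSt.ofOverCat U₀)
          (AlgSt.ofSpMap ((AlgSp.yon S).map h₀ ≫ cV))) y
      have e2 : c' ≫ h.hom = (AlgSp.yon S).map h₀ ≫ cV := by
        rw [hh₀, Category.assoc, Category.assoc, sq.w]
      rw [e2]
    refine ⟨U₀, V₀, BasedFunctor.comp preU x, BasedFunctor.comp preV y, h₀,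
      whiskerLeftIso preU α ≪≫ eqToIso e1, ?_, ?_, ?_, ?_⟩
    · exact repByAlgSpWith_comp _ atlasClass_locP_smooth.isoInv atlasClass_locP_smooth.atlasLocal
        atlasClass_locP_smooth.comp preU x
        (repByAlgSpWith_ofOverCat_ofSpMap _ atlasClass_locP_smooth U.property c' hc') hx
    · exact repByAlgSpWith_comp _ atlasClass_isSurjectiveMor.isoInv
        atlasClass_isSurjectiveMor.atlasLocal atlasClass_isSurjectiveMor.comp preU x
        (repByAlgSpWith_ofOverCat_ofSpMap _ atlasClass_isSurjectiveMor U.property c' hc's) hxs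
    · exact repByAlgSpWith_comp _ atlasClass_locP_smooth.isoInv atlasClass_locP_smooth.atlasLocal
        atlasClass_locP_smooth.comp preV y
        (repByAlgSpWith_ofOverCat_ofSpMap _ atlasClass_locP_smooth V.property cV hcV) hy
    · rw [hh₀]
      exact hP.precomp (AlgSp.IsAlgSpace.yon_obj U₀) hU₁ (AlgSp.IsAlgSpace.yon_obj V₀) cU _ hcU h1

end Spaces

end Groth.Agent.Lib.AlgStLocQ
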