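import Groth.Agent.Lib.H78AlgStPoints
import Groth.Agent.Lib.FibGrpd

/-!
# helper78: points of 2-fibre products of categories fibred in groupoids over `Sch/S`
(namespace `Groth.Agent.Lib.H78AlgStPointsFp`)

* `exists_fp_of_rel`: field-valued points of `𝒳`, `𝒴` with related images in `𝒮` come from a field-valued point of
  `𝒳 ×_𝒮 𝒴`.
* `exists_points_fp`: `|𝒳 ×_𝒮 𝒴| → |𝒳| ×_{|𝒮|} |𝒴|` is surjective.
* `isSurjective_fpFst`: surjectivity on points is stable under base change.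
-/

set_option autoImplicit false
universe w₃ v₃ w₂ v₂ w v u
open CategoryTheory AlgebraicGeometry Functor
open AlgSt

namespace Groth.Agent.Lib.H78AlgStPointsFp

open Groth.Agent.Lib.FibGrpd Groth.Agent.Lib.H78AlgStPoints

variable {S : Scheme.{u}} {𝒳 : BasedCategory.{v, w} (Over S)} {𝒴 : BasedCategory.{v₂, w₂} (Over S)}
  {𝒮 : BasedCategory.{v₃, w₃} (Over S)}

theorem exists_fp_of_rel (h𝒳 : FibCat.IsFibGrpd 𝒳.p) (h𝒴 : FibCat.IsFibGrpd 𝒴.p)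
    (h𝒮 : FibCat.IsFibGrpd 𝒮.p) (F : 𝒳 ⥤ᵇ 𝒮) (G : 𝒴 ⥤ᵇ 𝒮) (px : FPt 𝒳) (py : FPt 𝒴)
    (h : FPt.Rel (px.map F) (py.map G)) :
    ∃ t : FPt (FibCat.fp F G), FPt.Rel (t.map (FibCat.fpFst F G)) px ∧
      FPt.Rel (t.map (FibCat.fpSnd F G)) py := by
  obtain ⟨r, a, b, -⟩ := h
  change r.obj ⟶ F.obj px.obj at a
  change r.obj ⟶ G.obj py.obj at b
  let α : 𝒮.p.obj r.obj ⟶ 𝒳.p.obj px.obj := 𝒮.p.map a ≫ eqToHom (F.w_obj px.obj)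
  let β : 𝒮.p.obj r.obj ⟶ 𝒴.p.obj py.obj := 𝒮.p.map b ≫ eqToHom (G.w_obj py.obj)
  obtain ⟨x', ξ, hξ⟩ := h𝒳.exists_lift α
  obtain ⟨y', η, hη⟩ := h𝒴.exists_lift β
  have ha : 𝒮.p.IsHomLift α a :=
    IsHomLift.of_fac 𝒮.p α a rfl (F.w_obj px.obj) (by simp [α])
  have hb : 𝒮.p.IsHomLift β b :=
    IsHomLift.of_fac 𝒮.p β b rfl (G.w_obj py.obj) (by simp [β])
  have hFξ : 𝒮.p.IsHomLift α (F.map ξ) := inferInstance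
  have hGη : 𝒮.p.IsHomLift β (G.map η) := inferInstance
  have ca : 𝒮.p.IsStronglyCartesian α a := isStronglyCartesian_of_isHomLift 𝒮.p α a
  have cb : 𝒮.p.IsStronglyCartesian β b := isStronglyCartesian_of_isHomLift 𝒮.p β b
  have cFξ : 𝒮.p.IsStronglyCartesian α (F.map ξ) := isStronglyCartesian_of_isHomLift 𝒮.p α _
  have cGη : 𝒮.p.IsStronglyCartesian β (G.map η) := isStronglyCartesian_of_isHomLift 𝒮.p β _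
  -- the isomorphisms `r.obj ≅ F x'` and `r.obj ≅ G y'` over the identity
  let e₁ : r.obj ≅ F.obj x' := IsCartesian.domainUniqueUpToIso 𝒮.p α (F.map ξ) a
  let e₂ : r.obj ≅ G.obj y' := IsCartesian.domainUniqueUpToIso 𝒮.p β (G.map η) b
  have he₁ : 𝒮.p.IsHomLift (𝟙 (𝒮.p.obj r.obj)) e₁.inv := inferInstance
  have he₂ : 𝒮.p.IsHomLift (𝟙 (𝒮.p.obj r.obj)) e₂.hom := inferInstance
  have hx' : 𝒳.p.obj x' = 𝒮.p.obj r.obj := IsHomLift.domain_eq 𝒳.p α ξ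
  have hiso : 𝒮.p.IsHomLift (𝟙 (𝒳.p.obj x')) (e₁.symm ≪≫ e₂).hom := by
    rw [hx']
    have : 𝒮.p.IsHomLift (𝟙 (𝒮.p.obj r.obj) ≫ 𝟙 (𝒮.p.obj r.obj)) (e₁.inv ≫ e₂.hom) := inferInstance
    simpa using this
  let W : (FibCat.fp F G).obj := ⟨⟨x', y', e₁.symm ≪≫ e₂⟩, hiso⟩
  have hlies : (FibCat.fp F G).p.obj W = Over.mk r.str := hx'.trans r.lies
  let t : FPt (FibCat.fp F G) := ⟨r.K, r.str, W, hlies⟩
  refine ⟨t, ⟨t.map (FibCat.fpFst F G), 𝟙 _, ξ, trivial⟩, ⟨t.map (FibCat.fpSnd F G), 𝟙 _, η, trivial⟩⟩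

theorem exists_points_fp (h𝒳 : FibCat.IsFibGrpd 𝒳.p) (h𝒴 : FibCat.IsFibGrpd 𝒴.p)
    (h𝒮 : FibCat.IsFibGrpd 𝒮.p) (F : 𝒳 ⥤ᵇ 𝒮) (G : 𝒴 ⥤ᵇ 𝒮) (x : Points 𝒳) (y : Points 𝒴)
    (h : Points.map F x = Points.map G y) :
    ∃ t : Points (FibCat.fp F G), Points.map (FibCat.fpFst F G) t = x ∧
      Points.map (FibCat.fpSnd F G) t = y := by
  obtain ⟨px, rfl⟩ := Points.mk_surjective x
  obtain ⟨py, rfl⟩ := Points.mk_surjective y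
  rw [Points.map_mk, Points.map_mk, mk_eq_mk_iff h𝒮] at h
  obtain ⟨t, h1, h2⟩ := exists_fp_of_rel h𝒳 h𝒴 h𝒮 F G px py h
  exact ⟨Points.mk t, Points.sound h1, Points.sound h2⟩

theorem isSurjective_fpFst (h𝒳 : FibCat.IsFibGrpd 𝒳.p) (h𝒴 : FibCat.IsFibGrpd 𝒴.p)
    (h𝒮 : FibCat.IsFibGrpd 𝒮.p) (F : 𝒳 ⥤ᵇ 𝒮) (G : 𝒴 ⥤ᵇ 𝒮) (hG : IsSurjective G) :
    IsSurjective (FibCat.fpFst F G) := by
  intro x
  obtain ⟨y, hy⟩ := hG (Points.map F x)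
  obtain ⟨t, ht, -⟩ := exists_points_fp h𝒳 h𝒴 h𝒮 F G x y hy.symm
  exact ⟨t, ht⟩

theorem isSurjective_fpSnd (h𝒳 : FibCat.IsFibGrpd 𝒳.p) (h𝒴 : FibCat.IsFibGrpd 𝒴.p)
    (h𝒮 : FibCat.IsFibGrpd 𝒮.p) (F : 𝒳 ⥤ᵇ 𝒮) (G : 𝒴 ⥤ᵇ 𝒮) (hF : IsSurjective F) :
    IsSurjective (FibCat.fpSnd F G) := by
  intro y
  obtain ⟨x, hx⟩ := hF (Points.map G y)
  obtain ⟨t, -, ht⟩ := exists_points_fp h𝒳 h𝒴 h𝒮 F G x y hx
  exact ⟨t, ht⟩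

end Groth.Agent.Lib.H78AlgStPointsFp
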