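import Groth.Agent.Lib.AlgStLocQ4
import Groth.Agent.Lib.AlgSpSmLocalST2
import Groth.Agent.Lib.AlgStPtsQC2
import Groth.Agent.Lib.H78AlgStPointsFp

/-!
# `LocQ` and surjectivity on points (helper64)

* `surjective_left_of_isSurjective_overMap` : `|overMap h|` surjective ⇒ `h` surjective.
* `isSurjective_overMap_of_square` : in a chart square of a surjective `f` with `U ⟶ 𝒳 ×_𝒴 V`
  surjective, `h : U ⟶ V` is surjective.
* `locQ_flat_of_comp` (= S13004).
-/

set_option autoImplicit false
set_option linter.style.haveILetI false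
set_option backward.isDefEq.respectTransparency false
set_option backward.isDefEq.respectTransparency.types false

namespace Groth.Agent.Lib.AlgStLocQ

open CategoryTheory Functor Opposite Limits AlgebraicGeometry Groth.Agent.Lib.FibGrpd
  Groth.Agent.Lib.FpEquiv Groth.Agent.Lib.EquivOver Groth.Agent.Lib.AlgStFp
  Groth.Agent.Lib.AlgStRep Groth.Agent.Lib.AlgStSpTest Groth.Agent.Lib.AlgStEquiv
  Groth.Agent.Lib.AlgStAtlas Groth.Agent.Lib.AlgStRepStack Groth.Agent.Lib.AlgSpLocP
  Groth.Agent.Lib.AlgStSrcLocal Groth.Agent.Lib.AlgStSmoothLocal Groth.Agent.Lib.AlgStNoeth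
  Groth.Agent.Lib.PshFp Groth.Agent.Lib.FpBaseChange Groth.Agent.Lib.SliceFp
  Groth.Agent.Lib.AlgStPts Groth.Agent.Lib.AlgStPtsMain Groth.Agent.Lib.AlgStPtsQC
  Groth.Agent.Lib.AlgStPtsSurj AlgSt

universe u

variable {S : Scheme.{u}} {𝒳 𝒴 𝒵 : AlgSt.Cat S}

theorem ofChart_id_injective (V : Over S) :
    Function.Injective (Points.ofChart (BasedFunctor.id (FibCat.overCat V))) := by
  intro s t hst
  rw [ofChart_eq_ptsMap, ofChart_eq_ptsMap] at hst
  have h1 := (map_toOverCat_bijective V).1 hst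
  exact (AlgSp.Points.schemeHomeo V).injective ((spPts _).injective h1)

theorem ofChart_id_surjective (V : Over S) :
    Function.Surjective (Points.ofChart (BasedFunctor.id (FibCat.overCat V))) := by
  haveI : FibCat.IsFibGrpd (FibCat.overCat V).p := overCat_isFibGrpd V
  exact surjective_ofChart _ (IsAtl.of_isEquivOver _ isEquivOver_id).2

/-- Surjectivity on points of the functor of a morphism of schemes is surjectivity. -/
theorem surjective_left_of_isSurjective_overMap {U V : Over S} (h : U ⟶ V)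
    (hs : AlgSt.IsSurjective (AlgSt.overMap h)) : Function.Surjective h.left := by
  intro v
  obtain ⟨ζ, hζ⟩ := hs (Points.ofChart (BasedFunctor.id (FibCat.overCat V)) v)
  obtain ⟨t, rfl⟩ := ofChart_id_surjective U ζ
  refine ⟨t, ofChart_id_injective V ?_⟩
  rw [← hζ, map_ofChart]
  exact (ofChart_overMap_comp h (BasedFunctor.id (FibCat.overCat V)) t).symm

/-- In a chart square of a surjective `f` whose comparison functor `U ⟶ 𝒳 ×_𝒴 V` is surjective,
the morphism `h : U ⟶ V` is surjective. -/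
theorem surjective_of_square [FibCat.IsFibGrpd 𝒳.p] [FibCat.IsFibGrpd 𝒴.p] (f : 𝒳 ⥤ᵇ 𝒴)
    (hf : AlgSt.IsSurjective f) {U V : Over S} (x : FibCat.overCat U ⥤ᵇ 𝒳)
    (y : FibCat.overCat V ⥤ᵇ 𝒴) (h : U ⟶ V)
    (α : BasedFunctor.comp x f ≅ BasedFunctor.comp (AlgSt.overMap h) y)
    (hL : AlgSt.RepByAlgSpWith AlgSp.IsSurjectiveMor (FibCat.fpLift x (AlgSt.overMap h) α)) :
    Function.Surjective h.left := by
  apply surjective_left_of_isSurjective_overMap
  haveI : FibCat.IsFibGrpd (FibCat.overCat V).p := overCat_isFibGrpd V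
  haveI : FibCat.IsFibGrpd (FibCat.fp f y).p := fp_isFibGrpd _ _
  have h1 : AlgSt.IsSurjective (FibCat.fpLift x (AlgSt.overMap h) α) :=
    isSurjective_of_repByAlgSpWith _ hL
  have h2 : AlgSt.IsSurjective (FibCat.fpSnd f y) :=
    Groth.Agent.Lib.H78AlgStPointsFp.isSurjective_fpSnd inferInstance inferInstance inferInstance
      f y hf
  exact Groth.Agent.Lib.AlgStPtsQC2.isSurjective_comp _ _ h1 h2

end Groth.Agent.Lib.AlgStLocQ
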