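import Groth.Agent.Lib.AlgStLocQ5

/-!
# Base change of chart squares for `LocQ` (helper64)

* `repData_fpSnd_of_square_bc` : variant of `repData_fpSnd_of_square` for an arbitrary `y'`, for `P`
  stable under arbitrary base change.
* `exists_chart_of_locQ`, `exists_chart_of_locQ_bc` : a `P`-chart of `𝒳 ×_𝒴 V' ⟶ V'`.
* `fpBaseChange` : `(𝒴' ×_𝒴 𝒳) ×_{𝒴'} V' ≃ 𝒳 ×_𝒴 V'`.
* `locQ_fpFst` (= S13039).
-/

set_option autoImplicit false
set_option linter.style.haveILetI false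
set_option backward.isDefEq.respectTransparency false
set_option backward.isDefEq.respectTransparency.types false

namespace Groth.Agent.Lib.AlgStLocQ

open CategoryTheory Functor Opposite Limits AlgebraicGeometry Groth.Agent.Lib.FibGrpd
  Groth.Agent.Lib.FpEquiv Groth.Agent.Lib.EquivOver Groth.Agent.Lib.AlgStFp
  Groth.Agent.Lib.AlgStRep Groth.Agent.Lib.AlgStSpTest Groth.Agent.Lib.AlgStEquiv
  Groth.Agent.Lib.AlgStAtlas Groth.Agent.Lib.AlgStRepStack Groth.Agent.Lib.AlgSpLocP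
  Groth.Agent.Lib.AlgStSrcLocal Groth.Agent.Lib.AlgStSmoothLocal Groth.Agent.Lib.AlgStNoeth
  Groth.Agent.Lib.PshFp Groth.Agent.Lib.FpBaseChange Groth.Agent.Lib.SliceFp AlgSt

universe u

variable {S : Scheme.{u}}

/-- Stability under arbitrary base change of algebraic spaces. -/
def BaseChangeStable (P : MorphismProperty (AlgSp.Sp S)) : Prop :=
  ∀ ⦃X₁ Y₁ X₂ Y₂ : AlgSp.Sp S⦄, AlgSp.IsAlgSpace X₁ → AlgSp.IsAlgSpace Y₁ → AlgSp.IsAlgSpace X₂ →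
    AlgSp.IsAlgSpace Y₂ → ∀ (a : X₁ ⟶ Y₁) (b : Y₂ ⟶ Y₁) (a' : X₂ ⟶ Y₂) (b' : X₂ ⟶ X₁),
    IsPullback b' a' a b → P a → P a'

section Step1

variable {𝒳 𝒴 : AlgSt.Cat S} {P : MorphismProperty (AlgSp.Sp S)}

/-- **Base change of a chart square along an arbitrary `y'`.** -/
theorem repData_fpSnd_of_square_bc (hP : AlgSp.IsSmoothLocalST P) (hPb : BaseChangeStable P)
    (f : 𝒳 ⥤ᵇ 𝒴) {U V V' : Over S}
    (x : FibCat.overCat U ⥤ᵇ 𝒳) (y : FibCat.overCat V ⥤ᵇ 𝒴) (h : U ⟶ V)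
    (α : BasedFunctor.comp x f ≅ BasedFunctor.comp (AlgSt.overMap h) y)
    (hy : AlgSt.RepByAlgSpWith (AlgSp.LocP @Smooth) y) (hh : P ((AlgSp.yon S).map h))
    (y' : FibCat.overCat V' ⥤ᵇ 𝒴) :
    RepData P (FibCat.fpSnd (BasedFunctor.comp x f) y') := by
  -- the algebraic space `B = V ×_𝒴 V'`
  obtain ⟨B, eB, heB, hb₂⟩ : RepData (AlgSp.LocP @Smooth) (FibCat.fpSnd y y') :=
    repData_of_equiv' (Groth.Agent.Lib.AlgStRepC.fpSwap y y')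
      (Groth.Agent.Lib.AlgStRepC.fpSwap_isEquivOver y y')
      (Groth.Agent.Lib.AlgStRepC.fpSwapFstIso y y') (hy V' y')
  let b₁ : B.obj ⟶ (AlgSp.yon S).obj V :=
    AlgSt.spMapOfOver (BasedFunctor.comp eB (FibCat.fpFst y y'))
  have sq : IsPullback (pullback.fst ((AlgSp.yon S).map h) b₁) (pullback.snd ((AlgSp.yon S).map h) b₁)
      ((AlgSp.yon S).map h) b₁ := IsPullback.of_hasPullback _ _
  have hC₀ : AlgSp.IsAlgSpace (pullback ((AlgSp.yon S).map h) b₁) :=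
    Groth.Agent.Lib.AlgSpFibre.isAlgSpace_of_isPullback (AlgSp.IsAlgSpace.yon_obj V).diag
      (AlgSp.IsAlgSpace.yon_obj U) B.property sq
  have hP1 : P (pullback.snd ((AlgSp.yon S).map h) b₁) :=
    hPb (AlgSp.IsAlgSpace.yon_obj U) (AlgSp.IsAlgSpace.yon_obj V) hC₀ B.property
      ((AlgSp.yon S).map h) b₁ _ _ sq hh
  have hP2 : P (pullback.snd ((AlgSp.yon S).map h) b₁ ≫
      AlgSt.spMapOfOver (BasedFunctor.comp eB (FibCat.fpSnd y y'))) :=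
    postcomp_smooth hP hC₀ B.property (AlgSp.IsAlgSpace.yon_obj V') _ _ hP1 hb₂
  have r1 : RepData P (BasedFunctor.comp (FibCat.fpSnd (AlgSt.overMap h) (FibCat.fpFst y y'))
      (FibCat.fpSnd y y')) :=
    repData_fpSnd_comp_of_pullback P eB heB h (FibCat.fpFst y y') (FibCat.fpSnd y y') hP2
  have r2 : RepData P (FibCat.fpSnd (BasedFunctor.comp (AlgSt.overMap h) y) y') :=
    repData_of_equiv (fpPasteLeft (AlgSt.overMap h) y y')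
      (fpPasteLeft_isEquivOver (AlgSt.overMap h) y y') (Iso.refl _) r1
  let α' : BasedFunctor.comp (BasedFunctor.comp x f) (BasedFunctor.id 𝒴) ≅
      BasedFunctor.comp (BasedFunctor.id _) (BasedFunctor.comp (AlgSt.overMap h) y) :=
    compIdIso _ ≪≫ α ≪≫ (idCompIso _).symm
  let β' : BasedFunctor.comp y' (BasedFunctor.id 𝒴) ≅ BasedFunctor.comp (BasedFunctor.id _) y' :=
    compIdIso y' ≪≫ (idCompIso y').symm
  haveI : (BasedFunctor.id 𝒴).toFunctor.Full := id_full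
  haveI : (BasedFunctor.id 𝒴).toFunctor.Faithful := id_faithful
  let γ' : BasedFunctor.comp
      (fpMap (BasedFunctor.id _) (BasedFunctor.id _) (BasedFunctor.id 𝒴) α' β')
      (FibCat.fpSnd (BasedFunctor.comp (AlgSt.overMap h) y) y') ≅
      FibCat.fpSnd (BasedFunctor.comp x f) y' :=
    compIdIso (FibCat.fpSnd (BasedFunctor.comp x f) y')
  exact repData_of_equiv' (fpMap (BasedFunctor.id _) (BasedFunctor.id _) (BasedFunctor.id 𝒴) α' β')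
    (fpMap_isEquivOver _ _ _ _ _ isEquivOver_id isEquivOver_id) γ' r2

/-- A `P`-chart of `𝒳 ×_𝒴 V' ⟶ V'` for a smooth `y'`, from `LocQ P f`. -/
theorem exists_chart_of_locQ [FibCat.IsFibGrpd 𝒳.p] [FibCat.IsFibGrpd 𝒴.p]
    (hP : AlgSp.IsSmoothLocalST P) (f : 𝒳 ⥤ᵇ 𝒴) (hf : AlgSt.LocQ P f) {V' : Over S}
    (y' : FibCat.overCat V' ⥤ᵇ 𝒴) (hy' : AlgSt.RepByAlgSpWith (AlgSp.LocP @Smooth) y') :
    ∃ (W : Over S) (u : FibCat.overCat W ⥤ᵇ FibCat.fp f y') (h₁ : W ⟶ V')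
      (_ : BasedFunctor.comp u (FibCat.fpSnd f y') ≅ AlgSt.overMap h₁),
      IsAtl u ∧ P ((AlgSp.yon S).map h₁) := by
  obtain ⟨U, V, x, y, h, α, hx, hxs, hy, hh⟩ := hf
  have r : RepData P (FibCat.fpSnd (BasedFunctor.comp x f) y') :=
    repData_fpSnd_of_square hP f x y h α hy hh y' hy'
  haveI : FibCat.IsFibGrpd (FibCat.fp (BasedFunctor.comp x f) y').p := fp_isFibGrpd _ _
  obtain ⟨W, u₁, h₁, β₁, hu₁, hu₁s, hP₁⟩ := exists_scheme_chart_of_repData hP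
    (fpMapLeft x f y') (repByAlgSpWith_fpMapLeft _ x f y' hx)
    (repByAlgSpWith_fpMapLeft _ x f y' hxs) (FibCat.fpSnd f y') r
  exact ⟨W, u₁, h₁, β₁, ⟨hu₁, hu₁s⟩, hP₁⟩

/-- A `P`-chart of `𝒳 ×_𝒴 V' ⟶ V'` for an arbitrary `y'`, from `LocQ P f`, for `P` stable under
arbitrary base change. -/
theorem exists_chart_of_locQ_bc [FibCat.IsFibGrpd 𝒳.p] [FibCat.IsFibGrpd 𝒴.p]
    (hP : AlgSp.IsSmoothLocalST P) (hPb : BaseChangeStable P) (f : 𝒳 ⥤ᵇ 𝒴)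
    (hf : AlgSt.LocQ P f) {V' : Over S} (y' : FibCat.overCat V' ⥤ᵇ 𝒴) :
    ∃ (W : Over S) (u : FibCat.overCat W ⥤ᵇ FibCat.fp f y') (h₁ : W ⟶ V')
      (_ : BasedFunctor.comp u (FibCat.fpSnd f y') ≅ AlgSt.overMap h₁),
      IsAtl u ∧ P ((AlgSp.yon S).map h₁) := by
  obtain ⟨U, V, x, y, h, α, hx, hxs, hy, hh⟩ := hf
  have r : RepData P (FibCat.fpSnd (BasedFunctor.comp x f) y') :=
    repData_fpSnd_of_square_bc hP hPb f x y h α hy hh y'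
  haveI : FibCat.IsFibGrpd (FibCat.fp (BasedFunctor.comp x f) y').p := fp_isFibGrpd _ _
  obtain ⟨W, u₁, h₁, β₁, hu₁, hu₁s, hP₁⟩ := exists_scheme_chart_of_repData hP
    (fpMapLeft x f y') (repByAlgSpWith_fpMapLeft _ x f y' hx)
    (repByAlgSpWith_fpMapLeft _ x f y' hxs) (FibCat.fpSnd f y') r
  exact ⟨W, u₁, h₁, β₁, ⟨hu₁, hu₁s⟩, hP₁⟩

end Step1


section BaseChangeEquiv

variable {𝒳 𝒴 𝒴' 𝒱 : AlgSt.Cat S} (g : 𝒴' ⥤ᵇ 𝒴) (f : 𝒳 ⥤ᵇ 𝒴) (y' : 𝒱 ⥤ᵇ 𝒴')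

/-- `(𝒴' ×_𝒴 𝒳) ×_{𝒴'} 𝒱 ⟶ 𝒳 ×_𝒴 𝒱`. -/
def fpBaseChange : FibCat.fp (FibCat.fpFst g f) y' ⥤ᵇ FibCat.fp f (BasedFunctor.comp y' g) :=
  BasedFunctor.comp (Groth.Agent.Lib.AlgStRepC.fpSwap (FibCat.fpFst g f) y')
    (BasedFunctor.comp (fpPasteLeft y' g f)
      (Groth.Agent.Lib.AlgStRepC.fpSwap (BasedFunctor.comp y' g) f))

theorem fpBaseChange_isEquivOver : FibCat.IsEquivOver (fpBaseChange g f y') :=
  isEquivOver_comp (Groth.Agent.Lib.AlgStRepC.fpSwap_isEquivOver _ _)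
    (isEquivOver_comp (fpPasteLeft_isEquivOver y' g f)
      (Groth.Agent.Lib.AlgStRepC.fpSwap_isEquivOver _ _))

/-- Compatibility with the projections to `𝒱`. -/
def fpBaseChangeSndIso :
    BasedFunctor.comp (fpBaseChange g f y') (FibCat.fpSnd f (BasedFunctor.comp y' g)) ≅
      FibCat.fpSnd (FibCat.fpFst g f) y' := Iso.refl _

/-- Compatibility with the projections to `𝒳`. -/
def fpBaseChangeFstIso :
    BasedFunctor.comp (fpBaseChange g f y') (FibCat.fpFst f (BasedFunctor.comp y' g)) ≅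
      BasedFunctor.comp (FibCat.fpFst (FibCat.fpFst g f) y') (FibCat.fpSnd g f) := Iso.refl _

end BaseChangeEquiv

section BaseChange

variable {𝒳 𝒴 𝒴' : AlgSt.Cat S} {P : MorphismProperty (AlgSp.Sp S)}

/-- = S13039. -/
theorem locQ_fpFst (hP : AlgSp.IsSmoothLocalST P) (hPb : BaseChangeStable P)
    (h𝒳 : AlgSt.IsAlgStack Scheme.fppfPrecoverage 𝒳)
    (h𝒴 : AlgSt.IsAlgStack Scheme.fppfPrecoverage 𝒴)
    (h𝒴' : AlgSt.IsAlgStack Scheme.fppfPrecoverage 𝒴') (f : 𝒳 ⥤ᵇ 𝒴) (g : 𝒴' ⥤ᵇ 𝒴)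
    (hf : AlgSt.LocQ P f) : AlgSt.LocQ P (FibCat.fpFst g f) := by
  haveI : FibCat.IsFibGrpd 𝒳.p := h𝒳.isStack.1
  haveI : FibCat.IsFibGrpd 𝒴.p := h𝒴.isStack.1
  haveI : FibCat.IsFibGrpd 𝒴'.p := h𝒴'.isStack.1
  have hfp : AlgSt.IsAlgStack Scheme.fppfPrecoverage (FibCat.fp g f) :=
    Groth.Agent.Lib.AlgStFpStack.isAlgStack_fp_of _ h𝒴.isStack h𝒴.diag h𝒴' h𝒳 g f
  haveI : FibCat.IsFibGrpd (FibCat.fp g f).p := hfp.isStack.1
  obtain ⟨V', y', hy', hy's⟩ := h𝒴'.atlas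
  obtain ⟨U', u', h', ib, hu', hu's, hL, hLs⟩ := exists_chart_fp hfp h𝒴' (FibCat.fpFst g f) y'
  haveI : FibCat.IsFibGrpd (FibCat.fp (FibCat.fpFst g f) y').p := fp_isFibGrpd _ _
  haveI : FibCat.IsFibGrpd (FibCat.fp f (BasedFunctor.comp y' g)).p := fp_isFibGrpd _ _
  have hx : IsAtl (BasedFunctor.comp u' (FibCat.fpFst (FibCat.fpFst g f) y')) :=
    IsAtl.comp ⟨hu', hu's⟩ ⟨Groth.Agent.Lib.AlgStRep.repByAlgSpWith_fpFst _ y' _ hy',
      Groth.Agent.Lib.AlgStRep.repByAlgSpWith_fpFst _ y' _ hy's⟩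
  refine ⟨U', V', _, y', h', fpLiftEtaIso (FibCat.fpFst g f) y' u' (AlgSt.overMap h') ib,
    hx.1, hx.2, hy', ?_⟩
  obtain ⟨W₁, u₁, h₁, β₁, hu₁, hP₁⟩ :=
    exists_chart_of_locQ_bc hP hPb f hf (BasedFunctor.comp y' g)
  have hu₂ : IsAtl (BasedFunctor.comp u' (fpBaseChange g f y')) :=
    IsAtl.comp ⟨hu', hu's⟩ (IsAtl.of_isEquivOver _ (fpBaseChange_isEquivOver g f y'))
  exact prop_of_common_chart hP (FibCat.fpSnd f (BasedFunctor.comp y' g)) u₁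
    (BasedFunctor.comp u' (fpBaseChange g f y')) h₁ h' β₁
    (whiskerLeftIso u' (fpBaseChangeSndIso g f y') ≪≫ ib) hu₁.1 hu₁.2 hu₂.1 hP₁

end BaseChange

end Groth.Agent.Lib.AlgStLocQ
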