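import Groth.Agent.Lib.AlgStLocQ6

/-!
# Descent of `LocQ` along covers of the target (helper64)

* `fpCongrLeft`, `fpCongrRight` : the equivalences of 2-fibre products attached to 2-isomorphisms.
* `prop_pullback_snd_of_common_chart` : if `𝒲 ⟶ V'` has a `P`-chart and
  `c : (Sch/U) ×_{(Sch/V)} (Sch/V') ⟶ 𝒲` is smooth over `V'`, then `h_U ×_{h_V} h_{V'} ⟶ h_{V'}`
  has `P`.
* `prop_pullback_snd_of_locQ_fpFst` : the base change of a chart of `f` along a chart of `z` has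
  `P` as soon as `𝒵 ×_𝒴 𝒳 ⟶ 𝒵` has `LocQ P`.
-/

set_option autoImplicit false
set_option linter.style.haveILetI false
set_option backward.isDefEq.respectTransparency false
set_option backward.isDefEq.respectTransparency.types false

namespace Groth.Agent.Lib.AlgStLocQ

open CategoryTheory Functor Opposite Limits AlgebraicGeometry Groth.Agent.Lib.FibGrpd
  Groth.Agent.Lib.FpEquiv Groth.Agent.Lib.EquivOver Groth.Agent.Lib.AlgStFp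
  Groth.Agent.Lib.AlgStRep Groth.Agent.Lib.AlgStSpTest Groth.Agent.Lib.AlgStEquiv
  Groth.Agent.Lib.AlgStAtlas Groth.Agent.Lib.AlgStRepStack Groth.Agent.Lib.AlgSpLocP
  Groth.Agent.Lib.AlgStSrcLocal Groth.Agent.Lib.AlgStSmoothLocal Groth.Agent.Lib.AlgStNoeth
  Groth.Agent.Lib.PshFp Groth.Agent.Lib.FpBaseChange Groth.Agent.Lib.SliceFp AlgSt

universe u

variable {S : Scheme.{u}}

section Congr

variable {𝒳 𝒱 𝒮 : AlgSt.Cat S}

/-- `𝒳 ×_{F,𝒮,G} 𝒱 ⟶ 𝒳 ×_{F,𝒮,G'} 𝒱` for `G ≅ G'`. -/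
def fpCongrRight (F : 𝒳 ⥤ᵇ 𝒮) {G G' : 𝒱 ⥤ᵇ 𝒮} (γ : G ≅ G') : FibCat.fp F G ⥤ᵇ FibCat.fp F G' :=
  fpMap (BasedFunctor.id 𝒳) (BasedFunctor.id 𝒱) (BasedFunctor.id 𝒮)
    (compIdIso F ≪≫ (idCompIso F).symm) (compIdIso G ≪≫ γ ≪≫ (idCompIso G').symm)

theorem fpCongrRight_isEquivOver (F : 𝒳 ⥤ᵇ 𝒮) {G G' : 𝒱 ⥤ᵇ 𝒮} (γ : G ≅ G') :
    FibCat.IsEquivOver (fpCongrRight F γ) := by
  haveI : (BasedFunctor.id 𝒮).toFunctor.Full := id_full
  haveI : (BasedFunctor.id 𝒮).toFunctor.Faithful := id_faithful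
  exact fpMap_isEquivOver _ _ _ _ _ isEquivOver_id isEquivOver_id

def fpCongrRightSndIso (F : 𝒳 ⥤ᵇ 𝒮) {G G' : 𝒱 ⥤ᵇ 𝒮} (γ : G ≅ G') :
    BasedFunctor.comp (fpCongrRight F γ) (FibCat.fpSnd F G') ≅ FibCat.fpSnd F G :=
  compIdIso (FibCat.fpSnd F G)

/-- `𝒳 ×_{F,𝒮,G} 𝒱 ⟶ 𝒳 ×_{F',𝒮,G} 𝒱` for `F ≅ F'`. -/
def fpCongrLeft {F F' : 𝒳 ⥤ᵇ 𝒮} (γ : F ≅ F') (G : 𝒱 ⥤ᵇ 𝒮) : FibCat.fp F G ⥤ᵇ FibCat.fp F' G :=
  fpMap (BasedFunctor.id 𝒳) (BasedFunctor.id 𝒱) (BasedFunctor.id 𝒮)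
    (compIdIso F ≪≫ γ ≪≫ (idCompIso F').symm) (compIdIso G ≪≫ (idCompIso G).symm)

theorem fpCongrLeft_isEquivOver {F F' : 𝒳 ⥤ᵇ 𝒮} (γ : F ≅ F') (G : 𝒱 ⥤ᵇ 𝒮) :
    FibCat.IsEquivOver (fpCongrLeft γ G) := by
  haveI : (BasedFunctor.id 𝒮).toFunctor.Full := id_full
  haveI : (BasedFunctor.id 𝒮).toFunctor.Faithful := id_faithful
  exact fpMap_isEquivOver _ _ _ _ _ isEquivOver_id isEquivOver_id

def fpCongrLeftSndIso {F F' : 𝒳 ⥤ᵇ 𝒮} (γ : F ≅ F') (G : 𝒱 ⥤ᵇ 𝒮) :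
    BasedFunctor.comp (fpCongrLeft γ G) (FibCat.fpSnd F' G) ≅ FibCat.fpSnd F G :=
  compIdIso (FibCat.fpSnd F G)

end Congr

section IsoInv

variable {P : MorphismProperty (AlgSp.Sp S)}

theorem isoInv_of_isSmoothLocalST (hP : AlgSp.IsSmoothLocalST P) : IsoInv P := by
  intro X X' Y hX hX' hY i f h
  have h1 : AlgSp.LocP @Smooth i.inv := by
    refine isoInv_locP @Smooth hX hX' hX i i.inv ?_
    rw [Iso.hom_inv_id]
    exact Groth.Agent.Lib.H69AlgSpLocST.locP_smooth_id hX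
  have h2 := hP.precomp hX' hX hY i.inv (i.hom ≫ f) h1 h
  rwa [Iso.inv_hom_id_assoc] at h2

end IsoInv


section CommonChartSpace

variable {P : MorphismProperty (AlgSp.Sp S)}

/-- The equivalence `h_U ×_{h_V} h_{V'} ≃ (Sch/U) ×_{(Sch/V)} (Sch/V')`. -/
theorem exists_equiv_pullback_yon {U V V' : Over S} (h : U ⟶ V) (k : V' ⟶ V) :
    ∃ (E : AlgSt.ofSp (pullback ((AlgSp.yon S).map h) ((AlgSp.yon S).map k)) ⥤ᵇ
        FibCat.fp (AlgSt.overMap h) (AlgSt.overMap k)), FibCat.IsEquivOver E ∧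
      BasedFunctor.comp E (FibCat.fpSnd (AlgSt.overMap h) (AlgSt.overMap k)) =
        BasedFunctor.comp (AlgSt.ofSpMap (pullback.snd ((AlgSp.yon S).map h) ((AlgSp.yon S).map k)))
          (AlgSt.toOverCat V') := by
  have sq : IsPullback (pullback.fst ((AlgSp.yon S).map h) ((AlgSp.yon S).map k))
      (pullback.snd ((AlgSp.yon S).map h) ((AlgSp.yon S).map k))
      ((AlgSp.yon S).map h) ((AlgSp.yon S).map k) := IsPullback.of_hasPullback _ _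
  have sq' : IsPullback (pullback.fst ((AlgSp.yon S).map h) ((AlgSp.yon S).map k)).hom
      (pullback.snd ((AlgSp.yon S).map h) ((AlgSp.yon S).map k)).hom ((AlgSp.yon S).map h).hom
      ((AlgSp.yon S).map k).hom :=
    sq.map (sheafToPresheaf (AlgSp.J S) (Type (u + 1)))
  obtain ⟨hc1, hc2, -⟩ := ff_ess_of_isEquivOver (AlgSt.toOverCat V) (toOverCat_isEquivOver V)
  haveI := hc1
  haveI := hc2
  let α₁ : BasedFunctor.comp (AlgSt.ofSpMap ((AlgSp.yon S).map h)) (AlgSt.toOverCat V) ≅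
      BasedFunctor.comp (AlgSt.toOverCat U) (AlgSt.overMap h) := Iso.refl _
  let α₂ : BasedFunctor.comp (AlgSt.ofSpMap ((AlgSp.yon S).map k)) (AlgSt.toOverCat V) ≅
      BasedFunctor.comp (AlgSt.toOverCat V') (AlgSt.overMap k) := Iso.refl _
  let M : FibCat.fp (AlgSt.ofSpMap ((AlgSp.yon S).map h)) (AlgSt.ofSpMap ((AlgSp.yon S).map k)) ⥤ᵇ
      FibCat.fp (AlgSt.overMap h) (AlgSt.overMap k) :=
    fpMap (AlgSt.toOverCat U) (AlgSt.toOverCat V') (AlgSt.toOverCat V) α₁ α₂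
  have hM : FibCat.IsEquivOver M :=
    fpMap_isEquivOver _ _ _ _ _ (toOverCat_isEquivOver U) (toOverCat_isEquivOver V')
  exact ⟨BasedFunctor.comp (pshFpFunctor sq'.w) M,
    isEquivOver_comp (pshFpFunctor_isEquivOver_of_isPullback sq') hM, rfl⟩

/-- **Common charts, with an algebraic space.** If `π : 𝒲 ⟶ (Sch/V')` has a smooth surjective
scheme chart mapping to `V'` with `P`, and `c : (Sch/U) ×_{(Sch/V)} (Sch/V') ⟶ 𝒲` is smooth and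
compatible with the projections to `V'`, then `h_U ×_{h_V} h_{V'} ⟶ h_{V'}` has `P`. -/
theorem prop_pullback_snd_of_common_chart (hP : AlgSp.IsSmoothLocalST P) {𝒲 : AlgSt.Cat S}
    {V' : Over S} (π : 𝒲 ⥤ᵇ FibCat.overCat V') {U₁ : Over S} (u₁ : FibCat.overCat U₁ ⥤ᵇ 𝒲)
    (h₁ : U₁ ⟶ V') (β₁ : BasedFunctor.comp u₁ π ≅ AlgSt.overMap h₁) (hu₁ : IsAtl u₁)
    (hP₁ : P ((AlgSp.yon S).map h₁)) {U V : Over S} (h : U ⟶ V) (k : V' ⟶ V)
    (c : FibCat.fp (AlgSt.overMap h) (AlgSt.overMap k) ⥤ᵇ 𝒲)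
    (hc : AlgSt.RepByAlgSpWith (AlgSp.LocP @Smooth) c)
    (γ : BasedFunctor.comp c π ≅ FibCat.fpSnd (AlgSt.overMap h) (AlgSt.overMap k)) :
    P (pullback.snd ((AlgSp.yon S).map h) ((AlgSp.yon S).map k)) := by
  obtain ⟨E, hE, hEsnd⟩ := exists_equiv_pullback_yon h k
  have sq : IsPullback (pullback.fst ((AlgSp.yon S).map h) ((AlgSp.yon S).map k))
      (pullback.snd ((AlgSp.yon S).map h) ((AlgSp.yon S).map k))
      ((AlgSp.yon S).map h) ((AlgSp.yon S).map k) := IsPullback.of_hasPullback _ _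
  have hC : AlgSp.IsAlgSpace (pullback ((AlgSp.yon S).map h) ((AlgSp.yon S).map k)) :=
    Groth.Agent.Lib.AlgSpFibre.isAlgSpace_of_isPullback (AlgSp.IsAlgSpace.yon_obj V).diag
      (AlgSp.IsAlgSpace.yon_obj U) (AlgSp.IsAlgSpace.yon_obj V') sq
  obtain ⟨T, cT, hce, hcs⟩ := hC.atlas
  haveI : FibCat.IsFibGrpd (FibCat.fp (AlgSt.overMap h) (AlgSt.overMap k)).p := fp_isFibGrpd _ _
  set snd := pullback.snd ((AlgSp.yon S).map h) ((AlgSp.yon S).map k) with hsnd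
  let h₂ : T ⟶ V' := (AlgSp.yon S).preimage (cT ≫ snd)
  have hh₂ : (AlgSp.yon S).map h₂ = cT ≫ snd := Functor.map_preimage _ _
  let pre : FibCat.overCat T ⥤ᵇ AlgSt.ofSp (pullback ((AlgSp.yon S).map h) ((AlgSp.yon S).map k)) :=
    BasedFunctor.comp (AlgSt.ofOverCat T) (AlgSt.ofSpMap cT)
  let u₂ : FibCat.overCat T ⥤ᵇ 𝒲 := BasedFunctor.comp (BasedFunctor.comp pre E) c
  have hu₂ : AlgSt.RepByAlgSpWith (AlgSp.LocP @Smooth) u₂ :=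
    repByAlgSpWith_chart_comp _ atlasClass_locP_smooth ⟨_, hC⟩ E hE cT hce hcs c hc
  have e1 : BasedFunctor.comp pre (BasedFunctor.comp (AlgSt.ofSpMap snd) (AlgSt.toOverCat V')) =
      AlgSt.overMap h₂ := by
    show BasedFunctor.comp (AlgSt.ofOverCat T) (BasedFunctor.comp (AlgSt.ofSpMap (cT ≫ snd))
      (AlgSt.toOverCat V')) = _
    rw [← hh₂]
    rfl
  let β₂ : BasedFunctor.comp u₂ π ≅ AlgSt.overMap h₂ :=
    whiskerLeftIso (BasedFunctor.comp pre E) γ ≪≫ whiskerLeftIso pre (eqToIso hEsnd) ≪≫ eqToIso e1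
  have h3 : P ((AlgSp.yon S).map h₂) :=
    prop_of_common_chart hP π u₁ u₂ h₁ h₂ β₁ β₂ hu₁.1 hu₁.2 hu₂ hP₁
  rw [hh₂] at h3
  exact of_smooth_cover_source hP (AlgSp.IsAlgSpace.yon_obj T) hC (AlgSp.IsAlgSpace.yon_obj V') cT
    (atlasClass_locP_smooth.ofChart hC cT hce hcs) (atlasClass_isSurjectiveMor.ofChart hC cT hce hcs)
    snd h3

end CommonChartSpace


section Descent

variable {𝒳 𝒴 𝒵 : AlgSt.Cat S} {P : MorphismProperty (AlgSp.Sp S)}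

/-- **Base change of a chart of `f` along a chart of `z`.** Let `y : V ⟶ 𝒴` be a chart,
`u : U ⟶ 𝒳 ×_𝒴 V` smooth inducing `h : U ⟶ V`, and `v' : V' ⟶ 𝒵 ×_𝒴 V` inducing `k : V' ⟶ V`
with `V' ⟶ 𝒵` smooth. If `𝒵 ×_𝒴 𝒳 ⟶ 𝒵` has `LocQ P`, then `h_U ×_{h_V} h_{V'} ⟶ h_{V'}` has `P`. -/
theorem prop_pullback_snd_of_locQ_fpFst [FibCat.IsFibGrpd 𝒳.p] [FibCat.IsFibGrpd 𝒴.p]
    [FibCat.IsFibGrpd 𝒵.p] (hP : AlgSp.IsSmoothLocalST P) (f : 𝒳 ⥤ᵇ 𝒴) (z : 𝒵 ⥤ᵇ 𝒴)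
    (hF : AlgSt.LocQ P (FibCat.fpFst z f)) {U V V' : Over S} (y : FibCat.overCat V ⥤ᵇ 𝒴)
    (u : FibCat.overCat U ⥤ᵇ FibCat.fp f y) (hu : AlgSt.RepByAlgSpWith (AlgSp.LocP @Smooth) u)
    (h : U ⟶ V) (ib : BasedFunctor.comp u (FibCat.fpSnd f y) ≅ AlgSt.overMap h)
    (v' : FibCat.overCat V' ⥤ᵇ FibCat.fp z y) (k : V' ⟶ V)
    (ibk : BasedFunctor.comp v' (FibCat.fpSnd z y) ≅ AlgSt.overMap k)
    (hyz : AlgSt.RepByAlgSpWith (AlgSp.LocP @Smooth) (BasedFunctor.comp v' (FibCat.fpFst z y))) :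
    P (pullback.snd ((AlgSp.yon S).map h) ((AlgSp.yon S).map k)) := by
  haveI : FibCat.IsFibGrpd (FibCat.fp z f).p := fp_isFibGrpd _ _
  haveI : FibCat.IsFibGrpd (FibCat.overCat U).p := overCat_isFibGrpd U
  haveI : FibCat.IsFibGrpd (FibCat.overCat V).p := overCat_isFibGrpd V
  haveI : FibCat.IsFibGrpd (FibCat.overCat V').p := overCat_isFibGrpd V'
  let yz : FibCat.overCat V' ⥤ᵇ 𝒵 := BasedFunctor.comp v' (FibCat.fpFst z y)
  let αz : BasedFunctor.comp yz z ≅ BasedFunctor.comp (AlgSt.overMap k) y :=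
    fpLiftEtaIso z y v' (AlgSt.overMap k) ibk
  obtain ⟨W₁, u₁, h₁, β₁, hu₁, hP₁⟩ := exists_chart_of_locQ hP (FibCat.fpFst z f) hF yz hyz
  haveI : FibCat.IsFibGrpd (FibCat.fp (FibCat.fpFst z f) yz).p := fp_isFibGrpd _ _
  haveI : FibCat.IsFibGrpd (FibCat.fp f (BasedFunctor.comp yz z)).p := fp_isFibGrpd _ _
  have hu₁' : IsAtl (BasedFunctor.comp u₁ (fpBaseChange z f yz)) :=
    IsAtl.comp hu₁ (IsAtl.of_isEquivOver _ (fpBaseChange_isEquivOver z f yz))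
  let c₁ : FibCat.fp (AlgSt.overMap h) (AlgSt.overMap k) ⥤ᵇ
      FibCat.fp (BasedFunctor.comp u (FibCat.fpSnd f y)) (AlgSt.overMap k) :=
    fpCongrLeft ib.symm (AlgSt.overMap k)
  let c₂ : FibCat.fp (BasedFunctor.comp u (FibCat.fpSnd f y)) (AlgSt.overMap k) ⥤ᵇ
      FibCat.fp (FibCat.fpSnd f y) (AlgSt.overMap k) :=
    fpMapLeft u (FibCat.fpSnd f y) (AlgSt.overMap k)
  let c₃ : FibCat.fp (FibCat.fpSnd f y) (AlgSt.overMap k) ⥤ᵇ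
      FibCat.fp f (BasedFunctor.comp (AlgSt.overMap k) y) :=
    fpPasteRight f y (AlgSt.overMap k)
  let c₄ : FibCat.fp f (BasedFunctor.comp (AlgSt.overMap k) y) ⥤ᵇ
      FibCat.fp f (BasedFunctor.comp yz z) := fpCongrRight f αz.symm
  haveI : FibCat.IsFibGrpd (FibCat.fp (AlgSt.overMap h) (AlgSt.overMap k)).p := fp_isFibGrpd _ _
  haveI : FibCat.IsFibGrpd
      (FibCat.fp (BasedFunctor.comp u (FibCat.fpSnd f y)) (AlgSt.overMap k)).p := fp_isFibGrpd _ _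
  haveI : FibCat.IsFibGrpd (FibCat.fp f y).p := fp_isFibGrpd _ _
  haveI : FibCat.IsFibGrpd (FibCat.fp (FibCat.fpSnd f y) (AlgSt.overMap k)).p := fp_isFibGrpd _ _
  haveI : FibCat.IsFibGrpd (FibCat.fp f (BasedFunctor.comp (AlgSt.overMap k) y)).p :=
    fp_isFibGrpd _ _
  have hc₁ : AlgSt.RepByAlgSpWith (AlgSp.LocP @Smooth) c₁ :=
    (IsAtl.of_isEquivOver _ (fpCongrLeft_isEquivOver ib.symm (AlgSt.overMap k))).1
  have hc₂ : AlgSt.RepByAlgSpWith (AlgSp.LocP @Smooth) c₂ :=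
    repByAlgSpWith_fpMapLeft _ u (FibCat.fpSnd f y) (AlgSt.overMap k) hu
  have hc₃ : AlgSt.RepByAlgSpWith (AlgSp.LocP @Smooth) c₃ :=
    (IsAtl.of_isEquivOver _ (fpPasteRight_isEquivOver f y (AlgSt.overMap k))).1
  have hc₄ : AlgSt.RepByAlgSpWith (AlgSp.LocP @Smooth) c₄ :=
    (IsAtl.of_isEquivOver _ (fpCongrRight_isEquivOver f αz.symm)).1
  have hc : AlgSt.RepByAlgSpWith (AlgSp.LocP @Smooth)
      (BasedFunctor.comp c₁ (BasedFunctor.comp c₂ (BasedFunctor.comp c₃ c₄))) :=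
    repByAlgSpWith_comp_atlasClass _ atlasClass_locP_smooth _ _ hc₁
      (repByAlgSpWith_comp_atlasClass _ atlasClass_locP_smooth _ _ hc₂
        (repByAlgSpWith_comp_atlasClass _ atlasClass_locP_smooth _ _ hc₃ hc₄))
  let γ : BasedFunctor.comp (BasedFunctor.comp c₁ (BasedFunctor.comp c₂ (BasedFunctor.comp c₃ c₄)))
      (FibCat.fpSnd f (BasedFunctor.comp yz z)) ≅
      FibCat.fpSnd (AlgSt.overMap h) (AlgSt.overMap k) := Iso.refl _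
  exact prop_pullback_snd_of_common_chart hP (FibCat.fpSnd f (BasedFunctor.comp yz z))
    (BasedFunctor.comp u₁ (fpBaseChange z f yz)) h₁
    (whiskerLeftIso u₁ (fpBaseChangeSndIso z f yz) ≪≫ β₁) hu₁' hP₁ h k _ hc γ

end Descent

end Groth.Agent.Lib.AlgStLocQ
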