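import Groth.Agent.Lib.AlgStLocQ7
import Groth.Agent.Lib.AlgStLocLift
import Groth.Agent.Lib.AlgSpSrcCover3

/-!
# Descent of `LocQ` along fppf covers of the target (helper64)

* `exists_descent_data` : common chart data for `f : 𝒳 ⟶ 𝒴` and `z : 𝒵 ⟶ 𝒴`.
* `locQ_of_locQ_fpFst_of_fppf` (= S12994).
* `locQ_flat_of_locQ_fpFst` (= S13003).
-/

set_option autoImplicit false
set_option linter.style.haveILetI false
set_option backward.isDefEq.respectTransparency false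
set_option backward.isDefEq.respectTransparency.types false

namespace Groth.Agent.Lib.AlgStLocQ

open CategoryTheory Functor Opposite Limits AlgebraicGeometry Groth.Agent.Lib.FibGrpd
  Groth.Agent.Lib.FpEquiv Groth.Agent.Lib.EquivOver Groth.Agent.Lib.AlgStFp
  Groth.Agent.Lib.AlgStRep Groth.Agent.Lib.AlgStSpTest Groth.Agent.Lib.AlgStEquiv
  Groth.Agent.Lib.AlgStAtlas Groth.Agent.Lib.AlgStRepStack Groth.Agent.Lib.AlgSpLocP
  Groth.Agent.Lib.AlgStSrcLocal Groth.Agent.Lib.AlgStSmoothLocal Groth.Agent.Lib.AlgStNoeth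
  Groth.Agent.Lib.PshFp Groth.Agent.Lib.FpBaseChange Groth.Agent.Lib.SliceFp AlgSt

universe u

variable {S : Scheme.{u}} {𝒳 𝒴 𝒵 : AlgSt.Cat S} {P : MorphismProperty (AlgSp.Sp S)}

/-- **Chart data for descent.** For `f : 𝒳 ⟶ 𝒴` and `z : 𝒵 ⟶ 𝒴`: an atlas `y : V ⟶ 𝒴`, a chart
square `(U, V, x, y, h)` of `f` and a chart square `(V', V, yz, y, k)` of `z` (all comparison
functors atlases) such that `P (h_U ×_{h_V} h_{V'} ⟶ h_{V'})` whenever `𝒵 ×_𝒴 𝒳 ⟶ 𝒵` has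
`LocQ P`, for every `P` smooth local on source-and-target. -/
theorem exists_descent_data (h𝒳 : AlgSt.IsAlgStack Scheme.fppfPrecoverage 𝒳)
    (h𝒴 : AlgSt.IsAlgStack Scheme.fppfPrecoverage 𝒴)
    (h𝒵 : AlgSt.IsAlgStack Scheme.fppfPrecoverage 𝒵) (f : 𝒳 ⥤ᵇ 𝒴) (z : 𝒵 ⥤ᵇ 𝒴) :
    ∃ (U V V' : Over S) (x : FibCat.overCat U ⥤ᵇ 𝒳) (y : FibCat.overCat V ⥤ᵇ 𝒴)
      (yz : FibCat.overCat V' ⥤ᵇ 𝒵) (h : U ⟶ V) (k : V' ⟶ V)
      (α : BasedFunctor.comp x f ≅ BasedFunctor.comp (AlgSt.overMap h) y)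
      (αz : BasedFunctor.comp yz z ≅ BasedFunctor.comp (AlgSt.overMap k) y),
      IsAtl x ∧ IsAtl y ∧ IsAtl yz ∧ IsAtl (FibCat.fpLift x (AlgSt.overMap h) α) ∧
      IsAtl (FibCat.fpLift yz (AlgSt.overMap k) αz) ∧
      ∀ (P : MorphismProperty (AlgSp.Sp S)), AlgSp.IsSmoothLocalST P →
        AlgSt.LocQ P (FibCat.fpFst z f) →
        P (pullback.snd ((AlgSp.yon S).map h) ((AlgSp.yon S).map k)) := by
  haveI : FibCat.IsFibGrpd 𝒳.p := h𝒳.isStack.1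
  haveI : FibCat.IsFibGrpd 𝒴.p := h𝒴.isStack.1
  haveI : FibCat.IsFibGrpd 𝒵.p := h𝒵.isStack.1
  obtain ⟨V, y, hy, hys⟩ := h𝒴.atlas
  obtain ⟨U, u, h, ib, hu, hus, hL, hLs⟩ := exists_chart_fp h𝒳 h𝒴 f y
  obtain ⟨V', v', k, ibk, hv', hv's, hLk, hLks⟩ := exists_chart_fp h𝒵 h𝒴 z y
  haveI : FibCat.IsFibGrpd (FibCat.fp f y).p := fp_isFibGrpd _ _
  haveI : FibCat.IsFibGrpd (FibCat.fp z y).p := fp_isFibGrpd _ _
  have hx : IsAtl (BasedFunctor.comp u (FibCat.fpFst f y)) :=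
    IsAtl.comp ⟨hu, hus⟩ ⟨Groth.Agent.Lib.AlgStRep.repByAlgSpWith_fpFst _ y f hy,
      Groth.Agent.Lib.AlgStRep.repByAlgSpWith_fpFst _ y f hys⟩
  have hyz : IsAtl (BasedFunctor.comp v' (FibCat.fpFst z y)) :=
    IsAtl.comp ⟨hv', hv's⟩ ⟨Groth.Agent.Lib.AlgStRep.repByAlgSpWith_fpFst _ y z hy,
      Groth.Agent.Lib.AlgStRep.repByAlgSpWith_fpFst _ y z hys⟩
  exact ⟨U, V, V', _, y, _, h, k, fpLiftEtaIso f y u (AlgSt.overMap h) ib,
    fpLiftEtaIso z y v' (AlgSt.overMap k) ibk, hx, ⟨hy, hys⟩, hyz, ⟨hL, hLs⟩, ⟨hLk, hLks⟩,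
    fun P hP hF => prop_pullback_snd_of_locQ_fpFst hP f z hF y u hu h ib v' k ibk hyz.1⟩

/-- = S12994. -/
theorem locQ_of_locQ_fpFst_of_fppf (hP : AlgSp.IsSmoothLocalST P)
    (hP₂ : AlgSp.IsLocalOnBase AlgSp.IsFppfCover P)
    (h𝒳 : AlgSt.IsAlgStack Scheme.fppfPrecoverage 𝒳)
    (h𝒴 : AlgSt.IsAlgStack Scheme.fppfPrecoverage 𝒴)
    (h𝒵 : AlgSt.IsAlgStack Scheme.fppfPrecoverage 𝒵) (f : 𝒳 ⥤ᵇ 𝒴) (z : 𝒵 ⥤ᵇ 𝒴)
    (hz₁ : AlgSt.LocQ (AlgSp.LocP @Flat) z)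
    (hz₂ : AlgSt.LocQ (AlgSp.LocP @LocallyOfFinitePresentation) z)
    (hz₃ : AlgSt.IsSurjective z) (hF : AlgSt.LocQ P (FibCat.fpFst z f)) : AlgSt.LocQ P f := by
  haveI : FibCat.IsFibGrpd 𝒳.p := h𝒳.isStack.1
  haveI : FibCat.IsFibGrpd 𝒴.p := h𝒴.isStack.1
  haveI : FibCat.IsFibGrpd 𝒵.p := h𝒵.isStack.1
  obtain ⟨U, V, V', x, y, yz, h, k, α, αz, hx, hy, hyz, hL, hLk, H⟩ :=
    exists_descent_data h𝒳 h𝒴 h𝒵 f z
  refine ⟨U, V, x, y, h, α, hx.1, hx.2, hy.1, ?_⟩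
  have hk1 : AlgSp.LocP @Flat ((AlgSp.yon S).map k) :=
    prop_of_locQ_of_square Groth.Agent.Lib.AlgSpSmLocalST.isSmoothLocalST_locP_flat z hz₁ yz y k αz
      hy.1 hLk.1
  have hk2 : AlgSp.LocP @LocallyOfFinitePresentation ((AlgSp.yon S).map k) :=
    prop_of_locQ_of_square Groth.Agent.Lib.AlgSpSmLocalST.isSmoothLocalST_locP_lfp z hz₂ yz y k αz
      hy.1 hLk.1
  have hk3 : Function.Surjective k.left := surjective_of_square z hz₃ yz y k αz hLk.2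
  have hcov : AlgSp.IsFppfCover (fun _ : PUnit.{u + 1} => (AlgSp.yon S).obj V')
      (fun _ => (AlgSp.yon S).map k) :=
    Groth.Agent.Lib.AlgStLocLift.isFppfCover_yon_map (fun _ => V') (fun _ => k)
      (fun _ => (locP_yon_map_iff etLocalClass_flat k).1 hk1)
      (fun _ => (locP_yon_map_iff etLocalClass_lfp k).1 hk2) (fun v => ⟨⟨⟩, hk3 v⟩)
  have hC : AlgSp.IsAlgSpace (pullback ((AlgSp.yon S).map h) ((AlgSp.yon S).map k)) :=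
    Groth.Agent.Lib.AlgSpFibre.isAlgSpace_of_isPullback (AlgSp.IsAlgSpace.yon_obj V).diag
      (AlgSp.IsAlgSpace.yon_obj U) (AlgSp.IsAlgSpace.yon_obj V') (IsPullback.of_hasPullback _ _)
  exact (hP₂ (fun _ => (AlgSp.yon S).obj V') (fun _ => (AlgSp.yon S).map k)
    (AlgSp.IsAlgSpace.yon_obj V) (fun _ => AlgSp.IsAlgSpace.yon_obj V') hcov ((AlgSp.yon S).map h)
    (AlgSp.IsAlgSpace.yon_obj U) (fun _ => pullback ((AlgSp.yon S).map h) ((AlgSp.yon S).map k))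
    (fun _ => pullback.snd _ _) (fun _ => pullback.fst _ _) (fun _ => hC)
    (fun _ => IsPullback.of_hasPullback _ _)).2 (fun _ => H P hP hF)


/-- The functor of a surjective morphism of schemes is surjective on points. -/
theorem isSurjectiveMor_yon_map {U V : Over S} (k : U ⟶ V) (hk : Function.Surjective k.left) :
    AlgSp.IsSurjectiveMor ((AlgSp.yon S).map k) := by
  intro x
  obtain ⟨v, rfl⟩ := (AlgSp.Points.schemeHomeo V).surjective x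
  obtain ⟨t, ht⟩ := hk v
  exact ⟨AlgSp.Points.schemeHomeo U t, by rw [AlgSp.Points.map_yon_map_apply, ht]⟩

/-- = S13003. -/
theorem locQ_flat_of_locQ_fpFst (h𝒳 : AlgSt.IsAlgStack Scheme.fppfPrecoverage 𝒳)
    (h𝒴 : AlgSt.IsAlgStack Scheme.fppfPrecoverage 𝒴)
    (h𝒵 : AlgSt.IsAlgStack Scheme.fppfPrecoverage 𝒵) (f : 𝒳 ⥤ᵇ 𝒴) (z : 𝒵 ⥤ᵇ 𝒴)
    (hz₁ : AlgSt.LocQ (AlgSp.LocP @Flat) z) (hz₂ : AlgSt.IsSurjective z)
    (hF : AlgSt.LocQ (AlgSp.LocP @Flat) (FibCat.fpFst z f)) : AlgSt.LocQ (AlgSp.LocP @Flat) f := by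
  haveI : FibCat.IsFibGrpd 𝒳.p := h𝒳.isStack.1
  haveI : FibCat.IsFibGrpd 𝒴.p := h𝒴.isStack.1
  haveI : FibCat.IsFibGrpd 𝒵.p := h𝒵.isStack.1
  obtain ⟨U, V, V', x, y, yz, h, k, α, αz, hx, hy, hyz, hL, hLk, H⟩ :=
    exists_descent_data h𝒳 h𝒴 h𝒵 f z
  refine ⟨U, V, x, y, h, α, hx.1, hx.2, hy.1, ?_⟩
  have hk1 : AlgSp.LocP @Flat ((AlgSp.yon S).map k) :=
    prop_of_locQ_of_square Groth.Agent.Lib.AlgSpSmLocalST.isSmoothLocalST_locP_flat z hz₁ yz y k αz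
      hy.1 hLk.1
  have hk3 : Function.Surjective k.left := surjective_of_square z hz₂ yz y k αz hLk.2
  have hsnd := H _ Groth.Agent.Lib.AlgSpSmLocalST.isSmoothLocalST_locP_flat hF
  have sq : IsPullback (pullback.fst ((AlgSp.yon S).map h) ((AlgSp.yon S).map k))
      (pullback.snd ((AlgSp.yon S).map h) ((AlgSp.yon S).map k))
      ((AlgSp.yon S).map h) ((AlgSp.yon S).map k) := IsPullback.of_hasPullback _ _
  have hC : AlgSp.IsAlgSpace (pullback ((AlgSp.yon S).map h) ((AlgSp.yon S).map k)) :=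
    Groth.Agent.Lib.AlgSpFibre.isAlgSpace_of_isPullback (AlgSp.IsAlgSpace.yon_obj V).diag
      (AlgSp.IsAlgSpace.yon_obj U) (AlgSp.IsAlgSpace.yon_obj V') sq
  have hfst : AlgSp.LocP @Flat (pullback.fst ((AlgSp.yon S).map h) ((AlgSp.yon S).map k)) :=
    locP_of_isPullback etLocalClass_flat (AlgSp.IsAlgSpace.yon_obj V') (AlgSp.IsAlgSpace.yon_obj V)
      (AlgSp.IsAlgSpace.yon_obj U) sq.flip hk1
  have hfsts : AlgSp.IsSurjectiveMor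
      (pullback.fst ((AlgSp.yon S).map h) ((AlgSp.yon S).map k)) :=
    atlasClass_isSurjectiveMor.baseChange (AlgSp.IsAlgSpace.yon_obj V')
      (AlgSp.IsAlgSpace.yon_obj V) hC (AlgSp.IsAlgSpace.yon_obj U) _ _ _ _ sq.flip
      (isSurjectiveMor_yon_map k hk3)
  have hcomp : AlgSp.LocP @Flat (pullback.fst ((AlgSp.yon S).map h) ((AlgSp.yon S).map k) ≫
      (AlgSp.yon S).map h) := by
    rw [pullback.condition]
    exact locP_comp etLocalClass_flat hC (AlgSp.IsAlgSpace.yon_obj V')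
      (AlgSp.IsAlgSpace.yon_obj V) hsnd hk1
  exact (Groth.Agent.Lib.AlgSpSrcCover.isLocalOnSource_locP (P := @Flat) (Q := @Flat)
    Groth.Agent.Lib.AlgSpSrcCover.covClass_flat
    (fun _ : PUnit.{u + 1} => pullback ((AlgSp.yon S).map h) ((AlgSp.yon S).map k))
    (fun _ => pullback.fst _ _) (AlgSp.IsAlgSpace.yon_obj U) (fun _ => hC)
    ⟨fun _ => hfst, fun x => ⟨⟨⟩, hfsts x⟩⟩ ((AlgSp.yon S).map h)
    (AlgSp.IsAlgSpace.yon_obj V)).2 (fun _ => hcomp)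

end Groth.Agent.Lib.AlgStLocQ
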