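import Groth.Agent.Lib.AlgStLocQ8
import Groth.Agent.Lib.AlgStDiagQS

/-!
# Descent of `LocQ lft` along an fppf cover by an algebraic space (helper64)

* `locQ_of_repByAlgSpWith_locP` : for representable `w`, `RepByAlgSpWith (LocP Q) w → LocQ (LocP Q) w`
  for `Q` = flat, lfp.
* `locQ_lft_of_fpFst_space_cover` (= S13000).
-/

set_option autoImplicit false
set_option linter.style.haveILetI false
set_option backward.isDefEq.respectTransparency false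
set_option backward.isDefEq.respectTransparency.types false

namespace Groth.Agent.Lib.AlgStLocQ

open CategoryTheory Functor Opposite Limits AlgebraicGeometry Groth.Agent.Lib.FibGrpd
  Groth.Agent.Lib.FpEquiv Groth.Agent.Lib.EquivOver Groth.Agent.Lib.AlgStFp
  Groth.Agent.Lib.AlgStRep Groth.Agent.Lib.AlgStSpTest Groth.Agent.Lib.AlgStEquiv
  Groth.Agent.Lib.AlgStAtlas Groth.Agent.Lib.AlgStRepStack Groth.Agent.Lib.AlgSpLocP
  Groth.Agent.Lib.AlgStSrcLocal Groth.Agent.Lib.AlgStSmoothLocal Groth.Agent.Lib.AlgStNoeth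
  Groth.Agent.Lib.PshFp Groth.Agent.Lib.FpBaseChange Groth.Agent.Lib.SliceFp AlgSt

universe u

variable {S : Scheme.{u}} {𝒳 𝒴 : AlgSt.Cat S}

theorem isAlgStack_ofSp (W : AlgSp.Space S) :
    AlgSt.IsAlgStack Scheme.fppfPrecoverage (AlgSt.ofSp W.obj) :=
  (isDM_of_repByAlgSp ⟨W, BasedFunctor.id _, isEquivOver_id⟩).1

theorem baseChangeStable_locP {Q : MorphismProperty Scheme.{u}} (hQ : EtLocalClass Q)
    [Q.DescendsAlong Groth.Agent.Lib.AlgSpBasic.etCov] :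
    BaseChangeStable (AlgSp.LocP (S := S) Q) :=
  fun _ _ _ _ hX₁ hY₁ _ hY₂ _ _ _ _ sq h => locP_of_isPullback hQ hX₁ hY₁ hY₂ sq h

/-- For a representable morphism of algebraic stacks, `RepByAlgSpWith (LocP Q)` gives
`LocQ (LocP Q)`. -/
theorem locQ_of_repByAlgSpWith_locP {Q : MorphismProperty Scheme.{u}} (hQ : EtLocalClass Q)
    [Q.DescendsAlong Groth.Agent.Lib.AlgSpBasic.etCov]
    (hQs : AlgSp.IsSmoothLocalST (AlgSp.LocP (S := S) Q))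
    (hQb : AlgSp.IsLocalOnBase (AlgSp.IsFpqcCover (S := S)) (AlgSp.LocP Q))
    {𝒵 : AlgSt.Cat S} (h𝒵 : AlgSt.IsAlgStack Scheme.fppfPrecoverage 𝒵)
    (h𝒴 : AlgSt.IsAlgStack Scheme.fppfPrecoverage 𝒴) (w : 𝒵 ⥤ᵇ 𝒴)
    (hw : AlgSt.RepByAlgSpWith (AlgSp.LocP Q) w) : AlgSt.LocQ (AlgSp.LocP Q) w :=
  (locQ_iff_repByAlgSpWith hQs (baseChangeStable_locP hQ)
    (Groth.Agent.Lib.AlgStDiagQS.isLocalOnBase_fppf_of_fpqc hQb) h𝒵 h𝒴 w
    (Groth.Agent.Lib.AlgStPtsQC.repByAlgSp1_of_repByAlgSpWith w hw)).2 hw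

/-- = S13000. -/
theorem locQ_lft_of_fpFst_space_cover (h𝒳 : AlgSt.IsAlgStack Scheme.fppfPrecoverage 𝒳)
    (h𝒴 : AlgSt.IsAlgStack Scheme.fppfPrecoverage 𝒴) (f : 𝒳 ⥤ᵇ 𝒴) (W : AlgSp.Space S)
    (w : AlgSt.ofSp W.obj ⥤ᵇ 𝒴) (hw₁ : AlgSt.RepByAlgSpWith (AlgSp.LocP @Flat) w)
    (hw₂ : AlgSt.RepByAlgSpWith (AlgSp.LocP @LocallyOfFinitePresentation) w)
    (hw₃ : AlgSt.RepByAlgSpWith AlgSp.IsSurjectiveMor w)
    (hF : AlgSt.LocQ (AlgSp.LocP @LocallyOfFiniteType) (FibCat.fpFst w f)) :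
    AlgSt.LocQ (AlgSp.LocP @LocallyOfFiniteType) f := by
  haveI : FibCat.IsFibGrpd 𝒴.p := h𝒴.isStack.1
  have hW := isAlgStack_ofSp W
  exact locQ_of_locQ_fpFst_of_fppf Groth.Agent.Lib.AlgSpSmLocalST.isSmoothLocalST_locP_lft
    (Groth.Agent.Lib.AlgStDiagQS.isLocalOnBase_fppf_of_fpqc
      Groth.Agent.Lib.AlgSpFpqc.isLocalOnBase_fpqc_locP_locallyOfFiniteType) h𝒳 h𝒴 hW f w
    (locQ_of_repByAlgSpWith_locP etLocalClass_flat
      Groth.Agent.Lib.AlgSpSmLocalST.isSmoothLocalST_locP_flat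
      Groth.Agent.Lib.AlgSpFpqc.isLocalOnBase_fpqc_locP_flat hW h𝒴 w hw₁)
    (locQ_of_repByAlgSpWith_locP etLocalClass_lfp
      Groth.Agent.Lib.AlgSpSmLocalST.isSmoothLocalST_locP_lfp
      Groth.Agent.Lib.AlgSpFpqc.isLocalOnBase_fpqc_locP_locallyOfFinitePresentation hW h𝒴 w hw₂)
    (Groth.Agent.Lib.AlgStPtsSurj.isSurjective_of_repByAlgSpWith w hw₃) hF

end Groth.Agent.Lib.AlgStLocQ
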