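import Groth.Agent.Lib.AlgStLocQPts
import Groth.Agent.Lib.AlgStDescent

/-!
# Flat, locally finitely presented, surjective covers by algebraic stacks (helper36)

* `exists_fppf_chart_of_locQ` : a `LocQ`-flat, `LocQ`-lfp, surjective `z : 𝒵 ⟶ 𝒴` is refined by a
  scheme chart `U ⟶ 𝒵 ⟶ 𝒴` which is representable, flat, lfp and surjective.
* `isQuasiCompactMor_of_fpFst_of_fppf` (= S13009), `repByAlgSpWith_iff_fpFst_of_fppf` (= S12995).
-/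

set_option autoImplicit false
set_option linter.style.haveILetI false
set_option backward.isDefEq.respectTransparency false
set_option backward.isDefEq.respectTransparency.types false

namespace Groth.Agent.Lib.AlgStLocQCover

open CategoryTheory Functor Opposite Limits AlgebraicGeometry Groth.Agent.Lib.FibGrpd
  Groth.Agent.Lib.FpEquiv Groth.Agent.Lib.EquivOver Groth.Agent.Lib.AlgStFp
  Groth.Agent.Lib.AlgStRep Groth.Agent.Lib.AlgStSpTest Groth.Agent.Lib.AlgStEquiv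
  Groth.Agent.Lib.AlgStAtlas Groth.Agent.Lib.AlgStRepStack Groth.Agent.Lib.AlgSpLocP
  Groth.Agent.Lib.AlgStSrcLocal Groth.Agent.Lib.AlgStSmoothLocal Groth.Agent.Lib.AlgStNoeth
  Groth.Agent.Lib.PshFp Groth.Agent.Lib.FpBaseChange Groth.Agent.Lib.AlgStLocQ
  Groth.Agent.Lib.AlgStPts Groth.Agent.Lib.AlgStPtsQC Groth.Agent.Lib.AlgStPtsQC2
  Groth.Agent.Lib.AlgStPtsSurj Groth.Agent.Lib.AlgStPtsMain
  Groth.Agent.Lib.AlgSpSmoothLocalST Groth.Agent.Lib.AlgStLocQPts AlgSt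

universe u

variable {S : Scheme.{u}} {𝒳 𝒴 𝒵 : AlgSt.Cat S}

/-- A flat, lfp, surjective morphism of algebraic stacks is refined by a representable flat lfp
surjective scheme chart. -/
theorem exists_fppf_chart_of_locQ (h𝒵 : AlgSt.IsAlgStack Scheme.fppfPrecoverage 𝒵)
    (h𝒴 : AlgSt.IsAlgStack Scheme.fppfPrecoverage 𝒴) (z : 𝒵 ⥤ᵇ 𝒴)
    (hz₁ : AlgSt.LocQ (AlgSp.LocP @Flat) z)
    (hz₂ : AlgSt.LocQ (AlgSp.LocP @LocallyOfFinitePresentation) z)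
    (hz₃ : AlgSt.IsSurjective z) :
    ∃ (U : Over S) (x : FibCat.overCat U ⥤ᵇ 𝒵),
      AlgSt.RepByAlgSpWith (AlgSp.LocP @Smooth) x ∧ AlgSt.RepByAlgSpWith AlgSp.IsSurjectiveMor x ∧
      AlgSt.RepByAlgSpWith (AlgSp.LocP @Flat) (BasedFunctor.comp x z) ∧
      AlgSt.RepByAlgSpWith (AlgSp.LocP @LocallyOfFinitePresentation) (BasedFunctor.comp x z) ∧
      AlgSt.RepByAlgSpWith AlgSp.IsSurjectiveMor (BasedFunctor.comp x z) := by
  haveI : FibCat.IsFibGrpd 𝒵.p := h𝒵.isStack.1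
  haveI : FibCat.IsFibGrpd 𝒴.p := h𝒴.isStack.1
  obtain ⟨U, V, x, y, h, α, hx, hxs, hy, -, -, hfl, hlfp⟩ :=
    exists_square_of_locQ₂ isSmoothLocalST_locP_flat isSmoothLocalST_locP_lfp h𝒵 h𝒴 z hz₁ hz₂
  haveI : FibCat.IsFibGrpd (FibCat.overCat V).p := overCat_isFibGrpd V
  haveI : FibCat.IsFibGrpd (FibCat.overCat U).p := overCat_isFibGrpd U
  have hyfl := flatLfp_repByAlgSpWith_of_smooth y hy
  have h1 : AlgSt.RepByAlgSpWith (AlgSp.LocP @Flat) (BasedFunctor.comp (AlgSt.overMap h) y) :=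
    repByAlgSpWith_comp _ atlasClass_locP_flat.isoInv atlasClass_locP_flat.atlasLocal
      atlasClass_locP_flat.comp _ y
      (repByAlgSpWith_overMap _ atlasClass_locP_flat.baseChange h hfl) hyfl.1
  have h2 : AlgSt.RepByAlgSpWith (AlgSp.LocP @LocallyOfFinitePresentation)
      (BasedFunctor.comp (AlgSt.overMap h) y) :=
    repByAlgSpWith_comp _ atlasClass_locP_lfp.isoInv atlasClass_locP_lfp.atlasLocal
      atlasClass_locP_lfp.comp _ y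
      (repByAlgSpWith_overMap _ atlasClass_locP_lfp.baseChange h hlfp) hyfl.2
  have h1' : AlgSt.RepByAlgSpWith (AlgSp.LocP @Flat) (BasedFunctor.comp x z) :=
    (Groth.Agent.Lib.AlgStDiag3.repByAlgSpWith_congr _ α).1 h1
  have h2' : AlgSt.RepByAlgSpWith (AlgSp.LocP @LocallyOfFinitePresentation)
      (BasedFunctor.comp x z) :=
    (Groth.Agent.Lib.AlgStDiag3.repByAlgSpWith_congr _ α).1 h2
  have h3 : AlgSt.IsSurjective (BasedFunctor.comp x z) :=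
    isSurjective_comp x z (isSurjective_of_repByAlgSpWith x hxs) hz₃
  exact ⟨U, x, hx, hxs, h1', h2',
    repByAlgSpWith_isSurjectiveMor_of_isSurjective _ (repByAlgSp1_of_repByAlgSpWith _ h1') h3⟩

/-- Quasi-compactness descends along a representable fppf cover `w` factoring through `z`, when the
base change of `f` to `𝒵` is quasi-compact. -/
theorem isQuasiCompactMor_of_fpFst_cover_factor {𝒲 : AlgSt.Cat S}
    (h𝒳 : IsAlgStack Scheme.fppfPrecoverage 𝒳) (h𝒴 : IsAlgStack Scheme.fppfPrecoverage 𝒴)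
    (f : 𝒳 ⥤ᵇ 𝒴) (h𝒲 : IsAlgStack Scheme.fppfPrecoverage 𝒲) (x : 𝒲 ⥤ᵇ 𝒵) (z : 𝒵 ⥤ᵇ 𝒴)
    (hw₁ : RepByAlgSpWith (AlgSp.LocP @Flat) (BasedFunctor.comp x z))
    (hw₂ : RepByAlgSpWith (AlgSp.LocP @LocallyOfFinitePresentation) (BasedFunctor.comp x z))
    (hw₃ : RepByAlgSpWith AlgSp.IsSurjectiveMor (BasedFunctor.comp x z))
    (h : IsQuasiCompactMor Scheme.fppfPrecoverage (FibCat.fpFst z f)) :
    IsQuasiCompactMor Scheme.fppfPrecoverage f := by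
  intro 𝒯 h𝒯 hqc g
  haveI := h𝒳.isStack.1
  haveI := h𝒴.isStack.1
  haveI := h𝒯.isStack.1
  haveI := h𝒲.isStack.1
  let w : 𝒲 ⥤ᵇ 𝒴 := BasedFunctor.comp x z
  have h𝒫 : IsAlgStack Scheme.fppfPrecoverage (FibCat.fp g w) :=
    Groth.Agent.Lib.AlgStFpStack.isAlgStack_fp_of _ h𝒴.isStack h𝒴.diag h𝒯 h𝒲 g w
  haveI := h𝒫.isStack.1
  obtain ⟨V, Y, hY1, hY2⟩ := h𝒫.atlas
  have hYfl := flatLfp_repByAlgSpWith_of_smooth Y hY1
  have hπ₁ := Groth.Agent.Lib.AlgStRep.repByAlgSpWith_fpFst _ w g hw₁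
  have hπ₂ := Groth.Agent.Lib.AlgStRep.repByAlgSpWith_fpFst _ w g hw₂
  have hπ₃ := Groth.Agent.Lib.AlgStRep.repByAlgSpWith_fpFst _ w g hw₃
  have hc₁ : RepByAlgSpWith (AlgSp.LocP @Flat) (BasedFunctor.comp Y (FibCat.fpFst g w)) :=
    Groth.Agent.Lib.AlgStSpTest.repByAlgSpWith_comp _ atlasClass_locP_flat.isoInv
      atlasClass_locP_flat.atlasLocal atlasClass_locP_flat.comp Y _ hYfl.1 hπ₁
  have hc₂ : RepByAlgSpWith (AlgSp.LocP @LocallyOfFinitePresentation)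
      (BasedFunctor.comp Y (FibCat.fpFst g w)) :=
    Groth.Agent.Lib.AlgStSpTest.repByAlgSpWith_comp _ atlasClass_locP_lfp.isoInv
      atlasClass_locP_lfp.atlasLocal atlasClass_locP_lfp.comp Y _ hYfl.2 hπ₂
  have hopen := isOpenMap_ofChart _ hc₁ hc₂
  have hsurj : Function.Surjective
      (Points.ofChart (BasedFunctor.comp Y (FibCat.fpFst g w))) := by
    intro ξ
    obtain ⟨η, rfl⟩ := isSurjective_of_repByAlgSpWith _ hπ₃ ξ
    obtain ⟨v, rfl⟩ := surjective_ofChart Y hY2 η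
    exact ⟨v, rfl⟩
  haveI := compactSpace_of_isQuasiCompact h𝒯.atlas hqc
  obtain ⟨W₀, hW₀c, hW₀s⟩ := exists_compact_open_chart _ hopen hsurj
  haveI := hW₀c
  exact isQuasiCompact_fp_of_factor h𝒳 h𝒴 h𝒯 f z g h (openOver W₀)
    (BasedFunctor.comp (AlgSt.overMap (openIncl W₀)) (BasedFunctor.comp Y (FibCat.fpFst g w)))
    (BasedFunctor.comp (BasedFunctor.comp (AlgSt.overMap (openIncl W₀))
      (BasedFunctor.comp Y (FibCat.fpSnd g w))) x)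
    (whiskerLeftIso (BasedFunctor.comp (AlgSt.overMap (openIncl W₀)) Y) (FibCat.fpIso g w))
    (isSurjective_of_surjective_ofChart _ hW₀s)

/-- = S13009 -/
theorem isQuasiCompactMor_of_fpFst_of_fppf
    (h𝒳 : IsAlgStack Scheme.fppfPrecoverage 𝒳) (h𝒴 : IsAlgStack Scheme.fppfPrecoverage 𝒴)
    (f : 𝒳 ⥤ᵇ 𝒴) (h𝒵 : IsAlgStack Scheme.fppfPrecoverage 𝒵) (z : 𝒵 ⥤ᵇ 𝒴)
    (hz₁ : AlgSt.LocQ (AlgSp.LocP @Flat) z)
    (hz₂ : AlgSt.LocQ (AlgSp.LocP @LocallyOfFinitePresentation) z)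
    (hz₃ : AlgSt.IsSurjective z)
    (h : IsQuasiCompactMor Scheme.fppfPrecoverage (FibCat.fpFst z f)) :
    IsQuasiCompactMor Scheme.fppfPrecoverage f := by
  obtain ⟨U, x, -, -, h1, h2, h3⟩ := exists_fppf_chart_of_locQ h𝒵 h𝒴 z hz₁ hz₂ hz₃
  exact isQuasiCompactMor_of_fpFst_cover_factor h𝒳 h𝒴 f (isAlgStack_overCat U) x z h1 h2 h3 h

/-- = S12995 -/
theorem repByAlgSpWith_iff_fpFst_of_fppf (P : MorphismProperty (AlgSp.Sp S))
    (hP₁ : ∀ ⦃X₁ Y₁ X₂ Y₂ : AlgSp.Sp S⦄, AlgSp.IsAlgSpace X₁ → AlgSp.IsAlgSpace Y₁ →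
      AlgSp.IsAlgSpace X₂ → AlgSp.IsAlgSpace Y₂ → ∀ (a : X₁ ⟶ Y₁) (b : Y₂ ⟶ Y₁) (a' : X₂ ⟶ Y₂)
      (b' : X₂ ⟶ X₁), IsPullback b' a' a b → P a → P a')
    (hP₂ : AlgSp.IsLocalOnBase AlgSp.IsFppfCover P)
    (h𝒳 : IsAlgStack Scheme.fppfPrecoverage 𝒳) (h𝒴 : IsAlgStack Scheme.fppfPrecoverage 𝒴)
    (f : 𝒳 ⥤ᵇ 𝒴) (hf : AlgSt.RepByAlgSp1 f)
    (h𝒵 : IsAlgStack Scheme.fppfPrecoverage 𝒵) (z : 𝒵 ⥤ᵇ 𝒴)
    (hz₁ : AlgSt.LocQ (AlgSp.LocP @Flat) z)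
    (hz₂ : AlgSt.LocQ (AlgSp.LocP @LocallyOfFinitePresentation) z)
    (hz₃ : AlgSt.IsSurjective z) :
    AlgSt.RepByAlgSpWith P f ↔ AlgSt.RepByAlgSpWith P (FibCat.fpFst z f) := by
  haveI := h𝒳.isStack.1
  haveI := h𝒴.isStack.1
  haveI := h𝒵.isStack.1
  constructor
  · intro h
    exact Groth.Agent.Lib.AlgStRep.repByAlgSpWith_fpFst P f z h
  · intro h
    obtain ⟨U, x, -, -, h1, h2, h3⟩ := exists_fppf_chart_of_locQ h𝒵 h𝒴 z hz₁ hz₂ hz₃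
    haveI : FibCat.IsFibGrpd (FibCat.overCat U).p := overCat_isFibGrpd U
    refine Groth.Agent.Lib.AlgStDescent.repByAlgSpWith_of_fpFst_cover P hP₁ hP₂ f hf
      (BasedFunctor.comp x z) h1 h2 h3 ?_
    have h4 : AlgSt.RepByAlgSpWith P (FibCat.fpFst x (FibCat.fpFst z f)) :=
      Groth.Agent.Lib.AlgStRep.repByAlgSpWith_fpFst P (FibCat.fpFst z f) x h
    exact (repByAlgSpWith_equiv_comp_iff P (fpPasteLeft x z f) (fpPasteLeft_isEquivOver x z f)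
      (FibCat.fpFst (BasedFunctor.comp x z) f)).2 h4

end Groth.Agent.Lib.AlgStLocQCover
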