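import Groth.Agent.Lib.AlgStLocQ9
import Groth.Agent.Lib.AlgStLocQ5
import Groth.Agent.Lib.AlgSpSmLocalST2
import Groth.Agent.Lib.SrcLocalFppf64

/-!
# `LocQ lft` / `LocQ lfp` descend along fppf covers of the source, for algebraic stacks (helper64)

`𝒳 → 𝒴 → 𝒵` with `𝒳 → 𝒴` flat, lfp, surjective and `𝒳 → 𝒵` locally of finite type (presentation):
then `𝒴 → 𝒵` is locally of finite type (presentation).
-/

set_option autoImplicit false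
set_option linter.style.haveILetI false
set_option backward.isDefEq.respectTransparency false
set_option backward.isDefEq.respectTransparency.types false

namespace Groth.Agent.Lib.AlgStLocQ

open CategoryTheory Functor Opposite Limits AlgebraicGeometry AlgSt

universe u

variable {S : Scheme.{u}} {𝒳 𝒴 𝒵 : AlgSt.Cat S}

theorem locQ_lft_of_comp_of_fppf (h𝒳 : AlgSt.IsAlgStack Scheme.fppfPrecoverage 𝒳)
    (h𝒴 : AlgSt.IsAlgStack Scheme.fppfPrecoverage 𝒴)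
    (h𝒵 : AlgSt.IsAlgStack Scheme.fppfPrecoverage 𝒵)
    (f : 𝒳 ⥤ᵇ 𝒴) (g : 𝒴 ⥤ᵇ 𝒵)
    (hf₁ : AlgSt.LocQ (AlgSp.LocP @Flat) f)
    (hf₂ : AlgSt.LocQ (AlgSp.LocP @LocallyOfFinitePresentation) f) (hf₃ : AlgSt.IsSurjective f)
    (hfg : AlgSt.LocQ (AlgSp.LocP @LocallyOfFiniteType) (BasedFunctor.comp f g)) :
    AlgSt.LocQ (AlgSp.LocP @LocallyOfFiniteType) g := by
  have : FibCat.IsFibGrpd 𝒳.p := h𝒳.isStack.1
  have : FibCat.IsFibGrpd 𝒴.p := h𝒴.isStack.1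
  have : FibCat.IsFibGrpd 𝒵.p := h𝒵.isStack.1
  obtain ⟨U, V, W, x, y, z, hUV, hVW, αf, αg, αfg, hx, hy, hz, hLf, hLg, hLfg⟩ :=
    Groth.Agent.Lib.AlgStLocQ.exists_tower h𝒳 h𝒴 h𝒵 f g
  have h1 : AlgSp.LocP @Flat ((AlgSp.yon S).map hUV) :=
    Groth.Agent.Lib.AlgStLocQ.prop_of_locQ_of_square
      Groth.Agent.Lib.AlgSpSmLocalST.isSmoothLocalST_locP_flat f hf₁ x y hUV αf hy.1 hLf.1
  have h1p : AlgSp.LocP @LocallyOfFinitePresentation ((AlgSp.yon S).map hUV) :=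
    Groth.Agent.Lib.AlgStLocQ.prop_of_locQ_of_square
      Groth.Agent.Lib.AlgSpSmLocalST.isSmoothLocalST_locP_lfp f hf₂ x y hUV αf hy.1 hLf.1
  have h2 : AlgSp.LocP @LocallyOfFiniteType ((AlgSp.yon S).map (hUV ≫ hVW)) :=
    Groth.Agent.Lib.AlgStLocQ.prop_of_locQ_of_square
      Groth.Agent.Lib.AlgSpSmLocalST.isSmoothLocalST_locP_lft (BasedFunctor.comp f g) hfg x z
      (hUV ≫ hVW) αfg hz.1 hLfg.1
  have h1' : Flat hUV.left :=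
    (Groth.Agent.Lib.AlgStLocQ.locP_yon_map_iff Groth.Agent.Lib.AlgSpLocP.etLocalClass_flat _).1 h1
  have h1p' : LocallyOfFinitePresentation hUV.left :=
    (Groth.Agent.Lib.AlgStLocQ.locP_yon_map_iff Groth.Agent.Lib.AlgSpLocP.etLocalClass_lfp _).1 h1p
  have h2' : LocallyOfFiniteType (hUV.left ≫ hVW.left) :=
    (Groth.Agent.Lib.AlgStLocQ.locP_yon_map_iff Groth.Agent.Lib.AlgSpLocP.etLocalClass_lft _).1 h2
  have hs : Function.Surjective hUV.left :=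
    Groth.Agent.Lib.AlgStLocQ.surjective_of_square f hf₃ x y hUV αf hLf.2
  have h3 : LocallyOfFiniteType hVW.left :=
    Groth.Agent.Lib.SrcLocalFppf64.sourceFppfLocal_locallyOfFiniteType hUV.left hVW.left h1' h1p'
      ⟨hs⟩ h2'
  exact ⟨V, W, y, z, hVW, αg, hy.1, hy.2, hz.1,
    (Groth.Agent.Lib.AlgStLocQ.locP_yon_map_iff Groth.Agent.Lib.AlgSpLocP.etLocalClass_lft _).2 h3⟩

theorem locQ_lfp_of_comp_of_fppf (h𝒳 : AlgSt.IsAlgStack Scheme.fppfPrecoverage 𝒳)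
    (h𝒴 : AlgSt.IsAlgStack Scheme.fppfPrecoverage 𝒴)
    (h𝒵 : AlgSt.IsAlgStack Scheme.fppfPrecoverage 𝒵)
    (f : 𝒳 ⥤ᵇ 𝒴) (g : 𝒴 ⥤ᵇ 𝒵)
    (hf₁ : AlgSt.LocQ (AlgSp.LocP @Flat) f)
    (hf₂ : AlgSt.LocQ (AlgSp.LocP @LocallyOfFinitePresentation) f) (hf₃ : AlgSt.IsSurjective f)
    (hfg : AlgSt.LocQ (AlgSp.LocP @LocallyOfFinitePresentation) (BasedFunctor.comp f g)) :
    AlgSt.LocQ (AlgSp.LocP @LocallyOfFinitePresentation) g := by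
  have : FibCat.IsFibGrpd 𝒳.p := h𝒳.isStack.1
  have : FibCat.IsFibGrpd 𝒴.p := h𝒴.isStack.1
  have : FibCat.IsFibGrpd 𝒵.p := h𝒵.isStack.1
  obtain ⟨U, V, W, x, y, z, hUV, hVW, αf, αg, αfg, hx, hy, hz, hLf, hLg, hLfg⟩ :=
    Groth.Agent.Lib.AlgStLocQ.exists_tower h𝒳 h𝒴 h𝒵 f g
  have h1 : AlgSp.LocP @Flat ((AlgSp.yon S).map hUV) :=
    Groth.Agent.Lib.AlgStLocQ.prop_of_locQ_of_square
      Groth.Agent.Lib.AlgSpSmLocalST.isSmoothLocalST_locP_flat f hf₁ x y hUV αf hy.1 hLf.1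
  have h1p : AlgSp.LocP @LocallyOfFinitePresentation ((AlgSp.yon S).map hUV) :=
    Groth.Agent.Lib.AlgStLocQ.prop_of_locQ_of_square
      Groth.Agent.Lib.AlgSpSmLocalST.isSmoothLocalST_locP_lfp f hf₂ x y hUV αf hy.1 hLf.1
  have h2 : AlgSp.LocP @LocallyOfFinitePresentation ((AlgSp.yon S).map (hUV ≫ hVW)) :=
    Groth.Agent.Lib.AlgStLocQ.prop_of_locQ_of_square
      Groth.Agent.Lib.AlgSpSmLocalST.isSmoothLocalST_locP_lfp (BasedFunctor.comp f g) hfg x z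
      (hUV ≫ hVW) αfg hz.1 hLfg.1
  have h1' : Flat hUV.left :=
    (Groth.Agent.Lib.AlgStLocQ.locP_yon_map_iff Groth.Agent.Lib.AlgSpLocP.etLocalClass_flat _).1 h1
  have h1p' : LocallyOfFinitePresentation hUV.left :=
    (Groth.Agent.Lib.AlgStLocQ.locP_yon_map_iff Groth.Agent.Lib.AlgSpLocP.etLocalClass_lfp _).1 h1p
  have h2' : LocallyOfFinitePresentation (hUV.left ≫ hVW.left) :=
    (Groth.Agent.Lib.AlgStLocQ.locP_yon_map_iff Groth.Agent.Lib.AlgSpLocP.etLocalClass_lfp _).1 h2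
  have hs : Function.Surjective hUV.left :=
    Groth.Agent.Lib.AlgStLocQ.surjective_of_square f hf₃ x y hUV αf hLf.2
  have h3 : LocallyOfFinitePresentation hVW.left :=
    Groth.Agent.Lib.SrcLocalFppf64.sourceFppfLocal_locallyOfFinitePresentation hUV.left hVW.left
      h1' h1p' ⟨hs⟩ h2'
  exact ⟨V, W, y, z, hVW, αg, hy.1, hy.2, hz.1,
    (Groth.Agent.Lib.AlgStLocQ.locP_yon_map_iff Groth.Agent.Lib.AlgSpLocP.etLocalClass_lfp _).2 h3⟩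

/-- = S13001. -/
theorem locQ_lft_of_comp_of_rep_fppf (h𝒳 : AlgSt.IsAlgStack Scheme.fppfPrecoverage 𝒳)
    (h𝒴 : AlgSt.IsAlgStack Scheme.fppfPrecoverage 𝒴)
    (h𝒵 : AlgSt.IsAlgStack Scheme.fppfPrecoverage 𝒵)
    (f : 𝒳 ⥤ᵇ 𝒴) (g : 𝒴 ⥤ᵇ 𝒵)
    (hf₁ : AlgSt.RepByAlgSpWith (AlgSp.LocP @Flat) f)
    (hf₂ : AlgSt.RepByAlgSpWith (AlgSp.LocP @LocallyOfFinitePresentation) f)
    (hf₃ : AlgSt.RepByAlgSpWith AlgSp.IsSurjectiveMor f)
    (hfg : AlgSt.LocQ (AlgSp.LocP @LocallyOfFiniteType) (BasedFunctor.comp f g)) :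
    AlgSt.LocQ (AlgSp.LocP @LocallyOfFiniteType) g := by
  haveI : FibCat.IsFibGrpd 𝒴.p := h𝒴.isStack.1
  exact locQ_lft_of_comp_of_fppf h𝒳 h𝒴 h𝒵 f g
    (locQ_of_repByAlgSpWith_locP Groth.Agent.Lib.AlgSpLocP.etLocalClass_flat
      Groth.Agent.Lib.AlgSpSmLocalST.isSmoothLocalST_locP_flat
      Groth.Agent.Lib.AlgSpFpqc.isLocalOnBase_fpqc_locP_flat h𝒳 h𝒴 f hf₁)
    (locQ_of_repByAlgSpWith_locP Groth.Agent.Lib.AlgSpLocP.etLocalClass_lfp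
      Groth.Agent.Lib.AlgSpSmLocalST.isSmoothLocalST_locP_lfp
      Groth.Agent.Lib.AlgSpFpqc.isLocalOnBase_fpqc_locP_locallyOfFinitePresentation h𝒳 h𝒴 f hf₂)
    (Groth.Agent.Lib.AlgStPtsSurj.isSurjective_of_repByAlgSpWith f hf₃) hfg

end Groth.Agent.Lib.AlgStLocQ
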