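import Groth.Agent.Lib.AlgStLocQ3
import Groth.Agent.Lib.AlgSpSmoothLocalST
import Groth.Agent.Lib.AlgStPtsQC2

/-!
# `LocQ` for concrete properties and the space of points (helper36)

* `exists_canonical_square` : a chart square with `U ⟶ 𝒳 ×_𝒴 V` smooth and both charts surjective.
* `exists_square_of_locQ₂` : a common chart square for two smooth-local properties.
* `isOpenMor_of_locQ_flat_lfp` (= S13008).
-/

set_option autoImplicit false
set_option linter.style.haveILetI false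
set_option backward.isDefEq.respectTransparency false
set_option backward.isDefEq.respectTransparency.types false

namespace Groth.Agent.Lib.AlgStLocQPts

open CategoryTheory Functor Opposite Limits AlgebraicGeometry Groth.Agent.Lib.FibGrpd
  Groth.Agent.Lib.FpEquiv Groth.Agent.Lib.EquivOver Groth.Agent.Lib.AlgStFp
  Groth.Agent.Lib.AlgStRep Groth.Agent.Lib.AlgStSpTest Groth.Agent.Lib.AlgStEquiv
  Groth.Agent.Lib.AlgStAtlas Groth.Agent.Lib.AlgStRepStack Groth.Agent.Lib.AlgSpLocP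
  Groth.Agent.Lib.AlgStSrcLocal Groth.Agent.Lib.AlgStSmoothLocal Groth.Agent.Lib.AlgStNoeth
  Groth.Agent.Lib.PshFp Groth.Agent.Lib.FpBaseChange Groth.Agent.Lib.AlgStLocQ
  Groth.Agent.Lib.AlgStPts Groth.Agent.Lib.AlgStPtsQC Groth.Agent.Lib.AlgStPtsQC2
  Groth.Agent.Lib.AlgSpSmoothLocalST AlgSt

universe u

variable {S : Scheme.{u}} {𝒳 𝒴 : AlgSt.Cat S}

/-- The canonical chart square of a morphism of algebraic stacks: `V ⟶ 𝒴` an atlas and `U` an atlas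
of `𝒳 ×_𝒴 V`. -/
theorem exists_canonical_square (h𝒳 : AlgSt.IsAlgStack Scheme.fppfPrecoverage 𝒳)
    (h𝒴 : AlgSt.IsAlgStack Scheme.fppfPrecoverage 𝒴) (f : 𝒳 ⥤ᵇ 𝒴) :
    ∃ (U V : Over S) (x : FibCat.overCat U ⥤ᵇ 𝒳) (y : FibCat.overCat V ⥤ᵇ 𝒴) (h : U ⟶ V)
      (α : BasedFunctor.comp x f ≅ BasedFunctor.comp (AlgSt.overMap h) y),
      AlgSt.RepByAlgSpWith (AlgSp.LocP @Smooth) x ∧ AlgSt.RepByAlgSpWith AlgSp.IsSurjectiveMor x ∧
      AlgSt.RepByAlgSpWith (AlgSp.LocP @Smooth) y ∧ AlgSt.RepByAlgSpWith AlgSp.IsSurjectiveMor y ∧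
      AlgSt.RepByAlgSpWith (AlgSp.LocP @Smooth) (FibCat.fpLift x (AlgSt.overMap h) α) := by
  haveI : FibCat.IsFibGrpd 𝒳.p := h𝒳.isStack.1
  haveI : FibCat.IsFibGrpd 𝒴.p := h𝒴.isStack.1
  obtain ⟨V, y, hy, hys⟩ := h𝒴.atlas
  have hV : AlgSt.IsAlgStack Scheme.fppfPrecoverage (FibCat.overCat V) :=
    (isDM_of_repByAlgSp (repByAlgSp_overCat V)).1
  have hfp : AlgSt.IsAlgStack Scheme.fppfPrecoverage (FibCat.fp f y) :=
    Groth.Agent.Lib.AlgStFpStack.isAlgStack_fp_of _ h𝒴.isStack h𝒴.diag h𝒳 hV f y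
  haveI : FibCat.IsFibGrpd (FibCat.fp f y).p := hfp.isStack.1
  obtain ⟨U, u, hu, hus⟩ := hfp.atlas
  let b : FibCat.overCat U ⥤ᵇ FibCat.overCat V := BasedFunctor.comp u (FibCat.fpSnd f y)
  let h : U ⟶ V := Groth.Agent.Lib.SliceFp.overYonedaMor b
  let ib : b ≅ AlgSt.overMap h := Groth.Agent.Lib.SliceFp.overYonedaIso b
  let x : FibCat.overCat U ⥤ᵇ 𝒳 := BasedFunctor.comp u (FibCat.fpFst f y)
  have hx : AlgSt.RepByAlgSpWith (AlgSp.LocP @Smooth) x :=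
    repByAlgSpWith_comp _ atlasClass_locP_smooth.isoInv atlasClass_locP_smooth.atlasLocal
      atlasClass_locP_smooth.comp u (FibCat.fpFst f y) hu
      (Groth.Agent.Lib.AlgStRep.repByAlgSpWith_fpFst _ y f hy)
  have hxs : AlgSt.RepByAlgSpWith AlgSp.IsSurjectiveMor x :=
    repByAlgSpWith_comp _ atlasClass_isSurjectiveMor.isoInv atlasClass_isSurjectiveMor.atlasLocal
      atlasClass_isSurjectiveMor.comp u (FibCat.fpFst f y) hus
      (Groth.Agent.Lib.AlgStRep.repByAlgSpWith_fpFst _ y f hys)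
  have hL : AlgSt.RepByAlgSpWith (AlgSp.LocP @Smooth)
      (FibCat.fpLift x (AlgSt.overMap h) (fpLiftEtaIso f y u (AlgSt.overMap h) ib)) :=
    (Groth.Agent.Lib.AlgStDiag3.repByAlgSpWith_congr _
      (fpLiftEta f y u (AlgSt.overMap h) ib).symm).1 hu
  exact ⟨U, V, x, y, h, fpLiftEtaIso f y u (AlgSt.overMap h) ib, hx, hxs, hy, hys, hL⟩

/-- A chart square (with smooth comparison) on which two smooth-local properties of `f` hold
simultaneously. -/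
theorem exists_square_of_locQ₂ {P₁ P₂ : MorphismProperty (AlgSp.Sp S)}
    (hP₁ : AlgSp.IsSmoothLocalST P₁) (hP₂ : AlgSp.IsSmoothLocalST P₂)
    (h𝒳 : AlgSt.IsAlgStack Scheme.fppfPrecoverage 𝒳)
    (h𝒴 : AlgSt.IsAlgStack Scheme.fppfPrecoverage 𝒴) (f : 𝒳 ⥤ᵇ 𝒴)
    (h₁ : AlgSt.LocQ P₁ f) (h₂ : AlgSt.LocQ P₂ f) :
    ∃ (U V : Over S) (x : FibCat.overCat U ⥤ᵇ 𝒳) (y : FibCat.overCat V ⥤ᵇ 𝒴) (h : U ⟶ V)
      (α : BasedFunctor.comp x f ≅ BasedFunctor.comp (AlgSt.overMap h) y),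
      AlgSt.RepByAlgSpWith (AlgSp.LocP @Smooth) x ∧ AlgSt.RepByAlgSpWith AlgSp.IsSurjectiveMor x ∧
      AlgSt.RepByAlgSpWith (AlgSp.LocP @Smooth) y ∧ AlgSt.RepByAlgSpWith AlgSp.IsSurjectiveMor y ∧
      AlgSt.RepByAlgSpWith (AlgSp.LocP @Smooth) (FibCat.fpLift x (AlgSt.overMap h) α) ∧
      P₁ ((AlgSp.yon S).map h) ∧ P₂ ((AlgSp.yon S).map h) := by
  haveI : FibCat.IsFibGrpd 𝒳.p := h𝒳.isStack.1
  haveI : FibCat.IsFibGrpd 𝒴.p := h𝒴.isStack.1
  obtain ⟨U, V, x, y, h, α, hx, hxs, hy, hys, hL⟩ := exists_canonical_square h𝒳 h𝒴 f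
  exact ⟨U, V, x, y, h, α, hx, hxs, hy, hys, hL,
    prop_of_locQ_of_square hP₁ f h₁ x y h α hy hL, prop_of_locQ_of_square hP₂ f h₂ x y h α hy hL⟩

/-- = S13008: flat + locally of finite presentation implies open on points. -/
theorem isOpenMor_of_locQ_flat_lfp (h𝒳 : AlgSt.IsAlgStack Scheme.fppfPrecoverage 𝒳)
    (h𝒴 : AlgSt.IsAlgStack Scheme.fppfPrecoverage 𝒴) (f : 𝒳 ⥤ᵇ 𝒴)
    (h₁ : AlgSt.LocQ (AlgSp.LocP @Flat) f)
    (h₂ : AlgSt.LocQ (AlgSp.LocP @LocallyOfFinitePresentation) f) : AlgSt.IsOpenMor f := by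
  haveI : FibCat.IsFibGrpd 𝒳.p := h𝒳.isStack.1
  haveI : FibCat.IsFibGrpd 𝒴.p := h𝒴.isStack.1
  obtain ⟨U, V, x, y, h, α, hx, hxs, hy, -, -, hfl, hlfp⟩ :=
    exists_square_of_locQ₂ isSmoothLocalST_locP_flat isSmoothLocalST_locP_lfp h𝒳 h𝒴 f h₁ h₂
  have : Flat h.left := AlgSp.locP_yon_map hfl
  have : LocallyOfFinitePresentation h.left := AlgSp.locP_yon_map hlfp
  have hopen_h : IsOpenMap h.left := h.left.isOpenMap
  have hyfl := Groth.Agent.Lib.AlgStPtsMain.flatLfp_repByAlgSpWith_of_smooth y hy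
  have hopen_y : IsOpenMap (Points.ofChart y) :=
    Groth.Agent.Lib.AlgStPtsMain.isOpenMap_ofChart y hyfl.1 hyfl.2
  have hcont_x : Continuous (Points.ofChart x) :=
    Groth.Agent.Lib.AlgStPtsMain.continuous_ofChart h𝒳.atlas x
  have hsurj_x : Function.Surjective (Points.ofChart x) :=
    Groth.Agent.Lib.AlgStPtsMain.surjective_ofChart x hxs
  have hcomm : ∀ t : ↥U.left, Points.map f (Points.ofChart x t) = Points.ofChart y (h.left t) := by
    intro t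
    rw [Groth.Agent.Lib.AlgStPtsMain.map_ofChart, ← ofChart_overMap_comp]
    rw [ofChart_eq_map, ofChart_eq_map (BasedFunctor.comp (AlgSt.overMap h) y), map_congr α]
  intro W hW
  have hW' : IsOpen (Points.ofChart x ⁻¹' W) := hcont_x.isOpen_preimage W hW
  have himg : Points.map f '' W = Points.ofChart y '' (h.left '' (Points.ofChart x ⁻¹' W)) := by
    ext ξ
    constructor
    · rintro ⟨w, hw, rfl⟩
      obtain ⟨t, rfl⟩ := hsurj_x w
      exact ⟨h.left t, ⟨t, hw, rfl⟩, (hcomm t).symm⟩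
    · rintro ⟨_, ⟨t, ht, rfl⟩, rfl⟩
      exact ⟨Points.ofChart x t, ht, hcomm t⟩
  rw [himg]
  exact hopen_y _ (hopen_h _ hW')

end Groth.Agent.Lib.AlgStLocQPts
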