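import Groth.Agent.Lib.AlgStDiag3
import Groth.Agent.Lib.AlgStMonoFull

/-!
# The diagonal square of a fully faithful functor is 2-cartesian (helper36)

For `i : 𝒳 ⟶ 𝒳'` fully faithful and `g : 𝒳' ⟶ 𝒴`, the square formed by the diagonals of `i ⋙ g` and
`g`, by `i` and by `𝒳 ×_𝒴 𝒳 ⟶ 𝒳' ×_𝒴 𝒳'` is 2-cartesian over the base.
-/

set_option autoImplicit false
set_option linter.style.haveILetI false
set_option backward.isDefEq.respectTransparency false
set_option backward.isDefEq.respectTransparency.types false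

namespace Groth.Agent.Lib.AlgStMonoDiag

open CategoryTheory AlgebraicGeometry Opposite Groth.Agent.Lib.FibGrpd Groth.Agent.Lib.FpEquiv
  Groth.Agent.Lib.AlgStDiag Groth.Agent.Lib.AlgStDiag3

universe w v₅ u₅ v₄ u₄ v₃ u₃ v₂ u₂ v u

section Square

variable {C : Type u} [Category.{v} C] {𝒳 : BasedCategory.{v₂, u₂} C}
  {𝒳' : BasedCategory.{v₃, u₃} C} {𝒴 : BasedCategory.{v₄, u₄} C} (i : 𝒳 ⥤ᵇ 𝒳') (g : 𝒳' ⥤ᵇ 𝒴)

/-- The comparison functor of the square of diagonals. -/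
def monoLift : 𝒳 ⥤ᵇ FibCat.fp (magQ i g) (FibCat.diag g) :=
  FibCat.fpLift (F := magQ i g) (G := FibCat.diag g) (FibCat.diag (BasedFunctor.comp i g)) i
    (Iso.refl _)

theorem monoLift_faithful : (monoLift i g).toFunctor.Faithful where
  map_injective {x y} m n hmn :=
    congrArg (fun k : (monoLift i g).obj x ⟶ (monoLift i g).obj y => k.hom.fst.hom.fst) hmn

theorem monoLift_full [i.toFunctor.Faithful] : (monoLift i g).toFunctor.Full where
  map_surjective {x y} n := by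
    let m₁ : x ⟶ y := n.hom.fst.hom.fst
    let m₂ : x ⟶ y := n.hom.fst.hom.snd
    let ξ : i.obj x ⟶ i.obj y := n.hom.snd
    have h2 : (magQ i g).map n.hom.fst ≫ 𝟙 _ = 𝟙 _ ≫ (FibCat.diag g).map ξ := n.hom.w
    have h3 : i.map m₁ ≫ 𝟙 (i.obj y) = 𝟙 (i.obj x) ≫ ξ :=
      congrArg (fun k : (magQ i g).obj ((FibCat.diag (BasedFunctor.comp i g)).obj x) ⟶
        (FibCat.diag g).obj (i.obj y) => k.hom.fst) h2
    have h4 : i.map m₂ ≫ 𝟙 (i.obj y) = 𝟙 (i.obj x) ≫ ξ :=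
      congrArg (fun k : (magQ i g).obj ((FibCat.diag (BasedFunctor.comp i g)).obj x) ⟶
        (FibCat.diag g).obj (i.obj y) => k.hom.snd) h2
    rw [Category.comp_id, Category.id_comp] at h3 h4
    have h12 : m₁ = m₂ := i.toFunctor.map_injective (h3.trans h4.symm)
    refine ⟨m₁, ?_⟩
    refine fp_hom_ext _ _ ?_ h3
    exact fp_hom_ext _ _ rfl h12

theorem monoLift_isEquivOver [i.toFunctor.Full] [i.toFunctor.Faithful] :
    FibCat.IsEquivOver (monoLift i g) := by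
  haveI := monoLift_faithful i g
  haveI := monoLift_full i g
  apply isEquivOver_of_ff_of_ess
  intro z
  let w : (FibCat.fp (BasedFunctor.comp i g) (BasedFunctor.comp i g)).obj := z.obj.fst
  let t : 𝒳'.obj := z.obj.snd
  let x₁ : 𝒳.obj := w.obj.fst
  let x₂ : 𝒳.obj := w.obj.snd
  let ψ : g.obj (i.obj x₁) ≅ g.obj (i.obj x₂) := w.obj.iso
  let ι : (magQ i g).obj w ≅ (FibCat.diag g).obj t := z.obj.iso
  let a : i.obj x₁ ⟶ t := ι.hom.hom.fst
  let b : i.obj x₂ ⟶ t := ι.hom.hom.snd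
  let b' : t ⟶ i.obj x₂ := ι.inv.hom.snd
  have hbb' : b ≫ b' = 𝟙 _ :=
    congrArg (fun k : (magQ i g).obj w ⟶ (magQ i g).obj w => k.hom.snd) ι.hom_inv_id
  have hb'b : b' ≫ b = 𝟙 _ :=
    congrArg (fun k : (FibCat.diag g).obj t ⟶ (FibCat.diag g).obj t => k.hom.snd) ι.inv_hom_id
  haveI : IsIso ι.hom.hom.fst := inferInstance
  haveI hia : IsIso a := inferInstanceAs (IsIso ι.hom.hom.fst)
  have hι : g.map a ≫ 𝟙 (g.obj t) = ψ.hom ≫ g.map b := ι.hom.hom.w
  rw [Category.comp_id] at hι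
  let c : x₁ ⟶ x₂ := i.toFunctor.preimage (a ≫ b')
  have hc : i.map c = a ≫ b' := i.toFunctor.map_preimage _
  have hgc : g.map (i.map c) = ψ.hom := by
    have e : g.map (a ≫ b') = g.map a ≫ g.map b' := g.toFunctor.map_comp a b'
    have e' : g.map b ≫ g.map b' = 𝟙 _ := by
      have := g.toFunctor.map_comp b b'
      rw [hbb'] at this
      exact this.symm.trans (g.toFunctor.map_id _)
    rw [hc, e, hι, Category.assoc, e', Category.comp_id]
  have hew : (BasedFunctor.comp i g).map (𝟙 x₁) ≫ ψ.hom =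
      𝟙 (g.obj (i.obj x₁)) ≫ (BasedFunctor.comp i g).map c := by
    have e1 : (BasedFunctor.comp i g).map (𝟙 x₁) = 𝟙 (g.obj (i.obj x₁)) :=
      (BasedFunctor.comp i g).toFunctor.map_id _
    calc (BasedFunctor.comp i g).map (𝟙 x₁) ≫ ψ.hom
        = 𝟙 (g.obj (i.obj x₁)) ≫ ψ.hom := congrArg (· ≫ ψ.hom) e1
      _ = 𝟙 (g.obj (i.obj x₁)) ≫ g.map (i.map c) := congrArg (𝟙 (g.obj (i.obj x₁)) ≫ ·) hgc.symm
  let ew : (FibCat.diag (BasedFunctor.comp i g)).obj x₁ ⟶ w :=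
    ObjectProperty.homMk { fst := 𝟙 x₁, snd := c, w := hew }
  have he : (magQ i g).map ew ≫ ι.hom = 𝟙 _ ≫ (FibCat.diag g).map a := by
    refine fp_hom_ext _ _ ?_ ?_
    · show i.map (𝟙 x₁) ≫ a = 𝟙 (i.obj x₁) ≫ a
      have e1 : i.map (𝟙 x₁) = 𝟙 _ := i.toFunctor.map_id _
      rw [e1]
    · show i.map c ≫ b = 𝟙 (i.obj x₁) ≫ a
      rw [hc, Category.assoc, hb'b, Category.comp_id, Category.id_comp]
  let e : (monoLift i g).obj x₁ ⟶ z := ObjectProperty.homMk { fst := ew, snd := a, w := he }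
  haveI hic : IsIso c := by
    haveI : IsIso (i.toFunctor.map c) := by
      have : i.toFunctor.map c = a ≫ b' := hc
      rw [this]
      haveI : IsIso b' := inferInstanceAs (IsIso ι.inv.hom.snd)
      infer_instance
    exact isIso_of_fully_faithful i.toFunctor c
  haveI hiew : IsIso ew := by
    haveI : IsIso ew.hom.fst := inferInstanceAs (IsIso (𝟙 x₁))
    haveI : IsIso ew.hom.snd := hic
    exact fp_isIso_of _ _ ew
  haveI hie : IsIso e := by
    haveI : IsIso e.hom.fst := hiew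
    haveI : IsIso e.hom.snd := hia
    exact fp_isIso_of _ _ e
  refine ⟨x₁, asIso e, ?_⟩
  show (FibCat.fp (magQ i g) (FibCat.diag g)).p.IsHomLift (𝟙 (𝒳.p.obj x₁)) e
  rw [fp_isHomLift_iff, fp_isHomLift_iff]
  exact IsHomLift.id rfl

end Square

end Groth.Agent.Lib.AlgStMonoDiag
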