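import Groth.Agent.Lib.AlgStResGerbe
import Groth.Agent.Lib.AlgSpMonoField
import Groth.Agent.Lib.AlgStClosedSub
import Groth.Agent.Lib.AlgStDescent
import Groth.Agent.Lib.AlgStDiagQS
import Groth.Agent.Lib.AlgStEquivRep
import Groth.Agent.Lib.AlgStLargest

/-!
# Monomorphisms into a one-point stack with an fppf field point (helper36)

ns `Groth.Agent.Lib.AlgStMonoField`

* `isEquivOver_subIncl_of_forall` : the inclusion of a full subcategory containing everything is an
  equivalence.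
* `isEquivOver_of_repByAlgSpWith_iso` : a fully faithful functor representable by isomorphisms is
  an equivalence.
* `isEquivOver_of_isMono_of_fppf_fieldPt` (Stacks 06MT): a monomorphism from a nonempty algebraic
  stack to an algebraic stack receiving a flat, lfp, surjective field point is an equivalence.
-/

set_option autoImplicit false
set_option linter.style.haveILetI false
set_option backward.isDefEq.respectTransparency false
set_option backward.isDefEq.respectTransparency.types false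

namespace Groth.Agent.Lib.AlgStMonoField

open CategoryTheory CategoryTheory.Limits AlgebraicGeometry Opposite AlgSt
  Groth.Agent.Lib.H78AlgStPoints Groth.Agent.Lib.H78AlgStPointsFp Groth.Agent.Lib.AlgStPts
  Groth.Agent.Lib.AlgStPtsTop Groth.Agent.Lib.AlgStPtsSurj Groth.Agent.Lib.AlgStPtsQC
  Groth.Agent.Lib.FibGrpd Groth.Agent.Lib.AlgStFp Groth.Agent.Lib.AlgStEquiv
  Groth.Agent.Lib.FpEquiv Groth.Agent.Lib.FibYoneda Groth.Agent.Lib.AlgStOpenSub
  Groth.Agent.Lib.AlgStSubImage Groth.Agent.Lib.AlgStClosedSub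

universe u

variable {S : Scheme.{u}} {𝒵' 𝒵 : AlgSt.Cat S}

/-- The inclusion of a full subcategory containing every object is an equivalence. -/
theorem isEquivOver_subIncl_of_forall {Q : 𝒵.obj → Prop} (h : ∀ η, Q η) :
    FibCat.IsEquivOver (subIncl 𝒵 Q) := by
  haveI : (subIncl 𝒵 Q).toFunctor.Full := inferInstanceAs (ObjectProperty.ι Q).Full
  haveI : (subIncl 𝒵 Q).toFunctor.Faithful := inferInstanceAs (ObjectProperty.ι Q).Faithful
  refine isEquivOver_of_ff_of_ess _ (fun η => ⟨⟨η, h η⟩, Iso.refl _, ?_⟩)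
  exact IsHomLift.id rfl

/-- A fully faithful functor representable by isomorphisms is an equivalence. -/
theorem isEquivOver_of_repByAlgSpWith_iso [FibCat.IsFibGrpd 𝒵'.p] [FibCat.IsFibGrpd 𝒵.p]
    (f : 𝒵' ⥤ᵇ 𝒵) [f.toFunctor.Full] [f.toFunctor.Faithful]
    (h : RepByAlgSpWith (MorphismProperty.isomorphisms (AlgSp.Sp S)) f) :
    FibCat.IsEquivOver f := by
  have he : FibCat.IsEquivOver (toEssIm f) := toEssIm_isEquivOver f
  have hQ : PbStable (essIm f) := Groth.Agent.Lib.AlgStLargest.essIm_pbStable f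
  haveI := fullSub_isFibGrpd hQ
  have h' : RepByAlgSpWith (MorphismProperty.isomorphisms (AlgSp.Sp S))
      (subIncl 𝒵 (essIm f)) :=
    (repByAlgSpWith_equiv_comp_iff _ (toEssIm f) he (subIncl 𝒵 (essIm f))).2 h
  have hall : ∀ η, essIm f η := by
    intro η
    haveI : 𝒵.p.IsFibered := isFibered 𝒵.p
    let x : 𝒵.p.Fiber (𝒵.p.obj η) := ⟨η, rfl⟩
    obtain ⟨F, e, he', hiso⟩ := h' (𝒵.p.obj η) (pbFunctor x)
    have h1 := forall_obj_of_isIso hQ (pbFunctor x) e he' hiso (overTop _)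
    exact hQ (pbMapInv x) h1
  exact isEquivOver_comp he (isEquivOver_subIncl_of_forall hall)

/-- Isomorphisms are stable under base change. -/
theorem isomorphisms_baseChange ⦃X₁ Y₁ X₂ Y₂ : AlgSp.Sp S⦄ (_ : AlgSp.IsAlgSpace X₁)
    (_ : AlgSp.IsAlgSpace Y₁) (_ : AlgSp.IsAlgSpace X₂) (_ : AlgSp.IsAlgSpace Y₂)
    (a : X₁ ⟶ Y₁) (b : Y₂ ⟶ Y₁) (a' : X₂ ⟶ Y₂) (b' : X₂ ⟶ X₁) (sq : IsPullback b' a' a b)
    (ha : MorphismProperty.isomorphisms (AlgSp.Sp S) a) :
    MorphismProperty.isomorphisms (AlgSp.Sp S) a' := by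
  haveI : IsIso a := ha
  exact sq.isIso_snd_of_isIso

/-- (Stacks 06MT) A monomorphism from a nonempty algebraic stack to an algebraic stack receiving a
flat, locally finitely presented, surjective morphism from the spectrum of a field is an
equivalence. -/
theorem isEquivOver_of_isMono_of_fppf_fieldPt
    (h𝒵' : AlgSt.IsAlgStack Scheme.fppfPrecoverage 𝒵')
    (h𝒵 : AlgSt.IsAlgStack Scheme.fppfPrecoverage 𝒵) (f : 𝒵' ⥤ᵇ 𝒵) (hf : AlgSt.IsMono f)
    (k : Type u) [Field k] (a : Spec (CommRingCat.of k) ⟶ S)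
    (z : FibCat.overCat (Over.mk a) ⥤ᵇ 𝒵)
    (hzp : AlgSt.RepByAlgSpWith (AlgSp.LocP @LocallyOfFinitePresentation) z)
    (hzs : AlgSt.RepByAlgSpWith AlgSp.IsSurjectiveMor z)
    (hzf : AlgSt.RepByAlgSpWith (AlgSp.LocP @Flat) z)
    (hne : Nonempty (AlgSt.Points 𝒵')) : FibCat.IsEquivOver f := by
  haveI := h𝒵'.isStack.1
  haveI := h𝒵.isStack.1
  haveI : FibCat.IsFibGrpd (FibCat.overCat (Over.mk a)).p := overCat_isFibGrpd _
  obtain ⟨hfull, hfaith⟩ := Groth.Agent.Lib.AlgStMonoFull.full_faithful_of_isMono f hf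
  have hf1 : RepByAlgSp1 f := repByAlgSp1_of_repByAlgSpWith f hf
  obtain ⟨F, e, he, hmono⟩ := hf (Over.mk a) z
  haveI : Mono (spMapOfOver (BasedFunctor.comp e (FibCat.fpFst z f))) := hmono
  have hneF : Nonempty (AlgSp.Points F.obj) := by
    obtain ⟨ξ'⟩ := hne
    obtain ⟨t, -⟩ := isSurjective_fpSnd inferInstance inferInstance inferInstance z f
      (isSurjective_of_repByAlgSpWith z hzs) ξ'
    obtain ⟨t', -⟩ := (map_bijective_of_isEquivOver he).2 t
    exact ⟨(spPts F.obj).symm t'⟩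
  have hiso : IsIso (spMapOfOver (BasedFunctor.comp e (FibCat.fpFst z f))) :=
    Groth.Agent.Lib.AlgSpMonoField.isIso_of_mono_to_field F.property k a _ hneF
  obtain ⟨γ⟩ := Groth.Agent.Lib.AlgStDiagDict.nonempty_iso_ofSpMap_toOverCat
    (BasedFunctor.comp e (FibCat.fpFst z f))
  have hΦe : FibCat.IsEquivOver (BasedFunctor.comp e (FibCat.fpFst z f)) :=
    isEquivOver_of_iso γ (isEquivOver_comp
      (Groth.Agent.Lib.AlgStDiagSch.ofSpMap_isEquivOver
        (asIso (spMapOfOver (BasedFunctor.comp e (FibCat.fpFst z f)))))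
      (toOverCat_isEquivOver _))
  have h4 : RepByAlgSpWith (MorphismProperty.isomorphisms (AlgSp.Sp S)) (FibCat.fpFst z f) :=
    (repByAlgSpWith_equiv_comp_iff _ e he (FibCat.fpFst z f)).2
      (Groth.Agent.Lib.AlgStEquivRep.repByAlgSpWith_of_isEquivOver _
        (fun U => (inferInstance : IsIso (𝟙 ((AlgSp.yon S).obj U)))) _ hΦe)
  have h5 : RepByAlgSpWith (MorphismProperty.isomorphisms (AlgSp.Sp S)) f :=
    Groth.Agent.Lib.AlgStDescent.repByAlgSpWith_of_fpFst_cover _ isomorphisms_baseChange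
      (Groth.Agent.Lib.AlgStDiagQS.isLocalOnBase_fppf_of_fpqc
        Groth.Agent.Lib.AlgSpFpqc.isLocalOnBase_fpqc_isomorphisms) f hf1 z hzf hzp hzs h4
  exact isEquivOver_of_repByAlgSpWith_iso f h5

end Groth.Agent.Lib.AlgStMonoField
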