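import Groth.Agent.Lib.AlgStQC
import Groth.Agent.Lib.AlgStDiagCancel

/-!
# Quasi-compact and quasi-separated algebraic stacks over a quasi-separated base (helper64)

* `isQuasiSeparatedMor_congr` : quasi-separatedness is invariant under 2-isomorphism.
* `isQuasiSeparatedMor_of_isQuasiSeparatedOver` : a morphism from a stack quasi-separated over `S` to
  a stack quasi-separated over `S` is quasi-separated.
* `fp_isQuasiCompact_and_isQuasiSeparatedOver` (= S12988).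
-/

set_option autoImplicit false
set_option linter.style.haveILetI false
set_option backward.isDefEq.respectTransparency false
set_option backward.isDefEq.respectTransparency.types false

namespace Groth.Agent.Lib.AlgStQC

open CategoryTheory Functor Opposite Limits AlgebraicGeometry Groth.Agent.Lib.FibGrpd
  Groth.Agent.Lib.FpEquiv Groth.Agent.Lib.EquivOver Groth.Agent.Lib.AlgStEquiv
  Groth.Agent.Lib.AlgStFpStack

universe u

variable {S : Scheme.{u}} {𝒳 𝒴 𝒵 : AlgSt.Cat S}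

/-- `RepByAlgSpWith P (diag f)` is invariant under 2-isomorphism of `f`. -/
theorem repByAlgSpWith_diag_congr (P : MorphismProperty (AlgSp.Sp S)) {f f' : 𝒳 ⥤ᵇ 𝒴}
    (α : f' ≅ f) :
    AlgSt.RepByAlgSpWith P (FibCat.diag f) ↔ AlgSt.RepByAlgSpWith P (FibCat.diag f') :=
  repByAlgSpWith_diag_iff_of_square P f f' (BasedFunctor.id 𝒳) (BasedFunctor.id 𝒴) isEquivOver_id
    isEquivOver_id (compIdIso f' ≪≫ α ≪≫ (idCompIso f).symm)

/-- A morphism between algebraic stacks quasi-separated over the base is quasi-separated. -/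
theorem isQuasiSeparatedMor_of_isQuasiSeparatedOver
    (h𝒳 : AlgSt.IsAlgStack Scheme.fppfPrecoverage 𝒳)
    (h𝒴 : AlgSt.IsAlgStack Scheme.fppfPrecoverage 𝒴) (f : 𝒳 ⥤ᵇ 𝒴)
    (hX : AlgSt.IsQuasiSeparatedOver 𝒳) (hY : AlgSt.IsQuasiSeparatedOver 𝒴) :
    AlgSt.IsQuasiSeparatedMor f := by
  refine Groth.Agent.Lib.AlgStDiagCancel.isQuasiSeparatedMor_of_comp h𝒳 h𝒴 isAlgStack_selfOver f
    (FibCat.toSelf 𝒴) ?_ ?_
  · exact (repByAlgSpWith_diag_congr _ (Groth.Agent.Lib.SelfProd.toSelfIso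
      (BasedFunctor.comp f (FibCat.toSelf 𝒴)) (FibCat.toSelf 𝒳))).1 hX
  · exact Groth.Agent.Lib.AlgStDiagDict2.repByAlgSpWith_mono _ (fun _ _ _ _ h => h.2) hY

/-- = S12988. -/
theorem fp_isQuasiCompact_and_isQuasiSeparatedOver [QuasiSeparatedSpace ↥S]
    (h𝒳 : AlgSt.IsAlgStack Scheme.fppfPrecoverage 𝒳)
    (h𝒴 : AlgSt.IsAlgStack Scheme.fppfPrecoverage 𝒴)
    (h𝒵 : AlgSt.IsAlgStack Scheme.fppfPrecoverage 𝒵) (a : 𝒳 ⥤ᵇ 𝒴) (b : 𝒵 ⥤ᵇ 𝒴)
    (hX : AlgSt.IsQuasiCompact 𝒳) (hXs : AlgSt.IsQuasiSeparatedOver 𝒳)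
    (hYs : AlgSt.IsQuasiSeparatedOver 𝒴)
    (hZ : AlgSt.IsQuasiCompact 𝒵) (hZs : AlgSt.IsQuasiSeparatedOver 𝒵) :
    AlgSt.IsQuasiCompact (FibCat.fp a b) ∧ AlgSt.IsQuasiSeparatedOver (FibCat.fp a b) := by
  have hb : AlgSt.IsQuasiCompactMor Scheme.fppfPrecoverage b :=
    isQuasiCompactMor_of_isQuasiCompact h𝒵 h𝒴 b hZ hYs
  refine ⟨hb 𝒳 h𝒳 hX a, ?_⟩
  have hP : AlgSt.IsAlgStack Scheme.fppfPrecoverage (FibCat.fp a b) :=
    isAlgStack_fp_of _ h𝒴.isStack h𝒴.diag h𝒳 h𝒵 _ _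
  have hbs : AlgSt.IsQuasiSeparatedMor b :=
    isQuasiSeparatedMor_of_isQuasiSeparatedOver h𝒵 h𝒴 b hZs hYs
  have h1 : AlgSt.IsQuasiSeparatedMor (FibCat.fpFst a b) :=
    Groth.Agent.Lib.AlgStDiag.repByAlgSpWith_diag_fpFst _ b a hbs
  haveI : FibCat.IsFibGrpd 𝒳.p := h𝒳.isStack.1
  haveI : FibCat.IsFibGrpd (FibCat.fp a b).p := hP.isStack.1
  have h2 : AlgSt.IsQuasiSeparatedMor
      (BasedFunctor.comp (FibCat.fpFst a b) (FibCat.toSelf 𝒳)) :=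
    Groth.Agent.Lib.AlgStDiagQS.repByAlgSpWith_qcqs_diag_comp _ _ h1 hXs
  exact (repByAlgSpWith_diag_congr _ (Groth.Agent.Lib.SelfProd.toSelfIso
    (FibCat.toSelf (FibCat.fp a b)) (BasedFunctor.comp (FibCat.fpFst a b) (FibCat.toSelf 𝒳)))).1 h2

end Groth.Agent.Lib.AlgStQC
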