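import Groth.Agent.Lib.AlgStSmoothLocal
import Groth.Agent.Lib.NoethDescent
import Groth.Agent.Lib.AlgStDescent
import Groth.Agent.Lib.H69AlgSpLocST2
import Groth.Agent.Lib.AlgStQC2

/-!
# Locally Noetherian algebraic stacks and immersions (helper64)

* `isLocallyNoetherian_of_jointly_surjective`, `smLocal_isLocallyNoetherian` : local Noetherianity
  is local in the smooth topology.
* `quasiCompact_of_isImmersion` : an immersion into a locally Noetherian scheme is quasi-compact.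
* `exists_iso_ofSpMap_toOverCat` : a functor `ofSp F ⟶ (Sch/V)` over the base is `ofSpMap c ⋙ toOverCat V`.
* `repByAlgSpWith_of_repData_overCat` : change of property for functors to a slice.
-/

set_option autoImplicit false
set_option linter.style.haveILetI false
set_option backward.isDefEq.respectTransparency false
set_option backward.isDefEq.respectTransparency.types false

namespace Groth.Agent.Lib.AlgStNoeth

open CategoryTheory Functor Opposite Limits AlgebraicGeometry Groth.Agent.Lib.FibGrpd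
  Groth.Agent.Lib.FpEquiv Groth.Agent.Lib.EquivOver Groth.Agent.Lib.AlgStFp
  Groth.Agent.Lib.AlgStRep Groth.Agent.Lib.AlgStSpTest Groth.Agent.Lib.AlgStEquiv
  Groth.Agent.Lib.AlgStAtlas Groth.Agent.Lib.AlgStRepStack Groth.Agent.Lib.AlgSpLocP
  Groth.Agent.Lib.AlgStSrcLocal Groth.Agent.Lib.AlgStSmoothLocal Groth.Agent.Lib.PshFp

universe v₂ u₂ u

section Schemes

/-- A scheme covered by the images of flat, locally finitely presented morphisms from locally
Noetherian schemes is locally Noetherian. -/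
theorem isLocallyNoetherian_of_jointly_surjective {U : Scheme.{u}}
    (h : ∀ x : U, ∃ (V : Scheme.{u}) (g : V ⟶ U), Flat g ∧ LocallyOfFinitePresentation g ∧
      IsLocallyNoetherian V ∧ x ∈ Set.range g) : IsLocallyNoetherian U := by
  choose V g hfl hfp hV hx using h
  have hopen : ∀ x, IsOpen (Set.range (g x)) := fun x => (g x).isOpenMap.isOpen_range
  let O : U → U.Opens := fun x => ⟨Set.range (g x), hopen x⟩
  have hO : TopologicalSpace.IsOpenCover O := by
    refine TopologicalSpace.IsOpenCover.mk (top_unique ?_)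
    intro x _
    exact TopologicalSpace.Opens.mem_iSup.2 ⟨x, hx x⟩
  rw [isLocallyNoetherian_iff_openCover (U.openCoverOfIsOpenCover O hO)]
  intro x
  have hr : Set.range (g x) ⊆ Set.range (O x).ι := by
    rw [Scheme.Opens.range_ι]
    exact subset_rfl
  let g' : V x ⟶ (O x : Scheme.{u}) := IsOpenImmersion.lift (O x).ι (g x) hr
  have hg' : g' ≫ (O x).ι = g x := IsOpenImmersion.lift_fac _ _ _
  have h1 : Flat g' := by
    refine MorphismProperty.of_postcomp (W := @Flat) (W' := @IsOpenImmersion) g' (O x).ι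
      inferInstance ?_
    rw [hg']
    exact hfl x
  have h2 : LocallyOfFinitePresentation g' := by
    refine MorphismProperty.of_postcomp (W := @LocallyOfFinitePresentation)
      (W' := @IsOpenImmersion) g' (O x).ι inferInstance ?_
    rw [hg']
    exact hfp x
  have h3 : Surjective g' := by
    refine ⟨fun y => ?_⟩
    obtain ⟨v, hv⟩ : ((O x).ι y) ∈ Set.range (g x) := y.2
    refine ⟨v, (O x).ι.isOpenEmbedding.injective ?_⟩
    rw [← Scheme.Hom.comp_apply, hg', hv]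
  have h4 : IsLocallyNoetherian (V x) := hV x
  have h5 : IsLocallyNoetherian (O x : Scheme.{u}) :=
    Groth.Agent.Lib.NoethDescent.isLocallyNoetherian_of_fppf g'
  exact h5

/-- Local Noetherianity is local in the smooth topology. -/
theorem smLocal_isLocallyNoetherian : SmLocal (fun T : Scheme.{u} => IsLocallyNoetherian T) := by
  intro U R hR
  constructor
  · intro hU V g hg
    have : Smooth g := hR.2 hg
    have : IsLocallyNoetherian U := hU
    exact LocallyOfFiniteType.isLocallyNoetherian g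
  · intro h
    refine isLocallyNoetherian_of_jointly_surjective fun x => ?_
    obtain ⟨V, g, hg, hx⟩ := Scheme.JointlySurjective.exists_eq (K := Scheme.precoverage @Smooth)
      R hR x
    have : Smooth g := hR.2 hg
    exact ⟨V, g, inferInstance, inferInstance, h g hg, hx⟩

/-- An immersion into a locally Noetherian scheme is quasi-compact. -/
theorem quasiCompact_of_isImmersion {X Y : Scheme.{u}} (f : X ⟶ Y) [IsImmersion f]
    [IsLocallyNoetherian Y] : QuasiCompact f := by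
  rw [← f.liftCoborder_ι]
  infer_instance

end Schemes

variable {S : Scheme.{u}}

section Slice

/-- A functor over the base from the category of a sheaf to a slice is `ofSpMap c ⋙ toOverCat V` for
the map of sheaves `c` it determines. -/
theorem exists_iso_ofSpMap_toOverCat {F : AlgSp.Sp S} {V : Over S}
    (Ψ : AlgSt.ofSp F ⥤ᵇ FibCat.overCat V) :
    Nonempty (Ψ ≅ BasedFunctor.comp (AlgSt.ofSpMap (AlgSt.spMapOfOver Ψ)) (AlgSt.toOverCat V)) := by
  let Φ' : Stk.ofPsh F.obj ⥤ᵇ Stk.ofPsh ((AlgSp.pyon S).obj V) :=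
    BasedFunctor.comp Ψ (AlgSt.ofOverCat V)
  let c : F ⟶ (AlgSp.yon S).obj V := ObjectProperty.homMk (pshYonedaMor Φ')
  have e : BasedFunctor.comp Φ' (AlgSt.toOverCat V) = Ψ := rfl
  let γ : Ψ ≅ BasedFunctor.comp (AlgSt.ofSpMap c) (AlgSt.toOverCat V) :=
    eqToIso e.symm ≪≫ whiskerRightIso (pshYonedaIso Φ') (AlgSt.toOverCat V)
  have hc : AlgSt.spMapOfOver Ψ = c :=
    (spMapOfOver_congr γ.hom).trans (spMapOfOver_ofSpMap_toOverCat c)
  rw [hc]
  exact ⟨γ⟩

/-- Change of property for a functor to a slice: if the representing map of sheaves has `Q`, `Q`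
implies `P` for maps from algebraic spaces to `h_V`, and `P` is stable under base change, then the
functor is representable by algebraic spaces with `P`. -/
theorem repByAlgSpWith_of_repData_overCat {𝒲 : AlgSt.Cat S}
    (P Q : MorphismProperty (AlgSp.Sp S))
    (hPb : ∀ ⦃X₁ Y₁ X₂ Y₂ : AlgSp.Sp S⦄, AlgSp.IsAlgSpace X₁ → AlgSp.IsAlgSpace Y₁ →
      AlgSp.IsAlgSpace X₂ → AlgSp.IsAlgSpace Y₂ → ∀ (a : X₁ ⟶ Y₁) (b : Y₂ ⟶ Y₁) (a' : X₂ ⟶ Y₂)
      (b' : X₂ ⟶ X₁), IsPullback b' a' a b → P a → P a')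
    {V : Over S}
    (hQP : ∀ (F : AlgSp.Space S) (a : F.obj ⟶ (AlgSp.yon S).obj V), Q a → P a)
    (Φ : 𝒲 ⥤ᵇ FibCat.overCat V) (h : RepData Q Φ) : AlgSt.RepByAlgSpWith P Φ := by
  obtain ⟨F, e, he, hQ⟩ := h
  obtain ⟨γ⟩ := exists_iso_ofSpMap_toOverCat (BasedFunctor.comp e Φ)
  have h1 : AlgSt.RepByAlgSpWith P (AlgSt.ofSpMap (AlgSt.spMapOfOver (BasedFunctor.comp e Φ))) :=
    repByAlgSpWith_ofSpMap P hPb F.property (AlgSp.IsAlgSpace.yon_obj V) _ (hQP F _ hQ)
  have h2 : AlgSt.RepByAlgSpWith P (BasedFunctor.comp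
      (AlgSt.ofSpMap (AlgSt.spMapOfOver (BasedFunctor.comp e Φ))) (AlgSt.toOverCat V)) :=
    (repByAlgSpWith_comp_equiv_iff P _ (AlgSt.toOverCat V) (toOverCat_isEquivOver V)).2 h1
  have h3 : AlgSt.RepByAlgSpWith P (BasedFunctor.comp e Φ) :=
    (Groth.Agent.Lib.AlgStDiag3.repByAlgSpWith_congr P γ).1 h2
  exact (repByAlgSpWith_equiv_comp_iff P e he Φ).2 h3

end Slice

section RepWith

/-- A sheaf with a map to `h_V` representable with `P` is itself representable. -/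
theorem exists_iso_yon_of_repWith (P : MorphismProperty Scheme.{u}) {F : AlgSp.Sp S} {V : Over S}
    (a : F ⟶ (AlgSp.yon S).obj V) (ha : AlgSp.RepWith P a) :
    ∃ (W : Over S) (i : (AlgSp.yon S).obj W ≅ F) (w : W ⟶ V),
      i.hom ≫ a = (AlgSp.yon S).map w ∧ P w.left := by
  have sq := ha.rep.isPullback (𝟙 ((AlgSp.yon S).obj V))
  haveI : IsIso (ha.rep.fst (𝟙 ((AlgSp.yon S).obj V))) := sq.isIso_fst_of_isIso
  refine ⟨_, asIso (ha.rep.fst (𝟙 _)), ha.rep.snd (𝟙 _), ?_, ha.property_snd (𝟙 _)⟩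
  have := sq.w
  simpa using this

/-- An immersion into a locally Noetherian scheme is quasi-compact, for sheaves. -/
theorem isQuasiCompactMor_of_repWith_isImmersion {F : AlgSp.Sp S} {V : Over S}
    (hV : IsLocallyNoetherian V.left) (a : F ⟶ (AlgSp.yon S).obj V)
    (ha : AlgSp.RepWith @IsImmersion a) : AlgSp.IsQuasiCompactMor a := by
  obtain ⟨W, i, w, hw, hwi⟩ := exists_iso_yon_of_repWith _ a ha
  haveI : IsImmersion w.left := hwi
  have h1 : AlgSp.RepWith @QuasiCompact ((AlgSp.yon S).map w) :=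
    (AlgSp.repWith_yon_map_iff @QuasiCompact w).2 (quasiCompact_of_isImmersion w.left)
  have h2 : AlgSp.RepWith @QuasiCompact a := by
    have e : a = i.inv ≫ (AlgSp.yon S).map w := by rw [← hw, Iso.inv_hom_id_assoc]
    rw [e]
    exact (MorphismProperty.cancel_left_of_respectsIso (AlgSp.RepWith @QuasiCompact) i.inv _).2 h1
  exact Groth.Agent.Lib.AlgSpBasic.isQuasiCompactMor_of_repWith le_rfl h2

/-- The source of an immersion into a locally Noetherian scheme is locally Noetherian, for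
sheaves. -/
theorem etaleLocally_isLocallyNoetherian_of_repWith_isImmersion {F : AlgSp.Sp S} {V : Over S}
    (hV : IsLocallyNoetherian V.left) (a : F ⟶ (AlgSp.yon S).obj V)
    (ha : AlgSp.RepWith @IsImmersion a) :
    AlgSp.EtaleLocally (fun T => IsLocallyNoetherian T) F := by
  obtain ⟨W, i, w, hw, hwi⟩ := exists_iso_yon_of_repWith _ a ha
  haveI : IsImmersion w.left := hwi
  refine ⟨W, i.hom, ?_, ?_, LocallyOfFiniteType.isLocallyNoetherian w.left⟩
  · have e : i.hom = (AlgSp.yon S).map (𝟙 W) ≫ i.hom := by simp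
    rw [e]
    exact (MorphismProperty.cancel_right_of_respectsIso (AlgSp.RepWith @Etale) _ i.hom).2
      (by rw [(AlgSp.yon S).map_id]; exact Groth.Agent.Lib.AlgSpQC.repWith_id _ W)
  · have e : i.hom = (AlgSp.yon S).map (𝟙 W) ≫ i.hom := by simp
    rw [e]
    exact (MorphismProperty.cancel_right_of_respectsIso (AlgSp.RepWith @Surjective) _ i.hom).2
      (by rw [(AlgSp.yon S).map_id]; exact Groth.Agent.Lib.AlgSpQC.repWith_id _ W)

end RepWith

section Stacks

variable {𝒳 𝒴 : AlgSt.Cat S}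

/-- The source of an immersion into a locally Noetherian algebraic stack is locally Noetherian. -/
theorem smoothLocally_isLocallyNoetherian_of_isImm
    (h𝒳 : AlgSt.IsAlgStack Scheme.fppfPrecoverage 𝒳)
    (h𝒴 : AlgSt.IsAlgStack Scheme.fppfPrecoverage 𝒴) (j : 𝒳 ⥤ᵇ 𝒴) (hj : AlgSt.IsImm j)
    (hN : AlgSt.SmoothLocally (fun T ↦ IsLocallyNoetherian T) 𝒴) :
    AlgSt.SmoothLocally (fun T ↦ IsLocallyNoetherian T) 𝒳 := by
  haveI : FibCat.IsFibGrpd 𝒳.p := h𝒳.isStack.1
  haveI : FibCat.IsFibGrpd 𝒴.p := h𝒴.isStack.1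
  obtain ⟨V, v, hv, hvs⟩ := h𝒴.atlas
  have hV : IsLocallyNoetherian V.left := hN V v hv
  obtain ⟨F, e, he, ha⟩ := hj V v
  rw [smoothLocally_iff_exists_space_chart h𝒳 smLocal_isLocallyNoetherian]
  refine ⟨F, BasedFunctor.comp e (FibCat.fpSnd v j), ?_, ?_, ?_⟩
  · exact (repByAlgSpWith_equiv_comp_iff _ e he _).1
      (Groth.Agent.Lib.AlgStRepC.repByAlgSpWith_fpSnd _ v j hv)
  · exact (repByAlgSpWith_equiv_comp_iff _ e he _).1
      (Groth.Agent.Lib.AlgStRepC.repByAlgSpWith_fpSnd _ v j hvs)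
  · exact etaleLocally_isLocallyNoetherian_of_repWith_isImmersion hV _ ha

/-- An immersion into a locally Noetherian algebraic stack is quasi-compact. -/
theorem repByAlgSpWith_isQuasiCompactMor_of_isImm
    (h𝒳 : AlgSt.IsAlgStack Scheme.fppfPrecoverage 𝒳)
    (h𝒴 : AlgSt.IsAlgStack Scheme.fppfPrecoverage 𝒴) (j : 𝒳 ⥤ᵇ 𝒴) (hj : AlgSt.IsImm j)
    (hN : AlgSt.SmoothLocally (fun T ↦ IsLocallyNoetherian T) 𝒴) :
    AlgSt.RepByAlgSpWith AlgSp.IsQuasiCompactMor j := by
  haveI : FibCat.IsFibGrpd 𝒳.p := h𝒳.isStack.1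
  haveI : FibCat.IsFibGrpd 𝒴.p := h𝒴.isStack.1
  obtain ⟨V, v, hv, hvs⟩ := h𝒴.atlas
  have hV : IsLocallyNoetherian V.left := hN V v hv
  have hj1 : AlgSt.RepByAlgSp1 j := fun U y => by
    obtain ⟨F, e, he, -⟩ := hj U y
    exact ⟨F, e, he⟩
  have hPb : ∀ ⦃X₁ Y₁ X₂ Y₂ : AlgSp.Sp S⦄, AlgSp.IsAlgSpace X₁ → AlgSp.IsAlgSpace Y₁ →
      AlgSp.IsAlgSpace X₂ → AlgSp.IsAlgSpace Y₂ → ∀ (a : X₁ ⟶ Y₁) (b : Y₂ ⟶ Y₁) (a' : X₂ ⟶ Y₂)
      (b' : X₂ ⟶ X₁), IsPullback b' a' a b → AlgSp.IsQuasiCompactMor a →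
      AlgSp.IsQuasiCompactMor a' :=
    fun _ _ _ _ _ _ _ _ a b a' b' sq ha =>
      Groth.Agent.Lib.AlgSpDescent.isQuasiCompactMor_of_isPullback sq ha
  have hv1 : AlgSt.RepByAlgSpWith (AlgSp.LocP @Flat) v :=
    Groth.Agent.Lib.AlgStDiagDict2.repByAlgSpWith_mono v (fun F T _ α hα =>
      Groth.Agent.Lib.H69AlgSpLocST2.locP_mono (fun _ _ l hl => by
        have : Smooth l := hl
        exact (inferInstance : Flat l)) hα) hv
  have hv2 : AlgSt.RepByAlgSpWith (AlgSp.LocP @LocallyOfFinitePresentation) v :=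
    Groth.Agent.Lib.AlgStDiagDict2.repByAlgSpWith_mono v (fun F T _ α hα =>
      Groth.Agent.Lib.H69AlgSpLocST2.locP_mono (fun _ _ l hl => by
        have : Smooth l := hl
        exact (inferInstance : LocallyOfFinitePresentation l)) hα) hv
  refine Groth.Agent.Lib.AlgStDescent.repByAlgSpWith_of_fpFst_cover AlgSp.IsQuasiCompactMor hPb
    (Groth.Agent.Lib.AlgStDiagQS.isLocalOnBase_fppf_of_fpqc
      Groth.Agent.Lib.AlgSpFpqc.isLocalOnBase_fpqc_isQuasiCompactMor) j hj1 v hv1 hv2 hvs ?_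
  exact repByAlgSpWith_of_repData_overCat AlgSp.IsQuasiCompactMor (AlgSp.RepWith @IsImmersion) hPb
    (fun F a ha => isQuasiCompactMor_of_repWith_isImmersion hV a ha) (FibCat.fpFst v j) (hj V v)

/-- = S13017. -/
theorem isQuasiCompactMor_of_isImm
    (h𝒳 : AlgSt.IsAlgStack Scheme.fppfPrecoverage 𝒳)
    (h𝒴 : AlgSt.IsAlgStack Scheme.fppfPrecoverage 𝒴) (j : 𝒳 ⥤ᵇ 𝒴) (hj : AlgSt.IsImm j)
    (hN : AlgSt.SmoothLocally (fun T ↦ IsLocallyNoetherian T) 𝒴) :
    AlgSt.IsQuasiCompactMor Scheme.fppfPrecoverage j := by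
  haveI : FibCat.IsFibGrpd 𝒳.p := h𝒳.isStack.1
  haveI : FibCat.IsFibGrpd 𝒴.p := h𝒴.isStack.1
  exact Groth.Agent.Lib.AlgStQC.isQuasiCompactMor_of_repByAlgSpWith _ j
    (repByAlgSpWith_isQuasiCompactMor_of_isImm h𝒳 h𝒴 j hj hN)

/-- An immersion is a monomorphism. -/
theorem isMono_of_isImm (j : 𝒳 ⥤ᵇ 𝒴) (hj : AlgSt.IsImm j) : AlgSt.IsMono j :=
  Groth.Agent.Lib.AlgStDiagDict2.repByAlgSpWith_mono j (fun F T _ α hα =>
    Groth.Agent.Lib.AlgSpBasic.mono_of_repWith (fun _ _ l hl => by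
      have : IsImmersion l := hl
      exact (inferInstance : Mono l)) hα) hj

/-- = S13018. -/
theorem noetherian_of_isImm
    (h𝒳 : AlgSt.IsAlgStack Scheme.fppfPrecoverage 𝒳)
    (h𝒴 : AlgSt.IsAlgStack Scheme.fppfPrecoverage 𝒴) (j : 𝒳 ⥤ᵇ 𝒴) (hj : AlgSt.IsImm j)
    (hqc : AlgSt.IsQuasiCompact 𝒴) (hqs : AlgSt.IsQuasiSeparatedOver 𝒴)
    (hN : AlgSt.SmoothLocally (fun T ↦ IsLocallyNoetherian T) 𝒴) :
    AlgSt.IsQuasiCompact 𝒳 ∧ AlgSt.IsQuasiSeparatedOver 𝒳 ∧
      AlgSt.SmoothLocally (fun T ↦ IsLocallyNoetherian T) 𝒳 := by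
  haveI : FibCat.IsFibGrpd 𝒳.p := h𝒳.isStack.1
  haveI : FibCat.IsFibGrpd 𝒴.p := h𝒴.isStack.1
  have hmono : AlgSt.IsMono j := isMono_of_isImm j hj
  refine ⟨?_, ?_, smoothLocally_isLocallyNoetherian_of_isImm h𝒳 h𝒴 j hj hN⟩
  · have h1 : AlgSt.IsQuasiCompact (FibCat.fp (BasedFunctor.id 𝒴) j) :=
      isQuasiCompactMor_of_isImm h𝒳 h𝒴 j hj hN 𝒴 h𝒴 hqc (BasedFunctor.id 𝒴)
    haveI : FibCat.IsFibGrpd (FibCat.fp (BasedFunctor.id 𝒴) j).p := fp_isFibGrpd _ _
    refine Groth.Agent.Lib.AlgStQC.isQuasiCompact_of_smooth_surjective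
      (FibCat.fpSnd (BasedFunctor.id 𝒴) j) ?_ ?_ h1
    · exact Groth.Agent.Lib.AlgStRepC.repByAlgSpWith_fpSnd _ (BasedFunctor.id 𝒴) j
        (Groth.Agent.Lib.AlgStEquivRep.repByAlgSpWith_of_isEquivOver _
          (fun U => Groth.Agent.Lib.H69AlgSpLocST.locP_smooth_id (AlgSp.IsAlgSpace.yon_obj U)) _
          isEquivOver_id)
    · exact Groth.Agent.Lib.AlgStRepC.repByAlgSpWith_fpSnd _ (BasedFunctor.id 𝒴) j
        (Groth.Agent.Lib.AlgStEquivRep.repByAlgSpWith_of_isEquivOver _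
          (fun U => by
            intro x
            exact ⟨x, by simp [AlgSp.Points.map_id]⟩) _
          isEquivOver_id)
  · have hjqs : AlgSt.RepByAlgSpWith (Groth.Agent.Lib.AlgStDiagQS.qcqs (S := S))
        (FibCat.diag j) :=
      Groth.Agent.Lib.AlgStEquivRep.repByAlgSpWith_diag_of_isMono _
        (fun U => ⟨Groth.Agent.Lib.AlgSpBasic.isQuasiCompactMor_of_repWith le_rfl
            (Groth.Agent.Lib.AlgSpQC.repWith_id _ U),
          Groth.Agent.Lib.AlgStDiagRep2.isQuasiSeparatedMor_of_mono _⟩) j hmono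
    have h2 := Groth.Agent.Lib.AlgStDiagQS.repByAlgSpWith_qcqs_diag_comp j (FibCat.toSelf 𝒴)
      hjqs hqs
    exact (Groth.Agent.Lib.AlgStQC.repByAlgSpWith_diag_congr _
      (Groth.Agent.Lib.SelfProd.toSelfIso (FibCat.toSelf 𝒳)
        (BasedFunctor.comp j (FibCat.toSelf 𝒴)))).1 h2

end Stacks

end Groth.Agent.Lib.AlgStNoeth
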