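import Groth.Agent.Lib.AlgStPtsSurj
import Groth.Agent.Lib.AlgStDiagDict2

/-!
# Topology of `|𝒳|` for algebraic stacks: main statements (helper36)

ns `Groth.Agent.Lib.AlgStPtsMain`

* `isOpenMap_points_map_of_space` (= S12821), `continuous_points_map_of_space`
* `continuous_ofChart`, `isOpenMap_ofChart` (= S12822)
* `continuous_points_map` (= S12820)
* `isOpen_iff_preimage_fppf_chart` (= S12823)
* `exists_isOpen_isCompact_nhd` (= S12824)
* `isSurjective_iff` (= S12819)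
-/

set_option autoImplicit false
set_option linter.style.haveILetI false
set_option backward.isDefEq.respectTransparency false
set_option backward.isDefEq.respectTransparency.types false

namespace Groth.Agent.Lib.AlgStPtsMain

open CategoryTheory CategoryTheory.Limits AlgebraicGeometry Opposite AlgSt
  Groth.Agent.Lib.H78AlgStPoints Groth.Agent.Lib.H78AlgStPointsFp Groth.Agent.Lib.AlgStPts
  Groth.Agent.Lib.AlgStPtsTop Groth.Agent.Lib.AlgStPtsSurj Groth.Agent.Lib.FibGrpd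
  Groth.Agent.Lib.AlgStFp Groth.Agent.Lib.AlgStEquiv

universe u

variable {S : Scheme.{u}} {𝒳 𝒴 : AlgSt.Cat S}

/-- = S12821 -/
theorem isOpenMap_points_map_of_space [FibCat.IsFibGrpd 𝒳.p] (U : AlgSp.Space S)
    (u : ofSp U.obj ⥤ᵇ 𝒳) (hu₁ : RepByAlgSpWith (AlgSp.LocP @Flat) u)
    (hu₂ : RepByAlgSpWith (AlgSp.LocP @LocallyOfFinitePresentation) u) :
    IsOpenMap (Points.map u) := by
  rw [map_eq_ptsMap_symm]
  exact (isOpenMap_ptsMap U u hu₁ hu₂).comp (spPtsHomeo U).symm.isOpenMap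

theorem continuous_points_map_of_space [FibCat.IsFibGrpd 𝒳.p]
    (hat : HasAtlas (AlgSp.LocP @Smooth) 𝒳) (U : AlgSp.Space S) (u : ofSp U.obj ⥤ᵇ 𝒳) :
    Continuous (Points.map u) := by
  rw [map_eq_ptsMap_symm]
  exact (continuous_ptsMap hat U u).comp (spPtsHomeo U).symm.continuous

theorem ofChart_eq_comp {U : Over S} (x : FibCat.overCat U ⥤ᵇ 𝒳) :
    Points.ofChart x =
      ptsMap (BasedFunctor.comp (toOverCat U) x) ∘ AlgSp.Points.schemeHomeo U := rfl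

theorem continuous_ofChart [FibCat.IsFibGrpd 𝒳.p] (hat : HasAtlas (AlgSp.LocP @Smooth) 𝒳)
    {U : Over S} (x : FibCat.overCat U ⥤ᵇ 𝒳) : Continuous (Points.ofChart x) := by
  rw [ofChart_eq_comp]
  exact (continuous_ptsMap hat ⟨_, AlgSp.IsAlgSpace.yon_obj U⟩ _).comp
    (AlgSp.Points.schemeHomeo U).continuous

theorem isOpenMap_ofChart [FibCat.IsFibGrpd 𝒳.p] {U : Over S} (x : FibCat.overCat U ⥤ᵇ 𝒳)
    (hx₁ : RepByAlgSpWith (AlgSp.LocP @Flat) x)
    (hx₂ : RepByAlgSpWith (AlgSp.LocP @LocallyOfFinitePresentation) x) :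
    IsOpenMap (Points.ofChart x) := by
  rw [ofChart_eq_comp]
  exact (isOpenMap_ptsMap ⟨_, AlgSp.IsAlgSpace.yon_obj U⟩ _
    ((repByAlgSpWith_equiv_comp_iff _ (toOverCat U) (toOverCat_isEquivOver U) x).1 hx₁)
    ((repByAlgSpWith_equiv_comp_iff _ (toOverCat U) (toOverCat_isEquivOver U) x).1 hx₂)).comp
    (AlgSp.Points.schemeHomeo U).isOpenMap

theorem map_ofChart {U : Over S} (x : FibCat.overCat U ⥤ᵇ 𝒳) (f : 𝒳 ⥤ᵇ 𝒴) (t : ↥U.left) :
    Points.map f (Points.ofChart x t) = Points.ofChart (BasedFunctor.comp x f) t := rfl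

/-- = S12820 -/
theorem continuous_points_map [FibCat.IsFibGrpd 𝒴.p] (hat : HasAtlas (AlgSp.LocP @Smooth) 𝒴)
    (f : 𝒳 ⥤ᵇ 𝒴) : Continuous (Points.map f) := by
  refine continuous_def.2 fun W hW => ?_
  rw [Points.isOpen_iff]
  intro U x _
  have h := (continuous_ofChart hat (BasedFunctor.comp x f)).isOpen_preimage W hW
  exact h

theorem surjective_ofChart [FibCat.IsFibGrpd 𝒳.p] {U : Over S} (x : FibCat.overCat U ⥤ᵇ 𝒳)
    (hx : RepByAlgSpWith AlgSp.IsSurjectiveMor x) : Function.Surjective (Points.ofChart x) := by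
  rw [ofChart_eq_comp]
  have h1 : IsSurjective (BasedFunctor.comp (toOverCat U) x) :=
    isSurjective_of_repByAlgSpWith _
      ((repByAlgSpWith_equiv_comp_iff _ (toOverCat U) (toOverCat_isEquivOver U) x).1 hx)
  refine Function.Surjective.comp (fun ξ => ?_) (AlgSp.Points.schemeHomeo U).surjective
  obtain ⟨ζ, rfl⟩ := h1 ξ
  obtain ⟨v, rfl⟩ := (spPts _).surjective ζ
  exact ⟨v, rfl⟩

theorem flatLfp_repByAlgSpWith_of_smooth {𝒜 : AlgSt.Cat S} (Y : 𝒜 ⥤ᵇ 𝒳)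
    (hY : RepByAlgSpWith (AlgSp.LocP @Smooth) Y) :
    RepByAlgSpWith (AlgSp.LocP @Flat) Y ∧
      RepByAlgSpWith (AlgSp.LocP @LocallyOfFinitePresentation) Y :=
  ⟨Groth.Agent.Lib.AlgStDiagDict2.repByAlgSpWith_mono Y
      (fun _ _ _ _ h => (flatLfp_of_smooth h).1) hY,
    Groth.Agent.Lib.AlgStDiagDict2.repByAlgSpWith_mono Y
      (fun _ _ _ _ h => (flatLfp_of_smooth h).2) hY⟩

/-- = S12823 -/
theorem isOpen_iff_preimage_fppf_chart [FibCat.IsFibGrpd 𝒳.p]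
    (hat : HasAtlas (AlgSp.LocP @Smooth) 𝒳) (U : AlgSp.Space S) (p : ofSp U.obj ⥤ᵇ 𝒳)
    (hp₁ : RepByAlgSpWith (AlgSp.LocP @Flat) p)
    (hp₂ : RepByAlgSpWith (AlgSp.LocP @LocallyOfFinitePresentation) p)
    (hp₃ : RepByAlgSpWith AlgSp.IsSurjectiveMor p) (W : Set (Points 𝒳)) :
    IsOpen W ↔ IsOpen (Points.map p ⁻¹' W) :=
  ⟨fun h => (continuous_points_map_of_space hat U p).isOpen_preimage W h,
    fun h => isOpen_of_preimage (isOpenMap_points_map_of_space U p hp₁ hp₂)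
      (isSurjective_of_repByAlgSpWith p hp₃) h⟩

/-- = S12824 -/
theorem exists_isOpen_isCompact_nhd [FibCat.IsFibGrpd 𝒳.p]
    (hat : HasAtlas (AlgSp.LocP @Smooth) 𝒳) (x : Points 𝒳) (W : Set (Points 𝒳))
    (hW : IsOpen W) (hx : x ∈ W) :
    ∃ V : Set (Points 𝒳), IsOpen V ∧ IsCompact V ∧ x ∈ V ∧ V ⊆ W := by
  obtain ⟨U, Y, hY1, hY2⟩ := id hat
  have hfl := flatLfp_repByAlgSpWith_of_smooth Y hY1
  obtain ⟨t, rfl⟩ := surjective_ofChart Y hY2 x
  have hcont := continuous_ofChart hat Y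
  have hopen := isOpenMap_ofChart Y hfl.1 hfl.2
  have hO : IsOpen (Points.ofChart Y ⁻¹' W) := hcont.isOpen_preimage W hW
  obtain ⟨_, ⟨A, hA, rfl⟩, htA, hAW⟩ :=
    U.left.isBasis_affineOpens.exists_subset_of_mem_open
      (show t ∈ Points.ofChart Y ⁻¹' W from hx) hO
  refine ⟨Points.ofChart Y '' A, hopen _ A.2, ?_, ⟨t, htA, rfl⟩, ?_⟩
  · exact (IsAffineOpen.isCompact hA).image hcont
  · rintro _ ⟨a, ha, rfl⟩
    exact hAW ha

end Groth.Agent.Lib.AlgStPtsMain
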