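import Groth.Agent.Lib.AlgStQC
import Groth.Agent.Lib.AlgStSrcLocal

/-!
# Properties of algebraic stacks that are local in the smooth topology (helper64)

* `SmLocal P` : the hypothesis of the rows (local for smooth coverings of schemes), with
  `SmLocal.of_smooth`, `SmLocal.of_smooth_surjective`.
* `exists_iso_chart_ofSp`, `prop_of_chart_ofSp` : charts of `ofSp X` are maps of sheaves.
* `exists_common_chart` : two charts of a stack are dominated by a common algebraic space.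
* `smoothLocally_iff_exists_chart` (= S12846) and its variants (S12852–S12855).
-/

set_option autoImplicit false
set_option linter.style.haveILetI false
set_option backward.isDefEq.respectTransparency false
set_option backward.isDefEq.respectTransparency.types false

namespace Groth.Agent.Lib.AlgStSmoothLocal

open CategoryTheory Functor Opposite Limits AlgebraicGeometry Groth.Agent.Lib.FibGrpd
  Groth.Agent.Lib.FpEquiv Groth.Agent.Lib.EquivOver Groth.Agent.Lib.AlgStFp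
  Groth.Agent.Lib.AlgStRep Groth.Agent.Lib.AlgStSpTest Groth.Agent.Lib.AlgStEquiv
  Groth.Agent.Lib.AlgStAtlas Groth.Agent.Lib.AlgStRepStack Groth.Agent.Lib.AlgSpLocP
  Groth.Agent.Lib.AlgStSrcLocal

universe v₂ u₂ u

/-- `P` is local for the smooth topology on schemes. -/
def SmLocal (P : Scheme.{u} → Prop) : Prop :=
  ∀ (U : Scheme.{u}) (R : Presieve U), R ∈ Scheme.precoverage @Smooth U →
    (P U ↔ ∀ ⦃V : Scheme.{u}⦄ (g : V ⟶ U), R g → P V)

namespace SmLocal

variable {P : Scheme.{u} → Prop}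

theorem of_smooth_surjective (hP : SmLocal P) {U V : Scheme.{u}} (g : V ⟶ U) (hg : Smooth g)
    (hs : Function.Surjective g.base) (h : P V) : P U := by
  refine (hP U (Presieve.singleton g)
    ((Scheme.singleton_mem_precoverage_iff _ g).2 ⟨hs, hg⟩)).2 ?_
  rintro V' g' ⟨⟩
  exact h

theorem of_smooth (hP : SmLocal P) {U V : Scheme.{u}} (g : V ⟶ U) (hg : Smooth g) (h : P U) :
    P V := by
  let X : Bool → Scheme.{u} := fun b => if b then V else U
  let f : ∀ b, X b ⟶ U := fun b => match b with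
    | true => g
    | false => 𝟙 U
  have hmem : Presieve.ofArrows X f ∈ Scheme.precoverage @Smooth U := by
    rw [Scheme.ofArrows_mem_precoverage_iff]
    refine ⟨fun x => ⟨false, x, rfl⟩, fun b => ?_⟩
    match b with
    | true => exact hg
    | false => exact (inferInstance : Smooth (𝟙 U))
  exact (hP U _ hmem).1 h (f true) ⟨true⟩

end SmLocal

variable {S : Scheme.{u}}

section Charts

/-- A chart of the category of a sheaf is given by a map of sheaves. -/
theorem exists_iso_chart_ofSp {X : AlgSp.Sp S} {V : Over S} (x : FibCat.overCat V ⥤ᵇ AlgSt.ofSp X) :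
    ∃ c : (AlgSp.yon S).obj V ⟶ X,
      Nonempty (x ≅ BasedFunctor.comp (AlgSt.ofOverCat V) (AlgSt.ofSpMap c)) := by
  obtain ⟨ξ, ⟨γ⟩⟩ := Groth.Agent.Lib.AlgStBoot.exists_ofPshMap_iso_overCat V x
  exact ⟨ObjectProperty.homMk ξ, ⟨γ⟩⟩

/-- A chart of the category of an algebraic space with `P` is a map of sheaves with `P`. -/
theorem prop_of_chart_ofSp (P : MorphismProperty (AlgSp.Sp S)) (hPi : IsoInv P)
    (hPl : SchemeLocal P) {X : AlgSp.Sp S} (hX : AlgSp.IsAlgSpace X) {V : Over S}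
    (x : FibCat.overCat V ⥤ᵇ AlgSt.ofSp X) (c : (AlgSp.yon S).obj V ⟶ X)
    (γ : x ≅ BasedFunctor.comp (AlgSt.ofOverCat V) (AlgSt.ofSpMap c))
    (hx : AlgSt.RepByAlgSpWith P x) : P c := by
  have h1 : AlgSt.RepByAlgSpWith P (BasedFunctor.comp (AlgSt.ofOverCat V) (AlgSt.ofSpMap c)) :=
    (Groth.Agent.Lib.AlgStDiag3.repByAlgSpWith_congr _ γ.symm).1 hx
  have h2 : AlgSt.RepByAlgSpWith P (AlgSt.ofSpMap c) :=
    (repByAlgSpWith_equiv_comp_iff _ (AlgSt.ofOverCat V) (ofOverCat_isEquivOver V)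
      (AlgSt.ofSpMap c)).2 h1
  exact Groth.Agent.Lib.AlgStDiagDict2.prop_of_repByAlgSpWith_ofSpMap _ hPi hPl
    (AlgSp.IsAlgSpace.yon_obj V) hX c h2

variable {𝒳 : BasedCategory.{v₂, u₂} (Over S)}

/-- Two charts of `𝒳`, the first with `P₁` and the second with `P₂`, are dominated by an algebraic
space `F` with `F ⟶ V` having `P₁` and `F ⟶ U` having `P₂`. -/
theorem exists_common_chart (P₁ P₂ : MorphismProperty (AlgSp.Sp S)) (hP₂i : IsoInv P₂)
    {U V : Over S} (x : FibCat.overCat U ⥤ᵇ 𝒳) (v : FibCat.overCat V ⥤ᵇ 𝒳)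
    (hx : AlgSt.RepByAlgSpWith P₁ x) (hv : AlgSt.RepByAlgSpWith P₂ v) :
    ∃ (F : AlgSp.Space S) (q : F.obj ⟶ (AlgSp.yon S).obj V) (p : F.obj ⟶ (AlgSp.yon S).obj U),
      P₁ q ∧ P₂ p := by
  obtain ⟨F, e, he, hq⟩ := hx V v
  refine ⟨F, _, AlgSt.spMapOfOver (BasedFunctor.comp e (FibCat.fpSnd v x)), hq, ?_⟩
  have h1 : RepData P₂ (FibCat.fpSnd v x) :=
    repData_of_equiv' (Groth.Agent.Lib.AlgStRepC.fpSwap v x)
      (Groth.Agent.Lib.AlgStRepC.fpSwap_isEquivOver v x)
      (Groth.Agent.Lib.AlgStRepC.fpSwapFstIso v x) (hv U x)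
  have h2 : RepData P₂ (BasedFunctor.comp e (FibCat.fpSnd v x)) :=
    repData_of_equiv' e he (Iso.refl _) h1
  exact prop_spMapOfOver_of_repData P₂ hP₂i F.property _ h2

end Charts

section Transfer

variable {P : Scheme.{u} → Prop}

/-- Transfer of a smooth-local property of schemes along a correspondence `V ⟵ F ⟶ U` of algebraic
spaces with `F ⟶ V` smooth surjective and `F ⟶ U` smooth. -/
theorem transfer (hP : SmLocal P) {U V : Over S} (F : AlgSp.Space S)
    (q : F.obj ⟶ (AlgSp.yon S).obj V) (p : F.obj ⟶ (AlgSp.yon S).obj U)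
    (hq : AlgSp.LocP @Smooth q) (hqs : AlgSp.IsSurjectiveMor q) (hp : AlgSp.LocP @Smooth p)
    (hU : P U.left) : P V.left := by
  obtain ⟨W, c, hce, hcs⟩ := F.property.atlas
  have hW := AlgSp.IsAlgSpace.yon_obj (S := S) W
  have hc : AlgSp.LocP @Smooth c := atlasClass_locP_smooth.ofChart F.property c hce hcs
  have hc' : AlgSp.IsSurjectiveMor c := atlasClass_isSurjectiveMor.ofChart F.property c hce hcs
  have h1 : AlgSp.LocP @Smooth (c ≫ q) :=
    locP_comp etLocalClass_smooth hW F.property (AlgSp.IsAlgSpace.yon_obj V) hc hq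
  have h2 : AlgSp.IsSurjectiveMor (c ≫ q) := isSurjectiveMor_comp c q hc' hqs
  have h3 : AlgSp.LocP @Smooth (c ≫ p) :=
    locP_comp etLocalClass_smooth hW F.property (AlgSp.IsAlgSpace.yon_obj U) hc hp
  obtain ⟨b, hb⟩ := (AlgSp.yon S).map_surjective (c ≫ q)
  obtain ⟨a, ha⟩ := (AlgSp.yon S).map_surjective (c ≫ p)
  rw [← hb] at h1 h2
  rw [← ha] at h3
  have hbs : Function.Surjective b.left :=
    (Groth.Agent.Lib.AlgSpPoints.surjective_map_yon_map_iff b).1 h2
  exact hP.of_smooth_surjective b.left (AlgSp.locP_yon_map h1) hbs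
    (hP.of_smooth a.left (AlgSp.locP_yon_map h3) hU)

variable {𝒳 : BasedCategory.{v₂, u₂} (Over S)}

/-- One surjective smooth chart with `P` suffices. -/
theorem smoothLocally_of_chart (hP : SmLocal P) {U : Over S} (x : FibCat.overCat U ⥤ᵇ 𝒳)
    (hx : AlgSt.RepByAlgSpWith (AlgSp.LocP @Smooth) x)
    (hxs : AlgSt.RepByAlgSpWith AlgSp.IsSurjectiveMor x) (hU : P U.left) :
    AlgSt.SmoothLocally P 𝒳 := by
  intro V v hv
  obtain ⟨F, q, p, ⟨hq, hqs⟩, hp⟩ := exists_common_chart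
    (fun _ _ a => AlgSp.LocP @Smooth a ∧ AlgSp.IsSurjectiveMor a) (AlgSp.LocP @Smooth)
    (Groth.Agent.Lib.AlgStAtlas.isoInv_locP _) x v
    (repByAlgSpWith_and _ _ isoInv_isSurjectiveMor x hx hxs) hv
  exact transfer hP F q p hq hqs hp hU

end Transfer

section Statements

variable {P : Scheme.{u} → Prop}

/-- = S12846. -/
theorem smoothLocally_iff_exists_chart {𝒳 : AlgSt.Cat S}
    (h𝒳 : AlgSt.IsAlgStack Scheme.fppfPrecoverage 𝒳) (hP : SmLocal P) :
    AlgSt.SmoothLocally P 𝒳 ↔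
      ∃ (U : Over S) (x : FibCat.overCat U ⥤ᵇ 𝒳),
        AlgSt.RepByAlgSpWith (AlgSp.LocP @Smooth) x ∧
          AlgSt.RepByAlgSpWith AlgSp.IsSurjectiveMor x ∧ P U.left := by
  constructor
  · intro h
    obtain ⟨U, x, hx, hxs⟩ := h𝒳.atlas
    exact ⟨U, x, hx, hxs, h U x hx⟩
  · rintro ⟨U, x, hx, hxs, hU⟩
    exact smoothLocally_of_chart hP x hx hxs hU

/-- = S12853. -/
theorem smoothLocally_iff_exists_space_chart {𝒳 : AlgSt.Cat S}
    (h𝒳 : AlgSt.IsAlgStack Scheme.fppfPrecoverage 𝒳) (hP : SmLocal P) :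
    AlgSt.SmoothLocally P 𝒳 ↔
      ∃ (U : AlgSp.Space S) (x : AlgSt.ofSp U.obj ⥤ᵇ 𝒳),
        AlgSt.RepByAlgSpWith (AlgSp.LocP @Smooth) x ∧
          AlgSt.RepByAlgSpWith AlgSp.IsSurjectiveMor x ∧ AlgSp.EtaleLocally P U.obj := by
  haveI : FibCat.IsFibGrpd 𝒳.p := h𝒳.isStack.1
  constructor
  · intro h
    obtain ⟨U, x, hx, hxs⟩ := h𝒳.atlas
    refine ⟨⟨(AlgSp.yon S).obj U, AlgSp.IsAlgSpace.yon_obj U⟩,
      BasedFunctor.comp (AlgSt.toOverCat U) x, ?_, ?_,
      ⟨U, 𝟙 _, AlgSp.repWith_id _ U, AlgSp.repWith_id _ U, h U x hx⟩⟩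
    · exact (repByAlgSpWith_equiv_comp_iff _ (AlgSt.toOverCat U) (toOverCat_isEquivOver U) x).1 hx
    · exact (repByAlgSpWith_equiv_comp_iff _ (AlgSt.toOverCat U) (toOverCat_isEquivOver U) x).1 hxs
  · rintro ⟨U, x, hx, hxs, ⟨W, c, hce, hcs, hW⟩⟩
    haveI : FibCat.IsFibGrpd (AlgSt.ofSp U.obj).p := Stk.isFibGrpd_ofPsh U.obj.obj
    refine smoothLocally_of_chart hP
      (BasedFunctor.comp (BasedFunctor.comp (AlgSt.ofOverCat W) (AlgSt.ofSpMap c)) x) ?_ ?_ hW
    · exact repByAlgSpWith_comp _ atlasClass_locP_smooth.isoInv atlasClass_locP_smooth.atlasLocal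
        atlasClass_locP_smooth.comp _ x (repByAlgSpWith_chart _ atlasClass_locP_smooth U c hce hcs)
        hx
    · exact repByAlgSpWith_comp _ atlasClass_isSurjectiveMor.isoInv
        atlasClass_isSurjectiveMor.atlasLocal atlasClass_isSurjectiveMor.comp _ x
        (repByAlgSpWith_chart _ atlasClass_isSurjectiveMor U c hce hcs) hxs

/-- = S12852. -/
theorem smoothLocally_iff_forall_space_chart {𝒳 : AlgSt.Cat S}
    (h𝒳 : AlgSt.IsAlgStack Scheme.fppfPrecoverage 𝒳) (hP : SmLocal P) :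
    AlgSt.SmoothLocally P 𝒳 ↔
      ∀ (U : AlgSp.Space S) (x : AlgSt.ofSp U.obj ⥤ᵇ 𝒳),
        AlgSt.RepByAlgSpWith (AlgSp.LocP @Smooth) x → AlgSp.EtaleLocally P U.obj := by
  haveI : FibCat.IsFibGrpd 𝒳.p := h𝒳.isStack.1
  constructor
  · intro h U x hx
    obtain ⟨W, c, hce, hcs⟩ := U.property.atlas
    haveI : FibCat.IsFibGrpd (AlgSt.ofSp U.obj).p := Stk.isFibGrpd_ofPsh U.obj.obj
    refine ⟨W, c, hce, hcs, h W
      (BasedFunctor.comp (BasedFunctor.comp (AlgSt.ofOverCat W) (AlgSt.ofSpMap c)) x) ?_⟩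
    exact repByAlgSpWith_comp _ atlasClass_locP_smooth.isoInv atlasClass_locP_smooth.atlasLocal
      atlasClass_locP_smooth.comp _ x (repByAlgSpWith_chart _ atlasClass_locP_smooth U c hce hcs) hx
  · intro h V v hv
    obtain ⟨W, p, hpe, hps, hW⟩ := h ⟨(AlgSp.yon S).obj V, AlgSp.IsAlgSpace.yon_obj V⟩
      (BasedFunctor.comp (AlgSt.toOverCat V) v)
      ((repByAlgSpWith_equiv_comp_iff _ (AlgSt.toOverCat V) (toOverCat_isEquivOver V) v).1 hv)
    obtain ⟨q, rfl⟩ := (AlgSp.yon S).map_surjective p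
    have h1 : Etale q.left := (AlgSp.repWith_yon_map_iff @Etale q).1 hpe
    have h2 : Surjective q.left := (AlgSp.repWith_yon_map_iff @Surjective q).1 hps
    exact hP.of_smooth_surjective q.left inferInstance h2.surj hW

/-- = S12854. -/
theorem smoothLocally_ofSch_iff (hP : SmLocal P) (U : Over S) :
    AlgSt.SmoothLocally P (AlgSt.ofSch U) ↔ P U.left := by
  constructor
  · intro h
    exact h U (AlgSt.ofOverCat U)
      (Groth.Agent.Lib.AlgStEquivRep.repByAlgSpWith_of_isEquivOver _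
        (fun T => Groth.Agent.Lib.H69AlgSpLocST.locP_smooth_id (AlgSp.IsAlgSpace.yon_obj T)) _
        (ofOverCat_isEquivOver U))
  · intro hU V x hx
    obtain ⟨c, ⟨γ⟩⟩ := exists_iso_chart_ofSp x
    have hc : AlgSp.LocP @Smooth c := prop_of_chart_ofSp _ (Groth.Agent.Lib.AlgStAtlas.isoInv_locP _)
      (schemeLocal_of_atlasLocal atlasClass_locP_smooth.atlasLocal) (AlgSp.IsAlgSpace.yon_obj U)
      x c γ hx
    obtain ⟨g, rfl⟩ := (AlgSp.yon S).map_surjective c
    exact hP.of_smooth g.left (AlgSp.locP_yon_map hc) hU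

/-- = S12855. -/
theorem smoothLocally_ofSp_iff (hP : SmLocal P) (X : AlgSp.Space S) :
    AlgSt.SmoothLocally P (AlgSt.ofSp X.obj) ↔ AlgSp.EtaleLocally P X.obj := by
  constructor
  · intro h
    obtain ⟨W, c, hce, hcs⟩ := X.property.atlas
    exact ⟨W, c, hce, hcs, h W _ (repByAlgSpWith_chart _ atlasClass_locP_smooth X c hce hcs)⟩
  · rintro ⟨U, p, hpe, hps, hU⟩
    exact smoothLocally_of_chart hP _ (repByAlgSpWith_chart _ atlasClass_locP_smooth X p hpe hps)
      (repByAlgSpWith_chart _ atlasClass_isSurjectiveMor X p hpe hps) hU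

end Statements

end Groth.Agent.Lib.AlgStSmoothLocal
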