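import Groth.Agent.Lib.AlgStFieldPt
import Groth.Agent.Lib.AlgStSmoothLocal
import Groth.Agent.Lib.AlgStNoeth
import Groth.Agent.Lib.H69AlgSpReduced
import Groth.Agent.Lib.GenericFlatPt
import Groth.Agent.Lib.H86AffineMor
import Groth.Agent.Lib.AlgStPtsMain

/-!
# Algebraic stacks with one point (helper36)

ns `Groth.Agent.Lib.AlgStOnePt`

Stacks 06MN / 06MP-type statements: reduced one-point algebraic stacks and flat field points.

* `atlasClass_locP_lft`
* `exists_scheme_correspondence` : a correspondence `V ⟵ F ⟶ U` of an algebraic space between two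
  schemes is dominated by a correspondence of schemes.
* `isReduced_of_flat_surjective_fieldPt`, `isLocallyNoetherian_of_fppf_fieldPt`
* `exists_flat_fieldPt_of_reduced`, `exists_lft_fieldPt`
-/

set_option autoImplicit false
set_option linter.style.haveILetI false
set_option backward.isDefEq.respectTransparency false
set_option backward.isDefEq.respectTransparency.types false

namespace Groth.Agent.Lib.AlgStOnePt

open CategoryTheory CategoryTheory.Limits AlgebraicGeometry Opposite AlgSt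
  Groth.Agent.Lib.AlgStPts Groth.Agent.Lib.AlgStPtsTop Groth.Agent.Lib.FibGrpd
  Groth.Agent.Lib.AlgStFp Groth.Agent.Lib.AlgStPtsSurj Groth.Agent.Lib.AlgStSpTest
  Groth.Agent.Lib.AlgSpBasic Groth.Agent.Lib.AlgSpLocP Groth.Agent.Lib.AlgStAtlas
  Groth.Agent.Lib.AlgStFieldPt Groth.Agent.Lib.AlgStSmoothLocal Groth.Agent.Lib.AlgStSrcLocal

universe u

variable {S : Scheme.{u}}

theorem atlasClass_locP_lft : AtlasClass (AlgSp.LocP (S := S) @LocallyOfFiniteType) :=
  have := Groth.Agent.Lib.H86ZarGlue.descendsAlong_etCov_lft.{u}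
  atlasClass_locP etLocalClass_lft (fun _ _ g hg => by
    have : Etale g := hg
    exact (inferInstance : LocallyOfFiniteType g))

/-- A correspondence `V ⟵ F ⟶ U` of an algebraic space between schemes is dominated by a
correspondence of schemes `V ⟵ W ⟶ U`, keeping etale-local properties and surjectivity. -/
theorem exists_scheme_correspondence {Q₁ Q₂ Q₃ : MorphismProperty Scheme.{u}}
    (h₁ : AtlasClass (AlgSp.LocP (S := S) Q₁)) (h₂ : AtlasClass (AlgSp.LocP (S := S) Q₂))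
    (h₃ : AtlasClass (AlgSp.LocP (S := S) Q₃))
    {U V : Over S} (F : AlgSp.Space S)
    (q : F.obj ⟶ (AlgSp.yon S).obj V) (p : F.obj ⟶ (AlgSp.yon S).obj U)
    (hq : AlgSp.LocP Q₁ q) (hp : AlgSp.LocP Q₂ p) (hp' : AlgSp.LocP Q₃ p)
    (hps : AlgSp.IsSurjectiveMor p) :
    ∃ (W : Over S) (b : W ⟶ V) (a : W ⟶ U), Q₁ b.left ∧ Q₂ a.left ∧ Q₃ a.left ∧
      Function.Surjective a.left := by
  obtain ⟨W, c, hce, hcs⟩ := F.property.atlas
  have hW := AlgSp.IsAlgSpace.yon_obj (S := S) W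
  have hc1 : AlgSp.LocP Q₁ c := h₁.ofChart F.property c hce hcs
  have hc2 : AlgSp.LocP Q₂ c := h₂.ofChart F.property c hce hcs
  have hc3 : AlgSp.LocP Q₃ c := h₃.ofChart F.property c hce hcs
  have hc' : AlgSp.IsSurjectiveMor c := atlasClass_isSurjectiveMor.ofChart F.property c hce hcs
  have h1 : AlgSp.LocP Q₁ (c ≫ q) :=
    h₁.comp hW F.property (AlgSp.IsAlgSpace.yon_obj V) c q hc1 hq
  have h2 : AlgSp.IsSurjectiveMor (c ≫ p) := isSurjectiveMor_comp c p hc' hps
  have h3 : AlgSp.LocP Q₂ (c ≫ p) :=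
    h₂.comp hW F.property (AlgSp.IsAlgSpace.yon_obj U) c p hc2 hp
  have h4 : AlgSp.LocP Q₃ (c ≫ p) :=
    h₃.comp hW F.property (AlgSp.IsAlgSpace.yon_obj U) c p hc3 hp'
  obtain ⟨b, hb⟩ := (AlgSp.yon S).map_surjective (c ≫ q)
  obtain ⟨a, ha⟩ := (AlgSp.yon S).map_surjective (c ≫ p)
  rw [← hb] at h1
  rw [← ha] at h2 h3 h4
  exact ⟨W, b, a, AlgSp.locP_yon_map h1, AlgSp.locP_yon_map h3, AlgSp.locP_yon_map h4,
    (Groth.Agent.Lib.AlgSpPoints.surjective_map_yon_map_iff a).1 h2⟩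

variable {𝒵 : AlgSt.Cat S}

/-- A chart correspondence between a smooth chart `x` and a surjective field point `z` with
properties `Q`, `Q'`. -/
theorem exists_correspondence_fieldPt {Q Q' : MorphismProperty Scheme.{u}}
    (hQ : AtlasClass (AlgSp.LocP (S := S) Q)) (hQ' : AtlasClass (AlgSp.LocP (S := S) Q'))
    {K U : Over S} (z : FibCat.overCat K ⥤ᵇ 𝒵) (x : FibCat.overCat U ⥤ᵇ 𝒵)
    (hx : AlgSt.RepByAlgSpWith (AlgSp.LocP @Smooth) x)
    (hzQ : AlgSt.RepByAlgSpWith (AlgSp.LocP Q) z)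
    (hzQ' : AlgSt.RepByAlgSpWith (AlgSp.LocP Q') z)
    (hzs : AlgSt.RepByAlgSpWith AlgSp.IsSurjectiveMor z) :
    ∃ (W : Over S) (b : W ⟶ K) (a : W ⟶ U), Smooth b.left ∧ Q a.left ∧ Q' a.left ∧
      Function.Surjective a.left := by
  obtain ⟨F, q, p, hq, ⟨hp, hp'⟩, hps⟩ := exists_common_chart (AlgSp.LocP @Smooth)
    (fun _ _ a => (AlgSp.LocP Q a ∧ AlgSp.LocP Q' a) ∧ AlgSp.IsSurjectiveMor a)
    (isoInv_and (isoInv_and hQ.isoInv hQ'.isoInv) isoInv_isSurjectiveMor) x z hx
    (repByAlgSpWith_and _ _ isoInv_isSurjectiveMor z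
      (repByAlgSpWith_and _ _ hQ'.isoInv z hzQ hzQ') hzs)
  exact exists_scheme_correspondence atlasClass_locP_smooth hQ hQ' F q p hq hp hp' hps

/-- (2) ⇒ (1), reducedness: an algebraic stack with a surjective flat field point is reduced. -/
theorem smoothLocally_isReduced_of_flat_surjective_fieldPt
    (k : Type u) [Field k] (a : Spec (CommRingCat.of k) ⟶ S)
    (z : FibCat.overCat (Over.mk a) ⥤ᵇ 𝒵)
    (hzs : AlgSt.RepByAlgSpWith AlgSp.IsSurjectiveMor z)
    (hzf : AlgSt.RepByAlgSpWith (AlgSp.LocP @Flat) z) :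
    AlgSt.SmoothLocally (fun T => IsReduced T) 𝒵 := by
  intro U x hx
  obtain ⟨W, b, c, hb, hc, -, hcs⟩ := exists_correspondence_fieldPt
    Groth.Agent.Lib.AlgStPtsQC2.atlasClass_locP_flat
    Groth.Agent.Lib.AlgStPtsQC2.atlasClass_locP_flat z x hx hzf hzf hzs
  haveI : Smooth b.left := hb
  haveI : IsReduced (Over.mk a).left := inferInstanceAs (IsReduced (Spec (CommRingCat.of k)))
  haveI : IsReduced W.left := Groth.Agent.Lib.H69SchReduced.isReduced_of_smooth b.left
  haveI : Flat c.left := hc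
  haveI : Surjective c.left := ⟨hcs⟩
  exact Groth.Agent.Lib.H69SchReduced.isReduced_of_flat_of_surjective c.left

/-- An algebraic stack with a surjective, flat, locally finitely presented field point is locally
Noetherian. -/
theorem smoothLocally_isLocallyNoetherian_of_fppf_fieldPt
    (k : Type u) [Field k] (a : Spec (CommRingCat.of k) ⟶ S)
    (z : FibCat.overCat (Over.mk a) ⥤ᵇ 𝒵)
    (hzs : AlgSt.RepByAlgSpWith AlgSp.IsSurjectiveMor z)
    (hzf : AlgSt.RepByAlgSpWith (AlgSp.LocP @Flat) z)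
    (hzp : AlgSt.RepByAlgSpWith (AlgSp.LocP @LocallyOfFinitePresentation) z) :
    AlgSt.SmoothLocally (fun T => IsLocallyNoetherian T) 𝒵 := by
  intro U x hx
  obtain ⟨W, b, c, hb, hc, hc', hcs⟩ := exists_correspondence_fieldPt
    Groth.Agent.Lib.AlgStPtsQC2.atlasClass_locP_flat
    Groth.Agent.Lib.AlgStPtsQC2.atlasClass_locP_lfp z x hx hzf hzp hzs
  haveI : Smooth b.left := hb
  haveI : IsLocallyNoetherian (Over.mk a).left :=
    inferInstanceAs (IsLocallyNoetherian (Spec (CommRingCat.of k)))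
  haveI : IsLocallyNoetherian W.left := LocallyOfFiniteType.isLocallyNoetherian b.left
  haveI : Flat c.left := hc
  haveI : LocallyOfFinitePresentation c.left := hc'
  haveI : Surjective c.left := ⟨hcs⟩
  exact Groth.Agent.Lib.NoethDescent.isLocallyNoetherian_of_fppf c.left

/-- A field point of an algebraic stack with at most one point is surjective. -/
theorem repByAlgSpWith_isSurjectiveMor_fieldPt (h𝒵 : AlgSt.IsAlgStack Scheme.fppfPrecoverage 𝒵)
    [Subsingleton (AlgSt.Points 𝒵)] (k : Type u) [Field k] (a : Spec (CommRingCat.of k) ⟶ S)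
    (z : FibCat.overCat (Over.mk a) ⥤ᵇ 𝒵) :
    AlgSt.RepByAlgSpWith AlgSp.IsSurjectiveMor z := by
  haveI := h𝒵.isStack.1
  have hall := (Groth.Agent.S12765.result h𝒵.isStack.1).1 h𝒵.diag
  haveI : FibCat.IsFibGrpd (FibCat.overCat (Over.mk a)).p := overCat_isFibGrpd _
  refine repByAlgSpWith_isSurjectiveMor_of_isSurjective z (hall _ z) (fun ξ => ?_)
  obtain ⟨ζ⟩ := nonempty_points_overCat_field k a
  exact ⟨ζ, Subsingleton.elim _ _⟩

/-- The point of a chart at a point of its source scheme, with the properties of the chart and of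
the inclusion of the point. -/
theorem repByAlgSpWith_chart_point {Q : MorphismProperty Scheme.{u}} (hE : EtLocalClass Q)
    (hQ : AtlasClass (AlgSp.LocP (S := S) Q)) {U K : Over S} (x : FibCat.overCat U ⥤ᵇ 𝒵)
    (hx : AlgSt.RepByAlgSpWith (AlgSp.LocP Q) x) (h : K ⟶ U) (hh : Q h.left) :
    AlgSt.RepByAlgSpWith (AlgSp.LocP Q) (BasedFunctor.comp (AlgSt.overMap h) x) := by
  haveI : FibCat.IsFibGrpd (FibCat.overCat K).p := overCat_isFibGrpd _
  haveI : FibCat.IsFibGrpd (FibCat.overCat U).p := overCat_isFibGrpd _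
  exact Groth.Agent.Lib.AlgStLocQ.repByAlgSpWith_comp_atlasClass _ hQ (AlgSt.overMap h) x
    (Groth.Agent.Lib.AlgStPtsQC.repByAlgSpWith_overMap _ hQ.baseChange h
      (Groth.Agent.Lib.AlgStPtsQC.locP_yon_map_of hE h hh)) hx

/-- (1) ⇒ (2): a nonempty reduced algebraic stack with one point has a surjective flat field
point. -/
theorem exists_flat_fieldPt_of_reduced (h𝒵 : AlgSt.IsAlgStack Scheme.fppfPrecoverage 𝒵)
    (hred : AlgSt.SmoothLocally (fun T => IsReduced T) 𝒵) [Nonempty (AlgSt.Points 𝒵)]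
    [Subsingleton (AlgSt.Points 𝒵)] :
    ∃ (k : Type u) (_ : Field k) (a : Spec (CommRingCat.of k) ⟶ S)
      (z : FibCat.overCat (Over.mk a) ⥤ᵇ 𝒵), AlgSt.RepByAlgSpWith AlgSp.IsSurjectiveMor z ∧
        AlgSt.RepByAlgSpWith (AlgSp.LocP @Flat) z := by
  haveI := h𝒵.isStack.1
  obtain ⟨U, x, hx, hxs⟩ := h𝒵.atlas
  haveI : IsReduced U.left := hred U x hx
  obtain ⟨ξ⟩ := ‹Nonempty (AlgSt.Points 𝒵)›
  obtain ⟨u₀, -⟩ := Groth.Agent.Lib.AlgStPtsMain.surjective_ofChart x hxs ξ
  haveI : Nonempty ↥U.left := ⟨u₀⟩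
  obtain ⟨u, hu⟩ := Groth.Agent.Lib.GenericFlatPt.exists_flat_fromSpecResidueField U.left
  refine ⟨U.left.residueField u, inferInstance, U.left.fromSpecResidueField u ≫ U.hom,
    BasedFunctor.comp (AlgSt.overMap (Over.homMk (U.left.fromSpecResidueField u) rfl)) x, ?_, ?_⟩
  · exact repByAlgSpWith_isSurjectiveMor_fieldPt h𝒵 _ _ _
  · exact repByAlgSpWith_chart_point etLocalClass_flat
      Groth.Agent.Lib.AlgStPtsQC2.atlasClass_locP_flat x
      (Groth.Agent.Lib.AlgStPtsMain.flatLfp_repByAlgSpWith_of_smooth x hx).1 _ hu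

/-- A nonempty algebraic stack has a smooth chart from an affine scheme with a closed point. -/
theorem exists_chart_closedPt (h𝒵 : AlgSt.IsAlgStack Scheme.fppfPrecoverage 𝒵)
    [Nonempty (AlgSt.Points 𝒵)] :
    ∃ (U : Over S) (x : FibCat.overCat U ⥤ᵇ 𝒵) (u : ↥U.left),
      AlgSt.RepByAlgSpWith (AlgSp.LocP @Smooth) x ∧
        IsClosedImmersion (U.left.fromSpecResidueField u) := by
  haveI := h𝒵.isStack.1
  obtain ⟨W, x₀, hx₀, hx₀s⟩ := h𝒵.atlas
  obtain ⟨ξ⟩ := ‹Nonempty (AlgSt.Points 𝒵)›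
  obtain ⟨w₀, -⟩ := Groth.Agent.Lib.AlgStPtsMain.surjective_ofChart x₀ hx₀s ξ
  obtain ⟨_, ⟨V, hV, rfl⟩, hw₀V, -⟩ :=
    W.left.isBasis_affineOpens.exists_subset_of_mem_open (Set.mem_univ w₀) isOpen_univ
  haveI : IsAffine (V : Scheme.{u}) := hV
  obtain ⟨v, -, hv⟩ := IsClosed.exists_closed_singleton (X := ↥(V : Scheme.{u})) isClosed_univ
    ⟨⟨w₀, hw₀V⟩, trivial⟩
  refine ⟨Groth.Agent.Lib.AlgStPtsQC2.openOver V,
    BasedFunctor.comp (AlgSt.overMap (Groth.Agent.Lib.AlgStPtsQC2.openIncl V)) x₀, v, ?_, ?_⟩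
  · exact repByAlgSpWith_chart_point Groth.Agent.Lib.AlgSpLocP.etLocalClass_smooth
      atlasClass_locP_smooth x₀ hx₀ _ (inferInstanceAs (Smooth (Scheme.Opens.ι V)))
  · exact IsClosedImmersion.of_isPreimmersion _ (by
      rw [Scheme.range_fromSpecResidueField]; exact hv)

/-- A stack with a field point has a point. -/
theorem nonempty_points_of_fieldPt (k : Type u) [Field k] (a : Spec (CommRingCat.of k) ⟶ S)
    (z : FibCat.overCat (Over.mk a) ⥤ᵇ 𝒵) : Nonempty (AlgSt.Points 𝒵) := by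
  obtain ⟨ζ⟩ := nonempty_points_overCat_field k a
  exact ⟨Points.map z ζ⟩

/-- A stack with a surjective field point has at most one point. -/
theorem subsingleton_points_of_surjective_fieldPt (h𝒵 : AlgSt.IsAlgStack Scheme.fppfPrecoverage 𝒵)
    (k : Type u) [Field k] (a : Spec (CommRingCat.of k) ⟶ S)
    (z : FibCat.overCat (Over.mk a) ⥤ᵇ 𝒵)
    (hzs : AlgSt.RepByAlgSpWith AlgSp.IsSurjectiveMor z) : Subsingleton (AlgSt.Points 𝒵) := by
  haveI := h𝒵.isStack.1
  have hsurj : AlgSt.IsSurjective z := isSurjective_of_repByAlgSpWith z hzs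
  have := subsingleton_points_overCat_field k a
  refine ⟨fun x y => ?_⟩
  obtain ⟨x', rfl⟩ := hsurj x
  obtain ⟨y', rfl⟩ := hsurj y
  rw [Subsingleton.elim x' y']

/-- Smooth charts are locally of finite type and locally of finite presentation. -/
theorem lft_repByAlgSpWith_of_smooth {𝒜 : AlgSt.Cat S} (Y : 𝒜 ⥤ᵇ 𝒵)
    (hY : AlgSt.RepByAlgSpWith (AlgSp.LocP @Smooth) Y) :
    AlgSt.RepByAlgSpWith (AlgSp.LocP @LocallyOfFiniteType) Y :=
  Groth.Agent.Lib.AlgStDiagDict2.repByAlgSpWith_mono Y (fun _ _ _ _ hα =>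
    Groth.Agent.Lib.H69AlgSpLocST2.locP_mono (fun _ _ l hl => by
      have : Smooth l := hl
      exact (inferInstance : LocallyOfFiniteType l)) hα) hY

/-- (2) ⇒ (3): if an algebraic stack has a surjective flat field point, it has one that is moreover
locally of finite type; it is locally of finite presentation if the stack is locally Noetherian. -/
theorem exists_lft_fieldPt (h𝒵 : AlgSt.IsAlgStack Scheme.fppfPrecoverage 𝒵)
    (k : Type u) [Field k] (a : Spec (CommRingCat.of k) ⟶ S)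
    (z : FibCat.overCat (Over.mk a) ⥤ᵇ 𝒵)
    (hzs : AlgSt.RepByAlgSpWith AlgSp.IsSurjectiveMor z)
    (hzf : AlgSt.RepByAlgSpWith (AlgSp.LocP @Flat) z) :
    ∃ (k' : Type u) (_ : Field k') (a' : Spec (CommRingCat.of k') ⟶ S)
      (z' : FibCat.overCat (Over.mk a') ⥤ᵇ 𝒵),
      AlgSt.RepByAlgSpWith (AlgSp.LocP @LocallyOfFiniteType) z' ∧
      AlgSt.RepByAlgSpWith AlgSp.IsSurjectiveMor z' ∧
      AlgSt.RepByAlgSpWith (AlgSp.LocP @Flat) z' ∧
      (AlgSt.SmoothLocally (fun T => IsLocallyNoetherian T) 𝒵 →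
        AlgSt.RepByAlgSpWith (AlgSp.LocP @LocallyOfFinitePresentation) z') := by
  haveI := nonempty_points_of_fieldPt k a z
  obtain ⟨U, x, u, hx, hcl⟩ := exists_chart_closedPt h𝒵
  have hsf := surjective_flat_fieldPt h𝒵 k a z hzs hzf (U.left.residueField u)
    (U.left.fromSpecResidueField u ≫ U.hom)
    (BasedFunctor.comp (AlgSt.overMap (Over.homMk (U.left.fromSpecResidueField u) rfl)) x)
  refine ⟨U.left.residueField u, inferInstance, U.left.fromSpecResidueField u ≫ U.hom,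
    BasedFunctor.comp (AlgSt.overMap (Over.homMk (U.left.fromSpecResidueField u) rfl)) x,
    ?_, hsf.1, hsf.2, fun hN => ?_⟩
  · exact repByAlgSpWith_chart_point etLocalClass_lft atlasClass_locP_lft x
      (lft_repByAlgSpWith_of_smooth x hx) _
      (inferInstanceAs (LocallyOfFiniteType (U.left.fromSpecResidueField u)))
  · haveI : IsLocallyNoetherian U.left := hN U x hx
    exact repByAlgSpWith_chart_point etLocalClass_lfp
      Groth.Agent.Lib.AlgStPtsQC2.atlasClass_locP_lfp x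
      (Groth.Agent.Lib.AlgStPtsMain.flatLfp_repByAlgSpWith_of_smooth x hx).2 _
      (LocallyOfFinitePresentation.iff_locallyOfFiniteType.2
        (inferInstanceAs (LocallyOfFiniteType (U.left.fromSpecResidueField u))))

end Groth.Agent.Lib.AlgStOnePt
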