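/-
helper14 KEYSTONE: the completed map of a flat local homomorphism is (faithfully) flat.

* `flat_quotient_tensor_of_flat` : `M` an `R`-module flat over `A`, `A → R/𝔦` surjective, `𝔦` generated
  by the image of its kernel ⇒ `(R/𝔦) ⊗_R M` flat over `R/𝔦`.
* `cplMap A B : Â →+* B̂` (= `FSch.complMap` at the maximal ideals), `cplMap_algebraMap`.
* `cplMap_flat` : `A → B` flat local hom of Noetherian local rings ⇒ `Â → B̂` flat
  (local flatness criterion, helper68's `FlatCrit`).
* `isLocalHom_cplMap`, `cplMap_faithfullyFlat`.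
-/
import Mathlib
import Groth.Agent.Lib.FlatCrit
import Groth.Agent.Lib.ComplFlat
import Groth.Agent.Lib.ComplMap
import Groth.Agent.Lib.AdicNoeth

set_option autoImplicit false
set_option linter.style.haveILetI false
universe u

namespace Groth.Agent.Lib.H14ComplFlat

open TensorProduct

section lemmaE

variable {A R : Type u} [CommRing A] [CommRing R] [Algebra A R] (𝔦 : Ideal R)
  (M : Type u) [AddCommGroup M] [Module R M] [Module A M] [IsScalarTower A R M]

/-- Compatibility of the `R`-action for the tensor product over `A`, when `A → R/𝔦` is surjective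
and `𝔦` is generated by the image of the kernel of `A → R/𝔦`. -/
theorem compatibleSMul_of_surjective
    (hsurj : Function.Surjective (algebraMap A (R ⧸ 𝔦)))
    (hgen : 𝔦 ≤ Ideal.map (algebraMap A R) (RingHom.ker (algebraMap A (R ⧸ 𝔦)))) :
    TensorProduct.CompatibleSMul A R (R ⧸ 𝔦) M := by
  constructor
  intro r x m
  -- first: elements of `𝔦` kill `x ⊗ -`
  have h00 : ∀ s ∈ Ideal.map (algebraMap A R) (RingHom.ker (algebraMap A (R ⧸ 𝔦))),
      ∀ (y : R ⧸ 𝔦) (n : M), y ⊗ₜ[A] (s • n) = 0 := by
    intro s hs'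
    rw [Ideal.map] at hs'
    induction hs' using Submodule.span_induction with
    | mem s hs =>
      intro y n
      obtain ⟨a, ha, rfl⟩ := hs
      rw [algebraMap_smul, ← TensorProduct.smul_tmul]
      have : a • y = 0 := by
        rw [Algebra.smul_def, RingHom.mem_ker.mp ha, zero_mul]
      rw [this, TensorProduct.zero_tmul]
    | zero => intro y n; rw [zero_smul, TensorProduct.tmul_zero]
    | add s t _ _ hs ht => intro y n; rw [add_smul, TensorProduct.tmul_add, hs, ht, add_zero]
    | smul c s _ hs =>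
      intro y n
      rw [smul_eq_mul, mul_comm, mul_smul]
      exact hs y (c • n)
  have h0 : ∀ s ∈ 𝔦, ∀ (y : R ⧸ 𝔦) (n : M), y ⊗ₜ[A] (s • n) = 0 :=
    fun s hs => h00 s (hgen hs)
  obtain ⟨a, ha⟩ := hsurj (Ideal.Quotient.mk 𝔦 r)
  have h1 : r • x = a • x := by
    rw [Algebra.smul_def a x, ha]
    rfl
  have h2 : r - algebraMap A R a ∈ 𝔦 := by
    rw [← Ideal.Quotient.eq, ← ha]
    rfl
  rw [h1, TensorProduct.smul_tmul]
  have h3 : r • m = a • m + (r - algebraMap A R a) • m := by
    rw [sub_smul, algebraMap_smul]; abel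
  rw [h3, TensorProduct.tmul_add, h0 _ h2, add_zero]

/-- If `M` is an `R`-module which is flat over `A`, and `A → R/𝔦` is surjective with `𝔦` generated
by the image of its kernel, then `(R/𝔦) ⊗_R M` is flat over `R/𝔦`. -/
theorem flat_quotient_tensor_of_flat [Module.Flat A M]
    (hsurj : Function.Surjective (algebraMap A (R ⧸ 𝔦)))
    (hgen : 𝔦 ≤ Ideal.map (algebraMap A R) (RingHom.ker (algebraMap A (R ⧸ 𝔦)))) :
    Module.Flat (R ⧸ 𝔦) ((R ⧸ 𝔦) ⊗[R] M) := by
  haveI := compatibleSMul_of_surjective 𝔦 M hsurj hgen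
  have h1 : Module.Flat (R ⧸ 𝔦) ((R ⧸ 𝔦) ⊗[A] M) := inferInstance
  let e : (R ⧸ 𝔦) ⊗[A] M ≃ₗ[R ⧸ 𝔦] (R ⧸ 𝔦) ⊗[R] M :=
    TensorProduct.equivOfCompatibleSMul R A (R ⧸ 𝔦) (R ⧸ 𝔦) M
  exact Module.Flat.of_linearEquiv e.symm

end lemmaE

section main

open IsLocalRing

variable (A B : Type u) [CommRing A] [CommRing B] [IsNoetherianRing A] [IsNoetherianRing B]
  [IsLocalRing A] [IsLocalRing B] [Algebra A B] [IsLocalHom (algebraMap A B)]

/-- The completed map `Â → B̂` of a local homomorphism. -/
noncomputable def cplMap : AdicCompletion (maximalIdeal A) A →+* AdicCompletion (maximalIdeal B) B :=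
  FSch.complMap (maximalIdeal A) (maximalIdeal B) (algebraMap A B)
    (IsLocalRing.map_maximalIdeal_le (algebraMap A B))

theorem cplMap_algebraMap (a : A) :
    cplMap A B (algebraMap A (AdicCompletion (maximalIdeal A) A) a) =
      algebraMap B (AdicCompletion (maximalIdeal B) B) (algebraMap A B a) :=
  Groth.Agent.Lib.ComplMap.complMap_algebraMap _ _ _ _ a

/-- `A → Â/(mÂ)^k` is surjective. -/
theorem surjective_algebraMap_quotient_pow (k : ℕ) :
    Function.Surjective (algebraMap A (AdicCompletion (maximalIdeal A) A ⧸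
      ((maximalIdeal A).map (algebraMap A (AdicCompletion (maximalIdeal A) A))) ^ k)) := by
  intro y
  obtain ⟨x, rfl⟩ := Ideal.Quotient.mk_surjective y
  obtain ⟨a, ha⟩ := Ideal.Quotient.mk_surjective (AdicCompletion.evalₐ (maximalIdeal A) k x)
  refine ⟨a, ?_⟩
  rw [IsScalarTower.algebraMap_apply A (AdicCompletion (maximalIdeal A) A), Ideal.Quotient.algebraMap_eq,
    Ideal.Quotient.eq, ← Ideal.map_pow,
    ← Groth.Agent.Lib.ComplFlat.ker_evalₐ_eq_map (maximalIdeal A)
      ((isNoetherianRing_iff_ideal_fg A).1 inferInstance _) k, RingHom.mem_ker, map_sub]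
  simp only [AlgHom.toRingHom_eq_coe, RingHom.coe_coe]
  rw [AdicCompletion.algebraMap_apply, AdicCompletion.evalₐ_of, Algebra.algebraMap_self,
    RingHom.id_apply, ha, sub_self]

/-- **Flatness of the completed map**: for a flat local homomorphism `A → B` of Noetherian local
rings, `Â → B̂` is flat. -/
theorem cplMap_flat [Module.Flat A B] : (cplMap A B).Flat := by
  letI alg : Algebra (AdicCompletion (maximalIdeal A) A) (AdicCompletion (maximalIdeal B) B) :=
    (cplMap A B).toAlgebra
  show Module.Flat (AdicCompletion (maximalIdeal A) A) (AdicCompletion (maximalIdeal B) B)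
  haveI : IsScalarTower A (AdicCompletion (maximalIdeal A) A) (AdicCompletion (maximalIdeal B) B) :=
    IsScalarTower.of_algebraMap_eq (fun a => by
      rw [RingHom.algebraMap_toAlgebra, cplMap_algebraMap]
      rfl)
  haveI hNA : IsNoetherianRing (AdicCompletion (maximalIdeal A) A) :=
    Groth.Agent.Lib.AdicNoeth.isNoetherianRing_adicCompletion _
  haveI hNB : IsNoetherianRing (AdicCompletion (maximalIdeal B) B) :=
    Groth.Agent.Lib.AdicNoeth.isNoetherianRing_adicCompletion _
  haveI : Module.Flat B (AdicCompletion (maximalIdeal B) B) := AdicCompletion.flat_of_isNoetherian _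
  haveI : Module.Flat A (AdicCompletion (maximalIdeal B) B) := Module.Flat.trans A B _
  set I : Ideal (AdicCompletion (maximalIdeal A) A) :=
    (maximalIdeal A).map (algebraMap A (AdicCompletion (maximalIdeal A) A)) with hI
  -- `I B̂` lies in the Jacobson radical
  have hjac : I.map (algebraMap (AdicCompletion (maximalIdeal A) A)
      (AdicCompletion (maximalIdeal B) B)) ≤ Ideal.jacobson ⊥ := by
    have hc := AdicCompletion.isAdicComplete_self (maximalIdeal B)
      ((isNoetherianRing_iff_ideal_fg B).1 inferInstance _)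
    have h1 := IsAdicComplete.le_jacobson_bot
      ((maximalIdeal B).map (algebraMap B (AdicCompletion (maximalIdeal B) B)))
    refine le_trans ?_ h1
    rw [hI, Ideal.map_map, ← IsScalarTower.algebraMap_eq,
      IsScalarTower.algebraMap_eq A B (AdicCompletion (maximalIdeal B) B), ← Ideal.map_map]
    exact Ideal.map_mono (IsLocalRing.map_maximalIdeal_le (algebraMap A B))
  refine Groth.Agent.Lib.FlatCrit.flat_of_flat_quotient_pow I ?_ ?_
  · intro 𝔞 x hx
    exact Groth.Agent.Lib.FlatCrit.eq_zero_of_forall_mem_pow_smul_top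
      (S := AdicCompletion (maximalIdeal B) B) I hjac x hx
  · intro k _
    refine flat_quotient_tensor_of_flat (A := A) (I ^ k) (AdicCompletion (maximalIdeal B) B)
      (surjective_algebraMap_quotient_pow A k) ?_
    rw [hI, ← Ideal.map_pow]
    refine Ideal.map_mono (fun a ha => ?_)
    rw [RingHom.mem_ker, IsScalarTower.algebraMap_apply A (AdicCompletion (maximalIdeal A) A),
      Ideal.Quotient.algebraMap_eq, Ideal.Quotient.eq_zero_iff_mem]
    exact Ideal.mem_map_of_mem _ ha

omit [IsNoetherianRing A] [IsNoetherianRing B] in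
theorem isLocalHom_cplMap : IsLocalHom (cplMap A B) := by
  constructor
  intro x hx
  rw [Groth.Agent.Lib.ComplMap.isUnit_iff_isUnit_evalₐ_one]
  have h1 : IsUnit (AdicCompletion.evalₐ (maximalIdeal B) 1 (cplMap A B x)) := hx.map _
  rw [cplMap, Groth.Agent.Lib.ComplMap.evalₐ_complMap] at h1
  by_contra hnu
  -- `A/m^1` is a field, so the non-unit is zero
  obtain ⟨a, ha⟩ := Ideal.Quotient.mk_surjective (AdicCompletion.evalₐ (maximalIdeal A) 1 x)
  rw [← ha] at hnu h1
  rw [Ideal.quotientMap_mk] at h1
  have ha_mem : a ∈ maximalIdeal A := by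
    by_contra hnot
    apply hnu
    have : IsUnit a := by
      by_contra h'
      exact hnot ((IsLocalRing.mem_maximalIdeal a).mpr h')
    exact this.map _
  have hb_mem : algebraMap A B a ∈ maximalIdeal B ^ 1 := by
    rw [pow_one]
    exact IsLocalRing.map_maximalIdeal_le (algebraMap A B) (Ideal.mem_map_of_mem _ ha_mem)
  rw [Ideal.Quotient.eq_zero_iff_mem.mpr hb_mem] at h1
  have : Nontrivial (B ⧸ maximalIdeal B ^ 1) := by
    rw [pow_one]
    exact Ideal.Quotient.nontrivial_iff.mpr (IsLocalRing.maximalIdeal.isMaximal B).ne_top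
  exact not_isUnit_zero h1

/-- For a flat local homomorphism `A → B` of Noetherian local rings, `Â → B̂` is faithfully flat. -/
theorem cplMap_faithfullyFlat [Module.Flat A B] :
    @Module.FaithfullyFlat (AdicCompletion (maximalIdeal A) A) (AdicCompletion (maximalIdeal B) B)
      _ _ (cplMap A B).toAlgebra.toModule := by
  letI alg : Algebra (AdicCompletion (maximalIdeal A) A) (AdicCompletion (maximalIdeal B) B) :=
    (cplMap A B).toAlgebra
  haveI : Module.Flat (AdicCompletion (maximalIdeal A) A) (AdicCompletion (maximalIdeal B) B) :=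
    cplMap_flat A B
  haveI : IsLocalRing (AdicCompletion (maximalIdeal A) A) :=
    Groth.Agent.Lib.ComplMap.isLocalRing_adicCompletion _
      (IsLocalRing.maximalIdeal.isMaximal A).ne_top
  haveI : IsLocalRing (AdicCompletion (maximalIdeal B) B) :=
    Groth.Agent.Lib.ComplMap.isLocalRing_adicCompletion _
      (IsLocalRing.maximalIdeal.isMaximal B).ne_top
  haveI : IsLocalHom (algebraMap (AdicCompletion (maximalIdeal A) A)
      (AdicCompletion (maximalIdeal B) B)) := isLocalHom_cplMap A B
  exact Module.FaithfullyFlat.of_flat_of_isLocalHom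

end main

end Groth.Agent.Lib.H14ComplFlat
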