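/-
helper14: local structure of an `I`-adic completion `Â` of a Noetherian ring at its maximal ideals
(Stacks 0AH2 ingredients).

* `exists_sub_mem_pow`, `cplMap_bijective`: a flat local hom `A → B` of Noetherian local rings with
  `𝔪_A B = 𝔪_B` and trivial residue extension induces a bijection `Â → B̂`.
* `isScalarTower_localRingHom`, `isLocalHom_localRingHom`, `flat_localRingHom`,
  `map_maximalIdeal_localRingHom`, `exists_sub_mem_maximalIdeal_localRingHom`: the local map
  `A_{n ∩ A} → C_n`.
* `exists_sub_mem_map`, `map_le_of_isMaximal`, `exists_sub_mem_of_isMaximal`, `map_comap_of_isMaximal`: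
  maximal ideals of `Â`.
* `cplMap_bijective_adic`: for `n ⊂ Â` maximal, `m = n ∩ A`: `(A_m)^ → (Â_n)^` is bijective.
-/
import Mathlib
import Groth.Agent.Lib.H14ComplFlat
import Groth.Agent.Lib.AdicNoeth
import Groth.Agent.Lib.ComplFlat

set_option autoImplicit false
set_option linter.style.haveILetI false
set_option linter.unusedSectionVars false
universe u

namespace Groth.Agent.Lib.H14AdicLocal

open IsLocalRing


section L1
variable (A B : Type u) [CommRing A] [CommRing B] [IsNoetherianRing A] [IsNoetherianRing B]
  [IsLocalRing A] [IsLocalRing B] [Algebra A B] [IsLocalHom (algebraMap A B)]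

/-- Successive approximation: if `𝔪_A B = 𝔪_B` and `A → B/𝔪_B` is surjective then
`A → B/𝔪_B^n` is surjective for all `n`. -/
theorem exists_sub_mem_pow
    (hmax : (maximalIdeal A).map (algebraMap A B) = maximalIdeal B)
    (hres : ∀ b : B, ∃ a : A, b - algebraMap A B a ∈ maximalIdeal B) (n : ℕ) :
    ∀ b : B, ∃ a : A, b - algebraMap A B a ∈ maximalIdeal B ^ n := by
  induction n with
  | zero => intro b; exact ⟨0, by simp⟩
  | succ n ih =>
    -- key: every element of `𝔪_B^n` is congruent mod `𝔪_B^(n+1)` to the image of an element of `𝔪_A^n`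
    have key : ∀ y ∈ maximalIdeal B ^ n, ∃ a ∈ maximalIdeal A ^ n,
        y - algebraMap A B a ∈ maximalIdeal B ^ (n + 1) := by
      intro y hy
      rw [← hmax, ← Ideal.map_pow] at hy
      refine Submodule.span_induction (p := fun y _ => ∃ a ∈ maximalIdeal A ^ n,
        y - algebraMap A B a ∈ maximalIdeal B ^ (n + 1)) ?_ ?_ ?_ ?_ hy
      · rintro _ ⟨x, hx, rfl⟩
        exact ⟨x, hx, by simp⟩
      · exact ⟨0, zero_mem _, by simp⟩
      · rintro y z _ _ ⟨a, ha, hya⟩ ⟨c, hc, hzc⟩
        refine ⟨a + c, add_mem ha hc, ?_⟩
        have : y + z - algebraMap A B (a + c) = (y - algebraMap A B a) + (z - algebraMap A B c) := by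
          rw [map_add]; ring
        rw [this]
        exact add_mem hya hzc
      · rintro b y _ ⟨a, ha, hya⟩
        obtain ⟨c, hc⟩ := hres b
        refine ⟨c * a, Ideal.mul_mem_left _ _ ha, ?_⟩
        have hfa : algebraMap A B a ∈ maximalIdeal B ^ n := by
          rw [← hmax, ← Ideal.map_pow]
          exact Ideal.mem_map_of_mem _ ha
        have : b • y - algebraMap A B (c * a) =
            b * (y - algebraMap A B a) + (b - algebraMap A B c) * algebraMap A B a := by
          rw [map_mul, smul_eq_mul]; ring
        rw [this]
        refine add_mem (Ideal.mul_mem_left _ _ hya) ?_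
        rw [pow_succ']
        exact Ideal.mul_mem_mul hc hfa
    intro b
    obtain ⟨a, ha⟩ := ih b
    obtain ⟨c, _, hc⟩ := key _ ha
    refine ⟨a + c, ?_⟩
    have : b - algebraMap A B (a + c) = (b - algebraMap A B a) - algebraMap A B c := by
      rw [map_add]; ring
    rw [this]
    exact hc

/-- For a flat local homomorphism `A → B` of Noetherian local rings with `𝔪_A B = 𝔪_B` and trivial
residue field extension, the completed map `Â → B̂` is bijective. -/
theorem cplMap_bijective [Module.Flat A B]
    (hmax : (maximalIdeal A).map (algebraMap A B) = maximalIdeal B)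
    (hres : ∀ b : B, ∃ a : A, b - algebraMap A B a ∈ maximalIdeal B) :
    Function.Bijective (H14ComplFlat.cplMap A B) := by
  haveI : Module.FaithfullyFlat A B := Module.FaithfullyFlat.of_flat_of_isLocalHom
  unfold H14ComplFlat.cplMap
  refine Groth.Agent.Lib.ComplFlat.complMap_bijective_of_levelwise _ _ _ _ (fun n => ⟨?_, ?_⟩)
  · refine Ideal.quotientMap_injective' ?_
    rw [← hmax, ← Ideal.map_pow, Ideal.comap_map_eq_self_of_faithfullyFlat]
  · intro y
    obtain ⟨b, rfl⟩ := Ideal.Quotient.mk_surjective y
    obtain ⟨a, ha⟩ := exists_sub_mem_pow A B hmax hres n b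
    refine ⟨Ideal.Quotient.mk _ a, ?_⟩
    rw [Ideal.quotientMap_mk, eq_comm, Ideal.Quotient.eq]
    exact ha

end L1



section loc
variable (A C : Type u) [CommRing A] [CommRing C] [Algebra A C] (n : Ideal C) [n.IsPrime]

theorem isScalarTower_localRingHom :
    letI := (Localization.localRingHom (Ideal.comap (algebraMap A C) n) n (algebraMap A C) rfl).toAlgebra
    IsScalarTower A (Localization.AtPrime (Ideal.comap (algebraMap A C) n)) (Localization.AtPrime n) := by
  letI := (Localization.localRingHom (Ideal.comap (algebraMap A C) n) n (algebraMap A C) rfl).toAlgebra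
  refine IsScalarTower.of_algebraMap_eq (fun x => ?_)
  rw [RingHom.algebraMap_toAlgebra, Localization.localRingHom_to_map,
    IsScalarTower.algebraMap_apply A C]

theorem isLocalHom_localRingHom :
    letI := (Localization.localRingHom (Ideal.comap (algebraMap A C) n) n (algebraMap A C) rfl).toAlgebra
    IsLocalHom (algebraMap (Localization.AtPrime (Ideal.comap (algebraMap A C) n)) (Localization.AtPrime n)) := by
  letI := (Localization.localRingHom (Ideal.comap (algebraMap A C) n) n (algebraMap A C) rfl).toAlgebra
  rw [RingHom.algebraMap_toAlgebra]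
  exact Localization.isLocalHom_localRingHom _ n (algebraMap A C) rfl

theorem flat_localRingHom [Module.Flat A C] :
    letI := (Localization.localRingHom (Ideal.comap (algebraMap A C) n) n (algebraMap A C) rfl).toAlgebra
    Module.Flat (Localization.AtPrime (Ideal.comap (algebraMap A C) n)) (Localization.AtPrime n) := by
  letI := (Localization.localRingHom (Ideal.comap (algebraMap A C) n) n (algebraMap A C) rfl).toAlgebra
  haveI := isScalarTower_localRingHom A C n
  haveI : Module.Flat C (Localization.AtPrime n) := IsLocalization.flat _ n.primeCompl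
  haveI : Module.Flat A (Localization.AtPrime n) := Module.Flat.trans A C _
  exact (Module.flat_iff_of_isLocalization (Localization.AtPrime (Ideal.comap (algebraMap A C) n))
    (Ideal.comap (algebraMap A C) n).primeCompl (Localization.AtPrime n)).2 inferInstance

theorem map_maximalIdeal_localRingHom
    (hmap : (Ideal.comap (algebraMap A C) n).map (algebraMap A C) = n) :
    letI := (Localization.localRingHom (Ideal.comap (algebraMap A C) n) n (algebraMap A C) rfl).toAlgebra
    (maximalIdeal (Localization.AtPrime (Ideal.comap (algebraMap A C) n))).map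
      (algebraMap (Localization.AtPrime (Ideal.comap (algebraMap A C) n)) (Localization.AtPrime n)) =
      maximalIdeal (Localization.AtPrime n) := by
  letI := (Localization.localRingHom (Ideal.comap (algebraMap A C) n) n (algebraMap A C) rfl).toAlgebra
  haveI := isScalarTower_localRingHom A C n
  rw [← Localization.AtPrime.map_eq_maximalIdeal, ← Localization.AtPrime.map_eq_maximalIdeal,
    Ideal.map_map, ← IsScalarTower.algebraMap_eq, IsScalarTower.algebraMap_eq A C, ← Ideal.map_map, hmap]

theorem exists_sub_mem_maximalIdeal_localRingHom [n.IsMaximal]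
    (hres : ∀ c : C, ∃ a : A, c - algebraMap A C a ∈ n) :
    letI := (Localization.localRingHom (Ideal.comap (algebraMap A C) n) n (algebraMap A C) rfl).toAlgebra
    ∀ y : Localization.AtPrime n, ∃ x : Localization.AtPrime (Ideal.comap (algebraMap A C) n),
      y - algebraMap _ _ x ∈ maximalIdeal (Localization.AtPrime n) := by
  letI := (Localization.localRingHom (Ideal.comap (algebraMap A C) n) n (algebraMap A C) rfl).toAlgebra
  haveI := isScalarTower_localRingHom A C n
  intro y
  -- the residue field of `C_n` is `C/n`
  obtain ⟨c, hc⟩ : ∃ c : C, y - algebraMap C _ c ∈ maximalIdeal (Localization.AtPrime n) := by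
    obtain ⟨c, hc⟩ := (IsLocalization.AtPrime.equivQuotMaximalIdeal n (Localization.AtPrime n)).surjective
      (Ideal.Quotient.mk _ y)
    obtain ⟨c, rfl⟩ := Ideal.Quotient.mk_surjective c
    refine ⟨c, ?_⟩
    rw [← Ideal.Quotient.eq, ← hc]
    rfl
  obtain ⟨a, ha⟩ := hres c
  refine ⟨algebraMap A _ a, ?_⟩
  have : y - algebraMap _ (Localization.AtPrime n) (algebraMap A (Localization.AtPrime (Ideal.comap (algebraMap A C) n)) a) =
      (y - algebraMap C _ c) + algebraMap C (Localization.AtPrime n) (c - algebraMap A C a) := by
    rw [← IsScalarTower.algebraMap_apply, IsScalarTower.algebraMap_apply A C (Localization.AtPrime n), map_sub]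
    ring
  rw [this]
  refine add_mem hc ?_
  rw [← Localization.AtPrime.map_eq_maximalIdeal]
  exact Ideal.mem_map_of_mem _ ha

end loc



section adic
variable (A : Type u) [CommRing A] (I : Ideal A)

/-- `A → Â/IÂ` is surjective. -/
theorem exists_sub_mem_map (hI : I.FG) (c : AdicCompletion I A) :
    ∃ a : A, c - algebraMap A (AdicCompletion I A) a ∈ I.map (algebraMap A (AdicCompletion I A)) := by
  obtain ⟨a, ha⟩ := Ideal.Quotient.mk_surjective (AdicCompletion.evalOneₐ I c)
  refine ⟨a, ?_⟩
  rw [← AdicCompletion.ker_evalOneₐ_eq_map I hI, RingHom.mem_ker, map_sub]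
  simp only [AlgHom.toRingHom_eq_coe, RingHom.coe_coe]
  rw [AlgHom.commutes, Ideal.Quotient.algebraMap_eq, ha, sub_self]

/-- `IÂ` is contained in every maximal ideal of `Â`. -/
theorem map_le_of_isMaximal (hI : I.FG) (n : Ideal (AdicCompletion I A)) [hn : n.IsMaximal] :
    I.map (algebraMap A (AdicCompletion I A)) ≤ n := by
  haveI := AdicCompletion.isAdicComplete_self I hI
  refine (IsAdicComplete.le_jacobson_bot (I.map (algebraMap A (AdicCompletion I A)))).trans ?_
  exact sInf_le ⟨bot_le, hn⟩

theorem exists_sub_mem_of_isMaximal (hI : I.FG) (n : Ideal (AdicCompletion I A)) [hn : n.IsMaximal]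
    (c : AdicCompletion I A) : ∃ a : A, c - algebraMap A (AdicCompletion I A) a ∈ n := by
  obtain ⟨a, ha⟩ := exists_sub_mem_map A I hI c
  exact ⟨a, map_le_of_isMaximal A I hI n ha⟩

/-- Every maximal ideal of `Â` is extended from its contraction. -/
theorem map_comap_of_isMaximal (hI : I.FG) (n : Ideal (AdicCompletion I A)) [hn : n.IsMaximal] :
    (Ideal.comap (algebraMap A (AdicCompletion I A)) n).map (algebraMap A (AdicCompletion I A)) = n := by
  refine le_antisymm Ideal.map_comap_le (fun x hx => ?_)
  obtain ⟨a, ha⟩ := exists_sub_mem_map A I hI x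
  have hle := map_le_of_isMaximal A I hI n
  have ha' : algebraMap A (AdicCompletion I A) a ∈ n := by
    have := n.sub_mem hx (hle ha)
    rwa [sub_sub_cancel] at this
  have h1 : algebraMap A (AdicCompletion I A) a ∈
      (Ideal.comap (algebraMap A (AdicCompletion I A)) n).map (algebraMap A (AdicCompletion I A)) :=
    Ideal.mem_map_of_mem _ ha'
  have h2 : x - algebraMap A (AdicCompletion I A) a ∈
      (Ideal.comap (algebraMap A (AdicCompletion I A)) n).map (algebraMap A (AdicCompletion I A)) := by
    refine Ideal.map_mono ?_ ha
    intro i hi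
    exact hle (Ideal.mem_map_of_mem _ hi)
  have := add_mem h2 h1
  rwa [sub_add_cancel] at this

end adic


section comb
variable (A : Type u) [CommRing A] [IsNoetherianRing A] (I : Ideal A)
  (n : Ideal (AdicCompletion I A)) [n.IsMaximal]

/-- For a maximal ideal `n` of `Â` with `m = n ∩ A`, the completed map `(A_m)^ → (Â_n)^` is
bijective. -/
theorem cplMap_bijective_adic :
    letI := (Localization.localRingHom (Ideal.comap (algebraMap A (AdicCompletion I A)) n) n
      (algebraMap A (AdicCompletion I A)) rfl).toAlgebra
    haveI := isLocalHom_localRingHom A (AdicCompletion I A) n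
    haveI : IsNoetherianRing (AdicCompletion I A) :=
      Groth.Agent.Lib.AdicNoeth.isNoetherianRing_adicCompletion I
    Function.Bijective (H14ComplFlat.cplMap
      (Localization.AtPrime (Ideal.comap (algebraMap A (AdicCompletion I A)) n))
      (Localization.AtPrime n)) := by
  letI := (Localization.localRingHom (Ideal.comap (algebraMap A (AdicCompletion I A)) n) n
      (algebraMap A (AdicCompletion I A)) rfl).toAlgebra
  haveI := isLocalHom_localRingHom A (AdicCompletion I A) n
  haveI : IsNoetherianRing (AdicCompletion I A) :=
    Groth.Agent.Lib.AdicNoeth.isNoetherianRing_adicCompletion I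
  have hI : I.FG := (isNoetherianRing_iff_ideal_fg A).1 inferInstance I
  haveI : Module.Flat A (AdicCompletion I A) := AdicCompletion.flat_of_isNoetherian I
  haveI := flat_localRingHom A (AdicCompletion I A) n
  exact cplMap_bijective _ _
    (map_maximalIdeal_localRingHom A (AdicCompletion I A) n (map_comap_of_isMaximal A I hI n))
    (exists_sub_mem_maximalIdeal_localRingHom A (AdicCompletion I A) n
      (exists_sub_mem_of_isMaximal A I hI n))

end comb

end Groth.Agent.Lib.H14AdicLocal
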