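/-
helper14: a regular local ring is integrally closed (for S9829).
Uses helper19's `Lib/RegularLocal` (regular local rings are domains, `R/(x)` regular for
`x ∈ m \ m²`).  Elementary proof: induction on the dimension, almost integral elements and the
Krull intersection theorem.
-/
import Mathlib
import Groth.Agent.Lib.RegularLocal

set_option autoImplicit false
universe u

namespace Groth.Agent.Lib.RegularNormal

open IsLocalRing Groth.Agent.Lib.RegularLocal

/-- cancellation of a prime power. -/
theorem dvd_of_dvd_pow_mul {R : Type*} [CommRing R] [IsDomain R] {x b : R} (hx : Prime x)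
    (hxb : ¬ x ∣ b) (n f : ℕ) (t : R) (h : b ^ n ∣ x ^ f * t) : b ^ n ∣ t := by
  obtain ⟨s, hs⟩ := h
  have h1 : x ^ f ∣ b ^ n * s := ⟨t, hs.symm⟩
  have h2 : x ^ f ∣ s :=
    hx.pow_dvd_of_dvd_mul_left f (fun hd => hxb (hx.dvd_of_dvd_pow hd)) h1
  obtain ⟨s', rfl⟩ := h2
  refine ⟨s', ?_⟩
  have hx0 : x ^ f ≠ 0 := pow_ne_zero _ hx.ne_zero
  apply mul_left_cancel₀ hx0
  rw [hs]; ring

/-- The key divisibility statement, by induction on the embedding dimension. -/
theorem key_aux (d : ℕ) : ∀ (R : Type u) [CommRing R] [IsRegularLocalRing R],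
    (maximalIdeal R).spanFinrank = d →
    ∀ b : R, b ≠ 0 → ∀ a c : R, c ≠ 0 → (∀ n : ℕ, b ^ n ∣ c * a ^ n) → b ∣ a := by
  induction d using Nat.strong_induction_on with
  | _ d ih =>
    intro R _ _ hd
    have hdomR : IsDomain R := isDomain R
    by_cases hm : maximalIdeal R = ⊥
    · intro b hb a c _ _
      have hfield := IsLocalRing.isField_iff_maximalIdeal_eq.mpr hm
      obtain ⟨b', hb'⟩ := hfield.mul_inv_cancel hb
      exact ⟨b' * a, by rw [← mul_assoc, hb', one_mul]⟩
    · have hjac : maximalIdeal R ≤ Ideal.jacobson ⊥ :=
        (IsLocalRing.jacobson_eq_maximalIdeal _ bot_ne_top).ge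
      have hne : ¬ (maximalIdeal R ≤ maximalIdeal R ^ 2) := by
        intro hle
        apply hm
        refine Submodule.eq_bot_of_le_smul_of_le_jacobson_bot (maximalIdeal R) (maximalIdeal R)
          (Ideal.fg_of_isNoetherianRing _) ?_ hjac
        rwa [smul_eq_mul, ← pow_two]
      obtain ⟨x, hxm, hx2⟩ : ∃ x ∈ maximalIdeal R, x ∉ maximalIdeal R ^ 2 := by
        by_contra hcon
        push Not at hcon
        exact hne hcon
      obtain ⟨hreg, hcard⟩ := isRegularLocalRing_quotient_of_spanFinrank hxm
        (spanFinrank_map_mk_add_one_le hxm hx2)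
      have hdom : IsDomain (R ⧸ Ideal.span ({x} : Set R)) :=
        isDomain (R ⧸ Ideal.span ({x} : Set R))
      have hprimeI : (Ideal.span ({x} : Set R)).IsPrime :=
        (Ideal.Quotient.isDomain_iff_prime _).mp hdom
      have hx0 : x ≠ 0 := by
        rintro rfl
        exact hx2 (Ideal.zero_mem _)
      have hxprime : Prime x := (Ideal.span_singleton_prime hx0).mp hprimeI
      have hxnu : ¬ IsUnit x := hxprime.not_isUnit
      have IHq := ih _ (by omega) (R ⧸ Ideal.span ({x} : Set R)) rfl
      -- the case `x ∤ b`
      have caseA : ∀ b : R, ¬ x ∣ b → ∀ a c : R, c ≠ 0 → (∀ n : ℕ, b ^ n ∣ c * a ^ n) → b ∣ a := by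
        intro b hxb a c hc h
        have hb : b ≠ 0 := by rintro rfl; exact hxb (dvd_zero x)
        -- reduce to `x ∤ c`
        obtain ⟨f, c', hxc', rfl⟩ := WfDvdMonoid.max_power_factor' hc hxnu
        have h' : ∀ n : ℕ, b ^ n ∣ c' * a ^ n := by
          intro n
          have := h n
          rw [mul_assoc] at this
          exact dvd_of_dvd_pow_mul hxprime hxb n f _ this
        -- the approximation loop
        have loop : ∀ k : ℕ, ∃ r ak : R, a = b * r + x ^ k * ak ∧ ∀ n : ℕ, b ^ n ∣ c' * ak ^ n := by
          intro k
          induction k with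
          | zero => exact ⟨0, a, by simp, h'⟩
          | succ k ihk =>
            obtain ⟨r, ak, hak, hdiv⟩ := ihk
            set mk := Ideal.Quotient.mk (Ideal.span ({x} : Set R)) with hmk
            have hbq : mk b ≠ 0 := by
              intro h0
              rw [Ideal.Quotient.eq_zero_iff_mem, Ideal.mem_span_singleton] at h0
              exact hxb h0
            have hcq : mk c' ≠ 0 := by
              intro h0
              rw [Ideal.Quotient.eq_zero_iff_mem, Ideal.mem_span_singleton] at h0
              exact hxc' h0
            have hq : mk b ∣ mk ak := by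
              apply IHq (mk b) hbq (mk ak) (mk c') hcq
              intro n
              have := map_dvd mk (hdiv n)
              simpa only [map_mul, map_pow] using this
            obtain ⟨rq, hrq⟩ := hq
            obtain ⟨r', rfl⟩ := Ideal.Quotient.mk_surjective rq
            have hmem : ak - b * r' ∈ Ideal.span ({x} : Set R) := by
              rw [← Ideal.Quotient.eq_zero_iff_mem, map_sub, map_mul, hrq, sub_self]
            rw [Ideal.mem_span_singleton] at hmem
            obtain ⟨ak', hak'⟩ := hmem
            refine ⟨r + x ^ k * r', ak', ?_, ?_⟩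
            · have : ak = b * r' + x * ak' := by rw [← hak']; ring
              rw [hak, this]; ring
            · intro n
              have h1 : b ^ n ∣ c' * (ak - b * r') ^ n := by
                rw [sub_eq_add_neg, add_pow, Finset.mul_sum]
                apply Finset.dvd_sum
                intro j _
                obtain ⟨u, hu⟩ := hdiv j
                have hj : j ≤ n := by
                  have := Finset.mem_range.mp ‹j ∈ Finset.range (n + 1)›
                  omega
                refine ⟨u * (-r') ^ (n - j) * (n.choose j : R), ?_⟩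
                have e1 : (-(b * r')) ^ (n - j) = b ^ (n - j) * (-r') ^ (n - j) := by
                  rw [← mul_pow]; congr 1; ring
                have e2 : b ^ n = b ^ j * b ^ (n - j) := by
                  rw [← pow_add]; congr 1; omega
                rw [e1, e2]
                calc c' * (ak ^ j * (b ^ (n - j) * (-r') ^ (n - j)) * (n.choose j : R))
                    = (c' * ak ^ j) * (b ^ (n - j) * (-r') ^ (n - j) * (n.choose j : R)) := by ring
                  _ = (b ^ j * u) * (b ^ (n - j) * (-r') ^ (n - j) * (n.choose j : R)) := by rw [hu]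
                  _ = b ^ j * b ^ (n - j) * (u * (-r') ^ (n - j) * (n.choose j : R)) := by ring
              rw [hak', mul_pow, ← mul_assoc, mul_comm c' (x ^ n), mul_assoc] at h1
              exact dvd_of_dvd_pow_mul hxprime hxb n n _ h1
        -- Krull intersection in `R ⧸ (b)`
        have hI : Ideal.span ({x} : Set R) ≠ ⊤ := hprimeI.ne_top
        have hkrull := Ideal.iInf_pow_smul_eq_bot_of_isLocalRing (R := R)
          (M := R ⧸ Ideal.span ({b} : Set R)) (Ideal.span ({x} : Set R)) hI
        have hmem : (Ideal.Quotient.mk (Ideal.span ({b} : Set R)) a) ∈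
            (⨅ i : ℕ, (Ideal.span ({x} : Set R)) ^ i • ⊤ :
              Submodule R (R ⧸ Ideal.span ({b} : Set R))) := by
          rw [Submodule.mem_iInf]
          intro k
          obtain ⟨r, ak, hak, -⟩ := loop k
          have : Ideal.Quotient.mk (Ideal.span ({b} : Set R)) a =
              (x ^ k) • Ideal.Quotient.mk (Ideal.span ({b} : Set R)) ak := by
            rw [hak, map_add, map_mul, map_mul]
            have : Ideal.Quotient.mk (Ideal.span ({b} : Set R)) b = 0 :=
              Ideal.Quotient.eq_zero_iff_mem.mpr (Ideal.mem_span_singleton_self b)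
            rw [this, zero_mul, zero_add]
            rfl
          rw [this]
          exact Submodule.smul_mem_smul
            (Ideal.pow_mem_pow (Ideal.mem_span_singleton_self x) k) Submodule.mem_top
        rw [hkrull, Submodule.mem_bot, Ideal.Quotient.eq_zero_iff_mem,
          Ideal.mem_span_singleton] at hmem
        exact hmem
      -- general case by well-founded induction on `b`
      intro b
      refine WellFounded.induction (r := DvdNotUnit)
        (C := fun b : R => b ≠ 0 → ∀ a c : R, c ≠ 0 → (∀ n : ℕ, b ^ n ∣ c * a ^ n) → b ∣ a)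
        wellFounded_dvdNotUnit b ?_
      · intro b ihb hb a c hc h
        by_cases hxb : x ∣ b
        · obtain ⟨b1, rfl⟩ := hxb
          have hb1 : b1 ≠ 0 := right_ne_zero_of_mul hb
          -- x ∣ a
          have hxa : x ∣ a := by
            obtain ⟨f, c', hxc', rfl⟩ := WfDvdMonoid.max_power_factor' hc hxnu
            have h1 := h (f + 1)
            rw [mul_pow] at h1
            have h2 : x ^ (f + 1) ∣ x ^ f * c' * a ^ (f + 1) := dvd_trans (dvd_mul_right _ _) h1
            rw [pow_succ, mul_assoc] at h2
            have h3 : x ∣ c' * a ^ (f + 1) :=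
              (mul_dvd_mul_iff_left (pow_ne_zero f hx0)).mp h2
            rcases hxprime.dvd_or_dvd h3 with h4 | h4
            · exact absurd h4 hxc'
            · exact hxprime.dvd_of_dvd_pow h4
          obtain ⟨a1, rfl⟩ := hxa
          have h' : ∀ n : ℕ, b1 ^ n ∣ c * a1 ^ n := by
            intro n
            have h1 := h n
            rw [mul_pow, mul_pow, mul_left_comm] at h1
            exact (mul_dvd_mul_iff_left (pow_ne_zero n hx0)).mp h1
          have := ihb b1 ⟨hb1, x, hxnu, mul_comm x b1⟩ hb1 a1 c hc h'
          exact mul_dvd_mul_left x this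
        · exact caseA b hxb a c hc h

theorem key (R : Type u) [CommRing R] [IsRegularLocalRing R] (b : R) (hb : b ≠ 0) (a c : R)
    (hc : c ≠ 0) (h : ∀ n : ℕ, b ^ n ∣ c * a ^ n) : b ∣ a :=
  key_aux _ R rfl b hb a c hc h

/-- A regular local ring is integrally closed. -/
theorem isIntegrallyClosed (R : Type u) [CommRing R] [IsRegularLocalRing R] :
    IsIntegrallyClosed R := by
  have hdomR : IsDomain R := isDomain R
  rw [isIntegrallyClosed_iff (FractionRing R)]
  intro z hz
  obtain ⟨c, hc, hcz⟩ := hz.isAlmostIntegral
  obtain ⟨a, b, hb, rfl⟩ := IsFractionRing.div_surjective (A := R) z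
  have hb0 : b ≠ 0 := nonZeroDivisors.ne_zero hb
  have hc0 : c ≠ 0 := nonZeroDivisors.ne_zero hc
  have hbK : algebraMap R (FractionRing R) b ≠ 0 := by
    rwa [Ne, map_eq_zero_iff _ (IsFractionRing.injective R (FractionRing R))]
  have hdiv : ∀ n : ℕ, b ^ n ∣ c * a ^ n := by
    intro n
    obtain ⟨r, hr⟩ := hcz n
    refine ⟨r, ?_⟩
    apply IsFractionRing.injective R (FractionRing R)
    rw [map_mul, map_mul, map_pow, map_pow, hr, Algebra.smul_def, div_pow]
    field_simp
  obtain ⟨r, rfl⟩ := key R b hb0 a c hc0 hdiv
  refine ⟨r, ?_⟩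
  rw [map_mul]
  field_simp

end Groth.Agent.Lib.RegularNormal
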