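/-
helper14: Serre's normality criterion (R₁ + S₂), in terms of the prelude's `LocCoh.HasRk`,
`LocCoh.HasSk` (for S0601 and relatives).

* `hasRk_localization`, `hasSk_self_localization` : (R_k), (S_k) pass to `R_P`.
* `exists_prime_of_notMem_span` : (S₂), `b` regular, `a ∉ (b)` ⇒ some prime `p ∋ b` of height `≤ 1`
  has `a ∉ b R_p`.
* `isDomain_of_local` : reduced Noetherian local ring in which `a² = ab`, `b` regular ⇒ `a ∈ (b)`
  is a domain.
* `isDomain_and_isIntegrallyClosed_of_local` : Noetherian local ring with R₁ + S₂ is a normal domain.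
* `isPrincipal_maximalIdeal_of_isIntegrallyClosed` : normal Noetherian local domain with
  `m ∈ Ass(A/aA)` has principal maximal ideal.
* `hasRk_one_of_normal`, `hasSk_two_of_normal`.
-/
import Mathlib
import Groth.Agent.Lib.H8CM9
import Groth.Agent.Lib.CMRingEquiv96
import Groth.Agent.Lib.RegularNormal
import Groth.Agent.Lib.RegularLocal
import Groth.Agent.S0602
import Groth.Agent.S16667

set_option autoImplicit false
universe u

namespace Groth.Agent.Lib.H14SerreNormal

open IsLocalRing LocCoh

section transfer

variable {R : Type u} [CommRing R]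

/-- (R_k) passes to the localization at a prime. -/
theorem hasRk_localization {k : ℕ} (hR : HasRk k R) (P : Ideal R) [P.IsPrime] :
    HasRk k (Localization.AtPrime P) := by
  intro q _ hq
  have e := IsLocalization.localizationLocalizationAtPrimeIsoLocalization P.primeCompl q
  have hht : (q.comap (algebraMap R (Localization.AtPrime P))).height = q.height :=
    IsLocalization.height_under P.primeCompl q
  have := hR (q.comap (algebraMap R _)) (by rw [hht]; exact hq)
  exact IsRegularLocalRing.of_ringEquiv e.toRingEquiv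

/-- (S_k) for the ring passes to the localization at a prime. -/
theorem hasSk_self_localization [IsNoetherianRing R] {k : ℕ} (hS : HasSk k R R) (P : Ideal R)
    [P.IsPrime] : HasSk k (Localization.AtPrime P) (Localization.AtPrime P) := by
  rw [Groth.Agent.Lib.H8CM.hasSk_self_iff] at hS ⊢
  intro q _
  have e := IsLocalization.localizationLocalizationAtPrimeIsoLocalization P.primeCompl q
  have hht : (q.comap (algebraMap R (Localization.AtPrime P))).height = q.height :=
    IsLocalization.height_under P.primeCompl q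
  have := hS (q.comap (algebraMap R _))
  rw [hht] at this
  rwa [Groth.Agent.Lib.CMRingEquiv96.depth_eq e.toRingEquiv] at this

/-- (R_k) is monotone in `k`. -/
theorem hasRk_mono {k l : ℕ} (hkl : k ≤ l) (hR : HasRk l R) : HasRk k R := by
  intro p _ hp
  exact hR p (hp.trans (by exact_mod_cast hkl))

/-- (S_k) for the ring is monotone in `k`. -/
theorem hasSk_self_mono [IsNoetherianRing R] {k l : ℕ} (hkl : k ≤ l) (hS : HasSk l R R) :
    HasSk k R R := by
  rw [Groth.Agent.Lib.H8CM.hasSk_self_iff] at hS ⊢
  intro p _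
  exact (min_le_min_right _ (by exact_mod_cast hkl)).trans (hS p)

/-- Under (S₂), a prime `p` with `depth R_p = 1` has height `≤ 1`. -/
theorem height_le_one_of_depth_eq_one [IsNoetherianRing R] (hS : HasSk 2 R R) (p : Ideal R)
    [p.IsPrime] (h1 : depth (Localization.AtPrime p) (Localization.AtPrime p) = 1) :
    p.height ≤ 1 := by
  have h2 := (Groth.Agent.Lib.H8CM.hasSk_self_iff 2).mp hS p
  rw [h1] at h2
  by_contra hcon
  push Not at hcon
  have h3 : (2 : ℕ∞) ≤ p.height := by
    have := Order.add_one_le_of_lt hcon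
    simpa [one_add_one_eq_two] using this
  have h4 : min ((2 : ℕ) : ℕ∞) p.height = 2 := by
    rw [min_eq_left]; · rfl
    exact_mod_cast h3
  rw [h4] at h2
  exact absurd h2 (by norm_num)

/-- (S₂): if `b` is regular and `a ∉ (b)`, there is a prime `p ∋ b` of height `≤ 1` with
`a ∉ b R_p`. -/
theorem exists_prime_of_notMem_span [IsNoetherianRing R] (hS : HasSk 2 R R) {a b : R}
    (hb : IsSMulRegular R b) (ha : a ∉ Ideal.span {b}) :
    ∃ (p : Ideal R) (_ : p.IsPrime), p.height ≤ 1 ∧ b ∈ p ∧
      algebraMap R (Localization.AtPrime p) a ∉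
        Ideal.span {algebraMap R (Localization.AtPrime p) b} := by
  set N := R ⧸ (show Submodule R R from Ideal.span {b}) with hN
  have hx : (Submodule.Quotient.mk a : N) ≠ 0 := by
    rw [Ne, Submodule.Quotient.mk_eq_zero]
    exact ha
  obtain ⟨p, hp, hle⟩ := exists_le_isAssociatedPrime_of_isNoetherianRing R _ hx
  have hpp : p.IsPrime := hp.isPrime
  have hbp : b ∈ p := by
    apply hle
    rw [Submodule.mem_colon_singleton, ← Submodule.Quotient.mk_smul, Submodule.mem_bot,
      Submodule.Quotient.mk_eq_zero, smul_eq_mul]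
    exact Ideal.mul_mem_right _ _ (Ideal.subset_span rfl)
  refine ⟨p, hpp, ?_, hbp, ?_⟩
  · exact height_le_one_of_depth_eq_one hS p
      ((Groth.Agent.Lib.H8CM.depth_localization_of_mem_associatedPrimes p hbp hb).1 hp)
  · intro hmem
    rw [Ideal.mem_span_singleton'] at hmem
    obtain ⟨y, hy⟩ := hmem
    obtain ⟨r, s, rfl⟩ := IsLocalization.exists_mk'_eq p.primeCompl y
    have h1 : algebraMap R (Localization.AtPrime p) (r * b) =
        algebraMap R (Localization.AtPrime p) (s * a) := by
      rw [map_mul, map_mul, ← hy, ← mul_assoc, IsLocalization.mul_mk'_eq_mk'_of_mul,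
        mul_comm (s : R) r, IsLocalization.mk'_mul_cancel_right]
    obtain ⟨t, ht⟩ := (IsLocalization.eq_iff_exists p.primeCompl _).mp h1
    have hts : (t : R) * s ∈ p := by
      apply hle
      rw [Submodule.mem_colon_singleton, ← Submodule.Quotient.mk_smul, Submodule.mem_bot,
        Submodule.Quotient.mk_eq_zero, smul_eq_mul]
      show (t : R) * s * a ∈ Ideal.span {b}
      rw [mul_assoc, ← ht, Ideal.mem_span_singleton']
      exact ⟨t * r, by ring⟩
    exact (p.primeCompl.mul_mem t.2 s.2) hts

end transfer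

section localcase

/-- A reduced Noetherian local ring in which `a² = ab`, `b` regular, forces `a ∈ (b)`,
is a domain (no nontrivial idempotents in the total ring of fractions). -/
theorem isDomain_of_local (A : Type u) [CommRing A] [IsLocalRing A] [IsNoetherianRing A]
    [IsReduced A]
    (H : ∀ a b : A, IsSMulRegular A b → a * a = a * b → a ∈ Ideal.span {b}) : IsDomain A := by
  classical
  have hfin : (minimalPrimes A).Finite := minimalPrimes.finite_of_isNoetherianRing A
  have hsInf : sInf (minimalPrimes A) = ⊥ := by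
    have := Ideal.sInf_minimalPrimes (I := (⊥ : Ideal A))
    rw [minimalPrimes, this]
    exact nilradical_eq_zero A
  have hmemall : ∀ x : A, (∀ q ∈ minimalPrimes A, x ∈ q) → x = 0 := by
    intro x hx
    have : x ∈ sInf (minimalPrimes A) := by
      rw [Ideal.mem_sInf]; exact fun {q} hq => hx q hq
    rwa [hsInf, Ideal.mem_bot] at this
  obtain ⟨p₁, hp₁⟩ : (minimalPrimes A).Nonempty := by
    obtain ⟨p, hp, -⟩ := Ideal.exists_minimalPrimes_le (I := (⊥ : Ideal A))
      (J := maximalIdeal A) bot_le
    exact ⟨p, hp⟩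
  have hp₁prime : p₁.IsPrime := hp₁.1.1
  by_cases h1 : ∀ q ∈ minimalPrimes A, q = p₁
  · have : p₁ = ⊥ := by
      rw [eq_bot_iff]
      intro x hx
      rw [Ideal.mem_bot]
      exact hmemall x (fun q hq => by rw [h1 q hq]; exact hx)
    rw [this] at hp₁prime
    exact IsDomain.of_bot_isPrime A
  · push Not at h1
    obtain ⟨p₂, hp₂, hne⟩ := h1
    exfalso
    set S := hfin.toFinset with hS
    set T := S.erase p₁ with hT
    set J : Ideal A := T.inf id with hJ
    have hJle : ∀ q ∈ T, J ≤ q := fun q hq => Finset.inf_le (f := id) hq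
    have hinf : ∀ x, x ∈ p₁ → x ∈ J → x = 0 := by
      intro x hx1 hxJ
      apply hmemall
      intro q hq
      by_cases hq1 : q = p₁
      · rw [hq1]; exact hx1
      · exact hJle q (Finset.mem_erase.mpr ⟨hq1, hfin.mem_toFinset.mpr hq⟩) hxJ
    have hnle : ∀ q ∈ minimalPrimes A, ¬ (p₁ ⊔ J ≤ q) := by
      intro q hq hle
      have hq1 : q = p₁ := le_antisymm (hq.2 ⟨hp₁prime, bot_le⟩ (le_sup_left.trans hle))
        (le_sup_left.trans hle)
      rw [hq1] at hle
      have hJp : J ≤ p₁ := le_sup_right.trans hle
      rw [hJ, Ideal.IsPrime.inf_le' hp₁prime] at hJp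
      obtain ⟨i, hiT, hi⟩ := hJp
      have hi' := Finset.mem_erase.mp hiT
      have himin : i ∈ minimalPrimes A := hfin.mem_toFinset.mp hi'.2
      exact hi'.1 (le_antisymm hi (hp₁.2 ⟨himin.1.1, bot_le⟩ hi))
    have hav : ¬ (((p₁ ⊔ J : Ideal A) : Set A) ⊆
        ⋃ i ∈ (↑S : Set (Ideal A)), (id i : Ideal A)) := by
      intro hsub
      obtain ⟨i, hi, hle⟩ := (Ideal.subset_union_prime (s := S) (f := id) p₁ p₁
        (fun i hi _ _ => (hfin.mem_toFinset.mp hi).1.1)).mp hsub
      exact hnle i (hfin.mem_toFinset.mp hi) hle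
    rw [Set.not_subset] at hav
    obtain ⟨b, hbmem, hbnot⟩ := hav
    have hbq : ∀ q ∈ minimalPrimes A, b ∉ q := by
      intro q hq hbq
      apply hbnot
      simp only [Set.mem_iUnion]
      exact ⟨q, Finset.mem_coe.mpr (hfin.mem_toFinset.mpr hq), hbq⟩
    have hbreg : IsSMulRegular A b := by
      intro c c' hcc
      simp only [smul_eq_mul] at hcc
      have h0 : b * (c - c') = 0 := by rw [mul_sub, hcc, sub_self]
      have : c - c' = 0 := by
        apply hmemall
        intro q hq
        have : b * (c - c') ∈ q := by rw [h0]; exact q.zero_mem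
        exact (hq.1.1.mem_or_mem this).resolve_left (hbq q hq)
      exact sub_eq_zero.mp this
    obtain ⟨a, ha, a', ha', hab⟩ := Submodule.mem_sup.mp hbmem
    have haa' : a * a' = 0 := hinf _ (p₁.mul_mem_right _ ha) (J.mul_mem_left _ ha')
    have hsq : a * a = a * b := by rw [← hab, mul_add, haa', add_zero]
    obtain ⟨c, hc⟩ := Ideal.mem_span_singleton'.mp (H a b hbreg hsq)
    have hcc : c * c = c := by
      have h2 : b * (b * (c * c)) = b * (b * c) := by
        have : a * a = a * b := hsq
        rw [← hc] at this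
        linear_combination this
      exact hbreg (hbreg h2)
    have hc01 : c = 0 ∨ c = 1 := by
      have h3 : c * (1 - c) = 0 := by rw [mul_sub, mul_one, hcc, sub_self]
      rcases IsLocalRing.isUnit_or_isUnit_one_sub_self c with hu | hu
      · right
        have := hu.mul_right_eq_zero.mp h3
        exact (sub_eq_zero.mp this).symm
      · left
        exact hu.mul_left_eq_zero.mp h3
    have hp₂T : p₂ ∈ T := Finset.mem_erase.mpr ⟨hne, hfin.mem_toFinset.mpr hp₂⟩
    rcases hc01 with rfl | rfl
    · rw [zero_mul] at hc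
      rw [← hc, zero_add] at hab
      rw [← hab] at hbq
      exact hbq p₂ hp₂ (hJle p₂ hp₂T ha')
    · rw [one_mul] at hc
      rw [← hc] at ha
      exact hbq p₁ hp₁ ha

/-- A Noetherian domain with R₁ and S₂ is integrally closed. -/
theorem isIntegrallyClosed_of_domain (A : Type u) [CommRing A] [IsDomain A] [IsNoetherianRing A]
    (hR : HasRk 1 A) (hS : HasSk 2 A A) : IsIntegrallyClosed A := by
  rw [isIntegrallyClosed_iff (FractionRing A)]
  intro x hx
  refine Groth.Agent.S16667.result hS x ?_
  intro p _ hdepth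
  have hht := height_le_one_of_depth_eq_one hS p hdepth
  have hreg : IsRegularLocalRing (Localization.AtPrime p) := hR p hht
  have hic : IsIntegrallyClosed (Localization.AtPrime p) :=
    Groth.Agent.Lib.RegularNormal.isIntegrallyClosed _
  have hfr : IsFractionRing (Localization.AtPrime p) (FractionRing A) :=
    IsFractionRing.isFractionRing_of_isDomain_of_isLocalization p.primeCompl _ _
  have hx' : IsIntegral (Localization.AtPrime p) x := hx.tower_top
  obtain ⟨y, hy⟩ := IsIntegrallyClosed.algebraMap_eq_of_integral hx'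
  exact ⟨y, hy⟩

/-- Serre's criterion, local case: a Noetherian local ring with R₁ and S₂ is a normal domain. -/
theorem isDomain_and_isIntegrallyClosed_of_local (A : Type u) [CommRing A] [IsLocalRing A]
    [IsNoetherianRing A] (hR : HasRk 1 A) (hS : HasSk 2 A A) :
    IsDomain A ∧ IsIntegrallyClosed A := by
  have hred : IsReduced A :=
    (Groth.Agent.S0602.result A).mpr ⟨hasRk_mono zero_le_one hR, hasSk_self_mono one_le_two hS⟩
  have hdom : IsDomain A := by
    apply isDomain_of_local A
    intro a b hb hsq
    by_contra hnot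
    obtain ⟨p, hpp, hht, -, hnm⟩ := exists_prime_of_notMem_span hS hb hnot
    have hreg : IsRegularLocalRing (Localization.AtPrime p) := hR p hht
    have hd : IsDomain (Localization.AtPrime p) := Groth.Agent.Lib.RegularLocal.isDomain _
    apply hnm
    have h1 : algebraMap A (Localization.AtPrime p) a *
        (algebraMap A (Localization.AtPrime p) a - algebraMap A (Localization.AtPrime p) b) = 0 := by
      rw [mul_sub, ← map_mul, ← map_mul, hsq, sub_self]
    rcases mul_eq_zero.mp h1 with h0 | h0
    · rw [h0]; exact Ideal.zero_mem _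
    · rw [sub_eq_zero.mp h0]; exact Ideal.subset_span rfl
  exact ⟨hdom, isIntegrallyClosed_of_domain A hR hS⟩

end localcase

section converse

/-- In an integrally closed Noetherian local domain, if `b ∉ (a)` (`a ≠ 0` in `m`) and `b m ⊆ (a)`
then the maximal ideal is principal.  (Adapted from Mathlib's
`maximalIdeal_isPrincipal_of_isDedekindDomain`.) -/
theorem isPrincipal_maximalIdeal_of_isIntegrallyClosed (R : Type u) [CommRing R] [IsLocalRing R]
    [IsDomain R] [IsNoetherianRing R] [IsIntegrallyClosed R] {a b : R}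
    (ha₁ : a ∈ maximalIdeal R) (ha₂ : a ≠ 0) (hb₂ : b ∉ Ideal.span {a})
    (hb₃ : ∀ m ∈ maximalIdeal R, ∃ k : R, k * a = b * m) :
    (maximalIdeal R).IsPrincipal := by
  classical
  have hb₄ : b ≠ 0 := by rintro rfl; apply hb₂; exact zero_mem _
  let K := FractionRing R
  let x : K := algebraMap R K b / algebraMap R K a
  let M := Submodule.map (Algebra.linearMap R K) (maximalIdeal R)
  have ha₃ : algebraMap R K a ≠ 0 := IsFractionRing.to_map_eq_zero_iff.not.mpr ha₂
  by_cases hx : ∀ y ∈ M, x * y ∈ M
  · have := isIntegral_of_smul_mem_submodule M ?_ ?_ x hx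
    · obtain ⟨y, e⟩ := IsIntegrallyClosed.algebraMap_eq_of_integral this
      refine (hb₂ (Ideal.mem_span_singleton'.mpr ⟨y, ?_⟩)).elim
      apply IsFractionRing.injective R K
      rw [map_mul, e, div_mul_cancel₀ _ ha₃]
    · rw [Submodule.ne_bot_iff]; refine ⟨_, ⟨a, ha₁, rfl⟩, ?_⟩
      exact (IsFractionRing.to_map_eq_zero_iff (K := K)).not.mpr ha₂
    · apply Submodule.FG.map; exact IsNoetherian.noetherian _
  · have :
        (M.map (DistribSMul.toLinearMap R K x)).comap (Algebra.linearMap R K) = ⊤ := by
      contrapose! hx with h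
      rintro m' ⟨m, hm, rfl : algebraMap R K m = m'⟩
      obtain ⟨k, hk⟩ := hb₃ m hm
      have hk' : x * algebraMap R K m = algebraMap R K k := by
        rw [← mul_div_right_comm, ← map_mul, ← hk, map_mul, mul_div_cancel_right₀ _ ha₃]
      exact ⟨k, le_maximalIdeal h ⟨_, ⟨_, hm, rfl⟩, hk'⟩, hk'.symm⟩
    obtain ⟨y, hy₁, hy₂⟩ : ∃ y ∈ maximalIdeal R, b * y = a := by
      rw [Ideal.eq_top_iff_one, Submodule.mem_comap] at this
      obtain ⟨_, ⟨y, hy, rfl⟩, hy' : x * algebraMap R K y = algebraMap R K 1⟩ := this
      rw [map_one, ← mul_div_right_comm, div_eq_one_iff_eq ha₃, ← map_mul] at hy'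
      exact ⟨y, hy, IsFractionRing.injective R K hy'⟩
    refine ⟨⟨y, ?_⟩⟩
    apply le_antisymm
    · intro m hm; obtain ⟨k, hk⟩ := hb₃ m hm; rw [← hy₂, mul_comm, mul_assoc] at hk
      rw [← mul_left_cancel₀ hb₄ hk, mul_comm]; exact Ideal.mem_span_singleton'.mpr ⟨_, rfl⟩
    · rwa [Submodule.span_le, Set.singleton_subset_iff]

/-- A normal Noetherian local domain satisfies `min 2 (ht m) ≤ depth`. -/
theorem min_two_height_le_depth_of_normal (A : Type u) [CommRing A] [IsLocalRing A] [IsDomain A]
    [IsNoetherianRing A] [IsIntegrallyClosed A] :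
    min (2 : ℕ∞) (maximalIdeal A).height ≤ depth A A := by
  by_cases hbot : maximalIdeal A = ⊥
  · rw [hbot, Ideal.height_bot]; simp
  obtain ⟨b, hbm, hb0⟩ : ∃ b ∈ maximalIdeal A, b ≠ (0 : A) := by
    by_contra! h'; apply hbot; rwa [eq_bot_iff]
  have hreg : IsSMulRegular A b := fun x y h => mul_left_cancel₀ hb0 h
  have hd := Groth.Agent.Lib.DepthRees.depth_quotSMulTop_add_one A hbm hreg
  have hnt := Groth.Agent.Lib.H8CM.nontrivial_quotSMulTop (M := A) hbm
  have hiff := Groth.Agent.Lib.SerreSk.maximalIdeal_mem_associatedPrimes_iff (R := A)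
    (QuotSMulTop b A)
  by_cases hass : maximalIdeal A ∈ associatedPrimes A (QuotSMulTop b A)
  · have hprin : (maximalIdeal A).IsPrincipal := by
      obtain ⟨_, y, hy⟩ := (isAssociatedPrime_iff).1 hass
      obtain ⟨a, rfl⟩ := Submodule.Quotient.mk_surjective _ y
      have hmem : ∀ r : A, r ∈ maximalIdeal A ↔ r * a ∈ Ideal.span {b} := by
        intro r
        rw [hy, Submodule.mem_colon_singleton, Submodule.mem_bot, ← Submodule.Quotient.mk_smul,
          Submodule.Quotient.mk_eq_zero, smul_eq_mul, ← Submodule.ideal_span_singleton_smul,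
          smul_eq_mul, Ideal.mul_top]
      apply isPrincipal_maximalIdeal_of_isIntegrallyClosed A hbm hb0 (b := a)
      · intro ha
        have : (1 : A) ∈ maximalIdeal A := by rw [hmem, one_mul]; exact ha
        exact (Ideal.ne_top_iff_one _).mp (IsLocalRing.maximalIdeal.isMaximal A).ne_top this
      · intro m hm
        have := (hmem m).mp hm
        obtain ⟨k, hk⟩ := Ideal.mem_span_singleton'.mp this
        exact ⟨k, by rw [hk, mul_comm]⟩
    have hht : (maximalIdeal A).height ≤ 1 :=
      Ideal.height_le_one_of_isPrincipal_of_mem_minimalPrimes _ _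
        (by rw [Ideal.minimalPrimes_eq_subsingleton_self (I := maximalIdeal A)]; rfl)
    calc min (2 : ℕ∞) (maximalIdeal A).height ≤ (maximalIdeal A).height := min_le_right _ _
      _ ≤ 1 := hht
      _ ≤ depth A (QuotSMulTop b A) + 1 := le_add_self
      _ = depth A A := hd
  · have h1 : 1 ≤ depth A (QuotSMulTop b A) := by
      by_contra hcon; exact hass (hiff.mpr hcon)
    calc min (2 : ℕ∞) (maximalIdeal A).height ≤ 2 := min_le_left _ _
      _ = 1 + 1 := by norm_num
      _ ≤ depth A (QuotSMulTop b A) + 1 := add_le_add_left h1 1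
      _ = depth A A := hd

/-- A normal Noetherian local domain of dimension `≤ 1` is regular. -/
theorem isRegularLocalRing_of_normal (A : Type u) [CommRing A] [IsLocalRing A] [IsDomain A]
    [IsNoetherianRing A] [IsIntegrallyClosed A] (hdim : ringKrullDim A ≤ 1) :
    IsRegularLocalRing A := by
  have hK : Ring.KrullDimLE 1 A := Ring.krullDimLE_iff.mpr hdim
  have hmax : ∀ P : Ideal A, P ≠ ⊥ → P.IsPrime → P = maximalIdeal A := fun P hP hPp =>
    IsLocalRing.eq_maximalIdeal ((Ring.krullDimLE_one_iff_of_isPrime_bot.mp hK) P hP hPp)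
  have h30 : (IsIntegrallyClosed A ∧ ∀ P : Ideal A, P ≠ ⊥ → P.IsPrime → P = maximalIdeal A) ↔
      IsPrincipalIdealRing A := (tfae_of_isNoetherianRing_of_isLocalRing_of_isDomain A).out 3 0
  have hpir : IsPrincipalIdealRing A := h30.mp ⟨inferInstance, hmax⟩
  infer_instance

variable (R : Type u) [CommRing R] [IsNoetherianRing R]

theorem hasRk_one_of_normal
    (h : ∀ (p : Ideal R) [p.IsPrime], IsDomain (Localization.AtPrime p) ∧
      IsIntegrallyClosed (Localization.AtPrime p)) : HasRk 1 R := by
  intro p _ hp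
  obtain ⟨hd, hic⟩ := h p
  apply isRegularLocalRing_of_normal
  rw [IsLocalization.AtPrime.ringKrullDim_eq_height p]
  exact_mod_cast hp

theorem hasSk_two_of_normal
    (h : ∀ (p : Ideal R) [p.IsPrime], IsDomain (Localization.AtPrime p) ∧
      IsIntegrallyClosed (Localization.AtPrime p)) : HasSk 2 R R := by
  rw [Groth.Agent.Lib.H8CM.hasSk_self_iff]
  intro p _
  obtain ⟨hd, hic⟩ := h p
  have h1 := min_two_height_le_depth_of_normal (Localization.AtPrime p)
  have hht : (maximalIdeal (Localization.AtPrime p)).height = p.height := by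
    apply WithBot.coe_injective
    rw [maximalIdeal_height_eq_ringKrullDim, IsLocalization.AtPrime.ringKrullDim_eq_height p]
  rw [hht] at h1
  exact_mod_cast h1

/-- **Serre's normality criterion.** -/
theorem serre_criterion_normal :
    (∀ (p : Ideal R) [p.IsPrime], IsDomain (Localization.AtPrime p) ∧
      IsIntegrallyClosed (Localization.AtPrime p)) ↔ (HasRk 1 R ∧ HasSk 2 R R) := by
  constructor
  · intro h
    exact ⟨hasRk_one_of_normal R h, hasSk_two_of_normal R h⟩
  · rintro ⟨hR, hS⟩ p _
    exact isDomain_and_isIntegrallyClosed_of_local (Localization.AtPrime p)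
      (hasRk_localization hR p) (hasSk_self_localization hS p)

end converse

end Groth.Agent.Lib.H14SerreNormal
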