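import Groth.Agent.Lib.DepthFlat33
import Mathlib.RingTheory.Ideal.KrullsHeightTheorem
import Mathlib.RingTheory.Ideal.GoingDown
import Mathlib.RingTheory.KrullDimension.Zero
import Mathlib.RingTheory.KrullDimension.Module
import Mathlib.RingTheory.Flat.Localization
import Mathlib.RingTheory.Localization.Module

/-!
# Dimension / depth along flat local homomorphisms and Serre's conditions (helper33)

* `ringKrullDim_eq_add`, `depth_eq_add` for a flat local hom `A → B` of Noetherian local rings.
* `ringKrullDim_eq_of_krullDimLE_zero`, `depth_eq_of_krullDimLE_zero`: zero dimensional closed fibre.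
-/

set_option autoImplicit false
universe u v w

namespace Groth.Agent.Lib.SkFlat33

open IsLocalRing Groth.Agent.Lib TensorProduct

section LocalHom

variable {A B : Type u} [CommRing A] [CommRing B] [IsLocalRing A] [IsLocalRing B]
  [IsNoetherianRing A] [IsNoetherianRing B] [Algebra A B] [IsLocalHom (algebraMap A B)]
  [Module.Flat A B]

/-- Depth formula for rings: `depth B = depth A + depth_B (B/𝔪_A B)`. -/
theorem depth_eq_add :
    LocCoh.depth B B = LocCoh.depth A A +
      LocCoh.depth B (B ⧸ (maximalIdeal A).map (algebraMap A B) • (⊤ : Submodule B B)) := by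
  rw [← DepthFlat33.depth_tensor_eq_add A B]
  exact DepthFlat33.depth_congr (TensorProduct.AlgebraTensorModule.rid A B B).symm

omit [IsNoetherianRing A] [IsNoetherianRing B] [Module.Flat A B] in
lemma map_maximalIdeal_ne_top : (maximalIdeal A).map (algebraMap A B) ≠ ⊤ :=
  (map_maximalIdeal_lt_top (algebraMap A B)).ne

omit [IsNoetherianRing A] [IsNoetherianRing B] [Module.Flat A B] in
lemma nontrivial_fibre : Nontrivial (B ⧸ (maximalIdeal A).map (algebraMap A B)) :=
  Ideal.Quotient.nontrivial_iff.mpr map_maximalIdeal_ne_top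

/-- Dimension formula for flat local homomorphisms: `dim B = dim A + dim B/𝔪_A B`. -/
theorem ringKrullDim_eq_add :
    ringKrullDim B = ringKrullDim A +
      ringKrullDim (B ⧸ (maximalIdeal A).map (algebraMap A B)) := by
  haveI : (maximalIdeal B).LiesOver (maximalIdeal A) :=
    ⟨(maximalIdeal_comap (algebraMap A B)).symm⟩
  have h := Ideal.height_eq_height_add_of_liesOver_of_hasGoingDown (maximalIdeal A) (maximalIdeal B)
  haveI := nontrivial_fibre (A := A) (B := B)
  haveI : IsLocalRing (B ⧸ (maximalIdeal A).map (algebraMap A B)) :=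
    IsLocalRing.of_surjective' (Ideal.Quotient.mk _) Ideal.Quotient.mk_surjective
  have hmax : (maximalIdeal B).map (Ideal.Quotient.mk ((maximalIdeal A).map (algebraMap A B))) =
      maximalIdeal (B ⧸ (maximalIdeal A).map (algebraMap A B)) := by
    have := Ideal.map_eq_top_or_isMaximal_of_surjective
      (Ideal.Quotient.mk ((maximalIdeal A).map (algebraMap A B))) Ideal.Quotient.mk_surjective
      (maximalIdeal.isMaximal B)
    rcases this with h1 | h1
    · exfalso
      have h2 := congrArg (Ideal.comap (Ideal.Quotient.mk ((maximalIdeal A).map (algebraMap A B)))) h1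
      rw [Ideal.comap_map_of_surjective _ Ideal.Quotient.mk_surjective, Ideal.comap_top,
        ← RingHom.ker_eq_comap_bot, Ideal.mk_ker,
        sup_eq_left.mpr (map_maximalIdeal_le (algebraMap A B))] at h2
      exact (maximalIdeal.isMaximal B).ne_top h2
    · exact IsLocalRing.eq_maximalIdeal h1
  rw [hmax] at h
  rw [← IsLocalRing.maximalIdeal_height_eq_ringKrullDim,
    ← IsLocalRing.maximalIdeal_height_eq_ringKrullDim,
    ← IsLocalRing.maximalIdeal_height_eq_ringKrullDim, h]
  rfl

/-- If the closed fibre is zero-dimensional then `dim B = dim A`. -/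
theorem ringKrullDim_eq_of_krullDimLE_zero
    (h0 : Ring.KrullDimLE 0 (B ⧸ (maximalIdeal A).map (algebraMap A B))) :
    ringKrullDim B = ringKrullDim A := by
  haveI := nontrivial_fibre (A := A) (B := B)
  rw [ringKrullDim_eq_add (A := A), (ringKrullDimZero_iff_ringKrullDim_eq_zero).mp h0, add_zero]

/-- If the closed fibre is zero-dimensional then `depth B = depth A`. -/
theorem depth_eq_of_krullDimLE_zero
    (h0 : Ring.KrullDimLE 0 (B ⧸ (maximalIdeal A).map (algebraMap A B))) :
    LocCoh.depth B B = LocCoh.depth A A := by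
  haveI := nontrivial_fibre (A := A) (B := B)
  rw [depth_eq_add (A := A)]
  have hdim : ringKrullDim (B ⧸ (maximalIdeal A).map (algebraMap A B)) = 0 :=
    (ringKrullDimZero_iff_ringKrullDim_eq_zero).mp h0
  have hI : (maximalIdeal A).map (algebraMap A B) • (⊤ : Submodule B B) =
      (maximalIdeal A).map (algebraMap A B) := by
    simp
  have hnt : Nontrivial (B ⧸ (maximalIdeal A).map (algebraMap A B) • (⊤ : Submodule B B)) := by
    rw [Submodule.Quotient.nontrivial_iff, hI]
    exact map_maximalIdeal_ne_top
  have h1 := DepthRees.depth_le_supportDim (R := B)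
    (B ⧸ (maximalIdeal A).map (algebraMap A B) • (⊤ : Submodule B B))
  have h2 : Module.supportDim B (B ⧸ (maximalIdeal A).map (algebraMap A B) • (⊤ : Submodule B B)) = 0 := by
    rw [Module.supportDim_eq_of_equiv (Submodule.quotEquivOfEq _ _ hI),
      Module.supportDim_quotient_eq_ringKrullDim, hdim]
  rw [h2] at h1
  have h3 : LocCoh.depth B (B ⧸ (maximalIdeal A).map (algebraMap A B) • (⊤ : Submodule B B)) = 0 := by
    have : (LocCoh.depth B (B ⧸ (maximalIdeal A).map (algebraMap A B) • (⊤ : Submodule B B)) : WithBot ℕ∞)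
        ≤ ((0 : ℕ∞) : WithBot ℕ∞) := by simpa using h1
    exact le_antisymm (WithBot.coe_le_coe.mp this) zero_le
  rw [h3, add_zero]

end LocalHom

end Groth.Agent.Lib.SkFlat33
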