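/-
helper14: ascent of normality / regularity along flat local homomorphisms (for S2611, S2609).

* `spanFinrank_maximalIdeal_le_add` : embdim B ≤ embdim A + embdim (B/𝔪_A B) for a local hom.
* `isRegularLocalRing_of_flat_of_fibre` : REGULAR ASCENT (A → B flat local, A and B/𝔪_A B regular
  ⇒ B regular).
* `depth_fibre_eq`, `normal_ascent_core` : A, B/𝔪_A B normal domains ⇒ (dim B ≤ 1 → B regular) and
  min 2 (dim B) ≤ depth B.
* `hasRk_localization_of_le`, `hasSk_self_localization_of_le`, `normal_localization_of_le`.
* `map_maximalIdeal_eq`, `isLocalHom_localization`, `flat_localization` : the flat local hom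
  `A_{Q∩A} → B_Q` (via `Localization.AtPrime.algebraOfLiesOver`) and its fibre ideal.
* `normal_ascent` : EGA IV 6.5.4 (normal ascent along flat maps with normal fibre local rings).
-/
import Mathlib
import Groth.Agent.Lib.SkFlat33
import Groth.Agent.Lib.H8DepthBC2
import Groth.Agent.Lib.H14SerreNormal

set_option autoImplicit false
set_option linter.style.haveILetI false
set_option linter.unusedSectionVars false
universe u

namespace Groth.Agent.Lib.H14FlatAscent

open IsLocalRing LocCoh

section span

variable {A B : Type u} [CommRing A] [CommRing B] [IsLocalRing A] [IsLocalRing B]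
  [IsNoetherianRing A] [IsNoetherianRing B] [Algebra A B] [IsLocalHom (algebraMap A B)]

/-- Embedding dimension is subadditive along a local homomorphism. -/
theorem spanFinrank_maximalIdeal_le_add
    [IsLocalRing (B ⧸ (maximalIdeal A).map (algebraMap A B))] :
    (maximalIdeal B).spanFinrank ≤ (maximalIdeal A).spanFinrank +
      (maximalIdeal (B ⧸ (maximalIdeal A).map (algebraMap A B))).spanFinrank := by
  classical
  set J := (maximalIdeal A).map (algebraMap A B) with hJ
  set F := B ⧸ J with hF
  obtain ⟨s, hs_card, hs_span⟩ := Submodule.FG.exists_span_finset_card_eq_spanFinrank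
    ((isNoetherianRing_iff_ideal_fg A).mp inferInstance (maximalIdeal A))
  obtain ⟨t, ht_card, ht_span⟩ := Submodule.FG.exists_span_finset_card_eq_spanFinrank
    ((isNoetherianRing_iff_ideal_fg F).mp inferInstance (maximalIdeal F))
  have hmk : Function.Surjective (Ideal.Quotient.mk J) := Ideal.Quotient.mk_surjective
  haveI : IsLocalHom (Ideal.Quotient.mk J) := IsLocalHom.of_surjective _ hmk
  let lift : F → B := fun y => Classical.choose (hmk y)
  have hlift : ∀ y, Ideal.Quotient.mk J (lift y) = y := fun y => Classical.choose_spec (hmk y)
  set t' : Finset B := t.image lift with ht'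
  set G : Finset B := s.image (algebraMap A B) ∪ t' with hG
  have hGcard : G.card ≤ s.card + t.card := by
    calc G.card ≤ (s.image (algebraMap A B)).card + t'.card := Finset.card_union_le _ _
      _ ≤ s.card + t.card := add_le_add Finset.card_image_le Finset.card_image_le
  have hspan : Ideal.span (G : Set B) = maximalIdeal B := by
    apply le_antisymm
    · rw [Ideal.span_le]
      intro b hb
      rw [hG, Finset.coe_union, Set.mem_union] at hb
      rcases hb with hb | hb
      · rw [Finset.coe_image] at hb
        obtain ⟨a, ha, rfl⟩ := hb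
        apply _root_.map_nonunit
        rw [← hs_span]
        exact Submodule.subset_span ha
      · rw [ht', Finset.coe_image] at hb
        obtain ⟨y, hy, rfl⟩ := hb
        have hy' : y ∈ maximalIdeal F := by
          rw [← ht_span]; exact Submodule.subset_span hy
        rw [mem_maximalIdeal, mem_nonunits_iff] at hy'
        rw [SetLike.mem_coe, mem_maximalIdeal, mem_nonunits_iff]
        intro hu
        apply hy'
        rw [← hlift y]
        exact hu.map _
    · intro b hb
      have hb' : Ideal.Quotient.mk J b ∈ maximalIdeal F := _root_.map_nonunit _ _ hb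
      have himg : (Ideal.span (t' : Set B)).map (Ideal.Quotient.mk J) = maximalIdeal F := by
        rw [Ideal.map_span, ← ht_span]
        congr 1
        rw [ht', Finset.coe_image, Set.image_image]
        ext y
        simp only [Set.mem_image, Finset.mem_coe, hlift]
        constructor
        · rintro ⟨y', hy', rfl⟩; exact hy'
        · intro hy; exact ⟨y, hy, rfl⟩
      rw [← himg, Ideal.mem_map_iff_of_surjective _ hmk] at hb'
      obtain ⟨c, hc, hcb⟩ := hb'
      have hsub : b - c ∈ J := by
        rw [← Ideal.Quotient.eq_zero_iff_mem, map_sub, hcb, sub_self]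
      have hJG : J ≤ Ideal.span (G : Set B) := by
        rw [hJ, ← hs_span, Ideal.map_span]
        apply Ideal.span_mono
        rw [hG, Finset.coe_union, Finset.coe_image]
        exact Set.subset_union_left
      have htG : Ideal.span (t' : Set B) ≤ Ideal.span (G : Set B) := by
        apply Ideal.span_mono
        rw [hG, Finset.coe_union]
        exact Set.subset_union_right
      have : b = (b - c) + c := by ring
      rw [this]
      exact Ideal.add_mem _ (hJG hsub) (htG hc)
  calc (maximalIdeal B).spanFinrank = (Ideal.span (G : Set B)).spanFinrank := by rw [hspan]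
    _ ≤ (G : Set B).ncard := Submodule.spanFinrank_span_le_ncard_of_finite G.finite_toSet
    _ = G.card := Set.ncard_coe_finset G
    _ ≤ s.card + t.card := hGcard
    _ = _ := by rw [hs_card, ht_card]

variable [Module.Flat A B]

/-- The fibre `B/𝔪_A B` of a local homomorphism is a local ring. -/
theorem isLocalRing_fibre : IsLocalRing (B ⧸ (maximalIdeal A).map (algebraMap A B)) := by
  haveI := Groth.Agent.Lib.SkFlat33.nontrivial_fibre (A := A) (B := B)
  exact IsLocalRing.of_surjective' (Ideal.Quotient.mk _) Ideal.Quotient.mk_surjective

/-- **Regular ascent**: for a flat local homomorphism `A → B` of Noetherian local rings with `A`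
and the closed fibre `B/𝔪_A B` regular, `B` is regular. -/
theorem isRegularLocalRing_of_flat_of_fibre (J : Ideal B)
    (hJ : J = (maximalIdeal A).map (algebraMap A B)) (hA : IsRegularLocalRing A)
    (hF : IsRegularLocalRing (B ⧸ J)) : IsRegularLocalRing B := by
  subst hJ
  apply IsRegularLocalRing.of_spanFinrank_maximalIdeal_le
  rw [Groth.Agent.Lib.SkFlat33.ringKrullDim_eq_add (A := A)]
  have h1 := spanFinrank_maximalIdeal_le_add (A := A) (B := B)
  have hA' := (isRegularLocalRing_iff A).mp hA
  have hF' := (isRegularLocalRing_iff (B ⧸ (maximalIdeal A).map (algebraMap A B))).mp hF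
  rw [← hA', ← hF']
  exact_mod_cast h1

/-- depth of the fibre as a `B`-module equals its depth as a ring. -/
theorem depth_fibre_eq [IsLocalRing (B ⧸ (maximalIdeal A).map (algebraMap A B))] :
    depth B (B ⧸ (maximalIdeal A).map (algebraMap A B) • (⊤ : Submodule B B)) =
      depth (B ⧸ (maximalIdeal A).map (algebraMap A B))
        (B ⧸ (maximalIdeal A).map (algebraMap A B)) := by
  set J := (maximalIdeal A).map (algebraMap A B) with hJ
  have hsub : J • (⊤ : Submodule B B) = J := by simp
  rw [Groth.Agent.Lib.DepthFlat33.depth_congr (Submodule.quotEquivOfEq _ _ hsub)]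
  haveI : IsLocalHom (algebraMap B (B ⧸ J)) :=
    IsLocalHom.of_surjective _ Ideal.Quotient.mk_surjective
  exact Groth.Agent.Lib.H8DepthBC.depth_eq_depth_of_isLocalHom (A := B) (B := B ⧸ J) (B ⧸ J)

/-- `min 2 (a + f) ≤ min 2 a + min 2 f` in `ℕ∞`. -/
theorem min_two_add_le (a f : ℕ∞) : min 2 (a + f) ≤ min 2 a + min 2 f := by
  by_cases ha : 2 ≤ a
  · rw [min_eq_left ha]
    exact (min_le_left _ _).trans le_self_add
  by_cases hf : 2 ≤ f
  · rw [min_eq_left hf]
    exact (min_le_left _ _).trans le_add_self
  push Not at ha hf
  rw [min_eq_right ha.le, min_eq_right hf.le]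
  exact min_le_right _ _

/-- **Normal ascent, closed point**: for a flat local homomorphism of Noetherian local rings
with `A` and the closed fibre normal domains, `B` is regular if `dim B ≤ 1`, and
`min 2 (dim B) ≤ depth B`. -/
theorem normal_ascent_core (J : Ideal B) (hJ : J = (maximalIdeal A).map (algebraMap A B))
    [IsDomain A] [IsIntegrallyClosed A] [IsDomain (B ⧸ J)] [IsIntegrallyClosed (B ⧸ J)] :
    (ringKrullDim B ≤ 1 → IsRegularLocalRing B) ∧
      min (2 : ℕ∞) (maximalIdeal B).height ≤ depth B B := by
  subst hJ
  haveI := isLocalRing_fibre (A := A) (B := B)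
  have hdim := Groth.Agent.Lib.SkFlat33.ringKrullDim_eq_add (A := A) (B := B)
  have hA0 : 0 ≤ ringKrullDim A := ringKrullDim_nonneg_of_nontrivial
  have hF0 : 0 ≤ ringKrullDim (B ⧸ (maximalIdeal A).map (algebraMap A B)) :=
    ringKrullDim_nonneg_of_nontrivial
  constructor
  · intro hB
    rw [hdim] at hB
    have hA1 : ringKrullDim A ≤ 1 := (le_add_of_nonneg_right hF0).trans hB
    have hF1 : ringKrullDim (B ⧸ (maximalIdeal A).map (algebraMap A B)) ≤ 1 :=
      (le_add_of_nonneg_left hA0).trans hB
    exact isRegularLocalRing_of_flat_of_fibre _ rfl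
      (Groth.Agent.Lib.H14SerreNormal.isRegularLocalRing_of_normal A hA1)
      (Groth.Agent.Lib.H14SerreNormal.isRegularLocalRing_of_normal _ hF1)
  · have hht : (maximalIdeal B).height = (maximalIdeal A).height +
        (maximalIdeal (B ⧸ (maximalIdeal A).map (algebraMap A B))).height := by
      apply WithBot.coe_injective
      rw [WithBot.coe_add, maximalIdeal_height_eq_ringKrullDim, maximalIdeal_height_eq_ringKrullDim,
        maximalIdeal_height_eq_ringKrullDim, hdim]
    rw [hht, Groth.Agent.Lib.SkFlat33.depth_eq_add (A := A) (B := B), depth_fibre_eq]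
    exact (min_two_add_le _ _).trans (add_le_add
      (Groth.Agent.Lib.H14SerreNormal.min_two_height_le_depth_of_normal A)
      (Groth.Agent.Lib.H14SerreNormal.min_two_height_le_depth_of_normal _))

end span

section transfer

variable {R : Type u} [CommRing R]

theorem comap_le_of_isPrime_localization (P : Ideal R) [P.IsPrime]
    (q : Ideal (Localization.AtPrime P)) [hq : q.IsPrime] :
    q.comap (algebraMap R (Localization.AtPrime P)) ≤ P := by
  have h1 : q ≤ maximalIdeal (Localization.AtPrime P) := IsLocalRing.le_maximalIdeal hq.ne_top
  have h2 := Ideal.comap_mono (f := algebraMap R (Localization.AtPrime P)) h1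
  have h3 := IsLocalization.AtPrime.under_maximalIdeal (Localization.AtPrime P) P
  rw [Ideal.under] at h3
  rwa [h3] at h2

/-- (R_k) for `R_P` from regularity at primes below `P`. -/
theorem hasRk_localization_of_le {k : ℕ} (P : Ideal R) [P.IsPrime]
    (h : ∀ (Q : Ideal R) [Q.IsPrime], Q ≤ P → Q.height ≤ k →
      IsRegularLocalRing (Localization.AtPrime Q)) :
    HasRk k (Localization.AtPrime P) := by
  intro q _ hq
  have e := IsLocalization.localizationLocalizationAtPrimeIsoLocalization P.primeCompl q
  have hht : (q.comap (algebraMap R (Localization.AtPrime P))).height = q.height :=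
    IsLocalization.height_under P.primeCompl q
  have := h (q.comap (algebraMap R _)) (comap_le_of_isPrime_localization P q)
    (by rw [hht]; exact hq)
  exact IsRegularLocalRing.of_ringEquiv e.toRingEquiv

/-- (S_k) for `R_P` from depth bounds at primes below `P`. -/
theorem hasSk_self_localization_of_le [IsNoetherianRing R] {k : ℕ} (P : Ideal R) [P.IsPrime]
    (h : ∀ (Q : Ideal R) [Q.IsPrime], Q ≤ P →
      min (k : ℕ∞) Q.height ≤ depth (Localization.AtPrime Q) (Localization.AtPrime Q)) :
    HasSk k (Localization.AtPrime P) (Localization.AtPrime P) := by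
  rw [Groth.Agent.Lib.H8CM.hasSk_self_iff]
  intro q _
  have e := IsLocalization.localizationLocalizationAtPrimeIsoLocalization P.primeCompl q
  have hht : (q.comap (algebraMap R (Localization.AtPrime P))).height = q.height :=
    IsLocalization.height_under P.primeCompl q
  have := h (q.comap (algebraMap R _)) (comap_le_of_isPrime_localization P q)
  rw [hht] at this
  rwa [Groth.Agent.Lib.CMRingEquiv96.depth_eq e.toRingEquiv] at this

/-- Normality of `R_p` passes to `R_P` for `P ≤ p`. -/
theorem normal_localization_of_le (p P : Ideal R) [p.IsPrime] [P.IsPrime] (hPp : P ≤ p)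
    [IsDomain (Localization.AtPrime p)] [IsIntegrallyClosed (Localization.AtPrime p)] :
    IsDomain (Localization.AtPrime P) ∧ IsIntegrallyClosed (Localization.AtPrime P) := by
  have hdisj : Disjoint (p.primeCompl : Set R) (P : Set R) := by
    rw [Set.disjoint_left]
    intro x hx hxP
    exact hx (hPp hxP)
  set P' : Ideal (Localization.AtPrime p) := P.map (algebraMap R (Localization.AtPrime p)) with hP'
  haveI hP'prime : P'.IsPrime :=
    IsLocalization.isPrime_of_isPrime_disjoint p.primeCompl _ P ‹_› hdisj
  have hcomap : P'.comap (algebraMap R (Localization.AtPrime p)) = P :=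
    IsLocalization.under_map_of_isPrime_disjoint p.primeCompl _ ‹_› hdisj
  have h1 : IsLocalization.AtPrime (Localization.AtPrime P')
      (P'.comap (algebraMap R (Localization.AtPrime p))) := inferInstance
  have hsub : (P'.comap (algebraMap R (Localization.AtPrime p))).primeCompl = P.primeCompl := by
    ext x
    simp only [Ideal.mem_primeCompl_iff]
    rw [hcomap]
  have h2 : IsLocalization P.primeCompl (Localization.AtPrime P') := by
    rw [← hsub]; exact h1
  let e : Localization.AtPrime P ≃ₐ[R] Localization.AtPrime P' :=
    IsLocalization.algEquiv P.primeCompl _ _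
  haveI : IsIntegrallyClosed (Localization.AtPrime P') :=
    isIntegrallyClosed_of_isLocalization _ P'.primeCompl P'.primeCompl_le_nonZeroDivisors
  exact ⟨e.toRingEquiv.toMulEquiv.isDomain _, IsIntegrallyClosed.of_equiv e.symm.toRingEquiv⟩

end transfer

section setup

variable (A B : Type u) [CommRing A] [CommRing B] [Algebra A B]

/-- The ideal of the fibre local ring `B_Q/PB_Q` is `𝔪_{A_P} B_Q`. -/
theorem map_maximalIdeal_eq (Q : Ideal B) [Q.IsPrime] :
    letI := Localization.AtPrime.algebraOfLiesOver (Q.under A) Q
    (maximalIdeal (Localization.AtPrime (Q.under A))).map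
        (algebraMap (Localization.AtPrime (Q.under A)) (Localization.AtPrime Q)) =
      (Q.comap (algebraMap A B)).map (algebraMap A (Localization.AtPrime Q)) := by
  letI := Localization.AtPrime.algebraOfLiesOver (Q.under A) Q
  rw [← Localization.AtPrime.map_eq_maximalIdeal, Ideal.map_map,
    ← IsScalarTower.algebraMap_eq A (Localization.AtPrime (Q.under A)) (Localization.AtPrime Q)]

theorem isLocalHom_localization (Q : Ideal B) [Q.IsPrime] :
    letI := Localization.AtPrime.algebraOfLiesOver (Q.under A) Q
    IsLocalHom (algebraMap (Localization.AtPrime (Q.under A)) (Localization.AtPrime Q)) := by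
  letI := Localization.AtPrime.algebraOfLiesOver (Q.under A) Q
  rw [RingHom.algebraMap_toAlgebra]
  exact Localization.isLocalHom_localRingHom (Q.under A) Q (algebraMap A B) Ideal.LiesOver.over

theorem flat_localization [Module.Flat A B] (Q : Ideal B) [Q.IsPrime] :
    letI := Localization.AtPrime.algebraOfLiesOver (Q.under A) Q
    Module.Flat (Localization.AtPrime (Q.under A)) (Localization.AtPrime Q) := by
  letI := Localization.AtPrime.algebraOfLiesOver (Q.under A) Q
  infer_instance

end setup

section main

/-- **Normal ascent** (EGA IV 6.5.4): `A → B` flat, Noetherian, all fibre local rings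
`B_Q/(Q∩A)B_Q` normal domains; if `A_{q∩A}` is a normal domain then so is `B_q`. -/
theorem normal_ascent (A B : Type u) [CommRing A] [CommRing B] [IsNoetherianRing A]
    [IsNoetherianRing B] [Algebra A B] [Module.Flat A B]
    (hfib : ∀ (Q : Ideal B) [Q.IsPrime],
      IsDomain (Localization.AtPrime Q ⧸
        (Q.comap (algebraMap A B)).map (algebraMap A (Localization.AtPrime Q))) ∧
      IsIntegrallyClosed (Localization.AtPrime Q ⧸
        (Q.comap (algebraMap A B)).map (algebraMap A (Localization.AtPrime Q))))
    (q : Ideal B) [q.IsPrime]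
    [IsDomain (Localization.AtPrime (q.comap (algebraMap A B)))]
    [IsIntegrallyClosed (Localization.AtPrime (q.comap (algebraMap A B)))] :
    IsDomain (Localization.AtPrime q) ∧ IsIntegrallyClosed (Localization.AtPrime q) := by
  have key : ∀ (Q : Ideal B) [Q.IsPrime], Q ≤ q →
      (ringKrullDim (Localization.AtPrime Q) ≤ 1 → IsRegularLocalRing (Localization.AtPrime Q)) ∧
      min (2 : ℕ∞) (maximalIdeal (Localization.AtPrime Q)).height ≤
        depth (Localization.AtPrime Q) (Localization.AtPrime Q) := by
    intro Q _ hQq
    letI := Localization.AtPrime.algebraOfLiesOver (Q.under A) Q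
    haveI := isLocalHom_localization A B Q
    haveI := flat_localization A B Q
    obtain ⟨hd, hic⟩ := normal_localization_of_le (q.under A) (Q.under A) (Ideal.comap_mono hQq)
    obtain ⟨hFd, hFic⟩ := hfib Q
    exact normal_ascent_core _ (map_maximalIdeal_eq A B Q).symm
  have hmax : ∀ (Q : Ideal B) [Q.IsPrime],
      (maximalIdeal (Localization.AtPrime Q)).height = Q.height := by
    intro Q _
    apply WithBot.coe_injective
    rw [maximalIdeal_height_eq_ringKrullDim, IsLocalization.AtPrime.ringKrullDim_eq_height Q]
  apply Groth.Agent.Lib.H14SerreNormal.isDomain_and_isIntegrallyClosed_of_local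
  · apply hasRk_localization_of_le
    intro Q _ hQq hht
    apply (key Q hQq).1
    rw [IsLocalization.AtPrime.ringKrullDim_eq_height Q]
    exact_mod_cast hht
  · apply hasSk_self_localization_of_le
    intro Q _ hQq
    have := (key Q hQq).2
    rw [hmax Q] at this
    exact_mod_cast this

end main

end Groth.Agent.Lib.H14FlatAscent
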