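/-
helper14: openness of the normal locus from openness of the regular locus (EGA IV 6.13.4, for S2626).

* `normal_atPrime_of_forall_associatedPrimes` : `f` regular on Noetherian `R`, `R` normal on `D(f)`;
  then `R_p` is normal as soon as `R_q` is normal for the `q ∈ Ass(R/fR)` with `q ⊆ p`.
* `isOpen_norLocus_of_regular` : for such `(R, f)` the normal locus is open (complement of finitely
  many `V(q)`).
* `normal_away_iff`, `exists_minimal_regular`, `exists_mul_annihilator_eq_zero`,
  `isSMulRegular_away` : the reduction to that case near a normal point.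
* `isOpen_norLocus` : `A` Noetherian with `Reg(A)` open ⇒ `Nor(A)` open.
-/
import Mathlib
import Groth.Prelude.Def_EGA4b
import Groth.Agent.Lib.H14FlatAscent

set_option autoImplicit false
set_option linter.style.haveILetI false
universe u

namespace Groth.Agent.Lib.H14NorOpen


open IsLocalRing LocCoh

variable {R : Type u} [CommRing R]

/-- A normal local ring `R_Q` satisfies the pointwise R₁ and S₂ conditions at `Q`. -/
theorem props_of_normal [IsNoetherianRing R] (Q : Ideal R) [Q.IsPrime]
    (h : IsDomain (Localization.AtPrime Q) ∧ IsIntegrallyClosed (Localization.AtPrime Q)) :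
    (Q.height ≤ 1 → IsRegularLocalRing (Localization.AtPrime Q)) ∧
      min (2 : ℕ∞) Q.height ≤ depth (Localization.AtPrime Q) (Localization.AtPrime Q) := by
  haveI := h.1
  haveI := h.2
  have hmax : (maximalIdeal (Localization.AtPrime Q)).height = Q.height := by
    apply WithBot.coe_injective
    rw [maximalIdeal_height_eq_ringKrullDim, IsLocalization.AtPrime.ringKrullDim_eq_height Q]
  constructor
  · intro hQ
    apply Groth.Agent.Lib.H14SerreNormal.isRegularLocalRing_of_normal
    rw [IsLocalization.AtPrime.ringKrullDim_eq_height Q]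
    exact_mod_cast hQ
  · have := Groth.Agent.Lib.H14SerreNormal.min_two_height_le_depth_of_normal
      (Localization.AtPrime Q)
    rwa [hmax] at this

/-- Key criterion: if `f` is `R`-regular and `R` is normal away from `V(f)`, then `R_p` is normal
as soon as `R_q` is normal for the associated primes `q ⊆ p` of `R/fR`. -/
theorem normal_atPrime_of_forall_associatedPrimes [IsNoetherianRing R] (f : R)
    (hf : IsSMulRegular R f)
    (hnor : ∀ (Q : Ideal R) [Q.IsPrime], f ∉ Q →
      IsDomain (Localization.AtPrime Q) ∧ IsIntegrallyClosed (Localization.AtPrime Q))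
    (p : Ideal R) [p.IsPrime]
    (hass : ∀ (q : Ideal R) [q.IsPrime],
      q ∈ associatedPrimes R (R ⧸ (show Submodule R R from Ideal.span {f})) → q ≤ p →
      IsDomain (Localization.AtPrime q) ∧ IsIntegrallyClosed (Localization.AtPrime q)) :
    IsDomain (Localization.AtPrime p) ∧ IsIntegrallyClosed (Localization.AtPrime p) := by
  have key : ∀ (Q : Ideal R) [Q.IsPrime], Q ≤ p →
      (Q.height ≤ 1 → IsRegularLocalRing (Localization.AtPrime Q)) ∧
      min (2 : ℕ∞) Q.height ≤ depth (Localization.AtPrime Q) (Localization.AtPrime Q) := by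
    intro Q _ hQp
    by_cases hfQ : f ∈ Q
    · by_cases hQass : Q ∈ associatedPrimes R (R ⧸ (show Submodule R R from Ideal.span {f}))
      · exact props_of_normal Q (hass Q hQass hQp)
      · have h2 := (Groth.Agent.Lib.H8CM.depth_localization_of_mem_associatedPrimes Q hfQ hf).2 hQass
        have hle : ((depth (Localization.AtPrime Q) (Localization.AtPrime Q) : ℕ∞) : WithBot ℕ∞) ≤
            Q.height := by
          have := Groth.Agent.Lib.DepthRees.depth_le_supportDim (R := Localization.AtPrime Q)
            (Localization.AtPrime Q)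
          rwa [Module.supportDim_self_eq_ringKrullDim,
            IsLocalization.AtPrime.ringKrullDim_eq_height Q] at this
        have hle' : depth (Localization.AtPrime Q) (Localization.AtPrime Q) ≤ Q.height := by
          exact_mod_cast hle
        constructor
        · intro hQ1
          exfalso
          have : (2 : ℕ∞) ≤ 1 := (h2.trans hle').trans hQ1
          exact absurd this (by norm_num)
        · exact (min_le_left _ _).trans h2
    · exact props_of_normal Q (hnor Q hfQ)
  apply Groth.Agent.Lib.H14SerreNormal.isDomain_and_isIntegrallyClosed_of_local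
  · apply Groth.Agent.Lib.H14FlatAscent.hasRk_localization_of_le
    intro Q _ hQp hht
    exact (key Q hQp).1 (by exact_mod_cast hht)
  · apply Groth.Agent.Lib.H14FlatAscent.hasSk_self_localization_of_le
    intro Q _ hQp
    exact_mod_cast (key Q hQp).2

/-- `R_q` is a normal domain (bundled with primality, to avoid instance arguments). -/
def Nrm (q : Ideal R) : Prop :=
  ∃ _ : q.IsPrime, IsDomain (Localization.AtPrime q) ∧ IsIntegrallyClosed (Localization.AtPrime q)

theorem isOpen_norLocus_of_regular [IsNoetherianRing R] (f : R) (hf : IsSMulRegular R f)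
    (hnor : ∀ (Q : Ideal R) [Q.IsPrime], f ∉ Q →
      IsDomain (Localization.AtPrime Q) ∧ IsIntegrallyClosed (Localization.AtPrime Q)) :
    IsOpen (EGA4.norLocus R) := by
  classical
  set Ass := associatedPrimes R (R ⧸ (show Submodule R R from Ideal.span {f})) with hAss
  have hfin : Ass.Finite := associatedPrimes.finite R _
  set Bad : Set (Ideal R) := {q | q ∈ Ass ∧ ¬ Nrm q} with hBad
  have hBfin : Bad.Finite := hfin.subset (fun q hq => hq.1)
  have hcl : IsClosed (⋃ q ∈ Bad, PrimeSpectrum.zeroLocus (q : Set R)) :=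
    hBfin.isClosed_biUnion (fun q _ => PrimeSpectrum.isClosed_zeroLocus _)
  have heq : EGA4.norLocus R = (⋃ q ∈ Bad, PrimeSpectrum.zeroLocus (q : Set R))ᶜ := by
    ext p
    simp only [Set.mem_compl_iff, Set.mem_iUnion, PrimeSpectrum.mem_zeroLocus, SetLike.coe_subset_coe,
      exists_prop, not_exists, not_and]
    constructor
    · intro hp q hq hqp
      apply hq.2
      haveI : q.IsPrime := IsAssociatedPrime.isPrime hq.1
      haveI := hp.1
      haveI := hp.2
      exact ⟨inferInstance, Groth.Agent.Lib.H14FlatAscent.normal_localization_of_le p.asIdeal q hqp⟩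
    · intro hp
      apply normal_atPrime_of_forall_associatedPrimes f hf hnor p.asIdeal
      intro q _ hq hqp
      by_contra hcon
      exact hp q ⟨hq, fun ⟨_, h⟩ => hcon h⟩ hqp
  rw [heq]
  exact hcl.isOpen_compl

variable {A : Type u} [CommRing A]

/-- A regular local ring is a normal domain. -/
theorem normal_of_isRegularLocalRing (B : Type u) [CommRing B] [IsRegularLocalRing B] :
    IsDomain B ∧ IsIntegrallyClosed B := by
  haveI := Groth.Agent.Lib.RegularLocal.isDomain B
  exact ⟨inferInstance, Groth.Agent.Lib.RegularNormal.isIntegrallyClosed B⟩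

/-- Normality of the local rings of `A_s` is that of the local rings of `A`. -/
theorem normal_away_iff (s : A) (Q' : Ideal (Localization.Away s)) [Q'.IsPrime] :
    (IsDomain (Localization.AtPrime Q') ∧ IsIntegrallyClosed (Localization.AtPrime Q')) ↔
    (IsDomain (Localization.AtPrime (Q'.comap (algebraMap A (Localization.Away s)))) ∧
      IsIntegrallyClosed (Localization.AtPrime (Q'.comap (algebraMap A (Localization.Away s))))) := by
  have e := IsLocalization.localizationLocalizationAtPrimeIsoLocalization (Submonoid.powers s) Q'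
  constructor
  · rintro ⟨h1, h2⟩
    exact ⟨e.toRingEquiv.toMulEquiv.isDomain _, IsIntegrallyClosed.of_equiv e.symm.toRingEquiv⟩
  · rintro ⟨h1, h2⟩
    exact ⟨e.symm.toRingEquiv.toMulEquiv.isDomain _, IsIntegrallyClosed.of_equiv e.toRingEquiv⟩

/-- The minimal prime below a prime `p` with `A_p` a domain. -/
theorem exists_minimal_regular [IsNoetherianRing A] (p : Ideal A) [p.IsPrime]
    [IsDomain (Localization.AtPrime p)] [IsIntegrallyClosed (Localization.AtPrime p)] :
    ∃ (q₀ : Ideal A) (_ : q₀.IsPrime), q₀ ≤ p ∧ IsRegularLocalRing (Localization.AtPrime q₀) ∧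
      ∀ g : A, g ∉ q₀ → algebraMap A (Localization.AtPrime p) g ≠ 0 := by
  set q₀ : Ideal A := (⊥ : Ideal (Localization.AtPrime p)).comap (algebraMap A _) with hq₀
  haveI : q₀.IsPrime := Ideal.comap_isPrime _ _
  have hle : q₀ ≤ p := Groth.Agent.Lib.H14FlatAscent.comap_le_of_isPrime_localization p ⊥
  have hht : q₀.height = 0 := by
    rw [hq₀, IsLocalization.height_under p.primeCompl (⊥ : Ideal (Localization.AtPrime p))]
    exact Ideal.height_bot
  obtain ⟨h1, h2⟩ := Groth.Agent.Lib.H14FlatAscent.normal_localization_of_le p q₀ hle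
  refine ⟨q₀, inferInstance, hle, ?_, ?_⟩
  · apply Groth.Agent.Lib.H14SerreNormal.isRegularLocalRing_of_normal
    rw [IsLocalization.AtPrime.ringKrullDim_eq_height q₀, hht]
    exact zero_le_one
  · intro g hg h0
    exact hg (by rw [hq₀, Ideal.mem_comap, h0]; exact Ideal.zero_mem _)

/-- If `g/1` is a nonzero element of the domain `A_p`, some `s ∉ p` kills the annihilator of `g`. -/
theorem exists_mul_annihilator_eq_zero [IsNoetherianRing A] (p : Ideal A) [p.IsPrime]
    [IsDomain (Localization.AtPrime p)] (g : A)
    (hg : algebraMap A (Localization.AtPrime p) g ≠ 0) :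
    ∃ s : A, s ∉ p ∧ ∀ a : A, g * a = 0 → s * a = 0 := by
  classical
  set I : Ideal A := LinearMap.ker (LinearMap.mulLeft A g) with hI
  have hmem : ∀ a, a ∈ I ↔ g * a = 0 := fun a => by simp [hI]
  obtain ⟨G, hG⟩ := (isNoetherianRing_iff_ideal_fg A).mp inferInstance I
  have h1 : ∀ a : G, ∃ t : p.primeCompl, (t : A) * a = 0 := by
    intro a
    have ha : (a : A) ∈ I := hG ▸ Ideal.subset_span a.2
    have h0 : algebraMap A (Localization.AtPrime p) g * algebraMap A (Localization.AtPrime p) a = 0 := by
      rw [← map_mul, (hmem _).mp ha, map_zero]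
    have h0' : algebraMap A (Localization.AtPrime p) a = 0 :=
      (mul_eq_zero.mp h0).resolve_left hg
    exact (IsLocalization.map_eq_zero_iff p.primeCompl (Localization.AtPrime p) (a : A)).mp h0'
  choose t ht using h1
  refine ⟨((∏ a : G, t a : p.primeCompl) : A), (∏ a : G, t a : p.primeCompl).2, ?_⟩
  intro n hn
  have hn' : n ∈ I := (hmem n).mpr hn
  rw [← hG] at hn'
  refine Submodule.span_induction (p := fun n _ => ((∏ a : G, t a : p.primeCompl) : A) * n = 0)
    ?_ ?_ ?_ ?_ hn'
  · intro a ha
    have hdvd : ((t ⟨a, ha⟩ : p.primeCompl) : A) ∣ ((∏ a : G, t a : p.primeCompl) : A) := by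
      rw [Submonoid.coe_finsetProd]
      exact Finset.dvd_prod_of_mem (fun a => ((t a : p.primeCompl) : A)) (Finset.mem_univ _)
    obtain ⟨c, hc⟩ := hdvd
    rw [hc, mul_comm _ c, mul_assoc, ht ⟨a, ha⟩, mul_zero]
  · simp
  · intro a b _ _ ha hb
    rw [mul_add, ha, hb, add_zero]
  · intro a b _ hb
    rw [smul_eq_mul, mul_left_comm, hb, mul_zero]

/-- If `s` kills the annihilator of `g`, then `g/1` is regular in `A_s`. -/
theorem isSMulRegular_away (s g : A) (hs : ∀ a : A, g * a = 0 → s * a = 0) :
    IsSMulRegular (Localization.Away s) (algebraMap A (Localization.Away s) g) := by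
  rw [isSMulRegular_iff_right_eq_zero_of_smul]
  intro z hz
  obtain ⟨a, m, rfl⟩ := IsLocalization.exists_mk'_eq (Submonoid.powers s) z
  rw [smul_eq_mul, IsLocalization.mul_mk'_eq_mk'_of_mul, IsLocalization.mk'_eq_zero_iff] at hz
  obtain ⟨⟨_, j, rfl⟩, hj⟩ := hz
  rw [IsLocalization.mk'_eq_zero_iff]
  refine ⟨⟨s ^ (j + 1), j + 1, rfl⟩, ?_⟩
  have h1 : g * (s ^ j * a) = 0 := by
    have : g * (s ^ j * a) = s ^ j * (g * a) := by ring
    rw [this]; exact hj
  have h2 := hs _ h1
  show s ^ (j + 1) * a = 0
  rw [pow_succ', mul_assoc]; exact h2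

/-- EGA IV 6.13.4-type statement: over a Noetherian ring with open regular locus, the normal locus
is open. -/
theorem isOpen_norLocus [IsNoetherianRing A] (h : IsOpen (EGA4.regLocus A)) :
    IsOpen (EGA4.norLocus A) := by
  rw [isOpen_iff_forall_mem_open]
  intro p hp
  haveI := hp.1
  haveI := hp.2
  obtain ⟨q₀, hq₀prime, hq₀p, hq₀reg, hq₀g⟩ := exists_minimal_regular p.asIdeal
  have hq₀mem : (⟨q₀, hq₀prime⟩ : PrimeSpectrum A) ∈ EGA4.regLocus A := hq₀reg
  obtain ⟨U, ⟨g, rfl⟩, hqU, hUsub⟩ :=
    PrimeSpectrum.isTopologicalBasis_basic_opens.exists_subset_of_mem_open hq₀mem h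
  have hgq₀ : g ∉ q₀ := hqU
  have hgne := hq₀g g hgq₀
  obtain ⟨s, hsp, hs⟩ := exists_mul_annihilator_eq_zero p.asIdeal g hgne
  have hreg : IsSMulRegular (Localization.Away s) (algebraMap A (Localization.Away s) g) :=
    isSMulRegular_away s g hs
  have hnorR : ∀ (Q : Ideal (Localization.Away s)) [Q.IsPrime],
      algebraMap A (Localization.Away s) g ∉ Q →
      IsDomain (Localization.AtPrime Q) ∧ IsIntegrallyClosed (Localization.AtPrime Q) := by
    intro Q _ hQ
    rw [normal_away_iff]
    have hmem : (⟨Q.comap (algebraMap A (Localization.Away s)), inferInstance⟩ : PrimeSpectrum A) ∈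
        EGA4.regLocus A := hUsub (by
      show g ∉ Q.comap _
      exact hQ)
    haveI : IsRegularLocalRing
      (Localization.AtPrime (Q.comap (algebraMap A (Localization.Away s)))) := hmem
    exact normal_of_isRegularLocalRing _
  have hopenR : IsOpen (EGA4.norLocus (Localization.Away s)) :=
    isOpen_norLocus_of_regular _ hreg hnorR
  have hemb := PrimeSpectrum.localization_away_isOpenEmbedding (Localization.Away s) s
  refine ⟨PrimeSpectrum.comap (algebraMap A (Localization.Away s)) ''
    EGA4.norLocus (Localization.Away s), ?_, hemb.isOpenMap _ hopenR, ?_⟩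
  · rintro _ ⟨Q, hQ, rfl⟩
    exact (normal_away_iff s Q.asIdeal).mp hQ
  · have hpr : p ∈ Set.range (PrimeSpectrum.comap (algebraMap A (Localization.Away s))) := by
      rw [PrimeSpectrum.localization_away_comap_range (Localization.Away s) s]
      exact hsp
    obtain ⟨Q, rfl⟩ := hpr
    exact ⟨Q, (normal_away_iff s Q.asIdeal).mpr hp, rfl⟩

end Groth.Agent.Lib.H14NorOpen
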