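/-
helper14: generic framework for "geometric P" over fields (P = regular / Noetherian normal), for the
cluster S2672-S2675 (EGA IV 6.7.7, 6.7.8).

* `Good P` : P implies Noetherian, iso-invariant, ascends along flat maps with regular fibre local
  rings, descends along faithfully flat maps.  `good_regular`, `good_normal`.
* `RegFib K K'` : all `κ ⊗_K K'` (κ a field) are regular rings.
* `Good.baseChange_field` : `P A → P (A ⊗_K K')` when `RegFib K K'` (and the target is Noetherian).
-/
import Mathlib
import Groth.Prelude.Def_EGA4b
import Groth.Agent.Lib.H14NormalHom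
import Groth.Agent.Lib.H14NorOpen
import Groth.Agent.Lib.H87Serre2
import Groth.Agent.Lib.NoethDescent

set_option autoImplicit false
set_option linter.style.haveILetI false
universe u

namespace Groth.Agent.Lib.H14GeomP

open IsLocalRing TensorProduct

/-- A property of rings which implies Noetherianity, is invariant under isomorphism, ascends
along flat maps with regular fibre local rings and descends along faithfully flat maps. -/
structure Good (P : ∀ (R : Type u) [CommRing R], Prop) : Prop where
  of_equiv : ∀ {R R' : Type u} [CommRing R] [CommRing R'], (R ≃+* R') → P R → P R'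
  noeth : ∀ {R : Type u} [CommRing R], P R → IsNoetherianRing R
  ascent : ∀ {A B : Type u} [CommRing A] [CommRing B] [Algebra A B] [Module.Flat A B]
    [IsNoetherianRing B], P A →
    (∀ (Q : Ideal B) [Q.IsPrime], IsRegularLocalRing (EGA4.FibLocRing A B Q)) → P B
  descent : ∀ {A B : Type u} [CommRing A] [CommRing B] [Algebra A B] [Module.FaithfullyFlat A B],
    P B → P A

/-- Regularity is a good property. -/
theorem good_regular : Good (fun (R : Type u) [CommRing R] => IsRegularRing R) where
  of_equiv e h := by
    haveI := h
    exact IsRegularRing.of_ringEquiv e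
  noeth h := by
    haveI := h
    infer_instance
  ascent := by
    intro A B _ _ _ _ _ hA hfib
    haveI := hA
    rw [isRegularRing_iff]
    intro Q hQ
    letI := Localization.AtPrime.algebraOfLiesOver (Q.under A) Q
    haveI := Groth.Agent.Lib.H14FlatAscent.isLocalHom_localization A B Q
    haveI := Groth.Agent.Lib.H14FlatAscent.flat_localization A B Q
    have hA' : IsRegularLocalRing (Localization.AtPrime (Q.under A)) :=
      (isRegularRing_iff.mp hA) (Q.under A)
    exact Groth.Agent.Lib.H14FlatAscent.isRegularLocalRing_of_flat_of_fibre
      (A := Localization.AtPrime (Q.under A)) (B := Localization.AtPrime Q) _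
      (Groth.Agent.Lib.H14FlatAscent.map_maximalIdeal_eq A B Q).symm hA' (hfib Q)
  descent := by
    intro A B _ _ _ _ hB
    haveI := hB
    exact Groth.Agent.Lib.H87Serre2.isRegularRing_of_faithfullyFlat A B

/-- (Noetherian +) normality is a good property. -/
theorem good_normal :
    Good (fun (R : Type u) [CommRing R] => IsNoetherianRing R ∧ EGA4.IsNormalRing R) where
  of_equiv e h := by
    haveI := h.1
    exact ⟨isNoetherianRing_of_ringEquiv _ e,
      Groth.Agent.Lib.FibreBaseChangeApps.isNormalRing_of_ringEquiv e h.2⟩
  noeth h := h.1
  ascent := by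
    intro A B _ _ _ _ _ hA hfib
    haveI := hA.1
    refine ⟨inferInstance, ?_⟩
    intro q hq
    obtain ⟨h1, h2⟩ := hA.2 (q.comap (algebraMap A B))
    exact Groth.Agent.Lib.H14FlatAscent.normal_ascent A B
      (fun Q _ => by
        haveI := hfib Q
        exact Groth.Agent.Lib.H14NorOpen.normal_of_isRegularLocalRing _) q
  descent := by
    intro A B _ _ _ _ hB
    haveI := hB.1
    have hN : IsNoetherianRing A :=
      Groth.Agent.Lib.NoethDescent.isNoetherianRing_of_faithfullyFlat (algebraMap A B)
        ((RingHom.faithfullyFlat_algebraMap_iff).mpr inferInstance)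
    refine ⟨hN, ?_⟩
    intro p hp
    obtain ⟨Q, hQ, hQp⟩ := Ideal.exists_isPrime_liesOver_of_faithfullyFlat (B := B) p
    have := Groth.Agent.Lib.H14NormalHom.normal_descent_atPrime A B Q (hB.2 Q)
    have key : ∀ (p' : Ideal A) [p'.IsPrime], p' = p →
        (IsDomain (Localization.AtPrime p') ∧ IsIntegrallyClosed (Localization.AtPrime p')) →
        (IsDomain (Localization.AtPrime p) ∧ IsIntegrallyClosed (Localization.AtPrime p)) := by
      intro p' _ hp' h
      subst hp'
      exact h
    exact key _ hQp.over.symm this

/-- A field extension `K'/K` all of whose base changes to fields are regular rings. -/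
def RegFib (K K' : Type u) [Field K] [Field K'] [Algebra K K'] : Prop :=
  ∀ (κ : Type u) [Field κ] [Algebra K κ], IsRegularRing (κ ⊗[K] K')

/-- Ascent of a good property along `A → A ⊗_K K'` for a field extension with regular fibres. -/
theorem Good.baseChange_field {P : ∀ (R : Type u) [CommRing R], Prop} (hP : Good P)
    (K K' : Type u) [Field K] [Field K'] [Algebra K K'] (hreg : RegFib K K')
    (A : Type u) [CommRing A] [Algebra K A] (hA : P A) [IsNoetherianRing (A ⊗[K] K')] :
    P (A ⊗[K] K') := by
  refine hP.ascent (A := A) (B := A ⊗[K] K') hA ?_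
  intro Q _
  obtain ⟨q', hq', ⟨e⟩⟩ := Groth.Agent.Lib.H14NormalHom.exists_fiber_prime_equiv A (A ⊗[K] K') Q
  have e1 := Algebra.TensorProduct.cancelBaseChange K A (Q.under A).ResidueField
    (Q.under A).ResidueField K'
  haveI : IsRegularRing ((Q.under A).ResidueField ⊗[K] K') := hreg _
  haveI : IsRegularRing ((Q.under A).Fiber (A ⊗[K] K')) :=
    IsRegularRing.of_ringEquiv e1.symm.toRingEquiv
  haveI : IsRegularLocalRing (Localization.AtPrime q') := inferInstance
  exact @IsRegularLocalRing.of_ringEquiv (Localization.AtPrime q') _ _ _ _ e

end Groth.Agent.Lib.H14GeomP
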