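/-
helper14: field-level ascent/descent for the generic framework of `Lib/H14GeomP`.

* `of_algEquiv`, `descent_field`, `ascent_field` : `P (K ⊗_k S)` under change of the field `K`.
* `isRegularRing_of_isLocalization`, `regFib_of_isSeparable`, `regFib_of_ratFunc`.
-/
import Mathlib
import Groth.Agent.Lib.H14GeomP
import Groth.Agent.Lib.SmoothRegular

set_option autoImplicit false
set_option linter.style.haveILetI false
universe u

namespace Groth.Agent.Lib.H14GeomP

open IsLocalRing TensorProduct Polynomial

section field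

variable {P : ∀ (R : Type u) [CommRing R], Prop} (hP : Good P)
variable (k S : Type u) [Field k] [CommRing S] [Algebra k S]

include hP in
/-- `P (K ⊗ S)` only depends on the `k`-isomorphism class of `K`. -/
theorem of_algEquiv {K K' : Type u} [Field K] [Field K'] [Algebra k K] [Algebra k K']
    (e : K ≃ₐ[k] K') (h : P (K ⊗[k] S)) : P (K' ⊗[k] S) :=
  hP.of_equiv (Algebra.TensorProduct.congr e (AlgEquiv.refl (R := k) (A₁ := S))).toRingEquiv h

/-- The ring isomorphism `(K ⊗_k S) ⊗_K K' ≃ K' ⊗_k S`. -/
noncomputable def tensorTowerEquiv (K K' : Type u) [Field K] [Field K'] [Algebra k K]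
    [Algebra k K'] [Algebra K K'] [IsScalarTower k K K'] :
    ((K ⊗[k] S) ⊗[K] K') ≃+* (K' ⊗[k] S) :=
  (Algebra.TensorProduct.comm K (K ⊗[k] S) K').toRingEquiv.trans
    (Algebra.TensorProduct.cancelBaseChange k K K' K' S).toRingEquiv

include hP in
/-- Descent along a field extension `K ⊆ K'`. -/
theorem descent_field (K K' : Type u) [Field K] [Field K'] [Algebra k K]
    [Algebra k K'] [Algebra K K'] [IsScalarTower k K K'] (h : P (K' ⊗[k] S)) : P (K ⊗[k] S) :=
  hP.descent (A := K ⊗[k] S) (B := (K ⊗[k] S) ⊗[K] K')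
    (hP.of_equiv (tensorTowerEquiv k S K K').symm h)

include hP in
/-- Ascent along a field extension `K ⊆ K'` with regular fibres. -/
theorem ascent_field (K K' : Type u) [Field K] [Field K'] [Algebra k K]
    [Algebra k K'] [Algebra K K'] [IsScalarTower k K K'] (hreg : RegFib K K')
    [IsNoetherianRing (K' ⊗[k] S)] (h : P (K ⊗[k] S)) : P (K' ⊗[k] S) := by
  haveI : IsNoetherianRing ((K ⊗[k] S) ⊗[K] K') :=
    isNoetherianRing_of_ringEquiv _ (tensorTowerEquiv k S K K').symm
  exact hP.of_equiv (tensorTowerEquiv k S K K')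
    (hP.baseChange_field K K' hreg (K ⊗[k] S) h)

/-- `K ⊗_k S` is Noetherian for `K` essentially of finite type over `k`. -/
theorem isNoetherianRing_tensor [IsNoetherianRing S] (K : Type u) [Field K] [Algebra k K]
    [Algebra.EssFiniteType k K] : IsNoetherianRing (K ⊗[k] S) := by
  haveI : IsNoetherianRing (S ⊗[k] K) := Algebra.EssFiniteType.isNoetherianRing S (S ⊗[k] K)
  exact isNoetherianRing_of_ringEquiv _ (Algebra.TensorProduct.comm k S K).toRingEquiv

end field

section regfib

/-- A localization of a regular ring is regular. -/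
theorem isRegularRing_localization {R : Type u} [CommRing R] (M : Submonoid R)
    [IsRegularRing R] : IsRegularRing (Localization M) := by
  haveI : IsNoetherianRing (Localization M) :=
    IsLocalization.isNoetherianRing M (Localization M) inferInstance
  rw [isRegularRing_iff]
  intro q hq
  have e := IsLocalization.localizationLocalizationAtPrimeIsoLocalization M q
  exact @IsRegularLocalRing.of_ringEquiv
    (Localization.AtPrime (q.comap (algebraMap R (Localization M)))) _ _ _ _ e.toRingEquiv

/-- A localization of a regular ring is regular. -/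
theorem isRegularRing_of_isLocalization {R : Type u} [CommRing R] (M : Submonoid R) (R' : Type u)
    [CommRing R'] [Algebra R R'] [IsLocalization M R'] [IsRegularRing R] : IsRegularRing R' := by
  haveI := isRegularRing_localization M
  exact IsRegularRing.of_ringEquiv (IsLocalization.algEquiv M (Localization M) R').toRingEquiv

/-- Finite separable field extensions have regular fibres. -/
theorem regFib_of_isSeparable (K K' : Type u) [Field K] [Field K'] [Algebra K K']
    [Module.Finite K K'] [Algebra.IsSeparable K K'] : RegFib K K' := by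
  intro κ _ _
  haveI : Algebra.FormallyEtale K K' := Algebra.FormallyEtale.of_isSeparable K K'
  haveI : Algebra.FiniteType K K' := inferInstance
  haveI : Algebra.FinitePresentation K K' :=
    Algebra.FinitePresentation.of_finiteType.mp inferInstance
  haveI : Algebra.Etale K K' := {}
  haveI : Algebra.Etale κ (κ ⊗[K] K') := inferInstance
  haveI : Algebra.Smooth κ (κ ⊗[K] K') := inferInstance
  exact Groth.Agent.Lib.SmoothRegular.isRegularRing_of_smooth κ _

/-- `κ ⊗_K K(X)` is a regular ring. -/
theorem isRegularRing_tensor_ratFunc (K κ : Type u) [Field K] [Field κ] [Algebra K κ] :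
    IsRegularRing (κ ⊗[K] RatFunc K) := by
  -- `K[X] ⊗_K κ` is regular
  haveI h1 : IsRegularRing (K[X] ⊗[K] κ) := by
    have e1 : κ[X] ≃ₐ[K] κ ⊗[K] K[X] := polyEquivTensor K κ
    have e2 : κ ⊗[K] K[X] ≃ₐ[K] K[X] ⊗[K] κ := Algebra.TensorProduct.comm K κ K[X]
    exact IsRegularRing.of_ringEquiv (e1.trans e2).toRingEquiv
  -- its base change to `K(X)` is a localization
  haveI h2 : IsRegularRing ((K[X] ⊗[K] κ) ⊗[K[X]] RatFunc K) :=
    isRegularRing_of_isLocalization
      (Algebra.algebraMapSubmonoid (K[X] ⊗[K] κ) (nonZeroDivisors K[X])) _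
  have e3 : (K[X] ⊗[K] κ) ⊗[K[X]] RatFunc K ≃ₐ[K[X]] RatFunc K ⊗[K[X]] (K[X] ⊗[K] κ) :=
    Algebra.TensorProduct.comm K[X] _ _
  have e4 : RatFunc K ⊗[K[X]] (K[X] ⊗[K] κ) ≃ₐ[RatFunc K] RatFunc K ⊗[K] κ :=
    Algebra.TensorProduct.cancelBaseChange K K[X] (RatFunc K) (RatFunc K) κ
  have e5 : RatFunc K ⊗[K] κ ≃ₐ[K] κ ⊗[K] RatFunc K := Algebra.TensorProduct.comm K _ _
  let e : ((K[X] ⊗[K] κ) ⊗[K[X]] RatFunc K) ≃+* (κ ⊗[K] RatFunc K) :=
    e3.toRingEquiv.trans (e4.toRingEquiv.trans e5.toRingEquiv)
  exact @IsRegularRing.of_ringEquiv ((K[X] ⊗[K] κ) ⊗[K[X]] RatFunc K) _ _ _ e h2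

/-- Purely transcendental simple extensions have regular fibres. -/
theorem regFib_of_ratFunc (K F : Type u) [Field K] [Field F] [Algebra K F]
    (e : RatFunc K ≃ₐ[K] F) : RegFib K F := by
  intro κ _ _
  haveI := isRegularRing_tensor_ratFunc K κ
  exact IsRegularRing.of_ringEquiv
    (Algebra.TensorProduct.congr (AlgEquiv.refl (R := K) (A₁ := κ)) e).toRingEquiv

end regfib

end Groth.Agent.Lib.H14GeomP
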