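/-
helper14: field theory for `Lib/H14GeomP3` (Mathlib only).

* `isPurelyInseparable_fixedField_top`, `exists_pi_sep_tower` : a finite extension `K'/K` embeds in
  `N ⊇ K₁ ⊇ K` with `K₁/K` finite purely inseparable and `N/K₁` finite separable.
* `exists_finite_pi_roots`, `psi0`, `psi`, `exists_lift_of_pow`, `exists_ratFunc_tower` : a finite
  purely inseparable extension of `K(X)` embeds in `K₁(X^{1/q^n})` with `K₁/K` finite purely
  inseparable.
-/
import Mathlib

set_option autoImplicit false
set_option linter.style.haveILetI false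
set_option linter.unusedSectionVars false
universe u

namespace Groth.Agent.Lib.H14GeomPField

open IntermediateField Polynomial


/-- For a finite normal extension `N/K`, the fixed field of the full automorphism group is
purely inseparable over `K`. -/
theorem isPurelyInseparable_fixedField_top (K N : Type u) [Field K] [Field N] [Algebra K N]
    [FiniteDimensional K N] [Normal K N] :
    IsPurelyInseparable K (fixedField (⊤ : Subgroup (N ≃ₐ[K] N))) := by
  classical
  rw [isPurelyInseparable_iff_natSepDegree_eq_one]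
  intro x
  have hmin : minpoly K x = minpoly K (x : N) :=
    (minpoly.algebraMap_eq (algebraMap (fixedField (⊤ : Subgroup (N ≃ₐ[K] N))) N).injective x).symm
  rw [hmin, natSepDegree_eq_of_splits (minpoly K (x : N)) (E := N) (Normal.splits inferInstance _)]
  have hx : IsIntegral K (x : N) := Algebra.IsIntegral.isIntegral _
  have hsub : ((minpoly K (x : N)).aroots N).toFinset = {(x : N)} := by
    ext y
    simp only [Multiset.mem_toFinset, Finset.mem_singleton]
    rw [mem_aroots]
    constructor
    · rintro ⟨_, hy⟩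
      obtain ⟨σ, hσ⟩ := minpoly.exists_algEquiv_of_root (K := K) (L := N) (x := y) (y := (x : N))
        hx.isAlgebraic hy
      have hfix : σ.symm (x : N) = (x : N) :=
        (IntermediateField.mem_fixedField_iff _ _).mp x.2 σ.symm (Subgroup.mem_top _)
      rw [← hσ, AlgEquiv.symm_apply_apply] at hfix
      rw [← hσ]
      exact hfix
    · rintro rfl
      exact ⟨minpoly.ne_zero hx, minpoly.aeval K _⟩
  rw [hsub, Finset.card_singleton]

/-- A finite field extension embeds in a finite separable extension of a finite purely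
inseparable extension. -/
theorem exists_pi_sep_tower (K K' : Type u) [Field K] [Field K'] [Algebra K K']
    [Module.Finite K K'] :
    ∃ (K₁ N : Type u) (_ : Field K₁) (_ : Field N) (_ : Algebra K K₁) (_ : Algebra K₁ N)
      (_ : Algebra K N) (_ : Algebra K' N) (_ : IsScalarTower K K₁ N) (_ : IsScalarTower K K' N),
      Module.Finite K K₁ ∧ IsPurelyInseparable K K₁ ∧ Module.Finite K₁ N ∧
        Algebra.IsSeparable K₁ N := by
  let N := normalClosure K K' (AlgebraicClosure K')
  let K₁ := fixedField (⊤ : Subgroup (N ≃ₐ[K] N))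
  haveI : IsGalois K₁ N := IsGalois.of_fixed_field N (⊤ : Subgroup (N ≃ₐ[K] N))
  exact ⟨K₁, N, inferInstance, inferInstance, inferInstance, inferInstance, inferInstance,
    inferInstance, inferInstance, inferInstance, inferInstance,
    isPurelyInseparable_fixedField_top K N, inferInstance, inferInstance⟩



/-- Adjoining `q^n`-th roots of finitely many elements: a finite purely inseparable extension. -/
theorem exists_finite_pi_roots (K : Type u) [Field K] (q : ℕ) [ExpChar K q] (n : ℕ)
    (C : Finset K) :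
    ∃ (K₁ : Type u) (_ : Field K₁) (_ : Algebra K K₁), Module.Finite K K₁ ∧
      IsPurelyInseparable K K₁ ∧ ∀ c ∈ C, ∃ y : K₁, y ^ q ^ n = algebraMap K K₁ c := by
  classical
  have hq : 0 < q ^ n := pow_pos (expChar_pos K q) n
  have hroot : ∀ c : K, ∃ z : AlgebraicClosure K, z ^ q ^ n = algebraMap K (AlgebraicClosure K) c :=
    fun c => IsAlgClosed.exists_pow_nat_eq _ hq
  choose r hr using hroot
  let S : Set (AlgebraicClosure K) := ↑(C.image r)
  haveI : Finite S := Finset.finite_toSet _
  have hint : ∀ x ∈ S, IsIntegral K x := fun x _ => Algebra.IsIntegral.isIntegral x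
  haveI : FiniteDimensional K (adjoin K S) := IntermediateField.finiteDimensional_adjoin hint
  have hpi : IsPurelyInseparable K (adjoin K S) := by
    rw [IntermediateField.isPurelyInseparable_adjoin_iff_pow_mem K (AlgebraicClosure K) q]
    intro x hx
    simp only [S, Finset.coe_image, Set.mem_image, Finset.mem_coe] at hx
    obtain ⟨c, _, rfl⟩ := hx
    exact ⟨n, c, (hr c).symm⟩
  refine ⟨adjoin K S, inferInstance, inferInstance, inferInstance, hpi, ?_⟩
  intro c hc
  refine ⟨⟨r c, IntermediateField.subset_adjoin K S ?_⟩, ?_⟩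
  · simp only [S, Finset.coe_image, Set.mem_image, Finset.mem_coe]
    exact ⟨c, hc, rfl⟩
  · apply Subtype.ext
    simp only [SubmonoidClass.mk_pow]
    exact hr c



section psi0

variable (K K₁ : Type u) [Field K] [Field K₁] [Algebra K K₁] (q : ℕ) [ExpChar K₁ q] (n : ℕ)

/-- The map `K[X] → K₁[X]`, `c ↦ c`, `X ↦ X^(q^n)`. -/
noncomputable def psi0 : K[X] →+* K₁[X] :=
  (expand K₁ (q ^ n) : K₁[X] →ₐ[K₁] K₁[X]).toRingHom.comp (mapRingHom (algebraMap K K₁))

theorem psi0_apply (f : K[X]) :
    psi0 K K₁ q n f = expand K₁ (q ^ n) (f.map (algebraMap K K₁)) := rfl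

theorem psi0_injective : Function.Injective (psi0 K K₁ q n) := by
  intro f g h
  rw [psi0_apply, psi0_apply] at h
  have h2 := expand_injective (pow_pos (expChar_pos K₁ q) n) h
  exact Polynomial.map_injective _ (algebraMap K K₁).injective h2

theorem psi0_C (c : K) : psi0 K K₁ q n (C c) = C (algebraMap K K₁ c) := by
  rw [psi0_apply, Polynomial.map_C, expand_C]

/-- If all coefficients of `f` have `q^n`-th roots in `K₁`, then `psi0 f` is a `q^n`-th power. -/
theorem exists_pow_eq_psi0 (f : K[X])
    (hf : ∀ j, ∃ y : K₁, y ^ q ^ n = algebraMap K K₁ (f.coeff j)) :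
    ∃ g : K₁[X], g ^ q ^ n = psi0 K K₁ q n f := by
  have hmem : f.map (algebraMap K K₁) ∈ (mapRingHom (iterateFrobenius K₁ q n)).range := by
    rw [Polynomial.mem_map_range]
    intro j
    obtain ⟨y, hy⟩ := hf j
    exact ⟨y, by rw [iterateFrobenius_def, hy, coeff_map]⟩
  obtain ⟨g, hg⟩ := hmem
  refine ⟨g, ?_⟩
  rw [psi0_apply, ← hg, coe_mapRingHom, ← map_expand, map_iterateFrobenius_expand]

theorem psiAux_injective : Function.Injective
    ((algebraMap K₁[X] (RatFunc K₁)).comp (psi0 K K₁ q n)) :=
  (IsFractionRing.injective K₁[X] (RatFunc K₁)).comp (psi0_injective K K₁ q n)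

/-- The map `K(X) → K₁(X)`, `c ↦ c`, `X ↦ X^(q^n)`. -/
noncomputable def psi : RatFunc K →+* RatFunc K₁ :=
  IsFractionRing.lift (A := K[X]) (K := RatFunc K) (psiAux_injective K K₁ q n)

theorem psi_algebraMap (f : K[X]) :
    psi K K₁ q n (algebraMap K[X] (RatFunc K) f) =
      algebraMap K₁[X] (RatFunc K₁) (psi0 K K₁ q n f) := by
  rw [psi, IsFractionRing.lift_algebraMap]
  rfl

theorem psi_C (c : K) :
    psi K K₁ q n (algebraMap K (RatFunc K) c) =
      algebraMap K₁ (RatFunc K₁) (algebraMap K K₁ c) := by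
  rw [IsScalarTower.algebraMap_apply K K[X] (RatFunc K), Polynomial.algebraMap_apply,
    Algebra.algebraMap_self, RingHom.id_apply, psi_algebraMap, psi0_C,
    IsScalarTower.algebraMap_apply K₁ K₁[X] (RatFunc K₁), Polynomial.algebraMap_apply,
    Algebra.algebraMap_self, RingHom.id_apply]

/-- If the coefficients of numerator and denominator have `q^n`-th roots in `K₁`, then the image
under `psi` is a `q^n`-th power. -/
theorem exists_pow_eq_psi (x y : K[X])
    (hx : ∀ j, ∃ z : K₁, z ^ q ^ n = algebraMap K K₁ (x.coeff j))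
    (hy : ∀ j, ∃ z : K₁, z ^ q ^ n = algebraMap K K₁ (y.coeff j)) :
    ∃ e : RatFunc K₁, e ^ q ^ n =
      psi K K₁ q n (algebraMap K[X] (RatFunc K) x / algebraMap K[X] (RatFunc K) y) := by
  obtain ⟨gx, hgx⟩ := exists_pow_eq_psi0 K K₁ q n x hx
  obtain ⟨gy, hgy⟩ := exists_pow_eq_psi0 K K₁ q n y hy
  refine ⟨algebraMap K₁[X] (RatFunc K₁) gx / algebraMap K₁[X] (RatFunc K₁) gy, ?_⟩
  rw [map_div₀, psi_algebraMap, psi_algebraMap, ← hgx, ← hgy, div_pow, map_pow, map_pow]

end psi0


/-- Extending a field homomorphism `ψ : F → E` to a finite extension `F'` of `F` generated by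
`q^n`-th roots of elements whose images have `q^n`-th roots in `E`. -/
theorem exists_lift_of_pow (F E F' : Type u) [Field F] [Field E] [Field F'] [Algebra F F']
    [Algebra.IsAlgebraic F F'] (q : ℕ) [ExpChar E q] (n : ℕ) (ψ : F →+* E)
    (m : ℕ) (b : Fin m → F') (hb : Submodule.span F (Set.range b) = ⊤)
    (a : Fin m → F) (hab : ∀ i, b i ^ q ^ n = algebraMap F F' (a i))
    (e : Fin m → E) (he : ∀ i, e i ^ q ^ n = ψ (a i)) :
    ∃ φ : F' →+* E, ∀ x, φ (algebraMap F F' x) = ψ x := by
  let Ω := AlgebraicClosure E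
  let ι : E →+* Ω := algebraMap E Ω
  have hι : Function.Injective ι := ι.injective
  letI : Algebra F Ω := (ι.comp ψ).toAlgebra
  haveI : ExpChar Ω q := expChar_of_injective_ringHom hι q
  let σ : F' →ₐ[F] Ω := IsAlgClosed.lift
  have hσb : ∀ i, σ (b i) = ι (e i) := by
    intro i
    apply iterateFrobenius_inj Ω q n
    rw [iterateFrobenius_def, iterateFrobenius_def, ← map_pow, hab, σ.commutes, ← map_pow, he]
    rfl
  have hrange : ∀ y : F', σ y ∈ ι.range := by
    intro y
    have hy : y ∈ Submodule.span F (Set.range b) := hb ▸ Submodule.mem_top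
    refine Submodule.span_induction (p := fun y _ => σ y ∈ ι.range) ?_ ?_ ?_ ?_ hy
    · rintro _ ⟨i, rfl⟩
      exact ⟨e i, (hσb i).symm⟩
    · rw [map_zero]; exact zero_mem _
    · intro x y _ _ hx hy
      rw [map_add]; exact add_mem hx hy
    · intro c x _ hx
      rw [map_smul, Algebra.smul_def]
      exact mul_mem ⟨ψ c, rfl⟩ hx
  let τ : F' →+* ι.range := σ.toRingHom.codRestrict ι.range hrange
  let eq : E ≃+* ι.range := RingEquiv.ofBijective ι.rangeRestrict
    ⟨fun x y h => hι (congrArg Subtype.val h), ι.rangeRestrict_surjective⟩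
  refine ⟨eq.symm.toRingHom.comp τ, ?_⟩
  intro x
  apply hι
  have h1 : ι (eq.symm (τ (algebraMap F F' x))) = (τ (algebraMap F F' x) : Ω) := by
    have := eq.apply_symm_apply (τ (algebraMap F F' x))
    exact congrArg Subtype.val this
  show ι (eq.symm (τ (algebraMap F F' x))) = ι (ψ x)
  rw [h1]
  show σ (algebraMap F F' x) = ι (ψ x)
  rw [σ.commutes]
  rfl


/-- A finite purely inseparable extension of `K(X)` embeds in `K₁(X)` for a finite purely
inseparable extension `K₁/K`, compatibly with the constants. -/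
theorem exists_ratFunc_tower (K F' : Type u) [Field K] [Field F'] [Algebra (RatFunc K) F']
    [Module.Finite (RatFunc K) F'] [IsPurelyInseparable (RatFunc K) F'] :
    ∃ (K₁ : Type u) (_ : Field K₁) (_ : Algebra K K₁) (φ : F' →+* RatFunc K₁),
      Module.Finite K K₁ ∧ IsPurelyInseparable K K₁ ∧
      ∀ c : K, φ (algebraMap (RatFunc K) F' (algebraMap K (RatFunc K) c)) =
        algebraMap K₁ (RatFunc K₁) (algebraMap K K₁ c) := by
  classical
  haveI : ExpChar K (ringExpChar K) := ringExpChar.expChar K
  set q := ringExpChar K with hq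
  haveI : ExpChar (RatFunc K) q :=
    expChar_of_injective_ringHom (algebraMap K (RatFunc K)).injective q
  obtain ⟨m, b, hb⟩ := Module.Finite.exists_fin (R := RatFunc K) (M := F')
  have h1 : ∀ i, ∃ k : ℕ, b i ^ q ^ k ∈ (algebraMap (RatFunc K) F').range :=
    fun i => IsPurelyInseparable.pow_mem (RatFunc K) q (b i)
  choose ni hni using h1
  set n := Finset.univ.sup ni with hn
  have h2 : ∀ i, ∃ a : RatFunc K, b i ^ q ^ n = algebraMap (RatFunc K) F' a := by
    intro i
    obtain ⟨a, ha⟩ := hni i
    have hle : ni i ≤ n := Finset.le_sup (Finset.mem_univ i)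
    refine ⟨a ^ q ^ (n - ni i), ?_⟩
    rw [map_pow, ha, ← pow_mul, ← pow_add, Nat.add_sub_cancel' hle]
  choose a hab using h2
  have h3 : ∀ i, ∃ x y : K[X], y ∈ nonZeroDivisors K[X] ∧
      algebraMap K[X] (RatFunc K) x / algebraMap K[X] (RatFunc K) y = a i :=
    fun i => IsFractionRing.div_surjective (A := K[X]) (a i)
  choose x y _ hxy using h3
  let C : Finset K := Finset.univ.biUnion (fun i => (x i).coeffs ∪ (y i).coeffs)
  obtain ⟨K₁, _, _, hfin, hpi, hroots⟩ := exists_finite_pi_roots K q n C
  haveI : ExpChar K₁ q := expChar_of_injective_ringHom (algebraMap K K₁).injective q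
  haveI : ExpChar (RatFunc K₁) q :=
    expChar_of_injective_ringHom (algebraMap K₁ (RatFunc K₁)).injective q
  have hq0 : q ^ n ≠ 0 := (pow_pos (expChar_pos K q) n).ne'
  have hcoeff : ∀ (f : K[X]), f.coeffs ⊆ C → ∀ j, ∃ z : K₁, z ^ q ^ n =
      algebraMap K K₁ (f.coeff j) := by
    intro f hf j
    by_cases h0 : f.coeff j = 0
    · exact ⟨0, by rw [h0, map_zero, zero_pow hq0]⟩
    · exact hroots _ (hf (Polynomial.coeff_mem_coeffs h0))
  have hx : ∀ i, (x i).coeffs ⊆ C := fun i c hc =>
    Finset.mem_biUnion.mpr ⟨i, Finset.mem_univ i, Finset.mem_union_left _ hc⟩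
  have hy : ∀ i, (y i).coeffs ⊆ C := fun i c hc =>
    Finset.mem_biUnion.mpr ⟨i, Finset.mem_univ i, Finset.mem_union_right _ hc⟩
  have h4 : ∀ i, ∃ e : RatFunc K₁, e ^ q ^ n = psi K K₁ q n (a i) := by
    intro i
    rw [← hxy i]
    exact exists_pow_eq_psi K K₁ q n (x i) (y i) (hcoeff _ (hx i)) (hcoeff _ (hy i))
  choose e he using h4
  haveI : Algebra.IsAlgebraic (RatFunc K) F' := Algebra.IsAlgebraic.of_finite _ _
  obtain ⟨φ, hφ⟩ := exists_lift_of_pow (RatFunc K) (RatFunc K₁) F' q n (psi K K₁ q n) m b hb a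
    hab e he
  refine ⟨K₁, inferInstance, inferInstance, φ, hfin, hpi, ?_⟩
  intro c
  rw [hφ, psi_C]

end Groth.Agent.Lib.H14GeomPField
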