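/-
helper14: the abstract deductions for "geometrically P" (P a `Good` property, see `Lib/H14GeomP`):

* `Gfin P k S K` : `P (K' ⊗_k S)` for all finite `K'/K`;  `G0 P k S` : the same for `K = k`.
* `gfin_of_gpi` : finite purely inseparable extensions suffice (uses `exists_pi_sep_tower`).
* `gfin_of_ratFunc` : `Gfin K → Gfin K(X)` (uses `exists_ratFunc_tower`).
* `gfin_of_adjoin`, `gfin_of_essFiniteType` : induction on generators.
* `g0_iff_pi`, `g0_iff_fg`, `g0_baseChange_iff` : EGA IV 6.7.7 / 6.7.8 for any good `P`.
-/
import Mathlib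
import Groth.Agent.Lib.H14GeomP2
import Groth.Agent.Lib.H14GeomPField

set_option autoImplicit false
set_option linter.style.haveILetI false
universe u

namespace Groth.Agent.Lib.H14GeomP

open IsLocalRing TensorProduct Polynomial Groth.Agent.Lib.H14GeomPField IntermediateField

/-- `P` holds for `K' ⊗_k S` for every finite extension `K'` of `K`. -/
def Gfin (P : ∀ (R : Type u) [CommRing R], Prop) (k S : Type u) [Field k] [CommRing S]
    [Algebra k S] (K : Type u) [Field K] [Algebra k K] : Prop :=
  ∀ (K' : Type u) [Field K'] [Algebra k K'] [Algebra K K'] [IsScalarTower k K K'],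
    Module.Finite K K' → P (K' ⊗[k] S)

/-- `P` holds for `K' ⊗_k S` for every finite purely inseparable extension `K'` of `K`. -/
def Gpi (P : ∀ (R : Type u) [CommRing R], Prop) (k S : Type u) [Field k] [CommRing S]
    [Algebra k S] (K : Type u) [Field K] [Algebra k K] : Prop :=
  ∀ (K' : Type u) [Field K'] [Algebra k K'] [Algebra K K'] [IsScalarTower k K K'],
    Module.Finite K K' → IsPurelyInseparable K K' → P (K' ⊗[k] S)

section

variable {P : ∀ (R : Type u) [CommRing R], Prop} (hP : Good P)
variable (k S : Type u) [Field k] [CommRing S] [Algebra k S]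

include hP in
/-- Finite purely inseparable extensions suffice. -/
theorem gfin_of_gpi [IsNoetherianRing S] (K : Type u) [Field K] [Algebra k K]
    [Algebra.EssFiniteType k K] (h : Gpi P k S K) : Gfin P k S K := by
  intro K' _ _ _ _ hfin
  obtain ⟨K₁, N, _, _, _, _, _, _, _, _, hfin₁, hpi, hfinN, hsep⟩ := exists_pi_sep_tower K K'
  letI : Algebra k K₁ := ((algebraMap K K₁).comp (algebraMap k K)).toAlgebra
  haveI : IsScalarTower k K K₁ := IsScalarTower.of_algebraMap_eq (fun _ => rfl)
  letI : Algebra k N := ((algebraMap K N).comp (algebraMap k K)).toAlgebra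
  haveI : IsScalarTower k K N := IsScalarTower.of_algebraMap_eq (fun _ => rfl)
  haveI : IsScalarTower k K₁ N := IsScalarTower.of_algebraMap_eq (fun c => by
    show algebraMap K N (algebraMap k K c) = algebraMap K₁ N (algebraMap K K₁ (algebraMap k K c))
    rw [← IsScalarTower.algebraMap_apply K K₁ N])
  haveI : IsScalarTower k K' N := IsScalarTower.of_algebraMap_eq (fun c => by
    show algebraMap K N (algebraMap k K c) = algebraMap K' N (algebraMap k K' c)
    rw [IsScalarTower.algebraMap_apply k K K', ← IsScalarTower.algebraMap_apply K K' N])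
  have h1 : P (K₁ ⊗[k] S) := h K₁ hfin₁ hpi
  haveI : Module.Finite K N := Module.Finite.trans K₁ N
  haveI : Algebra.EssFiniteType K N := inferInstance
  haveI : Algebra.EssFiniteType k N := Algebra.EssFiniteType.comp k K N
  haveI := isNoetherianRing_tensor k S N
  have h2 : P (N ⊗[k] S) := ascent_field hP k S K₁ N (regFib_of_isSeparable K₁ N) h1
  exact descent_field hP k S K' N h2

/-- Finite step. -/
theorem gfin_of_finite (L M : Type u) [Field L] [Field M] [Algebra k L] [Algebra k M]
    [Algebra L M] [IsScalarTower k L M] [Module.Finite L M] (h : Gfin P k S L) :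
    Gfin P k S M := by
  intro K' _ _ _ _ hfin
  letI : Algebra L K' := ((algebraMap M K').comp (algebraMap L M)).toAlgebra
  haveI : IsScalarTower L M K' := IsScalarTower.of_algebraMap_eq (fun _ => rfl)
  haveI : IsScalarTower k L K' := IsScalarTower.of_algebraMap_eq (fun c => by
    show algebraMap k K' c = algebraMap M K' (algebraMap L M (algebraMap k L c))
    rw [← IsScalarTower.algebraMap_apply k L M, ← IsScalarTower.algebraMap_apply k M K'])
  haveI : Module.Finite L K' := Module.Finite.trans M K'
  exact h K' inferInstance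

/-- `K(X)` is essentially of finite type over `K`. -/
theorem essFiniteType_ratFunc (K : Type u) [Field K] : Algebra.EssFiniteType K (RatFunc K) := by
  haveI : Algebra.EssFiniteType K[X] (RatFunc K) :=
    Algebra.EssFiniteType.of_isLocalization _ (nonZeroDivisors K[X])
  exact Algebra.EssFiniteType.comp K K[X] (RatFunc K)

include hP in
/-- Purely transcendental step. -/
theorem gfin_of_ratFunc [IsNoetherianRing S] (K F : Type u) [Field K] [Field F] [Algebra k K]
    [Algebra k F] [Algebra K F] [IsScalarTower k K F] [Algebra.EssFiniteType k K]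
    (e : RatFunc K ≃ₐ[K] F) (h : Gfin P k S K) : Gfin P k S F := by
  haveI := essFiniteType_ratFunc K
  haveI : Algebra.EssFiniteType K F := Algebra.EssFiniteType.of_surjective e.toAlgHom e.surjective
  haveI : Algebra.EssFiniteType k F := Algebra.EssFiniteType.comp k K F
  apply gfin_of_gpi hP k S F
  intro F' _ _ _ _ hfin hpi
  letI : Algebra (RatFunc K) F' := ((algebraMap F F').comp (e : RatFunc K →+* F)).toAlgebra
  haveI : Module.Finite (RatFunc K) F' :=
    Module.Finite.of_equiv_equiv (A₁ := F) (B₁ := F') e.symm.toRingEquiv (RingEquiv.refl F') (by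
      ext x
      show algebraMap F F' (e (e.symm x)) = algebraMap F F' x
      rw [e.apply_symm_apply])
  haveI : IsPurelyInseparable (RatFunc K) F' := by
    haveI : ExpChar F (ringExpChar F) := ringExpChar.expChar F
    haveI : ExpChar (RatFunc K) (ringExpChar F) :=
      expChar_of_injective_ringHom (f := (e.symm : F →+* RatFunc K)) e.symm.injective
        (ringExpChar F)
    rw [isPurelyInseparable_iff_pow_mem (RatFunc K) (ringExpChar F)]
    intro x
    obtain ⟨n, y, hy⟩ := (isPurelyInseparable_iff_pow_mem F (ringExpChar F)).mp hpi x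
    refine ⟨n, e.symm y, ?_⟩
    rw [← hy]
    show algebraMap F F' (e (e.symm y)) = algebraMap F F' y
    rw [e.apply_symm_apply]
  obtain ⟨K₁, _, _, φ, hfin₁, hpi₁, hφ⟩ := exists_ratFunc_tower K F'
  letI : Algebra k K₁ := ((algebraMap K K₁).comp (algebraMap k K)).toAlgebra
  haveI : IsScalarTower k K K₁ := IsScalarTower.of_algebraMap_eq (fun _ => rfl)
  have h1 : P (K₁ ⊗[k] S) := h K₁ hfin₁
  haveI : Algebra.EssFiniteType K K₁ := inferInstance
  haveI : Algebra.EssFiniteType k K₁ := Algebra.EssFiniteType.comp k K K₁
  haveI := essFiniteType_ratFunc K₁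
  haveI : Algebra.EssFiniteType k (RatFunc K₁) := Algebra.EssFiniteType.comp k K₁ (RatFunc K₁)
  haveI := isNoetherianRing_tensor k S (RatFunc K₁)
  have h2 : P (RatFunc K₁ ⊗[k] S) :=
    ascent_field hP k S K₁ (RatFunc K₁) (regFib_of_ratFunc K₁ (RatFunc K₁) AlgEquiv.refl) h1
  letI : Algebra F' (RatFunc K₁) := φ.toAlgebra
  haveI : IsScalarTower k F' (RatFunc K₁) := IsScalarTower.of_algebraMap_eq (fun c => by
    show algebraMap k (RatFunc K₁) c = φ (algebraMap k F' c)
    have h3 : algebraMap k F' c =
        algebraMap (RatFunc K) F' (algebraMap K (RatFunc K) (algebraMap k K c)) := by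
      show algebraMap k F' c = algebraMap F F' (e (algebraMap K (RatFunc K) (algebraMap k K c)))
      rw [e.commutes, ← IsScalarTower.algebraMap_apply k K F,
        ← IsScalarTower.algebraMap_apply k F F']
    rw [h3, hφ, IsScalarTower.algebraMap_apply k K₁ (RatFunc K₁)]
    rfl)
  exact descent_field hP k S F' (RatFunc K₁) h2

include hP in
/-- Induction on the number of generators of a finitely generated field extension. -/
theorem gfin_of_adjoin [IsNoetherianRing S] : ∀ (n : ℕ) (L K : Type u) [Field L] [Field K]
    [Algebra k L] [Algebra k K] [Algebra L K] [IsScalarTower k L K] [Algebra.EssFiniteType k L]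
    (s : Fin n → K), IntermediateField.adjoin L (Set.range s) = ⊤ → Gfin P k S L →
    Gfin P k S K := by
  intro n
  induction n with
  | zero =>
    intro L K _ _ _ _ _ _ _ s hs h
    have hsurj : Function.Surjective (algebraMap L K) := by
      have : Set.range s = ∅ := Set.range_eq_empty s
      rw [this, IntermediateField.adjoin_empty] at hs
      intro y
      have hy : y ∈ (⊥ : IntermediateField L K) := hs ▸ IntermediateField.mem_top
      exact IntermediateField.mem_bot.mp hy
    haveI : Module.Finite L K := Module.Finite.of_surjective (Algebra.linearMap L K) hsurj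
    exact gfin_of_finite k S L K h
  | succ n ih =>
    intro L K _ _ _ _ _ _ _ s hs h
    set x : K := s 0 with hx
    haveI : IsScalarTower k L⟮x⟯ K := IsScalarTower.of_algebraMap_eq (fun _ => rfl)
    haveI : Algebra.EssFiniteType L L⟮x⟯ := by
      rw [IntermediateField.essFiniteType_iff]
      have := IntermediateField.fg_adjoin_finset (F := L) ({x} : Finset K)
      rwa [Finset.coe_singleton] at this
    haveI : Algebra.EssFiniteType k L⟮x⟯ := Algebra.EssFiniteType.comp k L L⟮x⟯
    have hM : Gfin P k S L⟮x⟯ := by
      by_cases hint : IsIntegral L x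
      · haveI : Module.Finite L L⟮x⟯ := IntermediateField.adjoin.finiteDimensional hint
        exact gfin_of_finite k S L L⟮x⟯ h
      · have htr : Transcendental L x := fun hal => hint hal.isIntegral
        exact gfin_of_ratFunc hP k S L L⟮x⟯ (RatFunc.algEquivOfTranscendental x htr) h
    refine ih L⟮x⟯ K (fun i => s i.succ) ?_ hM
    apply IntermediateField.restrictScalars_injective L
    rw [IntermediateField.adjoin_adjoin_left, IntermediateField.restrictScalars_top, ← hs]
    congr 1
    ext y
    simp only [Set.singleton_union, Set.mem_insert_iff, Set.mem_range]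
    constructor
    · rintro (rfl | ⟨i, rfl⟩)
      · exact ⟨0, rfl⟩
      · exact ⟨i.succ, rfl⟩
    · rintro ⟨i, rfl⟩
      refine Fin.cases ?_ (fun j => ?_) i
      · exact Or.inl rfl
      · exact Or.inr ⟨j, rfl⟩

/-- "Geometrically `P`": `P` after every finite extension of the base field. -/
def G0 (P : ∀ (R : Type u) [CommRing R], Prop) (k S : Type u) [Field k] [CommRing S]
    [Algebra k S] : Prop :=
  ∀ (k' : Type u) [Field k'] [Algebra k k'], Module.Finite k k' → P (k' ⊗[k] S)

theorem gfin_self_of_g0 (h : G0 P k S) : Gfin P k S k := by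
  intro K' _ a₁ a₂ htower hfin
  have : a₁ = a₂ := Algebra.algebra_ext _ _ (fun c => by
    have := @IsScalarTower.algebraMap_apply k k K' _ _ _ _ a₂ a₁ htower c
    simpa using this)
  subst this
  exact h K' hfin

theorem g0_of_gfin_self (h : Gfin P k S k) : G0 P k S := by
  intro k' _ _ hfin
  exact h k' hfin

include hP in
/-- For `K/k` finitely generated, "geometrically `P`" passes to all finite extensions of `K`. -/
theorem gfin_of_essFiniteType [IsNoetherianRing S] (K : Type u) [Field K] [Algebra k K]
    [Algebra.EssFiniteType k K] (h : G0 P k S) : Gfin P k S K := by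
  obtain ⟨t, ht⟩ := IntermediateField.fg_top k K
  classical
  refine gfin_of_adjoin hP k S t.card k K (fun i => (t.equivFin.symm i : K)) ?_
    (gfin_self_of_g0 k S h)
  rw [← ht]
  congr 1
  ext y
  simp only [Set.mem_range, Finset.mem_coe]
  constructor
  · rintro ⟨i, rfl⟩
    exact (t.equivFin.symm i).2
  · intro hy
    exact ⟨t.equivFin ⟨y, hy⟩, by simp⟩

include hP in
/-- (a) ⇔ (b): finite purely inseparable extensions suffice. -/
theorem g0_iff_pi [IsNoetherianRing S] : G0 P k S ↔
    ∀ (k' : Type u) [Field k'] [Algebra k k'], Module.Finite k k' → IsPurelyInseparable k k' →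
      P (k' ⊗[k] S) := by
  constructor
  · intro h k' _ _ hfin _
    exact h k' hfin
  · intro h
    apply g0_of_gfin_self
    apply gfin_of_gpi hP k S k
    intro K' _ a₁ a₂ htower hfin hpi
    have : a₁ = a₂ := Algebra.algebra_ext _ _ (fun c => by
      have := @IsScalarTower.algebraMap_apply k k K' _ _ _ _ a₂ a₁ htower c
      simpa using this)
    subst this
    exact h K' hfin hpi

include hP in
/-- (a) ⇔ (c): finitely generated extensions. -/
theorem g0_iff_fg [IsNoetherianRing S] : G0 P k S ↔
    ∀ (K : Type u) [Field K] [Algebra k K], Algebra.EssFiniteType k K → P (K ⊗[k] S) := by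
  constructor
  · intro h K _ _ hK
    exact gfin_of_essFiniteType hP k S K h K (Module.Finite.self K)
  · intro h k' _ _ hfin
    exact h k' inferInstance

include hP in
/-- "Geometrically `P`" is invariant under finitely generated extension of the base field. -/
theorem g0_baseChange_iff [IsNoetherianRing S] (K : Type u) [Field K] [Algebra k K]
    [Algebra.EssFiniteType k K] : G0 P k S ↔ G0 P K (K ⊗[k] S) := by
  constructor
  · intro h K' _ _ hfin
    letI : Algebra k K' := ((algebraMap K K').comp (algebraMap k K)).toAlgebra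
    haveI : IsScalarTower k K K' := IsScalarTower.of_algebraMap_eq (fun _ => rfl)
    have h1 : P (K' ⊗[k] S) := gfin_of_essFiniteType hP k S K h K' hfin
    exact hP.of_equiv (Algebra.TensorProduct.cancelBaseChange k K K' K' S).symm.toRingEquiv h1
  · intro h k' _ _ hfin
    -- a field `K'` containing `K` and `k'`, finite over `K`
    haveI : Nontrivial (K ⊗[k] k') := by
      have hinj : Function.Injective (Algebra.TensorProduct.includeLeft : K →ₐ[k] K ⊗[k] k') :=
        Algebra.TensorProduct.includeLeft_injective (FaithfulSMul.algebraMap_injective k k')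
      exact hinj.nontrivial
    obtain ⟨m, hm⟩ := Ideal.exists_maximal (K ⊗[k] k')
    letI : Field ((K ⊗[k] k') ⧸ m) := Ideal.Quotient.field m
    letI : Algebra k' ((K ⊗[k] k') ⧸ m) :=
      ((Ideal.Quotient.mk m).comp
        (Algebra.TensorProduct.includeRight : k' →ₐ[k] K ⊗[k] k').toRingHom).toAlgebra
    haveI : IsScalarTower k k' ((K ⊗[k] k') ⧸ m) := IsScalarTower.of_algebraMap_eq (fun c => by
      show algebraMap k ((K ⊗[k] k') ⧸ m) c = Ideal.Quotient.mk m
        ((Algebra.TensorProduct.includeRight : k' →ₐ[k] K ⊗[k] k') (algebraMap k k' c))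
      rw [AlgHom.commutes]
      rfl)
    haveI : Module.Finite K (K ⊗[k] k') := inferInstance
    haveI : Module.Finite K ((K ⊗[k] k') ⧸ m) := inferInstance
    have h1 : P (((K ⊗[k] k') ⧸ m) ⊗[K] (K ⊗[k] S)) := h _ inferInstance
    have h2 : P (((K ⊗[k] k') ⧸ m) ⊗[k] S) :=
      hP.of_equiv (Algebra.TensorProduct.cancelBaseChange k K ((K ⊗[k] k') ⧸ m)
        ((K ⊗[k] k') ⧸ m) S).toRingEquiv h1
    exact descent_field hP k S k' ((K ⊗[k] k') ⧸ m) h2

end

end Groth.Agent.Lib.H14GeomP
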