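/-
helper14: composition of homomorphisms with geometrically-P fibres (P regular / normal).

* `Good2 P` : `Good P` + ascent along flat maps whose fibre rings have `P`;
  `good2_regular`, `good2_normal`.
* `g0_fiber_of_finite_residue` : base change of geometrically-P fibres in a pushout square at a
  prime with finite residue field extension.
* `g0_fiber_comp` : EGA IV 6.8.3 (ii) (fibres of a composite).
-/
import Mathlib
import Groth.Agent.Lib.H14GeomP3
import Groth.Agent.Lib.FibreBaseChange

set_option autoImplicit false
set_option linter.style.haveILetI false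
universe u

namespace Groth.Agent.Lib.H14GeomP

open IsLocalRing TensorProduct


/-- A good property which moreover ascends along flat maps whose fibre rings have the property. -/
structure Good2 (P : ∀ (R : Type u) [CommRing R], Prop) : Prop where
  toGood : Good P
  ascent_self : ∀ {A B : Type u} [CommRing A] [CommRing B] [Algebra A B] [Module.Flat A B]
    [IsNoetherianRing B], P A → (∀ (p : Ideal A) [p.IsPrime], P (p.Fiber B)) → P B

theorem good2_regular : Good2 (fun (R : Type u) [CommRing R] => IsRegularRing R) where
  toGood := good_regular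
  ascent_self := by
    intro A B _ _ _ _ _ hA hfib
    refine good_regular.ascent (A := A) (B := B) hA ?_
    intro Q _
    obtain ⟨q', hq', ⟨e⟩⟩ := Groth.Agent.Lib.H14NormalHom.exists_fiber_prime_equiv A B Q
    haveI : IsRegularRing ((Q.under A).Fiber B) := hfib _
    haveI : IsRegularLocalRing (Localization.AtPrime q') := inferInstance
    exact @IsRegularLocalRing.of_ringEquiv (Localization.AtPrime q') _ _ _ _ e

theorem good2_normal :
    Good2 (fun (R : Type u) [CommRing R] => IsNoetherianRing R ∧ EGA4.IsNormalRing R) where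
  toGood := good_normal
  ascent_self := by
    intro A B _ _ _ _ _ hA hfib
    haveI := hA.1
    refine ⟨inferInstance, ?_⟩
    intro q hq
    obtain ⟨h1, h2⟩ := hA.2 (q.comap (algebraMap A B))
    refine Groth.Agent.Lib.H14FlatAscent.normal_ascent A B (fun Q _ => ?_) q
    obtain ⟨q', hq', ⟨e⟩⟩ := Groth.Agent.Lib.H14NormalHom.exists_fiber_prime_equiv A B Q
    obtain ⟨h3, h4⟩ := (hfib (Q.under A)).2 q'
    exact ⟨e.symm.toMulEquiv.isDomain _, @IsIntegrallyClosed.of_equiv (Localization.AtPrime q') _ _ _ e h4⟩



/-- Base change of "geometrically `P` fibres" along `A → A'` in a pushout square, at a prime `p'`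
of `A'` whose residue field is finite over that of its contraction. -/
theorem g0_fiber_of_finite_residue {P : ∀ (R : Type u) [CommRing R], Prop}
    (hiso : ∀ {R R' : Type u} [CommRing R] [CommRing R'], (R ≃+* R') → P R → P R')
    (A A' B B' : Type u) [CommRing A] [CommRing A'] [CommRing B]
    [CommRing B'] [Algebra A A'] [Algebra A B] [Algebra A' B'] [Algebra B B'] [Algebra A B']
    [IsScalarTower A A' B'] [IsScalarTower A B B'] [Algebra.IsPushout A A' B B']
    (p' : Ideal A') [p'.IsPrime]
    [Algebra (p'.under A).ResidueField p'.ResidueField]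
    [IsScalarTower A (p'.under A).ResidueField p'.ResidueField]
    [Module.Finite (p'.under A).ResidueField p'.ResidueField]
    (h : G0 P (p'.under A).ResidueField ((p'.under A).Fiber B)) :
    G0 P p'.ResidueField (p'.Fiber B') := by
  intro k'' _ _ hfin
  letI : Algebra A' k'' :=
    ((algebraMap p'.ResidueField k'').comp (algebraMap A' p'.ResidueField)).toAlgebra
  haveI : IsScalarTower A' p'.ResidueField k'' := IsScalarTower.of_algebraMap_eq (fun _ => rfl)
  letI : Algebra A k'' := ((algebraMap A' k'').comp (algebraMap A A')).toAlgebra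
  haveI : IsScalarTower A A' k'' := IsScalarTower.of_algebraMap_eq (fun _ => rfl)
  letI : Algebra (p'.under A).ResidueField k'' :=
    ((algebraMap p'.ResidueField k'').comp
      (algebraMap (p'.under A).ResidueField p'.ResidueField)).toAlgebra
  haveI : IsScalarTower (p'.under A).ResidueField p'.ResidueField k'' :=
    IsScalarTower.of_algebraMap_eq (fun _ => rfl)
  haveI : IsScalarTower A (p'.under A).ResidueField k'' :=
    IsScalarTower.of_algebraMap_eq (fun a => by
      show algebraMap p'.ResidueField k'' (algebraMap A' p'.ResidueField (algebraMap A A' a)) =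
        algebraMap p'.ResidueField k'' (algebraMap (p'.under A).ResidueField p'.ResidueField
          (algebraMap A (p'.under A).ResidueField a))
      rw [← IsScalarTower.algebraMap_apply A (p'.under A).ResidueField p'.ResidueField,
        ← IsScalarTower.algebraMap_apply A A' p'.ResidueField])
  haveI : Module.Finite (p'.under A).ResidueField k'' := Module.Finite.trans p'.ResidueField k''
  have h1 := h k'' inferInstance
  obtain ⟨e⟩ := Groth.Agent.Lib.FibreBaseChange.nonempty_ringEquiv_fibre A A' B B'
    (p'.under A) p' k''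
  exact hiso e.symm h1

attribute [local instance] Algebra.TensorProduct.rightAlgebra in
/-- Composition: the fibres of `A → C` are geometrically `P` if those of `A → B` and `B → C`
are (and `B → C` is flat, and the fibre of `A → C` in question is Noetherian). -/
theorem g0_fiber_comp {P : ∀ (R : Type u) [CommRing R], Prop} (hP : Good2 P)
    (A B C : Type u) [CommRing A] [CommRing B] [CommRing C] [Algebra A B] [Algebra B C]
    [Algebra A C] [IsScalarTower A B C] [Module.Flat B C] (p : Ideal A) [p.IsPrime]
    (hB : G0 P p.ResidueField (p.Fiber B))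
    (hC : ∀ (Q : Ideal B) [Q.IsPrime], G0 P Q.ResidueField (Q.Fiber C))
    [IsNoetherianRing (p.Fiber C)] :
    G0 P p.ResidueField (p.Fiber C) := by
  intro k' _ _ hfin
  letI : Algebra A k' :=
    ((algebraMap p.ResidueField k').comp (algebraMap A p.ResidueField)).toAlgebra
  haveI : IsScalarTower A p.ResidueField k' := IsScalarTower.of_algebraMap_eq (fun _ => rfl)
  -- `B' = B ⊗_A k'` has `P`
  have hB' : P (B ⊗[A] k') := by
    have h1 : P (k' ⊗[p.ResidueField] (p.Fiber B)) := hB k' hfin
    have e1 : k' ⊗[p.ResidueField] (p.Fiber B) ≃ₐ[k'] k' ⊗[A] B :=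
      Algebra.TensorProduct.cancelBaseChange A p.ResidueField k' k' B
    have e2 : k' ⊗[A] B ≃ₐ[A] B ⊗[A] k' := Algebra.TensorProduct.comm A k' B
    exact hP.toGood.of_equiv (e1.toRingEquiv.trans e2.toRingEquiv) h1
  -- the ring iso `B' ⊗_B C ≃ k' ⊗_κ (κ ⊗_A C)`
  have e : ((B ⊗[A] k') ⊗[B] C) ≃+* (k' ⊗[p.ResidueField] (p.Fiber C)) := by
    have e1 : (B ⊗[A] k') ⊗[B] C ≃ₐ[B] C ⊗[B] (B ⊗[A] k') :=
      Algebra.TensorProduct.comm B _ _
    have e2 : C ⊗[B] (B ⊗[A] k') ≃ₐ[C] C ⊗[A] k' :=
      Algebra.TensorProduct.cancelBaseChange A B C C k'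
    have e3 : C ⊗[A] k' ≃ₐ[A] k' ⊗[A] C := Algebra.TensorProduct.comm A C k'
    have e4 : k' ⊗[p.ResidueField] (p.Fiber C) ≃ₐ[k'] k' ⊗[A] C :=
      Algebra.TensorProduct.cancelBaseChange A p.ResidueField k' k' C
    exact e1.toRingEquiv.trans (e2.toRingEquiv.trans (e3.toRingEquiv.trans e4.symm.toRingEquiv))
  -- Noetherianity
  haveI : IsNoetherianRing ((p.Fiber C) ⊗[p.ResidueField] k') :=
    IsNoetherianRing.of_finite (p.Fiber C) _
  haveI : IsNoetherianRing (k' ⊗[p.ResidueField] (p.Fiber C)) :=
    isNoetherianRing_of_ringEquiv _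
      (Algebra.TensorProduct.comm p.ResidueField (p.Fiber C) k').toRingEquiv
  haveI : IsNoetherianRing ((B ⊗[A] k') ⊗[B] C) := isNoetherianRing_of_ringEquiv _ e.symm
  -- quasi-finiteness of `B → B'`
  haveI : Algebra.QuasiFinite A k' := Algebra.QuasiFinite.trans A p.ResidueField k'
  -- ascent along `B' → B' ⊗_B C`
  have hC' : P ((B ⊗[A] k') ⊗[B] C) := by
    refine hP.ascent_self (A := B ⊗[A] k') (B := (B ⊗[A] k') ⊗[B] C) hB' ?_
    intro P' _
    letI := Localization.AtPrime.algebraOfLiesOver (P'.under B) P'
    haveI : IsScalarTower B (P'.under B).ResidueField P'.ResidueField := by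
      apply IsScalarTower.of_algebraMap_eq
      intro x
      rw [IsScalarTower.algebraMap_apply B (Localization.AtPrime (P'.under B))
          (P'.under B).ResidueField,
        ← IsScalarTower.algebraMap_apply (Localization.AtPrime (P'.under B))
          (P'.under B).ResidueField P'.ResidueField,
        ← IsScalarTower.algebraMap_apply B (Localization.AtPrime (P'.under B)) P'.ResidueField]
    haveI : IsScalarTower B C ((B ⊗[A] k') ⊗[B] C) := Algebra.TensorProduct.right_isScalarTower
    have h1 : G0 P P'.ResidueField (P'.Fiber ((B ⊗[A] k') ⊗[B] C)) :=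
      g0_fiber_of_finite_residue (fun e h => hP.toGood.of_equiv e h)
        B (B ⊗[A] k') C ((B ⊗[A] k') ⊗[B] C) P' (hC (P'.under B))
    have h2 := h1 P'.ResidueField inferInstance
    exact hP.toGood.of_equiv (Algebra.TensorProduct.lid _ _).toRingEquiv h2
  exact hP.toGood.of_equiv e hC'

end Groth.Agent.Lib.H14GeomP
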