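/-
helper14: geometric regularity and ARBITRARY field extensions.

* `exists_finset_forall_mem_range` : finitely many elements of `K ⊗_k T` come from `L ⊗_k T` for a
  finitely generated intermediate field `L`.
* `towerRingHom`, `towerRingHom_flat` : `L ⊗_k T → K ⊗_k T` is flat.
* `isRegularLocalRing_of_map_under_eq` : flat `A → B`, `Q = (Q ∩ A)B`, `A_{Q∩A}` regular ⇒ `B_Q` regular.
* `isRegularRing_tensor_of_g0` : `T` geometrically regular over `k` (finite-extension definition),
  `K ⊗_k T` Noetherian ⇒ `K ⊗_k T` regular, for ANY field extension `K/k`.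
-/
import Mathlib
import Groth.Agent.Lib.H14GeomP3
import Groth.Agent.Lib.RegularFlatLocal

set_option autoImplicit false
set_option linter.style.haveILetI false
universe u

namespace Groth.Agent.Lib.H14GeomP

open IsLocalRing TensorProduct IntermediateField

section finlevel

variable (k K T : Type u) [Field k] [Field K] [Algebra k K] [CommRing T] [Algebra k T]

/-- The map `L ⊗_k T → K ⊗_k T` for an intermediate field `L`. -/
noncomputable abbrev levelMap (L : IntermediateField k K) : (L ⊗[k] T) →ₐ[k] (K ⊗[k] T) :=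
  Algebra.TensorProduct.map L.val (AlgHom.id k T)

theorem levelMap_range_mono {L L' : IntermediateField k K} (h : L ≤ L') :
    (levelMap k K T L).range ≤ (levelMap k K T L').range := by
  rintro _ ⟨y, rfl⟩
  refine ⟨Algebra.TensorProduct.map (IntermediateField.inclusion h) (AlgHom.id k T) y, ?_⟩
  have : (levelMap k K T L').comp
      (Algebra.TensorProduct.map (IntermediateField.inclusion h) (AlgHom.id k T)) =
      levelMap k K T L := by
    apply Algebra.TensorProduct.ext'
    intro a b
    simp
  exact congrArg (fun f => f y) this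

theorem exists_finset_mem_range (x : K ⊗[k] T) :
    ∃ S : Finset K, x ∈ (levelMap k K T (adjoin k (S : Set K))).range := by
  classical
  induction x using TensorProduct.induction_on with
  | zero => exact ⟨∅, zero_mem _⟩
  | tmul c t =>
    refine ⟨{c}, ⟨(⟨c, subset_adjoin k _ (by simp)⟩ : adjoin k (({c} : Finset K) : Set K)) ⊗ₜ t,
      ?_⟩⟩
    simp
  | add x y hx hy =>
    obtain ⟨Sx, hSx⟩ := hx
    obtain ⟨Sy, hSy⟩ := hy
    refine ⟨Sx ∪ Sy, add_mem ?_ ?_⟩
    · exact levelMap_range_mono k K T (adjoin.mono k _ _ (by simp)) hSx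
    · exact levelMap_range_mono k K T (adjoin.mono k _ _ (by simp)) hSy

theorem exists_finset_forall_mem_range (G : Finset (K ⊗[k] T)) :
    ∃ S : Finset K, ∀ x ∈ G, x ∈ (levelMap k K T (adjoin k (S : Set K))).range := by
  classical
  induction G using Finset.induction_on with
  | empty => exact ⟨∅, by simp⟩
  | insert a G _ ih =>
    obtain ⟨S₁, h₁⟩ := ih
    obtain ⟨S₂, h₂⟩ := exists_finset_mem_range k K T a
    refine ⟨S₁ ∪ S₂, ?_⟩
    intro x hx
    rcases Finset.mem_insert.mp hx with rfl | hx
    · exact levelMap_range_mono k K T (adjoin.mono k _ _ (by simp)) h₂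
    · exact levelMap_range_mono k K T (adjoin.mono k _ _ (by simp)) (h₁ x hx)

end finlevel

section towerflat

variable (k T L K : Type u) [Field k] [CommRing T] [Algebra k T] [Field L] [Field K]
  [Algebra k L] [Algebra k K] [Algebra L K] [IsScalarTower k L K]

/-- The map `L ⊗_k T → K ⊗_k T` for a tower of fields `k ⊆ L ⊆ K`. -/
noncomputable def towerRingHom : (L ⊗[k] T) →+* (K ⊗[k] T) :=
  (Algebra.TensorProduct.map (IsScalarTower.toAlgHom k L K) (AlgHom.id k T)).toRingHom

theorem towerRingHom_tmul (l : L) (t : T) :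
    towerRingHom k T L K (l ⊗ₜ t) = (algebraMap L K l) ⊗ₜ t := by
  simp [towerRingHom]

/-- `L ⊗_k T → K ⊗_k T` is flat. -/
theorem towerRingHom_flat :
    @RingHom.Flat (L ⊗[k] T) (K ⊗[k] T) _ _ (towerRingHom k T L K) := by
  let e1 : (L ⊗[k] T) ⊗[L] K ≃ₐ[L] K ⊗[L] (L ⊗[k] T) := Algebra.TensorProduct.comm L _ _
  let e2 : K ⊗[L] (L ⊗[k] T) ≃ₐ[K] K ⊗[k] T := Algebra.TensorProduct.cancelBaseChange k L K K T
  let e : ((L ⊗[k] T) ⊗[L] K) ≃+* (K ⊗[k] T) := e1.toRingEquiv.trans e2.toRingEquiv
  have h1 : (algebraMap (L ⊗[k] T) ((L ⊗[k] T) ⊗[L] K)).Flat :=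
    RingHom.flat_algebraMap_iff.mpr inferInstance
  have h2 : (e : ((L ⊗[k] T) ⊗[L] K) →+* (K ⊗[k] T)).Flat := RingHom.Flat.of_bijective e.bijective
  have h3 : towerRingHom k T L K =
      (e : ((L ⊗[k] T) ⊗[L] K) →+* (K ⊗[k] T)).comp
        (algebraMap (L ⊗[k] T) ((L ⊗[k] T) ⊗[L] K)) := by
    have : (Algebra.TensorProduct.map (IsScalarTower.toAlgHom k L K) (AlgHom.id k T)) =
        (AlgHom.restrictScalars k e2.toAlgHom).comp
        ((AlgHom.restrictScalars k e1.toAlgHom).comp
          (AlgHom.restrictScalars k (Algebra.TensorProduct.includeLeft :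
            (L ⊗[k] T) →ₐ[L] (L ⊗[k] T) ⊗[L] K))) := by
      apply Algebra.TensorProduct.ext'
      intro a b
      simp [e1, e2, Algebra.smul_def]
    unfold towerRingHom
    rw [this]
    rfl
  rw [h3]
  exact h1.comp h2

end towerflat

section arbitrary

variable (k T K : Type u) [Field k] [CommRing T] [Algebra k T] [Field K] [Algebra k K]

theorem levelMap_eq_towerRingHom (L : IntermediateField k K) (x : L ⊗[k] T) :
    levelMap k K T L x = towerRingHom k T L K x := by
  induction x using TensorProduct.induction_on with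
  | zero => simp
  | tmul l t => rw [towerRingHom_tmul]; simp
  | add x y hx hy => rw [map_add, map_add, hx, hy]

/-- Local step: regularity ascends to `B_Q` along a flat map `A → B` when `Q` is generated by its
contraction. -/
theorem isRegularLocalRing_of_map_under_eq (A B : Type u) [CommRing A] [CommRing B] [Algebra A B]
    [Module.Flat A B] [IsNoetherianRing A] [IsNoetherianRing B] (Q : Ideal B) [Q.IsPrime]
    (hQ : (Q.under A).map (algebraMap A B) = Q)
    (hA : IsRegularLocalRing (Localization.AtPrime (Q.under A))) :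
    IsRegularLocalRing (Localization.AtPrime Q) := by
  letI := Localization.AtPrime.algebraOfLiesOver (Q.under A) Q
  haveI := Groth.Agent.Lib.H14FlatAscent.isLocalHom_localization A B Q
  haveI := Groth.Agent.Lib.H14FlatAscent.flat_localization A B Q
  have hmap : (maximalIdeal (Localization.AtPrime (Q.under A))).map
      (algebraMap (Localization.AtPrime (Q.under A)) (Localization.AtPrime Q)) =
      maximalIdeal (Localization.AtPrime Q) := by
    rw [Groth.Agent.Lib.H14FlatAscent.map_maximalIdeal_eq,
      IsScalarTower.algebraMap_eq A B (Localization.AtPrime Q), ← Ideal.map_map,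
      ← Ideal.under_def, hQ, Localization.AtPrime.map_eq_maximalIdeal]
  exact (Groth.Agent.Lib.RegularFlatLocal.isRegularLocalRing_iff_of_flat hmap).mpr hA

/-- **Arbitrary field extensions**: if `T` is geometrically regular over `k` (finite extensions) and
`K ⊗_k T` is Noetherian, then `K ⊗_k T` is regular, for every field extension `K/k`. -/
theorem isRegularRing_tensor_of_g0 [IsNoetherianRing T] [IsNoetherianRing (K ⊗[k] T)]
    (h : G0 (fun (R : Type u) [CommRing R] => IsRegularRing R) k T) :
    IsRegularRing (K ⊗[k] T) := by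
  classical
  rw [isRegularRing_iff]
  intro Q hQ
  obtain ⟨G, hG⟩ := (isNoetherianRing_iff_ideal_fg (K ⊗[k] T)).mp inferInstance Q
  obtain ⟨L, hLfg, hL⟩ : ∃ L : IntermediateField k K, L.FG ∧
      ∀ x ∈ G, x ∈ (levelMap k K T L).range := by
    obtain ⟨S, hS⟩ := exists_finset_forall_mem_range k K T G
    exact ⟨adjoin k (S : Set K), IntermediateField.fg_adjoin_finset S, hS⟩
  haveI : Algebra.EssFiniteType k L := IntermediateField.essFiniteType_iff.mpr hLfg
  haveI hreg : IsRegularRing (L ⊗[k] T) := (g0_iff_fg good_regular k T).mp h L inferInstance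
  letI alg : Algebra (L ⊗[k] T) (K ⊗[k] T) := (towerRingHom k T L K).toAlgebra
  haveI : Module.Flat (L ⊗[k] T) (K ⊗[k] T) := towerRingHom_flat k T L K
  refine isRegularLocalRing_of_map_under_eq (L ⊗[k] T) (K ⊗[k] T) Q ?_
    ((isRegularRing_iff.mp hreg) _)
  refine le_antisymm (Ideal.map_comap_le (f := @algebraMap (L ⊗[k] T) (K ⊗[k] T) _ _ alg)
    (K := Q)) ?_
  have hGQ : Q = Ideal.span (G : Set (K ⊗[k] T)) := hG.symm
  refine hGQ.le.trans (Ideal.span_le.mpr ?_)
  intro g hg
  obtain ⟨a, ha⟩ := hL g hg
  have ha' : towerRingHom k T L K a = g := by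
    rw [← ha]
    exact (levelMap_eq_towerRingHom k T K _ a).symm
  have hgQ : g ∈ Q := hG ▸ Ideal.subset_span hg
  have haq : a ∈ Q.under (L ⊗[k] T) := by
    rw [Ideal.under_def, Ideal.mem_comap]
    show towerRingHom k T L K a ∈ Q
    rw [ha']
    exact hgQ
  have := Ideal.mem_map_of_mem (@algebraMap (L ⊗[k] T) (K ⊗[k] T) _ _ alg) haq
  rw [SetLike.mem_coe, ← ha']
  exact this

end arbitrary

end Groth.Agent.Lib.H14GeomP
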