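/-
helper14: regular homomorphisms (EGA IV 6.8) via fields.

* `exists_residueField_algebra` : a field `K` over `A` is an extension of `κ(ker)`.
* `isNoetherianRing_field_tensor` : `K ⊗_A B` Noetherian (B f.t. or K ess. f.t. over A; Noeth fibres).
* `isRegularRing_field_tensor_of_isRegularHom` : regular hom `A → B`, ANY field `K` over `A` with
  `K ⊗_A B` Noetherian ⇒ `K ⊗_A B` regular.
* `isRegularHom_of_forall_field` : converse criterion.
* `isRegularHom_baseChange` (EGA IV 6.8.3 (iii)), `isRegularHom_of_baseChange` (ff descent).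
-/
import Mathlib
import Groth.Agent.Lib.H14GeomP4
import Groth.Agent.Lib.H14GeomP5
import Groth.Agent.Lib.NoethDescent

set_option autoImplicit false
set_option linter.style.haveILetI false
universe u

namespace Groth.Agent.Lib.H14GeomP

open IsLocalRing TensorProduct EGA4

/-- A field `K` over a ring `A` is an extension of the residue field of the kernel. -/
theorem exists_residueField_algebra (A K : Type u) [CommRing A] [Field K] [Algebra A K] :
    ∃ (p : Ideal A) (_ : p.IsPrime) (_ : Algebra p.ResidueField K),
      IsScalarTower A p.ResidueField K := by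
  let p : Ideal A := RingHom.ker (algebraMap A K)
  haveI hp : p.IsPrime := RingHom.ker_isPrime _
  let σ : p.ResidueField →+* K := Ideal.ResidueField.lift p (algebraMap A K) le_rfl (by
    intro x hx
    exact IsUnit.mk0 _ (fun h0 => hx (RingHom.mem_ker.mpr h0)))
  letI : Algebra p.ResidueField K := σ.toAlgebra
  refine ⟨p, hp, inferInstance, IsScalarTower.of_algebraMap_eq (fun x => ?_)⟩
  rw [RingHom.algebraMap_toAlgebra]
  exact (Ideal.ResidueField.lift_algebraMap p (algebraMap A K) _ _ x).symm

/-- Noetherianity of `K ⊗_A B` for a field `K` over `A`, when the fibre rings of `B` are Noetherian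
and either `B` is of finite type or `K` is essentially of finite type over `A`. -/
theorem isNoetherianRing_field_tensor (A B K : Type u) [CommRing A] [CommRing B] [Algebra A B]
    [Field K] [Algebra A K] (hft : Algebra.FiniteType A B ∨ Algebra.EssFiniteType A K)
    (hN : ∀ (p : Ideal A) [p.IsPrime], IsNoetherianRing (p.Fiber B)) :
    IsNoetherianRing (K ⊗[A] B) := by
  rcases hft with h | h
  · haveI : Algebra.FiniteType K (K ⊗[A] B) := inferInstance
    exact Algebra.FiniteType.isNoetherianRing K _
  · obtain ⟨p, _, _, _⟩ := exists_residueField_algebra A K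
    haveI := hN p
    haveI : Algebra.EssFiniteType p.ResidueField K := Algebra.EssFiniteType.of_comp A _ _
    haveI : IsNoetherianRing (K ⊗[p.ResidueField] (p.Fiber B)) :=
      isNoetherianRing_tensor p.ResidueField (p.Fiber B) K
    exact isNoetherianRing_of_ringEquiv _
      (Algebra.TensorProduct.cancelBaseChange A p.ResidueField p.ResidueField K B).toRingEquiv

/-- For a regular homomorphism `A → B` and ANY field `K` over `A` with `K ⊗_A B` Noetherian,
`K ⊗_A B` is regular. -/
theorem isRegularRing_field_tensor_of_isRegularHom (A B : Type u) [CommRing A] [CommRing B]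
    [Algebra A B] (h : CAlg.IsRegularHom A B) (K : Type u) [Field K] [Algebra A K]
    [IsNoetherianRing (K ⊗[A] B)] : IsRegularRing (K ⊗[A] B) := by
  obtain ⟨p, _, _, _⟩ := exists_residueField_algebra A K
  haveI := (h.2 p).1
  let e : K ⊗[p.ResidueField] (p.Fiber B) ≃ₐ[p.ResidueField] K ⊗[A] B :=
    Algebra.TensorProduct.cancelBaseChange A p.ResidueField p.ResidueField K B
  haveI : IsNoetherianRing (K ⊗[p.ResidueField] (p.Fiber B)) :=
    isNoetherianRing_of_ringEquiv _ e.symm.toRingEquiv
  have h1 : IsRegularRing (K ⊗[p.ResidueField] (p.Fiber B)) :=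
    isRegularRing_tensor_of_g0 p.ResidueField (p.Fiber B) K (h.2 p).2
  exact good_regular.of_equiv e.toRingEquiv h1

/-- Criterion for regular homomorphisms via fields. -/
theorem isRegularHom_of_forall_field (A B : Type u) [CommRing A] [CommRing B] [Algebra A B]
    [Module.Flat A B] (hN : ∀ (p : Ideal A) [p.IsPrime], IsNoetherianRing (p.Fiber B))
    (h : ∀ (K : Type u) [Field K] [Algebra A K], IsNoetherianRing (K ⊗[A] B) →
      IsRegularRing (K ⊗[A] B)) :
    CAlg.IsRegularHom A B := by
  refine ⟨inferInstance, fun p _ => ⟨hN p, fun k' _ _ hfin => ?_⟩⟩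
  letI : Algebra A k' := ((algebraMap p.ResidueField k').comp (algebraMap A p.ResidueField)).toAlgebra
  haveI : IsScalarTower A p.ResidueField k' := IsScalarTower.of_algebraMap_eq (fun x => rfl)
  let e : k' ⊗[p.ResidueField] (p.Fiber B) ≃ₐ[p.ResidueField] k' ⊗[A] B :=
    Algebra.TensorProduct.cancelBaseChange A p.ResidueField p.ResidueField k' B
  haveI := hN p
  haveI : IsNoetherianRing (k' ⊗[p.ResidueField] (p.Fiber B)) := by
    haveI : IsNoetherianRing ((p.Fiber B) ⊗[p.ResidueField] k') :=
      IsNoetherianRing.of_finite (p.Fiber B) _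
    exact isNoetherianRing_of_ringEquiv _
      (Algebra.TensorProduct.comm p.ResidueField (p.Fiber B) k').toRingEquiv
  haveI : IsNoetherianRing (k' ⊗[A] B) := isNoetherianRing_of_ringEquiv _ e.toRingEquiv
  exact good_regular.of_equiv e.symm.toRingEquiv (h k' inferInstance)


/-- A field extension `K'` of `K` carrying a compatible `A'`-algebra structure, for `A'`
faithfully flat over `A`; essentially of finite type over `A'` if `K` is so over `A`. -/
theorem exists_field_over' (A A' K : Type u) [CommRing A] [CommRing A'] [Algebra A A']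
    [Module.FaithfullyFlat A A'] [Field K] [Algebra A K] :
    ∃ (K' : Type u) (_ : Field K') (_ : Algebra A K') (_ : Algebra A' K') (_ : Algebra K K'),
      IsScalarTower A A' K' ∧ IsScalarTower A K K' ∧
        (Algebra.EssFiniteType A K → Algebra.EssFiniteType A' K') := by
  obtain ⟨m, hm⟩ := Ideal.exists_maximal (A' ⊗[A] K)
  letI : Field ((A' ⊗[A] K) ⧸ m) := Ideal.Quotient.field m
  letI : Algebra K ((A' ⊗[A] K) ⧸ m) :=
    ((Ideal.Quotient.mk m).comp
      (Algebra.TensorProduct.includeRight : K →ₐ[A] A' ⊗[A] K).toRingHom).toAlgebra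
  refine ⟨(A' ⊗[A] K) ⧸ m, inferInstance, inferInstance, inferInstance, inferInstance,
    inferInstance, ?_, ?_⟩
  · refine IsScalarTower.of_algebraMap_eq (fun x => ?_)
    rw [RingHom.algebraMap_toAlgebra]
    simp only [RingHom.coe_comp, Function.comp_apply, AlgHom.toRingHom_eq_coe, RingHom.coe_coe,
      AlgHom.commutes]
    rfl
  · intro h
    haveI : Algebra.EssFiniteType A' (A' ⊗[A] K) := inferInstance
    exact Algebra.EssFiniteType.comp A' (A' ⊗[A] K) _

/-- Regular homomorphisms are stable under base change (one of `B`, `A'` of finite type). -/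
theorem isRegularHom_baseChange (A B A' : Type u) [CommRing A] [CommRing B] [CommRing A']
    [Algebra A B] [Algebra A A'] (hft : Algebra.FiniteType A B ∨ Algebra.FiniteType A A')
    (h : CAlg.IsRegularHom A B) : CAlg.IsRegularHom A' (A' ⊗[A] B) := by
  haveI := h.1
  -- Noetherianity of `K ⊗_{A'} (A' ⊗_A B)` for fields `K` essentially of finite type over `A'`
  have key : ∀ (K : Type u) [Field K] [Algebra A' K], Algebra.EssFiniteType A' K →
      IsNoetherianRing (K ⊗[A'] (A' ⊗[A] B)) := by
    intro K _ _ hK
    letI : Algebra A K := ((algebraMap A' K).comp (algebraMap A A')).toAlgebra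
    haveI : IsScalarTower A A' K := IsScalarTower.of_algebraMap_eq (fun x => rfl)
    have hft' : Algebra.FiniteType A B ∨ Algebra.EssFiniteType A K := by
      rcases hft with h1 | h1
      · exact Or.inl h1
      · exact Or.inr (Algebra.EssFiniteType.comp A A' K)
    haveI : IsNoetherianRing (K ⊗[A] B) :=
      isNoetherianRing_field_tensor A B K hft' (fun p _ => (h.2 p).1)
    exact isNoetherianRing_of_ringEquiv _
      (Algebra.TensorProduct.cancelBaseChange A A' A' K B).symm.toRingEquiv
  refine isRegularHom_of_forall_field A' (A' ⊗[A] B) (fun p' _ => key p'.ResidueField inferInstance)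
    ?_
  intro K _ _ hK
  letI : Algebra A K := ((algebraMap A' K).comp (algebraMap A A')).toAlgebra
  haveI : IsScalarTower A A' K := IsScalarTower.of_algebraMap_eq (fun x => rfl)
  let e : K ⊗[A'] (A' ⊗[A] B) ≃ₐ[A'] K ⊗[A] B := Algebra.TensorProduct.cancelBaseChange A A' A' K B
  haveI : IsNoetherianRing (K ⊗[A] B) := isNoetherianRing_of_ringEquiv _ e.toRingEquiv
  exact good_regular.of_equiv e.symm.toRingEquiv
    (isRegularRing_field_tensor_of_isRegularHom A B h K)

/-- Faithfully flat descent: if `A' → A' ⊗_A B` is regular, then `k ⊗_A B` is regular for every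
field `k` essentially of finite type over `A`. -/
theorem isRegularRing_field_tensor_of_baseChange (A B A' : Type u) [CommRing A] [CommRing B]
    [CommRing A'] [Algebra A B] [Algebra A A'] [Module.FaithfullyFlat A A']
    (h : CAlg.IsRegularHom A' (A' ⊗[A] B)) (k : Type u) [Field k] [Algebra A k]
    [hk : Algebra.EssFiniteType A k] : IsRegularRing (k ⊗[A] B) := by
  obtain ⟨K', _, _, _, _, _, _, hK'⟩ := exists_field_over' A A' k
  haveI := hK' hk
  haveI : IsNoetherianRing (K' ⊗[A'] (A' ⊗[A] B)) :=
    isNoetherianRing_field_tensor A' (A' ⊗[A] B) K' (Or.inr inferInstance) (fun p' _ => (h.2 p').1)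
  have h1 : IsRegularRing (K' ⊗[A'] (A' ⊗[A] B)) :=
    isRegularRing_field_tensor_of_isRegularHom A' (A' ⊗[A] B) h K'
  have h2 : IsRegularRing (K' ⊗[A] B) :=
    good_regular.of_equiv (Algebra.TensorProduct.cancelBaseChange A A' A' K' B).toRingEquiv h1
  have h3 : IsRegularRing (K' ⊗[k] (k ⊗[A] B)) :=
    good_regular.of_equiv (Algebra.TensorProduct.cancelBaseChange A k k K' B).symm.toRingEquiv h2
  have h4 : IsRegularRing ((k ⊗[A] B) ⊗[k] K') :=
    good_regular.of_equiv (Algebra.TensorProduct.comm k K' (k ⊗[A] B)).toRingEquiv h3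
  exact good_regular.descent (A := k ⊗[A] B) (B := (k ⊗[A] B) ⊗[k] K') h4

/-- Regular homomorphisms descend along faithfully flat base change. -/
theorem isRegularHom_of_baseChange (A B A' : Type u) [CommRing A] [CommRing B] [CommRing A']
    [Algebra A B] [Algebra A A'] [Module.FaithfullyFlat A A']
    (h : CAlg.IsRegularHom A' (A' ⊗[A] B)) : CAlg.IsRegularHom A B := by
  haveI : Module.Flat A' (A' ⊗[A] B) := h.1
  haveI : Module.Flat A B := Module.Flat.of_flat_tensorProduct A B A'
  refine ⟨inferInstance, fun p _ => ⟨?_, fun k' _ _ hfin => ?_⟩⟩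
  · exact good_regular.noeth (isRegularRing_field_tensor_of_baseChange A B A' h p.ResidueField)
  · letI : Algebra A k' :=
      ((algebraMap p.ResidueField k').comp (algebraMap A p.ResidueField)).toAlgebra
    haveI : IsScalarTower A p.ResidueField k' := IsScalarTower.of_algebraMap_eq (fun x => rfl)
    haveI : Algebra.EssFiniteType A k' := Algebra.EssFiniteType.comp A p.ResidueField k'
    exact good_regular.of_equiv
      (Algebra.TensorProduct.cancelBaseChange A p.ResidueField p.ResidueField k' B).symm.toRingEquiv
      (isRegularRing_field_tensor_of_baseChange A B A' h k')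

end Groth.Agent.Lib.H14GeomP
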