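import Mathlib.RingTheory.Ideal.Pure
import Mathlib.RingTheory.Etale.Weakly
import Mathlib.RingTheory.RingHom.FaithfullyFlat
import Mathlib.RingTheory.Unramified.Field
import Mathlib.FieldTheory.IntermediateField.Adjoin.Algebra

set_option autoImplicit false

namespace Groth.Agent.Lib.WeaklyEtale

open TensorProduct

/-- A weakly etale algebra is formally unramified. -/
theorem formallyUnramified_of_weaklyEtale {R S : Type*} [CommRing R] [CommRing S] [Algebra R S]
    [Algebra.WeaklyEtale R S] : Algebra.FormallyUnramified R S := by
  have hflat := Algebra.WeaklyEtale.flat_lmul' R S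
  algebraize [(Algebra.TensorProduct.lmul' R (S := S)).toRingHom]
  have hsurj : Function.Surjective (Algebra.ofId (S ⊗[R] S) S) := fun x ↦ ⟨1 ⊗ₜ x, by
    simp [Algebra.ofId_apply, RingHom.algebraMap_toAlgebra]⟩
  have hker : RingHom.ker (Algebra.ofId (S ⊗[R] S) S) = KaehlerDifferential.ideal R S := rfl
  let e : ((S ⊗[R] S) ⧸ KaehlerDifferential.ideal R S) ≃ₐ[S ⊗[R] S] S :=
    hker ▸ Ideal.quotientKerAlgEquivOfSurjective hsurj
  have : (KaehlerDifferential.ideal R S).Pure := Module.Flat.of_linearEquiv e.toLinearEquiv
  have h := Ideal.isIdempotentElem_of_pure (KaehlerDifferential.ideal R S)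
  have : Subsingleton (KaehlerDifferential.ideal R S).Cotangent :=
    (Ideal.cotangent_subsingleton_iff _).mpr h
  exact ⟨inferInstanceAs <| Subsingleton (KaehlerDifferential.ideal R S).Cotangent⟩

/-- Flatness descends: if `C` is flat over `A` and faithfully flat over `B`, then `B` is flat
over `A`. -/
theorem flat_of_flat_of_faithfullyFlat (A B C : Type*) [CommRing A] [CommRing B] [CommRing C]
    [Algebra A B] [Algebra B C] [Algebra A C] [IsScalarTower A B C] [Module.Flat A C]
    [Module.FaithfullyFlat B C] : Module.Flat A B := by
  rw [Module.Flat.iff_lTensor_preserves_injective_linearMap]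
  intro N P _ _ _ _ f hf
  have h1 : Function.Injective (f.baseChange C) :=
    Module.Flat.lTensor_preserves_injective_linearMap f hf
  have h2 : Function.Injective (f.baseChange B) := by
    rw [← Module.FaithfullyFlat.lTensor_injective_iff_injective B C]
    have : (f.baseChange B).lTensor C =
        ((AlgebraTensorModule.cancelBaseChange A B C C P).symm.toLinearMap.restrictScalars B) ∘ₗ
        ((f.baseChange C).restrictScalars B) ∘ₗ
        ((AlgebraTensorModule.cancelBaseChange A B C C N).toLinearMap.restrictScalars B) := by
      ext c b
      simp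
    rw [this]
    simpa using h1
  exact h2

/-- Ring hom version of `flat_of_flat_of_faithfullyFlat`. -/
theorem ringHom_flat_of_comp_of_faithfullyFlat {A B C : Type*} [CommRing A] [CommRing B]
    [CommRing C] {f : A →+* B} {g : B →+* C} (hg : g.FaithfullyFlat) (h : (g.comp f).Flat) :
    f.Flat := by
  algebraize [f, g, g.comp f]
  exact flat_of_flat_of_faithfullyFlat A B C

/-- If `L / K` is a weakly etale extension of fields, then any intermediate field is
weakly etale over `K`. -/
theorem weaklyEtale_of_tower_fields (K E L : Type*) [Field K] [Field E] [Field L] [Algebra K E]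
    [Algebra E L] [Algebra K L] [IsScalarTower K E L] [Algebra.WeaklyEtale K L] :
    Algebra.WeaklyEtale K E := by
  refine ⟨inferInstance, ?_⟩
  let ι : E →ₐ[K] L := IsScalarTower.toAlgHom K E L
  have hι : ι.toRingHom.Flat := RingHom.Flat.of_isField (Field.toIsField E) _
  have h1 : (Algebra.TensorProduct.map ι ι).toRingHom.Flat := RingHom.Flat.tensorProductMap hι hι
  have h2 := Algebra.WeaklyEtale.flat_lmul' K L
  have h3 := RingHom.Flat.comp h1 h2
  have hcomp : (Algebra.TensorProduct.lmul' K (S := L)).toRingHom.comp
      (Algebra.TensorProduct.map ι ι).toRingHom =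
      (algebraMap E L).comp (Algebra.TensorProduct.lmul' K (S := E)).toRingHom := by
    have : (Algebra.TensorProduct.lmul' K (S := L)).comp (Algebra.TensorProduct.map ι ι) =
        ι.comp (Algebra.TensorProduct.lmul' K (S := E)) := by
      ext <;> simp
    exact congr($(this).toRingHom)
  rw [hcomp] at h3
  refine ringHom_flat_of_comp_of_faithfullyFlat (g := algebraMap E L) ?_ h3
  rw [RingHom.faithfullyFlat_algebraMap_iff]
  infer_instance

/-- A weakly etale extension of fields is separable (and in particular algebraic). -/
theorem isSeparable_of_weaklyEtale (K L : Type*) [Field K] [Field L] [Algebra K L]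
    [Algebra.WeaklyEtale K L] : Algebra.IsSeparable K L := by
  refine ⟨fun x ↦ ?_⟩
  let E := IntermediateField.adjoin K {x}
  have : Algebra.WeaklyEtale K E := weaklyEtale_of_tower_fields K E L
  have : Algebra.FormallyUnramified K E := formallyUnramified_of_weaklyEtale
  have : Algebra.EssFiniteType K E :=
    IntermediateField.essFiniteType_iff.mpr
      (IntermediateField.fg_adjoin_of_finite (Set.finite_singleton x))
  have : Algebra.IsSeparable K E := Algebra.FormallyUnramified.isSeparable K E
  have hx : IsSeparable K (⟨x, IntermediateField.mem_adjoin_simple_self K x⟩ : E) :=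
    Algebra.IsSeparable.isSeparable K _
  have h2 := hx.map E.val E.val.injective
  rw [IntermediateField.coe_val] at h2
  exact h2

end Groth.Agent.Lib.WeaklyEtale
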