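/- helper14: regular homs descend along a faithfully flat second map (`isRegularHom_of_comp_faithfullyFlat`). -/
import Mathlib
import Groth.Agent.Lib.H14GeomP7
import Groth.Agent.Lib.WeaklyEtale

set_option autoImplicit false
set_option linter.style.haveILetI false
universe u

namespace Groth.Agent.Lib.H14GeomP

open IsLocalRing TensorProduct EGA4

/-- If `A → C` is regular and `B → C` is faithfully flat then `A → B` is regular. -/
theorem isRegularHom_of_comp_faithfullyFlat (A B C : Type u) [CommRing A] [CommRing B] [CommRing C]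
    [Algebra A B] [Algebra B C] [Algebra A C] [IsScalarTower A B C]
    (hAC : CAlg.IsRegularHom A C) [Module.FaithfullyFlat B C] : CAlg.IsRegularHom A B := by
  haveI := hAC.1
  haveI : Module.Flat A B := Groth.Agent.Lib.WeaklyEtale.flat_of_flat_of_faithfullyFlat A B C
  -- for every field `K` over `A` with `K ⊗_A C` Noetherian, `K ⊗_A B` is regular
  have key : ∀ (K : Type u) [Field K] [Algebra A K], IsNoetherianRing (K ⊗[A] C) →
      IsRegularRing (K ⊗[A] B) := by
    intro K _ _ hK
    have h1 : IsRegularRing (K ⊗[A] C) := isRegularRing_field_tensor_of_isRegularHom A C hAC K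
    have e1 : K ⊗[A] C ≃ₐ[A] C ⊗[A] K := Algebra.TensorProduct.comm A K C
    have e2 : C ⊗[B] (B ⊗[A] K) ≃ₐ[C] C ⊗[A] K := Algebra.TensorProduct.cancelBaseChange A B C C K
    have e3 : (B ⊗[A] K) ⊗[B] C ≃ₐ[B] C ⊗[B] (B ⊗[A] K) := Algebra.TensorProduct.comm B _ _
    have h2 : IsRegularRing ((B ⊗[A] K) ⊗[B] C) :=
      good_regular.of_equiv
        (e1.toRingEquiv.trans (e2.symm.toRingEquiv.trans e3.symm.toRingEquiv)) h1
    have h3 : IsRegularRing (B ⊗[A] K) :=
      good_regular.descent (A := B ⊗[A] K) (B := (B ⊗[A] K) ⊗[B] C) h2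
    exact good_regular.of_equiv (Algebra.TensorProduct.comm A B K).toRingEquiv h3
  refine ⟨inferInstance, fun p _ => ?_⟩
  haveI := (hAC.2 p).1
  refine ⟨good_regular.noeth (key p.ResidueField inferInstance), fun k' _ _ hfin => ?_⟩
  letI : Algebra A k' :=
    ((algebraMap p.ResidueField k').comp (algebraMap A p.ResidueField)).toAlgebra
  haveI : IsScalarTower A p.ResidueField k' := IsScalarTower.of_algebraMap_eq (fun x => rfl)
  haveI : IsNoetherianRing (k' ⊗[p.ResidueField] (p.Fiber C)) := by
    haveI : IsNoetherianRing ((p.Fiber C) ⊗[p.ResidueField] k') :=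
      IsNoetherianRing.of_finite (p.Fiber C) _
    exact isNoetherianRing_of_ringEquiv _
      (Algebra.TensorProduct.comm p.ResidueField (p.Fiber C) k').toRingEquiv
  haveI : IsNoetherianRing (k' ⊗[A] C) := isNoetherianRing_of_ringEquiv _
    (Algebra.TensorProduct.cancelBaseChange A p.ResidueField p.ResidueField k' C).toRingEquiv
  exact good_regular.of_equiv
    (Algebra.TensorProduct.cancelBaseChange A p.ResidueField p.ResidueField k' B).symm.toRingEquiv
    (key k' inferInstance)

end Groth.Agent.Lib.H14GeomP
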