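import Mathlib.RingTheory.Flat.FaithfullyFlat.Algebra
import Mathlib.RingTheory.IntegralClosure.IntegrallyClosed
import Mathlib.RingTheory.Localization.FractionRing
import Mathlib.RingTheory.RingHom.Flat

/-!
Descent of ring properties along faithfully flat ring maps.
-/

set_option autoImplicit false
universe u v

namespace Groth.Agent.Lib.FlatDescent

variable (A : Type u) (B : Type v) [CommRing A] [CommRing B] [Algebra A B]

/-- A ring with a faithfully flat algebra that is a domain is a domain. -/
theorem isDomain_of_faithfullyFlat [Module.FaithfullyFlat A B] [IsDomain B] : IsDomain A :=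
  (FaithfulSMul.algebraMap_injective A B).isDomain

attribute [local instance] FractionRing.liftAlgebra in
/-- Being an integrally closed domain descends along faithfully flat ring maps. -/
theorem isIntegrallyClosed_of_faithfullyFlat [Module.FaithfullyFlat A B] [IsDomain B]
    [IsIntegrallyClosed B] : IsIntegrallyClosed A := by
  have hA : IsDomain A := isDomain_of_faithfullyFlat A B
  let K := FractionRing A
  let L := FractionRing B
  rw [isIntegrallyClosed_iff K]
  intro x hx
  obtain ⟨a, b, hb, rfl⟩ := IsFractionRing.div_surjective (A := A) x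
  have hb0 : b ≠ 0 := nonZeroDivisors.ne_zero hb
  -- image in L is integral over B
  have h1 : IsIntegral A (algebraMap K L (algebraMap A K a / algebraMap A K b)) :=
    hx.map (IsScalarTower.toAlgHom A K L)
  have h2 : IsIntegral B (algebraMap K L (algebraMap A K a / algebraMap A K b)) :=
    h1.tower_top
  obtain ⟨c, hc⟩ := (IsIntegrallyClosed.isIntegral_iff (R := B) (K := L)).mp h2
  have hbL : algebraMap B L (algebraMap A B b) ≠ 0 := by
    rw [Ne, map_eq_zero_iff _ (IsFractionRing.injective B L),
      map_eq_zero_iff _ (FaithfulSMul.algebraMap_injective A B)]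
    exact hb0
  have h3 : c * algebraMap A B b = algebraMap A B a := by
    apply IsFractionRing.injective B L
    rw [map_mul, hc, map_div₀, ← IsScalarTower.algebraMap_apply A K L,
      ← IsScalarTower.algebraMap_apply A K L, IsScalarTower.algebraMap_apply A B L,
      IsScalarTower.algebraMap_apply A B L, div_mul_cancel₀ _ hbL]
  have h4 : a ∈ (Ideal.span {b} : Ideal A) := by
    rw [← Ideal.comap_map_eq_self_of_faithfullyFlat (B := B) (Ideal.span {b}), Ideal.mem_comap,
      Ideal.map_span, Set.image_singleton, Ideal.mem_span_singleton']
    exact ⟨c, h3⟩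
  obtain ⟨d, hd⟩ := Ideal.mem_span_singleton'.mp h4
  refine ⟨d, ?_⟩
  have hbK : algebraMap A K b ≠ 0 := by
    rw [Ne, map_eq_zero_iff _ (IsFractionRing.injective A K)]
    exact hb0
  rw [eq_div_iff hbK, ← map_mul, hd]

end Groth.Agent.Lib.FlatDescent
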