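/-
helper14: normal homomorphisms (`EGA4.IsNormalHom`) between Noetherian rings: ascent and descent of
normality (for S19378 and relatives).

* `exists_fiber_prime_equiv` : the fibre local ring `EGA4.FibLocRing A B Q = B_Q/pB_Q` is the
  localization of the fibre ring `κ(p) ⊗ B` at a prime (from Mathlib's `Ideal.Fiber.algEquivAux₂`).
* `isNormalRing_of_isGeomNormal`, `normal_fibLocRing_of_isNormalHom`.
* `normal_atPrime_of_isNormalHom`, `isNormalRing_of_isNormalHom` : NORMAL ASCENT along a normal
  homomorphism of Noetherian rings.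
* `normal_atPrime_of_isNormalRing_localization` : `M⁻¹A` normal ring, `P` prime disjoint from `M`
  ⇒ `A_P` normal domain.  `isNormalRing_localization_of_atPrime` : converse.
* `normal_descent_atPrime` : `A → B` flat, `Q` prime of `B`, `B_Q` normal ⇒ `A_{Q∩A}` normal.
-/
import Mathlib
import Groth.Prelude.Def_EGA4b
import Groth.Agent.Lib.FibreBaseChangeApps
import Groth.Agent.Lib.H14FlatAscent
import Groth.Agent.Lib.FlatDescent

set_option autoImplicit false
set_option linter.style.haveILetI false
universe u

namespace Groth.Agent.Lib.H14NormalHom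

open IsLocalRing TensorProduct

/-- The fibre local ring `B_Q/pB_Q` is the localization of the fibre ring `κ(p) ⊗ B` at a prime. -/
theorem exists_fiber_prime_equiv (A B : Type u) [CommRing A] [CommRing B] [Algebra A B]
    (Q : Ideal B) [Q.IsPrime] :
    ∃ (q' : Ideal ((Q.under A).Fiber B)) (_ : q'.IsPrime),
      Nonempty (Localization.AtPrime q' ≃+* EGA4.FibLocRing A B Q) := by
  set p := Q.under A with hp
  let Q₀ : p.primesOver B := ⟨Q, ⟨inferInstance, ⟨rfl⟩⟩⟩
  let q' : PrimeSpectrum (p.Fiber B) := PrimeSpectrum.primesOverOrderIsoFiber A B p Q₀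
  have hq' : q'.asIdeal.comap (Algebra.TensorProduct.includeRight : B →ₐ[A] p.Fiber B) = Q := by
    have := (PrimeSpectrum.primesOverOrderIsoFiber A B p).symm_apply_apply Q₀
    have h2 := congrArg Subtype.val this
    rw [PrimeSpectrum.coe_primesOverOrderIsoFiber_symm_apply] at h2
    exact h2
  refine ⟨q'.asIdeal, q'.isPrime, ?_⟩
  have e := Ideal.Fiber.algEquivAux₂ p q'.asIdeal
  have key : ∀ (Q' : Ideal B) [Q'.IsPrime], Q' = Q →
      Nonempty (Localization.AtPrime q'.asIdeal ≃+*
        (Localization.AtPrime Q' ⧸ (p.map (algebraMap A B)).map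
          (algebraMap B (Localization.AtPrime Q')))) →
      Nonempty (Localization.AtPrime q'.asIdeal ≃+* EGA4.FibLocRing A B Q) := by
    intro Q' _ hQ' h
    subst hQ'
    obtain ⟨e'⟩ := h
    refine ⟨e'.trans (Ideal.quotEquivOfEq ?_)⟩
    rw [Ideal.map_map, ← IsScalarTower.algebraMap_eq]
  exact key _ hq' ⟨e.toRingEquiv⟩

/-- A geometrically normal algebra over a field is a normal ring. -/
theorem isNormalRing_of_isGeomNormal (k S : Type u) [Field k] [CommRing S] [Algebra k S]
    (h : EGA4.IsGeomNormal k S) : EGA4.IsNormalRing S :=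
  Groth.Agent.Lib.FibreBaseChangeApps.isNormalRing_of_ringEquiv
    (Algebra.TensorProduct.lid k S).toRingEquiv (h k inferInstance)

/-- The fibre local rings of a normal homomorphism are normal domains. -/
theorem normal_fibLocRing_of_isNormalHom (A B : Type u) [CommRing A] [CommRing B] [Algebra A B]
    (h : EGA4.IsNormalHom A B) (Q : Ideal B) [Q.IsPrime] :
    IsDomain (EGA4.FibLocRing A B Q) ∧ IsIntegrallyClosed (EGA4.FibLocRing A B Q) := by
  obtain ⟨q', hq', ⟨e⟩⟩ := exists_fiber_prime_equiv A B Q
  have hN := isNormalRing_of_isGeomNormal _ _ (h.2 (Q.under A))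
  obtain ⟨h1, h2⟩ := hN q'
  exact ⟨e.symm.toMulEquiv.isDomain _,
    @IsIntegrallyClosed.of_equiv (Localization.AtPrime q') _ _ _ e h2⟩

/-- **Normal ascent along a normal homomorphism** of Noetherian rings, at a prime. -/
theorem normal_atPrime_of_isNormalHom (A B : Type u) [CommRing A] [CommRing B]
    [IsNoetherianRing A] [IsNoetherianRing B] [Algebra A B] (h : EGA4.IsNormalHom A B)
    (q : Ideal B) [q.IsPrime]
    (hA : IsDomain (Localization.AtPrime (q.comap (algebraMap A B))) ∧
      IsIntegrallyClosed (Localization.AtPrime (q.comap (algebraMap A B)))) :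
    IsDomain (Localization.AtPrime q) ∧ IsIntegrallyClosed (Localization.AtPrime q) := by
  haveI := h.1
  haveI := hA.1
  haveI := hA.2
  exact Groth.Agent.Lib.H14FlatAscent.normal_ascent A B
    (fun Q _ => normal_fibLocRing_of_isNormalHom A B h Q) q

/-- A Noetherian ring which is normal over a normal Noetherian ring is normal. -/
theorem isNormalRing_of_isNormalHom (A B : Type u) [CommRing A] [CommRing B]
    [IsNoetherianRing A] [IsNoetherianRing B] [Algebra A B] (h : EGA4.IsNormalHom A B)
    (hA : EGA4.IsNormalRing A) : EGA4.IsNormalRing B := by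
  intro q _
  exact normal_atPrime_of_isNormalHom A B h q (hA _)

section localization

variable {A : Type u} [CommRing A]

/-- If `M⁻¹A` is a normal ring and `P` is a prime of `A` disjoint from `M`, then `A_P` is a normal
domain. -/
theorem normal_atPrime_of_isNormalRing_localization (M : Submonoid A)
    (h : EGA4.IsNormalRing (Localization M)) (P : Ideal A) [P.IsPrime]
    (hdisj : Disjoint (M : Set A) (P : Set A)) :
    IsDomain (Localization.AtPrime P) ∧ IsIntegrallyClosed (Localization.AtPrime P) := by
  set P' : Ideal (Localization M) := P.map (algebraMap A (Localization M)) with hP'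
  haveI hP'prime : P'.IsPrime :=
    IsLocalization.isPrime_of_isPrime_disjoint M _ P ‹_› hdisj
  have hcomap : P'.comap (algebraMap A (Localization M)) = P :=
    IsLocalization.under_map_of_isPrime_disjoint M _ ‹_› hdisj
  have h1 : IsLocalization.AtPrime (Localization.AtPrime P')
      (P'.comap (algebraMap A (Localization M))) := inferInstance
  have hsub : (P'.comap (algebraMap A (Localization M))).primeCompl = P.primeCompl := by
    ext x
    simp only [Ideal.mem_primeCompl_iff]
    rw [hcomap]
  have h2 : IsLocalization P.primeCompl (Localization.AtPrime P') := by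
    rw [← hsub]; exact h1
  let e : Localization.AtPrime P ≃ₐ[A] Localization.AtPrime P' :=
    IsLocalization.algEquiv P.primeCompl _ _
  obtain ⟨hd, hic⟩ := h P'
  exact ⟨e.toRingEquiv.toMulEquiv.isDomain _, IsIntegrallyClosed.of_equiv e.symm.toRingEquiv⟩

/-- If `A_P` is a normal domain for every prime `P` disjoint from `M`, then `M⁻¹A` is a normal
ring. -/
theorem isNormalRing_localization_of_atPrime (M : Submonoid A)
    (h : ∀ (P : Ideal A) [P.IsPrime], Disjoint (M : Set A) (P : Set A) →
      IsDomain (Localization.AtPrime P) ∧ IsIntegrallyClosed (Localization.AtPrime P)) :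
    EGA4.IsNormalRing (Localization M) := by
  intro P' _
  have hdisj : Disjoint (M : Set A) ((P'.comap (algebraMap A (Localization M)) : Ideal A) : Set A) :=
    ((IsLocalization.isPrime_iff_isPrime_disjoint M (Localization M) P').mp inferInstance).2
  obtain ⟨hd, hic⟩ := h (P'.comap (algebraMap A (Localization M))) hdisj
  let e := IsLocalization.localizationLocalizationAtPrimeIsoLocalization M P'
  exact ⟨e.symm.toRingEquiv.toMulEquiv.isDomain _, IsIntegrallyClosed.of_equiv e.toRingEquiv⟩

end localization

/-- Flat descent of normality at a prime. -/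
theorem normal_descent_atPrime (A B : Type u) [CommRing A] [CommRing B] [Algebra A B]
    [Module.Flat A B] (Q : Ideal B) [Q.IsPrime]
    (h : IsDomain (Localization.AtPrime Q) ∧ IsIntegrallyClosed (Localization.AtPrime Q)) :
    IsDomain (Localization.AtPrime (Q.under A)) ∧
      IsIntegrallyClosed (Localization.AtPrime (Q.under A)) := by
  letI := Localization.AtPrime.algebraOfLiesOver (Q.under A) Q
  haveI := Groth.Agent.Lib.H14FlatAscent.isLocalHom_localization A B Q
  haveI := Groth.Agent.Lib.H14FlatAscent.flat_localization A B Q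
  haveI : Module.FaithfullyFlat (Localization.AtPrime (Q.under A)) (Localization.AtPrime Q) :=
    Module.FaithfullyFlat.of_flat_of_isLocalHom
  haveI := h.1
  haveI := h.2
  exact ⟨Groth.Agent.Lib.FlatDescent.isDomain_of_faithfullyFlat _ (Localization.AtPrime Q),
    Groth.Agent.Lib.FlatDescent.isIntegrallyClosed_of_faithfullyFlat _ (Localization.AtPrime Q)⟩

end Groth.Agent.Lib.H14NormalHom
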