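import Groth.Agent.Lib.H30GeomNormalTensor
import Groth.Agent.Lib.H14NormalHom
import Mathlib

/-!
# Normal homomorphisms (EGA IV 6.8, 6.14) via fields

* `isNormalHom_iff_forall_field`: `A → B` is normal iff flat and `K ⊗[A] B` is a normal ring for
  EVERY field `K` over `A` (in the same universe).
* `isNormalHom_baseChange`, `isNormalHom_of_baseChange` (ff descent), `isNormalHom_comp`.
* `isReduced_tensor_of_isNormalHom`: reduced base change.
-/

set_option autoImplicit false
universe u
open TensorProduct

namespace Groth.Agent.Lib.H30NormalHom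
open Groth.Agent.Lib.H30GeomNormalTensor

/-- For a normal homomorphism `A → B` and ANY field `K` over `A`, `K ⊗[A] B` is a normal ring. -/
theorem isNormalRing_field_tensor_of_isNormalHom (A B : Type u) [CommRing A] [CommRing B]
    [Algebra A B] (h : EGA4.IsNormalHom A B) (K : Type u) [Field K] [Algebra A K] :
    EGA4.IsNormalRing (K ⊗[A] B) := by
  let p : Ideal A := RingHom.ker (algebraMap A K)
  haveI hp : p.IsPrime := RingHom.ker_isPrime _
  let σ : p.ResidueField →+* K := Ideal.ResidueField.lift p (algebraMap A K) le_rfl (by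
    intro x hx
    exact IsUnit.mk0 _ (fun h0 => hx (RingHom.mem_ker.mpr h0)))
  letI : Algebra p.ResidueField K := σ.toAlgebra
  haveI : IsScalarTower A p.ResidueField K := IsScalarTower.of_algebraMap_eq (fun x => by
    rw [RingHom.algebraMap_toAlgebra]
    exact (Ideal.ResidueField.lift_algebraMap p (algebraMap A K) _ _ x).symm)
  have h1 : EGA4.IsNormalRing (K ⊗[p.ResidueField] (p.ResidueField ⊗[A] B)) :=
    isNormalRing_field_tensor p.ResidueField (p.Fiber B) K (h.2 p)
  exact Groth.Agent.Lib.H30GeomNormal.isNormalRing_of_ringEquiv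
    (Algebra.TensorProduct.cancelBaseChange A p.ResidueField p.ResidueField K B).toRingEquiv h1

/-- Criterion for normal homomorphisms via fields. -/
theorem isNormalHom_of_forall_field (A B : Type u) [CommRing A] [CommRing B] [Algebra A B]
    [Module.Flat A B]
    (h : ∀ (K : Type u) [Field K] [Algebra A K], EGA4.IsNormalRing (K ⊗[A] B)) :
    EGA4.IsNormalHom A B := by
  refine ⟨inferInstance, fun p _ k' _ _ _ => ?_⟩
  letI : Algebra A k' := ((algebraMap p.ResidueField k').comp (algebraMap A p.ResidueField)).toAlgebra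
  haveI : IsScalarTower A p.ResidueField k' := IsScalarTower.of_algebraMap_eq (fun x => rfl)
  exact Groth.Agent.Lib.H30GeomNormal.isNormalRing_of_ringEquiv
    (Algebra.TensorProduct.cancelBaseChange A p.ResidueField p.ResidueField k' B).symm.toRingEquiv
    (h k')

theorem isNormalHom_iff_forall_field (A B : Type u) [CommRing A] [CommRing B] [Algebra A B] :
    EGA4.IsNormalHom A B ↔ Module.Flat A B ∧
      ∀ (K : Type u) [Field K] [Algebra A K], EGA4.IsNormalRing (K ⊗[A] B) :=
  ⟨fun h => ⟨h.1, fun K _ _ => isNormalRing_field_tensor_of_isNormalHom A B h K⟩,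
    fun h => by haveI := h.1; exact isNormalHom_of_forall_field A B h.2⟩


/-- Normal homomorphisms are stable under arbitrary base change. -/
theorem isNormalHom_baseChange (A B A' : Type u) [CommRing A] [CommRing B] [CommRing A']
    [Algebra A B] [Algebra A A'] (h : EGA4.IsNormalHom A B) :
    EGA4.IsNormalHom A' (A' ⊗[A] B) := by
  haveI := h.1
  apply isNormalHom_of_forall_field
  intro K _ _
  letI : Algebra A K := ((algebraMap A' K).comp (algebraMap A A')).toAlgebra
  haveI : IsScalarTower A A' K := IsScalarTower.of_algebraMap_eq (fun x => rfl)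
  exact Groth.Agent.Lib.H30GeomNormal.isNormalRing_of_ringEquiv
    (Algebra.TensorProduct.cancelBaseChange A A' A' K B).symm.toRingEquiv
    (isNormalRing_field_tensor_of_isNormalHom A B h K)

/-- A field extension `K'` of `K` carrying a compatible `A'`-algebra structure, for `A'`
faithfully flat over `A`. -/
theorem exists_field_over (A A' K : Type u) [CommRing A] [CommRing A'] [Algebra A A']
    [Module.FaithfullyFlat A A'] [Field K] [Algebra A K] :
    ∃ (K' : Type u) (_ : Field K') (_ : Algebra A K') (_ : Algebra A' K') (_ : Algebra K K'),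
      IsScalarTower A A' K' ∧ IsScalarTower A K K' := by
  obtain ⟨m, hm⟩ := Ideal.exists_maximal (A' ⊗[A] K)
  letI : Field ((A' ⊗[A] K) ⧸ m) := Ideal.Quotient.field m
  letI : Algebra K ((A' ⊗[A] K) ⧸ m) :=
    ((Ideal.Quotient.mk m).comp
      (Algebra.TensorProduct.includeRight : K →ₐ[A] A' ⊗[A] K).toRingHom).toAlgebra
  refine ⟨(A' ⊗[A] K) ⧸ m, inferInstance, inferInstance, inferInstance, inferInstance,
    inferInstance, ?_⟩
  refine IsScalarTower.of_algebraMap_eq (fun x => ?_)
  rw [RingHom.algebraMap_toAlgebra]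
  simp only [RingHom.coe_comp, Function.comp_apply, AlgHom.toRingHom_eq_coe, RingHom.coe_coe,
    AlgHom.commutes]
  rfl

/-- Normal homomorphisms descend along faithfully flat base change. -/
theorem isNormalHom_of_baseChange (A B A' : Type u) [CommRing A] [CommRing B] [CommRing A']
    [Algebra A B] [Algebra A A'] [Module.FaithfullyFlat A A']
    (h : EGA4.IsNormalHom A' (A' ⊗[A] B)) : EGA4.IsNormalHom A B := by
  haveI : Module.Flat A' (A' ⊗[A] B) := h.1
  haveI : Module.Flat A B := Module.Flat.of_flat_tensorProduct A B A'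
  apply isNormalHom_of_forall_field
  intro K _ _
  obtain ⟨K', _, _, _, _, _, _⟩ := exists_field_over A A' K
  have h1 : EGA4.IsNormalRing (K' ⊗[A'] (A' ⊗[A] B)) :=
    isNormalRing_field_tensor_of_isNormalHom A' (A' ⊗[A] B) h K'
  have h2 : EGA4.IsNormalRing (K' ⊗[A] B) :=
    Groth.Agent.Lib.H30GeomNormal.isNormalRing_of_ringEquiv
      (Algebra.TensorProduct.cancelBaseChange A A' A' K' B).toRingEquiv h1
  have h3 : EGA4.IsNormalRing (K' ⊗[K] (K ⊗[A] B)) :=
    Groth.Agent.Lib.H30GeomNormal.isNormalRing_of_ringEquiv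
      (Algebra.TensorProduct.cancelBaseChange A K K K' B).symm.toRingEquiv h2
  have h4 : EGA4.IsNormalRing ((K ⊗[A] B) ⊗[K] K') :=
    Groth.Agent.Lib.H30GeomNormal.isNormalRing_of_ringEquiv
      (Algebra.TensorProduct.comm K K' (K ⊗[A] B)).toRingEquiv h3
  exact isNormalRing_of_faithfullyFlat (K ⊗[A] B) ((K ⊗[A] B) ⊗[K] K') h4


/-- Reduced base change along a normal homomorphism, Noetherian case. -/
theorem isReduced_tensor_of_isNormalHom_of_isNoetherianRing (A A' B : Type u) [CommRing A]
    [CommRing A'] [Algebra A A'] (h : EGA4.IsNormalHom A A') [CommRing B] [Algebra A B]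
    [IsNoetherianRing B] [IsReduced B] : IsReduced (A' ⊗[A] B) := by
  classical
  haveI := h.1
  haveI : Finite ↥(minimalPrimes B) := (minimalPrimes.finite_of_isNoetherianRing B).to_subtype
  letI : Fintype ↥(minimalPrimes B) := Fintype.ofFinite _
  haveI hprime : ∀ q : ↥(minimalPrimes B), (q : Ideal B).IsPrime := fun q => q.2.1.1
  let κ : ↥(minimalPrimes B) → Type u := fun q => (q : Ideal B).ResidueField
  let f : B →ₐ[A] ∀ q, κ q := AlgHom.pi (fun q => IsScalarTower.toAlgHom A B (κ q))
  have hf : Function.Injective f := by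
    rw [injective_iff_map_eq_zero]
    intro b hb
    have h1 : ∀ q : ↥(minimalPrimes B), b ∈ (q : Ideal B) := by
      intro q
      have := congrFun hb q
      exact (Ideal.algebraMap_residueField_eq_zero (I := (q : Ideal B))).mp this
    have h2 : b ∈ sInf (minimalPrimes B) := by
      rw [Ideal.mem_sInf]
      intro p hp
      exact h1 ⟨p, hp⟩
    have h3 : sInf (minimalPrimes B) = (⊥ : Ideal B) := by
      rw [minimalPrimes, Ideal.sInf_minimalPrimes]
      exact nilradical_eq_zero B
    rw [h3] at h2
    exact h2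
  have hinj : Function.Injective (Algebra.TensorProduct.map (AlgHom.id A A') f) :=
    Module.Flat.lTensor_preserves_injective_linearMap (M := A') f.toLinearMap hf
  haveI : ∀ q : ↥(minimalPrimes B), IsReduced (A' ⊗[A] κ q) := fun q => by
    have h1 : EGA4.IsNormalRing (κ q ⊗[A] A') :=
      isNormalRing_field_tensor_of_isNormalHom A A' h (κ q)
    have h2 : EGA4.IsNormalRing (A' ⊗[A] κ q) :=
      Groth.Agent.Lib.H30GeomNormal.isNormalRing_of_ringEquiv
        (Algebra.TensorProduct.comm A (κ q) A').toRingEquiv h1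
    exact Groth.Agent.Lib.H30TensorNormal.isReduced_of_isNormalRing h2
  let g : A' ⊗[A] B →+* ∀ q, A' ⊗[A] κ q :=
    ((Algebra.TensorProduct.piRight A A A' κ).toAlgHom.comp
      (Algebra.TensorProduct.map (AlgHom.id A A') f)).toRingHom
  have hg : Function.Injective g :=
    (Algebra.TensorProduct.piRight A A A' κ).injective.comp hinj
  exact isReduced_of_injective g hg

/-- Reduced base change along a normal homomorphism from a Noetherian ring (EGA IV 6.14.2). -/
theorem isReduced_tensor_of_isNormalHom (A A' B : Type u) [CommRing A] [IsNoetherianRing A]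
    [CommRing A'] [Algebra A A'] (h : EGA4.IsNormalHom A A') [CommRing B] [Algebra A B]
    [IsReduced B] : IsReduced (A' ⊗[A] B) := by
  classical
  haveI := h.1
  constructor
  intro x hx
  obtain ⟨N', hN', hxN⟩ := TensorProduct.exists_finite_submodule_right_of_setFinite
    ({x} : Set (A' ⊗[A] B)) (Set.finite_singleton x)
  obtain ⟨t, ht⟩ := Module.Finite.iff_fg.mp hN'
  let B₀ : Subalgebra A B := Algebra.adjoin A (t : Set B)
  have hfg : B₀.FG := ⟨t, rfl⟩
  haveI : Algebra.FiniteType A B₀ := (Subalgebra.fg_iff_finiteType B₀).mp hfg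
  haveI : IsNoetherianRing B₀ := Algebra.FiniteType.isNoetherianRing A B₀
  haveI : IsReduced B₀ := isReduced_of_injective B₀.val Subtype.val_injective
  haveI : IsReduced (A' ⊗[A] B₀) := isReduced_tensor_of_isNormalHom_of_isNoetherianRing A A' B₀ h
  have hle : N' ≤ Subalgebra.toSubmodule B₀ := by
    rw [← ht]; exact Submodule.span_le.mpr Algebra.subset_adjoin
  obtain ⟨w, hw⟩ := hxN (Set.mem_singleton x)
  let ψ : A' ⊗[A] B₀ →ₐ[A] A' ⊗[A] B := Algebra.TensorProduct.map (AlgHom.id A A') B₀.val
  have hψ : Function.Injective ψ :=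
    Module.Flat.lTensor_preserves_injective_linearMap (M := A') B₀.val.toLinearMap
      Subtype.val_injective
  let x₀ : A' ⊗[A] B₀ := (Submodule.inclusion hle).lTensor A' w
  have hx₀ : ψ x₀ = x := by
    rw [← hw]
    have h1 : ∀ y, ψ y = (B₀.val.toLinearMap.lTensor A') y := fun y => rfl
    rw [h1]
    show (B₀.val.toLinearMap.lTensor A') ((Submodule.inclusion hle).lTensor A' w) = _
    rw [← LinearMap.lTensor_comp_apply]
    rfl
  have hnil : IsNilpotent x₀ := by
    obtain ⟨n, hn⟩ := hx
    refine ⟨n, hψ ?_⟩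
    rw [map_pow, hx₀, hn, map_zero]
  rw [← hx₀, IsReduced.eq_zero _ hnil, map_zero]


/-- `B ⊗[A] K` is Noetherian for `B` Noetherian and `K` essentially of finite type over `A`. -/
theorem isNoetherianRing_tensor_of_essFiniteType (A B K : Type u) [CommRing A] [CommRing B]
    [Algebra A B] [IsNoetherianRing B] [CommRing K] [Algebra A K] [Algebra.EssFiniteType A K] :
    IsNoetherianRing (B ⊗[A] K) :=
  Algebra.EssFiniteType.isNoetherianRing B (B ⊗[A] K)

/-- Composition of normal homomorphisms (EGA IV 6.8.3), `B` and `C` Noetherian. -/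
theorem isNormalHom_comp (A B C : Type u) [CommRing A] [CommRing B] [CommRing C]
    [IsNoetherianRing B] [IsNoetherianRing C] [Algebra A B] [Algebra B C] [Algebra A C]
    [IsScalarTower A B C] (hAB : EGA4.IsNormalHom A B) (hBC : EGA4.IsNormalHom B C) :
    EGA4.IsNormalHom A C := by
  haveI := hAB.1
  haveI := hBC.1
  refine ⟨Module.Flat.trans A B C, fun p _ k' _ _ hfin => ?_⟩
  letI : Algebra A k' := ((algebraMap p.ResidueField k').comp (algebraMap A p.ResidueField)).toAlgebra
  haveI : IsScalarTower A p.ResidueField k' := IsScalarTower.of_algebraMap_eq (fun x => rfl)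
  haveI : Algebra.EssFiniteType A k' := Algebra.EssFiniteType.comp A p.ResidueField k'
  -- F' = B ⊗ k'
  have hF : EGA4.IsNormalRing (B ⊗[A] k') :=
    Groth.Agent.Lib.H30GeomNormal.isNormalRing_of_ringEquiv
      (Algebra.TensorProduct.comm A k' B).toRingEquiv
      (isNormalRing_field_tensor_of_isNormalHom A B hAB k')
  haveI : IsNoetherianRing (B ⊗[A] k') := isNoetherianRing_tensor_of_essFiniteType A B k'
  have hNH : EGA4.IsNormalHom (B ⊗[A] k') ((B ⊗[A] k') ⊗[B] C) :=
    isNormalHom_baseChange B C (B ⊗[A] k') hBC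
  -- (B ⊗ k') ⊗_B C ≃ C ⊗_A k'
  let e : (B ⊗[A] k') ⊗[B] C ≃ₐ[B] C ⊗[A] k' :=
    (Algebra.TensorProduct.comm B (B ⊗[A] k') C).trans
      (Algebra.TensorProduct.cancelBaseChange A B B C k')
  haveI : IsNoetherianRing (C ⊗[A] k') := isNoetherianRing_tensor_of_essFiniteType A C k'
  haveI : IsNoetherianRing ((B ⊗[A] k') ⊗[B] C) :=
    isNoetherianRing_of_ringEquiv _ e.symm.toRingEquiv
  have hG : EGA4.IsNormalRing ((B ⊗[A] k') ⊗[B] C) :=
    Groth.Agent.Lib.H14NormalHom.isNormalRing_of_isNormalHom _ _ hNH hF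
  have h1 : EGA4.IsNormalRing (C ⊗[A] k') :=
    Groth.Agent.Lib.H30GeomNormal.isNormalRing_of_ringEquiv e.toRingEquiv hG
  have h2 : EGA4.IsNormalRing (k' ⊗[A] C) :=
    Groth.Agent.Lib.H30GeomNormal.isNormalRing_of_ringEquiv
      (Algebra.TensorProduct.comm A C k').toRingEquiv h1
  exact Groth.Agent.Lib.H30GeomNormal.isNormalRing_of_ringEquiv
    (Algebra.TensorProduct.cancelBaseChange A p.ResidueField p.ResidueField k' C).symm.toRingEquiv h2


end Groth.Agent.Lib.H30NormalHom
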