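/-
helper14: EGA IV 7.3.4-type results: `A → A'` local `P`-homomorphism of Noetherian local rings with
`A' → Â'` regular ⇒ the formal fibres of `A` are `P` (P = regular, normal, reduced).

* `isNoetherianRing_fiber`, `isScalarTower_cplMap`
* `isRegularHom_cpl_of_isRegularHom_to_local` (S4704)
* `isNormalRing_of_isRegularRing`, `isNormalHom_of_isRegularHom`, `isNormalHom_of_comp_faithfullyFlat`
* `hasGeomNormalFormalFibres_of_isNormalHom_to_local` (S4706)
* `hasGeomReducedFormalFibres_of_reduced_hom_to_local` (S4705)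
-/
import Mathlib
import Groth.Agent.Lib.H14ComplFlat
import Groth.Agent.Lib.H14GeomP8
import Groth.Agent.Lib.H30NormalHom
import Groth.Agent.Lib.H14NorOpen
import Groth.Agent.S9294

set_option autoImplicit false
set_option linter.style.haveILetI false
universe u

namespace Groth.Agent.Lib.H14ComplFlat

open TensorProduct IsLocalRing EGA4

/-- Fibre rings of a Noetherian algebra are Noetherian. -/
theorem isNoetherianRing_fiber (A C : Type u) [CommRing A] [CommRing C] [Algebra A C]
    [IsNoetherianRing C] (p : Ideal A) [p.IsPrime] : IsNoetherianRing (p.Fiber C) := by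
  haveI : IsNoetherianRing (C ⊗[A] p.ResidueField) :=
    Algebra.EssFiniteType.isNoetherianRing C (C ⊗[A] p.ResidueField)
  exact isNoetherianRing_of_ringEquiv _ (Algebra.TensorProduct.comm A C p.ResidueField).toRingEquiv

section

variable (A B : Type u) [CommRing A] [CommRing B] [IsNoetherianRing A] [IsNoetherianRing B]
  [IsLocalRing A] [IsLocalRing B] [Algebra A B] [IsLocalHom (algebraMap A B)]

/-- The tower `A → Â → B̂` for the algebra structure given by `cplMap`. -/
theorem isScalarTower_cplMap :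
    @IsScalarTower A (AdicCompletion (maximalIdeal A) A) (AdicCompletion (maximalIdeal B) B) _
      (cplMap A B).toAlgebra.toSMul _ := by
  letI alg : Algebra (AdicCompletion (maximalIdeal A) A) (AdicCompletion (maximalIdeal B) B) :=
    (cplMap A B).toAlgebra
  exact IsScalarTower.of_algebraMap_eq (fun a => by
    rw [RingHom.algebraMap_toAlgebra, cplMap_algebraMap]
    rfl)

/-- EGA IV 7.3.4 for regular homs: `A → A'` regular local, `A' → Â'` regular ⇒ `A → Â` regular. -/
theorem isRegularHom_cpl_of_isRegularHom_to_local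
    (hf : CAlg.IsRegularHom A B) (hB : CAlg.IsRegularHom B (Cpl B)) :
    CAlg.IsRegularHom A (Cpl A) := by
  haveI : Module.Flat A B := hf.1
  letI alg : Algebra (Cpl A) (Cpl B) := (cplMap A B).toAlgebra
  haveI : IsScalarTower A (Cpl A) (Cpl B) := isScalarTower_cplMap A B
  haveI : Module.FaithfullyFlat (Cpl A) (Cpl B) := cplMap_faithfullyFlat A B
  haveI : IsNoetherianRing (Cpl B) := Groth.Agent.Lib.AdicNoeth.isNoetherianRing_adicCompletion _
  have hcomp : CAlg.IsRegularHom A (Cpl B) :=
    Groth.Agent.S9294.result A B (Cpl B) hf hB (fun p _ => isNoetherianRing_fiber A (Cpl B) p)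
  exact Groth.Agent.Lib.H14GeomP.isRegularHom_of_comp_faithfullyFlat A (Cpl A) (Cpl B) hcomp

end


/-- A regular ring is a normal ring. -/
theorem isNormalRing_of_isRegularRing (R : Type u) [CommRing R] (h : IsRegularRing R) :
    EGA4.IsNormalRing R := by
  intro p _
  haveI : IsRegularLocalRing (Localization.AtPrime p) := (isRegularRing_iff.mp h) p
  exact Groth.Agent.Lib.H14NorOpen.normal_of_isRegularLocalRing _

/-- A regular homomorphism is a normal homomorphism. -/
theorem isNormalHom_of_isRegularHom (A B : Type u) [CommRing A] [CommRing B] [Algebra A B]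
    (h : CAlg.IsRegularHom A B) : EGA4.IsNormalHom A B :=
  ⟨h.1, fun p _ k' _ _ hfin => isNormalRing_of_isRegularRing _ ((h.2 p).2 k' hfin)⟩

/-- If `A → C` is normal and `B → C` is faithfully flat then `A → B` is normal. -/
theorem isNormalHom_of_comp_faithfullyFlat (A B C : Type u) [CommRing A] [CommRing B] [CommRing C]
    [Algebra A B] [Algebra B C] [Algebra A C] [IsScalarTower A B C]
    (hAC : EGA4.IsNormalHom A C) [Module.FaithfullyFlat B C] : EGA4.IsNormalHom A B := by
  haveI := hAC.1
  haveI : Module.Flat A B := Groth.Agent.Lib.WeaklyEtale.flat_of_flat_of_faithfullyFlat A B C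
  apply Groth.Agent.Lib.H30NormalHom.isNormalHom_of_forall_field
  intro K _ _
  have h1 : EGA4.IsNormalRing (K ⊗[A] C) :=
    Groth.Agent.Lib.H30NormalHom.isNormalRing_field_tensor_of_isNormalHom A C hAC K
  have e1 : K ⊗[A] C ≃ₐ[A] C ⊗[A] K := Algebra.TensorProduct.comm A K C
  have e2 : C ⊗[B] (B ⊗[A] K) ≃ₐ[C] C ⊗[A] K := Algebra.TensorProduct.cancelBaseChange A B C C K
  have e3 : (B ⊗[A] K) ⊗[B] C ≃ₐ[B] C ⊗[B] (B ⊗[A] K) := Algebra.TensorProduct.comm B _ _
  have h2 : EGA4.IsNormalRing ((B ⊗[A] K) ⊗[B] C) :=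
    Groth.Agent.Lib.H30GeomNormal.isNormalRing_of_ringEquiv
      (e1.toRingEquiv.trans (e2.symm.toRingEquiv.trans e3.symm.toRingEquiv)) h1
  have h3 : EGA4.IsNormalRing (B ⊗[A] K) :=
    Groth.Agent.Lib.H30GeomNormalTensor.isNormalRing_of_faithfullyFlat (B ⊗[A] K)
      ((B ⊗[A] K) ⊗[B] C) h2
  exact Groth.Agent.Lib.H30GeomNormal.isNormalRing_of_ringEquiv
    (Algebra.TensorProduct.comm A B K).toRingEquiv h3


section normal

variable (A B : Type u) [CommRing A] [CommRing B] [IsNoetherianRing A] [IsNoetherianRing B]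
  [IsLocalRing A] [IsLocalRing B] [Algebra A B] [IsLocalHom (algebraMap A B)]

/-- EGA IV 7.3.4 for normal homs. -/
theorem hasGeomNormalFormalFibres_of_isNormalHom_to_local
    (hf : EGA4.IsNormalHom A B) (hB : CAlg.IsRegularHom B (Cpl B)) :
    EGA4.HasGeomNormalFormalFibres A := by
  haveI : Module.Flat A B := hf.1
  letI alg : Algebra (Cpl A) (Cpl B) := (cplMap A B).toAlgebra
  haveI : IsScalarTower A (Cpl A) (Cpl B) := isScalarTower_cplMap A B
  haveI : Module.FaithfullyFlat (Cpl A) (Cpl B) := cplMap_faithfullyFlat A B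
  haveI : IsNoetherianRing (Cpl B) := Groth.Agent.Lib.AdicNoeth.isNoetherianRing_adicCompletion _
  have hcomp : EGA4.IsNormalHom A (Cpl B) :=
    Groth.Agent.Lib.H30NormalHom.isNormalHom_comp A B (Cpl B) hf
      (isNormalHom_of_isRegularHom B (Cpl B) hB)
  have h : EGA4.IsNormalHom A (Cpl A) := isNormalHom_of_comp_faithfullyFlat A (Cpl A) (Cpl B) hcomp
  exact fun p _ => h.2 p

/-- EGA IV 7.3.4 for geometrically reduced fibres. -/
theorem hasGeomReducedFormalFibres_of_reduced_hom_to_local [Module.Flat A B]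
    (hf : ∀ (p : Ideal A) [p.IsPrime], Algebra.IsGeometricallyReduced p.ResidueField (p.Fiber B))
    (hB : CAlg.IsRegularHom B (Cpl B)) : EGA4.HasGeomReducedFormalFibres A := by
  letI alg : Algebra (Cpl A) (Cpl B) := (cplMap A B).toAlgebra
  haveI : IsScalarTower A (Cpl A) (Cpl B) := isScalarTower_cplMap A B
  haveI : Module.FaithfullyFlat (Cpl A) (Cpl B) := cplMap_faithfullyFlat A B
  intro p _
  haveI := hf p
  rw [Algebra.isGeometricallyReduced_field_iff]
  set K := AlgebraicClosure p.ResidueField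
  -- `K ⊗_A B` is reduced
  haveI h1 : IsReduced (K ⊗[p.ResidueField] (p.Fiber B)) := inferInstance
  haveI h2 : IsReduced (K ⊗[A] B) :=
    isReduced_of_injective
      (Algebra.TensorProduct.cancelBaseChange A p.ResidueField p.ResidueField K B).symm.toRingHom
      (Algebra.TensorProduct.cancelBaseChange A p.ResidueField p.ResidueField K B).symm.injective
  haveI h2' : IsReduced (B ⊗[A] K) :=
    isReduced_of_injective (Algebra.TensorProduct.comm A B K).toRingHom
      (Algebra.TensorProduct.comm A B K).injective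
  -- `B̂ ⊗_A K` is reduced
  haveI h3 : IsReduced ((Cpl B) ⊗[B] (B ⊗[A] K)) :=
    Groth.Agent.Lib.H30NormalHom.isReduced_tensor_of_isNormalHom B (Cpl B) (B ⊗[A] K)
      (isNormalHom_of_isRegularHom B (Cpl B) hB)
  haveI h4 : IsReduced ((Cpl B) ⊗[A] K) :=
    isReduced_of_injective
      (Algebra.TensorProduct.cancelBaseChange A B (Cpl B) (Cpl B) K).symm.toRingHom
      (Algebra.TensorProduct.cancelBaseChange A B (Cpl B) (Cpl B) K).symm.injective
  -- descend to `Â ⊗_A K`
  haveI h5 : IsReduced ((Cpl B) ⊗[Cpl A] ((Cpl A) ⊗[A] K)) :=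
    isReduced_of_injective
      (Algebra.TensorProduct.cancelBaseChange A (Cpl A) (Cpl B) (Cpl B) K).toRingHom
      (Algebra.TensorProduct.cancelBaseChange A (Cpl A) (Cpl B) (Cpl B) K).injective
  haveI h6 : IsReduced (((Cpl A) ⊗[A] K) ⊗[Cpl A] (Cpl B)) :=
    isReduced_of_injective (Algebra.TensorProduct.comm (Cpl A) _ _).toRingHom
      (Algebra.TensorProduct.comm (Cpl A) _ _).injective
  haveI h7 : IsReduced ((Cpl A) ⊗[A] K) :=
    isReduced_of_injective (algebraMap ((Cpl A) ⊗[A] K) (((Cpl A) ⊗[A] K) ⊗[Cpl A] (Cpl B)))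
      (by
        haveI : Module.FaithfullyFlat ((Cpl A) ⊗[A] K) (((Cpl A) ⊗[A] K) ⊗[Cpl A] (Cpl B)) :=
          inferInstance
        exact (RingHom.FaithfullyFlat.injective (RingHom.faithfullyFlat_algebraMap_iff.mpr this)))
  haveI h8 : IsReduced (K ⊗[A] (Cpl A)) :=
    isReduced_of_injective (Algebra.TensorProduct.comm A K (Cpl A)).toRingHom
      (Algebra.TensorProduct.comm A K (Cpl A)).injective
  exact isReduced_of_injective
    (Algebra.TensorProduct.cancelBaseChange A p.ResidueField p.ResidueField K (Cpl A)).toRingHom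
    (Algebra.TensorProduct.cancelBaseChange A p.ResidueField p.ResidueField K (Cpl A)).injective

end normal

end Groth.Agent.Lib.H14ComplFlat
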