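/-
helper14: transport of regular homs along target isos; `A → B` regular when `Â → B̂` bijective and
`A → Â` regular (`isRegularHom_of_cplMap_bijective`). Used for S0600.
-/
import Mathlib
import Groth.Agent.Lib.H14AdicLocal
import Groth.Agent.Lib.H14ComplFlat2
import Groth.Agent.S9259

set_option autoImplicit false
set_option linter.style.haveILetI false
universe u

namespace Groth.Agent.Lib.H14AdicLocal

open IsLocalRing TensorProduct EGA4 Groth.Agent.Lib.H14ComplFlat

/-- Transport of regular homomorphisms along an isomorphism of the target. -/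
theorem isRegularHom_of_algEquiv (A B C : Type u) [CommRing A] [CommRing B] [CommRing C]
    [Algebra A B] [Algebra A C] (e : B ≃ₐ[A] C) (h : CAlg.IsRegularHom A B) :
    CAlg.IsRegularHom A C := by
  haveI := h.1
  haveI : Module.Flat A C := Module.Flat.of_linearEquiv e.toLinearEquiv.symm
  refine Groth.Agent.S9259.crit_mpr A C (fun K _ _ hK => ?_)
  have h1 := Groth.Agent.S9259.crit_mp A B h K hK
  exact Groth.Agent.Lib.H14GeomP.good_regular.of_equiv
    (Algebra.TensorProduct.congr (AlgEquiv.refl (R := A) (A₁ := K)) e).toRingEquiv h1

section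
variable (A B : Type u) [CommRing A] [CommRing B] [IsNoetherianRing A] [IsNoetherianRing B]
  [IsLocalRing A] [IsLocalRing B] [Algebra A B] [IsLocalHom (algebraMap A B)]

/-- The completed map as an `A`-algebra equivalence when it is bijective. -/
noncomputable def cplEquiv (h : Function.Bijective (cplMap A B)) : Cpl A ≃ₐ[A] Cpl B :=
  AlgEquiv.ofBijective
    { toRingHom := cplMap A B
      commutes' := fun a => by
        show cplMap A B (algebraMap A (Cpl A) a) = algebraMap A (Cpl B) a
        rw [cplMap_algebraMap]
        rfl } h

/-- If `Â → B̂` is bijective and `A → Â` is regular then `A → B` is regular. -/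
theorem isRegularHom_of_cplMap_bijective (h : Function.Bijective (cplMap A B))
    (hA : CAlg.IsRegularHom A (Cpl A)) : CAlg.IsRegularHom A B := by
  have h1 : CAlg.IsRegularHom A (Cpl B) := isRegularHom_of_algEquiv A (Cpl A) (Cpl B) (cplEquiv A B h) hA
  haveI : IsScalarTower A B (Cpl B) := IsScalarTower.of_algebraMap_eq (fun a => rfl)
  haveI : Module.FaithfullyFlat B (Cpl B) := Module.FaithfullyFlat.of_flat_of_isLocalHom
  exact Groth.Agent.Lib.H14GeomP.isRegularHom_of_comp_faithfullyFlat A B (Cpl B) h1

end

end Groth.Agent.Lib.H14AdicLocal
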