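/-
helper14: quasi-finite local algebras and completions.

For a local homomorphism `A → B` of Noetherian local rings, `B' = B ⊗_A Â`, `J = 𝔪_B B'` is a
maximal ideal and for `C = B'_J` the completed map `B̂ → Ĉ` is bijective (`cplMap_bijective_C`).
If moreover `𝔪_B ⊆ rad(𝔪_A B)` and the residue extension is finite (quasi-finite case) then
`C` is finite over `Â` (`finite_C`), complete (`isAdicComplete_C`) and hence `B̂ ≅ C` as
`B`-algebras (`cplEquivC`).

Also: `isPrecomplete_of_surjective`, `isAdicComplete_of_le_of_pow_le`, `finite_of_primary'`.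
-/
import Mathlib
import Groth.Agent.Lib.H14AdicLocal
import Groth.Agent.Lib.AdicPi
import Groth.Prelude.Def_EGA4b

set_option autoImplicit false
set_option linter.style.haveILetI false
set_option linter.unusedSectionVars false
universe u

namespace Groth.Agent.Lib.H14QFCompl

open IsLocalRing TensorProduct EGA4


section adic

variable {R : Type*} [CommRing R] (I J : Ideal R) (M : Type*) [AddCommGroup M] [Module R M]

/-- Precompleteness passes to quotients. -/
theorem isPrecomplete_of_surjective {N : Type*}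
    [AddCommGroup N] [Module R N] [IsPrecomplete I M]
    (f : M →ₗ[R] N) (hf : Function.Surjective f) : IsPrecomplete I N := by
  rw [← AdicCompletion.of_surjective_iff]
  intro y
  obtain ⟨x, rfl⟩ := AdicCompletion.map_surjective I hf y
  obtain ⟨m, rfl⟩ := AdicCompletion.of_surjective I M x
  exact ⟨f m, (AdicCompletion.map_of I f m).symm⟩

/-- Adic completeness only depends on the topology: if `I ≤ J` and `J ^ N ≤ I`, then `I`-adically
complete modules are `J`-adically complete. -/
theorem isAdicComplete_of_le_of_pow_le (hIJ : I ≤ J) (N : ℕ) (hN : J ^ N ≤ I)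
    [IsAdicComplete I M] : IsAdicComplete J M := by
  have hN' : ∀ n : ℕ, J ^ (n * (N + 1)) ≤ I ^ n := by
    intro n
    rw [mul_comm, pow_mul]
    exact Ideal.pow_right_mono ((Ideal.pow_le_pow_right (Nat.le_succ N)).trans hN) n
  have hle : ∀ n : ℕ, (J ^ (n * (N + 1)) • ⊤ : Submodule R M) ≤ I ^ n • ⊤ :=
    fun n => Submodule.smul_mono_left (hN' n)
  have hle' : ∀ n : ℕ, (I ^ n • ⊤ : Submodule R M) ≤ J ^ n • ⊤ :=
    fun n => Submodule.smul_mono_left (Ideal.pow_right_mono hIJ n)
  refine { haus' := ?_, prec' := ?_ }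
  · intro x hx
    refine IsHausdorff.haus' (I := I) x (fun n => ?_)
    have := hx (n * (N + 1))
    rw [SModEq.zero] at this ⊢
    exact hle n this
  · intro f hf
    have hg : ∀ {m n : ℕ}, m ≤ n →
        f (m * (N + 1)) ≡ f (n * (N + 1)) [SMOD (I ^ m • ⊤ : Submodule R M)] := by
      intro m n hmn
      have := hf (Nat.mul_le_mul_right (N + 1) hmn)
      rw [SModEq.sub_mem] at this ⊢
      exact hle m this
    obtain ⟨L, hL⟩ := IsPrecomplete.prec' (I := I) (fun n => f (n * (N + 1))) hg
    refine ⟨L, fun n => ?_⟩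
    have h1 : f n ≡ f (n * (N + 1)) [SMOD (J ^ n • ⊤ : Submodule R M)] :=
      hf (Nat.le_mul_of_pos_right n (Nat.succ_pos N))
    have h2 : f (n * (N + 1)) ≡ L [SMOD (J ^ n • ⊤ : Submodule R M)] := by
      have := hL n
      rw [SModEq.sub_mem] at this ⊢
      exact hle' n this
    exact h1.trans h2

end adic



section primary

variable {P R : Type*} [CommRing P] [IsLocalRing P] [CommRing R] [IsLocalRing R]
  [IsNoetherianRing R] [Algebra P R]

theorem isHausdorff_of_map_le
    (hloc : (maximalIdeal P).map (algebraMap P R) ≤ maximalIdeal R) :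
    IsHausdorff (maximalIdeal P) R := by
  have hne : (maximalIdeal P).map (algebraMap P R) ≠ ⊤ := fun h =>
    (maximalIdeal.isMaximal R).ne_top (top_le_iff.mp (h ▸ hloc))
  rw [← IsHausdorff.map_algebraMap_iff (S := R)]
  exact IsHausdorff.of_isLocalRing _ _ hne

/-- A local homomorphism `P → R` from a complete local ring to a Noetherian local ring with
`𝔪_P R` primary to `𝔪_R` and finite residue field extension is finite. (Generalizes helper89's
`CohenStructure.finite_of_primary`.) -/
theorem finite_of_primary' [IsPrecomplete (maximalIdeal P) P]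
    (hloc : (maximalIdeal P).map (algebraMap P R) ≤ maximalIdeal R)
    (hrad : maximalIdeal R ≤ ((maximalIdeal P).map (algebraMap P R)).radical)
    [hfinres : Module.Finite P (ResidueField R)] : Module.Finite P R := by
  have hH : IsHausdorff (maximalIdeal P) R := isHausdorff_of_map_le hloc
  -- the quotient by `q = 𝔪_P R` is a finite `P`-module
  have hfq : Module.Finite P (R ⧸ (maximalIdeal P).map (algebraMap P R)) := by
    let f : (R ⧸ (maximalIdeal P).map (algebraMap P R)) →ₐ[P] ResidueField R :=
      Ideal.Quotient.liftₐ _ (IsScalarTower.toAlgHom P R (ResidueField R))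
        (fun a ha => by
          change residue R a = 0
          rw [residue_eq_zero_iff]
          exact hloc ha)
    have hf : ∀ a : R, f (Ideal.Quotient.mk _ a) = residue R a := fun a => rfl
    have hker : RingHom.ker f =
        (maximalIdeal R).map (Ideal.Quotient.mk ((maximalIdeal P).map (algebraMap P R))) := by
      ext y
      obtain ⟨a, rfl⟩ := Ideal.Quotient.mk_surjective y
      rw [RingHom.mem_ker, hf, residue_eq_zero_iff]
      constructor
      · intro ha
        exact Ideal.mem_map_of_mem _ ha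
      · intro ha
        rw [Ideal.mem_map_iff_of_surjective _ Ideal.Quotient.mk_surjective] at ha
        obtain ⟨b, hb, hba⟩ := ha
        rw [Ideal.Quotient.eq] at hba
        have : a = b - (b - a) := by ring
        rw [this]
        exact Ideal.sub_mem _ hb (hloc hba)
    refine Module.finite_of_surjective_of_ker_le_nilradical f ?_ ?_ ?_
    · intro y
      obtain ⟨a, rfl⟩ := residue_surjective y
      exact ⟨Ideal.Quotient.mk _ a, hf a⟩
    · rw [hker, Ideal.map_le_iff_le_comap]
      intro a ha
      obtain ⟨n, hn⟩ := hrad ha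
      rw [Ideal.mem_comap, mem_nilradical]
      refine ⟨n, ?_⟩
      rw [← map_pow]
      exact Ideal.Quotient.eq_zero_iff_mem.mpr hn
    · rw [hker]
      exact Ideal.FG.map (IsNoetherian.noetherian _) _
  apply Groth.Agent.Lib.AdicPi.finite_of_finite_quotient (maximalIdeal P) R
  have hJ : (maximalIdeal P • ⊤ : Submodule P R) =
      ((maximalIdeal P).map (algebraMap P R)).restrictScalars P := Ideal.smul_top_eq_map _
  have e1 := Submodule.Quotient.restrictScalarsEquiv P ((maximalIdeal P).map (algebraMap P R))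
  have e3 := Submodule.quotEquivOfEq _ _ hJ
  exact Module.Finite.equiv (e3.trans e1).symm

end primary



section tensorCpl

variable (A B : Type u) [CommRing A] [CommRing B] [IsNoetherianRing A] [IsNoetherianRing B]
  [IsLocalRing A] [IsLocalRing B] [Algebra A B] [IsLocalHom (algebraMap A B)]

/-- The ideal `𝔪_B (B ⊗_A Â)`. -/
noncomputable def J : Ideal (B ⊗[A] Cpl A) :=
  (maximalIdeal B).map (algebraMap B (B ⊗[A] Cpl A))

theorem tmul_mem_J (b : B) (e : Cpl A)
    (he : e ∈ (maximalIdeal A).map (algebraMap A (Cpl A))) : b ⊗ₜ[A] e ∈ J A B := by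
  refine Submodule.span_induction (p := fun e _ => b ⊗ₜ[A] e ∈ J A B) ?_ ?_ ?_ ?_ he
  · rintro _ ⟨a, ha, rfl⟩
    have h3 : b ⊗ₜ[A] (algebraMap A (Cpl A) a) =
        algebraMap B (B ⊗[A] Cpl A) (algebraMap A B a * b) := by
      rw [Algebra.TensorProduct.algebraMap_apply, Algebra.algebraMap_self, RingHom.id_apply,
        Algebra.algebraMap_eq_smul_one, ← TensorProduct.smul_tmul, Algebra.smul_def]
    rw [h3]
    refine Ideal.mem_map_of_mem _ (Ideal.mul_mem_right _ _ ?_)
    exact (IsLocalRing.map_maximalIdeal_le (algebraMap A B)) (Ideal.mem_map_of_mem _ ha)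
  · rw [TensorProduct.tmul_zero]; exact (J A B).zero_mem
  · intro x y _ _ hx hy
    rw [TensorProduct.tmul_add]; exact (J A B).add_mem hx hy
  · intro c x _ hx
    have h3 : b ⊗ₜ[A] (c • x) = ((1 : B) ⊗ₜ[A] c) * (b ⊗ₜ[A] x) := by
      rw [Algebra.TensorProduct.tmul_mul_tmul, one_mul, smul_eq_mul]
    rw [h3]
    exact (J A B).mul_mem_left _ hx

/-- `B → (B ⊗_A Â)/J` is surjective. -/
theorem exists_sub_mem_J (y : B ⊗[A] Cpl A) :
    ∃ b : B, y - algebraMap B (B ⊗[A] Cpl A) b ∈ J A B := by
  have hfgA : (maximalIdeal A).FG := (isNoetherianRing_iff_ideal_fg A).1 inferInstance _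
  induction y using TensorProduct.induction_on with
  | zero => exact ⟨0, by simp⟩
  | tmul b c =>
    obtain ⟨a, ha⟩ := Groth.Agent.Lib.H14AdicLocal.exists_sub_mem_map A (maximalIdeal A) hfgA c
    refine ⟨algebraMap A B a * b, ?_⟩
    have h3 : b ⊗ₜ[A] c - algebraMap B (B ⊗[A] Cpl A) (algebraMap A B a * b) =
        b ⊗ₜ[A] (c - algebraMap A (Cpl A) a) := by
      rw [TensorProduct.tmul_sub, Algebra.TensorProduct.algebraMap_apply, Algebra.algebraMap_self,
        RingHom.id_apply, Algebra.algebraMap_eq_smul_one (R := A) (A := Cpl A),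
        ← TensorProduct.smul_tmul, Algebra.smul_def]
    rw [h3]
    exact tmul_mem_J A B b _ ha
  | add x y hx hy =>
    obtain ⟨b1, hb1⟩ := hx
    obtain ⟨b2, hb2⟩ := hy
    refine ⟨b1 + b2, ?_⟩
    have : x + y - algebraMap B (B ⊗[A] Cpl A) (b1 + b2) =
        (x - algebraMap B (B ⊗[A] Cpl A) b1) + (y - algebraMap B (B ⊗[A] Cpl A) b2) := by
      rw [map_add]; ring
    rw [this]
    exact (J A B).add_mem hb1 hb2

instance : Module.FaithfullyFlat A (Cpl A) := by
  haveI : Module.Flat A (Cpl A) := AdicCompletion.flat_of_isNoetherian _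
  exact Module.FaithfullyFlat.of_flat_of_isLocalHom

theorem comap_J : (J A B).comap (algebraMap B (B ⊗[A] Cpl A)) = maximalIdeal B := by
  haveI : Module.FaithfullyFlat B (B ⊗[A] Cpl A) := inferInstance
  exact Ideal.comap_map_eq_self_of_faithfullyFlat _

instance J_isMaximal : (J A B).IsMaximal := by
  have hc := comap_J A B
  rw [Ideal.isMaximal_iff]
  refine ⟨fun h => ?_, ?_⟩
  · have : (1 : B) ∈ (J A B).comap (algebraMap B (B ⊗[A] Cpl A)) := by
      rw [Ideal.mem_comap, map_one]; exact h
    rw [hc] at this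
    exact (Ideal.ne_top_iff_one _).1 (maximalIdeal.isMaximal B).ne_top this
  · intro K y hK hy hyK
    obtain ⟨b, hb⟩ := exists_sub_mem_J A B y
    have hbK : algebraMap B (B ⊗[A] Cpl A) b ∈ K := by
      have := K.sub_mem hyK (hK hb)
      rwa [sub_sub_cancel] at this
    have hbu : IsUnit b := by
      by_contra hbn
      have hbm : b ∈ maximalIdeal B := (IsLocalRing.mem_maximalIdeal b).2 hbn
      have hb' : algebraMap B (B ⊗[A] Cpl A) b ∈ J A B := Ideal.mem_map_of_mem _ hbm
      have := (J A B).add_mem hb hb'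
      rw [sub_add_cancel] at this
      exact hy this
    have := K.mul_mem_left (algebraMap B (B ⊗[A] Cpl A) (↑hbu.unit⁻¹ : B)) hbK
    rwa [← map_mul, IsUnit.val_inv_mul, map_one] at this

/-- The local ring `C = (B ⊗_A Â)_J`. -/
abbrev C : Type u := Localization.AtPrime (J A B)

instance isLocalHom_C : IsLocalHom (algebraMap B (C A B)) := by
  refine ⟨fun b hb => ?_⟩
  by_contra hbn
  have hbm : b ∈ maximalIdeal B := (IsLocalRing.mem_maximalIdeal b).2 hbn
  have hb' : algebraMap B (B ⊗[A] Cpl A) b ∈ J A B := Ideal.mem_map_of_mem _ hbm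
  rw [IsScalarTower.algebraMap_apply B (B ⊗[A] Cpl A) (C A B),
    IsLocalization.AtPrime.isUnit_to_map_iff (C A B) (J A B)] at hb
  exact hb hb'

theorem map_maximalIdeal_C :
    (maximalIdeal B).map (algebraMap B (C A B)) = maximalIdeal (C A B) := by
  rw [IsScalarTower.algebraMap_eq B (B ⊗[A] Cpl A) (C A B), ← Ideal.map_map]
  exact Localization.AtPrime.map_eq_maximalIdeal

theorem exists_sub_mem_maximalIdeal_C (y : C A B) :
    ∃ b : B, y - algebraMap B (C A B) b ∈ maximalIdeal (C A B) := by
  obtain ⟨c, hc⟩ : ∃ c : B ⊗[A] Cpl A,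
      y - algebraMap _ _ c ∈ maximalIdeal (C A B) := by
    obtain ⟨c, hc⟩ := (IsLocalization.AtPrime.equivQuotMaximalIdeal (J A B)
      (C A B)).surjective (Ideal.Quotient.mk _ y)
    obtain ⟨c, rfl⟩ := Ideal.Quotient.mk_surjective c
    refine ⟨c, ?_⟩
    have hq : Ideal.Quotient.mk (maximalIdeal (C A B)) y =
        Ideal.Quotient.mk (maximalIdeal (C A B))
          (algebraMap (B ⊗[A] Cpl A) (C A B) c) := by
      rw [← hc]
      rfl
    exact Ideal.Quotient.eq.1 hq
  obtain ⟨b, hb⟩ := exists_sub_mem_J A B c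
  refine ⟨b, ?_⟩
  have : y - algebraMap B (C A B) b =
      (y - algebraMap (B ⊗[A] Cpl A) _ c) +
        algebraMap (B ⊗[A] Cpl A) (C A B)
          (c - algebraMap B (B ⊗[A] Cpl A) b) := by
    rw [IsScalarTower.algebraMap_apply B (B ⊗[A] Cpl A) (C A B), map_sub]
    ring
  rw [this]
  refine add_mem hc ?_
  rw [← Localization.AtPrime.map_eq_maximalIdeal]
  exact Ideal.mem_map_of_mem _ hb

variable [IsNoetherianRing (B ⊗[A] Cpl A)]

instance : IsNoetherianRing (C A B) :=
  IsLocalization.isNoetherianRing (J A B).primeCompl _ inferInstance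

instance flat_C : Module.Flat B (C A B) := by
  haveI : Module.Flat A (Cpl A) := AdicCompletion.flat_of_isNoetherian _
  haveI : Module.Flat B (B ⊗[A] Cpl A) := inferInstance
  haveI : Module.Flat (B ⊗[A] Cpl A) (C A B) := IsLocalization.flat _ (J A B).primeCompl
  exact Module.Flat.trans B (B ⊗[A] Cpl A) (C A B)

/-- The completed map `B̂ → Ĉ` is bijective. -/
theorem cplMap_bijective_C : Function.Bijective (H14ComplFlat.cplMap B (C A B)) :=
  Groth.Agent.Lib.H14AdicLocal.cplMap_bijective B (C A B) (map_maximalIdeal_C A B)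
    (exists_sub_mem_maximalIdeal_C A B)

end tensorCpl


end Groth.Agent.Lib.H14QFCompl
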