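/-
helper14: quasi-finite local algebras, abstract form: for `A → B → C`, `Â → C` with `𝔪_B C = 𝔪_C`,
trivial residue extension `κ(B) = κ(C)`, `κ(B)/κ(A)` finite and `𝔪_B ⊆ rad(𝔪_A B)`:
`finite_of_quasiFinite` (`C` finite over `Â`), `isAdicComplete_of_quasiFinite`.
-/
import Mathlib
import Groth.Agent.Lib.H14QFCompl

set_option autoImplicit false
set_option linter.style.haveILetI false
set_option linter.unusedSectionVars false
universe u

namespace Groth.Agent.Lib.H14QFCompl

open IsLocalRing TensorProduct EGA4

section qf

variable (A B C : Type u) [CommRing A] [CommRing B] [CommRing C]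
  [IsNoetherianRing A] [IsNoetherianRing B] [IsNoetherianRing C]
  [IsLocalRing A] [IsLocalRing B] [IsLocalRing C] [Algebra A B] [IsLocalHom (algebraMap A B)]
  [Algebra A C] [Algebra B C] [Algebra (Cpl A) C] [IsScalarTower A B C] [IsScalarTower A (Cpl A) C]
  [IsLocalHom (algebraMap B C)]

theorem map_maximalIdeal_cpl_eq :
    (maximalIdeal (Cpl A)).map (algebraMap (Cpl A) C) =
      ((maximalIdeal A).map (algebraMap A B)).map (algebraMap B C) := by
  rw [AdicCompletion.maximalIdeal_eq_map_of_fg ((isNoetherianRing_iff_ideal_fg A).1 inferInstance _),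
    Ideal.map_map, ← IsScalarTower.algebraMap_eq, Ideal.map_map, ← IsScalarTower.algebraMap_eq]

include B in
theorem map_maximalIdeal_cpl_le :
    (maximalIdeal (Cpl A)).map (algebraMap (Cpl A) C) ≤ maximalIdeal C := by
  rw [map_maximalIdeal_cpl_eq A B C, Ideal.map_map, ← IsScalarTower.algebraMap_eq]
  haveI : IsLocalHom (algebraMap A C) := by
    rw [IsScalarTower.algebraMap_eq A B C]
    exact RingHom.isLocalHom_comp _ _
  exact IsLocalRing.map_maximalIdeal_le (algebraMap A C)

theorem maximalIdeal_le_radical
    (hmaxC : (maximalIdeal B).map (algebraMap B C) = maximalIdeal C)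
    (hrad : maximalIdeal B ≤ ((maximalIdeal A).map (algebraMap A B)).radical) :
    maximalIdeal C ≤ ((maximalIdeal (Cpl A)).map (algebraMap (Cpl A) C)).radical := by
  rw [map_maximalIdeal_cpl_eq A B C, ← hmaxC]
  exact (Ideal.map_mono hrad).trans (Ideal.map_radical_le _)

theorem finite_residueField [Module.Finite (ResidueField A) (ResidueField B)]
    (hresC : ∀ y : C, ∃ b : B, y - algebraMap B C b ∈ maximalIdeal C) :
    Module.Finite (Cpl A) (ResidueField C) := by
  haveI : Module.Finite A (ResidueField B) := Module.Finite.trans (ResidueField A) (ResidueField B)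
  let e : B →ₐ[A] C := IsScalarTower.toAlgHom A B C
  haveI : IsLocalHom e := by
    constructor
    intro b hb
    exact (inferInstance : IsLocalHom (algebraMap B C)).map_nonunit b hb
  have hsurj : Function.Surjective (ResidueField.mapAlgHom e) := by
    intro y
    obtain ⟨c, rfl⟩ := residue_surjective y
    obtain ⟨b, hb⟩ := hresC c
    refine ⟨residue B b, ?_⟩
    rw [ResidueField.mapAlgHom_residue, eq_comm]
    exact Ideal.Quotient.eq.2 hb
  haveI : Module.Finite A (ResidueField C) :=
    Module.Finite.of_surjective (ResidueField.mapAlgHom e).toLinearMap hsurj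
  haveI : IsScalarTower A (Cpl A) (ResidueField C) :=
    IsScalarTower.of_algebraMap_eq (fun a => by
      rw [IsScalarTower.algebraMap_apply A C (ResidueField C),
        IsScalarTower.algebraMap_apply A (Cpl A) C,
        ← IsScalarTower.algebraMap_apply (Cpl A) C (ResidueField C)])
  exact Module.Finite.of_restrictScalars_finite A (Cpl A) (ResidueField C)

/-- In the quasi-finite case, `C` is finite over `Â`. -/
theorem finite_of_quasiFinite [Module.Finite (ResidueField A) (ResidueField B)]
    (hmaxC : (maximalIdeal B).map (algebraMap B C) = maximalIdeal C)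
    (hresC : ∀ y : C, ∃ b : B, y - algebraMap B C b ∈ maximalIdeal C)
    (hrad : maximalIdeal B ≤ ((maximalIdeal A).map (algebraMap A B)).radical) :
    Module.Finite (Cpl A) C := by
  haveI := finite_residueField A B C hresC
  exact finite_of_primary' (map_maximalIdeal_cpl_le A B C)
    (maximalIdeal_le_radical A B C hmaxC hrad)

/-- In the quasi-finite case, `C` is a complete local ring. -/
theorem isAdicComplete_of_quasiFinite [Module.Finite (ResidueField A) (ResidueField B)]
    (hmaxC : (maximalIdeal B).map (algebraMap B C) = maximalIdeal C)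
    (hresC : ∀ y : C, ∃ b : B, y - algebraMap B C b ∈ maximalIdeal C)
    (hrad : maximalIdeal B ≤ ((maximalIdeal A).map (algebraMap A B)).radical) :
    IsAdicComplete (maximalIdeal C) C := by
  haveI := finite_of_quasiFinite A B C hmaxC hresC hrad
  haveI hH : IsHausdorff (maximalIdeal (Cpl A)) C :=
    isHausdorff_of_map_le (map_maximalIdeal_cpl_le A B C)
  haveI hP : IsPrecomplete (maximalIdeal (Cpl A)) C := by
    obtain ⟨n, f, hf⟩ := Module.Finite.exists_fin' (Cpl A) C
    haveI : IsPrecomplete (maximalIdeal (Cpl A)) (Fin n → Cpl A) :=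
      Groth.Agent.Lib.AdicPi.isPrecomplete_pi _ (Fin n)
    exact isPrecomplete_of_surjective (maximalIdeal (Cpl A)) (Fin n → Cpl A) f hf
  haveI hC : IsAdicComplete (maximalIdeal (Cpl A)) C := { hH, hP with }
  haveI hC' : IsAdicComplete ((maximalIdeal (Cpl A)).map (algebraMap (Cpl A) C)) C :=
    (IsAdicComplete.map_algebraMap_iff _ _).2 hC
  obtain ⟨N, hN⟩ := Ideal.exists_pow_le_of_le_radical_of_fg
    (maximalIdeal_le_radical A B C hmaxC hrad)
    ((isNoetherianRing_iff_ideal_fg _).1 inferInstance _)
  exact isAdicComplete_of_le_of_pow_le _ _ _ (map_maximalIdeal_cpl_le A B C) N hN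

end qf

end Groth.Agent.Lib.H14QFCompl
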