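/-
helper14: `isRegularHom_baseChange'` (regular homs are stable under essentially finite type base change),
`isRegularHom_cpl_of_complete_target`, `isRegularHom_cpl_of_quasiFinite` (quasi-finite permanence of regular
formal fibres, local form; Stacks 07PV-type).
-/
import Mathlib
import Groth.Agent.Lib.H14QFCompl2
import Groth.Agent.Lib.H14AdicLocal2

set_option autoImplicit false
set_option linter.style.haveILetI false
set_option linter.unusedSectionVars false
universe u

namespace Groth.Agent.Lib.H14QFCompl

open IsLocalRing TensorProduct EGA4 Groth.Agent.Lib.H14GeomP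

/-- Regular homomorphisms are stable under base change along essentially finite type maps. -/
theorem isRegularHom_baseChange' (A B A' : Type u) [CommRing A] [CommRing B] [CommRing A']
    [Algebra A B] [Algebra A A'] [Algebra.EssFiniteType A A']
    (h : CAlg.IsRegularHom A B) : CAlg.IsRegularHom A' (A' ⊗[A] B) := by
  haveI := h.1
  have key : ∀ (K : Type u) [Field K] [Algebra A' K], Algebra.EssFiniteType A' K →
      IsNoetherianRing (K ⊗[A'] (A' ⊗[A] B)) := by
    intro K _ _ hK
    letI : Algebra A K := ((algebraMap A' K).comp (algebraMap A A')).toAlgebra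
    haveI : IsScalarTower A A' K := IsScalarTower.of_algebraMap_eq (fun x => rfl)
    haveI : IsNoetherianRing (K ⊗[A] B) :=
      isNoetherianRing_field_tensor A B K (Or.inr (Algebra.EssFiniteType.comp A A' K))
        (fun p _ => (h.2 p).1)
    exact isNoetherianRing_of_ringEquiv _
      (Algebra.TensorProduct.cancelBaseChange A A' A' K B).symm.toRingEquiv
  refine isRegularHom_of_forall_field A' (A' ⊗[A] B) (fun p' _ => key p'.ResidueField inferInstance)
    ?_
  intro K _ _ hK
  letI : Algebra A K := ((algebraMap A' K).comp (algebraMap A A')).toAlgebra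
  haveI : IsScalarTower A A' K := IsScalarTower.of_algebraMap_eq (fun x => rfl)
  let e : K ⊗[A'] (A' ⊗[A] B) ≃ₐ[A'] K ⊗[A] B := Algebra.TensorProduct.cancelBaseChange A A' A' K B
  haveI : IsNoetherianRing (K ⊗[A] B) := isNoetherianRing_of_ringEquiv _ e.toRingEquiv
  exact good_regular.of_equiv e.symm.toRingEquiv
    (isRegularRing_field_tensor_of_isRegularHom A B h K)

/-- If `B → C` is a regular local homomorphism with `B̂ → Ĉ` bijective and `C` complete, then
`B → B̂` is regular. -/
theorem isRegularHom_cpl_of_complete_target (B C : Type u) [CommRing B] [CommRing C]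
    [IsNoetherianRing B] [IsNoetherianRing C] [IsLocalRing B] [IsLocalRing C] [Algebra B C]
    [IsLocalHom (algebraMap B C)] [IsAdicComplete (maximalIdeal C) C]
    (hbij : Function.Bijective (Groth.Agent.Lib.H14ComplFlat.cplMap B C))
    (h2 : CAlg.IsRegularHom B C) : CAlg.IsRegularHom B (Cpl B) := by
  haveI : IsScalarTower B C (Cpl C) := IsScalarTower.of_algebraMap_eq (fun a => rfl)
  have h3 : CAlg.IsRegularHom B (Cpl C) :=
    Groth.Agent.Lib.H14AdicLocal.isRegularHom_of_algEquiv B C (Cpl C)
      ((AdicCompletion.ofAlgEquiv (maximalIdeal C)).restrictScalars B) h2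
  exact Groth.Agent.Lib.H14AdicLocal.isRegularHom_of_algEquiv B (Cpl C) (Cpl B)
    (Groth.Agent.Lib.H14AdicLocal.cplEquiv B C hbij).symm h3

section qf

variable (A B : Type u) [CommRing A] [CommRing B] [IsNoetherianRing A] [IsNoetherianRing B]
  [IsLocalRing A] [IsLocalRing B] [Algebra A B] [IsLocalHom (algebraMap A B)]

/-- The `Â`-algebra structure on `C`. -/
@[instance_reducible]
noncomputable def algCplC : Algebra (Cpl A) (C A B) :=
  ((algebraMap (B ⊗[A] Cpl A) (C A B)).comp
    (Algebra.TensorProduct.includeRight : Cpl A →ₐ[A] B ⊗[A] Cpl A).toRingHom).toAlgebra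

attribute [local instance] algCplC

theorem isScalarTower_A_Cpl_C : IsScalarTower A (Cpl A) (C A B) := by
  refine IsScalarTower.of_algebraMap_eq (fun a => ?_)
  show algebraMap A (C A B) a = algebraMap (B ⊗[A] Cpl A) (C A B)
    ((Algebra.TensorProduct.includeRight : Cpl A →ₐ[A] B ⊗[A] Cpl A) (algebraMap A (Cpl A) a))
  rw [AlgHom.commutes, ← IsScalarTower.algebraMap_apply]

theorem isNoetherianRing_tensor_cpl [Algebra.EssFiniteType A B] :
    IsNoetherianRing (B ⊗[A] Cpl A) := by
  haveI : IsNoetherianRing (Cpl A) := Groth.Agent.Lib.AdicNoeth.isNoetherianRing_adicCompletion _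
  haveI : IsNoetherianRing ((Cpl A) ⊗[A] B) :=
    Algebra.EssFiniteType.isNoetherianRing (Cpl A) ((Cpl A) ⊗[A] B)
  exact isNoetherianRing_of_ringEquiv _ (Algebra.TensorProduct.comm A (Cpl A) B).toRingEquiv

/-- **Quasi-finite permanence of regular formal fibres** (local form): if `A → B` is an essentially
finite type, quasi-finite local homomorphism of Noetherian local rings and `A → Â` is regular, then
`B → B̂` is regular. -/
theorem isRegularHom_cpl_of_quasiFinite [Algebra.EssFiniteType A B]
    [Module.Finite (ResidueField A) (ResidueField B)]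
    (hrad : maximalIdeal B ≤ ((maximalIdeal A).map (algebraMap A B)).radical)
    (hA : CAlg.IsRegularHom A (Cpl A)) : CAlg.IsRegularHom B (Cpl B) := by
  haveI := isNoetherianRing_tensor_cpl A B
  haveI := isScalarTower_A_Cpl_C A B
  -- `B → B ⊗ Â → C` is regular
  have h1 : CAlg.IsRegularHom B (B ⊗[A] Cpl A) := isRegularHom_baseChange' A (Cpl A) B hA
  have h2 : CAlg.IsRegularHom B (C A B) :=
    Groth.Agent.S9259.regular_target_localization B (B ⊗[A] Cpl A) (C A B) (J A B).primeCompl h1
  -- `C` is complete
  have hcomp := isAdicComplete_of_quasiFinite A B (C A B) (map_maximalIdeal_C A B)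
      (exists_sub_mem_maximalIdeal_C A B) hrad
  exact @isRegularHom_cpl_of_complete_target B (C A B) _ _ _ _ _ _ _ _ hcomp
    (cplMap_bijective_C A B) h2

end qf

end Groth.Agent.Lib.H14QFCompl
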