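import Groth.Prelude.Def_FDesc
import Mathlib.AlgebraicGeometry.Geometrically.Basic
import Mathlib.AlgebraicGeometry.Morphisms.Flat
import Mathlib.AlgebraicGeometry.Morphisms.QuasiCompact
import Mathlib.AlgebraicGeometry.Morphisms.UnderlyingMap
import Mathlib.RingTheory.Flat.Basic

set_option autoImplicit false
universe u

namespace Groth.Agent.Lib.GeomFieldExt

open AlgebraicGeometry CategoryTheory Limits TensorProduct

/-- Two extension fields of `k` embed compatibly into a common field, in the same universe. -/
lemma exists_common_field (k K L : Type u) [Field k] [Field K] [Field L] [Algebra k K]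
    [Algebra k L] :
    ∃ (Ω : Type u) (_ : Field Ω) (φK : K →+* Ω) (φL : L →+* Ω),
      φK.comp (algebraMap k K) = φL.comp (algebraMap k L) := by
  have : Nontrivial (K ⊗[k] L) :=
    Algebra.TensorProduct.nontrivial_of_algebraMap_injective_of_flat_left (R := k) K L
      (algebraMap k L).injective
  obtain ⟨m, hm⟩ := Ideal.exists_maximal (K ⊗[k] L)
  let : Field ((K ⊗[k] L) ⧸ m) := Ideal.Quotient.field m
  refine ⟨(K ⊗[k] L) ⧸ m, inferInstance,
    (Ideal.Quotient.mk m).comp (Algebra.TensorProduct.includeLeft : K →ₐ[k] K ⊗[k] L).toRingHom,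
    (Ideal.Quotient.mk m).comp (Algebra.TensorProduct.includeRight : L →ₐ[k] K ⊗[k] L).toRingHom,
    ?_⟩
  ext x
  simp only [RingHom.coe_comp, Function.comp_apply, AlgHom.toRingHom_eq_coe, RingHom.coe_coe,
    AlgHom.commutes]

variable {k : Type u} [Field k] {X : Scheme.{u}}

/-- If `P` descends along surjective flat quasi-compact morphisms, then being geometrically `P`
over a field can be checked after an arbitrary extension of the base field. -/
theorem geometrically_iff_bcStr (P : ObjectProperty Scheme.{u})
    (hdesc : ∀ {Z Z' : Scheme.{u}} (g : Z' ⟶ Z) [Surjective g] [Flat g] [QuasiCompact g],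
      P Z' → P Z)
    (K : Type u) [Field K] [Algebra k K] (f : X ⟶ Spec (CommRingCat.of k)) :
    geometrically P f ↔ geometrically P (FBase.bcStr f K) := by
  constructor
  · intro hf
    exact (geometrically P).pullback_snd _ _ hf
  · intro h
    rw [geometrically_iff_of_commRing]
    intro L _ _ Y fst snd hpb
    obtain ⟨Ω, _, φK, φL, hφ⟩ := exists_common_field k K L
    have hΩ : P (pullback (FBase.bcStr f K) (Spec.map (CommRingCat.ofHom φK))) :=
      pullback_of_geometrically h Ω (Spec.map (CommRingCat.ofHom φK))
    have hφ' : Spec.map (CommRingCat.ofHom φK) ≫ Spec.map (CommRingCat.ofHom (algebraMap k K)) =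
        Spec.map (CommRingCat.ofHom φL) ≫ Spec.map (CommRingCat.ofHom (algebraMap k L)) := by
      rw [← Spec.map_comp, ← Spec.map_comp, ← CommRingCat.ofHom_comp, ← CommRingCat.ofHom_comp, hφ]
    have S1 := IsPullback.of_hasPullback (FBase.bcStr f K) (Spec.map (CommRingCat.ofHom φK))
    have S2 : IsPullback (FBase.bcπ f K) (FBase.bcStr f K) f
        (Spec.map (CommRingCat.ofHom (algebraMap k K))) := IsPullback.of_hasPullback _ _
    have S12 := S1.paste_horiz S2
    have hw : (pullback.fst (FBase.bcStr f K) (Spec.map (CommRingCat.ofHom φK)) ≫ FBase.bcπ f K) ≫ f =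
        (pullback.snd (FBase.bcStr f K) (Spec.map (CommRingCat.ofHom φK)) ≫
          Spec.map (CommRingCat.ofHom φL)) ≫ Spec.map (CommRingCat.ofHom (algebraMap k L)) := by
      rw [Category.assoc (pullback.snd _ _), ← hφ']
      exact S12.w
    let q := hpb.lift _ _ hw
    have hq1 : q ≫ fst = pullback.fst (FBase.bcStr f K) (Spec.map (CommRingCat.ofHom φK)) ≫
        FBase.bcπ f K := hpb.lift_fst _ _ hw
    have hq2 : q ≫ snd = pullback.snd (FBase.bcStr f K) (Spec.map (CommRingCat.ofHom φK)) ≫
        Spec.map (CommRingCat.ofHom φL) := hpb.lift_snd _ _ hw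
    have Sq : IsPullback q (pullback.snd (FBase.bcStr f K) (Spec.map (CommRingCat.ofHom φK))) snd
        (Spec.map (CommRingCat.ofHom φL)) := by
      refine IsPullback.of_right ?_ hq2 hpb
      rw [hq1, ← hφ']
      exact S12
    have : Surjective q := MorphismProperty.of_isPullback Sq.flip inferInstance
    have : Flat q := MorphismProperty.of_isPullback Sq.flip inferInstance
    have : QuasiCompact q := MorphismProperty.of_isPullback Sq.flip inferInstance
    exact hdesc q hΩ

/-- The stalk maps of a flat morphism are injective. -/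
lemma stalkMap_injective_of_flat {X Y : Scheme.{u}} (f : X ⟶ Y) [Flat f] (x : X) :
    Function.Injective (f.stalkMap x).hom := by
  algebraize [(f.stalkMap x).hom]
  have : Module.FaithfullyFlat (Y.presheaf.stalk (f x)) (X.presheaf.stalk x) :=
    @Module.FaithfullyFlat.of_flat_of_isLocalHom _ _ _ _ _ _ _
      (Flat.stalkMap f x) (f.toLRSHom.prop x)
  exact ‹RingHom.FaithfullyFlat _›.injective

/-- Reducedness descends along flat surjective morphisms. -/
lemma isReduced_of_flat_of_surjective {Z Z' : Scheme.{u}} (g : Z' ⟶ Z) [Flat g] [Surjective g]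
    [IsReduced Z'] : IsReduced Z := by
  have : ∀ z : Z, _root_.IsReduced (Z.presheaf.stalk z) := by
    intro z
    obtain ⟨z', rfl⟩ := g.surjective z
    exact isReduced_of_injective _ (stalkMap_injective_of_flat g z')
  exact isReduced_of_isReduced_stalk Z

/-- Irreducibility of the underlying space descends along surjective morphisms. -/
lemma irreducibleSpace_of_surjective {Z Z' : Scheme.{u}} (g : Z' ⟶ Z) [Surjective g]
    [IrreducibleSpace Z'] : IrreducibleSpace Z := by
  have h := (IrreducibleSpace.isIrreducible_univ Z').image g g.continuous.continuousOn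
  rw [Set.image_univ, Set.range_eq_univ.mpr g.surjective] at h
  exact (irreducibleSpace_def Z).mpr h

/-- Connectedness of the underlying space descends along surjective morphisms. -/
lemma connectedSpace_of_surjective {Z Z' : Scheme.{u}} (g : Z' ⟶ Z) [Surjective g]
    [ConnectedSpace Z'] : ConnectedSpace Z := by
  have h := (isConnected_univ (α := Z')).image g g.continuous.continuousOn
  rw [Set.image_univ, Set.range_eq_univ.mpr g.surjective] at h
  exact connectedSpace_iff_univ.mpr h

end Groth.Agent.Lib.GeomFieldExt
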