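import Mathlib.RingTheory.Nilpotent.GeometricallyReduced
import Mathlib.RingTheory.LocalRing.ResidueField.Fiber
import Mathlib.RingTheory.LocalRing.ResidueField.Ideal
import Mathlib.RingTheory.TensorProduct.Pi
import Mathlib.RingTheory.Ideal.MinimalPrime.Noetherian
import Mathlib.RingTheory.FiniteType
import Groth.Agent.Lib.AlgClosedTensor2

/-!
# Geometrically reduced algebras and fibres

* `isReduced_tensorProduct_of_isGeometricallyReduced`: a geometrically reduced algebra over a field
  stays reduced after an arbitrary field extension (Mathlib only has algebraic extensions).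
* `isReduced_tensorProduct_of_geomReducedFibres`: if `C` is a flat `B`-algebra with geometrically
  reduced fibres, `B` is Noetherian and `R` is a reduced `B`-algebra, then `C ⊗[B] R` is reduced.
-/

set_option autoImplicit false
open TensorProduct
universe u v w

namespace Groth.Agent.Lib.GeomReducedFibres

/-- A geometrically reduced algebra over a field stays reduced after any field extension. -/
theorem isReduced_tensorProduct_of_isGeometricallyReduced (k : Type u) (S : Type v) (K : Type w)
    [Field k] [CommRing S] [Algebra k S] [Field K] [Algebra k K]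
    [Algebra.IsGeometricallyReduced k S] : IsReduced (K ⊗[k] S) := by
  let kbar := AlgebraicClosure k
  let Ω := AlgebraicClosure K
  let φ : kbar →ₐ[k] Ω := IsAlgClosed.lift
  letI : Algebra kbar Ω := φ.toRingHom.toAlgebra
  haveI : IsScalarTower k kbar Ω := IsScalarTower.of_algebraMap_eq (fun x => (φ.commutes x).symm)
  have h1 : IsReduced (kbar ⊗[k] S) := (Algebra.isGeometricallyReduced_field_iff k S).1 ‹_›
  have h2 : IsReduced (Ω ⊗[kbar] (kbar ⊗[k] S)) :=
    Groth.Agent.Lib.AlgClosedTensor2.isReduced_tensorProduct (k := kbar)
  have h3 : IsReduced (Ω ⊗[k] S) :=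
    isReduced_of_injective (Algebra.TensorProduct.cancelBaseChange k kbar Ω Ω S).symm
      (Algebra.TensorProduct.cancelBaseChange k kbar Ω Ω S).symm.injective
  exact isReduced_of_injective
    (Algebra.TensorProduct.map (IsScalarTower.toAlgHom k K Ω) (AlgHom.id k S))
    (Module.Flat.rTensor_preserves_injective_linearMap _ (RingHom.injective _))

section Fibres

variable (B : Type u) (C : Type v) [CommRing B] [CommRing C] [Algebra B C]

/-- If the fibres of `B → C` are geometrically reduced, then `K ⊗[B] C` is reduced for every
field `K` over `B`. -/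
theorem isReduced_tensorProduct_field
    (h : ∀ (q : Ideal B) [q.IsPrime], Algebra.IsGeometricallyReduced q.ResidueField (q.Fiber C))
    (K : Type w) [Field K] [Algebra B K] : IsReduced (K ⊗[B] C) := by
  let q : Ideal B := RingHom.ker (algebraMap B K)
  haveI : q.IsPrime := RingHom.ker_isPrime _
  let g : q.ResidueField →+* K := Ideal.ResidueField.lift q (algebraMap B K) le_rfl (by
    intro x hx
    have hx' : algebraMap B K x ≠ 0 := fun h0 => hx h0
    exact (isUnit_iff_ne_zero.2 hx'))
  letI : Algebra q.ResidueField K := g.toAlgebra
  haveI : IsScalarTower B q.ResidueField K := IsScalarTower.of_algebraMap_eq (fun x => by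
    rw [RingHom.algebraMap_toAlgebra]
    exact (Ideal.ResidueField.lift_algebraMap q (algebraMap B K) _ _ x).symm)
  have := h q
  have h1 : IsReduced (K ⊗[q.ResidueField] (q.Fiber C)) :=
    isReduced_tensorProduct_of_isGeometricallyReduced q.ResidueField (q.Fiber C) K
  exact isReduced_of_injective
    (Algebra.TensorProduct.cancelBaseChange B q.ResidueField K K C).symm
    (Algebra.TensorProduct.cancelBaseChange B q.ResidueField K K C).symm.injective

/-- Noetherian reduced case of `isReduced_tensorProduct_of_geomReducedFibres`. -/
theorem isReduced_tensorProduct_of_isNoetherianRing [Module.Flat B C]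
    (h : ∀ (q : Ideal B) [q.IsPrime], Algebra.IsGeometricallyReduced q.ResidueField (q.Fiber C))
    (R : Type w) [CommRing R] [Algebra B R] [IsNoetherianRing R] [IsReduced R] :
    IsReduced (C ⊗[B] R) := by
  classical
  have hfin : (minimalPrimes R).Finite := minimalPrimes.finite_of_isNoetherianRing R
  let ι := ↥(minimalPrimes R)
  haveI : Fintype ι := hfin.fintype
  haveI hprime : ∀ i : ι, (i.1).IsPrime := fun i => Ideal.minimalPrimes_isPrime i.2
  let φ : R →ₐ[B] ∀ i : ι, (i.1).ResidueField :=
    Pi.algHom B _ (fun i => IsScalarTower.toAlgHom B R (i.1).ResidueField)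
  have hφ : Function.Injective φ := by
    rw [injective_iff_map_eq_zero]
    intro x hx
    have h1 : ∀ i : ι, x ∈ i.1 := fun i =>
      Ideal.algebraMap_residueField_eq_zero.1 (congr_fun hx i)
    have h2 : x ∈ sInf (minimalPrimes R) := Ideal.mem_sInf.2 (fun {I} hI => h1 ⟨I, hI⟩)
    have h3 : sInf (minimalPrimes R) = (⊥ : Ideal R) := by
      show sInf (⊥ : Ideal R).minimalPrimes = ⊥
      rw [Ideal.sInf_minimalPrimes]
      exact Ideal.radical_bot_of_isReduced
    rw [h3] at h2
    exact h2
  have hinj : Function.Injective (Algebra.TensorProduct.map (AlgHom.id B C) φ) :=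
    Module.Flat.lTensor_preserves_injective_linearMap _ hφ
  have hred : ∀ i : ι, IsReduced (C ⊗[B] (i.1).ResidueField) := fun i => by
    have := isReduced_tensorProduct_field B C h (i.1).ResidueField
    exact isReduced_of_injective (Algebra.TensorProduct.comm B C (i.1).ResidueField)
      (Algebra.TensorProduct.comm B C (i.1).ResidueField).injective
  let e := Algebra.TensorProduct.piRight B B C (fun i : ι => (i.1).ResidueField)
  have hpi : IsReduced (∀ i : ι, C ⊗[B] (i.1).ResidueField) := inferInstance
  have h1 : IsReduced (C ⊗[B] (∀ i : ι, (i.1).ResidueField)) :=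
    isReduced_of_injective e e.injective
  exact isReduced_of_injective (Algebra.TensorProduct.map (AlgHom.id B C) φ) hinj

/-- If `C` is a flat `B`-algebra with geometrically reduced fibres, `B` is Noetherian and `R` is a
reduced `B`-algebra, then `C ⊗[B] R` is reduced. -/
theorem isReduced_tensorProduct_of_geomReducedFibres [IsNoetherianRing B] [Module.Flat B C]
    (h : ∀ (q : Ideal B) [q.IsPrime], Algebra.IsGeometricallyReduced q.ResidueField (q.Fiber C))
    (R : Type w) [CommRing R] [Algebra B R] [IsReduced R] :
    IsReduced (C ⊗[B] R) := by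
  apply IsReduced.tensorProduct_of_flat_of_forall_fg
  intro D hD
  have : Algebra.FiniteType B D := ⟨D.fg_top.mpr hD⟩
  have : IsNoetherianRing D := Algebra.FiniteType.isNoetherianRing B D
  have : IsReduced D := isReduced_of_injective D.val Subtype.val_injective
  exact isReduced_tensorProduct_of_isNoetherianRing B C h D

end Fibres

end Groth.Agent.Lib.GeomReducedFibres
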