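import Groth.Prelude.Def_Curv2
import Groth.Agent.Lib.GeomFieldExt
import Groth.Agent.Lib.GeomReducedFibres
import Mathlib.AlgebraicGeometry.Stalk
import Mathlib.AlgebraicGeometry.Morphisms.Flat
import Mathlib.AlgebraicGeometry.Morphisms.Preimmersion
import Mathlib.AlgebraicGeometry.PullbackCarrier
import Mathlib.RingTheory.LocalProperties.Reduced

/-!
# Geometric reducedness at a point (helper71)

* `flat_fromSpecStalk`: `Spec 𝒪_{X,x} ⟶ X` is flat.
* `bijective_stalkMap_snd`: for `j : W ⟶ X` flat and surjective on stalks (e.g. `Spec 𝒪_{X,x} ⟶ X`), the base change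
  `W ×_X Y ⟶ Y` induces isomorphisms on all stalks.
* `fromSpecStalk_comp`: `Spec 𝒪_{X,x} ⟶ X ⟶ Spec k` is `Spec` of `Curv2.stalkMap`.
* `isGeomReducedAt_iff`: `Curv2.IsGeomReducedAt k X x ↔ Algebra.IsGeometricallyReduced k 𝒪_{X,x}`.
-/

set_option autoImplicit false
universe u

open CategoryTheory CategoryTheory.Limits AlgebraicGeometry TensorProduct

namespace Groth.Agent.Lib.H71GeomRedAt

instance flat_fromSpecStalk (X : Scheme.{u}) (x : X) : Flat (X.fromSpecStalk x) := by
  let U := (X.affineCover.f (X.affineCover.idx x)).opensRange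
  have hU : IsAffineOpen U := isAffineOpen_opensRange (X.affineCover.f (X.affineCover.idx x))
  have hx : x ∈ U := X.affineCover.covers x
  rw [← hU.fromSpecStalk_eq_fromSpecStalk hx]
  dsimp only [IsAffineOpen.fromSpecStalk]
  have : Flat (Spec.map (X.presheaf.germ U x hx)) := by
    rw [Flat.SpecMap_iff]
    letI : Algebra Γ(X, U) (X.presheaf.stalk x) := (X.presheaf.germ U x hx).hom.toAlgebra
    haveI := hU.isLocalization_stalk ⟨x, hx⟩
    exact IsLocalization.flat (X.presheaf.stalk x) (hU.primeIdealOf ⟨x, hx⟩).asIdeal.primeCompl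
  infer_instance

/-- Base change of a flat morphism which is surjective on stalks induces isomorphisms on stalks. -/
theorem bijective_stalkMap_snd {X Y W : Scheme.{u}} (j : W ⟶ X) [Flat j] [SurjectiveOnStalks j]
    (g : Y ⟶ X) (w : ↥(pullback j g)) :
    Function.Bijective ((pullback.snd j g).stalkMap w).hom := by
  haveI : SurjectiveOnStalks (pullback.snd j g) :=
    MorphismProperty.pullback_snd (P := @SurjectiveOnStalks) _ _ inferInstance
  exact ⟨Groth.Agent.Lib.GeomFieldExt.stalkMap_injective_of_flat _ w,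
    (pullback.snd j g).stalkMap_surjective w⟩

/-- A morphism to an affine scheme factors through `toSpecΓ`. -/
theorem eq_toSpecΓ_comp {X : Scheme.{u}} {A : Type u} [CommRing A]
    (f : X ⟶ Spec (CommRingCat.of A)) :
    f = X.toSpecΓ ≫ Spec.map (CommRingCat.ofHom (Coh.toGlobal f)) := by
  calc f = f ≫ (Spec (CommRingCat.of A)).toSpecΓ ≫
        Spec.map (Scheme.ΓSpecIso (CommRingCat.of A)).inv := by
        rw [toSpecΓ_SpecMap_ΓSpecIso_inv, Category.comp_id]
    _ = X.toSpecΓ ≫ Spec.map ((Scheme.ΓSpecIso (CommRingCat.of A)).inv ≫ f.appTop) := by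
        rw [← Category.assoc, Scheme.toSpecΓ_naturality, Category.assoc, ← Spec.map_comp]
    _ = _ := rfl

/-- The composite `Spec 𝒪_{X,x} ⟶ X ⟶ Spec k` is `Spec` of `Curv2.stalkMap`. -/
theorem fromSpecStalk_comp (k : Type u) [Field k] (X : Scheme.{u})
    [X.Over (Spec (CommRingCat.of k))] (x : X) :
    X.fromSpecStalk x ≫ (X ↘ Spec (CommRingCat.of k)) =
      Spec.map (CommRingCat.ofHom (Curv2.stalkMap k X x)) := by
  conv_lhs => rw [eq_toSpecΓ_comp (X ↘ Spec (CommRingCat.of k))]
  rw [Scheme.fromSpecStalk_toSpecΓ_assoc, ← Spec.map_comp]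
  rfl

section Main

variable (k : Type u) [Field k] (X : Scheme.{u}) [X.Over (Spec (CommRingCat.of k))] (x : X)

attribute [local instance] Curv2.stalkAlgebra

/-- `Spec 𝒪_{X,x} ×_X X_{k'} ≅ Spec (𝒪_{X,x} ⊗[k] k')`. -/
noncomputable def isoSpecTensor (k' : Type u) [Field k'] [Algebra k k'] :
    pullback (X.fromSpecStalk x) (Curv2.bcFst k X k') ≅
      Spec (CommRingCat.of (X.presheaf.stalk x ⊗[k] k')) :=
  pullbackRightPullbackFstIso (X ↘ Spec (CommRingCat.of k))
      (Spec.map (CommRingCat.ofHom (algebraMap k k'))) (X.fromSpecStalk x) ≪≫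
    pullback.congrHom (fromSpecStalk_comp k X x) rfl ≪≫
    pullbackSpecIso k (X.presheaf.stalk x) k'

theorem isoSpecTensor_inv_fst (k' : Type u) [Field k'] [Algebra k k'] :
    (isoSpecTensor k X x k').inv ≫ pullback.fst (X.fromSpecStalk x) (Curv2.bcFst k X k') =
      Spec.map (CommRingCat.ofHom
        (Algebra.TensorProduct.includeLeftRingHom : X.presheaf.stalk x →+* X.presheaf.stalk x ⊗[k] k')) := by
  have h1 : (pullback.congrHom (fromSpecStalk_comp k X x)
      (rfl : Spec.map (CommRingCat.ofHom (algebraMap k k')) = _)).inv ≫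
      pullback.fst (X.fromSpecStalk x ≫ (X ↘ Spec (CommRingCat.of k)))
        (Spec.map (CommRingCat.ofHom (algebraMap k k'))) = pullback.fst _ _ := by
    rw [pullback.congrHom_inv]
    simp only [pullback.map, Category.comp_id]
    exact pullback.lift_fst _ _ _
  rw [isoSpecTensor, Iso.trans_inv, Iso.trans_inv, Category.assoc, Category.assoc,
    pullbackRightPullbackFstIso_inv_fst, h1]
  exact pullbackSpecIso_inv_fst k (X.presheaf.stalk x) k'

/-- If the local ring at `x` is geometrically reduced then `X` is geometrically reduced at `x`. -/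
theorem isGeomReducedAt_of_isGeometricallyReduced
    [Algebra.IsGeometricallyReduced k (X.presheaf.stalk x)] : Curv2.IsGeomReducedAt k X x := by
  intro k' _ _ x' hx'
  have h1 : IsReduced (k' ⊗[k] X.presheaf.stalk x) :=
    Groth.Agent.Lib.GeomReducedFibres.isReduced_tensorProduct_of_isGeometricallyReduced k _ k'
  have h2 : IsReduced (X.presheaf.stalk x ⊗[k] k') :=
    isReduced_of_injective (Algebra.TensorProduct.comm k (X.presheaf.stalk x) k').toRingHom
      (Algebra.TensorProduct.comm k (X.presheaf.stalk x) k').injective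
  haveI : _root_.IsReduced (CommRingCat.of (X.presheaf.stalk x ⊗[k] k')) := h2
  haveI : IsReduced (pullback (X.fromSpecStalk x) (Curv2.bcFst k X k')) :=
    isReduced_of_isOpenImmersion (isoSpecTensor k X x k').hom
  obtain ⟨w, hw1, hw2⟩ := Scheme.Pullback.exists_preimage_pullback
    (f := X.fromSpecStalk x) (g := Curv2.bcFst k X k')
    (IsLocalRing.closedPoint (X.presheaf.stalk x)) x'
    (by rw [Scheme.fromSpecStalk_closedPoint, hx'])
  subst hw2
  exact isReduced_of_injective _ (bijective_stalkMap_snd _ _ w).1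

/-- A point of `Spec (𝒪_{X,x} ⊗[k] k')` given by a maximal ideal, for `k'` algebraic over `k`, lies over the closed
point of `Spec 𝒪_{X,x}`. -/
theorem fst_isoSpecTensor_inv_of_isMaximal (k' : Type u) [Field k'] [Algebra k k']
    [Algebra.IsAlgebraic k k'] (M : Ideal (X.presheaf.stalk x ⊗[k] k')) [hM : M.IsMaximal] :
    pullback.fst (X.fromSpecStalk x) (Curv2.bcFst k X k')
      ((isoSpecTensor k X x k').inv ⟨M, hM.isPrime⟩) =
      IsLocalRing.closedPoint (X.presheaf.stalk x) := by
  rw [← Scheme.Hom.comp_apply, isoSpecTensor_inv_fst]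
  haveI : Algebra.IsIntegral k k' := Algebra.IsAlgebraic.isIntegral
  have hmax : (M.comap (Algebra.TensorProduct.includeLeftRingHom :
      X.presheaf.stalk x →+* X.presheaf.stalk x ⊗[k] k')).IsMaximal :=
    Ideal.isMaximal_comap_of_isIntegral_of_isMaximal (R := X.presheaf.stalk x) M
  apply PrimeSpectrum.ext
  exact IsLocalRing.eq_maximalIdeal hmax

/-- If `X` is geometrically reduced at `x` then the local ring at `x` is geometrically reduced. -/
theorem isGeometricallyReduced_of_isGeomReducedAt (h : Curv2.IsGeomReducedAt k X x) :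
    Algebra.IsGeometricallyReduced k (X.presheaf.stalk x) := by
  rw [Algebra.isGeometricallyReduced_field_iff]
  suffices h2 : IsReduced (X.presheaf.stalk x ⊗[k] AlgebraicClosure k) from
    isReduced_of_injective (Algebra.TensorProduct.comm k (AlgebraicClosure k) (X.presheaf.stalk x)).toRingHom
      (Algebra.TensorProduct.comm k (AlgebraicClosure k) (X.presheaf.stalk x)).injective
  apply isReduced_ofLocalizationMaximal
  intro M hM
  set K := AlgebraicClosure k
  set e := isoSpecTensor k X x K
  let p : ↥(Spec (CommRingCat.of (X.presheaf.stalk x ⊗[k] K))) := ⟨M, hM.isPrime⟩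
  set w := e.inv p with hw
  have hfst : pullback.fst (X.fromSpecStalk x) (Curv2.bcFst k X K) w =
      IsLocalRing.closedPoint (X.presheaf.stalk x) :=
    fst_isoSpecTensor_inv_of_isMaximal k X x K M
  have hx' : Curv2.bcFst k X K (pullback.snd (X.fromSpecStalk x) (Curv2.bcFst k X K) w) = x := by
    rw [← Scheme.Hom.comp_apply, ← pullback.condition, Scheme.Hom.comp_apply, hfst,
      Scheme.fromSpecStalk_closedPoint]
  have hred := h K (pullback.snd (X.fromSpecStalk x) (Curv2.bcFst k X K) w) hx'
  -- the stalk of the pullback at `w` is reduced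
  have hbij := bijective_stalkMap_snd (X.fromSpecStalk x) (Curv2.bcFst k X K) w
  have h3 : IsReduced ((pullback (X.fromSpecStalk x) (Curv2.bcFst k X K)).presheaf.stalk w) :=
    isReduced_of_injective (RingEquiv.ofBijective _ hbij).symm.toRingHom
      (RingEquiv.ofBijective _ hbij).symm.injective
  -- the stalk of `Spec` at `p` is reduced
  have h4 : IsReduced ((Spec (CommRingCat.of (X.presheaf.stalk x ⊗[k] K))).presheaf.stalk p) := by
    have hiso : IsIso (e.inv.stalkMap p) := inferInstance
    have hb : Function.Bijective (e.inv.stalkMap p).hom :=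
      (ConcreteCategory.isIso_iff_bijective _).mp hiso
    exact isReduced_of_injective (RingEquiv.ofBijective _ hb).symm.toRingHom
      (RingEquiv.ofBijective _ hb).symm.injective
  exact isReduced_of_injective
    (Spec.stalkIso (CommRingCat.of (X.presheaf.stalk x ⊗[k] K)) p).inv.hom
    (Spec.stalkIso (CommRingCat.of (X.presheaf.stalk x ⊗[k] K)) p).symm.commRingCatIsoToRingEquiv.injective

/-- **Geometric reducedness at a point is geometric reducedness of the local ring.** -/
theorem isGeomReducedAt_iff :
    Curv2.IsGeomReducedAt k X x ↔ Algebra.IsGeometricallyReduced k (X.presheaf.stalk x) :=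
  ⟨isGeometricallyReduced_of_isGeomReducedAt k X x,
    fun _ => isGeomReducedAt_of_isGeometricallyReduced k X x⟩

end Main

end Groth.Agent.Lib.H71GeomRedAt
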