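/-
helper14: stalks of the base change of `X/Spec A` to the completion `Â` at points of the closed fibre.

For `f : X ⟶ Spec A`, `x : X`, `B = 𝒪_{X,x}` is an `A`-algebra via `stalkHom f x`, and
`Spec B ×_X (X ×_A Â) ≅ Spec (B ⊗_A Â)` (`isoSpecTensor`).
-/
import Groth.Prelude.Def_Curv2
import Groth.Agent.Lib.H71GeomRedAt
import Groth.Agent.Lib.H14QFCompl3
import Groth.Agent.Lib.RegularFlatLocal
import Mathlib

set_option autoImplicit false
set_option linter.style.haveILetI false
set_option linter.unusedSectionVars false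
universe u

open CategoryTheory CategoryTheory.Limits AlgebraicGeometry TensorProduct

namespace Groth.Agent.Lib.H14BcCpl

open Groth.Agent.Lib.H71GeomRedAt

section General

variable {A : Type u} [CommRing A] {X : Scheme.{u}} (f : X ⟶ Spec (CommRingCat.of A)) (x : X)

/-- The structure map `A → 𝒪_{X,x}` of a scheme over `Spec A`. -/
noncomputable def stalkHom : A →+* X.presheaf.stalk x :=
  (X.presheaf.Γgerm x).hom.comp (Coh.toGlobal f)

theorem fromSpecStalk_comp :
    X.fromSpecStalk x ≫ f = Spec.map (CommRingCat.ofHom (stalkHom f x)) := by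
  conv_lhs => rw [eq_toSpecΓ_comp f]
  rw [Scheme.fromSpecStalk_toSpecΓ_assoc, ← Spec.map_comp]
  rfl

set_option backward.isDefEq.respectTransparency.types false in
/-- The point `f x`, as a prime of `A`, is the contraction of the maximal ideal of `𝒪_{X,x}`. -/
theorem comap_stalkHom_maximalIdeal :
    (IsLocalRing.maximalIdeal (X.presheaf.stalk x)).comap (stalkHom f x) = (f x).asIdeal := by
  have h2 : (X.fromSpecStalk x ≫ f) (IsLocalRing.closedPoint (X.presheaf.stalk x)) = f x := by
    rw [Scheme.Hom.comp_apply, Scheme.fromSpecStalk_closedPoint]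
  rw [fromSpecStalk_comp] at h2
  rw [← h2]
  rfl

end General

section Abstract

open IsLocalRing Groth.Agent.Lib.H14QFCompl

variable (A : Type u) [CommRing A] [IsLocalRing A] {X : Scheme.{u}}
  (f : X ⟶ Spec (CommRingCat.of A))
  (B : Type u) [CommRing B] [Algebra A B] (j : Spec (CommRingCat.of B) ⟶ X)
  (hj : j ≫ f = Spec.map (CommRingCat.ofHom (algebraMap A B)))

/-- `Spec B ×_X (X ×_A Â) ≅ Spec (B ⊗[A] Â)`. -/
noncomputable def isoSpecTensor :
    pullback j (Curv2.bcCplFst A f) ≅ Spec (CommRingCat.of (B ⊗[A] Curv2.cpl A)) :=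
  pullbackRightPullbackFstIso f (Spec.map (CommRingCat.ofHom (algebraMap A (Curv2.cpl A)))) j ≪≫
    pullback.congrHom hj rfl ≪≫ pullbackSpecIso A B (Curv2.cpl A)

theorem isoSpecTensor_inv_fst :
    (isoSpecTensor A f B j hj).inv ≫ pullback.fst j (Curv2.bcCplFst A f) =
      Spec.map (CommRingCat.ofHom
        (Algebra.TensorProduct.includeLeftRingHom : B →+* B ⊗[A] Curv2.cpl A)) := by
  have h1 : (pullback.congrHom hj
      (rfl : Spec.map (CommRingCat.ofHom (algebraMap A (Curv2.cpl A))) = _)).inv ≫
      pullback.fst (j ≫ f) (Spec.map (CommRingCat.ofHom (algebraMap A (Curv2.cpl A)))) =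
        pullback.fst _ _ := by
    rw [pullback.congrHom_inv]
    simp only [pullback.map, Category.comp_id]
    exact pullback.lift_fst _ _ _
  rw [isoSpecTensor, Iso.trans_inv, Iso.trans_inv, Category.assoc, Category.assoc,
    pullbackRightPullbackFstIso_inv_fst, h1]
  exact pullbackSpecIso_inv_fst A B (Curv2.cpl A)

end Abstract

section Main

open IsLocalRing Groth.Agent.Lib.H14QFCompl

theorem regular_atPrime_congr {R : Type u} [CommRing R] (P Q : Ideal R) [P.IsPrime] [Q.IsPrime]
    (h : P = Q) :
    IsRegularLocalRing (Localization.AtPrime P) ↔ IsRegularLocalRing (Localization.AtPrime Q) := by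
  subst h; rfl

variable (A : Type u) [CommRing A] [IsLocalRing A] [IsNoetherianRing A] {X : Scheme.{u}}
  (f : X ⟶ Spec (CommRingCat.of A))
  (B : Type u) [CommRing B] [Algebra A B] [IsLocalRing B] [IsNoetherianRing B]
  [IsLocalHom (algebraMap A B)] (j : Spec (CommRingCat.of B) ⟶ X)
  (hj : j ≫ f = Spec.map (CommRingCat.ofHom (algebraMap A B)))

set_option backward.isDefEq.respectTransparency.types false in
/-- A point of `Spec B ×_X (X ×_A Â)` over the closed point of `Spec B` is the prime `𝔪_B (B ⊗ Â)`. -/
theorem asIdeal_eq_J (w : ↥(pullback j (Curv2.bcCplFst A f)))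
    (hw : pullback.fst j (Curv2.bcCplFst A f) w = closedPoint B) :
    ((isoSpecTensor A f B j hj).hom w).asIdeal = J A B := by
  set e := isoSpecTensor A f B j hj
  have h1 : (Spec.map (CommRingCat.ofHom
      (Algebra.TensorProduct.includeLeftRingHom : B →+* B ⊗[A] Curv2.cpl A))) (e.hom w) =
      closedPoint B := by
    rw [← isoSpecTensor_inv_fst A f B j hj, Scheme.Hom.comp_apply]
    have : e.inv (e.hom w) = w := by
      rw [← Scheme.Hom.comp_apply, e.hom_inv_id]; rfl
    rw [this]
    exact hw
  have h2 : ((e.hom w).asIdeal).comap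
      (Algebra.TensorProduct.includeLeftRingHom : B →+* B ⊗[A] Curv2.cpl A) = maximalIdeal B :=
    congrArg PrimeSpectrum.asIdeal h1
  symm
  apply Ideal.IsMaximal.eq_of_le (J_isMaximal A B) (e.hom w).isPrime.ne_top
  rw [J, Ideal.map_le_iff_le_comap]
  have h3 : algebraMap B (B ⊗[A] EGA4.Cpl A) =
      (Algebra.TensorProduct.includeLeftRingHom : B →+* B ⊗[A] Curv2.cpl A) := by
    ext b
    rw [Algebra.TensorProduct.algebraMap_apply, Algebra.algebraMap_self, RingHom.id_apply]
    rfl
  rw [h3, h2]

include hj in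
set_option backward.isDefEq.respectTransparency.types false in
/-- The local ring of `Spec B ×_X (X ×_A Â)` at a point over the closed point of `Spec B` is regular
iff `B` is. -/
theorem stalk_regular_iff [Algebra.EssFiniteType A B] (w : ↥(pullback j (Curv2.bcCplFst A f)))
    (hw : pullback.fst j (Curv2.bcCplFst A f) w = closedPoint B) :
    IsRegularLocalRing ((pullback j (Curv2.bcCplFst A f)).presheaf.stalk w) ↔
      IsRegularLocalRing B := by
  haveI := isNoetherianRing_tensor_cpl A B
  set e := isoSpecTensor A f B j hj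
  have hiso : IsIso (e.hom.stalkMap w) := inferInstance
  have hb : Function.Bijective (e.hom.stalkMap w).hom :=
    (ConcreteCategory.isIso_iff_bijective _).mp hiso
  let e2 := RingEquiv.ofBijective _ hb
  let e3 := (Spec.stalkIso (CommRingCat.of (B ⊗[A] Curv2.cpl A))
    (e.hom w)).commRingCatIsoToRingEquiv
  haveI : (e.hom w).asIdeal.IsPrime := (e.hom w).isPrime
  have h1 : IsRegularLocalRing ((pullback j (Curv2.bcCplFst A f)).presheaf.stalk w) ↔
      IsRegularLocalRing (Localization.AtPrime (e.hom w).asIdeal) :=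
    ⟨fun h => @IsRegularLocalRing.of_ringEquiv _ _ h _ _ (e2.symm.trans e3),
      fun h => @IsRegularLocalRing.of_ringEquiv _ _ h _ _ (e3.symm.trans e2)⟩
  rw [h1, regular_atPrime_congr _ _ (asIdeal_eq_J A f B j hj w hw)]
  exact Groth.Agent.Lib.RegularFlatLocal.isRegularLocalRing_iff_of_flat (map_maximalIdeal_C A B)

end Main

section Concrete

open IsLocalRing

theorem essFiniteType_stalkHom {A : Type u} [CommRing A] {X : Scheme.{u}}
    (f : X ⟶ Spec (CommRingCat.of A)) [LocallyOfFiniteType f] (x : X) :
    (stalkHom f x).EssFiniteType := by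
  have h1 : stalkHom f x = (f.stalkMap x).hom.comp
      ((((Spec (CommRingCat.of A)).presheaf.Γgerm (f x)).hom).comp
        (Scheme.ΓSpecIso (CommRingCat.of A)).inv.hom) := by
    ext a
    simp only [stalkHom, Coh.toGlobal, RingHom.comp_apply]
    exact (Scheme.Hom.germ_stalkMap_apply f ⊤ x trivial _).symm
  rw [h1]
  refine RingHom.EssFiniteType.comp (RingHom.EssFiniteType.comp ?_ ?_)
    (LocallyOfFiniteType.stalkMap f x)
  · apply RingHom.FiniteType.essFiniteType
    apply RingHom.FiniteType.of_surjective
    exact ((ConcreteCategory.isIso_iff_bijective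
      (Scheme.ΓSpecIso (CommRingCat.of A)).inv).mp inferInstance).2
  · let p : ((⊤ : (Spec (CommRingCat.of A)).Opens)) := ⟨f x, trivial⟩
    letI := (Spec (CommRingCat.of A)).presheaf.algebra_section_stalk p
    have hloc := (isAffineOpen_top (Spec (CommRingCat.of A))).isLocalization_stalk p
    exact @Algebra.EssFiniteType.of_isLocalization _ _ _ _ _
      ((isAffineOpen_top (Spec (CommRingCat.of A))).primeIdealOf p).asIdeal.primeCompl hloc

theorem regular_stalk_congr {Y : Scheme.{u}} {y y' : Y} (h : y = y') :
    IsRegularLocalRing (Y.presheaf.stalk y) ↔ IsRegularLocalRing (Y.presheaf.stalk y') := by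
  subst h; rfl

variable (A : Type u) [CommRing A] [IsLocalRing A] [IsNoetherianRing A] {X : Scheme.{u}}
  (f : X ⟶ Spec (CommRingCat.of A))

set_option backward.isDefEq.respectTransparency.types false in
/-- A point of `X ×_A Â` over the closed point of `Spec Â` maps to a point of `X` over the closed
point of `Spec A`. -/
theorem fst_eq_closedPoint (y : Curv2.bcCpl A f)
    (hy : (Curv2.bcCplSnd A f) y = closedPoint (Curv2.cpl A)) :
    f ((Curv2.bcCplFst A f) y) = closedPoint A := by
  rw [← Scheme.Hom.comp_apply, pullback.condition, Scheme.Hom.comp_apply, hy]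
  exact IsLocalRing.comap_closedPoint (algebraMap A (Curv2.cpl A))

set_option backward.isDefEq.respectTransparency.types false in
theorem isLocalHom_stalkHom (x : X) (hx : f x = closedPoint A) : IsLocalHom (stalkHom f x) := by
  apply ((IsLocalRing.local_hom_TFAE _).out 0 4).mpr
  rw [comap_stalkHom_maximalIdeal, hx]
  rfl

variable [LocallyOfFiniteType f]

/-- Version with the point `x` of `X` as a free variable. -/
theorem regular_iff_aux (x : X) (hfx : f x = closedPoint A) (y : Curv2.bcCpl A f)
    (hyx : (Curv2.bcCplFst A f) y = x) :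
    IsRegularLocalRing ((Curv2.bcCpl A f).presheaf.stalk y) ↔
      IsRegularLocalRing (X.presheaf.stalk x) := by
  letI : Algebra A (X.presheaf.stalk x) := (stalkHom f x).toAlgebra
  haveI : IsLocalHom (algebraMap A (X.presheaf.stalk x)) := isLocalHom_stalkHom A f x hfx
  haveI : Algebra.EssFiniteType A (X.presheaf.stalk x) := essFiniteType_stalkHom f x
  haveI : IsNoetherianRing (X.presheaf.stalk x) := Algebra.EssFiniteType.isNoetherianRing A _
  obtain ⟨w, hw1, hw2⟩ := Scheme.Pullback.exists_preimage_pullback
    (f := X.fromSpecStalk x) (g := Curv2.bcCplFst A f)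
    (IsLocalRing.closedPoint (X.presheaf.stalk x)) y
    (by rw [Scheme.fromSpecStalk_closedPoint, hyx])
  have hbij := bijective_stalkMap_snd (X.fromSpecStalk x) (Curv2.bcCplFst A f) w
  let e1 := RingEquiv.ofBijective _ hbij
  let j' : Spec (CommRingCat.of ↑(X.presheaf.stalk x)) ⟶ X := X.fromSpecStalk x
  have hj' : j' ≫ f = Spec.map (CommRingCat.ofHom (algebraMap A (X.presheaf.stalk x))) :=
    fromSpecStalk_comp f x
  have key := stalk_regular_iff A f (X.presheaf.stalk x) j' hj' w hw1
  refine Iff.trans ?_ key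
  refine Iff.trans (regular_stalk_congr hw2.symm) ?_
  exact ⟨fun h => @IsRegularLocalRing.of_ringEquiv _ _ h _ _ e1,
    fun h => @IsRegularLocalRing.of_ringEquiv _ _ h _ _ e1.symm⟩

/-- **Regularity at points of the closed fibre is insensitive to base change to the completion.** -/
theorem regular_iff (y : Curv2.bcCpl A f)
    (hy : (Curv2.bcCplSnd A f) y = closedPoint (Curv2.cpl A)) :
    IsRegularLocalRing ((Curv2.bcCpl A f).presheaf.stalk y) ↔
      IsRegularLocalRing (X.presheaf.stalk ((Curv2.bcCplFst A f) y)) :=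
  regular_iff_aux A f _ (fst_eq_closedPoint A f y hy) y rfl

end Concrete

end Groth.Agent.Lib.H14BcCpl
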