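/-
helper14: geometric regularity at a point of a `k`-scheme (`Curv2.IsGeomRegularAt`) in terms of the
local ring (mirrors helper30's `S7599` for normality, using helper71's `isoSpecTensor`).

* `tensor_of_pi_at` : regular local rings over `x` after finite purely inseparable extensions ⇒
  `O_{X,x}` geometrically regular over `k`.
* `of_tensor` : `k' ⊗ O_{X,x}` regular ⇒ local rings of `X_{k'}` over `x` regular.
* `isGeomRegularAt_iff_g0` : `Curv2.IsGeomRegularAt k X x ↔ G0 regular k O_{X,x}`.
-/
import Groth.Agent.Lib.H30GeomNormalPt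
import Groth.Agent.Lib.H14GeomP5
import Groth.Agent.Lib.H87Serre2
import Mathlib

set_option autoImplicit false
set_option linter.style.haveILetI false
universe u
open CategoryTheory CategoryTheory.Limits AlgebraicGeometry
attribute [local instance] Curv2.stalkAlgebra
open scoped TensorProduct


namespace Groth.Agent.Lib.H14GeomRegAt

open Groth.Agent.Lib.H71GeomRedAt Groth.Agent.Lib.H30GeomNormalPt Groth.Agent.Lib.H14GeomP

theorem tensor_of_pi_at (k : Type u) [Field k] (X : Scheme.{u}) [X.Over (Spec (CommRingCat.of k))]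
    [IsLocallyNoetherian X] (x : ↥X)
    (h2 : ∀ (k' : Type u) [Field k'] [Algebra k k'] [FiniteDimensional k k'] [IsPurelyInseparable k k']
      (x' : ↥(Curv2.bc k X k')), Curv2.bcFst k X k' x' = x →
        IsRegularLocalRing ↥((Curv2.bc k X k').presheaf.stalk x')) :
    G0 (fun (R : Type u) [CommRing R] => IsRegularRing R) k ↥(X.presheaf.stalk x) := by
  rw [g0_iff_pi good_regular]
  intro K _ _ hfin hpi
  haveI : FiniteDimensional k K := hfin
  haveI : IsPurelyInseparable k K := hpi
  haveI : Algebra.IsAlgebraic k K := Algebra.IsAlgebraic.of_finite k K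
  haveI : IsNoetherianRing (X.presheaf.stalk x ⊗[k] K) :=
    IsNoetherianRing.of_finite (X.presheaf.stalk x) _
  suffices hR : IsRegularRing (X.presheaf.stalk x ⊗[k] K) from
    good_regular.of_equiv (Algebra.TensorProduct.comm k (X.presheaf.stalk x) K).toRingEquiv hR
  apply Groth.Agent.Lib.H87Serre2.isRegularRing_of_maximal
  intro M hM
  set e := isoSpecTensor k X x K
  let p : ↥(Spec (CommRingCat.of (X.presheaf.stalk x ⊗[k] K))) := ⟨M, hM.isPrime⟩
  set w := e.inv p with hw
  have hfst : pullback.fst (X.fromSpecStalk x) (Curv2.bcFst k X K) w =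
      IsLocalRing.closedPoint (X.presheaf.stalk x) :=
    fst_isoSpecTensor_inv_of_isMaximal k X x K M
  have hx' : Curv2.bcFst k X K (pullback.snd (X.fromSpecStalk x) (Curv2.bcFst k X K) w) = x := by
    rw [← Scheme.Hom.comp_apply, ← pullback.condition, Scheme.Hom.comp_apply, hfst,
      Scheme.fromSpecStalk_closedPoint]
  have hreg := h2 K (pullback.snd (X.fromSpecStalk x) (Curv2.bcFst k X K) w) hx'
  haveI := hM.isPrime
  have hwp : e.hom w = (⟨M, hM.isPrime⟩ : PrimeSpectrum (X.presheaf.stalk x ⊗[k] K)) := by
    rw [hw, ← Scheme.Hom.comp_apply, Iso.inv_hom_id]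
    rfl
  obtain ⟨eq⟩ := nonempty_stalk_equiv k X x K w M hwp
  exact @IsRegularLocalRing.of_ringEquiv _ _ hreg _ _ eq

theorem of_tensor (k : Type u) [Field k] (X : Scheme.{u}) [X.Over (Spec (CommRingCat.of k))] (x : ↥X)
    (k' : Type u) [Field k'] [Algebra k k']
    (h3 : IsRegularRing (k' ⊗[k] ↥(X.presheaf.stalk x)))
    (x' : ↥(Curv2.bc k X k')) (hx' : Curv2.bcFst k X k' x' = x) :
    IsRegularLocalRing ↥((Curv2.bc k X k').presheaf.stalk x') := by
  have hR : IsRegularRing (X.presheaf.stalk x ⊗[k] k') :=
    good_regular.of_equiv (Algebra.TensorProduct.comm k k' (X.presheaf.stalk x)).toRingEquiv h3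
  obtain ⟨w, hw1, hw2⟩ := Scheme.Pullback.exists_preimage_pullback
    (f := X.fromSpecStalk x) (g := Curv2.bcFst k X k')
    (IsLocalRing.closedPoint (X.presheaf.stalk x)) x'
    (by rw [Scheme.fromSpecStalk_closedPoint, hx'])
  subst hw2
  let p : PrimeSpectrum (X.presheaf.stalk x ⊗[k] k') := (isoSpecTensor k X x k').hom w
  haveI := p.isPrime
  obtain ⟨eq⟩ := nonempty_stalk_equiv k X x k' w p.asIdeal rfl
  have h4 : IsRegularLocalRing (Localization.AtPrime p.asIdeal) :=
    (isRegularRing_iff.mp hR) p.asIdeal
  exact @IsRegularLocalRing.of_ringEquiv _ _ h4 _ _ eq.symm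

theorem essFiniteType_of_top_fg (k k' : Type u) [Field k] [Field k'] [Algebra k k']
    (h : (⊤ : IntermediateField k k').FG) : Algebra.EssFiniteType k k' := by
  haveI : Algebra.EssFiniteType k (⊤ : IntermediateField k k') :=
    IntermediateField.essFiniteType_iff.mpr h
  exact Algebra.EssFiniteType.of_surjective (IntermediateField.topEquiv (F := k) (E := k')).toAlgHom
    (IntermediateField.topEquiv (F := k) (E := k')).surjective

theorem top_fg_of_finite (k k' : Type u) [Field k] [Field k'] [Algebra k k']
    [FiniteDimensional k k'] : (⊤ : IntermediateField k k').FG :=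
  IntermediateField.fg_of_noetherian _

/-- Geometric regularity at a point is geometric regularity of the local ring. -/
theorem isGeomRegularAt_iff_g0 (k : Type u) [Field k] (X : Scheme.{u})
    [X.Over (Spec (CommRingCat.of k))] [IsLocallyNoetherian X] (x : ↥X) :
    Curv2.IsGeomRegularAt k X x ↔
      G0 (fun (R : Type u) [CommRing R] => IsRegularRing R) k ↥(X.presheaf.stalk x) := by
  constructor
  · intro h
    refine tensor_of_pi_at k X x (fun k' _ _ _ _ x' hx' => h k' (top_fg_of_finite k k') x' hx')
  · intro hG k' _ _ hfg x' hx'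
    haveI : Algebra.EssFiniteType k k' := essFiniteType_of_top_fg k k' hfg
    have h3 : IsRegularRing (k' ⊗[k] ↥(X.presheaf.stalk x)) :=
      (g0_iff_fg good_regular k _).mp hG k' inferInstance
    exact of_tensor k X x k' h3 x' hx'

end Groth.Agent.Lib.H14GeomRegAt
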