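/-
helper56: Stacks 00TV for essentially finite type local algebras over a field, and the cotangent
space of a local algebra with trivial residue field extension (Hartshorne II.8.7).

* `formallySmooth_of_isRegularLocalRing_of_essFiniteType`
-/
import Mathlib
import Groth.Agent.Lib.H56RegSmooth

set_option autoImplicit false
universe u

open IsLocalRing TensorProduct KaehlerDifferential

namespace Groth.Agent.Lib.H56RegSmooth

/-- A local algebra essentially of finite type is the localization of a finite type algebra at a
prime. -/
theorem isLocalization_atPrime_of_essFiniteType (k B : Type u) [CommRing k] [CommRing B] [Algebra k B]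
    [Algebra.EssFiniteType k B] [IsLocalRing B] :
    IsLocalization.AtPrime B
      ((maximalIdeal B).comap (algebraMap (Algebra.EssFiniteType.subalgebra k B) B)) := by
  have h : Algebra.EssFiniteType.submonoid k B =
      ((maximalIdeal B).comap (algebraMap (Algebra.EssFiniteType.subalgebra k B) B)).primeCompl := by
    ext x
    change IsUnit (algebraMap _ B x) ↔ ¬ (algebraMap _ B x ∈ maximalIdeal B)
    rw [mem_maximalIdeal, mem_nonunits_iff, not_not]
  have := Algebra.EssFiniteType.isLocalization (R := k) (S := B)
  rw [h] at this
  exact this

/-- **Stacks 00TV**, essentially finite type version. -/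
theorem formallySmooth_of_isRegularLocalRing_of_essFiniteType (k B : Type u) [Field k] [CommRing B]
    [Algebra k B] [Algebra.EssFiniteType k B] [IsRegularLocalRing B]
    [Algebra.FormallySmooth k (ResidueField B)] : Algebra.FormallySmooth k B := by
  have hloc := isLocalization_atPrime_of_essFiniteType k B
  set q := (maximalIdeal B).comap (algebraMap (Algebra.EssFiniteType.subalgebra k B) B) with hq
  let e : Localization.AtPrime q ≃ₐ[Algebra.EssFiniteType.subalgebra k B] B :=
    IsLocalization.algEquiv q.primeCompl _ _
  have hreg : IsRegularLocalRing (Localization.AtPrime q) :=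
    IsRegularLocalRing.of_ringEquiv e.symm.toRingEquiv
  let ek : Localization.AtPrime q ≃ₐ[k] B := e.restrictScalars k
  let er : ResidueField (Localization.AtPrime q) ≃ₐ[k] ResidueField B :=
    { IsLocalRing.ResidueField.mapEquiv ek.toRingEquiv with
      commutes' := fun c => by
        change IsLocalRing.ResidueField.map (ek.toRingEquiv : _ →+* B)
          (algebraMap k (ResidueField (Localization.AtPrime q)) c) = _
        rw [IsScalarTower.algebraMap_apply k (Localization.AtPrime q)
          (ResidueField (Localization.AtPrime q)), IsLocalRing.ResidueField.algebraMap_eq,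
          IsLocalRing.ResidueField.map_residue]
        change residue B (ek (algebraMap k _ c)) = _
        rw [ek.commutes]
        rfl }
  have hfs : Algebra.FormallySmooth k q.ResidueField := .of_equiv er.symm
  have := isSmoothAt_of_isRegularLocalRing k (Algebra.EssFiniteType.subalgebra k B) q
  exact .of_equiv ek

section Cotangent

variable (k B : Type u) [Field k] [CommRing B] [Algebra k B] [IsLocalRing B]
  (hres : Function.Bijective (algebraMap k (ResidueField B)))

include hres in
/-- Hartshorne II.8.7: for a local `k`-algebra with residue field `k`, `𝔪/𝔪² ≅ Ω_{B/k} ⊗ k`. -/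
theorem kerCotangentToTensor_bijective :
    Function.Bijective (kerCotangentToTensor k B (ResidueField B)) := by
  constructor
  · let eK : k ≃ₐ[k] ResidueField B := AlgEquiv.ofBijective (Algebra.ofId k _) hres
    let g : ResidueField B →ₐ[k] B ⧸ (RingHom.ker (algebraMap B (ResidueField B))) ^ 2 :=
      (Algebra.ofId k _).comp eK.symm.toAlgHom
    have hg : (IsScalarTower.toAlgHom k B (ResidueField B)).kerSquareLift.comp g =
        AlgHom.id k _ := by
      ext x
      obtain ⟨c, rfl⟩ := hres.2 x
      simp
    obtain ⟨l, hl⟩ := (retractionKerCotangentToTensorEquivSection (R := k) (P := B)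
      (S := ResidueField B) residue_surjective).symm ⟨g, hg⟩
    exact Function.LeftInverse.injective (g := l) (fun x => LinearMap.congr_fun hl x)
  · intro z
    have hsub : Subsingleton Ω[ResidueField B⁄k] := subsingleton_of_surjective k _ hres.2
    exact (exact_kerCotangentToTensor_mapBaseChange k B (ResidueField B) residue_surjective z).mp
      (Subsingleton.elim _ _)

include hres in
/-- The embedding dimension of a local `k`-algebra with residue field `k` is the fibre dimension of
its module of differentials. -/
theorem finrank_tensor_kaehler_eq :
    Module.finrank (ResidueField B) (ResidueField B ⊗[B] Ω[B⁄k]) =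
      Module.finrank (ResidueField B) (CotangentSpace B) := by
  have hker : maximalIdeal B = RingHom.ker (algebraMap B (ResidueField B)) :=
    (ker_residue (R := B)).symm
  let e : CotangentSpace B ≃ₗ[B] ResidueField B ⊗[B] Ω[B⁄k] :=
    (Ideal.Cotangent.equivOfEq _ _ hker).trans
      (LinearEquiv.ofBijective _ (kerCotangentToTensor_bijective k B hres))
  exact (e.extendScalarsOfSurjective residue_surjective).finrank_eq.symm

end Cotangent

end Groth.Agent.Lib.H56RegSmooth
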