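import Groth.Agent.Lib.H87GenSmoothReg
import Mathlib.AlgebraicGeometry.Morphisms.Smooth
import Mathlib.AlgebraicGeometry.Morphisms.FinitePresentation
import Mathlib.AlgebraicGeometry.FunctionField
import Mathlib.AlgebraicGeometry.Noetherian

/-!
# Generic smoothness for a regular source over a perfect function field (helper87)
-/

set_option autoImplicit false
universe u

namespace Groth.Agent.Lib.H87GenSmoothRegSch

open AlgebraicGeometry CategoryTheory Topology Groth.Agent.Lib.H87GenSmoothReg

variable {X Y : Scheme.{u}}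

/-- Points over the generic point at which the source is regular are smooth points, when the
function field of the target is perfect. -/
theorem mem_smoothLocus_of_map_eq_genericPoint [IsIntegral Y] (f : X ⟶ Y)
    [LocallyOfFinitePresentation f] [PerfectField Y.functionField] (x : X)
    (e : f x = genericPoint Y) (hreg : IsRegularLocalRing (X.presheaf.stalk x)) :
    x ∈ f.smoothLocus := by
  rw [Scheme.Hom.mem_smoothLocus]
  have hiso : IsIso (Y.presheaf.stalkSpecializes (specializes_of_eq e)) := by
    have : Y.presheaf.stalkSpecializes (specializes_of_eq e) =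
        (Y.presheaf.stalkCongr (Inseparable.of_eq e.symm)).hom := rfl
    rw [this]
    infer_instance
  let g : Y.functionField ⟶ X.presheaf.stalk x :=
    Y.presheaf.stalkSpecializes (specializes_of_eq e) ≫ f.stalkMap x
  have hg : g.hom.FormallySmooth ↔ (f.stalkMap x).hom.FormallySmooth :=
    RingHom.FormallySmooth.respectsIso.cancel_left_isIso _ _
  have hess : g.hom.EssFiniteType :=
    (RingHom.EssFiniteType.respectsIso.cancel_left_isIso
      (Y.presheaf.stalkSpecializes (specializes_of_eq e)) (f.stalkMap x)).mpr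
      (LocallyOfFiniteType.stalkMap f x)
  rw [← hg]
  algebraize [g.hom]
  exact formallySmooth_of_isRegularLocalRing Y.functionField (X.presheaf.stalk x)

/-- Postcomposition with an open immersion does not change the smooth locus. -/
theorem smoothLocus_comp_isOpenImmersion {X Y Z : Scheme.{u}} (g : X ⟶ Y) (j : Y ⟶ Z)
    [IsOpenImmersion j] [LocallyOfFinitePresentation g] [LocallyOfFinitePresentation (g ≫ j)] :
    (g ≫ j).smoothLocus = g.smoothLocus := by
  ext x
  refine Iff.trans ?_
    (RingHom.FormallySmooth.respectsIso.cancel_left_isIso (j.stalkMap (g x)) (g.stalkMap x))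
  rw [← CommRingCat.hom_comp, ← Scheme.Hom.stalkMap_comp]
  rfl

theorem smoothLocus_congr {A B : Scheme.{u}} (g g' : A ⟶ B) [LocallyOfFinitePresentation g]
    [LocallyOfFinitePresentation g'] (h : g = g') : g.smoothLocus = g'.smoothLocus := by
  subst h
  rfl

theorem isConstructible_of_isClosed_noetherianSpace {W : Type*} [TopologicalSpace W]
    [TopologicalSpace.NoetherianSpace W] {s : Set W} (hs : IsClosed s) : IsConstructible s := by
  have h : IsConstructible sᶜ := IsRetrocompact.isConstructible hs.isOpen_compl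
    (fun U _ _ => TopologicalSpace.NoetherianSpace.isCompact _)
  exact isConstructible_compl.mp h

/-- Closed subsets of a locally Noetherian scheme are locally constructible. -/
theorem isLocallyConstructible_of_isClosed [IsLocallyNoetherian X] {Z : Set X} (hZ : IsClosed Z) :
    IsLocallyConstructible Z := by
  intro x
  obtain ⟨_, ⟨U, hU, rfl⟩, hxU, -⟩ :=
    X.isBasis_affineOpens.exists_subset_of_mem_open (Set.mem_univ x) isOpen_univ
  have : IsNoetherianRing Γ(X, U) := IsLocallyNoetherian.component_noetherian ⟨U, hU⟩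
  have h1 : TopologicalSpace.NoetherianSpace U := noetherianSpace_of_isAffineOpen U hU
  have : TopologicalSpace.NoetherianSpace ((U : Set X) : Type u) := h1
  exact ⟨U, U.isOpen.mem_nhds hxU, U.isOpen,
    isConstructible_of_isClosed_noetherianSpace (hZ.preimage continuous_subtype_val)⟩

theorem main [IsIntegral Y] [IsLocallyNoetherian X]
    (hreg : ∀ x : X, IsRegularLocalRing (X.presheaf.stalk x))
    (f : X ⟶ Y) [LocallyOfFinitePresentation f] [QuasiCompact f]
    [PerfectField Y.functionField] :
    ∃ V : Y.Opens, Dense (V : Set Y) ∧ Smooth (f ∣_ V) := by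
  let Z : Set X := (f.smoothLocus : Set X)ᶜ
  have hZ : IsClosed Z := f.smoothLocus.isOpen.isClosed_compl
  have hE : IsLocallyConstructible (f '' Z) :=
    f.isLocallyConstructible_image (isLocallyConstructible_of_isClosed hZ)
  have hη : genericPoint Y ∉ f '' Z := by
    rintro ⟨x, hxZ, hx⟩
    exact hxZ (mem_smoothLocus_of_map_eq_genericPoint f x hx (hreg x))
  have hcl : genericPoint Y ∉ closure (f '' Z) :=
    notMem_closure_of_isLocallyConstructible (genericPoint_spec Y) hE hη
  let V : Y.Opens := ⟨(closure (f '' Z))ᶜ, isClosed_closure.isOpen_compl⟩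
  refine ⟨V, V.isOpen.dense ⟨genericPoint Y, hcl⟩, ?_⟩
  rw [← Scheme.Hom.smoothLocus_eq_top_iff, ← top_le_iff]
  rintro x' -
  have hx'S : x'.1 ∈ f.smoothLocus := by
    by_contra hns
    exact x'.2 (subset_closure ⟨x'.1, hns, rfl⟩)
  have h1 : (f ∣_ V).smoothLocus = ((f ∣_ V) ≫ V.ι).smoothLocus :=
    (smoothLocus_comp_isOpenImmersion (f ∣_ V) V.ι).symm
  have h2 : ((f ∣_ V) ≫ V.ι).smoothLocus = ((f ⁻¹ᵁ V).ι ≫ f).smoothLocus :=
    smoothLocus_congr _ _ (morphismRestrict_ι f V)
  have h3 : ((f ⁻¹ᵁ V).ι ≫ f).smoothLocus = (f ⁻¹ᵁ V).ι ⁻¹ᵁ f.smoothLocus :=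
    (Scheme.Hom.preimage_smoothLocus_eq (f ⁻¹ᵁ V).ι f).symm
  rw [h1, h2, h3]
  exact hx'S

end Groth.Agent.Lib.H87GenSmoothRegSch
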