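import Mathlib.AlgebraicGeometry.Morphisms.Smooth
import Mathlib.AlgebraicGeometry.Morphisms.Flat
import Mathlib.AlgebraicGeometry.Morphisms.FinitePresentation
import Mathlib.AlgebraicGeometry.PullbackCarrier
import Mathlib.RingTheory.Smooth.Locus
import Mathlib.RingTheory.Etale.Descent
import Mathlib.RingTheory.Kaehler.TensorProduct
import Mathlib.RingTheory.Flat.FaithfullyFlat.Descent
import Mathlib.RingTheory.Spectrum.Prime.FreeLocus
import Groth.Agent.Lib.UnramifiedLocusBC
import Groth.Agent.Lib.H71GeomRedAt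

/-!
# The smooth locus and flat base change (helper37)

Ring level (EGA IV 17.7.1, pointwise form):
* `comap_mem_freeLocus_of_flat`, `comap_notMem_support_of_flat`: for a flat `A`-algebra `B`, free
  locus / support of `B ⊗[A] M` descend to `A` along `Spec B → Spec A` (pointwise, no finiteness for
  the support statement).
* `h1BaseChange_bijective`: `(S ⊗[R] A) ⊗[A] H¹(L_{A/R}) ≃ H¹(L_{S ⊗ A/S})` linearly over `S ⊗[R] A`,
  for `S` flat over `R`.
* `comap_mem_smoothLocus_of_isPushout`: `B = S ⊗[R] A`, `S` flat over `R`, `A` of finite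
  presentation: `q ∈ smoothLocus S B → q ∩ A ∈ smoothLocus R A`.

Scheme level:
* `exists_nhds_smooth_iff`: smooth on a neighbourhood of `x` iff stalk map formally smooth (l.f.p.).
* `formallySmooth_stalkMap_snd_of_isPullback`: base change preserves smoothness at a point.
* `formallySmooth_stalkMap_of_isPullback_of_flat`: descent along flat `g`.
* `formallySmooth_stalkMap_of_isPullback_of_flat_stalkMap`: descent when `g` is flat at the point.
-/

set_option autoImplicit false
universe u

open TensorProduct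

namespace Groth.Agent.Lib.SmoothLocusBC


section modules

variable {A B : Type*} [CommRing A] [CommRing B] [Algebra A B] [Module.Flat A B]
variable (M : Type*) [AddCommGroup M] [Module A M]

/-- the iso  `B_q ⊗[B] (B ⊗[A] M) ≃ B_q ⊗[A_p] (A_p ⊗[A] M)`. -/
noncomputable def locTensorEquiv (q : Ideal B) [q.IsPrime] :
    letI := Localization.AtPrime.algebraOfLiesOver (q.under A) q
    Localization.AtPrime q ⊗[B] (B ⊗[A] M) ≃ₗ[Localization.AtPrime q]
      Localization.AtPrime q ⊗[Localization.AtPrime (q.under A)]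
        (Localization.AtPrime (q.under A) ⊗[A] M) :=
  letI := Localization.AtPrime.algebraOfLiesOver (q.under A) q
  (AlgebraTensorModule.cancelBaseChange A B (Localization.AtPrime q) (Localization.AtPrime q) M) ≪≫ₗ
    (AlgebraTensorModule.cancelBaseChange A (Localization.AtPrime (q.under A))
      (Localization.AtPrime q) (Localization.AtPrime q) M).symm

theorem faithfullyFlat_localization (q : Ideal B) [q.IsPrime] :
    letI := Localization.AtPrime.algebraOfLiesOver (q.under A) q
    Module.FaithfullyFlat (Localization.AtPrime (q.under A)) (Localization.AtPrime q) := by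
  let := Localization.AtPrime.algebraOfLiesOver (q.under A) q
  have : IsLocalHom (algebraMap (Localization.AtPrime <| q.under A) (Localization.AtPrime q)) := by
    rw [RingHom.algebraMap_toAlgebra]
    exact Localization.isLocalHom_localRingHom (q.under A) q (algebraMap A B) Ideal.LiesOver.over
  exact Module.FaithfullyFlat.of_flat_of_isLocalHom

theorem comap_mem_freeLocus_of_flat [Module.FinitePresentation A M] (q : PrimeSpectrum B)
    (hq : q ∈ Module.freeLocus B (B ⊗[A] M)) :
    PrimeSpectrum.comap (algebraMap A B) q ∈ Module.freeLocus A M := by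
  let := Localization.AtPrime.algebraOfLiesOver (q.asIdeal.under A) q.asIdeal
  have hff := faithfullyFlat_localization (A := A) q.asIdeal
  rw [Module.mem_freeLocus_iff_tensor _ (Localization.AtPrime q.asIdeal)] at hq
  have h1 : Module.Free (Localization.AtPrime q.asIdeal)
      (Localization.AtPrime q.asIdeal ⊗[Localization.AtPrime (q.asIdeal.under A)]
        (Localization.AtPrime (q.asIdeal.under A) ⊗[A] M)) :=
    Module.Free.of_equiv (locTensorEquiv M q.asIdeal)
  have h2 : Module.Flat (Localization.AtPrime (q.asIdeal.under A))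
      (Localization.AtPrime (q.asIdeal.under A) ⊗[A] M) :=
    Module.Flat.of_flat_tensorProduct _ _ (Localization.AtPrime q.asIdeal)
  have h3 : Module.Free (Localization.AtPrime (q.asIdeal.under A))
      (Localization.AtPrime (q.asIdeal.under A) ⊗[A] M) :=
    Module.free_of_flat_of_isLocalRing
  have : IsLocalization.AtPrime (Localization.AtPrime (q.asIdeal.under A))
      (PrimeSpectrum.comap (algebraMap A B) q).asIdeal :=
    inferInstanceAs (IsLocalization.AtPrime (Localization.AtPrime (q.asIdeal.under A))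
      (q.asIdeal.under A))
  rw [Module.mem_freeLocus_iff_tensor _ (Localization.AtPrime (q.asIdeal.under A))]
  exact h3

theorem comap_notMem_support_of_flat (q : PrimeSpectrum B)
    (hq : q ∉ Module.support B (B ⊗[A] M)) :
    PrimeSpectrum.comap (algebraMap A B) q ∉ Module.support A M := by
  let := Localization.AtPrime.algebraOfLiesOver (q.asIdeal.under A) q.asIdeal
  have hff := faithfullyFlat_localization (A := A) q.asIdeal
  rw [Module.notMem_support_iff] at hq ⊢
  have h0 : Subsingleton (Localization.AtPrime q.asIdeal ⊗[B] (B ⊗[A] M)) :=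
    (LocalizedModule.equivTensorProduct q.asIdeal.primeCompl (B ⊗[A] M)).symm.subsingleton
  have h1 : Subsingleton (Localization.AtPrime q.asIdeal ⊗[Localization.AtPrime (q.asIdeal.under A)]
        (Localization.AtPrime (q.asIdeal.under A) ⊗[A] M)) :=
    (locTensorEquiv M q.asIdeal).symm.subsingleton
  have h2 : Subsingleton (Localization.AtPrime (q.asIdeal.under A) ⊗[A] M) :=
    Module.FaithfullyFlat.lTensor_reflects_triviality (Localization.AtPrime (q.asIdeal.under A))
      (Localization.AtPrime q.asIdeal) _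
  exact (LocalizedModule.equivTensorProduct (q.asIdeal.under A).primeCompl M).subsingleton

end modules


section H1
variable (R S A : Type*) [CommRing R] [CommRing S] [CommRing A] [Algebra R S] [Algebra R A]
  [Module.Flat R S]

attribute [local instance] Algebra.TensorProduct.rightAlgebra

noncomputable def h1BaseChange :
    (S ⊗[R] A) ⊗[A] Algebra.H1Cotangent R A →ₗ[S ⊗[R] A] Algebra.H1Cotangent S (S ⊗[R] A) :=
  LinearMap.liftBaseChange (S ⊗[R] A) (Algebra.H1Cotangent.map R S A (S ⊗[R] A))

theorem h1BaseChange_eq (z : (S ⊗[R] A) ⊗[A] Algebra.H1Cotangent R A) :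
    h1BaseChange R S A z = Algebra.tensorH1CotangentOfFlat R A S
      (Algebra.IsPushout.cancelBaseChange R S A (S ⊗[R] A) (Algebra.H1Cotangent R A) z) := by
  obtain ⟨w, rfl⟩ := (Algebra.IsPushout.cancelBaseChange R S A (S ⊗[R] A)
    (Algebra.H1Cotangent R A)).symm.surjective z
  rw [LinearEquiv.apply_symm_apply]
  induction w with
  | zero => simp
  | add x y hx hy => simp only [map_add, hx, hy]
  | tmul s x =>
    rw [Algebra.IsPushout.cancelBaseChange_symm_tmul, Algebra.tensorH1CotangentOfFlat_tmul]
    simp only [h1BaseChange, LinearMap.liftBaseChange_tmul]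
    rw [algebraMap_smul]

theorem h1BaseChange_bijective : Function.Bijective (h1BaseChange R S A) := by
  have : ⇑(h1BaseChange R S A) = (Algebra.tensorH1CotangentOfFlat R A S) ∘
      (Algebra.IsPushout.cancelBaseChange R S A (S ⊗[R] A) (Algebra.H1Cotangent R A)) := by
    funext z; exact h1BaseChange_eq R S A z
  rw [this]
  exact (Algebra.tensorH1CotangentOfFlat R A S).bijective.comp
    (Algebra.IsPushout.cancelBaseChange R S A (S ⊗[R] A) (Algebra.H1Cotangent R A)).bijective

end H1

section main
variable (R S A : Type*) [CommRing R] [CommRing S] [CommRing A] [Algebra R S] [Algebra R A]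
  [Module.Flat R S]

attribute [local instance] Algebra.TensorProduct.rightAlgebra

theorem comap_mem_smoothLocus_tensor [Algebra.FinitePresentation R A]
    (q : PrimeSpectrum (S ⊗[R] A)) (hq : q ∈ Algebra.smoothLocus S (S ⊗[R] A)) :
    PrimeSpectrum.comap (algebraMap A (S ⊗[R] A)) q ∈ Algebra.smoothLocus R A := by
  have hflat : Module.Flat A (S ⊗[R] A) :=
    Module.Flat.isBaseChange (R := R) (S := A) (M := S) (N := S ⊗[R] A)
      (inferInstance : Algebra.IsPushout R A S (S ⊗[R] A)).out
  rw [Algebra.smoothLocus_eq_compl_support_inter] at hq ⊢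
  refine ⟨?_, ?_⟩
  · have h1 : q ∉ Module.support (S ⊗[R] A) ((S ⊗[R] A) ⊗[A] Algebra.H1Cotangent R A) := by
      rw [(LinearEquiv.ofBijective _ (h1BaseChange_bijective R S A)).support_eq]
      exact hq.1
    exact comap_notMem_support_of_flat _ q h1
  · have h2 : q ∈ Module.freeLocus (S ⊗[R] A) ((S ⊗[R] A) ⊗[A] Ω[A⁄R]) := by
      rw [Module.freeLocus_congr (KaehlerDifferential.tensorKaehlerEquiv R S A (S ⊗[R] A))]
      exact hq.2
    exact comap_mem_freeLocus_of_flat _ q h2

end main

section transport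

theorem mem_smoothLocus_iff_of_algEquiv {S T B : Type*} [CommRing S] [CommRing T] [CommRing B]
    [Algebra S T] [Algebra S B] (e : T ≃ₐ[S] B) (q : PrimeSpectrum B) :
    q ∈ Algebra.smoothLocus S B ↔
      PrimeSpectrum.comap (e : T →+* B) q ∈ Algebra.smoothLocus S T := by
  have H : Submonoid.map e (PrimeSpectrum.comap (e : T →+* B) q).asIdeal.primeCompl =
      q.asIdeal.primeCompl := by
    ext x
    constructor
    · rintro ⟨y, hy, rfl⟩
      exact hy
    · intro hx
      exact ⟨e.symm x, by simpa [Ideal.primeCompl] using hx, by simp⟩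
  exact (Algebra.FormallySmooth.iff_of_equiv
    (IsLocalization.algEquivOfAlgEquiv
      (Localization.AtPrime (PrimeSpectrum.comap (e : T →+* B) q).asIdeal)
      (Localization.AtPrime q.asIdeal) e H)).symm

end transport

section pushout

variable (R S A B : Type*) [CommRing R] [CommRing S] [CommRing A] [CommRing B]
  [Algebra R S] [Algebra R A] [Algebra R B] [Algebra S B] [Algebra A B]
  [IsScalarTower R S B] [IsScalarTower R A B] [Algebra.IsPushout R S A B]

attribute [local instance] Algebra.TensorProduct.rightAlgebra in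
/-- Pointwise descent of smoothness along a flat base change: if `B = S ⊗[R] A` with `S` flat over
`R` and `A` finitely presented over `R`, and `B` is smooth over `S` at `q`, then `A` is smooth over
`R` at `q ∩ A`. -/
theorem comap_mem_smoothLocus_of_isPushout [Module.Flat R S] [Algebra.FinitePresentation R A]
    (q : PrimeSpectrum B) (hq : q ∈ Algebra.smoothLocus S B) :
    PrimeSpectrum.comap (algebraMap A B) q ∈ Algebra.smoothLocus R A := by
  let e : S ⊗[R] A ≃ₐ[S] B := Algebra.IsPushout.equiv R S A B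
  have h1 := (mem_smoothLocus_iff_of_algEquiv e q).1 hq
  have h2 := comap_mem_smoothLocus_tensor R S A _ h1
  convert h2 using 1
  ext a
  simp only [PrimeSpectrum.comap_asIdeal, Ideal.mem_comap]
  have : (e : S ⊗[R] A →+* B) (algebraMap A (S ⊗[R] A) a) = algebraMap A B a := by
    simp [e, RingHom.algebraMap_toAlgebra, Algebra.IsPushout.equiv_tmul]
  rw [this]

end pushout



section Scheme

open CategoryTheory Limits AlgebraicGeometry


variable {X Y : Scheme.{u}}

theorem exists_nhds_smooth_iff (f : X ⟶ Y) [LocallyOfFinitePresentation f] (x : X) :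
    (∃ U : X.Opens, x ∈ U ∧ Smooth (U.ι ≫ f)) ↔ (f.stalkMap x).hom.FormallySmooth := by
  rw [← Scheme.Hom.mem_smoothLocus]
  constructor
  · rintro ⟨U, hxU, hU⟩
    have h1 : (U.ι ≫ f).smoothLocus = ⊤ := Scheme.Hom.smoothLocus_eq_top _
    rw [← Scheme.Hom.preimage_smoothLocus_eq] at h1
    have : (⟨x, hxU⟩ : U) ∈ U.ι ⁻¹ᵁ f.smoothLocus := by rw [h1]; trivial
    exact this
  · intro hx
    refine ⟨f.smoothLocus, hx, ?_⟩
    rw [← Scheme.Hom.smoothLocus_eq_top_iff, ← Scheme.Hom.preimage_smoothLocus_eq]
    ext y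
    simp

open Groth.Agent.Lib.UnramifiedLocusBC in
/-- Descent of smoothness at a point along a flat base change. -/
theorem formallySmooth_stalkMap_of_isPullback_of_flat {P X Y Z : Scheme.{u}} {fst : P ⟶ X}
    {snd : P ⟶ Y} {f : X ⟶ Z} {g : Y ⟶ Z} (h : IsPullback fst snd f g)
    [LocallyOfFinitePresentation f] [Flat g] (p : P)
    (hs : (snd.stalkMap p).hom.FormallySmooth) : (f.stalkMap (fst p)).hom.FormallySmooth := by
  obtain ⟨_, ⟨V, hV, rfl⟩, hzV, -⟩ :=
    Z.isBasis_affineOpens.exists_subset_of_mem_open (Set.mem_univ (f (fst p))) isOpen_univ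
  obtain ⟨_, ⟨W, hW, rfl⟩, hxW, hWV⟩ :=
    X.isBasis_affineOpens.exists_subset_of_mem_open hzV (V.2.preimage f.continuous)
  have hg : g (snd p) ∈ V := by
    have : g (snd p) = f (fst p) := by
      rw [← Scheme.Hom.comp_apply, ← h.w, Scheme.Hom.comp_apply]
    rw [this]; exact hzV
  obtain ⟨_, ⟨V', hV', rfl⟩, hyV', hV'V⟩ :=
    Y.isBasis_affineOpens.exists_subset_of_mem_open hg (V.2.preimage g.continuous)
  let W' : P.Opens := fst ⁻¹ᵁ W ⊓ snd ⁻¹ᵁ V'
  have hpW' : p ∈ W' := ⟨hxW, hyV'⟩
  have hW' : IsAffineOpen W' := by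
    have : IsAffine V := hV
    have : IsAffine V' := hV'
    have : IsAffine W := hW
    exact .of_isIso (Scheme.Hom.isPullback_resLE h hV'V hWV rfl).isoPullback.hom
  have hW'W : W' ≤ fst ⁻¹ᵁ W := inf_le_left
  have hW'V' : W' ≤ snd ⁻¹ᵁ V' := inf_le_right
  have hpo : IsPushout (f.appLE V W hWV) (g.appLE V V' hV'V) (fst.appLE W W' hW'W)
      (snd.appLE V' W' hW'V') :=
    (isIso_pushoutSection_iff h hV'V hWV rfl).mp
      (isIso_pushoutSection_of_isAffineOpen h hV'V hWV rfl hV hV' hW)
  rw [formallySmooth_stalkMap_iff V' hV' W' hW' hW'V' hpW'] at hs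
  rw [formallySmooth_stalkMap_iff V hV W hW hWV hxW]
  let := (f.appLE V W hWV).hom.toAlgebra
  let := (g.appLE V V' hV'V).hom.toAlgebra
  let := (fst.appLE W W' hW'W).hom.toAlgebra
  let := (snd.appLE V' W' hW'V').hom.toAlgebra
  let : Algebra Γ(Z, V) Γ(P, W') := ((f.appLE V W hWV) ≫ (fst.appLE W W' hW'W)).hom.toAlgebra
  have : IsScalarTower Γ(Z, V) Γ(X, W) Γ(P, W') := .of_algebraMap_eq' rfl
  have : IsScalarTower Γ(Z, V) Γ(Y, V') Γ(P, W') := .of_algebraMap_eq' congr(($hpo.w).hom)
  have : Algebra.IsPushout Γ(Z, V) Γ(Y, V') Γ(X, W) Γ(P, W') :=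
    CommRingCat.isPushout_iff_isPushout.mp hpo.flip
  have : Algebra.FinitePresentation Γ(Z, V) Γ(X, W) := f.finitePresentation_appLE hV hW hWV
  have : Module.Flat Γ(Z, V) Γ(Y, V') := g.flat_appLE hV hV' hV'V
  have key := comap_mem_smoothLocus_of_isPushout Γ(Z, V) Γ(Y, V') Γ(X, W) Γ(P, W') _ hs
  have := IsAffineOpen.comap_primeIdealOf_appLE W hW W' hW' hW'W hpW'
  rw [← this]
  exact key


/-- Base change preserves smoothness at a point. -/
theorem formallySmooth_stalkMap_snd_of_isPullback {P X Y Z : Scheme.{u}} {fst : P ⟶ X}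
    {snd : P ⟶ Y} {f : X ⟶ Z} {g : Y ⟶ Z} (h : IsPullback fst snd f g)
    [LocallyOfFinitePresentation f] (p : P)
    (hs : (f.stalkMap (fst p)).hom.FormallySmooth) : (snd.stalkMap p).hom.FormallySmooth := by
  have : LocallyOfFinitePresentation snd := MorphismProperty.of_isPullback h ‹_›
  rw [← exists_nhds_smooth_iff] at hs ⊢
  obtain ⟨U, hxU, hU⟩ := hs
  refine ⟨fst ⁻¹ᵁ U, hxU, ?_⟩
  have h1 : IsPullback (fst ∣_ U) (fst ⁻¹ᵁ U).ι U.ι fst := isPullback_morphismRestrict fst U
  have h2 : IsPullback (fst ∣_ U) ((fst ⁻¹ᵁ U).ι ≫ snd) (U.ι ≫ f) g := h1.paste_vert h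
  exact MorphismProperty.of_isPullback h2 hU


lemma formallySmooth_stalkMap_congr {X Y : Scheme.{u}} {f : X ⟶ Y} {x x' : X} (h : x = x') :
    (f.stalkMap x).hom.FormallySmooth ↔ (f.stalkMap x').hom.FormallySmooth := by
  subst h; rfl

open Groth.Agent.Lib.H71GeomRedAt in
/-- `Spec 𝒪_{Y,y} ⟶ Y ⟶ Z` is flat if `g` is flat at `y`. -/
theorem flat_fromSpecStalk_comp {Y Z : Scheme.{u}} (g : Y ⟶ Z) (y : Y)
    (hg : (g.stalkMap y).hom.Flat) : Flat (Y.fromSpecStalk y ≫ g) := by
  rw [← Scheme.SpecMap_stalkMap_fromSpecStalk]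
  have : Flat (Spec.map (g.stalkMap y)) := by rw [Flat.SpecMap_iff]; exact hg
  infer_instance

/-- Descent of smoothness at a point along a base change which is flat at the image point
(EGA IV 17.7.1). -/
theorem formallySmooth_stalkMap_of_isPullback_of_flat_stalkMap {P X Y Z : Scheme.{u}} {fst : P ⟶ X}
    {snd : P ⟶ Y} {f : X ⟶ Z} {g : Y ⟶ Z} (h : IsPullback fst snd f g)
    [LocallyOfFinitePresentation f] (p : P) (hg : (g.stalkMap (snd p)).hom.Flat)
    (hs : (snd.stalkMap p).hom.FormallySmooth) : (f.stalkMap (fst p)).hom.FormallySmooth := by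
  let j := Y.fromSpecStalk (snd p)
  have : Flat (j ≫ g) := flat_fromSpecStalk_comp g (snd p) hg
  have : LocallyOfFinitePresentation snd := MorphismProperty.of_isPullback h ‹_›
  have h2 : IsPullback (pullback.fst snd j) (pullback.snd snd j) snd j :=
    IsPullback.of_hasPullback _ _
  have h3 : IsPullback (pullback.fst snd j ≫ fst) (pullback.snd snd j) f (j ≫ g) :=
    h2.paste_horiz h
  obtain ⟨p'', hp1, hp2⟩ := Scheme.Pullback.exists_preimage_pullback (f := snd) (g := j) p
    (IsLocalRing.closedPoint _) (by rw [Scheme.fromSpecStalk_closedPoint])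
  have hs2 : ((pullback.snd snd j).stalkMap p'').hom.FormallySmooth :=
    formallySmooth_stalkMap_snd_of_isPullback h2 p''
      ((formallySmooth_stalkMap_congr hp1).2 hs)
  have h4 := formallySmooth_stalkMap_of_isPullback_of_flat h3 p'' hs2
  refine (formallySmooth_stalkMap_congr ?_).1 h4
  rw [Scheme.Hom.comp_apply, hp1]


end Scheme

end Groth.Agent.Lib.SmoothLocusBC
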