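/-
helper14: smoothness of a scheme locally of finite type over a field at a point, in terms of the local
ring: `x ∈ smoothLocus ↔ FormallySmooth k 𝒪_{X,x}`; formally smooth ess. f.t. local algebras over a
field are regular; geometric regularity at a point ⇔ smooth at the point.
-/
import Groth.Agent.Lib.H14BcCpl
import Groth.Agent.Lib.H14GeomRegAt
import Groth.Agent.Lib.H56RegSmooth2
import Groth.Agent.Lib.H87GenSmoothRegSch
import Groth.Agent.Lib.SmoothLocusBC
import Mathlib

set_option autoImplicit false
set_option linter.style.haveILetI false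
set_option linter.unusedSectionVars false
universe u

open CategoryTheory CategoryTheory.Limits AlgebraicGeometry TensorProduct

namespace Groth.Agent.Lib.H14SmoothReg

open IsLocalRing

section Ring

/-- A local algebra essentially of finite type and formally smooth over a field is regular. -/
theorem isRegularLocalRing_of_formallySmooth (K B : Type u) [Field K] [CommRing B] [Algebra K B]
    [IsLocalRing B] [Algebra.EssFiniteType K B] [Algebra.FormallySmooth K B] :
    IsRegularLocalRing B := by
  have hloc := Groth.Agent.Lib.H56RegSmooth.isLocalization_atPrime_of_essFiniteType K B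
  set q := (maximalIdeal B).comap (algebraMap (Algebra.EssFiniteType.subalgebra K B) B) with hq
  let e : Localization.AtPrime q ≃ₐ[Algebra.EssFiniteType.subalgebra K B] B :=
    IsLocalization.algEquiv q.primeCompl _ _
  haveI : Algebra.FiniteType K (Algebra.EssFiniteType.subalgebra K B) := inferInstance
  haveI : Algebra.FinitePresentation K (Algebra.EssFiniteType.subalgebra K B) :=
    Algebra.FinitePresentation.of_finiteType.mp inferInstance
  have hsm : Algebra.IsSmoothAt K q :=
    Algebra.FormallySmooth.of_equiv (e.symm.restrictScalars K)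
  have hreg : IsRegularLocalRing (Localization.AtPrime q) :=
    Groth.Agent.Lib.H56RegSmooth.isRegularLocalRing_of_isSmoothAt q hsm
  exact IsRegularLocalRing.of_ringEquiv e.toRingEquiv

end Ring

section Scheme

open Groth.Agent.Lib.H14BcCpl Groth.Agent.Lib.H14GeomP

set_option backward.isDefEq.respectTransparency false in
/-- The canonical map from a field to a local ring of its spectrum is bijective. -/
theorem bijective_toStalk_field (k : Type u) [Field k] (p : ↥(Spec (CommRingCat.of k))) :
    Function.Bijective ((((Spec (CommRingCat.of k)).presheaf.Γgerm p).hom).comp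
        (Scheme.ΓSpecIso (CommRingCat.of k)).inv.hom) := by
  let K' := (Spec.structureSheaf k).presheaf.stalk p
  let e : k ≃ₐ[k] K' := IsLocalization.atUnits _ p.asIdeal.primeCompl
      (fun x hx ↦ by aesop (add simp IsUnit.mem_submonoid_iff))
  exact e.bijective

section

variable (k : Type u) [Field k] (X : Scheme.{u}) [X.Over (Spec (CommRingCat.of k))] (x : X)

theorem stalkMap_eq_comp :
    Curv2.stalkMap k X x = ((X ↘ Spec (CommRingCat.of k)).stalkMap x).hom.comp
      ((((Spec (CommRingCat.of k)).presheaf.Γgerm ((X ↘ Spec (CommRingCat.of k)) x)).hom).comp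
        (Scheme.ΓSpecIso (CommRingCat.of k)).inv.hom) := by
  ext a
  simp only [Curv2.stalkMap, Coh.toGlobal, RingHom.comp_apply]
  exact (Scheme.Hom.germ_stalkMap_apply (X ↘ Spec (CommRingCat.of k)) ⊤ x trivial _).symm

theorem formallySmooth_comp_bijective {R S T : Type u} [CommRing R] [CommRing S] [CommRing T]
    (f : S →+* T) (φ : R →+* S) (hφ : Function.Bijective φ) :
    (f.comp φ).FormallySmooth ↔ f.FormallySmooth := by
  let e : R ≃+* S := RingEquiv.ofBijective φ hφ
  have h1 : f.comp φ = f.comp e.toRingHom := rfl
  constructor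
  · intro h
    have h2 := RingHom.FormallySmooth.respectsIso.2 (f.comp e.toRingHom) e.symm (h1 ▸ h)
    have h3 : (f.comp e.toRingHom).comp e.symm.toRingHom = f := by
      ext s; simp
    rwa [h3] at h2
  · intro h
    rw [h1]
    exact RingHom.FormallySmooth.respectsIso.2 f e h

attribute [local instance] Curv2.stalkAlgebra

theorem mem_smoothLocus_iff [LocallyOfFinitePresentation (X ↘ Spec (CommRingCat.of k))] :
    x ∈ (X ↘ Spec (CommRingCat.of k)).smoothLocus ↔
      Algebra.FormallySmooth k (X.presheaf.stalk x) := by
  rw [Scheme.Hom.mem_smoothLocus]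
  have h := formallySmooth_comp_bijective ((X ↘ Spec (CommRingCat.of k)).stalkMap x).hom _
    (bijective_toStalk_field k ((X ↘ Spec (CommRingCat.of k)) x))
  rw [← stalkMap_eq_comp] at h
  exact h.symm

end

/-- A formally smooth algebra essentially of finite type over a field is geometrically regular. -/
theorem g0_regular_of_formallySmooth (k B : Type u) [Field k] [CommRing B] [Algebra k B]
    [Algebra.EssFiniteType k B] [Algebra.FormallySmooth k B] :
    G0 (fun (R : Type u) [CommRing R] => IsRegularRing R) k B := by
  intro k' _ _ hfin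
  haveI : Algebra.EssFiniteType k' (k' ⊗[k] B) := inferInstance
  haveI : Algebra.FormallySmooth k' (k' ⊗[k] B) := inferInstance
  haveI : IsNoetherianRing (k' ⊗[k] B) := Algebra.EssFiniteType.isNoetherianRing k' _
  rw [isRegularRing_iff]
  intro Q hQ
  haveI : Algebra.EssFiniteType k' (Localization.AtPrime Q) :=
    Algebra.EssFiniteType.comp k' (k' ⊗[k] B) _
  haveI : Algebra.FormallySmooth (k' ⊗[k] B) (Localization.AtPrime Q) :=
    Algebra.FormallySmooth.of_isLocalization Q.primeCompl
  haveI : Algebra.FormallySmooth k' (Localization.AtPrime Q) :=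
    Algebra.FormallySmooth.comp k' (k' ⊗[k] B) _
  exact isRegularLocalRing_of_formallySmooth k' _

attribute [local instance] Curv2.stalkAlgebra
open Groth.Agent.Lib.H14GeomRegAt

theorem essFiniteType_stalk (k : Type u) [Field k] (X : Scheme.{u})
    [X.Over (Spec (CommRingCat.of k))] [LocallyOfFiniteType (X ↘ Spec (CommRingCat.of k))] (x : X) :
    Algebra.EssFiniteType k (X.presheaf.stalk x) :=
  essFiniteType_stalkHom (X ↘ Spec (CommRingCat.of k)) x

theorem perfectField_functionField_spec (K : Type u) [Field K] [PerfectField K] :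
    PerfectField (Spec (CommRingCat.of K)).functionField := by
  have hφ := bijective_toStalk_field K (genericPoint (Spec (CommRingCat.of K)))
  letI : Algebra K (Spec (CommRingCat.of K)).functionField := RingHom.toAlgebra
    ((((Spec (CommRingCat.of K)).presheaf.Γgerm (genericPoint (Spec (CommRingCat.of K)))).hom).comp
        (Scheme.ΓSpecIso (CommRingCat.of K)).inv.hom)
  haveI : Algebra.IsAlgebraic K (Spec (CommRingCat.of K)).functionField :=
    ⟨fun y => by obtain ⟨a, rfl⟩ := hφ.2 y; exact isAlgebraic_algebraMap a⟩
  exact Algebra.IsAlgebraic.perfectField (K := K)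

theorem mem_smoothLocus_of_isGeomRegularAt (k : Type u) [Field k] (X : Scheme.{u})
    [X.Over (Spec (CommRingCat.of k))]
    [LocallyOfFinitePresentation (X ↘ Spec (CommRingCat.of k))] (x : X)
    (h : Curv2.IsGeomRegularAt k X x) : x ∈ (X ↘ Spec (CommRingCat.of k)).smoothLocus := by
  haveI : IsLocallyNoetherian X :=
    LocallyOfFiniteType.isLocallyNoetherian (X ↘ Spec (CommRingCat.of k))
  have hG := (isGeomRegularAt_iff_g0 k X x).mp h
  let K := AlgebraicClosure k
  haveI : Algebra.EssFiniteType k (X.presheaf.stalk x) := essFiniteType_stalk k X x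
  haveI : IsNoetherianRing (X.presheaf.stalk x) := Algebra.EssFiniteType.isNoetherianRing k _
  haveI : Algebra.EssFiniteType K (K ⊗[k] X.presheaf.stalk x) := inferInstance
  haveI : IsNoetherianRing (K ⊗[k] X.presheaf.stalk x) :=
    Algebra.EssFiniteType.isNoetherianRing K _
  have hreg : IsRegularRing (K ⊗[k] X.presheaf.stalk x) :=
    isRegularRing_tensor_of_g0 k (X.presheaf.stalk x) K hG
  obtain ⟨x', hx1, hx2⟩ := Scheme.Pullback.exists_preimage_pullback
    (f := X ↘ Spec (CommRingCat.of k)) (g := Spec.map (CommRingCat.ofHom (algebraMap k K)))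
    x default (Subsingleton.elim _ _)
  have hx'reg : IsRegularLocalRing ((Curv2.bc k X K).presheaf.stalk x') :=
    of_tensor k X x K hreg x' hx1
  haveI := perfectField_functionField_spec K
  have hsm' : x' ∈ (Curv2.bcSnd k X K).smoothLocus :=
    Groth.Agent.Lib.H87GenSmoothRegSch.mem_smoothLocus_of_map_eq_genericPoint _ x'
      (Subsingleton.elim _ _) hx'reg
  rw [Scheme.Hom.mem_smoothLocus] at hsm' ⊢
  have key := Groth.Agent.Lib.SmoothLocusBC.formallySmooth_stalkMap_of_isPullback_of_flat
    (IsPullback.of_hasPullback (X ↘ Spec (CommRingCat.of k))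
      (Spec.map (CommRingCat.ofHom (algebraMap k K)))) x' hsm'
  exact (Groth.Agent.Lib.SmoothLocusBC.formallySmooth_stalkMap_congr hx1).mp key

/-- **Geometric regularity at a point is smoothness at the point** (Stacks 038X). -/
theorem isGeomRegularAt_iff_mem_smoothLocus (k : Type u) [Field k] (X : Scheme.{u})
    [X.Over (Spec (CommRingCat.of k))]
    [LocallyOfFinitePresentation (X ↘ Spec (CommRingCat.of k))] (x : X) :
    Curv2.IsGeomRegularAt k X x ↔ x ∈ (X ↘ Spec (CommRingCat.of k)).smoothLocus := by
  refine ⟨mem_smoothLocus_of_isGeomRegularAt k X x, fun h => ?_⟩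
  haveI : IsLocallyNoetherian X :=
    LocallyOfFiniteType.isLocallyNoetherian (X ↘ Spec (CommRingCat.of k))
  rw [isGeomRegularAt_iff_g0]
  haveI := essFiniteType_stalk k X x
  haveI : Algebra.FormallySmooth k (X.presheaf.stalk x) := (mem_smoothLocus_iff k X x).mp h
  exact g0_regular_of_formallySmooth k _

/-- Over a perfect field, the smooth locus is the regular locus. -/
theorem mem_smoothLocus_iff_isRegularLocalRing (k : Type u) [Field k] [PerfectField k]
    (X : Scheme.{u}) [X.Over (Spec (CommRingCat.of k))]
    [LocallyOfFinitePresentation (X ↘ Spec (CommRingCat.of k))] (x : X) :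
    x ∈ (X ↘ Spec (CommRingCat.of k)).smoothLocus ↔ IsRegularLocalRing (X.presheaf.stalk x) := by
  haveI := essFiniteType_stalk k X x
  rw [mem_smoothLocus_iff]
  exact ⟨fun h => isRegularLocalRing_of_formallySmooth k _,
    fun h => Groth.Agent.Lib.H87GenSmoothReg.formallySmooth_of_isRegularLocalRing k _⟩

/-- Smooth at a point with formally smooth (separable) residue field iff regular at the point. -/
theorem mem_smoothLocus_iff_isRegularLocalRing_of_residueField (k : Type u) [Field k]
    (X : Scheme.{u}) [X.Over (Spec (CommRingCat.of k))]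
    [LocallyOfFinitePresentation (X ↘ Spec (CommRingCat.of k))] (x : X)
    [Algebra.FormallySmooth k (IsLocalRing.ResidueField (X.presheaf.stalk x))] :
    x ∈ (X ↘ Spec (CommRingCat.of k)).smoothLocus ↔ IsRegularLocalRing (X.presheaf.stalk x) := by
  haveI := essFiniteType_stalk k X x
  rw [mem_smoothLocus_iff]
  exact ⟨fun h => isRegularLocalRing_of_formallySmooth k _,
    fun h => Groth.Agent.Lib.H56RegSmooth.formallySmooth_of_isRegularLocalRing_of_essFiniteType k _⟩

end Scheme

end Groth.Agent.Lib.H14SmoothReg
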