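import Groth.Agent.Lib.AlgStOnePt
import Groth.Agent.Lib.H69AlgSpRegular
import Groth.Agent.Lib.H14SmoothReg

/-!
# Reduced locally Noetherian one-point algebraic stacks are regular (helper36)

ns `Groth.Agent.Lib.AlgStOnePt`

* `isRegularSch_of_smooth_field` : a scheme smooth over a field is regular.
* `smoothLocally_regular_of_fppf_fieldPt` : an algebraic stack with a flat, locally finitely
  presented, surjective field point is regular.
-/

set_option autoImplicit false
set_option linter.style.haveILetI false
set_option backward.isDefEq.respectTransparency false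
set_option backward.isDefEq.respectTransparency.types false

namespace Groth.Agent.Lib.AlgStOnePt

open CategoryTheory CategoryTheory.Limits AlgebraicGeometry Opposite AlgSt
  Groth.Agent.Lib.H69AlgSpRegular

universe u

attribute [local instance] Curv2.stalkAlgebra in
/-- A scheme smooth over a field is regular. -/
theorem isRegularSch_of_smooth_field (k : Type u) [Field k] {W : Scheme.{u}}
    (b : W ⟶ Spec (CommRingCat.of k)) [Smooth b] : IsRegularSch W := by
  letI : W.Over (Spec (CommRingCat.of k)) := ⟨b⟩
  haveI : Smooth (W ↘ Spec (CommRingCat.of k)) := ‹Smooth b›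
  haveI : LocallyOfFinitePresentation (W ↘ Spec (CommRingCat.of k)) := inferInstance
  haveI : LocallyOfFiniteType (W ↘ Spec (CommRingCat.of k)) := inferInstance
  refine ⟨LocallyOfFiniteType.isLocallyNoetherian (W ↘ Spec (CommRingCat.of k)), fun w => ?_⟩
  haveI := Groth.Agent.Lib.H14SmoothReg.essFiniteType_stalk k W w
  have h : w ∈ (W ↘ Spec (CommRingCat.of k)).smoothLocus := by
    rw [Scheme.Hom.smoothLocus_eq_top]; trivial
  haveI : Algebra.FormallySmooth k (W.presheaf.stalk w) :=
    (Groth.Agent.Lib.H14SmoothReg.mem_smoothLocus_iff k W w).mp h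
  exact Groth.Agent.Lib.H14SmoothReg.isRegularLocalRing_of_formallySmooth k _

variable {S : Scheme.{u}} {𝒵 : AlgSt.Cat S}

/-- An algebraic stack with a flat, locally finitely presented, surjective field point is
regular. -/
theorem smoothLocally_regular_of_fppf_fieldPt
    (k : Type u) [Field k] (a : Spec (CommRingCat.of k) ⟶ S)
    (z : FibCat.overCat (Over.mk a) ⥤ᵇ 𝒵)
    (hzs : AlgSt.RepByAlgSpWith AlgSp.IsSurjectiveMor z)
    (hzf : AlgSt.RepByAlgSpWith (AlgSp.LocP @Flat) z)
    (hzp : AlgSt.RepByAlgSpWith (AlgSp.LocP @LocallyOfFinitePresentation) z) :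
    AlgSt.SmoothLocally (fun T => ∀ t : T, IsRegularLocalRing (T.presheaf.stalk t)) 𝒵 := by
  intro U x hx
  obtain ⟨W, b, c, hb, hc, hc', hcs⟩ := exists_correspondence_fieldPt
    Groth.Agent.Lib.AlgStPtsQC2.atlasClass_locP_flat
    Groth.Agent.Lib.AlgStPtsQC2.atlasClass_locP_lfp z x hx hzf hzp hzs
  haveI : Smooth b.left := hb
  have hW : IsRegularSch W.left :=
    isRegularSch_of_smooth_field k (W := W.left) b.left
  exact (isRegularSch_of_fppf c.left hc hc' ⟨hcs⟩ hW).2

end Groth.Agent.Lib.AlgStOnePt
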