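import Groth.Agent.Lib.H78AlgStPoints
import Groth.Agent.Lib.AlgStMonoFull

/-!
# Full functors are injective on points (helper64)

* `points_map_injective_of_full` : a full functor between categories fibred in groupoids over
  `(Sch/S)` is injective on points.
* `points_map_injective_of_isMono` (= S12848).
-/

set_option autoImplicit false
set_option linter.style.haveILetI false

namespace Groth.Agent.Lib.AlgStPointsInj

open CategoryTheory AlgebraicGeometry AlgSt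

universe w' v' w v u

variable {S : Scheme.{u}} {𝒳 : BasedCategory.{v, w} (Over S)} {𝒴 : BasedCategory.{v', w'} (Over S)}

theorem points_map_injective_of_full (h𝒳 : FibCat.IsFibGrpd 𝒳.p) (h𝒴 : FibCat.IsFibGrpd 𝒴.p)
    (f : 𝒳 ⥤ᵇ 𝒴) [f.toFunctor.Full] : Function.Injective (Points.map f) := by
  intro P Q hPQ
  obtain ⟨p, rfl⟩ := Points.mk_surjective P
  obtain ⟨q, rfl⟩ := Points.mk_surjective Q
  rw [Points.map_mk, Points.map_mk, Groth.Agent.Lib.H78AlgStPoints.mk_eq_mk_iff h𝒴] at hPQ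
  obtain ⟨r, a, b, -⟩ := hPQ
  change r.obj ⟶ f.obj p.obj at a
  change r.obj ⟶ f.obj q.obj at b
  apply Points.sound
  obtain ⟨y, ψ, hψ⟩ := h𝒳.exists_lift (𝒴.p.map a ≫ eqToHom (f.w_obj p.obj))
  have h1 : 𝒴.p.IsHomLift (𝒴.p.map a ≫ eqToHom (f.w_obj p.obj)) (f.map ψ) :=
    BasedFunctor.preserves_isHomLift f _ ψ
  have h2 : 𝒴.p.IsHomLift (𝒴.p.map a) (f.map ψ) :=
    (IsHomLift.lift_comp_eqToHom_iff _ _ _ _).1 h1
  have := h𝒴.isStronglyCartesian a
  let χ : f.obj y ⟶ r.obj := Functor.IsStronglyCartesian.map 𝒴.p (𝒴.p.map a) a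
    (g := 𝟙 _) (f' := 𝒴.p.map a) (Category.id_comp _).symm (f.map ψ)
  obtain ⟨β, -⟩ := f.toFunctor.map_surjective (χ ≫ b)
  have hy : 𝒳.p.obj y = Over.mk r.str :=
    (IsHomLift.domain_eq 𝒳.p (𝒴.p.map a ≫ eqToHom (f.w_obj p.obj)) ψ).trans r.lies
  exact ⟨⟨r.K, r.str, y, hy⟩, ψ, β, trivial⟩

/-- = S12848. -/
theorem points_map_injective_of_isMono {𝒳 𝒴 : AlgSt.Cat S} (h𝒳 : FibCat.IsFibGrpd 𝒳.p)
    (h𝒴 : FibCat.IsFibGrpd 𝒴.p) (f : 𝒳 ⥤ᵇ 𝒴) (hf : AlgSt.IsMono f) :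
    Function.Injective (Points.map f) := by
  haveI := h𝒳
  haveI := h𝒴
  haveI := (Groth.Agent.Lib.AlgStMonoFull.full_faithful_of_isMono f hf).1
  exact points_map_injective_of_full h𝒳 h𝒴 f

end Groth.Agent.Lib.AlgStPointsInj
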