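import Groth.Agent.Lib.AlgStSubImage
import Groth.Agent.Lib.AlgStPointsInj

/-!
# Open substacks II: images of charts (helper36)

ns `Groth.Agent.Lib.AlgStOpenSub`

* `ptsIn_range_map_obj` : values of `f` have all their points in the image of `|f|`.
* `repByAlgSpWith_of_comp_ff` : cancel a fully faithful functor on the right.
* `exists_openSubstack_image` (= S12860).
-/

set_option autoImplicit false
set_option linter.style.haveILetI false
set_option backward.isDefEq.respectTransparency false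
set_option backward.isDefEq.respectTransparency.types false

namespace Groth.Agent.Lib.AlgStOpenSub

open CategoryTheory CategoryTheory.Limits AlgebraicGeometry Opposite AlgSt
  Groth.Agent.Lib.H78AlgStPoints Groth.Agent.Lib.H78AlgStPointsFp Groth.Agent.Lib.AlgStPts
  Groth.Agent.Lib.AlgStPtsTop Groth.Agent.Lib.AlgStPtsSurj Groth.Agent.Lib.AlgStPtsMain
  Groth.Agent.Lib.AlgStPtsQC Groth.Agent.Lib.AlgStPtsQC2
  Groth.Agent.Lib.FibGrpd Groth.Agent.Lib.AlgStFp Groth.Agent.Lib.AlgStEquiv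
  Groth.Agent.Lib.FpEquiv Groth.Agent.Lib.FibYoneda

universe u

variable {S : Scheme.{u}} {𝒳 𝒴 𝒜 : AlgSt.Cat S}

instance subIncl_full (Q : 𝒳.obj → Prop) : (subIncl 𝒳 Q).toFunctor.Full :=
  inferInstanceAs (ObjectProperty.ι Q).Full

instance subIncl_faithful (Q : 𝒳.obj → Prop) : (subIncl 𝒳 Q).toFunctor.Faithful :=
  inferInstanceAs (ObjectProperty.ι Q).Faithful

/-- The values of a functor have all their field points in the image of the functor. -/
theorem ptsIn_range_map_obj [FibCat.IsFibGrpd 𝒜.p] [FibCat.IsFibGrpd 𝒳.p] (f : 𝒜 ⥤ᵇ 𝒳)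
    (a : 𝒜.obj) : ptsIn (Set.range (Points.map f)) (f.obj a) := by
  rintro p ⟨c⟩
  have hb : 𝒳.p.obj (f.obj a) = 𝒜.p.obj a := f.w_obj a
  let k : Over.mk p.str ⟶ 𝒜.p.obj a := eqToHom p.lies.symm ≫ 𝒳.p.map c ≫ eqToHom hb
  haveI hc : 𝒳.p.IsHomLift k c := IsHomLift.of_fac 𝒳.p k c p.lies hb rfl
  obtain ⟨a', ψ, hψ⟩ := FibCat.IsFibGrpd.exists_lift (p := 𝒜.p) (x := a) k
  haveI := hψ
  haveI : 𝒳.p.IsHomLift k (f.map ψ) := BasedFunctor.preserves_isHomLift f k ψ
  obtain ⟨ε, -, -⟩ := Groth.Agent.Lib.H43StkDescent.exists_iso_of_isHomLift k (f.map ψ) c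
  let q : FPt 𝒜 := { K := p.K, str := p.str, obj := a', lies := IsHomLift.domain_eq 𝒜.p k ψ }
  exact ⟨Points.mk q, (Points.sound ⟨p, 𝟙 _, ε.hom, trivial⟩ : Points.mk p = Points.mk (q.map f)).symm⟩

/-- Cancelling a fully faithful functor on the right. -/
theorem repByAlgSpWith_of_comp_ff (P : MorphismProperty (AlgSp.Sp S)) (g : 𝒜 ⥤ᵇ 𝒴) (i : 𝒴 ⥤ᵇ 𝒳)
    [i.toFunctor.Full] [i.toFunctor.Faithful]
    (h : RepByAlgSpWith P (BasedFunctor.comp g i)) : RepByAlgSpWith P g := by
  intro T z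
  obtain ⟨F, e, he, hP⟩ := h T (BasedFunctor.comp z i)
  let α : BasedFunctor.comp z i ≅
      BasedFunctor.comp (BasedFunctor.id _) (BasedFunctor.comp z i) := (idCompIso _).symm
  let β : BasedFunctor.comp g i ≅
      BasedFunctor.comp (BasedFunctor.id _) (BasedFunctor.comp g i) := (idCompIso _).symm
  let c : FibCat.fp z g ⥤ᵇ FibCat.fp (BasedFunctor.comp z i) (BasedFunctor.comp g i) :=
    fpMap (BasedFunctor.id _) (BasedFunctor.id _) i α β
  have hc : FibCat.IsEquivOver c :=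
    fpMap_isEquivOver (BasedFunctor.id _) (BasedFunctor.id _) i α β isEquivOver_id isEquivOver_id
  obtain ⟨c', ⟨η'⟩, ⟨η⟩⟩ := hc
  have hc' : FibCat.IsEquivOver c' := isEquivOver_symm c η' η
  refine ⟨F, BasedFunctor.comp e c', isEquivOver_comp he hc', ?_⟩
  have key : spMapOfOver (BasedFunctor.comp (BasedFunctor.comp e c') (FibCat.fpFst z g)) =
      spMapOfOver (BasedFunctor.comp e (FibCat.fpFst (BasedFunctor.comp z i)
        (BasedFunctor.comp g i))) := by
    have h1 : BasedFunctor.comp (BasedFunctor.comp e c') (FibCat.fpFst z g) =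
        BasedFunctor.comp (BasedFunctor.comp e (BasedFunctor.comp c' c))
          (FibCat.fpFst (BasedFunctor.comp z i) (BasedFunctor.comp g i)) := rfl
    rw [h1]
    exact Groth.Agent.Lib.AlgStRep.spMapOfOver_congr
      (whiskerRightIso (whiskerLeftIso e η ≪≫ compIdIso e)
        (FibCat.fpFst (BasedFunctor.comp z i) (BasedFunctor.comp g i))).hom
  rw [key]
  exact hP


/-- **The image of a smooth map from an algebraic space is an open substack**, onto which the map is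
smooth and surjective. -/
theorem exists_openSubstack_image (h𝒳 : IsAlgStack Scheme.fppfPrecoverage 𝒳) (V : AlgSp.Space S)
    (w : ofSp V.obj ⥤ᵇ 𝒳) (hw : RepByAlgSpWith (AlgSp.LocP @Smooth) w) :
    ∃ (Q : 𝒳.obj → Prop) (g : ofSp V.obj ⥤ᵇ fullSub 𝒳 Q),
      IsOpenSubstack 𝒳 Q Scheme.fppfPrecoverage ∧ RepByAlgSpWith (AlgSp.LocP @Smooth) g ∧
        RepByAlgSpWith AlgSp.IsSurjectiveMor g ∧ BasedFunctor.comp g (subIncl 𝒳 Q) = w := by
  haveI := h𝒳.isStack.1
  haveI : FibCat.IsFibGrpd (ofSp V.obj).p := Stk.isFibGrpd_ofPsh V.obj.obj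
  have hfl := flatLfp_repByAlgSpWith_of_smooth w hw
  have hT : IsOpen (Set.range (Points.map w)) := by
    have h1 : Set.range (Points.map w) = Set.range (ptsMap w) :=
      ((spPts V.obj).surjective.range_comp (Points.map w)).symm
    rw [h1]
    exact (isOpenMap_ptsMap V w hfl.1 hfl.2).isOpen_range
  have hQ := isOpenSubstack_ptsIn h𝒳 hT
  haveI := hQ.2.1.isStack.1
  let g : ofSp V.obj ⥤ᵇ fullSub 𝒳 (ptsIn (Set.range (Points.map w))) :=
    liftSub _ w (ptsIn_range_map_obj w)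
  have hg : BasedFunctor.comp g (subIncl 𝒳 _) = w := rfl
  have hsm : RepByAlgSpWith (AlgSp.LocP @Smooth) g :=
    repByAlgSpWith_of_comp_ff _ g (subIncl 𝒳 _) hw
  refine ⟨_, g, hQ, hsm, ?_, hg⟩
  refine repByAlgSpWith_isSurjectiveMor_of_isSurjective g (repByAlgSp1_of_repByAlgSpWith _ hsm) ?_
  intro η
  have h2 : Points.map (subIncl 𝒳 (ptsIn (Set.range (Points.map w)))) η ∈
      Set.range (Points.map w) :=
    (range_subIncl_ptsIn (Set.range (Points.map w))).le ⟨η, rfl⟩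
  obtain ⟨ζ, hζ⟩ := h2
  refine ⟨ζ, Groth.Agent.Lib.AlgStPointsInj.points_map_injective_of_full inferInstance
    inferInstance (subIncl 𝒳 _) ?_⟩
  rw [← map_comp]
  exact hζ

end Groth.Agent.Lib.AlgStOpenSub
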