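import Groth.Agent.Lib.H43StkDescent

/-!
# Object-level consequences of the (pre)stack conditions, part 2 (helper43)

* `hom_ext_of_faithful_resSieve` : separation: in a category fibred in groupoids, two morphisms over `𝟙 U` that agree
  after precomposition with all morphisms lying over arrows of a sieve `R` with `resSieve R 𝒳` faithful are equal.
* `hom_ext_of_isPrestack` : the same for a covering sieve of a prestack.
-/

set_option autoImplicit false
set_option linter.style.haveILetI false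
set_option backward.isDefEq.respectTransparency false
set_option backward.isDefEq.respectTransparency.types false

namespace Groth.Agent.Lib.H43StkDescent

open CategoryTheory Functor Groth.Agent.Lib.FibGrpd Groth.Agent.Lib.FpEquiv Groth.Agent.Lib.FibYoneda

universe v₅ u₅ v₄ u₄ v₃ u₃ v₂ u₂ v u

variable {C : Type u} [Category.{v} C]

section Sep

variable {𝒳 : BasedCategory.{v₂, u₂} C} [FibCat.IsFibGrpd 𝒳.p]

theorem hom_ext_of_faithful_resSieve {U : C} (R : Sieve U) [(Stk.resSieve R 𝒳).Faithful]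
    {x x' : 𝒳.obj} (a b : x ⟶ x') [ha : 𝒳.p.IsHomLift (𝟙 U) a] [hb : 𝒳.p.IsHomLift (𝟙 U) b]
    (h : ∀ ⦃V : C⦄ (f : V ⟶ U), R f → ∀ (z : 𝒳.obj) (l : z ⟶ x), 𝒳.p.IsHomLift f l →
      l ≫ a = l ≫ b) : a = b := by
  haveI := isFibered 𝒳.p
  have hx : 𝒳.p.obj x = U := IsHomLift.domain_eq 𝒳.p (𝟙 U) a
  have hx' : 𝒳.p.obj x' = U := IsHomLift.codomain_eq 𝒳.p (𝟙 U) a
  let xF : 𝒳.p.Fiber U := ⟨x, hx⟩
  let xF' : 𝒳.p.Fiber U := ⟨x', hx'⟩
  let X := pbFunctor xF
  let X' := pbFunctor xF'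
  have hX' : SendsTopCart X' := sendsTopCart_of_isFibGrpd X'
  let φa : X.obj (overTop U) ⟶ X'.obj (overTop U) := pbMap xF (overTop U) ≫ a ≫ pbMapInv xF'
  let φb : X.obj (overTop U) ⟶ X'.obj (overTop U) := pbMap xF (overTop U) ≫ b ≫ pbMapInv xF'
  haveI hφa : 𝒳.p.IsHomLift (𝟙 U) φa := by
    have : 𝒳.p.IsHomLift (𝟙 U ≫ 𝟙 U ≫ 𝟙 U) (pbMap xF (overTop U) ≫ a ≫ pbMapInv xF') :=
      inferInstance
    simpa using this
  haveI hφb : 𝒳.p.IsHomLift (𝟙 U) φb := by
    have : 𝒳.p.IsHomLift (𝟙 U ≫ 𝟙 U ≫ 𝟙 U) (pbMap xF (overTop U) ≫ b ≫ pbMapInv xF') :=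
      inferInstance
    simpa using this
  let α : X ⟶ X' := extend hX' φa
  let β : X ⟶ X' := extend hX' φb
  have hαβ : (Stk.resSieve R 𝒳).map α = (Stk.resSieve R 𝒳).map β := by
    apply BasedNatTrans.homCategory.ext
    ext c
    change extendApp hX' φa c.obj = extendApp hX' φb c.obj
    haveI := hX' c.obj
    apply IsStronglyCartesian.ext 𝒳.p c.obj.hom (X'.map (toOverTop U c.obj)) (𝟙 c.obj.left)
    rw [extendApp_fac, extendApp_fac]
    have e1 : X.map (toOverTop U c.obj) ≫ pbMap xF (overTop U) = pbMap xF c.obj :=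
      pbHom_fac xF (toOverTop U c.obj)
    have e2 := h c.obj.hom c.property (pbObj xF c.obj) (pbMap xF c.obj)
      (pbMap_isStronglyCartesian xF c.obj).toIsHomLift
    have e3 : X.map (toOverTop U c.obj) ≫ φa = (pbMap xF c.obj ≫ a) ≫ pbMapInv xF' := by
      change X.map (toOverTop U c.obj) ≫ pbMap xF (overTop U) ≫ a ≫ pbMapInv xF' = _
      rw [← Category.assoc, e1, Category.assoc]
    have e4 : X.map (toOverTop U c.obj) ≫ φb = (pbMap xF c.obj ≫ b) ≫ pbMapInv xF' := by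
      change X.map (toOverTop U c.obj) ≫ pbMap xF (overTop U) ≫ b ≫ pbMapInv xF' = _
      rw [← Category.assoc, e1, Category.assoc]
    rw [e3, e4, e2]
  have hab : α = β := (Stk.resSieve R 𝒳).map_injective hαβ
  have h1 : φa = φb := by
    rw [← extend_app_top hX' φa, ← extend_app_top hX' φb]
    exact congrArg (fun γ : X ⟶ X' => γ.toNatTrans.app (overTop U)) hab
  have h2 : pbMap xF (overTop U) ≫ a ≫ pbMapInv xF' = pbMap xF (overTop U) ≫ b ≫ pbMapInv xF' := h1
  have h3 := (cancel_epi (pbMap xF (overTop U))).1 h2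
  haveI : IsIso (pbMapInv xF') := by unfold pbMapInv; infer_instance
  exact (cancel_mono (pbMapInv xF')).1 h3

theorem hom_ext_of_isPrestack {J : GrothendieckTopology C} (h𝒳 : Stk.IsPrestack J 𝒳) {U : C}
    (R : Sieve U) (hR : R ∈ J U)
    {x x' : 𝒳.obj} (a b : x ⟶ x') [ha : 𝒳.p.IsHomLift (𝟙 U) a] [hb : 𝒳.p.IsHomLift (𝟙 U) b]
    (h : ∀ ⦃V : C⦄ (f : V ⟶ U), R f → ∀ (z : 𝒳.obj) (l : z ⟶ x), 𝒳.p.IsHomLift f l →
      l ≫ a = l ≫ b) : a = b := by
  haveI := (h𝒳.2 R hR).2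
  exact hom_ext_of_faithful_resSieve R a b h

end Sep

end Groth.Agent.Lib.H43StkDescent
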