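import Groth.Agent.Lib.H86Coprod
import Groth.Agent.Lib.H86ZarLocBase
import Groth.Agent.Lib.AlgSpPoints
import Groth.Agent.S10228

/-!
# helper86: algebraic spaces glued from a Zariski covering by algebraic spaces; coproducts

* `surjective_map_of_isLocallySurjective`: a locally surjective map of sheaves is surjective on points.
* `isZarCover_of_isColimit`: the coprojections of a coproduct of sheaves form a Zariski covering.
* `representable_from_yon_of_isZarCover`: if `F` has a Zariski covering by algebraic spaces, every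
  `h_T ⟶ F` is representable.
* `repWith_of_openCover_source`: `RepWith P` for `a : h_X ⟶ G` can be checked on an open cover of `X`.
* `isAlgSpace_of_isZarCover`: a sheaf with a Zariski covering by algebraic spaces is an algebraic space.
-/

set_option autoImplicit false
set_option linter.style.haveILetI false
universe u
open CategoryTheory CategoryTheory.Limits AlgebraicGeometry Opposite

namespace Groth.Agent.Lib.H86Coprod

open AlgSp Groth.Agent.Lib.H86AlgSpPoints Groth.Agent.Lib.H86ZarGlue Groth.Agent.Lib.H86AlgSpOpen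

variable {S : Scheme.{u}}

/-- A locally surjective map of sheaves is surjective on points. -/
theorem surjective_map_of_isLocallySurjective {H G : Sp S} (b : H ⟶ G)
    [Sheaf.IsLocallySurjective b] : Function.Surjective (Points.map b) := by
  intro x
  obtain ⟨T, g, t, rfl⟩ := AlgSpPoints.exists_ofPt_eq x
  have hmem : Presheaf.imageSieve b.hom (yE g) ∈ J S T := Presheaf.imageSieve_mem (J S) b.hom (yE g)
  obtain ⟨T', φ, t', ⟨y, hy⟩, rfl⟩ := exists_of_mem_J hmem t
  refine ⟨Points.ofPt (yE.symm y) t', ?_⟩
  rw [Points.map_ofPt, ← AlgSpPoints.ofPt_yon_map_comp]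
  congr 1
  apply yE.injective
  rw [yE_comp, Equiv.apply_symm_apply, ← yE_map]
  exact hy

/-- The coprojections of a coproduct of sheaves form a Zariski covering. -/
theorem isZarCover_of_isColimit {ι : Type u} {F : ι → Sp S} (c : Cofan F) (hc : IsColimit c) :
    IsZarCover F c.inj := by
  refine ⟨fun i => H69AlgSp.repWith_mono (fun _ _ _ h => h.1) (repWith_inj_of_isColimit c hc i), ?_⟩
  intro x
  have h := Groth.Agent.S10228.points_eq_iUnion_range F c hc
  have hx : x ∈ ⋃ i, Set.range (Points.map (c.inj i)) := by rw [h]; trivial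
  exact Set.mem_iUnion.1 hx

/-- If a sheaf `F` has a Zariski covering by algebraic spaces, every `h_T ⟶ F` is representable. -/
theorem representable_from_yon_of_isZarCover {F : Sp S} {ι : Type u} (Fi : ι → Sp S)
    (f : ∀ i, Fi i ⟶ F) (hf : IsZarCover Fi f) (halg : ∀ i, IsAlgSpace (Fi i)) {T : Over S}
    (a : (yon S).obj T ⟶ F) : Representable a := by
  choose Ti snd fst sq using fun i => (hf.1 i).1 a
  exact representable_of_zarCover a Fi f hf (fun i => (yon S).obj (Ti i))
    (fun i => (yon S).map (snd i)) fst (fun i => (sq i).flip)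
    (fun i => (halg i).representable_from_yon (fst i))

/-- `RepWith P` for a representable `a : h_X ⟶ G` can be checked on an open cover of `X`, for `P` Zariski
local on the source. -/
theorem repWith_of_openCover_source {G : Sp S} {X : Over S} (a : (yon S).obj X ⟶ G)
    (ha : Representable a) (P : MorphismProperty Scheme.{u}) [IsZariskiLocalAtSource P]
    {ι : Type u} (U : ι → Over S) (j : ∀ i, U i ⟶ X) (hj : ∀ i, IsOpenImmersion (j i).left)
    (hcov : ∀ x : ↥X.left, ∃ i, x ∈ Set.range (j i).left)
    (h : ∀ i, RepWith P ((yon S).map (j i) ≫ a)) : RepWith P a := by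
  refine ⟨ha, fun T W z fst snd sq => ?_⟩
  change P snd.left
  -- `fst = h_w` for `w : W ⟶ X`
  obtain ⟨w, rfl⟩ := (yon S).map_surjective fst
  -- the open cover of `W` by the preimages of the `U i`
  have sqO : ∀ i, IsPullback (pullback.fst w (j i)) (pullback.snd w (j i)) w (j i) :=
    fun i => IsPullback.of_hasPullback _ _
  have sqS : ∀ i, IsPullback (pullback.fst w (j i)).left (pullback.snd w (j i)).left w.left
      (j i).left := fun i => (sqO i).map (Over.forget S)
  have hopen : ∀ i, IsOpenImmersion (pullback.fst w (j i)).left := fun i =>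
    MorphismProperty.of_isPullback (P := @IsOpenImmersion) (sqS i).flip (hj i)
  let 𝒰 : W.left.OpenCover := Scheme.Cover.mkOfCovers ι (fun i => (pullback w (j i)).left)
    (fun i => (pullback.fst w (j i)).left)
    (fun x => by
      obtain ⟨i, y, hy⟩ := hcov (w.left x)
      obtain ⟨p, hp, -⟩ := Scheme.exists_preimage_of_isPullback (sqS i) x y hy.symm
      exact ⟨i, p, hp⟩) hopen
  refine (IsZariskiLocalAtSource.iff_of_openCover (P := P) 𝒰).2 ?_
  intro (i : ι)
  change P ((pullback.fst w (j i)).left ≫ snd.left)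
  have sqY := (sqO i).map (yon S)
  have big : IsPullback ((yon S).map (pullback.snd w (j i)))
      ((yon S).map (pullback.fst w (j i)) ≫ (yon S).map snd) ((yon S).map (j i) ≫ a) z :=
    sqY.flip.paste_vert sq
  rw [← Functor.map_comp] at big
  exact (h i).2 z _ _ big

set_option backward.isDefEq.respectTransparency false in
theorem isZariskiLocalAtSource_etale : IsZariskiLocalAtSource @Etale := inferInstance

/-- **Gluing algebraic spaces.** A sheaf with a Zariski covering by algebraic spaces is an algebraic
space. -/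
theorem isAlgSpace_of_isZarCover {F : Sp S} {ι : Type u} (Fi : ι → Sp S) (f : ∀ i, Fi i ⟶ F)
    (hf : IsZarCover Fi f) (halg : ∀ i, IsAlgSpace (Fi i)) : IsAlgSpace F := by
  have hrep : ∀ ⦃T : Over S⦄ (a : (yon S).obj T ⟶ F), Representable a := fun T a =>
    representable_from_yon_of_isZarCover Fi f hf halg a
  refine ⟨Functor.relativelyRepresentable.diag_of_map_from_obj hrep, ?_⟩
  -- atlases of the members
  choose Ui p hpe hps using fun i => (halg i).atlas
  -- the coproduct of the charts is a scheme
  let G : ι → Sp S := fun i => (yon S).obj (Ui i)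
  let c' : Cofan G := Cofan.mk (∐ G) (Sigma.ι G)
  have hc' : IsColimit c' := coproductIsCoproduct G
  have hopen : ∀ i, RepWith @IsOpenImmersion (Sigma.ι G i) := fun i =>
    H69AlgSp.repWith_mono (fun _ _ _ h => h.1) (repWith_inj_of_isColimit c' hc' i)
  have hcov : ∀ x : Points (∐ G), ∃ i, x ∈ Set.range (Points.map (Sigma.ι G i)) := by
    intro x
    have h := Groth.Agent.S10228.points_eq_iUnion_range G c' hc'
    have hx : x ∈ ⋃ i, Set.range (Points.map (c'.inj i)) := by rw [h]; trivial
    exact Set.mem_iUnion.1 hx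
  obtain ⟨X₀, e₀, j, hj, hjo, hjc⟩ := exists_iso_yon_of_openCover (Sigma.ι G) hopen hcov
  let a : (yon S).obj X₀ ⟶ F := e₀.hom ≫ Sigma.desc (fun i => p i ≫ f i)
  have ha : ∀ i, (yon S).map (j i) ≫ a = p i ≫ f i := by
    intro i
    change (yon S).map (j i) ≫ e₀.hom ≫ _ = _
    rw [← Category.assoc, hj i]
    exact Sigma.ι_desc _ _
  refine ⟨X₀, a, ?_, ?_⟩
  · -- étale: check on the open cover by the charts
    have hloc := isZariskiLocalAtSource_etale
    refine repWith_of_openCover_source a (hrep a) @Etale Ui j hjo hjc fun i => ?_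
    rw [ha i]
    have h1 : RepWith @Etale (f i) :=
      H69AlgSp.repWith_mono (fun _ _ g (hg : IsOpenImmersion g) => (inferInstance : Etale g)) (hf.1 i)
    exact (repWith_isMultiplicative @Etale).comp_mem _ _ (hpe i) h1
  · -- surjective on points
    refine repWith_surjective_of_surjective (hrep a) ?_
    intro x
    obtain ⟨i, y, rfl⟩ := hf.2 x
    obtain ⟨T, g, t, hy⟩ := AlgSpPoints.exists_ofPt_eq y
    -- lift `y` through the atlas `p i`
    have hsurj : Function.Surjective (Points.map (p i)) :=
      map_surjective_of_repWith (hps i)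
    obtain ⟨z, rfl⟩ := hsurj y
    refine ⟨Points.map ((yon S).map (j i)) z, ?_⟩
    rw [← Points.map_comp, ha i, Points.map_comp]

/-- Distinct summands of a coproduct of sheaves are disjoint: a scheme mapping compatibly to two
distinct summands is empty. -/
theorem isEmpty_of_inj_comp_eq {ι : Type u} {F : ι → Sp S} (c : Cofan F) (hc : IsColimit c)
    {i k : ι} (hik : k ≠ i) {Z : Over S} (a : (yon S).obj Z ⟶ F i) (b : (yon S).obj Z ⟶ F k)
    (h : a ≫ c.inj i = b ≫ c.inj k) : IsEmpty ↥Z.left := by
  let c' := Cofan.mk (∐ fun j : {j // j ≠ i} => F j.1) (Sigma.ι fun j : {j // j ≠ i} => F j.1)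
  have hc' : IsColimit c' := coproductIsCoproduct (fun j : {j // j ≠ i} => F j.1)
  obtain ⟨hb⟩ := nonempty_isColimit_split i c hc c' hc'
  obtain ⟨χ, sq1, sq2⟩ := exists_isPullback_inl _ hb
  change c.pt ⟶ _ at χ
  have e1 : c.inj i ≫ χ = (isTerminalYonOne S).from (F i) ≫ (yon S).map (ι₁ S) := sq1.w
  have e2 : Cofan.IsColimit.desc hc' (fun j => c.inj j.1) ≫ χ =
      (isTerminalYonOne S).from _ ≫ (yon S).map (ι₂ S) := sq2.w
  have e3 : c.inj k ≫ χ = (isTerminalYonOne S).from (F k) ≫ (yon S).map (ι₂ S) := by
    have : c.inj k = c'.inj ⟨k, hik⟩ ≫ Cofan.IsColimit.desc hc' (fun j => c.inj j.1) :=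
      (Cofan.IsColimit.fac hc' (fun j => c.inj j.1) ⟨k, hik⟩).symm
    rw [this, Category.assoc, e2, ← Category.assoc]
    congr 1
    exact (isTerminalYonOne S).hom_ext _ _
  let t : Z ⟶ one S := Over.mkIdTerminal.from Z
  have ht : ∀ m : (yon S).obj Z ⟶ (yon S).obj (one S), m = (yon S).map t := fun m =>
    (isTerminalYonOne S).hom_ext _ _
  have key : (yon S).map (t ≫ ι₁ S) = (yon S).map (t ≫ ι₂ S) := by
    calc (yon S).map (t ≫ ι₁ S) = (a ≫ (isTerminalYonOne S).from (F i)) ≫ (yon S).map (ι₁ S) := by
          rw [Functor.map_comp, ← ht]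
      _ = (a ≫ c.inj i) ≫ χ := by rw [Category.assoc, Category.assoc, e1]
      _ = (b ≫ c.inj k) ≫ χ := by rw [h]
      _ = (b ≫ (isTerminalYonOne S).from (F k)) ≫ (yon S).map (ι₂ S) := by
          rw [Category.assoc, Category.assoc, e3]
      _ = (yon S).map (t ≫ ι₂ S) := by rw [Functor.map_comp, ← ht]
  exact isEmpty_of_comp_eq S t t ((yon S).map_injective key)

end Groth.Agent.Lib.H86Coprod
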