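import Groth.Agent.Lib.AlgStOpenSub
import Groth.Agent.Lib.AlgStOpenSub2
import Groth.Agent.Lib.SetoidPsh
import Groth.Agent.Lib.H86ZarGlue
import Groth.Agent.Lib.H86CoprodSp
import Groth.Agent.Lib.H43StkDescent2
import Groth.Agent.Lib.AlgStBoot2
import Groth.Agent.S12796
import Groth.Agent.Lib.AlgStNoeth

/-!
# Algebraic stacks covered by open substacks which are algebraic spaces / schemes (helper36)

ns `Groth.Agent.Lib.AlgStOpenCover`

* `coverSieve`, `coverSieve_mem` : the covering sieve of a test scheme attached to an open covering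
  of `|𝒳|` and an object of `𝒳`.
* `isThin_fiber_of_openCover` : an algebraic stack covered by open substacks with thin fibres has
  thin fibres.
-/

set_option autoImplicit false
set_option linter.style.haveILetI false
set_option backward.isDefEq.respectTransparency false
set_option backward.isDefEq.respectTransparency.types false

namespace Groth.Agent.Lib.AlgStOpenCover

open CategoryTheory CategoryTheory.Limits AlgebraicGeometry Opposite AlgSt
  Groth.Agent.Lib.H78AlgStPoints Groth.Agent.Lib.H78AlgStPointsFp Groth.Agent.Lib.AlgStPts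
  Groth.Agent.Lib.AlgStPtsTop Groth.Agent.Lib.AlgStPtsSurj Groth.Agent.Lib.AlgStPtsMain
  Groth.Agent.Lib.AlgStPtsQC Groth.Agent.Lib.AlgStPtsQC2
  Groth.Agent.Lib.FibGrpd Groth.Agent.Lib.AlgStFp Groth.Agent.Lib.AlgStEquiv
  Groth.Agent.Lib.FpEquiv Groth.Agent.Lib.FibYoneda Groth.Agent.Lib.AlgStOpenSub

universe w u

variable {S : Scheme.{u}} {𝒳 : AlgSt.Cat S}

/-! ### The covering sieve of an open covering of `|𝒳|` -/

/-- The sieve of maps `f : V ⟶ U` all of whose points are sent by the chart `y` into one member of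
the family `T`. -/
def coverSieve {ι : Type w} (T : ι → Set (Points 𝒳)) {U : Over S} (y : FibCat.overCat U ⥤ᵇ 𝒳) :
    Sieve U where
  arrows V f := ∃ i, ∀ t : ↥V.left, Points.ofChart y (f.left t) ∈ T i
  downward_closed := by
    rintro V V' f ⟨i, h⟩ g
    refine ⟨i, fun t => ?_⟩
    have := h (g.left t)
    simpa using this

theorem coverSieve_mem [FibCat.IsFibGrpd 𝒳.p] (hat : HasAtlas (AlgSp.LocP @Smooth) 𝒳)
    {ι : Type w} (T : ι → Set (Points 𝒳)) (hT : ∀ i, IsOpen (T i)) (hcov : ⋃ i, T i = Set.univ)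
    {U : Over S} (y : FibCat.overCat U ⥤ᵇ 𝒳) : coverSieve T y ∈ AlgSp.J S U := by
  let W : ι → U.left.Opens := fun i =>
    ⟨Points.ofChart y ⁻¹' T i, (continuous_ofChart hat y).isOpen_preimage _ (hT i)⟩
  have h1 := Groth.Agent.Lib.H86ZarGlue.generate_ofArrows_mem_J (T := U)
    (fun i => openOver (W i)) (fun i => openIncl (W i))
    (fun i => (inferInstance : IsOpenImmersion (W i).ι)) (fun t => by
      have ht : Points.ofChart y t ∈ ⋃ i, T i := by rw [hcov]; trivial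
      obtain ⟨i, hi⟩ := Set.mem_iUnion.1 ht
      exact ⟨i, ⟨⟨t, hi⟩, rfl⟩⟩)
  refine GrothendieckTopology.superset_covering _ ?_ h1
  rw [Sieve.generate_le_iff]
  rintro _ _ ⟨i⟩
  exact ⟨i, fun t => t.2⟩

/-- Objects lying over a member of the covering sieve belong to the corresponding substack. -/
theorem obj_of_forall_ofChart_mem [FibCat.IsFibGrpd 𝒳.p] {Q : 𝒳.obj → Prop} (hQ : PbStable Q)
    (hj : IsOpenImm (subIncl 𝒳 Q)) {U : Over S} (x : 𝒳.p.Fiber U) {V : Over S} (f : V ⟶ U)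
    (h : ∀ t : ↥V.left, haveI : 𝒳.p.IsFibered := isFibered 𝒳.p
      Points.ofChart (pbFunctor x) (f.left t) ∈ Set.range (Points.map (subIncl 𝒳 Q)))
    (z : 𝒳.obj) (l : z ⟶ x.1) [𝒳.p.IsHomLift f l] : Q z := by
  haveI : 𝒳.p.IsFibered := isFibered 𝒳.p
  have h1 : ptsIn (Set.range (Points.map (subIncl 𝒳 Q))) ((pbFunctor x).obj (Over.mk f)) :=
    ptsIn_obj_of_range_subset (pbFunctor x) (Over.mk f) h
  have h2 : Q ((pbFunctor x).obj (Over.mk f)) := of_ptsIn_range hQ hj h1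
  haveI : 𝒳.p.IsHomLift f (pbMap x (Over.mk f)) :=
    (pbMap_isStronglyCartesian x (Over.mk f)).toIsHomLift
  obtain ⟨ε, -, -⟩ := Groth.Agent.Lib.H43StkDescent.exists_iso_of_isHomLift f
    (pbMap x (Over.mk f)) l
  exact hQ ε.hom h2

/-! ### Thin fibres -/

/-- Automorphisms over the identity of objects of a full subcategory with thin fibres are
trivial. -/
theorem aut_eq_id_of_isThin_fullSub {Q : 𝒳.obj → Prop}
    (hthin : ∀ V : Over S, Quiver.IsThin ((fullSub 𝒳 Q).p.Fiber V)) {z : 𝒳.obj} (hz : Q z)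
    (V : Over S) (γ : z ⟶ z) (hγ : 𝒳.p.IsHomLift (𝟙 V) γ) : γ = 𝟙 z := by
  have hzV : 𝒳.p.obj z = V := IsHomLift.domain_eq 𝒳.p (𝟙 V) γ
  let zz : (fullSub 𝒳 Q).p.Fiber V := ⟨⟨z, hz⟩, hzV⟩
  let g₁ : zz ⟶ zz := ⟨ObjectProperty.homMk γ,
    (isHomLift_comp_iff (ObjectProperty.ι Q) 𝒳.p _ _).2 hγ⟩
  let g₂ : zz ⟶ zz := 𝟙 zz
  have h : g₁ = g₂ := (hthin V zz zz).elim g₁ g₂
  have h2 := congrArg (fun k : zz ⟶ zz => k.1.hom) h
  exact h2

/-- An algebraic stack covered by open substacks whose objects have no nontrivial automorphisms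
over the identity has thin fibres. -/
theorem isThin_fiber_of_openCover (h𝒳 : IsAlgStack Scheme.fppfPrecoverage 𝒳) {ι : Type w}
    (Q : ι → 𝒳.obj → Prop) (hQ : ∀ i, IsOpenSubstack 𝒳 (Q i) Scheme.fppfPrecoverage)
    (hcov : ⋃ i, Set.range (Points.map (subIncl 𝒳 (Q i))) = Set.univ)
    (haut : ∀ i (z : 𝒳.obj), Q i z → ∀ (V : Over S) (γ : z ⟶ z),
      𝒳.p.IsHomLift (𝟙 V) γ → γ = 𝟙 z) (U : Over S) :
    Quiver.IsThin (𝒳.p.Fiber U) := by
  haveI := h𝒳.isStack.1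
  haveI : 𝒳.p.IsFibered := isFibered 𝒳.p
  intro x x'
  refine ⟨fun a b => ?_⟩
  haveI ha : 𝒳.p.IsHomLift (𝟙 U) a.1 := a.2
  haveI hb : 𝒳.p.IsHomLift (𝟙 U) b.1 := b.2
  haveI : IsIso b.1 := isIso_of_isHomLift_isIso 𝒳.p (𝟙 U) b.1
  suffices h : a.1 ≫ inv b.1 = 𝟙 _ by
    apply Subtype.ext
    calc a.1 = (a.1 ≫ inv b.1) ≫ b.1 := by simp
      _ = b.1 := by rw [h, Category.id_comp]
  haveI hc : 𝒳.p.IsHomLift (𝟙 U) (a.1 ≫ inv b.1) := inferInstance
  haveI hi : 𝒳.p.IsHomLift (𝟙 U) (𝟙 x.1) := IsHomLift.id x.2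
  let T : ι → Set (Points 𝒳) := fun i => Set.range (Points.map (subIncl 𝒳 (Q i)))
  have hT : ∀ i, IsOpen (T i) := fun i => isOpen_range_of_isOpenSubstack h𝒳 (hQ i)
  refine Groth.Agent.Lib.H43StkDescent.hom_ext_of_isPrestack
    (Groth.Agent.Lib.AlgStFpStack.isPrestack_of_isStack h𝒳.isStack)
    (coverSieve T (pbFunctor x)) (coverSieve_mem h𝒳.atlas T hT hcov _) (a.1 ≫ inv b.1) (𝟙 x.1) ?_
  rintro V f ⟨i, hi⟩ z l hl
  haveI := hl
  rw [Category.comp_id]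
  have hQi := pbStable_of_isOpenSubstack (hQ i)
  have hz : Q i z := obj_of_forall_ofChart_mem hQi (hQ i).2.2 x f hi z l
  haveI : 𝒳.p.IsStronglyCartesian f l := isStronglyCartesian_of_isHomLift 𝒳.p f l
  haveI : 𝒳.p.IsHomLift f (l ≫ a.1 ≫ inv b.1) := inferInstance
  let γ : z ⟶ z := Functor.IsStronglyCartesian.map 𝒳.p f l (g := 𝟙 V) (f' := f)
    (Category.id_comp f).symm (l ≫ a.1 ≫ inv b.1)
  have hγl : 𝒳.p.IsHomLift (𝟙 V) γ :=
    Functor.IsStronglyCartesian.map_isHomLift 𝒳.p f l (Category.id_comp f).symm (l ≫ a.1 ≫ inv b.1)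
  have hγ : γ ≫ l = l ≫ a.1 ≫ inv b.1 :=
    Functor.IsStronglyCartesian.fac 𝒳.p f l (Category.id_comp f).symm (l ≫ a.1 ≫ inv b.1)
  rw [← hγ, haut i z hz V γ hγl, Category.id_comp]

/-! ### The sheaf of isomorphism classes -/

open Groth.Agent.Lib.SetoidPsh Groth.Agent.Lib.EquivOver

/-- For a stack with thin fibres the presheaf of isomorphism classes is a sheaf. -/
theorem isSheaf_isoPsh [FibCat.IsFibGrpd 𝒳.p] (h𝒳 : Stk.IsStack (AlgSp.J S) 𝒳)
    (hthin : ∀ U : Over S, Quiver.IsThin (𝒳.p.Fiber U)) :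
    Presheaf.IsSheaf (AlgSp.J S) (isoPsh 𝒳) := by
  rw [isSheaf_iff_isSheaf_of_type]
  refine (Groth.Agent.S12796.result _ _).1 ?_
  exact (Groth.Agent.Lib.StkEquiv.isStack_iff_of_isEquivOver (toIsoPsh 𝒳)
    (toIsoPsh_isEquivOver hthin) _).1 h𝒳

/-- The sheaf of isomorphism classes of a stack with thin fibres. -/
noncomputable def isoSp [FibCat.IsFibGrpd 𝒳.p] (h𝒳 : Stk.IsStack (AlgSp.J S) 𝒳)
    (hthin : ∀ U : Over S, Quiver.IsThin (𝒳.p.Fiber U)) : AlgSp.Sp S :=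
  ⟨isoPsh 𝒳, isSheaf_isoPsh h𝒳 hthin⟩

/-! ### Open substacks as open subsheaves -/

section OpenSub

variable [FibCat.IsFibGrpd 𝒳.p] {Fs : AlgSp.Sp S} (E : 𝒳 ⥤ᵇ ofSp Fs) (hE : FibCat.IsEquivOver E)
  {Q : 𝒳.obj → Prop} {G : AlgSp.Sp S} (e : ofSp G ⥤ᵇ fullSub 𝒳 Q) (he : FibCat.IsEquivOver e)
  (g : G ⟶ Fs)
  (γ : BasedFunctor.comp (BasedFunctor.comp e (subIncl 𝒳 Q)) E ≅ ofSpMap g)

include hE he γ in
/-- The map of sheaves attached to an open substack which is the category of a sheaf is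
representable by open immersions. -/
theorem repWith_isOpenImmersion_of_isOpenImm (hj : IsOpenImm (subIncl 𝒳 Q)) :
    AlgSp.RepWith @IsOpenImmersion g := by
  have h1 : RepByAlgSpWith (AlgSp.RepWith @IsOpenImmersion) (ofSpMap g) :=
    (Groth.Agent.Lib.AlgStDiag3.repByAlgSpWith_congr _ γ.symm).1
      ((repByAlgSpWith_comp_equiv_iff _ _ E hE).2
        ((repByAlgSpWith_equiv_comp_iff _ e he _).1 hj))
  have h2 : AlgSp.RepBySp g.hom :=
    (Groth.Agent.Lib.AlgStBoot.repBySp_iff_repByAlgSp1_ofPshMap g.hom).2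
      (repByAlgSp1_of_repByAlgSpWith _ h1)
  have h3 : AlgSp.RepBySpWith (AlgSp.RepWith @IsOpenImmersion) g.hom :=
    (Groth.Agent.Lib.AlgStAtlas.repBySpWith_iff_repByAlgSpWith_ofPshMap _ g.hom h2).2 h1
  refine MorphismProperty.relative.of_exists fun T ξ => ?_
  have sq : IsPullback (pullback.fst g ξ) (pullback.snd g ξ) g ξ := IsPullback.of_hasPullback g ξ
  have sq' := sq.map (sheafToPresheaf (AlgSp.J S) (Type (u + 1)))
  obtain ⟨hsh, -, hm⟩ := h3 ξ.hom _ _ sq'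
  obtain ⟨W, i, w, hw, hwi⟩ := Groth.Agent.Lib.AlgStNoeth.exists_iso_yon_of_repWith _
    (pullback.snd g ξ) hm
  refine ⟨W, i.hom ≫ pullback.fst g ξ, w, ?_, hwi⟩
  exact IsPullback.of_iso sq i.symm (Iso.refl _) (Iso.refl _) (Iso.refl _) (by simp) (by simp [← hw])
    (by simp) (by simp)

include hE he γ in
/-- The points of the subsheaf attached to a substack. -/
theorem mem_range_points_map_of_mem_range {x : AlgSp.Points Fs} {η : Points 𝒳}
    (hη : Points.map E η = spPts Fs x) (h : η ∈ Set.range (Points.map (subIncl 𝒳 Q))) :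
    x ∈ Set.range (AlgSp.Points.map g) := by
  obtain ⟨ζ, rfl⟩ := h
  obtain ⟨ζ', rfl⟩ := (map_bijective_of_isEquivOver he).2 ζ
  obtain ⟨v, rfl⟩ := (spPts G).surjective ζ'
  refine ⟨v, (spPts Fs).injective ?_⟩
  rw [← map_ofSpMap_spPts, ← map_congr γ, ← hη, map_comp, map_comp]

end OpenSub

/-! ### Reduction to a small index set -/

/-- A covering of the points of an algebraic stack has a subcovering indexed by a small type. -/
theorem exists_small_subcover (h𝒳 : IsAlgStack Scheme.fppfPrecoverage 𝒳) {ι : Type w}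
    (T : ι → Set (Points 𝒳)) (hcov : ⋃ i, T i = Set.univ) :
    ∃ (ι' : Type u) (σ : ι' → ι), ⋃ k, T (σ k) = Set.univ := by
  haveI := h𝒳.isStack.1
  obtain ⟨V, v, -, hvs⟩ := h𝒳.atlas
  have hs := surjective_ofChart v hvs
  let ι' : Type u := {W : Set ↥V.left // ∃ i, W = Points.ofChart v ⁻¹' T i}
  refine ⟨ι', fun k => k.2.choose, ?_⟩
  rw [Set.eq_univ_iff_forall]
  intro ξ
  obtain ⟨t, rfl⟩ := hs ξ
  have ht : Points.ofChart v t ∈ ⋃ i, T i := by rw [hcov]; trivial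
  obtain ⟨i, hi⟩ := Set.mem_iUnion.1 ht
  let k : ι' := ⟨Points.ofChart v ⁻¹' T i, ⟨i, rfl⟩⟩
  refine Set.mem_iUnion.2 ⟨k, ?_⟩
  have hk : (k : Set ↥V.left) = Points.ofChart v ⁻¹' T k.2.choose := k.2.choose_spec
  have : t ∈ (k : Set ↥V.left) := hi
  rw [hk] at this
  exact this

/-! ### Main results -/

/-- Common part: the sheaf, the equivalence, and the open subsheaves. -/
theorem exists_sheaf_cover (h𝒳 : IsAlgStack Scheme.fppfPrecoverage 𝒳) {ι : Type w}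
    (Q : ι → 𝒳.obj → Prop) (hQ : ∀ i, IsOpenSubstack 𝒳 (Q i) Scheme.fppfPrecoverage)
    (hcov : ⋃ i, Set.range (Points.map (subIncl 𝒳 (Q i))) = Set.univ)
    (G : ι → AlgSp.Space S) (e : ∀ i, ofSp (G i).obj ⥤ᵇ fullSub 𝒳 (Q i))
    (he : ∀ i, FibCat.IsEquivOver (e i)) :
    ∃ (Fs : AlgSp.Sp S) (E : 𝒳 ⥤ᵇ ofSp Fs) (_ : FibCat.IsEquivOver E) (ι' : Type u)
      (σ : ι' → ι) (g : ∀ k, (G (σ k)).obj ⟶ Fs),
      (∀ k, AlgSp.RepWith @IsOpenImmersion (g k)) ∧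
        ∀ x : AlgSp.Points Fs, ∃ k, x ∈ Set.range (AlgSp.Points.map (g k)) := by
  haveI := h𝒳.isStack.1
  have haut : ∀ i (z : 𝒳.obj), Q i z → ∀ (V : Over S) (γ : z ⟶ z),
      𝒳.p.IsHomLift (𝟙 V) γ → γ = 𝟙 z := fun i z hz V γ hγ =>
    aut_eq_id_of_isThin_fullSub (fun V =>
      Groth.Agent.Lib.AlgStRepB.isThin_fiber_of_repByAlgSp ⟨G i, e i, he i⟩ V) hz V γ hγ
  have hthin := isThin_fiber_of_openCover h𝒳 Q hQ hcov haut
  let Fs : AlgSp.Sp S := isoSp h𝒳.isStack hthin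
  let E : 𝒳 ⥤ᵇ ofSp Fs := toIsoPsh 𝒳
  have hE : FibCat.IsEquivOver E := toIsoPsh_isEquivOver hthin
  obtain ⟨ι', σ, hcov'⟩ := exists_small_subcover h𝒳
    (fun i => Set.range (Points.map (subIncl 𝒳 (Q i)))) hcov
  have hg : ∀ i, ∃ g : (G i).obj ⟶ Fs,
      Nonempty (BasedFunctor.comp (BasedFunctor.comp (e i) (subIncl 𝒳 (Q i))) E ≅ ofSpMap g) :=
    fun i => exists_ofSpMap_iso _
  choose g hγ using hg
  refine ⟨Fs, E, hE, ι', σ, fun k => g (σ k), fun k => ?_, fun x => ?_⟩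
  · exact repWith_isOpenImmersion_of_isOpenImm E hE (e (σ k)) (he (σ k)) (g (σ k))
      (hγ (σ k)).some (hQ (σ k)).2.2
  · obtain ⟨η, hη⟩ := (map_bijective_of_isEquivOver hE).2 (spPts Fs x)
    have h1 : η ∈ ⋃ k, Set.range (Points.map (subIncl 𝒳 (Q (σ k)))) := by rw [hcov']; trivial
    obtain ⟨k, hk⟩ := Set.mem_iUnion.1 h1
    exact ⟨k, mem_range_points_map_of_mem_range E hE (e (σ k)) (he (σ k)) (g (σ k))
      (hγ (σ k)).some hη hk⟩

/-- = S12863: an algebraic stack covered by open substacks which are algebraic spaces is an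
algebraic space. -/
theorem repByAlgSp_of_openCover (h𝒳 : IsAlgStack Scheme.fppfPrecoverage 𝒳) {ι : Type w}
    (Q : ι → 𝒳.obj → Prop) (hQ : ∀ i, IsOpenSubstack 𝒳 (Q i) Scheme.fppfPrecoverage)
    (hcov : ⋃ i, Set.range (Points.map (subIncl 𝒳 (Q i))) = Set.univ)
    (hsp : ∀ i, RepByAlgSp (fullSub 𝒳 (Q i))) : RepByAlgSp 𝒳 := by
  choose G e he using hsp
  obtain ⟨Fs, E, hE, ι', σ, g, hgo, hgs⟩ := exists_sheaf_cover h𝒳 Q hQ hcov G e he
  have hFs : AlgSp.IsAlgSpace Fs :=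
    Groth.Agent.Lib.H86Coprod.isAlgSpace_of_isZarCover (fun k => (G (σ k)).obj) g ⟨hgo, hgs⟩
      (fun k => (G (σ k)).property)
  obtain ⟨e', he'⟩ := (EquivOver.of hE).symm
  exact ⟨⟨Fs, hFs⟩, e', he'⟩

/-- = S12864: an algebraic stack covered by open substacks which are schemes is a scheme. -/
theorem isRepresentable_of_openCover (h𝒳 : IsAlgStack Scheme.fppfPrecoverage 𝒳) {ι : Type w}
    (Q : ι → 𝒳.obj → Prop) (hQ : ∀ i, IsOpenSubstack 𝒳 (Q i) Scheme.fppfPrecoverage)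
    (hcov : ⋃ i, Set.range (Points.map (subIncl 𝒳 (Q i))) = Set.univ)
    (hsch : ∀ i, FibCat.IsRepresentable (fullSub 𝒳 (Q i))) : FibCat.IsRepresentable 𝒳 := by
  choose U F hF using hsch
  have h1 : ∀ i, EquivOver (ofSp ((AlgSp.yon S).obj (U i))) (fullSub 𝒳 (Q i)) := fun i =>
    (EquivOver.of (toOverCat_isEquivOver (U i))).trans (EquivOver.of (hF i)).symm
  choose e he using h1
  obtain ⟨Fs, E, hE, ι', σ, g, hgo, hgs⟩ := exists_sheaf_cover h𝒳 Q hQ hcov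
    (fun i => ⟨(AlgSp.yon S).obj (U i), AlgSp.IsAlgSpace.yon_obj _⟩) e he
  obtain ⟨X, eX, -, -, -, -⟩ := Groth.Agent.Lib.H86ZarGlue.exists_iso_yon_of_openCover g hgo hgs
  have h2 : EquivOver 𝒳 (FibCat.overCat X) :=
    ((EquivOver.of hE).trans
      (EquivOver.of (Groth.Agent.Lib.AlgStDiagSch.ofSpMap_isEquivOver eX.symm))).trans
      (EquivOver.of (toOverCat_isEquivOver X))
  obtain ⟨F', hF'⟩ := h2
  exact ⟨X, F', hF'⟩

end Groth.Agent.Lib.AlgStOpenCover
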