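import Groth.Agent.Lib.StkLocalTarget
import Groth.Agent.Lib.StkEquiv
import Groth.Agent.Lib.AlgStFpStack3
import Groth.Agent.S12796

/-!
# Morphisms representable by algebraic spaces and the stack / algebraicity conditions (helper64)

* `isStack_ofSp`, `isStack_of_repByAlgSp` : categories representable by algebraic spaces are stacks.
* `isStack_of_repByAlgSp1` (= S12767), `isAlgStack_of_repByAlgSp1` (= S12768),
  `isStack_fp_of_repByAlgSp1` (= S12769), `isDM_of_repByAlgSp` (= S12772).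
-/

set_option autoImplicit false
set_option linter.style.haveILetI false
set_option backward.isDefEq.respectTransparency false
set_option backward.isDefEq.respectTransparency.types false

namespace Groth.Agent.Lib.AlgStRepStack

open CategoryTheory Functor Opposite Limits AlgebraicGeometry Groth.Agent.Lib.FibGrpd
  Groth.Agent.Lib.FpEquiv Groth.Agent.Lib.EquivOver Groth.Agent.Lib.AlgStFp
  Groth.Agent.Lib.AlgStRep Groth.Agent.Lib.AlgStSpTest Groth.Agent.Lib.AlgStEquiv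
  Groth.Agent.Lib.AlgStAtlas Groth.Agent.Lib.AlgStFpStack Groth.Agent.Lib.StkLocalTarget

universe v₂ u₂ u

variable {S : Scheme.{u}}

/-- The category of an fppf sheaf is a stack in groupoids. -/
theorem isStack_ofSp (F : AlgSp.Sp S) :
    Stk.IsStack (QuotSh.J Scheme.fppfPrecoverage S) (AlgSt.ofSp F) :=
  (Groth.Agent.S12796.result _ F.obj).2 ((isSheaf_iff_isSheaf_of_type _ _).1 F.property)

/-- A category representable by an algebraic space is a stack in groupoids. -/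
theorem isStack_of_repByAlgSp {𝒳 : BasedCategory.{v₂, u₂} (Over S)} (h : AlgSt.RepByAlgSp 𝒳) :
    Stk.IsStack (QuotSh.J Scheme.fppfPrecoverage S) 𝒳 := by
  obtain ⟨F, e, he⟩ := h
  exact (Groth.Agent.Lib.StkEquiv.isStack_iff_of_isEquivOver e he _).1 (isStack_ofSp F.obj)

/-- = S12767. -/
theorem isStack_of_repByAlgSp1 {𝒳 𝒴 : AlgSt.Cat S} (h𝒳 : FibCat.IsFibGrpd 𝒳.p)
    (h𝒴 : Stk.IsStack (QuotSh.J Scheme.fppfPrecoverage S) 𝒴) (j : 𝒳 ⥤ᵇ 𝒴)
    (hj : AlgSt.RepByAlgSp1 j) : Stk.IsStack (QuotSh.J Scheme.fppfPrecoverage S) 𝒳 :=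
  isStack_of_forall_fp j _ h𝒳 h𝒴 (fun U y => isStack_of_repByAlgSp (hj U y))

/-- The category of an algebraic space has a `P`-atlas for every atlas class `P`. -/
theorem repByAlgSpWith_chart (P : MorphismProperty (AlgSp.Sp S)) (hP : AtlasClass P)
    (F : AlgSp.Space S) {W : Over S} (c : (AlgSp.yon S).obj W ⟶ F.obj)
    (hce : AlgSp.RepWith @Etale c) (hcs : AlgSp.RepWith @Surjective c) :
    AlgSt.RepByAlgSpWith P (BasedFunctor.comp (AlgSt.ofOverCat W) (AlgSt.ofSpMap c)) :=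
  (repByAlgSpWith_equiv_comp_iff P (AlgSt.ofOverCat W) (ofOverCat_isEquivOver W)
    (AlgSt.ofSpMap c)).1 (repByAlgSpWith_ofSpMap P hP.baseChange (AlgSp.IsAlgSpace.yon_obj W)
      F.property c (hP.ofChart F.property c hce hcs))

/-- The category of an algebraic space is a Deligne–Mumford stack. -/
theorem isDM_ofSp (F : AlgSp.Space S) : AlgSt.IsDM Scheme.fppfPrecoverage (AlgSt.ofSp F.obj) := by
  obtain ⟨W, c, hce, hcs⟩ := F.property.atlas
  refine ⟨⟨isStack_ofSp F.obj, ?_, ?_⟩, ?_⟩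
  · refine (Groth.Agent.S12765.result (Stk.isFibGrpd_ofPsh F.obj.obj)).2 (fun U x U' x' => ?_)
    exact repByAlgSp_fp (repByAlgSp_overCat U') (repByAlgSp_overCat U)
      ⟨F.obj, BasedFunctor.id _, isEquivOver_id, F.property.diag⟩ x' x
  · exact ⟨W, _, repByAlgSpWith_chart _ atlasClass_locP_smooth F c hce hcs,
      repByAlgSpWith_chart _ atlasClass_isSurjectiveMor F c hce hcs⟩
  · rw [hasAtlas_isEtaleMor_iff]
    exact ⟨W, _, repByAlgSpWith_chart _ atlasClass_locP_etale F c hce hcs,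
      repByAlgSpWith_chart _ atlasClass_isSurjectiveMor F c hce hcs⟩

/-- = S12772. -/
theorem isDM_of_repByAlgSp {𝒳 : AlgSt.Cat S} (hr : AlgSt.RepByAlgSp 𝒳) :
    AlgSt.IsDM Scheme.fppfPrecoverage 𝒳 := by
  obtain ⟨F, e, he⟩ := hr
  exact (isDM_iff_of_isEquivOver _ e he).1 (isDM_ofSp F)

/-- = S12768. -/
theorem isAlgStack_of_repByAlgSp1 {𝒳 𝒴 : AlgSt.Cat S} (h𝒳 : FibCat.IsFibGrpd 𝒳.p)
    (h𝒴 : AlgSt.IsAlgStack Scheme.fppfPrecoverage 𝒴) (j : 𝒳 ⥤ᵇ 𝒴) (hj : AlgSt.RepByAlgSp1 j) :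
    AlgSt.IsAlgStack Scheme.fppfPrecoverage 𝒳 :=
  isAlgStack_of_forall_fp _ (isStack_of_repByAlgSp1 h𝒳 h𝒴.isStack j hj) h𝒴 j
    (fun U g => (isDM_of_repByAlgSp (hj U g)).1)

/-- = S12769. -/
theorem isStack_fp_of_repByAlgSp1 {𝒳 𝒴 𝒵 : AlgSt.Cat S} (h𝒳 : FibCat.IsFibGrpd 𝒳.p)
    (h𝒵 : FibCat.IsFibGrpd 𝒵.p) (h𝒴 : Stk.IsStack (QuotSh.J Scheme.fppfPrecoverage S) 𝒴)
    (f : 𝒳 ⥤ᵇ 𝒵) (g : 𝒴 ⥤ᵇ 𝒵) (hf : AlgSt.RepByAlgSp1 f) :
    Stk.IsStack (QuotSh.J Scheme.fppfPrecoverage S) (FibCat.fp f g) := by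
  haveI := h𝒳
  haveI := h𝒵
  haveI := h𝒴.1
  refine isStack_of_repByAlgSp1 (fp_isFibGrpd f g) h𝒴 (FibCat.fpSnd f g) ?_
  rw [repByAlgSp1_iff_top] at hf ⊢
  exact Groth.Agent.Lib.AlgStRepC.repByAlgSpWith_fpSnd ⊤ f g hf

end Groth.Agent.Lib.AlgStRepStack
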