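import Groth.Prelude.Def_AlgSt
import Groth.Agent.Lib.FibGrpd
import Groth.Agent.Lib.FpEquiv
import Groth.Agent.Lib.FibYoneda
import Groth.Agent.Lib.StkEquiv

/-!
# Object-level consequences of the (pre)stack conditions (helper43)

* `liftFunctor`, `liftFunctorIso`, `exists_lift_of_ff` : a based functor `E : 𝒜 ⥤ᵇ 𝒴` all of whose values are
  isomorphic (over identities) to values of a fully faithful `F : 𝒳 ⥤ᵇ 𝒴` factors through `F` up to 2-isomorphism.
* `exists_iso_of_isHomLift` : in a category fibred in groupoids, two morphisms with the same target over the same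
  arrow differ by an isomorphism over the identity.
-/

set_option autoImplicit false
set_option linter.style.haveILetI false
set_option backward.isDefEq.respectTransparency false
set_option backward.isDefEq.respectTransparency.types false

namespace Groth.Agent.Lib.H43StkDescent

open CategoryTheory Functor Groth.Agent.Lib.FibGrpd Groth.Agent.Lib.FpEquiv Groth.Agent.Lib.FibYoneda

universe v₅ u₅ v₄ u₄ v₃ u₃ v₂ u₂ v u

variable {C : Type u} [Category.{v} C]

section Lift

variable {𝒳 : BasedCategory.{v₂, u₂} C} {𝒴 : BasedCategory.{v₃, u₃} C}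
  {𝒜 : BasedCategory.{v₄, u₄} C} (F : 𝒳 ⥤ᵇ 𝒴) (E : 𝒜 ⥤ᵇ 𝒴)

/-- The lift of `E` through a fully faithful `F`, built from chosen preimages of its values. -/
noncomputable def liftFunctor [F.toFunctor.Full] [F.toFunctor.Faithful]
    (ξ : 𝒜.obj → 𝒳.obj) (e : ∀ a, F.toFunctor.obj (ξ a) ≅ E.toFunctor.obj a)
    (he : ∀ a, 𝒴.p.IsHomLift (𝟙 (𝒜.p.obj a)) (e a).hom) : 𝒜 ⥤ᵇ 𝒳 where
  toFunctor :=
    { obj := ξ
      map := fun {a a'} f => F.toFunctor.preimage ((e a).hom ≫ E.toFunctor.map f ≫ (e a').inv)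
      map_id := fun a => by
        apply F.toFunctor.map_injective
        simp
      map_comp := fun f g => by
        apply F.toFunctor.map_injective
        simp }
  w := by
    have hobj : ∀ a, 𝒳.p.obj (ξ a) = 𝒜.p.obj a := fun a => by
      have := he a
      rw [← F.w_obj]
      exact IsHomLift.domain_eq 𝒴.p (𝟙 (𝒜.p.obj a)) (e a).hom
    refine CategoryTheory.Functor.ext hobj ?_
    intro a a' f
    have h1 := he a
    have h2 : 𝒴.p.IsHomLift (𝟙 (𝒜.p.obj a')) (e a').inv := by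
      have := he a'
      exact IsHomLift.lift_id_inv 𝒴.p _ (e a')
    have h3 : 𝒴.p.IsHomLift (𝒜.p.map f) (E.toFunctor.map f) := inferInstance
    have h4 : 𝒴.p.IsHomLift (𝟙 (𝒜.p.obj a) ≫ 𝒜.p.map f ≫ 𝟙 (𝒜.p.obj a'))
        ((e a).hom ≫ E.toFunctor.map f ≫ (e a').inv) := inferInstance
    have h5 : 𝒴.p.IsHomLift (𝒜.p.map f) ((e a).hom ≫ E.toFunctor.map f ≫ (e a').inv) := by
      simpa using h4
    have h6 : 𝒴.p.IsHomLift (𝒜.p.map f)
        (F.toFunctor.map (F.toFunctor.preimage ((e a).hom ≫ E.toFunctor.map f ≫ (e a').inv))) := by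
      rw [Functor.map_preimage]; exact h5
    have h7 : 𝒳.p.IsHomLift (𝒜.p.map f)
        (F.toFunctor.preimage ((e a).hom ≫ E.toFunctor.map f ≫ (e a').inv)) :=
      BasedFunctor.isHomLift_map F _ _
    exact IsHomLift.fac' 𝒳.p (𝒜.p.map f) _

/-- The 2-isomorphism `liftFunctor ⋙ F ≅ E`. -/
noncomputable def liftFunctorIso [F.toFunctor.Full] [F.toFunctor.Faithful]
    (ξ : 𝒜.obj → 𝒳.obj) (e : ∀ a, F.toFunctor.obj (ξ a) ≅ E.toFunctor.obj a)
    (he : ∀ a, 𝒴.p.IsHomLift (𝟙 (𝒜.p.obj a)) (e a).hom) :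
    BasedFunctor.comp (liftFunctor F E ξ e he) F ≅ E :=
  BasedNatIso.mkNatIso
    (NatIso.ofComponents (fun a => e a) (fun {a a'} f => by
      have key : F.toFunctor.map
          (F.toFunctor.preimage ((e a).hom ≫ E.toFunctor.map f ≫ (e a').inv)) ≫ (e a').hom =
          (e a).hom ≫ E.toFunctor.map f := by
        rw [Functor.map_preimage, Category.assoc, Category.assoc, Iso.inv_hom_id, Category.comp_id]
      exact key))
    (fun a => he a)

theorem exists_lift_of_ff [F.toFunctor.Full] [F.toFunctor.Faithful]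
    (h : ∀ a : 𝒜.obj, ∃ (x : 𝒳.obj) (e : F.toFunctor.obj x ≅ E.toFunctor.obj a),
      𝒴.p.IsHomLift (𝟙 (𝒜.p.obj a)) e.hom) :
    ∃ D : 𝒜 ⥤ᵇ 𝒳, Nonempty (BasedFunctor.comp D F ≅ E) := by
  choose ξ e he using h
  exact ⟨liftFunctor F E ξ e he, ⟨liftFunctorIso F E ξ e he⟩⟩

end Lift


section Cart

variable {𝒳 : BasedCategory.{v₂, u₂} C} [FibCat.IsFibGrpd 𝒳.p]

/-- In a category fibred in groupoids two morphisms with the same target lying over the same arrow differ by a
unique isomorphism over the identity. -/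
theorem exists_iso_of_isHomLift {R S : C} (f : R ⟶ S) {a a' b : 𝒳.obj} (φ : a ⟶ b) (φ' : a' ⟶ b)
    [𝒳.p.IsHomLift f φ] [𝒳.p.IsHomLift f φ'] :
    ∃ e : a' ≅ a, 𝒳.p.IsHomLift (𝟙 R) e.hom ∧ e.hom ≫ φ = φ' := by
  haveI h1 : 𝒳.p.IsStronglyCartesian f φ := isStronglyCartesian_of_isHomLift 𝒳.p f φ
  haveI h2 : 𝒳.p.IsStronglyCartesian f φ' := isStronglyCartesian_of_isHomLift 𝒳.p f φ'
  refine ⟨IsCartesian.domainUniqueUpToIso 𝒳.p f φ φ', inferInstance, ?_⟩
  simp

end Cart

end Groth.Agent.Lib.H43StkDescent
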