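import Groth.Agent.Lib.AlgStPtsUniv
import Groth.Agent.Lib.AlgStPtsQC2
import Groth.Agent.Lib.AlgStRepStack
import Groth.Agent.Lib.H86AlgSpSub
import Groth.Agent.S12795
import Groth.Agent.Lib.AlgStDiagSch

/-!
# Open substacks and open subsets of `|𝒳|` (helper36)

ns `Groth.Agent.Lib.AlgStOpenSub`

* `PbStable Q`, `fullSub_isFibGrpd`, `pbStable_of_isFibGrpd`
* `ptsIn T` : the objects of `𝒳` all of whose field points lie in `T ⊆ |𝒳|`.
* `range_subIncl` : `|fullSub Q| = {mk p | Q p.obj}`; `range_subIncl_ptsIn : |ptsIn T| = T`.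
-/

set_option autoImplicit false
set_option linter.style.haveILetI false
set_option backward.isDefEq.respectTransparency false
set_option backward.isDefEq.respectTransparency.types false

namespace Groth.Agent.Lib.AlgStOpenSub

open CategoryTheory CategoryTheory.Limits AlgebraicGeometry Opposite AlgSt
  Groth.Agent.Lib.H78AlgStPoints Groth.Agent.Lib.H78AlgStPointsFp Groth.Agent.Lib.AlgStPts
  Groth.Agent.Lib.AlgStPtsTop Groth.Agent.Lib.AlgStPtsSurj Groth.Agent.Lib.AlgStPtsMain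
  Groth.Agent.Lib.AlgStPtsQC Groth.Agent.Lib.AlgStPtsQC2
  Groth.Agent.Lib.FibGrpd Groth.Agent.Lib.AlgStFp Groth.Agent.Lib.AlgStEquiv
  Groth.Agent.Lib.FpEquiv Groth.Agent.Lib.FibYoneda

universe u

variable {S : Scheme.{u}} {𝒳 : AlgSt.Cat S}

/-- `Q` is stable under pullback (in particular closed under isomorphisms). -/
def PbStable (Q : 𝒳.obj → Prop) : Prop := ∀ ⦃y' y : 𝒳.obj⦄, (y' ⟶ y) → Q y → Q y'

theorem PbStable.closedUnderIso {Q : 𝒳.obj → Prop} (hQ : PbStable Q) :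
    ObjectProperty.IsClosedUnderIsomorphisms Q :=
  ⟨fun e h => hQ e.inv h⟩

/-- The full subcategory on a pullback-stable property is fibred in groupoids. -/
theorem fullSub_isFibGrpd [FibCat.IsFibGrpd 𝒳.p] {Q : 𝒳.obj → Prop} (hQ : PbStable Q) :
    FibCat.IsFibGrpd (fullSub 𝒳 Q).p :=
  Groth.Agent.S12795.sub_isFibGrpd Q (fun y _ φ hx =>
    ⟨y, Iso.refl y, hQ φ hx, by simp only [Iso.refl_hom]; infer_instance⟩)

/-- If the full subcategory is fibred in groupoids and `Q` is closed under isomorphisms, then `Q` is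
stable under pullback. -/
theorem pbStable_of_isFibGrpd [FibCat.IsFibGrpd 𝒳.p] {Q : 𝒳.obj → Prop}
    (hc : ObjectProperty.IsClosedUnderIsomorphisms Q) (hf : FibCat.IsFibGrpd (fullSub 𝒳 Q).p) :
    PbStable Q := by
  intro y' y φ hy
  obtain ⟨z, ψ, hψ⟩ := hf.exists_lift (x := (⟨y, hy⟩ : (fullSub 𝒳 Q).obj)) (𝒳.p.map φ)
  have hψ' : 𝒳.p.IsHomLift (𝒳.p.map φ) ψ.hom :=
    (isHomLift_comp_iff (ObjectProperty.ι Q) 𝒳.p _ ψ).1 hψ
  haveI := hψ'
  obtain ⟨e, -, -⟩ := Groth.Agent.Lib.H43StkDescent.exists_iso_of_isHomLift (𝒳.p.map φ) ψ.hom φ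
  exact hc.of_iso e.symm z.property

theorem pbStable_of_isOpenSubstack [FibCat.IsFibGrpd 𝒳.p] {Q : 𝒳.obj → Prop}
    (hQ : IsOpenSubstack 𝒳 Q Scheme.fppfPrecoverage) : PbStable Q :=
  pbStable_of_isFibGrpd hQ.1 hQ.2.1.isStack.1

/-- The objects all of whose field points lie in `T`. -/
def ptsIn (T : Set (Points 𝒳)) : 𝒳.obj → Prop :=
  fun y => ∀ p : FPt 𝒳, Nonempty (p.obj ⟶ y) → Points.mk p ∈ T

theorem pbStable_ptsIn (T : Set (Points 𝒳)) : PbStable (ptsIn T) :=
  fun _ _ φ hy p ⟨a⟩ => hy p ⟨a ≫ φ⟩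

/-- The points of a full subcategory. -/
theorem range_subIncl (Q : 𝒳.obj → Prop) :
    Set.range (Points.map (subIncl 𝒳 Q)) = {ξ | ∃ p : FPt 𝒳, Q p.obj ∧ Points.mk p = ξ} := by
  ext ξ
  constructor
  · rintro ⟨η, rfl⟩
    obtain ⟨q, rfl⟩ := Points.mk_surjective η
    exact ⟨q.map (subIncl 𝒳 Q), q.obj.property, rfl⟩
  · rintro ⟨p, hp, rfl⟩
    exact ⟨Points.mk ⟨p.K, p.str, ⟨p.obj, hp⟩, p.lies⟩, rfl⟩

theorem mk_mem_range_subIncl {Q : 𝒳.obj → Prop} {p : FPt 𝒳} (hp : Q p.obj) :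
    Points.mk p ∈ Set.range (Points.map (subIncl 𝒳 Q)) := by
  rw [range_subIncl]; exact ⟨p, hp, rfl⟩

theorem range_subIncl_ptsIn (T : Set (Points 𝒳)) :
    Set.range (Points.map (subIncl 𝒳 (ptsIn T))) = T := by
  rw [range_subIncl]
  ext ξ
  constructor
  · rintro ⟨p, hp, rfl⟩
    exact hp p ⟨𝟙 _⟩
  · intro hξ
    obtain ⟨p, rfl⟩ := Points.mk_surjective ξ
    refine ⟨p, fun q ⟨a⟩ => ?_, rfl⟩
    have : Points.mk q = Points.mk p := Points.sound ⟨q, 𝟙 _, a, trivial⟩
    rw [this]; exact hξ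

theorem range_subIncl_mono {Q Q' : 𝒳.obj → Prop} (h : ∀ y, Q y → Q' y) :
    Set.range (Points.map (subIncl 𝒳 Q)) ⊆ Set.range (Points.map (subIncl 𝒳 Q')) := by
  rw [range_subIncl, range_subIncl]
  rintro ξ ⟨p, hp, rfl⟩
  exact ⟨p, h _ hp, rfl⟩

/-- Objects of a pullback-stable `Q` have all their points in `|Q|`. -/
theorem ptsIn_range_of {Q : 𝒳.obj → Prop} (hQ : PbStable Q) {y : 𝒳.obj} (hy : Q y) :
    ptsIn (Set.range (Points.map (subIncl 𝒳 Q))) y :=
  fun _ ⟨a⟩ => mk_mem_range_subIncl (hQ a hy)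


/-! ### Images in charts -/

/-- The preimage in a chart `x` of the image of `|f|` is the image of a representing space of
`(Sch/U) ×_𝒳 𝒜`. -/
theorem ofChart_mem_range_iff [FibCat.IsFibGrpd 𝒳.p] {𝒜 : AlgSt.Cat S} [FibCat.IsFibGrpd 𝒜.p]
    (f : 𝒜 ⥤ᵇ 𝒳) {U : Over S} (x : FibCat.overCat U ⥤ᵇ 𝒳) {F : AlgSp.Sp S}
    (e : ofSp F ⥤ᵇ FibCat.fp x f) (he : FibCat.IsEquivOver e) (t : ↥U.left) :
    Points.ofChart x t ∈ Set.range (Points.map f) ↔
      AlgSp.Points.schemeHomeo U t ∈ Set.range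
        (AlgSp.Points.map (spMapOfOver (BasedFunctor.comp e (FibCat.fpFst x f)))) := by
  set Φ := BasedFunctor.comp e (FibCat.fpFst x f) with hΦ
  have hch : Points.ofChart x t =
      Points.map x (Points.map (toOverCat U) (spPts _ (AlgSp.Points.schemeHomeo U t))) := by
    rw [ofChart_eq_ptsMap]
    exact map_comp _ _ _
  constructor
  · rintro ⟨η, hη⟩
    rw [hch] at hη
    obtain ⟨τ, hτ1, -⟩ := exists_points_fp (overCat_isFibGrpd U) inferInstance inferInstance x f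
      _ η hη.symm
    obtain ⟨τ', rfl⟩ := (map_bijective_of_isEquivOver he).2 τ
    obtain ⟨r, rfl⟩ := (spPts F).surjective τ'
    refine ⟨r, (spPts _).injective ((map_toOverCat_bijective U).1 ?_)⟩
    rw [← Groth.Agent.Lib.AlgStPtsUniv.map_eq_toOverCat_spMapOfOver, hΦ, map_comp]
    exact hτ1
  · rintro ⟨r, hr⟩
    refine ⟨Points.map (FibCat.fpSnd x f) (Points.map e (spPts F r)), ?_⟩
    rw [hch, ← hr, ← Groth.Agent.Lib.AlgStPtsUniv.map_eq_toOverCat_spMapOfOver, hΦ, map_comp,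
      ← map_comp (FibCat.fpFst x f), map_congr (FibCat.fpIso x f), map_comp]

/-- Open immersions of algebraic spaces are open on points. -/
theorem isOpen_range_of_repWith_isOpenImmersion {A B : AlgSp.Sp S} (hA : AlgSp.IsAlgSpace A)
    (hB : AlgSp.IsAlgSpace B) {m : A ⟶ B} (hm : AlgSp.RepWith @IsOpenImmersion m) :
    IsOpen (Set.range (AlgSp.Points.map m)) := by
  have h1 : AlgSp.LocP @Flat m :=
    Groth.Agent.Lib.AlgSpBasic.locP_of_repWith @Flat (fun _ _ _ l w _ _ => inferInstance)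
      (fun _ a => hA.representable_from_yon a)
      (Groth.Agent.Lib.AlgSpBasic.repWith_mono (fun _ _ g (_ : IsOpenImmersion g) =>
        (inferInstance : Flat g)) hm)
  have h2 : AlgSp.LocP @LocallyOfFinitePresentation m :=
    Groth.Agent.Lib.AlgSpBasic.locP_of_repWith @LocallyOfFinitePresentation
      (fun _ _ _ l w _ _ => inferInstance)
      (fun _ a => hA.representable_from_yon a)
      (Groth.Agent.Lib.AlgSpBasic.repWith_mono (fun _ _ g (_ : IsOpenImmersion g) =>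
        (inferInstance : LocallyOfFinitePresentation g)) hm)
  exact (isOpenMap_of_flatLfp hA hB ⟨h1, h2⟩).isOpen_range

/-- The image of an open immersion of stacks is open. -/
theorem isOpen_range_of_isOpenImm [FibCat.IsFibGrpd 𝒳.p] {𝒜 : AlgSt.Cat S}
    [FibCat.IsFibGrpd 𝒜.p] (f : 𝒜 ⥤ᵇ 𝒳) (hf : IsOpenImm f) :
    IsOpen (Set.range (Points.map f)) := by
  rw [Points.isOpen_iff]
  intro U x _
  obtain ⟨F, e, he, hm⟩ := hf U x
  have : Points.ofChart x ⁻¹' Set.range (Points.map f) =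
      AlgSp.Points.schemeHomeo U ⁻¹' Set.range
        (AlgSp.Points.map (spMapOfOver (BasedFunctor.comp e (FibCat.fpFst x f)))) := by
    ext t
    exact ofChart_mem_range_iff f x e he t
  rw [this]
  exact (AlgSp.Points.schemeHomeo U).continuous.isOpen_preimage _
    (isOpen_range_of_repWith_isOpenImmersion F.property (AlgSp.IsAlgSpace.yon_obj U) hm)


/-! ### Objects of an open substack are detected on points -/

/-- **Key lemma.** If the inclusion of the full subcategory on a pullback-stable `Q` is an open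
immersion, then an object all of whose field points lie in `|Q|` satisfies `Q`. -/
theorem of_ptsIn_range [FibCat.IsFibGrpd 𝒳.p] {Q : 𝒳.obj → Prop} (hQ : PbStable Q)
    (hj : IsOpenImm (subIncl 𝒳 Q)) {y : 𝒳.obj}
    (hy : ptsIn (Set.range (Points.map (subIncl 𝒳 Q))) y) : Q y := by
  haveI : 𝒳.p.IsFibered := isFibered 𝒳.p
  haveI := fullSub_isFibGrpd hQ
  set T₀ : Over S := 𝒳.p.obj y with hT₀
  let x₀ : 𝒳.p.Fiber T₀ := ⟨y, rfl⟩
  obtain ⟨F, e, he, hm⟩ := hj T₀ (pbFunctor x₀)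
  set Φ := BasedFunctor.comp e (FibCat.fpFst (pbFunctor x₀) (subIncl 𝒳 Q)) with hΦ
  have hs : Function.Surjective (AlgSp.Points.map (spMapOfOver Φ)) := by
    intro v
    obtain ⟨t, rfl⟩ := (AlgSp.Points.schemeHomeo T₀).surjective v
    refine (ofChart_mem_range_iff (subIncl 𝒳 Q) (pbFunctor x₀) e he t).1 ?_
    exact hy _ ⟨pbMap x₀ _⟩
  haveI : IsIso (spMapOfOver Φ) :=
    Groth.Agent.Lib.H86AlgSpSub.isIso_of_repWith_isOpenImmersion_of_surjective hm hs
  obtain ⟨γ⟩ := Groth.Agent.Lib.AlgStDiagDict.nonempty_iso_ofSpMap_toOverCat Φ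
  have hΦe : FibCat.IsEquivOver Φ :=
    isEquivOver_of_iso γ (isEquivOver_comp
      (Groth.Agent.Lib.AlgStDiagSch.ofSpMap_isEquivOver (asIso (spMapOfOver Φ)))
      (toOverCat_isEquivOver T₀))
  obtain ⟨-, -, hess⟩ := ff_ess_of_isEquivOver Φ hΦe
  obtain ⟨ξ, ε, -⟩ := hess (overTop T₀)
  -- the object of the fibre product over `𝟙`
  let z := e.obj ξ
  have hz : Q z.obj.snd.obj := z.obj.snd.property
  have ε' : z.obj.fst ≅ overTop T₀ := ε
  exact hQ (pbMapInv x₀ ≫ (pbFunctor x₀).map ε'.inv ≫ z.obj.iso.hom) hz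


/-! ### Field points of objects in the image of a chart -/

theorem ofChart_id_surjective' (V : Over S) :
    Function.Surjective (Points.ofChart (BasedFunctor.id (FibCat.overCat V))) := by
  intro ζ
  obtain ⟨ζ', rfl⟩ := (map_toOverCat_bijective V).2 ζ
  obtain ⟨v, rfl⟩ := (spPts _).surjective ζ'
  obtain ⟨t, rfl⟩ := (AlgSp.Points.schemeHomeo V).surjective v
  exact ⟨t, rfl⟩

/-- A field point mapping to `y(b)` is the image under the chart `y` of a point of the source of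
`b`. -/
theorem exists_ofChart_of_hom [FibCat.IsFibGrpd 𝒳.p] {U : Over S} (y : FibCat.overCat U ⥤ᵇ 𝒳)
    (b : Over U) (p : FPt 𝒳) (c : p.obj ⟶ y.obj b) :
    ∃ t : ↥b.left.left, Points.mk p = Points.ofChart y (b.hom.left t) := by
  have hb : 𝒳.p.obj (y.obj b) = b.left := y.w_obj b
  let f : Over.mk p.str ⟶ b.left := eqToHom p.lies.symm ≫ 𝒳.p.map c ≫ eqToHom hb
  haveI hc : 𝒳.p.IsHomLift f c := IsHomLift.of_fac 𝒳.p f c p.lies hb rfl
  let q₀ : FPt (FibCat.overCat b.left) :=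
    { K := p.K, str := p.str, obj := Over.mk f, lies := rfl }
  let k : (AlgSt.overMap b.hom).obj (Over.mk f) ⟶ b := Over.homMk f rfl
  haveI hk : (FibCat.overCat U).p.IsHomLift f k :=
    IsHomLift.of_fac (FibCat.overCat U).p f k rfl rfl (by simp; rfl)
  haveI hyk : 𝒳.p.IsHomLift f (y.map k) := BasedFunctor.preserves_isHomLift y f k
  obtain ⟨ε, -, -⟩ := Groth.Agent.Lib.H43StkDescent.exists_iso_of_isHomLift f (y.map k) c
  have h1 : Points.mk p = Points.map y (Points.map (AlgSt.overMap b.hom) (Points.mk q₀)) :=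
    Points.sound ⟨p, 𝟙 _, ε.hom, trivial⟩
  obtain ⟨t, ht⟩ := ofChart_id_surjective' b.left (Points.mk q₀)
  refine ⟨t, ?_⟩
  rw [h1, ← ht, ← ofChart_overMap_comp]
  rfl


theorem ofChart_mem_of_ptsIn {T : Set (Points 𝒳)} {U : Over S} (y : FibCat.overCat U ⥤ᵇ 𝒳)
    (a : Over U) (h : ptsIn T (y.obj a)) (t : ↥a.left.left) :
    Points.ofChart y (a.hom.left t) ∈ T := by
  rw [← ofChart_overMap_comp]
  refine h _ ⟨y.map ?_⟩
  exact Over.homMk (Over.homMk (a.left.left.fromSpecResidueField t) rfl) rfl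

theorem ptsIn_obj_of_range_subset [FibCat.IsFibGrpd 𝒳.p] {T : Set (Points 𝒳)} {U : Over S}
    (y : FibCat.overCat U ⥤ᵇ 𝒳) (b : Over U)
    (h : ∀ t : ↥b.left.left, Points.ofChart y (b.hom.left t) ∈ T) : ptsIn T (y.obj b) := by
  rintro p ⟨c⟩
  obtain ⟨t, ht⟩ := exists_ofChart_of_hom y b p c
  rw [ht]; exact h t

/-! ### Lifting a functor to a full subcategory -/

/-- A functor all of whose values satisfy `Q` lifts to the full subcategory. -/
def liftSub {𝒜 : AlgSt.Cat S} (Q : 𝒳.obj → Prop) (g : 𝒜 ⥤ᵇ 𝒳) (h : ∀ a, Q (g.obj a)) :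
    𝒜 ⥤ᵇ fullSub 𝒳 Q where
  toFunctor := ObjectProperty.lift Q g.toFunctor h
  w := g.w

theorem liftSub_comp_subIncl {𝒜 : AlgSt.Cat S} (Q : 𝒳.obj → Prop) (g : 𝒜 ⥤ᵇ 𝒳)
    (h : ∀ a, Q (g.obj a)) : BasedFunctor.comp (liftSub Q g h) (subIncl 𝒳 Q) = g := rfl


/-! ### The substack `ptsIn T` of an open subset is open -/

section PtsInOpen

variable [FibCat.IsFibGrpd 𝒳.p] {T : Set (Points 𝒳)} {U : Over S} (y : FibCat.overCat U ⥤ᵇ 𝒳)
  (W : U.left.Opens) (hW : (W : Set ↥U.left) = Points.ofChart y ⁻¹' T)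

include hW in
theorem ptsIn_overMap_openIncl (a : Over (openOver W)) :
    ptsIn T ((BasedFunctor.comp (AlgSt.overMap (openIncl W)) y).obj a) := by
  apply ptsIn_obj_of_range_subset y ((Over.map (openIncl W)).obj a)
  intro t
  have h1 : ((Over.map (openIncl W)).obj a).hom.left t ∈ (W : Set ↥U.left) := by
    have : ((Over.map (openIncl W)).obj a).hom.left t = W.ι (a.hom.left t) := by
      simp
    rw [this]
    exact (a.hom.left t).2
  rw [hW] at h1
  exact h1

/-- The comparison functor `(Sch/W) ⟶ (Sch/U) ×_𝒳 ptsIn T`. -/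
def chartFunctor : FibCat.overCat (openOver W) ⥤ᵇ FibCat.fp y (subIncl 𝒳 (ptsIn T)) :=
  FibCat.fpLift (AlgSt.overMap (openIncl W))
    (liftSub (ptsIn T) (BasedFunctor.comp (AlgSt.overMap (openIncl W)) y)
      (ptsIn_overMap_openIncl y W hW)) (Iso.refl _)


instance openIncl_mono : Mono (openIncl W) := by
  haveI : Mono (openIncl W).left := inferInstanceAs (Mono W.ι)
  exact Over.mono_of_mono_left _

theorem chartFunctor_faithful : (chartFunctor y W hW).toFunctor.Faithful where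
  map_injective {a b} f g h := by
    have h1 : (Over.map (openIncl W)).map f = (Over.map (openIncl W)).map g :=
      congrArg (fun m => m.hom.fst) h
    have h2 : ((Over.map (openIncl W)).map f).left = ((Over.map (openIncl W)).map g).left :=
      congrArg (fun m => m.left) h1
    exact Over.OverMorphism.ext h2

theorem chartFunctor_full : (chartFunctor y W hW).toFunctor.Full where
  map_surjective {a b} φ := by
    have hw : φ.hom.fst.left ≫ (b : Over (openOver W)).hom = (a : Over (openOver W)).hom := by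
      have h1 : φ.hom.fst.left ≫ ((Over.map (openIncl W)).obj b).hom =
          ((Over.map (openIncl W)).obj a).hom := Over.w φ.hom.fst
      rw [← cancel_mono (openIncl W)]
      simpa using h1
    refine ⟨(Over.homMk φ.hom.fst.left hw : (a : Over (openOver W)) ⟶ b), ?_⟩
    apply fp_hom_ext
    · exact Over.OverMorphism.ext rfl
    · have h2 := φ.hom.w
      have h3 : ((chartFunctor y W hW).obj b).obj.iso.hom = 𝟙 _ := rfl
      have h4 : ((chartFunctor y W hW).obj a).obj.iso.hom = 𝟙 _ := rfl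
      rw [h3, h4, Category.comp_id, Category.id_comp] at h2
      apply ObjectProperty.hom_ext
      refine Eq.trans ?_ h2
      show y.map ((Over.map (openIncl W)).map (Over.homMk φ.hom.fst.left hw)) = y.map φ.hom.fst
      congr 1


theorem chartFunctor_isEquivOver : FibCat.IsEquivOver (chartFunctor y W hW) := by
  haveI := chartFunctor_full y W hW
  haveI := chartFunctor_faithful y W hW
  apply isEquivOver_of_ff_of_ess
  intro η
  let a : Over U := η.obj.fst
  have hpa : ptsIn T (y.obj a) := (pbStable_ptsIn T) η.obj.iso.hom η.obj.snd.property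
  have hr : Set.range a.hom.left ⊆ Set.range W.ι := by
    rintro _ ⟨t, rfl⟩
    have h1 := ofChart_mem_of_ptsIn y a hpa t
    rw [Scheme.Opens.range_ι]
    show a.hom.left t ∈ (W : Set ↥U.left)
    rw [hW]
    exact h1
  let g : a.left.left ⟶ W.toScheme := IsOpenImmersion.lift W.ι a.hom.left hr
  have hg : g ≫ W.ι = a.hom.left := IsOpenImmersion.lift_fac _ _ _
  let g' : a.left ⟶ openOver W := Over.homMk g (by
    show g ≫ W.ι ≫ U.hom = a.left.hom
    rw [← Category.assoc, hg]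
    exact Over.w a.hom)
  let ξ : Over (openOver W) := Over.mk g'
  have hξ : g' ≫ openIncl W = a.hom := Over.OverMorphism.ext hg
  let κ : (Over.map (openIncl W)).obj ξ ≅ a := Over.isoMk (Iso.refl _) (by
    show 𝟙 _ ≫ a.hom = g' ≫ openIncl W
    rw [hξ, Category.id_comp])
  let e₂ : ((chartFunctor y W hW).obj ξ).obj.snd ≅ η.obj.snd :=
    ObjectProperty.isoMk _ (y.toFunctor.mapIso κ ≪≫ η.obj.iso)
  let e : (chartFunctor y W hW).obj ξ ≅ η :=
    fpIsoMk (z := (chartFunctor y W hW).obj ξ) (z' := η) κ e₂ (by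
      show y.map κ.hom ≫ η.obj.iso.hom = 𝟙 _ ≫ (y.map κ.hom ≫ η.obj.iso.hom)
      rw [Category.id_comp])
  refine ⟨ξ, e, ?_⟩
  rw [fp_isHomLift_iff]
  show (FibCat.overCat U).p.IsHomLift (𝟙 _) κ.hom
  exact IsHomLift.of_fac _ _ _ rfl rfl (by simp; rfl)

end PtsInOpen


/-- **The substack of an open subset is an open substack** (inclusion part). -/
theorem isOpenImm_subIncl_ptsIn [FibCat.IsFibGrpd 𝒳.p] (hat : HasAtlas (AlgSp.LocP @Smooth) 𝒳)
    {T : Set (Points 𝒳)} (hT : IsOpen T) : IsOpenImm (subIncl 𝒳 (ptsIn T)) := by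
  intro U y
  let W : U.left.Opens :=
    ⟨Points.ofChart y ⁻¹' T, (continuous_ofChart hat y).isOpen_preimage _ hT⟩
  have hW : (W : Set ↥U.left) = Points.ofChart y ⁻¹' T := rfl
  refine ⟨⟨(AlgSp.yon S).obj (openOver W), AlgSp.IsAlgSpace.yon_obj _⟩,
    BasedFunctor.comp (toOverCat (openOver W)) (chartFunctor y W hW),
    isEquivOver_comp (toOverCat_isEquivOver _) (chartFunctor_isEquivOver y W hW), ?_⟩
  have h1 : BasedFunctor.comp (BasedFunctor.comp (toOverCat (openOver W)) (chartFunctor y W hW))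
      (FibCat.fpFst y _) =
      BasedFunctor.comp (ofSpMap ((AlgSp.yon S).map (openIncl W))) (toOverCat U) := rfl
  rw [h1, Groth.Agent.Lib.AlgStSpTest.spMapOfOver_ofSpMap_toOverCat]
  exact (AlgSp.repWith_yon_map_iff @IsOpenImmersion _).2 (inferInstanceAs (IsOpenImmersion W.ι))

/-- **The substack of an open subset is an open substack.** -/
theorem isOpenSubstack_ptsIn (h𝒳 : IsAlgStack Scheme.fppfPrecoverage 𝒳)
    {T : Set (Points 𝒳)} (hT : IsOpen T) :
    IsOpenSubstack 𝒳 (ptsIn T) Scheme.fppfPrecoverage := by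
  haveI := h𝒳.isStack.1
  have hj := isOpenImm_subIncl_ptsIn h𝒳.atlas hT
  exact ⟨(pbStable_ptsIn T).closedUnderIso,
    Groth.Agent.Lib.AlgStRepStack.isAlgStack_of_repByAlgSp1
      (fullSub_isFibGrpd (pbStable_ptsIn T)) h𝒳 _ (repByAlgSp1_of_repByAlgSpWith _ hj), hj⟩

/-- The points of an open substack form an open subset. -/
theorem isOpen_range_of_isOpenSubstack (h𝒳 : IsAlgStack Scheme.fppfPrecoverage 𝒳)
    {Q : 𝒳.obj → Prop} (hQ : IsOpenSubstack 𝒳 Q Scheme.fppfPrecoverage) :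
    IsOpen (Set.range (Points.map (subIncl 𝒳 Q))) := by
  haveI := h𝒳.isStack.1
  haveI := hQ.2.1.isStack.1
  exact isOpen_range_of_isOpenImm _ hQ.2.2

/-- An open substack is the substack of its set of points. -/
theorem isOpenSubstack_iff_ptsIn (h𝒳 : IsAlgStack Scheme.fppfPrecoverage 𝒳)
    {Q : 𝒳.obj → Prop} (hQ : IsOpenSubstack 𝒳 Q Scheme.fppfPrecoverage) (y : 𝒳.obj) :
    Q y ↔ ptsIn (Set.range (Points.map (subIncl 𝒳 Q))) y := by
  haveI := h𝒳.isStack.1
  have hp := pbStable_of_isOpenSubstack hQ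
  exact ⟨ptsIn_range_of hp, of_ptsIn_range hp hQ.2.2⟩

/-- Containment of open substacks is containment of their sets of points. -/
theorem isOpenSubstack_le_iff (h𝒳 : IsAlgStack Scheme.fppfPrecoverage 𝒳)
    {Q Q' : 𝒳.obj → Prop} (hQ : IsOpenSubstack 𝒳 Q Scheme.fppfPrecoverage)
    (hQ' : IsOpenSubstack 𝒳 Q' Scheme.fppfPrecoverage) :
    (∀ y, Q y → Q' y) ↔
      Set.range (Points.map (subIncl 𝒳 Q)) ⊆ Set.range (Points.map (subIncl 𝒳 Q')) := by
  refine ⟨range_subIncl_mono, fun h y hy => ?_⟩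
  rw [isOpenSubstack_iff_ptsIn h𝒳 hQ'] 
  rw [isOpenSubstack_iff_ptsIn h𝒳 hQ] at hy
  exact fun p hp => h (hy p hp)

end Groth.Agent.Lib.AlgStOpenSub
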