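import Groth.Agent.Lib.H78AlgStPointsFp
import Groth.Agent.Lib.AlgStFp
import Groth.Agent.Lib.AlgStDiagDict

/-!
# Points of algebraic stacks: functoriality and comparison with points of sheaves (helper36)

ns `Groth.Agent.Lib.AlgStPts`

* `map_comp`, `map_id`, `map_congr` : functoriality of `AlgSt.Points.map` (2-isomorphic functors
  give the same map).
* `map_bijective_of_isEquivOver`
* `spPts F : AlgSp.Points F ≃ AlgSt.Points (ofSp F)`, natural in `F` (`map_ofSpMap_spPts`).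
-/

set_option autoImplicit false
set_option linter.style.haveILetI false
set_option backward.isDefEq.respectTransparency false
set_option backward.isDefEq.respectTransparency.types false

namespace Groth.Agent.Lib.AlgStPts

open CategoryTheory CategoryTheory.Limits AlgebraicGeometry Opposite AlgSt
  Groth.Agent.Lib.H78AlgStPoints Groth.Agent.Lib.H78AlgStPointsFp

universe w₃ v₃ w₂ v₂ w v u

variable {S : Scheme.{u}} {𝒳 : BasedCategory.{v, w} (Over S)} {𝒴 : BasedCategory.{v₂, w₂} (Over S)}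
  {𝒵 : BasedCategory.{v₃, w₃} (Over S)}

theorem map_comp (f : 𝒳 ⥤ᵇ 𝒴) (g : 𝒴 ⥤ᵇ 𝒵) (x : Points 𝒳) :
    Points.map (BasedFunctor.comp f g) x = Points.map g (Points.map f x) := by
  obtain ⟨p, rfl⟩ := Points.mk_surjective x
  rfl

theorem map_id (x : Points 𝒳) : Points.map (BasedFunctor.id 𝒳) x = x := by
  obtain ⟨p, rfl⟩ := Points.mk_surjective x
  rfl

theorem map_congr_hom {f g : 𝒳 ⥤ᵇ 𝒴} (e : f ⟶ g) (x : Points 𝒳) :
    Points.map f x = Points.map g x := by
  obtain ⟨p, rfl⟩ := Points.mk_surjective x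
  exact Points.sound ⟨p.map f, 𝟙 _, e.toNatTrans.app p.obj, trivial⟩

theorem map_congr {f g : 𝒳 ⥤ᵇ 𝒴} (e : f ≅ g) : Points.map f = Points.map g :=
  funext fun x => map_congr_hom e.hom x

theorem map_bijective_of_isEquivOver {f : 𝒳 ⥤ᵇ 𝒴} (hf : FibCat.IsEquivOver f) :
    Function.Bijective (Points.map f) := by
  obtain ⟨g, ⟨e₁⟩, ⟨e₂⟩⟩ := hf
  refine Function.bijective_iff_has_inverse.2 ⟨Points.map g, fun x => ?_, fun y => ?_⟩
  · rw [← map_comp, map_congr e₁, map_id]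
  · rw [← map_comp, map_congr e₂, map_id]

/-! ### Points of the category of a sheaf -/

section Sp

variable {F G : AlgSp.Sp S}

/-- A field-valued point of the sheaf `F` as a field-valued point of its category. -/
noncomputable def ofSpPt (q : AlgSp.FieldPt F) : FPt (ofSp F) :=
  { K := q.K, str := q.str, obj := ⟨Over.mk q.str, q.val⟩, lies := rfl }

theorem exists_ofSpPt (p : FPt (ofSp F)) : ∃ q : AlgSp.FieldPt F, ofSpPt q = p := by
  obtain ⟨K, str, ⟨base, sec⟩, lies⟩ := p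
  change base = Over.mk str at lies
  subst lies
  exact ⟨⟨K, str, sec⟩, rfl⟩

theorem rel_ofSpPt_iff (q q' : AlgSp.FieldPt F) :
    FPt.Rel (ofSpPt q) (ofSpPt q') ↔ AlgSp.FieldPt.Rel q q' := by
  constructor
  · rintro ⟨r, a, b, -⟩
    obtain ⟨r, rfl⟩ := exists_ofSpPt r
    exact ⟨r.K, inferInstance, r.str, a.hom, b.hom, a.map_sec.trans b.map_sec.symm⟩
  · rintro ⟨Ω, _, w, a, b, h⟩
    exact ⟨ofSpPt ⟨Ω, w, F.obj.map a.op q.val⟩, ⟨a, rfl⟩, ⟨b, h.symm⟩, trivial⟩

variable (F) in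
/-- The points of a sheaf are the points of its category. -/
noncomputable def spPts : AlgSp.Points F ≃ Points (ofSp F) :=
  Equiv.ofBijective
    (Quotient.lift (fun q => Points.mk (ofSpPt q))
      (fun _ _ h => Points.sound ((rel_ofSpPt_iff _ _).2 h)))
    ⟨by
      intro x y
      induction x using AlgSp.Points.ind with | h p => ?_
      induction y using AlgSp.Points.ind with | h q => ?_
      intro h
      change Points.mk (ofSpPt p) = Points.mk (ofSpPt q) at h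
      rw [mk_eq_mk_iff (Stk.isFibGrpd_ofPsh F.obj), rel_ofSpPt_iff] at h
      exact AlgSp.Points.sound h,
    by
      intro y
      obtain ⟨p, rfl⟩ := Points.mk_surjective y
      obtain ⟨q, rfl⟩ := exists_ofSpPt p
      exact ⟨AlgSp.Points.mk q, rfl⟩⟩

@[simp] theorem spPts_mk (q : AlgSp.FieldPt F) :
    spPts F (AlgSp.Points.mk q) = Points.mk (ofSpPt q) := rfl

theorem map_ofSpMap_spPts (a : F ⟶ G) (x : AlgSp.Points F) :
    Points.map (ofSpMap a) (spPts F x) = spPts G (AlgSp.Points.map a x) := by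
  induction x using AlgSp.Points.ind with | h p => ?_
  rfl

/-- The map `|F| → |𝒳|` induced by a functor from the category of a sheaf. -/
noncomputable def ptsMap (z : ofSp F ⥤ᵇ 𝒳) : AlgSp.Points F → Points 𝒳 :=
  fun x => Points.map z (spPts F x)

theorem ptsMap_comp_ofSpMap (a : F ⟶ G) (z : ofSp G ⥤ᵇ 𝒳) (x : AlgSp.Points F) :
    ptsMap (BasedFunctor.comp (ofSpMap a) z) x = ptsMap z (AlgSp.Points.map a x) := by
  unfold ptsMap
  rw [map_comp, map_ofSpMap_spPts]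

theorem ptsMap_comp (z : ofSp F ⥤ᵇ 𝒳) (f : 𝒳 ⥤ᵇ 𝒴) (x : AlgSp.Points F) :
    ptsMap (BasedFunctor.comp z f) x = Points.map f (ptsMap z x) := by
  unfold ptsMap
  rw [map_comp]

theorem ptsMap_congr {z z' : ofSp F ⥤ᵇ 𝒳} (e : z ≅ z') : ptsMap z = ptsMap z' := by
  funext x
  unfold ptsMap
  rw [map_congr e]

theorem ofChart_eq_ptsMap {U : Over S} (x : FibCat.overCat U ⥤ᵇ 𝒳) (t : ↥U.left) :
    Points.ofChart x t =
      ptsMap (BasedFunctor.comp (toOverCat U) x) (AlgSp.Points.schemeHomeo U t) := rfl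

/-- **Fibre squares on points.** Data of a sheaf `R` representing the 2-fibre product of
`x : ofSp F ⟶ 𝒳` and `y : ofSp G ⟶ 𝒳`. -/
structure FpRep (x : ofSp F ⥤ᵇ 𝒳) (y : ofSp G ⥤ᵇ 𝒳) (R : AlgSp.Sp S) where
  e : ofSp R ⥤ᵇ FibCat.fp x y
  he : FibCat.IsEquivOver e
  a : R ⟶ F
  b : R ⟶ G
  ia : BasedFunctor.comp e (FibCat.fpFst x y) ≅ ofSpMap a
  ib : BasedFunctor.comp e (FibCat.fpSnd x y) ≅ ofSpMap b

/-- Any equivalence `ofSp R ≃ fp x y` gives an `FpRep`. -/
theorem nonempty_fpRep {x : ofSp F ⥤ᵇ 𝒳} {y : ofSp G ⥤ᵇ 𝒳} {R : AlgSp.Sp S}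
    (e : ofSp R ⥤ᵇ FibCat.fp x y) (he : FibCat.IsEquivOver e) :
    ∃ D : FpRep x y R, D.e = e := by
  obtain ⟨a, ⟨ia⟩⟩ := Groth.Agent.Lib.AlgStFp.exists_ofSpMap_iso
    (BasedFunctor.comp e (FibCat.fpFst x y))
  obtain ⟨b, ⟨ib⟩⟩ := Groth.Agent.Lib.AlgStFp.exists_ofSpMap_iso
    (BasedFunctor.comp e (FibCat.fpSnd x y))
  exact ⟨⟨e, he, a, b, ia, ib⟩, rfl⟩

namespace FpRep

variable {x : ofSp F ⥤ᵇ 𝒳} {y : ofSp G ⥤ᵇ 𝒳} {R : AlgSp.Sp S} (D : FpRep x y R)

theorem map_a (r : AlgSp.Points R) :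
    spPts F (AlgSp.Points.map D.a r) =
      Points.map (FibCat.fpFst x y) (Points.map D.e (spPts R r)) := by
  rw [← map_ofSpMap_spPts, ← map_congr D.ia, map_comp]

theorem map_b (r : AlgSp.Points R) :
    spPts G (AlgSp.Points.map D.b r) =
      Points.map (FibCat.fpSnd x y) (Points.map D.e (spPts R r)) := by
  rw [← map_ofSpMap_spPts, ← map_congr D.ib, map_comp]

theorem comm (r : AlgSp.Points R) :
    ptsMap x (AlgSp.Points.map D.a r) = ptsMap y (AlgSp.Points.map D.b r) := by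
  unfold ptsMap
  rw [D.map_a, D.map_b]
  have h := congrFun (map_congr (FibCat.fpIso x y)) (Points.map D.e (spPts R r))
  rwa [map_comp, map_comp] at h

theorem exists_of_eq (h𝒳 : FibCat.IsFibGrpd 𝒳.p) (f : AlgSp.Points F) (g : AlgSp.Points G)
    (h : ptsMap x f = ptsMap y g) :
    ∃ r : AlgSp.Points R, AlgSp.Points.map D.a r = f ∧ AlgSp.Points.map D.b r = g := by
  obtain ⟨t, ht1, ht2⟩ := exists_points_fp (Stk.isFibGrpd_ofPsh F.obj) (Stk.isFibGrpd_ofPsh G.obj)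
    h𝒳 x y (spPts F f) (spPts G g) h
  obtain ⟨t', rfl⟩ := (map_bijective_of_isEquivOver D.he).2 t
  obtain ⟨r, rfl⟩ := (spPts R).surjective t'
  refine ⟨r, (spPts F).injective ?_, (spPts G).injective ?_⟩
  · rw [D.map_a, ht1]
  · rw [D.map_b, ht2]

/-- The preimage of an image, computed in the fibre product. -/
theorem preimage_image (h𝒳 : FibCat.IsFibGrpd 𝒳.p) (O : Set (AlgSp.Points F)) :
    ptsMap y ⁻¹' (ptsMap x '' O) = AlgSp.Points.map D.b '' (AlgSp.Points.map D.a ⁻¹' O) := by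
  ext g
  constructor
  · rintro ⟨f, hf, hfg⟩
    obtain ⟨r, rfl, rfl⟩ := D.exists_of_eq h𝒳 f g hfg
    exact ⟨r, hf, rfl⟩
  · rintro ⟨r, hr, rfl⟩
    exact ⟨_, hr, D.comm r⟩

/-- The preimage of an image, computed in the fibre product (other side). -/
theorem preimage_image' (h𝒳 : FibCat.IsFibGrpd 𝒳.p) (O : Set (AlgSp.Points G)) :
    ptsMap x ⁻¹' (ptsMap y '' O) = AlgSp.Points.map D.a '' (AlgSp.Points.map D.b ⁻¹' O) := by
  ext f
  constructor
  · rintro ⟨g, hg, hfg⟩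
    obtain ⟨r, rfl, rfl⟩ := D.exists_of_eq h𝒳 f g hfg.symm
    exact ⟨r, hg, rfl⟩
  · rintro ⟨r, hr, rfl⟩
    exact ⟨_, hr, (D.comm r).symm⟩

/-- The preimage of a preimage, computed in the fibre product. -/
theorem preimage_preimage (W : Set (Points 𝒳)) :
    AlgSp.Points.map D.a ⁻¹' (ptsMap x ⁻¹' W) = AlgSp.Points.map D.b ⁻¹' (ptsMap y ⁻¹' W) := by
  ext r
  simp only [Set.mem_preimage, D.comm r]

end FpRep

end Sp

end Groth.Agent.Lib.AlgStPts
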