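import Groth.Agent.Lib.AlgStPtsQC2

/-!
# Universally injective morphisms of algebraic stacks are local on the base (helper36)

ns `Groth.Agent.Lib.AlgStPtsInj`

* `fibre_subsingleton_of_injective_baseChange`
* `injective_of_isUnivInjective`
* `isUnivInjective_of_fpFst_cover` (= S13570)
* `isUnivInjective_of_forall_affine` (= S13569)
-/

set_option autoImplicit false
set_option linter.style.haveILetI false
set_option backward.isDefEq.respectTransparency false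
set_option backward.isDefEq.respectTransparency.types false

namespace Groth.Agent.Lib.AlgStPtsInj

open CategoryTheory CategoryTheory.Limits AlgebraicGeometry Opposite AlgSt
  Groth.Agent.Lib.H78AlgStPoints Groth.Agent.Lib.H78AlgStPointsFp Groth.Agent.Lib.AlgStPts
  Groth.Agent.Lib.AlgStPtsTop Groth.Agent.Lib.AlgStPtsSurj Groth.Agent.Lib.AlgStPtsMain
  Groth.Agent.Lib.AlgStPtsQC Groth.Agent.Lib.AlgStPtsQC2
  Groth.Agent.Lib.FibGrpd Groth.Agent.Lib.AlgStFp Groth.Agent.Lib.AlgStEquiv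
  Groth.Agent.Lib.FpEquiv Groth.Agent.Lib.EquivOver Groth.Agent.Lib.AlgStFpStack

universe u

variable {S : Scheme.{u}} {𝒳 𝒴 𝒯 ℛ : AlgSt.Cat S}

/-- If the base change of `f` to `ℛ` is injective on points, the fibres of `|𝒯 ×_𝒴 𝒳| → |𝒯|` over
points in the image of `|ℛ| → |𝒯|` have at most one element. -/
theorem eq_of_injective_baseChange [FibCat.IsFibGrpd 𝒳.p] [FibCat.IsFibGrpd 𝒴.p]
    [FibCat.IsFibGrpd 𝒯.p] [FibCat.IsFibGrpd ℛ.p] (f : 𝒳 ⥤ᵇ 𝒴) (g : 𝒯 ⥤ᵇ 𝒴) (c : ℛ ⥤ᵇ 𝒯)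
    (hinj : Function.Injective (Points.map (FibCat.fpFst (BasedFunctor.comp c g) f)))
    (π : Points ℛ) (ξ₁ ξ₂ : Points (FibCat.fp g f))
    (h₁ : Points.map (FibCat.fpFst g f) ξ₁ = Points.map c π)
    (h₂ : Points.map (FibCat.fpFst g f) ξ₂ = Points.map c π) : ξ₁ = ξ₂ := by
  haveI : FibCat.IsFibGrpd (FibCat.fp g f).p := fp_isFibGrpd _ _
  obtain ⟨η₁, a₁, b₁⟩ := exists_points_fp (inferInstance : FibCat.IsFibGrpd ℛ.p) inferInstance
    inferInstance c (FibCat.fpFst g f) π ξ₁ h₁.symm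
  obtain ⟨η₂, a₂, b₂⟩ := exists_points_fp (inferInstance : FibCat.IsFibGrpd ℛ.p) inferInstance
    inferInstance c (FibCat.fpFst g f) π ξ₂ h₂.symm
  have e : η₁ = η₂ := by
    apply points_map_injective_of_isEquivOver (fpPasteLeft c g f) (fpPasteLeft_isEquivOver c g f)
    apply hinj
    rw [← points_map_fpFst_paste, ← points_map_fpFst_paste, a₁, a₂]
  rw [← b₁, ← b₂, e]

/-- A universally injective morphism is injective on points. -/
theorem injective_of_isUnivInjective [FibCat.IsFibGrpd 𝒳.p] (h𝒴 : IsAlgStack Scheme.fppfPrecoverage 𝒴)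
    (f : 𝒳 ⥤ᵇ 𝒴) (hf : IsUnivInjective Scheme.fppfPrecoverage f) :
    Function.Injective (Points.map f) := by
  haveI := h𝒴.isStack.1
  intro ξ₁ ξ₂ h12
  obtain ⟨η₁, a₁, b₁⟩ := exists_points_fp (inferInstance : FibCat.IsFibGrpd 𝒴.p) inferInstance
    inferInstance (BasedFunctor.id 𝒴) f (Points.map f ξ₁) ξ₁ (map_id _)
  obtain ⟨η₂, a₂, b₂⟩ := exists_points_fp (inferInstance : FibCat.IsFibGrpd 𝒴.p) inferInstance
    inferInstance (BasedFunctor.id 𝒴) f (Points.map f ξ₂) ξ₂ (map_id _)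
  have e : η₁ = η₂ := hf 𝒴 h𝒴 (BasedFunctor.id 𝒴) (by rw [a₁, a₂, h12])
  rw [← b₁, ← b₂, e]

/-- Injectivity of the first projection is invariant under 2-isomorphism of the base map. -/
theorem injective_fpFst_congr [FibCat.IsFibGrpd 𝒳.p] [FibCat.IsFibGrpd 𝒴.p]
    [FibCat.IsFibGrpd ℛ.p] (f : 𝒳 ⥤ᵇ 𝒴) {k k' : ℛ ⥤ᵇ 𝒴} (ι : k ≅ k')
    (h : Function.Injective (Points.map (FibCat.fpFst k' f))) :
    Function.Injective (Points.map (FibCat.fpFst k f)) := by
  obtain ⟨E, hE⟩ := fp_congr_left ι f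
  -- use the explicit functor
  let α : BasedFunctor.comp k (BasedFunctor.id 𝒴) ≅ BasedFunctor.comp (BasedFunctor.id ℛ) k' :=
    compIdIso k ≪≫ ι ≪≫ (idCompIso k').symm
  let β : BasedFunctor.comp f (BasedFunctor.id 𝒴) ≅ BasedFunctor.comp (BasedFunctor.id 𝒳) f :=
    compIdIso f ≪≫ (idCompIso f).symm
  have hE' := fpMap_isEquivOver (BasedFunctor.id ℛ) (BasedFunctor.id 𝒳) (BasedFunctor.id 𝒴) α β
    isEquivOver_id isEquivOver_id
  intro p q hpq
  apply points_map_injective_of_isEquivOver _ hE'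
  apply h
  have key : ∀ r : Points (FibCat.fp k f),
      Points.map (FibCat.fpFst k' f) (Points.map
        (fpMap (BasedFunctor.id ℛ) (BasedFunctor.id 𝒳) (BasedFunctor.id 𝒴) α β) r) =
      Points.map (FibCat.fpFst k f) r := by
    intro r
    rw [← points_map_comp]
    exact points_map_congr (Iso.refl _) r
  rw [key, key, hpq]

/-- = S13570 (flatness and finite presentation of the cover are not needed). -/
theorem isUnivInjective_of_fpFst_cover {𝒲 : AlgSt.Cat S}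
    (h𝒳 : IsAlgStack Scheme.fppfPrecoverage 𝒳) (h𝒴 : IsAlgStack Scheme.fppfPrecoverage 𝒴)
    (h𝒲 : IsAlgStack Scheme.fppfPrecoverage 𝒲)
    (f : 𝒳 ⥤ᵇ 𝒴) (w : 𝒲 ⥤ᵇ 𝒴)
    (hw : ∀ (𝒯 : AlgSt.Cat S), IsAlgStack Scheme.fppfPrecoverage 𝒯 → ∀ g : 𝒯 ⥤ᵇ 𝒴,
      IsSurjective (FibCat.fpFst g w))
    (h : IsUnivInjective Scheme.fppfPrecoverage (FibCat.fpFst w f)) :
    IsUnivInjective Scheme.fppfPrecoverage f := by
  intro 𝒯 h𝒯 g
  haveI := h𝒳.isStack.1
  haveI := h𝒴.isStack.1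
  haveI := h𝒯.isStack.1
  haveI := h𝒲.isStack.1
  have hP : IsAlgStack Scheme.fppfPrecoverage (FibCat.fp g w) :=
    isAlgStack_fp_of _ h𝒴.isStack h𝒴.diag h𝒯 h𝒲 g w
  haveI := hP.isStack.1
  -- injectivity of the base change to `fp g w`
  have h1 : Function.Injective (Points.map
      (FibCat.fpFst (BasedFunctor.comp (FibCat.fpSnd g w) w) f)) := by
    have h0 := h _ hP (FibCat.fpSnd g w)
    intro p q hpq
    obtain ⟨p', rfl⟩ := points_map_surjective_of_isEquivOver _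
      (fpPasteLeft_isEquivOver (FibCat.fpSnd g w) w f) p
    obtain ⟨q', rfl⟩ := points_map_surjective_of_isEquivOver _
      (fpPasteLeft_isEquivOver (FibCat.fpSnd g w) w f) q
    rw [← points_map_fpFst_paste, ← points_map_fpFst_paste] at hpq
    rw [h0 hpq]
  have h2 : Function.Injective (Points.map
      (FibCat.fpFst (BasedFunctor.comp (FibCat.fpFst g w) g) f)) :=
    injective_fpFst_congr f (FibCat.fpIso g w) h1
  intro ξ₁ ξ₂ h12
  obtain ⟨π, hπ⟩ := hw 𝒯 h𝒯 g (Points.map (FibCat.fpFst g f) ξ₁)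
  exact eq_of_injective_baseChange f g (FibCat.fpFst g w) h2 π ξ₁ ξ₂ hπ.symm (h12 ▸ hπ.symm)

/-- = S13569 -/
theorem isUnivInjective_of_forall_affine
    (h𝒳 : IsAlgStack Scheme.fppfPrecoverage 𝒳) (h𝒴 : IsAlgStack Scheme.fppfPrecoverage 𝒴)
    (f : 𝒳 ⥤ᵇ 𝒴)
    (h : ∀ (Z : Over S) [IsAffine Z.left] (z : FibCat.overCat Z ⥤ᵇ 𝒴),
      IsUnivInjective Scheme.fppfPrecoverage (FibCat.fpFst z f)) :
    IsUnivInjective Scheme.fppfPrecoverage f := by
  intro 𝒯 h𝒯 g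
  haveI := h𝒳.isStack.1
  haveI := h𝒴.isStack.1
  haveI := h𝒯.isStack.1
  intro ξ₁ ξ₂ h12
  obtain ⟨V, v, hv1, hv2⟩ := h𝒯.atlas
  obtain ⟨t, ht⟩ := surjective_ofChart v hv2 (Points.map (FibCat.fpFst g f) ξ₁)
  obtain ⟨_, ⟨A, hA, rfl⟩, htA, -⟩ :=
    V.left.isBasis_affineOpens.exists_subset_of_mem_open (Set.mem_univ t) isOpen_univ
  haveI : IsAffine (openOver A).left := hA
  let c : FibCat.overCat (openOver A) ⥤ᵇ 𝒯 := BasedFunctor.comp (AlgSt.overMap (openIncl A)) v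
  have hc : Points.map c (Points.ofChart (BasedFunctor.id _) ⟨t, htA⟩) =
      Points.map (FibCat.fpFst g f) ξ₁ := by
    rw [← ofChart_eq_map, ofChart_overMap_comp, ← ht]
    rfl
  haveI : FibCat.IsFibGrpd (FibCat.fp (BasedFunctor.comp c g) f).p := fp_isFibGrpd _ _
  have hinj : Function.Injective (Points.map (FibCat.fpFst (BasedFunctor.comp c g) f)) :=
    injective_of_isUnivInjective (isAlgStack_overCat (openOver A)) _
      (h (openOver A) (BasedFunctor.comp c g))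
  haveI := overCat_isFibGrpd (openOver A)
  exact eq_of_injective_baseChange f g c hinj _ ξ₁ ξ₂ hc.symm (h12 ▸ hc.symm)

end Groth.Agent.Lib.AlgStPtsInj
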