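import Groth.Agent.Lib.AlgStPtsQC2

/-!
# Points of locally Noetherian algebraic stacks (helper36)

ns `Groth.Agent.Lib.AlgStPtsNoeth`

* `exists_noetherianSpace_nhd` (= S13019)
* `noetherianSpace_points` (= S13020)
* `quasiSober_points` (= S13021)
-/

set_option autoImplicit false
set_option linter.style.haveILetI false
set_option backward.isDefEq.respectTransparency false
set_option backward.isDefEq.respectTransparency.types false

namespace Groth.Agent.Lib.AlgStPtsNoeth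

open CategoryTheory CategoryTheory.Limits AlgebraicGeometry Opposite AlgSt TopologicalSpace
  Groth.Agent.Lib.H78AlgStPoints Groth.Agent.Lib.H78AlgStPointsFp Groth.Agent.Lib.AlgStPts
  Groth.Agent.Lib.AlgStPtsTop Groth.Agent.Lib.AlgStPtsSurj Groth.Agent.Lib.AlgStPtsMain
  Groth.Agent.Lib.AlgStPtsQC Groth.Agent.Lib.AlgStPtsQC2
  Groth.Agent.Lib.FibGrpd Groth.Agent.Lib.AlgStFp Groth.Agent.Lib.AlgStEquiv

universe u

variable {S : Scheme.{u}} {𝒳 : AlgSt.Cat S}

/-- The image of a Noetherian subspace under a continuous map is Noetherian. -/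
theorem noetherianSpace_image {A B : Type*} [TopologicalSpace A] [TopologicalSpace B] {φ : A → B}
    (hφ : Continuous φ) (s : Set A) [NoetherianSpace s] : NoetherianSpace (φ '' s) :=
  noetherianSpace_of_surjective (Set.imageFactorization φ s)
    (hφ.comp continuous_subtype_val |>.subtype_mk _) Set.imageFactorization_surjective

/-- = S13019 -/
theorem exists_noetherianSpace_nhd [FibCat.IsFibGrpd 𝒳.p]
    (hat : HasAtlas (AlgSp.LocP @Smooth) 𝒳)
    (hN : SmoothLocally (fun T ↦ IsLocallyNoetherian T) 𝒳) (x : Points 𝒳) :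
    ∃ U : Set (Points 𝒳), IsOpen U ∧ x ∈ U ∧ NoetherianSpace U := by
  obtain ⟨V, Y, hY1, hY2⟩ := id hat
  haveI : IsLocallyNoetherian V.left := hN V Y hY1
  have hfl := flatLfp_repByAlgSpWith_of_smooth Y hY1
  obtain ⟨t, rfl⟩ := surjective_ofChart Y hY2 x
  obtain ⟨_, ⟨A, hA, rfl⟩, htA, -⟩ :=
    V.left.isBasis_affineOpens.exists_subset_of_mem_open (Set.mem_univ t) isOpen_univ
  haveI : IsNoetherianRing Γ(V.left, A) := IsLocallyNoetherian.component_noetherian ⟨A, hA⟩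
  haveI : NoetherianSpace (A : Set ↥V.left) := noetherianSpace_of_isAffineOpen A hA
  exact ⟨Points.ofChart Y '' (A : Set ↥V.left), isOpenMap_ofChart Y hfl.1 hfl.2 _ A.2,
    ⟨t, htA, rfl⟩, noetherianSpace_image (continuous_ofChart hat Y) _⟩

/-- = S13020 -/
theorem noetherianSpace_points [FibCat.IsFibGrpd 𝒳.p]
    (hat : HasAtlas (AlgSp.LocP @Smooth) 𝒳) (hqc : IsQuasiCompact 𝒳)
    (hN : SmoothLocally (fun T ↦ IsLocallyNoetherian T) 𝒳) : NoetherianSpace (Points 𝒳) := by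
  obtain ⟨U, x, hU, hx, hxs⟩ := hqc
  haveI : IsAffine U.left := hU
  haveI : IsLocallyNoetherian U.left := hN U x hx
  haveI : IsNoetherian U.left := {}
  exact noetherianSpace_of_surjective _ (continuous_ofChart hat x) (surjective_ofChart x hxs)

/-- The target of a continuous open surjection from a quasi-sober, locally Noetherian space is
quasi-sober. -/
theorem quasiSober_of_isOpenMap_surjective {A B : Type*} [TopologicalSpace A] [TopologicalSpace B]
    [QuasiSober A] (φ : A → B) (hφc : Continuous φ) (hφo : IsOpenMap φ)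
    (hφs : Function.Surjective φ)
    (hN : ∀ a : A, ∃ N : Set A, IsOpen N ∧ a ∈ N ∧ NoetherianSpace N) : QuasiSober B := by
  refine ⟨fun {T} hT hTc => ?_⟩
  obtain ⟨y, hy⟩ := hT.nonempty
  obtain ⟨x₀, rfl⟩ := hφs y
  obtain ⟨N, hNo, hx₀N, hNn⟩ := hN x₀
  haveI : QuasiSober N := (hNo.isOpenEmbedding_subtypeVal).quasiSober
  -- decompose the closed set `φ⁻¹ T ∩ N` of `N`
  have hcl : IsClosed ((Subtype.val : N → A) ⁻¹' (φ ⁻¹' T)) :=
    (hTc.preimage hφc).preimage continuous_subtype_val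
  obtain ⟨𝒮, h𝒮f, h𝒮c, h𝒮i, h𝒮U⟩ := NoetherianSpace.exists_finite_set_isClosed_irreducible hcl
  -- generic points
  haveI : Nonempty N := ⟨⟨x₀, hx₀N⟩⟩
  choose! z hz using fun t (ht : t ∈ 𝒮) => QuasiSober.sober (h𝒮i t ht) (h𝒮c t ht)
  -- the finite family of closed sets
  obtain ⟨𝒞', h𝒞'⟩ := ((h𝒮f.image (fun t => closure {φ (z t : A)})).insert
    (φ '' N)ᶜ).exists_finset_coe
  have hmem : ∀ c, c ∈ 𝒞' ↔ c = (φ '' N)ᶜ ∨ ∃ t ∈ 𝒮, closure {φ (z t : A)} = c := by
    intro c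
    rw [← Finset.mem_coe, h𝒞']
    simp [Set.mem_insert_iff]
  have h𝒞c : ∀ c ∈ 𝒞', IsClosed c := by
    intro c hc
    rcases (hmem c).1 hc with rfl | ⟨t, -, rfl⟩
    · exact (hφo N hNo).isClosed_compl
    · exact isClosed_closure
  have hcov : T ⊆ ⋃₀ (𝒞' : Set (Set B)) := by
    intro p hp
    by_cases hpN : p ∈ φ '' N
    · obtain ⟨a, haN, rfl⟩ := hpN
      have ha : (⟨a, haN⟩ : N) ∈ (Subtype.val : N → A) ⁻¹' (φ ⁻¹' T) := hp
      rw [h𝒮U] at ha
      obtain ⟨t, ht, hat⟩ := ha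
      refine ⟨closure {φ (z t : A)}, Finset.mem_coe.2 ((hmem _).2 (Or.inr ⟨t, ht, rfl⟩)), ?_⟩
      have h1 : (⟨a, haN⟩ : N) ∈ closure ({z t} : Set N) := by
        rw [(hz t ht).def]
        exact hat
      have h2 := image_closure_subset_closure_image (hφc.comp continuous_subtype_val)
        (s := ({z t} : Set N)) ⟨_, h1, rfl⟩
      simpa using h2
    · exact ⟨_, Finset.mem_coe.2 ((hmem _).2 (Or.inl rfl)), hpN⟩
  obtain ⟨c, hc, hTc'⟩ := isIrreducible_iff_sUnion_isClosed.1 hT 𝒞' h𝒞c hcov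
  have hc' := (hmem c).1 hc
  rcases hc' with rfl | ⟨t, ht, rfl⟩
  · exact absurd ⟨x₀, hx₀N, rfl⟩ (hTc' hy)
  · refine ⟨φ (z t : A), ?_⟩
    refine subset_antisymm ?_ hTc'
    refine hTc.closure_subset_iff.2 (Set.singleton_subset_iff.2 ?_)
    have : z t ∈ (Subtype.val : N → A) ⁻¹' (φ ⁻¹' T) := by
      rw [h𝒮U]
      exact ⟨t, ht, (hz t ht).mem⟩
    exact this

/-- = S13021 -/
theorem quasiSober_points [FibCat.IsFibGrpd 𝒳.p]
    (hat : HasAtlas (AlgSp.LocP @Smooth) 𝒳)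
    (hN : SmoothLocally (fun T ↦ IsLocallyNoetherian T) 𝒳) : QuasiSober (Points 𝒳) := by
  obtain ⟨V, Y, hY1, hY2⟩ := id hat
  haveI : IsLocallyNoetherian V.left := hN V Y hY1
  have hfl := flatLfp_repByAlgSpWith_of_smooth Y hY1
  refine quasiSober_of_isOpenMap_surjective (Points.ofChart Y) (continuous_ofChart hat Y)
    (isOpenMap_ofChart Y hfl.1 hfl.2) (surjective_ofChart Y hY2) (fun t => ?_)
  obtain ⟨_, ⟨A, hA, rfl⟩, htA, -⟩ :=
    V.left.isBasis_affineOpens.exists_subset_of_mem_open (Set.mem_univ t) isOpen_univ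
  haveI : IsNoetherianRing Γ(V.left, A) := IsLocallyNoetherian.component_noetherian ⟨A, hA⟩
  exact ⟨A, A.2, htA, noetherianSpace_of_isAffineOpen A hA⟩

end Groth.Agent.Lib.AlgStPtsNoeth
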