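import Groth.Agent.Lib.AlgStPtsMain
import Groth.Agent.Lib.AlgStQC
import Groth.Agent.Lib.AlgStAtlas2
import Groth.Agent.Lib.H86AlgSpPoints

/-!
# Quasi-compact algebraic stacks and their points (helper36)

ns `Groth.Agent.Lib.AlgStPtsQC`

* `repByAlgSpWith_overMap`, `ofChart_overMap_comp`
* `isQuasiCompact_iff_compactSpace` (= S12847)
* `isQuasiCompact_of_isSurjective` (= S12858)
-/

set_option autoImplicit false
set_option linter.style.haveILetI false
set_option backward.isDefEq.respectTransparency false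
set_option backward.isDefEq.respectTransparency.types false

namespace Groth.Agent.Lib.AlgStPtsQC

open CategoryTheory CategoryTheory.Limits AlgebraicGeometry Opposite AlgSt
  Groth.Agent.Lib.H78AlgStPoints Groth.Agent.Lib.H78AlgStPointsFp Groth.Agent.Lib.AlgStPts
  Groth.Agent.Lib.AlgStPtsTop Groth.Agent.Lib.AlgStPtsSurj Groth.Agent.Lib.AlgStPtsMain
  Groth.Agent.Lib.FibGrpd Groth.Agent.Lib.AlgStFp Groth.Agent.Lib.AlgStEquiv
  Groth.Agent.Lib.AlgStSpTest Groth.Agent.Lib.AlgStAtlas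

universe u

variable {S : Scheme.{u}} {𝒳 𝒴 : AlgSt.Cat S}

theorem overMap_eq {W V : Over S} (h : W ⟶ V) : AlgSt.overMap h =
    BasedFunctor.comp (ofOverCat W)
      (BasedFunctor.comp (ofSpMap ((AlgSp.yon S).map h)) (toOverCat V)) := rfl

/-- The functor of a morphism of schemes with `P` is representable with `P`. -/
theorem repByAlgSpWith_overMap (P : MorphismProperty (AlgSp.Sp S))
    (hPb : ∀ ⦃X₁ Y₁ X₂ Y₂ : AlgSp.Sp S⦄, AlgSp.IsAlgSpace X₁ → AlgSp.IsAlgSpace Y₁ →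
      AlgSp.IsAlgSpace X₂ → AlgSp.IsAlgSpace Y₂ → ∀ (a : X₁ ⟶ Y₁) (b : Y₂ ⟶ Y₁) (a' : X₂ ⟶ Y₂)
      (b' : X₂ ⟶ X₁), IsPullback b' a' a b → P a → P a')
    {W V : Over S} (h : W ⟶ V) (hh : P ((AlgSp.yon S).map h)) :
    RepByAlgSpWith P (AlgSt.overMap h) := by
  rw [overMap_eq]
  refine (repByAlgSpWith_equiv_comp_iff P (ofOverCat W) (ofOverCat_isEquivOver W) _).1 ?_
  refine (repByAlgSpWith_comp_equiv_iff P _ (toOverCat V) (toOverCat_isEquivOver V)).2 ?_
  exact repByAlgSpWith_ofSpMap P hPb (AlgSp.IsAlgSpace.yon_obj W) (AlgSp.IsAlgSpace.yon_obj V) _ hh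

theorem locP_yon_map_of {P : MorphismProperty Scheme.{u}}
    (hP : Groth.Agent.Lib.AlgSpLocP.EtLocalClass P) {U V : Over S} (h : U ⟶ V) (hh : P h.left) :
    AlgSp.LocP P ((AlgSp.yon S).map h) :=
  Groth.Agent.Lib.AlgSpLocP.locP_of_chart hP _ (𝟙 _) (𝟙 _) h (AlgSp.repWith_id _ U)
    (AlgSp.repWith_id _ U) (AlgSp.repWith_id _ V) (by simp) hh

theorem toOverCat_comp_overMap {W V : Over S} (h : W ⟶ V) :
    BasedFunctor.comp (toOverCat W) (AlgSt.overMap h) =
      BasedFunctor.comp (ofSpMap ((AlgSp.yon S).map h)) (toOverCat V) := rfl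

/-- Charts restricted along a morphism of schemes. -/
theorem ofChart_overMap_comp {W V : Over S} (h : W ⟶ V) (Y : FibCat.overCat V ⥤ᵇ 𝒳) (t : ↥W.left) :
    Points.ofChart (BasedFunctor.comp (AlgSt.overMap h) Y) t = Points.ofChart Y (h.left t) := by
  rw [ofChart_eq_ptsMap, ofChart_eq_ptsMap]
  have e : BasedFunctor.comp (toOverCat W) (BasedFunctor.comp (AlgSt.overMap h) Y) =
      BasedFunctor.comp (ofSpMap ((AlgSp.yon S).map h)) (BasedFunctor.comp (toOverCat V) Y) := rfl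
  rw [e, ptsMap_comp_ofSpMap]
  congr 1
  have h1 := Groth.Agent.Lib.H86AlgSpPoints.ofPt_yon_map h t
  rw [AlgSp.Points.ofPt_eq_map_ofScheme] at h1
  exact h1

theorem ofChart_eq_map {U : Over S} (x : FibCat.overCat U ⥤ᵇ 𝒳) (t : ↥U.left) :
    Points.ofChart x t = Points.map x (Points.ofChart (BasedFunctor.id (FibCat.overCat U)) t) :=
  rfl

theorem isSurjective_of_surjective_ofChart {U : Over S} (x : FibCat.overCat U ⥤ᵇ 𝒳)
    (h : Function.Surjective (Points.ofChart x)) : IsSurjective x := fun ξ => by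
  obtain ⟨t, rfl⟩ := h ξ
  exact ⟨_, (ofChart_eq_map x t).symm⟩

theorem repByAlgSp1_of_repByAlgSpWith {P : MorphismProperty (AlgSp.Sp S)} {𝒜 : AlgSt.Cat S}
    (f : 𝒜 ⥤ᵇ 𝒳) (hf : RepByAlgSpWith P f) : RepByAlgSp1 f := fun U y => by
  obtain ⟨F, e, he, -⟩ := hf U y
  exact ⟨F, e, he⟩

theorem compactSpace_of_isQuasiCompact [FibCat.IsFibGrpd 𝒳.p]
    (hat : HasAtlas (AlgSp.LocP @Smooth) 𝒳) (h : IsQuasiCompact 𝒳) :
    CompactSpace (Points 𝒳) := by
  obtain ⟨U, x, hU, hx, hxs⟩ := h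
  haveI : IsAffine U.left := hU
  refine ⟨?_⟩
  rw [← Set.image_univ_of_surjective (surjective_ofChart x hxs)]
  exact isCompact_univ.image (continuous_ofChart hat x)

theorem isQuasiCompact_of_compactSpace [FibCat.IsFibGrpd 𝒳.p]
    (hat : HasAtlas (AlgSp.LocP @Smooth) 𝒳) [CompactSpace (Points 𝒳)] : IsQuasiCompact 𝒳 := by
  obtain ⟨V, Y, hY1, hY2⟩ := id hat
  have hfl := flatLfp_repByAlgSpWith_of_smooth Y hY1
  have hopen := isOpenMap_ofChart Y hfl.1 hfl.2
  have hsurj := surjective_ofChart Y hY2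
  have hcov : Set.univ ⊆ ⋃ A : V.left.affineOpens, Points.ofChart Y '' (A.1 : Set ↥V.left) := by
    intro ξ _
    obtain ⟨t, rfl⟩ := hsurj ξ
    obtain ⟨_, ⟨A, hA, rfl⟩, htA, -⟩ :=
      V.left.isBasis_affineOpens.exists_subset_of_mem_open (Set.mem_univ t) isOpen_univ
    exact Set.mem_iUnion.2 ⟨⟨A, hA⟩, t, htA, rfl⟩
  obtain ⟨s, hs⟩ := isCompact_univ.elim_finite_subcover
    (fun A : V.left.affineOpens => Points.ofChart Y '' (A.1 : Set ↥V.left))
    (fun A => hopen _ A.1.2) hcov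
  let W : V.left.Opens := ⨆ A ∈ s, A.1
  have hWc : IsCompact (W : Set ↥V.left) := by
    have : (W : Set ↥V.left) = ⋃ A ∈ s, (A.1 : Set ↥V.left) := by
      simp [W]
    rw [this]
    exact s.isCompact_biUnion fun A _ => A.2.isCompact
  haveI : CompactSpace ↥(W : Set ↥V.left) := isCompact_iff_compactSpace.mp hWc
  let W' : Over S := Over.mk (W.ι ≫ V.hom)
  let h : W' ⟶ V := Over.homMk W.ι rfl
  haveI : CompactSpace ↥W'.left := ‹CompactSpace ↥(W : Set ↥V.left)›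
  have hx : RepByAlgSpWith (AlgSp.LocP @Smooth) (BasedFunctor.comp (AlgSt.overMap h) Y) :=
    repByAlgSpWith_comp _ Groth.Agent.Lib.AlgStAtlas.atlasClass_locP_smooth.isoInv
      Groth.Agent.Lib.AlgStAtlas.atlasClass_locP_smooth.atlasLocal
      Groth.Agent.Lib.AlgStAtlas.atlasClass_locP_smooth.comp (AlgSt.overMap h) Y
      (repByAlgSpWith_overMap _ Groth.Agent.Lib.AlgStAtlas.atlasClass_locP_smooth.baseChange h
        (locP_yon_map_of Groth.Agent.Lib.AlgSpLocP.etLocalClass_smooth h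
          (show Smooth W.ι from inferInstance))) hY1
  have hxsurj : Function.Surjective (Points.ofChart (BasedFunctor.comp (AlgSt.overMap h) Y)) := by
    intro ξ
    obtain ⟨A, hA, t, htA, rfl⟩ : ∃ A ∈ s, ξ ∈ Points.ofChart Y '' (A.1 : Set ↥V.left) := by
      simpa using hs (Set.mem_univ ξ)
    have htW : t ∈ W := by
      simp only [W, TopologicalSpace.Opens.mem_iSup]
      exact ⟨A, hA, htA⟩
    refine ⟨⟨t, htW⟩, ?_⟩
    rw [ofChart_overMap_comp]
    rfl
  have hxs : RepByAlgSpWith AlgSp.IsSurjectiveMor (BasedFunctor.comp (AlgSt.overMap h) Y) :=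
    repByAlgSpWith_isSurjectiveMor_of_isSurjective _ (repByAlgSp1_of_repByAlgSpWith _ hx)
      (isSurjective_of_surjective_ofChart _ hxsurj)
  exact Groth.Agent.Lib.AlgStQC.isQuasiCompact_of_smooth_surjective _ hx hxs
    (Groth.Agent.Lib.AlgStQC.isQuasiCompact_overCat W')

/-- = S12847 -/
theorem isQuasiCompact_iff_compactSpace [FibCat.IsFibGrpd 𝒳.p]
    (hat : HasAtlas (AlgSp.LocP @Smooth) 𝒳) :
    IsQuasiCompact 𝒳 ↔ CompactSpace (Points 𝒳) :=
  ⟨compactSpace_of_isQuasiCompact hat, fun _ => isQuasiCompact_of_compactSpace hat⟩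

/-- = S12858 -/
theorem isQuasiCompact_of_isSurjective {𝒰 : AlgSt.Cat S} [FibCat.IsFibGrpd 𝒰.p]
    [FibCat.IsFibGrpd 𝒳.p] (hatU : HasAtlas (AlgSp.LocP @Smooth) 𝒰)
    (hat : HasAtlas (AlgSp.LocP @Smooth) 𝒳) (f : 𝒰 ⥤ᵇ 𝒳) (hf : IsSurjective f)
    (h𝒰 : IsQuasiCompact 𝒰) : IsQuasiCompact 𝒳 := by
  haveI := compactSpace_of_isQuasiCompact hatU h𝒰
  haveI : CompactSpace (Points 𝒳) := by
    refine ⟨?_⟩
    rw [← Set.image_univ_of_surjective hf]
    exact isCompact_univ.image (continuous_points_map hat f)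
  exact isQuasiCompact_of_compactSpace hat

end Groth.Agent.Lib.AlgStPtsQC
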