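import Groth.Agent.Lib.AlgStPtsTop
import Groth.Agent.Lib.FibYoneda

/-!
# Surjectivity on points for representable morphisms of stacks (helper36)

ns `Groth.Agent.Lib.AlgStPtsSurj`

* `map_pbFunctor_eq` : the functor `Spec K ⟶ 𝒳` attached to a field-valued point sends every point
  of `Spec K` to that point.
* `isSurjective_of_repByAlgSpWith` : `RepByAlgSpWith IsSurjectiveMor f → IsSurjective f`.
* `repByAlgSpWith_isSurjectiveMor_of_isSurjective` : converse for `f` representable.
-/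

set_option autoImplicit false
set_option linter.style.haveILetI false
set_option backward.isDefEq.respectTransparency false
set_option backward.isDefEq.respectTransparency.types false

namespace Groth.Agent.Lib.AlgStPtsSurj

open CategoryTheory CategoryTheory.Limits AlgebraicGeometry Opposite AlgSt
  Groth.Agent.Lib.H78AlgStPoints Groth.Agent.Lib.H78AlgStPointsFp Groth.Agent.Lib.AlgStPts
  Groth.Agent.Lib.AlgStPtsTop Groth.Agent.Lib.FibGrpd Groth.Agent.Lib.FibYoneda
  Groth.Agent.Lib.AlgStFp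

universe u

variable {S : Scheme.{u}} {𝒳 𝒴 : AlgSt.Cat S}

/-- The functor `Spec K ⟶ 𝒳` of a field-valued point. -/
noncomputable def fptFunctor [FibCat.IsFibGrpd 𝒳.p] (p : FPt 𝒳) :
    FibCat.overCat (Over.mk p.str) ⥤ᵇ 𝒳 :=
  haveI : 𝒳.p.IsFibered := isFibered 𝒳.p
  pbFunctor (⟨p.obj, p.lies⟩ : 𝒳.p.Fiber (Over.mk p.str))

theorem map_fptFunctor [FibCat.IsFibGrpd 𝒳.p] (p : FPt 𝒳)
    (ζ : Points (FibCat.overCat (Over.mk p.str))) :
    Points.map (fptFunctor p) ζ = Points.mk p := by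
  haveI : 𝒳.p.IsFibered := isFibered 𝒳.p
  obtain ⟨q, rfl⟩ := Points.mk_surjective ζ
  exact Points.sound ⟨q.map (fptFunctor p), 𝟙 _,
    pbMap (⟨p.obj, p.lies⟩ : 𝒳.p.Fiber (Over.mk p.str)) q.obj, trivial⟩

/-- A functor representable by algebraic spaces and surjective is surjective on points. -/
theorem isSurjective_of_repByAlgSpWith [FibCat.IsFibGrpd 𝒳.p] {𝒜 : AlgSt.Cat S} (f : 𝒜 ⥤ᵇ 𝒳)
    (hf : RepByAlgSpWith AlgSp.IsSurjectiveMor f) : IsSurjective f := by
  intro ξ
  obtain ⟨p, rfl⟩ := Points.mk_surjective ξ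
  obtain ⟨F, e, he, hs⟩ := hf (Over.mk p.str) (fptFunctor p)
  obtain ⟨r, -⟩ := hs (AlgSp.Points.ofScheme (Over.mk p.str) (IsLocalRing.closedPoint p.K))
  refine ⟨Points.map (FibCat.fpSnd _ f) (Points.map e (spPts F.obj r)), ?_⟩
  rw [← map_comp, ← map_congr (FibCat.fpIso (fptFunctor p) f), map_comp, map_fptFunctor]

/-- Points of the slice category of a scheme. -/
theorem map_toOverCat_bijective (U : Over S) :
    Function.Bijective (Points.map (toOverCat U)) :=
  map_bijective_of_isEquivOver (toOverCat_isEquivOver U)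

/-- Conversely, a representable functor that is surjective on points is representable surjective. -/
theorem repByAlgSpWith_isSurjectiveMor_of_isSurjective [FibCat.IsFibGrpd 𝒳.p]
    [FibCat.IsFibGrpd 𝒴.p] (f : 𝒳 ⥤ᵇ 𝒴) (hf : RepByAlgSp1 f) (hs : IsSurjective f) :
    RepByAlgSpWith AlgSp.IsSurjectiveMor f := by
  intro U y
  obtain ⟨F, e, he⟩ := hf U y
  refine ⟨F, e, he, fun v => ?_⟩
  set Φ := BasedFunctor.comp e (FibCat.fpFst y f) with hΦ
  obtain ⟨γ⟩ := Groth.Agent.Lib.AlgStDiagDict.nonempty_iso_ofSpMap_toOverCat Φ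
  obtain ⟨ξ, hξ⟩ := hs (Points.map y (Points.map (toOverCat U) (spPts _ v)))
  obtain ⟨t, ht1, ht2⟩ := exists_points_fp (overCat_isFibGrpd U) inferInstance inferInstance y f
    (Points.map (toOverCat U) (spPts _ v)) ξ hξ.symm
  obtain ⟨t', rfl⟩ := (map_bijective_of_isEquivOver he).2 t
  obtain ⟨r, rfl⟩ := (spPts F.obj).surjective t'
  refine ⟨r, (spPts _).injective ((map_toOverCat_bijective U).1 ?_)⟩
  rw [← map_ofSpMap_spPts, ← map_comp, map_congr γ, hΦ, map_comp]
  exact ht1

end Groth.Agent.Lib.AlgStPtsSurj
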