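import Groth.Agent.Lib.AlgStPts
import Groth.Agent.Lib.AlgStCover
import Groth.Agent.Lib.AlgStRepStack
import Groth.Agent.Lib.AlgSpDescent
import Groth.Agent.Lib.AlgSpLocP2
import Groth.Agent.Lib.AlgStDiagRep
import Groth.Agent.Lib.H69AlgSpLocST

/-!
# The topology on the points of an algebraic stack (helper36)

ns `Groth.Agent.Lib.AlgStPtsTop`

* `isOpen_iff_ptsMap` : the topology of `|𝒳|` in terms of `ptsMap`.
* `exists_fpRep` : representing space of the fibre product of `z : Z ⟶ 𝒳`, `y : G ⟶ 𝒳` with `P` on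
  the projection to `Z`.
* `isOpenMap_ptsMap` : flat + lfp maps from algebraic spaces are open on points.
* `continuous_ptsMap` : every map from an algebraic space to an algebraic stack is continuous on
  points.
-/

set_option autoImplicit false
set_option linter.style.haveILetI false
set_option backward.isDefEq.respectTransparency false
set_option backward.isDefEq.respectTransparency.types false

namespace Groth.Agent.Lib.AlgStPtsTop

open CategoryTheory CategoryTheory.Limits AlgebraicGeometry Opposite AlgSt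
  Groth.Agent.Lib.H78AlgStPoints Groth.Agent.Lib.H78AlgStPointsFp Groth.Agent.Lib.AlgStPts
  Groth.Agent.Lib.AlgStSpTest Groth.Agent.Lib.AlgStCover Groth.Agent.Lib.AlgStEquiv
  Groth.Agent.Lib.AlgStFp

universe u

variable {S : Scheme.{u}} {𝒳 𝒴 : AlgSt.Cat S}

theorem isOpen_iff_ptsMap (W : Set (Points 𝒳)) :
    IsOpen W ↔ ∀ (V : Over S) (Y : FibCat.overCat V ⥤ᵇ 𝒳),
      RepByAlgSpWith (AlgSp.LocP @Smooth) Y →
        IsOpen (ptsMap (BasedFunctor.comp (toOverCat V) Y) ⁻¹' W) := by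
  rw [Points.isOpen_iff]
  refine forall_congr' fun V => forall_congr' fun Y => forall_congr' fun _ => ?_
  rw [← (AlgSp.Points.schemeHomeo V).isOpen_preimage]
  rfl

/-- Representing space for the fibre product of a map from an algebraic space `Z` with a map `y`
representable with `P`; the projection to `Z` has `P`. -/
theorem exists_fpRep [FibCat.IsFibGrpd 𝒳.p] (P : MorphismProperty (AlgSp.Sp S)) (hPi : IsoInv P)
    (hPl : AtlasLocal P) {G : AlgSp.Sp S} (y : ofSp G ⥤ᵇ 𝒳) (hy : RepByAlgSpWith P y)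
    (Z : AlgSp.Space S) (z : ofSp Z.obj ⥤ᵇ 𝒳) :
    ∃ (R : AlgSp.Space S) (D : FpRep z y R.obj), P D.a := by
  obtain ⟨V, a, e, he, ⟨γ⟩, hP⟩ := exists_rep_over_space P hPi hPl y hy Z z
  obtain ⟨b, ⟨ib⟩⟩ := exists_ofSpMap_iso (BasedFunctor.comp e (FibCat.fpSnd z y))
  exact ⟨V, ⟨e, he, a.hom, b, γ, ib⟩, hP⟩

/-- The combination "flat and locally of finite presentation". -/
abbrev FlatLfp : MorphismProperty (AlgSp.Sp S) :=
  fun _ _ a => AlgSp.LocP @Flat a ∧ AlgSp.LocP @LocallyOfFinitePresentation a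

theorem isoInv_flatLfp : IsoInv (FlatLfp (S := S)) :=
  isoInv_and (Groth.Agent.Lib.AlgStAtlas.isoInv_locP _) (Groth.Agent.Lib.AlgStAtlas.isoInv_locP _)

theorem atlasLocal_flatLfp : AtlasLocal (FlatLfp (S := S)) :=
  atlasLocal_and (Groth.Agent.Lib.AlgStAtlas.atlasLocal_locP _)
    (Groth.Agent.Lib.AlgStAtlas.atlasLocal_locP _)

theorem repByAlgSpWith_flatLfp {𝒜 : AlgSt.Cat S} (z : 𝒜 ⥤ᵇ 𝒳)
    (h₁ : RepByAlgSpWith (AlgSp.LocP @Flat) z)
    (h₂ : RepByAlgSpWith (AlgSp.LocP @LocallyOfFinitePresentation) z) :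
    RepByAlgSpWith FlatLfp z :=
  (repByAlgSpWith_and_iff _ _ (Groth.Agent.Lib.AlgStAtlas.isoInv_locP _) z).2 ⟨h₁, h₂⟩

theorem isOpenMap_of_flatLfp {X Y : AlgSp.Sp S} (hX : AlgSp.IsAlgSpace X) (hY : AlgSp.IsAlgSpace Y)
    {f : X ⟶ Y} (hf : FlatLfp f) : IsOpenMap (AlgSp.Points.map f) :=
  Groth.Agent.Lib.AlgSpDescent.isOpenMor_of_isUnivOpenMor hY
    (Groth.Agent.Lib.AlgSpDescent.isUnivOpenMor_of_locP_flat_lfp hX hY hf.1 hf.2)

/-- **Flat, locally finitely presented maps from algebraic spaces are open on points.** -/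
theorem isOpenMap_ptsMap [FibCat.IsFibGrpd 𝒳.p] (Z : AlgSp.Space S) (z : ofSp Z.obj ⥤ᵇ 𝒳)
    (h₁ : RepByAlgSpWith (AlgSp.LocP @Flat) z)
    (h₂ : RepByAlgSpWith (AlgSp.LocP @LocallyOfFinitePresentation) z) :
    IsOpenMap (ptsMap z) := by
  intro O hO
  rw [isOpen_iff_ptsMap]
  intro V Y _
  obtain ⟨R, D, hD⟩ := exists_fpRep FlatLfp isoInv_flatLfp atlasLocal_flatLfp z
    (repByAlgSpWith_flatLfp z h₁ h₂) ⟨_, AlgSp.IsAlgSpace.yon_obj V⟩
    (BasedFunctor.comp (toOverCat V) Y)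
  rw [D.preimage_image' inferInstance]
  exact isOpenMap_of_flatLfp R.property (AlgSp.IsAlgSpace.yon_obj V) hD _
    ((AlgSp.Points.continuous_map _).isOpen_preimage _ hO)

/-- The combination "smooth and surjective". -/
abbrev SmoothSurj : MorphismProperty (AlgSp.Sp S) :=
  fun _ _ a => AlgSp.LocP @Smooth a ∧ AlgSp.IsSurjectiveMor a

theorem isoInv_smoothSurj : IsoInv (SmoothSurj (S := S)) :=
  isoInv_and (Groth.Agent.Lib.AlgStAtlas.isoInv_locP _)
    Groth.Agent.Lib.AlgStAtlas.isoInv_isSurjectiveMor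

theorem atlasLocal_smoothSurj : AtlasLocal (SmoothSurj (S := S)) :=
  atlasLocal_and (Groth.Agent.Lib.AlgStAtlas.atlasLocal_locP _)
    Groth.Agent.Lib.AlgStAtlas.atlasLocal_isSurjectiveMor

theorem flatLfp_of_smooth {X Y : AlgSp.Sp S} {f : X ⟶ Y} (hf : AlgSp.LocP @Smooth f) :
    FlatLfp f :=
  ⟨fun _ _ a b k ha hb c => by
      have : Smooth k.left := hf a b k ha hb c
      infer_instance,
    fun _ _ a b k ha hb c => by
      have : Smooth k.left := hf a b k ha hb c
      infer_instance⟩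

/-- A continuous open surjection detects open sets. -/
theorem isOpen_of_preimage {A B : Type*} [TopologicalSpace A] [TopologicalSpace B] {φ : A → B}
    (hφo : IsOpenMap φ) (hφs : Function.Surjective φ) {W : Set B} (h : IsOpen (φ ⁻¹' W)) :
    IsOpen W := by
  rw [← Set.image_preimage_eq W hφs]
  exact hφo _ h

/-- **Maps from algebraic spaces to algebraic stacks are continuous on points.** -/
theorem continuous_ptsMap [FibCat.IsFibGrpd 𝒳.p] (hat : HasAtlas (AlgSp.LocP @Smooth) 𝒳)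
    (Z : AlgSp.Space S) (z : ofSp Z.obj ⥤ᵇ 𝒳) : Continuous (ptsMap z) := by
  obtain ⟨V, Y, hY1, hY2⟩ := hat
  have hy : RepByAlgSpWith SmoothSurj (BasedFunctor.comp (toOverCat V) Y) :=
    (repByAlgSpWith_equiv_comp_iff _ (toOverCat V) (toOverCat_isEquivOver V) Y).1
      ((repByAlgSpWith_and_iff _ _ Groth.Agent.Lib.AlgStAtlas.isoInv_isSurjectiveMor Y).2
        ⟨hY1, hY2⟩)
  obtain ⟨R, D, hD⟩ := exists_fpRep SmoothSurj isoInv_smoothSurj atlasLocal_smoothSurj _ hy Z z
  refine continuous_def.2 fun W hW => ?_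
  have h1 : IsOpen (ptsMap (BasedFunctor.comp (toOverCat V) Y) ⁻¹' W) :=
    (isOpen_iff_ptsMap W).1 hW V Y hY1
  have h2 : IsOpen (AlgSp.Points.map D.a ⁻¹' (ptsMap z ⁻¹' W)) := by
    rw [D.preimage_preimage]
    exact (AlgSp.Points.continuous_map _).isOpen_preimage _ h1
  exact isOpen_of_preimage
    (isOpenMap_of_flatLfp R.property Z.property (flatLfp_of_smooth hD.1)) hD.2 h2

/-! ### The points of the category of an algebraic space -/

section SpHomeo

variable (F : AlgSp.Space S)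

theorem repByAlgSpWith_locP_id {Q : MorphismProperty Scheme.{u}}
    (hQ : Groth.Agent.Lib.AlgSpLocP.EtLocalClass Q) [Q.DescendsAlong Groth.Agent.Lib.AlgSpBasic.etCov]
    (hQe : ∀ ⦃A B : Scheme.{u}⦄ (l : A ⟶ B), Etale l → Q l) :
    RepByAlgSpWith (AlgSp.LocP Q) (BasedFunctor.id (ofSp F.obj)) :=
  Groth.Agent.Lib.AlgStAtlas.repByAlgSpWith_ofSpMap _
    (Groth.Agent.Lib.AlgStDiagRep.baseChangeStable_locP hQ) F.property F.property (𝟙 F.obj)
    (Groth.Agent.Lib.H69AlgSpLocST.locP_id hQe F.property)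

theorem spPts_eq_ptsMap : ⇑(spPts F.obj) = ptsMap (BasedFunctor.id (ofSp F.obj)) := by
  funext x
  exact (map_id _).symm

theorem continuous_spPts : Continuous (spPts F.obj) := by
  rw [spPts_eq_ptsMap]
  exact continuous_ptsMap (Groth.Agent.Lib.AlgStRepStack.isDM_ofSp F).1.atlas F _

theorem isOpenMap_spPts : IsOpenMap (spPts F.obj) := by
  rw [spPts_eq_ptsMap]
  exact isOpenMap_ptsMap F _
    (repByAlgSpWith_locP_id F Groth.Agent.Lib.AlgSpLocP.etLocalClass_flat
      (fun _ _ l hl => by have := hl; infer_instance))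
    (repByAlgSpWith_locP_id F Groth.Agent.Lib.AlgSpLocP.etLocalClass_lfp
      (fun _ _ l hl => by have := hl; infer_instance))

/-- The points of an algebraic space and the points of its category are homeomorphic. -/
noncomputable def spPtsHomeo : AlgSp.Points F.obj ≃ₜ Points (ofSp F.obj) :=
  (spPts F.obj).toHomeomorphOfContinuousOpen (continuous_spPts F) (isOpenMap_spPts F)

@[simp] theorem spPtsHomeo_apply (x : AlgSp.Points F.obj) : spPtsHomeo F x = spPts F.obj x := rfl

theorem map_eq_ptsMap_symm (z : ofSp F.obj ⥤ᵇ 𝒳) :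
    Points.map z = ptsMap z ∘ (spPtsHomeo F).symm := by
  funext x
  obtain ⟨x, rfl⟩ := (spPtsHomeo F).surjective x
  rw [Function.comp_apply, Homeomorph.symm_apply_apply]
  rfl

end SpHomeo

end Groth.Agent.Lib.AlgStPtsTop
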