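import Groth.Agent.Lib.AlgStPtsQC2
import Groth.Agent.Lib.FpBaseChange

/-!
# Universally open / closed / injective / submersive / homeomorphic morphisms of stacks (helper36)

ns `Groth.Agent.Lib.AlgStPtsUniv`

* `TopLocal 𝒬` : a property of maps of topological spaces invariant under homeomorphisms and
  descending along open continuous surjections of the target.
* instances for `IsOpenMap`, `IsClosedMap`, `Function.Injective`, `IsHomeomorph`, `IsQuotientMap`.
* `repByAlgSpWith_univSp_iff` : for `f` representable by algebraic spaces between algebraic stacks,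
  `RepByAlgSpWith (UnivSp 𝒬) f ↔ ∀ 𝒵 g, 𝒬 |𝒵 ×_𝒴 𝒳 → 𝒵|` (= S12826–S12830).
-/

set_option autoImplicit false
set_option linter.style.haveILetI false
set_option backward.isDefEq.respectTransparency false
set_option backward.isDefEq.respectTransparency.types false

namespace Groth.Agent.Lib.AlgStPtsUniv

open CategoryTheory CategoryTheory.Limits AlgebraicGeometry Opposite AlgSt Topology
  Groth.Agent.Lib.H78AlgStPoints Groth.Agent.Lib.H78AlgStPointsFp Groth.Agent.Lib.AlgStPts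
  Groth.Agent.Lib.AlgStPtsTop Groth.Agent.Lib.AlgStPtsSurj Groth.Agent.Lib.AlgStPtsMain
  Groth.Agent.Lib.AlgStPtsQC Groth.Agent.Lib.AlgStPtsQC2
  Groth.Agent.Lib.FibGrpd Groth.Agent.Lib.AlgStFp Groth.Agent.Lib.AlgStEquiv
  Groth.Agent.Lib.FpEquiv Groth.Agent.Lib.EquivOver Groth.Agent.Lib.AlgStFpStack
  Groth.Agent.Lib.FpBaseChange

universe u

/-- Properties of maps of topological spaces that are invariant under homeomorphisms and descend
along open continuous surjections. -/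
structure TopLocal (𝒬 : ∀ {A B : Type (u + 1)} [TopologicalSpace A] [TopologicalSpace B],
    (A → B) → Prop) : Prop where
  homeo : ∀ {A B A' B' : Type (u + 1)} [TopologicalSpace A] [TopologicalSpace B]
    [TopologicalSpace A'] [TopologicalSpace B'] (α : A' ≃ₜ A) (β : B ≃ₜ B') (f : A → B),
    𝒬 f → 𝒬 (β ∘ f ∘ α)
  descend : ∀ {A B A' B' : Type (u + 1)} [TopologicalSpace A] [TopologicalSpace B]
    [TopologicalSpace A'] [TopologicalSpace B'] (f : A → B) (f' : A' → B') (a : A' → A)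
    (b : B' → B), Continuous f → Continuous a → Continuous b → IsOpenMap b →
    Function.Surjective b → (∀ x', f (a x') = b (f' x')) →
    (∀ x y', f x = b y' → ∃ x', a x' = x ∧ f' x' = y') → 𝒬 f' → 𝒬 f

section Instances

variable {A B A' B' : Type (u + 1)} [TopologicalSpace A] [TopologicalSpace B]
  [TopologicalSpace A'] [TopologicalSpace B'] {f : A → B} {f' : A' → B'} {a : A' → A}
  {b : B' → B}

theorem image_eq (hbs : Function.Surjective b) (hc : ∀ x', f (a x') = b (f' x'))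
    (hs : ∀ x y', f x = b y' → ∃ x', a x' = x ∧ f' x' = y') (O : Set A) :
    f '' O = b '' (f' '' (a ⁻¹' O)) := by
  ext y
  constructor
  · rintro ⟨x, hx, rfl⟩
    obtain ⟨y', hy'⟩ := hbs (f x)
    obtain ⟨x', rfl, rfl⟩ := hs x y' hy'.symm
    exact ⟨_, ⟨x', hx, rfl⟩, (hc x').symm⟩
  · rintro ⟨_, ⟨x', hx', rfl⟩, rfl⟩
    exact ⟨a x', hx', hc x'⟩

theorem preimage_image_eq (hc : ∀ x', f (a x') = b (f' x'))
    (hs : ∀ x y', f x = b y' → ∃ x', a x' = x ∧ f' x' = y') (C : Set A) :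
    b ⁻¹' (f '' C) = f' '' (a ⁻¹' C) := by
  ext y'
  constructor
  · rintro ⟨x, hx, hxy⟩
    obtain ⟨x', rfl, rfl⟩ := hs x y' hxy
    exact ⟨x', hx, rfl⟩
  · rintro ⟨x', hx', rfl⟩
    exact ⟨a x', hx', hc x'⟩

theorem injective_descend (hbs : Function.Surjective b)
    (hs : ∀ x y', f x = b y' → ∃ x', a x' = x ∧ f' x' = y') (h : Function.Injective f') :
    Function.Injective f := by
  intro x₁ x₂ h12
  obtain ⟨y', hy'⟩ := hbs (f x₁)
  obtain ⟨x₁', rfl, h1⟩ := hs x₁ y' hy'.symm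
  obtain ⟨x₂', rfl, h2⟩ := hs x₂ y' (h12 ▸ hy'.symm)
  rw [h (h1.trans h2.symm)]

theorem surjective_descend (hbs : Function.Surjective b) (hc : ∀ x', f (a x') = b (f' x'))
    (h : Function.Surjective f') : Function.Surjective f := by
  intro y
  obtain ⟨y', rfl⟩ := hbs y
  obtain ⟨x', rfl⟩ := h y'
  exact ⟨a x', hc x'⟩

theorem isOpenMap_descend (ha : Continuous a) (hbo : IsOpenMap b) (hbs : Function.Surjective b)
    (hc : ∀ x', f (a x') = b (f' x'))
    (hs : ∀ x y', f x = b y' → ∃ x', a x' = x ∧ f' x' = y') (h : IsOpenMap f') : IsOpenMap f := by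
  intro O hO
  rw [image_eq hbs hc hs]
  exact hbo _ (h _ (ha.isOpen_preimage O hO))

end Instances

theorem topLocal_isOpenMap : TopLocal.{u} (fun {_ _} [_] [_] f => IsOpenMap f) where
  homeo α β _ hf := β.isOpenMap.comp (hf.comp α.isOpenMap)
  descend _ _ _ _ _ ha _ hbo hbs hc hs h := isOpenMap_descend ha hbo hbs hc hs h

theorem topLocal_isClosedMap : TopLocal.{u} (fun {_ _} [_] [_] f => IsClosedMap f) where
  homeo α β _ hf := β.isClosedMap.comp (hf.comp α.isClosedMap)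
  descend f f' a b _ ha hb hbo hbs hc hs h := by
    intro C hC
    have hq : IsQuotientMap b := hbo.isQuotientMap hb hbs
    rw [← hq.isClosed_preimage, preimage_image_eq hc hs]
    exact h _ (hC.preimage ha)

theorem topLocal_injective : TopLocal.{u} (fun {_ _} [_] [_] f => Function.Injective f) where
  homeo α β _ hf := β.injective.comp (hf.comp α.injective)
  descend _ _ _ _ _ _ _ _ hbs _ hs h := injective_descend hbs hs h

theorem topLocal_isHomeomorph : TopLocal.{u} (fun {_ _} [_] [_] f => IsHomeomorph f) where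
  homeo α β _ hf := β.isHomeomorph.comp (hf.comp α.isHomeomorph)
  descend _ _ _ _ hf ha _ hbo hbs hc hs h :=
    ⟨hf, isOpenMap_descend ha hbo hbs hc hs h.isOpenMap,
      injective_descend hbs hs h.injective, surjective_descend hbs hc h.surjective⟩

theorem topLocal_isQuotientMap : TopLocal.{u} (fun {_ _} [_] [_] f => IsQuotientMap f) where
  homeo α β _ hf := β.isQuotientMap.comp (hf.comp α.isQuotientMap)
  descend f f' a b hf ha hb hbo hbs hc hs h := by
    have hq : IsQuotientMap b := hbo.isQuotientMap hb hbs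
    refine ⟨.of_isOpen_preimage_iff_isOpen fun s => ?_, surjective_descend hbs hc h.surjective⟩
    refine ⟨fun hs' => ?_, fun hs' => hf.isOpen_preimage s hs'⟩
    rw [← hq.isOpen_preimage, ← h.isOpen_preimage]
    have : f' ⁻¹' (b ⁻¹' s) = a ⁻¹' (f ⁻¹' s) := by
      ext x'
      simp only [Set.mem_preimage, hc x']
    rw [this]
    exact ha.isOpen_preimage _ hs'

variable {S : Scheme.{u}} {𝒳 𝒴 : AlgSt.Cat S}

/-- Equivalences of stacks with smooth atlases induce homeomorphisms on points. -/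
theorem isHomeomorph_map_of_isEquivOver {𝒜 ℬ : AlgSt.Cat S} [FibCat.IsFibGrpd 𝒜.p]
    [FibCat.IsFibGrpd ℬ.p] (hA : HasAtlas (AlgSp.LocP @Smooth) 𝒜)
    (hB : HasAtlas (AlgSp.LocP @Smooth) ℬ) (E : 𝒜 ⥤ᵇ ℬ) (hE : FibCat.IsEquivOver E) :
    IsHomeomorph (Points.map E) := by
  have hbij := map_bijective_of_isEquivOver hE
  obtain ⟨E', ⟨e₁⟩, ⟨e₂⟩⟩ := hE
  refine ⟨continuous_points_map hB E, ?_, hbij⟩
  intro O hO
  have : Points.map E '' O = Points.map E' ⁻¹' O := by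
    ext y
    constructor
    · rintro ⟨x, hx, rfl⟩
      show Points.map E' (Points.map E x) ∈ O
      rwa [← map_comp, map_congr e₁, map_id]
    · intro hy
      exact ⟨Points.map E' y, hy, by rw [← map_comp, map_congr e₂, map_id]⟩
  rw [this]
  exact (continuous_points_map hA E').isOpen_preimage O hO

/-- A functor from the category of a sheaf to a slice, on points. -/
theorem map_eq_toOverCat_spMapOfOver {F : AlgSp.Sp S} {V : Over S}
    (Φ : ofSp F ⥤ᵇ FibCat.overCat V) (r : AlgSp.Points F) :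
    Points.map Φ (spPts F r) =
      Points.map (toOverCat V) (spPts _ (AlgSp.Points.map (spMapOfOver Φ) r)) := by
  obtain ⟨γ⟩ := Groth.Agent.Lib.AlgStDiagDict.nonempty_iso_ofSpMap_toOverCat Φ
  rw [← map_ofSpMap_spPts, ← map_comp, map_congr γ]

theorem surjective_ptsMap_of_isSurjective {F : AlgSp.Sp S} (z : ofSp F ⥤ᵇ 𝒳)
    (hz : IsSurjective z) : Function.Surjective (ptsMap z) := by
  intro ξ
  obtain ⟨ζ, rfl⟩ := hz ξ
  obtain ⟨v, rfl⟩ := (spPts _).surjective ζ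
  exact ⟨v, rfl⟩

variable {𝒬 : ∀ {A B : Type (u + 1)} [TopologicalSpace A] [TopologicalSpace B], (A → B) → Prop}

/-- (⇒) -/
theorem univ_of_repByAlgSpWith (h𝒬 : TopLocal.{u} @𝒬)
    (h𝒳 : IsAlgStack Scheme.fppfPrecoverage 𝒳) (h𝒴 : IsAlgStack Scheme.fppfPrecoverage 𝒴)
    (f : 𝒳 ⥤ᵇ 𝒴)
    (h : RepByAlgSpWith (AlgSp.UnivSp (fun _ _ a => 𝒬 (AlgSp.Points.map a))) f)
    (𝒵 : AlgSt.Cat S) (h𝒵 : IsAlgStack Scheme.fppfPrecoverage 𝒵) (g : 𝒵 ⥤ᵇ 𝒴) :
    𝒬 (Points.map (FibCat.fpFst g f)) := by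
  haveI := h𝒳.isStack.1
  haveI := h𝒴.isStack.1
  haveI := h𝒵.isStack.1
  obtain ⟨V, v, hv1, hv2⟩ := h𝒵.atlas
  obtain ⟨F, e, he, ha⟩ := h V (BasedFunctor.comp v g)
  have hfp : IsAlgStack Scheme.fppfPrecoverage (FibCat.fp g f) :=
    isAlgStack_fp_of _ h𝒴.isStack h𝒴.diag h𝒵 h𝒳 g f
  haveI := hfp.isStack.1
  have hQ : 𝒬 (AlgSp.Points.map
      (spMapOfOver (BasedFunctor.comp e (FibCat.fpFst (BasedFunctor.comp v g) f)))) :=
    ha (AlgSp.IsAlgSpace.yon_obj V) (𝟙 _) (𝟙 _) _ (IsPullback.of_horiz_isIso ⟨by simp⟩)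
  have hvfl := flatLfp_repByAlgSpWith_of_smooth v hv1
  have hb1 := (repByAlgSpWith_equiv_comp_iff _ (toOverCat V) (toOverCat_isEquivOver V) v).1 hvfl.1
  have hb2 := (repByAlgSpWith_equiv_comp_iff _ (toOverCat V) (toOverCat_isEquivOver V) v).1 hvfl.2
  have hb3 := (repByAlgSpWith_equiv_comp_iff _ (toOverCat V) (toOverCat_isEquivOver V) v).1 hv2
  refine h𝒬.descend (Points.map (FibCat.fpFst g f)) _
    (ptsMap (BasedFunctor.comp e (fpMapLeft v g f)))
    (ptsMap (BasedFunctor.comp (toOverCat V) v))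
    (continuous_points_map h𝒵.atlas _) (continuous_ptsMap hfp.atlas F _)
    (continuous_ptsMap h𝒵.atlas ⟨_, AlgSp.IsAlgSpace.yon_obj V⟩ _)
    (isOpenMap_ptsMap ⟨_, AlgSp.IsAlgSpace.yon_obj V⟩ _ hb1 hb2)
    (surjective_ptsMap_of_isSurjective _ (isSurjective_of_repByAlgSpWith _ hb3)) ?_ ?_ hQ
  · intro r
    have key : BasedFunctor.comp (BasedFunctor.comp e (fpMapLeft v g f)) (FibCat.fpFst g f) =
        BasedFunctor.comp (BasedFunctor.comp e (FibCat.fpFst (BasedFunctor.comp v g) f)) v := rfl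
    show Points.map (FibCat.fpFst g f)
        (Points.map (BasedFunctor.comp e (fpMapLeft v g f)) (spPts _ r)) =
      Points.map (BasedFunctor.comp (toOverCat V) v) (spPts _ _)
    rw [← map_comp, key, map_comp, map_eq_toOverCat_spMapOfOver, ← map_comp]
  · intro ξ v₀ hξ
    have hξ' : Points.map (FibCat.fpFst g f) ξ =
        Points.map v (Points.map (toOverCat V) (spPts _ v₀)) := by
      rw [hξ]
      exact map_comp _ _ _
    obtain ⟨t, ht1, ht2⟩ := exists_points_fp (overCat_isFibGrpd V) inferInstance inferInstance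
      v (FibCat.fpFst g f) _ ξ hξ'.symm
    obtain ⟨t', ht'⟩ := (map_bijective_of_isEquivOver he).2 (Points.map (fpPasteLeft v g f) t)
    obtain ⟨r, rfl⟩ := (spPts F.obj).surjective t'
    refine ⟨r, ?_, (spPts _).injective ((map_toOverCat_bijective V).1 ?_)⟩
    · show Points.map (BasedFunctor.comp e (fpMapLeft v g f)) (spPts _ r) = ξ
      rw [map_comp, ht', ← map_comp, ← map_congr (fpMapLeftIso v g f), ht2]
    · rw [← map_eq_toOverCat_spMapOfOver, map_comp, ht', ← points_map_fpFst_paste, ht1]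

/-- (⇐) -/
theorem repByAlgSpWith_of_univ (h𝒬 : TopLocal.{u} @𝒬)
    (h𝒳 : IsAlgStack Scheme.fppfPrecoverage 𝒳) (h𝒴 : IsAlgStack Scheme.fppfPrecoverage 𝒴)
    (f : 𝒳 ⥤ᵇ 𝒴) (hf : RepByAlgSp1 f)
    (H : ∀ (𝒵 : AlgSt.Cat S), IsAlgStack Scheme.fppfPrecoverage 𝒵 → ∀ (g : 𝒵 ⥤ᵇ 𝒴),
      𝒬 (Points.map (FibCat.fpFst g f))) :
    RepByAlgSpWith (AlgSp.UnivSp (fun _ _ a => 𝒬 (AlgSp.Points.map a))) f := by
  haveI := h𝒳.isStack.1
  haveI := h𝒴.isStack.1
  refine Groth.Agent.Lib.AlgStSpTest.repByAlgSpWith_of_forall_space _ f (fun Z z => ?_)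
  obtain ⟨V, a, e, he, ⟨γ⟩, -⟩ := Groth.Agent.Lib.AlgStSpTest.exists_rep_over_space ⊤
    Groth.Agent.Lib.AlgStCancel.isoInv_top Groth.Agent.Lib.AlgStQC.atlasLocal_top f
    ((repByAlgSp1_iff_top f).1 hf) Z z
  refine ⟨V, a, e, he, ⟨γ⟩, ?_⟩
  intro T T' hT g fst snd sq
  have hT' : AlgSp.IsAlgSpace T' :=
    Groth.Agent.Lib.AlgSpFibre.isAlgSpace_of_isPullback Z.property.diag V.property hT sq
  obtain ⟨E, hE, ⟨δ⟩⟩ := Groth.Agent.Lib.AlgStQC.equivOver_fp_of_isPullback f z e he a.hom γ g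
    sq.flip
  have hTst : IsAlgStack Scheme.fppfPrecoverage (ofSp T) :=
    (Groth.Agent.Lib.AlgStRepStack.isDM_ofSp ⟨T, hT⟩).1
  have hT'st : IsAlgStack Scheme.fppfPrecoverage (ofSp T') :=
    (Groth.Agent.Lib.AlgStRepStack.isDM_ofSp ⟨T', hT'⟩).1
  have hfp : IsAlgStack Scheme.fppfPrecoverage
      (FibCat.fp (BasedFunctor.comp (ofSpMap g) z) f) :=
    isAlgStack_fp_of _ h𝒴.isStack h𝒴.diag hTst h𝒳 _ f
  haveI := hfp.isStack.1
  have hQ := H (ofSp T) hTst (BasedFunctor.comp (ofSpMap g) z)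
  let α : AlgSp.Points T' ≃ₜ Points (FibCat.fp (BasedFunctor.comp (ofSpMap g) z) f) :=
    (spPtsHomeo ⟨T', hT'⟩).trans
      (isHomeomorph_map_of_isEquivOver hT'st.atlas hfp.atlas E hE).homeomorph
  let β : Points (ofSp T) ≃ₜ AlgSp.Points T := (spPtsHomeo ⟨T, hT⟩).symm
  have h1 := h𝒬.homeo α β _ hQ
  have h2 : AlgSp.Points.map snd =
      β ∘ Points.map (FibCat.fpFst (BasedFunctor.comp (ofSpMap g) z) f) ∘ α := by
    funext r
    apply (spPtsHomeo ⟨T, hT⟩).injective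
    show spPts T (AlgSp.Points.map snd r) = (spPtsHomeo ⟨T, hT⟩) ((spPtsHomeo ⟨T, hT⟩).symm
      (Points.map (FibCat.fpFst (BasedFunctor.comp (ofSpMap g) z) f)
        (Points.map E (spPts T' r))))
    rw [Homeomorph.apply_symm_apply, ← map_ofSpMap_spPts, ← map_congr δ, map_comp]
  rw [h2]
  exact h1

/-- **Universal properties on points** (= S12826–S12830). -/
theorem repByAlgSpWith_univSp_iff (h𝒬 : TopLocal.{u} @𝒬)
    (h𝒳 : IsAlgStack Scheme.fppfPrecoverage 𝒳) (h𝒴 : IsAlgStack Scheme.fppfPrecoverage 𝒴)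
    (f : 𝒳 ⥤ᵇ 𝒴) (hf : RepByAlgSp1 f) :
    RepByAlgSpWith (AlgSp.UnivSp (fun _ _ a => 𝒬 (AlgSp.Points.map a))) f ↔
      ∀ (𝒵 : AlgSt.Cat S), IsAlgStack Scheme.fppfPrecoverage 𝒵 → ∀ (g : 𝒵 ⥤ᵇ 𝒴),
        𝒬 (Points.map (FibCat.fpFst g f)) :=
  ⟨univ_of_repByAlgSpWith h𝒬 h𝒳 h𝒴 f, repByAlgSpWith_of_univ h𝒬 h𝒳 h𝒴 f hf⟩

end Groth.Agent.Lib.AlgStPtsUniv
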