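import Groth.Agent.Lib.AlgStLargest4
import Groth.Agent.Lib.AlgStLocQPts
import Groth.Agent.Lib.AlgStLocQ5
import Groth.Agent.Lib.AlgStLocQ9
import Groth.Agent.Lib.AlgStOpenSub2
import Groth.Agent.Lib.AlgSpSmoothLocalSm

/-!
# The smooth locus of a morphism of algebraic stacks (helper36)

ns `Groth.Agent.Lib.AlgStSmoothLocus`

* `exists_largest_open_source` : largest open of the source on which a Zariski-source-local property
  holds (schemes).
* `openSubstack_image_chart` : the image of a smooth chart `(Sch/W) ⟶ 𝒳` is an open substack onto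
  which the chart is smooth and surjective.
* `overMapCompIso`, `resX`, `resα`, `resX_smooth`, `resLift_smooth` : restriction of a chart square
  to an open of the chart.
-/

set_option autoImplicit false
set_option linter.style.haveILetI false
set_option backward.isDefEq.respectTransparency false
set_option backward.isDefEq.respectTransparency.types false

namespace Groth.Agent.Lib.AlgStSmoothLocus

open CategoryTheory CategoryTheory.Limits AlgebraicGeometry Opposite AlgSt
  Groth.Agent.Lib.H78AlgStPoints Groth.Agent.Lib.H78AlgStPointsFp Groth.Agent.Lib.AlgStPts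
  Groth.Agent.Lib.AlgStPtsTop Groth.Agent.Lib.AlgStPtsSurj Groth.Agent.Lib.AlgStPtsMain
  Groth.Agent.Lib.FibGrpd Groth.Agent.Lib.AlgStFp Groth.Agent.Lib.AlgStEquiv
  Groth.Agent.Lib.FpEquiv Groth.Agent.Lib.FibYoneda Groth.Agent.Lib.AlgStOpenSub
  Groth.Agent.Lib.AlgStSubImage Groth.Agent.Lib.AlgStPtsQC Groth.Agent.Lib.AlgStPtsQC2
  Groth.Agent.Lib.PshFp Groth.Agent.Lib.AlgStLocQ Groth.Agent.Lib.AlgStAtlas
  Groth.Agent.Lib.FpBaseChange

universe u

/-! ### Schemes -/

/-- The largest open of the source on which a Zariski-source-local property holds. -/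
theorem exists_largest_open_source (P : MorphismProperty Scheme.{u}) [IsZariskiLocalAtSource P]
    {X Y : Scheme.{u}} (h : X ⟶ Y) :
    ∃ W : X.Opens, P (W.ι ≫ h) ∧ ∀ W' : X.Opens, P (W'.ι ≫ h) → W' ≤ W := by
  let 𝒮 : Set X.Opens := {W' | P (W'.ι ≫ h)}
  refine ⟨sSup 𝒮, ?_, fun W' hW' => le_sSup hW'⟩
  refine IsZariskiLocalAtSource.of_iSup_eq_top (P := P)
    (fun W' : 𝒮 => (sSup 𝒮).ι ⁻¹ᵁ W'.1) ?_ ?_
  · rw [eq_top_iff]
    rintro ⟨x, hx⟩ -
    obtain ⟨W', hW', hxW'⟩ := TopologicalSpace.Opens.mem_sSup.1 hx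
    exact TopologicalSpace.Opens.mem_iSup.2 ⟨⟨W', hW'⟩, hxW'⟩
  · rintro ⟨W', hW'⟩
    set W := sSup 𝒮
    let j := (W.ι ⁻¹ᵁ W').ι ≫ W.ι
    have hr : Set.range j ⊆ Set.range W'.ι := by
      rintro _ ⟨⟨t, ht⟩, rfl⟩
      rw [Scheme.Opens.range_ι]
      exact ht
    let k := IsOpenImmersion.lift W'.ι j hr
    have hk : k ≫ W'.ι = j := IsOpenImmersion.lift_fac _ _ _
    haveI : IsOpenImmersion (k ≫ W'.ι) := by rw [hk]; infer_instance
    haveI : IsOpenImmersion k := IsOpenImmersion.of_comp k W'.ι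
    show P ((W.ι ⁻¹ᵁ W').ι ≫ W.ι ≫ h)
    rw [← Category.assoc]
    show P (j ≫ h)
    rw [← hk, Category.assoc]
    exact IsZariskiLocalAtSource.comp hW' k

variable {S : Scheme.{u}} {𝒳 𝒴 : AlgSt.Cat S}

/-! ### Images of charts -/

theorem range_map_eq_range_ofChart {W : Over S} (w : FibCat.overCat W ⥤ᵇ 𝒳) :
    Set.range (Points.map w) = Set.range (Points.ofChart w) := by
  have h : Points.ofChart w =
      Points.map w ∘ Points.ofChart (BasedFunctor.id (FibCat.overCat W)) := rfl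
  rw [h, (Groth.Agent.Lib.AlgStLocQ.ofChart_id_surjective W).range_comp]

/-- **The image of a smooth chart is an open substack**, onto which the chart is smooth and
surjective. -/
theorem openSubstack_image_chart (h𝒳 : IsAlgStack Scheme.fppfPrecoverage 𝒳) {W : Over S}
    (w : FibCat.overCat W ⥤ᵇ 𝒳) (hw : RepByAlgSpWith (AlgSp.LocP @Smooth) w) :
    haveI := h𝒳.isStack.1
    haveI : FibCat.IsFibGrpd (FibCat.overCat W).p := overCat_isFibGrpd W
    IsOpenSubstack 𝒳 (ptsIn (Set.range (Points.map w))) Scheme.fppfPrecoverage ∧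
      RepByAlgSpWith (AlgSp.LocP @Smooth)
        (liftSub (ptsIn (Set.range (Points.map w))) w (ptsIn_range_map_obj w)) ∧
      RepByAlgSpWith AlgSp.IsSurjectiveMor
        (liftSub (ptsIn (Set.range (Points.map w))) w (ptsIn_range_map_obj w)) := by
  haveI := h𝒳.isStack.1
  haveI : FibCat.IsFibGrpd (FibCat.overCat W).p := overCat_isFibGrpd W
  have hfl := flatLfp_repByAlgSpWith_of_smooth w hw
  have hT : IsOpen (Set.range (Points.map w)) := by
    rw [range_map_eq_range_ofChart]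
    exact (isOpenMap_ofChart w hfl.1 hfl.2).isOpen_range
  have hQ := isOpenSubstack_ptsIn h𝒳 hT
  haveI := hQ.2.1.isStack.1
  set g : FibCat.overCat W ⥤ᵇ fullSub 𝒳 (ptsIn (Set.range (Points.map w))) :=
    liftSub _ w (ptsIn_range_map_obj w) with hg
  have hsm : RepByAlgSpWith (AlgSp.LocP @Smooth) g :=
    repByAlgSpWith_of_comp_ff _ g (subIncl 𝒳 _) hw
  refine ⟨hQ, hsm, ?_⟩
  refine repByAlgSpWith_isSurjectiveMor_of_isSurjective g (repByAlgSp1_of_repByAlgSpWith _ hsm) ?_
  intro η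
  have h2 : Points.map (subIncl 𝒳 (ptsIn (Set.range (Points.map w)))) η ∈
      Set.range (Points.map w) :=
    (range_subIncl_ptsIn (Set.range (Points.map w))).le ⟨η, rfl⟩
  obtain ⟨ζ, hζ⟩ := h2
  refine ⟨ζ, Groth.Agent.Lib.AlgStPointsInj.points_map_injective_of_full inferInstance
    inferInstance (subIncl 𝒳 _) ?_⟩
  rw [← map_comp]
  exact hζ

/-! ### Restricting a chart square to an open of the chart -/

/-- `overMap` is compatible with composition. -/
def overMapCompIso {U V W : Over S} (a : U ⟶ V) (b : V ⟶ W) :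
    BasedFunctor.comp (AlgSt.overMap a) (AlgSt.overMap b) ≅ AlgSt.overMap (a ≫ b) :=
  BasedNatIso.mkNatIso (Over.mapComp a b).symm (fun t => by
    show (FibCat.overCat W).p.IsHomLift (𝟙 _) ((Over.mapComp a b).inv.app t)
    exact IsHomLift.of_fac _ _ _ rfl rfl (by simp; rfl))

theorem overMapCompIso_hom_app_left {U V W : Over S} (a : U ⟶ V) (b : V ⟶ W) (t : Over U) :
    ((appIso (overMapCompIso a b) t).hom : _ ⟶ _).left = 𝟙 _ := rfl

section Restrict

variable [FibCat.IsFibGrpd 𝒳.p] (f : 𝒳 ⥤ᵇ 𝒴) {U V : Over S}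
  (x : FibCat.overCat U ⥤ᵇ 𝒳) (y : FibCat.overCat V ⥤ᵇ 𝒴) (h : U ⟶ V)
  (α : BasedFunctor.comp x f ≅ BasedFunctor.comp (AlgSt.overMap h) y)
  {T : Set (Points 𝒳)} (W : U.left.Opens) (hW : (W : Set ↥U.left) = Points.ofChart x ⁻¹' T)

/-- The restricted chart `(Sch/W) ⟶ 𝒳_T`. -/
def resX : FibCat.overCat (openOver W) ⥤ᵇ fullSub 𝒳 (ptsIn T) :=
  liftSub (ptsIn T) (BasedFunctor.comp (AlgSt.overMap (openIncl W)) x)
    (ptsIn_overMap_openIncl x W hW)

theorem resX_comp_subIncl : BasedFunctor.comp (resX x W hW) (subIncl 𝒳 (ptsIn T)) =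
    BasedFunctor.comp (AlgSt.overMap (openIncl W)) x := rfl

/-- The restricted 2-isomorphism. -/
def resα : BasedFunctor.comp (resX x W hW) (BasedFunctor.comp (subIncl 𝒳 (ptsIn T)) f) ≅
    BasedFunctor.comp (AlgSt.overMap (openIncl W ≫ h)) y :=
  (whiskerLeftIso (AlgSt.overMap (openIncl W)) α :
      BasedFunctor.comp (AlgSt.overMap (openIncl W)) (BasedFunctor.comp x f) ≅
        BasedFunctor.comp (AlgSt.overMap (openIncl W)) (BasedFunctor.comp (AlgSt.overMap h) y)) ≪≫
    whiskerRightIso (overMapCompIso (openIncl W) h) y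

omit [FibCat.IsFibGrpd 𝒳.p] in
theorem overMap_smooth {U' V' : Over S} (k : U' ⟶ V') (hk : Smooth k.left) :
    RepByAlgSpWith (AlgSp.LocP @Smooth) (AlgSt.overMap k) :=
  repByAlgSpWith_overMap _
    (Groth.Agent.Lib.AlgStLocQ.baseChangeStable_locP Groth.Agent.Lib.AlgSpLocP.etLocalClass_smooth)
    k (locP_yon_map_of Groth.Agent.Lib.AlgSpLocP.etLocalClass_smooth k hk)

omit [FibCat.IsFibGrpd 𝒳.p] in
theorem resX_comp_smooth (hx : RepByAlgSpWith (AlgSp.LocP @Smooth) x) :
    RepByAlgSpWith (AlgSp.LocP @Smooth) (BasedFunctor.comp (AlgSt.overMap (openIncl W)) x) := by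
  haveI : FibCat.IsFibGrpd (FibCat.overCat (openOver W)).p := overCat_isFibGrpd _
  haveI : FibCat.IsFibGrpd (FibCat.overCat U).p := overCat_isFibGrpd _
  exact repByAlgSpWith_comp_atlasClass _ atlasClass_locP_smooth _ _
    (overMap_smooth (openIncl W) (inferInstanceAs (Smooth W.ι))) hx

include hW in
theorem resX_smooth (hx : RepByAlgSpWith (AlgSp.LocP @Smooth) x) :
    RepByAlgSpWith (AlgSp.LocP @Smooth) (resX x W hW) :=
  repByAlgSpWith_of_comp_ff _ (resX x W hW) (subIncl 𝒳 (ptsIn T)) (resX_comp_smooth x W hx)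

/-- Component of `resLiftIso`. -/
def resLiftObjIso (t : (FibCat.overCat (openOver W)).obj) :
    (BasedFunctor.comp (FibCat.fpLift (resX x W hW) (AlgSt.overMap (openIncl W ≫ h))
      (resα f x y h α W hW)) (fpMapLeft (subIncl 𝒳 (ptsIn T)) f y)).obj t ≅
    (BasedFunctor.comp (AlgSt.overMap (openIncl W)) (FibCat.fpLift x (AlgSt.overMap h) α)).obj t :=
  fpIsoMk (Iso.refl _) (appIso (overMapCompIso (openIncl W) h) t).symm (by
    have e1 : ((BasedFunctor.comp (FibCat.fpLift (resX x W hW) (AlgSt.overMap (openIncl W ≫ h))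
        (resα f x y h α W hW)) (fpMapLeft (subIncl 𝒳 (ptsIn T)) f y)).obj t).obj.iso.hom =
        (appIso α ((AlgSt.overMap (openIncl W)).obj t)).hom ≫
          y.map (appIso (overMapCompIso (openIncl W) h) t).hom := by
      refine (fpMapLeft_obj_iso_hom _ _ _ _).trans ?_
      rfl
    have e2 : ((BasedFunctor.comp (AlgSt.overMap (openIncl W))
        (FibCat.fpLift x (AlgSt.overMap h) α)).obj t).obj.iso.hom =
        (appIso α ((AlgSt.overMap (openIncl W)).obj t)).hom := rfl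
    rw [e1, e2]
    show f.map (𝟙 _) ≫ (appIso α ((AlgSt.overMap (openIncl W)).obj t)).hom =
      ((appIso α ((AlgSt.overMap (openIncl W)).obj t)).hom ≫
        y.map (appIso (overMapCompIso (openIncl W) h) t).hom) ≫
        y.map (appIso (overMapCompIso (openIncl W) h) t).inv
    rw [f.map_id, Category.id_comp, Category.assoc, ← y.map_comp, Iso.hom_inv_id, y.map_id]
    exact (Category.comp_id _).symm)

/-- The restricted comparison functor, followed by the inclusion of fibre products, is the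
comparison functor restricted to the open. -/
def resLiftIso :
    BasedFunctor.comp (FibCat.fpLift (resX x W hW) (AlgSt.overMap (openIncl W ≫ h))
      (resα f x y h α W hW)) (fpMapLeft (subIncl 𝒳 (ptsIn T)) f y) ≅
    BasedFunctor.comp (AlgSt.overMap (openIncl W)) (FibCat.fpLift x (AlgSt.overMap h) α) :=
  BasedNatIso.mkNatIso
    (NatIso.ofComponents (fun t => resLiftObjIso f x y h α W hW t) (fun {t t'} m => by
      refine fp_hom_ext ?_ ?_
      · show x.map ((AlgSt.overMap (openIncl W)).map m) ≫ 𝟙 _ =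
          𝟙 _ ≫ x.map ((AlgSt.overMap (openIncl W)).map m)
        rw [Category.comp_id, Category.id_comp]
      · exact appIso_inv_naturality (overMapCompIso (openIncl W) h) m))
    (fun t => by
      show (FibCat.fp f y).p.IsHomLift (𝟙 _) (resLiftObjIso f x y h α W hW t).hom
      rw [fp_isHomLift_iff]
      exact IsHomLift.id ((BasedFunctor.comp (AlgSt.overMap (openIncl W)) x).w_obj t))

omit [FibCat.IsFibGrpd 𝒳.p] in
theorem fpMapLeft_subIncl_full (Q : 𝒳.obj → Prop) :
    (fpMapLeft (subIncl 𝒳 Q) f y).toFunctor.Full := by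
  unfold fpMapLeft
  exact fpMap_full _ _ _ _ _

omit [FibCat.IsFibGrpd 𝒳.p] in
theorem fpMapLeft_subIncl_faithful (Q : 𝒳.obj → Prop) :
    (fpMapLeft (subIncl 𝒳 Q) f y).toFunctor.Faithful := by
  unfold fpMapLeft
  exact fpMap_faithful _ _ _ _ _

/-- The restricted chart square has smooth comparison functor. -/
theorem resLift_smooth
    (hL : RepByAlgSpWith (AlgSp.LocP @Smooth) (FibCat.fpLift x (AlgSt.overMap h) α)) :
    RepByAlgSpWith (AlgSp.LocP @Smooth)
      (FibCat.fpLift (resX x W hW) (AlgSt.overMap (openIncl W ≫ h)) (resα f x y h α W hW)) := by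
  haveI := fpMapLeft_subIncl_full f y (ptsIn T)
  haveI := fpMapLeft_subIncl_faithful f y (ptsIn T)
  haveI : FibCat.IsFibGrpd (FibCat.overCat (openOver W)).p := overCat_isFibGrpd _
  haveI : FibCat.IsFibGrpd (FibCat.overCat U).p := overCat_isFibGrpd _
  apply repByAlgSpWith_of_comp_ff _ _ (fpMapLeft (subIncl 𝒳 (ptsIn T)) f y)
  refine (Groth.Agent.Lib.AlgStDiag3.repByAlgSpWith_congr _ (resLiftIso f x y h α W hW)).1 ?_
  exact repByAlgSpWith_comp_atlasClass _ atlasClass_locP_smooth _ _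
    (overMap_smooth (openIncl W) (inferInstanceAs (Smooth W.ι))) hL

end Restrict

/-! ### The smooth locus -/

section Main

open Groth.Agent.Lib.AlgSpSmoothLocalSm Groth.Agent.Lib.AlgStLocQPts

/-- If `f` is smooth on the open substack of an open subset `T ⊆ |𝒳|`, then in a chart square with
smooth comparison functor the chart map `h` is smooth on the preimage of `T`. -/
theorem smooth_res_of_locQ [FibCat.IsFibGrpd 𝒳.p] [FibCat.IsFibGrpd 𝒴.p] (f : 𝒳 ⥤ᵇ 𝒴)
    {U V : Over S} (x : FibCat.overCat U ⥤ᵇ 𝒳) (y : FibCat.overCat V ⥤ᵇ 𝒴) (h : U ⟶ V)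
    (α : BasedFunctor.comp x f ≅ BasedFunctor.comp (AlgSt.overMap h) y)
    (hy : RepByAlgSpWith (AlgSp.LocP @Smooth) y)
    (hL : RepByAlgSpWith (AlgSp.LocP @Smooth) (FibCat.fpLift x (AlgSt.overMap h) α))
    {T : Set (Points 𝒳)} (W : U.left.Opens) (hW : (W : Set ↥U.left) = Points.ofChart x ⁻¹' T)
    (hf : AlgSt.LocQ (AlgSp.LocP @Smooth) (BasedFunctor.comp (subIncl 𝒳 (ptsIn T)) f)) :
    Smooth (W.ι ≫ h.left) := by
  haveI : FibCat.IsFibGrpd (fullSub 𝒳 (ptsIn T)).p := fullSub_isFibGrpd (pbStable_ptsIn T)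
  have h1 := prop_of_locQ_of_square isSmoothLocalST_locP_smooth
    (BasedFunctor.comp (subIncl 𝒳 (ptsIn T)) f) hf (resX x W hW) y (openIncl W ≫ h)
    (resα f x y h α W hW) hy (resLift_smooth f x y h α W hW hL)
  exact AlgSp.locP_yon_map h1

/-- **There is a largest open substack on which a morphism of algebraic stacks is smooth.** -/
theorem exists_largest_smooth (h𝒳 : IsAlgStack Scheme.fppfPrecoverage 𝒳)
    (h𝒴 : IsAlgStack Scheme.fppfPrecoverage 𝒴) (f : 𝒳 ⥤ᵇ 𝒴) :
    ∃ Q : 𝒳.obj → Prop, IsOpenSubstack 𝒳 Q Scheme.fppfPrecoverage ∧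
      AlgSt.LocQ (AlgSp.LocP @Smooth) (BasedFunctor.comp (subIncl 𝒳 Q) f) ∧
      ∀ Q' : 𝒳.obj → Prop, IsOpenSubstack 𝒳 Q' Scheme.fppfPrecoverage →
        AlgSt.LocQ (AlgSp.LocP @Smooth) (BasedFunctor.comp (subIncl 𝒳 Q') f) →
        ∀ a, Q' a → Q a := by
  haveI := h𝒳.isStack.1
  haveI := h𝒴.isStack.1
  obtain ⟨U, V, x, y, h, α, hx, hxs, hy, hys, hL⟩ := exists_canonical_square h𝒳 h𝒴 f
  obtain ⟨W, hWsm, hWmax⟩ := exists_largest_open_source @Smooth h.left
  haveI : FibCat.IsFibGrpd (FibCat.overCat (openOver W)).p := overCat_isFibGrpd _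
  set w := BasedFunctor.comp (AlgSt.overMap (openIncl W)) x with hw_def
  have hw : RepByAlgSpWith (AlgSp.LocP @Smooth) w := resX_comp_smooth x W hx
  obtain ⟨hQ, hg, hgs⟩ := openSubstack_image_chart h𝒳 w hw
  refine ⟨ptsIn (Set.range (Points.map w)), hQ, ?_, ?_⟩
  · refine ⟨openOver W, V, liftSub _ w (ptsIn_range_map_obj w), y, openIncl W ≫ h,
      (whiskerLeftIso (AlgSt.overMap (openIncl W)) α :
        BasedFunctor.comp (AlgSt.overMap (openIncl W)) (BasedFunctor.comp x f) ≅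
          BasedFunctor.comp (AlgSt.overMap (openIncl W))
            (BasedFunctor.comp (AlgSt.overMap h) y)) ≪≫
        whiskerRightIso (overMapCompIso (openIncl W) h) y, hg, hgs, hy, ?_⟩
    exact locP_yon_map_of Groth.Agent.Lib.AlgSpLocP.etLocalClass_smooth _ hWsm
  · intro Q' hQ' hQ'f a ha
    set T' := Set.range (Points.map (subIncl 𝒳 Q')) with hT'_def
    have hT' : IsOpen T' := isOpen_range_of_isOpenSubstack h𝒳 hQ'
    have hQ'pb : PbStable Q' := pbStable_of_isOpenSubstack hQ'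
    have hQ'eq : ptsIn T' = Q' := funext fun b => propext
      ⟨fun hb => of_ptsIn_range hQ'pb hQ'.2.2 hb, fun hb => ptsIn_range_of hQ'pb hb⟩
    have key : ∀ Q'' : 𝒳.obj → Prop, Q'' = Q' →
        AlgSt.LocQ (AlgSp.LocP @Smooth) (BasedFunctor.comp (subIncl 𝒳 Q'') f) := by
      rintro _ rfl; exact hQ'f
    let W' : U.left.Opens :=
      ⟨Points.ofChart x ⁻¹' T', (continuous_ofChart h𝒳.atlas x).isOpen_preimage _ hT'⟩
    have hsm : Smooth (W'.ι ≫ h.left) :=
      smooth_res_of_locQ f x y h α hy hL W' rfl (key _ hQ'eq)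
    have hle : W' ≤ W := hWmax W' hsm
    rintro p ⟨c⟩
    have hp : Q' p.obj := hQ'pb c ha
    have hpT : Points.mk p ∈ T' := mk_mem_range_subIncl hp
    obtain ⟨t, ht⟩ := surjective_ofChart x hxs (Points.mk p)
    have htW' : t ∈ W' := by
      show Points.ofChart x t ∈ T'
      rw [ht]; exact hpT
    have htW : t ∈ W := hle htW'
    rw [range_map_eq_range_ofChart]
    refine ⟨⟨t, htW⟩, ?_⟩
    rw [hw_def, ofChart_overMap_comp]
    exact ht

end Main

end Groth.Agent.Lib.AlgStSmoothLocus
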