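import Groth.Agent.Lib.AlgStQC2
import Groth.Agent.Lib.AlgStPtsQC2
import Groth.Agent.Lib.AlgStSmoothLocus
import Groth.Agent.Lib.AlgStEquivRep
import Groth.Agent.Lib.AlgStDiagRep2
import Groth.Agent.Lib.AlgStDiagQS
import Groth.Agent.Lib.AlgSpBasic

/-!
# Quasi-compact morphisms of algebraic stacks, tested on quasi-compact open substacks (helper36)

ns `Groth.Agent.Lib.AlgStQCOpen`

* `isMono_of_isOpenImm` : open immersions of stacks are monomorphisms.
* `isQuasiSeparatedOver_of_sep_qc` : separated + quasi-compact diagonal over `S` ⟹ quasi-separated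
  over `S`.
* `isQuasiSeparatedOver_of_isMono` : quasi-separatedness over `S` passes to monomorphisms.
* `exists_qc_open_substack_of_chart` : the image of a chart from an affine scheme lies in a
  quasi-compact open substack.
* `isQuasiCompactMor_of_forall_open` : a morphism to a quasi-separated stack is quasi-compact as soon
  as the preimages of quasi-compact open substacks are quasi-compact (= half of S15482).
-/

set_option autoImplicit false
set_option linter.style.haveILetI false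
set_option backward.isDefEq.respectTransparency false
set_option backward.isDefEq.respectTransparency.types false

namespace Groth.Agent.Lib.AlgStQCOpen

open CategoryTheory CategoryTheory.Limits AlgebraicGeometry Opposite AlgSt
  Groth.Agent.Lib.H78AlgStPoints Groth.Agent.Lib.H78AlgStPointsFp Groth.Agent.Lib.AlgStPts
  Groth.Agent.Lib.AlgStPtsTop Groth.Agent.Lib.AlgStPtsSurj Groth.Agent.Lib.AlgStPtsMain
  Groth.Agent.Lib.FibGrpd Groth.Agent.Lib.AlgStFp Groth.Agent.Lib.AlgStEquiv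
  Groth.Agent.Lib.FpEquiv Groth.Agent.Lib.AlgStOpenSub
  Groth.Agent.Lib.AlgStPtsQC Groth.Agent.Lib.AlgStPtsQC2
  Groth.Agent.Lib.AlgStSmoothLocus Groth.Agent.Lib.AlgStFpStack

universe u

variable {S : Scheme.{u}} {𝒳 𝒴 : AlgSt.Cat S}

/-- Open immersions are monomorphisms. -/
theorem isMono_of_isOpenImm (j : 𝒳 ⥤ᵇ 𝒴) (hj : IsOpenImm j) : AlgSt.IsMono j :=
  Groth.Agent.Lib.AlgStDiagDict2.repByAlgSpWith_mono j (fun _ _ _ α hα => by
    haveI : Mono α := Groth.Agent.Lib.AlgSpBasic.mono_of_repWith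
      (fun _ _ g (_ : IsOpenImmersion g) => (inferInstance : Mono g)) hα
    exact MorphismProperty.monomorphisms.infer_property α) hj

/-- A separated quasi-compact diagonal over the base is quasi-compact and quasi-separated. -/
theorem isQuasiSeparatedOver_of_sep_qc
    (h : RepByAlgSpWith (AlgSp.IsSeparatedMor ⊓ AlgSp.IsQuasiCompactMor)
      (FibCat.diag (FibCat.toSelf 𝒴))) : IsQuasiSeparatedOver 𝒴 :=
  Groth.Agent.Lib.AlgStDiagDict2.repByAlgSpWith_mono _ (fun _ _ _ α hα =>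
    ⟨hα.2, Groth.Agent.Lib.AlgSpBasic.repWith_mono
      (fun _ _ g (_ : IsClosedImmersion g) => (inferInstance : QuasiCompact g)) hα.1⟩) h

/-- Quasi-separatedness over the base passes to the source of a monomorphism. -/
theorem isQuasiSeparatedOver_of_isMono [FibCat.IsFibGrpd 𝒳.p] [FibCat.IsFibGrpd 𝒴.p]
    (j : 𝒳 ⥤ᵇ 𝒴) (hj : AlgSt.IsMono j) (hqs : IsQuasiSeparatedOver 𝒴) :
    IsQuasiSeparatedOver 𝒳 := by
  have hjqs : RepByAlgSpWith (Groth.Agent.Lib.AlgStDiagQS.qcqs (S := S)) (FibCat.diag j) :=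
    Groth.Agent.Lib.AlgStEquivRep.repByAlgSpWith_diag_of_isMono _
      (fun U => ⟨Groth.Agent.Lib.AlgSpBasic.isQuasiCompactMor_of_repWith le_rfl
          (Groth.Agent.Lib.AlgSpQC.repWith_id _ U),
        Groth.Agent.Lib.AlgStDiagRep2.isQuasiSeparatedMor_of_mono _⟩) j hj
  have h2 := Groth.Agent.Lib.AlgStDiagQS.repByAlgSpWith_qcqs_diag_comp j (FibCat.toSelf 𝒴)
    hjqs hqs
  exact (Groth.Agent.Lib.AlgStQC.repByAlgSpWith_diag_congr _
    (Groth.Agent.Lib.SelfProd.toSelfIso (FibCat.toSelf 𝒳)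
      (BasedFunctor.comp j (FibCat.toSelf 𝒴)))).1 h2

/-- The image of a chart from a quasi-compact scheme lies in a quasi-compact open substack. -/
theorem exists_qc_open_substack_of_chart (h𝒴 : IsAlgStack Scheme.fppfPrecoverage 𝒴) {U : Over S}
    [CompactSpace ↥U.left] (c : FibCat.overCat U ⥤ᵇ 𝒴) :
    ∃ Q : 𝒴.obj → Prop, IsOpenSubstack 𝒴 Q Scheme.fppfPrecoverage ∧
      IsQuasiCompact (fullSub 𝒴 Q) ∧ ∀ a, Q (c.obj a) := by
  haveI := h𝒴.isStack.1
  obtain ⟨V, v, hv, hvs⟩ := h𝒴.atlas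
  have hfl := flatLfp_repByAlgSpWith_of_smooth v hv
  have hopen : IsOpenMap (Points.ofChart v) := isOpenMap_ofChart v hfl.1 hfl.2
  have hsurj : Function.Surjective (Points.ofChart v) := surjective_ofChart v hvs
  have hK : IsCompact (Set.range (Points.ofChart c)) :=
    isCompact_range (continuous_ofChart h𝒴.atlas c)
  have hcov : Set.range (Points.ofChart c) ⊆
      ⋃ A : V.left.affineOpens, Points.ofChart v '' (A.1 : Set ↥V.left) := by
    intro ξ _
    obtain ⟨t, rfl⟩ := hsurj ξ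
    obtain ⟨_, ⟨A, hA, rfl⟩, htA, -⟩ :=
      V.left.isBasis_affineOpens.exists_subset_of_mem_open (Set.mem_univ t) isOpen_univ
    exact Set.mem_iUnion.2 ⟨⟨A, hA⟩, t, htA, rfl⟩
  obtain ⟨s, hs⟩ := hK.elim_finite_subcover
    (fun A : V.left.affineOpens => Points.ofChart v '' (A.1 : Set ↥V.left))
    (fun A => hopen _ A.1.2) hcov
  let W : V.left.Opens := ⨆ A ∈ s, A.1
  have hWc : IsCompact (W : Set ↥V.left) := by
    have : (W : Set ↥V.left) = ⋃ A ∈ s, (A.1 : Set ↥V.left) := by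
      simp [W]
    rw [this]
    exact s.isCompact_biUnion fun A _ => A.2.isCompact
  haveI : CompactSpace ↥(openOver W).left := isCompact_iff_compactSpace.mp hWc
  haveI : FibCat.IsFibGrpd (FibCat.overCat (openOver W)).p := overCat_isFibGrpd _
  haveI : FibCat.IsFibGrpd (FibCat.overCat U).p := overCat_isFibGrpd _
  set w : FibCat.overCat (openOver W) ⥤ᵇ 𝒴 :=
    BasedFunctor.comp (AlgSt.overMap (openIncl W)) v with hw
  have hwsm : RepByAlgSpWith (AlgSp.LocP @Smooth) w := resX_comp_smooth v W hv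
  obtain ⟨hQ, hsm, hsj⟩ := openSubstack_image_chart h𝒴 w hwsm
  refine ⟨_, hQ, ?_, ?_⟩
  · exact Groth.Agent.Lib.AlgStQC.isQuasiCompact_of_smooth_surjective _ hsm hsj
      (Groth.Agent.Lib.AlgStQC.isQuasiCompact_overCat (openOver W))
  · intro a
    refine ptsIn_obj_of_range_subset c a (fun t => ?_)
    obtain ⟨A, hA, t', htA, ht'⟩ : ∃ A ∈ s, Points.ofChart c (a.hom.left t) ∈
        Points.ofChart v '' (A.1 : Set ↥V.left) := by
      simpa using hs ⟨a.hom.left t, rfl⟩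
    have htW : t' ∈ W := by
      simp only [W, TopologicalSpace.Opens.mem_iSup]
      exact ⟨A, hA, htA⟩
    rw [range_map_eq_range_ofChart, ← ht']
    refine ⟨⟨t', htW⟩, ?_⟩
    rw [hw, ofChart_overMap_comp]
    rfl

/-- A morphism to a stack quasi-separated over a quasi-separated base is quasi-compact as soon as
the preimages of quasi-compact open substacks are quasi-compact. -/
theorem isQuasiCompactMor_of_forall_open [QuasiSeparatedSpace ↥S]
    (h𝒳 : IsAlgStack Scheme.fppfPrecoverage 𝒳) (h𝒴 : IsAlgStack Scheme.fppfPrecoverage 𝒴)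
    (hqs : IsQuasiSeparatedOver 𝒴) (f : 𝒳 ⥤ᵇ 𝒴)
    (H : ∀ (𝒴' : AlgSt.Cat S), IsAlgStack Scheme.fppfPrecoverage 𝒴' → IsQuasiCompact 𝒴' →
      ∀ (j : 𝒴' ⥤ᵇ 𝒴), IsOpenImm j → IsQuasiCompact (FibCat.fp j f)) :
    IsQuasiCompactMor Scheme.fppfPrecoverage f := by
  intro 𝒵 h𝒵 hqc g
  haveI := h𝒳.isStack.1
  haveI := h𝒴.isStack.1
  haveI := h𝒵.isStack.1
  obtain ⟨U, z, hU, hz, hzs⟩ := hqc
  haveI : IsAffine U.left := hU
  haveI : FibCat.IsFibGrpd (FibCat.overCat U).p := overCat_isFibGrpd _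
  obtain ⟨Q, hQ, hQqc, hmem⟩ := exists_qc_open_substack_of_chart h𝒴 (BasedFunctor.comp z g)
  haveI := hQ.2.1.isStack.1
  have hj : IsOpenImm (subIncl 𝒴 Q) := hQ.2.2
  have hqs' : IsQuasiSeparatedOver (fullSub 𝒴 Q) :=
    isQuasiSeparatedOver_of_isMono _ (isMono_of_isOpenImm _ hj) hqs
  have h𝒲 : IsAlgStack Scheme.fppfPrecoverage (FibCat.fp (subIncl 𝒴 Q) f) :=
    isAlgStack_fp_of _ h𝒴.isStack h𝒴.diag hQ.2.1 h𝒳 _ f
  have hqcmor : IsQuasiCompactMor Scheme.fppfPrecoverage (FibCat.fpFst (subIncl 𝒴 Q) f) :=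
    Groth.Agent.Lib.AlgStQC.isQuasiCompactMor_of_isQuasiCompact h𝒲 hQ.2.1 _
      (H _ hQ.2.1 hQqc _ hj) hqs'
  exact isQuasiCompact_fp_of_factor h𝒳 h𝒴 h𝒵 f (subIncl 𝒴 Q) g hqcmor U z
    (liftSub Q (BasedFunctor.comp z g) hmem) (Iso.refl _)
    (isSurjective_of_surjective_ofChart z (surjective_ofChart z hzs))

end Groth.Agent.Lib.AlgStQCOpen
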