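import Groth.Agent.Lib.AlgStSmoothLocus

/-!
# The smooth locus of a morphism of algebraic stacks II: smooth precomposition (helper36)

ns `Groth.Agent.Lib.AlgStSmoothLocus`
-/

set_option autoImplicit false
set_option linter.style.haveILetI false
set_option backward.isDefEq.respectTransparency false
set_option backward.isDefEq.respectTransparency.types false

namespace Groth.Agent.Lib.AlgStSmoothLocus

open CategoryTheory CategoryTheory.Limits AlgebraicGeometry Opposite AlgSt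
  Groth.Agent.Lib.H78AlgStPoints Groth.Agent.Lib.H78AlgStPointsFp Groth.Agent.Lib.AlgStPts
  Groth.Agent.Lib.AlgStPtsTop Groth.Agent.Lib.AlgStPtsSurj Groth.Agent.Lib.AlgStPtsMain
  Groth.Agent.Lib.FibGrpd Groth.Agent.Lib.AlgStFp Groth.Agent.Lib.AlgStEquiv
  Groth.Agent.Lib.FpEquiv Groth.Agent.Lib.FibYoneda Groth.Agent.Lib.AlgStOpenSub
  Groth.Agent.Lib.AlgStSubImage Groth.Agent.Lib.AlgStPtsQC Groth.Agent.Lib.AlgStPtsQC2
  Groth.Agent.Lib.PshFp Groth.Agent.Lib.AlgStLocQ Groth.Agent.Lib.AlgStAtlas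
  Groth.Agent.Lib.FpBaseChange

universe u

/-! ### Schemes -/

/-- If `k` is smooth and `k ≫ h` is smooth on the open `O'`, then `h` is smooth on the open image
`k(O')`. -/
theorem smooth_image_of_smooth_comp {X Y Z : Scheme.{u}} (k : X ⟶ Y) [Smooth k] (h : Y ⟶ Z)
    (O' : X.Opens) (hO' : Smooth (O'.ι ≫ k ≫ h)) :
    ∃ O : Y.Opens, (O : Set Y) = k '' (O' : Set X) ∧ Smooth (O.ι ≫ h) := by
  let O : Y.Opens := ⟨k '' (O' : Set X), k.isOpenMap _ O'.2⟩
  refine ⟨O, rfl, ?_⟩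
  have hr : Set.range (O'.ι ≫ k) ⊆ Set.range O.ι := by
    rintro _ ⟨t, rfl⟩
    rw [Scheme.Opens.range_ι]
    exact ⟨O'.ι t, t.2, (Scheme.Hom.comp_apply _ _ _).symm⟩
  let kO := IsOpenImmersion.lift O.ι (O'.ι ≫ k) hr
  have hfac : kO ≫ O.ι = O'.ι ≫ k := IsOpenImmersion.lift_fac _ _ _
  have hsm : Smooth kO :=
    MorphismProperty.of_postcomp (W := @Smooth) (W' := @IsOpenImmersion) kO O.ι inferInstance
      (by rw [hfac]; exact (inferInstance : Smooth (O'.ι ≫ k)))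
  have hsurj : Surjective kO := ⟨by
    rintro ⟨v, ⟨t, ht, rfl⟩⟩
    refine ⟨⟨t, ht⟩, ?_⟩
    apply O.ι.injective
    rw [← Scheme.Hom.comp_apply, hfac]
    rfl⟩
  refine Groth.Agent.Lib.SrcLocalSmoothSm.sourceSmLocal_smooth kO (O.ι ≫ h) hsm hsurj ?_
  show Smooth (kO ≫ O.ι ≫ h)
  rw [← Category.assoc, hfac, Category.assoc]
  exact hO'

/-- If `k` is smooth and `h` is smooth on the open `W`, then `k ≫ h` is smooth on `k⁻¹(W)`. -/
theorem smooth_preimage_comp {X Y Z : Scheme.{u}} (k : X ⟶ Y) [Smooth k] (h : Y ⟶ Z)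
    (W : Y.Opens) (hW : Smooth (W.ι ≫ h)) : Smooth ((k ⁻¹ᵁ W).ι ≫ k ≫ h) := by
  have h1 : (k ⁻¹ᵁ W).ι ≫ k = (k ∣_ W) ≫ W.ι := (morphismRestrict_ι k W).symm
  rw [← Category.assoc, h1, Category.assoc]
  haveI : Smooth (k ∣_ W) := IsZariskiLocalAtTarget.restrict ‹Smooth k› W
  infer_instance

variable {S : Scheme.{u}} {𝒳 𝒴 : AlgSt.Cat S}

/-! ### Field points of values of a functor -/

/-- A field point of `g(a)` is the image of a field point of `a`. -/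
theorem exists_fpt_lift {𝒜 : AlgSt.Cat S} [FibCat.IsFibGrpd 𝒜.p] [FibCat.IsFibGrpd 𝒳.p]
    (g : 𝒜 ⥤ᵇ 𝒳) (a : 𝒜.obj) (p : FPt 𝒳) (c : p.obj ⟶ g.obj a) :
    ∃ q : FPt 𝒜, Nonempty (q.obj ⟶ a) ∧ Points.mk p = Points.mk (q.map g) := by
  have hb : 𝒳.p.obj (g.obj a) = 𝒜.p.obj a := g.w_obj a
  let k : Over.mk p.str ⟶ 𝒜.p.obj a := eqToHom p.lies.symm ≫ 𝒳.p.map c ≫ eqToHom hb
  haveI hc : 𝒳.p.IsHomLift k c := IsHomLift.of_fac 𝒳.p k c p.lies hb rfl
  obtain ⟨a', ψ, hψ⟩ := FibCat.IsFibGrpd.exists_lift (p := 𝒜.p) (x := a) k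
  haveI := hψ
  haveI : 𝒳.p.IsHomLift k (g.map ψ) := BasedFunctor.preserves_isHomLift g k ψ
  obtain ⟨ε, -, -⟩ := Groth.Agent.Lib.H43StkDescent.exists_iso_of_isHomLift k (g.map ψ) c
  let q : FPt 𝒜 := { K := p.K, str := p.str, obj := a', lies := IsHomLift.domain_eq 𝒜.p k ψ }
  exact ⟨q, ⟨ψ⟩, (Points.sound ⟨p, 𝟙 _, ε.hom, trivial⟩ : Points.mk p = Points.mk (q.map g))⟩

/-- The substack of the preimage of a set of points is the preimage of the substack. -/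
theorem ptsIn_preimage_iff {𝒜 : AlgSt.Cat S} [FibCat.IsFibGrpd 𝒜.p] [FibCat.IsFibGrpd 𝒳.p]
    (g : 𝒜 ⥤ᵇ 𝒳) (T : Set (Points 𝒳)) (a : 𝒜.obj) :
    ptsIn (Points.map g ⁻¹' T) a ↔ ptsIn T (g.obj a) := by
  constructor
  · rintro h p ⟨c⟩
    obtain ⟨q, ⟨ψ⟩, hq⟩ := exists_fpt_lift g a p c
    rw [hq]
    exact h q ⟨ψ⟩
  · rintro h q ⟨ψ⟩
    exact h (q.map g) ⟨g.map ψ⟩

/-- Charts of a 2-commutative square and the maps on points. -/
theorem map_ofChart_square {𝒜 : AlgSt.Cat S} (g : 𝒜 ⥤ᵇ 𝒳) {U' U : Over S}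
    (x' : FibCat.overCat U' ⥤ᵇ 𝒜) (x : FibCat.overCat U ⥤ᵇ 𝒳) (k : U' ⟶ U)
    (αg : BasedFunctor.comp x' g ≅ BasedFunctor.comp (AlgSt.overMap k) x) (t : ↥U'.left) :
    Points.map g (Points.ofChart x' t) = Points.ofChart x (k.left t) := by
  rw [Groth.Agent.Lib.AlgStPtsMain.map_ofChart, ← ofChart_overMap_comp]
  rw [ofChart_eq_map, ofChart_eq_map (BasedFunctor.comp (AlgSt.overMap k) x), map_congr αg]

/-! ### Restricted charts II -/

section Restrict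

variable [FibCat.IsFibGrpd 𝒳.p] (f : 𝒳 ⥤ᵇ 𝒴) {U V : Over S}
  (x : FibCat.overCat U ⥤ᵇ 𝒳) (y : FibCat.overCat V ⥤ᵇ 𝒴) (h : U ⟶ V)
  (α : BasedFunctor.comp x f ≅ BasedFunctor.comp (AlgSt.overMap h) y)
  {T : Set (Points 𝒳)} (W : U.left.Opens) (hW : (W : Set ↥U.left) = Points.ofChart x ⁻¹' T)

/-- The restriction of a surjective chart to the preimage of `T` is surjective onto the substack
of `T`. -/
theorem resX_surjective (hx : RepByAlgSpWith (AlgSp.LocP @Smooth) x)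
    (hxs : RepByAlgSpWith AlgSp.IsSurjectiveMor x) :
    RepByAlgSpWith AlgSp.IsSurjectiveMor (resX x W hW) := by
  haveI : FibCat.IsFibGrpd (FibCat.overCat (openOver W)).p := overCat_isFibGrpd _
  haveI : FibCat.IsFibGrpd (fullSub 𝒳 (ptsIn T)).p := fullSub_isFibGrpd (pbStable_ptsIn T)
  refine repByAlgSpWith_isSurjectiveMor_of_isSurjective _
    (repByAlgSp1_of_repByAlgSpWith _ (resX_smooth x W hW hx)) ?_
  intro η
  have h2 : Points.map (subIncl 𝒳 (ptsIn T)) η ∈ T := (range_subIncl_ptsIn T).le ⟨η, rfl⟩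
  obtain ⟨t, ht⟩ := surjective_ofChart x hxs (Points.map (subIncl 𝒳 (ptsIn T)) η)
  have htW : t ∈ W := by
    show t ∈ (W : Set ↥U.left)
    rw [hW]
    show Points.ofChart x t ∈ T
    rw [ht]; exact h2
  refine ⟨Points.ofChart (BasedFunctor.id _) ⟨t, htW⟩,
    Groth.Agent.Lib.AlgStPointsInj.points_map_injective_of_full inferInstance inferInstance
      (subIncl 𝒳 _) ?_⟩
  rw [← map_comp, ← ht]
  show Points.ofChart (BasedFunctor.comp (AlgSt.overMap (openIncl W)) x) ⟨t, htW⟩ = _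
  rw [ofChart_overMap_comp]
  rfl

include hW α in
/-- If the chart map is smooth on the preimage of `T`, then `f` is smooth on the substack of
`T`. -/
theorem locQ_of_smooth_res (hx : RepByAlgSpWith (AlgSp.LocP @Smooth) x)
    (hxs : RepByAlgSpWith AlgSp.IsSurjectiveMor x) (hy : RepByAlgSpWith (AlgSp.LocP @Smooth) y)
    (hsm : Smooth (W.ι ≫ h.left)) :
    AlgSt.LocQ (AlgSp.LocP @Smooth) (BasedFunctor.comp (subIncl 𝒳 (ptsIn T)) f) :=
  ⟨openOver W, V, resX x W hW, y, openIncl W ≫ h, resα f x y h α W hW, resX_smooth x W hW hx,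
    resX_surjective x W hW hx hxs, hy,
    locP_yon_map_of Groth.Agent.Lib.AlgSpLocP.etLocalClass_smooth _ hsm⟩

end Restrict

/-- `f` is smooth on the image of any open of a chart on which the chart map is smooth. -/
theorem locQ_image_of_smooth (h𝒳 : IsAlgStack Scheme.fppfPrecoverage 𝒳) (f : 𝒳 ⥤ᵇ 𝒴)
    {U V : Over S} (x : FibCat.overCat U ⥤ᵇ 𝒳) (y : FibCat.overCat V ⥤ᵇ 𝒴) (h : U ⟶ V)
    (α : BasedFunctor.comp x f ≅ BasedFunctor.comp (AlgSt.overMap h) y)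
    (hx : RepByAlgSpWith (AlgSp.LocP @Smooth) x) (hy : RepByAlgSpWith (AlgSp.LocP @Smooth) y)
    (W : U.left.Opens) (hsm : Smooth (W.ι ≫ h.left)) :
    IsOpenSubstack 𝒳 (ptsIn (Set.range (Points.map
        (BasedFunctor.comp (AlgSt.overMap (openIncl W)) x)))) Scheme.fppfPrecoverage ∧
      AlgSt.LocQ (AlgSp.LocP @Smooth) (BasedFunctor.comp (subIncl 𝒳 (ptsIn (Set.range (Points.map
        (BasedFunctor.comp (AlgSt.overMap (openIncl W)) x))))) f) := by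
  haveI := h𝒳.isStack.1
  haveI : FibCat.IsFibGrpd (FibCat.overCat (openOver W)).p := overCat_isFibGrpd _
  set w := BasedFunctor.comp (AlgSt.overMap (openIncl W)) x with hw_def
  have hw : RepByAlgSpWith (AlgSp.LocP @Smooth) w := resX_comp_smooth x W hx
  obtain ⟨hQ, hg, hgs⟩ := openSubstack_image_chart h𝒳 w hw
  refine ⟨hQ, ?_⟩
  refine ⟨openOver W, V, liftSub _ w (ptsIn_range_map_obj w), y, openIncl W ≫ h,
    (whiskerLeftIso (AlgSt.overMap (openIncl W)) α :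
      BasedFunctor.comp (AlgSt.overMap (openIncl W)) (BasedFunctor.comp x f) ≅
        BasedFunctor.comp (AlgSt.overMap (openIncl W))
          (BasedFunctor.comp (AlgSt.overMap h) y)) ≪≫
      whiskerRightIso (overMapCompIso (openIncl W) h) y, hg, hgs, hy, ?_⟩
  exact locP_yon_map_of Groth.Agent.Lib.AlgSpLocP.etLocalClass_smooth _ hsm

/-! ### The smooth locus and smooth precomposition -/

section Main

open Groth.Agent.Lib.AlgSpSmoothLocalSm Groth.Agent.Lib.AlgStLocQPts Groth.Agent.Lib.AlgStLargest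

/-- **Formation of the smooth locus commutes with smooth precomposition** (= S19902). -/
theorem largest_smooth_comp {𝒳' : AlgSt.Cat S} (h𝒳' : IsAlgStack Scheme.fppfPrecoverage 𝒳')
    (h𝒳 : IsAlgStack Scheme.fppfPrecoverage 𝒳) (h𝒴 : IsAlgStack Scheme.fppfPrecoverage 𝒴)
    (g : 𝒳' ⥤ᵇ 𝒳) (hg : AlgSt.LocQ (AlgSp.LocP @Smooth) g) (f : 𝒳 ⥤ᵇ 𝒴)
    (Q : 𝒳.obj → Prop) (hQ₁ : IsOpenSubstack 𝒳 Q Scheme.fppfPrecoverage)
    (hQ₂ : AlgSt.LocQ (AlgSp.LocP @Smooth) (BasedFunctor.comp (subIncl 𝒳 Q) f))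
    (hQ₃ : ∀ Q' : 𝒳.obj → Prop, IsOpenSubstack 𝒳 Q' Scheme.fppfPrecoverage →
      AlgSt.LocQ (AlgSp.LocP @Smooth) (BasedFunctor.comp (subIncl 𝒳 Q') f) → ∀ a, Q' a → Q a) :
    IsOpenSubstack 𝒳' (fun a ↦ Q (g.obj a)) Scheme.fppfPrecoverage ∧
      AlgSt.LocQ (AlgSp.LocP @Smooth)
        (BasedFunctor.comp (subIncl 𝒳' (fun a ↦ Q (g.obj a))) (BasedFunctor.comp g f)) ∧
      ∀ Q' : 𝒳'.obj → Prop, IsOpenSubstack 𝒳' Q' Scheme.fppfPrecoverage →
        AlgSt.LocQ (AlgSp.LocP @Smooth)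
          (BasedFunctor.comp (subIncl 𝒳' Q') (BasedFunctor.comp g f)) →
        ∀ a, Q' a → Q (g.obj a) := by
  haveI := h𝒳'.isStack.1
  haveI := h𝒳.isStack.1
  haveI := h𝒴.isStack.1
  obtain ⟨U', U, V, x', x, y, k, h, αg, αf, αgf, hx', hx, hy, hLg, hLf, hLgf⟩ :=
    exists_tower h𝒳' h𝒳 h𝒴 g f
  have hP := isSmoothLocalST_locP_smooth (S := S)
  haveI hk : Smooth k.left :=
    AlgSp.locP_yon_map (prop_of_locQ_of_square hP g hg x' x k αg hx.1 hLg.1)
  -- `Q` is the substack of its open set of points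
  set T := Set.range (Points.map (subIncl 𝒳 Q)) with hT_def
  have hT : IsOpen T := isOpen_range_of_isOpenSubstack h𝒳 hQ₁
  have hQpb : PbStable Q := pbStable_of_isOpenSubstack hQ₁
  have hQeq : ptsIn T = Q := funext fun b => propext
    ⟨fun hb => of_ptsIn_range hQpb hQ₁.2.2 hb, fun hb => ptsIn_range_of hQpb hb⟩
  have keyQ : ∀ Q'' : 𝒳.obj → Prop, Q'' = Q →
      AlgSt.LocQ (AlgSp.LocP @Smooth) (BasedFunctor.comp (subIncl 𝒳 Q'') f) := by
    rintro _ rfl; exact hQ₂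
  -- the preimage of `T` in the chart is the smooth locus of `h`
  let WT : U.left.Opens :=
    ⟨Points.ofChart x ⁻¹' T, (continuous_ofChart h𝒳.atlas x).isOpen_preimage _ hT⟩
  have hWT : Smooth (WT.ι ≫ h.left) :=
    smooth_res_of_locQ f x y h αf hy.1 hLf.1 WT rfl (keyQ _ hQeq)
  have hmax : ∀ W : U.left.Opens, Smooth (W.ι ≫ h.left) → W ≤ WT := by
    intro W hW t htW
    obtain ⟨hQ₁o, hQ₁f⟩ := locQ_image_of_smooth h𝒳 f x y h αf hx.1 hy.1 W hW
    have hsub := hQ₃ _ hQ₁o hQ₁f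
    show Points.ofChart x t ∈ T
    have h1 : Points.ofChart x t ∈
        Set.range (Points.map (BasedFunctor.comp (AlgSt.overMap (openIncl W)) x)) := by
      rw [range_map_eq_range_ofChart]
      exact ⟨⟨t, htW⟩, ofChart_overMap_comp (openIncl W) x ⟨t, htW⟩⟩
    rw [← range_subIncl_ptsIn (Set.range (Points.map
      (BasedFunctor.comp (AlgSt.overMap (openIncl W)) x))), range_subIncl] at h1
    obtain ⟨p, hp, hpe⟩ := h1
    rw [hT_def, range_subIncl]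
    exact ⟨p, hsub _ hp, hpe⟩
  -- (a)
  have hpb' : PbStable (fun a => Q (g.obj a)) := fun _ _ φ hb => hQpb (g.map φ) hb
  have ha : IsOpenSubstack 𝒳' (fun a => Q (g.obj a)) Scheme.fppfPrecoverage :=
    isOpenSubstack_of_isOpenImm h𝒳' hpb' (isOpenImm_preim g hQ₁.1 hQ₁.2.2)
  have hQ'eq : ptsIn (Points.map g ⁻¹' T) = fun a => Q (g.obj a) :=
    funext fun a => propext ((ptsIn_preimage_iff g T a).trans (by rw [hQeq]))
  -- (b)
  let W' : U'.left.Opens := k.left ⁻¹ᵁ WT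
  have hW' : (W' : Set ↥U'.left) = Points.ofChart x' ⁻¹' (Points.map g ⁻¹' T) := by
    ext u'
    show Points.ofChart x (k.left u') ∈ T ↔ Points.map g (Points.ofChart x' u') ∈ T
    rw [map_ofChart_square g x' x k αg]
  have hb : AlgSt.LocQ (AlgSp.LocP @Smooth)
      (BasedFunctor.comp (subIncl 𝒳' (ptsIn (Points.map g ⁻¹' T))) (BasedFunctor.comp g f)) :=
    locQ_of_smooth_res (BasedFunctor.comp g f) x' y (k ≫ h) αgf W' hW' hx'.1 hx'.2 hy.1
      (smooth_preimage_comp k.left h.left WT hWT)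
  have keyb : ∀ Q'' : 𝒳'.obj → Prop, ptsIn (Points.map g ⁻¹' T) = Q'' →
      AlgSt.LocQ (AlgSp.LocP @Smooth)
        (BasedFunctor.comp (subIncl 𝒳' Q'') (BasedFunctor.comp g f)) := by
    rintro _ rfl; exact hb
  refine ⟨ha, keyb _ hQ'eq, ?_⟩
  -- (c)
  intro Q'' hQ'' hQ''f a ha''
  set T'' := Set.range (Points.map (subIncl 𝒳' Q'')) with hT''_def
  have hT'' : IsOpen T'' := isOpen_range_of_isOpenSubstack h𝒳' hQ''
  have hQ''pb : PbStable Q'' := pbStable_of_isOpenSubstack hQ''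
  have hQ''eq : ptsIn T'' = Q'' := funext fun b => propext
    ⟨fun hb => of_ptsIn_range hQ''pb hQ''.2.2 hb, fun hb => ptsIn_range_of hQ''pb hb⟩
  have keyc : ∀ Q₀ : 𝒳'.obj → Prop, Q₀ = Q'' →
      AlgSt.LocQ (AlgSp.LocP @Smooth)
        (BasedFunctor.comp (subIncl 𝒳' Q₀) (BasedFunctor.comp g f)) := by
    rintro _ rfl; exact hQ''f
  let O' : U'.left.Opens :=
    ⟨Points.ofChart x' ⁻¹' T'', (continuous_ofChart h𝒳'.atlas x').isOpen_preimage _ hT''⟩
  have hO' : Smooth (O'.ι ≫ k.left ≫ h.left) :=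
    smooth_res_of_locQ (BasedFunctor.comp g f) x' y (k ≫ h) αgf hy.1 hLgf.1 O' rfl
      (keyc _ hQ''eq)
  obtain ⟨O, hO, hOsm⟩ := smooth_image_of_smooth_comp k.left h.left O' hO'
  have hOle : O ≤ WT := hmax O hOsm
  have goal : ptsIn T (g.obj a) := by
    rintro p ⟨c⟩
    obtain ⟨q, ⟨ψ⟩, hq⟩ := exists_fpt_lift g a p c
    rw [hq]
    have hqQ : Q'' q.obj := hQ''pb ψ ha''
    have hqT : Points.mk q ∈ T'' := mk_mem_range_subIncl hqQ
    obtain ⟨u', hu'⟩ := surjective_ofChart x' hx'.2 (Points.mk q)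
    have hu'O : u' ∈ O' := by
      show Points.ofChart x' u' ∈ T''
      rw [hu']; exact hqT
    have h2 : k.left u' ∈ O := by
      rw [← SetLike.mem_coe, hO]
      exact ⟨u', hu'O, rfl⟩
    have h3 : Points.ofChart x (k.left u') ∈ T := hOle h2
    show Points.map g (Points.mk q) ∈ T
    rw [← hu', map_ofChart_square g x' x k αg]
    exact h3
  rw [hQeq] at goal
  exact goal

end Main

end Groth.Agent.Lib.AlgStSmoothLocus
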