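import Groth.Agent.Lib.AlgStQCOpen
import Groth.Agent.Lib.AlgStLargest3
import Groth.Agent.Lib.AlgStSmoothLocus2

/-!
# Quasi-compact morphisms of algebraic stacks via compact open subsets of points (helper36)

ns `Groth.Agent.Lib.AlgStQCOpen`

* `isQuasiCompact_fullSub_ptsIn` : the open substack of a compact open subset is quasi-compact.
* `isCompact_of_isQuasiCompact_fullSub_ptsIn` : converse.
* `exists_isCompact_isOpen_superset` : compact subsets of `|𝒴|` lie in compact open subsets.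
* `isQuasiCompact_fp_subIncl_iff` : `𝒴_T ×_𝒴 𝒳` is quasi-compact iff `𝒳_{|f|⁻¹ T}` is.
* `isQuasiCompactMor_iff_isCompact_preimage` : over a quasi-separated base, a morphism to a
  quasi-separated algebraic stack is quasi-compact iff preimages of compact open subsets of points
  are compact.
-/

set_option autoImplicit false
set_option linter.style.haveILetI false
set_option backward.isDefEq.respectTransparency false
set_option backward.isDefEq.respectTransparency.types false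

namespace Groth.Agent.Lib.AlgStQCOpen

open CategoryTheory CategoryTheory.Limits AlgebraicGeometry Opposite AlgSt
  Groth.Agent.Lib.H78AlgStPoints Groth.Agent.Lib.H78AlgStPointsFp Groth.Agent.Lib.AlgStPts
  Groth.Agent.Lib.AlgStPtsTop Groth.Agent.Lib.AlgStPtsSurj Groth.Agent.Lib.AlgStPtsMain
  Groth.Agent.Lib.FibGrpd Groth.Agent.Lib.AlgStFp Groth.Agent.Lib.AlgStEquiv
  Groth.Agent.Lib.FpEquiv Groth.Agent.Lib.AlgStOpenSub
  Groth.Agent.Lib.AlgStPtsQC Groth.Agent.Lib.AlgStPtsQC2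
  Groth.Agent.Lib.AlgStSmoothLocus Groth.Agent.Lib.AlgStFpStack

universe u

variable {S : Scheme.{u}} {𝒳 𝒴 : AlgSt.Cat S}

/-- The open substack of a compact open subset of points is quasi-compact. -/
theorem isQuasiCompact_fullSub_ptsIn (h𝒴 : IsAlgStack Scheme.fppfPrecoverage 𝒴)
    {T : Set (Points 𝒴)} (hT : IsOpen T) (hTc : IsCompact T) :
    IsQuasiCompact (fullSub 𝒴 (ptsIn T)) := by
  haveI := h𝒴.isStack.1
  obtain ⟨V, v, hv, hvs⟩ := h𝒴.atlas
  have hfl := flatLfp_repByAlgSpWith_of_smooth v hv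
  have hopen : IsOpenMap (Points.ofChart v) := isOpenMap_ofChart v hfl.1 hfl.2
  have hsurj : Function.Surjective (Points.ofChart v) := surjective_ofChart v hvs
  have hcont : Continuous (Points.ofChart v) := continuous_ofChart h𝒴.atlas v
  have hWopen : IsOpen (Points.ofChart v ⁻¹' T) := hcont.isOpen_preimage T hT
  let I := {A : V.left.affineOpens // (A.1 : Set ↥V.left) ⊆ Points.ofChart v ⁻¹' T}
  have hcov : T ⊆ ⋃ A : I, Points.ofChart v '' (A.1.1 : Set ↥V.left) := by
    intro ξ hξ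
    obtain ⟨t, rfl⟩ := hsurj ξ
    obtain ⟨_, ⟨A, hA, rfl⟩, htA, hAW⟩ :=
      V.left.isBasis_affineOpens.exists_subset_of_mem_open (show t ∈ Points.ofChart v ⁻¹' T from hξ)
        hWopen
    exact Set.mem_iUnion.2 ⟨⟨⟨A, hA⟩, hAW⟩, t, htA, rfl⟩
  obtain ⟨s, hs⟩ := hTc.elim_finite_subcover
    (fun A : I => Points.ofChart v '' (A.1.1 : Set ↥V.left))
    (fun A => hopen _ A.1.1.2) hcov
  let W : V.left.Opens := ⨆ A ∈ s, A.1.1
  have hWc : IsCompact (W : Set ↥V.left) := by
    have : (W : Set ↥V.left) = ⋃ A ∈ s, (A.1.1 : Set ↥V.left) := by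
      simp [W]
    rw [this]
    exact s.isCompact_biUnion fun A _ => A.1.2.isCompact
  haveI : CompactSpace ↥(openOver W).left := isCompact_iff_compactSpace.mp hWc
  haveI : FibCat.IsFibGrpd (FibCat.overCat (openOver W)).p := overCat_isFibGrpd _
  set w : FibCat.overCat (openOver W) ⥤ᵇ 𝒴 :=
    BasedFunctor.comp (AlgSt.overMap (openIncl W)) v with hw
  have hwsm : RepByAlgSpWith (AlgSp.LocP @Smooth) w := resX_comp_smooth v W hv
  have hrange : Set.range (Points.map w) = T := by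
    rw [range_map_eq_range_ofChart]
    apply Set.Subset.antisymm
    · rintro _ ⟨⟨t, ht⟩, rfl⟩
      rw [hw, ofChart_overMap_comp]
      obtain ⟨A, hA, htA⟩ : ∃ A ∈ s, t ∈ (A.1.1 : Set ↥V.left) := by
        simpa [W] using ht
      exact A.2 htA
    · intro ξ hξ
      obtain ⟨A, hA, t, htA, rfl⟩ : ∃ A ∈ s, ξ ∈ Points.ofChart v '' (A.1.1 : Set ↥V.left) := by
        simpa using hs hξ
      have htW : t ∈ W := by
        simp only [W, TopologicalSpace.Opens.mem_iSup]
        exact ⟨A, hA, htA⟩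
      refine ⟨⟨t, htW⟩, ?_⟩
      rw [hw, ofChart_overMap_comp]
      rfl
  obtain ⟨hQ, hsm, hsj⟩ := openSubstack_image_chart h𝒴 w hwsm
  have key : ∀ T' : Set (Points 𝒴), T' = T → IsQuasiCompact (fullSub 𝒴 (ptsIn T')) →
      IsQuasiCompact (fullSub 𝒴 (ptsIn T)) := by
    rintro _ rfl h; exact h
  exact key _ hrange (Groth.Agent.Lib.AlgStQC.isQuasiCompact_of_smooth_surjective _ hsm hsj
    (Groth.Agent.Lib.AlgStQC.isQuasiCompact_overCat (openOver W)))

/-- If the substack of `T` is quasi-compact then `T` is compact. -/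
theorem isCompact_of_isQuasiCompact_fullSub_ptsIn (h𝒴 : IsAlgStack Scheme.fppfPrecoverage 𝒴)
    {T : Set (Points 𝒴)} (h : IsQuasiCompact (fullSub 𝒴 (ptsIn T))) : IsCompact T := by
  haveI := h𝒴.isStack.1
  haveI : FibCat.IsFibGrpd (fullSub 𝒴 (ptsIn T)).p := fullSub_isFibGrpd (pbStable_ptsIn T)
  obtain ⟨U, x, hU, hx, hxs⟩ := h
  haveI : IsAffine U.left := hU
  have hsurj := surjective_ofChart x hxs
  have h1 : T = Set.range (Points.ofChart (BasedFunctor.comp x (subIncl 𝒴 (ptsIn T)))) := by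
    have h2 : Points.ofChart (BasedFunctor.comp x (subIncl 𝒴 (ptsIn T))) =
        Points.map (subIncl 𝒴 (ptsIn T)) ∘ Points.ofChart x := rfl
    rw [h2, hsurj.range_comp, range_subIncl_ptsIn]
  rw [h1]
  exact isCompact_range (continuous_ofChart h𝒴.atlas _)

/-- Compact subsets of the space of points lie in compact open subsets. -/
theorem exists_isCompact_isOpen_superset (h𝒴 : IsAlgStack Scheme.fppfPrecoverage 𝒴)
    {K : Set (Points 𝒴)} (hK : IsCompact K) :
    ∃ T : Set (Points 𝒴), IsOpen T ∧ IsCompact T ∧ K ⊆ T := by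
  haveI := h𝒴.isStack.1
  obtain ⟨V, v, hv, hvs⟩ := h𝒴.atlas
  have hfl := flatLfp_repByAlgSpWith_of_smooth v hv
  have hopen : IsOpenMap (Points.ofChart v) := isOpenMap_ofChart v hfl.1 hfl.2
  have hsurj : Function.Surjective (Points.ofChart v) := surjective_ofChart v hvs
  have hcont : Continuous (Points.ofChart v) := continuous_ofChart h𝒴.atlas v
  have hcov : K ⊆ ⋃ A : V.left.affineOpens, Points.ofChart v '' (A.1 : Set ↥V.left) := by
    intro ξ _
    obtain ⟨t, rfl⟩ := hsurj ξ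
    obtain ⟨_, ⟨A, hA, rfl⟩, htA, -⟩ :=
      V.left.isBasis_affineOpens.exists_subset_of_mem_open (Set.mem_univ t) isOpen_univ
    exact Set.mem_iUnion.2 ⟨⟨A, hA⟩, t, htA, rfl⟩
  obtain ⟨s, hs⟩ := hK.elim_finite_subcover
    (fun A : V.left.affineOpens => Points.ofChart v '' (A.1 : Set ↥V.left))
    (fun A => hopen _ A.1.2) hcov
  refine ⟨⋃ A ∈ s, Points.ofChart v '' (A.1 : Set ↥V.left), ?_, ?_, hs⟩
  · exact isOpen_biUnion fun A _ => hopen _ A.1.2
  · exact s.isCompact_biUnion fun A _ => A.2.isCompact.image hcont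

/-- `𝒴_T ×_𝒴 𝒳` is quasi-compact iff the substack of the preimage of `T` is. -/
theorem isQuasiCompact_fp_subIncl_iff [FibCat.IsFibGrpd 𝒳.p] [FibCat.IsFibGrpd 𝒴.p]
    (f : 𝒳 ⥤ᵇ 𝒴) (T : Set (Points 𝒴)) :
    IsQuasiCompact (FibCat.fp (subIncl 𝒴 (ptsIn T)) f) ↔
      IsQuasiCompact (fullSub 𝒳 (ptsIn (Points.map f ⁻¹' T))) := by
  have hpred : (fun a => ptsIn T (f.obj a)) = ptsIn (Points.map f ⁻¹' T) := by
    funext a
    exact propext (Groth.Agent.Lib.AlgStSmoothLocus.ptsIn_preimage_iff f T a).symm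
  rw [← hpred]
  rw [isQuasiCompact_iff_of_isEquivOver _
    (Groth.Agent.Lib.AlgStRepC.fpSwap_isEquivOver (subIncl 𝒴 (ptsIn T)) f)]
  exact (isQuasiCompact_iff_of_isEquivOver _
    (Groth.Agent.Lib.AlgStLargest.preimEquiv_isEquivOver f (ptsIn T)
      (pbStable_ptsIn T).closedUnderIso)).symm

/-- Over a quasi-separated base, a morphism to a quasi-separated algebraic stack is quasi-compact
iff the preimages of compact open subsets of points are compact. -/
theorem isQuasiCompactMor_iff_isCompact_preimage [QuasiSeparatedSpace ↥S]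
    (h𝒳 : IsAlgStack Scheme.fppfPrecoverage 𝒳) (h𝒴 : IsAlgStack Scheme.fppfPrecoverage 𝒴)
    (hqs : IsQuasiSeparatedOver 𝒴) (f : 𝒳 ⥤ᵇ 𝒴) :
    IsQuasiCompactMor Scheme.fppfPrecoverage f ↔
      ∀ T : Set (Points 𝒴), IsOpen T → IsCompact T → IsCompact (Points.map f ⁻¹' T) := by
  haveI := h𝒳.isStack.1
  haveI := h𝒴.isStack.1
  have hcont : Continuous (Points.map f) := continuous_points_map h𝒴.atlas f
  constructor
  · intro hf T hT hTc
    have hQ := isOpenSubstack_ptsIn h𝒴 hT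
    have h1 : IsQuasiCompact (FibCat.fp (subIncl 𝒴 (ptsIn T)) f) :=
      hf _ hQ.2.1 (isQuasiCompact_fullSub_ptsIn h𝒴 hT hTc) _
    exact isCompact_of_isQuasiCompact_fullSub_ptsIn h𝒳
      ((isQuasiCompact_fp_subIncl_iff f T).1 h1)
  · intro H 𝒵 h𝒵 hqc g
    haveI := h𝒵.isStack.1
    obtain ⟨U, z, hU, hz, hzs⟩ := hqc
    haveI : IsAffine U.left := hU
    haveI : FibCat.IsFibGrpd (FibCat.overCat U).p := overCat_isFibGrpd _
    have hK : IsCompact (Set.range (Points.ofChart (BasedFunctor.comp z g))) :=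
      isCompact_range (continuous_ofChart h𝒴.atlas _)
    obtain ⟨T, hT, hTc, hKT⟩ := exists_isCompact_isOpen_superset h𝒴 hK
    have hQ := isOpenSubstack_ptsIn h𝒴 hT
    haveI := hQ.2.1.isStack.1
    have hj : IsOpenImm (subIncl 𝒴 (ptsIn T)) := hQ.2.2
    have hqs' : IsQuasiSeparatedOver (fullSub 𝒴 (ptsIn T)) :=
      isQuasiSeparatedOver_of_isMono _ (isMono_of_isOpenImm _ hj) hqs
    have h𝒲 : IsAlgStack Scheme.fppfPrecoverage (FibCat.fp (subIncl 𝒴 (ptsIn T)) f) :=
      isAlgStack_fp_of _ h𝒴.isStack h𝒴.diag hQ.2.1 h𝒳 _ f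
    have hfpqc : IsQuasiCompact (FibCat.fp (subIncl 𝒴 (ptsIn T)) f) :=
      (isQuasiCompact_fp_subIncl_iff f T).2
        (isQuasiCompact_fullSub_ptsIn h𝒳 (hcont.isOpen_preimage T hT) (H T hT hTc))
    have hqcmor : IsQuasiCompactMor Scheme.fppfPrecoverage
        (FibCat.fpFst (subIncl 𝒴 (ptsIn T)) f) :=
      Groth.Agent.Lib.AlgStQC.isQuasiCompactMor_of_isQuasiCompact h𝒲 hQ.2.1 _ hfpqc hqs'
    have hmem : ∀ a, ptsIn T ((BasedFunctor.comp z g).obj a) := fun a =>
      ptsIn_obj_of_range_subset (BasedFunctor.comp z g) a (fun t => hKT ⟨_, rfl⟩)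
    exact isQuasiCompact_fp_of_factor h𝒳 h𝒴 h𝒵 f (subIncl 𝒴 (ptsIn T)) g hqcmor U z
      (liftSub (ptsIn T) (BasedFunctor.comp z g) hmem) (Iso.refl _)
      (isSurjective_of_surjective_ofChart z (surjective_ofChart z hzs))

end Groth.Agent.Lib.AlgStQCOpen
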