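import Groth.Agent.Lib.QuasiFiniteDescent
import Groth.Agent.Lib.AlgStDiagChart
import Groth.Agent.Lib.AlgStDiagDescent
import Groth.Agent.Lib.AlgStDiagCancel

/-!
# fppf descent for quasi-DM (helper36)

* `isLocalOnBase_fpqc_locP_lqf_lft`, `isLocalOnBase_fppf_locP_lqf_lft`
* `isQuasiDMMor_of_fpFst_space_cover` (= S12961)
* `isQuasiDMOver_of_lqf_cover` (= S12970)
-/

set_option autoImplicit false
set_option linter.style.haveILetI false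
set_option backward.isDefEq.respectTransparency false
set_option backward.isDefEq.respectTransparency.types false

namespace Groth.Agent.Lib.AlgStQuasiDMDescent

open CategoryTheory CategoryTheory.Limits AlgebraicGeometry Opposite Groth.Agent.Lib.FibGrpd
  Groth.Agent.Lib.AlgStRep Groth.Agent.Lib.AlgStCover
  Groth.Agent.Lib.AlgStDiag Groth.Agent.Lib.AlgSpLocP
  Groth.Agent.Lib.AlgSpBasic Groth.Agent.Lib.AlgStDiagChart Groth.Agent.Lib.QuasiFiniteDescent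

universe u

variable {S : Scheme.{u}} {𝒳 𝒴 : AlgSt.Cat S}

theorem isLocalOnBase_fpqc_locP_lqf_lft :
    AlgSp.IsLocalOnBase (AlgSp.IsFpqcCover (S := S))
      (AlgSp.LocP (@LocallyQuasiFinite ⊓ @LocallyOfFiniteType)) :=
  Groth.Agent.Lib.AlgSpFpqc.isLocalOnBase_fpqc_locP etLocalClass_lqf_lft

theorem isLocalOnBase_fppf_locP_lqf_lft :
    AlgSp.IsLocalOnBase (AlgSp.IsFppfCover (S := S))
      (AlgSp.LocP (@LocallyQuasiFinite ⊓ @LocallyOfFiniteType)) :=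
  Groth.Agent.Lib.AlgStDiagQS.isLocalOnBase_fppf_of_fpqc isLocalOnBase_fpqc_locP_lqf_lft

/-- = S12961 -/
theorem isQuasiDMMor_of_fpFst_space_cover
    (h𝒳 : AlgSt.IsAlgStack Scheme.fppfPrecoverage 𝒳)
    (h𝒴 : AlgSt.IsAlgStack Scheme.fppfPrecoverage 𝒴)
    (f : 𝒳 ⥤ᵇ 𝒴)
    (W : AlgSp.Space S) (w : AlgSt.ofSp W.obj ⥤ᵇ 𝒴)
    (hw₁ : AlgSt.RepByAlgSpWith (AlgSp.LocP @Flat) w)
    (hw₂ : AlgSt.RepByAlgSpWith (AlgSp.LocP @LocallyOfFinitePresentation) w)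
    (hw₃ : AlgSt.RepByAlgSpWith AlgSp.IsSurjectiveMor w) :
    AlgSt.IsQuasiDMMor (FibCat.fpFst w f) → AlgSt.IsQuasiDMMor f :=
  fun h => Groth.Agent.Lib.AlgStDiagDescent.repByAlgSpWith_diag_of_space_cover h𝒳 h𝒴 f w
    hw₁ hw₂ hw₃ _ (Groth.Agent.Lib.AlgStAtlas.isoInv_locP _) isLocalOnBase_fppf_locP_lqf_lft h

/-- = S12970 -/
theorem isQuasiDMOver_of_lqf_cover (h𝒳 : AlgSt.IsAlgStack Scheme.fppfPrecoverage 𝒳)
    (W : AlgSp.Space S) (w : AlgSt.ofSp W.obj ⥤ᵇ 𝒳)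
    (hw₁ : AlgSt.RepByAlgSpWith (AlgSp.LocP @Flat) w)
    (hw₂ : AlgSt.RepByAlgSpWith (AlgSp.LocP @LocallyOfFinitePresentation) w)
    (hw₃ : AlgSt.RepByAlgSpWith AlgSp.IsSurjectiveMor w)
    (hw₄ : AlgSt.RepByAlgSpWith (AlgSp.LocP (@LocallyQuasiFinite ⊓ @LocallyOfFiniteType)) w) :
    AlgSt.IsQuasiDMOver 𝒳 := by
  haveI : FibCat.IsFibGrpd 𝒳.p := h𝒳.isStack.1
  haveI : FibCat.IsFibGrpd (FibCat.selfOver (Over S)).p := toSelf_isFibGrpd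
  haveI : FibCat.IsFibGrpd (AlgSt.ofSp W.obj).p := Stk.isFibGrpd_ofPsh W.obj.obj
  exact locP_diag_of_chart etLocalClass_lqf_lft isLocalOnBase_fppf_locP_lqf_lft
    (fun k hk => Groth.Agent.Lib.AlgStDiagCancel.isQuasiDMMor_of_repByAlgSp1 k hk)
    w (FibCat.toSelf 𝒳) h𝒳.diag (repByAlgSpWith_cov w hw₁ hw₂ hw₃) hw₄
    (repByAlgSp1_ofSp_to_selfOver W _)

end Groth.Agent.Lib.AlgStQuasiDMDescent
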