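import Groth.Agent.Lib.AlgStRelDiag

/-!
# The morphism `𝒳 ×_𝒵 𝒴 ⟶ 𝒳 ×_𝒯 𝒴` as stated with an arbitrary 2-isomorphism (helper36)
-/

set_option autoImplicit false
set_option linter.style.haveILetI false
set_option backward.isDefEq.respectTransparency false
set_option backward.isDefEq.respectTransparency.types false

namespace Groth.Agent.Lib.AlgStRelDiag2

open CategoryTheory AlgebraicGeometry Opposite Groth.Agent.Lib.FibGrpd Groth.Agent.Lib.FpEquiv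
  Groth.Agent.Lib.AlgStDiag Groth.Agent.Lib.AlgStRelDiag

universe w v₅ u₅ v₄ u₄ v₃ u₃ v₂ u₂ v u

variable {S : Scheme.{u}} {𝒳 : BasedCategory.{v₂, u₂} (Over S)}
  {𝒴 : BasedCategory.{v₃, u₃} (Over S)} {𝒵 : BasedCategory.{v₄, u₄} (Over S)}
  {𝒯 : BasedCategory.{v₅, u₅} (Over S)}

/-- The induced morphism `i : 𝒳 ×_𝒵 𝒴 ⟶ 𝒳 ×_𝒯 𝒴` has `P` whenever the diagonal of `t : 𝒵 ⟶ 𝒯` has. -/
theorem repByAlgSpWith_fpLift_of_diag (P : MorphismProperty (AlgSp.Sp S)) (f : 𝒳 ⥤ᵇ 𝒵)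
    (g : 𝒴 ⥤ᵇ 𝒵) (t : 𝒵 ⥤ᵇ 𝒯)
    (e : BasedFunctor.comp (FibCat.fpFst f g) (BasedFunctor.comp f t) ≅
      BasedFunctor.comp (FibCat.fpSnd f g) (BasedFunctor.comp g t))
    (he : ∀ x, e.hom.toNatTrans.app x = t.map x.obj.iso.hom)
    (ht : AlgSt.RepByAlgSpWith P (FibCat.diag t)) :
    AlgSt.RepByAlgSpWith P (FibCat.fpLift (FibCat.fpFst f g) (FibCat.fpSnd f g) e) := by
  have h := repByAlgSpWith_relIota P f g t ht
  have e_eq : e = whiskerRightIso (FibCat.fpIso f g) t := by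
    apply Iso.ext
    apply BasedNatTrans.ext
    apply NatTrans.ext
    funext x
    exact he x
  rw [e_eq]
  exact h

end Groth.Agent.Lib.AlgStRelDiag2
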