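import Groth.Agent.Lib.AlgStOpenSub
import Groth.Agent.Lib.AlgStMonoFull

/-!
# The essential image of a fully faithful functor as a substack (helper36)

ns `Groth.Agent.Lib.AlgStSubImage`

* `essIm i`, `toEssIm i : 𝒵 ⥤ᵇ fullSub 𝒳 (essIm i)`, `toEssIm_isEquivOver`
* `eq_essIm_of_equiv` : a strictly full subcategory through which `i` factors by an equivalence is
  the essential image.
* `full_faithful_of_isImm`.
-/

set_option autoImplicit false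
set_option linter.style.haveILetI false
set_option backward.isDefEq.respectTransparency false
set_option backward.isDefEq.respectTransparency.types false

namespace Groth.Agent.Lib.AlgStSubImage

open CategoryTheory CategoryTheory.Limits AlgebraicGeometry Opposite AlgSt
  Groth.Agent.Lib.FibGrpd Groth.Agent.Lib.AlgStFp Groth.Agent.Lib.AlgStEquiv
  Groth.Agent.Lib.FpEquiv Groth.Agent.Lib.AlgStOpenSub

universe u

variable {S : Scheme.{u}} {𝒵 𝒳 : AlgSt.Cat S}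

/-- The essential image of a functor, as a property of objects. -/
def essIm (i : 𝒵 ⥤ᵇ 𝒳) : 𝒳.obj → Prop := fun y => ∃ z : 𝒵.obj, Nonempty (i.obj z ≅ y)

theorem essIm_closedUnderIso (i : 𝒵 ⥤ᵇ 𝒳) :
    ObjectProperty.IsClosedUnderIsomorphisms (essIm i) :=
  ⟨fun e ⟨z, ⟨φ⟩⟩ => ⟨z, ⟨φ ≪≫ e⟩⟩⟩

/-- The factorization of `i` through its essential image. -/
def toEssIm (i : 𝒵 ⥤ᵇ 𝒳) : 𝒵 ⥤ᵇ fullSub 𝒳 (essIm i) :=
  liftSub (essIm i) i (fun z => ⟨z, ⟨Iso.refl _⟩⟩)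

theorem toEssIm_comp (i : 𝒵 ⥤ᵇ 𝒳) :
    BasedFunctor.comp (toEssIm i) (subIncl 𝒳 (essIm i)) = i := rfl

theorem toEssIm_isEquivOver [FibCat.IsFibGrpd 𝒵.p] [FibCat.IsFibGrpd 𝒳.p] (i : 𝒵 ⥤ᵇ 𝒳)
    [hfull : i.toFunctor.Full] [hfaith : i.toFunctor.Faithful] :
    FibCat.IsEquivOver (toEssIm i) := by
  haveI : (toEssIm i).toFunctor.Full :=
    ⟨fun {a b} φ => ⟨i.toFunctor.preimage φ.hom, by
      apply ObjectProperty.hom_ext
      exact i.toFunctor.map_preimage φ.hom⟩⟩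
  haveI : (toEssIm i).toFunctor.Faithful :=
    ⟨fun {a b} f g h => i.toFunctor.map_injective (congrArg (fun m => m.hom) h)⟩
  apply isEquivOver_of_ff_of_ess
  rintro ⟨y, z, ⟨φ⟩⟩
  -- `φ : i z ≅ y` lies over the isomorphism `f`
  let f : 𝒵.p.obj z ⟶ 𝒳.p.obj y := eqToHom (i.w_obj z).symm ≫ 𝒳.p.map φ.hom
  haveI hf : IsIso f := by dsimp only [f]; infer_instance
  haveI hφ : 𝒳.p.IsHomLift f φ.hom :=
    IsHomLift.of_fac 𝒳.p f φ.hom (i.w_obj z) rfl (by simp [f])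
  obtain ⟨z', ψ, hψ⟩ := FibCat.IsFibGrpd.exists_lift (p := 𝒵.p) (x := z) (inv f)
  haveI := hψ
  haveI : IsIso ψ := isIso_of_isHomLift_isIso 𝒵.p (inv f) ψ
  haveI hiψ : 𝒳.p.IsHomLift (inv f) (i.map ψ) := BasedFunctor.preserves_isHomLift i _ ψ
  let e₀ : i.obj z' ≅ y := i.toFunctor.mapIso (asIso ψ) ≪≫ φ
  let e₁ : (toEssIm i).toFunctor.obj z' ≅ (⟨y, z, ⟨φ⟩⟩ : (fullSub 𝒳 (essIm i)).obj) :=
    ObjectProperty.isoMk _ e₀
  refine ⟨z', e₁, ?_⟩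
  rw [isHomLift_comp_iff (ObjectProperty.ι (essIm i)) 𝒳.p]
  show 𝒳.p.IsHomLift (𝟙 (𝒳.p.obj y)) (i.map ψ ≫ φ.hom)
  have h1 : 𝒳.p.IsHomLift (inv f ≫ f) (i.map ψ ≫ φ.hom) := inferInstance
  rwa [IsIso.inv_hom_id] at h1

/-- A strictly full subcategory through which `i` factors by an equivalence is the essential
image of `i`. -/
theorem eq_essIm_of_equiv (i : 𝒵 ⥤ᵇ 𝒳) {Q' : 𝒳.obj → Prop}
    (hc : ObjectProperty.IsClosedUnderIsomorphisms Q') (i' : 𝒵 ⥤ᵇ fullSub 𝒳 Q')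
    (hi' : FibCat.IsEquivOver i') (α : BasedFunctor.comp i' (subIncl 𝒳 Q') ≅ i) :
    Q' = essIm i := by
  funext y
  apply propext
  constructor
  · intro hy
    obtain ⟨-, -, hess⟩ := ff_ess_of_isEquivOver i' hi'
    obtain ⟨z, e, -⟩ := hess ⟨y, hy⟩
    exact ⟨z, ⟨(appIso α z).symm ≪≫ (subIncl 𝒳 Q').toFunctor.mapIso e⟩⟩
  · rintro ⟨z, ⟨φ⟩⟩
    exact hc.of_iso ((appIso α z) ≪≫ φ) (i'.obj z).property

/-- Immersions are monomorphisms. -/
theorem isMono_of_isImm (i : 𝒵 ⥤ᵇ 𝒳) (hi : IsImm i) : AlgSt.IsMono i :=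
  Groth.Agent.Lib.AlgStDiagDict2.repByAlgSpWith_mono i (fun _ _ _ α hα => by
    haveI : Mono α := Groth.Agent.Lib.AlgSpBasic.mono_of_repWith
      (fun _ _ g (hg : IsImmersion g) => (inferInstance : Mono g)) hα
    exact MorphismProperty.monomorphisms.infer_property α) hi

theorem full_faithful_of_isImm [FibCat.IsFibGrpd 𝒵.p] [FibCat.IsFibGrpd 𝒳.p] (i : 𝒵 ⥤ᵇ 𝒳)
    (hi : IsImm i) : i.toFunctor.Full ∧ i.toFunctor.Faithful :=
  Groth.Agent.Lib.AlgStMonoFull.full_faithful_of_isMono i (isMono_of_isImm i hi)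

end Groth.Agent.Lib.AlgStSubImage
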