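import Groth.Agent.Lib.AlgStFieldPt
import Groth.Agent.Lib.AlgStSubImage
import Groth.Agent.Lib.AlgStMonoFull

/-!
# Residual gerbes: formal transport (helper36)

ns `Groth.Agent.Lib.AlgStResGerbe`

* `smoothLocally_of_isEquivOver` : `SmoothLocally P` is invariant under equivalences.
* `isResGerbe_essIm` : a reduced, locally Noetherian one-point algebraic stack mapping monomorphically
  to `𝒳` onto `x` identifies with the full subcategory on its essential image, which is the residual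
  gerbe at `x`.
-/

set_option autoImplicit false
set_option linter.style.haveILetI false
set_option backward.isDefEq.respectTransparency false
set_option backward.isDefEq.respectTransparency.types false

namespace Groth.Agent.Lib.AlgStResGerbe

open CategoryTheory CategoryTheory.Limits AlgebraicGeometry Opposite AlgSt
  Groth.Agent.Lib.AlgStPts Groth.Agent.Lib.FibGrpd Groth.Agent.Lib.AlgStFp
  Groth.Agent.Lib.AlgStEquiv Groth.Agent.Lib.FpEquiv Groth.Agent.Lib.AlgStOpenSub
  Groth.Agent.Lib.AlgStSubImage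

universe u

variable {S : Scheme.{u}} {𝒵 𝒳 : AlgSt.Cat S}

/-- `SmoothLocally P` is invariant under equivalences. -/
theorem smoothLocally_of_isEquivOver (P : Scheme.{u} → Prop) (c : 𝒵 ⥤ᵇ 𝒳)
    (hc : FibCat.IsEquivOver c) (h : AlgSt.SmoothLocally P 𝒵) : AlgSt.SmoothLocally P 𝒳 := by
  intro U x hx
  obtain ⟨G, ⟨α⟩, ⟨β⟩⟩ := hc
  have hG : FibCat.IsEquivOver G := ⟨c, ⟨β⟩, ⟨α⟩⟩
  exact h U (BasedFunctor.comp x G)
    ((repByAlgSpWith_comp_equiv_iff (AlgSp.LocP @Smooth) x G hG).2 hx)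

/-- The essential image of a monomorphism from a reduced, locally Noetherian one-point algebraic
stack is the residual gerbe. -/
theorem isResGerbe_essIm (h𝒳 : AlgSt.IsAlgStack Scheme.fppfPrecoverage 𝒳) (x : AlgSt.Points 𝒳)
    (h𝒵 : AlgSt.IsAlgStack Scheme.fppfPrecoverage 𝒵)
    (hred : AlgSt.SmoothLocally (fun T => IsReduced T) 𝒵)
    (hnoeth : AlgSt.SmoothLocally (fun T => IsLocallyNoetherian T) 𝒵)
    (hne : Nonempty (AlgSt.Points 𝒵)) (hsub : Subsingleton (AlgSt.Points 𝒵))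
    (f : 𝒵 ⥤ᵇ 𝒳) (hf : AlgSt.IsMono f) (hfx : ∀ p : AlgSt.Points 𝒵, AlgSt.Points.map f p = x) :
    Gerb.IsResGerbe Scheme.fppfPrecoverage 𝒳 x (essIm f) ∧
      FibCat.IsEquivOver (toEssIm f) := by
  haveI := h𝒳.isStack.1
  haveI := h𝒵.isStack.1
  obtain ⟨hfull, hfaith⟩ := Groth.Agent.Lib.AlgStMonoFull.full_faithful_of_isMono f hf
  have he : FibCat.IsEquivOver (toEssIm f) := toEssIm_isEquivOver f
  have hbij := map_bijective_of_isEquivOver he
  refine ⟨⟨essIm_closedUnderIso f, (isAlgStack_iff_of_isEquivOver _ (toEssIm f) he).1 h𝒵,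
    smoothLocally_of_isEquivOver _ (toEssIm f) he hred,
    smoothLocally_of_isEquivOver _ (toEssIm f) he hnoeth, ?_, ?_, ?_⟩, he⟩
  · obtain ⟨p⟩ := hne
    exact ⟨Points.map (toEssIm f) p⟩
  · refine ⟨fun a b => ?_⟩
    obtain ⟨a', rfl⟩ := hbij.2 a
    obtain ⟨b', rfl⟩ := hbij.2 b
    rw [Subsingleton.elim a' b']
  · intro z
    obtain ⟨z', rfl⟩ := hbij.2 z
    rw [← map_comp]
    exact hfx z'

end Groth.Agent.Lib.AlgStResGerbe
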