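import Groth.Agent.Lib.AlgStMonoField
import Groth.Agent.Lib.AlgStLocQ7
import Groth.Agent.Lib.AlgSpAffineSpace
import Groth.Agent.Lib.AlgStFpStack
import Groth.Agent.Lib.AlgStPtsQC2

/-!
# Field points factor through the residual gerbe (helper36)

ns `Groth.Agent.Lib.AlgStResGerbe2`

* `exists_equiv_of_isPullback` : `h_W ≃ (Sch/U) ×_{(Sch/V)} (Sch/V')` for a pullback square of
  schemes, compatibly with the first projection.
* `smooth_pullback_fst_of_chart_of_ff` : if `π : 𝒲 ⟶ (Sch/B)` is fully faithful and `v : V ⟶ 𝒲` is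
  smooth, then for every `y : T ⟶ 𝒲` the projection `T ×_B V ⟶ T` is smooth.
-/

set_option autoImplicit false
set_option linter.style.haveILetI false
set_option backward.isDefEq.respectTransparency false
set_option backward.isDefEq.respectTransparency.types false

namespace Groth.Agent.Lib.AlgStResGerbe2

open CategoryTheory Functor Opposite Limits AlgebraicGeometry Groth.Agent.Lib.FibGrpd
  Groth.Agent.Lib.FpEquiv Groth.Agent.Lib.EquivOver Groth.Agent.Lib.AlgStFp
  Groth.Agent.Lib.AlgStRep Groth.Agent.Lib.AlgStSpTest Groth.Agent.Lib.AlgStEquiv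
  Groth.Agent.Lib.AlgStAtlas Groth.Agent.Lib.AlgSpLocP
  Groth.Agent.Lib.PshFp Groth.Agent.Lib.SliceFp AlgSt

universe u

variable {S : Scheme.{u}}

/-- `h_W ≃ (Sch/U) ×_{(Sch/V)} (Sch/V')` for a pullback square of schemes, compatibly with the first
projection. -/
theorem exists_equiv_of_isPullback {U V V' W : Over S} (h : U ⟶ V) (k : V' ⟶ V) (fst : W ⟶ U)
    (snd : W ⟶ V') (sq : IsPullback fst.left snd.left h.left k.left) :
    ∃ (E : AlgSt.ofSp ((AlgSp.yon S).obj W) ⥤ᵇ FibCat.fp (AlgSt.overMap h) (AlgSt.overMap k)),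
      FibCat.IsEquivOver E ∧
      BasedFunctor.comp E (FibCat.fpFst (AlgSt.overMap h) (AlgSt.overMap k)) =
        BasedFunctor.comp (AlgSt.ofSpMap ((AlgSp.yon S).map fst)) (AlgSt.toOverCat U) := by
  have sqY : IsPullback ((AlgSp.yon S).map fst) ((AlgSp.yon S).map snd) ((AlgSp.yon S).map h)
      ((AlgSp.yon S).map k) := Groth.Agent.Lib.AlgSpAffineSpace.isPullback_yon_of_left sq
  have sq' : IsPullback ((AlgSp.yon S).map fst).hom ((AlgSp.yon S).map snd).hom
      ((AlgSp.yon S).map h).hom ((AlgSp.yon S).map k).hom :=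
    sqY.map (sheafToPresheaf (AlgSp.J S) (Type (u + 1)))
  obtain ⟨hc1, hc2, -⟩ := ff_ess_of_isEquivOver (AlgSt.toOverCat V) (toOverCat_isEquivOver V)
  haveI := hc1
  haveI := hc2
  let α₁ : BasedFunctor.comp (AlgSt.ofSpMap ((AlgSp.yon S).map h)) (AlgSt.toOverCat V) ≅
      BasedFunctor.comp (AlgSt.toOverCat U) (AlgSt.overMap h) := Iso.refl _
  let α₂ : BasedFunctor.comp (AlgSt.ofSpMap ((AlgSp.yon S).map k)) (AlgSt.toOverCat V) ≅
      BasedFunctor.comp (AlgSt.toOverCat V') (AlgSt.overMap k) := Iso.refl _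
  let M : FibCat.fp (AlgSt.ofSpMap ((AlgSp.yon S).map h)) (AlgSt.ofSpMap ((AlgSp.yon S).map k)) ⥤ᵇ
      FibCat.fp (AlgSt.overMap h) (AlgSt.overMap k) :=
    fpMap (AlgSt.toOverCat U) (AlgSt.toOverCat V') (AlgSt.toOverCat V) α₁ α₂
  have hM : FibCat.IsEquivOver M :=
    fpMap_isEquivOver _ _ _ _ _ (toOverCat_isEquivOver U) (toOverCat_isEquivOver V')
  exact ⟨BasedFunctor.comp (pshFpFunctor sq'.w) M,
    isEquivOver_comp (pshFpFunctor_isEquivOver_of_isPullback sq') hM, rfl⟩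

/-- If `π : 𝒲 ⟶ (Sch/B)` is fully faithful and `v : V ⟶ 𝒲` is smooth, then for every `y : T ⟶ 𝒲`
the projection `T ×_B V ⟶ T` is smooth. -/
theorem smooth_pullback_fst_of_chart_of_ff {𝒲 : AlgSt.Cat S} {B : Over S}
    (π : 𝒲 ⥤ᵇ FibCat.overCat B) [π.toFunctor.Full] [π.toFunctor.Faithful]
    {V : Over S} (v : FibCat.overCat V ⥤ᵇ 𝒲) (hv : RepByAlgSpWith (AlgSp.LocP @Smooth) v)
    {T : Over S} (y : FibCat.overCat T ⥤ᵇ 𝒲) :
    Smooth (pullback.fst (overYonedaMor (BasedFunctor.comp y π)).left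
      (overYonedaMor (BasedFunctor.comp v π)).left) := by
  set cT := overYonedaMor (BasedFunctor.comp y π) with hcT
  set c := overYonedaMor (BasedFunctor.comp v π) with hc
  let W : Over S := Over.mk (pullback.fst cT.left c.left ≫ T.hom)
  let fst' : W ⟶ T := Over.homMk (pullback.fst cT.left c.left) rfl
  let snd' : W ⟶ V := Over.homMk (pullback.snd cT.left c.left) (by
    show pullback.snd cT.left c.left ≫ V.hom = pullback.fst cT.left c.left ≫ T.hom
    rw [← Over.w c, ← Over.w cT, ← Category.assoc, ← Category.assoc, pullback.condition])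
  have sq : IsPullback fst'.left snd'.left cT.left c.left := IsPullback.of_hasPullback _ _
  obtain ⟨E, hE, hEfst⟩ := exists_equiv_of_isPullback cT c fst' snd' sq
  obtain ⟨G, e, he, hsm⟩ := hv T y
  have h1 : RepData (AlgSp.LocP @Smooth) (FibCat.fpFst y v) := ⟨G, e, he, hsm⟩
  let α : BasedFunctor.comp y π ≅
      BasedFunctor.comp (BasedFunctor.id (FibCat.overCat T)) (AlgSt.overMap cT) :=
    overYonedaIso (BasedFunctor.comp y π) ≪≫ (idCompIso _).symm
  let β : BasedFunctor.comp v π ≅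
      BasedFunctor.comp (BasedFunctor.id (FibCat.overCat V)) (AlgSt.overMap c) :=
    overYonedaIso (BasedFunctor.comp v π) ≪≫ (idCompIso _).symm
  let M : FibCat.fp y v ⥤ᵇ FibCat.fp (AlgSt.overMap cT) (AlgSt.overMap c) :=
    fpMap (BasedFunctor.id _) (BasedFunctor.id _) π α β
  have hM : FibCat.IsEquivOver M :=
    fpMap_isEquivOver _ _ _ _ _ isEquivOver_id isEquivOver_id
  have h2 : RepData (AlgSp.LocP @Smooth)
      (FibCat.fpFst (AlgSt.overMap cT) (AlgSt.overMap c)) :=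
    repData_of_equiv M hM (compIdIso (FibCat.fpFst y v)) h1
  have h3 : RepData (AlgSp.LocP @Smooth)
      (BasedFunctor.comp (AlgSt.ofSpMap ((AlgSp.yon S).map fst')) (AlgSt.toOverCat T)) :=
    repData_of_equiv' E hE (eqToIso hEfst) h2
  have h4 : AlgSp.LocP @Smooth ((AlgSp.yon S).map fst') := by
    have := prop_spMapOfOver_of_repData (AlgSp.LocP @Smooth) (isoInv_locP _)
      (AlgSp.IsAlgSpace.yon_obj W) _ h3
    rwa [spMapOfOver_ofSpMap_toOverCat] at this
  exact AlgSp.locP_yon_map h4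

open Groth.Agent.Lib.H78AlgStPoints Groth.Agent.Lib.H78AlgStPointsFp Groth.Agent.Lib.AlgStPts
  Groth.Agent.Lib.AlgStPtsSurj Groth.Agent.Lib.AlgStPtsQC Groth.Agent.Lib.AlgStPtsQC2
  Groth.Agent.Lib.AlgStOpenSub Groth.Agent.Lib.AlgStClosedSub Groth.Agent.Lib.FibYoneda
  Groth.Agent.Lib.AlgStEquivRep

variable {𝒳 : AlgSt.Cat S}

/-- A field point `p` of `𝒳` such that `Spec K ×_𝒳 𝒵` is nonempty, for `𝒵 ⊂ 𝒳` a strictly full
subcategory which is an algebraic stack, takes all its values in `𝒵`. -/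
theorem forall_obj_of_fieldPt (h𝒳 : IsAlgStack Scheme.fppfPrecoverage 𝒳) {Q : 𝒳.obj → Prop}
    (hc : ObjectProperty.IsClosedUnderIsomorphisms Q)
    (h𝒵 : IsAlgStack Scheme.fppfPrecoverage (fullSub 𝒳 Q))
    (K : Type u) [Field K] (a : Spec (CommRingCat.of K) ⟶ S)
    (p : FibCat.overCat (Over.mk a) ⥤ᵇ 𝒳)
    (hne : Nonempty (Points (FibCat.fp p (subIncl 𝒳 Q)))) (b : Over (Over.mk a)) :
    Q (p.obj b) := by
  haveI := h𝒳.isStack.1
  have hQ : PbStable Q := pbStable_of_isFibGrpd hc h𝒵.isStack.1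
  haveI := h𝒵.isStack.1
  haveI : (subIncl 𝒳 Q).toFunctor.Full := inferInstanceAs (ObjectProperty.ι Q).Full
  haveI : (subIncl 𝒳 Q).toFunctor.Faithful := inferInstanceAs (ObjectProperty.ι Q).Faithful
  haveI : FibCat.IsFibGrpd (FibCat.overCat (Over.mk a)).p := overCat_isFibGrpd _
  haveI : (FibCat.fpFst p (subIncl 𝒳 Q)).toFunctor.Full :=
    Groth.Agent.Lib.AlgStEquivRep.fpFst_full p (subIncl 𝒳 Q)
  haveI : (FibCat.fpFst p (subIncl 𝒳 Q)).toFunctor.Faithful :=
    Groth.Agent.Lib.AlgStEquivRep.fpFst_faithful p (subIncl 𝒳 Q)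
  have h𝒲 : IsAlgStack Scheme.fppfPrecoverage (FibCat.fp p (subIncl 𝒳 Q)) :=
    Groth.Agent.Lib.AlgStFpStack.isAlgStack_fp h𝒳.isStack h𝒳.diag (isAlgStack_overCat _) h𝒵 p
      (subIncl 𝒳 Q)
  obtain ⟨V, v, hvsm, hvsurj⟩ := h𝒲.atlas
  haveI : FibCat.IsFibGrpd (FibCat.fp p (subIncl 𝒳 Q)).p := h𝒲.isStack.1
  haveI : FibCat.IsFibGrpd (FibCat.overCat V).p := overCat_isFibGrpd _
  -- a point of `V`
  obtain ⟨w⟩ := hne
  obtain ⟨t, -⟩ := isSurjective_of_repByAlgSpWith v hvsurj w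
  obtain ⟨t', -⟩ := (map_toOverCat_bijective V).2 t
  let x₀ : ↥V.left := (AlgSp.Points.schemeEquiv V).symm ((spPts _).symm t')
  -- the residue field point of `V`
  let T : Over S := Over.mk (V.left.fromSpecResidueField x₀ ≫ V.hom)
  let τ : T ⟶ V := Over.homMk (V.left.fromSpecResidueField x₀) rfl
  have hsm := smooth_pullback_fst_of_chart_of_ff (FibCat.fpFst p (subIncl 𝒳 Q)) v hvsm
    (BasedFunctor.comp (AlgSt.overMap τ) v)
  set cT := overYonedaMor (BasedFunctor.comp (BasedFunctor.comp (AlgSt.overMap τ) v)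
    (FibCat.fpFst p (subIncl 𝒳 Q))) with hcT
  set c := overYonedaMor (BasedFunctor.comp v (FibCat.fpFst p (subIncl 𝒳 Q))) with hc'
  have hsub : Subsingleton ↥(Over.mk a).left :=
    inferInstanceAs (Subsingleton ↥(Spec (CommRingCat.of K)))
  have hint : IsIntegral (Over.mk a).left :=
    inferInstanceAs (IsIntegral (Spec (CommRingCat.of K)))
  have hflat : Flat cT.left := inferInstance
  have hsurjT : Surjective cT.left := by
    refine ⟨fun z => ⟨(IsLocalRing.closedPoint (V.left.residueField x₀) :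
      ↥(Spec (CommRingCat.of (V.left.residueField x₀)))), Subsingleton.elim _ _⟩⟩
  have hqc : QuasiCompact cT.left := by
    have : QuasiSeparatedSpace ↥(Over.mk a).left := by
      change QuasiSeparatedSpace ↥(Spec (CommRingCat.of K))
      infer_instance
    have : CompactSpace ↥T.left := by
      change CompactSpace ↥(Spec (CommRingCat.of (V.left.residueField x₀)))
      infer_instance
    infer_instance
  have hcsm : Smooth c.left :=
    MorphismProperty.of_pullback_fst_of_descendsAlong (P := @Smooth)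
      (Q := @Surjective ⊓ @Flat ⊓ @QuasiCompact) (f := cT.left) (g := c.left)
      ⟨⟨hsurjT, hflat⟩, hqc⟩ hsm
  have hcsurj : Surjective c.left := ⟨fun z => ⟨x₀, Subsingleton.elim _ _⟩⟩
  -- `Q` on `V`
  have hQV : ∀ d : Over V, Q (p.obj ((AlgSt.overMap c).obj d)) := by
    intro d
    have h1 : Q (p.obj (v.obj d).obj.fst) :=
      hc.of_iso (v.obj d).obj.iso.symm (v.obj d).obj.snd.property
    have e : (BasedFunctor.comp v (FibCat.fpFst p (subIncl 𝒳 Q))).obj d ≅
        (AlgSt.overMap c).obj d :=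
      appIso (overYonedaIso (BasedFunctor.comp v (FibCat.fpFst p (subIncl 𝒳 Q)))) d
    exact hc.of_iso (p.toFunctor.mapIso e) h1
  -- descend along the smooth cover `c`
  have hR : Sieve.generate (Presieve.singleton c) ∈ AlgSp.J S (Over.mk a) :=
    Groth.Agent.Lib.H69AlgSp.mem_J_of_fppf c _
      (Sieve.le_generate _ _ _ (Presieve.singleton.mk))
  have htop : Q (p.obj (overTop (Over.mk a))) := by
    refine mem_of_forall_mem_sieve h𝒳.isStack hc h𝒵.isStack p _ hR ?_
    rintro b' ⟨Y, g, k, ⟨⟩, hgk⟩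
    have e : (AlgSt.overMap c).obj (Over.mk g) ≅ b' := Over.isoMk (Iso.refl _) (by
      show 𝟙 _ ≫ b'.hom = g ≫ c
      rw [Category.id_comp, hgk])
    exact hc.of_iso (p.toFunctor.mapIso e) (hQV _)
  exact hQ (p.map (toOverTop _ b)) htop

/-- (Stacks 06MU) If the residual gerbe of `𝒳` at `x` exists, every field point in the class of `x`
factors through it. -/
theorem exists_factor_resGerbe (h𝒳 : IsAlgStack Scheme.fppfPrecoverage 𝒳) (x : Points 𝒳)
    (Q : 𝒳.obj → Prop) (hQ : Gerb.IsResGerbe Scheme.fppfPrecoverage 𝒳 x Q)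
    (K : Type u) [Field K] (a : Spec (CommRingCat.of K) ⟶ S)
    (p : FibCat.overCat (Over.mk a) ⥤ᵇ 𝒳)
    (hp : ∀ t : ↥(Over.mk a).left, Points.ofChart p t = x) :
    ∃ q : FibCat.overCat (Over.mk a) ⥤ᵇ fullSub 𝒳 Q,
      Nonempty (BasedFunctor.comp q (subIncl 𝒳 Q) ≅ p) := by
  obtain ⟨hc, h𝒵, -, -, ⟨z⟩, -, hzx⟩ := hQ
  haveI := h𝒳.isStack.1
  haveI := h𝒵.isStack.1
  haveI : FibCat.IsFibGrpd (FibCat.overCat (Over.mk a)).p := overCat_isFibGrpd _
  have hne : Nonempty (Points (FibCat.fp p (subIncl 𝒳 Q))) := by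
    let t₀ : ↥(Over.mk a).left :=
      (IsLocalRing.closedPoint K : ↥(Spec (CommRingCat.of K)))
    have h1 : Points.map p (Points.ofChart (BasedFunctor.id _) t₀) =
        Points.map (subIncl 𝒳 Q) z := by
      rw [← ofChart_eq_map, hp, hzx]
    obtain ⟨t, -, -⟩ := exists_points_fp inferInstance inferInstance inferInstance p
      (subIncl 𝒳 Q) _ z h1
    exact ⟨t⟩
  have hall := forall_obj_of_fieldPt h𝒳 hc h𝒵 K a p hne
  exact ⟨liftSub Q p hall, ⟨Iso.refl _⟩⟩

end Groth.Agent.Lib.AlgStResGerbe2
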