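import Groth.Agent.Lib.AlgStResGerbe2
import Groth.Agent.Lib.AlgStOnePt
import Groth.Agent.Lib.AlgStDiagDict2
import Groth.Agent.Lib.AlgStLocQ5

/-!
# Functoriality of residual gerbes (helper36)

ns `Groth.Agent.Lib.AlgStResGerbe3`

* `prop_left_of_repByAlgSpWith_overMap` : if `(Sch/V) ⟶ (Sch/T)` induced by `c : V ⟶ T` is
  representable with `LocP Q`, then `c` has `Q`.
* `forall_obj_of_fppf_fieldPt` : if `𝒵` has a flat, locally finitely presented, surjective field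
  point `z` and `g : 𝒵 ⟶ 𝒴` sends `z` into a strictly full substack `Q'` of `𝒴`, then `g` sends
  every object of `𝒵` into `Q'`.
* `forall_obj_resGerbe` : Stacks 06MV.
-/

set_option autoImplicit false
set_option linter.style.haveILetI false
set_option backward.isDefEq.respectTransparency false
set_option backward.isDefEq.respectTransparency.types false

namespace Groth.Agent.Lib.AlgStResGerbe3

open CategoryTheory Functor Opposite Limits AlgebraicGeometry Groth.Agent.Lib.FibGrpd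
  Groth.Agent.Lib.FpEquiv Groth.Agent.Lib.EquivOver Groth.Agent.Lib.AlgStFp
  Groth.Agent.Lib.AlgStRep Groth.Agent.Lib.AlgStSpTest Groth.Agent.Lib.AlgStEquiv
  Groth.Agent.Lib.AlgStAtlas Groth.Agent.Lib.AlgSpLocP
  Groth.Agent.Lib.PshFp Groth.Agent.Lib.SliceFp AlgSt
  Groth.Agent.Lib.H78AlgStPoints Groth.Agent.Lib.H78AlgStPointsFp Groth.Agent.Lib.AlgStPts
  Groth.Agent.Lib.AlgStPtsSurj Groth.Agent.Lib.AlgStPtsQC Groth.Agent.Lib.AlgStPtsQC2
  Groth.Agent.Lib.AlgStOpenSub Groth.Agent.Lib.AlgStClosedSub Groth.Agent.Lib.FibYoneda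
  Groth.Agent.Lib.AlgStEquivRep

universe u

variable {S : Scheme.{u}}

/-- If the functor of a morphism of schemes is representable with `LocP Q`, the morphism has
`Q`. -/
theorem prop_left_of_repByAlgSpWith_overMap {Q : MorphismProperty Scheme.{u}}
    (hQ : AtlasClass (AlgSp.LocP (S := S) Q)) {V T : Over S} (c : V ⟶ T)
    (h : RepByAlgSpWith (AlgSp.LocP Q) (AlgSt.overMap c)) : Q c.left := by
  rw [overMap_eq] at h
  have h1 := (repByAlgSpWith_equiv_comp_iff _ (ofOverCat V) (ofOverCat_isEquivOver V) _).2 h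
  have h2 := (repByAlgSpWith_comp_equiv_iff _ _ (toOverCat T) (toOverCat_isEquivOver T)).1 h1
  exact AlgSp.locP_yon_map (Groth.Agent.Lib.AlgStDiagDict2.prop_of_repByAlgSpWith_ofSpMap _
    hQ.isoInv (Groth.Agent.Lib.AlgStSpTest.schemeLocal_of_atlasLocal hQ.atlasLocal)
    (AlgSp.IsAlgSpace.yon_obj V) (AlgSp.IsAlgSpace.yon_obj T) _ h2)

variable {𝒵 𝒴 : AlgSt.Cat S}

/-- If `𝒵` has a flat, locally finitely presented, surjective field point `z` and `g : 𝒵 ⟶ 𝒴` sends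
`z` into a strictly full substack `Q'` of `𝒴`, then `g` sends every object of `𝒵` into `Q'`. -/
theorem forall_obj_of_fppf_fieldPt (h𝒵 : IsAlgStack Scheme.fppfPrecoverage 𝒵)
    (h𝒴 : IsAlgStack Scheme.fppfPrecoverage 𝒴) (g : 𝒵 ⥤ᵇ 𝒴) {Q' : 𝒴.obj → Prop}
    (hc' : ObjectProperty.IsClosedUnderIsomorphisms Q')
    (h𝒵' : IsAlgStack Scheme.fppfPrecoverage (fullSub 𝒴 Q'))
    (k : Type u) [Field k] (a : Spec (CommRingCat.of k) ⟶ S)
    (z : FibCat.overCat (Over.mk a) ⥤ᵇ 𝒵)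
    (hzp : RepByAlgSpWith (AlgSp.LocP @LocallyOfFinitePresentation) z)
    (hzs : RepByAlgSpWith AlgSp.IsSurjectiveMor z)
    (hzf : RepByAlgSpWith (AlgSp.LocP @Flat) z)
    (hall : ∀ b : Over (Over.mk a), Q' (g.obj (z.obj b))) (ζ : 𝒵.obj) : Q' (g.obj ζ) := by
  haveI := h𝒵.isStack.1
  haveI := h𝒴.isStack.1
  have hQ' : PbStable Q' := pbStable_of_isFibGrpd hc' h𝒵'.isStack.1
  haveI : 𝒵.p.IsFibered := isFibered 𝒵.p
  let x : 𝒵.p.Fiber (𝒵.p.obj ζ) := ⟨ζ, rfl⟩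
  haveI : FibCat.IsFibGrpd (FibCat.overCat (𝒵.p.obj ζ)).p := overCat_isFibGrpd _
  haveI : FibCat.IsFibGrpd (FibCat.overCat (Over.mk a)).p := overCat_isFibGrpd _
  have h𝒲 : IsAlgStack Scheme.fppfPrecoverage (FibCat.fp (pbFunctor x) z) :=
    Groth.Agent.Lib.AlgStFpStack.isAlgStack_fp h𝒵.isStack h𝒵.diag (isAlgStack_overCat _)
      (isAlgStack_overCat _) (pbFunctor x) z
  obtain ⟨V, v, hvsm, hvsurj⟩ := h𝒲.atlas
  haveI : FibCat.IsFibGrpd (FibCat.fp (pbFunctor x) z).p := h𝒲.isStack.1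
  haveI : FibCat.IsFibGrpd (FibCat.overCat V).p := overCat_isFibGrpd _
  set c := overYonedaMor (BasedFunctor.comp v (FibCat.fpFst (pbFunctor x) z)) with hc
  have hiso := overYonedaIso (BasedFunctor.comp v (FibCat.fpFst (pbFunctor x) z))
  have key : ∀ {Q : MorphismProperty Scheme.{u}} (_ : AtlasClass (AlgSp.LocP (S := S) Q)),
      RepByAlgSpWith (AlgSp.LocP Q) v → RepByAlgSpWith (AlgSp.LocP Q) z → Q c.left := by
    intro Q hQ hv hz
    refine prop_left_of_repByAlgSpWith_overMap hQ c ?_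
    refine (Groth.Agent.Lib.AlgStDiag3.repByAlgSpWith_congr _ hiso.symm).1 ?_
    exact Groth.Agent.Lib.AlgStLocQ.repByAlgSpWith_comp_atlasClass _ hQ v _ hv
      (repByAlgSpWith_fpFst _ z (pbFunctor x) hz)
  have hvfl := Groth.Agent.Lib.AlgStPtsMain.flatLfp_repByAlgSpWith_of_smooth v hvsm
  haveI : Flat c.left := key atlasClass_locP_flat hvfl.1 hzf
  haveI : LocallyOfFinitePresentation c.left := key atlasClass_locP_lfp hvfl.2 hzp
  haveI : Surjective c.left := by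
    refine ⟨Groth.Agent.Lib.AlgStLocQ.surjective_left_of_isSurjective_overMap c ?_⟩
    have h1 : RepByAlgSpWith AlgSp.IsSurjectiveMor
        (BasedFunctor.comp v (FibCat.fpFst (pbFunctor x) z)) :=
      Groth.Agent.Lib.AlgStLocQ.repByAlgSpWith_comp_atlasClass _ atlasClass_isSurjectiveMor v _
        hvsurj (repByAlgSpWith_fpFst _ z (pbFunctor x) hzs)
    have h2 : RepByAlgSpWith AlgSp.IsSurjectiveMor (AlgSt.overMap c) :=
      (Groth.Agent.Lib.AlgStDiag3.repByAlgSpWith_congr _ hiso.symm).1 h1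
    exact isSurjective_of_repByAlgSpWith _ h2
  -- `Q'` on `V`
  have hQV : ∀ d : Over V, Q' (g.obj ((pbFunctor x).obj ((AlgSt.overMap c).obj d))) := by
    intro d
    have h1 : Q' (g.obj ((pbFunctor x).obj (v.obj d).obj.fst)) :=
      hc'.of_iso (g.toFunctor.mapIso (v.obj d).obj.iso).symm (hall (v.obj d).obj.snd)
    have e : (BasedFunctor.comp v (FibCat.fpFst (pbFunctor x) z)).obj d ≅
        (AlgSt.overMap c).obj d := appIso hiso d
    exact hc'.of_iso (g.toFunctor.mapIso ((pbFunctor x).toFunctor.mapIso e)) h1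
  have hR : Sieve.generate (Presieve.singleton c) ∈ AlgSp.J S (𝒵.p.obj ζ) :=
    Groth.Agent.Lib.H69AlgSp.mem_J_of_fppf c _
      (Sieve.le_generate _ _ _ (Presieve.singleton.mk))
  have htop : Q' ((BasedFunctor.comp (pbFunctor x) g).obj (overTop (𝒵.p.obj ζ))) := by
    refine mem_of_forall_mem_sieve h𝒴.isStack hc' h𝒵'.isStack
      (BasedFunctor.comp (pbFunctor x) g) _ hR ?_
    rintro b' ⟨Y, g', k', ⟨⟩, hgk⟩
    have e : (AlgSt.overMap c).obj (Over.mk g') ≅ b' := Over.isoMk (Iso.refl _) (by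
      show 𝟙 _ ≫ b'.hom = g' ≫ c
      rw [Category.id_comp, hgk])
    exact hc'.of_iso (g.toFunctor.mapIso ((pbFunctor x).toFunctor.mapIso e)) (hQV _)
  exact hQ' (g.map (pbMapInv x)) htop

/-- (Stacks 06MV) A morphism of algebraic stacks maps the residual gerbe at `x` into the residual
gerbe at the image of `x`, when both exist. -/
theorem forall_obj_resGerbe {𝒳 : AlgSt.Cat S} (_h𝒳 : IsAlgStack Scheme.fppfPrecoverage 𝒳)
    (h𝒴 : IsAlgStack Scheme.fppfPrecoverage 𝒴) (f : 𝒳 ⥤ᵇ 𝒴) (x : Points 𝒳)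
    (Q : 𝒳.obj → Prop) (hQ : Gerb.IsResGerbe Scheme.fppfPrecoverage 𝒳 x Q)
    (Q' : 𝒴.obj → Prop) (hQ' : Gerb.IsResGerbe Scheme.fppfPrecoverage 𝒴 (Points.map f x) Q')
    (ξ : 𝒳.obj) (hξ : Q ξ) : Q' (f.obj ξ) := by
  obtain ⟨hc, h𝒵, hred, hN, hne, hsub, hzx⟩ := hQ
  have hQ'' := hQ'
  obtain ⟨hc', h𝒵', -, -, -, -, -⟩ := hQ'
  haveI := hne
  haveI := hsub
  obtain ⟨k, hk, a, z, hs, hf⟩ := Groth.Agent.Lib.AlgStOnePt.exists_flat_fieldPt_of_reduced h𝒵 hred
  obtain ⟨k', hk', a', z', -, h2, h3, h4⟩ :=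
    Groth.Agent.Lib.AlgStOnePt.exists_lft_fieldPt h𝒵 k a z hs hf
  have hp := h4 hN
  have hpt : ∀ t : ↥(Over.mk a').left, Points.ofChart
      (BasedFunctor.comp z' (BasedFunctor.comp (subIncl 𝒳 Q) f)) t = Points.map f x := by
    intro t
    rw [ofChart_eq_map, map_comp, map_comp, hzx]
  obtain ⟨q, ⟨γ⟩⟩ := Groth.Agent.Lib.AlgStResGerbe2.exists_factor_resGerbe h𝒴 _ Q' hQ'' k' a'
    (BasedFunctor.comp z' (BasedFunctor.comp (subIncl 𝒳 Q) f)) hpt
  have hall : ∀ b : Over (Over.mk a'),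
      Q' ((BasedFunctor.comp (subIncl 𝒳 Q) f).obj (z'.obj b)) :=
    fun b => hc'.of_iso (appIso γ b) (q.obj b).property
  exact forall_obj_of_fppf_fieldPt h𝒵 h𝒴 (BasedFunctor.comp (subIncl 𝒳 Q) f) hc' h𝒵' k' a' z' hp h2
    h3 hall ⟨ξ, hξ⟩

end Groth.Agent.Lib.AlgStResGerbe3
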