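import Groth.Agent.Lib.AlgStPtsInj
import Groth.Agent.Lib.AlgStDiag
import Groth.Agent.Lib.AlgStPtsQC2

/-!
# Universally injective morphisms and the diagonal (helper36)

ns `Groth.Agent.Lib.AlgStUnivInj`

* `injective_of_isSurjective_diag`, `isSurjective_diag_fpFst`
* `isUnivInjective_of_isSurjective_diag`, `isSurjective_diag_of_isUnivInjective` (= S12831)
-/

set_option autoImplicit false
set_option linter.style.haveILetI false
set_option backward.isDefEq.respectTransparency false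
set_option backward.isDefEq.respectTransparency.types false

namespace Groth.Agent.Lib.AlgStUnivInj

open CategoryTheory CategoryTheory.Limits AlgebraicGeometry Opposite AlgSt
  Groth.Agent.Lib.H78AlgStPoints Groth.Agent.Lib.H78AlgStPointsFp Groth.Agent.Lib.AlgStPts
  Groth.Agent.Lib.AlgStPtsTop Groth.Agent.Lib.AlgStPtsSurj Groth.Agent.Lib.AlgStPtsMain
  Groth.Agent.Lib.AlgStPtsQC Groth.Agent.Lib.AlgStPtsQC2
  Groth.Agent.Lib.FibGrpd Groth.Agent.Lib.AlgStFp Groth.Agent.Lib.AlgStEquiv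
  Groth.Agent.Lib.FpEquiv Groth.Agent.Lib.FibYoneda Groth.Agent.Lib.AlgStDiag

universe u

variable {S : Scheme.{u}} {𝒳 𝒴 𝒵 : AlgSt.Cat S}

/-- If the diagonal is surjective on points then `f` is injective on points. -/
theorem injective_of_isSurjective_diag [FibCat.IsFibGrpd 𝒳.p] [FibCat.IsFibGrpd 𝒴.p]
    (f : 𝒳 ⥤ᵇ 𝒴) (h : IsSurjective (FibCat.diag f)) : Function.Injective (Points.map f) := by
  intro ξ₁ ξ₂ hξ
  obtain ⟨τ, h1, h2⟩ := exists_points_fp inferInstance inferInstance inferInstance f f ξ₁ ξ₂ hξ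
  obtain ⟨η, rfl⟩ := h τ
  rw [← h1, ← h2, ← map_comp, ← map_comp]
  rfl

/-- Surjectivity of the diagonal on points is stable under base change. -/
theorem isSurjective_diag_fpFst [FibCat.IsFibGrpd 𝒳.p] [FibCat.IsFibGrpd 𝒴.p]
    [FibCat.IsFibGrpd 𝒵.p] (f : 𝒳 ⥤ᵇ 𝒴) (g : 𝒵 ⥤ᵇ 𝒴) (h : IsSurjective (FibCat.diag f)) :
    IsSurjective (FibCat.diag (FibCat.fpFst g f)) := by
  haveI := fp_isFibGrpd g f
  haveI := fp_isFibGrpd f f
  haveI := fp_isFibGrpd (FibCat.fpFst g f) (FibCat.fpFst g f)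
  have h1 : IsSurjective (FibCat.fpFst (diagPi f g) (FibCat.diag f)) :=
    isSurjective_fpFst inferInstance inferInstance inferInstance (diagPi f g) (FibCat.diag f) h
  intro τ
  obtain ⟨σ, rfl⟩ := h1 τ
  obtain ⟨ρ, rfl⟩ := (map_bijective_of_isEquivOver (diagLift_isEquivOver f g)).2 σ
  exact ⟨ρ, by rw [← map_comp]; rfl⟩

theorem isUnivInjective_of_isSurjective_diag (h𝒳 : IsAlgStack Scheme.fppfPrecoverage 𝒳)
    (h𝒴 : IsAlgStack Scheme.fppfPrecoverage 𝒴) (f : 𝒳 ⥤ᵇ 𝒴)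
    (h : IsSurjective (FibCat.diag f)) : IsUnivInjective Scheme.fppfPrecoverage f := by
  intro 𝒵 h𝒵 g
  haveI := h𝒳.isStack.1
  haveI := h𝒴.isStack.1
  haveI := h𝒵.isStack.1
  haveI := fp_isFibGrpd g f
  exact injective_of_isSurjective_diag _ (isSurjective_diag_fpFst f g h)


theorem isSurjective_diag_of_isUnivInjective (h𝒳 : IsAlgStack Scheme.fppfPrecoverage 𝒳)
    (h𝒴 : IsAlgStack Scheme.fppfPrecoverage 𝒴) (f : 𝒳 ⥤ᵇ 𝒴)
    (h : IsUnivInjective Scheme.fppfPrecoverage f) : IsSurjective (FibCat.diag f) := by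
  haveI := h𝒳.isStack.1
  haveI := h𝒴.isStack.1
  haveI : 𝒴.p.IsFibered := isFibered 𝒴.p
  intro τ
  obtain ⟨t, rfl⟩ := Points.mk_surjective τ
  let a₁ : 𝒳.obj := t.obj.obj.fst
  let a₂ : 𝒳.obj := t.obj.obj.snd
  let β : f.obj a₁ ≅ f.obj a₂ := t.obj.obj.iso
  have hβ : 𝒴.p.IsHomLift (𝟙 (𝒳.p.obj a₁)) β.hom := t.obj.property
  let T : Over S := 𝒳.p.obj a₁
  let y₀ : 𝒴.p.Fiber T := ⟨f.obj a₁, f.w_obj a₁⟩
  let g : FibCat.overCat T ⥤ᵇ 𝒴 := pbFunctor y₀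
  let φ₁ : g.obj (overTop T) ≅ f.obj a₁ := asIso (pbMap y₀ (overTop T))
  haveI hφ₁ : 𝒴.p.IsHomLift (𝟙 T) φ₁.hom := pbMap_top_isHomLift y₀
  let P₁ : (FibCat.fp g f).obj := ⟨{ fst := overTop T, snd := a₁, iso := φ₁ }, hφ₁⟩
  let P₂ : (FibCat.fp g f).obj := ⟨{ fst := overTop T, snd := a₂, iso := φ₁ ≪≫ β }, by
    haveI := hβ
    have h1 : 𝒴.p.IsHomLift (𝟙 T ≫ 𝟙 T) (φ₁.hom ≫ β.hom) := inferInstance
    rw [Category.comp_id] at h1
    exact h1⟩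
  let p₁ : FPt (FibCat.fp g f) := ⟨t.K, t.str, P₁, t.lies⟩
  let p₂ : FPt (FibCat.fp g f) := ⟨t.K, t.str, P₂, t.lies⟩
  have hinj := h (FibCat.overCat T) (isAlgStack_overCat T) g
  have e12 : Points.mk p₁ = Points.mk p₂ :=
    hinj (rfl : Points.map (FibCat.fpFst g f) (Points.mk p₁) =
      Points.map (FibCat.fpFst g f) (Points.mk p₂))
  haveI := fp_isFibGrpd g f
  obtain ⟨r, m₁, m₂, -⟩ := (mk_eq_mk_iff inferInstance).1 e12
  let x : 𝒳.obj := r.obj.obj.snd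
  let u₁ : x ⟶ a₁ := m₁.hom.snd
  let u₂ : x ⟶ a₂ := m₂.hom.snd
  have w₁ : g.map m₁.hom.fst ≫ φ₁.hom = r.obj.obj.iso.hom ≫ f.map u₁ := m₁.hom.w
  have w₂ : g.map m₂.hom.fst ≫ (φ₁.hom ≫ β.hom) = r.obj.obj.iso.hom ≫ f.map u₂ := m₂.hom.w
  have hfst : m₁.hom.fst = m₂.hom.fst := by
    apply Over.OverMorphism.ext
    have e1 := Over.w m₁.hom.fst
    have e2 := Over.w m₂.hom.fst
    have e1' : m₁.hom.fst.left ≫ 𝟙 T = m₂.hom.fst.left ≫ 𝟙 T := e1.trans e2.symm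
    exact (Category.comp_id _).symm.trans (e1'.trans (Category.comp_id _))
  have key : f.map u₁ ≫ β.hom = f.map u₂ := by
    rw [← cancel_epi r.obj.obj.iso.hom, ← Category.assoc, ← w₁, ← w₂, hfst, Category.assoc]
  let q : FPt 𝒳 := ⟨r.K, r.str, x, (fp_snd_proj g f r.obj).trans r.lies⟩
  refine ⟨Points.mk q, Points.sound ⟨q.map (FibCat.diag f), 𝟙 _, fpHomMk u₁ u₂ ?_, trivial⟩⟩
  show f.map u₁ ≫ β.hom = 𝟙 _ ≫ f.map u₂
  rw [Category.id_comp, key]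

/-- = S12831 -/
theorem isUnivInjective_iff_isSurjective_diag (h𝒳 : IsAlgStack Scheme.fppfPrecoverage 𝒳)
    (h𝒴 : IsAlgStack Scheme.fppfPrecoverage 𝒴) (f : 𝒳 ⥤ᵇ 𝒴) :
    IsUnivInjective Scheme.fppfPrecoverage f ↔ IsSurjective (FibCat.diag f) :=
  ⟨isSurjective_diag_of_isUnivInjective h𝒳 h𝒴 f, isUnivInjective_of_isSurjective_diag h𝒳 h𝒴 f⟩

end Groth.Agent.Lib.AlgStUnivInj
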