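import Groth.Agent.Lib.AlgStUnivInj
import Groth.Agent.Lib.AlgStDiagLft
import Groth.Agent.Lib.AlgSpGeomPt
import Groth.Agent.Lib.AlgStCover
import Groth.Agent.Lib.AlgStAtlas

/-!
# Surjectivity of the diagonal via lifting 2-arrows at geometric points (helper36)

ns `Groth.Agent.Lib.AlgStUnivInj2`

* `isSurjective_diag_of_forall_lift` : if 2-arrows `f x₁ ⟶ f x₂` over algebraically closed fields
  lift, the diagonal is surjective on points (only needs fibred in groupoids).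
* `exists_lift_of_isSurjective_diag` : for algebraic stacks, the converse (uses that the diagonal is
  representable, locally of finite type, and that geometric points lift along surjective
  morphisms locally of finite type of algebraic spaces).
-/

set_option autoImplicit false
set_option linter.style.haveILetI false
set_option backward.isDefEq.respectTransparency false
set_option backward.isDefEq.respectTransparency.types false

namespace Groth.Agent.Lib.AlgStUnivInj2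

open CategoryTheory CategoryTheory.Limits AlgebraicGeometry Opposite AlgSt
  Groth.Agent.Lib.H78AlgStPoints Groth.Agent.Lib.H78AlgStPointsFp Groth.Agent.Lib.AlgStPts
  Groth.Agent.Lib.AlgStPtsTop Groth.Agent.Lib.AlgStPtsSurj Groth.Agent.Lib.AlgStPtsMain
  Groth.Agent.Lib.AlgStPtsQC Groth.Agent.Lib.AlgStPtsQC2
  Groth.Agent.Lib.FibGrpd Groth.Agent.Lib.AlgStFp Groth.Agent.Lib.AlgStEquiv
  Groth.Agent.Lib.FpEquiv Groth.Agent.Lib.FibYoneda Groth.Agent.Lib.AlgStDiag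

universe u

variable {S : Scheme.{u}} {𝒳 𝒴 : AlgSt.Cat S}

theorem isHomLift_id_of_eq {R R' : Over S} (h : R = R') {a b : 𝒳.obj} (φ : a ⟶ b)
    (H : 𝒳.p.IsHomLift (𝟙 R) φ) : 𝒳.p.IsHomLift (𝟙 R') φ := by
  subst h; exact H

/-- If 2-arrows between images of geometric points lift, the diagonal is surjective. -/
theorem isSurjective_diag_of_forall_lift [FibCat.IsFibGrpd 𝒳.p] [FibCat.IsFibGrpd 𝒴.p]
    (f : 𝒳 ⥤ᵇ 𝒴)
    (H : ∀ (k : Type u) [Field k] [IsAlgClosed k] (s : Spec (CommRingCat.of k) ⟶ S)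
        (a₁ a₂ : 𝒳.obj)
        (_ : 𝒳.p.obj a₁ = Over.mk s) (_ : 𝒳.p.obj a₂ = Over.mk s) (β : f.obj a₁ ⟶ f.obj a₂),
        𝒴.p.IsHomLift (𝟙 (Over.mk s)) β →
          ∃ α : a₁ ⟶ a₂, 𝒳.p.IsHomLift (𝟙 (Over.mk s)) α ∧ f.map α = β) :
    IsSurjective (FibCat.diag f) := by
  haveI := fp_isFibGrpd f f
  intro τ
  obtain ⟨t, rfl⟩ := Points.mk_surjective τ
  let Ω := AlgebraicClosure t.K
  let c : Spec (CommRingCat.of Ω) ⟶ Spec (CommRingCat.of t.K) :=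
    Spec.map (CommRingCat.ofHom (algebraMap t.K Ω))
  let str' : Spec (CommRingCat.of Ω) ⟶ S := c ≫ t.str
  let cO : Over.mk str' ⟶ Over.mk t.str := Over.homMk c rfl
  obtain ⟨y, m, hm⟩ := FibCat.IsFibGrpd.exists_lift (p := (FibCat.fp f f).p) (x := t.obj)
    (cO ≫ eqToHom t.lies.symm)
  have hy : (FibCat.fp f f).p.obj y = Over.mk str' :=
    IsHomLift.domain_eq (FibCat.fp f f).p (cO ≫ eqToHom t.lies.symm) m
  have h1 : 𝒳.p.obj y.obj.fst = Over.mk str' := hy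
  have h2 : 𝒳.p.obj y.obj.snd = Over.mk str' := (fp_snd_proj f f y).trans hy
  have hβ : 𝒴.p.IsHomLift (𝟙 (Over.mk str')) y.obj.iso.hom :=
    isHomLift_id_of_eq h1 _ y.property
  obtain ⟨α, hα, hfα⟩ := H Ω str' y.obj.fst y.obj.snd h1 h2 y.obj.iso.hom hβ
  let q : FPt 𝒳 := ⟨Ω, str', y.obj.fst, h1⟩
  refine ⟨Points.mk q, Points.sound ⟨q.map (FibCat.diag f), 𝟙 _,
    fpHomMk (z := (FibCat.diag f).obj y.obj.fst) (z' := y) (𝟙 _) α ?_ ≫ m, trivial⟩⟩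
  show f.map (𝟙 _) ≫ y.obj.iso.hom = 𝟙 _ ≫ f.map α
  rw [f.map_id, Category.id_comp, Category.id_comp, hfα]

/-- For algebraic stacks with surjective diagonal, 2-arrows between images of geometric points
lift. -/
theorem exists_lift_of_isSurjective_diag (h𝒳 : IsAlgStack Scheme.fppfPrecoverage 𝒳)
    (h𝒴 : IsAlgStack Scheme.fppfPrecoverage 𝒴) (f : 𝒳 ⥤ᵇ 𝒴)
    (H : IsSurjective (FibCat.diag f))
    (k : Type u) [Field k] [IsAlgClosed k] (s : Spec (CommRingCat.of k) ⟶ S)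
    (a₁ a₂ : 𝒳.obj) (h₁ : 𝒳.p.obj a₁ = Over.mk s) (h₂ : 𝒳.p.obj a₂ = Over.mk s)
    (β : f.obj a₁ ⟶ f.obj a₂) (hβ : 𝒴.p.IsHomLift (𝟙 (Over.mk s)) β) :
    ∃ α : a₁ ⟶ a₂, 𝒳.p.IsHomLift (𝟙 (Over.mk s)) α ∧ f.map α = β := by
  haveI := h𝒳.isStack.1
  haveI := h𝒴.isStack.1
  haveI := fp_isFibGrpd f f
  haveI : (FibCat.fp f f).p.IsFibered := isFibered (FibCat.fp f f).p
  let T : Over S := Over.mk s
  haveI : IsIso β := isIso_of_isHomLift_isIso 𝒴.p (𝟙 T) β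
  let t₀ : (FibCat.fp f f).obj := ⟨{ fst := a₁, snd := a₂, iso := asIso β },
    isHomLift_id_of_eq h₁.symm _ hβ⟩
  have ht₀ : (FibCat.fp f f).p.obj t₀ = T := h₁
  let x₀ : (FibCat.fp f f).p.Fiber T := ⟨t₀, ht₀⟩
  let w : FibCat.overCat T ⥤ᵇ FibCat.fp f f := pbFunctor x₀
  have hlft := Groth.Agent.Lib.AlgStDiagLft.locP_lft_diag h𝒳 h𝒴 f
  have hrep : RepByAlgSpWith (fun _ _ a => AlgSp.LocP @LocallyOfFiniteType a ∧
      AlgSp.IsSurjectiveMor a) (FibCat.diag f) :=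
    (Groth.Agent.Lib.AlgStCover.repByAlgSpWith_and_iff _ _
      Groth.Agent.Lib.AlgStAtlas.isoInv_isSurjectiveMor _).2
      ⟨hlft, repByAlgSpWith_isSurjectiveMor_of_isSurjective (FibCat.diag f)
        (repByAlgSp1_of_repByAlgSpWith _ hlft) H⟩
  obtain ⟨I, e, he, hm1, hm2⟩ := hrep T w
  set Φ : ofSp I.obj ⥤ᵇ FibCat.overCat T :=
    BasedFunctor.comp e (FibCat.fpFst w (FibCat.diag f)) with hΦ
  obtain ⟨σ, hσ⟩ := Groth.Agent.Lib.AlgSpGeomPt.exists_lift_of_isSurjectiveMor I.property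
    (AlgSp.IsAlgSpace.yon_obj T) (spMapOfOver Φ) hm1 hm2 k s (𝟙 _)
  let ξ : (ofSp I.obj).obj := ⟨T, σ.hom.app (op T) ⟨𝟙 T⟩⟩
  have hsec : secHom Φ ξ = 𝟙 T :=
    congrArg (fun t : (AlgSp.yon S).obj T ⟶ (AlgSp.yon S).obj T =>
      (t.hom.app (op T) ⟨𝟙 T⟩).down) hσ
  have hw : ((Φ.obj ξ : Over T)).left = T := Φ.w_obj ξ
  have hhom : ((Φ.obj ξ : Over T)).hom = eqToHom hw := by
    have h3 : eqToHom hw.symm ≫ ((Φ.obj ξ : Over T)).hom = 𝟙 T := hsec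
    rw [← cancel_epi (eqToHom hw.symm), h3, eqToHom_trans, eqToHom_refl]
  let z : (FibCat.fp w (FibCat.diag f)).obj := e.obj ξ
  let n : w.obj (Φ.obj ξ) ⟶ t₀ := pbMap x₀ (Φ.obj ξ)
  haveI hn : (FibCat.fp f f).p.IsHomLift ((Φ.obj ξ : Over T)).hom n :=
    (pbMap_isStronglyCartesian x₀ (Φ.obj ξ)).toIsHomLift
  haveI : IsIso ((Φ.obj ξ : Over T)).hom := by rw [hhom]; infer_instance
  haveI : IsIso n := isIso_of_isHomLift_isIso (FibCat.fp f f).p ((Φ.obj ξ : Over T)).hom n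
  let κ : t₀ ≅ (FibCat.diag f).obj z.obj.snd := (asIso n).symm ≪≫ z.obj.iso
  let e₁ : a₁ ≅ z.obj.snd := fpIsoFst κ
  let e₂ : a₂ ≅ z.obj.snd := fpIsoSnd κ
  let ψ : (FibCat.fp f f).p.obj t₀ ≅ (FibCat.fp f f).p.obj ((FibCat.diag f).obj z.obj.snd) :=
    (FibCat.fp f f).p.mapIso κ
  haveI l₁ : 𝒳.p.IsHomLift ψ.hom e₁.hom := by
    show 𝒳.p.IsHomLift (𝒳.p.map κ.hom.hom.fst) κ.hom.hom.fst
    infer_instance
  haveI l₂ : 𝒳.p.IsHomLift ψ.hom e₂.hom := FibCat.fp_isHomLift_snd f f κ.hom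
  haveI l₃ : 𝒳.p.IsHomLift ψ.inv e₂.inv := IsHomLift.inv_lift_inv 𝒳.p ψ e₂
  have l₄ : 𝒳.p.IsHomLift (ψ.hom ≫ ψ.inv) (e₁.hom ≫ e₂.inv) := inferInstance
  rw [Iso.hom_inv_id] at l₄
  refine ⟨e₁.hom ≫ e₂.inv, isHomLift_id_of_eq ht₀ _ l₄, ?_⟩
  have hw' : f.map e₁.hom ≫ 𝟙 _ = β ≫ f.map e₂.hom := κ.hom.hom.w
  rw [Category.comp_id] at hw'
  rw [f.map_comp, hw', Category.assoc, ← f.map_comp, Iso.hom_inv_id, f.map_id, Category.comp_id]

/-- = S12832 -/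
theorem isSurjective_diag_iff_forall_lift (h𝒳 : IsAlgStack Scheme.fppfPrecoverage 𝒳)
    (h𝒴 : IsAlgStack Scheme.fppfPrecoverage 𝒴) (f : 𝒳 ⥤ᵇ 𝒴) :
    IsSurjective (FibCat.diag f) ↔
      ∀ (k : Type u) [Field k] [IsAlgClosed k] (s : Spec (CommRingCat.of k) ⟶ S)
        (a₁ a₂ : 𝒳.obj)
        (_ : 𝒳.p.obj a₁ = Over.mk s) (_ : 𝒳.p.obj a₂ = Over.mk s) (β : f.obj a₁ ⟶ f.obj a₂),
        𝒴.p.IsHomLift (𝟙 (Over.mk s)) β →
          ∃ α : a₁ ⟶ a₂, 𝒳.p.IsHomLift (𝟙 (Over.mk s)) α ∧ f.map α = β := by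
  haveI := h𝒳.isStack.1
  haveI := h𝒴.isStack.1
  exact ⟨fun H k _ _ s a₁ a₂ h₁ h₂ β hβ =>
    exists_lift_of_isSurjective_diag h𝒳 h𝒴 f H k s a₁ a₂ h₁ h₂ β hβ,
    isSurjective_diag_of_forall_lift f⟩

end Groth.Agent.Lib.AlgStUnivInj2
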