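import Mathlib
import Groth.Agent.Lib.AlgStSmoothLocus2

/-!
# Valuation-ring squares for morphisms of algebraic stacks (helper36)

ns `Groth.Agent.Lib.AlgStValSquare`

* `exists_valuationRing_of_specializes` : a specialization `g x ⤳ y` is witnessed by a valuation
  ring.
* `exists_specializes_of_mem_closure_range` : for affine schemes, points of the closure of the image
  are specializations of points of the image.
-/

set_option autoImplicit false
set_option linter.style.haveILetI false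

namespace Groth.Agent.Lib.AlgStValSquare

open CategoryTheory CategoryTheory.Limits AlgebraicGeometry IsLocalRing AlgSt
  Groth.Agent.Lib.H78AlgStPoints Groth.Agent.Lib.H78AlgStPointsFp Groth.Agent.Lib.AlgStPts
  Groth.Agent.Lib.AlgStPtsTop Groth.Agent.Lib.AlgStPtsSurj Groth.Agent.Lib.AlgStPtsMain
  Groth.Agent.Lib.FibGrpd Groth.Agent.Lib.AlgStFp Groth.Agent.Lib.AlgStEquiv
  Groth.Agent.Lib.FpEquiv Groth.Agent.Lib.FibYoneda Groth.Agent.Lib.AlgStOpenSub
  Groth.Agent.Lib.AlgStPtsQC Groth.Agent.Lib.AlgStPtsQC2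
  Groth.Agent.Lib.AlgStLocQ Groth.Agent.Lib.AlgStAtlas Groth.Agent.Lib.AlgStSmoothLocus

universe u

/-! ### Schemes -/

set_option backward.isDefEq.respectTransparency.types false in
/-- A specialization `g x ⤳ y` is witnessed by a valuation ring with fraction field mapping to
`x` and closed point mapping to `y`. -/
theorem exists_valuationRing_of_specializes {X Y : Scheme.{u}} (g : X ⟶ Y) (x : X) (y : Y)
    (h : g x ⤳ y) :
    ∃ (A : Type u) (_ : CommRing A) (_ : IsDomain A) (_ : ValuationRing A)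
      (iA : Spec (CommRingCat.of A) ⟶ Y) (jK : Spec (CommRingCat.of (FractionRing A)) ⟶ X),
      jK ≫ g = Spec.map (CommRingCat.ofHom (algebraMap A (FractionRing A))) ≫ iA ∧
      iA (closedPoint A) = y ∧ Set.range jK = {x} := by
  let ψ : Y.presheaf.stalk y ⟶ X.residueField x :=
    Y.presheaf.stalkSpecializes h ≫ g.stalkMap x ≫ X.residue x
  obtain ⟨A, hA, hA_local⟩ := exists_factor_valuationRing ψ.hom
  let ψA : Y.presheaf.stalk y ⟶ .of A := CommRingCat.ofHom (ψ.hom.codRestrict _ hA)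
  have w : X.fromSpecResidueField x ≫ g =
      Spec.map (CommRingCat.ofHom (algebraMap A (X.residueField x))) ≫
        Spec.map ψA ≫ Y.fromSpecStalk y := by
    rw [Scheme.fromSpecResidueField, Category.assoc, ← Scheme.SpecMap_stalkMap_fromSpecStalk,
      ← Scheme.SpecMap_stalkSpecializes_fromSpecStalk h]
    simp_rw [← Spec.map_comp_assoc]
    rfl
  let e : FractionRing A ≃ₐ[A] X.residueField x := FractionRing.algEquiv A (X.residueField x)
  let e' : X.residueField x →+* FractionRing A := (e.symm : X.residueField x →+* FractionRing A)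
  have he' : e'.comp (algebraMap A (X.residueField x)) = algebraMap A (FractionRing A) := by
    ext a
    exact e.symm.commutes a
  refine ⟨A, inferInstance, inferInstance, inferInstance, Spec.map ψA ≫ Y.fromSpecStalk y,
    Spec.map (CommRingCat.ofHom e') ≫ X.fromSpecResidueField x, ?_, ?_, ?_⟩
  · rw [Category.assoc, w, ← Category.assoc, ← Spec.map_comp, ← CommRingCat.ofHom_comp, he']
  · haveI : IsLocalHom ψA.hom := hA_local
    rw [Scheme.Hom.comp_apply, Spec_closedPoint, Scheme.fromSpecStalk_closedPoint]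
  · ext z
    simp only [Set.mem_range, Set.mem_singleton_iff]
    constructor
    · rintro ⟨s, rfl⟩
      rw [Scheme.Hom.comp_apply]
      exact X.fromSpecResidueField_apply x _
    · intro hz
      refine ⟨closedPoint (FractionRing A), ?_⟩
      rw [hz, Scheme.Hom.comp_apply]
      exact X.fromSpecResidueField_apply x _

/-- For a ring map, points of the closure of the image of `Spec` are specializations of points of
the image. -/
theorem exists_comap_specializes {R B : Type u} [CommRing R] [CommRing B] (φ : R →+* B)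
    (p : PrimeSpectrum R) (hp : p ∈ closure (Set.range (PrimeSpectrum.comap φ))) :
    ∃ q : PrimeSpectrum B, PrimeSpectrum.comap φ q ⤳ p := by
  rw [PrimeSpectrum.closure_range_comap, PrimeSpectrum.mem_zeroLocus] at hp
  obtain ⟨q₀, hq₀, hq₀p⟩ := Ideal.exists_minimalPrimes_le (I := RingHom.ker φ) (J := p.asIdeal) hp
  have hq₀' : q₀ ∈ ((⊥ : Ideal B).comap φ).minimalPrimes := hq₀
  obtain ⟨q', hq'prime, -, hq'⟩ := Ideal.exists_comap_eq_of_mem_minimalPrimes φ q₀ hq₀'
  refine ⟨⟨q', hq'prime⟩, ?_⟩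
  rw [← PrimeSpectrum.le_iff_specializes]
  show q'.comap φ ≤ p.asIdeal
  rw [hq']
  exact hq₀p

/-- For a morphism of affine schemes, points of the closure of the image are specializations of
points of the image. -/
theorem exists_specializes_of_mem_closure_range {X Y : Scheme.{u}} [IsAffine X] [IsAffine Y]
    (g : X ⟶ Y) (y : Y) (hy : y ∈ closure (Set.range g)) : ∃ x : X, g x ⤳ y := by
  have hnat := Scheme.isoSpec_hom_naturality g
  let eX := X.isoSpec.hom.homeomorph
  let eY := Y.isoSpec.hom.homeomorph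
  have hcomm : ∀ x : X, Y.isoSpec.hom (g x) = Spec.map g.appTop (X.isoSpec.hom x) := by
    intro x
    rw [← Scheme.Hom.comp_apply, ← Scheme.Hom.comp_apply, hnat]
  have h1 : Y.isoSpec.hom y ∈ closure (Set.range (PrimeSpectrum.comap g.appTop.hom)) := by
    have h2 : Y.isoSpec.hom y ∈ eY '' closure (Set.range g) := ⟨y, hy, rfl⟩
    rw [eY.image_closure] at h2
    refine closure_mono ?_ h2
    rintro _ ⟨_, ⟨x, rfl⟩, rfl⟩
    exact ⟨X.isoSpec.hom x, (hcomm x).symm⟩
  obtain ⟨q, hq⟩ := exists_comap_specializes g.appTop.hom _ h1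
  obtain ⟨x, rfl⟩ := eX.surjective q
  refine ⟨x, ?_⟩
  have h3 : eY (g x) ⤳ eY y := by
    show Y.isoSpec.hom (g x) ⤳ Y.isoSpec.hom y
    rw [hcomm]
    exact hq
  exact eY.isInducing.specializes_iff.1 h3

/-! ### Stacks -/

variable {S : Scheme.{u}} {𝒳 𝒴 : AlgSt.Cat S}

/-- The 2-commutative square attached to a commutative square of schemes through a chart of a
fibre product. -/
def chartSquareIso {U V : Over S} (v : FibCat.overCat V ⥤ᵇ 𝒴) (f : 𝒳 ⥤ᵇ 𝒴)
    (u : FibCat.overCat U ⥤ᵇ FibCat.fp v f) (g : U ⟶ V)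
    (ib : BasedFunctor.comp u (FibCat.fpFst v f) ≅ AlgSt.overMap g) {T T' : Over S} (i : T ⟶ V)
    (j : T' ⟶ U) (m : T' ⟶ T) (hc : j ≫ g = m ≫ i) :
    BasedFunctor.comp (BasedFunctor.comp (AlgSt.overMap j)
      (BasedFunctor.comp u (FibCat.fpSnd v f))) f ≅
    BasedFunctor.comp (AlgSt.overMap m) (BasedFunctor.comp (AlgSt.overMap i) v) :=
  (whiskerLeftIso (AlgSt.overMap j) (whiskerLeftIso u (FibCat.fpIso v f).symm) :
      BasedFunctor.comp (AlgSt.overMap j)
        (BasedFunctor.comp u (BasedFunctor.comp (FibCat.fpSnd v f) f)) ≅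
      BasedFunctor.comp (AlgSt.overMap j)
        (BasedFunctor.comp u (BasedFunctor.comp (FibCat.fpFst v f) v))) ≪≫
    (whiskerLeftIso (AlgSt.overMap j) (whiskerRightIso ib v) :
      BasedFunctor.comp (AlgSt.overMap j)
        (BasedFunctor.comp (BasedFunctor.comp u (FibCat.fpFst v f)) v) ≅
      BasedFunctor.comp (AlgSt.overMap j) (BasedFunctor.comp (AlgSt.overMap g) v)) ≪≫
    (whiskerRightIso (overMapCompIso j g) v :
      BasedFunctor.comp (BasedFunctor.comp (AlgSt.overMap j) (AlgSt.overMap g)) v ≅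
      BasedFunctor.comp (AlgSt.overMap (j ≫ g)) v) ≪≫
    eqToIso (by rw [hc]) ≪≫
    (whiskerRightIso (overMapCompIso m i).symm v :
      BasedFunctor.comp (AlgSt.overMap (m ≫ i)) v ≅
      BasedFunctor.comp (BasedFunctor.comp (AlgSt.overMap m) (AlgSt.overMap i)) v)

/-- The preimage in a chart `V` of the image of `|f|` is the image of a surjective chart of
`V ×_𝒴 𝒳`. -/
theorem ofChart_preimage_range [FibCat.IsFibGrpd 𝒳.p] [FibCat.IsFibGrpd 𝒴.p] {U V : Over S}
    (v : FibCat.overCat V ⥤ᵇ 𝒴) (f : 𝒳 ⥤ᵇ 𝒴) (u : FibCat.overCat U ⥤ᵇ FibCat.fp v f)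
    (hus : RepByAlgSpWith AlgSp.IsSurjectiveMor u) (g : U ⟶ V)
    (ib : BasedFunctor.comp u (FibCat.fpFst v f) ≅ AlgSt.overMap g) :
    Points.ofChart v ⁻¹' Set.range (Points.map f) = Set.range g.left := by
  haveI : FibCat.IsFibGrpd (FibCat.overCat V).p := overCat_isFibGrpd V
  haveI : FibCat.IsFibGrpd (FibCat.fp v f).p := fp_isFibGrpd _ _
  ext s₀
  constructor
  · rintro ⟨ξ, hξ⟩
    have h1 : Points.map v (Points.ofChart (BasedFunctor.id (FibCat.overCat V)) s₀) =
        Points.map f ξ := hξ.symm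
    obtain ⟨τ, hτ1, -⟩ := exists_points_fp (overCat_isFibGrpd V) inferInstance inferInstance
      v f _ ξ h1
    obtain ⟨s, rfl⟩ := surjective_ofChart u hus τ
    refine ⟨s, ?_⟩
    apply Groth.Agent.Lib.AlgStLocQ.ofChart_id_injective V
    rw [← hτ1, Groth.Agent.Lib.AlgStPtsMain.map_ofChart,
      ofChart_eq_map (BasedFunctor.comp u (FibCat.fpFst v f)), map_congr ib]
    exact (ofChart_overMap_comp g (BasedFunctor.id (FibCat.overCat V)) s).symm
  · rintro ⟨s, rfl⟩
    refine ⟨Points.map (FibCat.fpSnd v f) (Points.ofChart u s), ?_⟩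
    exact map_ofChart_square f (BasedFunctor.comp u (FibCat.fpSnd v f)) v g
      ((whiskerLeftIso u (FibCat.fpIso v f).symm :
        BasedFunctor.comp u (BasedFunctor.comp (FibCat.fpSnd v f) f) ≅
          BasedFunctor.comp u (BasedFunctor.comp (FibCat.fpFst v f) v)) ≪≫
        whiskerRightIso ib v) s

/-- **Points in the closure of the image of a quasi-compact morphism are reached by valuation
rings** (= S13036). -/
theorem exists_val_square_of_mem_closure (h𝒳 : IsAlgStack Scheme.fppfPrecoverage 𝒳)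
    (h𝒴 : IsAlgStack Scheme.fppfPrecoverage 𝒴) (f : 𝒳 ⥤ᵇ 𝒴)
    (hf : AlgSt.IsQuasiCompactMor Scheme.fppfPrecoverage f)
    (y : AlgSt.Points 𝒴) (hy : y ∈ closure (Set.range (AlgSt.Points.map f))) :
    ∃ (A : Type u) (_ : CommRing A) (_ : IsDomain A) (_ : ValuationRing A)
      (sA : Spec (CommRingCat.of A) ⟶ S)
      (a : FibCat.overCat (Over.mk sA) ⥤ᵇ 𝒴)
      (x : FibCat.overCat (Over.mk (Spec.map (CommRingCat.ofHom
        (algebraMap A (FractionRing A))) ≫ sA)) ⥤ᵇ 𝒳),
      Nonempty (BasedFunctor.comp x f ≅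
        BasedFunctor.comp (AlgSt.overMap (Over.homMk (Spec.map (CommRingCat.ofHom
          (algebraMap A (FractionRing A)))) rfl :
          Over.mk (Spec.map (CommRingCat.ofHom (algebraMap A (FractionRing A))) ≫ sA) ⟶
            Over.mk sA)) a) ∧
      AlgSt.Points.ofChart a (IsLocalRing.closedPoint A) = y := by
  haveI := h𝒳.isStack.1
  haveI := h𝒴.isStack.1
  obtain ⟨V, v, hv, hvs⟩ := h𝒴.atlas
  obtain ⟨t, ht⟩ := surjective_ofChart v hvs y
  obtain ⟨_, ⟨W₀, hW₀, rfl⟩, htW₀, -⟩ :=
    V.left.isBasis_affineOpens.exists_subset_of_mem_open (Set.mem_univ t) isOpen_univ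
  haveI : IsAffine (openOver W₀).left := hW₀
  haveI : FibCat.IsFibGrpd (FibCat.overCat (openOver W₀)).p := overCat_isFibGrpd _
  set v₀ := BasedFunctor.comp (AlgSt.overMap (openIncl W₀)) v with hv₀_def
  have hv₀ : RepByAlgSpWith (AlgSp.LocP @Smooth) v₀ := resX_comp_smooth v W₀ hv
  obtain ⟨U, u, hU, hu, hus⟩ := hf (FibCat.overCat (openOver W₀)) (isAlgStack_overCat _)
    (Groth.Agent.Lib.AlgStQC.isQuasiCompact_overCat _) v₀
  haveI : IsAffine U.left := hU
  set b := BasedFunctor.comp u (FibCat.fpFst v₀ f) with hb_def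
  let g : U ⟶ openOver W₀ := Groth.Agent.Lib.SliceFp.overYonedaMor b
  let ib : b ≅ AlgSt.overMap g := Groth.Agent.Lib.SliceFp.overYonedaIso b
  let t₀ : ↥(openOver W₀).left := ⟨t, htW₀⟩
  have ht₀ : Points.ofChart v₀ t₀ = y := by
    rw [hv₀_def, ofChart_overMap_comp]
    exact ht
  have hfl := flatLfp_repByAlgSpWith_of_smooth v₀ hv₀
  have hopen : IsOpenMap (Points.ofChart v₀) := isOpenMap_ofChart v₀ hfl.1 hfl.2
  have hcl : t₀ ∈ closure (Set.range g.left) := by
    rw [← ofChart_preimage_range v₀ f u hus g ib]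
    apply hopen.preimage_closure_subset_closure_preimage
    show Points.ofChart v₀ t₀ ∈ closure (Set.range (Points.map f))
    rw [ht₀]; exact hy
  obtain ⟨u₀, hu₀⟩ := exists_specializes_of_mem_closure_range g.left t₀ hcl
  obtain ⟨A, iA₁, iA₂, iA₃, iA, jK, hcomm, hclosed, -⟩ :=
    exists_valuationRing_of_specializes g.left u₀ t₀ hu₀
  have hjK : jK ≫ U.hom = Spec.map (CommRingCat.ofHom (algebraMap A (FractionRing A))) ≫
      iA ≫ (openOver W₀).hom := by
    rw [← Over.w g, ← Category.assoc, hcomm, Category.assoc]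
  let i : Over.mk (iA ≫ (openOver W₀).hom) ⟶ openOver W₀ := Over.homMk iA rfl
  let j : Over.mk (Spec.map (CommRingCat.ofHom (algebraMap A (FractionRing A))) ≫
      iA ≫ (openOver W₀).hom) ⟶ U := Over.homMk jK hjK
  let m : Over.mk (Spec.map (CommRingCat.ofHom (algebraMap A (FractionRing A))) ≫
      iA ≫ (openOver W₀).hom) ⟶ Over.mk (iA ≫ (openOver W₀).hom) :=
    Over.homMk (Spec.map (CommRingCat.ofHom (algebraMap A (FractionRing A)))) rfl
  have hc : j ≫ g = m ≫ i := Over.OverMorphism.ext hcomm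
  refine ⟨A, iA₁, iA₂, iA₃, iA ≫ (openOver W₀).hom, BasedFunctor.comp (AlgSt.overMap i) v₀,
    BasedFunctor.comp (AlgSt.overMap j) (BasedFunctor.comp u (FibCat.fpSnd v₀ f)),
    ⟨chartSquareIso v₀ f u g ib i j m hc⟩, ?_⟩
  rw [ofChart_overMap_comp]
  show Points.ofChart v₀ (iA (closedPoint A)) = y
  rw [hclosed]
  exact ht₀

end Groth.Agent.Lib.AlgStValSquare
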