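import Mathlib
import Groth.Agent.Lib.AlgStValSquare
import Groth.Agent.Lib.AlgStLocQ9
import Groth.Agent.Lib.AlgSpSmoothLocalST

/-!
# Valuation-ring squares II: flat morphisms (helper36)

ns `Groth.Agent.Lib.AlgStValSquare`

* `exists_valuationRing_extension` : a flat morphism to the spectrum of a local domain hitting the
  closed point admits a valuation ring mapping to the source, injective and local over the base.
* `exists_val_lift_of_flat` (= S13035).
-/

set_option autoImplicit false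
set_option linter.style.haveILetI false

namespace Groth.Agent.Lib.AlgStValSquare

open CategoryTheory CategoryTheory.Limits AlgebraicGeometry IsLocalRing AlgSt
  Groth.Agent.Lib.H78AlgStPoints Groth.Agent.Lib.H78AlgStPointsFp Groth.Agent.Lib.AlgStPts
  Groth.Agent.Lib.AlgStPtsTop Groth.Agent.Lib.AlgStPtsSurj Groth.Agent.Lib.AlgStPtsMain
  Groth.Agent.Lib.FibGrpd Groth.Agent.Lib.AlgStFp Groth.Agent.Lib.AlgStEquiv
  Groth.Agent.Lib.FpEquiv Groth.Agent.Lib.FibYoneda Groth.Agent.Lib.AlgStOpenSub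
  Groth.Agent.Lib.AlgStPtsQC Groth.Agent.Lib.AlgStPtsQC2
  Groth.Agent.Lib.AlgStLocQ Groth.Agent.Lib.AlgStAtlas Groth.Agent.Lib.AlgStSmoothLocus

universe u

/-! ### Schemes -/

/-- A flat morphism to the spectrum of a local domain whose image contains the closed point
receives a valuation ring, injective and local over the base. -/
theorem exists_valuationRing_extension {W : Scheme.{u}} {A : Type u} [CommRing A] [IsDomain A]
    [IsLocalRing A] (h₁ : W ⟶ Spec (CommRingCat.of A)) [Flat h₁] (w₀ : W)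
    (hw₀ : h₁ w₀ = closedPoint A) :
    ∃ (A' : Type u) (_ : CommRing A') (_ : IsDomain A') (_ : ValuationRing A') (φ : A →+* A')
      (iA' : Spec (CommRingCat.of A') ⟶ W),
      Function.Injective φ ∧ IsLocalHom φ ∧ iA' ≫ h₁ = Spec.map (CommRingCat.ofHom φ) := by
  let η : Spec (CommRingCat.of A) := (⟨⊥, Ideal.isPrime_bot⟩ : PrimeSpectrum A)
  have hη : η ⤳ h₁ w₀ := by
    rw [hw₀]
    exact (PrimeSpectrum.le_iff_specializes _ _).1 bot_le
  obtain ⟨w₁, hw₁, hw₁η⟩ := Flat.generalizingMap h₁ hη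
  obtain ⟨A', i1, i2, i3, iA', jK, hcomm, hclosed, hrange⟩ :=
    exists_valuationRing_of_specializes (𝟙 W) w₁ w₀ hw₁
  let ρ := iA' ≫ h₁
  let φ' : CommRingCat.of A ⟶ CommRingCat.of A' := Spec.preimage ρ
  have hφ' : Spec.map φ' = ρ := Spec.map_preimage ρ
  refine ⟨A', i1, i2, i3, φ'.hom, iA', ?_, ?_, ?_⟩
  · -- injectivity: the generic point maps to the generic point
    let ζ : Spec (CommRingCat.of (FractionRing A')) := closedPoint (FractionRing A')
    have h1 : jK ζ = w₁ := by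
      have : jK ζ ∈ Set.range jK := ⟨ζ, rfl⟩
      rw [hrange] at this
      exact this
    rw [Category.comp_id] at hcomm
    let ζ' : Spec (CommRingCat.of A') :=
      Spec.map (CommRingCat.ofHom (algebraMap A' (FractionRing A'))) ζ
    have h2 : iA' ζ' = w₁ := by
      rw [← h1, hcomm, Scheme.Hom.comp_apply]
    have h3 : Spec.map φ' ζ' = η := by
      rw [hφ', Scheme.Hom.comp_apply, h2, hw₁η]
    have h4 : Ideal.comap φ'.hom (ζ' : PrimeSpectrum A').asIdeal = ⊥ :=
      congrArg PrimeSpectrum.asIdeal h3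
    rw [RingHom.injective_iff_ker_eq_bot, eq_bot_iff, ← h4]
    exact Ideal.comap_mono bot_le
  · rw [isLocalHom_iff_comap_closedPoint]
    show Spec.map φ' (closedPoint A') = closedPoint A
    rw [hφ', Scheme.Hom.comp_apply, hclosed, hw₀]
  · rw [CommRingCat.ofHom_hom]
    exact hφ'.symm

/-! ### Stacks -/

variable {S : Scheme.{u}} {𝒳 𝒴 : AlgSt.Cat S}

/-- The 2-commutative square attached to a scheme morphism into a chart of `𝒳 ×_𝒴 T`. -/
def chartSquareIso' {W T : Over S} (a : FibCat.overCat T ⥤ᵇ 𝒴) (f : 𝒳 ⥤ᵇ 𝒴)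
    (u : FibCat.overCat W ⥤ᵇ FibCat.fp f a) (h₁ : W ⟶ T)
    (β : BasedFunctor.comp u (FibCat.fpSnd f a) ≅ AlgSt.overMap h₁) {T' : Over S} (j : T' ⟶ W)
    (m : T' ⟶ T) (hc : j ≫ h₁ = m) :
    BasedFunctor.comp (BasedFunctor.comp (AlgSt.overMap j)
      (BasedFunctor.comp u (FibCat.fpFst f a))) f ≅ BasedFunctor.comp (AlgSt.overMap m) a :=
  (whiskerLeftIso (AlgSt.overMap j) (whiskerLeftIso u (FibCat.fpIso f a)) :
      BasedFunctor.comp (AlgSt.overMap j)
        (BasedFunctor.comp u (BasedFunctor.comp (FibCat.fpFst f a) f)) ≅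
      BasedFunctor.comp (AlgSt.overMap j)
        (BasedFunctor.comp u (BasedFunctor.comp (FibCat.fpSnd f a) a))) ≪≫
    (whiskerLeftIso (AlgSt.overMap j) (whiskerRightIso β a) :
      BasedFunctor.comp (AlgSt.overMap j)
        (BasedFunctor.comp (BasedFunctor.comp u (FibCat.fpSnd f a)) a) ≅
      BasedFunctor.comp (AlgSt.overMap j) (BasedFunctor.comp (AlgSt.overMap h₁) a)) ≪≫
    (whiskerRightIso (overMapCompIso j h₁) a :
      BasedFunctor.comp (BasedFunctor.comp (AlgSt.overMap j) (AlgSt.overMap h₁)) a ≅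
      BasedFunctor.comp (AlgSt.overMap (j ≫ h₁)) a) ≪≫
    eqToIso (by rw [hc])

/-- The preimage in `T` of the image of `|f|` is the image of a surjective chart of
`𝒳 ×_𝒴 T`. -/
theorem ofChart_preimage_range' [FibCat.IsFibGrpd 𝒳.p] [FibCat.IsFibGrpd 𝒴.p] {W T : Over S}
    (a : FibCat.overCat T ⥤ᵇ 𝒴) (f : 𝒳 ⥤ᵇ 𝒴) (u : FibCat.overCat W ⥤ᵇ FibCat.fp f a)
    (hus : RepByAlgSpWith AlgSp.IsSurjectiveMor u) (h₁ : W ⟶ T)
    (β : BasedFunctor.comp u (FibCat.fpSnd f a) ≅ AlgSt.overMap h₁) :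
    Points.ofChart a ⁻¹' Set.range (Points.map f) ⊆ Set.range h₁.left := by
  haveI : FibCat.IsFibGrpd (FibCat.overCat T).p := overCat_isFibGrpd T
  haveI : FibCat.IsFibGrpd (FibCat.fp f a).p := fp_isFibGrpd _ _
  rintro s₀ ⟨ξ, hξ⟩
  have h1 : Points.map f ξ =
      Points.map a (Points.ofChart (BasedFunctor.id (FibCat.overCat T)) s₀) := hξ
  obtain ⟨τ, -, hτ2⟩ := exists_points_fp inferInstance (overCat_isFibGrpd T) inferInstance
    f a ξ _ h1
  obtain ⟨s, rfl⟩ := surjective_ofChart u hus τ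
  refine ⟨s, ?_⟩
  apply Groth.Agent.Lib.AlgStLocQ.ofChart_id_injective T
  rw [← hτ2, Groth.Agent.Lib.AlgStPtsMain.map_ofChart,
    ofChart_eq_map (BasedFunctor.comp u (FibCat.fpSnd f a)), map_congr β]
  exact (ofChart_overMap_comp h₁ (BasedFunctor.id (FibCat.overCat T)) s).symm

/-- **Flat morphisms lift valuation rings after extension** (= S13035). -/
theorem exists_val_lift_of_flat (h𝒳 : IsAlgStack Scheme.fppfPrecoverage 𝒳)
    (h𝒴 : IsAlgStack Scheme.fppfPrecoverage 𝒴) (f : 𝒳 ⥤ᵇ 𝒴)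
    (hf : AlgSt.LocQ (AlgSp.LocP @Flat) f)
    (A : Type u) [CommRing A] [IsDomain A] [ValuationRing A] (sA : Spec (CommRingCat.of A) ⟶ S)
    (a : FibCat.overCat (Over.mk sA) ⥤ᵇ 𝒴)
    (ha : AlgSt.Points.ofChart a (IsLocalRing.closedPoint A) ∈
      Set.range (AlgSt.Points.map f)) :
    ∃ (A' : Type u) (_ : CommRing A') (_ : IsDomain A') (_ : ValuationRing A') (φ : A →+* A'),
      Function.Injective φ ∧ IsLocalHom φ ∧
      ∃ x : FibCat.overCat (Over.mk (Spec.map (CommRingCat.ofHom φ) ≫ sA)) ⥤ᵇ 𝒳,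
        Nonempty (BasedFunctor.comp x f ≅
          BasedFunctor.comp (AlgSt.overMap (Over.homMk (Spec.map (CommRingCat.ofHom φ)) rfl :
            Over.mk (Spec.map (CommRingCat.ofHom φ) ≫ sA) ⟶ Over.mk sA)) a) := by
  haveI := h𝒳.isStack.1
  haveI := h𝒴.isStack.1
  obtain ⟨W, u, h₁, β, ⟨hu, hus⟩, hfl⟩ := exists_chart_of_locQ_bc
    Groth.Agent.Lib.AlgSpSmoothLocalST.isSmoothLocalST_locP_flat
    (baseChangeStable_locP Groth.Agent.Lib.AlgSpLocP.etLocalClass_flat) f hf a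
  haveI : Flat h₁.left := AlgSp.locP_yon_map hfl
  obtain ⟨w₀, hw₀⟩ := ofChart_preimage_range' a f u hus h₁ β ha
  obtain ⟨A', i1, i2, i3, φ, iA', hinj, hloc, hcomm⟩ :=
    exists_valuationRing_extension (A := A) h₁.left w₀ hw₀
  have hj : iA' ≫ W.hom = Spec.map (CommRingCat.ofHom φ) ≫ sA := by
    rw [← Over.w h₁, ← Category.assoc, hcomm]
    rfl
  let j : Over.mk (Spec.map (CommRingCat.ofHom φ) ≫ sA) ⟶ W := Over.homMk iA' hj
  let m : Over.mk (Spec.map (CommRingCat.ofHom φ) ≫ sA) ⟶ Over.mk sA :=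
    Over.homMk (Spec.map (CommRingCat.ofHom φ)) rfl
  have hc : j ≫ h₁ = m := Over.OverMorphism.ext hcomm
  exact ⟨A', i1, i2, i3, φ, hinj, hloc,
    BasedFunctor.comp (AlgSt.overMap j) (BasedFunctor.comp u (FibCat.fpFst f a)),
    ⟨chartSquareIso' a f u h₁ β j m hc⟩⟩

end Groth.Agent.Lib.AlgStValSquare
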