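import Groth.Agent.Lib.AlgStQuasiDMDescent
import Groth.Agent.Lib.AlgStDiagCancel
import Groth.Agent.Lib.AlgStDiagLft
import Groth.Agent.Lib.AlgStPtsQC2
import Groth.Agent.Lib.H86ZarLocBase
import Groth.Agent.S10271
import Groth.Prelude.Def_W4stkstmodspWNA

/-!
# Well-nigh affine algebraic stacks (helper36)

ns `Groth.Agent.Lib.AlgStWNA`

* `isSeparatedOver_of_proper_cover` : an algebraic stack with a proper fppf cover by an algebraic
  space separated over the base is separated over the base.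
* `repByAlgSpWith_isSeparatedMor_to_selfOver` : `(Sch/U) ⟶ (Sch/S)` is separated when `U ⟶ S` is.
* `wellNighAffine` (= S16697).
-/

set_option autoImplicit false
set_option linter.style.haveILetI false
set_option backward.isDefEq.respectTransparency false
set_option backward.isDefEq.respectTransparency.types false

namespace Groth.Agent.Lib.AlgStWNA

open CategoryTheory CategoryTheory.Limits AlgebraicGeometry Opposite Groth.Agent.Lib.FibGrpd
  Groth.Agent.Lib.FpEquiv Groth.Agent.Lib.AlgStSpTest Groth.Agent.Lib.AlgStDiagQS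
  Groth.Agent.Lib.AlgStDiagRep2 Groth.Agent.Lib.AlgStDiag3 Groth.Agent.Lib.AlgStDiagRep
  Groth.Agent.Lib.AlgStDiagLocP Groth.Agent.Lib.AlgStDiagDict Groth.Agent.Lib.AlgSpBasic
  Groth.Agent.Lib.AlgStRep Groth.Agent.Lib.AlgStCover Groth.Agent.Lib.AlgStDiag
  Groth.Agent.Lib.AlgStDiagChart Groth.Agent.Lib.AlgStEquiv Groth.Agent.Lib.AlgStDiagLft

universe u

variable {S : Scheme.{u}} {𝒳 : AlgSt.Cat S}

/-- An algebraic stack with a proper fppf cover by an algebraic space which is separated over the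
base is separated over the base. -/
theorem isSeparatedOver_of_proper_cover (h𝒳 : AlgSt.IsAlgStack Scheme.fppfPrecoverage 𝒳)
    (W : AlgSp.Space S) (w : AlgSt.ofSp W.obj ⥤ᵇ 𝒳)
    (hw₁ : AlgSt.RepByAlgSpWith (AlgSp.LocP @Flat) w)
    (hw₂ : AlgSt.RepByAlgSpWith (AlgSp.LocP @LocallyOfFinitePresentation) w)
    (hw₃ : AlgSt.RepByAlgSpWith AlgSp.IsSurjectiveMor w)
    (hw₄ : AlgSt.RepByAlgSpWith AlgSp.IsProperMor w)
    (hw₅ : AlgSt.RepByAlgSpWith AlgSp.IsSeparatedMor (BasedFunctor.comp w (FibCat.toSelf 𝒳))) :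
    AlgSt.IsSeparatedOver 𝒳 := by
  haveI : FibCat.IsFibGrpd 𝒳.p := h𝒳.isStack.1
  haveI : FibCat.IsFibGrpd (FibCat.selfOver (Over S)).p := toSelf_isFibGrpd
  haveI : FibCat.IsFibGrpd (AlgSt.ofSp W.obj).p := Stk.isFibGrpd_ofPsh W.obj.obj
  have hPi : IsoInv (AlgSp.IsProperMor (S := S)) :=
    isoInv_of_baseChange _ baseChangeStable_isProperMor
  have hPl : AlgSp.IsLocalOnBase AlgSp.IsFppfCover (AlgSp.IsProperMor (S := S)) :=
    isLocalOnBase_fppf_of_fpqc Groth.Agent.Lib.AlgSpFpqc.isLocalOnBase_fpqc_isProperMor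
  refine repByAlgSpWith_diag_of_magIota _ hPi hPl w (FibCat.toSelf 𝒳) h𝒳.diag
    (repByAlgSpWith_cov w hw₁ hw₂ hw₃) ?_
  let k := FibCat.fpFst (BasedFunctor.comp w (FibCat.toSelf 𝒳))
    (BasedFunctor.comp w (FibCat.toSelf 𝒳))
  haveI : FibCat.IsFibGrpd (FibCat.fp (BasedFunctor.comp w (FibCat.toSelf 𝒳))
      (BasedFunctor.comp w (FibCat.toSelf 𝒳))).p := fp_isFibGrpd _ _
  have huf : AlgSt.RepByAlgSp1 (BasedFunctor.comp w (FibCat.toSelf 𝒳)) :=
    repByAlgSp1_ofSp_to_selfOver W _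
  have hk : AlgSt.RepByAlgSp1 k := by
    rw [Groth.Agent.Lib.AlgStEquiv.repByAlgSp1_iff_top] at huf ⊢
    exact repByAlgSpWith_fpFst ⊤ _ _ huf
  have hksep : AlgSt.RepByAlgSpWith AlgSp.IsSeparatedMor k := repByAlgSpWith_fpFst _ _ _ hw₅
  have hΔk : AlgSt.RepByAlgSpWith AlgSp.IsProperMor (FibCat.diag k) :=
    (proper_diag_iff k hk).2 hksep
  have hfst : AlgSt.RepByAlgSpWith AlgSp.IsProperMor (FibCat.fpFst w w) :=
    repByAlgSpWith_fpFst _ w w hw₄
  exact Groth.Agent.Lib.AlgStCancel.repByAlgSpWith_of_comp_of_diag _ hPi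
    (schemeLocal_of_atlasLocal (atlasLocal_of_fpqc
      Groth.Agent.Lib.AlgSpFpqc.isLocalOnBase_fpqc_isProperMor))
    Groth.Agent.Lib.AlgStDiagProper.isProperMor_comp'
    (magIota w (FibCat.toSelf 𝒳)) k hfst hΔk

/-- `(Sch/U) ⟶ (Sch/S)` is separated when `U ⟶ S` is. -/
theorem repByAlgSpWith_isSeparatedMor_to_selfOver (U : Over S) [IsSeparated U.hom]
    (q : AlgSt.ofSp ((AlgSp.yon S).obj U) ⥤ᵇ FibCat.selfOver (Over S)) :
    AlgSt.RepByAlgSpWith AlgSp.IsSeparatedMor q := by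
  let t : U ⟶ Over.mk (𝟙 S) := Over.homMk U.hom (by simp)
  have hc : AlgSp.IsSeparatedMor ((AlgSp.yon S).map t) :=
    (AlgSp.isSeparatedMor_yon_map_iff t).2 (inferInstanceAs (IsSeparated U.hom))
  have h1 : AlgSt.RepByAlgSpWith AlgSp.IsSeparatedMor (AlgSt.ofSpMap ((AlgSp.yon S).map t)) :=
    Groth.Agent.Lib.AlgStAtlas.repByAlgSpWith_ofSpMap _ baseChangeStable_isSeparatedMor
      (AlgSp.IsAlgSpace.yon_obj U) (AlgSp.IsAlgSpace.yon_obj _) _ hc
  let E := BasedFunctor.comp (AlgSt.toOverCat (Over.mk (𝟙 S)))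
    (FibCat.toSelf (FibCat.overCat (Over.mk (𝟙 S))))
  have hE : FibCat.IsEquivOver E :=
    isEquivOver_comp (Groth.Agent.Lib.AlgStFp.toOverCat_isEquivOver _)
      Groth.Agent.Lib.AlgStQC.toSelf_overCat_terminal_isEquivOver
  have h2 : AlgSt.RepByAlgSpWith AlgSp.IsSeparatedMor
      (BasedFunctor.comp (AlgSt.ofSpMap ((AlgSp.yon S).map t)) E) :=
    (repByAlgSpWith_comp_equiv_iff _ _ E hE).2 h1
  exact (repByAlgSpWith_congr _ (Groth.Agent.Lib.SelfProd.toSelfIso q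
    (BasedFunctor.comp (AlgSt.ofSpMap ((AlgSp.yon S).map t)) E))).1 h2

/-- = S16697: a well-nigh affine algebraic stack is quasi-compact, quasi-DM and separated over the
base. -/
theorem wellNighAffine (h𝒳 : AlgSt.IsAlgStack Scheme.fppfPrecoverage 𝒳)
    (hw : AlgSt.IsWellNighAffine 𝒳) :
    AlgSt.IsQuasiCompact 𝒳 ∧ AlgSt.IsQuasiDMOver 𝒳 ∧ AlgSt.IsSeparatedOver 𝒳 := by
  obtain ⟨U, x, hU, hx⟩ := hw
  haveI : IsAffine U.left := hU
  haveI := h𝒳.isStack.1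
  haveI : FibCat.IsFibGrpd (FibCat.overCat U).p := overCat_isFibGrpd U
  have hxs : AlgSt.RepByAlgSpWith AlgSp.IsSurjectiveMor x :=
    Groth.Agent.Lib.AlgStDiagDict2.repByAlgSpWith_mono x (fun _ _ _ _ h => h.1.1.1) hx
  have hxf : AlgSt.RepByAlgSpWith (AlgSp.LocP @Flat) x :=
    Groth.Agent.Lib.AlgStDiagDict2.repByAlgSpWith_mono x (fun _ _ _ _ h => h.1.1.2) hx
  have hxfin : AlgSt.RepByAlgSpWith AlgSp.IsFiniteMor x :=
    Groth.Agent.Lib.AlgStDiagDict2.repByAlgSpWith_mono x (fun _ _ _ _ h => h.1.2) hx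
  have hxp : AlgSt.RepByAlgSpWith (AlgSp.LocP @LocallyOfFinitePresentation) x :=
    Groth.Agent.Lib.AlgStDiagDict2.repByAlgSpWith_mono x (fun _ _ _ _ h => h.2) hx
  let W : AlgSp.Space S := ⟨(AlgSp.yon S).obj U, AlgSp.IsAlgSpace.yon_obj U⟩
  let w : AlgSt.ofSp W.obj ⥤ᵇ 𝒳 := BasedFunctor.comp (AlgSt.toOverCat U) x
  have hT := Groth.Agent.Lib.AlgStFp.toOverCat_isEquivOver U
  have hw₁ : AlgSt.RepByAlgSpWith (AlgSp.LocP @Flat) w :=
    (repByAlgSpWith_equiv_comp_iff _ (AlgSt.toOverCat U) hT x).1 hxf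
  have hw₂ : AlgSt.RepByAlgSpWith (AlgSp.LocP @LocallyOfFinitePresentation) w :=
    (repByAlgSpWith_equiv_comp_iff _ (AlgSt.toOverCat U) hT x).1 hxp
  have hw₃ : AlgSt.RepByAlgSpWith AlgSp.IsSurjectiveMor w :=
    (repByAlgSpWith_equiv_comp_iff _ (AlgSt.toOverCat U) hT x).1 hxs
  have hwfin : AlgSt.RepByAlgSpWith AlgSp.IsFiniteMor w :=
    (repByAlgSpWith_equiv_comp_iff _ (AlgSt.toOverCat U) hT x).1 hxfin
  have hw₄ : AlgSt.RepByAlgSpWith (AlgSp.LocP (@LocallyQuasiFinite ⊓ @LocallyOfFiniteType)) w :=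
    Groth.Agent.Lib.AlgStDiagDict2.repByAlgSpWith_mono w (fun F T hF α hα => by
      have h1 : AlgSp.RepWith @IsFinite α :=
        (Groth.Agent.Lib.H86ZarGlue.isFiniteMor_iff_repWith α).1 hα
      have h2 : AlgSp.RepWith (@LocallyQuasiFinite ⊓ @LocallyOfFiniteType) α :=
        repWith_mono (fun _ _ g (hg : IsFinite g) =>
          ⟨(inferInstance : LocallyQuasiFinite g), (inferInstance : LocallyOfFiniteType g)⟩) h1
      exact locP_of_repWith _ Groth.Agent.Lib.AlgSpLocP.etLocalClass_lqf_lft.pre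
        (fun _ a => hF.representable_from_yon a) h2) hwfin
  have hw₅ : AlgSt.RepByAlgSpWith AlgSp.IsProperMor w :=
    Groth.Agent.Lib.AlgStDiagDict2.repByAlgSpWith_mono w (fun F T hF α hα =>
      ((Groth.Agent.S10271.result (X := ⟨F, hF⟩)
        (Y := ⟨(AlgSp.yon S).obj T, AlgSp.IsAlgSpace.yon_obj T⟩)
        (ObjectProperty.homMk α)).1 hα).2) hwfin
  refine ⟨?_, Groth.Agent.Lib.AlgStQuasiDMDescent.isQuasiDMOver_of_lqf_cover h𝒳 W w hw₁ hw₂ hw₃ hw₄,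
    isSeparatedOver_of_proper_cover h𝒳 W w hw₁ hw₂ hw₃ hw₅
      (repByAlgSpWith_isSeparatedMor_to_selfOver U _)⟩
  exact Groth.Agent.Lib.AlgStPtsQC.isQuasiCompact_of_isSurjective
    (Groth.Agent.Lib.AlgStPtsQC2.isAlgStack_overCat U).atlas h𝒳.atlas x
    (Groth.Agent.Lib.AlgStPtsSurj.isSurjective_of_repByAlgSpWith x hxs)
    (Groth.Agent.Lib.AlgStQC.isQuasiCompact_overCat U)

end Groth.Agent.Lib.AlgStWNA
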