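import Mathlib
import Groth.Prelude.Def_BigSite

/-!
# Almost cocontinuous functors: exactness of the direct image (helper34)

Universe-general versions of the landed S6440/S6441 (helper43's proofs, generalised to arbitrary
sites and `Type w`-valued sheaves), plus the abelian case.

* `isIso_comparison`: sheafification commutes with `u^p` for presheaves that are singletons on
  sheaf-theoretically empty objects.
* `preservesColimitsOfShape`: `u^s` on sheaves of sets preserves finite connected colimits.
* `ab_preservesEpimorphisms`: `u^s` on abelian sheaves preserves epimorphisms.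
* `preservesFiniteColimits_of_preservesEpimorphisms`: additive + left exact + preserves epis ⇒ right exact.
-/

set_option autoImplicit false
open CategoryTheory CategoryTheory.Limits Opposite
universe w v₁ u₁ v₂ u₂

namespace Groth.Agent.Lib.AlmostCocont34

section Aux

variable {C : Type u₁} [Category.{v₁} C] {D : Type u₂} [Category.{v₂} D]
    (J : GrothendieckTopology C) (K : GrothendieckTopology D) (u : C ⥤ D)

/-- A sheaf of sets has at most one section over an object covered by the empty sieve. -/
theorem sheaf_unique_of_bot_mem (F : Sheaf K (Type w)) {V : D} (hV : (⊥ : Sieve V) ∈ K V)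
    (s t : F.obj.obj (op V)) : s = t := by
  have hF := (isSheaf_iff_isSheaf_of_type K F.obj).1 F.property
  exact (hF.isSeparated _ hV).ext (fun W f hf => hf.elim)

/-- A sheaf of sets has a section over an object covered by the empty sieve. -/
theorem sheaf_nonempty_of_bot_mem (F : Sheaf K (Type w)) {V : D} (hV : (⊥ : Sieve V) ∈ K V) :
    Nonempty (F.obj.obj (op V)) := by
  have hF := (isSheaf_iff_isSheaf_of_type K F.obj).1 F.property
  have h := hF _ hV
  let x : Presieve.FamilyOfElements F.obj (⊥ : Sieve V).arrows := fun W f hf => hf.elim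
  have hx : x.Compatible := fun _ _ _ _ _ _ _ h₁ => h₁.elim
  obtain ⟨t, -, -⟩ := h x hx
  exact ⟨t⟩

theorem isLocallyInjective_whiskerLeft (hu : BigSite.IsAlmostCocontinuous u J K) {G G' : Dᵒᵖ ⥤ Type w}
    (φ : G ⟶ G') [Presheaf.IsLocallyInjective K φ]
    (hG : ∀ V : D, (⊥ : Sieve V) ∈ K V → ∀ s t : G.obj (op V), s = t) :
    Presheaf.IsLocallyInjective J (Functor.whiskerLeft u.op φ) where
  equalizerSieve_mem {X} x y h := by
    have hR : Presheaf.equalizerSieve (F := G) (X := op (u.obj X.unop)) x y ∈ K (u.obj X.unop) :=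
      Presheaf.equalizerSieve_mem K φ (X := op (u.obj X.unop)) x y h
    obtain ⟨R', hR', hR'2⟩ := hu X.unop _ hR
    refine J.superset_covering ?_ hR'
    intro V g hg
    rcases hR'2 g hg with hbot | hmem
    · exact hG _ hbot _ _
    · exact hmem

theorem isLocallySurjective_whiskerLeft (hu : BigSite.IsAlmostCocontinuous u J K) {G G' : Dᵒᵖ ⥤ Type w}
    (φ : G ⟶ G') [Presheaf.IsLocallySurjective K φ]
    (hG : ∀ V : D, (⊥ : Sieve V) ∈ K V → Nonempty (G.obj (op V)))
    (hG' : ∀ V : D, (⊥ : Sieve V) ∈ K V → ∀ s t : G'.obj (op V), s = t) :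
    Presheaf.IsLocallySurjective J (Functor.whiskerLeft u.op φ) where
  imageSieve_mem {X} s := by
    have hR : Presheaf.imageSieve φ (U := u.obj X) s ∈ K (u.obj X) :=
      Presheaf.imageSieve_mem K φ s
    obtain ⟨R', hR', hR'2⟩ := hu X _ hR
    refine J.superset_covering ?_ hR'
    intro V g hg
    rcases hR'2 g hg with hbot | hmem
    · obtain ⟨t⟩ := hG _ hbot
      exact ⟨t, hG' _ hbot _ _⟩
    · exact hmem

/-- A connected colimit of presheaves that are sheaves has exactly one section over an object covered by the empty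
sieve. -/
theorem unique_colimit_of_bot_mem {I : Type} [SmallCategory I] [IsConnected I] (F : I ⥤ Sheaf K (Type w))
    (E : Cocone (F ⋙ sheafToPresheaf K (Type w))) (hE : IsColimit E) {V : D}
    (hV : (⊥ : Sieve V) ∈ K V) : Nonempty (Unique (E.pt.obj (op V))) := by
  have hEV : IsColimit (((evaluation Dᵒᵖ (Type w)).obj (op V)).mapCocone E) :=
    isColimitOfPreserves _ hE
  -- the canonical element for each `i`
  have hne : ∀ i : I, Nonempty ((F.obj i).obj.obj (op V)) := fun i => sheaf_nonempty_of_bot_mem K _ hV
  let φ : I → E.pt.obj (op V) := fun i => (E.ι.app i).app (op V) (hne i).some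
  have hφ : ∀ (i j : I) (f : i ⟶ j), φ i = φ j := by
    intro i j f
    have h1 := congrFun (congrArg (fun α => α.app (op V)) (E.w f)) (hne i).some
    have h2 : ((F.map f).hom.app (op V)) (hne i).some = (hne j).some :=
      sheaf_unique_of_bot_mem K _ hV _ _
    change (E.ι.app i).app (op V) (hne i).some = (E.ι.app j).app (op V) (hne j).some
    rw [← h2]
    exact h1.symm
  have hconst : ∀ i j : I, φ i = φ j := fun i j => constant_of_preserves_morphisms φ hφ i j
  obtain ⟨i₀⟩ : Nonempty I := IsConnected.is_nonempty
  refine ⟨⟨⟨φ i₀⟩, fun s => ?_⟩⟩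
  obtain ⟨i, x, rfl⟩ := Types.jointly_surjective_of_isColimit hEV s
  have hx : x = (hne i).some := sheaf_unique_of_bot_mem K _ hV _ _
  change (E.ι.app i).app (op V) x = φ i₀
  rw [hx]
  exact hconst i i₀

theorem toSheafify_comp_homEquiv_symm [HasSheafify J (Type w)] {P : Cᵒᵖ ⥤ Type w} {F : Sheaf J (Type w)}
    (ψ : P ⟶ (sheafToPresheaf J (Type w)).obj F) :
    toSheafify J P ≫ (((sheafificationAdjunction J (Type w)).homEquiv P F).symm ψ).hom = ψ := by
  have h := ((sheafificationAdjunction J (Type w)).homEquiv P F).apply_symm_apply ψ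
  rw [Adjunction.homEquiv_unit] at h
  exact h

variable [HasSheafify J (Type w)] [HasSheafify K (Type w)] [J.WEqualsLocallyBijective (Type w)]
  [K.WEqualsLocallyBijective (Type w)]

theorem isIso_homEquiv_symm_of_locallyBijective {P : Cᵒᵖ ⥤ Type w} {F : Sheaf J (Type w)}
    (ψ : P ⟶ (sheafToPresheaf J (Type w)).obj F) (h1 : Presheaf.IsLocallyInjective J ψ)
    (h2 : Presheaf.IsLocallySurjective J ψ) :
    IsIso (((sheafificationAdjunction J (Type w)).homEquiv P F).symm ψ) := by
  have hW : J.W ψ := J.W_of_isLocallyBijective _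
  have hiso : IsIso ((presheafToSheaf J (Type w)).map ψ) := (J.W_iff _).1 hW
  rw [Adjunction.homEquiv_counit]
  infer_instance

theorem isIso_comparison [u.IsContinuous J K]
    (hu : BigSite.IsAlmostCocontinuous u J K) (G : Dᵒᵖ ⥤ Type w)
    (hG : ∀ V : D, (⊥ : Sieve V) ∈ K V → Nonempty (Unique (G.obj (op V)))) :
    IsIso (((sheafificationAdjunction J (Type w)).homEquiv (u.op ⋙ G)
      ((u.sheafPushforwardContinuous (Type w) J K).obj ((presheafToSheaf K (Type w)).obj G))).symm
        (Functor.whiskerLeft u.op (toSheafify K G))) := by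
  have h1 : Presheaf.IsLocallyInjective J (Functor.whiskerLeft u.op (toSheafify K G)) :=
    isLocallyInjective_whiskerLeft J K u hu (toSheafify K G) (fun V hV s t => by
      obtain ⟨h⟩ := hG V hV
      exact (h.uniq s).trans (h.uniq t).symm)
  have h2 : Presheaf.IsLocallySurjective J (Functor.whiskerLeft u.op (toSheafify K G)) :=
    isLocallySurjective_whiskerLeft J K u hu (toSheafify K G) (fun V hV => by
      obtain ⟨h⟩ := hG V hV
      exact ⟨h.default⟩)
      (fun V hV s t => sheaf_unique_of_bot_mem K ((presheafToSheaf K (Type w)).obj G) hV s t)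
  exact isIso_homEquiv_symm_of_locallyBijective J
    (F := (u.sheafPushforwardContinuous (Type w) J K).obj ((presheafToSheaf K (Type w)).obj G))
    (Functor.whiskerLeft u.op (toSheafify K G)) h1 h2

theorem preservesColimitsOfShape [u.IsContinuous J K]
    (hu : BigSite.IsAlmostCocontinuous u J K) (I : Type) [SmallCategory I] [FinCategory I] [IsConnected I] :
    PreservesColimitsOfShape I (u.sheafPushforwardContinuous (Type w) J K) := by
  constructor
  intro F
  let E := colimit.cocone (F ⋙ sheafToPresheaf K (Type w))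
  have hE : IsColimit E := colimit.isColimit _
  apply preservesColimit_of_preserves_colimit_cocone (Sheaf.isColimitSheafifyCocone E hE)
  let E' : Cocone ((F ⋙ u.sheafPushforwardContinuous (Type w) J K) ⋙ sheafToPresheaf J (Type w)) :=
    ((Functor.whiskeringLeft _ _ (Type w)).obj u.op).mapCocone E
  have hE' : IsColimit E' := isColimitOfPreserves ((Functor.whiskeringLeft _ _ (Type w)).obj u.op) hE
  have h2 := Sheaf.isColimitSheafifyCocone E' hE'
  have hG := fun V hV => unique_colimit_of_bot_mem K F E hE (V := V) hV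
  haveI hiso := isIso_comparison J K u hu E.pt hG
  let c : (Sheaf.sheafifyCocone E').pt ⟶
      ((u.sheafPushforwardContinuous (Type w) J K).mapCocone (Sheaf.sheafifyCocone E)).pt :=
    ((sheafificationAdjunction J (Type w)).homEquiv (u.op ⋙ E.pt)
      ((u.sheafPushforwardContinuous (Type w) J K).obj ((presheafToSheaf K (Type w)).obj E.pt))).symm
        (Functor.whiskerLeft u.op (toSheafify K E.pt))
  haveI : IsIso c := hiso
  refine IsColimit.ofIsoColimit h2 (Cocone.ext (asIso c) ?_)
  intro i
  apply ObjectProperty.hom_ext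
  change ((Sheaf.sheafifyCocone E').ι.app i).hom ≫ c.hom =
    Functor.whiskerLeft u.op ((Sheaf.sheafifyCocone E).ι.app i).hom
  rw [Sheaf.sheafifyCocone_ι_app_val, Sheaf.sheafifyCocone_ι_app_val]
  have hc : toSheafify J E'.pt ≫ c.hom = Functor.whiskerLeft u.op (toSheafify K E.pt) :=
    toSheafify_comp_homEquiv_symm J
      (F := (u.sheafPushforwardContinuous (Type w) J K).obj ((presheafToSheaf K (Type w)).obj E.pt))
      (Functor.whiskerLeft u.op (toSheafify K E.pt))
  exact (Category.assoc _ _ _).trans ((congrArg (fun z => E'.ι.app i ≫ z) hc).trans rfl)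

end Aux

section Ab

variable {C : Type u₁} [Category.{v₁} C] {D : Type u₂} [Category.{v₂} D]
    (J : GrothendieckTopology C) (K : GrothendieckTopology D) (u : C ⥤ D)

/-- An abelian sheaf has trivial sections over an object covered by the empty sieve. -/
theorem ab_subsingleton_of_bot_mem [K.HasSheafCompose (forget AddCommGrpCat.{w})]
    (F : Sheaf K AddCommGrpCat.{w}) {V : D} (hV : (⊥ : Sieve V) ∈ K V) :
    Subsingleton (F.obj.obj (op V)) :=
  ⟨fun s t => sheaf_unique_of_bot_mem K ((sheafCompose K (forget AddCommGrpCat.{w})).obj F) hV s t⟩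

theorem ab_isLocallySurjective [K.HasSheafCompose (forget AddCommGrpCat.{w})]
    [u.IsContinuous J K] (hu : BigSite.IsAlmostCocontinuous u J K)
    {F G : Sheaf K AddCommGrpCat.{w}} (φ : F ⟶ G) [Sheaf.IsLocallySurjective φ] :
    Sheaf.IsLocallySurjective ((u.sheafPushforwardContinuous AddCommGrpCat.{w} J K).map φ) where
  imageSieve_mem {X} s := by
    have hR : Presheaf.imageSieve φ.hom (U := u.obj X) s ∈ K (u.obj X) :=
      Presheaf.imageSieve_mem K φ.hom s
    obtain ⟨R', hR', hR'2⟩ := hu X _ hR
    refine J.superset_covering ?_ hR'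
    intro V g hg
    rcases hR'2 g hg with hbot | hmem
    · have := ab_subsingleton_of_bot_mem K G hbot
      exact ⟨(0 : F.obj.obj (op (u.obj V))), Subsingleton.elim (α := G.obj.obj (op (u.obj V))) _ _⟩
    · exact hmem

theorem ab_preservesEpimorphisms
    [HasSheafify J AddCommGrpCat.{w}] [J.HasSheafCompose (forget AddCommGrpCat.{w})]
    [Balanced (Sheaf J AddCommGrpCat.{w})] [J.WEqualsLocallyBijective AddCommGrpCat.{w}]
    [HasSheafify K AddCommGrpCat.{w}] [K.HasSheafCompose (forget AddCommGrpCat.{w})]
    [Balanced (Sheaf K AddCommGrpCat.{w})] [K.WEqualsLocallyBijective AddCommGrpCat.{w}]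
    [u.IsContinuous J K] (hu : BigSite.IsAlmostCocontinuous u J K) :
    (u.sheafPushforwardContinuous AddCommGrpCat.{w} J K).PreservesEpimorphisms := by
  refine ⟨fun {F G} φ hφ => ?_⟩
  have h1 : Sheaf.IsLocallySurjective φ := (Sheaf.isLocallySurjective_iff_epi' (φ := φ)).2 hφ
  have h2 := ab_isLocallySurjective J K u hu φ
  exact (Sheaf.isLocallySurjective_iff_epi'
    (φ := (u.sheafPushforwardContinuous AddCommGrpCat.{w} J K).map φ)).1 h2

end Ab

/-- an additive left exact functor between abelian categories preserving epimorphisms is exact -/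
theorem preservesFiniteColimits_of_preservesEpimorphisms {A B : Type*} [Category A] [Category B]
    [Abelian A] [Abelian B] (F : A ⥤ B) [F.Additive] [PreservesFiniteLimits F]
    [F.PreservesEpimorphisms] : PreservesFiniteColimits F := by
  rw [Functor.preservesFiniteColimits_iff_forall_exact_map_and_epi]
  intro S hS
  have := hS.epi_g
  refine ⟨?_, inferInstance⟩
  exact ((Functor.preservesFiniteLimits_iff_forall_exact_map_and_mono F).1 inferInstance S hS).1

end Groth.Agent.Lib.AlmostCocont34
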