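import Mathlib
import Groth.Prelude.Def_CartDual
import Groth.Prelude.Def_CartDual2
import Groth.Prelude.Def_AlphaP

/-!
# The Cartier dual of α_p (helper97)

`φ = phi1 p R` is the linear form on `A = R[x]/(x^p)` dual to `x` w.r.t. the basis `1, x, …, x^(p-1)`.
Main facts: `(φ * χ)(x^m) = m • χ(x^(m-1))`, `φ^n (x^m) = n! δ_{mn}` (m < p), `φ^p = 0`,
and the bialgebra isomorphism `A ≃ₐc D R A`, `x ↦ φ`.
-/

set_option autoImplicit false
universe u

open TensorProduct CartDual

namespace Groth.Agent.AlphaPDual97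

theorem nontrivial_R (p : ℕ) [hp : Fact p.Prime] (R : Type u) [CommRing R] [CharP R p] : Nontrivial R := CharP.nontrivial_of_char_ne_one (v := p) (Nat.Prime.ne_one hp.out)

variable (p : ℕ) [hp : Fact p.Prime] (R : Type u) [CommRing R] [CharP R p]

/-- linear forms on `A` are determined by their values on `x^m`, `m < p`. -/
theorem D_ext {y z : D R (AlphaP.A p R)} (h : ∀ m, m < p → y (AlphaP.x p R ^ m) = z (AlphaP.x p R ^ m)) :
    y = z := by
  have := nontrivial_R p R
  apply WithConv.ext
  refine (AlphaP.basis p R).ext fun i => ?_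
  rw [AlphaP.basis_apply]
  exact h i i.2

/-- the functional dual to `x`. -/
noncomputable def phi1 : D R (AlphaP.A p R) :=
  have := nontrivial_R p R
  WithConv.toConv ((AlphaP.basis p R).coord ⟨1, hp.out.one_lt⟩)

theorem phi1_x_pow (m : ℕ) (hm : m < p) :
    phi1 p R (AlphaP.x p R ^ m) = if m = 1 then 1 else 0 := by
  have := nontrivial_R p R
  have h : AlphaP.x p R ^ m = AlphaP.basis p R ⟨m, hm⟩ := by rw [AlphaP.basis_apply]
  rw [h]
  show (AlphaP.basis p R).coord ⟨1, hp.out.one_lt⟩ (AlphaP.basis p R ⟨m, hm⟩) = _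
  rw [Module.Basis.coord_apply, Module.Basis.repr_self, Finsupp.single_apply]
  simp [Fin.ext_iff]

theorem counit_x_pow (m : ℕ) :
    Coalgebra.counit (R := R) (AlphaP.x p R ^ m) = if m = 0 then 1 else 0 := by
  have h : Coalgebra.counit (R := R) (AlphaP.x p R ^ m) =
      (Bialgebra.counitAlgHom R (AlphaP.A p R)) (AlphaP.x p R ^ m) := rfl
  rw [h, map_pow]
  have h2 : (Bialgebra.counitAlgHom R (AlphaP.A p R)) (AlphaP.x p R) = 0 := AlphaP.counit_x p R
  rw [h2]
  split_ifs with hm
  · rw [hm, pow_zero]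
  · exact zero_pow hm

theorem comul_x_pow (m : ℕ) :
    Coalgebra.comul (R := R) (AlphaP.x p R ^ m) =
      ∑ k ∈ Finset.range (m + 1), (m.choose k : ℕ) • ((AlphaP.x p R ^ k) ⊗ₜ[R] (AlphaP.x p R ^ (m - k))) := by
  have h : Coalgebra.comul (R := R) (AlphaP.x p R ^ m) =
      (Bialgebra.comulAlgHom R (AlphaP.A p R)) (AlphaP.x p R ^ m) := rfl
  rw [h, map_pow]
  have h2 : (Bialgebra.comulAlgHom R (AlphaP.A p R)) (AlphaP.x p R) =
      AlphaP.x p R ⊗ₜ[R] 1 + 1 ⊗ₜ[R] AlphaP.x p R := AlphaP.comul_x p R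
  rw [h2, (Commute.all _ _).add_pow]
  refine Finset.sum_congr rfl fun k _ => ?_
  rw [Algebra.TensorProduct.tmul_pow, Algebra.TensorProduct.tmul_pow, one_pow, one_pow,
    Algebra.TensorProduct.tmul_mul_tmul, mul_one, one_mul, nsmul_eq_mul, mul_comm]

/-- convolution with `φ` is "differentiation". -/
theorem phi1_mul_apply (χ : D R (AlphaP.A p R)) (m : ℕ) (hm : m < p) :
    (phi1 p R * χ) (AlphaP.x p R ^ m) = if m = 0 then 0 else (m : R) * χ (AlphaP.x p R ^ (m - 1)) := by
  rw [LinearMap.convMul_apply, comul_x_pow, map_sum, map_sum]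
  have hterm : ∀ k ∈ Finset.range (m + 1),
      (LinearMap.mul' R R) ((TensorProduct.map (phi1 p R).ofConv χ.ofConv)
        ((m.choose k : ℕ) • ((AlphaP.x p R ^ k) ⊗ₜ[R] (AlphaP.x p R ^ (m - k))))) =
      if k = 1 then (m : R) * χ (AlphaP.x p R ^ (m - 1)) else 0 := by
    intro k hk
    have hk' : k < p := lt_of_le_of_lt (Nat.lt_succ_iff.mp (Finset.mem_range.mp hk)) hm
    rw [map_nsmul, map_nsmul, TensorProduct.map_tmul, LinearMap.mul'_apply]
    have := phi1_x_pow p R k hk'
    rw [CartDual.coe_apply] at this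
    rw [this]
    split_ifs with h1
    · subst h1
      rw [Nat.choose_one_right, one_mul, nsmul_eq_mul]
    · rw [zero_mul, smul_zero]
  rw [Finset.sum_congr rfl hterm, Finset.sum_ite_eq']
  by_cases h0 : m = 0
  · subst h0; simp
  · rw [if_neg h0, if_pos]
    exact Finset.mem_range.mpr (by omega)

theorem phi1_pow_apply (n m : ℕ) (hm : m < p) :
    (phi1 p R ^ n) (AlphaP.x p R ^ m) = if m = n then (n.factorial : R) else 0 := by
  induction n generalizing m with
  | zero =>
    rw [pow_zero, LinearMap.convOne_apply, counit_x_pow, Nat.factorial_zero, Nat.cast_one]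
    simp
  | succ n ih =>
    rw [pow_succ', phi1_mul_apply p R _ m hm]
    by_cases h0 : m = 0
    · subst h0
      rw [if_pos rfl, if_neg (by omega)]
    · rw [if_neg h0, ih (m - 1) (by omega)]
      by_cases h1 : m = n + 1
      · subst h1
        rw [if_pos (by omega), if_pos rfl, Nat.factorial_succ, Nat.cast_mul]
      · rw [if_neg (by omega), if_neg h1, mul_zero]

theorem phi1_pow_p : phi1 p R ^ p = 0 := by
  apply D_ext p R
  intro m hm
  rw [phi1_pow_apply p R p m hm, if_neg (by omega)]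
  rfl


theorem isUnit_factorial (m : ℕ) (hm : m < p) : IsUnit ((m.factorial : ℕ) : R) := by
  rw [CharP.isUnit_natCast_iff (R := R) hp.out, hp.out.dvd_factorial]
  omega

/-- the algebra map `A → D R A`, `x ↦ φ`. -/
noncomputable def psi : AlphaP.A p R →ₐ[R] D R (AlphaP.A p R) :=
  AlphaP.lift p R (phi1 p R) (phi1_pow_p p R)

theorem psi_x : psi p R (AlphaP.x p R) = phi1 p R := AlphaP.lift_x _ _

theorem psi_x_pow_apply (n m : ℕ) (hm : m < p) :
    psi p R (AlphaP.x p R ^ n) (AlphaP.x p R ^ m) = if m = n then (n.factorial : R) else 0 := by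
  have h : psi p R (AlphaP.x p R ^ n) = phi1 p R ^ n := by rw [map_pow, psi_x]
  rw [h, phi1_pow_apply p R n m hm]

theorem eq_sum_basis (a : AlphaP.A p R) :
    have := nontrivial_R p R
    a = ∑ i : Fin p, ((AlphaP.basis p R).repr a i) • AlphaP.x p R ^ (i : ℕ) := by
  intro _
  conv_lhs => rw [← (AlphaP.basis p R).sum_repr a]
  refine Finset.sum_congr rfl fun i _ => ?_
  rw [AlphaP.basis_apply]

theorem psi_sum_apply (c : Fin p → R) (m : ℕ) (hm : m < p) :
    psi p R (∑ i : Fin p, c i • AlphaP.x p R ^ (i : ℕ)) (AlphaP.x p R ^ m) =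
      c ⟨m, hm⟩ * (m.factorial : R) := by
  rw [map_sum]
  have h1 : (∑ i : Fin p, psi p R (c i • AlphaP.x p R ^ (i : ℕ))) (AlphaP.x p R ^ m) =
      ∑ i : Fin p, (psi p R (c i • AlphaP.x p R ^ (i : ℕ))) (AlphaP.x p R ^ m) := by
    rw [CartDual.coe_apply, WithConv.ofConv_sum, LinearMap.sum_apply]
  rw [h1, Finset.sum_eq_single ⟨m, hm⟩]
  · rw [map_smul]
    show c ⟨m, hm⟩ • (psi p R (AlphaP.x p R ^ m)) (AlphaP.x p R ^ m) = _
    rw [psi_x_pow_apply p R m m hm, if_pos rfl, smul_eq_mul]
  · intro i _ hi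
    rw [map_smul]
    show c i • (psi p R (AlphaP.x p R ^ (i : ℕ))) (AlphaP.x p R ^ m) = _
    rw [psi_x_pow_apply p R i m hm, if_neg, smul_zero]
    intro h
    exact hi (Fin.ext h.symm)
  · intro h; exact absurd (Finset.mem_univ _) h

theorem psi_injective : Function.Injective (psi p R) := by
  have := nontrivial_R p R
  rw [injective_iff_map_eq_zero]
  intro a ha
  have hrepr : ∀ i : Fin p, (AlphaP.basis p R).repr a i = 0 := by
    intro i
    have h1 := psi_sum_apply p R (fun i => (AlphaP.basis p R).repr a i) i i.2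
    rw [← eq_sum_basis p R a, ha] at h1
    have h2 : (0 : D R (AlphaP.A p R)) (AlphaP.x p R ^ (i : ℕ)) = 0 := rfl
    rw [h2] at h1
    exact ((isUnit_factorial p R i i.2).mul_left_eq_zero).mp h1.symm
  apply (AlphaP.basis p R).repr.injective
  ext i
  rw [hrepr i]; simp

theorem psi_surjective : Function.Surjective (psi p R) := by
  intro y
  refine ⟨∑ i : Fin p, (y (AlphaP.x p R ^ (i : ℕ)) *
    ((isUnit_factorial p R i i.2).unit⁻¹ : Rˣ)) • AlphaP.x p R ^ (i : ℕ), ?_⟩
  apply D_ext p R
  intro m hm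
  rw [psi_sum_apply p R _ m hm]
  show y (AlphaP.x p R ^ m) * _ * _ = _
  rw [mul_assoc, IsUnit.val_inv_mul, mul_one]

/-- `ψ` as a bialgebra equivalence. -/
noncomputable def psiEquiv : AlphaP.A p R ≃ₐc[R] D R (AlphaP.A p R) :=
  BialgEquiv.ofAlgEquiv (AlgEquiv.ofBijective (psi p R) ⟨psi_injective p R, psi_surjective p R⟩)
    (by
      apply AlphaP.algHom_ext
      show Coalgebra.counit (R := R) (psi p R (AlphaP.x p R)) = Coalgebra.counit (R := R) (AlphaP.x p R)
      rw [psi_x, AlphaP.counit_x, CartDual.coalgebra_counit_apply]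
      have := phi1_x_pow p R 0 hp.out.pos
      rw [pow_zero] at this
      rw [this, if_neg (by omega)])
    (by
      apply AlphaP.algHom_ext
      show TensorProduct.map (psi p R).toLinearMap (psi p R).toLinearMap
          (Coalgebra.comul (R := R) (AlphaP.x p R)) =
        Coalgebra.comul (R := R) (psi p R (AlphaP.x p R))
      rw [AlphaP.comul_x, map_add, TensorProduct.map_tmul, TensorProduct.map_tmul]
      show psi p R (AlphaP.x p R) ⊗ₜ[R] psi p R 1 + psi p R 1 ⊗ₜ[R] psi p R (AlphaP.x p R) = _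
      rw [psi_x, map_one]
      apply (ev₂ R (AlphaP.A p R)).injective
      have := nontrivial_R p R
      refine ((AlphaP.basis p R).tensorProduct (AlphaP.basis p R)).ext fun ⟨i, j⟩ => ?_
      rw [Module.Basis.tensorProduct_apply, AlphaP.basis_apply, AlphaP.basis_apply, map_add,
        LinearMap.add_apply, ev₂_tmul, ev₂_tmul, ev₂_coalgebra_comul_tmul, ← pow_add,
        LinearMap.convOne_apply, LinearMap.convOne_apply, counit_x_pow, counit_x_pow,
        phi1_x_pow p R i i.2, phi1_x_pow p R j j.2]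
      by_cases hij : (i : ℕ) + j < p
      · rw [phi1_x_pow p R _ hij]
        simp only [Algebra.algebraMap_self, RingHom.id_apply]
        split_ifs <;> first | omega | simp
      · rw [AlphaP.x_pow_of_le p R (not_lt.mp hij)]
        have h0 : (phi1 p R) (0 : AlphaP.A p R) = 0 := by
          rw [CartDual.coe_apply, map_zero]
        rw [h0]
        have := hp.out.two_le
        simp only [Algebra.algebraMap_self, RingHom.id_apply]
        split_ifs <;> first | omega | simp)

theorem psiEquiv_apply (a : AlphaP.A p R) : psiEquiv p R a = psi p R a := rfl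


/-- in `α_p`, `y^p = ε(y)^p`. -/
theorem A_pow_p (y : AlphaP.A p R) :
    y ^ p = algebraMap R (AlphaP.A p R) (Coalgebra.counit (R := R) y ^ p) := by
  have := nontrivial_R p R
  have hy := eq_sum_basis p R y
  simp only at hy
  set c : Fin p → R := fun i => (AlphaP.basis p R).repr y i with hc
  have hy' : y = ∑ i : Fin p, c i • AlphaP.x p R ^ (i : ℕ) := hy
  have hcounit : Coalgebra.counit (R := R) y = c ⟨0, hp.out.pos⟩ := by
    rw [hy', map_sum, Finset.sum_eq_single ⟨0, hp.out.pos⟩]
    · rw [map_smul, counit_x_pow, if_pos rfl, smul_eq_mul, mul_one]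
    · intro i _ hi
      rw [map_smul, counit_x_pow, if_neg, smul_zero]
      intro h; exact hi (Fin.ext h)
    · intro h; exact absurd (Finset.mem_univ _) h
  rw [hcounit]
  conv_lhs => rw [hy']
  rw [sum_pow_char p, Finset.sum_eq_single ⟨0, hp.out.pos⟩]
  · rw [smul_pow, ← pow_mul, Nat.zero_mul, pow_zero, Algebra.algebraMap_eq_smul_one]
  · intro i _ hi
    rw [smul_pow, ← pow_mul, AlphaP.x_pow_of_le, smul_zero]
    have : (i : ℕ) ≠ 0 := fun h => hi (Fin.ext h)
    exact Nat.le_mul_of_pos_left p (Nat.pos_of_ne_zero this)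
  · intro h; exact absurd (Finset.mem_univ _) h

theorem psi_apply_one (y : AlphaP.A p R) : psi p R y 1 = Coalgebra.counit (R := R) y := by
  have h := CoalgHomClass.counit_comp_apply (psiEquiv p R) y
  rw [CartDual.coalgebra_counit_apply] at h
  exact h

/-- in the dual of `α_p`, `x^p = x(1)^p · ε`. -/
theorem D_pow_p (x : D R (AlphaP.A p R)) (a : AlphaP.A p R) :
    (x ^ p) a = (x 1) ^ p * Coalgebra.counit (R := R) a := by
  obtain ⟨y, rfl⟩ := psi_surjective p R x
  rw [← map_pow, A_pow_p, AlgHom.commutes, LinearMap.convAlgebraMap_apply, psi_apply_one]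
  rfl


/-- the functional dual to `x^m`. -/
noncomputable def phiN (m : ℕ) (hm : m < p) : D R (AlphaP.A p R) :=
  have := nontrivial_R p R
  WithConv.toConv ((AlphaP.basis p R).coord ⟨m, hm⟩)

theorem phiN_x_pow (m : ℕ) (hm : m < p) (k : ℕ) (hk : k < p) :
    phiN p R m hm (AlphaP.x p R ^ k) = if k = m then 1 else 0 := by
  have := nontrivial_R p R
  have h : AlphaP.x p R ^ k = AlphaP.basis p R ⟨k, hk⟩ := by rw [AlphaP.basis_apply]
  rw [h]
  show (AlphaP.basis p R).coord ⟨m, hm⟩ (AlphaP.basis p R ⟨k, hk⟩) = _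
  rw [Module.Basis.coord_apply, Module.Basis.repr_self, Finsupp.single_apply]
  simp [Fin.ext_iff]

theorem phi1_x : phi1 p R (AlphaP.x p R) = 1 := by
  have := phi1_x_pow p R 1 hp.out.one_lt
  rwa [pow_one, if_pos rfl] at this

theorem phi1_one : phi1 p R (1 : AlphaP.A p R) = 0 := by
  have := phi1_x_pow p R 0 hp.out.pos
  rwa [pow_zero, if_neg (by omega)] at this

omit hp [CharP R p] in
theorem D_apply_sum (y : D R (AlphaP.A p R)) (c : Fin p → R) :
    y (∑ i : Fin p, c i • AlphaP.x p R ^ (i : ℕ)) = ∑ i : Fin p, c i * y (AlphaP.x p R ^ (i : ℕ)) := by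
  rw [CartDual.coe_apply, map_sum]
  refine Finset.sum_congr rfl fun i _ => ?_
  rw [map_smul, smul_eq_mul]

/-- primitive elements of `α_p` with zero counit are multiples of `x`. -/
theorem primitive_eq (a : AlphaP.A p R)
    (hΔ : Coalgebra.comul (R := R) a = a ⊗ₜ[R] 1 + 1 ⊗ₜ[R] a)
    (hε : Coalgebra.counit (R := R) a = 0) : a = (phi1 p R a) • AlphaP.x p R := by
  have := nontrivial_R p R
  have ha := eq_sum_basis p R a
  simp only at ha
  set c : Fin p → R := fun i => (AlphaP.basis p R).repr a i with hc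
  have ha' : a = ∑ i : Fin p, c i • AlphaP.x p R ^ (i : ℕ) := ha
  -- c 0 = 0
  have h0 : c ⟨0, hp.out.pos⟩ = 0 := by
    rw [← hε]
    conv_rhs => rw [ha']
    rw [map_sum, Finset.sum_eq_single ⟨0, hp.out.pos⟩]
    · rw [map_smul, counit_x_pow, if_pos rfl, smul_eq_mul, mul_one]
    · intro i _ hi
      rw [map_smul, counit_x_pow, if_neg, smul_zero]
      intro h; exact hi (Fin.ext h)
    · intro h; exact absurd (Finset.mem_univ _) h
  -- c (m+1) = 0 for m ≥ 1
  have hm : ∀ m : ℕ, 1 ≤ m → ∀ h : m + 1 < p, c ⟨m + 1, h⟩ = 0 := by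
    intro m hm1 h
    have hmp : m < p := by omega
    have e1 : (phi1 p R * phiN p R m hmp) a = 0 := by
      rw [LinearMap.convMul_apply, hΔ, map_add, TensorProduct.map_tmul, TensorProduct.map_tmul,
        map_add, LinearMap.mul'_apply, LinearMap.mul'_apply]
      have h1 : (phiN p R m hmp).ofConv 1 = 0 := by
        have := phiN_x_pow p R m hmp 0 hp.out.pos
        rw [pow_zero, if_neg (by omega)] at this
        exact this
      have h2 : (phi1 p R).ofConv 1 = 0 := phi1_one p R
      rw [h1, h2, mul_zero, zero_mul, add_zero]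
    have e2 : (phi1 p R * phiN p R m hmp) a = c ⟨m + 1, h⟩ * ((m + 1 : ℕ) : R) := by
      conv_lhs => rw [ha']
      rw [D_apply_sum, Finset.sum_eq_single ⟨m + 1, h⟩]
      · rw [phi1_mul_apply p R _ _ h, if_neg (by omega), Nat.add_sub_cancel,
          phiN_x_pow p R m hmp m hmp, if_pos rfl, mul_one]
      · intro i _ hi
        rw [phi1_mul_apply p R _ _ i.2]
        by_cases hi0 : (i : ℕ) = 0
        · rw [if_pos hi0, mul_zero]
        · rw [if_neg hi0, phiN_x_pow p R m hmp _ (by omega), if_neg, mul_zero, mul_zero]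
          intro h'
          apply hi
          apply Fin.ext
          show (i : ℕ) = m + 1
          omega
      · intro h'; exact absurd (Finset.mem_univ _) h'
    rw [e1] at e2
    have hu : IsUnit (((m + 1 : ℕ)) : R) := by
      rw [CharP.isUnit_natCast_iff (R := R) hp.out]
      intro hdvd
      have := Nat.le_of_dvd (by omega) hdvd
      omega
    exact (hu.mul_left_eq_zero).mp e2.symm
  have hci : ∀ i : Fin p, (i : ℕ) ≠ 1 → c i = 0 := by
    intro i hi
    obtain ⟨i, hip⟩ := i
    rcases Nat.lt_or_ge i 1 with h | h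
    · have : i = 0 := by omega
      subst this
      exact h0
    · have h2 : 2 ≤ i := by
        have : i ≠ 1 := hi
        omega
      have := hm (i - 1) (by omega) (by omega)
      have e : (⟨i - 1 + 1, by omega⟩ : Fin p) = ⟨i, hip⟩ := Fin.ext (by simp; omega)
      rw [e] at this
      exact this
  have hphi : phi1 p R a = c ⟨1, hp.out.one_lt⟩ := rfl
  rw [hphi]
  conv_lhs => rw [ha']
  rw [Finset.sum_eq_single ⟨1, hp.out.one_lt⟩]
  · rw [pow_one]
  · intro i _ hi
    rw [hci i, zero_smul]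
    intro h; exact hi (Fin.ext h)
  · intro h; exact absurd (Finset.mem_univ _) h

end Groth.Agent.AlphaPDual97
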