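import Mathlib

/-!
# Alternating traces of endomorphisms of bounded complexes of finite free modules

* lifting of morphisms/equalities in the derived category from K-projective sources;
* `altTr a b f = ∑_{i ∈ [a,b]} (-1)^i tr(f^i)`: cyclicity and homotopy invariance;
* `altTr_eq_of_iso`: invariance under isomorphisms in the derived category.
-/

set_option autoImplicit false
universe u v w

open CategoryTheory

namespace Groth.Agent.Lib.AltTrace65

section Derived

variable {C : Type u} [Category.{v} C] [Abelian C] [HasDerivedCategory.{w} C]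

/-- morphisms in the derived category out of a K-projective complex come from chain maps -/
lemma exists_map_eq {E₁ E₂ : CochainComplex C ℤ} [E₁.IsKProjective]
    (g : DerivedCategory.Q.obj E₁ ⟶ DerivedCategory.Q.obj E₂) :
    ∃ φ : E₁ ⟶ E₂, DerivedCategory.Q.map φ = g := by
  obtain ⟨ψ, hψ⟩ := (CochainComplex.IsKProjective.Qh_map_bijective E₁
    ((HomotopyCategory.quotient _ _).obj E₂)).surjective
    ((DerivedCategory.quotientCompQhIso _).hom.app E₁ ≫ g ≫
      (DerivedCategory.quotientCompQhIso _).inv.app E₂)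
  obtain ⟨φ, rfl⟩ := (HomotopyCategory.quotient _ _).map_surjective ψ
  refine ⟨φ, ?_⟩
  have := DerivedCategory.quotientCompQhIso_hom_naturality (C := C) φ
  rw [hψ] at this
  simp only [Category.assoc, Iso.inv_hom_id_app, Category.comp_id] at this
  exact ((cancel_epi _).mp this).symm

/-- chain maps out of a K-projective complex which agree in the derived category are homotopic -/
lemma homotopy_of_Q_map_eq {E₁ E₂ : CochainComplex C ℤ} [E₁.IsKProjective] (φ ψ : E₁ ⟶ E₂)
    (h : DerivedCategory.Q.map φ = DerivedCategory.Q.map ψ) : Nonempty (Homotopy φ ψ) := by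
  have h2 : (HomotopyCategory.quotient C (ComplexShape.up ℤ)).map φ
      = (HomotopyCategory.quotient C (ComplexShape.up ℤ)).map ψ := by
    apply (CochainComplex.IsKProjective.Qh_map_bijective E₁ _).injective
    have h1 := DerivedCategory.quotientCompQhIso_hom_naturality (C := C) φ
    have h2 := DerivedCategory.quotientCompQhIso_hom_naturality (C := C) ψ
    rw [h, ← h2] at h1
    exact (cancel_mono _).mp h1
  exact ⟨HomotopyCategory.homotopyOfEq _ _ h2⟩

end Derived

section Trace

variable {R : Type u} [CommRing R]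

lemma sum_Icc_telescope {M : Type*} [AddCommGroup M] (c : ℤ → M) (a b : ℤ) (hab : a ≤ b + 1) :
    ∑ i ∈ Finset.Icc a b, (c i - c (i + 1)) = c a - c (b + 1) := by
  rw [← Finset.Ico_add_one_right_eq_Icc]
  refine Int.leInduction (m := a)
    (motive := fun b' _ => ∑ i ∈ Finset.Ico a b', (c i - c (i + 1)) = c a - c b') ?_ ?_ (b + 1) hab
  · simp
  · intro n hn ih
    rw [← Finset.sum_Ico_add_eq_sum_Ico_add_one hn, ih]
    abel

/-- The alternating trace over the window `[a, b]`. -/
noncomputable def altTr {P : CochainComplex (ModuleCat.{u} R) ℤ} (a b : ℤ) (f : P ⟶ P) : R :=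
  ∑ i ∈ Finset.Icc a b, ((i.negOnePow : ℤˣ) : ℤ) • LinearMap.trace R (P.X i) (f.f i).hom

lemma altTr_comm {P Q : CochainComplex (ModuleCat.{u} R) ℤ}
    (hP : ∀ i : ℤ, Module.Finite R (P.X i) ∧ Module.Free R (P.X i))
    (hQ : ∀ i : ℤ, Module.Finite R (Q.X i) ∧ Module.Free R (Q.X i))
    (a b : ℤ) (u : P ⟶ Q) (v : Q ⟶ P) : altTr a b (u ≫ v) = altTr a b (v ≫ u) := by
  unfold altTr
  refine Finset.sum_congr rfl (fun i _ => ?_)
  congr 1
  have := (hP i).1
  have := (hP i).2
  have := (hQ i).1
  have := (hQ i).2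
  rw [HomologicalComplex.comp_f, HomologicalComplex.comp_f, ModuleCat.hom_comp, ModuleCat.hom_comp]
  exact LinearMap.trace_comp_comm' _ _

lemma altTr_homotopy {P : CochainComplex (ModuleCat.{u} R) ℤ}
    (hP : ∀ i : ℤ, Module.Finite R (P.X i) ∧ Module.Free R (P.X i))
    (a b : ℤ) (hab : a ≤ b + 1) (hv : ∀ i : ℤ, i < a ∨ b < i → Limits.IsZero (P.X i))
    (f g : P ⟶ P) (h : Homotopy f g) : altTr a b f = altTr a b g := by
  let T : ℤ → ℤ → R := fun j j' => LinearMap.trace R (P.X j) (h.hom j j' ≫ P.d j' j).hom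
  let c : ℤ → R := fun i => ((i.negOnePow : ℤˣ) : ℤ) • T i (i - 1)
  have key : ∀ i : ℤ, ((i.negOnePow : ℤˣ) : ℤ) • LinearMap.trace R (P.X i) (f.f i).hom =
      ((i.negOnePow : ℤˣ) : ℤ) • LinearMap.trace R (P.X i) (g.f i).hom + (c i - c (i + 1)) := by
    intro i
    have := (hP i).1
    have := (hP i).2
    have := (hP (i + 1)).1
    have := (hP (i + 1)).2
    have hc := h.comm i
    rw [dNext_eq h.hom (show (ComplexShape.up ℤ).Rel i (i + 1) from rfl),
      prevD_eq h.hom (show (ComplexShape.up ℤ).Rel (i - 1) i by simp)] at hc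
    rw [hc, ModuleCat.hom_add, ModuleCat.hom_add, map_add, map_add]
    have h1 : LinearMap.trace R (P.X i) (P.d i (i + 1) ≫ h.hom (i + 1) i).hom = T (i + 1) i := by
      rw [ModuleCat.hom_comp]
      show _ = LinearMap.trace R _ (h.hom (i + 1) i ≫ P.d i (i + 1)).hom
      rw [ModuleCat.hom_comp]
      exact LinearMap.trace_comp_comm' _ _
    have h2 : T (i + 1) i = T (i + 1) (i + 1 - 1) := by rw [add_sub_cancel_right]
    have h3 : LinearMap.trace R (P.X i) (h.hom i (i - 1) ≫ P.d (i - 1) i).hom = T i (i - 1) := rfl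
    rw [h1, h3]
    simp only [c]
    rw [← h2, Int.negOnePow_succ]
    simp only [Units.val_neg, neg_smul, smul_add]
    abel
  have ha : c a = 0 := by
    have h0 : h.hom a (a - 1) = 0 := (hv (a - 1) (Or.inl (by omega))).eq_of_tgt _ _
    simp only [c, T]
    rw [h0, Limits.zero_comp, ModuleCat.hom_zero, map_zero, smul_zero]
  have hb : c (b + 1) = 0 := by
    have h0 : h.hom (b + 1) (b + 1 - 1) = 0 := (hv (b + 1) (Or.inr (by omega))).eq_of_src _ _
    simp only [c, T]
    rw [h0, Limits.zero_comp, ModuleCat.hom_zero, map_zero, smul_zero]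
  unfold altTr
  rw [Finset.sum_congr rfl (fun i _ => key i), Finset.sum_add_distrib,
    sum_Icc_telescope c a b hab, ha, hb, sub_zero, add_zero]

theorem altTr_eq_of_iso [HasDerivedCategory.{w} (ModuleCat.{u} R)]
    (P Q : CochainComplex (ModuleCat.{u} R) ℤ) (a b : ℤ)
    (hPv : ∀ i : ℤ, i < a ∨ b < i → Limits.IsZero (P.X i))
    (hQv : ∀ i : ℤ, i < a ∨ b < i → Limits.IsZero (Q.X i))
    (hP : ∀ i : ℤ, Module.Finite R (P.X i) ∧ Module.Free R (P.X i))
    (hQ : ∀ i : ℤ, Module.Finite R (Q.X i) ∧ Module.Free R (Q.X i))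
    (f : P ⟶ P) (g : Q ⟶ Q) (α : DerivedCategory.Q.obj P ≅ DerivedCategory.Q.obj Q)
    (h : α.hom ≫ DerivedCategory.Q.map g = DerivedCategory.Q.map f ≫ α.hom) :
    altTr a b f = altTr a b g := by
  by_cases hab : a ≤ b + 1
  swap
  · unfold altTr
    rw [Finset.Icc_eq_empty (by omega)]
    simp
  have hPp : ∀ n : ℤ, Projective (P.X n) := fun n => by
    have := (hP n).2
    exact (IsProjective.iff_projective (R := R) (P.X n)).mp inferInstance
  have hQp : ∀ n : ℤ, Projective (Q.X n) := fun n => by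
    have := (hQ n).2
    exact (IsProjective.iff_projective (R := R) (Q.X n)).mp inferInstance
  have : P.IsStrictlyLE b := by
    rw [CochainComplex.isStrictlyLE_iff]
    exact fun i hi => hPv i (Or.inr hi)
  have : Q.IsStrictlyLE b := by
    rw [CochainComplex.isStrictlyLE_iff]
    exact fun i hi => hQv i (Or.inr hi)
  have : P.IsKProjective := CochainComplex.isKProjective_of_projective P b
  have : Q.IsKProjective := CochainComplex.isKProjective_of_projective Q b
  obtain ⟨u, hu⟩ := exists_map_eq α.hom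
  obtain ⟨v, hv⟩ := exists_map_eq α.inv
  obtain ⟨h1⟩ : Nonempty (Homotopy (u ≫ v) (𝟙 P)) := homotopy_of_Q_map_eq _ _ (by
    rw [Functor.map_comp, hu, hv, Iso.hom_inv_id, CategoryTheory.Functor.map_id])
  obtain ⟨h2⟩ : Nonempty (Homotopy (v ≫ u) (𝟙 Q)) := homotopy_of_Q_map_eq _ _ (by
    rw [Functor.map_comp, hu, hv, Iso.inv_hom_id, CategoryTheory.Functor.map_id])
  obtain ⟨h3⟩ : Nonempty (Homotopy (f ≫ u) (u ≫ g)) := homotopy_of_Q_map_eq _ _ (by
    rw [Functor.map_comp, Functor.map_comp, hu, h])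
  calc altTr a b f = altTr a b (f ≫ 𝟙 P) := by rw [Category.comp_id]
    _ = altTr a b (f ≫ u ≫ v) := (altTr_homotopy hP a b hab hPv _ _ (h1.compLeft f)).symm
    _ = altTr a b ((f ≫ u) ≫ v) := by rw [Category.assoc]
    _ = altTr a b (v ≫ f ≫ u) := altTr_comm hP hQ a b _ _
    _ = altTr a b (v ≫ u ≫ g) := altTr_homotopy hQ a b hab hQv _ _ (h3.compLeft v)
    _ = altTr a b ((v ≫ u) ≫ g) := by rw [Category.assoc]
    _ = altTr a b (𝟙 Q ≫ g) := altTr_homotopy hQ a b hab hQv _ _ (h2.compRight g)
    _ = altTr a b g := by rw [Category.id_comp]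

end Trace

end Groth.Agent.Lib.AltTrace65
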