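import Mathlib

/-!
# Alternants `Δ_p = det (x_i^{p_j} y_i^{q_j})` form a basis of the alternating polynomials
(helper99; used for S19449)
-/

set_option autoImplicit false

namespace Groth.Agent.Lib.Alternant99

open MvPolynomial

variable {k : Type*} [Field k] {n : ℕ}

/-- the monomial `x_i^a y_i^b` -/
noncomputable def mon (i : Fin n) (e : ℕ × ℕ) : MvPolynomial (Fin n × Fin 2) k :=
  X (i, 0) ^ e.1 * X (i, 1) ^ e.2

/-- the alternant `Δ_p` -/
noncomputable def alt (p : Fin n → ℕ × ℕ) : MvPolynomial (Fin n × Fin 2) k :=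
  (Matrix.of fun i j : Fin n => mon (k := k) i (p j)).det

/-- the action of a permutation -/
noncomputable def ρ (σ : Equiv.Perm (Fin n)) :
    MvPolynomial (Fin n × Fin 2) k →ₐ[k] MvPolynomial (Fin n × Fin 2) k :=
  rename (fun v : Fin n × Fin 2 => (σ v.1, v.2))

lemma ρ_mon (σ : Equiv.Perm (Fin n)) (i : Fin n) (e : ℕ × ℕ) :
    ρ (k := k) σ (mon i e) = mon (σ i) e := by
  simp [ρ, mon, rename_X]

lemma ρ_alt (σ : Equiv.Perm (Fin n)) (p : Fin n → ℕ × ℕ) :
    ρ (k := k) σ (alt p) = ((Equiv.Perm.sign σ : ℤˣ) : ℤ) • alt p := by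
  unfold alt
  rw [AlgHom.map_det]
  have : (ρ (k := k) σ).mapMatrix (Matrix.of fun i j : Fin n => mon (k := k) i (p j)) =
      (Matrix.of fun i j : Fin n => mon (k := k) i (p j)).submatrix σ id := by
    ext i j
    simp [AlgHom.mapMatrix_apply, ρ_mon]
  rw [this, Matrix.det_permute, zsmul_eq_mul]

/-- exponent vector of the diagonal monomial of `q` -/
noncomputable def ev (q : Fin n → ℕ × ℕ) : (Fin n × Fin 2) →₀ ℕ :=
  Finsupp.equivFunOnFinite.symm (fun v => if v.2 = 0 then (q v.1).1 else (q v.1).2)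

lemma ev_apply_zero (q : Fin n → ℕ × ℕ) (i : Fin n) : ev q (i, 0) = (q i).1 := by
  simp [ev]

lemma ev_apply_one (q : Fin n → ℕ × ℕ) (i : Fin n) : ev q (i, 1) = (q i).2 := by
  simp [ev]

lemma ev_injective : Function.Injective (ev (n := n)) := by
  intro q₁ q₂ h
  funext i
  have h0 := congrArg (fun f => f (i, 0)) h
  have h1 := congrArg (fun f => f (i, 1)) h
  simp only [ev_apply_zero, ev_apply_one] at h0 h1
  exact Prod.ext h0 h1

lemma monomial_eq_prod (m : (Fin n × Fin 2) →₀ ℕ) (c : k) :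
    monomial m c = C c * ∏ j : Fin n, mon (k := k) j (m (j, 0), m (j, 1)) := by
  rw [monomial_eq, Finsupp.prod_fintype _ _ (fun i => by simp), Fintype.prod_prod_type]
  congr 1
  refine Finset.prod_congr rfl (fun j _ => ?_)
  rw [Fin.prod_univ_two]
  rfl

lemma prod_mon (q : Fin n → ℕ × ℕ) :
    ∏ j : Fin n, mon (k := k) j (q j) = monomial (ev q) 1 := by
  rw [monomial_eq_prod, map_one, one_mul]
  refine Finset.prod_congr rfl (fun j _ => ?_)
  rw [ev_apply_zero, ev_apply_one]

lemma prod_mon_perm (σ : Equiv.Perm (Fin n)) (p : Fin n → ℕ × ℕ) :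
    ∏ j : Fin n, mon (k := k) (σ j) (p j) = monomial (ev (p ∘ σ.symm)) 1 := by
  rw [← prod_mon]
  refine Fintype.prod_equiv σ _ _ (fun j => ?_)
  simp

lemma alt_eq_sum (p : Fin n → ℕ × ℕ) :
    alt (k := k) p = ∑ σ : Equiv.Perm (Fin n),
      (((Equiv.Perm.sign σ : ℤˣ) : ℤ) : MvPolynomial (Fin n × Fin 2) k) *
        monomial (ev (p ∘ σ.symm)) 1 := by
  unfold alt
  rw [Matrix.det_apply']
  refine Finset.sum_congr rfl (fun σ _ => ?_)
  rw [← prod_mon_perm]
  rfl

/-- the antisymmetrizer -/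
noncomputable def asym : MvPolynomial (Fin n × Fin 2) k →ₗ[k] MvPolynomial (Fin n × Fin 2) k :=
  ∑ σ : Equiv.Perm (Fin n), ((Equiv.Perm.sign σ : ℤˣ) : ℤ) • (ρ (k := k) σ).toLinearMap

lemma asym_apply (f : MvPolynomial (Fin n × Fin 2) k) :
    asym f = ∑ σ : Equiv.Perm (Fin n), ((Equiv.Perm.sign σ : ℤˣ) : ℤ) • ρ (k := k) σ f := by
  simp [asym, LinearMap.sum_apply]

lemma asym_monomial (m : (Fin n × Fin 2) →₀ ℕ) (c : k) :
    asym (monomial m c) = c • alt (k := k) (fun j => (m (j, 0), m (j, 1))) := by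
  rw [asym_apply, alt, Matrix.det_apply', Finset.smul_sum]
  refine Finset.sum_congr rfl (fun σ _ => ?_)
  rw [monomial_eq_prod, map_mul, map_prod, zsmul_eq_mul, smul_eq_C_mul]
  have hC : ρ (k := k) σ (C c) = C c := by simp [ρ]
  rw [hC]
  simp only [ρ_mon, Matrix.of_apply]
  ring

lemma asym_mem_span (f : MvPolynomial (Fin n × Fin 2) k) :
    asym f ∈ Submodule.span k (Set.range fun p : Fin n → ℕ × ℕ => alt (k := k) p) := by
  have h : asym f = ∑ v ∈ f.support, asym (monomial v (coeff v f)) := by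
    conv_lhs => rw [f.as_sum, map_sum]
  rw [h]
  refine Submodule.sum_mem _ (fun m _ => ?_)
  rw [asym_monomial]
  exact Submodule.smul_mem _ _ (Submodule.subset_span ⟨_, rfl⟩)

lemma asym_of_alternating (f : MvPolynomial (Fin n × Fin 2) k)
    (hf : ∀ σ : Equiv.Perm (Fin n), ρ (k := k) σ f = ((Equiv.Perm.sign σ : ℤˣ) : ℤ) • f) :
    asym f = (n.factorial : k) • f := by
  rw [asym_apply]
  have : ∀ σ : Equiv.Perm (Fin n), ((Equiv.Perm.sign σ : ℤˣ) : ℤ) • ρ (k := k) σ f = f := by
    intro σ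
    rw [hf σ, smul_smul]
    have : ((Equiv.Perm.sign σ : ℤˣ) : ℤ) * ((Equiv.Perm.sign σ : ℤˣ) : ℤ) = 1 := by
      rw [← Units.val_mul, Int.units_mul_self]; rfl
    rw [this, one_smul]
  rw [Finset.sum_congr rfl (fun σ _ => this σ), Finset.sum_const, Finset.card_univ,
    Fintype.card_perm, Fintype.card_fin, Nat.cast_smul_eq_nsmul]

theorem mem_span_iff [CharZero k] (f : MvPolynomial (Fin n × Fin 2) k) :
    (∀ σ : Equiv.Perm (Fin n), ρ (k := k) σ f = ((Equiv.Perm.sign σ : ℤˣ) : ℤ) • f) ↔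
      f ∈ Submodule.span k (Set.range fun p : Fin n → ℕ × ℕ => alt (k := k) p) := by
  constructor
  · intro hf
    have h := asym_of_alternating f hf
    have hne : (n.factorial : k) ≠ 0 := Nat.cast_ne_zero.mpr n.factorial_ne_zero
    have : f = (n.factorial : k)⁻¹ • asym f := by
      rw [h, smul_smul, inv_mul_cancel₀ hne, one_smul]
    rw [this]
    exact Submodule.smul_mem _ _ (asym_mem_span f)
  · intro hf σ
    induction hf using Submodule.span_induction with
    | mem x hx =>
      obtain ⟨p, rfl⟩ := hx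
      exact ρ_alt σ p
    | zero => simp
    | add x y _ _ hx hy => rw [map_add, hx, hy, smul_add]
    | smul c x _ hx => rw [map_smul, hx, smul_comm]

lemma coeff_alt (p q : Fin n → ℕ ×ₗ ℕ) (hp : StrictMono p) (hq : StrictMono q) :
    coeff (ev (fun j => ofLex (q j))) (alt (k := k) (fun j => ofLex (p j))) =
      if p = q then 1 else 0 := by
  rw [alt_eq_sum, coeff_sum]
  have key : ∀ σ : Equiv.Perm (Fin n),
      ev ((fun j => ofLex (p j)) ∘ σ.symm) = ev (fun j => ofLex (q j)) ↔ (σ = 1 ∧ p = q) := by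
    intro σ
    constructor
    · intro h
      have h1 := ev_injective h
      have h2 : p ∘ σ.symm = q := by
        funext i
        have := congrFun h1 i
        simpa using this
      have hpq : p = q := by
        rw [← hp.range_inj hq, ← h2, Set.range_comp, Equiv.range_eq_univ, Set.image_univ]
      refine ⟨?_, hpq⟩
      ext i
      have h3 := congrFun h2 (σ i)
      simp only [Function.comp_apply, Equiv.symm_apply_apply] at h3
      rw [← hpq] at h3
      have := hp.injective h3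
      simp [← this]
    · rintro ⟨rfl, rfl⟩
      rfl
  split_ifs with hpq
  · rw [Finset.sum_eq_single (1 : Equiv.Perm (Fin n))]
    · have : ev ((fun j => ofLex (p j)) ∘ (1 : Equiv.Perm (Fin n)).symm) =
          ev (fun j => ofLex (q j)) := (key 1).mpr ⟨rfl, hpq⟩
      rw [this]
      simp
    · intro σ _ hσ
      have hne : ¬ ev ((fun j => ofLex (p j)) ∘ σ.symm) = ev (fun j => ofLex (q j)) := by
        rw [key]; exact fun h => hσ h.1
      rw [← map_intCast (C : k →+* MvPolynomial (Fin n × Fin 2) k), coeff_C_mul, coeff_monomial,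
        if_neg hne, mul_zero]
    · simp
  · refine Finset.sum_eq_zero (fun σ _ => ?_)
    have hne : ¬ ev ((fun j => ofLex (p j)) ∘ σ.symm) = ev (fun j => ofLex (q j)) := by
      rw [key]; exact fun h => hpq h.2
    rw [← map_intCast (C : k →+* MvPolynomial (Fin n × Fin 2) k), coeff_C_mul, coeff_monomial,
      if_neg hne, mul_zero]

theorem linIndep :
    LinearIndependent k (fun p : {p : Fin n → ℕ ×ₗ ℕ // StrictMono p} =>
      alt (k := k) (fun j => ofLex (p.1 j))) := by
  rw [linearIndependent_iff']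
  intro s g hg q hq
  have h := congrArg (coeff (ev (fun j => ofLex (q.1 j)))) hg
  rw [coeff_sum, coeff_zero] at h
  rw [Finset.sum_eq_single q] at h
  · rw [coeff_smul, coeff_alt _ _ q.2 q.2, if_pos rfl, smul_eq_mul, mul_one] at h
    exact h
  · intro p _ hpq
    rw [coeff_smul, coeff_alt _ _ p.2 q.2, if_neg (fun h => hpq (Subtype.ext h)), smul_zero]
  · intro h'; exact absurd hq h'

end Groth.Agent.Lib.Alternant99
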