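import Groth.Agent.Lib.BlowUpUniv2

/-!
# Blowing up via its universal property, part 3 (helper24)

* `exists_gen_of_mul_span`: ring lemma, `I * (d) = (t)`, `t` nonzerodivisor ⇒ `I = (i)`, `i` nonzerodivisor.
* `IsLocPrincipal'`, `isLocPrincipal_comap`: local principality is preserved by inverse image.
* `isEffCartier_of_mul`: if `𝓐 * 𝓑` is effective Cartier and `𝓑` is locally principal then `𝓐` is
  effective Cartier.
* `isBlowUp_mul_effCartier`: a blowing up in `𝓘` is a blowing up in `𝓘 * 𝓓`, `𝓓` effective Cartier.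
-/

set_option autoImplicit false
universe u
open CategoryTheory CategoryTheory.Limits AlgebraicGeometry TopologicalSpace

namespace Groth.Agent.Lib.BlowUpUniv

open Groth.Agent.Lib.RelCartier

theorem exists_gen_of_mul_span {C : Type*} [CommRing C] (I : Ideal C) (d t : C)
    (ht : t ∈ nonZeroDivisors C) (h : I * Ideal.span {d} = Ideal.span {t}) :
    ∃ i ∈ nonZeroDivisors C, I = Ideal.span {i} := by
  have h1 : t ∈ I * Ideal.span {d} := h ▸ Ideal.mem_span_singleton_self t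
  obtain ⟨i, hiI, hid⟩ := Ideal.mem_mul_span_singleton.mp h1
  -- hid : i * d = t
  have hd : d ∈ nonZeroDivisors C := by
    rw [mem_nonZeroDivisors_iff_right]
    intro x hx
    apply mem_nonZeroDivisors_iff_right.mp ht
    rw [← hid, mul_comm i d, ← mul_assoc, hx, zero_mul]
  have hi : i ∈ nonZeroDivisors C := by
    rw [mem_nonZeroDivisors_iff_right]
    intro x hx
    apply mem_nonZeroDivisors_iff_right.mp ht
    rw [← hid, ← mul_assoc, hx, zero_mul]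
  refine ⟨i, hi, le_antisymm ?_ ?_⟩
  · intro x hx
    have h2 : x * d ∈ Ideal.span {t} := h ▸ Ideal.mul_mem_mul hx (Ideal.mem_span_singleton_self d)
    obtain ⟨c, hc⟩ := Ideal.mem_span_singleton'.mp h2
    -- hc : c * t = x * d
    rw [Ideal.mem_span_singleton']
    refine ⟨c, ?_⟩
    have h3 : (c * i - x) * d = 0 := by
      rw [sub_mul, mul_assoc, hid, hc, sub_self]
    exact sub_eq_zero.mp (mem_nonZeroDivisors_iff_right.mp hd _ h3)
  · rw [Ideal.span_singleton_le_iff_mem]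
    exact hiI

/-- Every point has an affine open neighbourhood on which the ideal is principal. -/
def IsLocPrincipal' {Y : Scheme.{u}} (𝓑 : Y.IdealSheafData) : Prop :=
  ∀ y : Y, ∃ V : Y.affineOpens, y ∈ V.1 ∧ ∃ d : Γ(Y, V.1), 𝓑.ideal V = Ideal.span {d}

theorem isLocPrincipal_of_isEffCartier {Y : Scheme.{u}} (𝓑 : Y.IdealSheafData)
    (h : BlowUp.IsEffCartierIdeal 𝓑) : IsLocPrincipal' 𝓑 := fun y => by
  obtain ⟨V, hyV, d, -, hd⟩ := h y
  exact ⟨V, hyV, d, hd⟩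

theorem isLocPrincipal_comap {X Y : Scheme.{u}} (g : Y ⟶ X) (𝓑 : X.IdealSheafData)
    (h : IsLocPrincipal' 𝓑) : IsLocPrincipal' (𝓑.comap g) := by
  intro y
  obtain ⟨U, hxU, d, hd⟩ := h (g y)
  have hyW : y ∈ g ⁻¹ᵁ U.1 := hxU
  obtain ⟨_, ⟨V, hV, rfl⟩, hyV, hVW⟩ :=
    Y.isBasis_affineOpens.exists_subset_of_mem_open hyW (g ⁻¹ᵁ U.1).2
  have e : V ≤ g ⁻¹ᵁ U.1 := hVW
  refine ⟨⟨V, hV⟩, hyV, (g.appLE U.1 V e).hom d, ?_⟩
  rw [Groth.Agent.Lib.IdealComap.ideal_comap 𝓑 g U.1 U.2 V hV e, hd, Ideal.map_span,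
    Set.image_singleton]

/-- If `𝓐 * 𝓑` is effective Cartier and `𝓑` is locally principal, then `𝓐` is effective Cartier. -/
theorem isEffCartier_of_mul {Y : Scheme.{u}} (𝓐 𝓑 : Y.IdealSheafData) (hB : IsLocPrincipal' 𝓑)
    (hAB : BlowUp.IsEffCartierIdeal (𝓐 * 𝓑)) : BlowUp.IsEffCartierIdeal 𝓐 := by
  intro y
  obtain ⟨V₁, hy₁, d, hd⟩ := hB y
  obtain ⟨V₂, hy₂, t, ht, hIt⟩ := hAB y
  have hyW : y ∈ V₁.1 ⊓ V₂.1 := ⟨hy₁, hy₂⟩
  obtain ⟨_, ⟨V, hV, rfl⟩, hyV, hVW⟩ :=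
    Y.isBasis_affineOpens.exists_subset_of_mem_open hyW (V₁.1 ⊓ V₂.1).2
  have h1 : (⟨V, hV⟩ : Y.affineOpens) ≤ V₁ := fun z hz => (hVW hz).1
  have h2 : (⟨V, hV⟩ : Y.affineOpens) ≤ V₂ := fun z hz => (hVW hz).2
  obtain ⟨ht', hIt'⟩ := cartier_restrict (𝓐 * 𝓑) h2 t ht hIt
  have hd' : 𝓑.ideal ⟨V, hV⟩ = Ideal.span {(Y.presheaf.map (homOfLE h1).op d : Γ(Y, V))} := by
    rw [← 𝓑.map_ideal h1, hd, Ideal.map_span, Set.image_singleton]
  rw [Scheme.IdealSheafData.ideal_mul, Pi.mul_apply, hd'] at hIt'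
  obtain ⟨i, hi, hAi⟩ := exists_gen_of_mul_span _ _ _ ht' hIt'
  exact ⟨⟨V, hV⟩, hyV, i, hi, hAi⟩

/-- A blowing up in `𝓘` is also a blowing up in `𝓘 * 𝓓` for `𝓓` effective Cartier. -/
theorem isBlowUp_mul_effCartier {S S' : Scheme.{u}} (𝓘 𝓓 : S.IdealSheafData)
    (h𝓓 : BlowUp.IsEffCartierIdeal 𝓓) (b : S' ⟶ S) (hb : BlowUp.IsBlowUp b 𝓘) :
    BlowUp.IsBlowUp b (𝓘 * 𝓓) := by
  refine ⟨?_, ?_⟩
  · rw [Groth.Agent.Lib.IdealSheafComap.comap_mul]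
    exact isEffCartier_mul _ _ hb.1 (isEffCartier_comap_of_isBlowUp hb 𝓓 h𝓓)
  · intro Y g hg
    rw [Groth.Agent.Lib.IdealSheafComap.comap_mul] at hg
    exact hb.2 Y g (isEffCartier_of_mul _ _
      (isLocPrincipal_comap g 𝓓 (isLocPrincipal_of_isEffCartier 𝓓 h𝓓)) hg)

end Groth.Agent.Lib.BlowUpUniv
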