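import Groth.Agent.Lib.ModPairProd68
import Groth.Agent.Lib.BlowUpUniv3
import Groth.Prelude.Def_W4c6modpairsegaMP

/-!
# Ambient products of modulus pairs (helper68)

* `quasiCompact_inf_ι`: the intersection of two opens with quasi-compact inclusions has
  quasi-compact inclusion; `quasiCompact_prodInterior_ι`.
* `le_of_mul_le_mul_right`, `eq_of_mul_eq_mul_right`: cancellation of an effective Cartier ideal.
* `isEffCartier_comap_fst`, `isEffCartier_comap_snd`: the moduli pulled back to `ModPair.mprod` are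
  effective Cartier.
* consequences of `ModPair.IsAmbProd`: `IsAmbProd.isEffCartier`, `IsAmbProd.le_comap_fst`,
  `IsAmbProd.le_comap_snd`, `IsAmbProd.support_eq`, `IsAmbProd.le_comap_of_le`.
-/

set_option autoImplicit false
universe u
open CategoryTheory CategoryTheory.Limits AlgebraicGeometry TopologicalSpace

namespace Groth.Agent.Lib.AmbProd68

open Groth.Agent.Lib.ModPairProd68 Groth.Agent.Lib.BlowUpUniv

section qc

variable {P : Scheme.{u}}

theorem isCompact_inf_of_quasiCompact_ι (U : P.Opens) [QuasiCompact U.ι] (V : P.Opens)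
    (hV : IsCompact (V : Set P)) : IsCompact ((U ⊓ V : P.Opens) : Set P) := by
  have h1 : IsCompact (U.ι ⁻¹ᵁ V : Set U) := U.ι.isCompact_preimage hV
  have h2 := h1.image U.ι.continuous
  have h3 : U.ι ''ᵁ (U.ι ⁻¹ᵁ V) = U ⊓ V := by
    rw [Scheme.Hom.image_preimage_eq_opensRange_inf, Scheme.Opens.opensRange_ι]
  rw [← h3]
  exact h2

theorem quasiCompact_ι_of_forall (U : P.Opens)
    (h : ∀ V : P.Opens, IsAffineOpen V → IsCompact ((U ⊓ V : P.Opens) : Set P)) :
    QuasiCompact U.ι := by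
  rw [quasiCompact_iff_forall_isAffineOpen]
  intro V hV
  rw [U.ι.isOpenEmbedding.isEmbedding.isCompact_iff]
  have h3 : U.ι ''ᵁ (U.ι ⁻¹ᵁ V) = U ⊓ V := by
    rw [Scheme.Hom.image_preimage_eq_opensRange_inf, Scheme.Opens.opensRange_ι]
  have := h V hV
  rw [← h3] at this
  exact this

theorem quasiCompact_inf_ι (U₁ U₂ : P.Opens) [QuasiCompact U₁.ι] [QuasiCompact U₂.ι] :
    QuasiCompact (U₁ ⊓ U₂).ι := by
  apply quasiCompact_ι_of_forall
  intro V hV
  have h1 := isCompact_inf_of_quasiCompact_ι U₂ V hV.isCompact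
  have h2 := isCompact_inf_of_quasiCompact_ι U₁ (U₂ ⊓ V) h1
  rwa [inf_assoc]

end qc

section cancel

variable {Y : Scheme.{u}}

/-- Cancellation of an effective Cartier ideal. -/
theorem le_of_mul_le_mul_right (A B E : Y.IdealSheafData) (hE : BlowUp.IsEffCartierIdeal E)
    (h : A * E ≤ B * E) : A ≤ B := by
  refine Scheme.IdealSheafData.le_of_iSup_eq_top
    (ι := {V : Y.affineOpens // ∃ ε : Γ(Y, V.1), ε ∈ nonZeroDivisors Γ(Y, V.1) ∧
      E.ideal V = Ideal.span {ε}}) (fun V => V.1) ?_ ?_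
  · rw [eq_top_iff]
    intro y _
    obtain ⟨V, hyV, ε, hε, hEε⟩ := hE y
    exact Opens.mem_iSup.mpr ⟨⟨V, ε, hε, hEε⟩, hyV⟩
  · rintro ⟨V, ε, hε, hEε⟩
    show A.ideal V ≤ B.ideal V
    intro x hx
    have hεE : ε ∈ E.ideal V := by rw [hEε]; exact Ideal.mem_span_singleton_self ε
    have h1 : x * ε ∈ (A * E).ideal V := by
      rw [Scheme.IdealSheafData.ideal_mul, Pi.mul_apply]
      exact Ideal.mul_mem_mul hx hεE
    have h2 : x * ε ∈ (B * E).ideal V := h V h1
    have h2' : x * ε ∈ B.ideal V * Ideal.span {ε} := by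
      rw [← hEε]
      exact h2
    obtain ⟨b, hb, hbε⟩ := Ideal.mem_mul_span_singleton.mp h2'
    have h3 : (b - x) * ε = 0 := by rw [sub_mul, hbε, sub_self]
    have h4 : b = x := sub_eq_zero.mp (mem_nonZeroDivisors_iff_right.mp hε _ h3)
    exact h4 ▸ hb

theorem eq_of_mul_eq_mul_right (A B E : Y.IdealSheafData) (hE : BlowUp.IsEffCartierIdeal E)
    (h : A * E = B * E) : A = B :=
  le_antisymm (le_of_mul_le_mul_right A B E hE h.le) (le_of_mul_le_mul_right B A E hE h.ge)

/-- A locally principal ideal sheaf containing an effective Cartier ideal is effective Cartier. -/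
theorem isEffCartier_of_le (A B : Y.IdealSheafData) (hA : BlowUp.IsEffCartierIdeal A)
    (hB : IsLocPrincipal' B) (h : A ≤ B) : BlowUp.IsEffCartierIdeal B := by
  intro y
  obtain ⟨V₁, hy₁, d, hd⟩ := hB y
  obtain ⟨V₂, hy₂, t, ht, hIt⟩ := hA y
  have hyW : y ∈ V₁.1 ⊓ V₂.1 := ⟨hy₁, hy₂⟩
  obtain ⟨_, ⟨V, hV, rfl⟩, hyV, hVW⟩ :=
    Y.isBasis_affineOpens.exists_subset_of_mem_open hyW (V₁.1 ⊓ V₂.1).2
  have h1 : (⟨V, hV⟩ : Y.affineOpens) ≤ V₁ := fun z hz => (hVW hz).1
  have h2 : (⟨V, hV⟩ : Y.affineOpens) ≤ V₂ := fun z hz => (hVW hz).2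
  obtain ⟨ht', hIt'⟩ := Groth.Agent.Lib.RelCartier.cartier_restrict A h2 t ht hIt
  have hd' : B.ideal ⟨V, hV⟩ = Ideal.span {(Y.presheaf.map (homOfLE h1).op d : Γ(Y, V))} := by
    rw [← B.map_ideal h1, hd, Ideal.map_span, Set.image_singleton]
  refine ⟨⟨V, hV⟩, hyV, _, ?_, hd'⟩
  have h3 : (Y.presheaf.map (homOfLE h2).op t : Γ(Y, V)) ∈ B.ideal ⟨V, hV⟩ :=
    h ⟨V, hV⟩ (hIt' ▸ Ideal.mem_span_singleton_self _)
  rw [hd'] at h3
  obtain ⟨c, hc⟩ := Ideal.mem_span_singleton'.mp h3
  rw [mem_nonZeroDivisors_iff_right]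
  intro x hx
  apply mem_nonZeroDivisors_iff_right.mp ht'
  rw [← hc, mul_comm c, ← mul_assoc, hx, zero_mul]

end cancel

section mprod

variable {S T X : Scheme.{u}} (f : X ⟶ S) (g : T ⟶ S) (I : X.IdealSheafData) (J : T.IdealSheafData)

theorem quasiCompact_prodInterior_ι (hX : BlowUp.IsEffCartierIdeal I)
    (hT : BlowUp.IsEffCartierIdeal J) : QuasiCompact (ModPair.prodInterior f g I J).ι := by
  have h1 := Groth.Agent.Lib.EffCartier68.quasiCompact_preimage_interior_ι I hX (pullback.fst f g)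
  have h2 := Groth.Agent.Lib.EffCartier68.quasiCompact_preimage_interior_ι J hT (pullback.snd f g)
  exact quasiCompact_inf_ι _ _

theorem toImage_mprodι : (ModPair.prodInterior f g I J).ι.toImage ≫ ModPair.mprodι f g I J =
    (ModPair.prodInterior f g I J).ι := Scheme.Hom.toImage_imageι _

theorem isEffCartier_comap_fst (hX : BlowUp.IsEffCartierIdeal I) (hT : BlowUp.IsEffCartierIdeal J) :
    BlowUp.IsEffCartierIdeal (I.comap (ModPair.mprodι f g I J ≫ pullback.fst f g)) := by
  have hqc := quasiCompact_prodInterior_ι f g I J hX hT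
  have hdom : IsSchemeTheoreticallyDominant
      ((ModPair.mprodι f g I J ≫ pullback.fst f g) ⁻¹ᵁ ModPair.interior I).ι := by
    apply isSchemeTheoreticallyDominant_of_range_toImage_subset (ModPair.prodInterior f g I J).ι
    rintro _ ⟨z, rfl⟩
    show (ModPair.mprodι f g I J ≫ pullback.fst f g).base
      ((ModPair.prodInterior f g I J).ι.toImage.base z) ∈ ModPair.interior I
    rw [← Scheme.Hom.comp_apply, ← Category.assoc, toImage_mprodι, Scheme.Hom.comp_apply]
    exact z.2.1
  exact Groth.Agent.Lib.EffCartier68.isEffCartierIdeal_comap_of_dominant I hX _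

theorem isEffCartier_comap_snd (hX : BlowUp.IsEffCartierIdeal I) (hT : BlowUp.IsEffCartierIdeal J) :
    BlowUp.IsEffCartierIdeal (J.comap (ModPair.mprodι f g I J ≫ pullback.snd f g)) := by
  have hqc := quasiCompact_prodInterior_ι f g I J hX hT
  have hdom : IsSchemeTheoreticallyDominant
      ((ModPair.mprodι f g I J ≫ pullback.snd f g) ⁻¹ᵁ ModPair.interior J).ι := by
    apply isSchemeTheoreticallyDominant_of_range_toImage_subset (ModPair.prodInterior f g I J).ι
    rintro _ ⟨z, rfl⟩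
    show (ModPair.mprodι f g I J ≫ pullback.snd f g).base
      ((ModPair.prodInterior f g I J).ι.toImage.base z) ∈ ModPair.interior J
    rw [← Scheme.Hom.comp_apply, ← Category.assoc, toImage_mprodι, Scheme.Hom.comp_apply]
    exact z.2.2
  exact Groth.Agent.Lib.EffCartier68.isEffCartierIdeal_comap_of_dominant J hT _

variable {f g I J}
variable {Y : Scheme.{u}} {π : Y ⟶ ModPair.mprod f g I J} {K : Y.IdealSheafData}

theorem comap_prodCentre (π : Y ⟶ ModPair.mprod f g I J) :
    (ModPair.prodCentre f g I J).comap π =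
      I.comap (π ≫ ModPair.mprodι f g I J ≫ pullback.fst f g) ⊔
        J.comap (π ≫ ModPair.mprodι f g I J ≫ pullback.snd f g) := by
  rw [ModPair.prodCentre, Scheme.IdealSheafData.comap_sup, ← Scheme.IdealSheafData.comap_comp,
    ← Scheme.IdealSheafData.comap_comp]

theorem IsAmbProd.mul_eq (hY : ModPair.IsAmbProd f g I J π K) :
    K * (I.comap (π ≫ ModPair.mprodι f g I J ≫ pullback.fst f g) ⊔
        J.comap (π ≫ ModPair.mprodι f g I J ≫ pullback.snd f g)) =
      I.comap (π ≫ ModPair.mprodι f g I J ≫ pullback.fst f g) *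
        J.comap (π ≫ ModPair.mprodι f g I J ≫ pullback.snd f g) := by
  have h := hY.2
  rw [comap_prodCentre, ← Scheme.IdealSheafData.comap_comp, ← Scheme.IdealSheafData.comap_comp] at h
  exact h

theorem IsAmbProd.isEffCartier_exc (hY : ModPair.IsAmbProd f g I J π K) :
    BlowUp.IsEffCartierIdeal (I.comap (π ≫ ModPair.mprodι f g I J ≫ pullback.fst f g) ⊔
        J.comap (π ≫ ModPair.mprodι f g I J ≫ pullback.snd f g)) := by
  rw [← comap_prodCentre]
  exact hY.1.1

theorem IsAmbProd.isEffCartier_fst (hX : BlowUp.IsEffCartierIdeal I) (hT : BlowUp.IsEffCartierIdeal J)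
    (hY : ModPair.IsAmbProd f g I J π K) :
    BlowUp.IsEffCartierIdeal (I.comap (π ≫ ModPair.mprodι f g I J ≫ pullback.fst f g)) := by
  rw [Scheme.IdealSheafData.comap_comp]
  exact isEffCartier_comap_of_isBlowUp hY.1 _ (isEffCartier_comap_fst f g I J hX hT)

theorem IsAmbProd.isEffCartier_snd (hX : BlowUp.IsEffCartierIdeal I) (hT : BlowUp.IsEffCartierIdeal J)
    (hY : ModPair.IsAmbProd f g I J π K) :
    BlowUp.IsEffCartierIdeal (J.comap (π ≫ ModPair.mprodι f g I J ≫ pullback.snd f g)) := by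
  rw [Scheme.IdealSheafData.comap_comp]
  exact isEffCartier_comap_of_isBlowUp hY.1 _ (isEffCartier_comap_snd f g I J hX hT)

theorem IsAmbProd.isEffCartier (hX : BlowUp.IsEffCartierIdeal I) (hT : BlowUp.IsEffCartierIdeal J)
    (hY : ModPair.IsAmbProd f g I J π K) : BlowUp.IsEffCartierIdeal K := by
  apply isEffCartier_of_mul K _ (isLocPrincipal_of_isEffCartier _ (IsAmbProd.isEffCartier_exc hY))
  rw [IsAmbProd.mul_eq hY]
  exact isEffCartier_mul _ _ (IsAmbProd.isEffCartier_fst hX hT hY)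
    (IsAmbProd.isEffCartier_snd hX hT hY)

theorem IsAmbProd.le_comap_fst (hY : ModPair.IsAmbProd f g I J π K) :
    K ≤ I.comap (π ≫ ModPair.mprodι f g I J ≫ pullback.fst f g) := by
  apply le_of_mul_le_mul_right _ _ _ (IsAmbProd.isEffCartier_exc hY)
  rw [IsAmbProd.mul_eq hY]
  exact mul_le_mul' le_rfl le_sup_right

theorem IsAmbProd.le_comap_snd (hY : ModPair.IsAmbProd f g I J π K) :
    K ≤ J.comap (π ≫ ModPair.mprodι f g I J ≫ pullback.snd f g) := by
  apply le_of_mul_le_mul_right _ _ _ (IsAmbProd.isEffCartier_exc hY)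
  rw [IsAmbProd.mul_eq hY, mul_comm]
  exact mul_le_mul' le_rfl le_sup_left

theorem IsAmbProd.support_eq (hY : ModPair.IsAmbProd f g I J π K) :
    K.support = (I.comap (π ≫ ModPair.mprodι f g I J ≫ pullback.fst f g)).support ⊔
      (J.comap (π ≫ ModPair.mprodι f g I J ≫ pullback.snd f g)).support := by
  apply le_antisymm
  · have h1 : K.support ≤ (K * (I.comap (π ≫ ModPair.mprodι f g I J ≫ pullback.fst f g) ⊔
        J.comap (π ≫ ModPair.mprodι f g I J ≫ pullback.snd f g))).support := by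
      rw [Scheme.IdealSheafData.support_mul]
      exact le_sup_left
    rw [IsAmbProd.mul_eq hY, Scheme.IdealSheafData.support_mul] at h1
    exact h1
  · exact sup_le (Scheme.IdealSheafData.support_antitone (IsAmbProd.le_comap_fst hY))
      (Scheme.IdealSheafData.support_antitone (IsAmbProd.le_comap_snd hY))

/-- The universal modulus property of the ambient product: a morphism to `Y` from a scheme with an
effective Cartier ideal `L` smaller than the pullbacks of both moduli is ambient for `K`. -/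
theorem IsAmbProd.le_comap_of_le (hY : ModPair.IsAmbProd f g I J π K) {Z : Scheme.{u}}
    (L : Z.IdealSheafData) (hL : BlowUp.IsEffCartierIdeal L) (h : Z ⟶ Y)
    (h1 : L ≤ I.comap (h ≫ π ≫ ModPair.mprodι f g I J ≫ pullback.fst f g))
    (h2 : L ≤ J.comap (h ≫ π ≫ ModPair.mprodι f g I J ≫ pullback.snd f g)) :
    L ≤ K.comap h := by
  set A := I.comap (π ≫ ModPair.mprodι f g I J ≫ pullback.fst f g) with hA
  set B := J.comap (π ≫ ModPair.mprodι f g I J ≫ pullback.snd f g) with hB
  have h1' : L ≤ A.comap h := by rw [hA, ← Scheme.IdealSheafData.comap_comp]; exact h1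
  have h2' : L ≤ B.comap h := by rw [hB, ← Scheme.IdealSheafData.comap_comp]; exact h2
  have hE : BlowUp.IsEffCartierIdeal ((A ⊔ B).comap h) := by
    apply isEffCartier_of_le L _ hL
      (isLocPrincipal_comap h _ (isLocPrincipal_of_isEffCartier _ (IsAmbProd.isEffCartier_exc hY)))
    rw [Scheme.IdealSheafData.comap_sup]
    exact h1'.trans le_sup_left
  apply le_of_mul_le_mul_right _ _ _ hE
  rw [← Groth.Agent.Lib.IdealSheafComap.comap_mul, IsAmbProd.mul_eq hY,
    Groth.Agent.Lib.IdealSheafComap.comap_mul, Scheme.IdealSheafData.comap_sup]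
  show L * (A.comap h + B.comap h) ≤ A.comap h * B.comap h
  rw [mul_add]
  show L * A.comap h ⊔ L * B.comap h ≤ A.comap h * B.comap h
  apply sup_le
  · rw [mul_comm]
    exact mul_le_mul' le_rfl h2'
  · exact mul_le_mul' h1' le_rfl

end mprod

end Groth.Agent.Lib.AmbProd68
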