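import Groth.Agent.Lib.BlowUpExistProj68
import Mathlib.AlgebraicGeometry.Sites.SmallAffineZariski

/-!
# Existence of blowing ups (helper68)

* `exists_iso_of_isBlowUp`: two blowing ups of the same ideal are isomorphic over the base.
* `isBlowUp_comp_iso_inv`, `exists_isBlowUp_of_isAffine`: blowing ups exist over affine schemes.
* `isBlowUp_of_isPullback_cover`: being a blowing up is local on the base (for a cover of the base
  by open immersions and arbitrary pullback squares).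
* `exists_isBlowUp`: every quasi-coherent ideal sheaf on every scheme has a blowing up (the affine
  blowing ups `Proj R(I)` are glued along the small affine Zariski site with Mathlib's relative
  gluing).
-/

set_option autoImplicit false
universe u
open CategoryTheory CategoryTheory.Limits AlgebraicGeometry TopologicalSpace

namespace Groth.Agent.Lib.BlowUpGlue68

open Groth.Agent.Lib.BlowUpUniv

section General

variable {X : Scheme.{u}} (𝓘 : X.IdealSheafData)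

/-- Two blowing ups of the same ideal sheaf are isomorphic over the base. -/
theorem exists_iso_of_isBlowUp {X₁ X₂ : Scheme.{u}} (b₁ : X₁ ⟶ X) (b₂ : X₂ ⟶ X)
    (h₁ : BlowUp.IsBlowUp b₁ 𝓘) (h₂ : BlowUp.IsBlowUp b₂ 𝓘) :
    ∃ e : X₁ ≅ X₂, e.hom ≫ b₂ = b₁ := by
  obtain ⟨f, hf, -⟩ := h₂.2 X₁ b₁ h₁.1
  obtain ⟨g, hg, -⟩ := h₁.2 X₂ b₂ h₂.1
  change f ≫ b₂ = b₁ at hf
  change g ≫ b₁ = b₂ at hg
  obtain ⟨k₁, -, hk₁⟩ := h₁.2 X₁ b₁ h₁.1
  obtain ⟨k₂, -, hk₂⟩ := h₂.2 X₂ b₂ h₂.1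
  refine ⟨⟨f, g, ?_, ?_⟩, hf⟩
  · rw [hk₁ (f ≫ g) (by change (f ≫ g) ≫ b₁ = b₁; rw [Category.assoc, hg, hf]),
      hk₁ (𝟙 _) (Category.id_comp _)]
  · rw [hk₂ (g ≫ f) (by change (g ≫ f) ≫ b₂ = b₂; rw [Category.assoc, hf, hg]),
      hk₂ (𝟙 _) (Category.id_comp _)]

/-- Transport of a blowing up along an isomorphism of the base. -/
theorem isBlowUp_comp_iso_inv {X₂ X₂' : Scheme.{u}} (e : X ≅ X₂) (b₂ : X₂' ⟶ X₂)
    (h : BlowUp.IsBlowUp b₂ (𝓘.comap e.inv)) : BlowUp.IsBlowUp (b₂ ≫ e.inv) 𝓘 := by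
  have hpb : IsPullback (b₂ ≫ e.inv) (𝟙 X₂') e.hom b₂ :=
    IsPullback.of_vert_isIso ⟨by simp⟩
  have := isBlowUp_of_isPullback_of_flat e.hom (𝓘.comap e.inv) b₂ h (b₂ ≫ e.inv) (𝟙 _) hpb
  rwa [← Scheme.IdealSheafData.comap_comp, e.hom_inv_id, Scheme.IdealSheafData.comap_id] at this

/-- Blowing ups exist over affine schemes. -/
theorem exists_isBlowUp_of_isAffine (Z : Scheme.{u}) [IsAffine Z] (𝓙 : Z.IdealSheafData) :
    ∃ (Z' : Scheme.{u}) (b : Z' ⟶ Z), BlowUp.IsBlowUp b 𝓙 := by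
  obtain ⟨Z', b, hb⟩ := Groth.Agent.Lib.BlowUpExistProj68.exists_isBlowUp_Spec Γ(Z, ⊤)
    (𝓙.comap Z.isoSpec.inv)
  exact ⟨Z', b ≫ Z.isoSpec.inv, isBlowUp_comp_iso_inv 𝓙 Z.isoSpec b hb⟩

/-- Being a blowing up is local on the base. -/
theorem isBlowUp_of_isPullback_cover {X' : Scheme.{u}} (b : X' ⟶ X)
    {ι : Type*} (U : ι → Scheme.{u}) (j : ∀ i, U i ⟶ X) [∀ i, IsOpenImmersion (j i)]
    (hcov : ∀ x : X, ∃ i, x ∈ Set.range (j i))
    (B : ι → Scheme.{u}) (p : ∀ i, B i ⟶ U i) (q : ∀ i, B i ⟶ X')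
    (hpb : ∀ i, IsPullback (p i) (q i) (j i) b)
    (hbl : ∀ i, BlowUp.IsBlowUp (p i) (𝓘.comap (j i))) : BlowUp.IsBlowUp b 𝓘 := by
  have hq : ∀ i, IsOpenImmersion (q i) := fun i =>
    MorphismProperty.of_isPullback (P := @IsOpenImmersion) (hpb i) inferInstance
  -- the exceptional ideal is effective Cartier
  have hcartb : BlowUp.IsEffCartierIdeal (𝓘.comap b) := by
    apply Groth.Agent.Lib.ModPairClosure68.isEffCartierIdeal_of_forall_exists_isOpenImmersion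
    intro x'
    obtain ⟨i, u, hu⟩ := hcov (b x')
    obtain ⟨z, -, hz⟩ := Scheme.exists_preimage_of_isPullback (hpb i) u x' hu
    refine ⟨B i, q i, hq i, ⟨z, hz⟩, ?_⟩
    rw [← Scheme.IdealSheafData.comap_comp, ← (hpb i).w, Scheme.IdealSheafData.comap_comp]
    exact (hbl i).1
  -- local data attached to `g : Y ⟶ X`
  have hlocal : ∀ {Y : Scheme.{u}} (g : Y ⟶ X), BlowUp.IsEffCartierIdeal (𝓘.comap g) →
      ∀ (i : ι) (O : Y.Opens), O ≤ g ⁻¹ᵁ (j i).opensRange →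
        ∃ gO : (O : Scheme.{u}) ⟶ U i, gO ≫ j i = O.ι ≫ g ∧
          BlowUp.IsEffCartierIdeal ((𝓘.comap (j i)).comap gO) := by
    intro Y g hcart i O hO
    have hrange : Set.range (O.ι ≫ g) ⊆ Set.range (j i) := by
      rintro _ ⟨y, rfl⟩
      exact hO y.2
    refine ⟨IsOpenImmersion.lift (j i) (O.ι ≫ g) hrange, IsOpenImmersion.lift_fac _ _ _, ?_⟩
    rw [← Scheme.IdealSheafData.comap_comp, IsOpenImmersion.lift_fac,
      Scheme.IdealSheafData.comap_comp]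
    exact isEffCartier_comap_of_flat _ _ hcart
  -- uniqueness of lifts
  have huniq : ∀ {Y : Scheme.{u}} (g : Y ⟶ X), BlowUp.IsEffCartierIdeal (𝓘.comap g) →
      ∀ h h' : Y ⟶ X', h ≫ b = g → h' ≫ b = g → h = h' := by
    intro Y g hcart h h' hh hh'
    apply Scheme.hom_ext_of_forall
    intro y
    obtain ⟨i, hi⟩ := hcov (g y)
    refine ⟨g ⁻¹ᵁ (j i).opensRange, hi, ?_⟩
    obtain ⟨gO, hgO, hcartO⟩ := hlocal g hcart i (g ⁻¹ᵁ (j i).opensRange) le_rfl
    obtain ⟨m, -, hm⟩ := (hbl i).2 _ gO hcartO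
    have e1 : (hpb i).lift gO ((g ⁻¹ᵁ (j i).opensRange).ι ≫ h)
        (by rw [hgO, Category.assoc, hh]) = m :=
      hm _ ((hpb i).lift_fst _ _ _)
    have e2 : (hpb i).lift gO ((g ⁻¹ᵁ (j i).opensRange).ι ≫ h')
        (by rw [hgO, Category.assoc, hh']) = m :=
      hm _ ((hpb i).lift_fst _ _ _)
    rw [← (hpb i).lift_snd gO ((g ⁻¹ᵁ (j i).opensRange).ι ≫ h) (by rw [hgO, Category.assoc, hh]),
      ← (hpb i).lift_snd gO ((g ⁻¹ᵁ (j i).opensRange).ι ≫ h') (by rw [hgO, Category.assoc, hh']),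
      e1, e2]
  refine ⟨hcartb, ?_⟩
  intro Y g hcart
  -- the local lifts
  have hloc : ∀ i : ι, ∃ l : ((g ⁻¹ᵁ (j i).opensRange : Y.Opens) : Scheme.{u}) ⟶ X',
      l ≫ b = (g ⁻¹ᵁ (j i).opensRange).ι ≫ g := by
    intro i
    obtain ⟨gO, hgO, hcartO⟩ := hlocal g hcart i (g ⁻¹ᵁ (j i).opensRange) le_rfl
    obtain ⟨m, hm, -⟩ := (hbl i).2 _ gO hcartO
    change m ≫ p i = gO at hm
    exact ⟨m ≫ q i, by rw [Category.assoc, ← (hpb i).w, ← Category.assoc, hm, hgO]⟩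
  choose l hl using hloc
  have hcover : TopologicalSpace.IsOpenCover (fun i : ι => g ⁻¹ᵁ (j i).opensRange) := by
    rw [TopologicalSpace.IsOpenCover, eq_top_iff]
    intro y _
    obtain ⟨i, hi⟩ := hcov (g y)
    exact Opens.mem_iSup.mpr ⟨i, hi⟩
  obtain ⟨h, hh⟩ := Groth.Agent.Lib.DescendMor45.exists_glue_opens
    (fun i : ι => g ⁻¹ᵁ (j i).opensRange) hcover l (by
      intro i i'
      apply huniq (((g ⁻¹ᵁ (j i).opensRange) ⊓ (g ⁻¹ᵁ (j i').opensRange)).ι ≫ g)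
      · rw [Scheme.IdealSheafData.comap_comp]
        exact isEffCartier_comap_of_flat _ _ hcart
      · rw [Category.assoc, hl i, ← Category.assoc, Scheme.homOfLE_ι]
      · rw [Category.assoc, hl i', ← Category.assoc, Scheme.homOfLE_ι])
  have hhb : h ≫ b = g := by
    apply Scheme.hom_ext_of_forall
    intro y
    obtain ⟨i, hi⟩ := hcov (g y)
    refine ⟨g ⁻¹ᵁ (j i).opensRange, hi, ?_⟩
    rw [← Category.assoc, hh i, hl i]
  exact ⟨h, hhb, fun h' hh' => huniq g hcart h' h hh' hhb⟩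

end General

section Glue

open Scheme.AffineZariskiSite

variable {X : Scheme.{u}} (𝓘 : X.IdealSheafData)

theorem exists_blAff (U : X.AffineZariskiSite) :
    ∃ (Z' : Scheme.{u}) (b : Z' ⟶ (U.1 : Scheme.{u})), BlowUp.IsBlowUp b (𝓘.comap U.1.ι) :=
  have : IsAffine (U.1 : Scheme.{u}) := U.2
  exists_isBlowUp_of_isAffine _ _

/-- The chosen blowing up of the affine open `U` in the restriction of `𝓘`. -/
noncomputable def blAff (U : X.AffineZariskiSite) : Scheme.{u} := (exists_blAff 𝓘 U).choose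

/-- Its structure morphism. -/
noncomputable def blAffHom (U : X.AffineZariskiSite) : blAff 𝓘 U ⟶ (U.1 : Scheme.{u}) :=
  (exists_blAff 𝓘 U).choose_spec.choose

theorem isBlowUp_blAffHom (U : X.AffineZariskiSite) :
    BlowUp.IsBlowUp (blAffHom 𝓘 U) (𝓘.comap U.1.ι) :=
  (exists_blAff 𝓘 U).choose_spec.choose_spec

theorem isEffCartier_trans {V U : X.AffineZariskiSite} (hVU : V.1 ≤ U.1) :
    BlowUp.IsEffCartierIdeal ((𝓘.comap U.1.ι).comap (blAffHom 𝓘 V ≫ X.homOfLE hVU)) := by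
  rw [← Scheme.IdealSheafData.comap_comp, Category.assoc, Scheme.homOfLE_ι,
    Scheme.IdealSheafData.comap_comp]
  exact (isBlowUp_blAffHom 𝓘 V).1

theorem existsUnique_trans {V U : X.AffineZariskiSite} (hVU : V.1 ≤ U.1) :
    ∃! m : blAff 𝓘 V ⟶ blAff 𝓘 U, m ≫ blAffHom 𝓘 U = blAffHom 𝓘 V ≫ X.homOfLE hVU :=
  (isBlowUp_blAffHom 𝓘 U).2 _ _ (isEffCartier_trans 𝓘 hVU)

/-- The transition morphism between the chosen affine blowing ups. -/
noncomputable def trans {V U : X.AffineZariskiSite} (hVU : V.1 ≤ U.1) : blAff 𝓘 V ⟶ blAff 𝓘 U :=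
  (existsUnique_trans 𝓘 hVU).exists.choose

theorem trans_blAffHom {V U : X.AffineZariskiSite} (hVU : V.1 ≤ U.1) :
    trans 𝓘 hVU ≫ blAffHom 𝓘 U = blAffHom 𝓘 V ≫ X.homOfLE hVU :=
  (existsUnique_trans 𝓘 hVU).exists.choose_spec

theorem eq_trans {V U : X.AffineZariskiSite} (hVU : V.1 ≤ U.1) (m : blAff 𝓘 V ⟶ blAff 𝓘 U)
    (hm : m ≫ blAffHom 𝓘 U = blAffHom 𝓘 V ≫ X.homOfLE hVU) : m = trans 𝓘 hVU :=
  (existsUnique_trans 𝓘 hVU).unique hm (trans_blAffHom 𝓘 hVU)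

theorem trans_id (U : X.AffineZariskiSite) : trans 𝓘 (le_refl U.1) = 𝟙 _ := by
  symm
  apply eq_trans
  rw [Category.id_comp]
  have : X.homOfLE (le_refl U.1) = 𝟙 _ := Scheme.homOfLE_rfl _ _
  rw [this, Category.comp_id]

theorem trans_comp {W V U : X.AffineZariskiSite} (hWV : W.1 ≤ V.1) (hVU : V.1 ≤ U.1) :
    trans 𝓘 (hWV.trans hVU) = trans 𝓘 hWV ≫ trans 𝓘 hVU := by
  symm
  apply eq_trans
  rw [Category.assoc, trans_blAffHom, ← Category.assoc, trans_blAffHom, Category.assoc,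
    Scheme.homOfLE_homOfLE]

theorem isPullback_trans {V U : X.AffineZariskiSite} (hVU : V.1 ≤ U.1) :
    IsPullback (trans 𝓘 hVU) (blAffHom 𝓘 V) (blAffHom 𝓘 U) (X.homOfLE hVU) := by
  have hP := IsPullback.of_hasPullback (X.homOfLE hVU) (blAffHom 𝓘 U)
  have h1 := isBlowUp_of_isPullback_of_flat (X.homOfLE hVU) (𝓘.comap U.1.ι) (blAffHom 𝓘 U)
    (isBlowUp_blAffHom 𝓘 U) _ _ hP
  rw [← Scheme.IdealSheafData.comap_comp, Scheme.homOfLE_ι] at h1
  obtain ⟨e, he⟩ := exists_iso_of_isBlowUp (𝓘.comap V.1.ι) (blAffHom 𝓘 V)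
    (pullback.fst (X.homOfLE hVU) (blAffHom 𝓘 U)) (isBlowUp_blAffHom 𝓘 V) h1
  have h2 : e.hom ≫ pullback.snd (X.homOfLE hVU) (blAffHom 𝓘 U) = trans 𝓘 hVU := by
    apply eq_trans
    rw [Category.assoc, ← pullback.condition, ← Category.assoc, he]
  refine hP.flip.of_iso e.symm (Iso.refl _) (Iso.refl _) (Iso.refl _) ?_ ?_ ?_ ?_
  · rw [Iso.refl_hom, Category.comp_id, Iso.symm_hom, ← h2, Iso.inv_hom_id_assoc]
  · rw [Iso.refl_hom, Category.comp_id, Iso.symm_hom, ← he, Iso.inv_hom_id_assoc]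
  · simp
  · simp

/-- The functor `U ↦ Bl_U` on the small affine Zariski site. -/
noncomputable def functor : X.AffineZariskiSite ⥤ Scheme.{u} where
  obj U := blAff 𝓘 U
  map i := trans 𝓘 (toOpens_mono i.le)
  map_id U := trans_id 𝓘 U
  map_comp i i' := trans_comp 𝓘 (toOpens_mono i.le) (toOpens_mono i'.le)

/-- The structure morphisms as a natural transformation to the directed cover of `X`. -/
noncomputable def natTrans :
    functor 𝓘 ⟶ (Scheme.AffineZariskiSite.directedCover X).functorOfLocallyDirected where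
  app U := blAffHom 𝓘 U
  naturality _ _ i := trans_blAffHom 𝓘 (toOpens_mono i.le)

/-- The relative gluing datum of the affine blowing ups. -/
noncomputable def gluingData :
    (Scheme.AffineZariskiSite.directedCover X).RelativeGluingData where
  functor := functor 𝓘
  natTrans := natTrans 𝓘
  equifibered := fun _ _ i => isPullback_trans 𝓘 (toOpens_mono i.le)

instance : ((gluingData 𝓘).functor ⋙ Scheme.forget).IsLocallyDirected :=
  Scheme.Cover.RelativeGluingData.instIsLocallyDirectedI₀CompFunctorForgetOfIsThin ..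

/-- Every quasi-coherent ideal sheaf on every scheme has a blowing up. -/
theorem exists_isBlowUp (X : Scheme.{u}) (𝓘 : X.IdealSheafData) :
    ∃ (X' : Scheme.{u}) (b : X' ⟶ X), BlowUp.IsBlowUp b 𝓘 := by
  refine ⟨(gluingData 𝓘).glued, (gluingData 𝓘).toBase, ?_⟩
  refine isBlowUp_of_isPullback_cover 𝓘 (gluingData 𝓘).toBase
    (fun U : X.AffineZariskiSite => (U.1 : Scheme.{u})) (fun U => U.1.ι) ?_
    (fun U => blAff 𝓘 U) (fun U => blAffHom 𝓘 U) (fun U => colimit.ι (gluingData 𝓘).functor U)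
    (fun U => (gluingData 𝓘).isPullback_natTrans_ι_toBase U) (fun U => isBlowUp_blAffHom 𝓘 U)
  intro x
  obtain ⟨U, hxU⟩ := TopologicalSpace.Opens.mem_iSup.mp
    ((iSup_affineOpens_eq_top X).ge (Set.mem_univ x))
  exact ⟨⟨U.1, U.2⟩, ⟨x, hxU⟩, rfl⟩

end Glue

end Groth.Agent.Lib.BlowUpGlue68
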