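import Groth.Agent.Lib.AmbProd68
import Groth.Agent.Lib.BlowUpGlue68

/-!
# Existence of the ambient product of modulus pairs (helper68)

* `inf_mul_sup_eq_mul`: `(A ⊓ B) * (A ⊔ B) = A * B` for ideal sheaves with `A ⊔ B` locally principal.
* `exists_isAmbProd`: the ambient product (`ModPair.IsAmbProd`) exists: blow up `mprod f g I J` in the
  sum of the pulled-back moduli and take `K` the intersection of the pulled-back moduli.
-/

set_option autoImplicit false
universe u
open CategoryTheory CategoryTheory.Limits AlgebraicGeometry TopologicalSpace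

namespace Groth.Agent.Lib.AmbProd68

open Groth.Agent.Lib.BlowUpUniv

theorem inf_mul_sup_eq_mul {Y : Scheme.{u}} (A B : Y.IdealSheafData)
    (h : IsLocPrincipal' (A ⊔ B)) : (A ⊓ B) * (A ⊔ B) = A * B := by
  apply le_antisymm
  · intro V
    change (A.ideal V ⊓ B.ideal V) * (A.ideal V ⊔ B.ideal V) ≤ A.ideal V * B.ideal V
    rw [Ideal.mul_sup]
    apply sup_le
    · calc (A.ideal V ⊓ B.ideal V) * A.ideal V ≤ B.ideal V * A.ideal V :=
          Ideal.mul_mono_left inf_le_right
        _ = A.ideal V * B.ideal V := mul_comm _ _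
    · exact Ideal.mul_mono_left inf_le_left
  · refine Scheme.IdealSheafData.le_of_iSup_eq_top
      (ι := {V : Y.affineOpens // ∃ d : Γ(Y, V.1), (A ⊔ B).ideal V = Ideal.span {d}})
      (fun V => V.1) ?_ ?_
    · rw [eq_top_iff]
      intro y _
      obtain ⟨V, hyV, d, hd⟩ := h y
      exact Opens.mem_iSup.mpr ⟨⟨V, d, hd⟩, hyV⟩
    · rintro ⟨V, d, hd⟩
      change A.ideal V * B.ideal V ≤ (A.ideal V ⊓ B.ideal V) * (A ⊔ B).ideal V
      rw [Ideal.mul_le]
      intro x hx t ht
      have hxE : x ∈ Ideal.span {d} := by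
        rw [← hd]
        exact (le_sup_left : A.ideal V ≤ A.ideal V ⊔ B.ideal V) hx
      have htE : t ∈ Ideal.span {d} := by
        rw [← hd]
        exact (le_sup_right : B.ideal V ≤ A.ideal V ⊔ B.ideal V) ht
      obtain ⟨x', hx'⟩ := Ideal.mem_span_singleton'.mp hxE
      obtain ⟨t', ht'⟩ := Ideal.mem_span_singleton'.mp htE
      have e : x * t = (x' * t' * d) * d := by rw [← hx', ← ht']; ring
      rw [e]
      apply Ideal.mul_mem_mul
      · constructor
        · have : x' * t' * d = t' * x := by rw [← hx']; ring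
          rw [this]
          exact Ideal.mul_mem_left _ _ hx
        · have : x' * t' * d = x' * t := by rw [← ht']; ring
          rw [this]
          exact Ideal.mul_mem_left _ _ ht
      · rw [hd]
        exact Ideal.mem_span_singleton_self d

/-- The ambient product of two modulus pairs over a third exists. -/
theorem exists_isAmbProd {S T X : Scheme.{u}} (f : X ⟶ S) (g : T ⟶ S) (I : X.IdealSheafData)
    (J : T.IdealSheafData) :
    ∃ (Y : Scheme.{u}) (π : Y ⟶ ModPair.mprod f g I J) (K : Y.IdealSheafData),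
      ModPair.IsAmbProd f g I J π K := by
  obtain ⟨Y, π, hπ⟩ := Groth.Agent.Lib.BlowUpGlue68.exists_isBlowUp (ModPair.mprod f g I J)
    (ModPair.prodCentre f g I J)
  refine ⟨Y, π, (I.comap (ModPair.mprodι f g I J ≫ pullback.fst f g)).comap π ⊓
    (J.comap (ModPair.mprodι f g I J ≫ pullback.snd f g)).comap π, hπ, ?_⟩
  have hE : (ModPair.prodCentre f g I J).comap π =
      (I.comap (ModPair.mprodι f g I J ≫ pullback.fst f g)).comap π ⊔
        (J.comap (ModPair.mprodι f g I J ≫ pullback.snd f g)).comap π := by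
    rw [ModPair.prodCentre, Scheme.IdealSheafData.comap_sup]
  rw [hE]
  apply inf_mul_sup_eq_mul
  rw [← hE]
  exact isLocPrincipal_of_isEffCartier _ hπ.1

end Groth.Agent.Lib.AmbProd68
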