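import Groth.Agent.Lib.AffineBlowupAlg
import Mathlib.RingTheory.Valuation.ValuationRing
import Mathlib.RingTheory.FiniteType
import Mathlib.RingTheory.Localization.Away.Basic

/-!
# Algebra for the properness of blowing ups (helper68)

For the affine blow-up algebra `Bl I a = A[I/a]` (helper24's `AffineBlowupAlg`):
* `gen_unique`, `gen_add`, `gen_smul`, `gen_self`;
* `finiteType`: `A[I/a]` is of finite type over `A` when `I` is finitely generated;
* `exists_transition`: the canonical map `A[I/s] → A[I/a]_{s/a}`;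
* `exists_best_generator`: valuation-theoretic choice of the chart;
* `exists_valuative_lift`: the algebraic heart of the existence part of the valuative criterion.
-/

set_option autoImplicit false
universe u

namespace Groth.Agent.Lib.BlowUpProperAlg68

open Groth.Agent.Lib.AffineBlowupAlg

variable {A : Type u} [CommRing A] (I : Ideal A) (a : A)

theorem gen_unique (x : A) (hx : x ∈ I) (z : Bl I a)
    (h : z * algebraMap A (Bl I a) a = algebraMap A (Bl I a) x) : z = gen I a x hx := by
  apply (mul_cancel_right_mem_nonZeroDivisors (algebraMap_mem_nonZeroDivisors I a)).mp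
  rw [h, gen_mul]

theorem gen_add (x y : A) (hx : x ∈ I) (hy : y ∈ I) :
    gen I a (x + y) (I.add_mem hx hy) = gen I a x hx + gen I a y hy := by
  symm
  apply gen_unique
  rw [add_mul, gen_mul, gen_mul, map_add]

theorem gen_smul (r x : A) (hx : x ∈ I) :
    gen I a (r * x) (I.mul_mem_left r hx) = algebraMap A (Bl I a) r * gen I a x hx := by
  symm
  apply gen_unique
  rw [mul_assoc, gen_mul, map_mul]

theorem gen_zero : gen I a 0 I.zero_mem = 0 := by
  symm
  apply gen_unique
  rw [zero_mul, map_zero]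

theorem gen_self (ha : a ∈ I) : gen I a a ha = 1 := by
  symm
  apply gen_unique
  rw [one_mul]

/-- `A[I/a]` is generated as an `A`-algebra by the `s/a`, `s` in a generating set of `I`. -/
theorem adjoin_gen_eq_top (S : Set A) (hS : Ideal.span S = I) :
    Algebra.adjoin A {z : Bl I a | ∃ (s : A) (hs : s ∈ I), s ∈ S ∧ z = gen I a s hs} = ⊤ := by
  rw [eq_top_iff]
  rintro z -
  refine induction_on I a (p := fun z => z ∈ Algebra.adjoin A
    {z : Bl I a | ∃ (s : A) (hs : s ∈ I), s ∈ S ∧ z = gen I a s hs}) z ?_ ?_ ?_ ?_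
  · intro x
    exact Subalgebra.algebraMap_mem _ x
  · intro x hx
    have hx' : x ∈ Ideal.span S := hS ▸ hx
    have key : ∀ (y : A) (hy' : y ∈ Ideal.span S) (hy : y ∈ I), gen I a y hy ∈ Algebra.adjoin A
        {z : Bl I a | ∃ (s : A) (hs : s ∈ I), s ∈ S ∧ z = gen I a s hs} := by
      intro y hy'
      refine Submodule.span_induction (p := fun y _ => ∀ hy : y ∈ I, gen I a y hy ∈
        Algebra.adjoin A {z : Bl I a | ∃ (s : A) (hs : s ∈ I), s ∈ S ∧ z = gen I a s hs})
        ?_ ?_ ?_ ?_ hy'
      · intro s hs hsI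
        exact Algebra.subset_adjoin ⟨s, hsI, hs, rfl⟩
      · intro h0
        rw [gen_zero]
        exact Subalgebra.zero_mem _
      · intro y₁ y₂ h₁ h₂ ih₁ ih₂ h12
        have hy₁ : y₁ ∈ I := hS ▸ h₁
        have hy₂ : y₂ ∈ I := hS ▸ h₂
        rw [gen_add I a y₁ y₂ hy₁ hy₂]
        exact Subalgebra.add_mem _ (ih₁ hy₁) (ih₂ hy₂)
      · intro r y₁ h₁ ih₁ hry
        have hy₁ : y₁ ∈ I := hS ▸ h₁
        have : gen I a (r • y₁) hry = algebraMap A (Bl I a) r * gen I a y₁ hy₁ :=
          gen_smul I a r y₁ hy₁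
        rw [this]
        exact Subalgebra.mul_mem _ (Subalgebra.algebraMap_mem _ r) (ih₁ hy₁)
    exact key x hx' hx
  · intro z w hz hw
    exact Subalgebra.add_mem _ hz hw
  · intro z w hz hw
    exact Subalgebra.mul_mem _ hz hw

theorem finiteType (hI : I.FG) : Algebra.FiniteType A (Bl I a) := by
  obtain ⟨S, hS⟩ := hI
  classical
  refine ⟨⟨S.attach.image (fun s => gen I a s.1 (hS ▸ Ideal.subset_span s.2)), ?_⟩⟩
  rw [← adjoin_gen_eq_top I a (S : Set A) hS]
  congr 1
  ext z
  simp only [Finset.coe_image, Set.mem_image, Finset.mem_coe, Finset.mem_attach, true_and,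
    Subtype.exists, Set.mem_ofPred_eq]
  constructor
  · rintro ⟨s, hs, rfl⟩
    exact ⟨s, hS ▸ Ideal.subset_span hs, hs, rfl⟩
  · rintro ⟨s, hsI, hs, rfl⟩
    exact ⟨s, hs, rfl⟩

section transition

variable {I a} (s : A) (hs : s ∈ I)

/-- The composite `A → A[I/a] → A[I/a]_{s/a}`. -/
noncomputable abbrev toAway : A →+* Localization.Away (gen I a s hs) :=
  (algebraMap (Bl I a) (Localization.Away (gen I a s hs))).comp (algebraMap A (Bl I a))

theorem toAway_eq (x : A) (hx : x ∈ I) :
    toAway s hs x = algebraMap (Bl I a) (Localization.Away (gen I a s hs)) (gen I a x hx) *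
      algebraMap (Bl I a) (Localization.Away (gen I a s hs)) (algebraMap A (Bl I a) a) := by
  rw [← map_mul, gen_mul]
  rfl

theorem algebraMap_a_mem_nonZeroDivisors :
    algebraMap (Bl I a) (Localization.Away (gen I a s hs)) (algebraMap A (Bl I a) a) ∈
      nonZeroDivisors (Localization.Away (gen I a s hs)) :=
  IsLocalization.map_nonZeroDivisors_le (Submonoid.powers (gen I a s hs)) _
    ⟨_, algebraMap_mem_nonZeroDivisors I a, rfl⟩

theorem isUnit_algebraMap_gen :
    IsUnit (algebraMap (Bl I a) (Localization.Away (gen I a s hs)) (gen I a s hs)) :=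
  IsLocalization.Away.algebraMap_isUnit _

theorem toAway_mem_nonZeroDivisors :
    toAway s hs s ∈ nonZeroDivisors (Localization.Away (gen I a s hs)) := by
  rw [toAway_eq s hs s hs]
  exact mul_mem (isUnit_algebraMap_gen s hs).mem_nonZeroDivisors
    (algebraMap_a_mem_nonZeroDivisors s hs)

theorem toAway_dvd (x : A) (hx : x ∈ I) : toAway (a := a) s hs s ∣ toAway s hs x := by
  rw [toAway_eq s hs s hs, toAway_eq s hs x hx]
  obtain ⟨u, hu⟩ := isUnit_algebraMap_gen (a := a) s hs
  refine ⟨algebraMap (Bl I a) (Localization.Away (gen I a s hs)) (gen I a x hx) * ↑u⁻¹, ?_⟩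
  rw [← hu]
  have : (↑u : Localization.Away (gen I a s hs)) * ↑u⁻¹ = 1 := u.mul_inv
  calc algebraMap (Bl I a) (Localization.Away (gen I a s hs)) (gen I a x hx) *
        algebraMap (Bl I a) (Localization.Away (gen I a s hs)) (algebraMap A (Bl I a) a)
      = ((↑u : Localization.Away (gen I a s hs)) * ↑u⁻¹) *
        (algebraMap (Bl I a) (Localization.Away (gen I a s hs)) (gen I a x hx) *
        algebraMap (Bl I a) (Localization.Away (gen I a s hs)) (algebraMap A (Bl I a) a)) := by
        rw [this, one_mul]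
    _ = _ := by ring

/-- The canonical map `A[I/s] → A[I/a]_{s/a}`. -/
theorem exists_transition :
    ∃ θ : Bl I s →+* Localization.Away (gen I a s hs),
      θ.comp (algebraMap A (Bl I s)) = toAway s hs ∧
      ∀ (x : A) (hx : x ∈ I), θ (gen I s x hx) *
        algebraMap (Bl I a) (Localization.Away (gen I a s hs)) (gen I a s hs) =
          algebraMap (Bl I a) (Localization.Away (gen I a s hs)) (gen I a x hx) := by
  obtain ⟨θ, hθ⟩ := exists_lift (I := I) (a := s) (toAway (a := a) s hs)
    (toAway_mem_nonZeroDivisors s hs) (toAway_dvd s hs)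
  refine ⟨θ, hθ, fun x hx => ?_⟩
  have h1 : θ (gen I s x hx) * toAway (a := a) s hs s = toAway s hs x := by
    rw [← hθ, RingHom.comp_apply, RingHom.comp_apply, ← map_mul, gen_mul]
  rw [toAway_eq s hs s hs, toAway_eq s hs x hx, ← mul_assoc] at h1
  exact (mul_cancel_right_mem_nonZeroDivisors (algebraMap_a_mem_nonZeroDivisors s hs)).mp h1

end transition

section valuative

variable {I a}
variable {R K : Type u} [CommRing R] [IsDomain R] [ValuationRing R] [Field K] [Algebra R K]
  [IsFractionRing R K]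

/-- Choice of the chart: among the `ψ (s/a)`, `s` in a finite generating set, one divides all the
`ψ (x/a)`, `x ∈ I`, in the valuation ring. -/
theorem exists_best_generator (ha : a ∈ I) (S : Finset A) (hS : Ideal.span (S : Set A) = I)
    (φ : A →+* R) (ψ : Bl I a →+* K)
    (hψ : ψ.comp (algebraMap A (Bl I a)) = (algebraMap R K).comp φ) :
    ∃ (s : A) (hs : s ∈ I), s ∈ S ∧ ψ (gen I a s hs) ≠ 0 ∧
      ∀ (x : A) (hx : x ∈ I), ∃ r : R, algebraMap R K r * ψ (gen I a s hs) = ψ (gen I a x hx) := by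
  classical
  have hSI : ∀ s ∈ S, s ∈ I := fun s hs => hS ▸ Ideal.subset_span hs
  -- the values
  let τ : A → K := fun x => if hx : x ∈ I then ψ (gen I a x hx) else 0
  have hτ : ∀ (x : A) (hx : x ∈ I), τ x = ψ (gen I a x hx) := fun x hx => dif_pos hx
  let T : Submodule R K := Submodule.span R (τ '' (S : Set A))
  have hψalg : ∀ r : A, ψ (algebraMap A (Bl I a) r) = algebraMap R K (φ r) := fun r => by
    have := congrArg (fun f => f r) hψ
    simpa using this
  have key : ∀ (x : A) (_ : x ∈ Ideal.span (S : Set A)) (hx : x ∈ I), ψ (gen I a x hx) ∈ T := by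
    intro x hx'
    refine Submodule.span_induction (p := fun y _ => ∀ hy : y ∈ I, ψ (gen I a y hy) ∈ T)
      ?_ ?_ ?_ ?_ hx'
    · intro s hs hsI
      exact Submodule.subset_span ⟨s, hs, hτ s hsI⟩
    · intro h0
      rw [gen_zero, map_zero]
      exact T.zero_mem
    · intro y₁ y₂ h₁ h₂ ih₁ ih₂ h12
      have hy₁ : y₁ ∈ I := hS ▸ h₁
      have hy₂ : y₂ ∈ I := hS ▸ h₂
      rw [gen_add I a y₁ y₂ hy₁ hy₂, map_add]
      exact T.add_mem (ih₁ hy₁) (ih₂ hy₂)
    · intro r y₁ h₁ ih₁ hry
      have hy₁ : y₁ ∈ I := hS ▸ h₁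
      have : gen I a (r • y₁) hry = algebraMap A (Bl I a) r * gen I a y₁ hy₁ :=
        gen_smul I a r y₁ hy₁
      rw [this, map_mul, hψalg, ← Algebra.smul_def]
      exact T.smul_mem _ (ih₁ hy₁)
  have h1T : (1 : K) ∈ T := by
    have := key a (hS ▸ ha) ha
    rwa [gen_self I a ha, map_one] at this
  have hSne : S.Nonempty := by
    by_contra hne
    rw [Finset.not_nonempty_iff_eq_empty] at hne
    have : T = ⊥ := by
      simp only [T, hne, Finset.coe_empty, Set.image_empty, Submodule.span_empty]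
    rw [this, Submodule.mem_bot] at h1T
    exact one_ne_zero h1T
  let v := ValuationRing.valuation R K
  obtain ⟨s, hsS, hmax⟩ := Finset.exists_max_image S (fun s => v (τ s)) hSne
  have hsI := hSI s hsS
  have hsub : ∀ s' ∈ S, ∃ r : R, algebraMap R K r * τ s = τ s' := by
    intro s' hs'
    by_cases h0 : τ s = 0
    · have h2 : v (τ s') ≤ v (τ s) := hmax s' hs'
      rw [h0, map_zero, le_zero_iff, map_eq_zero] at h2
      exact ⟨0, by rw [h2, map_zero, zero_mul]⟩
    · have h2 : v (τ s' / τ s) ≤ 1 := by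
        rw [map_div₀]
        exact div_le_one_of_le₀ (hmax s' hs') zero_le
      obtain ⟨r, hr⟩ := (ValuationRing.mem_integer_iff R K _).mp
        ((Valuation.mem_integer_iff _ _).mpr h2)
      exact ⟨r, by rw [hr, div_mul_cancel₀ _ h0]⟩
  have hT : T ≤ Submodule.span R {τ s} := by
    apply Submodule.span_le.mpr
    rintro _ ⟨s', hs', rfl⟩
    obtain ⟨r, hr⟩ := hsub s' hs'
    rw [SetLike.mem_coe, Submodule.mem_span_singleton]
    exact ⟨r, by rw [Algebra.smul_def, hr]⟩
  refine ⟨s, hsI, hsS, ?_, ?_⟩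
  · intro h0
    have h3 := hT h1T
    rw [hτ s hsI, h0, Submodule.span_singleton_eq_bot.mpr rfl, Submodule.mem_bot] at h3
    exact one_ne_zero h3
  · intro x hx
    have h3 := hT (key x (hS ▸ hx) hx)
    rw [Submodule.mem_span_singleton] at h3
    obtain ⟨r, hr⟩ := h3
    exact ⟨r, by rw [← hr, Algebra.smul_def, hτ s hsI]⟩

omit [IsDomain R] [ValuationRing R] in
/-- A ring homomorphism to `K` with values in the image of the injection `R → K` factors through `R`. -/
theorem exists_ringHom_of_range {B : Type*} [CommRing B] (Φ : B →+* K)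
    (h : ∀ z : B, ∃ r : R, algebraMap R K r = Φ z) :
    ∃ ψ₀ : B →+* R, (algebraMap R K).comp ψ₀ = Φ := by
  have hinj : Function.Injective (algebraMap R K) := IsFractionRing.injective R K
  choose ψ hψ using h
  refine ⟨{ toFun := ψ, map_one' := ?_, map_mul' := ?_, map_zero' := ?_, map_add' := ?_ }, ?_⟩
  · apply hinj; rw [hψ, map_one, map_one]
  · intro z w; apply hinj; rw [hψ, map_mul, map_mul, hψ, hψ]
  · apply hinj; rw [hψ, map_zero, map_zero]
  · intro z w; apply hinj; rw [hψ, map_add, map_add, hψ, hψ]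
  · exact RingHom.ext fun z => hψ z

/-- The algebraic heart of the existence part of the valuative criterion for a blowing up. -/
theorem exists_valuative_lift (ha : a ∈ I) (S : Finset A) (hS : Ideal.span (S : Set A) = I)
    (φ : A →+* R) (ψ : Bl I a →+* K)
    (hψ : ψ.comp (algebraMap A (Bl I a)) = (algebraMap R K).comp φ) :
    ∃ (s : A) (hs : s ∈ I), s ∈ S ∧ ∃ (hu : IsUnit (ψ (gen I a s hs)))
      (θ : Bl I s →+* Localization.Away (gen I a s hs)) (ψ₀ : Bl I s →+* R),
      θ.comp (algebraMap A (Bl I s)) = toAway s hs ∧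
      ψ₀.comp (algebraMap A (Bl I s)) = φ ∧
      (algebraMap R K).comp ψ₀ =
        (IsLocalization.Away.lift (S := Localization.Away (gen I a s hs)) (gen I a s hs)
          (g := ψ) hu).comp θ := by
  obtain ⟨s, hs, hsS, hne, hdiv⟩ := exists_best_generator ha S hS φ ψ hψ
  have hu : IsUnit (ψ (gen I a s hs)) := hne.isUnit
  obtain ⟨θ, hθ, hθgen⟩ := exists_transition (a := a) s hs
  set ψ₁ := IsLocalization.Away.lift (S := Localization.Away (gen I a s hs)) (gen I a s hs)
    (g := ψ) hu with hψ₁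
  have hψ₁alg : ∀ z : Bl I a, ψ₁ (algebraMap (Bl I a) (Localization.Away (gen I a s hs)) z) = ψ z :=
    fun z => IsLocalization.Away.lift_eq _ hu z
  have hψalg : ∀ r : A, ψ (algebraMap A (Bl I a) r) = algebraMap R K (φ r) := fun r => by
    have := congrArg (fun f => f r) hψ
    simpa using this
  set Φ : Bl I s →+* K := ψ₁.comp θ with hΦ
  have hΦalg : ∀ x : A, Φ (algebraMap A (Bl I s) x) = algebraMap R K (φ x) := by
    intro x
    have h1 : θ (algebraMap A (Bl I s) x) = toAway (a := a) s hs x := by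
      rw [← hθ]; rfl
    rw [hΦ, RingHom.comp_apply, h1]
    show ψ₁ (algebraMap (Bl I a) _ (algebraMap A (Bl I a) x)) = _
    rw [hψ₁alg, hψalg]
  have hrange : ∀ z : Bl I s, ∃ r : R, algebraMap R K r = Φ z := by
    intro z
    refine induction_on I s (p := fun z => ∃ r : R, algebraMap R K r = Φ z) z ?_ ?_ ?_ ?_
    · intro x
      exact ⟨φ x, (hΦalg x).symm⟩
    · intro x hx
      obtain ⟨r, hr⟩ := hdiv x hx
      refine ⟨r, ?_⟩
      have h1 := congrArg ψ₁ (hθgen x hx)
      rw [map_mul, hψ₁alg, hψ₁alg] at h1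
      apply hu.mul_left_injective
      show algebraMap R K r * ψ (gen I a s hs) = Φ (gen I s x hx) * ψ (gen I a s hs)
      rw [hr]
      exact h1.symm
    · rintro z w ⟨r, hr⟩ ⟨t, ht⟩
      exact ⟨r + t, by rw [map_add, map_add, hr, ht]⟩
    · rintro z w ⟨r, hr⟩ ⟨t, ht⟩
      exact ⟨r * t, by rw [map_mul, map_mul, hr, ht]⟩
  obtain ⟨ψ₀, hψ₀⟩ := exists_ringHom_of_range Φ hrange
  refine ⟨s, hs, hsS, hu, θ, ψ₀, hθ, ?_, hψ₀⟩
  refine RingHom.ext fun x => ?_
  apply IsFractionRing.injective R K
  have h2 : algebraMap R K (ψ₀ (algebraMap A (Bl I s) x)) = Φ (algebraMap A (Bl I s) x) := by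
    rw [← hψ₀]; rfl
  rw [RingHom.comp_apply, h2, hΦalg]

end valuative

end Groth.Agent.Lib.BlowUpProperAlg68
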