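import Groth.Agent.Lib.AmbProd68
import Mathlib.AlgebraicGeometry.Morphisms.Separated

/-!
# A blowing up is separated (helper68)

`BlowUp.IsBlowUp b 𝓘` is the universal property only.  If the inclusion of the complement of the
centre is quasi-compact (e.g. `𝓘` of finite type) then `b` is separated: the scheme-theoretic closure
`R'` in `X' ×_X X'` of the part over the complement `U` of the centre has `𝓘 · 𝒪_{R'}` effective Cartier,
so the two projections agree on `R'` by uniqueness in the universal property; the diagonal factors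
through `R'` because `b⁻¹ U` is scheme-theoretically dense in `X'`, and `X' ≅ R'`.
-/

set_option autoImplicit false
universe u
open CategoryTheory CategoryTheory.Limits AlgebraicGeometry TopologicalSpace

namespace Groth.Agent.Lib.BlowUpSep68

open Groth.Agent.Lib.ModPairProd68 Groth.Agent.Lib.BlowUpUniv

variable {X X' : Scheme.{u}} {𝓘 : X.IdealSheafData} {b : X' ⟶ X}

theorem isSeparated_of_isBlowUp (hb : BlowUp.IsBlowUp b 𝓘)
    (hqc : QuasiCompact (ModPair.interior 𝓘).ι) : IsSeparated b := by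
  set U : X.Opens := ModPair.interior 𝓘 with hU
  set E : X'.IdealSheafData := 𝓘.comap b with hE
  have hEc : BlowUp.IsEffCartierIdeal E := hb.1
  have hEint : ModPair.interior E = b ⁻¹ᵁ U := Groth.Agent.Lib.EffCartier96.interior_comap 𝓘 b
  set p₁ := pullback.fst b b with hp₁
  set p₂ := pullback.snd b b with hp₂
  set RU : (pullback b b).Opens := (p₁ ≫ b) ⁻¹ᵁ U with hRU
  have hjqc : QuasiCompact RU.ι :=
    MorphismProperty.of_isPullback (isPullback_morphismRestrict (p₁ ≫ b) U) hqc
  set i := RU.ι.imageι with hi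
  have htoIm : RU.ι.toImage ≫ i = RU.ι := Scheme.Hom.toImage_imageι _
  -- Claim 1
  have hdom : IsSchemeTheoreticallyDominant ((i ≫ p₁) ⁻¹ᵁ ModPair.interior E).ι := by
    apply isSchemeTheoreticallyDominant_of_range_toImage_subset RU.ι
    rintro _ ⟨z, rfl⟩
    show (i ≫ p₁).base (RU.ι.toImage.base z) ∈ ModPair.interior E
    rw [hEint, ← Scheme.Hom.comp_apply, ← Category.assoc, htoIm]
    show b.base ((RU.ι ≫ p₁).base z) ∈ U
    rw [← Scheme.Hom.comp_apply, Category.assoc]
    exact z.2
  have hcart : BlowUp.IsEffCartierIdeal (𝓘.comap (i ≫ p₁ ≫ b)) := by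
    have h1 := Groth.Agent.Lib.EffCartier68.isEffCartierIdeal_comap_of_dominant E hEc (i ≫ p₁)
    rw [hE, ← Scheme.IdealSheafData.comap_comp, Category.assoc] at h1
    exact h1
  -- Claim 2
  have heq : i ≫ p₁ = i ≫ p₂ := by
    obtain ⟨h, -, hu⟩ := hb.2 _ (i ≫ p₁ ≫ b) hcart
    have e1 : (i ≫ p₁) ≫ b = i ≫ p₁ ≫ b := Category.assoc _ _ _
    have e2 : (i ≫ p₂) ≫ b = i ≫ p₁ ≫ b := by
      rw [Category.assoc, hp₁, hp₂, pullback.condition]
    rw [hu _ e1, hu _ e2]
  -- Claim 3
  have hdomE : IsSchemeTheoreticallyDominant (ModPair.interior E).ι :=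
    Groth.Agent.Lib.EffCartier96.isSchemeTheoreticallyDominant_interior_ι E hEc
  have hΔ1 : pullback.diagonal b ≫ p₁ = 𝟙 X' := pullback.diagonal_fst b
  have hΔ2 : pullback.diagonal b ≫ p₂ = 𝟙 X' := pullback.diagonal_snd b
  have hsub : Set.range ((ModPair.interior E).ι ≫ pullback.diagonal b).base ⊆
      Set.range RU.ι.base := by
    rintro _ ⟨z, rfl⟩
    rw [Scheme.Opens.range_ι]
    show (p₁ ≫ b).base (((ModPair.interior E).ι ≫ pullback.diagonal b).base z) ∈ U
    rw [← Scheme.Hom.comp_apply, Category.assoc, ← Category.assoc (pullback.diagonal b), hΔ1,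
      Category.id_comp, Scheme.Hom.comp_apply]
    have hz : z.1 ∈ ModPair.interior E := z.2
    have hle : ModPair.interior E ≤ b ⁻¹ᵁ U := hEint.le
    exact hle hz
  let k := IsOpenImmersion.lift RU.ι ((ModPair.interior E).ι ≫ pullback.diagonal b) hsub
  have hk : (ModPair.interior E).ι ≫ pullback.diagonal b = k ≫ RU.ι :=
    (IsOpenImmersion.lift_fac _ _ _).symm
  have hker : i.ker ≤ (pullback.diagonal b).ker := by
    have h1 : i.ker = RU.ι.ker := by
      rw [hi, Scheme.Hom.imageι, Scheme.IdealSheafData.ker_subschemeι]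
    rw [h1]
    exact le_ker_of_dominant RU.ι (pullback.diagonal b) (ModPair.interior E).ι k hk
  let d : X' ⟶ RU.ι.image := IsClosedImmersion.lift i (pullback.diagonal b) hker
  have hd : d ≫ i = pullback.diagonal b := IsClosedImmersion.lift_fac _ _ _
  -- Claim 4
  have h1 : d ≫ (i ≫ p₁) = 𝟙 X' := by rw [← Category.assoc, hd, hΔ1]
  have h2 : (i ≫ p₁) ≫ d = 𝟙 _ := by
    rw [← cancel_mono i, Category.assoc, hd, Category.id_comp]
    apply pullback.hom_ext
    · rw [Category.assoc, ← hp₁, hΔ1, Category.comp_id]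
    · rw [Category.assoc, ← hp₂, hΔ2, Category.comp_id, heq]
  have hiso : IsIso d := ⟨⟨i ≫ p₁, h1, h2⟩⟩
  constructor
  rw [← hd]
  infer_instance

end Groth.Agent.Lib.BlowUpSep68
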