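import Groth.Agent.Lib.AffineBlowupChart
import Groth.Agent.Lib.BlowUpProperAlg68
import Groth.Agent.Lib.BlowUpSep68
import Mathlib.AlgebraicGeometry.ValuativeCriterion

/-!
# A blowing up in an ideal of finite type is proper (helper68)

`BlowUp.IsBlowUp` is the universal property only; properness is deduced from helper24's affine
charts `Spec A[I/a]` (`AffineBlowupChart`), the valuative criterion (existence part) and
`BlowUpSep68.isSeparated_of_isBlowUp`.

Main results (`b : X' ⟶ Spec A` a blowing up in a finitely generated ideal `I`):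
* `chartMap`, `exists_chartIso`, `exists_mem_chartOpen_of_span`;
* `compactSpace`, `locallyOfFiniteType`, `valuativeCriterion_existence`, `isProper_affine`;
and for an arbitrary base `isProper_of_isBlowUp`.
-/

set_option autoImplicit false
universe u
open CategoryTheory CategoryTheory.Limits AlgebraicGeometry TopologicalSpace

namespace Groth.Agent.Lib.BlowUpProper68

open Groth.Agent.Lib.SectionDiv Groth.Agent.Lib.BlowUpAffine Groth.Agent.Lib.AffineBlowupAlg
open Groth.Agent.Lib.RelCartier Groth.Agent.Lib.BlowUpUniv Groth.Agent.Lib.AffineBlowupChart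
open Groth.Agent.Lib.BlowUpProperAlg68

variable {A : Type u} [CommRing A] (I : Ideal A) {X' : Scheme.{u}}
  (b : X' ⟶ Spec (CommRingCat.of A))

/-- The structure morphism of the affine chart. -/
noncomputable abbrev chartStr (a : A) : Spec (CommRingCat.of (Bl I a)) ⟶ Spec (CommRingCat.of A) :=
  Spec.map (CommRingCat.ofHom (algebraMap A (Bl I a)))

theorem isEffCartier_chartStr (a : A) (ha : a ∈ I) :
    BlowUp.IsEffCartierIdeal ((Curv2.idealSheaf A I).comap (chartStr I a)) :=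
  isEffCartier_comap_SpecMap I (algebraMap A (Bl I a) a) (algebraMap_mem_nonZeroDivisors I a)
    (map_eq_span I a ha)

variable {I b}

/-- The charts for the elements of a generating set cover. -/
theorem exists_mem_chartOpen_of_span (S : Set A) (hS : Ideal.span S = I)
    (hcartb : BlowUp.IsEffCartierIdeal ((Curv2.idealSheaf A I).comap b)) (x' : X') :
    ∃ a ∈ S, x' ∈ chartOpen I b a := by
  obtain ⟨V₀, hxV₀, t, ht, hIt⟩ := hcartb x'
  rw [ideal_eq_map_rho] at hIt
  by_contra hcon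
  push Not at hcon
  set 𝔭 := (V₀.2.primeIdealOf ⟨x', hxV₀⟩).asIdeal with h𝔭
  have key : ∀ y ∈ I.map (rho A b V₀.1), ∃ c ∈ 𝔭, y = c * t := by
    intro y hy
    rw [← hS, Ideal.map_span] at hy
    refine Submodule.span_induction (p := fun y _ => ∃ c ∈ 𝔭, y = c * t) ?_ ?_ ?_ ?_ hy
    · rintro _ ⟨a, ha, rfl⟩
      have haI : a ∈ I := hS ▸ Ideal.subset_span ha
      have hmem : rho A b V₀.1 a ∈ Ideal.span {t} := hIt ▸ Ideal.mem_map_of_mem _ haI
      obtain ⟨u, hu⟩ := Ideal.mem_span_singleton'.mp hmem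
      refine ⟨u, ?_, hu.symm⟩
      by_contra hup
      have hxu : x' ∈ X'.basicOpen u :=
        (mem_basicOpen_iff_notMem_primeIdealOf V₀ x' hxV₀ u).mpr hup
      apply hcon a ha
      rw [mem_chartOpen_iff]
      exact ⟨X'.affineBasicOpen u, hxu, isGood_basicOpen I V₀ t u hIt hu.symm⟩
    · exact ⟨0, Ideal.zero_mem _, by simp⟩
    · rintro x y _ _ ⟨c, hc, rfl⟩ ⟨d, hd, rfl⟩
      exact ⟨c + d, Ideal.add_mem _ hc hd, by ring⟩
    · rintro r x _ ⟨c, hc, rfl⟩
      exact ⟨r * c, Ideal.mul_mem_left _ r hc, by simp [mul_assoc]⟩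
  have htm : t ∈ I.map (rho A b V₀.1) := hIt ▸ Ideal.mem_span_singleton_self t
  obtain ⟨c, hc, hct⟩ := key t htm
  have hc1 : c = 1 := by
    have h4 : (c - 1) * t = 0 := by rw [sub_mul, one_mul, ← hct, sub_self]
    exact sub_eq_zero.mp ((mem_nonZeroDivisors_iff_right.mp ht) _ h4)
  rw [hc1] at hc
  exact (V₀.2.primeIdealOf ⟨x', hxV₀⟩).isPrime.ne_top ((Ideal.eq_top_iff_one _).mpr hc)

/-- The chart of `a ∈ I`: `chartOpen I b a ≅ Spec A[I/a]` over `Spec A`. -/
theorem exists_chartIso (hb : BlowUp.IsBlowUp b (Curv2.idealSheaf A I)) (a : A) (ha : a ∈ I) :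
    ∃ e : ((chartOpen I b a : X'.Opens) : Scheme.{u}) ≅ Spec (CommRingCat.of (Bl I a)),
      e.hom ≫ chartStr I a = (chartOpen I b a).ι ≫ b := by
  set O : X'.Opens := chartOpen I b a with hO
  have hcartY : BlowUp.IsEffCartierIdeal ((Curv2.idealSheaf A I).comap (O.ι ≫ b)) := by
    rw [Scheme.IdealSheafData.comap_comp]
    exact isEffCartier_comap_of_flat O.ι _ hb.1
  have hgoodY : ∀ y : (O : Scheme.{u}), ∃ W : (O : Scheme.{u}).affineOpens, y ∈ W.1 ∧
      IsGood A I (O.ι ≫ b) a W.1 := by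
    intro y
    obtain ⟨V, hyV, hV⟩ := (mem_chartOpen_iff I).mp y.2
    have hyW : y ∈ O.ι ⁻¹ᵁ V.1 := hyV
    obtain ⟨_, ⟨W, hW, rfl⟩, hyWW, hWsub⟩ :=
      (O : Scheme.{u}).isBasis_affineOpens.exists_subset_of_mem_open hyW (O.ι ⁻¹ᵁ V.1).2
    exact ⟨⟨W, hW⟩, hyWW, isGood_of_le I O.ι b a V.1 W hWsub hV⟩
  obtain ⟨h, hh, -⟩ := existsUnique_hom (I := I) (O.ι ≫ b) a hcartY hgoodY
  set gZ := chartStr I a with hgZ
  have hcartZ : BlowUp.IsEffCartierIdeal ((Curv2.idealSheaf A I).comap gZ) :=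
    isEffCartier_chartStr I a ha
  have hgoodZ : ∀ z : Spec (CommRingCat.of (Bl I a)),
      ∃ W : (Spec (CommRingCat.of (Bl I a))).affineOpens, z ∈ W.1 ∧ IsGood A I gZ a W.1 :=
    fun z => ⟨⟨⊤, isAffineOpen_top _⟩, trivial, isGood_Spec I a ha⟩
  obtain ⟨c, hc, -⟩ := hb.2 _ gZ hcartZ
  change c ≫ b = gZ at hc
  have hrange : Set.range c ⊆ Set.range O.ι := by
    rintro _ ⟨z, rfl⟩
    rw [Scheme.Opens.range_ι]
    exact mem_chartOpen_of_isGood I ha hb.1 c (hc ▸ hcartZ) (hc ▸ hgoodZ) z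
  let c' : Spec (CommRingCat.of (Bl I a)) ⟶ (O : Scheme.{u}) := IsOpenImmersion.lift O.ι c hrange
  have hc' : c' ≫ O.ι = c := IsOpenImmersion.lift_fac _ _ _
  have e1 : c' ≫ h = 𝟙 _ := by
    obtain ⟨k, -, hkuniq⟩ := existsUnique_hom (I := I) gZ a hcartZ hgoodZ
    have h1 : (c' ≫ h) ≫ gZ = gZ := by
      rw [Category.assoc, hh, ← Category.assoc, hc', hc]
    have h2 : 𝟙 _ ≫ gZ = gZ := Category.id_comp _
    rw [hkuniq _ h1, hkuniq _ h2]
  have e2 : h ≫ c' = 𝟙 _ := by
    rw [← cancel_mono O.ι, Category.assoc, hc', Category.id_comp]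
    obtain ⟨k, -, hkuniq⟩ := hb.2 _ (O.ι ≫ b) hcartY
    have h1 : (h ≫ c) ≫ b = O.ι ≫ b := by rw [Category.assoc, hc, hh]
    rw [hkuniq _ h1, hkuniq O.ι rfl]
  exact ⟨⟨h, c', e2, e1⟩, hh⟩

theorem compactSpace (hb : BlowUp.IsBlowUp b (Curv2.idealSheaf A I)) (hI : I.FG) :
    CompactSpace X' := by
  obtain ⟨S, hS⟩ := hI
  rw [← isCompact_univ_iff]
  have hcov : (Set.univ : Set X') = ⋃ s ∈ S, (chartOpen I b s : Set X') := by
    ext x'
    simp only [Set.mem_univ, Set.mem_iUnion, SetLike.mem_coe, exists_prop, true_iff]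
    obtain ⟨a, haS, hx⟩ := exists_mem_chartOpen_of_span (S : Set A) hS hb.1 x'
    exact ⟨a, haS, hx⟩
  rw [hcov]
  apply S.finite_toSet.isCompact_biUnion
  intro s hs
  obtain ⟨e, -⟩ := exists_chartIso hb s (hS ▸ Ideal.subset_span hs)
  have haff : IsAffineOpen (chartOpen I b s) := IsAffine.of_isIso e.hom
  exact haff.isCompact

theorem quasiCompact (hb : BlowUp.IsBlowUp b (Curv2.idealSheaf A I)) (hI : I.FG) :
    QuasiCompact b := by
  rw [HasAffineProperty.iff_of_isAffine (P := @QuasiCompact)]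
  exact compactSpace hb hI

theorem locallyOfFiniteType (hb : BlowUp.IsBlowUp b (Curv2.idealSheaf A I)) (hI : I.FG) :
    LocallyOfFiniteType b := by
  apply IsZariskiLocalAtSource.of_iSup_eq_top (P := @LocallyOfFiniteType)
    (fun a : I => chartOpen I b a.1)
  · rw [eq_top_iff]
    intro x' _
    obtain ⟨a, ha, hx⟩ := exists_mem_chartOpen I hb.1 x'
    exact Opens.mem_iSup.mpr ⟨⟨a, ha⟩, hx⟩
  · intro a
    obtain ⟨e, he⟩ := exists_chartIso hb a.1 a.2
    rw [← he]
    have h1 : LocallyOfFiniteType (chartStr I a.1) := by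
      rw [HasRingHomProperty.Spec_iff (P := @LocallyOfFiniteType)]
      have := finiteType I a.1 hI
      exact RingHom.finiteType_algebraMap.mpr this
    infer_instance

theorem isEffCartier_comap_SpecMap_ringHom {B : Type u} [CommRing B] (γ : A →+* B) (f : B)
    (hf : f ∈ nonZeroDivisors B) (hgen : I.map γ = Ideal.span {f}) :
    BlowUp.IsEffCartierIdeal
      ((Curv2.idealSheaf A I).comap (Spec.map (CommRingCat.ofHom γ))) := by
  let _ : Algebra A B := γ.toAlgebra
  exact isEffCartier_comap_SpecMap I f hf hgen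

theorem isEffCartier_comap_toAway (a s : A) (hs : s ∈ I) :
    BlowUp.IsEffCartierIdeal ((Curv2.idealSheaf A I).comap
      (Spec.map (CommRingCat.ofHom (toAway (I := I) (a := a) s hs)))) := by
  apply isEffCartier_comap_SpecMap_ringHom _ (toAway (a := a) s hs s)
    (toAway_mem_nonZeroDivisors s hs)
  apply le_antisymm
  · rw [Ideal.map_le_iff_le_comap]
    intro x hx
    rw [Ideal.mem_comap, Ideal.mem_span_singleton]
    exact toAway_dvd s hs x hx
  · rw [Ideal.span_singleton_le_iff_mem]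
    exact Ideal.mem_map_of_mem _ hs

/-- The two chart maps agree on the overlap `Spec A[I/a]_{s/a}`. -/
theorem transition_comp (hb : BlowUp.IsBlowUp b (Curv2.idealSheaf A I)) (a s : A) (hs : s ∈ I)
    (θ : Bl I s →+* Localization.Away (gen I a s hs))
    (hθ : θ.comp (algebraMap A (Bl I s)) = toAway s hs)
    (ca : Spec (CommRingCat.of (Bl I a)) ⟶ X') (hca : ca ≫ b = chartStr I a)
    (cs : Spec (CommRingCat.of (Bl I s)) ⟶ X') (hcs : cs ≫ b = chartStr I s) :
    Spec.map (CommRingCat.ofHom θ) ≫ cs =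
      Spec.map (CommRingCat.ofHom (algebraMap (Bl I a) (Localization.Away (gen I a s hs)))) ≫
        ca := by
  obtain ⟨k, -, hk⟩ := hb.2 _ _ (isEffCartier_comap_toAway (I := I) a s hs)
  have h1 : (Spec.map (CommRingCat.ofHom θ) ≫ cs) ≫ b =
      Spec.map (CommRingCat.ofHom (toAway (I := I) (a := a) s hs)) := by
    rw [Category.assoc, hcs, ← Spec.map_comp, ← CommRingCat.ofHom_comp, hθ]
  have h2 : (Spec.map (CommRingCat.ofHom
      (algebraMap (Bl I a) (Localization.Away (gen I a s hs)))) ≫ ca) ≫ b =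
      Spec.map (CommRingCat.ofHom (toAway (I := I) (a := a) s hs)) := by
    rw [Category.assoc, hca, ← Spec.map_comp, ← CommRingCat.ofHom_comp]
  rw [hk _ h1, hk _ h2]

theorem valuativeCriterion_existence (hb : BlowUp.IsBlowUp b (Curv2.idealSheaf A I)) (hI : I.FG) :
    ValuativeCriterion.Existence b := by
  rintro ⟨R, K, i₁, i₂, w⟩
  obtain ⟨S, hS⟩ := hI
  obtain ⟨a, haS, hx'⟩ := exists_mem_chartOpen_of_span (S : Set A) hS hb.1
    (i₁ (IsLocalRing.closedPoint K))
  have ha : a ∈ I := hS ▸ Ideal.subset_span haS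
  obtain ⟨e, he⟩ := exists_chartIso hb a ha
  have hrange : Set.range i₁ ⊆ Set.range (chartOpen I b a).ι := by
    rw [Scheme.Opens.range_ι]
    rintro _ ⟨x, rfl⟩
    obtain rfl := Subsingleton.elim x (IsLocalRing.closedPoint K)
    exact hx'
  let i₁' : Spec (.of K) ⟶ ((chartOpen I b a : X'.Opens) : Scheme.{u}) :=
    IsOpenImmersion.lift (chartOpen I b a).ι i₁ hrange
  have hi₁' : i₁' ≫ (chartOpen I b a).ι = i₁ := IsOpenImmersion.lift_fac _ _ _
  let ψ : Bl I a →+* K := (Spec.preimage (i₁' ≫ e.hom)).hom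
  have hψ : Spec.map (CommRingCat.ofHom ψ) = i₁' ≫ e.hom := Spec.map_preimage _
  let φ : A →+* R := (Spec.preimage i₂).hom
  have hφ : Spec.map (CommRingCat.ofHom φ) = i₂ := Spec.map_preimage _
  have hψφ : ψ.comp (algebraMap A (Bl I a)) = (algebraMap R K).comp φ := by
    have h1 : CommRingCat.ofHom (ψ.comp (algebraMap A (Bl I a))) =
        CommRingCat.ofHom ((algebraMap R K).comp φ) := by
      apply Spec.map_injective
      rw [CommRingCat.ofHom_comp, CommRingCat.ofHom_comp, Spec.map_comp, Spec.map_comp, hψ, hφ,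
        Category.assoc]
      change i₁' ≫ e.hom ≫ chartStr I a = _
      rw [he, ← Category.assoc, hi₁', w.w]
    exact congrArg CommRingCat.Hom.hom h1
  obtain ⟨s, hs, -, hu, θ, ψ₀, hθ, hψ₀, hcomp⟩ := exists_valuative_lift ha S hS φ ψ hψφ
  obtain ⟨es, hes⟩ := exists_chartIso hb s hs
  set ca : Spec (CommRingCat.of (Bl I a)) ⟶ X' := e.inv ≫ (chartOpen I b a).ι with hca_def
  have hca : ca ≫ b = chartStr I a := by
    rw [hca_def, Category.assoc, ← he, Iso.inv_hom_id_assoc]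
  set cs : Spec (CommRingCat.of (Bl I s)) ⟶ X' := es.inv ≫ (chartOpen I b s).ι with hcs_def
  have hcs : cs ≫ b = chartStr I s := by
    rw [hcs_def, Category.assoc, ← hes, Iso.inv_hom_id_assoc]
  have htrans := transition_comp hb a s hs θ hθ ca hca cs hcs
  refine ⟨⟨⟨Spec.map (CommRingCat.ofHom ψ₀) ≫ cs, ?_, ?_⟩⟩⟩
  · rw [← Category.assoc, ← Spec.map_comp, ← CommRingCat.ofHom_comp, hcomp, CommRingCat.ofHom_comp,
      Spec.map_comp, Category.assoc, htrans, ← Category.assoc, ← Spec.map_comp,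
      ← CommRingCat.ofHom_comp, IsLocalization.Away.lift_comp, hψ, hca_def, Category.assoc,
      Iso.hom_inv_id_assoc, hi₁']
  · rw [Category.assoc, hcs, ← Spec.map_comp, ← CommRingCat.ofHom_comp, hψ₀, hφ]

theorem universallyClosed (hb : BlowUp.IsBlowUp b (Curv2.idealSheaf A I)) (hI : I.FG) :
    UniversallyClosed b := by
  have := quasiCompact hb hI
  exact UniversallyClosed.of_valuativeCriterion b (valuativeCriterion_existence hb hI)

section general

variable {X Y : Scheme.{u}}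

/-- On an affine open where the ideal is generated by a finite set `S`, the complement of the support
is the union of the basic opens of the elements of `S`. -/
theorem interior_inf_eq_iSup_basicOpen (𝓘 : X.IdealSheafData) (W : X.affineOpens)
    (S : Finset Γ(X, W.1)) (h : 𝓘.ideal W = Ideal.span (S : Set Γ(X, W.1))) :
    ((ModPair.interior 𝓘 ⊓ W.1 : X.Opens) : Set X) = ⋃ s ∈ S, (X.basicOpen s : Set X) := by
  ext z
  simp only [Set.mem_iUnion, SetLike.mem_coe, exists_prop]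
  constructor
  · rintro ⟨hzI, hzW⟩
    by_contra hcon
    push Not at hcon
    apply hzI
    refine (Scheme.IdealSheafData.mem_support_iff_of_mem (I := 𝓘) (U := W) hzW).mpr ?_
    rw [h, Scheme.zeroLocus_span, Scheme.mem_zeroLocus_iff]
    intro f hf
    exact hcon f hf
  · rintro ⟨s, hs, hz⟩
    have hzW : z ∈ W.1 := X.basicOpen_le s hz
    refine ⟨?_, hzW⟩
    intro hzs
    have := (Scheme.IdealSheafData.mem_support_iff_of_mem (I := 𝓘) (U := W) hzW).mp hzs
    rw [h, Scheme.zeroLocus_span, Scheme.mem_zeroLocus_iff] at this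
    exact this s hs hz

/-- The inclusion of the complement of the support of an ideal sheaf which is locally of finite type
is quasi-compact. -/
theorem quasiCompact_interior_ι (𝓘 : X.IdealSheafData)
    (hft : ∀ x : X, ∃ V : X.affineOpens, x ∈ V.1 ∧ (𝓘.ideal V).FG) :
    QuasiCompact (ModPair.interior 𝓘).ι := by
  apply IsZariskiLocalAtTarget.of_forall_exists_morphismRestrict (P := @QuasiCompact)
  intro x
  obtain ⟨W, hxW, S, hS⟩ := hft x
  refine ⟨W.1, hxW, ?_⟩
  have : IsAffine W.1 := W.2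
  rw [HasAffineProperty.iff_of_isAffine (P := @QuasiCompact)]
  refine (isCompact_iff_compactSpace
    (s := SetLike.coe ((ModPair.interior 𝓘).ι ⁻¹ᵁ W.1))).mp ?_
  rw [(ModPair.interior 𝓘).ι.isOpenEmbedding.isEmbedding.isCompact_iff]
  have h1 : (ModPair.interior 𝓘).ι ''ᵁ ((ModPair.interior 𝓘).ι ⁻¹ᵁ W.1) =
      ModPair.interior 𝓘 ⊓ W.1 := by
    rw [Scheme.Hom.image_preimage_eq_opensRange_inf, Scheme.Opens.opensRange_ι]
  have h2 : IsCompact ((ModPair.interior 𝓘 ⊓ W.1 : X.Opens) : Set X) := by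
    rw [interior_inf_eq_iSup_basicOpen 𝓘 W S hS.symm]
    exact S.finite_toSet.isCompact_biUnion (fun s _ => (W.2.basicOpen s).isCompact)
  rw [← h1] at h2
  exact h2

/-- Every ideal sheaf on `Spec A` is of the form `Curv2.idealSheaf A I`. -/
theorem eq_idealSheaf (A : Type u) [CommRing A] (𝓙 : (Spec (CommRingCat.of A)).IdealSheafData) :
    𝓙 = Curv2.idealSheaf A ((𝓙.ideal ⟨⊤, isAffineOpen_top _⟩).map
      (Scheme.ΓSpecIso (CommRingCat.of A)).hom.hom) := by
  unfold Curv2.idealSheaf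
  rw [Ideal.map_map]
  have h1 : (Scheme.ΓSpecIso (CommRingCat.of A)).inv.hom.comp
      (Scheme.ΓSpecIso (CommRingCat.of A)).hom.hom = RingHom.id _ := by
    rw [← CommRingCat.hom_comp, Iso.hom_inv_id]
    rfl
  rw [h1, Ideal.map_id]
  exact (Scheme.IdealSheafData.equivOfIsAffine.symm_apply_apply 𝓙).symm

/-- A blowing up of `Spec A` in a finitely generated ideal is proper. -/
theorem isProper_affine {A : Type u} [CommRing A] {I : Ideal A} {X' : Scheme.{u}}
    {b : X' ⟶ Spec (CommRingCat.of A)} (hb : BlowUp.IsBlowUp b (Curv2.idealSheaf A I))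
    (hI : I.FG) : IsProper b := by
  have h1 : IsSeparated b := by
    apply Groth.Agent.Lib.BlowUpSep68.isSeparated_of_isBlowUp hb
    apply quasiCompact_interior_ι
    intro x
    refine ⟨⟨⊤, isAffineOpen_top _⟩, trivial, ?_⟩
    rw [idealSheaf_ideal_top]
    exact hI.map _
  have h2 := universallyClosed hb hI
  have h3 := locallyOfFiniteType hb hI
  exact { }

/-- A blowing up in an ideal sheaf which is locally of finite type is proper. -/
theorem isProper_of_isBlowUp {X' : Scheme.{u}} (b : X' ⟶ X) (𝓘 : X.IdealSheafData)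
    (hb : BlowUp.IsBlowUp b 𝓘)
    (hft : ∀ x : X, ∃ V : X.affineOpens, x ∈ V.1 ∧ (𝓘.ideal V).FG) : IsProper b := by
  apply IsZariskiLocalAtTarget.of_forall_exists_morphismRestrict (P := @IsProper)
  intro x
  obtain ⟨V, hxV, hV⟩ := hft x
  refine ⟨V.1, hxV, ?_⟩
  -- the base change to `Spec Γ(X, V)`
  let b' : (b ⁻¹ᵁ V.1 : Scheme.{u}) ⟶ Spec (CommRingCat.of Γ(X, V.1)) :=
    (b ∣_ V.1) ≫ V.2.isoSpec.hom
  have hP : IsPullback b' (b ⁻¹ᵁ V.1).ι V.2.fromSpec b := by
    refine IsPullback.of_iso (isPullback_morphismRestrict b V.1) (Iso.refl _) V.2.isoSpec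
      (Iso.refl _) (Iso.refl _) ?_ ?_ ?_ ?_
    · simp [b']
    · simp
    · rw [Iso.refl_hom, Category.comp_id, ← V.2.isoSpec_inv_ι, Iso.hom_inv_id_assoc]
    · simp
  have hflat : Flat V.2.fromSpec := inferInstance
  have hb' := isBlowUp_of_isPullback_of_flat V.2.fromSpec 𝓘 b hb b' (b ⁻¹ᵁ V.1).ι hP
  rw [eq_idealSheaf Γ(X, V.1) (𝓘.comap V.2.fromSpec)] at hb'
  have hFG : (((𝓘.comap V.2.fromSpec).ideal ⟨⊤, isAffineOpen_top _⟩).map
      (Scheme.ΓSpecIso (CommRingCat.of Γ(X, V.1))).hom.hom).FG := by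
    apply Ideal.FG.map
    have e : (⊤ : (Spec (CommRingCat.of Γ(X, V.1))).Opens) ≤ V.2.fromSpec ⁻¹ᵁ V.1 := by
      intro z _
      have hz : V.2.fromSpec z ∈ V.2.fromSpec.opensRange := ⟨z, rfl⟩
      rw [V.2.opensRange_fromSpec] at hz
      exact hz
    rw [Groth.Agent.Lib.IdealComap.ideal_comap 𝓘 V.2.fromSpec V.1 V.2 ⊤ (isAffineOpen_top _) e]
    exact hV.map _
  have hprop : IsProper b' := isProper_affine hb' hFG
  have heq : b ∣_ V.1 = b' ≫ V.2.isoSpec.inv := by simp [b']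
  rw [heq]
  infer_instance

theorem isProper_of_isBlowUp_of_isFiniteTypeIdeal {X' : Scheme.{u}} (b : X' ⟶ X)
    (𝓘 : X.IdealSheafData) (hb : BlowUp.IsBlowUp b 𝓘) (h𝓘 : BlowUp.IsFiniteTypeIdeal 𝓘) :
    IsProper b := by
  apply isProper_of_isBlowUp b 𝓘 hb
  intro x
  obtain ⟨_, ⟨V, hV, rfl⟩, hxV, -⟩ :=
    X.isBasis_affineOpens.exists_subset_of_mem_open (Set.mem_univ x) isOpen_univ
  exact ⟨⟨V, hV⟩, hxV, h𝓘 ⟨V, hV⟩⟩

end general

end Groth.Agent.Lib.BlowUpProper68
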