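import Groth.Agent.Lib.AmbProd68
import Groth.Agent.Lib.BlowUpProper68

/-!
# The blow-up of an ambient product is proper (helper68)

* `prodCentre_locally_fg`: the centre `ModPair.prodCentre` is locally generated by two elements.
* `IsAmbProd.isProper`: for an ambient product `π : Y ⟶ mprod`, `π` is proper.
-/

set_option autoImplicit false
universe u
open CategoryTheory CategoryTheory.Limits AlgebraicGeometry TopologicalSpace

namespace Groth.Agent.Lib.AmbProd68

variable {S T X : Scheme.{u}} (f : X ⟶ S) (g : T ⟶ S) (I : X.IdealSheafData) (J : T.IdealSheafData)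

theorem prodCentre_locally_fg (hX : BlowUp.IsEffCartierIdeal I) (hT : BlowUp.IsEffCartierIdeal J)
    (m : ModPair.mprod f g I J) :
    ∃ V : (ModPair.mprod f g I J).affineOpens, m ∈ V.1 ∧
      ((ModPair.prodCentre f g I J).ideal V).FG := by
  obtain ⟨-, V, -, b₁, b₂, hmV, -, -, h₁, h₂⟩ := Groth.Agent.Lib.RelCartier.exists_local_data
    (𝟙 (ModPair.mprod f g I J)) _ _ (isEffCartier_comap_fst f g I J hX hT)
    (isEffCartier_comap_snd f g I J hX hT) m
  refine ⟨V, hmV, ?_⟩
  have h3 : (ModPair.prodCentre f g I J).ideal V = Ideal.span {b₁} ⊔ Ideal.span {b₂} := by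
    rw [ModPair.prodCentre, Scheme.IdealSheafData.ideal_sup, Pi.sup_apply, h₁, h₂]
  rw [h3]
  exact (Submodule.fg_span_singleton b₁).sup (Submodule.fg_span_singleton b₂)

variable {f g I J}

theorem IsAmbProd.isProper {Y : Scheme.{u}} {π : Y ⟶ ModPair.mprod f g I J} {K : Y.IdealSheafData}
    (hX : BlowUp.IsEffCartierIdeal I) (hT : BlowUp.IsEffCartierIdeal J)
    (hY : ModPair.IsAmbProd f g I J π K) : IsProper π :=
  Groth.Agent.Lib.BlowUpProper68.isProper_of_isBlowUp π _ hY.1
    (prodCentre_locally_fg f g I J hX hT)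

end Groth.Agent.Lib.AmbProd68
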