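import Mathlib

set_option autoImplicit false
universe u
open CategoryTheory CategoryTheory.Limits TensorProduct
open Simplicial

namespace Groth.Agent.Lib.Amitsur66

variable (R A : Type u) [CommRing R] [CommRing A] [Algebra R A]

/-- The arrow `R ⟶ A` in `CommRingCat`. -/
noncomputable abbrev arr : Arrow CommRingCat.{u} := Arrow.mk (CommRingCat.ofHom (algebraMap R A))

/-- The Čech conerve. -/
noncomputable abbrev X : CosimplicialObject CommRingCat.{u} := (arr R A).cechConerve

/-- The arrows of the wide span. -/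
noncomputable abbrev arrs (n : ℕ) : ∀ _ : Fin (n + 1), CommRingCat.of R ⟶ CommRingCat.of A :=
  fun _ => CommRingCat.ofHom (algebraMap R A)

/-- The terms of the Čech conerve. -/
noncomputable abbrev W (n : ℕ) : CommRingCat.{u} :=
  widePushout (CommRingCat.of R) (fun _ : Fin (n + 1) => CommRingCat.of A) (arrs R A n)

example (n : ℕ) : (X R A).obj ⦋n⦌ = W R A n := rfl

/-- The structure map. -/
noncomputable abbrev hd (n : ℕ) : CommRingCat.of R ⟶ W R A n := WidePushout.head (arrs R A n)

/-- The coprojections. -/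
noncomputable abbrev inc (n : ℕ) (j : Fin (n + 1)) : CommRingCat.of A ⟶ W R A n :=
  WidePushout.ι (arrs R A n) j

lemma arrow_inc (n : ℕ) (j : Fin (n + 1)) :
    CommRingCat.ofHom (algebraMap R A) ≫ inc R A n j = hd R A n :=
  WidePushout.arrow_ι (arrs R A n) j

noncomputable instance algW (n : ℕ) : Algebra R (W R A n) := (hd R A n).hom.toAlgebra

lemma algebraMap_W (n : ℕ) (r : R) : algebraMap R (W R A n) r = (hd R A n).hom r := rfl

/-- The coprojections as algebra maps. -/
noncomputable def incA (n : ℕ) (j : Fin (n + 1)) : A →ₐ[R] W R A n :=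
  { (inc R A n j).hom with
    commutes' := fun r => by
      have := congr_arg (fun f => f.hom r) (arrow_inc R A n j)
      exact this }

lemma incA_apply (n : ℕ) (j : Fin (n + 1)) (a : A) :
    incA R A n j a = (inc R A n j).hom a := rfl

variable {R A}

lemma W_algHom_ext {n : ℕ} {B : Type u} [CommRing B] [Algebra R B] (f g : W R A n →ₐ[R] B)
    (h : ∀ j, f.comp (incA R A n j) = g.comp (incA R A n j)) : f = g := by
  apply AlgHom.coe_ringHom_injective
  have : CommRingCat.ofHom (f : W R A n →+* B) = CommRingCat.ofHom (g : W R A n →+* B) := by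
    refine WidePushout.hom_ext (arrs R A n) _ _ (fun j => ?_) ?_
    · ext a
      exact congr_arg (fun φ : A →ₐ[R] B => φ a) (h j)
    · ext r
      change f (algebraMap R _ r) = g (algebraMap R _ r)
      rw [f.commutes, g.commutes]
  exact congr_arg (fun φ => φ.hom) this

/-- Construct an algebra map out of the wide pushout. -/
noncomputable def descA {n : ℕ} {B : Type u} [CommRing B] [Algebra R B]
    (φ : Fin (n + 1) → (A →ₐ[R] B)) : W R A n →ₐ[R] B :=
  { (WidePushout.desc (CommRingCat.ofHom (algebraMap R B))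
      (fun j => CommRingCat.ofHom (φ j : A →+* B)) (fun j => by
        ext r
        exact (φ j).commutes r)).hom with
    commutes' := fun r => by
      have := WidePushout.head_desc (arrs R A n) (CommRingCat.ofHom (algebraMap R B))
        (fun j => CommRingCat.ofHom (φ j : A →+* B)) (fun j => by
          ext r
          exact (φ j).commutes r)
      exact congr_arg (fun f => f.hom r) this }

lemma descA_incA {n : ℕ} {B : Type u} [CommRing B] [Algebra R B]
    (φ : Fin (n + 1) → (A →ₐ[R] B)) (j : Fin (n + 1)) (a : A) :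
    descA φ (incA R A n j a) = φ j a := by
  have := WidePushout.ι_desc (arrs R A n) (CommRingCat.ofHom (algebraMap R B))
    (fun j => CommRingCat.ofHom (φ j : A →+* B)) (fun j => by
      ext r
      exact (φ j).commutes r) j
  exact congr_arg (fun f => f.hom a) this


variable (R A)

lemma inc_δ (n : ℕ) (i : Fin (n + 2)) (j : Fin (n + 1)) :
    inc R A n j ≫ (X R A).δ i = inc R A (n + 1) (i.succAbove j) := by
  exact WidePushout.ι_desc (arrs R A n) _ _ _ j

lemma hd_δ (n : ℕ) (i : Fin (n + 2)) :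
    hd R A n ≫ (X R A).δ i = hd R A (n + 1) := by
  exact WidePushout.head_desc (arrs R A n) _ _ _

/-- The cofaces as algebra maps. -/
noncomputable def δA (n : ℕ) (i : Fin (n + 2)) : W R A n →ₐ[R] W R A (n + 1) :=
  { ((X R A).δ i).hom with
    commutes' := fun r => congr_arg (fun f => f.hom r) (hd_δ R A n i) }

lemma δA_apply (n : ℕ) (i : Fin (n + 2)) (w : W R A n) :
    δA R A n i w = ((X R A).δ i).hom w := rfl

lemma δA_incA (n : ℕ) (i : Fin (n + 2)) (j : Fin (n + 1)) (a : A) :
    δA R A n i (incA R A n j a) = incA R A (n + 1) (i.succAbove j) a :=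
  congr_arg (fun f => f.hom a) (inc_δ R A n i j)


variable {R A}

lemma tensor_ext {n : ℕ} {B : Type u} [CommRing B] [Algebra R B]
    (f g : A ⊗[R] W R A n →ₐ[R] B) (h1 : ∀ a : A, f (a ⊗ₜ 1) = g (a ⊗ₜ 1))
    (h2 : ∀ (j : Fin (n + 1)) (a : A), f (1 ⊗ₜ incA R A n j a) = g (1 ⊗ₜ incA R A n j a)) :
    f = g := by
  apply Algebra.TensorProduct.ext
  · ext a
    exact h1 a
  · apply W_algHom_ext
    intro j
    ext a
    exact h2 j a

variable (R A)

open Algebra.TensorProduct in
/-- The contraction. -/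
noncomputable def tA (n : ℕ) : A ⊗[R] W R A (n + 1) →ₐ[R] A ⊗[R] W R A n :=
  productMap (includeLeft : A →ₐ[R] A ⊗[R] W R A n)
    (descA (Fin.cons (includeLeft : A →ₐ[R] A ⊗[R] W R A n)
      (fun j => (includeRight : W R A n →ₐ[R] A ⊗[R] W R A n).comp (incA R A n j))))

lemma tA_left (n : ℕ) (a : A) : tA R A n (a ⊗ₜ 1) = a ⊗ₜ 1 := by
  simp [tA]

lemma tA_zero (n : ℕ) (a : A) : tA R A n (1 ⊗ₜ incA R A (n + 1) 0 a) = a ⊗ₜ 1 := by
  simp only [tA, Algebra.TensorProduct.productMap_apply_tmul, map_one, one_mul, descA_incA,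
    Fin.cons_zero, Algebra.TensorProduct.includeLeft_apply]

lemma tA_succ (n : ℕ) (j : Fin (n + 1)) (a : A) :
    tA R A n (1 ⊗ₜ incA R A (n + 1) j.succ a) = 1 ⊗ₜ incA R A n j a := by
  simp only [tA, Algebra.TensorProduct.productMap_apply_tmul, map_one, one_mul, descA_incA,
    Fin.cons_succ, AlgHom.comp_apply, Algebra.TensorProduct.includeRight_apply]

/-- The cofaces tensored with `A`. -/
noncomputable def ΔA (n : ℕ) (i : Fin (n + 2)) : A ⊗[R] W R A n →ₐ[R] A ⊗[R] W R A (n + 1) :=
  Algebra.TensorProduct.map (AlgHom.id R A) (δA R A n i)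

lemma ΔA_tmul (n : ℕ) (i : Fin (n + 2)) (a : A) (w : W R A n) :
    ΔA R A n i (a ⊗ₜ w) = a ⊗ₜ δA R A n i w := by
  simp [ΔA]

lemma rel0 (n : ℕ) : (tA R A n).comp (ΔA R A n 0) = AlgHom.id R _ := by
  apply tensor_ext
  · intro a
    simp only [AlgHom.comp_apply, ΔA_tmul, map_one, tA_left, AlgHom.id_apply]
  · intro j a
    simp only [AlgHom.comp_apply, ΔA_tmul, δA_incA, Fin.succAbove_zero, tA_succ, AlgHom.id_apply]

lemma relS (n : ℕ) (i : Fin (n + 2)) :
    (tA R A (n + 1)).comp (ΔA R A (n + 1) i.succ) = (ΔA R A n i).comp (tA R A n) := by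
  apply tensor_ext
  · intro a
    simp only [AlgHom.comp_apply, ΔA_tmul, map_one, tA_left]
  · intro j a
    induction j using Fin.cases with
    | zero =>
      simp only [AlgHom.comp_apply, ΔA_tmul, δA_incA, Fin.succ_succAbove_zero, tA_zero, map_one]
    | succ j =>
      simp only [AlgHom.comp_apply, ΔA_tmul, δA_incA, Fin.succ_succAbove_succ, tA_succ]


/-- The Amitsur differential as an `R`-linear map. -/
noncomputable def dR (n : ℕ) : W R A n →ₗ[R] W R A (n + 1) :=
  ∑ i : Fin (n + 2), (-1 : ℤ) ^ (i : ℕ) • (δA R A n i).toLinearMap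

/-- The differential tensored with `A`. -/
noncomputable def DA (n : ℕ) : A ⊗[R] W R A n →ₗ[R] A ⊗[R] W R A (n + 1) :=
  (dR R A n).lTensor A

lemma DA_apply (n : ℕ) (y : A ⊗[R] W R A n) :
    DA R A n y = ∑ i : Fin (n + 2), (-1 : ℤ) ^ (i : ℕ) • ΔA R A n i y := by
  induction y using TensorProduct.induction_on with
  | zero => simp
  | tmul a w =>
    simp only [DA, dR, LinearMap.lTensor_tmul, LinearMap.sum_apply, LinearMap.smul_apply,
      AlgHom.toLinearMap_apply, TensorProduct.tmul_sum, TensorProduct.tmul_smul, ΔA_tmul]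
  | add x y hx hy =>
    simp only [map_add, hx, hy, smul_add, Finset.sum_add_distrib]

lemma homotopy (n : ℕ) (y : A ⊗[R] W R A (n + 1)) :
    tA R A (n + 1) (DA R A (n + 1) y) + DA R A n (tA R A n y) = y := by
  have h0 : tA R A (n + 1) (ΔA R A (n + 1) 0 y) = y := AlgHom.congr_fun (rel0 R A (n + 1)) y
  have hS : ∀ i : Fin (n + 2),
      tA R A (n + 1) (ΔA R A (n + 1) i.succ y) = ΔA R A n i (tA R A n y) := fun i =>
    AlgHom.congr_fun (relS R A n i) y
  rw [DA_apply, DA_apply, Fin.sum_univ_succ, map_add, map_sum]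
  simp only [map_zsmul, h0, hS, Fin.val_zero, pow_zero, one_smul, Fin.val_succ, pow_succ]
  rw [add_assoc, ← Finset.sum_add_distrib]
  simp


/-- The underlying cosimplicial abelian group. -/
noncomputable abbrev Z : CosimplicialObject AddCommGrpCat.{u} :=
  X R A ⋙ forget₂ CommRingCat RingCat ⋙ forget₂ RingCat AddCommGrpCat

open AlgebraicTopology

lemma objD_apply (n : ℕ) (w : W R A n) :
    (AlternatingCofaceMapComplex.objD (Z R A) n).hom w = dR R A n w := by
  have h : (AlternatingCofaceMapComplex.objD (Z R A) n).hom =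
      ∑ i : Fin (n + 2), (-1 : ℤ) ^ (i : ℕ) • ((Z R A).δ i).hom := by
    have := map_sum (AddCommGrpCat.homAddEquiv (M := (Z R A).obj ⦋n⦌) (N := (Z R A).obj ⦋n + 1⦌))
      (fun i : Fin (n + 2) => (-1 : ℤ) ^ (i : ℕ) • (Z R A).δ i) Finset.univ
    exact this
  rw [h]
  simp only [dR, AddMonoidHom.finsetSum_apply, AddMonoidHom.smul_apply, LinearMap.sum_apply,
    LinearMap.smul_apply, AlgHom.toLinearMap_apply]
  rfl

lemma dR_comp (n : ℕ) (w : W R A n) : dR R A (n + 1) (dR R A n w) = 0 := by
  have := AlternatingCofaceMapComplex.d_squared (Z R A) n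
  have h2 := congr_arg (fun f => f.hom w) this
  dsimp at h2
  rw [← objD_apply, ← objD_apply]
  exact h2

lemma DA_comp (n : ℕ) (y : A ⊗[R] W R A n) : DA R A (n + 1) (DA R A n y) = 0 := by
  have : dR R A (n + 1) ∘ₗ dR R A n = 0 := LinearMap.ext (dR_comp R A n)
  simp only [DA]
  rw [← LinearMap.comp_apply, ← LinearMap.lTensor_comp, this, LinearMap.lTensor_zero,
    LinearMap.zero_apply]

lemma DA_exact (n : ℕ) : Function.Exact (DA R A n) (DA R A (n + 1)) := by
  intro y
  constructor
  · intro hy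
    refine ⟨tA R A n y, ?_⟩
    have := homotopy R A n y
    rw [hy, map_zero, zero_add] at this
    exact this
  · rintro ⟨x, rfl⟩
    exact DA_comp R A n x

lemma dR_exact [Module.FaithfullyFlat R A] (n : ℕ) :
    Function.Exact (dR R A n) (dR R A (n + 1)) :=
  Module.FaithfullyFlat.lTensor_reflects_exact R A _ _ (DA_exact R A n)

theorem exactAt [Module.FaithfullyFlat R A] (k : ℕ) :
    (AlternatingCofaceMapComplex.obj (Z R A)).ExactAt (k + 1) := by
  rw [HomologicalComplex.exactAt_iff' _ k (k + 1) (k + 2) (by simp) (by simp),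
    ShortComplex.ab_exact_iff_function_exact]
  have h1 : (AlternatingCofaceMapComplex.obj (Z R A)).d k (k + 1) =
      AlternatingCofaceMapComplex.objD (Z R A) k := by
    exact CochainComplex.of_d (V := AddCommGrpCat) (fun n => (Z R A).obj ⦋n⦌)
      (AlternatingCofaceMapComplex.objD (Z R A)) k
  have h2 : (AlternatingCofaceMapComplex.obj (Z R A)).d (k + 1) (k + 2) =
      AlternatingCofaceMapComplex.objD (Z R A) (k + 1) := by
    exact CochainComplex.of_d (V := AddCommGrpCat) (fun n => (Z R A).obj ⦋n⦌)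
      (AlternatingCofaceMapComplex.objD (Z R A)) (k + 1)
  show Function.Exact
    ⇑(ConcreteCategory.hom ((AlternatingCofaceMapComplex.obj (Z R A)).d k (k + 1)))
    ⇑(ConcreteCategory.hom ((AlternatingCofaceMapComplex.obj (Z R A)).d (k + 1) (k + 2)))
  rw [h1, h2]
  intro w
  have := dR_exact R A k w
  rw [← objD_apply] at this
  refine Iff.trans this ?_
  constructor
  · rintro ⟨x, hx⟩
    exact ⟨x, by rw [← hx]; exact objD_apply R A k x⟩
  · rintro ⟨x, hx⟩
    exact ⟨x, by rw [← hx]; exact (objD_apply R A k x).symm⟩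

end Groth.Agent.Lib.Amitsur66
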