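/-
# Universally closed + ample ⇒ `X_s` affine (helper3; EGA II 5.5.? / Stacks 0B5T-type)

* `isAffineOpen_genLocus_of_universallyClosed g hL s`: `g : X ⟶ S` universally closed, `S` affine, `L` ample on `X`,
  `s : O_X ⟶ L` ⇒ the locus `X_s` where `s` generates `L` is an affine open of `X`.
  Proof: a power `L^d` has finitely many sections `σ_x` with affine loci covering `X`; together with `s^d` they define
  `i : X ⟶ P^n_S` over `S` with `i⁻¹ D_k = X_{σ_k}`; `i` is universally closed so its range is closed, and is contained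
  in the union of the `D_k`, `k ≠ k₀`; hence `i` is an affine morphism and `X_s = i⁻¹ D_{k₀}` is affine.
* `isAffineHom_genLocus_ι_comp f hL s`: relative version over any base (S9694).
-/
import Groth.Agent.Lib.VeryAmplePowH3
import Groth.Agent.Lib.VeryAmpleProjH3
import Groth.Agent.Lib.H78Restrict

set_option autoImplicit false
set_option linter.style.haveILetI false
universe u
open CategoryTheory CategoryTheory.Limits AlgebraicGeometry TopologicalSpace Opposite Twist MvPolynomial
  HomogeneousLocalization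
open AlgebraicGeometry.Scheme.Modules
open Groth.Agent.Lib.H90Invertible Groth.Agent.Lib.H4Twist Groth.Agent.Lib
open Groth.Agent.Lib.H78TensorGen Groth.Agent.Lib.H78SecCoord Groth.Agent.Lib.H78Atlas
open Groth.Agent.Lib.H78AtlasOps Groth.Agent.Lib.H78KeyLemma Groth.Agent.Lib.H78KeyLemma2
open Groth.Agent.Lib.GenCoverH3 Groth.Agent.Lib.VeryAmpleH3 Groth.Agent.Lib.StructureModule
open Groth.Agent.Lib.ProjSpaceCoordH3

namespace Groth.Agent.Lib.AmpleAffineH3

variable {X S : Scheme.{u}}

/-- **`X_s` is affine** for `X` universally closed over an affine base with `L` ample. -/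
theorem isAffineOpen_genLocus_of_universallyClosed [IsAffine S] (g : X ⟶ S) [UniversallyClosed g]
    {L : X.Modules} (hL : CohB1.IsAmple L) (s : Coh.structureModule X ⟶ L) :
    IsAffineOpen (CohB1.genLocus L s) := by
  classical
  haveI : CompactSpace X := hL.2.1
  haveI := Groth.Agent.Lib.H78AmpleBasis.quasiSeparatedSpace_of_isAmple hL
  obtain ⟨ι, _, V, hV, hVaff, ⟨A⟩⟩ := exists_finite_atlas hL.1
  obtain ⟨d, hd, T, _, σ, haff, hcov⟩ := VeryAmplePowH3.exists_common_power hL hV A
  obtain ⟨τ, -, hτ⟩ := exists_sec_pow hV A (A.pow d) d (fun i j => by rw [Atlas.pow_trans]) (sec s)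
  have hτ' : CohB1.genLocus _ (ofSection τ) = CohB1.genLocus L s := by rw [hτ hd, ofSection_sec]
  obtain ⟨m, ⟨em⟩⟩ := Finite.exists_equiv_fin (Option T)
  obtain ⟨n, rfl⟩ : ∃ n, m = n + 1 := by
    rcases m with _ | n
    · exact (IsEmpty.false (em none)).elim
    · exact ⟨n, rfl⟩
  let t : Fin (n + 1) → Γ(CohB1.tensorPow L d, ⊤) := fun k => (em.symm k).elim τ σ
  have ht_none : t (em none) = τ := by simp [t]
  have ht_some : ∀ x, t (em (some x)) = σ x := fun x => by simp [t]
  have hgen : ProjUP.GeneratedBy (CohB1.tensorPow L d) t := by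
    apply Groth.Agent.Lib.H4Twist.generatedBy_of_isGen
    intro y
    obtain ⟨x, hx⟩ := hcov y
    refine ⟨em (some x), U t (em (some x)), ?_, isGen_U t _⟩
    change y ∈ CohB1.genLocus _ (ofSection (t (em (some x))))
    rw [ht_some]; exact hx
  obtain ⟨r, i, -, hpre, hfst, hsnd, -⟩ := exists_lift g n t (isInvertible_tensorPow hL.1 d) hgen
  -- the opens `D'_k` of `P^n_S`
  have hD'aff : ∀ k, IsAffineOpen (fstP n S ⁻¹ᵁ D n ZZ.{u} k) := fun k =>
    (isAffineOpen_D n ZZ.{u} k).preimage (fstP n S)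
  have hpre' : ∀ k, i ⁻¹ᵁ (fstP n S ⁻¹ᵁ D n ZZ.{u} k) = U t k := fun k => by
    rw [← hpre k, ← hfst]; rfl
  haveI : UniversallyClosed (i ≫ sndP n S) := by rw [hsnd]; infer_instance
  haveI : UniversallyClosed i := UniversallyClosed.of_comp_of_isSeparated i (sndP n S)
  have hcl : IsClosed (Set.range i) := i.isClosedMap.isClosed_range
  haveI : IsAffineHom i := by
    apply isAffineHom_of_forall_exists_isAffineOpen
    intro y
    by_cases hy : ∃ x : T, y ∈ fstP n S ⁻¹ᵁ D n ZZ.{u} (em (some x))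
    · obtain ⟨x, hx⟩ := hy
      refine ⟨_, hx, hD'aff _, ?_⟩
      rw [hpre']
      change IsAffineOpen (CohB1.genLocus _ (ofSection (t (em (some x)))))
      rw [ht_some]; exact haff x
    · have hy' : y ∈ (⟨(Set.range i)ᶜ, hcl.isOpen_compl⟩ : (CohB1.ProjSpaceOver n S).Opens) := by
        rintro ⟨z, rfl⟩
        obtain ⟨x, hx⟩ := hcov z
        refine hy ⟨x, ?_⟩
        change z ∈ i ⁻¹ᵁ (fstP n S ⁻¹ᵁ D n ZZ.{u} (em (some x)))
        rw [hpre']
        change z ∈ CohB1.genLocus _ (ofSection (t (em (some x))))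
        rw [ht_some]; exact hx
      obtain ⟨W, hW, hyW, hWle⟩ := Opens.isBasis_iff_nbhd.1 (CohB1.ProjSpaceOver n S).isBasis_affineOpens hy'
      refine ⟨W, hyW, hW, ?_⟩
      have : i ⁻¹ᵁ W = ⊥ := by
        refine eq_bot_iff.2 (fun z hz => ?_)
        exact (hWle hz ⟨z, rfl⟩).elim
      rw [this]
      exact isAffineOpen_bot X
  have h0 := (hD'aff (em none)).preimage i
  rw [hpre'] at h0
  change IsAffineOpen (CohB1.genLocus _ (ofSection (t (em none)))) at h0
  rwa [ht_none, hτ'] at h0

/-- **S9694**: for `f` universally closed and `L` relatively ample, `X_s` is affine over the base. -/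
theorem isAffineHom_genLocus_ι_comp (f : X ⟶ S) [UniversallyClosed f] {L : X.Modules}
    (hL : RelAmple.IsRelAmple f L) (s : Coh.structureModule X ⟶ L) :
    IsAffineHom ((CohB1.genLocus L s).ι ≫ f) := by
  refine ⟨fun V hV => ?_⟩
  haveI : IsAffine V.toScheme := hV
  have h1 := isAffineOpen_genLocus_of_universallyClosed (f ∣_ V) (hL.2 ⟨V, hV⟩)
    (Groth.Agent.Lib.H78Restrict.restrictSec (f ⁻¹ᵁ V).ι s)
  rw [Groth.Agent.Lib.H78Restrict.genLocus_restrictSec] at h1
  have h2 := h1.image_of_isOpenImmersion (f ⁻¹ᵁ V).ι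
  rw [← (CohB1.genLocus L s).ι.isAffineOpen_iff_of_isOpenImmersion]
  convert h2 using 1
  rw [Scheme.Hom.comp_preimage, Scheme.Hom.image_preimage_eq_opensRange_inf,
    Scheme.Hom.image_preimage_eq_opensRange_inf,
    Scheme.Opens.opensRange_ι, Scheme.Opens.opensRange_ι, inf_comm]

end Groth.Agent.Lib.AmpleAffineH3
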