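import Groth.Agent.Lib.CohLES

/-!
# Long exact sequence of `Coh.HH`, part 2: the connecting map and exactness

For `hS : S.ShortExact` in `X.Modules`: `δ hS n : H^n(S.X₃) →+ H^{n+1}(S.X₁)`, `map_g_map_f`, `δ_map_g`,
`map_f_δ`, `exact₁/₂/₃`, `map_f_injective_zero`, `subsingleton_mid/left/right`, `map_g_surjective`,
`map_f_injective_succ`, `δ_bijective`, `δ_surjective_zero`.
(Implementation note: Mathlib's Ext lemmas are applied after `generalize S.map (toAbF X) = T`; applying
them directly to `S.map (toAbF X)` makes the unifier time out.)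
-/

set_option autoImplicit false
universe u
open CategoryTheory CategoryTheory.Limits AlgebraicGeometry TopologicalSpace Opposite Abelian

namespace Groth.Agent.Lib.CohLES

variable {X : Scheme.{u}}
variable {S : ShortComplex X.Modules}

/-- The constant sheaf `ℤ` whose Ext groups define cohomology. -/
noncomputable abbrev constZ (X : Scheme.{u}) : Sheaf (Opens.grothendieckTopology X) AddCommGrpCat.{u} :=
  (constantSheaf (Opens.grothendieckTopology X) AddCommGrpCat.{u}).obj (AddCommGrpCat.of (ULift ℤ))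

set_option maxHeartbeats 400000 in
theorem exact₂_aux (hT : (S.map (toAbF X)).ShortExact) (n : ℕ)
    (x : Ext.{u} (constZ X) (S.map (toAbF X)).X₂ n)
    (hx : x.comp (Ext.mk₀ (S.map (toAbF X)).g) (add_zero n) = 0) :
    ∃ y : Ext.{u} (constZ X) (S.map (toAbF X)).X₁ n,
      y.comp (Ext.mk₀ (S.map (toAbF X)).f) (add_zero n) = x := by
  generalize S.map (toAbF X) = T at *
  exact Ext.covariant_sequence_exact₂ _ hT x hx

set_option maxHeartbeats 400000 in
theorem exact₃_aux (hT : (S.map (toAbF X)).ShortExact) (n : ℕ)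
    (x : Ext.{u} (constZ X) (S.map (toAbF X)).X₃ n)
    (hx : x.comp hT.extClass rfl = 0) :
    ∃ y : Ext.{u} (constZ X) (S.map (toAbF X)).X₂ n,
      y.comp (Ext.mk₀ (S.map (toAbF X)).g) (add_zero n) = x := by
  generalize S.map (toAbF X) = T at *
  exact Ext.covariant_sequence_exact₃ _ hT x rfl hx

set_option maxHeartbeats 400000 in
theorem exact₁_aux (hT : (S.map (toAbF X)).ShortExact) (n : ℕ)
    (x : Ext.{u} (constZ X) (S.map (toAbF X)).X₁ (n + 1))
    (hx : x.comp (Ext.mk₀ (S.map (toAbF X)).f) (add_zero (n + 1)) = 0) :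
    ∃ y : Ext.{u} (constZ X) (S.map (toAbF X)).X₃ n,
      y.comp hT.extClass rfl = x := by
  generalize S.map (toAbF X) = T at *
  exact Ext.covariant_sequence_exact₁ _ hT x hx rfl

set_option maxHeartbeats 400000 in
theorem comp_extClass_aux (hT : (S.map (toAbF X)).ShortExact) :
    (Ext.mk₀ (S.map (toAbF X)).g).comp hT.extClass (zero_add 1) = (0 : Ext.{u} _ _ 1) := by
  generalize S.map (toAbF X) = T at *
  exact hT.comp_extClass

set_option maxHeartbeats 400000 in
theorem extClass_comp_aux (hT : (S.map (toAbF X)).ShortExact) :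
    hT.extClass.comp (Ext.mk₀ (S.map (toAbF X)).f) (add_zero 1) = (0 : Ext.{u} _ _ 1) := by
  generalize S.map (toAbF X) = T at *
  exact hT.extClass_comp

set_option maxHeartbeats 400000 in
theorem injective_zero_aux (hT : (S.map (toAbF X)).ShortExact)
    (x : Ext.{u} (constZ X) (S.map (toAbF X)).X₁ 0)
    (hx : x.comp (Ext.mk₀ (S.map (toAbF X)).f) (add_zero 0) = 0) : x = 0 := by
  generalize S.map (toAbF X) = T at *
  have := hT.mono_f
  obtain ⟨φ, rfl⟩ := (Ext.mk₀_bijective _ _).2 x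
  rw [Ext.mk₀_comp_mk₀, Ext.mk₀_eq_zero_iff] at hx
  rw [Ext.mk₀_eq_zero_iff]
  exact (cancel_mono T.f).mp (by rw [hx, zero_comp])

/-- The extension class of a short exact sequence of modules, in abelian sheaves. -/
noncomputable def extClass (hS : S.ShortExact) : Ext.{u} (Coh.toAb S.X₃) (Coh.toAb S.X₁) 1 :=
  (shortExact_toAb hS).extClass

/-- The connecting homomorphism `H^n(X, S.X₃) → H^{n+1}(X, S.X₁)`. -/
noncomputable def δ (hS : S.ShortExact) (n : ℕ) : Coh.HH X S.X₃ n →+ Coh.HH X S.X₁ (n + 1) :=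
  (extClass hS).postcomp _ rfl

theorem δ_apply (hS : S.ShortExact) (n : ℕ) (x : Coh.HH X S.X₃ n) :
    δ hS n x = x.comp (extClass hS) rfl := rfl

theorem map_g_map_f (n : ℕ) (x : Coh.HH X S.X₁ n) : map S.g n (map S.f n x) = 0 := by
  rw [← map_comp, S.zero, map_zero']

set_option maxHeartbeats 400000 in
theorem δ_map_g (hS : S.ShortExact) (n : ℕ) (x : Coh.HH X S.X₂ n) : δ hS n (map S.g n x) = 0 := by
  rw [δ_apply, map_apply, Ext.comp_assoc_of_second_deg_zero]
  have h := comp_extClass_aux (shortExact_toAb hS)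
  have h' : (Ext.mk₀ ((toAbF X).map S.g)).comp (extClass hS) (zero_add 1) = 0 := h
  rw [h', Ext.comp_zero]

set_option maxHeartbeats 400000 in
theorem map_f_δ (hS : S.ShortExact) (n : ℕ) (x : Coh.HH X S.X₃ n) :
    map S.f (n + 1) (δ hS n x) = 0 := by
  rw [δ_apply, map_apply, Ext.comp_assoc_of_third_deg_zero]
  have h := extClass_comp_aux (shortExact_toAb hS)
  have h' : (extClass hS).comp (Ext.mk₀ ((toAbF X).map S.f)) (add_zero 1) = 0 := h
  rw [h', Ext.comp_zero]

set_option maxHeartbeats 400000 in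
/-- Exactness at `H^n(X, S.X₂)`. -/
theorem exact₂ (hS : S.ShortExact) (n : ℕ) (x : Coh.HH X S.X₂ n) (hx : map S.g n x = 0) :
    ∃ y : Coh.HH X S.X₁ n, map S.f n y = x :=
  exact₂_aux (shortExact_toAb hS) n x hx

set_option maxHeartbeats 400000 in
/-- Exactness at `H^n(X, S.X₃)`. -/
theorem exact₃ (hS : S.ShortExact) (n : ℕ) (x : Coh.HH X S.X₃ n) (hx : δ hS n x = 0) :
    ∃ y : Coh.HH X S.X₂ n, map S.g n y = x :=
  exact₃_aux (shortExact_toAb hS) n x hx

set_option maxHeartbeats 400000 in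
/-- Exactness at `H^{n+1}(X, S.X₁)`. -/
theorem exact₁ (hS : S.ShortExact) (n : ℕ) (x : Coh.HH X S.X₁ (n + 1))
    (hx : map S.f (n + 1) x = 0) : ∃ y : Coh.HH X S.X₃ n, δ hS n y = x :=
  exact₁_aux (shortExact_toAb hS) n x hx

set_option maxHeartbeats 400000 in
/-- `H^0(X, S.X₁) → H^0(X, S.X₂)` is injective. -/
theorem map_f_injective_zero (hS : S.ShortExact) : Function.Injective (map S.f 0) := by
  rw [injective_iff_map_eq_zero]
  intro x hx
  exact injective_zero_aux (shortExact_toAb hS) x hx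

/-- If the outer terms have no cohomology in degree `n`, neither has the middle term. -/
theorem subsingleton_mid (hS : S.ShortExact) (n : ℕ) [Subsingleton (Coh.HH X S.X₁ n)]
    [Subsingleton (Coh.HH X S.X₃ n)] : Subsingleton (Coh.HH X S.X₂ n) := by
  refine subsingleton_of_forall_eq 0 fun x => ?_
  obtain ⟨y, rfl⟩ := exact₂ hS n x (Subsingleton.elim _ _)
  rw [Subsingleton.elim y 0, map_zero]

/-- If `H^n(S.X₂) = 0 = H^{n+1}(S.X₁)` then `H^n(S.X₃) = 0`. -/
theorem subsingleton_right (hS : S.ShortExact) (n : ℕ) [Subsingleton (Coh.HH X S.X₂ n)]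
    [Subsingleton (Coh.HH X S.X₁ (n + 1))] : Subsingleton (Coh.HH X S.X₃ n) := by
  refine subsingleton_of_forall_eq 0 fun x => ?_
  obtain ⟨y, rfl⟩ := exact₃ hS n x (Subsingleton.elim _ _)
  rw [Subsingleton.elim y 0, map_zero]

/-- If `H^{n+1}(S.X₂) = 0 = H^n(S.X₃)` then `H^{n+1}(S.X₁) = 0`. -/
theorem subsingleton_left (hS : S.ShortExact) (n : ℕ) [Subsingleton (Coh.HH X S.X₂ (n + 1))]
    [Subsingleton (Coh.HH X S.X₃ n)] : Subsingleton (Coh.HH X S.X₁ (n + 1)) := by
  refine subsingleton_of_forall_eq 0 fun x => ?_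
  obtain ⟨y, rfl⟩ := exact₁ hS n x (Subsingleton.elim _ _)
  rw [Subsingleton.elim y 0, map_zero]

/-- If `H^{n+1}(S.X₁) = 0` then `H^n(S.X₂) → H^n(S.X₃)` is surjective. -/
theorem map_g_surjective (hS : S.ShortExact) (n : ℕ) [Subsingleton (Coh.HH X S.X₁ (n + 1))] :
    Function.Surjective (map S.g n) := fun x => exact₃ hS n x (Subsingleton.elim _ _)

/-- If `H^n(S.X₃) = 0` then `H^{n+1}(S.X₁) → H^{n+1}(S.X₂)` is injective. -/
theorem map_f_injective_succ (hS : S.ShortExact) (n : ℕ) [Subsingleton (Coh.HH X S.X₃ n)] :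
    Function.Injective (map S.f (n + 1)) := by
  rw [injective_iff_map_eq_zero]
  intro x hx
  obtain ⟨y, rfl⟩ := exact₁ hS n x hx
  rw [Subsingleton.elim y 0, map_zero]

/-- Dimension shifting: if `S.X₂` is acyclic in degrees `n+1` and `n+2`, then
`δ : H^{n+1}(S.X₃) → H^{n+2}(S.X₁)` is bijective. -/
theorem δ_bijective (hS : S.ShortExact) (n : ℕ) [Subsingleton (Coh.HH X S.X₂ (n + 1))]
    [Subsingleton (Coh.HH X S.X₂ (n + 2))] : Function.Bijective (δ hS (n + 1)) := by
  constructor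
  · rw [injective_iff_map_eq_zero]
    intro x hx
    obtain ⟨y, rfl⟩ := exact₃ hS (n + 1) x hx
    rw [Subsingleton.elim y 0, map_zero]
  · intro x
    exact exact₁ hS (n + 1) x (Subsingleton.elim _ _)

/-- If `H^1(S.X₂) = 0`, then `δ : H^0(S.X₃) → H^1(S.X₁)` is surjective. -/
theorem δ_surjective_zero (hS : S.ShortExact) [Subsingleton (Coh.HH X S.X₂ 1)] :
    Function.Surjective (δ hS 0) := fun x => exact₁ hS 0 x (Subsingleton.elim _ _)

end Groth.Agent.Lib.CohLES
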