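import Groth.Agent.Lib.CohLESExact
import Mathlib.Algebra.Homology.ShortComplex.HomologicalComplex
import Mathlib.Algebra.Homology.ShortComplex.ShortExact

/-!
# Cohomology chase along an exact complex of `O_X`-modules (helper4)

* `subsingleton_HH_of_isZero` : `H^q` of a zero module vanishes;
* `shortExact_kernel` : `0 → ker d₁ → A → ker d₂ → 0` for an exact pair `A --d₁--> B --d₂--> D`;
* `subsingleton_HH_top_of_acyclic` : for an exact complex `0 → C⁰ → ⋯ → C^N → 0`, if
  `H^{q + N - 1 - j}(C^j) = 0` for all `j < N` then `H^q(C^N) = 0`;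
* `surjective_map_top_of_acyclic` : under the analogous vanishing (`H^{N - 1 - j}(C^j) = 0`, `j < N - 1`...) the map
  `H^0(C^{N-1}) → H^0(C^N)` is surjective.
-/

set_option autoImplicit false
universe u
open CategoryTheory CategoryTheory.Limits AlgebraicGeometry

namespace Groth.Agent.Lib.H4Chase

open Groth.Agent.Lib.CohLES

section Abstract

variable {𝒞 : Type*} [Category 𝒞] [Abelian 𝒞]

/-- `0 → ker d₁ → A → ker d₂ → 0` is short exact if `A → B → D` is exact at `B` -/
theorem shortExact_kernel {A B D : 𝒞} (d₁ : A ⟶ B) (d₂ : B ⟶ D) (w : d₁ ≫ d₂ = 0)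
    (hex : (ShortComplex.mk d₁ d₂ w).Exact) :
    (ShortComplex.mk (kernel.ι d₁) (kernel.lift d₂ d₁ w)
      (by rw [← cancel_mono (kernel.ι d₂), Category.assoc, kernel.lift_ι, kernel.condition,
        zero_comp])).ShortExact := by
  have hepi : Epi (kernel.lift d₂ d₁ w) := (ShortComplex.exact_iff_epi_kernel_lift _).1 hex
  refine ShortComplex.ShortExact.mk' ?_ inferInstance hepi
  refine ShortComplex.exact_of_f_is_kernel _ ?_
  exact isKernelOfComp (kernel.ι d₂) d₁ (kernelIsKernel d₁) _ (kernel.lift_ι _ _ _)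

end Abstract

variable {X : Scheme.{u}}

theorem subsingleton_HH_of_isZero {M : X.Modules} (hM : IsZero M) (q : ℕ) :
    Subsingleton (Coh.HH X M q) := by
  refine subsingleton_of_forall_eq 0 fun x => ?_
  rw [← map_id M q x, hM.eq_of_src (𝟙 M) 0, map_zero']

section Chase

variable (C : CochainComplex X.Modules ℤ) (hC : ∀ i : ℤ, C.ExactAt i)

include hC in
/-- the short exact sequence `0 → Z^i → C^i → Z^{i+1} → 0` of an exact complex -/
theorem shortExact_cycles (i : ℤ) :
    (ShortComplex.mk (kernel.ι (C.d i (i + 1)))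
      (kernel.lift (C.d (i + 1) (i + 1 + 1)) (C.d i (i + 1)) (C.d_comp_d _ _ _))
      (by rw [← cancel_mono (kernel.ι (C.d (i + 1) (i + 1 + 1))), Category.assoc, kernel.lift_ι,
        kernel.condition, zero_comp])).ShortExact := by
  refine shortExact_kernel _ _ _ ?_
  exact (HomologicalComplex.exactAt_iff' C i (i + 1) (i + 1 + 1) (by simp) (by simp)).1 (hC (i + 1))

include hC in
theorem subsingleton_HH_cycles (hneg : IsZero (C.X (-1))) (N q : ℕ)
    (h : ∀ j : ℕ, j < N → Subsingleton (Coh.HH X (C.X j) (q + (N - 1 - j)))) :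
    ∀ (j : ℕ) (i : ℤ), i = j → j ≤ N →
      Subsingleton (Coh.HH X (kernel (C.d i (i + 1))) (q + (N - j))) := by
  intro j
  induction j with
  | zero =>
    intro i hi _
    obtain rfl : i = 0 := by simpa using hi
    apply subsingleton_HH_of_isZero
    have hex := (HomologicalComplex.exactAt_iff' C (-1) 0 (0 + 1) (by simp) (by simp)).1 (hC 0)
    have hmono : Mono (C.d 0 (0 + 1)) := hex.mono_g (hneg.eq_of_src _ _)
    exact isZero_kernel_of_mono _
  | succ j ih =>
    intro i hi hj
    obtain rfl : i = (j : ℤ) + 1 := by rw [hi]; push_cast; rfl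
    have hS := shortExact_cycles C hC (j : ℤ)
    have h1 := ih (j : ℤ) rfl (by omega)
    have h2 := h j (by omega)
    have e1 : q + (N - j) = q + (N - (j + 1)) + 1 := by omega
    have e2 : q + (N - 1 - j) = q + (N - (j + 1)) := by omega
    rw [e1] at h1
    rw [e2] at h2
    exact subsingleton_right hS (q + (N - (j + 1)))

include hC in
/-- **Chase**: for an exact complex `0 → C⁰ → ⋯ → C^N → 0` with `H^{q + N - 1 - j}(C^j) = 0` for all `j < N`,
we have `H^q(C^N) = 0`. -/
theorem subsingleton_HH_top_of_acyclic (hneg : IsZero (C.X (-1))) (N q : ℕ)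
    (hN : IsZero (C.X ((N : ℤ) + 1)))
    (h : ∀ j : ℕ, j < N → Subsingleton (Coh.HH X (C.X j) (q + (N - 1 - j)))) :
    Subsingleton (Coh.HH X (C.X N) q) := by
  have h1 := subsingleton_HH_cycles C hC hneg N q h N (N : ℤ) rfl le_rfl
  rw [Nat.sub_self, add_zero] at h1
  have hd : C.d (N : ℤ) ((N : ℤ) + 1) = 0 := hN.eq_of_tgt _ _
  have hiso : IsIso (kernel.ι (C.d (N : ℤ) ((N : ℤ) + 1))) := by
    rw [hd]
    infer_instance
  exact (mapEquiv (asIso (kernel.ι (C.d (N : ℤ) ((N : ℤ) + 1)))) q).symm.toEquiv.subsingleton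

end Chase

end Groth.Agent.Lib.H4Chase
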