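import Groth.Agent.Lib.H78Restrict
import Groth.Agent.Lib.ModPullback

set_option autoImplicit false
universe u
open CategoryTheory CategoryTheory.Limits AlgebraicGeometry MonoidalCategory Opposite TopologicalSpace
open Groth.Agent.Lib.H90Invertible Groth.Agent.Lib.StructureModule Groth.Agent.Lib.H78TensorGen
open Groth.Agent.Lib.H78SecCoord Groth.Agent.Lib.H78Atlas

namespace Groth.Agent.Lib.H78PullSec

variable {X Y Z : Scheme.{u}} (f : X ⟶ Y)

/-- a section of `N` over `f ⁻¹ᵁ V` as a section of `f_* N` over `V` -/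
def toPush (N : X.Modules) (V : Y.Opens) (x : Γ(N, f ⁻¹ᵁ V)) :
    Γ((Scheme.Modules.pushforward f).obj N, V) := x

/-- a section of `f_* N` over `V` as a section of `N` over `f ⁻¹ᵁ V` -/
def ofPush (N : X.Modules) (V : Y.Opens) (x : Γ((Scheme.Modules.pushforward f).obj N, V)) :
    Γ(N, f ⁻¹ᵁ V) := x

/-- pullback of a local section: the unit of the adjunction on sections -/
noncomputable def pb (M : Y.Modules) {V : Y.Opens} (e : Γ(M, V)) :
    Γ((Scheme.Modules.pullback f).obj M, f ⁻¹ᵁ V) :=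
  ofPush f _ V (((Scheme.Modules.pullbackPushforwardAdjunction f).unit.app M).app V e)

lemma pb_add (M : Y.Modules) {V : Y.Opens} (e e' : Γ(M, V)) :
    pb f M (e + e') = pb f M e + pb f M e' :=
  map_add (((Scheme.Modules.pullbackPushforwardAdjunction f).unit.app M).app V).hom e e'

lemma pb_zero (M : Y.Modules) {V : Y.Opens} : pb f M (0 : Γ(M, V)) = 0 :=
  map_zero (((Scheme.Modules.pullbackPushforwardAdjunction f).unit.app M).app V).hom

lemma push_smul (N : X.Modules) (V : Y.Opens) (a : Γ(Y, V)) (x : Γ(N, f ⁻¹ᵁ V)) :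
    ofPush f N V (a • toPush f N V x) = (f.app V a) • x := rfl

lemma pb_smul (M : Y.Modules) {V : Y.Opens} (a : Γ(Y, V)) (e : Γ(M, V)) :
    pb f M (a • e) = (f.app V a) • pb f M e := by
  unfold pb
  rw [Scheme.Modules.Hom.app_smul]
  rfl

lemma pb_rs (M : Y.Modules) {V W : Y.Opens} (h : W ≤ V) (e : Γ(M, V)) :
    pb f M (rs M h e) =
      rs ((Scheme.Modules.pullback f).obj M) (f.preimage_mono h) (pb f M e) := by
  exact app_rs ((Scheme.Modules.pullbackPushforwardAdjunction f).unit.app M) h e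

lemma pb_map {M M' : Y.Modules} (φ : M ⟶ M') {V : Y.Opens} (e : Γ(M, V)) :
    ((Scheme.Modules.pullback f).map φ).app (f ⁻¹ᵁ V) (pb f M e) = pb f M' (φ.app V e) := by
  have h := (Scheme.Modules.pullbackPushforwardAdjunction f).unit.naturality φ
  have h2 := congrArg (fun ψ => Scheme.Modules.Hom.app ψ V e) h
  exact h2.symm

/-- the canonical map `f^* O_Y ⟶ O_X` -/
noncomputable abbrev unitHom :
    (Scheme.Modules.pullback f).obj (Coh.structureModule Y) ⟶ Coh.structureModule X :=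
  SheafOfModules.pullbackObjUnitToUnit f.toRingCatSheafHom

instance : IsIso (unitHom f) :=
  inferInstanceAs (IsIso (Groth.Agent.Lib.ModPullback.pullbackUnitIso f).inv)

lemma unitHom_pb (V : Y.Opens) (a : Γ(Y, V)) :
    (unitHom f).app (f ⁻¹ᵁ V) (pb f _ (toSec V a)) = toSec (f ⁻¹ᵁ V) (f.app V a) := by
  have h := SheafOfModules.pullbackPushforwardAdjunction_homEquiv_pullbackObjUnitToUnit
    f.toRingCatSheafHom
  rw [Adjunction.homEquiv_unit] at h
  have h2 := congrArg (fun ψ => Scheme.Modules.Hom.app (N := (Scheme.Modules.pushforward f).obj (Coh.structureModule X)) ψ V (toSec V a)) h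
  exact h2

variable (g : Y ⟶ Z)

lemma pb_comp (M : Z.Modules) {V : Z.Opens} (e : Γ(M, V)) :
    ((Scheme.Modules.pullbackComp f g).inv.app M).app (f ⁻¹ᵁ (g ⁻¹ᵁ V)) (pb (f ≫ g) M e) =
      pb f _ (pb g M e) := by
  have h := unit_conjugateEquiv
    ((Scheme.Modules.pullbackPushforwardAdjunction g).comp (Scheme.Modules.pullbackPushforwardAdjunction f))
    (Scheme.Modules.pullbackPushforwardAdjunction (f ≫ g)) (Scheme.Modules.pullbackComp f g).inv M
  rw [Scheme.Modules.conjugateEquiv_pullbackComp_inv, Adjunction.comp_unit_app] at h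
  have h2 := congrArg (fun ψ => Scheme.Modules.Hom.app ψ V e) h
  exact h2.symm

lemma pb_congr {f f' : X ⟶ Y} (h : f = f') (M : Y.Modules) {V : Y.Opens} (e : Γ(M, V)) :
    ((Scheme.Modules.pullbackCongr h).hom.app M).app (f ⁻¹ᵁ V) (pb f M e) =
      rs _ (le_of_eq (by rw [h]) : f ⁻¹ᵁ V ≤ f' ⁻¹ᵁ V) (pb f' M e) := by
  subst h
  rw [rs_self]
  rfl

open Groth.Agent.Lib.H78Restrict in
lemma pb_openImm (j : X ⟶ Y) [IsOpenImmersion j] (M : Y.Modules) {V : Y.Opens} (e : Γ(M, V)) :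
    ((Scheme.Modules.restrictFunctorIsoPullback j).hom.app M).app (j ⁻¹ᵁ V)
      (toR j M (j ⁻¹ᵁ V) (rs M (j.image_preimage_le V) e)) = pb j M e := by
  have h := Adjunction.unit_leftAdjointUniq_hom_app (Scheme.Modules.restrictAdjunction j)
    (Scheme.Modules.pullbackPushforwardAdjunction j) M
  have h2 := congrArg (fun ψ => Scheme.Modules.Hom.app ψ V e) h
  exact h2

lemma iso_inv_hom_app {P Q : X.Modules} (A : P ≅ Q) (U : X.Opens) (x : Γ(P, U)) :
    A.inv.app U (A.hom.app U x) = x := by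
  have h := congrArg (fun ψ => Scheme.Modules.Hom.app ψ U x) A.hom_inv_id
  exact h

lemma iso_hom_inv_app {P Q : X.Modules} (A : P ≅ Q) (U : X.Opens) (x : Γ(Q, U)) :
    A.hom.app U (A.inv.app U x) = x := by
  have h := congrArg (fun ψ => Scheme.Modules.Hom.app ψ U x) A.inv_hom_id
  exact h

lemma pb_comp' (M : Z.Modules) {V : Z.Opens} (e : Γ(M, V)) :
    ((Scheme.Modules.pullbackComp f g).hom.app M).app (f ⁻¹ᵁ (g ⁻¹ᵁ V)) (pb f _ (pb g M e)) =
      pb (f ≫ g) M e := by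
  rw [← pb_comp]
  exact iso_hom_inv_app ((Scheme.Modules.pullbackComp f g).app M) _ _

open Groth.Agent.Lib.H78Restrict in
lemma pb_openImm' (j : X ⟶ Y) [IsOpenImmersion j] (M : Y.Modules) {V : Y.Opens} (e : Γ(M, V)) :
    ((Scheme.Modules.restrictFunctorIsoPullback j).inv.app M).app (j ⁻¹ᵁ V) (pb j M e) =
      toR j M (j ⁻¹ᵁ V) (rs M (j.image_preimage_le V) e) := by
  rw [← pb_openImm]
  exact iso_inv_hom_app ((Scheme.Modules.restrictFunctorIsoPullback j).app M) _ _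

/-- the canonical iso `f^* O_Y ≅ O_X` -/
noncomputable def unitIso :
    (Scheme.Modules.pullback f).obj (Coh.structureModule Y) ≅ Coh.structureModule X :=
  asIso (unitHom f)

lemma unitIso_inv_toSec (V : Y.Opens) (a : Γ(Y, V)) :
    (unitIso f).inv.app (f ⁻¹ᵁ V) (toSec (f ⁻¹ᵁ V) (f.app V a)) = pb f _ (toSec V a) := by
  rw [← unitHom_pb]
  exact iso_inv_hom_app (unitIso f) _ _

lemma isIso_ofSection_of_isGen {M : Y.Modules} {e : Γ(M, ⊤)} (he : IsGen M ⊤ e) :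
    IsIso (ofSection e) := by
  rw [Scheme.Modules.Hom.isIso_iff_isIso_app]
  intro W
  rw [ConcreteCategory.isIso_iff_bijective]
  exact he W le_top

lemma isGen_pb_of_eq_top (M : Y.Modules) (T : Y.Opens) (hT : T = ⊤) (e : Γ(M, T))
    (he : IsGen M T e) : IsGen ((Scheme.Modules.pullback f).obj M) (f ⁻¹ᵁ T) (pb f M e) := by
  subst hT
  have := isIso_ofSection_of_isGen he
  let Φ : Coh.structureModule X ≅ (Scheme.Modules.pullback f).obj M :=
    (unitIso f).symm ≪≫ (Scheme.Modules.pullback f).mapIso (asIso (ofSection e))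
  have h1 := (isGen_one (f ⁻¹ᵁ (⊤ : Y.Opens))).of_iso Φ
  have h2 : Φ.hom.app (f ⁻¹ᵁ (⊤ : Y.Opens)) (toSec _ 1) = pb f M e := by
    change ((Scheme.Modules.pullback f).map (ofSection e)).app _
      ((unitIso f).inv.app (f ⁻¹ᵁ ⊤) (toSec (f ⁻¹ᵁ ⊤) 1)) = _
    have h3 := unitIso_inv_toSec f ⊤ 1
    rw [map_one] at h3
    rw [h3, pb_map, ofSection_app, one_smul]
    exact congrArg (pb f M) (rs_self M e)
  rwa [h2] at h1

section ResPull

open Groth.Agent.Lib.H78Restrict Groth.Agent.Lib.ModPullback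

variable (V : Y.Opens) (M : Y.Modules)

lemma preimage_eq (V' : Y.Opens) :
    (f ⁻¹ᵁ V).ι ⁻¹ᵁ (f ⁻¹ᵁ V') = (f ∣_ V) ⁻¹ᵁ (V.ι ⁻¹ᵁ V') := by
  change ((f ⁻¹ᵁ V).ι ≫ f) ⁻¹ᵁ V' = ((f ∣_ V) ≫ V.ι) ⁻¹ᵁ V'
  rw [morphismRestrict_ι]

/-- compatibility of `restrictPullbackIso` with pullback of sections -/
lemma restrictPullbackIso_pb {V' : Y.Opens} (e : Γ(M, V')) :
    (restrictPullbackIso f V M).hom.app ((f ⁻¹ᵁ V).ι ⁻¹ᵁ (f ⁻¹ᵁ V'))
      (toR (f ⁻¹ᵁ V).ι _ _ (rs _ ((f ⁻¹ᵁ V).ι.image_preimage_le (f ⁻¹ᵁ V')) (pb f M e))) =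
    rs _ (le_of_eq (preimage_eq f V V'))
      (pb (f ∣_ V) (M.restrict V.ι) (toR V.ι M (V.ι ⁻¹ᵁ V') (rs M (V.ι.image_preimage_le V') e))) := by
  unfold restrictPullbackIso
  simp only [Iso.trans_hom, Iso.app_hom, Iso.symm_hom, Functor.mapIso_hom, Iso.app_inv,
    Scheme.Modules.Hom.comp_app, ConcreteCategory.comp_apply]
  rw [pb_openImm (f ⁻¹ᵁ V).ι ((Scheme.Modules.pullback f).obj M) (pb f M e)]
  rw [pb_comp' (f ⁻¹ᵁ V).ι f M e]
  erw [pb_congr (morphismRestrict_ι f V).symm M e]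
  erw [app_rs, app_rs]
  congr 1
  erw [pb_comp (f ∣_ V) V.ι M e]
  refine (pb_map (f ∣_ V) ((Scheme.Modules.restrictFunctorIsoPullback V.ι).inv.app M)
    (pb V.ι M e)).trans ?_
  rw [pb_openImm']

/-- the pullback of a free generator is a free generator -/
theorem isGen_pb {V : Y.Opens} {M : Y.Modules} {e : Γ(M, V)} (he : IsGen M V e) :
    IsGen ((Scheme.Modules.pullback f).obj M) (f ⁻¹ᵁ V) (pb f M e) := by
  have h0 : IsGen (M.restrict V.ι) (V.ι ⁻¹ᵁ V)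
      (toR V.ι M (V.ι ⁻¹ᵁ V) (rs M (V.ι.image_preimage_le V) e)) :=
    (isGen_restrict_iff V.ι M _ _).2 (he.mono _)
  have h1 := isGen_pb_of_eq_top (f ∣_ V) (M.restrict V.ι) _ V.ι_preimage_self _ h0
  have h2 := h1.mono (le_of_eq (preimage_eq f V V))
  have h3 := h2.of_iso (restrictPullbackIso f V M).symm
  have h3' : IsGen (((Scheme.Modules.pullback f).obj M).restrict (f ⁻¹ᵁ V).ι)
      ((f ⁻¹ᵁ V).ι ⁻¹ᵁ (f ⁻¹ᵁ V)) (toR (f ⁻¹ᵁ V).ι _ _
        (rs _ ((f ⁻¹ᵁ V).ι.image_preimage_le (f ⁻¹ᵁ V)) (pb f M e))) := by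
    have h4 := restrictPullbackIso_pb f V M e
    have h5 := iso_inv_hom_app (restrictPullbackIso f V M) ((f ⁻¹ᵁ V).ι ⁻¹ᵁ (f ⁻¹ᵁ V))
      (toR (f ⁻¹ᵁ V).ι _ _ (rs _ ((f ⁻¹ᵁ V).ι.image_preimage_le (f ⁻¹ᵁ V)) (pb f M e)))
    rw [h4] at h5
    rw [← h5]
    exact h3
  have h6 := (isGen_restrict_iff (f ⁻¹ᵁ V).ι _ _ _).1 h3'
  have hE : f ⁻¹ᵁ V = (f ⁻¹ᵁ V).ι ''ᵁ ((f ⁻¹ᵁ V).ι ⁻¹ᵁ (f ⁻¹ᵁ V)) := by
    rw [Scheme.Hom.image_preimage_eq_opensRange_inf, Scheme.Opens.opensRange_ι, inf_idem]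
  have h7 := h6.mono (le_of_eq hE)
  have h8 : rs ((Scheme.Modules.pullback f).obj M) (le_of_eq hE)
      (rs _ ((f ⁻¹ᵁ V).ι.image_preimage_le (f ⁻¹ᵁ V)) (pb f M e)) = pb f M e := by
    rw [rs_rs]
    exact rs_self _ _
  rw [← h8]
  exact h7

end ResPull

section AtlasPull

variable {P : Y.Modules} {ι : Type*} {V : ι → Y.Opens}

lemma rs_pb_smul (M : Y.Modules) {U : Y.Opens} {W : X.Opens} (h : W ≤ f ⁻¹ᵁ U) (a : Γ(Y, U))
    (e : Γ(M, U)) :
    rs _ h (pb f M (a • e)) = (f.appLE U W h a) • rs _ h (pb f M e) := by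
  rw [pb_smul, rs_smul]
  rfl

/-- the pulled back atlas -/
noncomputable def pullAtlas (A : Atlas P V) :
    Atlas ((Scheme.Modules.pullback f).obj P) (fun i => f ⁻¹ᵁ V i) where
  E i := pb f P (A.E i)
  gen i := isGen_pb f (A.gen i)

lemma pullAtlas_trans (A : Atlas P V) (i j : ι) :
    (pullAtlas f A).trans i j =
      f.appLE (V i ⊓ V j) (f ⁻¹ᵁ V i ⊓ f ⁻¹ᵁ V j) (le_of_eq rfl) (A.trans i j) := by
  symm
  refine Atlas.trans_unique (pullAtlas f A) i j ?_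
  change _ • rs _ _ (pb f P (A.E i)) = rs _ _ (pb f P (A.E j))
  have h := congrArg (fun x => rs _ (le_of_eq rfl : f ⁻¹ᵁ V i ⊓ f ⁻¹ᵁ V j ≤ f ⁻¹ᵁ (V i ⊓ V j))
    (pb f P x)) (A.trans_spec i j)
  simp only [rs_pb_smul, pb_rs, rs_rs] at h
  exact h

/-- transport of a global section along `f` between modules with atlases whose transition functions
correspond under `f` -/
theorem exists_sec_of_trans {P' : X.Modules} (A : Atlas P V)
    (A' : Atlas P' (fun i => f ⁻¹ᵁ V i)) (hV : ⨆ i, V i = ⊤)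
    (hT : ∀ i j, A'.trans i j =
      f.appLE (V i ⊓ V j) (f ⁻¹ᵁ V i ⊓ f ⁻¹ᵁ V j) (le_of_eq rfl) (A.trans i j))
    (σ : Γ(P, ⊤)) :
    ∃ σ' : Γ(P', ⊤), (∀ i, A'.co σ' i = f.app (V i) (A.co σ i)) ∧
      CohB1.genLocus P' (ofSection σ') = f ⁻¹ᵁ (CohB1.genLocus P (ofSection σ)) := by
  have hV' : ⨆ i, f ⁻¹ᵁ V i = ⊤ := by
    ext x
    simp only [Opens.coe_iSup, Set.mem_iUnion, SetLike.mem_coe, Opens.coe_top, Set.mem_univ, iff_true]
    have hx : f x ∈ ⨆ i, V i := by rw [hV]; trivial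
    obtain ⟨i, hi⟩ := Opens.mem_iSup.1 hx
    exact ⟨i, hi⟩
  obtain ⟨σ', hσ'⟩ := A'.exists_sec hV' (fun i => f.app (V i) (A.co σ i)) (by
    intro i j
    rw [hT i j]
    have h := congrArg (f.appLE (V i ⊓ V j) (f ⁻¹ᵁ V i ⊓ f ⁻¹ᵁ V j) (le_of_eq rfl)) (A.co_compat σ i j)
    rw [map_mul] at h
    have e1 : ∀ (k : ι) (hk : V i ⊓ V j ≤ V k) (hk' : f ⁻¹ᵁ V i ⊓ f ⁻¹ᵁ V j ≤ f ⁻¹ᵁ V k)
        (a : Γ(Y, V k)),
        f.appLE (V i ⊓ V j) (f ⁻¹ᵁ V i ⊓ f ⁻¹ᵁ V j) (le_of_eq rfl) (rf hk a) =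
          rf hk' (f.app (V k) a) := by
      intro k hk hk' a
      have h1 := congrArg (fun φ => (ConcreteCategory.hom φ) a)
        (f.map_appLE (le_of_eq rfl : f ⁻¹ᵁ V i ⊓ f ⁻¹ᵁ V j ≤ f ⁻¹ᵁ (V i ⊓ V j)) (homOfLE hk).op)
      have h2 := congrArg (fun φ => (ConcreteCategory.hom φ) a)
        (f.appLE_map (le_refl (f ⁻¹ᵁ V k)) (homOfLE hk').op)
      rw [f.appLE_eq_app] at h2
      exact h1.trans h2.symm
    rw [e1 i inf_le_left inf_le_left, e1 j inf_le_right inf_le_right] at h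
    exact h)
  refine ⟨σ', hσ', ?_⟩
  apply opens_eq_of_cover hV'
  intro i
  rw [A'.genLocus_inf σ' i, hσ' i, ← Scheme.preimage_basicOpen, ← A.genLocus_inf σ i]
  rfl

/-- pullback of sections of tensor powers of an invertible module, with the expected generating locus -/
theorem exists_pull_sec {L : Y.Modules} (hL : PicF.IsInvertible L) (n : ℕ)
    (s : Coh.structureModule Y ⟶ CohB1.tensorPow L n) :
    ∃ s' : Coh.structureModule X ⟶ CohB1.tensorPow ((Scheme.Modules.pullback f).obj L) n,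
      CohB1.genLocus _ s' = f ⁻¹ᵁ CohB1.genLocus _ s := by
  obtain ⟨W, hxW, -, ⟨A⟩⟩ := exists_atlas hL
  have hW := iSup_eq_top_of_mem hxW
  obtain ⟨σ', -, hσ'⟩ := exists_sec_of_trans f (A.pow n) ((pullAtlas f A).pow n) hW (by
    intro i j
    rw [Atlas.pow_trans, Atlas.pow_trans, pullAtlas_trans, map_pow]) (sec s)
  rw [ofSection_sec] at hσ'
  exact ⟨ofSection σ', hσ'⟩

end AtlasPull

end Groth.Agent.Lib.H78PullSec
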