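/-
# helper78: isomorphisms of invertible modules from atlases with equal transition functions;
  pullback commutes with tensor powers (and tensor products) of invertible modules
-/
import Groth.Agent.Lib.H78PullSec
import Groth.Agent.Lib.ModIsoGlueH3

set_option autoImplicit false
universe u
open CategoryTheory CategoryTheory.Limits AlgebraicGeometry TopologicalSpace Opposite
open Groth.Agent.Lib.H90Invertible Groth.Agent.Lib.H78TensorGen Groth.Agent.Lib.H78SecCoord
open Groth.Agent.Lib.H78Atlas Groth.Agent.Lib.H78PullSec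

namespace Groth.Agent.Lib.H78AtlasIso

variable {X Y : Scheme.{u}}

/-- two modules with atlases over the same cover and equal transition functions are isomorphic -/
theorem nonempty_iso_of_atlas {P P' : X.Modules} {ι : Type*} {V : ι → X.Opens} (A : Atlas P V) (A' : Atlas P' V)
    (hV : ⨆ i, V i = ⊤) (h : ∀ i j, A.trans i j = A'.trans i j) : Nonempty (P ≅ P') := by
  obtain ⟨φ, -⟩ := Groth.Agent.Lib.ModIsoGlueH3.exists_iso_of_atlas (L' := P) (L := P') (U := V)
    (t := A.E) A.gen (e := A'.E) A'.gen (g := A.trans)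
    (fun i j => (A.trans_spec i j).symm) (fun i j => by rw [h i j]; exact (A'.trans_spec i j).symm) hV
  exact ⟨φ⟩

/-- pullback commutes with tensor powers of an invertible module -/
theorem nonempty_pullback_tensorPow_iso (f : X ⟶ Y) {L : Y.Modules} (hL : PicF.IsInvertible L) (n : ℕ) :
    Nonempty ((Scheme.Modules.pullback f).obj (CohB1.tensorPow L n) ≅
      CohB1.tensorPow ((Scheme.Modules.pullback f).obj L) n) := by
  obtain ⟨V, hyV, -, ⟨A⟩⟩ := exists_atlas hL
  have hV : ⨆ y, f ⁻¹ᵁ V y = ⊤ := by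
    refine top_le_iff.1 (fun x _ => Opens.mem_iSup.2 ⟨f x, hyV (f x)⟩)
  refine nonempty_iso_of_atlas (pullAtlas f (A.pow n)) ((pullAtlas f A).pow n) hV (fun i j => ?_)
  rw [pullAtlas_trans, Atlas.pow_trans, Atlas.pow_trans, pullAtlas_trans, map_pow]

/-- pullback commutes with tensor products of invertible modules -/
theorem nonempty_pullback_tensorMod_iso (f : X ⟶ Y) {L L' : Y.Modules} (hL : PicF.IsInvertible L)
    (hL' : PicF.IsInvertible L') :
    Nonempty ((Scheme.Modules.pullback f).obj (CohB1.tensorMod L L') ≅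
      CohB1.tensorMod ((Scheme.Modules.pullback f).obj L) ((Scheme.Modules.pullback f).obj L')) := by
  obtain ⟨V, hyV, -, ⟨A⟩, ⟨A'⟩⟩ := exists_atlas₂ hL hL'
  have hV : ⨆ y, f ⁻¹ᵁ V y = ⊤ := by
    refine top_le_iff.1 (fun x _ => Opens.mem_iSup.2 ⟨f x, hyV (f x)⟩)
  refine nonempty_iso_of_atlas (pullAtlas f (A.tmul A')) ((pullAtlas f A).tmul (pullAtlas f A')) hV (fun i j => ?_)
  rw [pullAtlas_trans, Atlas.tmul_trans, Atlas.tmul_trans, pullAtlas_trans, pullAtlas_trans, map_mul]

end Groth.Agent.Lib.H78AtlasIso
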