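import Groth.Agent.Lib.H78AmpleUnit
import Groth.Agent.Lib.H90Invertible
import Mathlib.CategoryTheory.Sites.LocallyBijective

/-!
# helper78: pure tensors as sections of `CohB1.tensorMod`, tensoring with a locally free generator
(namespace `Groth.Agent.Lib.H78TensorGen`)

* `tmul x y : Γ(tensorMod M N, V)` for `x : Γ(M, V)`, `y : Γ(N, V)`: image of the pure tensor under the
  sheafification unit; `tmul_add_left/right`, `smul_tmul`, `tmul_smul`, `tmul_rs` (restriction).
* `exists_local_rep`, `local_inj`: the sheafification unit of the presheaf tensor product is locally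
  surjective / injective, in terms of opens.
* `sec_ext`, `sec_glue`: sections of a module are determined locally / glue.
* `tmul_gen_bijective`: if `IsGen N U e` (helper90) then for `V ≤ U`, `x ↦ tmul x e|_V` is a bijection
  `Γ(M, V) → Γ(M ⊗ N, V)`.
* `isGen_tmul`, `epow e n` (generator of `tensorPow L n`), `isGen_epow`, `epow_rs`, `epow_smul`;
  `isInvertible_tensorMod`, `isInvertible_tensorPow`.
-/

set_option autoImplicit false
universe u
open CategoryTheory CategoryTheory.Limits AlgebraicGeometry MonoidalCategory Opposite TopologicalSpace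
open Groth.Agent.Lib.H90Invertible Groth.Agent.Lib.StructureModule

namespace Groth.Agent.Lib.H78TensorGen

variable {X : Scheme.{u}} (M N : X.Modules)

/-- the presheaf tensor product, as a presheaf of modules over `X` -/
noncomputable abbrev tpre : X.PresheafOfModules := CohB1.tensorPre M N

/-- the sheafification unit of the presheaf tensor product -/
noncomputable def unitT : tpre M N ⟶ (CohB1.tensorMod M N).val :=
  (H78AmpleUnit.adj X).unit.app _

lemma toPresheaf_unitT :
    (PresheafOfModules.toPresheaf _).map (unitT M N) =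
      CategoryTheory.toSheafify (Opens.grothendieckTopology X) (tpre M N).presheaf :=
  PresheafOfModules.toPresheaf_map_sheafificationAdjunction_unit_app (𝟙 X.ringCatSheaf.obj) _

instance : Presheaf.IsLocallyInjective (Opens.grothendieckTopology X)
    ((PresheafOfModules.toPresheaf _).map (unitT M N)) := by
  have : Presheaf.IsLocallyInjective (Opens.grothendieckTopology X)
    (CategoryTheory.toSheafify (Opens.grothendieckTopology X) (tpre M N).presheaf) := inferInstance
  rw [toPresheaf_unitT]; exact this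

instance : Presheaf.IsLocallySurjective (Opens.grothendieckTopology X)
    ((PresheafOfModules.toPresheaf _).map (unitT M N)) := by
  have : Presheaf.IsLocallySurjective (Opens.grothendieckTopology X)
    (CategoryTheory.toSheafify (Opens.grothendieckTopology X) (tpre M N).presheaf) := inferInstance
  rw [toPresheaf_unitT]; exact this

variable {M N}

/-- the ring of functions on `V`, in the form used by the monoidal structure -/
abbrev RR (V : X.Opens) : RingCat.{u} := (X.sheaf.obj ⋙ forget₂ CommRingCat RingCat).obj (op V)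

/-- the sections over `V`, as a module in the form used by the monoidal structure -/
noncomputable abbrev MM (M : X.Modules) (V : X.Opens) : ModuleCat.{u} (RR V) := (CohB1.toPMod M).obj (op V)

/-- pure tensors in the presheaf tensor product -/
noncomputable def ptmul {V : X.Opens} (x : Γ(M, V)) (y : Γ(N, V)) : (tpre M N).obj (op V) :=
  (show MM M V from x) ⊗ₜ[RR V] (show MM N V from y)

/-- pure tensors as sections of the tensor product -/
noncomputable def tmul {V : X.Opens} (x : Γ(M, V)) (y : Γ(N, V)) : Γ(CohB1.tensorMod M N, V) :=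
  ((unitT M N).app (op V)).hom (ptmul x y)

lemma ptmul_res {V W : X.Opens} (i : W ⟶ V) (x : Γ(M, V)) (y : Γ(N, V)) :
    (tpre M N).map i.op (ptmul x y) = ptmul (M.presheaf.map i.op x) (N.presheaf.map i.op y) := by
  exact PresheafOfModules.Monoidal.tensorObj_map_tmul i.op _ _

lemma tmul_res {V W : X.Opens} (i : W ⟶ V) (x : Γ(M, V)) (y : Γ(N, V)) :
    (CohB1.tensorMod M N).presheaf.map i.op (tmul x y) =
      tmul (M.presheaf.map i.op x) (N.presheaf.map i.op y) := by
  rw [tmul, tmul, ← ptmul_res]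
  exact (PresheafOfModules.naturality_apply (unitT M N) i.op (ptmul x y)).symm

lemma ptmul_add_left {V : X.Opens} (x x' : Γ(M, V)) (y : Γ(N, V)) :
    ptmul (x + x') y = ptmul x y + ptmul x' y := TensorProduct.add_tmul _ _ _

lemma ptmul_add_right {V : X.Opens} (x : Γ(M, V)) (y y' : Γ(N, V)) :
    ptmul x (y + y') = ptmul x y + ptmul x y' := TensorProduct.tmul_add _ _ _

lemma tmul_add_left {V : X.Opens} (x x' : Γ(M, V)) (y : Γ(N, V)) :
    tmul (x + x') y = tmul x y + tmul x' y := by
  rw [tmul, ptmul_add_left, map_add]; rfl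

lemma tmul_add_right {V : X.Opens} (x : Γ(M, V)) (y y' : Γ(N, V)) :
    tmul x (y + y') = tmul x y + tmul x y' := by
  rw [tmul, ptmul_add_right, map_add]; rfl

/-- a function as a scalar of the monoidal structure -/
abbrev toRR {V : X.Opens} (a : Γ(X, V)) : RR V := a

lemma ptmul_smul_left {V : X.Opens} (a : Γ(X, V)) (x : Γ(M, V)) (y : Γ(N, V)) :
    ptmul (a • x) y = (toRR a) • (id (ptmul x y) : ↑(MM M V ⊗ MM N V)) :=
  (TensorProduct.smul_tmul' (toRR a) (id x : MM M V) (id y : MM N V)).symm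

lemma ptmul_smul_right {V : X.Opens} (a : Γ(X, V)) (x : Γ(M, V)) (y : Γ(N, V)) :
    ptmul x (a • y) = (toRR a) • (id (ptmul x y) : ↑(MM M V ⊗ MM N V)) :=
  (TensorProduct.tmul_smul (toRR a) (id x : MM M V) (id y : MM N V))

lemma unitT_smul {V : X.Opens} (a : Γ(X, V)) (p : (tpre M N).obj (op V)) :
    ((unitT M N).app (op V)).hom ((toRR a) • (id p : ↑(MM M V ⊗ MM N V))) =
      a • (id (((unitT M N).app (op V)).hom p) : Γ(CohB1.tensorMod M N, V)) :=
  ((unitT M N).app (op V)).hom.map_smul (toRR a) p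

lemma smul_tmul {V : X.Opens} (a : Γ(X, V)) (x : Γ(M, V)) (y : Γ(N, V)) :
    tmul (a • x) y = a • tmul x y := by
  rw [tmul, ptmul_smul_left]
  exact unitT_smul a _

lemma tmul_smul {V : X.Opens} (a : Γ(X, V)) (x : Γ(M, V)) (y : Γ(N, V)) :
    tmul x (a • y) = a • tmul x y := by
  rw [tmul, ptmul_smul_right]
  exact unitT_smul a _

/-- restriction of sections of a module, along an inequality of opens -/
noncomputable abbrev rs (M : X.Modules) {V W : X.Opens} (h : W ≤ V) (x : Γ(M, V)) : Γ(M, W) :=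
  M.presheaf.map (homOfLE h).op x

lemma rs_rs (M : X.Modules) {V W W' : X.Opens} (h : W ≤ V) (h' : W' ≤ W) (x : Γ(M, V)) :
    rs M h' (rs M h x) = rs M (h'.trans h) x := by
  rw [rs, rs, ← ConcreteCategory.comp_apply, ← Functor.map_comp]
  rfl

lemma map_eq_rs (M : X.Modules) {V W : X.Opens} (i : W ⟶ V) (x : Γ(M, V)) :
    M.presheaf.map i.op x = rs M i.le x := rfl

lemma rs_self (M : X.Modules) {V : X.Opens} (x : Γ(M, V)) : rs M le_rfl x = x := by
  have : (homOfLE (le_refl V)).op = 𝟙 (op V) := rfl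
  rw [rs, this, M.presheaf.map_id]
  rfl

/-- sections of a module which agree locally are equal -/
lemma sec_ext (M : X.Modules) {V : X.Opens} (s t : Γ(M, V))
    (h : ∀ x ∈ V, ∃ (W : X.Opens) (hW : W ≤ V), x ∈ W ∧ rs M hW s = rs M hW t) : s = t := by
  choose W hW hxW hst using h
  refine TopCat.Sheaf.eq_of_locally_eq' ⟨M.presheaf, M.isSheaf⟩ (fun x : V => W x.1 x.2) V
    (fun x => homOfLE (hW x.1 x.2)) ?_ s t (fun x => hst x.1 x.2)
  intro x hx
  exact Opens.mem_iSup.2 ⟨⟨x, hx⟩, hxW x hx⟩

/-- gluing sections of a module -/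
lemma sec_glue (M : X.Modules) {V : X.Opens} {ι : Type*} (U : ι → X.Opens) (hU : ∀ i, U i ≤ V)
    (hcover : V ≤ iSup U) (sf : ∀ i, Γ(M, U i))
    (compat : ∀ i j, rs M (inf_le_left : U i ⊓ U j ≤ U i) (sf i) = rs M (inf_le_right : U i ⊓ U j ≤ U j) (sf j)) :
    ∃ s : Γ(M, V), ∀ i, rs M (hU i) s = sf i := by
  obtain ⟨s, hs, -⟩ := TopCat.Sheaf.existsUnique_gluing' ⟨M.presheaf, M.isSheaf⟩ U V
    (fun i => homOfLE (hU i)) hcover sf (fun i j => compat i j)
  exact ⟨s, hs⟩

lemma exists_local_rep (M N : X.Modules) {V : X.Opens} (q : Γ(CohB1.tensorMod M N, V)) :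
    ∀ x ∈ V, ∃ (W : X.Opens) (hW : W ≤ V), x ∈ W ∧ ∃ p : (tpre M N).obj (op W),
      ((unitT M N).app (op W)).hom p = rs _ hW q := by
  intro x hx
  have h := Presheaf.imageSieve_mem (Opens.grothendieckTopology X)
    ((PresheafOfModules.toPresheaf _).map (unitT M N)) (U := op V) q
  obtain ⟨W, i, ⟨p, hp⟩, hxW⟩ := h x hx
  exact ⟨W, i.le, hxW, p, hp⟩

lemma local_inj (M N : X.Modules) {V : X.Opens} (p p' : (tpre M N).obj (op V))
    (h : ((unitT M N).app (op V)).hom p = ((unitT M N).app (op V)).hom p') :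
    ∀ x ∈ V, ∃ (W : X.Opens) (hW : W ≤ V), x ∈ W ∧
      (tpre M N).map (homOfLE hW).op p = (tpre M N).map (homOfLE hW).op p' := by
  intro x hx
  have h' := Presheaf.equalizerSieve_mem (Opens.grothendieckTopology X)
    ((PresheafOfModules.toPresheaf _).map (unitT M N)) (X := op V) p p' h
  obtain ⟨W, i, hi, hxW⟩ := h' x hx
  exact ⟨W, i.le, hxW, hi⟩

/-- if `e` generates `N` over `V`, every element of `M(V) ⊗ N(V)` is uniquely `x ⊗ e` -/
lemma ptmul_gen_bijective (M : X.Modules) {N : X.Modules} {V : X.Opens} {e : Γ(N, V)} (he : IsGen N V e) :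
    Function.Bijective (fun x : Γ(M, V) => ptmul x e) := by
  have hb : Function.Bijective (LinearMap.toSpanSingleton (RR V) (MM N V) (id e : MM N V)) := by
    have h1 := he V le_rfl
    have h2 : (fun a : Γ(X, V) => a • N.presheaf.map (homOfLE (le_refl V)).op e) =
        fun a : Γ(X, V) => a • e := by
      funext a
      change a • rs N le_rfl e = a • e
      rw [rs_self]
    rw [h2] at h1
    exact h1
  let f : RR V ≃ₗ[RR V] MM N V := LinearEquiv.ofBijective _ hb
  let g : MM M V ≃ₗ[RR V] TensorProduct (RR V) (MM M V) (MM N V) :=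
    (TensorProduct.rid (RR V) (MM M V)).symm ≪≫ₗ TensorProduct.congr (LinearEquiv.refl _ _) f
  have hg : ∀ x : Γ(M, V), g x = ptmul x e := by
    intro x
    change (id x : MM M V) ⊗ₜ[RR V] ((1 : RR V) • (id e : MM N V)) = ptmul x e
    rw [one_smul]
    rfl
  have : (fun x : Γ(M, V) => ptmul x e) = g := by
    funext x
    exact (hg x).symm
  rw [this]
  exact g.bijective

lemma tmul_rs {V W : X.Opens} (h : W ≤ V) (x : Γ(M, V)) (y : Γ(N, V)) :
    rs (CohB1.tensorMod M N) h (tmul x y) = tmul (rs M h x) (rs N h y) :=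
  tmul_res (homOfLE h) x y

/-- **Tensoring with a module having a free generator `e` over `U`**: for `V ≤ U`, the map
`x ↦ x ⊗ e|_V` is a bijection `Γ(M, V) → Γ(M ⊗ N, V)`. -/
theorem tmul_gen_bijective (M : X.Modules) {N : X.Modules} {U : X.Opens} {e : Γ(N, U)} (he : IsGen N U e)
    {V : X.Opens} (hV : V ≤ U) :
    Function.Bijective (fun x : Γ(M, V) => tmul x (rs N hV e)) := by
  have hinj : ∀ {V : X.Opens} (hV : V ≤ U),
      Function.Injective (fun x : Γ(M, V) => tmul x (rs N hV e)) := by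
    intro V hV x x' hxx'
    refine sec_ext M x x' (fun z hz => ?_)
    obtain ⟨W, hW, hzW, hp⟩ := local_inj M N (ptmul x (rs N hV e)) (ptmul x' (rs N hV e)) hxx' z hz
    refine ⟨W, hW, hzW, ?_⟩
    rw [ptmul_res, ptmul_res] at hp
    have hgen : IsGen N W (rs N hW (rs N hV e)) := by
      rw [rs_rs]; exact he.mono (hW.trans hV)
    exact (ptmul_gen_bijective M hgen).1 hp
  refine ⟨hinj hV, ?_⟩
  intro q
  choose W hW hzW p hp using exists_local_rep M N q
  have hgen : ∀ z hz, IsGen N (W z hz) (rs N ((hW z hz).trans hV) e) := fun z hz => he.mono _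
  choose xs hxs using fun z hz => (ptmul_gen_bijective M (hgen z hz)).2 (p z hz)
  have key : ∀ z hz, tmul (xs z hz) (rs N ((hW z hz).trans hV) e) = rs _ (hW z hz) q := by
    intro z hz
    rw [← hp z hz, ← hxs z hz]
    rfl
  obtain ⟨x, hx⟩ := sec_glue M (fun z : V => W z.1 z.2) (fun z => hW z.1 z.2)
    (fun z hz => Opens.mem_iSup.2 ⟨⟨z, hz⟩, hzW z hz⟩) (fun z => xs z.1 z.2) (by
      intro z z'
      have hle : W z.1 z.2 ⊓ W z'.1 z'.2 ≤ U := inf_le_left.trans ((hW z.1 z.2).trans hV)
      apply hinj hle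
      change tmul (rs M _ (xs z.1 z.2)) (rs N hle e) = tmul (rs M _ (xs z'.1 z'.2)) (rs N hle e)
      have h1 : rs N hle e = rs N (inf_le_left : W z.1 z.2 ⊓ W z'.1 z'.2 ≤ W z.1 z.2)
          (rs N ((hW z.1 z.2).trans hV) e) := by rw [rs_rs]
      have h2 : rs N hle e = rs N (inf_le_right : W z.1 z.2 ⊓ W z'.1 z'.2 ≤ W z'.1 z'.2)
          (rs N ((hW z'.1 z'.2).trans hV) e) := by rw [rs_rs]
      rw [h1, ← tmul_rs, key, rs_rs, ← h1, h2, ← tmul_rs, key, rs_rs])
  refine ⟨x, sec_ext _ _ _ (fun z hz => ⟨W z hz, hW z hz, hzW z hz, ?_⟩)⟩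
  change rs _ (hW z hz) (tmul x (rs N hV e)) = _
  rw [tmul_rs, rs_rs, hx ⟨z, hz⟩, key]

/-- the tensor product of two free generators is a free generator -/
theorem isGen_tmul {U : X.Opens} {e : Γ(M, U)} {e' : Γ(N, U)} (he : IsGen M U e) (he' : IsGen N U e') :
    IsGen (CohB1.tensorMod M N) U (tmul e e') := by
  intro W hW
  have h1 := he W hW
  have h2 := tmul_gen_bijective M he' hW
  convert h2.comp h1 using 1
  funext a
  change a • rs _ hW (tmul e e') = tmul (a • rs M hW e) (rs N hW e')
  rw [tmul_rs, smul_tmul]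

/-- the `n`-th tensor power of a local section -/
noncomputable def epow {L : X.Modules} {U : X.Opens} (e : Γ(L, U)) : ∀ n : ℕ, Γ(CohB1.tensorPow L n, U)
  | 0 => toSec U 1
  | n + 1 => tmul (epow e n) e

lemma epow_zero {L : X.Modules} {U : X.Opens} (e : Γ(L, U)) : epow e 0 = toSec U 1 := rfl

lemma epow_succ {L : X.Modules} {U : X.Opens} (e : Γ(L, U)) (n : ℕ) :
    epow e (n + 1) = tmul (epow e n) e := rfl

theorem isGen_epow {L : X.Modules} {U : X.Opens} {e : Γ(L, U)} (he : IsGen L U e) :
    ∀ n : ℕ, IsGen (CohB1.tensorPow L n) U (epow e n)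
  | 0 => isGen_one U
  | n + 1 => isGen_tmul (isGen_epow he n) he

lemma epow_rs {L : X.Modules} {U W : X.Opens} (h : W ≤ U) (e : Γ(L, U)) :
    ∀ n : ℕ, rs (CohB1.tensorPow L n) h (epow e n) = epow (rs L h e) n
  | 0 => by
    change (X.presheaf.map (homOfLE h).op).hom 1 = 1
    rw [map_one]
  | n + 1 => by
    rw [epow_succ, epow_succ, ← epow_rs h e n]
    exact tmul_rs h _ _

lemma epow_smul {L : X.Modules} {U : X.Opens} (g : Γ(X, U)) (e : Γ(L, U)) :
    ∀ n : ℕ, epow (g • e) n = g ^ n • epow e n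
  | 0 => by rw [pow_zero, one_smul]; rfl
  | n + 1 => by
    rw [epow_succ, epow_succ, epow_smul g e n, smul_tmul, tmul_smul, smul_smul, pow_succ]
    rfl

/-- the tensor product of two invertible modules is invertible -/
theorem isInvertible_tensorMod (hM : PicF.IsInvertible M) (hN : PicF.IsInvertible N) :
    PicF.IsInvertible (CohB1.tensorMod M N) := by
  rw [isInvertible_iff_exists_isGen] at hM hN ⊢
  intro x
  obtain ⟨V, hxV, s, hs⟩ := hM x
  obtain ⟨V', hxV', s', hs'⟩ := hN x
  exact ⟨V ⊓ V', ⟨hxV, hxV'⟩, _, isGen_tmul (hs.mono inf_le_left) (hs'.mono inf_le_right)⟩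

/-- tensor powers of an invertible module are invertible -/
theorem isInvertible_tensorPow {L : X.Modules} (hL : PicF.IsInvertible L) (n : ℕ) :
    PicF.IsInvertible (CohB1.tensorPow L n) := by
  rw [isInvertible_iff_exists_isGen] at hL ⊢
  intro x
  obtain ⟨V, hxV, s, hs⟩ := hL x
  exact ⟨V, hxV, _, isGen_epow hs n⟩

end Groth.Agent.Lib.H78TensorGen
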