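import Groth.Agent.Lib.H4TensorPair
import Groth.Agent.Lib.H78TensorGen
import Groth.Prelude.Def_RefHull

/-!
# helper78: the evaluation pairing `𝓗om(L, N) ⊗ L ⟶ N` and tensor inverses of invertible modules
(namespace `Groth.Agent.Lib.H78Dual`)

* `pair f s : Γ(N, U)` for `f : Γ(RefHull.homSh L N, U)`, `s : Γ(L, U)`: the section with germs `f_x(s_x)`;
  `germ_pair`, `pair_unique`.
* `evPairing L N : Pairing (RefHull.homSh L N) L N` (helper4's pairings), `ev L N : 𝓗om(L,N) ⊗ L ⟶ N`.
* `exists_isGen_homSh`: if `e` generates `L` and `e'` generates `N` over `V` there is a generator `δ` of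
  `𝓗om(L, N)` over `V` with `pair δ e = e'`.
* `isInvertible_homSh`, `nonempty_homSh_tensor_iso`: for invertible `L`, `N`: `𝓗om(L, N)` is invertible and
  `𝓗om(L, N) ⊗ L ≅ N`.
* `exists_tensor_inverse`: an invertible module `L` has an invertible `M` with `M ⊗ L ≅ O_X`.
-/

set_option autoImplicit false
universe u
open CategoryTheory CategoryTheory.Limits AlgebraicGeometry MonoidalCategory Opposite TopologicalSpace
open Groth.Agent.Lib.H90Invertible Groth.Agent.Lib.StructureModule Groth.Agent.Lib.H78TensorGen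
open Groth.Agent.Lib.H4TensorPair

namespace Groth.Agent.Lib.H78Dual

variable {X : Scheme.{u}} {L N : X.Modules}

/-- sections with the same germs are equal -/
lemma germ_ext (M : X.Modules) {V : X.Opens} (s t : Γ(M, V))
    (h : ∀ (x : X) (hx : x ∈ V), M.presheaf.germ V x hx s = M.presheaf.germ V x hx t) : s = t :=
  TopCat.Presheaf.section_ext (⟨M.presheaf, M.isSheaf⟩ : TopCat.Sheaf Ab X) V s t h

lemma germ_rs (M : X.Modules) {V W : X.Opens} (h : W ≤ V) (x : X) (hx : x ∈ W) (s : Γ(M, V)) :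
    M.presheaf.germ W x hx (rs M h s) = M.presheaf.germ V x (h hx) s :=
  TopCat.Presheaf.germ_res_apply M.presheaf (homOfLE h) x hx s

/-- existence of the value of the evaluation pairing -/
theorem exists_pair {U : X.Opens} (f : Γ(RefHull.homSh L N, U)) (s : Γ(L, U)) :
    ∃ t : Γ(N, U), ∀ (x : X) (hx : x ∈ U),
      N.presheaf.germ U x hx t = f.1 ⟨x, hx⟩ (L.presheaf.germ U x hx s) := by
  have h := RefHull.isLocSect_of_mem f U (𝟙 U) s
  choose W hxW j n hn using h
  have compat : ∀ x x' : U, rs N (inf_le_left : W x ⊓ W x' ≤ W x) (n x) =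
      rs N (inf_le_right : W x ⊓ W x' ≤ W x') (n x') := by
    intro x x'
    refine germ_ext N _ _ (fun y hy => ?_)
    rw [germ_rs, germ_rs]
    exact (hn x ⟨y, hy.1⟩).symm.trans (hn x' ⟨y, hy.2⟩)
  obtain ⟨t, ht⟩ := sec_glue N (fun x : U => W x) (fun x => (j x).le)
    (fun y hy => Opens.mem_iSup.2 ⟨⟨y, hy⟩, hxW ⟨y, hy⟩⟩) n compat
  refine ⟨t, fun x hx => ?_⟩
  have h1 := germ_rs N (j ⟨x, hx⟩).le x (hxW ⟨x, hx⟩) t
  rw [ht] at h1
  rw [← h1]
  exact (hn ⟨x, hx⟩ ⟨x, hxW ⟨x, hx⟩⟩).symm

/-- the evaluation pairing on sections -/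
noncomputable def pair {U : X.Opens} (f : Γ(RefHull.homSh L N, U)) (s : Γ(L, U)) : Γ(N, U) :=
  (exists_pair f s).choose

lemma germ_pair {U : X.Opens} (f : Γ(RefHull.homSh L N, U)) (s : Γ(L, U)) (x : X) (hx : x ∈ U) :
    N.presheaf.germ U x hx (pair f s) = f.1 ⟨x, hx⟩ (L.presheaf.germ U x hx s) :=
  (exists_pair f s).choose_spec x hx

lemma pair_unique {U : X.Opens} (f : Γ(RefHull.homSh L N, U)) (s : Γ(L, U)) (t : Γ(N, U))
    (h : ∀ (x : X) (hx : x ∈ U), N.presheaf.germ U x hx t = f.1 ⟨x, hx⟩ (L.presheaf.germ U x hx s)) :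
    pair f s = t :=
  germ_ext N _ _ (fun x hx => (germ_pair f s x hx).trans (h x hx).symm)

variable (L N) in
/-- the evaluation pairing `𝓗om(L, N) × L → N` -/
noncomputable def evPairing : Pairing (RefHull.homSh L N) L N where
  toFun U f s := pair f s
  add_left U f f' s := by
    refine pair_unique _ _ _ (fun x hx => ?_)
    rw [map_add, germ_pair, germ_pair]
    rfl
  add_right U f s s' := by
    refine pair_unique _ _ _ (fun x hx => ?_)
    rw [map_add, germ_pair, germ_pair, map_add, map_add]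
  smul_left U r f s := by
    refine pair_unique _ _ _ (fun x hx => ?_)
    rw [Mero.germ_smul, germ_pair]
    rfl
  smul_right U r f s := by
    refine pair_unique _ _ _ (fun x hx => ?_)
    rw [Mero.germ_smul, germ_pair, Mero.germ_smul, map_smul]
  map {U V} h f s := by
    symm
    refine pair_unique _ _ _ (fun x hx => ?_)
    have h1 := germ_rs N h x hx (pair f s)
    have h2 := germ_rs L h x hx s
    rw [rs] at h1 h2
    rw [h1, h2, germ_pair]
    rfl

variable (L N) in
/-- the evaluation morphism `𝓗om(L, N) ⊗ L ⟶ N` -/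
noncomputable def ev : CohB1.tensorMod (RefHull.homSh L N) L ⟶ N := (evPairing L N).hom

section Gen

variable {V : X.Opens} {e : Γ(L, V)} (he : IsGen L V e)

include he in
/-- every element of the stalk is a multiple of the germ of a generator -/
lemma stalk_gen (y : X) (hy : y ∈ V) (v : L.presheaf.stalk y) :
    ∃ r : X.presheaf.stalk y, v = r • L.presheaf.germ V y hy e := by
  obtain ⟨W, hyW, m, rfl⟩ := TopCat.Presheaf.exists_germ_eq L.presheaf v
  obtain ⟨a, ha⟩ := (he (W ⊓ V) inf_le_right).2 (rs L inf_le_left m)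
  refine ⟨X.presheaf.germ (W ⊓ V) y ⟨hyW, hy⟩ a, ?_⟩
  have h1 := germ_rs L (inf_le_left : W ⊓ V ≤ W) y ⟨hyW, hy⟩ m
  have h2 := germ_rs L (inf_le_right : W ⊓ V ≤ V) y ⟨hyW, hy⟩ e
  rw [← h1, ← ha, Mero.germ_smul]
  rw [rs] at h2
  rw [h2]

include he in
/-- the germ of a generator is torsion free -/
lemma stalk_inj (y : X) (hy : y ∈ V) (r : X.presheaf.stalk y)
    (h : r • L.presheaf.germ V y hy e = 0) : r = 0 := by
  obtain ⟨W, hyW, b, rfl⟩ := TopCat.Presheaf.exists_germ_eq X.presheaf r
  have h2 := germ_rs L (inf_le_right : W ⊓ V ≤ V) y ⟨hyW, hy⟩ e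
  have h3 : L.presheaf.germ (W ⊓ V) y ⟨hyW, hy⟩
      (X.presheaf.map (homOfLE (inf_le_left : W ⊓ V ≤ W)).op b • rs L inf_le_right e) =
      L.presheaf.germ (W ⊓ V) y ⟨hyW, hy⟩ 0 := by
    rw [Mero.germ_smul, h2, TopCat.Presheaf.germ_res_apply, h, map_zero]
  obtain ⟨W', hyW', i1, i2, h4⟩ := TopCat.Presheaf.germ_eq L.presheaf y
    (show y ∈ W ⊓ V from ⟨hyW, hy⟩) (show y ∈ W ⊓ V from ⟨hyW, hy⟩) _ _ h3
  have h5 : X.presheaf.map (homOfLE (i1.le.trans inf_le_left : W' ≤ W)).op b •
      rs L (i1.le.trans inf_le_right) e = (0 : Γ(X, W')) • rs L (i1.le.trans inf_le_right) e := by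
    rw [zero_smul]
    have h6 : L.presheaf.map i1.op
        (X.presheaf.map (homOfLE (inf_le_left : W ⊓ V ≤ W)).op b • rs L inf_le_right e) = 0 := by
      rw [h4, map_zero]
    rw [← h6]
    change _ = rs L i1.le _
    have h8 : rs L i1.le (X.presheaf.map (homOfLE (inf_le_left : W ⊓ V ≤ W)).op b •
        rs L inf_le_right e) = X.presheaf.map (homOfLE i1.le).op
          (X.presheaf.map (homOfLE (inf_le_left : W ⊓ V ≤ W)).op b) • rs L i1.le (rs L inf_le_right e) :=
      L.map_smul (homOfLE i1.le) _ _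
    rw [h8, rs_rs]
    congr 1
    rw [← CommRingCat.comp_apply, ← Functor.map_comp]
    rfl
  have h7 := (he W' (i1.le.trans inf_le_right)).1 h5
  rw [← TopCat.Presheaf.germ_res_apply X.presheaf (homOfLE (i1.le.trans inf_le_left : W' ≤ W)) y hyW' b,
    h7, map_zero]

/-- the stalk of `L` at a point of `V` is free of rank one on the germ of the generator -/
noncomputable def stalkEquiv (y : X) (hy : y ∈ V) :
    X.presheaf.stalk y ≃ₗ[X.presheaf.stalk y] L.presheaf.stalk y :=
  LinearEquiv.ofBijective (LinearMap.toSpanSingleton _ _ (L.presheaf.germ V y hy e))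
    ⟨fun r r' h => by
      have h0 : (r - r') • L.presheaf.germ V y hy e = 0 := by
        rw [sub_smul]
        exact sub_eq_zero.2 h
      exact sub_eq_zero.1 (stalk_inj he y hy _ h0),
     fun v => by
      obtain ⟨r, hr⟩ := stalk_gen he y hy v
      exact ⟨r, hr.symm⟩⟩

lemma stalkEquiv_apply (y : X) (hy : y ∈ V) (r : X.presheaf.stalk y) :
    stalkEquiv he y hy r = r • L.presheaf.germ V y hy e := rfl

lemma stalkEquiv_symm_smul (y : X) (hy : y ∈ V) (r : X.presheaf.stalk y) :
    (stalkEquiv he y hy).symm (r • L.presheaf.germ V y hy e) = r :=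
  (stalkEquiv he y hy).symm_apply_apply r

/-- the stalk map sending the germ of `e` to the germ of `e'` -/
noncomputable def deltaAt (e' : Γ(N, V)) (y : X) (hy : y ∈ V) : RefHull.StalkHom L N y :=
  (LinearMap.toSpanSingleton _ _ (N.presheaf.germ V y hy e')).comp
    (stalkEquiv he y hy).symm.toLinearMap

lemma deltaAt_smul (e' : Γ(N, V)) (y : X) (hy : y ∈ V) (r : X.presheaf.stalk y) :
    deltaAt he e' y hy (r • L.presheaf.germ V y hy e) = r • N.presheaf.germ V y hy e' := by
  change LinearMap.toSpanSingleton _ _ _ ((stalkEquiv he y hy).symm _) = _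
  rw [stalkEquiv_symm_smul]
  rfl

/-- the section of `𝓗om(L, N)` over `V` sending the generator `e` to `e'` -/
noncomputable def delta (e' : Γ(N, V)) : Γ(RefHull.homSh L N, V) :=
  ⟨fun y => deltaAt he e' y.1 y.2, fun V' i m x => by
    obtain ⟨a, ha⟩ := (he V' i.le).2 m
    refine ⟨V', x.2, 𝟙 V', a • rs N i.le e', fun y => ?_⟩
    have h2 := germ_rs L i.le y.1 y.2 e
    have h3 := germ_rs N i.le y.1 y.2 e'
    rw [rs] at h2
    change deltaAt he e' y.1 _ (L.presheaf.germ V' y.1 y.2 m) = _
    rw [← ha, Mero.germ_smul, h2, deltaAt_smul, Mero.germ_smul, h3]⟩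

lemma delta_apply (e' : Γ(N, V)) (y : V) : (delta he e').1 y = deltaAt he e' y.1 y.2 := rfl

lemma pair_delta (e' : Γ(N, V)) : pair (delta he e') e = e' := by
  refine pair_unique _ _ _ (fun x hx => ?_)
  rw [delta_apply]
  have := deltaAt_smul he e' x hx 1
  rw [one_smul, one_smul] at this
  exact this.symm

include he in
/-- two stalk maps which agree on the germ of a generator are equal -/
lemma stalkHom_ext (y : X) (hy : y ∈ V) (φ ψ : RefHull.StalkHom L N y)
    (h : φ (L.presheaf.germ V y hy e) = ψ (L.presheaf.germ V y hy e)) : φ = ψ := by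
  refine LinearMap.ext (fun v => ?_)
  obtain ⟨r, rfl⟩ := stalk_gen he y hy v
  rw [map_smul, map_smul, h]

/-- `𝓗om(L, N)` is generated over `V` by `delta` when `e`, `e'` generate `L`, `N` over `V` -/
theorem isGen_delta {e' : Γ(N, V)} (he' : IsGen N V e') : IsGen (RefHull.homSh L N) V (delta he e') := by
  intro W hW
  have key : ∀ (a : Γ(X, W)) (y : X) (hy : y ∈ W),
      (a • rs (RefHull.homSh L N) hW (delta he e')).1 ⟨y, hy⟩ (L.presheaf.germ V y (hW hy) e) =
        N.presheaf.germ W y hy (a • rs N hW e') := by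
    intro a y hy
    have h3 := germ_rs N hW y hy e'
    rw [Mero.germ_smul, h3]
    change (X.presheaf.germ W y hy a • deltaAt he e' y (hW hy)) _ = _
    rw [LinearMap.smul_apply]
    have := deltaAt_smul he e' y (hW hy) 1
    rw [one_smul, one_smul] at this
    rw [this]
  constructor
  · intro a b hab
    dsimp only at hab
    refine (he' W hW).1 ?_
    dsimp only
    refine germ_ext N _ _ (fun y hy => ?_)
    have h1 := key a y hy
    have h2 := key b y hy
    rw [← rs] at hab
    rw [← h1, ← h2, hab]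
  · intro f
    obtain ⟨a, ha⟩ := (he' W hW).2 (pair f (rs L hW e))
    refine ⟨a, ?_⟩
    dsimp only at ha ⊢
    rw [← rs] at ha ⊢
    refine Subtype.ext (funext fun y => ?_)
    refine stalkHom_ext he y.1 (hW y.2) _ _ ?_
    have h1 := key a y.1 y.2
    have h2 := germ_pair f (rs L hW e) y.1 y.2
    rw [germ_rs] at h2
    rw [h1, ha, h2]

end Gen

/-- if `L` and `N` are invertible, so is `𝓗om(L, N)`, and `𝓗om(L, N) ⊗ L ≅ N` via evaluation -/
theorem exists_gens (hL : PicF.IsInvertible L) (hN : PicF.IsInvertible N) (x : X) :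
    ∃ (V : X.Opens) (s : Γ(RefHull.homSh L N, V)) (s' : Γ(L, V)), x ∈ V ∧
      IsGen (RefHull.homSh L N) V s ∧ IsGen L V s' ∧ IsGen N V ((evPairing L N).toFun V s s') := by
  obtain ⟨V1, hx1, e1, he1⟩ := (isInvertible_iff_exists_isGen L).1 hL x
  obtain ⟨V2, hx2, e2, he2⟩ := (isInvertible_iff_exists_isGen N).1 hN x
  have he : IsGen L (V1 ⊓ V2) (rs L inf_le_left e1) := he1.mono inf_le_left
  have he' : IsGen N (V1 ⊓ V2) (rs N inf_le_right e2) := he2.mono inf_le_right
  refine ⟨V1 ⊓ V2, delta he (rs N inf_le_right e2), rs L inf_le_left e1, ⟨hx1, hx2⟩,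
    isGen_delta he he', he, ?_⟩
  change IsGen N _ (pair _ _)
  rw [pair_delta]
  exact he'

theorem isInvertible_homSh (hL : PicF.IsInvertible L) (hN : PicF.IsInvertible N) :
    PicF.IsInvertible (RefHull.homSh L N) := by
  rw [isInvertible_iff_exists_isGen]
  intro x
  obtain ⟨V, s, s', hx, hs, -, -⟩ := exists_gens hL hN x
  exact ⟨V, hx, s, hs⟩

/-- evaluation is an isomorphism `𝓗om(L, N) ⊗ L ≅ N` for invertible `L`, `N` -/
noncomputable def homShTensorIso (hL : PicF.IsInvertible L) (hN : PicF.IsInvertible N) :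
    CohB1.tensorMod (RefHull.homSh L N) L ≅ N :=
  (evPairing L N).iso (exists_gens hL hN)

/-- the dual of an invertible module is a tensor inverse -/
noncomputable def dualTensorIso (hL : PicF.IsInvertible L) :
    CohB1.tensorMod (RefHull.dual L) L ≅ Coh.structureModule X :=
  homShTensorIso hL (isInvertible_structureModule X)

theorem isInvertible_dual (hL : PicF.IsInvertible L) : PicF.IsInvertible (RefHull.dual L) :=
  isInvertible_homSh hL (isInvertible_structureModule X)

/-- an invertible module has an (invertible) tensor inverse -/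
theorem exists_tensor_inverse (hL : PicF.IsInvertible L) :
    ∃ M : X.Modules, PicF.IsInvertible M ∧
      Nonempty (CohB1.tensorMod M L ≅ Coh.structureModule X) :=
  ⟨RefHull.dual L, isInvertible_dual hL, ⟨dualTensorIso hL⟩⟩

end Groth.Agent.Lib.H78Dual
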