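import Groth.Agent.Lib.H90OXModPush
import Mathlib.AlgebraicGeometry.Morphisms.Finite

set_option autoImplicit false
universe u

open CategoryTheory CategoryTheory.Limits AlgebraicGeometry TopologicalSpace Opposite
open AlgebraicGeometry.Scheme AlgebraicGeometry.Scheme.Modules

namespace Groth.Agent.Lib.H90OXModPushFinite

open Groth.Agent.Lib.H90OXModPush Groth.Agent.Lib.H90OXModAffineFT

variable {X S : Scheme.{u}}

set_option backward.isDefEq.respectTransparency false in
theorem finite_sections_pushforward (f : X ⟶ S) (F : X.Modules) (V : S.Opens)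
    (h1 : (f.app V).hom.Finite) (h2 : Module.Finite Γ(X, f ⁻¹ᵁ V) Γ(F, f ⁻¹ᵁ V)) :
    Module.Finite Γ(S, V) Γ((Scheme.Modules.pushforward f).obj F, V) := by
  let _ := (f.app V).hom.toAlgebra
  let _ : Module Γ(S, V) Γ(F, f ⁻¹ᵁ V) := Module.compHom _ (f.app V).hom
  haveI : IsScalarTower Γ(S, V) Γ(X, f ⁻¹ᵁ V) Γ(F, f ⁻¹ᵁ V) := .of_algebraMap_smul fun _ _ => rfl
  haveI : Module.Finite Γ(S, V) Γ(X, f ⁻¹ᵁ V) := h1
  exact Module.Finite.trans Γ(X, f ⁻¹ᵁ V) Γ(F, f ⁻¹ᵁ V)

/-- The pushforward of a quasi-coherent module of finite type along a finite morphism is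
quasi-coherent of finite type. -/
theorem isCoh_pushforward (f : X ⟶ S) [IsFinite f] (F : X.Modules) (hF : Coh.IsCoh F) :
    Coh.IsCoh ((Scheme.Modules.pushforward f).obj F) := by
  haveI : F.IsQuasicoherent := hF.1
  haveI := isQuasicoherent_pushforward f F
  rw [isCoh_iff_forall_affine]
  refine ⟨inferInstance, fun V => ?_⟩
  exact finite_sections_pushforward f F V.1 (IsFinite.finite_app (f := f) V.1 V.2)
    (Groth.Agent.Lib.CohFinite.finite_sections_of_isCoh F hF (V.2.preimage f))

end Groth.Agent.Lib.H90OXModPushFinite
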