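/-
helper42: extension of scalars to a presheaf of modules. For a presheaf of commutative rings `Rr` on a
category whose values are compatibly `R₀`-algebras, and an `R₀`-module `A`:
`extPre Rr R₀ A : PresheafOfModules (Rr ⋙ forget₂ _ _)` is `U ↦ Rr(U) ⊗[R₀] A`;
`extTensorIso : extPre (A ⊗[R₀] B) ≅ extPre A ⊗ extPre B`;
`ExtData.desc : extPre A ⟶ M` from compatible semilinear maps `A → M(U)` (`s ⊗ a ↦ s • t a`).
-/
import Mathlib.Algebra.Category.ModuleCat.Presheaf.Monoidal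
import Mathlib.RingTheory.TensorProduct.Basic
import Mathlib.RingTheory.IsTensorProduct
import Mathlib.LinearAlgebra.TensorProduct.Tower

universe u
open CategoryTheory MonoidalCategory Opposite TensorProduct

namespace Groth.Agent.Lib.PMExt

section Algebra
variable {R₀ : Type*} [CommRing R₀] {S S' : Type*} [CommRing S] [CommRing S'] [Algebra R₀ S]
  [Algebra R₀ S'] (A : Type*) [AddCommGroup A] [Module R₀ A]

lemma rTensor_smul (f : S →ₐ[R₀] S') (s : S) (m : S ⊗[R₀] A) :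
    LinearMap.rTensor A f.toLinearMap (s • m) = f s • LinearMap.rTensor A f.toLinearMap m := by
  induction m using TensorProduct.induction_on with
  | zero => simp
  | tmul x y =>
    rw [TensorProduct.smul_tmul', LinearMap.rTensor_tmul, LinearMap.rTensor_tmul,
      TensorProduct.smul_tmul']
    simp
  | add x y hx hy => rw [smul_add, map_add, hx, hy, map_add, smul_add]

end Algebra

variable {C : Type*} [Category C] (Rr : Cᵒᵖ ⥤ CommRingCat.{u}) (R₀ : Type u) [CommRing R₀]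
  [∀ U : Cᵒᵖ, Algebra R₀ (Rr.obj U)]

/-- compatibility of the `R₀`-algebra structures on the rings `Rr.obj U` with restrictions -/
class Compat : Prop where
  map_algebraMap : ∀ {U V : Cᵒᵖ} (i : U ⟶ V) (r : R₀),
    (Rr.map i).hom (algebraMap R₀ (Rr.obj U) r) = algebraMap R₀ (Rr.obj V) r

variable [Compat Rr R₀]

/-- restriction as an algebra map -/
noncomputable def resAlg {U V : Cᵒᵖ} (i : U ⟶ V) : Rr.obj U →ₐ[R₀] Rr.obj V where
  toRingHom := (Rr.map i).hom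
  commutes' r := Compat.map_algebraMap i r

lemma resAlg_apply {U V : Cᵒᵖ} (i : U ⟶ V) (r : Rr.obj U) : resAlg Rr R₀ i r = (Rr.map i).hom r := rfl

lemma resAlg_id (U : Cᵒᵖ) : resAlg Rr R₀ (𝟙 U) = AlgHom.id R₀ _ := by
  ext r
  change (Rr.map (𝟙 U)).hom r = r
  rw [Rr.map_id]
  rfl

lemma resAlg_comp {U V W : Cᵒᵖ} (i : U ⟶ V) (j : V ⟶ W) :
    (resAlg Rr R₀ j).comp (resAlg Rr R₀ i) = resAlg Rr R₀ (i ≫ j) := by
  ext r
  change (Rr.map j).hom ((Rr.map i).hom r) = (Rr.map (i ≫ j)).hom r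
  rw [Rr.map_comp]
  rfl

variable (A : Type u) [AddCommGroup A] [Module R₀ A]

/-- the presheaf of abelian groups `U ↦ Rr(U) ⊗[R₀] A` -/
noncomputable def extAb : Cᵒᵖ ⥤ Ab.{u} where
  obj U := AddCommGrpCat.of (Rr.obj U ⊗[R₀] A)
  map {U V} i := AddCommGrpCat.ofHom
    (LinearMap.rTensor A (resAlg Rr R₀ i).toLinearMap).toAddMonoidHom
  map_id U := by
    ext x
    change LinearMap.rTensor A (resAlg Rr R₀ (𝟙 U)).toLinearMap x = x
    rw [resAlg_id]
    simp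
  map_comp {U V W} i j := by
    ext x
    change LinearMap.rTensor A (resAlg Rr R₀ (i ≫ j)).toLinearMap x =
      LinearMap.rTensor A (resAlg Rr R₀ j).toLinearMap
        (LinearMap.rTensor A (resAlg Rr R₀ i).toLinearMap x)
    rw [← LinearMap.comp_apply, ← LinearMap.rTensor_comp, ← AlgHom.comp_toLinearMap, resAlg_comp]

noncomputable instance (U : Cᵒᵖ) :
    Module ((Rr ⋙ forget₂ CommRingCat RingCat).obj U) ((extAb Rr R₀ A).obj U) :=
  inferInstanceAs (Module (Rr.obj U) (Rr.obj U ⊗[R₀] A))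

/-- the presheaf of modules `U ↦ Rr(U) ⊗[R₀] A` -/
noncomputable def extPre : PresheafOfModules.{u} (Rr ⋙ forget₂ CommRingCat RingCat) :=
  PresheafOfModules.ofPresheaf (extAb Rr R₀ A) (by
    intro U V i r m
    exact rTensor_smul A (resAlg Rr R₀ i) r m)


section Alg
variable {R₀ : Type*} [CommRing R₀] {S : Type*} [CommRing S] [Algebra R₀ S]
  {A B : Type*} [AddCommGroup A] [Module R₀ A] [AddCommGroup B] [Module R₀ B]

lemma addHom_ext3 {P : Type*} [AddCommMonoid P] {f g : S ⊗[R₀] (A ⊗[R₀] B) →+ P}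
    (h : ∀ s a b, f (s ⊗ₜ (a ⊗ₜ b)) = g (s ⊗ₜ (a ⊗ₜ b))) : f = g := by
  ext x
  induction x using TensorProduct.induction_on with
  | zero => rw [map_zero, map_zero]
  | tmul s y =>
    induction y using TensorProduct.induction_on with
    | zero => rw [TensorProduct.tmul_zero, map_zero, map_zero]
    | tmul a b => exact h s a b
    | add y z hy hz => rw [TensorProduct.tmul_add, map_add, map_add, hy, hz]
  | add y z hy hz => rw [map_add, map_add, hy, hz]
end Alg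

section Tensor

variable {C : Type*} [Category C] (Rr : Cᵒᵖ ⥤ CommRingCat.{u}) 

lemma map_tmul (P Q : PresheafOfModules.{u} (Rr ⋙ forget₂ CommRingCat RingCat)) {U V : Cᵒᵖ} (i : U ⟶ V)
    (p : P.obj U) (q : Q.obj U) :
    (P ⊗ Q).map i (p ⊗ₜ q) = P.map i p ⊗ₜ Q.map i q :=
  PresheafOfModules.Monoidal.tensorObj_map_tmul _ _ _

variable (R₀ : Type u) [CommRing R₀]
  [∀ U : Cᵒᵖ, Algebra R₀ (Rr.obj U)] [Compat Rr R₀]
  (A B : Type u) [AddCommGroup A] [Module R₀ A] [AddCommGroup B] [Module R₀ B]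

lemma extPre_map_apply {U V : Cᵒᵖ} (i : U ⟶ V) (x : Rr.obj U ⊗[R₀] A) :
    (extPre Rr R₀ A).map i x = LinearMap.rTensor A (resAlg Rr R₀ i).toLinearMap x := rfl

lemma extPre_map_tmul {U V : Cᵒᵖ} (i : U ⟶ V) (s : Rr.obj U) (a : A) :
    (extPre Rr R₀ A).map i (s ⊗ₜ[R₀] a : Rr.obj U ⊗[R₀] A) = ((Rr.map i).hom s ⊗ₜ[R₀] a : Rr.obj V ⊗[R₀] A) := rfl

/-- sectionwise `S ⊗ (A ⊗ B) ≅ (S ⊗ A) ⊗[S] (S ⊗ B)` -/
noncomputable def extTensorApp (U : Cᵒᵖ) :
    (extPre Rr R₀ (A ⊗[R₀] B)).obj U ≅ (extPre Rr R₀ A ⊗ extPre Rr R₀ B).obj U :=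
  (TensorProduct.AlgebraTensorModule.distribBaseChange R₀ (Rr.obj U) A B).toModuleIso

lemma extTensorApp_hom_tmul (U : Cᵒᵖ) (s : Rr.obj U) (a : A) (b : B) :
    (extTensorApp Rr R₀ A B U).hom (s ⊗ₜ[R₀] (a ⊗ₜ[R₀] b) : Rr.obj U ⊗[R₀] (A ⊗[R₀] B)) =
      ((s ⊗ₜ[R₀] a : Rr.obj U ⊗[R₀] A) ⊗ₜ[Rr.obj U] ((1 : Rr.obj U) ⊗ₜ[R₀] b : Rr.obj U ⊗[R₀] B) :
        (Rr.obj U ⊗[R₀] A) ⊗[Rr.obj U] (Rr.obj U ⊗[R₀] B)) := by
  change TensorProduct.AlgebraTensorModule.distribBaseChange R₀ (Rr.obj U) A B _ = _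
  simp

/-- `extPre (A ⊗ B) ≅ extPre A ⊗ extPre B` -/
noncomputable def extTensorIso : extPre Rr R₀ (A ⊗[R₀] B) ≅ extPre Rr R₀ A ⊗ extPre Rr R₀ B :=
  PresheafOfModules.isoMk (extTensorApp Rr R₀ A B) (by
    intro U V i
    ext x
    change (extTensorApp Rr R₀ A B V).hom ((extPre Rr R₀ (A ⊗[R₀] B)).map i x) =
      (extPre Rr R₀ A ⊗ extPre Rr R₀ B).map i ((extTensorApp Rr R₀ A B U).hom x)
    let f : Rr.obj U ⊗[R₀] (A ⊗[R₀] B) →+ ((extPre Rr R₀ A ⊗ extPre Rr R₀ B).obj V : Type u) :=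
      AddMonoidHom.mk' (fun x => (extTensorApp Rr R₀ A B V).hom ((extPre Rr R₀ (A ⊗[R₀] B)).map i x))
        (by
          intro (x : ↑((extPre Rr R₀ (A ⊗[R₀] B)).obj U)) y
          exact (congrArg _ (map_add _ x y)).trans (map_add _ _ _))
    let g : Rr.obj U ⊗[R₀] (A ⊗[R₀] B) →+ ((extPre Rr R₀ A ⊗ extPre Rr R₀ B).obj V : Type u) :=
      AddMonoidHom.mk' (fun x => (extPre Rr R₀ A ⊗ extPre Rr R₀ B).map i ((extTensorApp Rr R₀ A B U).hom x))
        (by
          intro (x : ↑((extPre Rr R₀ (A ⊗[R₀] B)).obj U)) y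
          exact (congrArg _ (map_add _ x y)).trans (map_add _ _ _))
    have : f = g := by
      apply addHom_ext3
      intro s a b
      change (extTensorApp Rr R₀ A B V).hom ((extPre Rr R₀ (A ⊗[R₀] B)).map i (s ⊗ₜ[R₀] (a ⊗ₜ[R₀] b) : Rr.obj U ⊗[R₀] (A ⊗[R₀] B))) =
        (extPre Rr R₀ A ⊗ extPre Rr R₀ B).map i ((extTensorApp Rr R₀ A B U).hom (s ⊗ₜ[R₀] (a ⊗ₜ[R₀] b) : Rr.obj U ⊗[R₀] (A ⊗[R₀] B)))
      rw [extTensorApp_hom_tmul, extPre_map_tmul]
      refine (extTensorApp_hom_tmul Rr R₀ A B V _ a b).trans ?_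
      refine Eq.trans ?_ (map_tmul Rr (extPre Rr R₀ A) (extPre Rr R₀ B) i _ _).symm
      rw [extPre_map_tmul, extPre_map_tmul, map_one]
      rfl
    exact DFunLike.congr_fun this x)


end Tensor

section Alg2
variable {R₀ : Type*} [CommRing R₀] (S : Type*) [CommRing S] [Algebra R₀ S]
  {A : Type*} [AddCommGroup A] [Module R₀ A] {N : Type*} [AddCommGroup N] [Module S N]

/-- `S ⊗[R₀] A →ₗ[S] N`, `s ⊗ a ↦ s • t a`. -/
noncomputable def descLin (t : A →+ N) (ht : ∀ (r : R₀) (a : A), t (r • a) = algebraMap R₀ S r • t a) :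
    S ⊗[R₀] A →ₗ[S] N :=
  letI : Module R₀ N := Module.compHom N (algebraMap R₀ S)
  haveI : IsScalarTower R₀ S N := IsScalarTower.of_compHom R₀ S N
  LinearMap.liftBaseChange S { toFun := t, map_add' := t.map_add, map_smul' := ht }

lemma descLin_tmul (t : A →+ N) (ht : ∀ (r : R₀) (a : A), t (r • a) = algebraMap R₀ S r • t a)
    (s : S) (a : A) : descLin S t ht (s ⊗ₜ a) = s • t a := by
  let _ : Module R₀ N := Module.compHom N (algebraMap R₀ S)
  have : IsScalarTower R₀ S N := IsScalarTower.of_compHom R₀ S N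
  exact LinearMap.liftBaseChange_tmul _ _ _ _

lemma addHom_ext2 {P : Type*} [AddCommMonoid P] {f g : S ⊗[R₀] A →+ P}
    (h : ∀ s a, f (s ⊗ₜ a) = g (s ⊗ₜ a)) : f = g := by
  ext x
  induction x using TensorProduct.induction_on with
  | zero => rw [map_zero, map_zero]
  | tmul s y => exact h s y
  | add y z hy hz => rw [map_add, map_add, hy, hz]

end Alg2

section Desc

variable {C : Type*} [Category C] (Rr : Cᵒᵖ ⥤ CommRingCat.{u})
variable (R₀ : Type u) [CommRing R₀]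
  [∀ U : Cᵒᵖ, Algebra R₀ (Rr.obj U)] [Compat Rr R₀]
  (A : Type u) [AddCommGroup A] [Module R₀ A]

lemma extPre_map_tmul' {U V : Cᵒᵖ} (i : U ⟶ V) (s : Rr.obj U) (a : A) :
    (extPre Rr R₀ A).map i (s ⊗ₜ[R₀] a : Rr.obj U ⊗[R₀] A) = ((Rr.map i).hom s ⊗ₜ[R₀] a : Rr.obj V ⊗[R₀] A) := rfl

/-- data for a morphism `extPre A ⟶ M`: compatible `R₀`-semilinear maps `A → M(U)` -/
structure ExtData (M : PresheafOfModules.{u} (Rr ⋙ forget₂ CommRingCat RingCat)) where
  t : ∀ U : Cᵒᵖ, A →+ M.obj U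
  t_smul : ∀ (U : Cᵒᵖ) (r : R₀) (a : A),
    t U (r • a) = (algebraMap R₀ (Rr.obj U) r : Rr.obj U) • t U a
  t_map : ∀ {U V : Cᵒᵖ} (i : U ⟶ V) (a : A), M.map i (t U a) = t V a

variable {Rr R₀ A} {M : PresheafOfModules.{u} (Rr ⋙ forget₂ CommRingCat RingCat)}

/-- the morphism `extPre A ⟶ M`, `s ⊗ a ↦ s • t a` -/
noncomputable def ExtData.desc (D : ExtData Rr R₀ A M) : extPre Rr R₀ A ⟶ M where
  app U := ModuleCat.ofHom (descLin (Rr.obj U) (D.t U) (D.t_smul U))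
  naturality {U V} i := by
    ext x
    change descLin (Rr.obj V) (D.t V) (D.t_smul V) ((extPre Rr R₀ A).map i x) =
      M.map i (descLin (Rr.obj U) (D.t U) (D.t_smul U) x)
    let f : Rr.obj U ⊗[R₀] A →+ (M.obj V : Type u) :=
      AddMonoidHom.mk' (fun x => descLin (Rr.obj V) (D.t V) (D.t_smul V) ((extPre Rr R₀ A).map i x))
        (by
          intro (x : ↑((extPre Rr R₀ A).obj U)) y
          exact (congrArg _ (map_add _ x y)).trans (map_add _ _ _))
    let g : Rr.obj U ⊗[R₀] A →+ (M.obj V : Type u) :=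
      AddMonoidHom.mk' (fun x => M.map i (descLin (Rr.obj U) (D.t U) (D.t_smul U) x))
        (by
          intro x y
          exact (congrArg _ (map_add _ x y)).trans (map_add _ _ _))
    have : f = g := by
      apply addHom_ext2
      intro s a
      change descLin (Rr.obj V) (D.t V) (D.t_smul V) ((extPre Rr R₀ A).map i (s ⊗ₜ[R₀] a : Rr.obj U ⊗[R₀] A)) =
        M.map i (descLin (Rr.obj U) (D.t U) (D.t_smul U) (s ⊗ₜ[R₀] a))
      rw [extPre_map_tmul', descLin_tmul, descLin_tmul]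
      refine Eq.trans ?_ (M.map_smul i s (D.t U a)).symm
      rw [D.t_map]
      rfl
    exact DFunLike.congr_fun this x

lemma ExtData.desc_app_tmul (D : ExtData Rr R₀ A M) (U : Cᵒᵖ) (s : Rr.obj U) (a : A) :
    D.desc.app U (s ⊗ₜ[R₀] a : Rr.obj U ⊗[R₀] A) = s • D.t U a :=
  descLin_tmul _ _ _ _ _


end Desc

end Groth.Agent.Lib.PMExt
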