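/-
helper42: tilde and tensor products on Spec R. `pre M` = presheaf `U ↦ O(U) ⊗[R] M`, `ι M : pre M ⟶ (tilde M).val`
(bijective on basic opens), `shPreIso M : a(pre M) ≅ tilde M`, `tildeTensorIso M N : tilde (M ⊗[R] N) ≅ tensorMod (tilde M) (tilde N)`.
-/
import Groth.Agent.Lib.OXModTensor
import Groth.Agent.Lib.PMExt
import Mathlib.AlgebraicGeometry.Modules.Tilde
import Mathlib.RingTheory.Localization.BaseChange

universe u
open CategoryTheory MonoidalCategory Opposite TopologicalSpace AlgebraicGeometry CohB1 TensorProduct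

namespace Groth.Agent.Lib.OXModTilde

open Groth.Agent.Lib.OXModTensorW Groth.Agent.Lib.OXModTensor Groth.Agent.Lib.PMExt

variable {R : CommRingCat.{u}}

noncomputable instance instAlg (U : (Opens (Spec R))ᵒᵖ) : Algebra R ((Spec R).sheaf.obj.obj U) :=
  inferInstanceAs (Algebra R Γ(Spec R, U.unop))

instance : Compat (Spec R).sheaf.obj R where
  map_algebraMap {U V} i r := by
    change ((Spec R).presheaf.map i).hom (algebraMap R Γ(Spec R, U.unop) r) = algebraMap R Γ(Spec R, V.unop) r
    rw [IsAffineOpen.algebraMap_Spec_obj, IsAffineOpen.algebraMap_Spec_obj]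
    simp only [CommRingCat.hom_comp, RingHom.coe_comp, Function.comp_apply]
    rw [← CommRingCat.comp_apply, ← Functor.map_comp]
    rfl

variable (M : ModuleCat.{u} R)

/-- the presheaf of modules `U ↦ O(U) ⊗[R] M` on `Spec R` -/
noncomputable def pre : PMod (Spec R) := extPre (Spec R).sheaf.obj R M

/-- the maps `M → Γ(tilde M, U)` -/
noncomputable def tildeData : ExtData (Spec R).sheaf.obj R M (toPMod (tilde M)) where
  t U := (tilde.toOpen M U.unop).hom.toAddMonoidHom
  t_smul U r a := by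
    have := (tilde.toOpen M U.unop).hom.map_smul r a
    exact this
  t_map {U V} i a := by
    have := tilde.toOpen_res M U.unop V.unop i.unop
    exact congrArg (fun f => f.hom a) this

/-- `O(U) ⊗[R] M → Γ(tilde M, U)` -/
noncomputable def ι : pre M ⟶ toPMod (tilde M) := (tildeData M).desc

/-- `toOpen` as an `R`-linear map to `Γ(tilde M, U)` -/
noncomputable def toOpenLin (U : (Spec R).Opens) : M →ₗ[R] Γ(tilde M, U) :=
  (tilde.toOpen M U).hom

lemma ι_app_tmul (U : (Opens (Spec R))ᵒᵖ) (s : Γ(Spec R, U.unop)) (a : M) :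
    (ι M).app U (s ⊗ₜ[R] a : Γ(Spec R, U.unop) ⊗[R] M) = s • toOpenLin M U.unop a :=
  (tildeData M).desc_app_tmul U s a

set_option backward.isDefEq.respectTransparency.types false in
instance (f : R) : IsLocalizedModule (.powers f) (toOpenLin M (PrimeSpectrum.basicOpen f)) :=
  inferInstanceAs (IsLocalizedModule.Away f (tilde.toOpen M (PrimeSpectrum.basicOpen f)).hom)

set_option backward.isDefEq.respectTransparency.types false in
theorem ι_app_basicOpen_bijective (f : R) :
    Function.Bijective ((ι M).app (op (PrimeSpectrum.basicOpen f))) := by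
  have hbc : IsBaseChange Γ(Spec R, PrimeSpectrum.basicOpen f)
      (toOpenLin M (PrimeSpectrum.basicOpen f)) :=
    IsLocalizedModule.isBaseChange (.powers f) _ _
  let g : Γ(Spec R, PrimeSpectrum.basicOpen f) ⊗[R] M →+ Γ(tilde M, PrimeSpectrum.basicOpen f) :=
    AddMonoidHom.mk' (fun x => (ι M).app (op (PrimeSpectrum.basicOpen f)) x)
      (by intro x y; exact map_add _ _ _)
  have hg : g = hbc.equiv.toLinearMap.toAddMonoidHom :=
    addHom_ext2 _ (fun s a => (ι_app_tmul M (op (PrimeSpectrum.basicOpen f)) s a).trans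
      (hbc.equiv_tmul s a).symm)
  have hfun : ∀ x : Γ(Spec R, PrimeSpectrum.basicOpen f) ⊗[R] M,
      (ι M).app (op (PrimeSpectrum.basicOpen f)) x = hbc.equiv x :=
    fun x => DFunLike.congr_fun hg x
  constructor
  · intro x y hxy
    apply hbc.equiv.injective
    exact (hfun x).symm.trans (hxy.trans (hfun y))
  · intro y
    obtain ⟨x, hx⟩ := hbc.equiv.surjective y
    exact ⟨x, (hfun x).trans hx⟩

theorem locInj_ι : LocInj (ι M) := by
  intro U s hs x hx
  obtain ⟨a, ⟨_, ⟨f, rfl⟩, rfl⟩, hxf, hfU : PrimeSpectrum.basicOpen _ ≤ _⟩ :=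
    PrimeSpectrum.isBasis_basic_opens.exists_subset_of_mem_open hx U.2
  refine ⟨PrimeSpectrum.basicOpen f, hfU, hxf, ?_⟩
  apply (ι_app_basicOpen_bijective M f).1
  refine (app_res (ι M) hfU s).trans ?_
  rw [hs]
  exact (res_zero hfU).trans (map_zero _).symm

theorem locSurj_ι : LocSurj (ι M) := by
  intro U s' x hx
  obtain ⟨a, ⟨_, ⟨f, rfl⟩, rfl⟩, hxf, hfU : PrimeSpectrum.basicOpen _ ≤ _⟩ :=
    PrimeSpectrum.isBasis_basic_opens.exists_subset_of_mem_open hx U.2
  refine ⟨PrimeSpectrum.basicOpen f, hfU, hxf, ?_⟩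
  exact (ι_app_basicOpen_bijective M f).2 _

/-- `tilde M` is the sheafification of `U ↦ O(U) ⊗[R] M`. -/
noncomputable def shPreIso : (sh (Spec R)).obj (pre M) ≅ tilde M :=
  isoOfLocBij (ι M) (locInj_ι M) (locSurj_ι M)

/-- `tilde (M ⊗[R] N) ≅ tilde M ⊗ tilde N` -/
noncomputable def tildeTensorIso (M N : ModuleCat.{u} R) :
    tilde (ModuleCat.of R (M ⊗[R] N)) ≅ tensorMod (tilde M) (tilde N) :=
  (shPreIso (ModuleCat.of R (M ⊗[R] N))).symm ≪≫
    (sh (Spec R)).mapIso (extTensorIso (Spec R).sheaf.obj R M N) ≪≫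
    shTensorIso (pre M) (pre N) ≪≫ tensorModIso (shPreIso M) (shPreIso N)

end Groth.Agent.Lib.OXModTilde
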