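/-
helper42: tensor products of quasi-coherent modules. `tensorTildeIso` (on Spec R: N ⊗ N' ≅ tilde (ΓN ⊗ ΓN')),
`restrictTensorTildeIso`, `isQuasicoherent_tensorMod`, `sectionsTensorEquiv` (Γ(F⊗G,U) ≃ ΓF ⊗ ΓG on affine U), `isFiniteType_tensorMod`.
-/
import Groth.Agent.Lib.OXModTilde
import Groth.Agent.Lib.OXModRestrict
import Groth.Agent.Lib.H90OXModAffineFT

set_option autoImplicit false
universe u
open CategoryTheory MonoidalCategory Opposite TopologicalSpace AlgebraicGeometry CohB1 TensorProduct
open AlgebraicGeometry.Scheme AlgebraicGeometry.Scheme.Modules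

namespace Groth.Agent.Lib.OXModTensorQCoh

open Groth.Agent.Lib.OXModTensor Groth.Agent.Lib.OXModRestrict Groth.Agent.Lib.OXModTilde
open Groth.Agent.Lib.H90OXModAffine Groth.Agent.Lib.H90OXModAffineFT Groth.Agent.Lib.H90Invertible
open Groth.Agent.Lib.H90RestrictEquiv

section Spec
variable {R : CommRingCat.{u}}

/-- a quasi-coherent module on `Spec R` is `tilde` of its global sections -/
noncomputable def tildeΓIso (N : (Spec R).Modules) [N.IsQuasicoherent] : tilde (ΓSpec N) ≅ N :=
  haveI : IsIso N.fromTildeΓ := Scheme.Modules.isIso_fromTildeΓ_of_isQuasicoherent N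
  asIso N.fromTildeΓ

/-- tensor product of quasi-coherent modules on `Spec R` is `tilde` of the tensor product -/
noncomputable def tensorTildeIso (N N' : (Spec R).Modules) [N.IsQuasicoherent] [N'.IsQuasicoherent] :
    tensorMod N N' ≅ tilde (ModuleCat.of R (ΓSpec N ⊗[R] ΓSpec N')) :=
  tensorModIso (tildeΓIso N).symm (tildeΓIso N').symm ≪≫ (tildeTensorIso (ΓSpec N) (ΓSpec N')).symm

/-- a presentation of `tilde M` -/
noncomputable def tildePresentation (M : ModuleCat.{u} R) : (tilde M).Presentation :=
  presentationTilde.{u} M .univ (by simp) _ (Submodule.span_eq _)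

/-- global sections of `tilde M` -/
noncomputable def ΓSpecTildeEquiv (M : ModuleCat.{u} R) : ΓSpec (tilde M) ≃ₗ[R] M :=
  (tilde.isoTop M).symm.toLinearEquiv

/-- isomorphic modules have isomorphic global sections -/
noncomputable def ΓSpecCongr {N N' : (Spec R).Modules} (e : N ≅ N') : ΓSpec N ≃ₗ[R] ΓSpec N' :=
  (moduleSpecΓFunctor.mapIso e).toLinearEquiv

end Spec

variable {X : Scheme.{u}} (F G : X.Modules) [F.IsQuasicoherent] [G.IsQuasicoherent]

/-- on an affine open `U`, `(F ⊗ G)|_{Spec O(U)}` is `tilde` of a tensor product of modules. -/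
noncomputable def restrictTensorTildeIso {U : X.Opens} (hU : IsAffineOpen U) :
    (tensorMod F G).restrict hU.fromSpec ≅
      tilde (ModuleCat.of Γ(X, U) (ΓSpec (F.restrict hU.fromSpec) ⊗[Γ(X, U)] ΓSpec (G.restrict hU.fromSpec))) :=
  restrictTensorIso hU.fromSpec F G ≪≫ tensorTildeIso _ _

set_option backward.isDefEq.respectTransparency false in
/-- a presentation of `(F ⊗ G)|_U` for `U` affine -/
noncomputable def presentationRestrictTensor {U : X.Opens} (hU : IsAffineOpen U) :
    ((tensorMod F G).restrict U.ι).Presentation :=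
  let P := (tildePresentation _).ofIsIso (restrictTensorTildeIso F G hU).inv
  let e : ((tensorMod F G).restrict hU.fromSpec).restrict hU.isoSpec.hom ≅ (tensorMod F G).restrict U.ι :=
    ((restrictCompIso hU.isoSpec.hom hU.fromSpec U.ι hU.isoSpec_hom_fromSpec).app (tensorMod F G)).symm
  (Scheme.Modules.presentationRestrict hU.isoSpec.hom P).ofIsIso e.hom

include F G in
theorem isQuasicoherent_tensorMod : (tensorMod F G).IsQuasicoherent :=
  isQuasicoherent_of_cover (tensorMod F G) (fun U : X.affineOpens => U.1)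
    (AlgebraicGeometry.iSup_affineOpens_eq_top X) (fun U => presentationRestrictTensor F G U.2)

/-- sections of `F ⊗ G` over an affine open `U`: `Γ(F ⊗ G, U) ≃ Γ(F,U) ⊗ Γ(G,U)` (up to the
identifications of helper90's `sectionsEquiv`). -/
noncomputable def sectionsTensorEquiv {U : X.Opens} (hU : IsAffineOpen U) :
    Γ(tensorMod F G, U) ≃ₗ[Γ(X, U)]
      (ΓSpec (F.restrict hU.fromSpec) ⊗[Γ(X, U)] ΓSpec (G.restrict hU.fromSpec)) :=
  (sectionsEquiv (tensorMod F G) hU).trans
    ((ΓSpecCongr (restrictTensorTildeIso F G hU)).trans (ΓSpecTildeEquiv _))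

theorem isFiniteType_tensorMod (hF : IsFT F) (hG : IsFT G) : IsFT (tensorMod F G) := by
  have := isQuasicoherent_tensorMod F G
  rw [IsFT, isFiniteType_iff_forall_affine]
  intro U
  have hU : IsAffineOpen U.1 := U.2
  have h1 : Module.Finite Γ(X, U.1) (ΓSpec (F.restrict hU.fromSpec)) :=
    haveI := (isFiniteType_iff_forall_affine F).mp hF U
    Module.Finite.equiv (sectionsEquiv F hU)
  have h2 : Module.Finite Γ(X, U.1) (ΓSpec (G.restrict hU.fromSpec)) :=
    haveI := (isFiniteType_iff_forall_affine G).mp hG U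
    Module.Finite.equiv (sectionsEquiv G hU)
  exact Module.Finite.equiv (sectionsTensorEquiv F G hU).symm

end Groth.Agent.Lib.OXModTensorQCoh
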