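import Groth.Agent.Lib.H90Invertible
import Groth.Prelude.Def_CohB1

/-!
# Pairings of `O_X`-modules and tensor products of invertible modules (helper4, OXMod M2/M3/M6)

* `isIso_sheafifyMod_map` : `CohB1.sheafifyMod X` inverts locally bijective morphisms of presheaves of modules;
* `locallyBijective_of_small` : a morphism bijective on all opens contained in a member of a cover is locally
  bijective;
* `Pairing L L' N` : an `O_X`-bilinear pairing `L × L' → N` given on sections; `Pairing.preHom` the induced map
  `CohB1.tensorPre L L' ⟶ N.val`; `Pairing.hom : CohB1.tensorMod L L' ⟶ N`;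
* `Pairing.isIso_hom` : if `X` is covered by opens `V` carrying free generators `s` of `L`, `s'` of `L'` with
  `β(s, s')` a free generator of `N`, then `CohB1.tensorMod L L' ≅ N` via the pairing.
-/

set_option autoImplicit false
universe u

open CategoryTheory AlgebraicGeometry TopologicalSpace Opposite MonoidalCategory
open Groth.Agent.Lib.H90Invertible

namespace Groth.Agent.Lib.H4TensorPair

variable {X : Scheme.{u}}

/-- The underlying morphism of presheaves of abelian groups. -/
noncomputable abbrev abMap {P Q : X.PresheafOfModules} (g : P ⟶ Q) : P.presheaf ⟶ Q.presheaf :=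
  (PresheafOfModules.toPresheaf _).map g

/-- Sheafification of presheaves of modules inverts locally bijective morphisms. -/
theorem isIso_sheafifyMod_map {P Q : X.PresheafOfModules} (g : P ⟶ Q)
    (hinj : Presheaf.IsLocallyInjective (Opens.grothendieckTopology X) (abMap g))
    (hsurj : Presheaf.IsLocallySurjective (Opens.grothendieckTopology X) (abMap g)) :
    IsIso ((CohB1.sheafifyMod X).map g) := by
  have hW : (Opens.grothendieckTopology X).W (abMap g) :=
    (Opens.grothendieckTopology X).W_of_isLocallyBijective (abMap g)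
  have h1 : IsIso ((presheafToSheaf (Opens.grothendieckTopology X) AddCommGrpCat.{u}).map (abMap g)) :=
    ((Opens.grothendieckTopology X).W_iff (abMap g)).mp hW
  have h2 : IsIso ((Scheme.Modules.toPresheaf X).map ((CohB1.sheafifyMod X).map g)) :=
    Functor.map_isIso (sheafToPresheaf (Opens.grothendieckTopology X) AddCommGrpCat.{u})
      ((presheafToSheaf (Opens.grothendieckTopology X) AddCommGrpCat.{u}).map (abMap g))
  exact isIso_of_reflects_iso _ (Scheme.Modules.toPresheaf X)

/-- A morphism of presheaves of modules which is bijective on every open contained in a member of an open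
cover is locally bijective. -/
theorem locallyBijective_of_small {P Q : X.PresheafOfModules} (g : P ⟶ Q)
    (hcov : ∀ x : X, ∃ V : X.Opens, x ∈ V ∧
      ∀ W : X.Opens, W ≤ V → Function.Bijective (g.app (op W))) :
    Presheaf.IsLocallyInjective (Opens.grothendieckTopology X) (abMap g) ∧
      Presheaf.IsLocallySurjective (Opens.grothendieckTopology X) (abMap g) := by
  constructor
  · constructor
    intro U a b hab x hx
    obtain ⟨V, hxV, hV⟩ := hcov x
    refine ⟨U.unop ⊓ V, Opens.infLELeft _ _, ?_, ⟨hx, hxV⟩⟩
    apply (hV (U.unop ⊓ V) inf_le_right).1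
    have h1 := PresheafOfModules.naturality_apply g (Opens.infLELeft U.unop V).op a
    have h2 := PresheafOfModules.naturality_apply g (Opens.infLELeft U.unop V).op b
    have hab' : g.app U a = g.app U b := hab
    exact h1.trans ((congrArg (fun z => Q.map (Opens.infLELeft U.unop V).op z) hab').trans h2.symm)
  · constructor
    intro U s x hx
    obtain ⟨V, hxV, hV⟩ := hcov x
    refine ⟨U ⊓ V, Opens.infLELeft _ _, ?_, ⟨hx, hxV⟩⟩
    obtain ⟨t, ht⟩ := (hV (U ⊓ V) inf_le_right).2 (Q.map (Opens.infLELeft U V).op s)
    exact ⟨t, ht⟩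

variable (X) in
/-- The sheafification adjunction for `O_X`-modules. -/
noncomputable def adj : CohB1.sheafifyMod X ⊣ Scheme.Modules.toPresheafOfModules X :=
  PresheafOfModules.sheafificationAdjunction (𝟙 X.ringCatSheaf.obj)

instance : IsIso (adj X).counit := Adjunction.counit_isIso_of_R_fully_faithful (adj X)

/-- An `O_X`-bilinear pairing `L × L' → N`, given on sections over all opens. -/
structure Pairing (L L' N : X.Modules) where
  toFun : ∀ U : X.Opens, Γ(L, U) → Γ(L', U) → Γ(N, U)
  add_left : ∀ U a a' b, toFun U (a + a') b = toFun U a b + toFun U a' b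
  add_right : ∀ U a b b', toFun U a (b + b') = toFun U a b + toFun U a b'
  smul_left : ∀ U (r : Γ(X, U)) a b, toFun U (r • a) b = r • toFun U a b
  smul_right : ∀ U (r : Γ(X, U)) a b, toFun U a (r • b) = r • toFun U a b
  map : ∀ {U V : X.Opens} (h : V ≤ U) a b, N.presheaf.map (homOfLE h).op (toFun U a b) =
    toFun V (L.presheaf.map (homOfLE h).op a) (L'.presheaf.map (homOfLE h).op b)

namespace Pairing

variable {L L' N : X.Modules} (β : Pairing L L' N)

/-- The components of the morphism of presheaves of modules induced by a pairing. -/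
noncomputable def preApp (U : (Opens X)ᵒᵖ) :
    (CohB1.tensorPre L L').obj U ⟶ (CohB1.toPMod N).obj U :=
  ModuleCat.MonoidalCategory.tensorLift (M₁ := (CohB1.toPMod L).obj U) (M₂ := (CohB1.toPMod L').obj U)
    (M₃ := (CohB1.toPMod N).obj U) (fun a b => β.toFun U.unop a b)
    (fun a a' b => β.add_left U.unop a a' b) (fun r a b => β.smul_left U.unop r a b)
    (fun a b b' => β.add_right U.unop a b b') (fun r a b => β.smul_right U.unop r a b)

/-- The morphism of presheaves of modules `L ⊗ L' ⟶ N` induced by a pairing. -/
noncomputable def preHom : CohB1.tensorPre L L' ⟶ CohB1.toPMod N where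
  app U := β.preApp U
  naturality {U V} f := ModuleCat.MonoidalCategory.tensor_ext (fun a b => by
    exact (β.map f.unop.le a b).symm)

theorem preHom_app_tmul (U : X.Opens) (a : Γ(L, U)) (b : Γ(L', U)) :
    (β.preHom.app (op U)).hom
      ((show (CohB1.toPMod L).obj (op U) from a) ⊗ₜ (show (CohB1.toPMod L').obj (op U) from b)) =
    β.toFun U a b := rfl

/-- The morphism of `O_X`-modules `L ⊗ L' ⟶ N` induced by a pairing. -/
noncomputable def hom : CohB1.tensorMod L L' ⟶ N :=
  ((adj X).homEquiv (show X.PresheafOfModules from CohB1.tensorPre L L') N).symm β.preHom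

theorem hom_eq : β.hom = (CohB1.sheafifyMod X).map β.preHom ≫ (adj X).counit.app N :=
  Adjunction.homEquiv_counit _ _ _ _

/-- Bijectivity of the pairing map on an open where all three modules have compatible free generators. -/
theorem preHom_app_bijective {V : X.Opens} {s : Γ(L, V)} {s' : Γ(L', V)} (hs : IsGen L V s)
    (hs' : IsGen L' V s') (hN : IsGen N V (β.toFun V s s')) (W : X.Opens) (hW : W ≤ V) :
    Function.Bijective (β.preHom.app (op W)) := by
  set sW : Γ(L, W) := L.presheaf.map (homOfLE hW).op s with hsW
  set sW' : Γ(L', W) := L'.presheaf.map (homOfLE hW).op s' with hsW'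
  let T : (CohB1.tensorPre L L').obj (op W) :=
    (show (CohB1.toPMod L).obj (op W) from sW) ⊗ₜ (show (CohB1.toPMod L').obj (op W) from sW')
  have hφ : ∀ z : (CohB1.tensorPre L L').obj (op W), ∃ a : Γ(X, W), z = a • T := by
    intro z
    induction z using TensorProduct.induction_on with
    | zero => exact ⟨0, (zero_smul (Γ(X, W)) T).symm⟩
    | tmul x y =>
      obtain ⟨a, rfl⟩ := (hs W hW).2 x
      obtain ⟨b, rfl⟩ := (hs' W hW).2 y
      exact ⟨a * b, (TensorProduct.smul_tmul_smul a b _ _)⟩
    | add z z' ih ih' =>
      obtain ⟨a, rfl⟩ := ih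
      obtain ⟨a', rfl⟩ := ih'
      exact ⟨a + a', (add_smul a a' T).symm⟩
  have hT : (β.preHom.app (op W)).hom T = β.toFun W sW sW' := rfl
  have hcomp : ∀ a : Γ(X, W), (β.preHom.app (op W)).hom (a • T) =
      a • N.presheaf.map (homOfLE hW).op (β.toFun V s s') := by
    intro a
    rw [map_smul, hT, β.map hW]
    rfl
  constructor
  · intro z z' hzz'
    obtain ⟨a, rfl⟩ := hφ z
    obtain ⟨a', rfl⟩ := hφ z'
    have h1 : a • N.presheaf.map (homOfLE hW).op (β.toFun V s s') =
        a' • N.presheaf.map (homOfLE hW).op (β.toFun V s s') := by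
      rw [← hcomp, ← hcomp]; exact hzz'
    rw [(hN W hW).1 h1]
  · intro y
    obtain ⟨a, ha⟩ := (hN W hW).2 y
    exact ⟨a • T, (hcomp a).trans ha⟩

/-- If `X` is covered by opens carrying free generators `s` of `L` and `s'` of `L'` whose pairing `β(s, s')`
is a free generator of `N`, then the pairing induces an isomorphism `L ⊗ L' ≅ N`. -/
theorem isIso_hom
    (hcov : ∀ x : X, ∃ (V : X.Opens) (s : Γ(L, V)) (s' : Γ(L', V)), x ∈ V ∧ IsGen L V s ∧
      IsGen L' V s' ∧ IsGen N V (β.toFun V s s')) : IsIso β.hom := by
  have hloc := locallyBijective_of_small (X := X)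
    (P := (show X.PresheafOfModules from CohB1.tensorPre L L')) (Q := N.val) β.preHom (by
      intro x
      obtain ⟨V, s, s', hxV, hs, hs', hN⟩ := hcov x
      exact ⟨V, hxV, fun W hW => β.preHom_app_bijective hs hs' hN W hW⟩)
  have h1 : IsIso ((CohB1.sheafifyMod X).map β.preHom) :=
    isIso_sheafifyMod_map _ hloc.1 hloc.2
  have h2 : IsIso ((adj X).counit.app N) := inferInstance
  rw [hom_eq]
  exact @IsIso.comp_isIso _ _ _ _ _ _ _ h1 h2

/-- The isomorphism `L ⊗ L' ≅ N` induced by a pairing which matches local free generators. -/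
noncomputable def iso
    (hcov : ∀ x : X, ∃ (V : X.Opens) (s : Γ(L, V)) (s' : Γ(L', V)), x ∈ V ∧ IsGen L V s ∧
      IsGen L' V s' ∧ IsGen N V (β.toFun V s s')) : CohB1.tensorMod L L' ≅ N :=
  haveI := β.isIso_hom hcov
  asIso β.hom

end Pairing

end Groth.Agent.Lib.H4TensorPair
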