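/-
helper48: **projection formula for invertible modules**, for an arbitrary morphism of schemes `f : X ⟶ Y`:
`f_* G ⊗ L ≅ f_* (G ⊗ f^* L)` for every `O_X`-module `G` and every invertible `O_Y`-module `L`.

Built from helper4's `Pairing` (Lib/H4TensorPair: maps out of `tensorMod` from bilinear pairings on sections),
helper78's section calculus (`tmul`, `pb`, `isGen_pb`, `tmul_gen_bijective`).

Also the "one-sided" isomorphism criterion for pairings `Pairing.isIso_hom_of_gen`: a pairing `M × L → N` induces an
isomorphism `M ⊗ L ≅ N` as soon as, locally, `L` has a free generator `s` with `β(-, s)` bijective on small opens.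
-/
import Groth.Agent.Lib.H4TensorPair
import Groth.Agent.Lib.H78PullSec
import Groth.Agent.Lib.H78TensorGen

set_option autoImplicit false
universe u

open CategoryTheory AlgebraicGeometry TopologicalSpace Opposite MonoidalCategory
open Groth.Agent.Lib.H90Invertible Groth.Agent.Lib.H4TensorPair Groth.Agent.Lib.H78TensorGen
open Groth.Agent.Lib.H78PullSec

namespace Groth.Agent.Lib.ProjFormulaInv

section Criterion

variable {X : Scheme.{u}} {M L N : X.Modules} (β : Pairing M L N)

/-- One-sided bijectivity criterion: if `s` is a free generator of `L` over `V ⊇ W` and `β(-, s|_W)` is bijective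
`Γ(M, W) → Γ(N, W)`, then the map of presheaves `M ⊗ L → N` is bijective on `W`. -/
theorem preHom_app_bijective_of_gen {V : X.Opens} {s : Γ(L, V)} (hs : IsGen L V s)
    (W : X.Opens) (hW : W ≤ V)
    (hb : Function.Bijective (fun a : Γ(M, W) => β.toFun W a (rs L hW s))) :
    Function.Bijective (β.preHom.app (op W)) := by
  have h1 : Function.Bijective (fun x : Γ(M, W) => ptmul (N := L) x (rs L hW s)) :=
    ptmul_gen_bijective M (hs.mono hW)
  have h2 : (fun a : Γ(M, W) => β.toFun W a (rs L hW s)) =
      (fun z => (β.preHom.app (op W)).hom z) ∘ (fun x : Γ(M, W) => ptmul (N := L) x (rs L hW s)) := by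
    funext a
    rfl
  rw [h2] at hb
  exact (Function.Bijective.of_comp_iff _ h1).mp hb

/-- **One-sided isomorphism criterion for pairings.** -/
theorem isIso_hom_of_gen
    (hcov : ∀ x : X, ∃ (V : X.Opens) (s : Γ(L, V)), x ∈ V ∧ IsGen L V s ∧
      ∀ (W : X.Opens) (hW : W ≤ V),
        Function.Bijective (fun a : Γ(M, W) => β.toFun W a (rs L hW s))) : IsIso β.hom := by
  have hloc := locallyBijective_of_small (X := X)
    (P := (show X.PresheafOfModules from CohB1.tensorPre M L)) (Q := N.val) β.preHom (by
      intro x
      obtain ⟨V, s, hxV, hs, hb⟩ := hcov x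
      exact ⟨V, hxV, fun W hW => preHom_app_bijective_of_gen β hs W hW (hb W hW)⟩)
  have h1 : IsIso ((CohB1.sheafifyMod X).map β.preHom) :=
    isIso_sheafifyMod_map _ hloc.1 hloc.2
  have h2 : IsIso ((adj X).counit.app N) := inferInstance
  rw [Pairing.hom_eq]
  exact @IsIso.comp_isIso _ _ _ _ _ _ _ h1 h2

end Criterion

section Projection

variable {X Y : Scheme.{u}} (f : X ⟶ Y) (G : X.Modules) (L : Y.Modules)

/-- the target of the projection formula -/
noncomputable abbrev target : Y.Modules :=
  (Scheme.Modules.pushforward f).obj (CohB1.tensorMod G ((Scheme.Modules.pullback f).obj L))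

/-- The pairing `f_* G × L → f_* (G ⊗ f^* L)`, `(g, l) ↦ g ⊗ f^* l`. -/
noncomputable def pairing : Pairing ((Scheme.Modules.pushforward f).obj G) L (target f G L) where
  toFun V g l := toPush f _ V (tmul (ofPush f G V g) (pb f L l))
  add_left V a a' b := by
    show tmul (ofPush f G V a + ofPush f G V a') (pb f L b) = _
    rw [tmul_add_left]; rfl
  add_right V a b b' := by
    show tmul (ofPush f G V a) (pb f L (b + b')) = _
    rw [pb_add, tmul_add_right]; rfl
  smul_left V r a b := by
    show tmul ((f.app V r) • ofPush f G V a) (pb f L b) = _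
    rw [smul_tmul]; rfl
  smul_right V r a b := by
    show tmul (ofPush f G V a) (pb f L (r • b)) = _
    rw [pb_smul, tmul_smul]; rfl
  map {U V} h a b := by
    show rs (CohB1.tensorMod G ((Scheme.Modules.pullback f).obj L)) (f.preimage_mono h)
      (tmul (ofPush f G U a) (pb f L b)) =
      tmul (rs G (f.preimage_mono h) (ofPush f G U a)) (pb f L (rs L h b))
    rw [tmul_rs, pb_rs]

/-- The projection formula morphism `f_* G ⊗ L ⟶ f_* (G ⊗ f^* L)`. -/
noncomputable def projHom : CohB1.tensorMod ((Scheme.Modules.pushforward f).obj G) L ⟶ target f G L :=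
  (pairing f G L).hom

/-- The projection formula morphism is an isomorphism when `L` is invertible. -/
theorem isIso_projHom (hL : PicF.IsInvertible L) : IsIso (projHom f G L) := by
  rw [isInvertible_iff_exists_isGen] at hL
  refine isIso_hom_of_gen (pairing f G L) (fun y => ?_)
  obtain ⟨V, hyV, s, hs⟩ := hL y
  refine ⟨V, s, hyV, hs, fun W hW => ?_⟩
  have h1 := tmul_gen_bijective G (isGen_pb f hs) (f.preimage_mono hW)
  have h2 : (fun a : Γ((Scheme.Modules.pushforward f).obj G, W) =>
      (pairing f G L).toFun W a (rs L hW s)) =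
      fun x : Γ(G, f ⁻¹ᵁ W) => tmul x (rs ((Scheme.Modules.pullback f).obj L) (f.preimage_mono hW)
        (pb f L s)) := by
    funext a
    show tmul (ofPush f G W a) (pb f L (rs L hW s)) = _
    rw [pb_rs]
    rfl
  rw [h2]
  exact h1

/-- **Projection formula for an invertible module**: `f_* G ⊗ L ≅ f_* (G ⊗ f^* L)`. -/
noncomputable def projIso (hL : PicF.IsInvertible L) :
    CohB1.tensorMod ((Scheme.Modules.pushforward f).obj G) L ≅
      (Scheme.Modules.pushforward f).obj (CohB1.tensorMod G ((Scheme.Modules.pullback f).obj L)) :=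
  haveI := isIso_projHom f G L hL
  asIso (projHom f G L)

end Projection

end Groth.Agent.Lib.ProjFormulaInv
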