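/-
helper42: colimit preservation for tensor functors on a monoidal reflective localization (LocData): if a ⋙ G preserves
colimits then so does G; tensLeft M preserves colimits when tensorLeft P does in C.
-/
import Groth.Agent.Lib.MonLoc
import Mathlib.CategoryTheory.Limits.Preserves.Basic
import Mathlib.CategoryTheory.Adjunction.Limits

universe v₁ v₂ v₃ u₁ u₂ u₃ w w'
open CategoryTheory MonoidalCategory Limits

namespace Groth.Agent.Lib.MonLoc

section Reflective

variable {C : Type u₁} {D : Type u₂} {E : Type u₃} [Category.{v₁} C] [Category.{v₂} D]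
  [Category.{v₃} E] {a : C ⥤ D} {fg : D ⥤ C} (adj : a ⊣ fg)
  (G : D ⥤ E) {J : Type w} [Category.{w'} J]

include adj in
/-- If `a ⊣ fg` is a reflective localization and `a ⋙ G` preserves colimits of shape `J`
(which exist in `C`), then so does `G`. -/
lemma preservesColimitsOfShape_of_reflective [hc : IsIso adj.counit] [HasColimitsOfShape J C]
    [PreservesColimitsOfShape J (a ⋙ G)] : PreservesColimitsOfShape J G where
  preservesColimit {K} := by
    have : PreservesColimitsOfSize.{w', w} a := adj.leftAdjoint_preservesColimits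
    let e : (K ⋙ fg) ⋙ a ≅ K :=
      Functor.associator _ _ _ ≪≫ Functor.isoWhiskerLeft K (asIso adj.counit) ≪≫ K.rightUnitor
    have h1 : PreservesColimit ((K ⋙ fg) ⋙ a) G :=
      preservesColimit_of_preserves_colimit_cocone
        (isColimitOfPreserves a (colimit.isColimit (K ⋙ fg)))
        (isColimitOfPreserves (a ⋙ G) (colimit.isColimit (K ⋙ fg)))
    exact preservesColimit_of_iso_diagram G e

end Reflective

namespace LocData

variable {C : Type u₁} {D : Type u₂} [Category.{v₁} C] [Category.{v₂} D] [MonoidalCategory C]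
    [SymmetricCategory C] (L : LocData C D)

/-- `M ⊗ -` as a functor on `D` -/
def tensLeft (M : D) : D ⥤ D := L.fg ⋙ tensorLeft (L.fg.obj M) ⋙ L.a

@[simp] lemma tensLeft_obj (M N : D) : (L.tensLeft M).obj N = L.tens M N := rfl

lemma tensLeft_map (M : D) {N N' : D} (g : N ⟶ N') :
    (L.tensLeft M).map g = L.tensMap (𝟙 M) g := by
  simp [tensLeft, tensMap, id_tensorHom]

/-- `a ⋙ (M ⊗ -) ≅ (fg M ⊗ -) ⋙ a` -/
noncomputable def aTensLeftIso (M : D) : tensorLeft (L.fg.obj M) ⋙ L.a ≅ L.a ⋙ L.tensLeft M :=
  NatIso.ofComponents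
    (fun P => @asIso _ _ _ _ (L.a.map (L.fg.obj M ◁ L.η P))
      (L.isIso_whiskerLeft (L.η P) (L.fg.obj M)))
    (by
      intro P P' f
      dsimp [tensLeft]
      rw [← L.a.map_comp, ← L.a.map_comp, ← whiskerLeft_comp, ← whiskerLeft_comp]
      congr 2
      exact L.adj.unit.naturality f)

variable {J : Type w} [Category.{w'} J]

lemma preservesColimitsOfShape_tensLeft [HasColimitsOfShape J C]
    [∀ P : C, PreservesColimitsOfShape J (tensorLeft P)] (M : D) :
    PreservesColimitsOfShape J (L.tensLeft M) := by
  have : PreservesColimitsOfSize.{w', w} L.a := L.adj.leftAdjoint_preservesColimits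
  have : PreservesColimitsOfShape J (L.a ⋙ L.tensLeft M) :=
    preservesColimitsOfShape_of_natIso (L.aTensLeftIso M)
  exact preservesColimitsOfShape_of_reflective L.adj (L.tensLeft M)

end LocData

end Groth.Agent.Lib.MonLoc
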