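/-
helper48: in helper42's `MonLoc.LocData` framework (monoidal reflective localization), tensoring with an object
`M` that has a tensor-inverse `M'` (`M ⊗ M' ≅ unit`) is an autoequivalence of `D`.  Also: the functor `- ⊗ M`
(`tensRightF`; named so as not to collide with helper11's identical `LocData.tensRight` in Lib/ModSiteHom) and the
natural isomorphism `tensRightF M ≅ tensLeft M` given by the braiding.
-/
import Groth.Agent.Lib.MonLoc
import Groth.Agent.Lib.MonLocColim
import Groth.Agent.Lib.MonLocAssoc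
import Mathlib.CategoryTheory.Equivalence

universe v₁ v₂ u₁ u₂
open CategoryTheory MonoidalCategory

namespace Groth.Agent.Lib.MonLoc.LocData

variable {C : Type u₁} {D : Type u₂} [Category.{v₁} C] [Category.{v₂} D] [MonoidalCategory C]
    [SymmetricCategory C] (L : LocData C D)

/-- naturality of the left unitor (same statement as helper11's `leftUnitor_hom_naturality` in Lib/ModSiteFlat,
reproved here under another name to keep the import closure small) -/
lemma leftUnitor_hom_nat {M M' : D} (f : M ⟶ M') :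
    L.tensMap (𝟙 L.unit) f ≫ (L.leftUnitor M').hom = (L.leftUnitor M).hom ≫ f := by
  have h1 : (L.fg.map (𝟙 L.unit) ⊗ₘ L.fg.map f) ≫ (L.unitIso.hom ▷ L.fg.obj M' ≫ (λ_ (L.fg.obj M')).hom) =
      (L.unitIso.hom ▷ L.fg.obj M ≫ (λ_ (L.fg.obj M)).hom) ≫ L.fg.map f := by
    rw [CategoryTheory.Functor.map_id, id_tensorHom, ← Category.assoc, whisker_exchange, Category.assoc,
      MonoidalCategory.leftUnitor_naturality, Category.assoc]
  have h2 : L.a.map (L.fg.map f) ≫ L.adj.counit.app M' = L.adj.counit.app M ≫ f :=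
    L.adj.counit.naturality f
  simp only [leftUnitor, tensMap, counitIso, Iso.trans_hom, Functor.mapIso_hom, asIso_hom,
    whiskerRightIso_hom]
  rw [← Category.assoc, ← Functor.map_comp, h1, Functor.map_comp, Category.assoc, h2, Category.assoc]

/-- interchange for `tensMap` -/
lemma tensMap_comm {M M' N N' : D} (f : M ⟶ M') (g : N ⟶ N') :
    L.tensMap f (𝟙 N) ≫ L.tensMap (𝟙 M') g = L.tensMap (𝟙 M) g ≫ L.tensMap f (𝟙 N') := by
  rw [← L.tensMap_comp, ← L.tensMap_comp, Category.comp_id, Category.id_comp, Category.comp_id,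
    Category.id_comp]

/-- naturality of the braiding -/
lemma braiding_hom_naturality {M M' N N' : D} (f : M ⟶ M') (g : N ⟶ N') :
    L.tensMap f g ≫ (L.braiding M' N').hom = (L.braiding M N).hom ≫ L.tensMap g f := by
  simp only [braiding, tensMap, Functor.mapIso_hom]
  rw [← Functor.map_comp, ← Functor.map_comp, BraidedCategory.braiding_naturality]

/-- `- ⊗ M` as a functor on `D` -/
def tensRightF (M : D) : D ⥤ D := L.fg ⋙ tensorRight (L.fg.obj M) ⋙ L.a

@[simp] lemma tensRightF_obj (M N : D) : (L.tensRightF M).obj N = L.tens N M := rfl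

lemma tensRightF_map (M : D) {N N' : D} (g : N ⟶ N') :
    (L.tensRightF M).map g = L.tensMap g (𝟙 M) := by
  simp [tensRightF, tensMap, tensorHom_id]

/-- `- ⊗ M ≅ M ⊗ -` -/
def tensRightIsoLeft (M : D) : L.tensRightF M ≅ L.tensLeft M :=
  NatIso.ofComponents (fun N => L.braiding N M) (by
    intro N N' g
    rw [tensRightF_map, tensLeft_map]
    exact L.braiding_hom_naturality g (𝟙 M))

/-- `M ⊗ -` only depends on the isomorphism class of `M`. -/
def tensLeftMapIso {M M' : D} (e : M ≅ M') : L.tensLeft M ≅ L.tensLeft M' :=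
  NatIso.ofComponents (fun N => L.tensIso e (Iso.refl N)) (by
    intro N N' g
    rw [tensLeft_map, tensLeft_map]
    exact (L.tensMap_comm e.hom g).symm)

/-- `unit ⊗ - ≅ 𝟭` -/
noncomputable def tensLeftUnitIso : L.tensLeft L.unit ≅ 𝟭 D :=
  NatIso.ofComponents (fun N => L.leftUnitor N) (by
    intro N N' g
    rw [tensLeft_map]
    exact L.leftUnitor_hom_nat g)

/-- `M ⊗ (K ⊗ -) ≅ (M ⊗ K) ⊗ -` -/
noncomputable def tensLeftCompIso (M K : D) : L.tensLeft K ⋙ L.tensLeft M ≅ L.tensLeft (L.tens M K) :=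
  NatIso.ofComponents (fun N => (L.associator M K N).symm) (by
    intro N N' g
    show (L.tensLeft M).map ((L.tensLeft K).map g) ≫ (L.associator M K N').inv =
      (L.associator M K N).inv ≫ (L.tensLeft (L.tens M K)).map g
    rw [tensLeft_map, tensLeft_map, tensLeft_map]
    show L.tensMap (𝟙 M) (L.tensMap (𝟙 K) g) ≫ (L.associator M K N').inv =
      (L.associator M K N).inv ≫ L.tensMap (𝟙 (L.tens M K)) g
    rw [Iso.comp_inv_eq, Category.assoc, Iso.eq_inv_comp]
    exact (L.associator_hom_naturality_right M K g).symm)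

/-- If `M ⊗ M' ≅ unit` then `M ⊗ (M' ⊗ -) ≅ 𝟭`. -/
noncomputable def tensLeftInvIso {M M' : D} (e : L.tens M M' ≅ L.unit) :
    L.tensLeft M' ⋙ L.tensLeft M ≅ 𝟭 D :=
  L.tensLeftCompIso M M' ≪≫ L.tensLeftMapIso e ≪≫ L.tensLeftUnitIso

/-- **Tensoring with an invertible object is an equivalence.** -/
noncomputable def tensLeftEquiv {M M' : D} (e : L.tens M M' ≅ L.unit) : D ≌ D :=
  CategoryTheory.Equivalence.mk (L.tensLeft M) (L.tensLeft M')
    (L.tensLeftInvIso ((L.braiding M' M) ≪≫ e)).symm (L.tensLeftInvIso e)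

@[simp] lemma tensLeftEquiv_functor {M M' : D} (e : L.tens M M' ≅ L.unit) :
    (L.tensLeftEquiv e).functor = L.tensLeft M := rfl

lemma isEquivalence_tensLeft {M M' : D} (e : L.tens M M' ≅ L.unit) :
    (L.tensLeft M).IsEquivalence :=
  (L.tensLeftEquiv e).isEquivalence_functor

lemma isEquivalence_tensRight {M M' : D} (e : L.tens M M' ≅ L.unit) :
    (L.tensRightF M).IsEquivalence :=
  haveI := L.isEquivalence_tensLeft e
  Functor.isEquivalence_of_iso (L.tensRightIsoLeft M).symm

end Groth.Agent.Lib.MonLoc.LocData
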