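/-
helper42: `tensorLeftFunctor M : X.Modules ⥤ X.Modules` (M ⊗ -) preserves all (u-small) colimits.
-/
import Groth.Agent.Lib.OXModTensor
import Groth.Agent.Lib.MonLocColim

universe u
open CategoryTheory MonoidalCategory Opposite TopologicalSpace AlgebraicGeometry CohB1 Limits

namespace Groth.Agent.Lib.OXModTensor

open Groth.Agent.Lib.MonLoc

variable {X : Scheme.{u}}

/-- `M ⊗ -` as a functor -/
noncomputable def tensorLeftFunctor (M : X.Modules) : X.Modules ⥤ X.Modules := (locData X).tensLeft M

@[simp] lemma tensorLeftFunctor_obj (M N : X.Modules) : (tensorLeftFunctor M).obj N = tensorMod M N := rfl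

lemma tensorLeftFunctor_map (M : X.Modules) {N N' : X.Modules} (g : N ⟶ N') :
    (tensorLeftFunctor M).map g = tensorModMap (𝟙 M) g := (locData X).tensLeft_map M g

instance (M : X.Modules) : PreservesColimitsOfSize.{u, u} (tensorLeftFunctor M) where
  preservesColimitsOfShape {J} _ :=
    (locData X).preservesColimitsOfShape_tensLeft (J := J) M

end Groth.Agent.Lib.OXModTensor
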