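/-
helper48: tensoring with an O_X-module `M` that has a tensor inverse (`M ⊗ M' ≅ O_X`) is an autoequivalence of
`X.Modules`; in particular it is exact: short exact sequences stay short exact after `- ⊗ M` and `M ⊗ -`.
(Instantiates Lib/MonLocEquiv for helper42's `OXModTensor.locData X`.)
-/
import Groth.Agent.Lib.MonLocEquiv
import Groth.Agent.Lib.OXModTensorColim
import Mathlib.Algebra.Homology.ShortComplex.ShortExact
import Mathlib.Algebra.Homology.ShortComplex.ExactFunctor
import Mathlib.CategoryTheory.Adjunction.Limits

universe u
open CategoryTheory MonoidalCategory Opposite TopologicalSpace AlgebraicGeometry CohB1 Limits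

namespace Groth.Agent.Lib.TwistEquiv

open Groth.Agent.Lib.MonLoc Groth.Agent.Lib.OXModTensor

variable {X : Scheme.{u}}

/-- `- ⊗ M` as a functor -/
noncomputable def tensorRightFunctor (M : X.Modules) : X.Modules ⥤ X.Modules := (locData X).tensRightF M

@[simp] lemma tensorRightFunctor_obj (M N : X.Modules) : (tensorRightFunctor M).obj N = tensorMod N M := rfl

lemma tensorRightFunctor_map (M : X.Modules) {N N' : X.Modules} (g : N ⟶ N') :
    (tensorRightFunctor M).map g = tensorModMap g (𝟙 M) := (locData X).tensRightF_map M g

/-- `- ⊗ M ≅ M ⊗ -` (braiding) -/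
noncomputable def tensorRightIsoLeft (M : X.Modules) : tensorRightFunctor M ≅ tensorLeftFunctor M :=
  (locData X).tensRightIsoLeft M

instance (M : X.Modules) : (tensorLeftFunctor M).PreservesZeroMorphisms := by
  have : PreservesFiniteColimits (tensorLeftFunctor M) := inferInstance
  have : PreservesColimitsOfShape (Discrete PEmpty.{1}) (tensorLeftFunctor M) := inferInstance
  infer_instance

instance (M : X.Modules) : (tensorRightFunctor M).PreservesZeroMorphisms :=
  Functor.preservesZeroMorphisms_of_iso (tensorRightIsoLeft M).symm

instance (M : X.Modules) : PreservesColimitsOfSize.{u, u} (tensorRightFunctor M) :=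
  preservesColimits_of_natIso (tensorRightIsoLeft M).symm

/-- `M ⊗ -` is an equivalence when `M ⊗ M' ≅ O_X`. -/
theorem isEquivalence_tensorLeftFunctor {M M' : X.Modules} (e : tensorMod M M' ≅ Coh.structureModule X) :
    (tensorLeftFunctor M).IsEquivalence :=
  (locData X).isEquivalence_tensLeft (M := M) (M' := M') e

/-- `- ⊗ M` is an equivalence when `M ⊗ M' ≅ O_X`. -/
theorem isEquivalence_tensorRightFunctor {M M' : X.Modules} (e : tensorMod M M' ≅ Coh.structureModule X) :
    (tensorRightFunctor M).IsEquivalence :=
  (locData X).isEquivalence_tensRight (M := M) (M' := M') e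

/-- **Twisting is exact** (left version). -/
theorem shortExact_map_tensorLeft {M M' : X.Modules} (e : tensorMod M M' ≅ Coh.structureModule X)
    {S : ShortComplex X.Modules} (hS : S.ShortExact) :
    (S.map (tensorLeftFunctor M)).ShortExact := by
  have := isEquivalence_tensorLeftFunctor e
  exact hS.map_of_exact (tensorLeftFunctor M)

/-- **Twisting is exact** (right version): if `0 → X₁ → X₂ → X₃ → 0` is short exact and `M ⊗ M' ≅ O_X` then
`0 → X₁ ⊗ M → X₂ ⊗ M → X₃ ⊗ M → 0` is short exact. -/
theorem shortExact_map_tensorRight {M M' : X.Modules} (e : tensorMod M M' ≅ Coh.structureModule X)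
    {S : ShortComplex X.Modules} (hS : S.ShortExact) :
    (S.map (tensorRightFunctor M)).ShortExact := by
  have := isEquivalence_tensorRightFunctor e
  exact hS.map_of_exact (tensorRightFunctor M)

end Groth.Agent.Lib.TwistEquiv
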